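import Groth.Statements.S18329
import Mathlib.RingTheory.Idempotents
import Mathlib.RingTheory.Jacobson.Ring
import Mathlib.RingTheory.TensorProduct.Free
import Mathlib.RingTheory.Flat.Basic
import Mathlib.LinearAlgebra.Basis.VectorSpace
import Mathlib.LinearAlgebra.Lagrange
import Mathlib.LinearAlgebra.TensorProduct.RightExactness

set_option autoImplicit false
universe u
open TensorProduct
open SGA3

namespace Groth.Agent.S18329

section Lin

variable {k V V' : Type u} [Field k] [AddCommGroup V] [Module k V] [AddCommGroup V'] [Module k V']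

theorem mem_range_rTensor_iff (U : Submodule k V) (x : V ⊗[k] V') :
    x ∈ LinearMap.range (U.subtype.rTensor V') ↔ U.mkQ.rTensor V' x = 0 :=
  ((rTensor_exact V' (LinearMap.exact_subtype_mkQ U) U.mkQ_surjective) x).symm

theorem mem_range_lTensor_iff (U : Submodule k V') (x : V ⊗[k] V') :
    x ∈ LinearMap.range (U.subtype.lTensor V) ↔ U.mkQ.lTensor V x = 0 :=
  ((lTensor_exact V (LinearMap.exact_subtype_mkQ U) U.mkQ_surjective) x).symm

theorem mem_rTensor_inf (U W : Submodule k V) (x : V ⊗[k] V')
    (hU : x ∈ LinearMap.range (U.subtype.rTensor V')) (hW : x ∈ LinearMap.range (W.subtype.rTensor V')) :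
    x ∈ LinearMap.range ((U ⊓ W).subtype.rTensor V') := by
  obtain ⟨y, rfl⟩ := hU
  rw [mem_range_rTensor_iff, ← LinearMap.rTensor_comp_apply] at hW
  have hex : Function.Exact (Submodule.inclusion (inf_le_left : U ⊓ W ≤ U)) (W.mkQ ∘ₗ U.subtype) := by
    intro u
    constructor
    · intro h
      exact ⟨⟨u, u.2, by simpa using h⟩, rfl⟩
    · rintro ⟨⟨v, hv⟩, rfl⟩
      simpa using hv.2
  obtain ⟨z, rfl⟩ := (Module.Flat.rTensor_exact V' hex y).mp hW
  refine ⟨z, ?_⟩
  rw [← LinearMap.rTensor_comp_apply, Submodule.subtype_comp_inclusion]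

theorem mem_lTensor_of_comm (U : Submodule k V) (x : V' ⊗[k] V) :
    x ∈ LinearMap.range (U.subtype.lTensor V') ↔
      TensorProduct.comm k V' V x ∈ LinearMap.range (U.subtype.rTensor V') := by
  constructor
  · rintro ⟨y, rfl⟩
    exact ⟨TensorProduct.comm k V' U y, by rw [LinearMap.comm_comp_lTensor_comp_comm_eq U.subtype |>.symm]; simp⟩
  · rintro ⟨y, hy⟩
    refine ⟨TensorProduct.comm k U V' y, ?_⟩
    apply (TensorProduct.comm k V' V).injective
    rw [← hy, ← LinearMap.comm_comp_lTensor_comp_comm_eq U.subtype]
    simp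

theorem mem_map_of_mem (U : Submodule k V) (U' : Submodule k V') (x : V ⊗[k] V')
    (hU : x ∈ LinearMap.range (U.subtype.rTensor V')) (hU' : x ∈ LinearMap.range (U'.subtype.lTensor V)) :
    x ∈ LinearMap.range (TensorProduct.map U.subtype U'.subtype) := by
  obtain ⟨y, rfl⟩ := hU
  rw [mem_range_lTensor_iff, ← LinearMap.comp_apply, LinearMap.lTensor_comp_rTensor,
    ← LinearMap.rTensor_comp_lTensor, LinearMap.comp_apply] at hU'
  have h0 : U'.mkQ.lTensor U y = 0 :=
    Module.Flat.rTensor_preserves_injective_linearMap U.subtype U.subtype_injective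
      (by rw [hU', map_zero])
  obtain ⟨z, rfl⟩ := (mem_range_lTensor_iff U' y).mpr h0
  refine ⟨z, ?_⟩
  rw [← LinearMap.comp_apply, LinearMap.rTensor_comp_lTensor]

theorem map_le_rTensor (U : Submodule k V) (U' : Submodule k V') :
    LinearMap.range (TensorProduct.map U.subtype U'.subtype) ≤ LinearMap.range (U.subtype.rTensor V') := by
  rw [← LinearMap.rTensor_comp_lTensor]
  exact LinearMap.range_comp_le_range _ _

theorem map_le_lTensor (U : Submodule k V) (U' : Submodule k V') :
    LinearMap.range (TensorProduct.map U.subtype U'.subtype) ≤ LinearMap.range (U'.subtype.lTensor V) := by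
  rw [← LinearMap.lTensor_comp_rTensor]
  exact LinearMap.range_comp_le_range _ _

theorem mem_map_inf (U W : Submodule k V) (x : V ⊗[k] V)
    (hU : x ∈ LinearMap.range (TensorProduct.map U.subtype U.subtype))
    (hW : x ∈ LinearMap.range (TensorProduct.map W.subtype W.subtype)) :
    x ∈ LinearMap.range (TensorProduct.map (U ⊓ W).subtype (U ⊓ W).subtype) := by
  refine mem_map_of_mem _ _ _ (mem_rTensor_inf U W x (map_le_rTensor _ _ hU) (map_le_rTensor _ _ hW)) ?_
  rw [mem_lTensor_of_comm]
  exact mem_rTensor_inf U W _ ((mem_lTensor_of_comm _ _).mp (map_le_lTensor _ _ hU))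
    ((mem_lTensor_of_comm _ _).mp (map_le_lTensor _ _ hW))

end Lin

section Idem

variable {k : Type u} [Field k] [IsAlgClosed k] {S : Type u} [CommRing S] [Algebra k S]

theorem isNilpotent_of_map_eq_zero {R T : Type u} [CommRing R] [Algebra k R] [CommRing T] [Algebra k T]
    {z : R ⊗[k] T}
    (hz : Algebra.TensorProduct.map (Ideal.Quotient.mkₐ k (nilradical R)) (AlgHom.id k T) z = 0) :
    IsNilpotent z := by
  have h : z ∈ RingHom.ker (Algebra.TensorProduct.map (Ideal.Quotient.mkₐ k (nilradical R)) (AlgHom.id k T)) :=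
    hz
  rw [Algebra.TensorProduct.rTensor_ker _ (Ideal.Quotient.mkₐ_surjective k _)] at h
  rw [← mem_nilradical]
  refine Ideal.map_le_iff_le_comap.mpr ?_ h
  intro r hr
  rw [Ideal.mem_comap, mem_nilradical]
  refine IsNilpotent.map ?_ _
  rw [← mem_nilradical]
  exact Ideal.Quotient.eq_zero_iff_mem.mp hr

theorem coord_zero {R : Type u} [CommRing R] [Algebra k R] [Algebra.FiniteType k R] [IsReduced R]
    {V : Type u} [AddCommGroup V] [Module k V] (z : R ⊗[k] V)
    (h : ∀ φ : R →ₐ[k] k, TensorProduct.lid k V (φ.toLinearMap.rTensor V z) = 0) : z = 0 := by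
  let b := Module.Basis.ofVectorSpace k V
  let bR := Algebra.TensorProduct.basis R b
  apply bR.repr.injective
  rw [map_zero]
  ext i
  rw [Finsupp.zero_apply]
  have key : ∀ φ : R →ₐ[k] k, φ (bR.repr z i) = b.repr (TensorProduct.lid k V (φ.toLinearMap.rTensor V z)) i := by
    intro φ
    clear h
    induction z using TensorProduct.induction_on with
    | zero => simp
    | tmul r v => simp [bR, mul_comm]
    | add x y hx hy => simp only [map_add, Finsupp.add_apply, hx, hy]
  haveI : IsJacobsonRing R := isJacobsonRing_of_finiteType (A := k)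
  have hmem : bR.repr z i ∈ (⊥ : Ideal R).jacobson := by
    rw [Ideal.jacobson, Ideal.mem_sInf]
    rintro m ⟨-, hm⟩
    haveI := hm
    letI := Ideal.Quotient.field m
    haveI : Module.Finite k (R ⧸ m) := finite_of_finite_type_of_isJacobsonRing k (R ⧸ m)
    let e : k ≃ₐ[k] R ⧸ m := AlgEquiv.ofBijective (Algebra.ofId k (R ⧸ m))
      (IsAlgClosed.algebraMap_bijective_of_isIntegral (k := k) (K := R ⧸ m))
    have h0 : (e.symm.toAlgHom.comp (Ideal.Quotient.mkₐ k m)) (bR.repr z i) = 0 := by
      rw [key, h, map_zero, Finsupp.zero_apply]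
    exact Ideal.Quotient.eq_zero_iff_mem.mp ((map_eq_zero_iff _ e.symm.injective).mp h0)
  rw [IsJacobsonRing.out inferInstance ((Ideal.isRadical_iff_quotient_reduced (⊥ : Ideal R)).mpr
    (isReduced_of_injective (RingEquiv.quotientBot R) (RingEquiv.quotientBot R).injective))] at hmem
  exact hmem

theorem idem_mem_fg (W : Subalgebra k S) (hW : ∀ e : S, IsIdempotentElem e → e ∈ W) {R : Type u}
    [CommRing R] [Algebra k R] [Algebra.FiniteType k R] (x : R ⊗[k] S) (hx : IsIdempotentElem x) :
    x ∈ LinearMap.range ((Subalgebra.toSubmodule W).subtype.lTensor R) := by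
  let q : R →ₐ[k] R ⧸ nilradical R := Ideal.Quotient.mkₐ k _
  haveI : IsReduced (R ⧸ nilradical R) :=
    (Ideal.isRadical_iff_quotient_reduced _).mp (Ideal.radical_isRadical _)
  haveI : Algebra.FiniteType k (R ⧸ nilradical R) :=
    Algebra.FiniteType.of_surjective q (Ideal.Quotient.mkₐ_surjective k _)
  set xb := Algebra.TensorProduct.map q (AlgHom.id k S) x with hxb
  have h1 : xb ∈ LinearMap.range ((Subalgebra.toSubmodule W).subtype.lTensor (R ⧸ nilradical R)) := by
    rw [mem_range_lTensor_iff]
    refine coord_zero _ fun φ => ?_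
    let ev : (R ⧸ nilradical R) ⊗[k] S →ₐ[k] S :=
      (Algebra.TensorProduct.lid k S).toAlgHom.comp (Algebra.TensorProduct.map φ (AlgHom.id k S))
    have h2 : ∀ w, TensorProduct.lid k _ (φ.toLinearMap.rTensor _
        ((Subalgebra.toSubmodule W).mkQ.lTensor (R ⧸ nilradical R) w)) =
        (Subalgebra.toSubmodule W).mkQ (ev w) := by
      intro w
      induction w using TensorProduct.induction_on with
      | zero => simp
      | tmul r s => simp [ev]
      | add a b ha hb => simp only [map_add, ha, hb]
    rw [h2]
    exact (Submodule.Quotient.mk_eq_zero _).mpr (hW _ ((hx.map _).map ev))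
  obtain ⟨y, hy⟩ := h1
  change (R ⧸ nilradical R) ⊗[k] W at y
  let ιb := Algebra.TensorProduct.map (AlgHom.id k (R ⧸ nilradical R)) W.val
  have hy' : ιb y = xb := by
    rw [← hy]
    rfl
  have hιinj : Function.Injective ιb :=
    Module.Flat.lTensor_preserves_injective_linearMap (M := R ⧸ nilradical R)
      (Subalgebra.toSubmodule W).subtype (Submodule.subtype_injective _)
  have hyi : IsIdempotentElem y := hιinj (by rw [map_mul, hy', (hx.map _).eq])
  let g := Algebra.TensorProduct.map q (AlgHom.id k W)
  obtain ⟨e, he, hey⟩ := exists_isIdempotentElem_eq_of_ker_isNilpotent g.toRingHom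
    (fun z hz => isNilpotent_of_map_eq_zero hz) y
    (TensorProduct.map_surjective (Ideal.Quotient.mkₐ_surjective k _) Function.surjective_id y) hyi
  refine ⟨e, ?_⟩
  let ι := Algebra.TensorProduct.map (AlgHom.id k R) W.val
  show ι e = x
  refine eq_of_isNilpotent_sub_of_isIdempotentElem (he.map ι) hx (isNilpotent_of_map_eq_zero ?_)
  rw [map_sub, sub_eq_zero, ← hxb, ← hy', ← hey]
  show _ = ιb (g e)
  clear he hey
  induction e using TensorProduct.induction_on with
  | zero => simp
  | tmul r s => simp [ι, ιb, g, q]
  | add a b ha hb => simp only [map_add, ha, hb]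

theorem exists_fg {R : Type u} [CommRing R] [Algebra k R] (x : R ⊗[k] S) :
    ∃ T : Subalgebra k R, T.FG ∧ x ∈ (Algebra.TensorProduct.map T.val (AlgHom.id k S)).range := by
  have mono : ∀ T T' : Subalgebra k R, T ≤ T' →
      (Algebra.TensorProduct.map T.val (AlgHom.id k S)).range ≤
        (Algebra.TensorProduct.map T'.val (AlgHom.id k S)).range := by
    rintro T T' h _ ⟨t, rfl⟩
    refine ⟨Algebra.TensorProduct.map (Subalgebra.inclusion h) (AlgHom.id k S) t, ?_⟩
    induction t using TensorProduct.induction_on with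
    | zero => simp
    | tmul a b => simp
    | add a b ha hb => simp_all
  induction x using TensorProduct.induction_on with
  | zero => exact ⟨⊥, Subalgebra.fg_bot, zero_mem _⟩
  | tmul a b =>
    refine ⟨Algebra.adjoin k (({a} : Finset R) : Set R), ⟨{a}, rfl⟩, ?_⟩
    exact ⟨(⟨a, Algebra.subset_adjoin (by simp)⟩ : Algebra.adjoin k (({a} : Finset R) : Set R)) ⊗ₜ b, by simp⟩
  | add a b ha hb =>
    obtain ⟨T, hT, ha⟩ := ha
    obtain ⟨T', hT', hb⟩ := hb
    exact ⟨T ⊔ T', hT.sup hT', add_mem (mono _ _ le_sup_left ha) (mono _ _ le_sup_right hb)⟩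

theorem idem_mem (W : Subalgebra k S) (hW : ∀ e : S, IsIdempotentElem e → e ∈ W) {R : Type u}
    [CommRing R] [Algebra k R] (x : R ⊗[k] S) (hx : IsIdempotentElem x) :
    x ∈ LinearMap.range ((Subalgebra.toSubmodule W).subtype.lTensor R) := by
  obtain ⟨T, hT, y, hy⟩ := exists_fg x
  haveI : Algebra.FiniteType k T := (Subalgebra.fg_iff_finiteType T).mp hT
  let j := Algebra.TensorProduct.map T.val (AlgHom.id k S)
  have hj : Function.Injective j :=
    Module.Flat.rTensor_preserves_injective_linearMap (M := S) T.val.toLinearMap Subtype.val_injective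
  have hy' : j y = x := hy
  obtain ⟨z, hz⟩ := idem_mem_fg W hW y (hj (by rw [map_mul, hy', hx.eq]))
  refine ⟨T.val.toLinearMap.rTensor _ z, ?_⟩
  rw [← hy', ← hz, ← LinearMap.comp_apply, LinearMap.lTensor_comp_rTensor,
    ← LinearMap.rTensor_comp_lTensor, LinearMap.comp_apply]
  rfl

theorem exists_idem_combination {x : S} (hx : IsSeparable k x) :
    ∃ (ι : Finset k) (ε : k → S), (∀ c ∈ ι, IsIdempotentElem (ε c)) ∧ ∑ c ∈ ι, c • ε c = x := by
  classical
  set m := minpoly k x with hm
  have hne : m ≠ 0 := Polynomial.Separable.ne_zero hx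
  have hnd := Polynomial.nodup_roots hx
  have dvd : ∀ p : Polynomial k, (∀ c ∈ m.roots, p.eval c = 0) → Polynomial.aeval x p = 0 := by
    intro p hp
    have : m ∣ p := by
      by_cases hp0 : p = 0
      · simp [hp0]
      refine Polynomial.Splits.dvd_of_roots_le_roots (IsAlgClosed.splits m) hne ?_
      rw [Multiset.le_iff_subset hnd]
      intro c hc
      rw [Polynomial.mem_roots hp0]
      exact hp c hc
    obtain ⟨q, rfl⟩ := this
    rw [map_mul, hm, minpoly.aeval, zero_mul]
  refine ⟨m.roots.toFinset, fun c => Polynomial.aeval x (Lagrange.basis m.roots.toFinset id c), ?_, ?_⟩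
  · intro c hc
    have h := dvd (Lagrange.basis m.roots.toFinset id c * Lagrange.basis m.roots.toFinset id c -
      Lagrange.basis m.roots.toFinset id c) (fun d hd => by
        rcases eq_or_ne c d with rfl | hne'
        · rw [Polynomial.eval_sub, Polynomial.eval_mul,
            show Polynomial.eval c (Lagrange.basis m.roots.toFinset id c) = 1 from
              Lagrange.eval_basis_self (Set.injOn_id _) hc]
          ring
        · rw [Polynomial.eval_sub, Polynomial.eval_mul,
            show Polynomial.eval d (Lagrange.basis m.roots.toFinset id c) = 0 from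
              Lagrange.eval_basis_of_ne (v := id) hne' (Multiset.mem_toFinset.mpr hd)]
          ring)
    rw [map_sub, map_mul, sub_eq_zero] at h
    exact h
  · have h := dvd (∑ c ∈ m.roots.toFinset, c • Lagrange.basis m.roots.toFinset id c - Polynomial.X)
      (fun d hd => by
        have hd' := Multiset.mem_toFinset.mpr hd
        rw [Polynomial.eval_sub, Polynomial.eval_finset_sum, Finset.sum_eq_single d, Polynomial.eval_smul,
          show Polynomial.eval d (Lagrange.basis m.roots.toFinset id d) = 1 from
            Lagrange.eval_basis_self (Set.injOn_id _) hd']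
        · simp
        · intro c hc hcd
          rw [Polynomial.eval_smul,
            show Polynomial.eval d (Lagrange.basis m.roots.toFinset id c) = 0 from
              Lagrange.eval_basis_of_ne (v := id) hcd hd']
          simp
        · exact fun h => absurd hd' h)
    rw [map_sub, map_sum, Polynomial.aeval_X, sub_eq_zero] at h
    simpa using h

theorem isSeparable_map {T : Type u} [CommRing T] [Algebra k T] (f : S →ₐ[k] T) {x : S}
    (hx : IsSeparable k x) : IsSeparable k (f x) :=
  Polynomial.Separable.of_dvd hx (minpoly.dvd k _ (by rw [Polynomial.aeval_algHom_apply, minpoly.aeval, map_zero]))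

theorem isSeparable_idem {e : S} (he : IsIdempotentElem e) : IsSeparable k e := by
  have h : (Polynomial.X * (Polynomial.X - Polynomial.C 1) : Polynomial k).Separable :=
    Polynomial.Separable.mul Polynomial.separable_X Polynomial.separable_X_sub_C
      ⟨1, -1, by simp⟩
  refine Polynomial.Separable.of_dvd h (minpoly.dvd k _ ?_)
  simp [mul_sub, he.eq]

end Idem


/-- Let k be an algebraically closed field of prime characteristic p and A a commutative Hopf algebra
over k, the coordinate ring of an affine k-group G, quotient groups of G being read as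
sub-Hopf-algebras of A (subalgebras stable under comultiplication and antipode). Let B₀ be the
subalgebra of elements of A that are separable over k (its spectrum is the group of connected
components π₀(G)) and let C be the largest cocommutative sub-Hopf-algebra of A (its spectrum is the
largest commutative quotient group G_ab). Then B₀ ⊓ C, whose spectrum is π₀(G_ab), is the largest
cocommutative sub-Hopf-algebra of A contained in B₀, whose spectrum is the largest commutative
quotient of π₀(G): the canonical homomorphism from π₀(G_ab) to (π₀(G))_ab is an isomorphism. (The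
abelianization is rendered through its universal property among affine quotient groups, as the
largest cocommutative sub-Hopf-algebra, rather than as the quotient by the derived subgroup.) -/
theorem result (k A : Type u) [Field k] [IsAlgClosed k]
    (p : ℕ) [Fact p.Prime] [CharP k p] [CommRing A] [HopfAlgebra k A]
    (B₀ : Subalgebra k A) (hB₀ : ∀ a : A, a ∈ B₀ ↔ IsSeparable k a)
    (C : Subalgebra k A) (hC : SGA3.IsHopfSubalgebra k A C)
    (hCc : ∀ c ∈ C, TensorProduct.comm k A A (Coalgebra.comul c) = Coalgebra.comul c)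
    (hCmax : ∀ D : Subalgebra k A, SGA3.IsHopfSubalgebra k A D →
      (∀ d ∈ D, TensorProduct.comm k A A (Coalgebra.comul d) = Coalgebra.comul d) → D ≤ C) :
    IsGreatest {D : Subalgebra k A | SGA3.IsHopfSubalgebra k A D ∧
      (∀ d ∈ D, TensorProduct.comm k A A (Coalgebra.comul d) = Coalgebra.comul d) ∧ D ≤ B₀}
      (B₀ ⊓ C) := by
  have hW : ∀ e : A, IsIdempotentElem e → e ∈ B₀ := fun e he => (hB₀ e).mpr (isSeparable_idem he)
  refine ⟨⟨⟨fun b hb => ?_, fun b hb => ?_⟩, fun d hd => hCc d hd.2, inf_le_left⟩,
    fun D hD => le_inf hD.2.2 (hCmax D hD.1 hD.2.1)⟩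
  · have h1 : CoalgebraStruct.comul (R := k) (A := A) b ∈
        LinearMap.range (TensorProduct.map (Subalgebra.toSubmodule B₀).subtype
          (Subalgebra.toSubmodule B₀).subtype) := by
      have hsep : IsSeparable k (Bialgebra.comulAlgHom k A b) :=
        isSeparable_map _ ((hB₀ b).mp hb.1)
      obtain ⟨ι, ε, hε, hsum⟩ := exists_idem_combination hsep
      change Bialgebra.comulAlgHom k A b ∈ _
      rw [← hsum]
      refine Submodule.sum_mem _ fun c hc => Submodule.smul_mem _ _ ?_
      refine mem_map_of_mem _ _ _ ?_ (idem_mem B₀ hW _ (hε c hc))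
      have h := idem_mem B₀ hW _ ((hε c hc).map (Algebra.TensorProduct.comm k A A))
      rw [mem_lTensor_of_comm] at h
      convert h using 1
      exact ((TensorProduct.comm k A A).symm_apply_apply _).symm
    exact mem_map_inf (Subalgebra.toSubmodule B₀) (Subalgebra.toSubmodule C) _ h1 (hC.1 b hb.2)
  · exact ⟨(hB₀ _).mpr (isSeparable_map (HopfAlgebra.antipodeAlgHom k A) ((hB₀ b).mp hb.1)),
      hC.2 b hb.2⟩

end Groth.Agent.S18329
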