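
import Groth.Statements.S1833
import Groth.Agent.L22.QuotLength

set_option autoImplicit false
universe u v
open Pointwise
open CycAlg

namespace Groth.Agent.S1833

/-- Let R be Noetherian local, M a finite R-module whose support has dimension at most 1, and x an
element with M/xM supported in dimension ≤ 0. Then length(M/xM) = length(ker(x : M → M)) + Σ_q
ord_{R/q}(x) · length_{R_q}(M_q), the sum running over the primes q of the support other than the
maximal ideal (stated in ℕ∞; all terms are finite under the hypotheses). -/
theorem result (R : Type u) [CommRing R] [IsNoetherianRing R] [IsLocalRing R] (M : Type u) [AddCommGroup M] [Module R M] [Module.Finite R M] (x : R) (h1 : Module.supportDim R M ≤ 1) (h0 : Module.supportDim R (M ⧸ x • (⊤ : Submodule R M)) ≤ 0) : Module.length R (M ⧸ x • (⊤ : Submodule R M)) = Module.length R (LinearMap.ker (LinearMap.lsmul R M x)) + ∑ᶠ (p : PrimeSpectrum R) (_ : p ∈ Module.support R M ∧ p.asIdeal ≠ IsLocalRing.maximalIdeal R), Ring.ord (R ⧸ p.asIdeal) (Ideal.Quotient.mk p.asIdeal x) * Module.length (Localization.AtPrime p.asIdeal)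 (LocalizedModule p.asIdeal.primeCompl M) := by
  have hr : (x • (⊤ : Submodule R M)) = LinearMap.range (LinearMap.lsmul R M x) := by
    ext z
    rw [Submodule.mem_smul_pointwise_iff_exists, LinearMap.mem_range]
    simp
  have h0' : ∀ p ∈ Module.support R M, x ∈ p.asIdeal → p.asIdeal = IsLocalRing.maximalIdeal R := by
    intro p hp hx
    have hp' : p ∈ Module.support R (M ⧸ x • (⊤ : Submodule R M)) := by
      rw [Module.support_quotSMulTop]
      exact ⟨hp, by simpa using hx⟩
    by_contra hne
    let m : PrimeSpectrum R := IsLocalRing.closedPoint R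
    have hm : m ∈ Module.support R (M ⧸ x • (⊤ : Submodule R M)) :=
      Module.mem_support_mono (IsLocalRing.le_maximalIdeal p.2.ne_top) hp'
    let a : Module.support R (M ⧸ x • (⊤ : Submodule R M)) := ⟨p, hp'⟩
    let b : Module.support R (M ⧸ x • (⊤ : Submodule R M)) := ⟨m, hm⟩
    have hab : a < b := lt_of_le_of_ne (IsLocalRing.le_maximalIdeal p.2.ne_top)
      fun h => hne (congrArg (fun z => z.1.asIdeal) h)
    have h2 : ((1 : ℕ) : WithBot ℕ∞) ≤ 0 :=
      (Order.LTSeries.length_le_krullDim ((RelSeries.singleton _ a).snoc b hab)).trans h0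
    norm_cast at h2
  rw [(Submodule.quotEquivOfEq _ _ hr).length_eq, Groth.L22.QuotLength.length_quot_eq M x h1 h0']
  rfl

end Groth.Agent.S1833
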