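import Groth.Statements.S18333
import Groth.Agent.L24.Slice.Main


set_option autoImplicit false
set_option backward.isDefEq.respectTransparency.types false
universe u
open AlgSt

namespace Groth.Agent.S18333

open CategoryTheory AlgebraicGeometry in
/-- Let 𝒳 be an algebraic stack over a scheme S which is locally of finite presentation over S and whose
diagonal over S is quasi-compact, separated and locally quasi-finite. Then there are a scheme W over
S and a morphism W → 𝒳 (a functor from (Sch/W) over (Sch/S)) which is representable by algebraic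
spaces, flat, locally of finite presentation, locally quasi-finite and surjective. (The source
phrases this as a covering of 𝒳 by open substacks each admitting a quasi-finite, flat, finitely
presented scheme covering; the disjoint union of those coverings is the W here.) -/
theorem result (S : Scheme.{u}) (𝒳 : AlgSt.Cat S)
    (h𝒳 : AlgSt.IsAlgStack Scheme.fppfPrecoverage 𝒳)
    (hΔ : AlgSt.RepByAlgSpWith (AlgSp.IsSeparatedMor ⊓ AlgSp.IsQuasiCompactMor) (FibCat.diag (FibCat.toSelf 𝒳)))
    (hqf : AlgSt.IsQuasiDMOver 𝒳)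
    (hfp : AlgSt.LocQ (AlgSp.LocP @LocallyOfFinitePresentation) (FibCat.toSelf 𝒳)) :
    ∃ (W : Over S) (w : FibCat.overCat W ⥤ᵇ 𝒳),
      AlgSt.RepByAlgSpWith
        (AlgSp.LocP (@Flat ⊓ @LocallyOfFinitePresentation ⊓ @LocallyQuasiFinite) ⊓ AlgSp.IsSurjectiveMor) w := by
  obtain ⟨W, z, hz, hzs⟩ :=
    Groth.L24.Slice.exists_lqf_atlas h𝒳.isStack.1 h𝒳.diag h𝒳.atlas hqf
  refine ⟨W, z, fun T y => ?_⟩
  obtain ⟨F, e, he, h1⟩ := hz T y
  obtain ⟨F', e', he', h2⟩ := hzs T y
  refine ⟨F, e, he, Groth.L23.locP_mono (fun φ h => ⟨⟨h.1.1, h.1.2⟩, h.2.1⟩) h1, ?_⟩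
  exact Groth.L24.St.Wit.prop_of_equiv (fun A A' _ _ i _ a ha => by
    show Function.Surjective (AlgSp.Points.map (i ≫ a))
    rw [show AlgSp.Points.map (i ≫ a) = AlgSp.Points.map a ∘ AlgSp.Points.map i from
      funext fun q => AlgSp.Points.map_comp i a q]
    exact Function.Surjective.comp ha (Groth.L23.surjective_map_of_repWith (Groth.L23.repWith_of_isIso i)))  ⟨F', e', he', h2⟩ F.property e he

end Groth.Agent.S18333
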