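import Groth.Statements.S1834
import Mathlib.RingTheory.Artinian.Ring
import Mathlib.RingTheory.HopkinsLevitzki
import Mathlib.RingTheory.Ideal.Quotient.Noetherian
import Mathlib.RingTheory.KrullDimension.NonZeroDivisors
import Mathlib.RingTheory.IntegralClosure.Algebra.Basic
import Mathlib.RingTheory.Localization.FractionRing
import Mathlib.RingTheory.Length
import Mathlib.RingTheory.LocalRing.Quotient

set_option autoImplicit false
universe u
open CycAlg

namespace Groth.Agent.S1834

section
variable {R : Type u} [CommRing R] [IsNoetherianRing R] [IsLocalRing R]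

theorem artinian_quot (hR : ringKrullDim R = 1) {x : R} (hx : x ∈ nonZeroDivisors R) :
    IsArtinianRing (R ⧸ Ideal.span {x}) := by
  have h := ringKrullDim_quotient_succ_le_of_nonZeroDivisor hx
  rw [hR] at h
  have h0 : ringKrullDim (R ⧸ Ideal.span {x}) ≤ 0 :=
    ENat.WithBot.add_le_add_one_right_iff.mp (h.trans (zero_add (1 : WithBot ℕ∞)).ge)
  have : Ring.KrullDimLE 0 (R ⧸ Ideal.span {x}) := by
    rw [Ring.krullDimLE_iff]; exact_mod_cast h0
  exact isArtinianRing_iff_krullDimLE_zero.mpr this

theorem length_quot_ne_top (hR : ringKrullDim R = 1) {x : R} (hx : x ∈ nonZeroDivisors R) :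
    Module.length R (R ⧸ Ideal.span {x}) ≠ ⊤ := by
  have := artinian_quot hR hx
  rw [Module.length_eq_of_surjective (R := R ⧸ Ideal.span {x}) (S := R)
    Ideal.Quotient.mk_surjective]
  exact Module.length_ne_top

/-- a homogeneous relation with a unit coefficient -/
theorem exists_relation (hR : ringKrullDim R = 1) (a b : R) (ha : a ∈ nonZeroDivisors R) :
    ∃ (n : ℕ) (c : ℕ → R), (∃ j ≤ n, IsUnit (c j)) ∧
      ∑ i ∈ Finset.range (n + 1), c i * (a ^ i * b ^ (n - i)) = 0 := by
  classical
  by_cases hau : IsUnit a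
  · obtain ⟨a', ha'⟩ := hau.exists_left_inv
    refine ⟨1, fun i => if i = 0 then -1 else b * a', ⟨0, by omega, by simp⟩, ?_⟩
    simp [Finset.sum_range_succ]
    linear_combination b * ha'
  have hfin := length_quot_ne_top hR ha
  obtain ⟨e, he⟩ := ENat.ne_top_iff_exists.mp hfin
  let g : Fin (e + 1) → R := fun i => a ^ (i : ℕ) * b ^ (e - i)
  let N : Submodule R R := Submodule.span R (Set.range g)
  let φ : (Fin (e + 1) → R) →ₗ[R] R := Fintype.linearCombination R g
  by_contra hcon
  push_neg at hcon
  set m := IsLocalRing.maximalIdeal R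
  have ham : a ∈ m := hau
  have hker : ∀ c : Fin (e + 1) → R, φ c ∈ m • N → ∀ i, c i ∈ m := by
    intro c hc i
    by_contra hi
    obtain ⟨d, hd, hde⟩ := (Submodule.mem_ideal_smul_span_iff_exists_sum m g _).mp hc
    have hrel : φ (c - ⇑d) = 0 := by
      rw [map_sub, sub_eq_zero, ← hde, Finsupp.sum_fintype _ _ (by simp)]
      simp [φ, Fintype.linearCombination_apply]
    have hu : IsUnit (c i - d i) := by
      by_contra hnu
      exact hi (by simpa using m.add_mem (show c i - d i ∈ m from hnu) (hd i))
    refine hcon e (fun l => if h : l < e + 1 then c ⟨l, h⟩ - d ⟨l, h⟩ else 0)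
      ⟨i, Nat.lt_succ_iff.mp i.2, by simpa [i.2] using hu⟩ ?_
    refine Eq.trans ?_ hrel
    simp only [φ]
    rw [← Fin.sum_univ_eq_sum_range, Fintype.linearCombination_apply]
    refine Finset.sum_congr rfl fun l _ => ?_
    simp [g, l.2, Fin.eta]
  let A : Submodule R R := (Ideal.span {a} : Ideal R) • N
  have hA : A ≤ N := Submodule.smul_le_right
  have hsplit : ∀ {X Y : Submodule R R}, X ≤ Y → Module.length R (R ⧸ X) =
      Module.length R (↥Y ⧸ X.comap Y.subtype) + Module.length R (R ⧸ Y) := by
    intro X Y hXY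
    refine Module.length_eq_add_of_exact (Submodule.mapQ _ X Y.subtype le_rfl)
      (Submodule.factor hXY) ?_ (Submodule.factor_surjective hXY) ?_
    · rw [← LinearMap.ker_eq_bot, eq_bot_iff]
      intro z hz
      obtain ⟨z, rfl⟩ := Submodule.Quotient.mk_surjective _ z
      rw [LinearMap.mem_ker, Submodule.mapQ_apply, Submodule.Quotient.mk_eq_zero] at hz
      exact (Submodule.mem_bot R).mpr ((Submodule.Quotient.mk_eq_zero _).mpr hz)
    · intro z
      obtain ⟨z, rfl⟩ := Submodule.Quotient.mk_surjective _ z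
      constructor
      · intro hz
        exact ⟨Submodule.Quotient.mk ⟨z, (Submodule.Quotient.mk_eq_zero _).mp hz⟩, rfl⟩
      · rintro ⟨w, hw⟩
        obtain ⟨w, rfl⟩ := Submodule.Quotient.mk_surjective _ w
        rw [← hw]
        exact (Submodule.Quotient.mk_eq_zero _).mpr w.2
  have hAa : A ≤ (Ideal.span {a} : Ideal R) := Submodule.smul_le.mpr fun r hr z _ =>
    Ideal.mul_mem_right z _ hr
  let mu : (R ⧸ N) →ₗ[R] ↥(Ideal.span {a} : Ideal R) ⧸ A.comap (Ideal.span {a} : Ideal R).subtype :=
    Submodule.mapQ N _ (LinearMap.codRestrict _ (LinearMap.lsmul R R a)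
      (fun z => Ideal.mul_mem_right z _ (Ideal.mem_span_singleton_self a)))
      (fun z hz => Submodule.smul_mem_smul (Ideal.mem_span_singleton_self a) hz)
  have hmu : Function.Bijective mu := by
    constructor
    · rw [← LinearMap.ker_eq_bot, eq_bot_iff]
      intro z hz
      obtain ⟨z, rfl⟩ := Submodule.Quotient.mk_surjective _ z
      rw [LinearMap.mem_ker, Submodule.mapQ_apply, Submodule.Quotient.mk_eq_zero,
        Submodule.mem_comap] at hz
      obtain ⟨w, hw, hwz⟩ := Ideal.mem_span_singleton_mul.mp hz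
      have : w = z := (mem_nonZeroDivisors_iff_right.mp ha |> fun h => sub_eq_zero.mp (h _ (by
        rw [sub_mul]; exact sub_eq_zero.mpr (by rw [mul_comm w, mul_comm z]; exact hwz))))
      subst this
      exact (Submodule.mem_bot R).mpr ((Submodule.Quotient.mk_eq_zero _).mpr hw)
    · intro z
      obtain ⟨⟨z, hz⟩, rfl⟩ := Submodule.Quotient.mk_surjective _ z
      obtain ⟨w, rfl⟩ := Ideal.mem_span_singleton'.mp hz
      exact ⟨Submodule.Quotient.mk w, congrArg _ (Subtype.ext (mul_comm a w))⟩
  have hNfin : Module.length R (R ⧸ N) ≠ ⊤ := by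
    have hle : (Ideal.span {a ^ e} : Ideal R) ≤ N :=
      (Ideal.span_singleton_le_iff_mem _).mpr
        (Submodule.subset_span ⟨Fin.last e, by simp [g]⟩)
    refine ne_top_of_le_ne_top (length_quot_ne_top hR (pow_mem ha e)) ?_
    exact Module.length_le_of_surjective (Submodule.factor hle) (Submodule.factor_surjective hle)
  have h1 := hsplit hA
  have h2 := hsplit hAa
  rw [← (LinearEquiv.ofBijective mu hmu).length_eq] at h2
  have h3 : Module.length R (↥N ⧸ A.comap N.subtype) = (e : ℕ∞) := by
    obtain ⟨q, hq⟩ := ENat.ne_top_iff_exists.mp hNfin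
    rw [h1, ← hq] at h2
    have h2' : Module.length R (↥N ⧸ A.comap N.subtype) + (q : ℕ∞) = (e : ℕ∞) + q := by
      rw [h2, he, add_comm]
    exact ENat.add_right_injective_of_ne_top (ENat.natCast_ne_top q) (by simpa [add_comm] using h2')
  have hle2 : A.comap N.subtype ≤ (m • N).comap N.subtype := Submodule.comap_mono
    (Submodule.smul_mono_left ((Ideal.span_singleton_le_iff_mem _).mpr ham))
  have h4 := Module.length_le_of_surjective (Submodule.factor hle2) (Submodule.factor_surjective hle2)
  let ψ : (Fin (e + 1) → R) →ₗ[R] ↥N ⧸ (m • N).comap N.subtype :=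
    (Submodule.mkQ _) ∘ₗ φ.codRestrict N (fun c => by
      change φ c ∈ Submodule.span R (Set.range g)
      rw [← Fintype.range_linearCombination R g]; exact ⟨c, rfl⟩)
  have hψ : Function.Surjective ψ := by
    intro z
    obtain ⟨⟨z, hz⟩, rfl⟩ := Submodule.Quotient.mk_surjective _ z
    have hz' := hz
    simp only [N, ← Fintype.range_linearCombination R g] at hz'
    obtain ⟨c, rfl⟩ := hz'
    exact ⟨c, rfl⟩
  let ρ : (Fin (e + 1) → R) →ₗ[R] (Fin (e + 1) → IsLocalRing.ResidueField R) :=
    LinearMap.pi fun i => (Algebra.linearMap R (IsLocalRing.ResidueField R)) ∘ₗ LinearMap.proj i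
  have hρ : LinearMap.ker ψ ≤ LinearMap.ker ρ := by
    intro c hc
    rw [LinearMap.mem_ker, LinearMap.comp_apply, Submodule.mkQ_apply, Submodule.Quotient.mk_eq_zero] at hc
    rw [LinearMap.mem_ker]
    funext i
    exact (IsLocalRing.residue_eq_zero_iff _).mpr (hker c hc i)
  let θ : (↥N ⧸ (m • N).comap N.subtype) →ₗ[R] (Fin (e + 1) → IsLocalRing.ResidueField R) :=
    (Submodule.liftQ _ ρ hρ) ∘ₗ (ψ.quotKerEquivOfSurjective hψ).symm.toLinearMap
  have hθ : Function.Surjective θ := by
    intro v
    choose c hc using fun i => IsLocalRing.residue_surjective (v i)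
    refine ⟨ψ.quotKerEquivOfSurjective hψ (Submodule.Quotient.mk c), ?_⟩
    simp only [θ, LinearMap.comp_apply, LinearEquiv.coe_coe, LinearEquiv.symm_apply_apply,
      Submodule.liftQ_apply]
    funext i
    exact hc i
  have h5 := Module.length_le_of_surjective θ hθ
  have hk : Module.length R (IsLocalRing.ResidueField R) = 1 := by
    rw [Module.length_eq_of_surjective (R := IsLocalRing.ResidueField R) (S := R)
      (IsLocalRing.residue_surjective), Module.length_eq_one_iff]
    infer_instance
  rw [Module.length_pi_of_fintype] at h5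
  simp only [hk, Finset.sum_const, Finset.card_univ, Fintype.card_fin, nsmul_one] at h5
  have h6 := (h5.trans h4).trans h3.le
  norm_cast at h6
  omega


theorem exists_common_factor (hR : ringKrullDim R = 1) (a b : R)
    (ha : a ∈ nonZeroDivisors R) (hb : b ∈ nonZeroDivisors R) :
    ∃ (R' : Type u) (_ : CommRing R') (_ : Algebra R R'),
      CycAlg.IsFinExt R R' (IsLocalRing.maximalIdeal R) ∧ ∃ t a' b' : R', t ∈ nonZeroDivisors R' ∧
        a' ∈ nonZeroDivisors R' ∧ b' ∈ nonZeroDivisors R' ∧ algebraMap R R' a = t * a' ∧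
        algebraMap R R' b = t * b' ∧ Ideal.span {a', b'} = ⊤ := by
  classical
  obtain ⟨n, c, ⟨j, hj, hcj⟩, hrel⟩ := exists_relation hR a b ha
  let Q := FractionRing R
  let al := algebraMap R Q
  have hal : Function.Injective al := IsFractionRing.injective R Q
  have hbu : IsUnit (al b) := IsLocalization.map_units Q ⟨b, hb⟩
  let u : Q := al a * (↑hbu.unit⁻¹ : Q)
  have hub : u * al b = al a := by
    change al a * _ * al b = al a
    rw [mul_assoc, IsUnit.val_inv_mul, mul_one]
  have hrelQ : ∑ i ∈ Finset.range (n + 1), al (c i) * u ^ i = 0 := by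
    refine (hbu.pow n).mul_left_cancel ?_
    rw [mul_zero, Finset.mul_sum, ← map_zero al, ← hrel, map_sum]
    refine Finset.sum_congr rfl fun i hi => ?_
    have hin : i ≤ n := Nat.lt_succ_iff.mp (Finset.mem_range.mp hi)
    obtain ⟨l, rfl⟩ := Nat.exists_eq_add_of_le hin
    rw [map_mul, map_mul, map_pow, map_pow, Nat.add_sub_cancel_left, ← hub, mul_pow, pow_add]
    ring
  let E : ℕ → Q := fun k => ∑ i ∈ Finset.Ico (n + 1 - k) (n + 1), al (c i) * u ^ (i - (n - k))
  have hE0 : E 0 = 0 := by simp [E]
  have hrec : ∀ k, k < n → E (k + 1) = (E k + al (c (n - k))) * u := by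
    intro k hk
    simp only [E]
    rw [show n + 1 - (k + 1) = n - k by omega, Finset.sum_eq_sum_Ico_succ_bot (by omega : n - k < n + 1),
      show n + 1 - k = n - k + 1 by omega, show n - k - (n - (k + 1)) = 1 by omega, add_mul, Finset.sum_mul,
      pow_one, add_comm]
    congr 1
    refine Finset.sum_congr rfl fun i hi => ?_
    have := (Finset.mem_Ico.mp hi).1
    rw [show i - (n - (k + 1)) = i - (n - k) + 1 by omega, pow_succ, mul_assoc]
  have hEn : E n + al (c 0) = 0 := by
    rw [← hrelQ, ← Finset.sum_range_add_sum_Ico _ (show 1 ≤ n + 1 by omega), Finset.sum_range_one,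
      pow_zero, mul_one, add_comm]
    simp only [E, Nat.sub_self, Nat.sub_zero, show n + 1 - n = 1 by omega]
  let N : Submodule R Q := Submodule.span R (Set.range fun i : Fin (n + 1) => u ^ (i : ℕ))
  have hpow : ∀ (r : R) (i : ℕ), i ≤ n → al r * u ^ i ∈ N := fun r i hi => by
    rw [show al r * u ^ i = r • u ^ i from (Algebra.smul_def r (u ^ i)).symm]
    exact N.smul_mem r (Submodule.subset_span ⟨⟨i, by omega⟩, rfl⟩)
  have hEN : ∀ k, k ≤ n → ∀ z ∈ N, E k * z ∈ N := by
    intro k hk z hz
    induction hz using Submodule.span_induction with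
    | zero => simp
    | add x y _ _ hx hy => rw [mul_add]; exact N.add_mem hx hy
    | smul r x _ hx => rw [mul_smul_comm]; exact N.smul_mem r hx
    | mem x hx =>
      obtain ⟨⟨i, hi⟩, rfl⟩ := hx
      change E k * u ^ i ∈ N
      by_cases hik : i + k ≤ n
      · simp only [E]
        rw [Finset.sum_mul]
        refine N.sum_mem fun l hl => ?_
        have := Finset.mem_Ico.mp hl
        rw [mul_assoc, ← pow_add]
        exact hpow _ _ (by omega)
      · have hsum : E k * u ^ i + ∑ l ∈ Finset.range (n + 1 - k), al (c l) * u ^ (l + (i - (n - k))) = 0 := by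
          calc _ = (∑ l ∈ Finset.range (n + 1), al (c l) * u ^ l) * u ^ (i - (n - k)) := by
                rw [← Finset.sum_range_add_sum_Ico (fun l => al (c l) * u ^ l)
                  (show n + 1 - k ≤ n + 1 by omega), add_mul, add_comm]
                simp only [E]
                congr 1 <;> repeat rw [Finset.sum_mul]
                all_goals
                · refine Finset.sum_congr rfl fun l hl => ?_
                  simp only [Finset.mem_Ico, Finset.mem_range] at hl
                  simp only [mul_assoc, ← pow_add]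
                  try (congr 2; omega)
            _ = 0 := by rw [hrelQ, zero_mul]
        change E k * u ^ i ∈ N
        rw [eq_neg_of_add_eq_zero_left hsum]
        refine N.neg_mem (N.sum_mem fun l hl => ?_)
        have := Finset.mem_range.mp hl
        exact hpow _ _ (by omega)
  have hint : ∀ k : Fin (n + 1), IsIntegral R (E k) := by
    intro k
    have h1 : (1 : Q) ∈ N := by
      rw [← map_one al, ← mul_one (al 1), ← pow_zero u]
      exact hpow _ 0 (Nat.zero_le n)
    let A' : Subalgebra R Q :=
      { carrier := {x | ∀ z ∈ N, x * z ∈ N}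
        mul_mem' := fun {x y} hx hy z hz => by rw [mul_assoc]; exact hx _ (hy z hz)
        one_mem' := fun z hz => by rwa [one_mul]
        add_mem' := fun {x y} hx hy z hz => by rw [add_mul]; exact N.add_mem (hx z hz) (hy z hz)
        zero_mem' := fun z _ => by rw [zero_mul]; exact N.zero_mem
        algebraMap_mem' := fun r z hz => by rw [← Algebra.smul_def]; exact N.smul_mem r hz }
    have hle : A'.toSubmodule ≤ N := fun x hx => by simpa using hx 1 h1
    have hNfg : N.FG := Submodule.fg_span (Set.finite_range _)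
    have : IsNoetherian R N := isNoetherian_of_fg_of_noetherian N hNfg
    refine IsIntegral.of_mem_of_fg A' ?_ (E k) (hEN k (Nat.lt_succ_iff.mp k.2))
    exact Submodule.FG.of_le hNfg hle
  let S : Subalgebra R Q := Algebra.adjoin R (Set.range fun k : Fin (n + 1) => E k)
  have hSfg : S.toSubmodule.FG := fg_adjoin_of_finite (Set.finite_range _) (by rintro _ ⟨k, rfl⟩; exact hint k)
  have : Module.Finite R S := Module.Finite.iff_fg.mpr hSfg
  have hinjS : Function.Injective (algebraMap R S) := fun x y h => hal (congrArg Subtype.val h)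
  -- powers of the maximal ideal push into R
  have hfinext : CycAlg.IsFinExt R S (IsLocalRing.maximalIdeal R) := by
    refine ⟨hinjS, inferInstance, ?_⟩
    obtain ⟨F, hF⟩ := hSfg
    obtain ⟨⟨w, hw⟩, hint'⟩ := IsLocalization.exist_integer_multiples_of_finset (nonZeroDivisors R) F
    have hwS : ∀ z : S, ∃ r : R, al r = al w * (z : Q) := by
      intro z
      have hz : (z : Q) ∈ Submodule.span R (F : Set Q) := hF ▸ z.2
      revert hz
      generalize (z : Q) = zq
      intro hz
      induction hz using Submodule.span_induction with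
      | mem x hx =>
        obtain ⟨r, hr⟩ := hint' x hx
        exact ⟨r, by rw [show al r = algebraMap R Q r from rfl, hr, Algebra.smul_def]⟩
      | zero => exact ⟨0, by simp⟩
      | add x y _ _ hx hy =>
        obtain ⟨r, hr⟩ := hx; obtain ⟨r', hr'⟩ := hy
        exact ⟨r + r', by rw [map_add, hr, hr', mul_add]⟩
      | smul s x _ hx =>
        obtain ⟨r, hr⟩ := hx
        exact ⟨s * r, by rw [map_mul, hr, Algebra.smul_def]; ring⟩
    have := artinian_quot hR hw
    obtain ⟨p, hp⟩ := IsLocalRing.exists_maximalIdeal_pow_le_of_isArtinianRing_quotient (Ideal.span {w})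
    refine ⟨p, fun r hr z => ?_⟩
    obtain ⟨q, rfl⟩ := Ideal.mem_span_singleton'.mp (hp hr)
    obtain ⟨r', hr'⟩ := hwS z
    refine ⟨q * r', Subtype.ext ?_⟩
    rw [Algebra.smul_def, Subalgebra.coe_mul]
    change al (q * r') = al (q * w) * (z : Q)
    rw [map_mul, map_mul, hr', mul_assoc]
  -- local principality
  let e : ℕ → S := fun k => if h : k < n + 1 then ⟨E k, Algebra.subset_adjoin ⟨⟨k, h⟩, rfl⟩⟩ else 0
  have he : ∀ k, k ≤ n → ((e k : S) : Q) = E k := fun k hk => by simp [e, Nat.lt_succ_iff.mpr hk, hk]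
  let A0 : S := algebraMap R S a
  let B0 : S := algebraMap R S b
  have hrecS : ∀ k, k < n → e (k + 1) * B0 = (e k + algebraMap R S (c (n - k))) * A0 := by
    intro k hk
    apply Subtype.ext
    simp only [Subalgebra.coe_mul, Subalgebra.coe_add, he k hk.le, he (k + 1) hk, A0, B0,
      Subalgebra.coe_algebraMap]
    rw [hrec k hk, mul_assoc, hub]
  have hA0 : A0 ∈ nonZeroDivisors S := by
    rw [mem_nonZeroDivisors_iff_right]
    intro z hz
    apply Subtype.ext
    have := congrArg Subtype.val hz
    simp only [Subalgebra.coe_mul, A0, Subalgebra.coe_algebraMap, Subalgebra.coe_zero] at this ⊢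
    exact (IsLocalization.map_units Q (⟨a, ha⟩ : nonZeroDivisors R)).mul_left_eq_zero.mp this
  have hB0 : B0 ∈ nonZeroDivisors S := by
    rw [mem_nonZeroDivisors_iff_right]
    intro z hz
    apply Subtype.ext
    have := congrArg Subtype.val hz
    simp only [Subalgebra.coe_mul, B0, Subalgebra.coe_algebraMap, Subalgebra.coe_zero] at this ⊢
    exact hbu.mul_left_eq_zero.mp this
  let J : Ideal S := Ideal.span {A0, B0}
  have hloc : ∀ P : Ideal S, P.IsMaximal → ∃ g ∈ ({A0, B0} : Set S), ∃ s ∉ P, ∀ x ∈ J, g ∣ s * x := by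
    intro P hP
    have hJ : ∀ g s : S, g ∣ s * A0 → g ∣ s * B0 → ∀ x ∈ J, g ∣ s * x := by
      intro g s h1 h2 x hx
      obtain ⟨p, q, rfl⟩ := Ideal.mem_span_pair.mp hx
      rw [show s * (p * A0 + q * B0) = p * (s * A0) + q * (s * B0) by ring]
      exact dvd_add (dvd_mul_of_dvd_right h1 _) (dvd_mul_of_dvd_right h2 _)
    have hcU : algebraMap R S (c j) ∉ P := fun h => hP.ne_top (Ideal.eq_top_of_isUnit_mem _ h (hcj.map _))
    by_cases hs : e (n - j) + algebraMap R S (c j) ∈ P
    · have hne : e (n - j) ∉ P := fun h => hcU (by simpa using P.sub_mem hs h)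
      obtain ⟨k, hk⟩ : ∃ k, n - j = k + 1 := by
        refine Nat.exists_eq_add_one_of_ne_zero fun h0 => hne ?_
        have : e (n - j) = 0 := Subtype.ext (by rw [he _ (by omega), h0, hE0]; rfl)
        rw [this]; exact P.zero_mem
      refine ⟨A0, by simp, _, hne, hJ _ _ (dvd_mul_left _ _) ?_⟩
      rw [hk, hrecS k (by omega)]
      exact dvd_mul_left _ _
    · rcases Nat.eq_zero_or_pos j with rfl | hjpos
      · exfalso
        refine hs ?_
        have : e (n - 0) + algebraMap R S (c 0) = 0 := Subtype.ext (by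
          simp only [Subalgebra.coe_add, he (n - 0) (by omega), Subalgebra.coe_algebraMap]
          simpa using hEn)
        rw [this]; exact P.zero_mem
      · refine ⟨B0, by simp, _, hs, hJ _ _ ?_ (dvd_mul_left _ _)⟩
        have := hrecS (n - j) (by omega)
        rw [show n - (n - j) = j by omega] at this
        rw [← this]
        exact dvd_mul_left _ _
  -- semilocal
  have : IsNoetherianRing S := IsNoetherianRing.of_finite R S
  have hfinMax : {P : Ideal S | P.IsMaximal}.Finite := by
    let m' : Ideal S := (IsLocalRing.maximalIdeal R).map (algebraMap R S)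
    have : IsArtinianRing (S ⧸ m') := by
      let : Algebra (IsLocalRing.ResidueField R) (S ⧸ m') :=
        Ideal.Quotient.algebraQuotientMapQuotient
      have : IsScalarTower R (IsLocalRing.ResidueField R) (S ⧸ m') :=
        IsScalarTower.of_algebraMap_eq fun _ => rfl
      have : Module.Finite (IsLocalRing.ResidueField R) (S ⧸ m') := Module.Finite.of_restrictScalars_finite R _ _
      exact IsArtinianRing.of_finite (IsLocalRing.ResidueField R) _
    refine ((IsArtinianRing.setOf_isMaximal_finite (S ⧸ m')).image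
      (Ideal.comap (Ideal.Quotient.mk m'))).subset ?_
    intro P hP
    have : P.IsMaximal := hP
    have hm : m' ≤ P := Ideal.map_le_iff_le_comap.mpr
      (IsLocalRing.eq_maximalIdeal (Ideal.isMaximal_comap_of_isIntegral_of_isMaximal P)).ge
    refine ⟨P.map (Ideal.Quotient.mk m'), ?_, ?_⟩
    · exact Ideal.IsMaximal.map_of_surjective_of_ker_le Ideal.Quotient.mk_surjective (by rwa [Ideal.mk_ker]) 
    · rw [Ideal.comap_map_of_surjective _ Ideal.Quotient.mk_surjective, ← RingHom.ker_eq_comap_bot,
        Ideal.mk_ker, sup_eq_left.mpr hm]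
  have : Fintype {P : Ideal S | P.IsMaximal} := hfinMax.fintype
  choose g hg s hs hsd using fun P : {P : Ideal S | P.IsMaximal} => hloc P P.2
  have hw : ∀ P : {P : Ideal S | P.IsMaximal}, ∃ w, w ∉ P.1 ∧ ∀ Q' : {P : Ideal S | P.IsMaximal}, Q' ≠ P → w ∈ Q'.1 := by
    intro P
    have hpr := (show P.1.IsMaximal from P.2).isPrime
    have : ∀ Q' : {P : Ideal S | P.IsMaximal}, Q' ≠ P → ∃ w ∈ Q'.1, w ∉ P.1 := by
      intro Q' hne
      by_contra hc
      push_neg at hc
      exact hne (Subtype.ext ((show Q'.1.IsMaximal from Q'.2).eq_of_le hpr.ne_top hc))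
    choose w hw hw' using this
    refine ⟨∏ Q' ∈ (Finset.univ.erase P).attach, w Q'.1 (Finset.ne_of_mem_erase Q'.2), fun h => ?_,
      fun Q' hne => ?_⟩
    · obtain ⟨Q', -, hQ'⟩ := (Ideal.IsPrime.prod_mem_iff (hp := hpr)).mp h
      exact hw' _ _ hQ'
    · exact Q'.1.mem_of_dvd (Finset.dvd_prod_of_mem _ (Finset.mem_attach _
        ⟨Q', Finset.mem_erase.mpr ⟨hne, Finset.mem_univ _⟩⟩)) (hw Q' hne)
  choose w hwP hwQ using hw
  let tt : S := ∑ P, w P * g P
  have htJ : tt ∈ J := J.sum_mem fun P _ => J.mul_mem_left _ (Ideal.subset_span (hg P))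
  have hdvd : ∀ x ∈ J, tt ∣ x := by
    let K : Ideal S :=
      { carrier := {r | ∀ x ∈ J, tt ∣ r * x}
        add_mem' := fun {r r'} h h' x hx => by rw [add_mul]; exact dvd_add (h x hx) (h' x hx)
        zero_mem' := fun x _ => by simp
        smul_mem' := fun q r h x hx => by
          rw [smul_eq_mul, mul_assoc]; exact dvd_mul_of_dvd_right (h x hx) q }
    suffices K = ⊤ by
      intro x hx
      simpa using (this.symm ▸ Submodule.mem_top : (1 : S) ∈ K) x hx
    by_contra hK
    obtain ⟨P, hP, hKP⟩ := Ideal.exists_le_maximal K hK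
    let P' : {P : Ideal S | P.IsMaximal} := ⟨P, hP⟩
    choose h hh using fun Q' => hsd P' (g Q') (Ideal.subset_span (hg Q'))
    have hts : s P' * tt = g P' * ∑ Q', w Q' * h Q' := by
      simp only [tt, Finset.mul_sum]
      refine Finset.sum_congr rfl fun Q' _ => ?_
      linear_combination (w Q') * hh Q'
    have hcoef : s P' * (∑ Q', w Q' * h Q') ∉ P := by
      intro hmem
      have h1 := (hP.isPrime.mem_or_mem hmem).resolve_left (hs P')
      rw [← Finset.add_sum_erase _ _ (Finset.mem_univ P')] at h1
      have h2 : ∑ Q' ∈ Finset.univ.erase P', w Q' * h Q' ∈ P := P.sum_mem fun Q' hQ' =>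
        P.mul_mem_right _ (hwQ Q' P' (fun he => by simp [he] at hQ'))
      have h3 : h P' ∈ P := (hP.isPrime.mem_or_mem ((P.add_mem_iff_left h2).mp h1)).resolve_left (hwP P')
      -- g = 0 case impossible
      have h4 : g P' * (s P' - h P') = 0 := by linear_combination hh P'
      have hgn : g P' ∈ nonZeroDivisors S := by
        rcases hg P' with h' | h'
        · rw [h']; exact hA0
        · rw [Set.mem_singleton_iff.mp h']; exact hB0
      have h5 := (mem_nonZeroDivisors_iff_left.mp hgn _ h4)
      exact hs P' (by rw [sub_eq_zero] at h5; rw [h5]; exact h3)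
    refine hcoef (hKP ?_)
    intro x hx
    obtain ⟨q, hq⟩ := hsd P' x hx
    refine ⟨s P' * q, ?_⟩
    linear_combination (∑ Q', w Q' * h Q') * hq - q * hts
  obtain ⟨a', ha'⟩ := hdvd A0 (Ideal.subset_span (by simp))
  obtain ⟨b', hb'⟩ := hdvd B0 (Ideal.subset_span (by simp))
  obtain ⟨r1, r2, hr⟩ := Ideal.mem_span_pair.mp htJ
  have ht0 : tt ∈ nonZeroDivisors S := (mul_mem_nonZeroDivisors.mp (ha' ▸ hA0)).1
  refine ⟨S, inferInstance, inferInstance, hfinext, tt, a', b', ht0,
    (mul_mem_nonZeroDivisors.mp (ha' ▸ hA0)).2, (mul_mem_nonZeroDivisors.mp (hb' ▸ hB0)).2, ha', hb', ?_⟩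
  rw [Ideal.eq_top_iff_one, Ideal.mem_span_pair]
  refine ⟨r1, r2, ?_⟩
  have : tt * (r1 * a' + r2 * b' - 1) = 0 := by linear_combination hr - r1 * ha' - r2 * hb'
  exact sub_eq_zero.mp (mem_nonZeroDivisors_iff_left.mp ht0 _ this)

end

/-- Let R be a Noetherian local ring of dimension 1 and a, b nonzerodivisors. There is a finite
extension ring R ⊆ R' with R'/R killed by a power of the maximal ideal, and nonzerodivisors t, a',
b' of R' with a = t a', b = t b' and (a', b') the unit ideal of R'. -/
theorem result (R : Type u) [CommRing R] [IsNoetherianRing R] [IsLocalRing R] (hR : ringKrullDim R = 1) (a b : R) (ha : a ∈ nonZeroDivisors R) (hb : b ∈ nonZeroDivisors R) : ∃ (R' : Type u) (_ : CommRing R') (_ : Algebra R R'), CycAlg.IsFinExt R R' (IsLocalRing.maximalIdeal R) ∧ ∃ t a' b' : R', t ∈ nonZeroDivisors R' ∧ a' ∈ nonZeroDivisors R' ∧ b' ∈ nonZeroDivisors R' ∧ algebraMap R R' a = t * a' ∧ algebraMap R R' b = t * b' ∧ Ideal.span {a', b'} = ⊤ := by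
  exact exists_common_factor hR a b ha hb

end Groth.Agent.S1834
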