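import Groth.Statements.S18342
import Groth.Agent.L21.Bundle.Hom
import Groth.Agent.L21.Disc.SimplyConn

set_option autoImplicit false
set_option backward.isDefEq.respectTransparency false
universe u
open CategoryTheory CategoryTheory.Limits AlgebraicGeometry
open VBCurve

namespace Groth.Agent.S18342

/-- Let k be an algebraically closed field of characteristic zero and X a smooth proper geometrically
connected curve over k (topological dimension one) of genus g ≥ 2. Let E be a finite locally free
O_X-module of rank r ≥ 1 and degree 0, and F a finite locally free O_X-module of rank n ≥ 1 and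
degree n(g − 1), degrees being χ − rank · χ(O_X). If every morphism E → F is zero, then E is
slope-semistable: deg G · r ≤ 0 for every finite locally free submodule G of E of positive rank. The
published statement concerns quasi-parabolic bundles of rank r with trivial determinant and flags at
a finite set of points, and says that for n ≥ ⌈r²/4⌉ the closed substack of bundles that are not
semistable for a given system of weights is the base locus of the parabolic theta functions of order
n, these being attached to semistable F; this row is one inclusion of it (a bundle at which the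
theta function of some F does not vanish is semistable) for a single bundle with no parabolic
points, for every n ≥ 1 and every F of the stated rank and degree, with degree 0 in place of trivial
determinant, and with the vanishing of Hom(E, F) in place of the vanishing of both Hom(E, F) and
Ext^1(E, F). -/
theorem result (k : Type u) [Field k] [IsAlgClosed k] [CharZero k]
    (X : Scheme.{u}) [X.Over (Spec (CommRingCat.of k))]
    [IsProper (X ↘ Spec (CommRingCat.of k))] [Smooth (X ↘ Spec (CommRingCat.of k))]
    [GeometricallyConnected (X ↘ Spec (CommRingCat.of k))] (hdim : topologicalKrullDim ↥X = 1)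
    (g : ℕ) (hg : Curv2.genus k X = g) (hg2 : 2 ≤ g)
    (E : X.Modules) (r : ℕ) (hr : 0 < r) (hE : FlatMod.IsFinLocFreeOfRank r E)
    (hEdeg : Curv2.deg k X E r = 0)
    (F : X.Modules) (n : ℕ) (hn : 0 < n) (hF : FlatMod.IsFinLocFreeOfRank n F)
    (hFdeg : Curv2.deg k X F n = (n : ℤ) * ((g : ℤ) - 1))
    (hhom : ∀ φ : E ⟶ F, φ = 0) :
    ModFun.IsSlopeSemistable k X E r := by
  haveI : GeometricallyIntegral (X ↘ Spec (CommRingCat.of k)) :=
    Groth.L21.Disc.geometricallyIntegral_of_smooth (X ↘ Spec (CommRingCat.of k))
  haveI : IsIntegral X := GeometricallyIntegral.isIntegral_of_subsingleton (X ↘ Spec (CommRingCat.of k))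
  haveI := Groth.L21.RR.isNoetherian_of_proper (X := X) k
  have hreg := Groth.L21.Smooth.regular_stalk (k := k) (X ↘ Spec (CommRingCat.of k))
  have h0 : Groth.L21.RR.h k 0 (Coh.structureModule X) = 1 := Groth.L21.RR.h0_eq_one_of_geometricallyIntegral k hdim
  intro G r' i hi hr' hG
  haveI := hi
  rw [hEdeg, zero_mul]
  by_contra hlt
  push Not at hlt
  have hcG := Groth.L21.Bundle.isCoh_of_rank hG
  have hcE := Groth.L21.Bundle.isCoh_of_rank hE
  have hdG : 0 < Groth.L21.Bundle.dg k G := by
    rw [← Groth.L21.Bundle.dg_eq k hG]
    nlinarith [show (0 : ℤ) ≤ r from Int.natCast_nonneg r]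
  have hdE : Groth.L21.Bundle.dg k E = 0 := by rw [← Groth.L21.Bundle.dg_eq k hE]; exact hEdeg
  have hle := Groth.L21.Bundle.rk_le_of_mono i hcG hcE
  obtain ⟨hr1, hd1⟩ := Groth.L21.Bundle.add_cokernel k hdim.le i hcG hcE
  rw [Groth.L21.Bundle.rk_eq hE, Groth.L21.Bundle.rk_eq hG] at hle hr1
  have hne : r' ≠ r := fun h => by
    have h2 := (Groth.L21.Bundle.dg_le_of_mono hdim.le k i hcG hcE
      (by rw [Groth.L21.Bundle.rk_eq hE, Groth.L21.Bundle.rk_eq hG, h])).1
    omega
  have hcC := Groth.L21.Bundle.coh_cokernel hcG hcE i
  obtain ⟨Q, p, hp, hcK, hK0, hQ⟩ := Groth.L21.Bundle.exists_locFree_quotient hreg hdim.le hcC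
  haveI := hp
  have hdQ := (Groth.L21.Bundle.dg_quotient_le hdim.le k p hcC (Groth.L21.Bundle.isCoh_of_rank hQ) hcK hK0).1
  obtain ⟨φ, hφ⟩ := Groth.L21.Bundle.exists_hom_ne_zero k hdim h0 hF hQ (by
    rw [← Groth.L21.Bundle.dg_eq k hF, hFdeg, hg]
    have hs : (0 : ℤ) < Groth.L21.Bundle.rk (cokernel i) := by exact_mod_cast (by omega : 0 < Groth.L21.Bundle.rk (cokernel i))
    have hnz : (0 : ℤ) < n := by exact_mod_cast hn
    nlinarith)
  refine hφ ((cancel_epi (cokernel.π i ≫ p)).1 ?_)
  rw [comp_zero]
  exact hhom _

end Groth.Agent.S18342
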