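import Groth.Statements.S18343
import Groth.Agent.L20.ThickAffine
import Groth.Agent.L22.Ideal
import Mathlib.AlgebraicGeometry.Morphisms.ClosedImmersion
-- import your own Groth.Agent.* helpers here

set_option autoImplicit false
universe u
open CategoryTheory CategoryTheory.Limits AlgebraicGeometry
open MultCurve

namespace Groth.Agent.S18343

set_option backward.isDefEq.respectTransparency false
set_option linter.style.haveILetI false

/-- Suppose C is a ribbon on the reduced scheme D via the closed immersion i : D ⟶ C (meaning the ideal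
of D squares to zero and is locally generated by a single section z whose annihilator lies in (z)),
and consider an arbitrary morphism of schemes f : C ⟶ X. The morphism f is a closed immersion
exactly when two things hold: the composite i ≫ f, i.e. f restricted to D, is a closed immersion,
and pulling back along f the ideal of the scheme-theoretic image of D in X yields the entire ideal
of D in C. This second requirement amounts to surjectivity of the map α_f that sends the pullback of
the conormal sheaf of the image of D in X onto the conormal bundle of D in C. (The statement is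
given for arbitrary schemes and any morphism f; the published version assumes all schemes are of
finite type over a field and D is connected, but the proof relies on neither assumption.) -/
theorem result (D C X : Scheme.{u}) (i : D ⟶ C)
    (hR : MultCurve.IsRibbon i) (f : C ⟶ X) :
    IsClosedImmersion f ↔ (IsClosedImmersion (i ≫ f) ∧ (i ≫ f).ker.comap f = i.ker) := by
  obtain ⟨⟨hi, hpow, -⟩, -⟩ := hR
  haveI := hi
  have hsurj : Function.Surjective i := by
    rw [← Set.range_eq_univ]
    have h1 : ((i.ker ^ 2).support : Set C) = Set.univ := by simp [hpow]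
    rw [Scheme.IdealSheafData.support_pow _ _ two_ne_zero, Scheme.Hom.support_ker] at h1
    simpa [i.isClosedEmbedding.isClosed_range.closure_eq] using h1
  have hsq : ∀ (A : C.affineOpens) (a b : Γ(C, A.1)), a ∈ i.ker.ideal A → b ∈ i.ker.ideal A → a * b = 0 := by
    intro A a b ha hb
    have h := Ideal.mul_mem_mul ha hb
    rw [← pow_two, ← Pi.pow_apply, ← Scheme.IdealSheafData.ideal_pow, hpow, Scheme.IdealSheafData.ideal_bot] at h
    exact h
  constructor
  · intro hf
    haveI := hf
    refine ⟨inferInstance, Scheme.IdealSheafData.ext_of_iSup_eq_top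
      (fun V : X.affineOpens => (⟨f ⁻¹ᵁ V.1, V.2.preimage f⟩ : C.affineOpens))
      (eq_top_iff.2 fun x _ => ?_) fun V => ?_⟩
    · obtain ⟨W, hW, hxW, -⟩ := exists_isAffineOpen_mem_and_subset (x := f x) (U := ⊤) trivial
      exact TopologicalSpace.Opens.mem_iSup.2 ⟨⟨W, hW⟩, hxW⟩
    · rw [Groth.L22.Ideals.comap_ideal f _ V _ le_rfl, ← Scheme.Hom.app_eq_appLE, Scheme.Hom.ker_apply,
        Scheme.Hom.ker_apply, Scheme.Hom.comp_app, CommRingCat.hom_comp, ← RingHom.comap_ker]
      exact Ideal.map_comap_of_surjective _ (f.app_surjective V.1 V.2) _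
  · rintro ⟨hif, hK⟩
    haveI := hif
    haveI : IsAffineHom f := by
      refine ⟨fun V hV => ?_⟩
      haveI : IsAffine ((i ⁻¹ᵁ (f ⁻¹ᵁ V)) : Scheme.{u}) := hV.preimage (i ≫ f)
      refine Groth.L20.ThickAffine.isAffine_of_sq_zero (i ∣_ (f ⁻¹ᵁ V)) (fun x => ?_)
        (Groth.L20.ThickAffine.sq_zero_of_local _ fun U x hx => ?_)
      · obtain ⟨z, hz⟩ := hsurj ((f ⁻¹ᵁ V).ι x)
        refine ⟨⟨z, show i z ∈ f ⁻¹ᵁ V from hz ▸ x.2⟩, Subtype.ext ?_⟩
        rw [morphismRestrict_base_coe]
        exact hz
      · obtain ⟨W, hW, hxW, hWU⟩ := exists_isAffineOpen_mem_and_subset (x := x) (U := U) hx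
        refine ⟨W, hxW, hWU, fun a b ha hb => ?_⟩
        have hA : IsAffineOpen ((f ⁻¹ᵁ V).ι ''ᵁ W) := hW.image_of_isOpenImmersion _
        have key : ∀ c : Γ((f ⁻¹ᵁ V : Scheme.{u}), W), (i ∣_ (f ⁻¹ᵁ V)).app W c = 0 →
            (show Γ(C, (f ⁻¹ᵁ V).ι ''ᵁ W) from c) ∈ i.ker.ideal ⟨_, hA⟩ := by
          intro c hc
          rw [Scheme.Hom.ker_apply, RingHom.mem_ker]
          rw [morphismRestrict_app] at hc
          haveI : IsIso (D.presheaf.map (eqToHom (image_morphismRestrict_preimage i (f ⁻¹ᵁ V) W)).op) := inferInstance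
          exact (ConcreteCategory.bijective_of_isIso
            (D.presheaf.map (eqToHom (image_morphismRestrict_preimage i (f ⁻¹ᵁ V) W)).op)).1 (hc.trans (map_zero _).symm)
        exact hsq ⟨_, hA⟩ _ _ (key a ha) (key b hb)
    refine isClosedImmersion_iff_isAffineHom.2 ⟨inferInstance, fun V hV a => ?_⟩
    let A : C.affineOpens := ⟨f ⁻¹ᵁ V, hV.preimage f⟩
    let φ := (f.app V).hom
    let J := (i ≫ f).ker.ideal ⟨V, hV⟩
    have hmap : J.map φ = i.ker.ideal A := by
      have := congrArg (fun I : C.IdealSheafData => I.ideal A) hK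
      rwa [Groth.L22.Ideals.comap_ideal f _ ⟨V, hV⟩ A le_rfl, ← Scheme.Hom.app_eq_appLE] at this
    have hker : i.ker.ideal A = RingHom.ker (i.app (f ⁻¹ᵁ V)).hom := Scheme.Hom.ker_apply i A
    have hdec : ∀ c : Γ(C, f ⁻¹ᵁ V), ∃ b, c - φ b ∈ i.ker.ideal A := by
      intro c
      obtain ⟨b, hb⟩ := (i ≫ f).app_surjective V hV (i.app (f ⁻¹ᵁ V) c)
      refine ⟨b, ?_⟩
      rw [hker, RingHom.mem_ker, map_sub, sub_eq_zero]
      exact hb.symm
    have hrange : ∀ x ∈ i.ker.ideal A, ∃ b, φ b = x := by
      intro x hx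
      rw [← hmap, Ideal.map] at hx
      induction hx using Submodule.span_induction with
      | mem x hx => obtain ⟨j, -, rfl⟩ := hx; exact ⟨j, rfl⟩
      | zero => exact ⟨0, map_zero _⟩
      | add x y _ _ hx hy =>
        obtain ⟨b, rfl⟩ := hx
        obtain ⟨b', rfl⟩ := hy
        exact ⟨b + b', map_add _ _ _⟩
      | smul c x hxs hx =>
        obtain ⟨b, rfl⟩ := hx
        obtain ⟨d, hd⟩ := hdec c
        refine ⟨d * b, ?_⟩
        have hb : φ b ∈ i.ker.ideal A := hmap ▸ (hxs : φ b ∈ Ideal.map φ J)
        have h0 := hsq A _ _ hd hb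
        rw [sub_mul, sub_eq_zero] at h0
        rw [smul_eq_mul, map_mul]
        exact h0.symm
    obtain ⟨b, hb⟩ := hdec a
    obtain ⟨b', hb'⟩ := hrange _ hb
    exact ⟨b + b', by
      show φ (b + b') = a
      rw [map_add, hb', add_sub_cancel]⟩

end Groth.Agent.S18343
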