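import Groth.Statements.S18344
import Groth.Agent.L12.LineLift.IdealKer
import Groth.Agent.L21.Bundle.Lines
import Groth.Agent.L15.FittFree
import Groth.Agent.L03.ShStab.RankOneSlope
import Groth.Agent.L16.AffineBC.Pullback
import Groth.Agent.L17.KilledUnit

set_option autoImplicit false
universe u
open CategoryTheory CategoryTheory.Limits AlgebraicGeometry
open MultCurve

set_option backward.isDefEq.respectTransparency.types false
set_option linter.style.haveILetI false
set_option backward.isDefEq.respectTransparency false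
namespace Groth.Agent.S18344

/-- Let C be a scheme and I ⊂ O_C a quasi-coherent ideal with I² = 0, and let D ⊂ C be the closed
subscheme it defines. Then the following are equivalent: (a) every point of C has an affine open
neighbourhood U on which I(U) is generated by one section z such that every a with a z = 0 lies in
I(U); (b) the conormal sheaf of D in C (the ideal I regarded as an O_D-module, which makes sense
because I² = 0) is an invertible O_D-module. This identifies the line-bundle clause in the
definition of a ribbon with the section-level principal-of-order-two condition. -/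
theorem result (C : Scheme.{u}) (I : C.IdealSheafData)
    (hI : I ^ 2 = ⊥) :
    MultCurve.IsPrincipalOfOrder I 2 ↔ PicF.IsInvertible (Omega.conormal I.subschemeι) := by
  classical
  haveI : Surjective I.subschemeι := Groth.L12.LineLift.surjective_subschemeι I hI
  let G := ClSub.idealMod I
  let ι' := I.subschemeι
  let P := (Scheme.Modules.pullback ι').obj G
  have hC : Omega.conormal I.subschemeι = P := by
    show (Scheme.Modules.pullback I.subschemeι).obj (ClSub.idealMod I.subschemeι.ker) = _
    rw [Scheme.IdealSheafData.ker_subschemeι]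
  rw [hC]
  haveI : Coh.IsQCoh P := Groth.L16.AffineBC.isQCoh_pullback ι' G
  haveI := Groth.L17.KilledUnit.isIso_of_killed ι' G (Groth.L12.LineLift.killed_idealMod I hI)
  let η := (Scheme.Modules.pullbackPushforwardAdjunction ι').unit.app G
  have hbij : ∀ U : C.Opens, Function.Bijective (fun m : Γ(G, U) => Groth.L18.Frame.pull ι' G U m) := fun U =>
    ⟨fun a b hab => by
        have h2 := congrArg (fun v => (inv η).app U v) (show η.app U a = η.app U b from hab)
        have h3 : ∀ m, (inv η).app U (η.app U m) = m := fun m =>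
          congr($(congrArg (fun k => Scheme.Modules.Hom.app k U) (IsIso.hom_inv_id η)) m)
        exact (h3 a).symm.trans (h2.trans (h3 b)),
      fun v => ⟨(inv η).app U v,
        congr($(congrArg (fun k => Scheme.Modules.Hom.app k U) (IsIso.inv_hom_id η)) v)⟩⟩
  have hmem : ∀ (U : C.affineOpens) (a : Γ(C, U.1)), a ∈ I.ideal U ↔ ι'.app U.1 a = 0 := fun U a => by
    rw [← I.ker_subschemeι_app U]; exact RingHom.mem_ker
  constructor
  · intro h
    refine Groth.L21.Bundle.isInvertible_of_rank fun y => ?_
    obtain ⟨U, hyU, z, hz, hann⟩ := h (ι' y)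
    obtain ⟨m₀, hm₀⟩ := (Groth.L12.LineLift.app_eq_zero_iff_io I U.1 z).1
      ((hmem U z).1 (hz ▸ Ideal.mem_span_singleton_self z))
    have hV : IsAffineOpen (ι' ⁻¹ᵁ U.1) := U.2.preimage ι'
    let w : Γ(P, ι' ⁻¹ᵁ U.1) := Groth.L18.Frame.pull ι' G U.1 m₀
    let φ : (ULift.{u} (Fin 1) →₀ Γ(I.subscheme, ι' ⁻¹ᵁ U.1)) →ₗ[Γ(I.subscheme, ι' ⁻¹ᵁ U.1)] Γ(P, ι' ⁻¹ᵁ U.1) :=
      Finsupp.linearCombination _ (fun _ => w)
    have hφ : ∀ c, φ c = c default • w := fun c => by
      rw [Finsupp.linearCombination_apply, Finsupp.unique_single c, Finsupp.sum_single_index (zero_smul _ w), Finsupp.single_eq_same]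
    have hsurj : Function.Surjective φ := by
      intro v
      obtain ⟨m, rfl⟩ := (hbij U.1).2 v
      have h1 : Groth.Agent.L19.IdealInvertible.io I U.1 m ∈ I.ideal U :=
        (hmem U _).2 ((Groth.L12.LineLift.app_eq_zero_iff_io I U.1 _).2 ⟨m, rfl⟩)
      rw [hz, Ideal.mem_span_singleton'] at h1
      obtain ⟨c, hc⟩ := h1
      have h2 : m = c • m₀ := Groth.Agent.L19.IdealInvertible.io_inj I U.1
        (by rw [Groth.Agent.L19.IdealInvertible.io_smul, hm₀, hc])
      refine ⟨Finsupp.single default (ι'.app U.1 c), ?_⟩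
      rw [hφ, Finsupp.single_eq_same, h2]
      exact (Groth.L18.Frame.pull_smul ι' G c m₀).symm
    have hinj : Function.Injective φ := by
      refine (injective_iff_map_eq_zero φ).2 fun c hc => Finsupp.ext fun i => ?_
      obtain ⟨a, ha⟩ := ι'.app_surjective U.1 U.2 (c default)
      rw [hφ, ← ha, ← Groth.L18.Frame.pull_smul] at hc
      have h0 : a • m₀ = 0 := (hbij U.1).1 (hc.trans
        (map_zero (((Scheme.Modules.pullbackPushforwardAdjunction ι').unit.app G).app U.1).hom).symm)
      have h1 : a * z = 0 := by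
        rw [← hm₀, ← Groth.Agent.L19.IdealInvertible.io_smul, h0, Groth.L12.LineLift.io_zero]
      rw [Subsingleton.elim i default, ← ha, Finsupp.zero_apply]
      exact (hmem U a).1 (hann a (by simpa using h1))
    obtain ⟨π, -, hπ⟩ := Groth.L15.FittSheaf.exists_free_hom_of_sections P hV φ hsurj
    haveI := hπ hinj
    exact ⟨hV.fromSpec.opensRange, by rw [hV.opensRange_fromSpec]; exact hyU, ⟨(asIso π).symm⟩⟩
  · intro h x
    obtain ⟨y, rfl⟩ := ι'.surjective x
    obtain ⟨V₀, hyV₀, ⟨e⟩⟩ := Groth.L03.ShStab.RankOneSlope.rank_one_of_invertible h y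
    obtain ⟨O, hO, hOV⟩ := ι'.isClosedEmbedding.isInducing.isOpen_iff.1 V₀.2
    obtain ⟨U, hU, hyU, hUO⟩ := exists_isAffineOpen_mem_and_subset (x := ι' y) (U := ⟨O, hO⟩)
      (show y ∈ ι' ⁻¹' O from hOV ▸ hyV₀)
    refine ⟨⟨U, hU⟩, hyU, ?_⟩
    have hle : ι' ⁻¹ᵁ U ≤ V₀ := fun t ht => (Set.ext_iff.1 hOV t).1 (hUO ht)
    obtain ⟨φ, hsurj, hinj⟩ := Groth.L15.FittSheaf.exists_sections_of_free_hom P e.inv (hU.preimage ι') hle
    replace hinj := hinj inferInstance
    have hφ : ∀ c, φ c = c default • φ (Finsupp.single default 1) := fun c => by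
      conv_lhs => rw [Finsupp.unique_single c]
      rw [← Finsupp.smul_single_one, map_smul]
    obtain ⟨m₀, hm₀⟩ := (hbij U).2 (φ (Finsupp.single default 1))
    replace hm₀ : Groth.L18.Frame.pull ι' G U m₀ = φ (Finsupp.single default 1) := hm₀
    refine ⟨Groth.Agent.L19.IdealInvertible.io I U m₀, le_antisymm (fun a ha => ?_) ?_, fun a ha => ?_⟩
    · obtain ⟨m, hm⟩ := (Groth.L12.LineLift.app_eq_zero_iff_io I U a).1 ((hmem ⟨U, hU⟩ a).1 ha)
      obtain ⟨c, hc⟩ := hsurj (Groth.L18.Frame.pull ι' G U m)
      obtain ⟨b, hb⟩ := ι'.app_surjective U hU (c default)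
      rw [hφ, ← hb, ← hm₀, ← Groth.L18.Frame.pull_smul] at hc
      refine Ideal.mem_span_singleton'.2 ⟨b, ?_⟩
      rw [← Groth.Agent.L19.IdealInvertible.io_smul, (hbij U).1 hc, hm]
    · rw [Ideal.span_singleton_le_iff_mem]
      exact (hmem ⟨U, hU⟩ _).2 ((Groth.L12.LineLift.app_eq_zero_iff_io I U _).2 ⟨m₀, rfl⟩)
    · refine (hmem ⟨U, hU⟩ a).2 ?_
      have h0 : a • m₀ = 0 := Groth.Agent.L19.IdealInvertible.io_inj I U
        (by rw [Groth.Agent.L19.IdealInvertible.io_smul, Groth.L12.LineLift.io_zero]; simpa using ha)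
      have h1 : φ (ι'.app U a • Finsupp.single default 1) = 0 := by
        rw [map_smul, ← hm₀, ← Groth.L18.Frame.pull_smul, h0]
        exact map_zero (((Scheme.Modules.pullbackPushforwardAdjunction ι').unit.app G).app U).hom
      have h2 := DFunLike.congr_fun (hinj (h1.trans (map_zero φ).symm)) default
      simpa using h2

end Groth.Agent.S18344
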