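import Groth.Statements.S18346
import Groth.Agent.L19.OmegaSh.ExtendAlong

set_option autoImplicit false
set_option backward.isDefEq.respectTransparency.types false
set_option backward.isDefEq.respectTransparency false
set_option linter.style.haveILetI false
universe u
open CategoryTheory CategoryTheory.Limits AlgebraicGeometry
open MultCurve

namespace Groth.Agent.S18346

/-- Let k be a field and C a ribbon, locally of finite type over k, on the reduced connected scheme D
along i : D ⟶ C, with its restricted cotangent sequence 0 → L → Ω_C|_D → Ω_D → 0 presented by a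
universal k-derivation d₁ : O_C → Ω₁, a universal k-derivation d₂ : O_D → Ω₂, the map φ from the
conormal bundle L of D in C to i^*Ω₁ induced by d₁ and the map c : i^*Ω₁ → Ω₂ compatible with d₁ and
d₂, assumed short exact, that is, with φ injective. Let X be a scheme over k with a universal
k-derivation d₃ : O_X → Ω₃, let f : D ⟶ X be a morphism over k and let df : f^*Ω₃ → Ω₂ be the map
compatible with d₃ and d₂. Then f extends to a morphism C ⟶ X over k restricting to f on D if and
only if the pulled-back sequence splits, i.e. there is an O_D-linear g : f^*Ω₃ → i^*Ω₁ with g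
followed by c equal to df. (The published text treats the restricted cotangent sequence as short
exact for every ribbon and puts the extensions in bijection with such maps g. Short exactness holds
over a perfect field but not in general: for k of characteristic p and a ∈ k not a p-th power, the
ribbon Spec k[x]/((x^p − a)²) on D = Spec k(a^{1/p}) has φ = 0 and c an isomorphism, so for X = D
and f the identity the inverse of c is such a map g, while the ribbon admits no retraction. So short
exactness is assumed here, and this row states the existence part of the bijection. X may be any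
k-scheme.) -/
theorem result (k : Type u) [Field k] (D C : Scheme.{u}) (i : D ⟶ C)
    (pC : C ⟶ Spec (CommRingCat.of k)) [LocallyOfFiniteType pC] [ConnectedSpace D] (hR : MultCurve.IsRibbon i)
    (Ω₁ : C.Modules) (d₁ : OmegaSh.Der pC Ω₁) (hd₁ : OmegaSh.IsUniversal d₁)
    (Ω₂ : D.Modules) (d₂ : OmegaSh.Der (i ≫ pC) Ω₂) (hd₂ : OmegaSh.IsUniversal d₂)
    (φ : Omega.conormal i ⟶ (Scheme.Modules.pullback i).obj Ω₁) (hφ : OmegaSh.IsConormalDiff i d₁ φ)
    (c : (Scheme.Modules.pullback i).obj Ω₁ ⟶ Ω₂) (hc : OmegaSh.IsDiffCompat i d₁ d₂ c)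
    (hw : φ ≫ c = 0) (hS : (ShortComplex.mk φ c hw).ShortExact)
    (X : Scheme.{u}) (pX : X ⟶ Spec (CommRingCat.of k)) (f : D ⟶ X) (hf : f ≫ pX = i ≫ pC)
    (Ω₃ : X.Modules) (d₃ : OmegaSh.Der pX Ω₃) (hd₃ : OmegaSh.IsUniversal d₃)
    (df : (Scheme.Modules.pullback f).obj Ω₃ ⟶ Ω₂) (hdf : OmegaSh.IsDiffCompat f d₃ d₂ df) :
    (∃ g : C ⟶ X, i ≫ g = f ∧ g ≫ pX = pC) ↔
      ∃ s : (Scheme.Modules.pullback f).obj Ω₃ ⟶ (Scheme.Modules.pullback i).obj Ω₁, s ≫ c = df := by
  haveI := hR.1.1
  refine ⟨fun ⟨g, hg1, hg2⟩ => ?_, fun ⟨s, hs⟩ => ?_⟩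
  · obtain ⟨s, hs, -⟩ := Groth.L19.OmegaSh.ExtendAlong.exists_lift_of_extension i d₁ d₂ hc df hg2 hd₃ hg1 hdf
    exact ⟨s, hs⟩
  · obtain ⟨g, hg1, hg2, -⟩ := Groth.L19.OmegaSh.ExtendAlong.exists_extension i d₁ d₂ hφ hc hf df hdf hS hR.1.2.1 s hs
    exact ⟨g, hg1, hg2⟩

end Groth.Agent.S18346
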