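import Groth.Statements.S18348
import Groth.Agent.L19.OmegaSh.ExtendClass

set_option autoImplicit false
set_option backward.isDefEq.respectTransparency.types false
set_option backward.isDefEq.respectTransparency false
set_option linter.style.haveILetI false
universe w u
open CategoryTheory CategoryTheory.Limits AlgebraicGeometry
open MultCurve

namespace Groth.Agent.S18348

/-- Let k be a field and D a reduced connected scheme locally of finite type over k, with structure
morphism pD and a universal k-derivation d₂ : O_D → Ω₂. Let C and C′ be ribbons on D over k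
(k-schemes locally of finite type with closed immersions i, i′ of D over k making them ribbons),
each with its restricted cotangent sequence 0 → L → Ω_C|_D → Ω_D → 0 presented by a universal
k-derivation d₁ : O_C → Ω₁, the fixed universal k-derivation d₂ of D, the map φ from the conormal
bundle L of D in C to i^*Ω₁ induced by d₁ and the map c : i^*Ω₁ → Ω₂ compatible with d₁ and d₂,
assumed short exact, that is, with φ and φ′ injective, with classes e ∈ Ext¹(Ω₂, L) and e′ ∈
Ext¹(Ω₂, L′). Then C and C′ are isomorphic over D (by an isomorphism under D that is a k-morphism)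
if and only if there is an isomorphism of O_D-modules α : L ≅ L′ carrying e to e′. In particular a
ribbon with short exact restricted cotangent sequence is determined up to isomorphism over D by its
conormal bundle together with its class. (The published statement asserts the uniqueness for all
ribbons, treating the restricted cotangent sequence as short exact for every ribbon; it is so over a
perfect field but not in general: for k of characteristic p and a ∈ k not a p-th power, D = Spec
k(a^{1/p}) has Ext¹(Ω_D, L) = 0 for every L, yet the split ribbon with conormal bundle O_D and Spec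
k[x]/((x^p − a)²) are ribbons on D with conormal bundle O_D that are not isomorphic over D, the
second having φ = 0; so short exactness is assumed here for both ribbons. The published statement
also, for D proper over k, phrases the criterion as e = a·e′ with a a nonzero scalar, identifying
the automorphisms of the line bundle L with the nonzero constants; that identification needs Γ(D,
O_D) = k and fails, for example, for the projective line over a quadratic extension of k regarded as
a k-scheme, so the criterion is stated here with an arbitrary automorphism of the conormal bundle,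
in which form it holds for every reduced connected D.) -/
theorem result (k : Type u) [Field k] (D : Scheme.{u})
    (pD : D ⟶ Spec (CommRingCat.of k)) [LocallyOfFiniteType pD] [ConnectedSpace D]
    (Ω₂ : D.Modules) (d₂ : OmegaSh.Der pD Ω₂) (hd₂ : OmegaSh.IsUniversal d₂) [HasExt.{w} D.Modules]
    (C : Scheme.{u}) (i : D ⟶ C) (pC : C ⟶ Spec (CommRingCat.of k)) [LocallyOfFiniteType pC]
    (hp : i ≫ pC = pD) (hR : MultCurve.IsRibbon i)
    (Ω₁ : C.Modules) (d₁ : OmegaSh.Der pC Ω₁) (hd₁ : OmegaSh.IsUniversal d₁)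
    (φ : Omega.conormal i ⟶ (Scheme.Modules.pullback i).obj Ω₁) (hφ : OmegaSh.IsConormalDiff i d₁ φ)
    (c : (Scheme.Modules.pullback i).obj Ω₁ ⟶ Ω₂) (hc : OmegaSh.IsDiffCompat i d₁ d₂ c)
    (hw : φ ≫ c = 0) (hS : (ShortComplex.mk φ c hw).ShortExact)
    (C' : Scheme.{u}) (i' : D ⟶ C') (pC' : C' ⟶ Spec (CommRingCat.of k)) [LocallyOfFiniteType pC']
    (hp' : i' ≫ pC' = pD) (hR' : MultCurve.IsRibbon i')
    (Ω₁' : C'.Modules) (d₁' : OmegaSh.Der pC' Ω₁') (hd₁' : OmegaSh.IsUniversal d₁')
    (φ' : Omega.conormal i' ⟶ (Scheme.Modules.pullback i').obj Ω₁') (hφ' : OmegaSh.IsConormalDiff i' d₁' φ')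
    (c' : (Scheme.Modules.pullback i').obj Ω₁' ⟶ Ω₂) (hc' : OmegaSh.IsDiffCompat i' d₁' d₂ c')
    (hw' : φ' ≫ c' = 0) (hS' : (ShortComplex.mk φ' c' hw').ShortExact) :
    (∃ ψ : C ≅ C', i ≫ ψ.hom = i' ∧ ψ.hom ≫ pC' = pC) ↔
      ∃ α : Omega.conormal i ≅ Omega.conormal i',
        hS.extClass.comp (Abelian.Ext.mk₀ α.hom) (add_zero 1) = hS'.extClass := by
  haveI := hR.1.1
  haveI := hR'.1.1
  have hsq := hR.1.2.1
  have hsq' := hR'.1.2.1
  subst hp
  refine ⟨fun ⟨ψ, hψi, hψk⟩ => ?_, fun ⟨α, hα⟩ => ?_⟩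
  · have hq : 𝟙 D ≫ i' = i ≫ ψ.hom := by rw [Category.id_comp, hψi]
    obtain ⟨β, hβ, -⟩ := Groth.L19.OmegaSh.existsUnique_conormalMap hq
    obtain ⟨s, hsc, hs⟩ :=
      Groth.L19.OmegaSh.ExtendAlong.exists_lift_of_extension i d₁ d₂ hc c' hψk hd₁' hψi hc'
    have h := Groth.L19.OmegaSh.ExtendAlong.extClass_comp hφ hφ' hψi hs hβ hS hS' hsc
    haveI := Groth.L19.OmegaSh.ExtendAlong.isIso_conormalMap hsq' hsq hψi hβ
    let e := asIso ((Scheme.Modules.pullbackId D).inv.app (Omega.conormal i') ≫ β)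
    refine ⟨e.symm, ?_⟩
    rw [← h, Abelian.Ext.comp_assoc_of_second_deg_zero, Abelian.Ext.mk₀_comp_mk₀, Iso.symm_hom]
    erw [e.hom_inv_id]
    exact Abelian.Ext.comp_mk₀_id _
  · obtain ⟨d₂', hd'⟩ : ∃ d' : OmegaSh.Der (i' ≫ pC') Ω₂, ∀ W a, d'.app W a = d₂.app W a := by
      rw [hp']; exact ⟨d₂, fun _ _ => rfl⟩
    have hc'' : OmegaSh.IsDiffCompat i' d₁' d₂' c' := fun U a => (hc' U a).trans (hd' _ _).symm
    have he : hS'.extClass.comp (Abelian.Ext.mk₀ α.inv) (add_zero 1) = hS.extClass := by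
      rw [← hα, Abelian.Ext.comp_assoc_of_second_deg_zero, Abelian.Ext.mk₀_comp_mk₀, Iso.hom_inv_id,
        Abelian.Ext.comp_mk₀_id]
    obtain ⟨x, hx⟩ := Abelian.Ext.covariant_sequence_exact₃ _ hS (Abelian.Ext.mk₀ c') (zero_add 1)
      (by
        rw [← he]
        exact hS'.comp_extClass_assoc _ _)
    obtain ⟨ρ₀, rfl⟩ := (Abelian.Ext.mk₀_bijective _ _).2 x
    rw [Abelian.Ext.mk₀_comp_mk₀] at hx
    have hρ₀ : ρ₀ ≫ c = c' := (Abelian.Ext.mk₀_bijective _ _).1 hx
    have h0 : (φ' ≫ ρ₀) ≫ c = 0 := by rw [Category.assoc, hρ₀, hw']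
    haveI : Mono (ShortComplex.mk φ c hw).f := hS.mono_f
    let β : Omega.conormal i' ⟶ Omega.conormal i := hS.exact.lift (φ' ≫ ρ₀) h0
    have hβ : β ≫ φ = φ' ≫ ρ₀ := hS.exact.lift_f _ h0
    let Φ : ShortComplex.mk φ' c' hw' ⟶ ShortComplex.mk φ c hw :=
      { τ₁ := β, τ₂ := ρ₀, τ₃ := 𝟙 Ω₂
        comm₁₂ := hβ, comm₂₃ := hρ₀.trans (Category.comp_id c').symm }
    have hn : hS'.extClass.comp (Abelian.Ext.mk₀ β) (add_zero 1) = hS.extClass :=
      (ShortComplex.ShortExact.extClass_naturality hS' hS Φ).trans (Abelian.Ext.mk₀_id_comp _)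
    have hdiff : hS'.extClass.comp (Abelian.Ext.mk₀ (β - α.inv)) (add_zero 1) = 0 := by
      have h1 : hS'.extClass.comp (Abelian.Ext.mk₀ (β - α.inv)) (add_zero 1) +
          hS'.extClass.comp (Abelian.Ext.mk₀ α.inv) (add_zero 1) = hS.extClass := by
        rw [← Abelian.Ext.comp_add, ← Abelian.Ext.mk₀_add, sub_add_cancel, hn]
      rw [he] at h1
      exact add_eq_right.mp h1
    obtain ⟨y, hy⟩ := Abelian.Ext.contravariant_sequence_exact₁ hS' _ _ (add_zero 1) hdiff
    obtain ⟨h, rfl⟩ := (Abelian.Ext.mk₀_bijective _ _).2 y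
    rw [Abelian.Ext.mk₀_comp_mk₀] at hy
    have hh : φ' ≫ h = β - α.inv := (Abelian.Ext.mk₀_bijective _ _).1 hy
    let ρ := ρ₀ - h ≫ φ
    have hρ1 : φ' ≫ ρ = α.inv ≫ φ := by
      rw [Preadditive.comp_sub, reassoc_of% hh, Preadditive.sub_comp, hβ, sub_sub_cancel]
    have hρ2 : ρ ≫ c = c' := by
      rw [Preadditive.sub_comp, hρ₀, Category.assoc, hw, comp_zero, sub_zero]
    let Ψ : ShortComplex.mk φ' c' hw' ⟶ ShortComplex.mk φ c hw :=
      { τ₁ := α.inv, τ₂ := ρ, τ₃ := 𝟙 Ω₂
        comm₁₂ := hρ1.symm, comm₂₃ := hρ2.trans (Category.comp_id c').symm }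
    haveI : IsIso Ψ.τ₁ := inferInstanceAs (IsIso α.inv)
    haveI : IsIso Ψ.τ₃ := inferInstanceAs (IsIso (𝟙 Ω₂))
    haveI : IsIso ρ := ShortComplex.isIso₂_of_shortExact_of_isIso₁₃ Ψ hS' hS
    obtain ⟨g, hgi, hgk, hgs⟩ :=
      Groth.L19.OmegaSh.ExtendAlong.exists_extension i d₁ d₂ hφ hc hp' c' hc' hS hsq ρ hρ2
    haveI := Groth.L19.OmegaSh.ExtendAlong.isIso_of_isExtLift d₂ hc hc'' hd' hS hS' hsq hsq' hφ hφ' hgi hgs hρ2
    exact ⟨asIso g, hgi, hgk⟩

end Groth.Agent.S18348
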