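import Groth.Statements.S1835
import Mathlib.RingTheory.KrullDimension.NonZeroDivisors
import Mathlib.RingTheory.KrullDimension.Basic
import Mathlib.RingTheory.HopkinsLevitzki
import Mathlib.RingTheory.IntegralClosure.IsIntegral.Basic
import Mathlib.RingTheory.Spectrum.Prime.Basic
import Mathlib.RingTheory.Ideal.MinimalPrime.Basic
import Mathlib.Algebra.Polynomial.Eval.Defs

set_option autoImplicit false
universe u
open CycAlg

namespace Groth.Agent.S1835

/-- Let R be a Noetherian local ring of dimension 1, a a nonzerodivisor in the maximal ideal and b a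
nonzerodivisor. There is an integer n such that whenever b = a^m c in some finite extension ring R ⊆
R', one has m ≤ n. -/
theorem result (R : Type u) [CommRing R] [IsNoetherianRing R] [IsLocalRing R] (hR : ringKrullDim R = 1) (a b : R) (ha : a ∈ nonZeroDivisors R) (ham : a ∈ IsLocalRing.maximalIdeal R) (hb : b ∈ nonZeroDivisors R) : ∃ n : ℕ, ∀ (R' : Type u) [CommRing R'] [Algebra R R'], Function.Injective (algebraMap R R') → Module.Finite R R' → ∀ (m : ℕ) (c : R'), algebraMap R R' b = algebraMap R R' a ^ m * c → m ≤ n := by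
  obtain ⟨N, hN⟩ : ∃ N : ℕ, b ∣ a ^ N := by
    by_cases hbu : IsUnit b
    · exact ⟨0, hbu.dvd⟩
    suffices h : a ∈ (Ideal.span {b}).radical by
      obtain ⟨N, hN⟩ := h
      exact ⟨N, Ideal.mem_span_singleton.1 hN⟩
    rw [Ideal.radical_eq_sInf, Ideal.mem_sInf]
    rintro q ⟨hbq, hq⟩
    by_contra haq
    haveI := hq
    have hqm : q < IsLocalRing.maximalIdeal R :=
      lt_of_le_of_ne (IsLocalRing.le_maximalIdeal hq.ne_top) fun h => haq (h ▸ ham)
    haveI : Ring.KrullDimLE 1 R := Ring.krullDimLE_iff.2 (by rw [hR]; rfl)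
    rcases Ring.krullDimLE_one_iff.1 inferInstance q hq with hmin | hmax
    · exact (Ideal.disjoint_nonZeroDivisors_of_mem_minimalPrimes hmin).le_bot
        ⟨hbq (Ideal.mem_span_singleton_self b), hb⟩
    · exact hqm.ne (IsLocalRing.eq_maximalIdeal hmax)
  refine ⟨N, fun R' _ _ hinj _ m c hbc => not_lt.1 fun hlt => ?_⟩
  obtain ⟨e, he⟩ := hN
  obtain ⟨p, hmon, hp⟩ := Algebra.IsIntegral.isIntegral (R := R) c
  rw [← Polynomial.aeval_def, Polynomial.aeval_eq_sum_range, Finset.sum_range_succ] at hp
  rw [hmon.coeff_natDegree, one_smul] at hp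
  set d := p.natDegree
  let x : R := a ^ (m - N) * e
  have hx : a ^ m = b * x := by
    simp only [x]
    rw [mul_left_comm, ← he, ← pow_add]
    congr 1
    omega
  let u : R := 1 + ∑ i ∈ Finset.range d, p.coeff i * x ^ (d - i)
  have key : b ^ d * u = 0 := by
    refine hinj ?_
    rw [map_zero, ← mul_zero ((algebraMap R R' a ^ m) ^ d), ← hp]
    simp only [u, map_mul, map_add, map_one, map_sum, map_pow, mul_add, Finset.mul_sum, mul_one, Algebra.smul_def]
    rw [add_comm]
    congr 1
    · refine Finset.sum_congr rfl fun i hi => ?_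
      obtain ⟨j, hj⟩ := Nat.exists_eq_add_of_le (Finset.mem_range.1 hi).le
      rw [hj, Nat.add_sub_cancel_left, pow_add, pow_add]
      have h2 : algebraMap R R' a ^ m = algebraMap R R' b * algebraMap R R' x := by
        rw [← map_pow, hx, map_mul]
      nth_rewrite 1 [hbc]
      rw [mul_pow, h2]
      ring
    · rw [hbc, mul_pow]
  have hu : IsUnit u := IsLocalRing.notMem_maximalIdeal.1 fun h => (IsLocalRing.maximalIdeal.isMaximal R).ne_top <|
    (Ideal.eq_top_iff_one _).2 <| (add_sub_cancel_right (1 : R) _).symm ▸ (IsLocalRing.maximalIdeal R).sub_mem h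
      (Ideal.sum_mem _ fun i hi => Ideal.mul_mem_left _ _ (Ideal.pow_mem_of_mem _
        (Ideal.mul_mem_right _ _ (Ideal.pow_mem_of_mem _ ham _ (by omega))) _ (by have := Finset.mem_range.1 hi; omega)))
  rw [hu.mul_left_eq_zero] at key
  exact nonZeroDivisors.ne_zero (pow_mem hb d) key

end Groth.Agent.S1835
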