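import Groth.Statements.S18352
import Groth.Agent.L21.Curve.NormalTotal
import Groth.Agent.L21.Smooth.Scheme

set_option autoImplicit false
universe u
open Curv2

namespace Groth.Agent.S18352

open CategoryTheory AlgebraicGeometry in
/-- Let S be an integral Noetherian scheme all of whose local rings are integrally closed domains, and
let f : C → S be a flat, proper, locally finitely presented morphism of schemes whose fibres are
geometrically reduced and geometrically connected, all of Krull dimension one, and whose fibre over
the generic point of S is smooth over the residue field there. Then every local ring of C is an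
integrally closed domain. The total space C is a scheme here; the source also allows an algebraic
space. -/
theorem result (S C : Scheme.{u}) [IsIntegral S] [IsNoetherian S]
    (hS : Pi1.IsNormalScheme S) (f : C ⟶ S) [Flat f] [IsProper f] [LocallyOfFinitePresentation f]
    [GeometricallyReduced f] [GeometricallyConnected f]
    (hdim : ∀ s : ↥S, topologicalKrullDim ↥(f.fiber s) = 1)
    (hsm : Smooth (f.fiberToSpecResidueField (genericPoint ↥S))) :
    Pi1.IsNormalScheme C := by
  refine Groth.L21.NormalTotal.isNormalScheme_of_flat f hS (fun s => inferInstance) fun y hy => ?_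
  haveI : IsLocallyNoetherian C := LocallyOfFiniteType.isLocallyNoetherian f
  haveI : Smooth (f.fiberToSpecResidueField (f y)) := hy ▸ hsm
  obtain ⟨π, hπ, hker, -⟩ := Groth.L21.Nodal.exists_fibre_stalk_hom f y
  have hA : IsField (S.presheaf.stalk (f y)) := hy ▸ Groth.L21.NormalTotal.isField_stalk_genericPoint' S
  rw [IsLocalRing.isField_iff_maximalIdeal_eq.1 hA, Ideal.map_bot] at hker
  let e : C.presheaf.stalk y ≃+* (f.fiber (f y)).presheaf.stalk (f.asFiber y) :=
    RingEquiv.ofBijective π ⟨(RingHom.injective_iff_ker_eq_bot π).2 hker, hπ⟩
  haveI : IsDomain ((f.fiber (f y)).presheaf.stalk (f.asFiber y)) :=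
    Groth.L21.Smooth.isDomain_stalk (k := S.residueField (f y)) (f.fiberToSpecResidueField (f y)) _
  haveI : IsIntegrallyClosed ((f.fiber (f y)).presheaf.stalk (f.asFiber y)) :=
    Groth.L21.Smooth.isIntegrallyClosed_stalk (k := S.residueField (f y)) (f.fiberToSpecResidueField (f y)) _
  exact ⟨e.toMulEquiv.isDomain _, IsIntegrallyClosed.of_equiv e.symm⟩

end Groth.Agent.S18352
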