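import Groth.Statements.S18353
import Groth.Agent.L21.Curve.NormalTotal
import Groth.Agent.L21.Curve.NormalConnected
import Groth.Agent.L21.Smooth.Scheme
import Groth.Agent.S2422
import Mathlib.AlgebraicGeometry.Geometrically.Connected

set_option autoImplicit false
universe u
open Curv2

namespace Groth.Agent.S18353

open CategoryTheory AlgebraicGeometry in
/-- Let S be an integral Noetherian scheme all of whose local rings are integrally closed domains, and
let f₁ : C₁ → S and f₂ : C₂ → S be flat, proper, locally finitely presented morphisms of schemes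
whose fibres are geometrically reduced and geometrically connected, all of Krull dimension one, and
whose fibres over the generic point of S are smooth. Let φ : C₁ → C₂ be a morphism over S which is
birational, in the sense that it restricts to an isomorphism over some dense open subset of C₂. Then
the canonical map O_{C₂} → φ_* O_{C₁} is an isomorphism: for every open V of C₂ the pull-back map
from sections over V to sections over φ⁻¹(V) is an isomorphism of rings. The total spaces are
schemes here; the source also allows algebraic spaces. -/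
theorem result (S C₁ C₂ : Scheme.{u}) [IsIntegral S]
    [IsNoetherian S] (hS : Pi1.IsNormalScheme S) (f₁ : C₁ ⟶ S) (f₂ : C₂ ⟶ S)
    [Flat f₁] [IsProper f₁] [LocallyOfFinitePresentation f₁] [GeometricallyReduced f₁] [GeometricallyConnected f₁]
    [Flat f₂] [IsProper f₂] [LocallyOfFinitePresentation f₂] [GeometricallyReduced f₂] [GeometricallyConnected f₂]
    (hdim₁ : ∀ s : ↥S, topologicalKrullDim ↥(f₁.fiber s) = 1) (hdim₂ : ∀ s : ↥S, topologicalKrullDim ↥(f₂.fiber s) = 1)
    (hsm₁ : Smooth (f₁.fiberToSpecResidueField (genericPoint ↥S)))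
    (hsm₂ : Smooth (f₂.fiberToSpecResidueField (genericPoint ↥S)))
    (φ : C₁ ⟶ C₂) (hφ : φ ≫ f₂ = f₁) (hbir : ∃ U : C₂.Opens, Dense (U : Set ↥C₂) ∧ IsIso (φ ∣_ U)) :
    ∀ V : C₂.Opens, IsIso (φ.app V) := by
  have hgen : ∀ (C : Scheme.{u}) (g : C ⟶ S) [Flat g] [IsProper g] [LocallyOfFinitePresentation g]
      [GeometricallyReduced g] [GeometricallyConnected g],
      Smooth (g.fiberToSpecResidueField (genericPoint ↥S)) → Pi1.IsNormalScheme C ∧ IsNoetherian C ∧ IsIntegral C := by
    intro C g _ _ _ _ _ hsm
    haveI : IsLocallyNoetherian C := LocallyOfFiniteType.isLocallyNoetherian g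
    have hN : Pi1.IsNormalScheme C := by
      refine Groth.L21.NormalTotal.isNormalScheme_of_flat g hS (fun s => inferInstance) fun y hy => ?_
      haveI : Smooth (g.fiberToSpecResidueField (g y)) := hy ▸ hsm
      obtain ⟨π, hπ, hker, -⟩ := Groth.L21.Nodal.exists_fibre_stalk_hom g y
      have hA : IsField (S.presheaf.stalk (g y)) := hy ▸ Groth.L21.NormalTotal.isField_stalk_genericPoint' S
      rw [IsLocalRing.isField_iff_maximalIdeal_eq.1 hA, Ideal.map_bot] at hker
      let e : C.presheaf.stalk y ≃+* (g.fiber (g y)).presheaf.stalk (g.asFiber y) :=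
        RingEquiv.ofBijective π ⟨(RingHom.injective_iff_ker_eq_bot π).2 hker, hπ⟩
      haveI : IsDomain ((g.fiber (g y)).presheaf.stalk (g.asFiber y)) :=
        Groth.L21.Smooth.isDomain_stalk (k := S.residueField (g y)) (g.fiberToSpecResidueField (g y)) _
      haveI : IsIntegrallyClosed ((g.fiber (g y)).presheaf.stalk (g.asFiber y)) :=
        Groth.L21.Smooth.isIntegrallyClosed_stalk (k := S.residueField (g y)) (g.fiberToSpecResidueField (g y)) _
      exact ⟨e.toMulEquiv.isDomain _, IsIntegrallyClosed.of_equiv e.symm⟩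
    haveI : CompactSpace C := QuasiCompact.compactSpace_of_compactSpace g
    haveI : IsNoetherian C := ⟨⟩
    haveI : ConnectedSpace C := GeometricallyConnected.connectedSpace g g.isOpenMap
    exact ⟨hN, inferInstance, Groth.L21.NormalTotal.isIntegral_of_connected fun x => (hN x).1⟩
  obtain ⟨hN₁, hNo₁, hI₁⟩ := hgen C₁ f₁ hsm₁
  obtain ⟨hN₂, hNo₂, hI₂⟩ := hgen C₂ f₂ hsm₂
  haveI : IsProper (φ ≫ f₂) := hφ ▸ inferInstance
  haveI : IsProper φ := IsProper.of_comp φ f₂
  obtain ⟨U, hUd, hUiso⟩ := hbir
  have hU : genericPoint C₂ ∈ U := ((genericPoint_spec C₂).mem_open_set_iff U.2).2 (by simpa using hUd.nonempty)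
  obtain ⟨x, hx⟩ := (Scheme.Hom.homeomorph (φ ∣_ U)).surjective ⟨genericPoint C₂, hU⟩
  have hx' : φ x.1 = genericPoint C₂ := by
    rw [← morphismRestrict_base_coe φ U x]
    exact congrArg Subtype.val hx
  have hηU : φ (genericPoint C₁) ∈ U := ((genericPoint_spec C₁).specializes (Set.mem_univ x.1)).mem_open
    (φ ⁻¹ᵁ U).2 x.2
  have hdom : φ.base (genericPoint C₁) ⤳ genericPoint C₂ :=
    hx' ▸ ((genericPoint_spec C₁).specializes (Set.mem_univ x.1)).map φ.continuous
  haveI : IsIso (φ.stalkMap (genericPoint C₁)) := by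
    have h := (MorphismProperty.isomorphisms CommRingCat.{u}).arrow_mk_iso_iff
      (morphismRestrictStalkMap φ U ⟨genericPoint C₁, hηU⟩)
    exact h.1 (show IsIso _ from inferInstance)
  have hbij : Function.Surjective (CohIII.stalkToFunctionField φ (genericPoint C₂) hdom) := by
    have hi : Inseparable (φ (genericPoint C₁)) (genericPoint C₂) :=
      hdom.antisymm ((genericPoint_spec C₂).specializes trivial)
    haveI : IsIso (C₂.presheaf.stalkSpecializes hdom) :=
      inferInstanceAs (IsIso (TopCat.Presheaf.stalkCongr C₂.presheaf hi.symm).hom)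
    exact (ConcreteCategory.bijective_of_isIso (C₂.presheaf.stalkSpecializes hdom ≫ φ.stalkMap (genericPoint C₁))).2
  exact Groth.Agent.S2422.result hN₂ φ hdom fun t _ => hbij t

end Groth.Agent.S18353
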