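import Groth.Statements.S18354
import Groth.Agent.L21.RedCurve.Points
import Groth.Agent.L21.CurveAdj.PointedVA

set_option autoImplicit false
set_option backward.isDefEq.respectTransparency false
universe u
open Curves CategoryTheory CategoryTheory.Limits AlgebraicGeometry

namespace Groth.Agent.S18354

open CategoryTheory CategoryTheory.Limits AlgebraicGeometry in
/-- For all natural numbers g and e there is a natural number D with the following property. For every
algebraically closed field k and every reduced, connected scheme X proper over k, of Krull dimension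
one, with finitely many and at most e irreducible components and with dim_k H^1(X, O_X) = g, there
is an invertible O_X-module L of degree at most D with H^1(X, L) = 0, together with a closed
immersion i of X into some projective space P^m_k over k with i^* O(1) ≅ L. The source phrases the
conclusion as the existence of an embedding of degree at most D and reduces it to this form at the
start of its proof; its genus is the arithmetic genus 1 − χ(O_X), which equals dim_k H^1(X, O_X) for
X reduced, connected and proper over an algebraically closed field. -/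
theorem result (g e : ℕ) :
    ∃ D : ℕ, ∀ (k : Type u) [Field k] [IsAlgClosed k] (X : Scheme.{u}) [X.Over (Spec (CommRingCat.of k))]
      [IsProper (X ↘ Spec (CommRingCat.of k))] [IsReduced X] [ConnectedSpace ↥X],
      topologicalKrullDim ↥X = 1 → (irreducibleComponents (↥X : Type u)).Finite →
      (irreducibleComponents (↥X : Type u)).ncard ≤ e → Curv2.genus k X = g →
      ∃ L : X.Modules, PicF.IsInvertible L ∧ Curv2.deg k X L 1 ≤ (D : ℤ) ∧ Subsingleton (Coh.HH X L 1) ∧
        ∃ (m : ℕ) (i : X ⟶ CohB1.ProjSpace m k), IsClosedImmersion i ∧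
          i ≫ CohB1.ProjSpace.toSpec m k = X ↘ Spec (CommRingCat.of k) ∧
          Nonempty ((Scheme.Modules.pullback i).obj (Twist.twistProjSpace m k 1) ≅ L) := by
  refine ⟨e * (2 * g + 1), fun k _ _ X _ _ _ _ hdim hfin hcard hg => ?_⟩
  classical
  haveI := Groth.L21.RR.isNoetherian_of_proper (X := X) k
  have hgen : ∀ z : X, ∃ w, ¬ IsClosed ({w} : Set X) ∧ w ⤳ z := Groth.L21.CurveDual.exists_nonclosed_gen hdim
  obtain ⟨L₁, hL₁, hon, hdeg⟩ := Groth.L21.RedCurve.Pts.exists_degOn_one (k := k) hdim.le hgen
  let L := CohB1.tensorPow L₁ (2 * g + 1)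
  have hL : PicF.IsInvertible L := Groth.L18.Ample.isInvertible_tensorPow hL₁ _
  have hon' : ∀ (y : X), ¬ IsClosed ({y} : Set X) → Groth.L21.CurveAdj.degOn k L
      (Scheme.IdealSheafData.vanishingIdeal ⟨closure {y}, isClosed_closure⟩) = 2 * g + 1 := fun y hy => by
    rw [Groth.L21.CurveAdj.degOn_pow hdim.le hL₁, hon y hy]
    push_cast
    ring
  have hJdeg : ∀ J : X.IdealSheafData, AlgebraicGeometry.IsReduced J.subscheme → ConnectedSpace J.subscheme →
      topologicalKrullDim J.subscheme = 1 →
      2 * (@Groth.L21.RR.h J.subscheme k _ ⟨J.subschemeι ≫ (X ↘ Spec (CommRingCat.of k))⟩ 1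
          (Coh.structureModule J.subscheme) : ℤ) + 1 ≤ Groth.L21.CurveAdj.degOn k L J := by
    intro J hred hconn hJ
    haveI := hred
    haveI := hconn
    have hgJ := Groth.L21.CurveAdj.gen_of_dim_one J hJ
    let N := (Groth.L22.CurveDeg.finite_nonclosed hdim.le).toFinset
    have hN : ∀ x, x ∈ N ↔ ¬ IsClosed ({x} : Set X) := fun x => Set.Finite.mem_toFinset _
    rw [Groth.L21.CurveAdj.degOn_eq_sum hdim.le hgen hL (Groth.L21.CurveAdj.van_of_isReduced hdim.le J hgJ) N hN,
      Finset.sum_congr rfl (fun y hy => hon' y ((hN y).1 (Finset.mem_filter.1 hy).1)), Finset.sum_const, nsmul_eq_mul]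
    obtain ⟨z⟩ := (inferInstance : Nonempty J.subscheme)
    obtain ⟨w, hwJ, hwn, -⟩ := hgJ (J.subschemeι z)
      (by rw [← Scheme.IdealSheafData.range_subschemeι]; exact ⟨z, rfl⟩)
    have h1 : (1 : ℤ) ≤ ((N.filter fun y => y ∈ (J.support : Set X)).card : ℤ) := by
      exact_mod_cast Finset.card_pos.2 ⟨w, Finset.mem_filter.2 ⟨(hN w).2 hwn, hwJ⟩⟩
    have h2 := Groth.L21.RedCurve.Pts.h1_subscheme_le (k := k) hdim.le J
    rw [hg] at h2
    refine le_trans ?_ (le_mul_of_one_le_left (by positivity) h1)
    push_cast
    omega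
  refine ⟨L, hL, ?_, Groth.L21.CurveAdj.subsingleton_h1_of_deg_subcurves hdim.le hL
    (fun J a b c => (le_add_of_nonneg_right zero_le_one).trans (hJdeg J a b c)),
    Groth.L21.RedCurve.VA.exists_closedImmersion_of_big k hdim.le hL (Groth.L21.CurveAdj.big_of_deg hdim.le hJdeg)⟩
  rw [Groth.L21.CurveAdj.deg_tensorPow hdim.le hL₁, hdeg]
  have h3 : Nat.card {y : X // ¬ IsClosed ({y} : Set X)} ≤ e := by
    refine le_trans ?_ hcard
    rw [← Nat.card_coe_set_eq]
    haveI := hfin.to_subtype
    refine Nat.card_le_card_of_injective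
      (fun y => (⟨closure {y.1}, Groth.L21.CurveAdj.closure_mem_components hdim.le y.2⟩ : irreducibleComponents (X : Type u)))
      fun a b h => Subtype.ext ?_
    have h' : closure {a.1} = closure {b.1} := congrArg Subtype.val h
    exact ((specializes_iff_closure_subset.2 h'.ge).antisymm (specializes_iff_closure_subset.2 h'.le)).eq
  calc _ ≤ ((2 * g + 1 : ℕ) : ℤ) * (e : ℤ) := mul_le_mul_of_nonneg_left (by exact_mod_cast h3) (by positivity)
    _ = _ := by push_cast; ring

end Groth.Agent.S18354
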