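import Groth.Statements.S18359
import Groth.Agent.L07.SmoothThru.Main

set_option autoImplicit false
set_option linter.style.haveILetI false
open CategoryTheory AlgebraicGeometry
universe u
open BlochOgus

set_option backward.isDefEq.respectTransparency false
set_option backward.isDefEq.respectTransparency.types false
namespace Groth.Agent.S18359

/-- Let i₁ : Z₁ → X₁ and i₂ : Z₂ → X₂ be closed immersions, f : X₂ → X₁ smooth of relative dimension n
and g : Z₂ → Z₁ smooth of relative dimension e with i₂ ≫ f = g ≫ i₁, and let T be a finite set of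
points of X₂ contained in one affine open of X₂; assume that e < n or that T lies in the image of
i₂. Then there are an open U ⊇ T of X₂ and a closed subscheme W of U through which Z₂ ∩ U factors,
such that W → X₁ is smooth and Z₂ ∩ U is the fibre product of W and Z₁ over X₁. (The published
statement concerns schemes separated and of finite type over a field or an excellent Dedekind
domain; this row assumes no base. The published statement also lets the finite set lie anywhere in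
X₂ and asks only that f and g be smooth; both relaxations fail over the family xy = t on the plane
with the origin removed, whose fibre over t = 0 is two disjoint punctured lines: with Z₂ one of
these lines and T one point on each line (so e = n = 1 and T leaves Z₂), or with Z₂ one line
together with a single point of the other line and T those two points (so g has relative dimension 1
on one part of Z₂ and 0 on the other), any such W would have to be the whole irreducible
neighbourhood U. The relative dimensions are therefore taken constant, and the finite set is taken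
inside Z₂ unless e < n, in which case the first local equation cutting out W can also be chosen
non-vanishing at the points of T off Z₂.) -/
theorem result
    (X₁ X₂ Z₁ Z₂ : Scheme.{u}) (i₁ : Z₁ ⟶ X₁) (i₂ : Z₂ ⟶ X₂)
    [IsClosedImmersion i₁] [IsClosedImmersion i₂]
    (f : X₂ ⟶ X₁) (g : Z₂ ⟶ Z₁) (n e : ℕ)
    [SmoothOfRelativeDimension n f] [SmoothOfRelativeDimension e g]
    (hsq : i₂ ≫ f = g ≫ i₁)
    (T : Set X₂) (hT : T.Finite) (hcase : e < n ∨ T ⊆ Set.range i₂.base)
    (V : X₂.Opens) (hV : IsAffineOpen V) (hTV : T ⊆ (V : Set X₂)) :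
    ∃ U : X₂.Opens, T ⊆ (U : Set X₂) ∧
      ∃ (W : Scheme.{u}) (k : W ⟶ (U : Scheme.{u}))
        (m : ((i₂ ⁻¹ᵁ U : Z₂.Opens) : Scheme.{u}) ⟶ W),
        IsClosedImmersion k ∧ m ≫ k = i₂ ∣_ U ∧ AlgebraicGeometry.Smooth (k ≫ U.ι ≫ f) ∧
          IsPullback m ((i₂ ⁻¹ᵁ U).ι ≫ g) (k ≫ U.ι ≫ f) i₁ := by
  haveI : IsAffine V.toScheme := hV
  haveI : SmoothOfRelativeDimension n (V.ι ≫ f) := by
    have := smoothOfRelativeDimension_comp (n := 0) (m := n) V.ι f
    rwa [Nat.zero_add] at this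
  haveI : SmoothOfRelativeDimension e ((i₂ ⁻¹ᵁ V).ι ≫ g) := by
    have := smoothOfRelativeDimension_comp (n := 0) (m := e) (i₂ ⁻¹ᵁ V).ι g
    rwa [Nat.zero_add] at this
  haveI : IsClosedImmersion (i₂ ∣_ V) := inferInstance
  have hsq' : (i₂ ∣_ V) ≫ V.ι ≫ f = ((i₂ ⁻¹ᵁ V).ι ≫ g) ≫ i₁ := by
    rw [← Category.assoc, morphismRestrict_ι, Category.assoc, hsq, Category.assoc]
  obtain ⟨U', hTU, W, k, m, hk, hmk, hsm, hpb⟩ := Groth.L07.SmoothThru.exists_smooth_through i₁ (i₂ ∣_ V)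
    (V.ι ≫ f) ((i₂ ⁻¹ᵁ V).ι ≫ g) n e hsq' (V.ι ⁻¹' T) (hT.preimage (V.ι.isOpenEmbedding.injective.injOn))
    (hcase.imp_right fun h y hy => by
      obtain ⟨z, hz⟩ := h hy
      have hzV : z ∈ i₂ ⁻¹ᵁ V := by
        show i₂ z ∈ V
        rw [hz]; exact y.2
      refine ⟨⟨z, hzV⟩, V.ι.isOpenEmbedding.injective ?_⟩
      rw [← Scheme.Hom.comp_apply, morphismRestrict_ι, Scheme.Hom.comp_apply]
      exact hz)
  refine ⟨V.ι ''ᵁ U', fun x hx => ⟨⟨x, hTV hx⟩, hTU (show V.ι ⟨x, hTV hx⟩ ∈ T from hx), rfl⟩, ?_⟩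
  let e₂ := V.ι.isoImage U'
  have he : e₂.hom ≫ (V.ι ''ᵁ U').ι = U'.ι ≫ V.ι := V.ι.isoImage_hom_ι U'
  have himg : (i₂ ⁻¹ᵁ V).ι ''ᵁ ((i₂ ∣_ V) ⁻¹ᵁ U') = i₂ ⁻¹ᵁ (V.ι ''ᵁ U') := image_morphismRestrict_preimage i₂ V U'
  let e₁ : (((i₂ ∣_ V) ⁻¹ᵁ U' : (i₂ ⁻¹ᵁ V).toScheme.Opens) : Scheme.{u}) ≅ ((i₂ ⁻¹ᵁ (V.ι ''ᵁ U') : Z₂.Opens) : Scheme.{u}) :=
    (i₂ ⁻¹ᵁ V).ι.isoImage ((i₂ ∣_ V) ⁻¹ᵁ U') ≪≫ Z₂.isoOfEq himg
  have he₁ : e₁.hom ≫ (i₂ ⁻¹ᵁ (V.ι ''ᵁ U')).ι = ((i₂ ∣_ V) ⁻¹ᵁ U').ι ≫ (i₂ ⁻¹ᵁ V).ι := by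
    simp [e₁, Scheme.Hom.isoImage_hom_ι]
  refine ⟨W, k ≫ e₂.hom, e₁.inv ≫ m, inferInstance, ?_, ?_, ?_⟩
  · rw [← cancel_mono (V.ι ''ᵁ U').ι, morphismRestrict_ι, ← cancel_epi e₁.hom]
    simp only [Category.assoc, Iso.hom_inv_id_assoc, he]
    rw [← Category.assoc m k, hmk, ← Category.assoc e₁.hom, he₁]
    simp [morphismRestrict_ι_assoc, Category.assoc]
  · rw [Category.assoc, ← Category.assoc e₂.hom, he, Category.assoc]
    exact hsm
  · refine hpb.of_iso e₁ (Iso.refl _) (Iso.refl _) (Iso.refl _) (by simp) ?_ ?_ (by simp)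
    · rw [Iso.refl_hom, Category.comp_id, ← Category.assoc e₁.hom, he₁, Category.assoc]
    · rw [Iso.refl_hom, Iso.refl_hom, Category.id_comp, Category.comp_id, Category.assoc,
        ← Category.assoc e₂.hom, he, Category.assoc]

end Groth.Agent.S18359
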