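import Groth.Statements.S1836
import Groth.Agent.L15.CommonFactor

set_option autoImplicit false
universe u
open CycAlg

namespace Groth.Agent.S1836

open Groth.L15.CommonFactor

/-- repeatedly split pairs meeting at a common maximal ideal -/
theorem euclid (A : Type u) [CommRing A] [IsNoetherianRing A] [IsLocalRing A]
    (hA : ringKrullDim A = 1) {r : ℕ} (a : Fin r → A) :
    ∀ (N : ℕ) (B : Type u) [CommRing B] [Algebra A B],
      CycAlg.IsFinExt A B (IsLocalRing.maximalIdeal A) → ∀ (S : Finset B),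
      (∀ x ∈ S, x ∈ nonZeroDivisors B) →
      (∀ i, algebraMap A B (a i) ∈ Submonoid.closure ({z : B | IsUnit z} ∪ ↑S)) →
      ∑ x ∈ S, len A B x ≤ N →
      ∃ (C : Type u) (_ : CommRing C) (_ : Algebra A C),
        CycAlg.IsFinExt A C (IsLocalRing.maximalIdeal A) ∧ ∃ T : Finset C,
          (∀ x ∈ T, x ∈ nonZeroDivisors C) ∧
          (∀ i, algebraMap A C (a i) ∈ Submonoid.closure ({z : C | IsUnit z} ∪ ↑T)) ∧
          ∀ q : Ideal C, q.IsMaximal → ∀ x ∈ T, ∀ y ∈ T, x ∈ q → y ∈ q → x = y := by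
  classical
  intro N
  induction N using Nat.strong_induction_on with
  | _ N ih =>
  intro B _ _ hB S hS hrep hsum
  by_cases hdone : ∀ q : Ideal B, q.IsMaximal → ∀ x ∈ S, ∀ y ∈ S, x ∈ q → y ∈ q → x = y
  · exact ⟨B, inferInstance, inferInstance, hB, S, hS, hrep, hdone⟩
  push_neg at hdone
  obtain ⟨q, hq, x, hx, y, hy, hxq, hyq, hxy⟩ := hdone
  obtain ⟨hinj, hfin, n, hn⟩ := hB
  have : IsNoetherianRing B := IsNoetherianRing.of_finite A B
  obtain ⟨C, _, _, _, _, hfinC, hBC, hnzd, ⟨w, hw, hwC⟩, t, a', b', ht, ha', hb', hta, htb, hone⟩ :=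
    exists_split A hA hinj x y (hS x hx) (hS y hy)
  have : Module.Finite A C := Module.Finite.trans B C
  have : IsNoetherianRing C := IsNoetherianRing.of_finite A C
  have hinjC : Function.Injective (algebraMap A C) := by
    rw [IsScalarTower.algebraMap_eq A B C]; exact hBC.comp hinj
  have : Algebra.IsIntegral B C := Algebra.IsIntegral.of_finite B C
  have hqprime := hq.isPrime
  obtain ⟨Q, -, hQ, hQc⟩ := Ideal.exists_ideal_over_prime_of_isIntegral q (⊥ : Ideal C) (by
    rw [← RingHom.ker_eq_comap_bot, (RingHom.injective_iff_ker_eq_bot _).mp hBC]; exact bot_le)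
  have htQ : t ∈ Q := by
    by_contra htQ
    have h1 : a' ∈ Q := (hQ.mem_or_mem (by rw [← hta, ← Ideal.mem_comap, hQc]; exact hxq : t * a' ∈ Q)).resolve_left htQ
    have h2 : b' ∈ Q := (hQ.mem_or_mem (by rw [← htb, ← Ideal.mem_comap, hQc]; exact hyq : t * b' ∈ Q)).resolve_left htQ
    exact hQ.ne_top (eq_top_iff.mpr (hone ▸ Ideal.span_le.mpr (by
      intro z hz; rcases hz with rfl | rfl <;> assumption)))
  have htpos := len_pos A hA hinjC ht Q htQ
  have hlen : ∀ z ∈ nonZeroDivisors B, len A C (algebraMap B C z) = len A B z := fun z hz =>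
    len_map A hA hinjC hBC hnzd hw hwC hz
  set R := (S.erase x).erase y
  let S' : Finset C := R.image (algebraMap B C) ∪ {t, a', b'}
  have hSsum : ∑ z ∈ S, len A B z = len A B x + (len A B y + ∑ z ∈ R, len A B z) := by
    rw [← Finset.add_sum_erase _ _ hx,
      ← Finset.add_sum_erase (S.erase x) _ (Finset.mem_erase.mpr ⟨Ne.symm hxy, hy⟩)]
  have hS'sum : ∑ z ∈ S', len A C z < ∑ z ∈ S, len A B z := by
    have hu : ∑ z ∈ S', len A C z ≤ ∑ z ∈ R.image (algebraMap B C), len A C z +
        ∑ z ∈ ({t, a', b'} : Finset C), len A C z := by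
      rw [← Finset.sum_union_inter]; exact Nat.le_add_right _ _
    have h1 : ∑ z ∈ R.image (algebraMap B C), len A C z = ∑ z ∈ R, len A B z := by
      rw [Finset.sum_image hBC.injOn]
      exact Finset.sum_congr rfl fun z hz =>
        hlen z (hS z (Finset.mem_of_mem_erase (Finset.mem_of_mem_erase hz)))
    have hins : ∀ (u : C) (F : Finset C), ∑ z ∈ insert u F, len A C z ≤ len A C u + ∑ z ∈ F, len A C z := by
      intro u F
      by_cases hu' : u ∈ F
      · rw [Finset.insert_eq_of_mem hu']; exact Nat.le_add_left _ _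
      · rw [Finset.sum_insert hu']
    have h2 : ∑ z ∈ ({t, a', b'} : Finset C), len A C z ≤ len A C t + (len A C a' + len A C b') := by
      refine (hins _ _).trans (Nat.add_le_add_left ((hins _ _).trans ?_) _)
      rw [Finset.sum_singleton]
    have h3 := hlen x (hS x hx)
    rw [hta, len_mul A hA hinjC ht ha'] at h3
    have h4 := hlen y (hS y hy)
    rw [htb, len_mul A hA hinjC ht hb'] at h4
    omega
  refine ih (∑ z ∈ S', len A C z) (lt_of_lt_of_le hS'sum hsum) C
    (finExt_trans A hA ⟨hinj, hfin, n, hn⟩ hBC hw hwC) S' ?_ (fun i => ?_) le_rfl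
  · intro z hz
    simp only [S', Finset.mem_union, Finset.mem_image, Finset.mem_insert, Finset.mem_singleton] at hz
    rcases hz with ⟨z0, hz0, rfl⟩ | rfl | rfl | rfl
    · exact hnzd _ (hS z0 (Finset.mem_of_mem_erase (Finset.mem_of_mem_erase hz0)))
    all_goals assumption
  · rw [IsScalarTower.algebraMap_apply A B C]
    have hle : Submonoid.closure ({z : B | IsUnit z} ∪ ↑S) ≤
        (Submonoid.closure ({z : C | IsUnit z} ∪ ↑S')).comap (algebraMap B C).toMonoidHom := by
      refine Submonoid.closure_le.mpr ?_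
      rintro z (hz | hz)
      · exact Submonoid.subset_closure (Or.inl (IsUnit.map (algebraMap B C) hz))
      · have hmem : ∀ v ∈ S', v ∈ Submonoid.closure ({z : C | IsUnit z} ∪ ↑S') := fun v hv =>
          Submonoid.subset_closure (Or.inr hv)
        change algebraMap B C z ∈ Submonoid.closure _
        by_cases h1 : z = x
        · rw [h1, hta]; exact mul_mem (hmem _ (by simp [S'])) (hmem _ (by simp [S']))
        by_cases h2 : z = y
        · rw [h2, htb]; exact mul_mem (hmem _ (by simp [S'])) (hmem _ (by simp [S']))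
        · exact hmem _ (Finset.mem_union_left _ (Finset.mem_image_of_mem _
            (Finset.mem_erase.mpr ⟨h2, Finset.mem_erase.mpr ⟨h1, hz⟩⟩)))
    exact hle (hrep i)

/-- Let A be a Noetherian local ring of dimension 1 and a₁, …, a_r (r ≥ 2) nonzerodivisors, not all
units. There is a finite extension ring A ⊆ B with B/A killed by a power of the maximal ideal such
that at every maximal ideal of B there is a nonzerodivisor π of the local ring B_𝔪 with each a_i
equal to a unit of B_𝔪 times a power of π. -/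
theorem result (A : Type u) [CommRing A] [IsNoetherianRing A] [IsLocalRing A] (hA : ringKrullDim A = 1) (r : ℕ) (hr : 2 ≤ r) (a : Fin r → A) (ha : ∀ i, a i ∈ nonZeroDivisors A) (hna : ∃ i, ¬ IsUnit (a i)) : ∃ (B : Type u) (_ : CommRing B) (_ : Algebra A B), CycAlg.IsFinExt A B (IsLocalRing.maximalIdeal A) ∧ ∀ q : MaximalSpectrum B, ∃ π : Localization.AtPrime q.asIdeal, π ∈ nonZeroDivisors (Localization.AtPrime q.asIdeal) ∧ ∀ i, ∃ (v : (Localization.AtPrime q.asIdeal)ˣ) (e : ℕ), algebraMap A (Localization.AtPrime q.asIdeal) (a i) = (v : Localization.AtPrime q.asIdeal) * π ^ e := by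
  classical
  have hid : CycAlg.IsFinExt A A (IsLocalRing.maximalIdeal A) :=
    ⟨fun _ _ h => h, inferInstance, 0, fun r _ b => ⟨r * b, rfl⟩⟩
  obtain ⟨C, _, _, hC, T, hT, hrep, hsep⟩ := euclid A hA a
    (∑ x ∈ Finset.univ.image a, Groth.L15.CommonFactor.len A A x) A hid (Finset.univ.image a)
    (fun x hx => by obtain ⟨i, -, rfl⟩ := Finset.mem_image.mp hx; exact ha i)
    (fun i => Submonoid.subset_closure (Or.inr (by simp))) le_rfl
  refine ⟨C, inferInstance, inferInstance, hC, fun q => ?_⟩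
  let L := Localization.AtPrime q.asIdeal
  have hunit : ∀ z ∉ q.asIdeal, IsUnit (algebraMap C L z) := fun z hz =>
    IsLocalization.map_units L (⟨z, hz⟩ : q.asIdeal.primeCompl)
  have hnz : ∀ z ∈ nonZeroDivisors C, algebraMap C L z ∈ nonZeroDivisors L := fun z hz =>
    IsLocalization.map_nonZeroDivisors_le q.asIdeal.primeCompl L ⟨z, hz, rfl⟩
  obtain ⟨π, hπ, hgen⟩ : ∃ π : L, π ∈ nonZeroDivisors L ∧
      ∀ x ∈ T, ∃ (v : Lˣ) (e : ℕ), algebraMap C L x = (v : L) * π ^ e := by
    by_cases h : ∃ x ∈ T, x ∈ q.asIdeal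
    · obtain ⟨x0, hx0, hx0q⟩ := h
      refine ⟨algebraMap C L x0, hnz _ (hT x0 hx0), fun x hx => ?_⟩
      by_cases hxq : x ∈ q.asIdeal
      · exact ⟨1, 1, by rw [hsep _ q.isMaximal x hx x0 hx0 hxq hx0q]; simp⟩
      · exact ⟨(hunit x hxq).unit, 0, by simp⟩
    · push_neg at h
      exact ⟨1, one_mem _, fun x hx => ⟨(hunit x (h x hx)).unit, 0, by simp⟩⟩
  refine ⟨π, hπ, fun i => ?_⟩
  rw [IsScalarTower.algebraMap_apply A C L]
  have h := hrep i
  generalize algebraMap A C (a i) = z at h ⊢
  induction h using Submonoid.closure_induction with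
  | mem z hz =>
    rcases hz with hz | hz
    · exact ⟨(IsUnit.map (algebraMap C L) hz).unit, 0, by simp⟩
    · exact hgen z hz
  | one => exact ⟨1, 0, by simp⟩
  | mul z z' _ _ hz hz' =>
    obtain ⟨v, e, h⟩ := hz
    obtain ⟨v', e', h'⟩ := hz'
    exact ⟨v * v', e + e', by rw [map_mul, h, h', Units.val_mul, pow_add]; ring⟩

end Groth.Agent.S1836
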