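import Groth.Statements.S18360
import Groth.Agent.L19.FiniteLift

set_option autoImplicit false
set_option backward.isDefEq.respectTransparency.types false
set_option backward.isDefEq.respectTransparency false
set_option linter.style.haveILetI false
universe u
open CategoryTheory CategoryTheory.Limits AlgebraicGeometry
open Alter

namespace Groth.Agent.S18360

/-- Let Y be a Noetherian scheme, i : F ⟶ Y a closed immersion and s : F' ⟶ F a finite surjective
morphism. Then there are a scheme Y' and a finite surjective morphism g : Y' ⟶ Y such that every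
irreducible component of F ×_Y Y', with its reduced closed-subscheme structure, is the source of an
F-morphism to F': for every reduced scheme G and every closed immersion ι : G ⟶ F ×_Y Y' whose image
is an irreducible component, there is φ : G ⟶ F' with φ ≫ s = ι ≫ pr₁. -/
theorem result {Y F F' : Scheme.{u}} [IsNoetherian Y]
    (i : F ⟶ Y) [IsClosedImmersion i] (s : F' ⟶ F) [IsFinite s] [Surjective s] :
    ∃ (Y' : Scheme.{u}) (g : Y' ⟶ Y), IsFinite g ∧ Surjective g ∧
      ∀ (G : Scheme.{u}) (ι : G ⟶ pullback i g) [IsClosedImmersion ι] [AlgebraicGeometry.IsReduced G],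
        Set.range ι.base ∈ irreducibleComponents ↥(pullback i g) →
          ∃ φ : G ⟶ F', φ ≫ s = ι ≫ pullback.fst i g := by
  obtain ⟨Y', g, hgf, hgs, H⟩ := Groth.L19.FiniteLift.exists_cover i s
  refine ⟨Y', g, hgf, hgs, fun G ι _ _ hG => ?_⟩
  have hirr : IsIrreducible (Set.range ι.base) := hG.1
  haveI : IrreducibleSpace G := by
    obtain ⟨ξ, hξ⟩ := QuasiSober.sober hirr ι.isClosedEmbedding.isClosed_range
    exact (Groth.L07.DimToolkit.irreducible_of_range_eq ι ξ hξ.def.symm).1
  haveI : IsIntegral G := isIntegral_of_irreducibleSpace_of_isReduced _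
  exact H G (ι ≫ pullback.fst i g) (ι ≫ pullback.snd i g) (by rw [Category.assoc, Category.assoc, pullback.condition])

end Groth.Agent.S18360
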