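import Groth.Statements.S18362
import Groth.Agent.L27.EtSite.SplitCover
import Groth.Agent.L01.Regular
import Mathlib.RingTheory.Unramified.Finite
import Mathlib.RingTheory.TotallySplit
import Mathlib.Algebra.Group.Pi.Units

set_option autoImplicit false
universe u
open SGA1t

namespace Groth.Agent.S18362

example : True := trivial

section
open Polynomial TensorProduct IsLocalRing

/-- A finite étale algebra over a strictly henselian local ring is split. -/
theorem exists_split (D C : Type u) [CommRing D] [HenselianLocalRing D] [IsSepClosed (ResidueField D)]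
    [CommRing C] [Algebra D C] [Module.Finite D C] [Algebra.Etale D C] :
    ∃ n : ℕ, Nonempty (C ≃ₐ[D] (Fin n → D)) := by
  haveI : Module.Free D C := Module.free_of_flat_of_isLocalRing
  obtain ⟨T, _, _, hff, _, het, hsp⟩ := Algebra.IsFiniteSplit.exists_tensorProduct_of_etale
    (R := D) (S := C) (n := Module.finrank D C) (by ext q; simp [Module.rankAtStalk_eq_finrank_of_free])
  obtain ⟨σ⟩ := Groth.L27.EtSite.exists_retraction_local D T
  letI : Algebra T D := σ.toRingHom.toAlgebra
  haveI : IsScalarTower D T D := IsScalarTower.of_algebraMap_eq fun x => (σ.commutes x).symm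
  obtain ⟨n, ⟨e⟩⟩ := Algebra.IsFiniteSplit.nonempty_algEquiv_fun T (T ⊗[D] C)
  haveI : Algebra.IsFiniteSplit D (D ⊗[T] (T ⊗[D] C)) := inferInstance
  haveI : Algebra.IsFiniteSplit D C := Algebra.IsFiniteSplit.of_algEquiv
    ((Algebra.TensorProduct.cancelBaseChange D T D D C).trans (Algebra.TensorProduct.lid D C))
  exact Algebra.IsFiniteSplit.nonempty_algEquiv_fun D C

variable {A : Type u} [CommRing A]

/-- A root extension of a strictly henselian ring along a nonunit is strictly henselian. -/
theorem strict_root [HenselianLocalRing A] [IsSepClosed (ResidueField A)] (p : ℕ) (hp : p ≠ 0) (f : A)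
    (hf : f ∈ maximalIdeal A) :
    ∃ (_ : HenselianLocalRing (AdjoinRoot (X ^ p - C f))),
      IsSepClosed (ResidueField (AdjoinRoot (X ^ p - C f))) := by
  let g : A[X] := X ^ p - C f
  have hg : g.Monic := monic_X_pow_sub_C f hp
  haveI : Module.Finite A (AdjoinRoot g) := hg.finite_adjoinRoot
  let ψ : AdjoinRoot g →+* ResidueField A := AdjoinRoot.lift (residue A) 0 (by
    simp [g, zero_pow hp, (residue_eq_zero_iff f).2 hf])
  have hψ : Function.Surjective ψ := fun x => by
    obtain ⟨a, rfl⟩ := residue_surjective x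
    exact ⟨AdjoinRoot.of g a, AdjoinRoot.lift_of _⟩
  have hmax : (RingHom.ker ψ).IsMaximal := RingHom.ker_isMaximal_of_surjective _ hψ
  have huniq : ∀ M : Ideal (AdjoinRoot g), M.IsMaximal → M = RingHom.ker ψ := fun M hM => by
    have hcm : M.comap (algebraMap A (AdjoinRoot g)) = maximalIdeal A :=
      eq_maximalIdeal (Ideal.isMaximal_comap_of_isIntegral_of_isMaximal M)
    refine (hmax.eq_of_le hM.ne_top fun z hz => ?_).symm
    obtain ⟨q, rfl⟩ := AdjoinRoot.mk_surjective z
    have hroot : AdjoinRoot.root g ∈ M := by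
      refine hM.isPrime.mem_of_pow_mem p ?_
      have h0 : AdjoinRoot.root g ^ p = AdjoinRoot.of g f := by
        have h := AdjoinRoot.eval₂_root g
        simpa [g, sub_eq_zero] using h
      rw [h0]
      exact (hcm.symm ▸ hf : f ∈ M.comap (algebraMap A (AdjoinRoot g)))
    have hq0 : q.coeff 0 ∈ maximalIdeal A := by
      refine (residue_eq_zero_iff _).1 ?_
      have : eval₂ (residue A) 0 q = 0 := by simpa [ψ, AdjoinRoot.lift_mk] using hz
      simpa using this
    rw [← X_mul_divX_add q, map_add, map_mul, AdjoinRoot.mk_X]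
    exact Ideal.add_mem _ (Ideal.mul_mem_right _ _ hroot)
      (hcm.symm ▸ hq0 : q.coeff 0 ∈ M.comap (algebraMap A (AdjoinRoot g)))
  haveI : IsLocalRing (AdjoinRoot g) := IsLocalRing.of_unique_max_ideal ⟨_, hmax, huniq⟩
  haveI : IsLocalHom (algebraMap A (AdjoinRoot g)) := ((IsLocalRing.local_hom_TFAE _).out 0 4).mpr
    (eq_maximalIdeal (Ideal.isMaximal_comap_of_isIntegral_of_isMaximal _))
  haveI : IsScalarTower A (ResidueField A) (ResidueField (AdjoinRoot g)) := IsScalarTower.of_algebraMap_eq fun s => rfl
  haveI : Module.Finite A (ResidueField (AdjoinRoot g)) :=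
    Module.Finite.of_surjective (IsScalarTower.toAlgHom A (AdjoinRoot g) (ResidueField (AdjoinRoot g))).toLinearMap
      residue_surjective
  haveI : Module.Finite (ResidueField A) (ResidueField (AdjoinRoot g)) :=
    Module.Finite.of_restrictScalars_finite A _ _
  haveI : Algebra.IsAlgebraic (ResidueField A) (ResidueField (AdjoinRoot g)) := Algebra.IsAlgebraic.of_finite _ _
  refine ⟨Groth.L05.henselianLocalRing_of_finite (A := A) (AdjoinRoot g), ?_⟩
  exact Algebra.IsAlgebraic.isSepClosed (F := ResidueField A) (E := ResidueField (AdjoinRoot g))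

theorem not_isUnit_away [IsLocalRing A] [IsDomain A] {f : A} (hfp : (Ideal.span {f}).IsPrime) (hf0 : f ≠ 0)
    {q : A} (hq : q ∈ maximalIdeal A) (hqf : q ∉ Ideal.span {f}) :
    ¬ IsUnit (algebraMap A (Localization.Away f) q) := by
  intro hu
  obtain ⟨n, a, ha⟩ := IsLocalization.Away.surj (x := f) (↑hu.unit⁻¹ : Localization.Away f)
  have h : algebraMap A (Localization.Away f) (q * a) = algebraMap A (Localization.Away f) (f ^ n) := by
    rw [map_mul, ← ha, ← mul_assoc, IsUnit.mul_val_inv, one_mul, map_pow]
  have hinj : Function.Injective (algebraMap A (Localization.Away f)) :=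
    IsLocalization.injective _ (powers_le_nonZeroDivisors_of_noZeroDivisors hf0)
  replace h := hinj h
  clear ha hu
  induction n generalizing a with
  | zero => exact (IsLocalRing.mem_maximalIdeal _).1 hq (IsUnit.of_mul_eq_one a (h.trans (pow_zero f)))
  | succ n ih =>
    rcases hfp.mem_or_mem (show q * a ∈ Ideal.span {f} from
      h ▸ Ideal.mem_span_singleton.2 (dvd_pow_self f n.succ_ne_zero)) with h1 | h1
    · exact hqf h1
    · obtain ⟨b, rfl⟩ := Ideal.mem_span_singleton.1 h1
      refine ih b (mul_left_cancel₀ hf0 ?_)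
      rw [← pow_succ', ← h]
      ring

variable (p : ℕ) [hp : Fact p.Prime] {F : Type u} [CommRing F] (c : F)

/-- The image of an unramified algebra in a `p`-th root extension is constant, if the base is `p`-adically separated. -/
theorem mem_range (hsep : ∀ x : F, (∀ n, x ∈ Ideal.span {(p : F)} ^ n) → x = 0)
    (B : Type u) [CommRing B] [Algebra F B] [Algebra.EssFiniteType F B] [Algebra.FormallyUnramified F B]
    (φ : B →ₐ[F] AdjoinRoot (X ^ p - C c)) (b : B) :
    φ b ∈ Set.range (algebraMap F (AdjoinRoot (X ^ p - C c))) := by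
  let g : F[X] := X ^ p - C c
  have hg : g.Monic := monic_X_pow_sub_C c hp.out.ne_zero
  change B →ₐ[F] AdjoinRoot g at φ
  change φ b ∈ Set.range (algebraMap F (AdjoinRoot g))
  let r := AdjoinRoot.root g
  let δ : AdjoinRoot g ⊗[F] AdjoinRoot g := r ⊗ₜ 1 - 1 ⊗ₜ r
  let J : Ideal (AdjoinRoot g ⊗[F] AdjoinRoot g) := Ideal.span {δ}
  have hker : ∀ z, Algebra.TensorProduct.lmul' F z = 0 → z ∈ J := fun z hz => by
    have h1 : (Ideal.Quotient.mkₐ F J).comp
        (Algebra.TensorProduct.includeLeft : AdjoinRoot g →ₐ[F] AdjoinRoot g ⊗[F] AdjoinRoot g) =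
        (Ideal.Quotient.mkₐ F J).comp Algebra.TensorProduct.includeRight :=
      AdjoinRoot.algHom_ext (Ideal.Quotient.eq.2 (Ideal.mem_span_singleton_self δ))
    have h2 : Ideal.Quotient.mkₐ F J = ((Ideal.Quotient.mkₐ F J).comp
        (Algebra.TensorProduct.includeLeft : AdjoinRoot g →ₐ[F] AdjoinRoot g ⊗[F] AdjoinRoot g)).comp
          (Algebra.TensorProduct.lmul' F) := by
      refine Algebra.TensorProduct.ext' fun x y => ?_
      rw [show (x ⊗ₜ[F] y) = (x ⊗ₜ[F] 1) * (1 ⊗ₜ[F] y) by simp, map_mul, map_mul]
      congr 1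
      · simp
      · simpa using (AlgHom.congr_fun h1 y).symm
    refine Ideal.Quotient.eq_zero_iff_mem.1 ((AlgHom.congr_fun h2 z).trans ?_)
    rw [AlgHom.comp_apply, hz, map_zero]
  have hδ : δ ^ p ∈ Ideal.span {(p : AdjoinRoot g ⊗[F] AdjoinRoot g)} := by
    obtain ⟨w, hw⟩ := exists_add_pow_prime_eq hp.out δ (1 ⊗ₜ[F] r)
    have hr : r ^ p = algebraMap F (AdjoinRoot g) c := by
      have h := AdjoinRoot.eval₂_root g
      simpa [g, sub_eq_zero, AdjoinRoot.algebraMap_eq] using h
    rw [sub_add_cancel, Algebra.TensorProduct.tmul_pow, Algebra.TensorProduct.tmul_pow, one_pow, hr,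
      show (algebraMap F (AdjoinRoot g) c) ⊗ₜ[F] (1 : AdjoinRoot g) = 1 ⊗ₜ[F] algebraMap F (AdjoinRoot g) c by
        rw [Algebra.algebraMap_eq_smul_one, TensorProduct.smul_tmul]] at hw
    refine Ideal.mem_span_singleton.2 ⟨-(δ * (1 ⊗ₜ[F] r) * w), ?_⟩
    linear_combination -hw
  rcases subsingleton_or_nontrivial F with hF | hF
  · haveI : Subsingleton (AdjoinRoot g) := (algebraMap F (AdjoinRoot g)).codomain_trivial
    exact ⟨0, Subsingleton.elim _ _⟩
  obtain ⟨t, ht, ht1⟩ := (Algebra.FormallyUnramified.iff_exists_tensorProduct (R := F) (S := B)).1 inferInstance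
  let w := Algebra.TensorProduct.map φ φ
  let d : AdjoinRoot g ⊗[F] AdjoinRoot g := φ b ⊗ₜ 1 - 1 ⊗ₜ φ b
  have hde : d * (1 - w t) = d := by
    have h := congrArg w (ht b)
    rw [map_mul, map_sub, Algebra.TensorProduct.map_tmul, Algebra.TensorProduct.map_tmul, map_one, map_zero] at h
    linear_combination h
  have heJ : 1 - w t ∈ J := hker _ (by
    have h := congrArg φ ht1
    rw [map_one] at h
    have h2 : Algebra.TensorProduct.lmul' F (w t) = φ (Algebra.TensorProduct.lmul' F t) :=
      AlgHom.congr_fun (show (Algebra.TensorProduct.lmul' F).comp w = φ.comp (Algebra.TensorProduct.lmul' F) from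
        Algebra.TensorProduct.ext' fun x y => by simp [w]) t
    rw [map_sub, map_one, h2, h, sub_self])
  have hpow : ∀ k : ℕ, d * (1 - w t) ^ k = d := by
    intro k
    induction k with
    | zero => rw [pow_zero, mul_one]
    | succ k ih => rw [pow_succ, ← mul_assoc, ih, hde]
  have hdiv : ∀ n : ℕ, ∃ z, d = (p : AdjoinRoot g ⊗[F] AdjoinRoot g) ^ n * z := fun n => by
    have h1 : (1 - w t) ^ p ∈ Ideal.span {(p : AdjoinRoot g ⊗[F] AdjoinRoot g)} := by
      obtain ⟨z, hz⟩ := Ideal.mem_span_singleton.1 heJ
      rw [hz, mul_pow]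
      exact Ideal.mul_mem_right _ _ hδ
    obtain ⟨z, hz⟩ := Ideal.mem_span_singleton.1 h1
    refine ⟨d * z ^ n, ?_⟩
    conv_lhs => rw [← hpow (p * n), pow_mul, hz, mul_pow]
    ring
  let pb := AdjoinRoot.powerBasisAux' hg
  have hdeg : g.natDegree = p := natDegree_X_pow_sub_C
  let j0 : Fin g.natDegree := ⟨0, hdeg.symm ▸ hp.out.pos⟩
  have h1 : pb j0 = 1 := by
    have h := (AdjoinRoot.powerBasis' hg).basis_eq_pow j0
    exact h.trans (pow_zero _)
  have hcoord : ∀ j, pb.repr 1 j = if j = j0 then 1 else 0 := fun j => by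
    rw [← h1, Module.Basis.repr_self, Finsupp.single_apply]
    simp [eq_comm]
  refine ⟨pb.repr (φ b) j0, pb.repr.injective (Finsupp.ext fun j => ?_)⟩
  rw [Algebra.algebraMap_eq_smul_one, map_smul, Finsupp.smul_apply, hcoord, smul_eq_mul]
  split_ifs with hj
  · rw [hj, mul_one]
  · rw [mul_zero]
    refine (hsep _ fun n => ?_).symm
    obtain ⟨z, hz⟩ := hdiv n
    let lam : AdjoinRoot g ⊗[F] AdjoinRoot g →ₗ[F] F :=
      (TensorProduct.lid F F).toLinearMap.comp (TensorProduct.map (pb.coord j) (pb.coord j0))
    have e := congrArg lam hz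
    rw [show (p : AdjoinRoot g ⊗[F] AdjoinRoot g) ^ n * z = ((p : F) ^ n) • z by
      rw [Algebra.smul_def, map_pow, map_natCast], map_smul] at e
    have e2 : lam d = pb.repr (φ b) j := by
      simp [lam, d, hcoord, hj]
    rw [Ideal.span_singleton_pow, Ideal.mem_span_singleton]
    exact ⟨lam z, e2.symm.trans e⟩

theorem map_injective [IsDomain A] {f : A} (hf0 : f ≠ 0) (p : ℕ) (hp : p ≠ 0)
    (h : (X ^ p - C (algebraMap A (Localization.Away f) f)) ∣ (X ^ p - C f).map (algebraMap A (Localization.Away f))) :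
    Function.Injective (AdjoinRoot.map (algebraMap A (Localization.Away f)) (X ^ p - C f)
      (X ^ p - C (algebraMap A (Localization.Away f) f)) h) := by
  refine (injective_iff_map_eq_zero _).2 fun z hz => ?_
  obtain ⟨q, rfl⟩ := AdjoinRoot.mk_surjective z
  have hinj : Function.Injective (algebraMap A (Localization.Away f)) :=
    IsLocalization.injective _ (powers_le_nonZeroDivisors_of_noZeroDivisors hf0)
  have hg : (X ^ p - C f).Monic := monic_X_pow_sub_C f hp
  have h2 : AdjoinRoot.mk (X ^ p - C (algebraMap A (Localization.Away f) f))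
      (q.map (algebraMap A (Localization.Away f))) = 0 := by
    rw [← hz, AdjoinRoot.map, AdjoinRoot.lift_mk, ← Polynomial.eval₂_map, ← AdjoinRoot.algebraMap_eq, ← aeval_def,
      AdjoinRoot.aeval_eq]
  rw [AdjoinRoot.mk_eq_zero] at h2 ⊢
  have hmap : (X ^ p - C f).map (algebraMap A (Localization.Away f)) = X ^ p - C (algebraMap A (Localization.Away f) f) := by
    simp
  rw [← hmap, ← (modByMonic_eq_zero_iff_dvd (hg.map _)), ← map_modByMonic _ hg] at h2
  rw [← modByMonic_eq_zero_iff_dvd hg]
  exact Polynomial.map_injective _ hinj (h2.trans (Polynomial.map_zero _).symm)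

theorem algEquiv_away_pi (f : A) (n : ℕ) :
    Nonempty (Localization.Away (algebraMap A (Fin n → A) f) ≃ₐ[A] (Fin n → Localization.Away f)) := by
  let ι : (Fin n → A) →ₐ[A] (Fin n → Localization.Away f) :=
    Pi.algHom _ _ fun i => (Algebra.ofId A (Localization.Away f)).comp (Pi.evalAlgHom A (fun _ : Fin n => A) i)
  let χ : Localization.Away (algebraMap A (Fin n → A) f) →ₐ[A] (Fin n → Localization.Away f) :=
    IsLocalization.liftAlgHom (M := Submonoid.powers (algebraMap A (Fin n → A) f)) (f := ι) (by
      rintro ⟨_, k, rfl⟩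
      show IsUnit (ι (algebraMap A (Fin n → A) f ^ k))
      rw [← map_pow, AlgHom.commutes]
      exact Pi.isUnit_iff.2 fun i => by simpa using (IsLocalization.Away.algebraMap_isUnit f).pow k)
  have hχ : ∀ x, χ (algebraMap _ _ x) = ι x := fun x => IsLocalization.lift_eq _ x
  refine ⟨AlgEquiv.ofBijective χ ⟨(injective_iff_map_eq_zero _).2 fun z hz => ?_, fun y => ?_⟩⟩
  · obtain ⟨k, x, hx⟩ := IsLocalization.Away.surj (algebraMap A (Fin n → A) f) z
    have h0 : ι x = 0 := by rw [← hχ, ← hx, map_mul, hz, zero_mul]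
    have h1 : ∀ i, ∃ m : ℕ, f ^ m * x i = 0 := fun i => by
      obtain ⟨⟨_, m, rfl⟩, hm⟩ := (IsLocalization.map_eq_zero_iff (Submonoid.powers f) (Localization.Away f) (x i)).1
        (congrFun h0 i)
      exact ⟨m, hm⟩
    choose m hm using h1
    have h2 : algebraMap A (Fin n → A) f ^ (Finset.univ.sup m) * x = 0 := funext fun i => by
      show f ^ (Finset.univ.sup m) * x i = 0
      rw [← Nat.sub_add_cancel (Finset.le_sup (f := m) (Finset.mem_univ i)), pow_add, mul_assoc, hm, mul_zero]
    have hu := IsLocalization.Away.algebraMap_isUnit (S := Localization.Away (algebraMap A (Fin n → A) f)) (algebraMap A (Fin n → A) f)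
    have h3 := congrArg (algebraMap _ (Localization.Away (algebraMap A (Fin n → A) f))) h2
    rw [map_mul, map_pow, map_zero, (hu.pow _).mul_right_eq_zero, ← hx] at h3
    exact (hu.pow k).mul_left_eq_zero.1 h3
  · choose k a ha using fun i => IsLocalization.Away.surj f (y i)
    let K := Finset.univ.sup k
    have hu := IsLocalization.Away.algebraMap_isUnit (S := Localization.Away (algebraMap A (Fin n → A) f)) (algebraMap A (Fin n → A) f)
    refine ⟨algebraMap _ _ (fun i => a i * f ^ (K - k i)) * ↑(hu.pow K).unit⁻¹, funext fun i => ?_⟩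
    have e : χ (algebraMap _ _ (algebraMap A (Fin n → A) f)) = algebraMap A _ f := by
      rw [hχ, AlgHom.commutes]
    refine (IsUnit.mul_left_inj ((IsLocalization.Away.algebraMap_isUnit (S := Localization.Away f) f).pow K)).1 ?_
    have e2 := congrArg (fun z => χ z i)
      (show algebraMap _ _ (fun i => a i * f ^ (K - k i)) * ↑(hu.pow K).unit⁻¹ *
        algebraMap _ (Localization.Away (algebraMap A (Fin n → A) f)) (algebraMap A (Fin n → A) f) ^ K =
        algebraMap _ _ (fun i => a i * f ^ (K - k i)) by rw [mul_assoc, IsUnit.val_inv_mul, mul_one])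
    simp only [map_mul, map_pow, e, Pi.mul_apply, Pi.pow_apply, Pi.algebraMap_apply] at e2
    rw [map_mul, Pi.mul_apply, e2, hχ]
    show algebraMap A (Localization.Away f) (a i * f ^ (K - k i)) = _
    rw [map_mul, ← ha, map_pow, mul_assoc, ← pow_add, Nat.add_sub_cancel' (Finset.le_sup (f := k) (Finset.mem_univ i))]

end


/-- Let A be a regular local ring which is henselian with separably closed residue field of
characteristic p > 0, and let f be an element of A such that A/(f) is a regular local ring in which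
p is nonzero. Write A₁ = A[t]/(t^p - f) and let B be a finite étale algebra over A[1/f]. If there is
a finite étale A₁-algebra C₁ with C₁[1/f] isomorphic to A₁ ⊗_A B as A₁-algebras, then there is a
finite étale A-algebra C with C[1/f] isomorphic to B as A-algebras. The published statement also
assumes the cover connected and tamely ramified along f = 0; this row assumes neither, tameness
being automatic here because the generic point of the divisor f = 0 has residue characteristic zero. -/
theorem result {A : Type u} [CommRing A]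
    [IsRegularLocalRing A] [HenselianLocalRing A] [IsSepClosed (IsLocalRing.ResidueField A)]
    (p : ℕ) [Fact p.Prime] [CharP (IsLocalRing.ResidueField A) p] (f : A)
    (hreg : IsRegularLocalRing (A ⧸ Ideal.span {f})) (hp : (p : A) ∉ Ideal.span {f})
    (B : Type u) [CommRing B] [Algebra A B] [Algebra (Localization.Away f) B]
    [IsScalarTower A (Localization.Away f) B] [Module.Finite (Localization.Away f) B]
    [Algebra.Etale (Localization.Away f) B]
    (h : ∃ (C₁ : Type u) (_ : CommRing C₁) (_ : Algebra (AdjoinRoot (Polynomial.X ^ p - Polynomial.C f)) C₁),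
      Module.Finite (AdjoinRoot (Polynomial.X ^ p - Polynomial.C f)) C₁ ∧
      Algebra.Etale (AdjoinRoot (Polynomial.X ^ p - Polynomial.C f)) C₁ ∧
      Nonempty (Localization.Away (algebraMap (AdjoinRoot (Polynomial.X ^ p - Polynomial.C f)) C₁
          (AdjoinRoot.of (Polynomial.X ^ p - Polynomial.C f) f))
        ≃ₐ[AdjoinRoot (Polynomial.X ^ p - Polynomial.C f)]
          TensorProduct A (AdjoinRoot (Polynomial.X ^ p - Polynomial.C f)) B)) :
    ∃ (C : Type u) (_ : CommRing C) (_ : Algebra A C), Module.Finite A C ∧ Algebra.Etale A C ∧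
      Nonempty (Localization.Away (algebraMap A C f) ≃ₐ[A] B) := by
  classical

  haveI := Groth.L01.isDomain_of_regular A
  haveI := Groth.L01.isDomain_of_regular (A ⧸ Ideal.span {f})
  have hfp : (Ideal.span {f}).IsPrime := (Ideal.Quotient.isDomain_iff_prime _).1 inferInstance
  have hfm : f ∈ IsLocalRing.maximalIdeal A := by
    rw [← Ideal.span_singleton_le_iff_mem]
    exact IsLocalRing.le_maximalIdeal hfp.ne_top
  by_cases hf0 : f = 0
  · refine ⟨A, inferInstance, inferInstance, inferInstance, inferInstance, ?_⟩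
    subst hf0
    haveI : Subsingleton (Localization.Away (0 : A)) := IsLocalization.subsingleton (M := Submonoid.powers (0 : A)) ⟨1, pow_one 0⟩
    haveI : Subsingleton B := (algebraMap (Localization.Away (0 : A)) B).codomain_trivial
    haveI : Subsingleton (Localization.Away (algebraMap A A 0)) :=
      IsLocalization.subsingleton (M := Submonoid.powers (algebraMap A A 0)) ⟨1, (pow_one _).trans (map_zero _)⟩
    exact ⟨{
      toFun := fun _ => 0
      invFun := fun _ => 0
      left_inv := fun _ => Subsingleton.elim _ _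
      right_inv := fun _ => Subsingleton.elim _ _
      map_mul' := fun _ _ => Subsingleton.elim _ _
      map_add' := fun _ _ => Subsingleton.elim _ _
      commutes' := fun _ => Subsingleton.elim _ _ }⟩
  let F := Localization.Away f
  haveI : IsDomain F := IsLocalization.isDomain_localization (powers_le_nonZeroDivisors_of_noZeroDivisors hf0)
  haveI : IsNoetherianRing F := IsLocalization.isNoetherianRing (Submonoid.powers f) _ inferInstance
  have hpm : (p : A) ∈ IsLocalRing.maximalIdeal A := by
    rw [← IsLocalRing.residue_eq_zero_iff, map_natCast, CharP.cast_eq_zero]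
  have hpu : ¬ IsUnit (p : F) := by
    rw [← map_natCast (algebraMap A F)]
    exact not_isUnit_away hfp hf0 hpm hp
  have hsep : ∀ x : F, (∀ n, x ∈ Ideal.span {(p : F)} ^ n) → x = 0 := fun x hx => by
    have hb := Ideal.iInf_pow_eq_bot_of_isDomain (Ideal.span {(p : F)})
      (by rw [Ne, Ideal.span_singleton_eq_top]; exact hpu)
    rw [← Ideal.mem_bot, ← hb, Ideal.mem_iInf]
    exact hx
  obtain ⟨C₁, _, _, _, _, ⟨e₁⟩⟩ := h
  let g : Polynomial A := Polynomial.X ^ p - Polynomial.C f
  have hp0 : p ≠ 0 := (Fact.out : p.Prime).ne_zero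
  obtain ⟨hH, hS⟩ := strict_root p hp0 f hfm
  haveI := hH
  haveI := hS
  obtain ⟨r, ⟨e⟩⟩ := exists_split (AdjoinRoot g) C₁
  let g' : Polynomial F := Polynomial.X ^ p - Polynomial.C (algebraMap A F f)
  have hdvd : g' ∣ g.map (algebraMap A F) := dvd_of_eq (by simp [g, g'])
  let μ : AdjoinRoot g →+* AdjoinRoot g' := AdjoinRoot.map (algebraMap A F) g g' hdvd
  letI : Algebra (AdjoinRoot g) (AdjoinRoot g') := μ.toAlgebra
  haveI : IsScalarTower A (AdjoinRoot g) (AdjoinRoot g') := IsScalarTower.of_algebraMap_eq fun a => by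
    show _ = μ (AdjoinRoot.of g a)
    rw [AdjoinRoot.map_of, IsScalarTower.algebraMap_apply A F (AdjoinRoot g')]
    rfl
  have hfu : IsUnit (algebraMap A (AdjoinRoot g') f) := by
    rw [IsScalarTower.algebraMap_apply A F (AdjoinRoot g')]
    exact (IsLocalization.Away.algebraMap_isUnit f).map _
  let f₁ : C₁ := algebraMap (AdjoinRoot g) C₁ (AdjoinRoot.of g f)
  let ev : Fin r → C₁ →ₐ[AdjoinRoot g] AdjoinRoot g' := fun i =>
    ((Algebra.ofId (AdjoinRoot g) (AdjoinRoot g')).comp
      (Pi.evalAlgHom (AdjoinRoot g) (fun _ : Fin r => AdjoinRoot g) i)).comp e.toAlgHom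
  have hev : ∀ i c, ev i c = μ (e c i) := fun i c => rfl
  have hevf : ∀ i, ev i f₁ = algebraMap A (AdjoinRoot g') f := fun i =>
    (AlgHom.commutes _ _).trans (IsScalarTower.algebraMap_apply A (AdjoinRoot g) (AdjoinRoot g') f).symm
  let q : Fin r → Localization.Away f₁ →ₐ[AdjoinRoot g] AdjoinRoot g' := fun i =>
    IsLocalization.liftAlgHom (M := Submonoid.powers f₁) (f := ev i) (by
      rintro ⟨_, k, rfl⟩
      show IsUnit (ev i (f₁ ^ k))
      rw [map_pow, hevf]
      exact hfu.pow k)
  have hq : ∀ i c, q i (algebraMap C₁ _ c) = ev i c := fun i c => IsLocalization.lift_eq _ c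
  have hqinj : ∀ z, (∀ i, q i z = 0) → z = 0 := fun z hz => by
    obtain ⟨k, c, hc⟩ := IsLocalization.Away.surj f₁ z
    have h0 : c = 0 := e.injective (funext fun i => map_injective hf0 p hp0 hdvd (by
      rw [map_zero, Pi.zero_apply]
      refine Eq.trans ?_ (map_zero μ).symm
      show μ (e c i) = 0
      rw [← hev, ← hq, ← hc, map_mul, hz, zero_mul]))
    rw [h0, map_zero] at hc
    exact ((IsLocalization.Away.algebraMap_isUnit (S := Localization.Away f₁) f₁).pow k).mul_left_eq_zero.1 hc
  let inc : B →+* Localization.Away f₁ :=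
    e₁.symm.toRingEquiv.toRingHom.comp
      (Algebra.TensorProduct.includeRight : B →ₐ[A] TensorProduct A (AdjoinRoot g) B).toRingHom
  let φA : Fin r → B →ₐ[A] AdjoinRoot g' := fun i =>
    { (q i).toRingHom.comp inc with
      commutes' := fun a => by
        show q i (e₁.symm ((1 : AdjoinRoot g) ⊗ₜ[A] algebraMap A B a)) = _
        rw [← Algebra.TensorProduct.includeRight_apply, AlgHom.commutes,
          IsScalarTower.algebraMap_apply A (AdjoinRoot g) (TensorProduct A (AdjoinRoot g) B), AlgEquiv.commutes,
          AlgHom.commutes, ← IsScalarTower.algebraMap_apply] }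
  have hφF : ∀ i (x : F), φA i (algebraMap F B x) = algebraMap F (AdjoinRoot g') x := fun i x =>
    AlgHom.congr_fun (IsLocalization.algHom_ext (Submonoid.powers f)
      (f := (φA i).comp (IsScalarTower.toAlgHom A F B)) (g := IsScalarTower.toAlgHom A F (AdjoinRoot g'))
      (Algebra.ext_id _ _ _)) x
  let φ : Fin r → B →ₐ[F] AdjoinRoot g' := fun i => { (φA i).toRingHom with commutes' := hφF i }
  have hg' : g'.Monic := Polynomial.monic_X_pow_sub_C _ hp0
  have halg : Function.Injective (algebraMap F (AdjoinRoot g')) :=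
    AdjoinRoot.of.injective_of_degree_ne_zero (by
      rw [Polynomial.degree_X_pow_sub_C (Nat.pos_of_ne_zero hp0)]
      exact_mod_cast hp0)
  have hval : ∀ i b, ∃ y : F, algebraMap F (AdjoinRoot g') y = φ i b := fun i b =>
    mem_range p (algebraMap A F f) hsep B (φ i) b
  choose ψ hψ using hval
  let Ψ : B →ₐ[A] (Fin r → F) :=
    { toFun := fun b i => ψ i b
      map_one' := funext fun i => halg (by rw [hψ, map_one]; exact (map_one _).symm)
      map_mul' := fun x y => funext fun i => halg (by rw [hψ, Pi.mul_apply, map_mul, map_mul, hψ, hψ])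
      map_zero' := funext fun i => halg (by rw [hψ, map_zero]; exact (map_zero _).symm)
      map_add' := fun x y => funext fun i => halg (by rw [hψ, Pi.add_apply, map_add, map_add, hψ, hψ])
      commutes' := fun a => funext fun i => halg (by
        rw [hψ, Pi.algebraMap_apply, IsScalarTower.algebraMap_apply A F B]
        exact hφF i _) }
  have hinj : Function.Injective Ψ := (injective_iff_map_eq_zero Ψ).2 fun b hb => by
    haveI : Module.Flat A B := Module.Flat.trans A F B
    have hincl : Function.Injective (fun b : B => (1 : AdjoinRoot g) ⊗ₜ[A] b) :=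
      Algebra.TensorProduct.includeRight_injective (AdjoinRoot.of.injective_of_degree_ne_zero (by
        rw [Polynomial.degree_X_pow_sub_C (Nat.pos_of_ne_zero hp0)]
        exact_mod_cast hp0))
    refine hincl (e₁.symm.injective ?_)
    show inc b = e₁.symm ((1 : AdjoinRoot g) ⊗ₜ[A] (0 : B))
    rw [TensorProduct.tmul_zero, map_zero]
    refine hqinj _ fun i => ?_
    show φ i b = 0
    rw [← hψ, show ψ i b = 0 from congrFun hb i, map_zero]
  have hsurj : Function.Surjective Ψ := fun y => by
    let pb := AdjoinRoot.powerBasisAux' hg'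


    obtain ⟨lam, hlam⟩ : ∃ lam : AdjoinRoot g' →ₗ[F] F, lam 1 = 1 := by
      have hd : g'.natDegree = p := Polynomial.natDegree_X_pow_sub_C
      let j0 : Fin g'.natDegree := ⟨0, hd.symm ▸ Nat.pos_of_ne_zero hp0⟩
      refine ⟨pb.coord j0, ?_⟩
      have h1 : pb j0 = 1 := by
        have h := (AdjoinRoot.powerBasis' hg').basis_eq_pow j0
        exact h.trans (pow_zero _)
      rw [← h1, Module.Basis.coord_apply, Module.Basis.repr_self, Finsupp.single_eq_same]
    have key : ∀ z : TensorProduct A (AdjoinRoot g) B,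
        (fun i => lam (q i (e₁.symm z))) ∈ LinearMap.range Ψ.toLinearMap := fun z => by
      induction z using TensorProduct.induction_on with
      | zero => simp only [map_zero]; exact zero_mem _
      | tmul a b =>
        refine ⟨algebraMap F B (lam (algebraMap (AdjoinRoot g) (AdjoinRoot g') a)) * b, funext fun i => ?_⟩
        show ψ i _ = lam (q i (e₁.symm (a ⊗ₜ[A] b)))
        apply halg
        rw [hψ, map_mul, AlgHom.commutes, show (a ⊗ₜ[A] b) = a • ((1 : AdjoinRoot g) ⊗ₜ[A] b) by
          rw [TensorProduct.smul_tmul', smul_eq_mul, mul_one], map_smul, map_smul]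
        rw [show q i (e₁.symm ((1 : AdjoinRoot g) ⊗ₜ[A] b)) = φ i b from rfl]
        rw [← hψ i b, Algebra.smul_def, mul_comm (algebraMap (AdjoinRoot g) (AdjoinRoot g') a), ← Algebra.smul_def (ψ i b) (algebraMap (AdjoinRoot g) (AdjoinRoot g') a),
          map_smul, smul_eq_mul, map_mul, mul_comm]
      | add z w hz hw => simp only [map_add]; exact add_mem hz hw
    have hsingle : ∀ i, Pi.single i (1 : F) ∈ LinearMap.range Ψ.toLinearMap := fun i => by
      obtain ⟨c, hc⟩ := e.surjective (Pi.single i 1)
      convert key (e₁ (algebraMap C₁ _ c)) using 1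
      funext j
      rw [e₁.symm_apply_apply, hq, hev, hc]
      by_cases hji : j = i
      · subst hji; rw [Pi.single_eq_same, Pi.single_eq_same, map_one, hlam]
      · rw [Pi.single_eq_of_ne hji, Pi.single_eq_of_ne hji, map_zero, map_zero]
    choose bs hbs using hsingle
    refine ⟨∑ i, algebraMap F B (y i) * bs i, funext fun j => ?_⟩
    have hF : ∀ x : F, ψ j (algebraMap F B x) = x := fun x => halg (by rw [hψ]; exact hφF j x)
    rw [map_sum, Finset.sum_apply]
    refine (Finset.sum_congr rfl fun i _ => ?_).trans (Fintype.sum_pi_single j y)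
    show Ψ (algebraMap F B (y i) * bs i) j = _
    rw [map_mul, Pi.mul_apply, show Ψ (bs i) = Pi.single i 1 from hbs i, show Ψ (algebraMap F B (y i)) j = y i from hF _,
      Pi.single_apply, Pi.single_apply]
    split_ifs with h1 <;> simp_all
  obtain ⟨eπ⟩ := algEquiv_away_pi f r
  exact ⟨Fin r → A, inferInstance, inferInstance, inferInstance, inferInstance,
    ⟨eπ.trans (AlgEquiv.ofBijective Ψ ⟨hinj, hsurj⟩).symm⟩⟩

end Groth.Agent.S18362
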