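import Mathlib.Algebra.Category.ModuleCat.Ext.HasExt
import Mathlib.Algebra.Homology.DerivedCategory.Ext.Linear
import Mathlib.RingTheory.KrullDimension.Basic
import Mathlib.RingTheory.Nilpotent.Defs
import Mathlib.RingTheory.LocalRing.MaximalIdeal.Basic
import Mathlib.RingTheory.Noetherian.Basic
import Mathlib.RingTheory.Ideal.Quotient.Basic
import Mathlib.RingTheory.Finiteness.Defs
import Mathlib.Algebra.GroupWithZero.NonZeroDivisors
import Mathlib.Algebra.Category.ModuleCat.Ext.HasExt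
import Mathlib.Algebra.Homology.DerivedCategory.Ext.ExactSequences
import Mathlib.Algebra.Homology.ShortComplex.ModuleCat
import Mathlib.RingTheory.Ideal.MinimalPrime.Noetherian
import Mathlib.RingTheory.Ideal.AssociatedPrime.Basic
import Mathlib.RingTheory.Nakayama
import Mathlib.Algebra.Module.Torsion.Basic
import Mathlib.LinearAlgebra.Dual.Lemmas
import Mathlib.RingTheory.Nilpotent.Lemmas
import Mathlib.Order.KrullDimension

set_option autoImplicit false
namespace CAlg
end CAlg
universe u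
open CategoryTheory
open CAlg

namespace Groth.Agent.S18363

/-- Let R be a Noetherian local ring with maximal ideal m, and P, Q ideals of R such that P + Q contains
a power of m while R/P and R/Q are both reduced of Krull dimension one. Let I and J be nonzero
finitely generated R-modules with P·I = 0 and Q·J = 0, such that every element of R whose class in
R/P is a non-zero-divisor acts injectively on I, and every element whose class in R/Q is a
non-zero-divisor acts injectively on J. Then the group Ext¹_R(I, J) is nonzero. (This is the stalk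
statement behind the existence of a non-split extension of a torsion-free rank-one sheaf on a
subcurve Y by one on a subcurve Z of a reduced projective curve, at a point where Y and Z meet
without sharing a component; in that situation the modules moreover have rank one at the generic
points of their supports and P ∩ Q = 0, two assumptions the argument does not use.) -/
theorem result
    (R : Type u) [CommRing R] [IsNoetherianRing R] [IsLocalRing R]
    (P Q : Ideal R) (hPQ : ∃ n : ℕ, IsLocalRing.maximalIdeal R ^ n ≤ P ⊔ Q)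
    [IsReduced (R ⧸ P)] [IsReduced (R ⧸ Q)]
    (hPdim : ringKrullDim (R ⧸ P) = 1) (hQdim : ringKrullDim (R ⧸ Q) = 1)
    (I J : Type u) [AddCommGroup I] [Module R I] [Module.Finite R I] [Nontrivial I]
    [AddCommGroup J] [Module R J] [Module.Finite R J] [Nontrivial J]
    (hPI : ∀ p ∈ P, ∀ x : I, p • x = 0) (hQJ : ∀ q ∈ Q, ∀ y : J, q • y = 0)
    (hItf : ∀ r : R, Ideal.Quotient.mk P r ∈ nonZeroDivisors (R ⧸ P) → ∀ x : I, r • x = 0 → x = 0)
    (hJtf : ∀ r : R, Ideal.Quotient.mk Q r ∈ nonZeroDivisors (R ⧸ Q) → ∀ y : J, r • y = 0 → y = 0) :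
    Nontrivial (Abelian.Ext (ModuleCat.of R I) (ModuleCat.of R J) 1) := by
  have hQrad : Q.radical = Q := (Ideal.mk_ker (I := Q) ▸ (RingHom.ker_isRadical_iff_reduced_of_surjective
    (f := Ideal.Quotient.mk Q) Ideal.Quotient.mk_surjective).mpr inferInstance : Q.IsRadical).radical
  have hQle : Q ≤ IsLocalRing.maximalIdeal R := IsLocalRing.le_maximalIdeal fun h => by
    subst h
    haveI : Subsingleton (R ⧸ (⊤ : Ideal R)) := Ideal.Quotient.subsingleton_iff.mpr rfl
    rw [ringKrullDim_eq_bot_of_subsingleton] at hQdim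
    simp at hQdim
  have hle1 : Order.krullDim (PrimeSpectrum (R ⧸ Q)) ≤ 1 := hQdim.le
  rw [Order.krullDim_le_one_iff] at hle1
  have hmem : ∀ (a : Ideal R), a.IsPrime → Q ≤ a → ∀ (b : Ideal R), b.IsPrime → a < b →
      b = IsLocalRing.maximalIdeal R := by
    intro a ha hQa b hb hab
    by_contra hne
    have hker : RingHom.ker (Ideal.Quotient.mk Q) = Q := Ideal.mk_ker
    have hlift : ∀ c : Ideal R, c.IsPrime → Q ≤ c → (c.map (Ideal.Quotient.mk Q)).IsPrime ∧
        (c.map (Ideal.Quotient.mk Q)).comap (Ideal.Quotient.mk Q) = c := fun c hc hQc =>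
      ⟨Ideal.map_isPrime_of_surjective Ideal.Quotient.mk_surjective (hker.le.trans hQc), by
        rw [Ideal.comap_map_of_surjective' _ Ideal.Quotient.mk_surjective, hker, sup_eq_left.mpr hQc]⟩
    obtain ⟨ha1, ha2⟩ := hlift a ha hQa
    obtain ⟨hb1, hb2⟩ := hlift b hb (hQa.trans hab.le)
    obtain ⟨hm1, hm2⟩ := hlift _ inferInstance hQle
    rcases hle1 ⟨_, hb1⟩ with h | h
    · have := h (b := ⟨_, ha1⟩) (Ideal.map_mono hab.le)
      have := Ideal.comap_mono (f := Ideal.Quotient.mk Q) this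
      rw [ha2, hb2] at this
      exact hab.not_ge this
    · have := h (b := ⟨_, hm1⟩) (Ideal.map_mono (IsLocalRing.le_maximalIdeal hb.ne_top))
      have := Ideal.comap_mono (f := Ideal.Quotient.mk Q) this
      rw [hm2, hb2] at this
      exact hne (le_antisymm (IsLocalRing.le_maximalIdeal hb.ne_top) this)
  obtain ⟨N, hN⟩ := hPQ
  have hnotle : ∀ q ∈ Q.minimalPrimes, ¬ P ≤ q := by
    intro q hq hPq
    haveI := hq.1.1
    have hqm : q = IsLocalRing.maximalIdeal R :=
      ((IsLocalRing.maximalIdeal.isMaximal R).eq_of_le hq.1.1.ne_top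
        ((‹q.IsPrime›.radical) ▸ (fun x hx => ⟨N, (sup_le hPq hq.1.2) (hN (Ideal.pow_mem_pow hx N))⟩))).symm
    have hall : ∀ c : Ideal R, c.IsPrime → Q ≤ c → c = IsLocalRing.maximalIdeal R := fun c hc hQc =>
      le_antisymm (IsLocalRing.le_maximalIdeal hc.ne_top)
        (hqm ▸ hq.2 ⟨hc, hQc⟩ (hqm ▸ IsLocalRing.le_maximalIdeal hc.ne_top))
    haveI : Subsingleton (PrimeSpectrum (R ⧸ Q)) := ⟨fun x y => PrimeSpectrum.ext
      (Ideal.comap_injective_of_surjective _ Ideal.Quotient.mk_surjective (by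
        rw [hall (x.asIdeal.comap (Ideal.Quotient.mk Q)) (x.2.comap _)
            (fun a ha => by simp [Ideal.mem_comap, Ideal.Quotient.eq_zero_iff_mem.mpr ha]),
          hall (y.asIdeal.comap (Ideal.Quotient.mk Q)) (y.2.comap _)
            (fun a ha => by simp [Ideal.mem_comap, Ideal.Quotient.eq_zero_iff_mem.mpr ha])]))⟩
    have : Order.krullDim (PrimeSpectrum (R ⧸ Q)) ≤ 0 := Order.krullDim_nonpos_of_subsingleton
    rw [show Order.krullDim (PrimeSpectrum (R ⧸ Q)) = 1 from hQdim] at this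
    exact absurd this (not_le.mpr zero_lt_one)
  have hfin := Q.finite_minimalPrimes_of_isNoetherianRing R
  obtain ⟨y, hyP, hyq⟩ : ∃ y ∈ P, ∀ q ∈ Q.minimalPrimes, y ∉ q := by
    by_contra! hcon
    have hsub : (P : Set R) ⊆ ⋃ q ∈ (hfin.toFinset : Set (Ideal R)), (q : Set R) := fun x hx => by
      obtain ⟨q, hq, hxq⟩ := hcon x hx
      exact Set.mem_biUnion (hfin.mem_toFinset.mpr hq) hxq
    rw [Ideal.subset_union_prime ⊥ ⊥ fun q hq _ _ => (hfin.mem_toFinset.mp hq).1.1] at hsub
    obtain ⟨q, hq, hle⟩ := hsub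
    exact hnotle q (hfin.mem_toFinset.mp hq) hle
  have hyJ : ∀ x : J, y • x = 0 → x = 0 := by
    refine hJtf y (mem_nonZeroDivisors_iff_right.mpr fun x hx => ?_)
    obtain ⟨r, rfl⟩ := Ideal.Quotient.mk_surjective x
    rw [← map_mul, Ideal.Quotient.eq_zero_iff_mem] at hx
    rw [Ideal.Quotient.eq_zero_iff_mem, ← hQrad, ← Ideal.sInf_minimalPrimes, Submodule.mem_sInf]
    intro q hq
    exact (hq.1.1.mem_or_mem (hq.1.2 hx)).resolve_right (hyq q hq)
  have hym : y ∈ IsLocalRing.maximalIdeal R := IsLocalRing.le_maximalIdeal (fun h => by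
    subst h
    haveI : Subsingleton (R ⧸ (⊤ : Ideal R)) := Ideal.Quotient.subsingleton_iff.mpr rfl
    rw [ringKrullDim_eq_bot_of_subsingleton] at hPdim
    simp at hPdim) hyP
  let μ : J →ₗ[R] J := LinearMap.lsmul R J y
  let J' := J ⧸ LinearMap.range μ
  haveI : Nontrivial J' := by
    rw [Submodule.Quotient.nontrivial_iff]
    intro h
    refine (top_ne_bot : (⊤ : Submodule R J) ≠ ⊥) (Submodule.eq_bot_of_le_smul_of_le_jacobson_bot
      (IsLocalRing.maximalIdeal R) ⊤ Module.Finite.fg_top ?_ (IsLocalRing.maximalIdeal_le_jacobson _))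
    rw [← h]
    rintro _ ⟨x, rfl⟩
    rw [h]
    exact Submodule.smul_mem_smul hym Submodule.mem_top
  obtain ⟨q, hq⟩ := associatedPrimes.nonempty R J'
  obtain ⟨hqp, z, hz⟩ := (isAssociatedPrime_iff (R := R) (M := J')).mp hq
  have hyz : y • z = 0 := by
    obtain ⟨x, rfl⟩ := Submodule.Quotient.mk_surjective _ z
    rw [← Submodule.Quotient.mk_smul, Submodule.Quotient.mk_eq_zero]
    exact ⟨x, rfl⟩
  have hQz : ∀ a ∈ Q, a • z = 0 := by
    intro a ha
    obtain ⟨x, rfl⟩ := Submodule.Quotient.mk_surjective _ z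
    rw [← Submodule.Quotient.mk_smul, hQJ a ha, Submodule.Quotient.mk_zero]
  have hqmem : ∀ a, a ∈ q ↔ a • z = 0 := fun a => by
    rw [hz, Submodule.mem_colon_singleton, Submodule.mem_bot]
  have hqm : q = IsLocalRing.maximalIdeal R := by
    obtain ⟨q0, hq0, hq0q⟩ := Ideal.exists_minimalPrimes_le
      (show Q ≤ q from fun a ha => (hqmem a).mpr (hQz a ha))
    refine hmem q0 hq0.1.1 hq0.1.2 q hqp (lt_of_le_of_ne hq0q fun h => ?_)
    exact hyq q0 hq0 (h ▸ (hqmem y).mpr hyz)
  have hz0 : z ≠ 0 := fun h => hqp.ne_top ((Ideal.eq_top_iff_one _).mpr ((hqmem 1).mpr (by simp [h])))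
  let 𝔪 := IsLocalRing.maximalIdeal R
  let ι : (R ⧸ 𝔪) →ₗ[R] J' := Submodule.liftQ 𝔪 (LinearMap.toSpanSingleton R J' z)
    (fun a ha => (hqmem a).mp (hqm ▸ ha))
  letI : Field (R ⧸ 𝔪) := Ideal.Quotient.field 𝔪
  let V := I ⧸ (𝔪 • ⊤ : Submodule R I)
  haveI : Nontrivial V := by
    rw [Submodule.Quotient.nontrivial_iff]
    exact fun h => (top_ne_bot : (⊤ : Submodule R I) ≠ ⊥) (Submodule.eq_bot_of_le_smul_of_le_jacobson_bot
      𝔪 ⊤ Module.Finite.fg_top h.ge (IsLocalRing.maximalIdeal_le_jacobson _))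
  obtain ⟨v, hv⟩ := exists_ne (0 : V)
  obtain ⟨χ, hχ⟩ := not_forall.mp (mt (Module.forall_dual_apply_eq_zero_iff (R ⧸ 𝔪) v).mp hv)
  let ψ : I →ₗ[R] J' := ι ∘ₗ (χ.restrictScalars R) ∘ₗ Submodule.mkQ _
  have hψ : ψ ≠ 0 := by
    obtain ⟨x, rfl⟩ := Submodule.Quotient.mk_surjective _ v
    intro h
    have h0 : ι (χ (Submodule.Quotient.mk x)) = 0 := DFunLike.congr_fun h x
    obtain ⟨r, hr⟩ := Submodule.Quotient.mk_surjective _ (χ (Submodule.Quotient.mk x))
    rw [← hr] at h0 hχ
    refine hχ ((Submodule.Quotient.mk_eq_zero _).mpr ?_)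
    show r ∈ 𝔪
    rw [show 𝔪 = q from hqm.symm, hqmem]
    exact h0
  let S : CategoryTheory.ShortComplex (ModuleCat R) :=
    ModuleCat.shortComplexOfCompEqZero μ (LinearMap.range μ).mkQ (LinearMap.range_mkQ_comp μ)
  have hS : S.ShortExact := ModuleCat.shortComplex_shortExact S
    (LinearMap.exact_iff.mpr (Submodule.ker_mkQ _))
    ((injective_iff_map_eq_zero μ).mpr hyJ) (Submodule.mkQ_surjective _)
  refine ⟨⟨(CategoryTheory.Abelian.Ext.mk₀ (ModuleCat.ofHom ψ : ModuleCat.of R I ⟶ S.X₃)).comp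
    hS.extClass (zero_add 1), 0, fun h => hψ ?_⟩⟩
  obtain ⟨x₂, hx₂⟩ := CategoryTheory.Abelian.Ext.covariant_sequence_exact₃ _ hS _ _ h
  obtain ⟨g, rfl⟩ := CategoryTheory.Abelian.Ext.homEquiv₀.symm.surjective x₂
  rw [CategoryTheory.Abelian.Ext.homEquiv₀_symm_apply, CategoryTheory.Abelian.Ext.mk₀_comp_mk₀] at hx₂
  have hg := (CategoryTheory.Abelian.Ext.mk₀_bijective _ _).injective hx₂
  ext x
  have hgx : g.hom x = 0 := hyJ _ (by rw [← map_smul, hPI y hyP, map_zero])
  have := congrArg (fun f : ModuleCat.of R I ⟶ S.X₃ => f.hom x) hg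
  simp [S, hgx] at this
  exact this.symm

end Groth.Agent.S18363
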