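import Groth.Statements.S18364
import Mathlib.Algebra.Module.LocalizedModule.Basic
import Mathlib.RingTheory.Ideal.MinimalPrime.Basic
import Mathlib.RingTheory.Ideal.Maximal
import Mathlib.RingTheory.Ideal.Operations
import Mathlib.Algebra.Group.Submonoid.Membership

set_option autoImplicit false
universe u
open CAlg

namespace Groth.Agent.S18364

section

variable {A : Type u} [CommRing A] {M : Type u} [AddCommGroup M] [Module A M] (π : A) {ι : Type} (𝔓 : ι → Ideal A)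
  [∀ i, (𝔓 i).IsPrime]

theorem mem_iff (T : Set ι) (x : M) :
    Submodule.Quotient.mk x ∈ (⨅ i ∈ T, LinearMap.ker
      (LocalizedModule.mkLinearMap (𝔓 i).primeCompl (M ⧸ Ideal.span {π} • (⊤ : Submodule A M)))) ↔
      ∀ i ∈ T, ∃ s ∉ 𝔓 i, s • x ∈ Ideal.span {π} • (⊤ : Submodule A M) := by
  simp only [Submodule.mem_iInf, LinearMap.mem_ker]
  refine forall₂_congr fun i _ => ?_
  rw [IsLocalizedModule.eq_zero_iff (𝔓 i).primeCompl]
  constructor
  · rintro ⟨⟨s, hs⟩, h⟩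
    exact ⟨s, hs, (Submodule.Quotient.mk_eq_zero _).mp ((Submodule.Quotient.mk_smul _ s x).trans h)⟩
  · rintro ⟨s, hs, h⟩
    exact ⟨⟨s, hs⟩, (Submodule.Quotient.mk_smul _ s x).symm.trans ((Submodule.Quotient.mk_eq_zero _).mpr h)⟩

theorem mem_span_smul_iff (x : M) :
    x ∈ Ideal.span {π} • (⊤ : Submodule A M) ↔ ∃ m, π • m = x := by
  rw [Submodule.ideal_span_singleton_smul, Submodule.mem_smul_pointwise_iff_exists]
  exact ⟨fun ⟨m, _, h⟩ => ⟨m, h⟩, fun ⟨m, h⟩ => ⟨m, trivial, h⟩⟩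

theorem exists_sep [Finite ι] (h𝔓 : ∀ i, 𝔓 i ∈ (Ideal.span {π}).minimalPrimes) (hinj : Function.Injective 𝔓)
    (Y : Set ι) (i : ι) (hi : i ∉ Y) : ∃ s ∉ 𝔓 i, ∀ j ∈ Y, ∃ t ∉ 𝔓 j, t * s ∈ Ideal.span {π} := by
  classical
  haveI := Fintype.ofFinite ι
  have h1 : ∀ j ∈ Y, ∃ y ∈ 𝔓 j, y ∉ 𝔓 i := by
    intro j hj
    by_contra! hle
    have := hinj (le_antisymm hle ((h𝔓 i).2 (h𝔓 j).1 hle))
    exact hi (this ▸ hj)
  choose y hy hy' using h1
  let x := ∏ j ∈ Y.toFinset.attach, y j.1 (Set.mem_toFinset.mp j.2)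
  have hx : x ∉ 𝔓 i := fun h => by
    obtain ⟨j, -, hj⟩ := (Ideal.IsPrime.prod_mem_iff).mp h
    exact hy' _ _ hj
  have hxj : ∀ j ∈ Y, x ∈ 𝔓 j := fun j hj => by
    rw [show x = ∏ j ∈ Y.toFinset.attach, y j.1 (Set.mem_toFinset.mp j.2) from rfl,
      ← Finset.prod_erase_mul _ _ (Finset.mem_attach _ ⟨j, Set.mem_toFinset.mpr hj⟩)]
    exact Ideal.mul_mem_left _ _ (hy j hj)
  have hnil : ∀ j ∈ Y, ∃ N : ℕ, ∃ t ∉ 𝔓 j, t * x ^ N ∈ Ideal.span {π} := by
    intro j hj
    by_contra! h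
    obtain ⟨P, hP, hle, hd⟩ := Ideal.exists_le_prime_disjoint (Ideal.span {π}) ((𝔓 j).primeCompl ⊔ Submonoid.powers x)
      (Set.disjoint_left.mpr fun z hz hz' => by
        obtain ⟨t, ht, q, ⟨N, rfl⟩, rfl⟩ := Submonoid.mem_sup.mp hz'
        exact h N t ht hz)
    have hPj : P ≤ 𝔓 j := fun z hz => by
      by_contra hzj
      exact Set.disjoint_left.mp hd hz ((le_sup_left : (𝔓 j).primeCompl ≤ _) hzj)
    have := (h𝔓 j).2 ⟨hP, hle⟩ hPj (hxj j hj)
    exact Set.disjoint_left.mp hd this ((le_sup_right : Submonoid.powers x ≤ _) (Submonoid.mem_powers x))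
  choose N t ht htN using hnil
  let K := ∑ j ∈ Y.toFinset.attach, N j.1 (Set.mem_toFinset.mp j.2)
  refine ⟨x ^ K, fun h => hx (Ideal.IsPrime.mem_of_pow_mem inferInstance _ h), fun j hj => ⟨t j hj, ht j hj, ?_⟩⟩
  have hle : N j hj ≤ K := Finset.single_le_sum (f := fun j : {a // a ∈ Y.toFinset} => N j.1 (Set.mem_toFinset.mp j.2))
    (fun _ _ => Nat.zero_le _) (Finset.mem_attach _ ⟨j, Set.mem_toFinset.mpr hj⟩)
  obtain ⟨d, hd⟩ := Nat.exists_eq_add_of_le hle
  rw [hd, pow_add, ← mul_assoc]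
  exact Ideal.mul_mem_right _ _ (htN j hj)

end


/-- Let A be a Noetherian ring, π an element of A, and (𝔓_i)_{i ∈ ι} an injective finite family listing
exactly the minimal prime ideals over (π). Let M be a finitely generated A-module and M̄ = M/πM. For
a subset T of ι let K(T) ⊆ M̄ be the submodule of elements whose image in the localisation of M̄ at
𝔓_i is zero for every i ∈ T, and N(T) ⊆ M its preimage in M. Assume K(ι) = 0, i.e. no nonzero
element of M̄ vanishes at all the minimal primes (every associated prime of M̄ is one of the 𝔓_i).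
Then for every subset Y of ι with complement Z one has N(Y) ∩ N(Z) = πM, and the same construction
applied to the module N(Y) instead of M — the preimage in N(Y) of the elements of N(Y)/πN(Y)
vanishing at every 𝔓_i with i ∈ Z — is, as a submodule of M, equal to N(Y) ∩ N(Z). (Geometric
meaning: A is the local ring of a flat family of curves over a discrete valuation ring with
uniformizer π at a point of the reduced special fibre, M the stalk of a torsion-free rank-one sheaf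
I, Y a set of components of the special fibre through the point, and N(Y) the stalk of the kernel
I^Y of I → I(s)_Y; the statement is (I^Y)^Z = I^Y ∩ I^Z = πI. Reducedness of A/πA, flatness and rank
one are not used.) -/
theorem result
    (A : Type u) [CommRing A] [IsNoetherianRing A] (π : A)
    (ι : Type) [Finite ι] (𝔓 : ι → Ideal A) [∀ i, (𝔓 i).IsPrime]
    (h𝔓 : ∀ i, 𝔓 i ∈ (Ideal.span {π}).minimalPrimes) (h𝔓inj : Function.Injective 𝔓)
    (h𝔓surj : ∀ 𝔔 ∈ (Ideal.span {π}).minimalPrimes, ∃ i, 𝔓 i = 𝔔)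
    (M : Type u) [AddCommGroup M] [Module A M] [Module.Finite A M]
    (K : Set ι → Submodule A (M ⧸ Ideal.span {π} • (⊤ : Submodule A M)))
    (hK : ∀ T : Set ι, K T = ⨅ i ∈ T, LinearMap.ker
      (LocalizedModule.mkLinearMap (𝔓 i).primeCompl (M ⧸ Ideal.span {π} • (⊤ : Submodule A M))))
    (htf : K Set.univ = ⊥)
    (N : Set ι → Submodule A M)
    (hN : ∀ T : Set ι, N T = (K T).comap (Submodule.mkQ (Ideal.span {π} • (⊤ : Submodule A M))))
    (Y : Set ι) :
    N Y ⊓ N Yᶜ = Ideal.span {π} • (⊤ : Submodule A M) ∧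
    Submodule.map (N Y).subtype
      ((⨅ i ∈ Yᶜ, LinearMap.ker (LocalizedModule.mkLinearMap (𝔓 i).primeCompl
          (↥(N Y) ⧸ Ideal.span {π} • (⊤ : Submodule A ↥(N Y))))).comap
        (Submodule.mkQ (Ideal.span {π} • (⊤ : Submodule A ↥(N Y)))))
      = N Y ⊓ N Yᶜ := by
  have hmemN : ∀ (T : Set ι) (x : M), x ∈ N T ↔ ∀ i ∈ T, ∃ s ∉ 𝔓 i, s • x ∈ Ideal.span {π} • (⊤ : Submodule A M) := by
    intro T x
    rw [hN, Submodule.mem_comap, Submodule.mkQ_apply, hK]
    exact mem_iff π 𝔓 T x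
  have hfirst : N Y ⊓ N Yᶜ = Ideal.span {π} • (⊤ : Submodule A M) := by
    refine le_antisymm (fun x hx => ?_) (fun x hx => ?_)
    · have h : Submodule.Quotient.mk x ∈ K Set.univ := by
        rw [hK]
        refine (mem_iff π 𝔓 _ x).mpr fun i _ => ?_
        by_cases hi : i ∈ Y
        · exact (hmemN Y x).mp hx.1 i hi
        · exact (hmemN Yᶜ x).mp hx.2 i hi
      rw [htf, Submodule.mem_bot, Submodule.Quotient.mk_eq_zero] at h
      exact h
    · have : ∀ T, x ∈ N T := fun T => (hmemN T x).mpr fun i _ =>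
        ⟨1, fun h => Ideal.IsPrime.ne_top inferInstance ((Ideal.eq_top_iff_one _).mpr h), by rwa [one_smul]⟩
      exact ⟨this _, this _⟩
  refine ⟨hfirst, le_antisymm ?_ ?_⟩
  · rintro x ⟨⟨y, hy⟩, hmem, rfl⟩
    refine ⟨hy, (hmemN Yᶜ y).mpr fun i hi => ?_⟩
    obtain ⟨s, hs, hsy⟩ := (mem_iff π 𝔓 Yᶜ (⟨y, hy⟩ : N Y)).mp hmem i hi
    refine ⟨s, hs, ?_⟩
    obtain ⟨m, hm⟩ := (mem_span_smul_iff π _).mp hsy
    exact (mem_span_smul_iff π _).mpr ⟨m.1, congrArg Subtype.val hm⟩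
  · intro x hx
    refine ⟨⟨x, hx.1⟩, (mem_iff π 𝔓 Yᶜ (⟨x, hx.1⟩ : N Y)).mpr fun i hi => ?_, rfl⟩
    rw [hfirst] at hx
    obtain ⟨m, hm⟩ := (mem_span_smul_iff π x).mp hx
    obtain ⟨s, hs, hsY⟩ := exists_sep π 𝔓 h𝔓 h𝔓inj Y i hi
    have hsm : s • m ∈ N Y := (hmemN Y _).mpr fun j hj => by
      obtain ⟨t, ht, hts⟩ := hsY j hj
      exact ⟨t, ht, by rw [smul_smul]; exact Submodule.smul_mem_smul hts trivial⟩
    refine ⟨s, hs, (mem_span_smul_iff π _).mpr ⟨⟨s • m, hsm⟩, Subtype.ext ?_⟩⟩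
    show π • s • m = s • x
    rw [← hm, smul_comm]

end Groth.Agent.S18364
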