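import Groth.Statements.S18365
import Mathlib.Algebra.Module.LocalizedModule.Basic
import Mathlib.RingTheory.Ideal.MinimalPrime.Basic
import Mathlib.RingTheory.Ideal.Operations

set_option autoImplicit false
universe u
open CAlg

namespace Groth.Agent.S18365

section

variable {A : Type u} [CommRing A] {M : Type u} [AddCommGroup M] [Module A M] (π : A) {ι : Type} (𝔓 : ι → Ideal A)
  [∀ i, (𝔓 i).IsPrime]

theorem mem_iff (T : Set ι) (x : M) :
    Submodule.Quotient.mk x ∈ (⨅ i ∈ T, LinearMap.ker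
      (LocalizedModule.mkLinearMap (𝔓 i).primeCompl (M ⧸ Ideal.span {π} • (⊤ : Submodule A M)))) ↔
      ∀ i ∈ T, ∃ s ∉ 𝔓 i, s • x ∈ Ideal.span {π} • (⊤ : Submodule A M) := by
  simp only [Submodule.mem_iInf, LinearMap.mem_ker]
  refine forall₂_congr fun i _ => ?_
  rw [IsLocalizedModule.eq_zero_iff (𝔓 i).primeCompl]
  constructor
  · rintro ⟨⟨s, hs⟩, h⟩
    exact ⟨s, hs, (Submodule.Quotient.mk_eq_zero _).mp ((Submodule.Quotient.mk_smul _ s x).trans h)⟩
  · rintro ⟨s, hs, h⟩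
    exact ⟨⟨s, hs⟩, (Submodule.Quotient.mk_smul _ s x).symm.trans ((Submodule.Quotient.mk_eq_zero _).mpr h)⟩

theorem mem_span_smul_iff (x : M) :
    x ∈ Ideal.span {π} • (⊤ : Submodule A M) ↔ ∃ m, π • m = x := by
  rw [Submodule.ideal_span_singleton_smul, Submodule.mem_smul_pointwise_iff_exists]
  exact ⟨fun ⟨m, _, h⟩ => ⟨m, h⟩, fun ⟨m, h⟩ => ⟨m, trivial, h⟩⟩

end


/-- Let A be a Noetherian ring, π an element of A, (𝔓_i)_{i ∈ ι} an injective finite family listing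
exactly the minimal prime ideals over (π), and M a finitely generated A-module on which π acts
injectively; put M̄ = M/πM. For T ⊆ ι let K(T) ⊆ M̄ be the submodule of elements whose image in the
localisation of M̄ at 𝔓_i vanishes for every i ∈ T, and N(T) ⊆ M its preimage; assume K(ι) = 0.
Suppose that M̄ decomposes at Y, i.e. K(Y) + K(Yᶜ) = M̄, and that for a subset Z the module
N(Y)/πN(Y) decomposes at Z, i.e. its submodule of elements vanishing at every 𝔓_i (i ∈ Z) and its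
submodule of elements vanishing at every 𝔓_i (i ∉ Z) together span it. Then M̄ decomposes at Z: K(Z)
+ K(Zᶜ) = M̄. (Geometric meaning: for a flat family of curves over a discrete valuation ring with
uniformizer π, I a torsion-free rank-one sheaf flat over the base, Y a subcurve of the special fibre
X(s) at which I(s) decomposes and I^Y = ker(I → I(s)_Y): if I^Y(s) decomposes at a subcurve Z then
so does I(s); decomposition of a sheaf at Z is the surjectivity of I(s) → I(s)_Z ⊕ I(s)_{Z^c},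
checked on stalks. Reducedness of the special fibre and rank one are not used.) -/
theorem result
    (A : Type u) [CommRing A] [IsNoetherianRing A] (π : A)
    (ι : Type) [Finite ι] (𝔓 : ι → Ideal A) [∀ i, (𝔓 i).IsPrime]
    (h𝔓 : ∀ i, 𝔓 i ∈ (Ideal.span {π}).minimalPrimes) (h𝔓inj : Function.Injective 𝔓)
    (h𝔓surj : ∀ 𝔔 ∈ (Ideal.span {π}).minimalPrimes, ∃ i, 𝔓 i = 𝔔)
    (M : Type u) [AddCommGroup M] [Module A M] [Module.Finite A M]
    (hπ : ∀ m : M, π • m = 0 → m = 0)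
    (K : Set ι → Submodule A (M ⧸ Ideal.span {π} • (⊤ : Submodule A M)))
    (hK : ∀ T : Set ι, K T = ⨅ i ∈ T, LinearMap.ker
      (LocalizedModule.mkLinearMap (𝔓 i).primeCompl (M ⧸ Ideal.span {π} • (⊤ : Submodule A M))))
    (htf : K Set.univ = ⊥)
    (N : Set ι → Submodule A M)
    (hN : ∀ T : Set ι, N T = (K T).comap (Submodule.mkQ (Ideal.span {π} • (⊤ : Submodule A M))))
    (Y Z : Set ι) (hY : K Y ⊔ K Yᶜ = ⊤)
    (K' : Set ι → Submodule A (↥(N Y) ⧸ Ideal.span {π} • (⊤ : Submodule A ↥(N Y))))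
    (hK' : ∀ T : Set ι, K' T = ⨅ i ∈ T, LinearMap.ker
      (LocalizedModule.mkLinearMap (𝔓 i).primeCompl (↥(N Y) ⧸ Ideal.span {π} • (⊤ : Submodule A ↥(N Y)))))
    (hZ : K' Z ⊔ K' Zᶜ = ⊤) :
    K Z ⊔ K Zᶜ = ⊤ := by
  let P0 := Ideal.span {π} • (⊤ : Submodule A M)
  let Zero : ι → M → Prop := fun i x => ∃ s ∉ 𝔓 i, s • x ∈ P0
  have hmemN : ∀ (T : Set ι) (x : M), x ∈ N T ↔ ∀ i ∈ T, Zero i x := by
    intro T x
    rw [hN, Submodule.mem_comap, Submodule.mkQ_apply, hK]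
    exact mem_iff π 𝔓 T x
  have huniv : ∀ x, (∀ i, Zero i x) → x ∈ P0 := by
    intro x h
    have h' : Submodule.Quotient.mk x ∈ K Set.univ := by
      rw [hK]
      exact (mem_iff π 𝔓 _ x).mpr fun i _ => h i
    rw [htf, Submodule.mem_bot, Submodule.Quotient.mk_eq_zero] at h'
    exact h'
  have hP0 : ∀ T, P0 ≤ N T := fun T x hx => (hmemN T x).mpr fun i _ =>
    ⟨1, fun h => Ideal.IsPrime.ne_top inferInstance ((Ideal.eq_top_iff_one _).mpr h), by rwa [one_smul]⟩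
  have hadd : ∀ i (a b : M), Zero i a → Zero i b → Zero i (a + b) := by
    intro i a b ha hb
    have h := (N {i}).add_mem ((hmemN {i} a).mpr (fun j hj => (Set.mem_singleton_iff.mp hj) ▸ ha)) ((hmemN {i} b).mpr (fun j hj => (Set.mem_singleton_iff.mp hj) ▸ hb))
    exact (hmemN {i} _).mp h i rfl
  have hneg : ∀ i (a : M), Zero i a → Zero i (-a) := fun i a ⟨s, hs, h⟩ => ⟨s, hs, by rw [smul_neg]; exact neg_mem h⟩
  have hsplit : ∀ m, ∃ a ∈ N Y, ∃ b ∈ N Yᶜ, m = a + b := by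
    intro m
    have h : Submodule.Quotient.mk m ∈ K Y ⊔ K Yᶜ := hY ▸ Submodule.mem_top
    obtain ⟨u, hu, v, hv, huv⟩ := Submodule.mem_sup.mp h
    obtain ⟨a, rfl⟩ := Submodule.Quotient.mk_surjective _ u
    obtain ⟨b, rfl⟩ := Submodule.Quotient.mk_surjective _ v
    have hd : a + b - m ∈ P0 := (Submodule.Quotient.eq _).mp ((Submodule.Quotient.mk_add _).trans huv)
    refine ⟨a, by rw [hN]; exact hu, m - a, ?_, by abel⟩
    have : m - a = b - (a + b - m) := by abel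
    rw [this]
    exact sub_mem (by rw [hN]; exact hv) (hP0 _ hd)
  have hZ' : ∀ x : N Y, ∃ c₁ c₂ : N Y, x = c₁ + c₂ ∧
      (∀ i ∈ Z, ∃ s ∉ 𝔓 i, ∃ l : N Y, π • l = s • c₁) ∧ (∀ i ∈ Zᶜ, ∃ s ∉ 𝔓 i, ∃ l : N Y, π • l = s • c₂) := by
    intro x
    have h : Submodule.Quotient.mk x ∈ K' Z ⊔ K' Zᶜ := hZ ▸ Submodule.mem_top
    obtain ⟨u, hu, v, hv, huv⟩ := Submodule.mem_sup.mp h
    obtain ⟨a, rfl⟩ := Submodule.Quotient.mk_surjective _ u
    obtain ⟨b, rfl⟩ := Submodule.Quotient.mk_surjective _ v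
    have hd := (Submodule.Quotient.eq _).mp ((Submodule.Quotient.mk_add _).trans huv)
    have hv' : Submodule.Quotient.mk (x - a) ∈ K' Zᶜ := by
      rw [show (Submodule.Quotient.mk (x - a) : _ ⧸ Ideal.span {π} • (⊤ : Submodule A (N Y))) = Submodule.Quotient.mk b from
        (Submodule.Quotient.eq _).mpr (by rw [show x - a - b = -(a + b - x) by abel]; exact neg_mem hd)]
      exact hv
    rw [hK'] at hu hv'
    refine ⟨a, x - a, by abel, fun i hi => ?_, fun i hi => ?_⟩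
    · obtain ⟨s, hs, h⟩ := (mem_iff π 𝔓 Z a).mp hu i hi
      exact ⟨s, hs, (mem_span_smul_iff π _).mp h⟩
    · obtain ⟨s, hs, h⟩ := (mem_iff π 𝔓 Zᶜ (x - a)).mp hv' i hi
      exact ⟨s, hs, (mem_span_smul_iff π _).mp h⟩
  have htoM : ∀ (i : ι) (c : N Y), (∃ s ∉ 𝔓 i, ∃ l : N Y, π • l = s • c) → Zero i c.1 :=
    fun i c ⟨s, hs, l, hl⟩ => ⟨s, hs, (mem_span_smul_iff π _).mpr ⟨l.1, congrArg Subtype.val hl⟩⟩
  suffices hmain : ∀ m, m ∈ N Z ⊔ N Zᶜ by
    rw [eq_top_iff]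
    intro q _
    obtain ⟨m, rfl⟩ := Submodule.Quotient.mk_surjective _ q
    obtain ⟨a, ha, b, hb, rfl⟩ := Submodule.mem_sup.mp (hmain m)
    rw [Submodule.Quotient.mk_add]
    rw [hN] at ha hb
    exact Submodule.add_mem_sup ha hb
  intro m
  obtain ⟨a, ha, b, hb, rfl⟩ := hsplit m
  refine add_mem ?_ ?_
  · obtain ⟨c₁, c₂, hc, h₁, h₂⟩ := hZ' ⟨a, ha⟩
    rw [show a = c₁.1 + c₂.1 from congrArg Subtype.val hc]
    exact Submodule.add_mem_sup ((hmemN _ _).mpr fun i hi => htoM i c₁ (h₁ i hi))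
      ((hmemN _ _).mpr fun i hi => htoM i c₂ (h₂ i hi))
  · have hπb : π • b ∈ P0 := (mem_span_smul_iff π _).mpr ⟨b, rfl⟩
    obtain ⟨c₁, c₂, hc, h₁, h₂⟩ := hZ' ⟨π • b, hP0 Y hπb⟩
    have hcM : π • b = c₁.1 + c₂.1 := congrArg Subtype.val hc
    have hπb0 : ∀ i, Zero i (π • b) := fun i => (hmemN {i} _).mp (hP0 _ hπb) i rfl
    have hc₁ : c₁.1 ∈ P0 := huniv _ fun i => by
      by_cases hi : i ∈ Z
      · exact htoM i c₁ (h₁ i hi)
      · rw [show c₁.1 = π • b + -c₂.1 by rw [hcM]; abel]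
        exact hadd i _ _ (hπb0 i) (hneg i _ (htoM i c₂ (h₂ i hi)))
    obtain ⟨b₁, hb₁⟩ := (mem_span_smul_iff π _).mp hc₁
    have hinjπ : ∀ u v : M, π • u = π • v → u = v := fun u v h =>
      sub_eq_zero.mp (hπ _ (by rw [smul_sub, h, sub_self]))
    have hc₂ : π • (b - b₁) = c₂.1 := by rw [smul_sub, hb₁, hcM]; abel
    have key : ∀ (c : N Y) (d : M), π • d = c.1 → ∀ i ∈ Y, (∃ s ∉ 𝔓 i, ∃ l : N Y, π • l = s • c) → Zero i d := by
      rintro c d hd i hi ⟨s, hs, l, hl⟩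
      have h1 : l.1 = s • d := hinjπ _ _ (by
        rw [smul_comm π s d, hd]
        exact congrArg Subtype.val hl)
      obtain ⟨t, ht, h2⟩ := (hmemN Y _).mp l.2 i hi
      exact ⟨t * s, fun h => (Ideal.IsPrime.mem_or_mem inferInstance h).elim ht hs, by rw [mul_smul, ← h1]; exact h2⟩
    obtain ⟨a', ha', b', hb', hab'⟩ := hsplit b₁
    obtain ⟨a'', ha'', b'', hb'', hab''⟩ := hsplit (b - b₁)
    have hbZ : b' ∈ N Z := (hmemN _ _).mpr fun i hi => by
      by_cases hiY : i ∈ Y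
      · rw [show b' = b₁ + -a' by rw [hab']; abel]
        exact hadd i _ _ (key c₁ b₁ hb₁ i hiY (h₁ i hi)) (hneg i _ ((hmemN _ _).mp ha' i hiY))
      · exact (hmemN _ _).mp hb' i hiY
    have hbZc : b'' ∈ N Zᶜ := (hmemN _ _).mpr fun i hi => by
      by_cases hiY : i ∈ Y
      · rw [show b'' = (b - b₁) + -a'' by rw [hab'']; abel]
        exact hadd i _ _ (key c₂ (b - b₁) hc₂ i hiY (h₂ i hi)) (hneg i _ ((hmemN _ _).mp ha'' i hiY))
      · exact (hmemN _ _).mp hb'' i hiY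
    have hrest : a' + a'' ∈ P0 := huniv _ fun i => by
      by_cases hiY : i ∈ Y
      · exact hadd i _ _ ((hmemN _ _).mp ha' i hiY) ((hmemN _ _).mp ha'' i hiY)
      · rw [show a' + a'' = b + -(b' + b'') by
          have : b = (a' + b') + (a'' + b'') := by rw [← hab', ← hab'']; abel
          rw [this]; abel]
        exact hadd i _ _ ((hmemN _ _).mp hb i hiY) (hneg i _ (hadd i _ _ ((hmemN _ _).mp hb' i hiY) ((hmemN _ _).mp hb'' i hiY)))
    have hbeq : b = (b' + (a' + a'')) + b'' := by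
      have : b = (a' + b') + (a'' + b'') := by rw [← hab', ← hab'']; abel
      rw [this]; abel
    rw [hbeq]
    exact Submodule.add_mem_sup (add_mem hbZ (hP0 _ hrest)) hbZc

end Groth.Agent.S18365
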