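import Groth.Statements.S18368
import Groth.Agent.L26.AV.RelMain

set_option autoImplicit false
universe u
open CategoryTheory CategoryTheory.Limits MonoidalCategory CartesianMonoidalCategory AlgebraicGeometry
open AbVar

namespace Groth.Agent.S18368

/-- Let k be a field, X and Y geometrically integral k-schemes of finite type with X proper, Z a
separated k-scheme and f : X ×_k Y → Z a k-morphism (products in the cartesian monoidal category of
k-schemes). If for some algebraically closed field K over k there are points y₀ : Spec K → Y and z₀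
: Spec K → Z over k such that f restricted to X ×_k Spec K along y₀ is the constant map z₀, then f
factors uniquely through the second projection: there is exactly one g : Y → Z over k with f = pr₂ ≫
g. (The target Z is not assumed to be of finite type over k.) -/
theorem result (k : Type u) [Field k]
    (X Y Z : Over (Spec (CommRingCat.of k)))
    [IsProper X.hom] [GeometricallyIntegral X.hom]
    [LocallyOfFiniteType Y.hom] [QuasiCompact Y.hom] [GeometricallyIntegral Y.hom]
    [IsSeparated Z.hom] (f : X ⊗ Y ⟶ Z)
    (K : Type u) [Field K] [Algebra k K] [IsAlgClosed K]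
    (y₀ : (Over.mk (Spec.map (CommRingCat.ofHom (algebraMap k K))) : Over (Spec (CommRingCat.of k))) ⟶ Y)
    (z₀ : (Over.mk (Spec.map (CommRingCat.ofHom (algebraMap k K))) : Over (Spec (CommRingCat.of k))) ⟶ Z)
    (h : (X ◁ y₀) ≫ f = snd X _ ≫ z₀) :
    ∃! g : Y ⟶ Z, f = snd X Y ≫ g := by
  have : IsLocallyNoetherian Y.left := LocallyOfFiniteType.isLocallyNoetherian Y.hom
  have : IsProper (snd X Y).left := inferInstanceAs (IsProper (Limits.pullback.snd X.hom Y.hom))
  have : Flat X.hom := inferInstance
  have : Surjective X.hom := inferInstance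
  have : Flat (snd X Y).left := inferInstanceAs (Flat (Limits.pullback.snd X.hom Y.hom))
  have : Surjective (snd X Y).left := inferInstanceAs (Surjective (Limits.pullback.snd X.hom Y.hom))
  have : IsSeparated (snd Z Y).left := inferInstanceAs (IsSeparated (Limits.pullback.snd Z.hom Y.hom))
  have : IrreducibleSpace ↥Y.left :=
    GeometricallyIrreducible.irreducibleSpace_of_subsingleton Y.hom
  have h0' : ∀ y, Groth.Agent.AV.FibConst (snd X Y).left y := fun y =>
    Groth.Agent.AV.fibConst_snd X.hom Y.hom y (Groth.Agent.AV.fibConst_of_geometrically X.hom _)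
  let Kk : Over (Spec (CommRingCat.of k)) := Over.mk (Spec.map (CommRingCat.ofHom (algebraMap k K)))
  have hP : IsPullback (X ◁ y₀).left (snd X Kk).left (snd X Y).left y₀.left := by
    refine IsPullback.of_right (h₁₂ := (fst X Y).left) ?_ ?_ (IsPullback.of_hasPullback X.hom Y.hom)
    · rw [← Over.comp_left, whiskerLeft_fst, Over.w y₀]
      exact IsPullback.of_hasPullback X.hom Kk.hom
    · rw [← Over.comp_left, ← Over.comp_left, whiskerLeft_snd]
  have hK : Subsingleton ↥Kk.left := inferInstanceAs (Subsingleton ↥(Spec (CommRingCat.of K)))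
  let pt : ↥Kk.left := IsLocalRing.closedPoint K
  have hs : y₀.left pt ∈ Groth.Agent.AV.collapsed (snd X Y).left (lift f (snd X Y)).left := by
    intro p p' hp hp'
    have key : ∀ p, (snd X Y).left p = y₀.left pt →
        (lift f (snd X Y)).left p = (lift z₀ y₀).left pt := by
      intro p hp
      obtain ⟨z, hz, hz'⟩ := Scheme.Pullback.exists_preimage_pullback p pt hp
      let w := hP.isoPullback.inv z
      have hw : (X ◁ y₀).left w = p := by
        rw [← hz]
        exact congrArg (fun φ => φ z) hP.isoPullback_inv_fst
      have e : (X ◁ y₀) ≫ lift f (snd X Y) = snd X Kk ≫ lift z₀ y₀ := by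
        apply CartesianMonoidalCategory.hom_ext
        · simpa using h
        · simp [Kk]
      have h1 := congrArg (fun φ : X ⊗ Kk ⟶ Z ⊗ Y => φ.left w) e
      simp only [Over.comp_left, Scheme.Hom.comp_apply] at h1
      rw [hw, Subsingleton.elim ((snd X Kk).left w) pt] at h1
      exact h1
    exact (key p hp).trans (key p' hp').symm
  obtain ⟨t, ht, hft⟩ := Groth.Agent.AV.exists_section_of_collapsed (snd X Y).left h0' (snd Z Y).left
    (lift f (snd X Y)).left (by rw [← Over.comp_left, lift_snd]) _ hs
  have htw : (t ≫ (fst Z Y).left) ≫ Z.hom = Y.hom := by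
    rw [Category.assoc, Over.w (fst Z Y), ← Over.w (snd Z Y), reassoc_of% ht]
  have hf : f = snd X Y ≫ Over.homMk (t ≫ (fst Z Y).left) htw := by
    apply Over.OverMorphism.ext
    show f.left = (snd X Y).left ≫ t ≫ (fst Z Y).left
    rw [← lift_fst f (snd X Y), Over.comp_left, hft, Category.assoc]
  refine ⟨_, hf, fun g hg => ?_⟩
  apply Over.OverMorphism.ext
  rw [← cancel_epi (snd X Y).left, ← Over.comp_left, ← Over.comp_left, ← hg, ← hf]

end Groth.Agent.S18368
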