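import Groth.Statements.S18369
import Groth.Agent.L26.Pic0.AmpleDescent
import Groth.Agent.L26.Pic0.Mumford
import Groth.Agent.L26.AV.BCAdjoint
import Groth.Agent.L26.AV.SmoothField
import Groth.Agent.L08.Cube.RelCubical

set_option autoImplicit false
universe u
open CategoryTheory CategoryTheory.Limits MonoidalCategory CartesianMonoidalCategory MonObj GrpObj AlgebraicGeometry
open AbVar

namespace Groth.Agent.S18369

open Groth.Agent.AV Groth.Agent.AV.BCAdjoint Groth.Agent.Pic0 Groth.L08.Cube
attribute [local instance] Groth.L08.Cube.clMonoid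

/-- Let k be a field, A an abelian variety over k (a proper smooth k-group scheme with geometrically
connected fibres) with group law m : A × A → A and projections p₁, p₂, L an ample invertible
O_A-module, and N an invertible O_A-module whose class lies in the dual abelian variety, expressed
as m^*N ≅ p₁^*N ⊗ p₂^*N. Then L ⊗ N is again ample; so ampleness of an invertible module on A
depends only on its class modulo Pic⁰. -/
theorem result (k : Type u) [Field k]
    (A : Over (Spec (CommRingCat.of k))) [GrpObj A] [IsProper A.hom] [Smooth A.hom] [GeometricallyConnected A.hom]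
    (L N : A.left.Modules) (hL : CohB1.IsAmple L) (hN : PicF.IsInvertible N)
    (hN0 : Nonempty ((Scheme.Modules.pullback μ[A].left).obj N ≅
      CohB1.tensorMod ((Scheme.Modules.pullback (fst A A).left).obj N) ((Scheme.Modules.pullback (snd A A).left).obj N))) :
    CohB1.IsAmple (CohB1.tensorMod L N) := by
  haveI := Groth.Agent.AV.geometricallyReduced_of_smooth A.hom
  haveI : GeometricallyIntegral A.hom := Groth.L08.Cube.geometricallyIntegral_of_group A
  let K := AlgebraicClosure k
  haveI : IsIso (𝟙 A : A ⟶ A) := inferInstance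
  let X := TateBaseChange.bc K A
  let g : X.left ⟶ A.left := pullback.fst A.hom (TateBaseChange.st (k := k) K)
  haveI : Flat (TateBaseChange.st (k := k) K) := by
    rw [HasRingHomProperty.Spec_iff (P := @Flat)]
    exact RingHom.flat_algebraMap_iff.2 inferInstance
  have sq : IsPullback g X.hom A.hom (TateBaseChange.st (k := k) K) := IsPullback.of_hasPullback _ _
  haveI : IsAffineHom g := MorphismProperty.of_isPullback sq.flip inferInstance
  let L' := (Scheme.Modules.pullback g).obj L
  let N' := (Scheme.Modules.pullback g).obj N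
  have hL' : CohB1.IsAmple L' := Groth.L18.Ample.isAmple_pullback_of_isAffineHom g hL
  have hN' : PicF.IsInvertible N' := Groth.L18.Ample.isInvertible_pullback _ hN
  haveI : IsCommMonObj X := isCommMonObj_of_isProper_of_geometricallyIntegral X
  refine isAmple_of_field_pullback A.hom (TateBaseChange.st (k := k) K) sq _
    (Groth.L18.GenLoc.isInvertible_tensor hL.1 hN) ?_
  have hdown : ∀ φ : X ⟶ X, Groth.L08.Cube.pc N (down K φ) = Groth.L08.Cube.pc N' φ := fun φ => PicLoc.pullCl_comp φ.left g _
  have hfix : ∀ x, Groth.L08.Cube.pc N' (trK x) = PicF.cl N' := fun x => by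
    rw [← hdown, show trK x = 𝟙 X * (toUnit X ≫ x) from rfl, down_mul]
    refine (pc_mul N hN0 _ _).trans ?_
    rw [hdown, hdown, Groth.Agent.Pic0.pc_id, pc_const N' hN' x, _root_.mul_one]
  obtain ⟨M, hM, hLM⟩ := exists_inverseCl (⟨L', rfl, hL'.1⟩ : PicF.IsInvertibleCl (PicF.cl L'))
  obtain ⟨M, rfl, hM'⟩ := hM
  obtain ⟨a, ha⟩ := exists_translate_of_isAmple L' M N' hL' hM' hLM hN' hfix
  haveI : IsIso (trK a) := by
    refine ⟨trK a⁻¹, ?_, ?_⟩ <;> simp [trK, MonObj.comp_mul, GrpObj.comp_inv, _root_.mul_assoc, mul_inv_cancel, inv_mul_cancel]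
  haveI : IsIso (trK a).left := inferInstanceAs (IsIso ((Over.forget _).map (trK a)))
  obtain ⟨e⟩ : Nonempty ((Scheme.Modules.pullback (trK a).left).obj L' ≅ (Scheme.Modules.pullback g).obj (CohB1.tensorMod L N)) := by
    refine (PicGrp.cl_eq_cl_iff _ _).1 ?_
    show Groth.L08.Cube.pc L' (trK a) = PicF.pullCl g (PicF.cl L * PicF.cl N)
    rw [pullCl_mul]
    show _ = PicF.cl L' * PicF.cl N'
    rw [ha, mul_left_comm, hLM, _root_.mul_one]
  exact Groth.L18.Ample.isAmple_of_iso e (Groth.L18.Ample.isAmple_pullback_of_isAffineHom _ hL')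

end Groth.Agent.S18369
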