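import Groth.Statements.S1837
import Groth.Agent.L28.Glue.Maximal

set_option autoImplicit false
universe u
open TensorProduct
open CycAlg

namespace Groth.Agent.S1837

open Groth.L28

/-- Let A be Noetherian with pairwise distinct maximal ideals 𝔪₁, …, 𝔪_r, and for each i a ring map φ_i
from A_{𝔪_i} to B_i whose kernel and cokernel are killed by a power of 𝔪_i. Then there is an
A-algebra B whose base change to each A_{𝔪_i} is isomorphic to B_i and whose structure map has
kernel and cokernel killed by a power of 𝔪₁ ∩ … ∩ 𝔪_r; if every φ_i is finite (resp. injective,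
resp. surjective) B can be taken with the same property. -/
theorem result (A : Type u) [CommRing A] [IsNoetherianRing A] (r : ℕ) (m : Fin r → Ideal A) (hm : ∀ i, (m i).IsMaximal) (hinj : Function.Injective m) (B : Fin r → Type u) [∀ i, CommRing (B i)] [∀ i, Algebra (Localization.AtPrime (m i)) (B i)] (hker : ∀ i, ∃ n : ℕ, ∀ x ∈ RingHom.ker (algebraMap (Localization.AtPrime (m i)) (B i)), ∀ y ∈ Ideal.map (algebraMap A (Localization.AtPrime (m i))) (m i) ^ n, y * x = 0) (hcoker : ∀ i, ∃ n : ℕ, ∀ y ∈ Ideal.map (algebraMap A (Localization.AtPrime (m i))) (m i) ^ n, ∀ b : B i, y • b ∈ (algebraMap (Localization.AtPrime (m i)) (B i)).range) : ∃ (C : Type u) (_ : CommRing C) (_ : Algebra A C), (∀ i, Nonempty ((Localization.AtPrime (m i)) ⊗[A] C ≃ₐ[Localization.AtPrime (m i)] B i)) ∧ (∃ n : ℕ, (∀ x ∈ RingHom.ker (algebraMap A C), ∀ y ∈ (⨅ i, m i) ^ n, y * x = 0) ∧ (∀ y ∈ (⨅ i, m i) ^ n, ∀ c : C, y • c ∈ (algebraMap A C).range)) ∧ ((∀ i, (algebraMap (Localization.AtPrime (m i)) (B i)).Finite) → (algebraMap A C).Finite)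 ∧ ((∀ i, Function.Injective (algebraMap (Localization.AtPrime (m i)) (B i))) → Function.Injective (algebraMap A C)) ∧ ((∀ i, Function.Surjective (algebraMap (Localization.AtPrime (m i)) (B i))) → Function.Surjective (algebraMap A C)) := by
  classical
  haveI : ∀ i, (m i).IsMaximal := hm
  letI : ∀ i, Algebra A (B i) := fun i =>
    ((algebraMap (Localization.AtPrime (m i)) (B i)).comp
      (algebraMap A (Localization.AtPrime (m i)))).toAlgebra
  haveI : ∀ i, IsScalarTower A (Localization.AtPrime (m i)) (B i) := fun i =>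
    IsScalarTower.of_algebraMap_eq' rfl
  choose n₁ hn₁ using hker
  choose n₂ hn₂ using hcoker
  let n : ℕ := Finset.univ.sup (fun i => max (n₁ i) (n₂ i))
  have hn : ∀ i, n₁ i ≤ n ∧ n₂ i ≤ n := fun i => by
    have := Finset.le_sup (f := fun i => max (n₁ i) (n₂ i)) (Finset.mem_univ i)
    exact ⟨le_trans (le_max_left _ _) this, le_trans (le_max_right _ _) this⟩
  have hker : ∀ i, ∀ x : Localization.AtPrime (m i), algebraMap _ (B i) x = 0 →
      ∀ u ∈ m i ^ n, algebraMap A (Localization.AtPrime (m i)) u * x = 0 := fun i x hx u hu =>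
    hn₁ i x (RingHom.mem_ker.2 hx) _ (by
      rw [← Ideal.map_pow]
      exact Ideal.mem_map_of_mem _ (Ideal.pow_le_pow_right (hn i).1 hu))
  have hcoker : ∀ i, ∀ u ∈ m i ^ n, ∀ b : B i,
      ∃ x : Localization.AtPrime (m i), algebraMap _ (B i) x = u • b := fun i u hu b => by
    obtain ⟨x, hx⟩ := hn₂ i (algebraMap A (Localization.AtPrime (m i)) u) (by
      rw [← Ideal.map_pow]
      exact Ideal.mem_map_of_mem _ (Ideal.pow_le_pow_right (hn i).2 hu)) b
    exact ⟨x, hx.trans (algebraMap_smul _ u b)⟩
  let C := Glue.glue m B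
  have hlm : ∀ i, IsLocalizedModule (m i).primeCompl (Glue.proj m B i).toLinearMap :=
    Glue.isLocalizedModule n hker hcoker hinj
  have huni : ∀ (c : ↥C), ∀ y ∈ (⨅ i, m i) ^ n,
      ∃ a : A, algebraMap A (Glue.Ambient m B) a = y • (c : Glue.Ambient m B) :=
    fun c y hy => Glue.uniform n hker hcoker hinj c hy
  refine ⟨↥C, inferInstance, inferInstance, fun i => ?_, ⟨n, ⟨fun x hx y hy => ?_, fun y hy c => ?_⟩⟩,
    fun hfin => ?_, fun hinjB => ?_, fun hsurj => ?_⟩
  · haveI := hlm i
    let Φ : Localization.AtPrime (m i) ⊗[A] ↥C →ₐ[Localization.AtPrime (m i)] B i :=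
      Algebra.TensorProduct.lift (Algebra.ofId _ _) (Glue.proj m B i) fun _ _ => Commute.all _ _
    have hbc : IsBaseChange (Localization.AtPrime (m i)) (Glue.proj m B i).toLinearMap :=
      (isLocalizedModule_iff_isBaseChange (m i).primeCompl _ _).1 (hlm i)
    refine ⟨AlgEquiv.ofBijective Φ ?_⟩
    have he : ⇑Φ = ⇑hbc.equiv := funext fun z => by
      induction z using TensorProduct.induction_on with
      | zero => rw [map_zero, map_zero]
      | tmul x c =>
        rw [IsBaseChange.equiv_tmul, Algebra.TensorProduct.lift_tmul, Algebra.smul_def]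
        rfl
      | add z z' hz hz' => rw [map_add, map_add, hz, hz']
    rw [he]
    exact hbc.equiv.bijective
  · have hxB : ∀ i, algebraMap A (B i) x = 0 := fun i => by
      have := congrArg (Glue.proj m B i) (RingHom.mem_ker.1 hx)
      rwa [AlgHom.commutes, map_zero] at this
    let W : Ideal A := Submodule.comap (LinearMap.mulRight A (y * x)) (⊥ : Ideal A)
    have hW : ∀ w, w ∈ W ↔ w * (y * x) = 0 := fun w => Iff.rfl
    suffices hWt : W = ⊤ by
      simpa using (hW 1).1 (hWt ▸ Submodule.mem_top)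
    by_contra hne
    obtain ⟨P, hP, hWP⟩ := Ideal.exists_le_maximal W hne
    by_cases h : ∀ i, P ≠ m i
    · have h0 : algebraMap A (Localization.AtPrime P) x = 0 :=
        congrArg (fun c : ↥C => (c : Glue.Ambient m B).2 ⟨⟨P, hP.isPrime⟩, h⟩) (RingHom.mem_ker.1 hx)
      obtain ⟨⟨s, hs⟩, hs0⟩ := (IsLocalization.map_eq_zero_iff P.primeCompl _ x).1 h0
      exact hs (hWP ((hW s).2 (by rw [mul_left_comm, hs0, mul_zero])))
    · push Not at h
      obtain ⟨i, rfl⟩ := h
      obtain ⟨s, hs, hs0⟩ := Glue.exists_kill n hker (hxB i)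
        (Ideal.pow_right_mono (iInf_le m i) n hy)
      exact hs (hWP ((hW s).2 hs0))
  · obtain ⟨a, ha⟩ := huni c y hy
    exact ⟨a, Subtype.ext ha⟩
  · have hgen : ∀ i, ∃ D : Finset ↥C, ∀ b : B i, ∃ s : A, s ∉ m i ∧
        ∃ c ∈ Submodule.span A (D : Set ↥C), Glue.proj m B i c = s • b := fun i => by
      haveI : Module.Finite (Localization.AtPrime (m i)) (B i) := RingHom.finite_algebraMap.1 (hfin i)
      obtain ⟨G, hG⟩ := Module.Finite.fg_top (R := Localization.AtPrime (m i)) (M := B i)
      haveI := hlm i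
      choose p hp using fun g : B i => IsLocalizedModule.surj (m i).primeCompl
        (Glue.proj m B i).toLinearMap g
      refine ⟨G.image fun g => (p g).1, fun b => ?_⟩
      have hb : b ∈ Submodule.span (Localization.AtPrime (m i)) (G : Set (B i)) := hG ▸ Submodule.mem_top
      induction hb using Submodule.span_induction with
      | mem g hg => exact ⟨_, (p g).2.2, (p g).1,
          Submodule.subset_span (Finset.mem_image_of_mem _ hg), (hp g).symm⟩
      | zero => exact ⟨1, (m i).one_notMem, 0, zero_mem _, by simp⟩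
      | add b b' _ _ hb hb' =>
        obtain ⟨s, hs, c, hc, hcb⟩ := hb
        obtain ⟨s', hs', c', hc', hcb'⟩ := hb'
        refine ⟨s * s', fun h => ((hm i).isPrime.mem_or_mem h).elim hs hs', s' • c + s • c',
          add_mem (Submodule.smul_mem _ _ hc) (Submodule.smul_mem _ _ hc'), ?_⟩
        rw [map_add, map_smul, map_smul, hcb, hcb', smul_add, smul_smul, smul_smul, mul_comm s' s]
      | smul x b _ hb =>
        obtain ⟨s, hs, c, hc, hcb⟩ := hb
        obtain ⟨a, t, rfl⟩ := IsLocalization.exists_mk'_eq (m i).primeCompl x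
        refine ⟨t * s, fun h => ((hm i).isPrime.mem_or_mem h).elim t.2 hs, a • c,
          Submodule.smul_mem _ _ hc, ?_⟩
        rw [map_smul, hcb, mul_comm (t : A) s, mul_smul, smul_comm a s,
          ← algebraMap_smul (Localization.AtPrime (m i)) (t : A) (IsLocalization.mk' _ a t • b),
          ← mul_smul (algebraMap A (Localization.AtPrime (m i)) (t : A)), IsLocalization.mk'_spec',
          algebraMap_smul, smul_smul]
    choose D hD using hgen
    obtain ⟨U, hU⟩ : ((⨅ i, m i) ^ n).FG := IsNoetherian.noetherian _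
    let D' : Finset ↥C := insert 1 (Finset.univ.biUnion D)
    suffices hD' : Submodule.span A (D' : Set ↥C) = ⊤ by
      exact RingHom.finite_algebraMap.2 ⟨⟨D', hD'⟩⟩
    rw [Submodule.eq_top_iff']
    intro c
    let W : Ideal A := (Submodule.span A (D' : Set ↥C)).comap (LinearMap.toSpanSingleton A ↥C c)
    have hW : ∀ w, w ∈ W ↔ w • c ∈ Submodule.span A (D' : Set ↥C) := fun w => Iff.rfl
    suffices hWt : W = ⊤ by
      simpa using (hW 1).1 (hWt ▸ Submodule.mem_top)
    refine Glue.eq_top_of_forall (m := m) W n (fun y hy => ?_) fun i => ?_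
    · obtain ⟨a, ha⟩ := huni c y hy
      rw [hW, show y • c = a • (1 : ↥C) from Subtype.ext (by
        show y • (c : Glue.Ambient m B) = a • (1 : Glue.Ambient m B)
        rw [← Algebra.algebraMap_eq_smul_one, ha])]
      exact Submodule.smul_mem _ _ (Submodule.subset_span (Finset.mem_insert_self _ _))
    · obtain ⟨s, hs, d, hd, hdc⟩ := hD i (Glue.proj m B i c)
      haveI := hlm i
      obtain ⟨⟨t, ht⟩, he⟩ := IsLocalizedModule.exists_of_eq (S := (m i).primeCompl)
        (f := (Glue.proj m B i).toLinearMap) (x₁ := d) (x₂ := s • c)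
        (by show Glue.proj m B i d = Glue.proj m B i (s • c); rw [hdc, map_smul])
      refine ⟨t * s, (hW _).2 ?_, fun h => ((hm i).isPrime.mem_or_mem h).elim ht hs⟩
      rw [mul_smul]
      exact (show t • d = t • (s • c) from he) ▸ Submodule.smul_mem _ _
        (Submodule.span_mono (by
          intro z hz
          exact Finset.mem_insert_of_mem (Finset.mem_biUnion.2 ⟨i, Finset.mem_univ i, hz⟩)) hd)
  · refine (injective_iff_map_eq_zero _).2 fun x hx => ?_
    let W : Ideal A := Submodule.comap (LinearMap.mulRight A x) (⊥ : Ideal A)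
    have hW : ∀ w, w ∈ W ↔ w * x = 0 := fun w => Iff.rfl
    suffices hWt : W = ⊤ by
      simpa using (hW 1).1 (hWt ▸ Submodule.mem_top)
    by_contra hne
    obtain ⟨P, hP, hWP⟩ := Ideal.exists_le_maximal W hne
    obtain ⟨⟨s, hs⟩, hs0⟩ : ∃ s : P.primeCompl, (s : A) * x = 0 := by
      refine (IsLocalization.map_eq_zero_iff P.primeCompl (Localization.AtPrime P) x).1 ?_
      by_cases h : ∀ i, P ≠ m i
      · exact congrArg (fun c : ↥C => (c : Glue.Ambient m B).2 ⟨⟨P, hP.isPrime⟩, h⟩) hx
      · push Not at h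
        obtain ⟨i, rfl⟩ := h
        refine hinjB i ?_
        have := congrArg (Glue.proj m B i) hx
        rw [AlgHom.commutes, map_zero] at this
        rw [map_zero]
        exact this
    exact hs (hWP ((hW s).2 hs0))
  · intro c
    let W : Ideal A := Submodule.comap (LinearMap.toSpanSingleton A ↥C c) (1 : Submodule A ↥C)
    have hW : ∀ w, w ∈ W ↔ ∃ a : A, algebraMap A ↥C a = w • c := fun w => Submodule.mem_one
    suffices hWt : W = ⊤ by
      simpa using (hW 1).1 (hWt ▸ Submodule.mem_top)
    refine Glue.eq_top_of_forall (m := m) W n (fun y hy => ?_) fun i => ?_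
    · obtain ⟨a, ha⟩ := huni c y hy
      exact (hW y).2 ⟨a, Subtype.ext ha⟩
    · obtain ⟨x, hx⟩ := hsurj i (Glue.proj m B i c)
      obtain ⟨a, s, rfl⟩ := IsLocalization.exists_mk'_eq (m i).primeCompl x
      haveI := hlm i
      obtain ⟨⟨t, ht⟩, he⟩ := IsLocalizedModule.exists_of_eq (S := (m i).primeCompl)
        (f := (Glue.proj m B i).toLinearMap) (x₁ := algebraMap A ↥C a) (x₂ := (s : A) • c)
        (by
          show Glue.proj m B i (algebraMap A ↥C a) = Glue.proj m B i ((s : A) • c)
          rw [AlgHom.commutes, map_smul, ← hx, ← algebraMap_smul (Localization.AtPrime (m i)) (s : A),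
            Algebra.smul_def, ← map_mul, IsLocalization.mk'_spec']
          rfl)
      refine ⟨t * s, (hW _).2 ⟨t * a, ?_⟩, fun h => ((hm i).isPrime.mem_or_mem h).elim ht s.2⟩
      rw [map_mul, ← Algebra.smul_def, mul_smul]
      exact he

end Groth.Agent.S1837
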