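import Groth.Statements.S18370

set_option autoImplicit false
universe u
open CategoryTheory CategoryTheory.Limits MonoidalCategory CartesianMonoidalCategory MonObj GrpObj AlgebraicGeometry
open GrpSch

namespace Groth.Agent.S18370

/-- Let S be a scheme and G a commutative S-group scheme which is killed by a natural number n, i.e. the
n-th power map of G is the trivial homomorphism, and let n = a·b with a and b coprime. If i_a : G_a
→ G and i_b : G_b → G are scheme-theoretic kernels of the a-th and b-th power maps of G, then the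
morphism G_a ×_S G_b → G sending (x, y) to i_a(x)·i_b(y) is an isomorphism of S-schemes. (The
published statement assumes n ≠ 0; the case n = 0, where {a, b} = {0, 1} and one kernel is all of G
while the other is trivial, is included here.) -/
theorem result {S : Scheme.{u}} (G Ga Gb : Over S)
    [GrpObj G] [IsCommMonObj G] (n a b : ℕ) (hn : n = a * b) (hab : Nat.Coprime a b)
    (hG : (𝟙 G) ^ n = 1)
    (ia : Ga ⟶ G) (hia : AlgGrp.IsKernel ia ((𝟙 G) ^ a))
    (ib : Gb ⟶ G) (hib : AlgGrp.IsKernel ib ((𝟙 G) ^ b)) :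
    IsIso ((fst Ga Gb ≫ ia) * (snd Ga Gb ≫ ib)) := by
  let _ : ∀ X : Over S, CommGroup (X ⟶ G) := fun X => CategoryTheory.Hom.commGroup
  have hcp : ∀ {T : Over S} (z : T ⟶ G) (m : ℕ), z ≫ (𝟙 G) ^ m = z ^ m := by
    intro T z m; rw [MonObj.comp_pow, Category.comp_id]
  have kill : ∀ {N : Over S} {m : ℕ} {i : N ⟶ G}, AlgGrp.IsKernel i ((𝟙 G) ^ m) →
      ∀ {T : Over S} (y : T ⟶ N), (y ≫ i) ^ m = 1 := by
    intro N m i hi T y
    rw [← hcp, Category.assoc, hi.w, ← Category.assoc, Subsingleton.elim (y ≫ toUnit N) (toUnit T), ← Hom.one_def]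
  obtain ⟨x, y, hxy⟩ : ∃ x y : ℤ, (a : ℤ) * x + (b : ℤ) * y = 1 := by
    refine ⟨Nat.gcdA a b, Nat.gcdB a b, ?_⟩
    rw [← Nat.gcd_eq_gcd_ab, hab.gcd_eq_one]; rfl
  have hab' : ∀ (z : ℤ), ((𝟙 G) ^ ((b : ℤ) * z)) ^ a = 1 ∧ ((𝟙 G) ^ ((a : ℤ) * z)) ^ b = 1 := by
    intro z
    constructor <;>
    · rw [← zpow_natCast, ← zpow_mul]
      have : ((𝟙 G : G ⟶ G)) ^ ((n : ℤ) * z) = 1 := by rw [zpow_mul, zpow_natCast, hG, one_zpow]
      rw [hn, Nat.cast_mul] at this
      convert this using 2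
      ring
  obtain ⟨ea, hea⟩ : ∃ ea : G ⟶ Ga, ea ≫ ia = (𝟙 G) ^ ((b : ℤ) * y) :=
    ⟨hia.lift _ (toUnit G) (by rw [hcp, (hab' y).1, Hom.one_def]), hia.lift_fst _ _ _⟩
  obtain ⟨eb, heb⟩ : ∃ eb : G ⟶ Gb, eb ≫ ib = (𝟙 G) ^ ((a : ℤ) * x) :=
    ⟨hib.lift _ (toUnit G) (by rw [hcp, (hab' x).2, Hom.one_def]), hib.lift_fst _ _ _⟩
  set f := (fst Ga Gb ≫ ia) * (snd Ga Gb ≫ ib) with hf
  have hA : (fst Ga Gb ≫ ia) ^ (a : ℤ) = 1 := by rw [zpow_natCast]; exact kill hia _
  have hB : (snd Ga Gb ≫ ib) ^ (b : ℤ) = 1 := by rw [zpow_natCast]; exact kill hib _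
  refine ⟨lift ea eb, ?_, ?_⟩
  · ext : 1
    · refine hia.hom_ext ?_ (Subsingleton.elim _ _)
      rw [Category.assoc, Category.assoc, lift_fst_assoc, Category.assoc, hea, GrpObj.comp_zpow, Category.comp_id,
        Category.id_comp, hf, mul_zpow, show (b : ℤ) * y = 1 - a * x by linarith, zpow_sub, zpow_one, zpow_mul,
        hA, one_zpow, inv_one, _root_.mul_one, show (1 : ℤ) - a * x = b * y by linarith, zpow_mul, hB, one_zpow, _root_.mul_one]
    · refine hib.hom_ext ?_ (Subsingleton.elim _ _)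
      rw [Category.assoc, Category.assoc, lift_snd_assoc, Category.assoc, heb, GrpObj.comp_zpow, Category.comp_id,
        Category.id_comp, hf, mul_zpow, zpow_mul (fst Ga Gb ≫ ia), hA, one_zpow, _root_.one_mul,
        show (a : ℤ) * x = 1 - b * y by linarith, zpow_sub, zpow_one, zpow_mul, hB, one_zpow, inv_one, _root_.mul_one]
  · rw [hf, MonObj.comp_mul, lift_fst_assoc, lift_snd_assoc, hea, heb, ← zpow_add,
      show (b : ℤ) * y + a * x = 1 by linarith, zpow_one]
end Groth.Agent.S18370
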