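import Groth.Statements.S18372
import Groth.Agent.L26.AV.Rigidity
import Groth.Agent.L18.KerReduced
import Mathlib.AlgebraicGeometry.Morphisms.Finite

set_option autoImplicit false
universe u
open CategoryTheory CategoryTheory.Limits MonoidalCategory CartesianMonoidalCategory MonObj GrpObj AlgebraicGeometry
open AbVar

namespace Groth.Agent.S18372

set_option backward.isDefEq.respectTransparency.types false

/-- Let k be an algebraically closed field, A an abelian variety over k (a proper smooth k-group scheme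
with geometrically connected fibres), U an affine open subset of A containing the unit point and D =
A ∖ U. Then only finitely many k-rational points x of A have a translation t_x : z ↦ z + x (the
product of the identity and the constant map x in the group Hom(A, A)) with t_x⁻¹(D) = D as sets. -/
theorem result (k : Type u) [Field k] [IsAlgClosed k]
    (A : Over (Spec (CommRingCat.of k))) [GrpObj A] [IsProper A.hom] [Smooth A.hom] [GeometricallyConnected A.hom]
    (U : A.left.Opens) (hU : IsAffineOpen U) (he : Set.range η[A].left.base ⊆ (U : Set A.left)) :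
    Set.Finite {x : 𝟙_ (Over (Spec (CommRingCat.of k))) ⟶ A |
      (𝟙 A * (toUnit A ≫ x)).left.base ⁻¹' ((U : Set A.left)ᶜ) = (U : Set A.left)ᶜ} := by
  haveI : JacobsonSpace A.left := LocallyOfFiniteType.jacobsonSpace A.hom
  let D : Set A.left := (U : Set A.left)ᶜ
  have hDcl : IsClosed D := U.isOpen.isClosed_compl
  let s₀ := IsLocalRing.closedPoint k
  let pt := fun (v : A.left) (hv : IsClosed ({v} : Set A.left)) =>
    (Over.homMk (pointOfClosedPoint A.hom v hv) (pointOfClosedPoint_comp _ _ hv) :
      𝟙_ (Over (Spec (CommRingCat.of k))) ⟶ A)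
  -- the closed set of points which translate `D` into itself both ways
  let C : Set A.left := ⋂ (d : A.left) (hd : IsClosed ({d} : Set A.left)) (_ : d ∈ D),
    ((toUnit A ≫ pt d hd) * 𝟙 A).left.base ⁻¹' D ∩ ((toUnit A ≫ pt d hd) * (𝟙 A)⁻¹).left.base ⁻¹' D
  have hC : IsClosed C := isClosed_iInter fun d => isClosed_iInter fun hd => isClosed_iInter fun _ =>
    (hDcl.preimage (Scheme.Hom.continuous _)).inter (hDcl.preimage (Scheme.Hom.continuous _))
  have hCU : C ∩ D = ∅ := by
    by_contra hne
    obtain ⟨c, ⟨hcC, hcD⟩, hc⟩ := nonempty_inter_closedPoints (Set.nonempty_iff_ne_empty.2 hne)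
      (hC.inter hDcl).isLocallyClosed
    have h2 := (Set.mem_iInter.1 (Set.mem_iInter.1 (Set.mem_iInter.1 hcC c) hc) hcD).2
    let p := pt c hc
    have hp : p.left s₀ = c := pointOfClosedPoint_apply _ _ hc _
    have e : p ≫ ((toUnit A ≫ p) * (𝟙 A)⁻¹) = η[A] := by
      rw [MonObj.comp_mul, GrpObj.comp_inv, Category.comp_id, ← Category.assoc,
        toUnit_unique (p ≫ toUnit A) (𝟙 _), Category.id_comp, mul_inv_cancel, Hom.one_def,
        toUnit_unique (toUnit _) (𝟙 _), Category.id_comp]
    have h3 := congrArg (fun f : 𝟙_ (Over (Spec (CommRingCat.of k))) ⟶ A => f.left s₀) e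
    simp only [Over.comp_left, Scheme.Hom.comp_apply, hp] at h3
    exact h2 (he ⟨s₀, h3.symm⟩)
  -- a proper affine scheme is finite
  let Zc : TopologicalSpace.Closeds A.left := ⟨C, hC⟩
  let I := Scheme.IdealSheafData.vanishingIdeal Zc
  have hr : Set.range I.subschemeι = C := by
    rw [Scheme.IdealSheafData.range_subschemeι, Scheme.IdealSheafData.coe_support_vanishingIdeal]; rfl
  have hsub : Set.range I.subschemeι ⊆ Set.range U.ι := by
    rw [hr, Scheme.Opens.range_ι]
    exact fun c hc => not_not.1 fun h => (Set.eq_empty_iff_forall_notMem.1 hCU c ⟨hc, h⟩)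
  let l := IsOpenImmersion.lift U.ι I.subschemeι hsub
  have hl : l ≫ U.ι = I.subschemeι := IsOpenImmersion.lift_fac _ _ _
  haveI : IsAffine (U : Scheme) := hU
  haveI : IsClosedImmersion (l ≫ U.ι) := hl ▸ inferInstance
  haveI : IsClosedImmersion l := IsClosedImmersion.of_comp l U.ι
  haveI : IsAffine I.subscheme := isAffine_of_isAffineHom l
  haveI : IsAffineHom (I.subschemeι ≫ A.hom) := inferInstance
  haveI : IsFinite (I.subschemeι ≫ A.hom) :=
    IsFinite.iff_isProper_and_isAffineHom.2 ⟨inferInstance, inferInstance⟩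
  have hfin : C.Finite := by
    rw [← hr, ← Set.image_univ]
    refine Set.Finite.image _ ?_
    refine ((I.subschemeι ≫ A.hom).finite_preimage_singleton s₀).subset ?_
    exact fun w _ => Subsingleton.elim (α := PrimeSpectrum k) _ _
  refine Set.Finite.of_finite_image (f := fun x => x.left s₀) (hfin.subset ?_) ?_
  · rintro _ ⟨x, hx, rfl⟩
    refine Set.mem_iInter.2 fun d => Set.mem_iInter.2 fun hd => Set.mem_iInter.2 fun hdD => ?_
    let p := pt d hd
    have hp : p.left s₀ = d := pointOfClosedPoint_apply _ _ hd _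
    let t : A ⟶ A := 𝟙 A * (toUnit A ≫ x)
    have hiff : ∀ a : A.left, t.left a ∈ D ↔ a ∈ D := fun a => Set.ext_iff.1 hx a
    have e1 : x ≫ ((toUnit A ≫ p) * 𝟙 A) = p ≫ t := by
      simp only [t, MonObj.comp_mul, Category.comp_id, ← Category.assoc]
      rw [toUnit_unique (x ≫ toUnit A) (𝟙 _), toUnit_unique (p ≫ toUnit A) (𝟙 _), Category.id_comp,
        Category.id_comp]
    have e2 : (x ≫ ((toUnit A ≫ p) * (𝟙 A)⁻¹)) ≫ t = p := by
      simp only [t, MonObj.comp_mul, GrpObj.comp_inv, Category.comp_id, ← Category.assoc]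
      rw [toUnit_unique (x ≫ toUnit A) (𝟙 _), Category.id_comp,
        toUnit_unique ((p * x⁻¹) ≫ toUnit A) (𝟙 _), Category.id_comp, inv_mul_cancel_right]
    refine ⟨?_, ?_⟩
    · show (x ≫ ((toUnit A ≫ p) * 𝟙 A)).left s₀ ∈ D
      rw [e1]
      exact (hiff _).2 (show p.left s₀ ∈ D by rw [hp]; exact hdD)
    · show (x ≫ ((toUnit A ≫ p) * (𝟙 A)⁻¹)).left s₀ ∈ D
      rw [← hiff]
      show ((x ≫ ((toUnit A ≫ p) * (𝟙 A)⁻¹)) ≫ t).left s₀ ∈ D
      rw [e2, hp]; exact hdD
  · intro a _ b _ h
    ext1
    exact ext_of_apply_closedPoint_eq A.hom (Over.w a) (Over.w b) h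

end Groth.Agent.S18372
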