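import Groth.Statements.S18373
import Groth.Agent.L26.Theta.Sets
import Groth.Agent.L08.Cube.SliceFibre
import Groth.Agent.L12.HypSq.Curve
import Mathlib.AlgebraicGeometry.Group.Abelian

set_option autoImplicit false
universe u
open CategoryTheory CategoryTheory.Limits MonoidalCategory CartesianMonoidalCategory MonObj GrpObj AlgebraicGeometry
open AbVar

namespace Groth.Agent.S18373

open Groth.Agent.L26.Theta Groth.Agent.L26.JacRat
set_option backward.isDefEq.respectTransparency false
set_option backward.isDefEq.respectTransparency.types false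
set_option linter.style.haveILetI false
theorem irr_prod {k : Type u} [Field k] [IsAlgClosed k] {X Y : Scheme.{u}} (f : X ⟶ Spec (CommRingCat.of k))
    (g : Y ⟶ Spec (CommRingCat.of k)) [IrreducibleSpace ↥X] [IrreducibleSpace ↥Y] [LocallyOfFiniteType f] :
    IrreducibleSpace ↥(pullback f g) := by
  haveI := Groth.L25.GeomIrred.geometricallyIrreducible_of_isAlgClosed f
  infer_instance

/-- Let k be an algebraically closed field and A an abelian variety over k (a proper smooth k-group
scheme with geometrically connected fibres). Let Δ ⊆ A be an irreducible closed subset of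
codimension one, with generic point ξ whose local ring O_{A,ξ} has Krull dimension 1 (an irreducible
effective divisor), and let C ⊆ A be an irreducible closed subset of dimension one (a curve)
disjoint from Δ. Then for all k-rational points x, y of A lying on C, translation by x − y (the map
z ↦ z + x − y, written with the group Hom(A, A)) carries Δ onto itself: t_{x−y}⁻¹(Δ) = Δ. -/
theorem result (k : Type u) [Field k] [IsAlgClosed k]
    (A : Over (Spec (CommRingCat.of k))) [GrpObj A] [IsProper A.hom] [Smooth A.hom] [GeometricallyConnected A.hom]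
    (Δ : Set A.left) (hΔ : IsClosed Δ) (ξ : A.left) (hξ : closure {ξ} = Δ)
    (hcodim : ringKrullDim (A.left.presheaf.stalk ξ) = 1)
    (C : Set A.left) (hC : IsClosed C) (hCirr : IsIrreducible C) (hCdim : topologicalKrullDim C = 1)
    (hdisj : Disjoint C Δ)
    (x y : 𝟙_ (Over (Spec (CommRingCat.of k))) ⟶ A)
    (hx : Set.range x.left.base ⊆ C) (hy : Set.range y.left.base ⊆ C) :
    (𝟙 A * (toUnit A ≫ (x * y⁻¹))).left.base ⁻¹' Δ = Δ := by
  haveI : Subsingleton ↥(Spec (CommRingCat.of k)) := inferInstanceAs (Subsingleton (PrimeSpectrum k))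
  haveI : ConnectedSpace ↥(Spec (CommRingCat.of k)) := inferInstanceAs (ConnectedSpace (PrimeSpectrum k))
  haveI : ConnectedSpace ↥A.left := GeometricallyConnected.connectedSpace_of_subsingleton A.hom
  letI : A.left.Over (Spec (CommRingCat.of k)) := ⟨A.hom⟩
  haveI : IsProper (A.left ↘ Spec (CommRingCat.of k)) := inferInstanceAs (IsProper A.hom)
  haveI : IsIntegral A.left :=
    haveI := Groth.L21.RR.isNoetherian_of_proper (X := A.left) k
    Groth.L21.NormalTotal.isIntegral_of_connected fun z => Groth.L21.Smooth.isDomain_stalk A.hom z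
  obtain ⟨γ₀, hγ₀⟩ := QuasiSober.sober ((irreducibleSpace_def _).1 (irreducibleSpace_of_isIntegral (X := A.left))) isClosed_univ
  haveI := Groth.L08.Cube.geometricallyIntegral_of_isAlgClosed A.hom
  haveI : IsCommMonObj A := AlgebraicGeometry.isCommMonObj_of_isProper_of_geometricallyIntegral A
  obtain ⟨x, rfl⟩ : ∃ x' : onePt k ⟶ A, x' = x := ⟨x, rfl⟩
  obtain ⟨y, rfl⟩ : ∃ y' : onePt k ⟶ A, y' = y := ⟨y, rfl⟩
  -- the reduced structures
  let iΔ := (Scheme.IdealSheafData.vanishingIdeal ⟨Δ, hΔ⟩).subschemeι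
  let iC := (Scheme.IdealSheafData.vanishingIdeal ⟨C, hC⟩).subschemeι
  have rΔ : Set.range iΔ = Δ := by simp [iΔ, Scheme.IdealSheafData.range_subschemeι]
  have rC : Set.range iC = C := by simp [iC, Scheme.IdealSheafData.range_subschemeι]
  have hΔirr : IsIrreducible Δ := hξ ▸ isIrreducible_singleton.closure
  have irrSpace : ∀ {Z : Scheme.{u}} (i : Z ⟶ A.left) [IsClosedImmersion i], IsIrreducible (Set.range i) →
      IrreducibleSpace ↥Z := fun {Z} i _ h => by
    haveI : Nonempty ↥Z := Set.range_nonempty_iff_nonempty.1 h.1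
    haveI : PreirreducibleSpace ↥Z := ⟨by
      intro U V hU hV hU' hV'
      obtain ⟨U₀, hU₀, rfl⟩ := i.isClosedEmbedding.isInducing.isOpen_iff.1 hU
      obtain ⟨V₀, hV₀, rfl⟩ := i.isClosedEmbedding.isInducing.isOpen_iff.1 hV
      obtain ⟨z, -, hz⟩ := hU'
      obtain ⟨w, -, hw⟩ := hV'
      obtain ⟨_, ⟨v, rfl⟩, hv⟩ := h.2 U₀ V₀ hU₀ hV₀ ⟨_, ⟨z, rfl⟩, hz⟩ ⟨_, ⟨w, rfl⟩, hw⟩
      exact ⟨v, Set.mem_univ _, hv⟩⟩
    exact ⟨inferInstance⟩
  haveI := irrSpace iΔ (rΔ.symm ▸ hΔirr)
  haveI := irrSpace iC (rC.symm ▸ hCirr)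
  let DO : Over (Spec (CommRingCat.of k)) := Over.mk (iΔ ≫ A.hom)
  let CO : Over (Spec (CommRingCat.of k)) := Over.mk (iC ≫ A.hom)
  haveI : IsProper DO.hom := inferInstanceAs (IsProper (iΔ ≫ A.hom))
  haveI : IsProper CO.hom := inferInstanceAs (IsProper (iC ≫ A.hom))
  let jΔ : DO ⟶ A := Over.homMk iΔ
  let jC : CO ⟶ A := Over.homMk iC
  haveI : IrreducibleSpace ↥(DO ⊗ CO).left := irr_prod (iΔ ≫ A.hom) (iC ≫ A.hom)
  haveI : IsProper (DO ⊗ CO).hom := by dsimp [DO, CO]; infer_instance
  let h : DO ⊗ CO ⟶ A := (fst DO CO ≫ jΔ) * (snd DO CO ≫ jC)⁻¹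
  have hRcl : IsClosed (Set.range h.left) := isClosed_range_of_proper h
  have hne : pt (1 : onePt k ⟶ A) ∉ Set.range h.left := fun hmem => by
    obtain ⟨q, hq⟩ := (pt_mem_range_iff h 1).1 hmem
    rw [MonObj.comp_mul, GrpObj.comp_inv, mul_inv_eq_one] at hq
    have h1 : pt (q ≫ fst DO CO ≫ jΔ) ∈ Δ := by
      rw [← Category.assoc, pt_comp]
      exact rΔ ▸ Set.mem_range_self _
    have h2 : pt (q ≫ fst DO CO ≫ jΔ) ∈ C := by
      rw [hq, ← Category.assoc, pt_comp]
      exact rC ▸ Set.mem_range_self _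
    exact Set.disjoint_left.1 hdisj h2 h1
  have key : ∀ c : onePt k ⟶ A, pt c ∈ C → (Jac.transl A c).left.base '' Set.range h.left = Δ := fun c hc => by
    -- an irreducible closed set containing the divisor
    have hsub : Δ ⊆ (Jac.transl A c).left.base '' Set.range h.left := by
      refine subset_of_pts hΔ (isClosed_image_transl c hRcl) fun a ha => ?_
      obtain ⟨q₁, hq₁⟩ := (pt_mem_range_iff jΔ a).1 (show pt a ∈ Set.range iΔ from rΔ.symm ▸ ha)
      obtain ⟨q₂, hq₂⟩ := (pt_mem_range_iff jC c).1 (show pt c ∈ Set.range iC from rC.symm ▸ hc)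
      rw [pt_mem_image_transl, pt_mem_range_iff]
      exact ⟨lift q₁ q₂, by rw [MonObj.comp_mul, GrpObj.comp_inv, lift_fst_assoc, lift_snd_assoc, hq₁, hq₂]⟩
    have hirr : IsIrreducible ((Jac.transl A c).left.base '' Set.range h.left) :=
      ((Set.image_univ ▸ (IrreducibleSpace.isIrreducible_univ _).image h.left h.left.continuous.continuousOn :
        IsIrreducible (Set.range h.left))).image _ (Jac.transl A c).left.continuous.continuousOn
    have hne' : (Jac.transl A c).left.base '' Set.range h.left ≠ Set.univ := fun hu => by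
      have : pt c ∈ (Jac.transl A c).left.base '' Set.range h.left := hu ▸ Set.mem_univ _
      rw [pt_mem_image_transl, mul_inv_cancel] at this
      exact hne this
    obtain ⟨ζ, hζ⟩ := QuasiSober.sober hirr (isClosed_image_transl c hRcl)
    have hle : ζ ⤳ ξ := hζ.specializes (hsub (hξ ▸ subset_closure rfl))
    rw [← hζ.def]
    by_cases e : ζ = ξ
    · rw [e, hξ]
    · exfalso
      have hgen : ζ ≠ γ₀ := fun e' => hne' (by rw [← hζ.def, e']; exact hγ₀.def)
      have h1 : ξ < ζ := lt_of_le_not_ge hle fun h' => e (Specializes.antisymm hle h').eq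
      have hle₂ : γ₀ ⤳ ζ := hγ₀.specializes (Set.mem_univ _)
      have h2 : ζ < γ₀ := lt_of_le_not_ge hle₂ fun h' => hgen (Specializes.antisymm h' hle₂).eq
      have h3 : Order.coheight ξ = 1 := by
        have := hcodim
        rw [ringKrullDim_stalk_eq_coheight] at this
        exact_mod_cast this
      have := (add_le_add_left (Order.coheight_add_one_le h2) 1).trans (Order.coheight_add_one_le h1)
      rw [h3] at this
      have h4 : (1 : ℕ∞) + 1 ≤ 1 := le_trans (by gcongr; exact le_add_self) this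
      exact absurd h4 (by decide)
  have hx' : pt x ∈ C := hx (Set.mem_range_self _)
  have hy' : pt y ∈ C := hy (Set.mem_range_self _)
  show (Jac.transl A (x * y⁻¹)).left ⁻¹' Δ = Δ
  conv_lhs => rw [show x * y⁻¹ = (y * x⁻¹)⁻¹ by rw [_root_.mul_inv, _root_.inv_inv, mul_comm]]
  rw [← image_transl]
  conv_lhs => rw [← key x hx']
  rw [← Set.image_comp]
  change ((Jac.transl A x).left ≫ (Jac.transl A (y * x⁻¹)).left) '' _ = _
  rw [← Over.comp_left, transl_comp_transl, mul_comm y x⁻¹,
    mul_inv_cancel_left]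
  exact key y hy'

end Groth.Agent.S18373
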