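import Groth.Statements.S18382
import Mathlib.Algebra.CharP.Two
import Mathlib.Data.ZMod.Basic
import Mathlib.Data.Finset.Max
import Mathlib.Tactic.Linarith
import Mathlib.Tactic.Ring
import Mathlib.Tactic.Push

set_option autoImplicit false
universe u
open PhiStab

namespace Groth.Agent.S18382

open PhiStab in
variable {_unused : Unit}

variable {V E : Type u} [Fintype V] [Fintype E] [DecidableEq V] [DecidableEq E]

lemma exists_edgeSet (ends : E → V × V) (T : Finset E) {a b : V}
    (h : Relation.ReflTransGen (LabGraph.Adj (PhiStab.spanEnds ends T)) a b) :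
    ∃ P ⊆ T, ∀ v, (LabGraph.endCount ends P v : ZMod 2) = (if v = a then 1 else 0) + (if v = b then 1 else 0) := by
  induction h with
  | refl => exact ⟨∅, Finset.empty_subset _, fun v => by simp [LabGraph.endCount, CharTwo.add_self_eq_zero]⟩
  | @tail b' c' _ hbc ih =>
    obtain ⟨P, hP, hc⟩ := ih
    obtain ⟨⟨f, hf⟩, hfe⟩ := hbc
    refine ⟨symmDiff P {f}, fun x hx => ?_, fun v => ?_⟩
    · rcases Finset.mem_symmDiff.1 hx with ⟨h1, -⟩ | ⟨h1, -⟩
      · exact hP h1
      · rw [Finset.mem_singleton.1 h1]; exact hf
    · let w : E → ZMod 2 := fun e => (if (ends e).1 = v then 1 else 0) + (if (ends e).2 = v then 1 else 0)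
      have hcount : ∀ Q : Finset E, (LabGraph.endCount ends Q v : ZMod 2) = ∑ e ∈ Q, w e := fun Q => by
        simp [LabGraph.endCount, w]
      have hsd : ∑ e ∈ symmDiff P {f}, w e = (∑ e ∈ P, w e) + w f := by
        by_cases hfP : f ∈ P
        · rw [show symmDiff P {f} = P.erase f by ext x; by_cases hx : x = f <;> simp [Finset.mem_symmDiff, hx, hfP],
            ← Finset.add_sum_erase P w hfP, add_comm (w f), add_assoc, CharTwo.add_self_eq_zero, add_zero]
        · rw [show symmDiff P {f} = insert f P by ext x; by_cases hx : x = f <;> simp [Finset.mem_symmDiff, hx, hfP],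
            Finset.sum_insert hfP, add_comm]
      have hwf : w f = (if v = b' then 1 else 0) + (if v = c' then 1 else 0) := by
        simp only [PhiStab.spanEnds] at hfe
        rcases hfe with e | e <;> simp only [w, e, eq_comm (a := v)]
        exact add_comm _ _
      rw [hcount, hsd, ← hcount, hc, hwf]
      rw [add_assoc, ← add_assoc (if v = b' then (1 : ZMod 2) else 0), CharTwo.add_self_eq_zero, zero_add]

lemma not_reach (ends : E → V × V) (hF : DualGr.IsForest ends) (e : E) :
    ¬ Relation.ReflTransGen (LabGraph.Adj (PhiStab.spanEnds ends (Finset.univ.erase e))) (ends e).1 (ends e).2 := by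
  classical
  intro h
  obtain ⟨P, hP, hc⟩ := exists_edgeSet ends _ h
  have he : e ∉ P := fun hm => (Finset.mem_erase.1 (hP hm)).1 rfl
  have hev : ∀ v, Even (LabGraph.endCount ends (insert e P) v) := by
    intro v
    rw [← ZMod.natCast_eq_zero_iff_even]
    have h2 : (LabGraph.endCount ends (insert e P) v : ZMod 2) =
        ((if (ends e).1 = v then 1 else 0) + (if (ends e).2 = v then 1 else 0)) + (LabGraph.endCount ends P v : ZMod 2) := by
      simp [LabGraph.endCount, Finset.sum_insert he]
    rw [h2, hc v]
    simp only [eq_comm (a := v)]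
    exact CharTwo.add_self_eq_zero _
  let Sset := (Finset.univ : Finset (Finset E)).filter
    fun C => C.Nonempty ∧ ∀ v, Even (LabGraph.endCount ends C v)
  obtain ⟨C, hC, hmin⟩ := Finset.exists_min_image Sset Finset.card
    ⟨insert e P, Finset.mem_filter.2 ⟨Finset.mem_univ _, Finset.insert_nonempty _ _, hev⟩⟩
  obtain ⟨-, hC1, hC2⟩ := Finset.mem_filter.1 hC
  refine hF C ⟨hC1, hC2, fun C' hlt hne => ?_⟩
  by_contra hall
  push Not at hall
  exact absurd (hmin C' (Finset.mem_filter.2 ⟨Finset.mem_univ _, hne, hall⟩))
    (not_le.2 (Finset.card_lt_card hlt))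

open Classical in
/-- Indicator of a side. -/
noncomputable def ind (ends : E → V × V) (e : E) : V → ℝ := fun v => if v ∈ PhiStab.side ends e then 1 else 0

lemma ind_diff (ends : E → V × V) (hF : DualGr.IsForest ends) (e f : E) :
    ind ends e (ends f).1 - ind ends e (ends f).2 = if f = e then 1 else 0 := by
  classical
  by_cases h : f = e
  · subst h
    have h1 : (ends f).1 ∈ PhiStab.side ends f := Finset.mem_filter.2 ⟨Finset.mem_univ _, .refl⟩
    have h2 : (ends f).2 ∉ PhiStab.side ends f := fun hm => not_reach ends hF f (Finset.mem_filter.1 hm).2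
    simp [ind, h1, h2]
  · have hf : f ∈ Finset.univ.erase e := Finset.mem_erase.2 ⟨h, Finset.mem_univ _⟩
    have hiff : (ends f).1 ∈ PhiStab.side ends e ↔ (ends f).2 ∈ PhiStab.side ends e := by
      simp only [PhiStab.side, Finset.mem_filter, Finset.mem_univ, true_and]
      exact ⟨fun hr => hr.tail ⟨⟨f, hf⟩, Or.inl rfl⟩, fun hr => hr.tail ⟨⟨f, hf⟩, Or.inr rfl⟩⟩
    rw [if_neg h]
    simp only [ind, hiff, sub_self]

open Classical in
lemma decompose (ends : E → V × V) (hT : DualGr.IsTree ends) (x : V → ℝ) (v w : V) :
    x v - ∑ e, (x (ends e).1 - x (ends e).2) * ind ends e v =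
      x w - ∑ e, (x (ends e).1 - x (ends e).2) * ind ends e w := by
  let y : V → ℝ := fun u => x u - ∑ e, (x (ends e).1 - x (ends e).2) * ind ends e u
  have hstep : ∀ f, y (ends f).1 = y (ends f).2 := by
    intro f
    have h : ∑ e, (x (ends e).1 - x (ends e).2) * (ind ends e (ends f).1 - ind ends e (ends f).2) =
        x (ends f).1 - x (ends f).2 := by
      simp [ind_diff ends hT.2]
    simp only [mul_sub, Finset.sum_sub_distrib] at h
    simp only [y]
    linarith
  show y v = y w
  induction hT.1.2 v w with
  | refl => rfl
  | tail _ hbc ih =>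
    obtain ⟨f, hf | hf⟩ := hbc
    · have := hstep f; rw [hf] at this; exact ih.trans this
    · have := hstep f; rw [hf] at this; exact ih.trans this.symm

open PhiStab in


/-- Let (V, E, ends) be a finite tree, that is a connected multigraph without circuits. For every family
of real numbers c_e indexed by the edges and every real c₀ there is exactly one real weighting φ of
the vertices such that, for each edge e, the sum of φ over the side of e containing its first
endpoint (the vertices joined to that endpoint by a chain of edges other than e) equals c_e, and the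
sum of φ over all vertices equals c₀. The lemma itself — a system of stability parameters on all
treelike marked graphs compatible with contractions is determined by its components on the
two-vertex graphs — reduces to this square linear system being nondegenerate. -/
theorem result {V E : Type u} [Fintype V] [Fintype E] [DecidableEq V] [DecidableEq E]
    (ends : E → V × V) (hT : DualGr.IsTree ends)
    (c : E → ℝ) (c₀ : ℝ) :
    ∃! φ : V → ℝ, (∀ e : E, (∑ v ∈ side ends e, φ v) = c e) ∧ (∑ v : V, φ v) = c₀ := by
  classical
  obtain ⟨v0⟩ := hT.1.1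
  let L : (V → ℝ) → ℝ := fun x => ∑ e, (x (ends e).1 - x (ends e).2) * c e
    + (x v0 - ∑ e, (x (ends e).1 - x (ends e).2) * ind ends e v0) * c₀
  let δ : V → V → ℝ := fun v u => if u = v then 1 else 0
  have hlin : ∀ S : Finset V, ∑ v ∈ S, L (δ v) = L (fun u => if u ∈ S then 1 else 0) := by
    intro S
    have hu : ∀ u, ∑ v ∈ S, δ v u = if u ∈ S then 1 else 0 := fun u => by simp [δ]
    simp only [L, Finset.sum_add_distrib]
    rw [Finset.sum_comm, ← Finset.sum_mul]
    simp only [Finset.sum_sub_distrib, ← Finset.sum_mul, hu]
    rw [Finset.sum_comm]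
    simp only [← Finset.sum_mul, Finset.sum_sub_distrib, hu]
  refine ⟨fun v => L (δ v), ⟨fun e => ?_, ?_⟩, fun φ hφ => ?_⟩
  · rw [hlin]
    show L (ind ends e) = c e
    simp [L, ind_diff ends hT.2]
  · rw [hlin]
    simp [L]
  · funext v
    have key : ∀ u, δ v u = ∑ e, (δ v (ends e).1 - δ v (ends e).2) * ind ends e u
        + (δ v v0 - ∑ e, (δ v (ends e).1 - δ v (ends e).2) * ind ends e v0) := fun u => by
      rw [← decompose ends hT (δ v) u v0]; ring
    calc φ v = ∑ u, φ u * δ v u := by simp [δ]
      _ = L (δ v) := by
        conv_lhs => enter [2, u]; rw [key u]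
        simp only [mul_add, Finset.mul_sum, Finset.sum_add_distrib, L]
        congr 1
        · rw [Finset.sum_comm]
          refine Finset.sum_congr rfl fun e _ => ?_
          rw [← hφ.1 e, Finset.mul_sum]
          conv_rhs => rw [← Finset.univ_inter (side ends e), ← Finset.sum_ite_mem]
          refine Finset.sum_congr rfl fun u _ => ?_
          simp only [ind]
          split_ifs <;> ring
        · rw [← hφ.2, ← Finset.sum_mul, mul_comm]


end Groth.Agent.S18382
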