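import Groth.Statements.S18375
import Groth.Agent.S18382
import Mathlib.Algebra.Order.Round
import Mathlib.Tactic.Linarith
import Mathlib.Tactic.Ring
import Mathlib.Tactic.Push
import Mathlib.Algebra.BigOperators.Field

set_option autoImplicit false
universe u
open PhiStab

namespace Groth.Agent.S18375

open PhiStab in
/-- Let (V, E, ends) be a finite multigraph and T a set of edges forming a spanning tree (the spanning
subgraph with edge set T is connected and contains no circuit), b an integer and φ a nondegenerate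
real weighting of the vertices with Σ_v φ v = b. Then there is a unique integer multidegree m for
which the sheaf datum (m, Tᶜ), not locally free exactly at the edges outside T, has total degree b
and is φ-stable. This is the statement that a stable pointed curve with this dual graph carries a
φ-stable rank-1 torsion-free sheaf of degree g - 1 = b failing to be locally free exactly at the
nodes outside T, of uniquely determined multidegree, written for the combinatorial datum. -/
theorem result {V E : Type u} [Fintype V] [Fintype E] [DecidableEq V] [DecidableEq E]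
    (ends : E → V × V) (T : Finset E)
    (hT : DualGr.IsTree (spanEnds ends T)) (b : ℤ) (φ : V → ℝ) (hφ : (∑ v : V, φ v) = (b : ℝ))
    (hnd : Nondegenerate ends φ) :
    ∃! m : V → ℤ, totDeg m Tᶜ = b ∧ IsStable ends φ m Tᶜ := by
  classical
  let G := spanEnds ends T
  let cT : Finset V → E → ℝ := fun S e => if ((ends e).1 ∈ S ∧ (ends e).2 ∉ S) ∨ ((ends e).1 ∉ S ∧ (ends e).2 ∈ S) then 1 else 0
  let cutT : Finset V → ℝ := fun S => ∑ e ∈ T, cT S e
  let one : Finset V → V → ℝ := fun S v => if v ∈ S then 1 else 0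
  let ψ : V → ℝ := fun v => φ v - (LabGraph.endCount ends Tᶜ v : ℝ) / 2
  -- counting edge ends
  have hec : ∀ S : Finset V, (∑ v ∈ S, (LabGraph.endCount ends Tᶜ v : ℝ)) = ∑ e ∈ Tᶜ, (one S (ends e).1 + one S (ends e).2) := by
    intro S
    simp only [LabGraph.endCount, Nat.cast_sum, Nat.cast_add, Nat.cast_ite, Nat.cast_one, Nat.cast_zero]
    rw [Finset.sum_comm]
    refine Finset.sum_congr rfl fun e _ => ?_
    rw [Finset.sum_add_distrib, Finset.sum_ite_eq, Finset.sum_ite_eq]
  have hψtot : ∑ v, ψ v = (b : ℝ) - ((Tᶜ).card : ℝ) := by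
    simp only [ψ, Finset.sum_sub_distrib, hφ, ← Finset.sum_div, hec, one, Finset.mem_univ, if_true]
    simp
  have hkey : ∀ (m : V → ℤ) (S : Finset V),
      (degOn ends m Tᶜ S : ℝ) - ((∑ v ∈ S, φ v) - (LabGraph.cut ends S : ℝ) / 2) =
        (∑ v ∈ S, ((m v : ℝ) - ψ v)) + cutT S / 2 := by
    intro m S
    have hcut : (LabGraph.cut ends S : ℝ) = (∑ e ∈ Tᶜ, cT S e) + cutT S := by
      rw [LabGraph.cut, Finset.card_filter, Nat.cast_sum, Finset.sum_compl_add_sum T (cT S)]
      exact Finset.sum_congr rfl fun e _ => by simp [cT]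
    have hinner : ((Tᶜ ∩ inner ends S).card : ℝ) = ∑ e ∈ Tᶜ, (if (ends e).1 ∈ S ∧ (ends e).2 ∈ S then (1 : ℝ) else 0) := by
      rw [Finset.sum_boole]
      congr 2
      ext e
      simp [PhiStab.inner]
    simp only [degOn, ψ, Int.cast_add, Int.cast_sum, Int.cast_natCast, hinner, hcut, Finset.sum_sub_distrib,
      ← Finset.sum_div, hec]
    have he : ∀ e ∈ Tᶜ, one S (ends e).1 + one S (ends e).2 =
        2 * (if (ends e).1 ∈ S ∧ (ends e).2 ∈ S then (1 : ℝ) else 0) + cT S e := by
      intro e _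
      by_cases h1 : (ends e).1 ∈ S <;> by_cases h2 : (ends e).2 ∈ S <;> norm_num [one, cT, h1, h2]
    rw [Finset.sum_congr rfl he, Finset.sum_add_distrib, ← Finset.mul_sum]
    ring
  -- expansion along the tree
  let side' : {e : E // e ∈ T} → Finset V := fun e => side G e
  have hexp : ∀ (x : V → ℝ), ∑ v, x v = 0 → ∀ S : Finset V,
      ∑ v ∈ S, x v = ∑ e, (one S (G e).1 - one S (G e).2) * ∑ v ∈ side' e, x v := by
    intro x hx S
    obtain ⟨v0⟩ := hT.1.1
    have hd := fun v => Groth.Agent.S18382.decompose G hT (one S) v v0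
    set K := one S v0 - ∑ e, (one S (G e).1 - one S (G e).2) * Groth.Agent.S18382.ind G e v0
    have h1 : ∑ v ∈ S, x v = ∑ v, one S v * x v := by simp [one]
    have h2 : ∀ v, one S v = K + ∑ e, (one S (G e).1 - one S (G e).2) * Groth.Agent.S18382.ind G e v := fun v => by
      rw [← hd v]; ring
    rw [h1, Finset.sum_congr rfl fun v _ => by rw [h2 v]]
    simp only [add_mul, Finset.sum_add_distrib, Finset.sum_mul, ← Finset.mul_sum, hx, mul_zero, zero_add]
    rw [Finset.sum_comm]
    refine Finset.sum_congr rfl fun e _ => ?_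
    rw [Finset.mul_sum, ← Finset.sum_subset (Finset.subset_univ (side' e))]
    · refine Finset.sum_congr rfl fun v hv => ?_
      simp only [Groth.Agent.S18382.ind, if_pos (show v ∈ side G e from hv), mul_one]
    · intro v _ hv
      simp only [Groth.Agent.S18382.ind, if_neg (show v ∉ side G e from hv), mul_zero, zero_mul]
  have hcutside : ∀ e, cutT (side' e) = 1 := by
    intro e
    simp only [cutT]
    rw [← Finset.sum_coe_sort, Finset.sum_eq_single e]
    · have h := Groth.Agent.S18382.ind_diff G hT.2 e e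
      rw [if_pos rfl] at h
      by_cases h1 : (ends e.1).1 ∈ side' e <;> by_cases h2 : (ends e.1).2 ∈ side' e <;>
        simp [cT, h1, h2] <;>
        simp [Groth.Agent.S18382.ind, G, spanEnds, show (ends e.1).1 ∈ side G e ↔ (ends e.1).1 ∈ side' e from Iff.rfl,
          show (ends e.1).2 ∈ side G e ↔ (ends e.1).2 ∈ side' e from Iff.rfl, h1, h2] at h
    · intro f _ hf
      have h := Groth.Agent.S18382.ind_diff G hT.2 e f
      rw [if_neg hf] at h
      by_cases h1 : (ends f.1).1 ∈ side' e <;> by_cases h2 : (ends f.1).2 ∈ side' e <;>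
        simp [cT, h1, h2] <;>
        simp [Groth.Agent.S18382.ind, G, spanEnds, show (ends f.1).1 ∈ side G e ↔ (ends f.1).1 ∈ side' e from Iff.rfl,
          show (ends f.1).2 ∈ side G e ↔ (ends f.1).2 ∈ side' e from Iff.rfl, h1, h2] at h
    · simp
  have hbound : ∀ (x : V → ℝ), ∑ v, x v = 0 → (∀ e, |∑ v ∈ side' e, x v| ≤ 1 / 2) →
      ∀ S : Finset V, -(cutT S / 2) ≤ ∑ v ∈ S, x v := by
    intro x hx hle S
    have habs : |∑ v ∈ S, x v| ≤ cutT S / 2 := by
      rw [hexp x hx S]
      simp only [cutT]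
      rw [← Finset.sum_coe_sort T (cT S), Finset.sum_div]
      refine (Finset.abs_sum_le_sum_abs _ _).trans (Finset.sum_le_sum fun e _ => ?_)
      have := hle e
      rw [abs_mul]
      by_cases h1 : (ends e.1).1 ∈ S <;> by_cases h2 : (ends e.1).2 ∈ S <;>
        simp [one, cT, G, spanEnds, h1, h2] <;> linarith
    linarith [neg_abs_le (∑ v ∈ S, x v)]
  -- existence
  obtain ⟨v0⟩ := hT.1.1
  let m0 : V → ℤ := fun v => if v = v0 then b - ((Tᶜ).card : ℤ) else 0
  let n : {e : E // e ∈ T} → ℤ := fun e => -round (∑ v ∈ side' e, (ψ v - (m0 v : ℝ)))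
  let m : V → ℤ := fun v => m0 v + LabGraph.boundary G n v
  have hbd : ∀ S : Finset V, (∑ v ∈ S, (LabGraph.boundary G n v : ℝ)) = ∑ e, (one S (G e).2 - one S (G e).1) * (n e : ℝ) := by
    intro S
    simp only [LabGraph.boundary, Int.cast_sum, Int.cast_sub, Int.cast_ite, Int.cast_zero]
    rw [Finset.sum_comm]
    refine Finset.sum_congr rfl fun e _ => ?_
    rw [Finset.sum_sub_distrib, Finset.sum_ite_eq, Finset.sum_ite_eq]
    simp only [one]
    split_ifs <;> ring
  have hm : totDeg m Tᶜ = b := by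
    have h1 : ∑ v, m0 v = b - ((Tᶜ).card : ℤ) := by simp [m0]
    have h2 : ((∑ v, LabGraph.boundary G n v : ℤ) : ℝ) = 0 := by
      rw [Int.cast_sum, hbd]; simp [one]
    have h2' : ∑ v, LabGraph.boundary G n v = 0 := by exact_mod_cast h2
    simp only [totDeg, m, Finset.sum_add_distrib, h1, h2']
    ring
  have hx0 : ∀ m' : V → ℤ, totDeg m' Tᶜ = b → ∑ v, ((m' v : ℝ) - ψ v) = 0 := by
    intro m' hm'
    rw [Finset.sum_sub_distrib, hψtot]
    have : ((totDeg m' Tᶜ : ℤ) : ℝ) = (b : ℝ) := by rw [hm']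
    rw [totDeg, Int.cast_add, Int.cast_sum, Int.cast_natCast] at this
    linarith
  have hsemi : IsSemistable ends φ m Tᶜ := by
    intro S _ _
    have := hbound (fun v => (m v : ℝ) - ψ v) (hx0 m hm) (fun e => ?_) S
    · linarith [hkey m S]
    · have hside : ∑ v ∈ side' e, (LabGraph.boundary G n v : ℝ) = -(n e : ℝ) := by
        rw [hbd, Finset.sum_eq_single e]
        · have h := Groth.Agent.S18382.ind_diff G hT.2 e e
          rw [if_pos rfl] at h
          change ((Groth.Agent.S18382.ind G e (G e).2) - Groth.Agent.S18382.ind G e (G e).1) * _ = _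
          rw [show Groth.Agent.S18382.ind G e (G e).2 - Groth.Agent.S18382.ind G e (G e).1 = -1 by linarith, neg_one_mul]
        · intro f _ hf
          have h := Groth.Agent.S18382.ind_diff G hT.2 e f
          rw [if_neg hf] at h
          change ((Groth.Agent.S18382.ind G e (G f).2) - Groth.Agent.S18382.ind G e (G f).1) * _ = _
          rw [show Groth.Agent.S18382.ind G e (G f).2 - Groth.Agent.S18382.ind G e (G f).1 = 0 by linarith, zero_mul]
        · simp
      have h2 : ∑ v ∈ side' e, ((m v : ℝ) - ψ v) = (round (∑ v ∈ side' e, (ψ v - (m0 v : ℝ))) : ℝ) - ∑ v ∈ side' e, (ψ v - (m0 v : ℝ)) := by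
        simp only [m, Int.cast_add, Finset.sum_sub_distrib, Finset.sum_add_distrib, hside]
        simp only [n, Int.cast_neg, neg_neg]
        rw [Finset.sum_sub_distrib]
        ring
      rw [h2, abs_sub_comm]
      exact abs_sub_round _
  refine ⟨m, ⟨hm, hnd m Tᶜ (by rw [hm, hφ]) hsemi⟩, fun m' hm' => ?_⟩
  obtain ⟨hm't, hm's⟩ := hm'
  -- uniqueness
  have hs := hnd m Tᶜ (by rw [hm, hφ]) hsemi
  have hstrict : ∀ (m : V → ℤ), totDeg m Tᶜ = b → IsStable ends φ m Tᶜ → ∀ e, |∑ v ∈ side' e, ((m v : ℝ) - ψ v)| < 1 / 2 := by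
    intro m hm hs e
    have hne : (side' e).Nonempty := ⟨(G e).1, Finset.mem_filter.2 ⟨Finset.mem_univ _, .refl⟩⟩
    have hnu : side' e ≠ Finset.univ := fun h =>
      Groth.Agent.S18382.not_reach G hT.2 e (Finset.mem_filter.1 (h ▸ Finset.mem_univ (G e).2 : (G e).2 ∈ side' e)).2
    have h1 := hs _ hne hnu
    have hc : (side' e)ᶜ.Nonempty := by
      obtain ⟨v, hv⟩ := not_forall.1 (fun h => hnu (Finset.eq_univ_iff_forall.2 h))
      exact ⟨v, Finset.mem_compl.2 hv⟩
    have hcu : (side' e)ᶜ ≠ Finset.univ := fun h => by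
      obtain ⟨v, hv⟩ := hne
      exact Finset.mem_compl.1 (h ▸ Finset.mem_univ v : v ∈ (side' e)ᶜ) hv
    have h2 := hs _ hc hcu
    have k1 := hkey m (side' e)
    have k2 := hkey m (side' e)ᶜ
    rw [hcutside] at k1
    have hcc : cutT (side' e)ᶜ = cutT (side' e) := Finset.sum_congr rfl fun f _ => by
      by_cases p : (ends f).1 ∈ side' e <;> by_cases q : (ends f).2 ∈ side' e <;> simp [cT, p, q]
    rw [hcc, hcutside] at k2
    have h3 := Finset.sum_add_sum_compl (side' e) (fun v => (m v : ℝ) - ψ v)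
    rw [hx0 m hm] at h3
    rw [abs_lt]
    constructor <;> linarith
  have hzero : ∀ e, ∑ v ∈ side' e, ((m' v : ℝ) - m v) = 0 := by
    intro e
    have h1 := abs_lt.1 (hstrict m hm hs e)
    have h2 := abs_lt.1 (hstrict m' hm't hm's e)
    have h3 : ∑ v ∈ side' e, ((m' v : ℝ) - m v) = ((∑ v ∈ side' e, (m' v - m v) : ℤ) : ℝ) := by simp
    simp only [Finset.sum_sub_distrib] at h1 h2 h3 ⊢
    have h4 : (-1 : ℝ) < ((∑ v ∈ side' e, m' v - ∑ v ∈ side' e, m v : ℤ) : ℝ) ∧ ((∑ v ∈ side' e, m' v - ∑ v ∈ side' e, m v : ℤ) : ℝ) < 1 := by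
      rw [← h3]; constructor <;> linarith
    obtain ⟨h4, h5⟩ := h4
    have h4' : (-1 : ℤ) < ∑ v ∈ side' e, m' v - ∑ v ∈ side' e, m v := by exact_mod_cast h4
    have h5' : ∑ v ∈ side' e, m' v - ∑ v ∈ side' e, m v < (1 : ℤ) := by exact_mod_cast h5
    rw [h3, show ∑ v ∈ side' e, m' v - ∑ v ∈ side' e, m v = 0 by omega, Int.cast_zero]
  funext w
  have hd0 : ∑ v, ((m' v : ℝ) - m v) = 0 := by
    have a1 := hx0 m hm
    have a2 := hx0 m' hm't
    simp only [Finset.sum_sub_distrib] at a1 a2 ⊢
    linarith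
  have := hexp _ hd0 {w}
  rw [Finset.sum_singleton, Finset.sum_eq_zero fun e _ => by rw [hzero e, mul_zero], sub_eq_zero] at this
  exact_mod_cast this

end Groth.Agent.S18375
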