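import Groth.Statements.S18377
import Groth.Agent.L14.VerlindeSchur

set_option autoImplicit false
open Complex
open VerlindeComb

namespace Groth.Agent.S18377

/-- Let r, k ≥ 1 be integers and v_1 > v_2 > ⋯ > v_r ≥ 0 integers below r + k; put z_j = exp(2πi v_j /
(r + k)) and, for μ = (μ_1, …, μ_r), let S_μ(z) = det(z_j^{μ_i + r - i}) / det(z_j^{r - i}) be the
value of the Schur polynomial (the z_j are distinct, so the Vandermonde denominator is nonzero).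
Then, summing over all μ with k > μ_1 ≥ ⋯ ≥ μ_r ≥ 0 and writing μ* = (k - μ_r, …, k - μ_1), one has
Σ_μ S_μ(z) S_{μ*}(z) = exp(2πi k (v_1 + ⋯ + v_r) / (r + k)) · k (r + k)^{r-1} / ∏_{i<j} (2 sin(π
(v_i - v_j) / (r + k)))². Indices are 0-based below: μ i stands for μ_{i+1}. -/
theorem result (r k : ℕ) (hr : 1 ≤ r) (hk : 1 ≤ k)
    (v : Fin r → ℕ) (hv : StrictAnti v) (hvlt : ∀ i, v i < r + k)
    (z : Fin r → ℂ) (hz : ∀ j, z j = Complex.exp (2 * Real.pi * Complex.I * (v j : ℂ) / ((r : ℂ) + k)))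
    (S : (Fin r → ℕ) → ℂ)
    (hS : ∀ μ : Fin r → ℕ, S μ =
      (Matrix.of fun i j : Fin r => z j ^ (μ i + (r - 1 - (i : ℕ)))).det /
        (Matrix.of fun i j : Fin r => z j ^ (r - 1 - (i : ℕ))).det) :
    (∑ μ ∈ (Finset.univ : Finset (Fin r → Fin k)).filter (fun μ : Fin r → Fin k => Antitone μ),
        S (fun i => (μ i : ℕ)) * S (fun i => k - (μ (Fin.rev i) : ℕ))) =
      Complex.exp (2 * Real.pi * Complex.I * (k : ℂ) * ((∑ j, v j : ℕ) : ℂ) / ((r : ℂ) + k)) *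
        ((k : ℂ) * ((r : ℂ) + k) ^ (r - 1)) /
        (∏ p ∈ (Finset.univ : Finset (Fin r × Fin r)).filter (fun p => p.1 < p.2),
          (((2 : ℝ) * Real.sin (Real.pi * ((v p.1 : ℝ) - (v p.2 : ℝ)) / ((r : ℝ) + k))) ^ 2 : ℝ) : ℂ) := by
  have hzz : z = Groth.L14.Verl.zz (r + k) v := by
    funext j; rw [hz, Groth.L14.Verl.zz, Groth.L14.Verl.rt]; push_cast; ring_nf
  have hSS : ∀ μ : Fin r → ℕ, S μ = Groth.L14.Verl.Sch μ (Groth.L14.Verl.zz (r + k) v) := by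
    intro μ; rw [hS, ← hzz]; rfl
  simp only [hSS]
  rw [Groth.L14.Verl.schur_norm hr v hv.injective hvlt]
  congr 1
  · congr 1
    simp only [Groth.L14.Verl.zz]
    rw [← Groth.L14.Verl.rt_sum, Groth.L14.Verl.rt_pow, Groth.L14.Verl.rt]
    push_cast; ring_nf
  · rw [Groth.L14.Verl.Pp]
    norm_num [Nat.cast_add]

end Groth.Agent.S18377
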