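import Groth.Statements.S18378
import Groth.Agent.L14.VerlindeSchur

set_option autoImplicit false
open Complex
open VerlindeComb

namespace Groth.Agent.S18378

/-- Let r, k ≥ 1 be integers and v, v' two integer vectors with r + k > v_1 > ⋯ > v_r ≥ 0 and r + k >
v'_1 > ⋯ > v'_r ≥ 0 whose difference v - v' is not a constant vector (a, …, a). Put z_j = exp(2πi
v_j / (r + k)), z'_j = exp(2πi v'_j / (r + k)), let S_μ(w) = det(w_j^{μ_i + r - i}) / det(w_j^{r -
i}) be the Schur value at w = z or z', and write |x| for the sum of the coordinates of a vector and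
μ* = (k - μ_r, …, k - μ_1). Then the sum over all μ with k ≥ μ_1 ≥ ⋯ ≥ μ_{r-1} ≥ μ_r = 0 of exp(-2πi
|μ| |v| / (r (r + k))) · exp(-2πi |μ*| |v'| / (r (r + k))) · S_μ(z) · S_{μ*}(z') is zero. The
vanishing is the orthogonality of distinct characters and holds exactly for non-equivalent v, v';
for v - v' constant the sum is nonzero. Indices are 0-based below: μ i stands for μ_{i+1}. -/
theorem result (r k : ℕ) (hr : 1 ≤ r)
    (hk : 1 ≤ k) (v v' : Fin r → ℕ) (hv : StrictAnti v) (hvlt : ∀ i, v i < r + k) (hv' : StrictAnti v')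
    (hv'lt : ∀ i, v' i < r + k) (hne : ¬ ∃ a : ℤ, ∀ i, (v i : ℤ) - (v' i : ℤ) = a)
    (z z' : Fin r → ℂ) (hz : ∀ j, z j = Complex.exp (2 * Real.pi * Complex.I * (v j : ℂ) / ((r : ℂ) + k)))
    (hz' : ∀ j, z' j = Complex.exp (2 * Real.pi * Complex.I * (v' j : ℂ) / ((r : ℂ) + k)))
    (S S' : (Fin r → ℕ) → ℂ)
    (hS : ∀ μ : Fin r → ℕ, S μ =
      (Matrix.of fun i j : Fin r => z j ^ (μ i + (r - 1 - (i : ℕ)))).det /
        (Matrix.of fun i j : Fin r => z j ^ (r - 1 - (i : ℕ))).det)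
    (hS' : ∀ μ : Fin r → ℕ, S' μ =
      (Matrix.of fun i j : Fin r => z' j ^ (μ i + (r - 1 - (i : ℕ)))).det /
        (Matrix.of fun i j : Fin r => z' j ^ (r - 1 - (i : ℕ))).det) :
    (∑ μ ∈ (Finset.univ : Finset (Fin r → Fin (k + 1))).filter
        (fun μ : Fin r → Fin (k + 1) => Antitone μ ∧ ∀ i : Fin r, (i : ℕ) = r - 1 → (μ i : ℕ) = 0),
      Complex.exp (-(2 * Real.pi * Complex.I * ((∑ i, (μ i : ℕ) : ℕ) : ℂ) * ((∑ j, v j : ℕ) : ℂ) /
          ((r : ℂ) * ((r : ℂ) + k)))) *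
      Complex.exp (-(2 * Real.pi * Complex.I * ((∑ i, (k - (μ (Fin.rev i) : ℕ)) : ℕ) : ℂ) *
          ((∑ j, v' j : ℕ) : ℂ) / ((r : ℂ) * ((r : ℂ) + k)))) *
      S (fun i => (μ i : ℕ)) * S' (fun i => k - (μ (Fin.rev i) : ℕ))) = 0 := by
  have hzz : z = Groth.L14.Verl.zz (r + k) v := by
    funext j; rw [hz, Groth.L14.Verl.zz, Groth.L14.Verl.rt]; push_cast; ring_nf
  have hzz' : z' = Groth.L14.Verl.zz (r + k) v' := by
    funext j; rw [hz', Groth.L14.Verl.zz, Groth.L14.Verl.rt]; push_cast; ring_nf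
  have hSS : ∀ μ : Fin r → ℕ, S μ = Groth.L14.Verl.Sch μ (Groth.L14.Verl.zz (r + k) v) := by
    intro μ; rw [hS, ← hzz]; rfl
  have hSS' : ∀ μ : Fin r → ℕ, S' μ = Groth.L14.Verl.Sch μ (Groth.L14.Verl.zz (r + k) v') := by
    intro μ; rw [hS', ← hzz']; rfl
  have hrt : ∀ a b : ℂ, Complex.exp (-(2 * Real.pi * Complex.I * a * b / ((r : ℂ) * ((r : ℂ) + k)))) =
      Groth.L14.Verl.rt (r + k) (-(a * b / r)) := by
    intro a b; rw [Groth.L14.Verl.rt]; push_cast; congr 1; field_simp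
  simp only [hSS, hSS', hrt]
  exact Groth.L14.Verl.twisted_schur hr v v' hv hvlt hv' hv'lt hne

end Groth.Agent.S18378
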