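import Groth.Statements.S18381
import Groth.Agent.L14.VerlindeSchur

set_option autoImplicit false
open Complex
open VerlindeComb

namespace Groth.Agent.S18381

/-- Fix integers r, k ≥ 1. For g ≥ 0, d ∈ ℤ and parabolic data ω given by a finite family of partitions
λ_x with k ≥ λ_{x,1} ≥ ⋯ ≥ λ_{x,r} ≥ 0, write |ω| = Σ_x |λ_x|, z(v)_j = exp(2πi v_j / (r + k)),
S_λ(v) = det(z(v)_j^{λ_i + r - i}) / det(z(v)_j^{r - i}) (Schur value), P(v) = ∏_{i<j} (2 sin(π (v_i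
- v_j)/(r + k)))², and let V_g(r, d, ω) = (-1)^{d(r-1)} (k/r)^g (r (r+k)^{r-1})^{g-1} Σ_v exp(2πi
(d/r - |ω| / (r (r+k))) Σ_j v_j) · ∏_x S_{λ_x}(v) / P(v)^{g-1}, the sum over integer vectors r + k >
v_1 > ⋯ > v_{r-1} > v_r = 0 (the right-hand side of the Verlinde formula; it depends on ω only
through |ω| and the function v ↦ ∏_x S_{λ_x}(v), and is written that way below, with (r
(r+k)^{r-1})^{g-1} as the g-th power divided once and 1/P^{g-1} as P/P^g). Then V_{g+1}(r, d, ω) =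
Σ_μ V_g(r, d, ω^μ), the sum over all μ with k > μ_1 ≥ ⋯ ≥ μ_r ≥ 0, where ω^μ adjoins to ω the two
partitions μ and μ* = (k - μ_r, …, k - μ_1). Indices are 0-based below. -/
theorem result (r k : ℕ) (hr : 1 ≤ r) (hk : 1 ≤ k)
    (g : ℕ) (d : ℤ) (ι : Type) [Fintype ι] (lam : ι → Fin r → ℕ)
    (hlam : ∀ x, Antitone (lam x) ∧ ∀ i, lam x i ≤ k)
    (z : (Fin r → ℕ) → Fin r → ℂ)
    (hz : ∀ v j, z v j = Complex.exp (2 * Real.pi * Complex.I * (v j : ℂ) / ((r : ℂ) + k)))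
    (S : (Fin r → ℕ) → (Fin r → ℕ) → ℂ)
    (hS : ∀ μ v, S μ v = (Matrix.of fun i j : Fin r => z v j ^ (μ i + (r - 1 - (i : ℕ)))).det /
        (Matrix.of fun i j : Fin r => z v j ^ (r - 1 - (i : ℕ))).det)
    (P : (Fin r → ℕ) → ℝ)
    (hP : ∀ v, P v = ∏ p ∈ (Finset.univ : Finset (Fin r × Fin r)).filter (fun p => p.1 < p.2),
        ((2 : ℝ) * Real.sin (Real.pi * ((v p.1 : ℝ) - (v p.2 : ℝ)) / ((r : ℝ) + k))) ^ 2)
    (V : ℕ → ℤ → ℕ → ((Fin r → ℕ) → ℂ) → ℂ)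
    (hV : ∀ (g' : ℕ) (d' : ℤ) (w : ℕ) (Sω : (Fin r → ℕ) → ℂ), V g' d' w Sω =
        (-1 : ℂ) ^ (d' * ((r : ℤ) - 1)) * ((k : ℂ) / r) ^ g' *
          ((((r : ℂ) * ((r : ℂ) + k) ^ (r - 1)) ^ g') / ((r : ℂ) * ((r : ℂ) + k) ^ (r - 1))) *
          ∑ v ∈ (Finset.univ : Finset (Fin r → Fin (r + k))).filter
            (fun v : Fin r → Fin (r + k) => StrictAnti v ∧ ∀ i : Fin r, (i : ℕ) = r - 1 → (v i : ℕ) = 0),
            Complex.exp (2 * Real.pi * Complex.I * ((d' : ℂ) / r - (w : ℂ) / ((r : ℂ) * ((r : ℂ) + k))) *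
                ((∑ j, (v j : ℕ) : ℕ) : ℂ)) *
              Sω (fun j => (v j : ℕ)) *
              (((P (fun j => (v j : ℕ)) : ℂ)) / ((P (fun j => (v j : ℕ)) : ℂ)) ^ g')) :
    V (g + 1) d (∑ x, ∑ i, lam x i) (fun v => ∏ x, S (lam x) v) =
      ∑ μ ∈ (Finset.univ : Finset (Fin r → Fin k)).filter (fun μ : Fin r → Fin k => Antitone μ),
        V g d ((∑ x, ∑ i, lam x i) + (∑ i, (μ i : ℕ)) + (∑ i, (k - (μ (Fin.rev i) : ℕ))))
          (fun v => (∏ x, S (lam x) v) * S (fun i => (μ i : ℕ)) v *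
            S (fun i => k - (μ (Fin.rev i) : ℕ)) v) := by
  have hzz : ∀ v, z v = Groth.L14.Verl.zz (r + k) v := by
    intro v; funext j; rw [hz, Groth.L14.Verl.zz, Groth.L14.Verl.rt]; push_cast; ring_nf
  have hSS : ∀ μ v, S μ v = Groth.L14.Verl.Sch μ (Groth.L14.Verl.zz (r + k) v) := by
    intro μ v; rw [hS, ← hzz]; rfl
  have hPP : ∀ v, P v = Groth.L14.Verl.Pp r (r + k) v := by
    intro v; rw [hP, Groth.L14.Verl.Pp]; norm_num [Nat.cast_add]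
  have hr0 : (r : ℂ) ≠ 0 := by exact_mod_cast (show r ≠ 0 by omega)
  have hN0 : (r : ℂ) + k ≠ 0 := by exact_mod_cast (show r + k ≠ 0 by omega)
  have hw : ∀ μ : Fin r → Fin k,
      (∑ i, (μ i : ℕ)) + ∑ i, (k - (μ (Fin.rev i) : ℕ)) = r * k := by
    intro μ
    rw [← Equiv.sum_comp Fin.revPerm (fun i => (μ i : ℕ)), ← Finset.sum_add_distrib]
    rw [Finset.sum_congr rfl (fun i _ => show (μ (Fin.revPerm i) : ℕ) + (k - (μ (Fin.rev i) : ℕ)) = k by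
      simp only [Fin.revPerm_apply]; have := (μ (Fin.rev i)).2; omega)]
    simp
  rw [hV]
  simp only [hV]
  conv_rhs => rw [← Finset.mul_sum, Finset.sum_comm]
  rw [Finset.mul_sum, Finset.mul_sum]
  refine Finset.sum_congr rfl fun v hv => ?_
  simp only [Finset.mem_filter, Finset.mem_univ, true_and] at hv
  set vv : Fin r → ℕ := fun j => (v j : ℕ) with hvv
  have hinj : Function.Injective vv := Fin.val_injective.comp hv.1.injective
  have hlt : ∀ i, vv i < r + k := fun i => (v i).2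
  have hne : (P vv : ℂ) ≠ 0 := by rw [hPP]; exact Groth.L14.Verl.Pp_ne (by omega) vv hinj hlt
  set W : ℕ := ∑ x, ∑ i, lam x i with hW
  set T : ℂ := ((∑ j, (v j : ℕ) : ℕ) : ℂ) with hT
  set E : ℂ := Complex.exp (2 * Real.pi * Complex.I * ((d : ℂ) / r - (W : ℂ) / ((r : ℂ) * ((r : ℂ) + k))) * T) with hE
  set pp : ℂ := ∏ j, Groth.L14.Verl.zz (r + k) vv j with hpp
  have hexp : ∀ μ : Fin r → Fin k,
      Complex.exp (2 * Real.pi * Complex.I * ((d : ℂ) / r -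
        ((W + (∑ i, (μ i : ℕ)) + (∑ i, (k - (μ (Fin.rev i) : ℕ))) : ℕ) : ℂ) / ((r : ℂ) * ((r : ℂ) + k))) * T) =
      E * (pp ^ k)⁻¹ := by
    intro μ
    rw [add_assoc, hw μ, hE, hpp]
    simp only [Groth.L14.Verl.zz]
    rw [← Groth.L14.Verl.rt_sum, Groth.L14.Verl.rt_pow, Groth.L14.Verl.rt, ← Complex.exp_neg, ← Complex.exp_add]
    congr 1
    rw [hT]; push_cast; field_simp; ring
  have hnorm := Groth.L14.Verl.schur_norm (k := k) hr vv hinj hlt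
  have hp0 : pp ≠ 0 := by
    rw [hpp]; simp only [Groth.L14.Verl.zz, Groth.L14.Verl.rt]
    exact Finset.prod_ne_zero_iff.mpr fun j _ => Complex.exp_ne_zero _
  have hsum : ∑ μ ∈ (Finset.univ : Finset (Fin r → Fin k)).filter (fun μ : Fin r → Fin k => Antitone μ),
      Complex.exp (2 * Real.pi * Complex.I * ((d : ℂ) / r -
        ((W + (∑ i, (μ i : ℕ)) + (∑ i, (k - (μ (Fin.rev i) : ℕ))) : ℕ) : ℂ) / ((r : ℂ) * ((r : ℂ) + k))) * T) *
        ((∏ x, S (lam x) vv) * S (fun i => (μ i : ℕ)) vv * S (fun i => k - (μ (Fin.rev i) : ℕ)) vv) *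
        ((P vv : ℂ) / (P vv : ℂ) ^ g) =
      E * (∏ x, S (lam x) vv) * ((k : ℂ) * ((r : ℂ) + k) ^ (r - 1)) / (P vv : ℂ) *
        ((P vv : ℂ) / (P vv : ℂ) ^ g) := by
    rw [← Finset.sum_mul]
    congr 1
    rw [Finset.sum_congr rfl (fun μ _ => show _ = (E * (pp ^ k)⁻¹ * ∏ x, S (lam x) vv) *
        (S (fun i => (μ i : ℕ)) vv * S (fun i => k - (μ (Fin.rev i) : ℕ)) vv) by rw [hexp μ]; ring),
      ← Finset.mul_sum]
    simp only [hSS, hPP]
    rw [hnorm, ← hpp]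
    field_simp
  rw [hsum, pow_succ, pow_succ, pow_succ]
  field_simp

end Groth.Agent.S18381
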