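import Groth.Statements.S18384
import Mathlib.AlgebraicGeometry.Morphisms.ClosedImmersion
import Mathlib.AlgebraicGeometry.Noetherian
import Mathlib.RingTheory.Filtration
-- import your own Groth.Agent.* helpers here

set_option autoImplicit false
universe u
open CategoryTheory CategoryTheory.Limits AlgebraicGeometry
open Coherent

namespace Groth.Agent.S18384

/-- If `Spec (O_x / J) ⟶ X` factors through the subscheme of `I`, germs at `x` of `I` lie in `J`. -/
theorem germ_mem_of_factors {X : Scheme.{u}} (I : X.IdealSheafData) (x : X)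
    (J : Ideal (X.presheaf.stalk x)) (g : Spec (CommRingCat.of (X.presheaf.stalk x ⧸ J)) ⟶ I.subscheme)
    (hg : g ≫ I.subschemeι = Spec.map (CommRingCat.ofHom (Ideal.Quotient.mk J)) ≫ X.fromSpecStalk x)
    (V : X.affineOpens) (hx : x ∈ V.1) (a : Γ(X, V.1)) (ha : a ∈ I.ideal V) :
    X.presheaf.germ V.1 x hx a ∈ J := by
  set q := CommRingCat.ofHom (Ideal.Quotient.mk J)
  have hpre : ∀ y, y ∈ (Spec.map q ≫ X.fromSpecStalk x) ⁻¹ᵁ V.1 := by
    intro y
    have h1 : X.fromSpecStalk x (Spec.map q y) ⤳ x := by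
      have := Scheme.range_fromSpecStalk (X := X) (x := x)
      exact (Set.ext_iff.1 this _).1 ⟨_, rfl⟩
    exact h1.mem_open V.1.isOpen hx
  have e : ⊤ ≤ (Spec.map q ≫ X.fromSpecStalk x) ⁻¹ᵁ V.1 := fun y _ => hpre y
  have h1 : (Spec.map q ≫ X.fromSpecStalk x).appLE V.1 ⊤ e =
      X.presheaf.germ V.1 x hx ≫ q ≫ (Scheme.ΓSpecIso _).inv := by
    rw [Scheme.Hom.comp_appLE, Scheme.fromSpecStalk_app hx, Category.assoc, Category.assoc,
      Scheme.Hom.map_appLE, Scheme.ΓSpecIso_inv_naturality]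
    rfl
  have h2 : (g ≫ I.subschemeι).appLE V.1 ⊤ (by rw [hg]; exact e) a = 0 := by
    rw [Scheme.Hom.comp_appLE, CommRingCat.comp_apply]
    have : I.subschemeι.app V.1 a = 0 := by
      rw [I.subschemeι_app V, CommRingCat.comp_apply]
      simp [Ideal.Quotient.eq_zero_iff_mem.2 ha]
    rw [this, map_zero]
  simp only [hg] at h2
  rw [h1, CommRingCat.comp_apply, CommRingCat.comp_apply] at h2
  have h3 := (Scheme.ΓSpecIso (CommRingCat.of (X.presheaf.stalk x ⧸ J))).commRingCatIsoToRingEquiv.symm.injective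
    (h2.trans (map_zero _).symm)
  exact Ideal.Quotient.eq_zero_iff_mem.1 h3

/-- Let p : X → S be a morphism of locally Noetherian schemes, t a point of S, m the maximal ideal of
the local ring O_{S,t}, and Z the closed subscheme of X defined by a quasi-coherent ideal I. Suppose
that for every n ≥ 1 the projection X ×_S Spec(O_{S,t}/m^n) → X factors through Z. Then there is an
open subscheme U of X containing every point of the fibre p⁻¹(t) such that the inclusion U → X
factors through Z. -/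
theorem result {X S : Scheme.{u}}
    [IsLocallyNoetherian X] [IsLocallyNoetherian S] (p : X ⟶ S) (t : S) (I : X.IdealSheafData)
    (h : ∀ n : ℕ, ∃ g : pullback p (Spec.map (CommRingCat.ofHom (Ideal.Quotient.mk
        (IsLocalRing.maximalIdeal ↑(S.presheaf.stalk t) ^ (n + 1)))) ≫ S.fromSpecStalk t) ⟶ I.subscheme,
        g ≫ I.subschemeι = pullback.fst p _) :
    ∃ U : X.Opens, (∀ x : X, p.base x = t → x ∈ U) ∧
      ∃ g : (U : Scheme.{u}) ⟶ I.subscheme, g ≫ I.subschemeι = U.ι := by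
  -- the germs of `I` vanish at the points of the fibre
  have hzero : ∀ (x : X), p.base x = t → ∀ (V : X.affineOpens) (hx : x ∈ V.1) (a : Γ(X, V.1)),
      a ∈ I.ideal V → X.presheaf.germ V.1 x hx a = 0 := by
    intro x hpx V hx a ha
    subst hpx
    let φ := p.stalkMap x
    set J := (IsLocalRing.maximalIdeal (S.presheaf.stalk (p x))).map φ.hom with hJdef
    have hJ : J ≤ IsLocalRing.maximalIdeal _ := Ideal.map_le_iff_le_comap.2
      fun b hb => map_nonunit φ.hom b hb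
    suffices hmem : X.presheaf.germ V.1 x hx a ∈ ⨅ n : ℕ, J ^ n by
      rwa [Ideal.iInf_pow_eq_bot_of_isLocalRing J (fun h => (IsLocalRing.maximalIdeal.isMaximal _).ne_top
        (top_le_iff.1 (h ▸ hJ))), Ideal.mem_bot] at hmem
    refine Ideal.mem_iInf.2 fun n => Ideal.pow_le_pow_right (Nat.le_succ n) ?_
    let m := IsLocalRing.maximalIdeal (S.presheaf.stalk (p x)) ^ (n + 1)
    obtain ⟨g₀, hg₀⟩ := h n
    have hm : m.map φ.hom = J ^ (n + 1) := Ideal.map_pow _ _ _
    let ψ : CommRingCat.of (S.presheaf.stalk (p x) ⧸ m) ⟶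
        CommRingCat.of (X.presheaf.stalk x ⧸ J ^ (n + 1)) :=
      CommRingCat.ofHom (Ideal.quotientMap _ φ.hom (Ideal.map_le_iff_le_comap.1 hm.le))
    let k : Spec (CommRingCat.of (X.presheaf.stalk x ⧸ J ^ (n + 1))) ⟶
        pullback p (Spec.map (CommRingCat.ofHom (Ideal.Quotient.mk m)) ≫ S.fromSpecStalk (p x)) :=
      pullback.lift (Spec.map (CommRingCat.ofHom (Ideal.Quotient.mk (J ^ (n + 1)))) ≫ X.fromSpecStalk x)
        (Spec.map ψ) (by
          rw [Category.assoc, ← Scheme.SpecMap_stalkMap_fromSpecStalk, ← Spec.map_comp_assoc,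
            ← Spec.map_comp_assoc]
          congr 2)
    exact germ_mem_of_factors I x (J ^ (n + 1)) (k ≫ g₀)
      ((Category.assoc _ _ _).trans ((congrArg (k ≫ ·) hg₀).trans (pullback.lift_fst _ _ _))) V hx a ha
  refine ⟨⨆ W : {W : X.affineOpens // I.ideal W = ⊥}, W.1.1, fun x hx => ?_, ?_⟩
  · obtain ⟨V, hV, hxV, -⟩ := exists_isAffineOpen_mem_and_subset (x := x) (U := ⊤) trivial
    haveI : IsNoetherianRing Γ(X, V) := IsLocallyNoetherian.component_noetherian ⟨V, hV⟩
    obtain ⟨T, hT⟩ := IsNoetherian.noetherian (I.ideal ⟨V, hV⟩)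
    have hex : ∀ a : T, ∃ (W : X.Opens) (_ : x ∈ W) (i : W ⟶ V), X.presheaf.map i.op a.1 = 0 := by
      intro a
      obtain ⟨W, hxW, i, j, hij⟩ := X.presheaf.germ_eq x hxV hxV a.1 0
        (by rw [hzero x hx ⟨V, hV⟩ hxV a.1 (hT ▸ Ideal.subset_span a.2), map_zero])
      exact ⟨W, hxW, i, by rw [hij]; exact map_zero _⟩
    choose W hxW i hi using hex
    obtain ⟨B, hB, hxB, hle⟩ := exists_isAffineOpen_mem_and_subset (x := x)
      (U := ⟨(V : Set X) ∩ ⋂ a : T, (W a : Set X), V.isOpen.inter (isOpen_iInter_of_finite fun a => (W a).isOpen)⟩)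
      ⟨hxV, Set.mem_iInter.2 hxW⟩
    have hBV : B ≤ V := fun y hy => (hle hy).1
    refine TopologicalSpace.Opens.mem_iSup.2 ⟨⟨⟨B, hB⟩, ?_⟩, hxB⟩
    rw [← I.map_ideal (U := ⟨B, hB⟩) (V := ⟨V, hV⟩) hBV, ← hT, Ideal.map_span, eq_bot_iff, Ideal.span_le]
    rintro _ ⟨a, ha, rfl⟩
    have hBW : B ≤ W ⟨a, ha⟩ := fun y hy => Set.mem_iInter.1 (hle hy).2 ⟨a, ha⟩
    have e := congrArg (X.presheaf.map (homOfLE hBW).op) (hi ⟨a, ha⟩)
    rw [map_zero, ← CommRingCat.comp_apply, ← Functor.map_comp] at e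
    exact e
  · set U : X.Opens := ⨆ W : {W : X.affineOpens // I.ideal W = ⊥}, W.1.1
    have hker : I.subschemeι.ker ≤ U.ι.ker := by
      rw [Scheme.IdealSheafData.ker_subschemeι, Scheme.Hom.ker, Scheme.IdealSheafData.le_ofIdeals_iff]
      intro V a ha
      rw [RingHom.mem_ker, Scheme.Opens.ι_app]
      refine TopCat.Sheaf.eq_of_locally_eq' X.sheaf
        (fun B : {B : X.affineOpens // B.1 ≤ V.1 ∧ ∃ W : X.affineOpens, I.ideal W = ⊥ ∧ B.1 ≤ W.1} => B.1.1)
        _ (fun B => homOfLE ?_) (fun y hy => ?_) _ _ fun B => ?_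
      · obtain ⟨W, hW, hBW⟩ := B.2.2
        refine le_trans (le_inf (hBW.trans (le_iSup (fun W : {W : X.affineOpens // I.ideal W = ⊥} => W.1.1) ⟨W, hW⟩))
          B.2.1) ?_
        show U ⊓ V.1 ≤ U.ι ''ᵁ (U.ι ⁻¹ᵁ V.1)
        rw [Scheme.Hom.image_preimage_eq_opensRange_inf, Scheme.Opens.opensRange_ι]
      · have hy : y ∈ U.ι ''ᵁ (U.ι ⁻¹ᵁ V.1) := hy
        rw [Scheme.Hom.image_preimage_eq_opensRange_inf, Scheme.Opens.opensRange_ι] at hy
        obtain ⟨⟨W, hW⟩, hyW⟩ := TopologicalSpace.Opens.mem_iSup.1 hy.1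
        obtain ⟨B, hB, hyB, hle⟩ := exists_isAffineOpen_mem_and_subset (x := y) (U := V.1 ⊓ W.1) ⟨hy.2, hyW⟩
        exact TopologicalSpace.Opens.mem_iSup.2
          ⟨⟨⟨B, hB⟩, fun z hz => (hle hz).1, W, hW, fun z hz => (hle hz).2⟩, hyB⟩
      · obtain ⟨W, hW, hBW⟩ := B.2.2
        have h0 : I.ideal B.1 = ⊥ := by rw [← I.map_ideal hBW, hW, Ideal.map_bot]
        have e := Ideal.mem_map_of_mem (X.presheaf.map (homOfLE B.2.1).op).hom ha
        have e : _ ∈ I.ideal B.1 := (I.map_ideal (U := B.1) (V := V) B.2.1).le e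
        rw [h0, Ideal.mem_bot] at e
        change X.presheaf.map _ (X.presheaf.map _ a) = X.presheaf.map _ 0
        rw [map_zero, ← CommRingCat.comp_apply, ← Functor.map_comp]
        exact e
    exact ⟨IsClosedImmersion.lift I.subschemeι U.ι hker, IsClosedImmersion.lift_fac _ _ _⟩

end Groth.Agent.S18384
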