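import Groth.Statements.S18385
import Groth.Agent.L26.AV.DimQF
import Groth.Agent.L26.AV.SmoothField

set_option autoImplicit false
universe u
open CategoryTheory CategoryTheory.Limits MonoidalCategory CartesianMonoidalCategory MonObj GrpObj AlgebraicGeometry
open AbSch

namespace Groth.Agent.S18385

/-- (2) ⇔ (3): let S be a scheme, A and B abelian schemes over S (S-group schemes, smooth and proper
over S with geometrically connected fibres) whose fibres A_s and B_s have the same dimension for
every point s of S, and f : A → B a homomorphism of S-group schemes. Then f is locally quasi-finite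
if and only if f is surjective (and then f is an isogeny). -/
theorem result {S : Scheme.{u}} (A B : Over S)
    [GrpObj A] [Smooth A.hom] [IsProper A.hom] [GeometricallyConnected A.hom]
    [GrpObj B] [Smooth B.hom] [IsProper B.hom] [GeometricallyConnected B.hom]
    (f : A ⟶ B) [IsMonHom f]
    (hdim : ∀ s : S, topologicalKrullDim ↥(A.hom.fiber s) = topologicalKrullDim ↥(B.hom.fiber s)) :
    LocallyQuasiFinite f.left ↔ Surjective f.left := by
  have hw : f.left ≫ B.hom = A.hom := Over.w f
  haveI : IsProper (f.left ≫ B.hom) := hw ▸ inferInstance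
  haveI : IsProper f.left := IsProper.of_comp f.left B.hom
  have key : ∀ s : S, (Surjective ((Over.pullback (S.fromSpecResidueField s)).map f).left ↔
      LocallyQuasiFinite ((Over.pullback (S.fromSpecResidueField s)).map f).left) := by
    intro s
    let A' : Over (Spec (CommRingCat.of (S.residueField s))) := Red.bc (S.fromSpecResidueField s) A
    let B' : Over (Spec (CommRingCat.of (S.residueField s))) := Red.bc (S.fromSpecResidueField s) B
    letI : GrpObj A' := inferInstanceAs (GrpObj (Red.bc (S.fromSpecResidueField s) A))
    letI : GrpObj B' := inferInstanceAs (GrpObj (Red.bc (S.fromSpecResidueField s) B))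
    haveI : IsProper A'.hom := MorphismProperty.pullback_snd A.hom (S.fromSpecResidueField s) ‹_›
    haveI : IsProper B'.hom := MorphismProperty.pullback_snd B.hom (S.fromSpecResidueField s) ‹_›
    haveI : Smooth B'.hom := MorphismProperty.pullback_snd B.hom (S.fromSpecResidueField s) ‹_›
    haveI : ConnectedSpace B'.left := inferInstanceAs (ConnectedSpace (B.hom.fiber s))
    haveI : IsReduced B'.left := Groth.Agent.AV.isReduced_of_smooth_field B'.hom
    let φ : A' ⟶ B' := (Over.pullback (S.fromSpecResidueField s)).map f
    haveI : IsMonHom φ := Functor.map.instIsMonHom (F := Over.pullback (S.fromSpecResidueField s)) (f := f)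
    refine ⟨fun _ => Groth.Agent.AV.locallyQuasiFinite_of_surjective_of_dim_eq A' B' φ (hdim s), fun h => ?_⟩
    haveI : IsProper (φ.left ≫ B'.hom) := (Over.w φ).symm ▸ ‹IsProper A'.hom›
    haveI : IsProper φ.left := IsProper.of_comp φ.left B'.hom
    haveI : LocallyQuasiFinite φ.left := h
    haveI : IsFinite φ.left := IsFinite.of_isProper_of_locallyQuasiFinite φ.left
    exact Groth.Agent.AV.surjective_of_isFinite_of_dim_eq A' B' φ (hdim s)
  constructor
  · intro h
    refine ⟨fun y => ?_⟩
    obtain ⟨z, hz⟩ : y ∈ Set.range (B.hom.fiberι (B.hom y)) := by rw [Scheme.Hom.range_fiberι]; rfl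
    have hP := Groth.L08.IsogenyFibres.isPullback_fibre A B f (B.hom y)
    obtain ⟨w, hw'⟩ := ((key (B.hom y)).2 (MorphismProperty.of_isPullback hP h)).surj z
    exact ⟨pullback.fst A.hom _ w, (congrArg (fun φ => φ w) hP.w).trans ((congrArg _ hw').trans hz)⟩
  · intro h
    haveI : LocallyOfFiniteType f.left := inferInstance
    refine LocallyQuasiFinite.of_finite_preimage_singleton f.left (fun y => ?_)
    have hP := Groth.L08.IsogenyFibres.isPullback_fibre A B f (B.hom y)
    obtain ⟨z, hz⟩ : y ∈ Set.range (B.hom.fiberι (B.hom y)) := by rw [Scheme.Hom.range_fiberι]; rfl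
    haveI := (key (B.hom y)).1 (MorphismProperty.of_isPullback (P := @Surjective) hP h)
    haveI : QuasiCompact ((Over.pullback (S.fromSpecResidueField (B.hom y))).map f).left :=
      MorphismProperty.of_isPullback (P := @QuasiCompact) hP inferInstance
    refine ((((Over.pullback (S.fromSpecResidueField (B.hom y))).map f).left.finite_preimage_singleton z).image
      (pullback.fst A.hom (S.fromSpecResidueField (B.hom y)))).subset ?_
    intro x hx
    obtain ⟨w, hw1, hw2⟩ := Scheme.Pullback.exists_preimage_pullback (f := f.left) (g := B.hom.fiberι (B.hom y)) x z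
      ((show f.left x = y from hx).trans hz.symm)
    refine ⟨hP.isoPullback.inv w, ?_, ?_⟩
    · exact (congrArg (fun φ => φ w) hP.isoPullback_inv_snd).trans hw2
    · exact (congrArg (fun φ => φ w) hP.isoPullback_inv_fst).trans hw1

end Groth.Agent.S18385
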