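import Mathlib.AlgebraicGeometry.IdealSheaf.Basic
import Mathlib.AlgebraicGeometry.Noetherian
import Mathlib.AlgebraicGeometry.IdealSheaf.Basic
import Mathlib.AlgebraicGeometry.Noetherian
import Mathlib.RingTheory.Ideal.IdempotentFG

set_option autoImplicit false
set_option linter.style.haveILetI false
namespace LVCorr
end LVCorr
universe u
open LVCorr

namespace Groth.Agent.S18386

open AlgebraicGeometry in
/-- Let X be a connected Noetherian scheme and I a quasi-coherent sheaf of ideals on X, different from
the structure sheaf, such that I^k = I^(k+1) for some natural number k. Then I^k = 0. -/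
theorem result (X : Scheme.{u}) [AlgebraicGeometry.IsNoetherian X]
    [ConnectedSpace X] (I : X.IdealSheafData) (hI : I ≠ ⊤) (k : ℕ)
    (h : I ^ k = I ^ (k + 1)) : I ^ k = ⊥ := by
  rcases k with _ | k
  · refine absurd ?_ hI
    refine Scheme.IdealSheafData.ext ?_
    have := congrArg Scheme.IdealSheafData.ideal h
    simp only [Scheme.IdealSheafData.ideal_pow, pow_zero, zero_add, pow_one] at this
    rw [← this, Scheme.IdealSheafData.ideal_top]
    rfl
  let J := I ^ (k + 1)
  have hidem : ∀ U : X.affineOpens, IsIdempotentElem (J.ideal U) := fun U => by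
    have h0 : I.ideal U ^ (k + 1) = I.ideal U ^ (k + 1 + 1) := by
      have := congrFun (congrArg Scheme.IdealSheafData.ideal h) U
      simpa [Scheme.IdealSheafData.ideal_pow] using this
    have hm : ∀ m, I.ideal U ^ (k + 1 + m) = I.ideal U ^ (k + 1) := by
      intro m
      induction m with
      | zero => rfl
      | succ m ih => rw [← add_assoc, pow_succ, ih, ← pow_succ, ← h0]
    show J.ideal U * J.ideal U = J.ideal U
    simp only [J, Scheme.IdealSheafData.ideal_pow, Pi.pow_apply]
    rw [← pow_add, hm]
  haveI : ∀ U : X.affineOpens, IsNoetherianRing Γ(X, U) := fun U => IsLocallyNoetherian.component_noetherian U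
  have hgen : ∀ U : X.affineOpens, ∃ e : Γ(X, U), IsIdempotentElem e ∧ J.ideal U = Ideal.span {e} := fun U =>
    (Ideal.isIdempotentElem_iff_of_fg _ (IsNoetherian.noetherian (J.ideal U)) |>.1 (hidem U)) |> fun h => by
      simpa using h
  choose e he hspan using hgen
  have hloc : ∀ U : X.affineOpens, (J.support : Set X) ∩ U = X.basicOpen (1 - e U) := fun U => by
    rw [Scheme.IdealSheafData.coe_support_inter, hspan U, Scheme.zeroLocus_span, Scheme.zeroLocus_singleton]
    ext x
    constructor
    · rintro ⟨hx, hxU⟩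
      rw [Set.mem_compl_iff, SetLike.mem_coe, X.mem_basicOpen (e U) x hxU] at hx
      rw [SetLike.mem_coe, X.mem_basicOpen _ x hxU, map_sub, map_one]
      exact (IsLocalRing.isUnit_or_isUnit_of_add_one (a := X.presheaf.germ U.1 x hxU (e U)) (add_sub_cancel _ _)).resolve_left hx
    · intro hx
      have hxU := X.basicOpen_le _ hx
      refine ⟨fun hx' => ?_, hxU⟩
      have hboth : x ∈ X.basicOpen ((1 - e U) * e U) := by rw [Scheme.basicOpen_mul]; exact ⟨hx, hx'⟩
      rw [sub_mul, one_mul, (he U).eq, sub_self, Scheme.basicOpen_zero] at hboth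
      exact hboth
  have hopen : IsOpen (J.support : Set X) := by
    rw [isOpen_iff_forall_mem_open]
    intro x hx
    obtain ⟨U, hU, hxU, -⟩ := exists_isAffineOpen_mem_and_subset (x := x) (U := ⊤) trivial
    exact ⟨X.basicOpen (1 - e ⟨U, hU⟩), (hloc ⟨U, hU⟩) ▸ Set.inter_subset_left, (X.basicOpen _).2,
      (hloc ⟨U, hU⟩) ▸ ⟨hx, hxU⟩⟩
  have hne : (J.support : Set X).Nonempty := by
    rw [Set.nonempty_iff_ne_empty]
    intro h0
    refine hI ((Scheme.IdealSheafData.support_eq_bot_iff _).1 (TopologicalSpace.Closeds.ext ?_))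
    rw [← Scheme.IdealSheafData.support_pow_succ I k]
    exact h0
  have huniv := IsClopen.eq_univ ⟨J.support.isClosed, hopen⟩ hne
  refine Scheme.IdealSheafData.ext (funext fun U => ?_)
  show J.ideal U = _
  rw [Scheme.IdealSheafData.ideal_bot, Pi.bot_apply, hspan U, Ideal.span_singleton_eq_bot]
  have h1 := hloc U
  rw [huniv, Set.univ_inter] at h1
  have hnil : X.basicOpen (e U) = ⊥ := by
    rw [eq_bot_iff]
    intro x hx
    have hxU := X.basicOpen_le _ hx
    have hx' : x ∈ X.basicOpen (1 - e U) := by rw [← SetLike.mem_coe, ← h1]; exact hxU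
    have hboth : x ∈ X.basicOpen ((1 - e U) * e U) := by rw [Scheme.basicOpen_mul]; exact ⟨hx', hx⟩
    rwa [sub_mul, one_mul, (he U).eq, sub_self, Scheme.basicOpen_zero] at hboth
  obtain ⟨n, hn⟩ := (Scheme.isNilpotent_iff_basicOpen_eq_bot_of_isCompact U.2.isCompact (e U)).2 hnil
  rcases n with _ | n
  · rw [pow_zero] at hn
    haveI := subsingleton_of_zero_eq_one hn.symm
    exact Subsingleton.elim _ _
  · rwa [(he U).pow_succ_eq] at hn

end Groth.Agent.S18386
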