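import Groth.Statements.S18387
import Mathlib.RingTheory.Artinian.Ring
import Mathlib.RingTheory.Artinian.Module
import Mathlib.LinearAlgebra.FiniteDimensional.Basic
import Mathlib.LinearAlgebra.Dimension.RankNullity
import Mathlib.LinearAlgebra.FiniteDimensional.Lemmas
import Mathlib.Algebra.Order.Chebyshev
import Mathlib.Tactic.Linarith
import Mathlib.Tactic.Positivity
import Mathlib.Tactic.IntervalCases

set_option autoImplicit false
universe u
open LVCorr

namespace Groth.Agent.S18387

/-- In the affine form which its proof establishes. Let A be a commutative algebra over a field F which
is finite-dimensional of dimension d over F. Then the d-th power of the nilradical of A vanishes.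
(Applied to the fibre algebra A = B/mB of a quasi-finite morphism over a closed point with maximal
ideal m, this says that the d-th power of the radical of mB lies in mB, i.e. the ramification of the
morphism at that point is at most the degree d of the fibre.) -/
theorem result (F A : Type u) [Field F] [CommRing A] [Algebra F A]
    [FiniteDimensional F A] : nilradical A ^ Module.finrank F A = ⊥ := by
  have : IsArtinianRing A := IsArtinianRing.of_finite F A
  obtain ⟨m, hm⟩ := IsArtinianRing.isNilpotent_nilradical (R := A)
  set I := nilradical A
  set S : ℕ → Submodule F A := fun k => (I ^ k).restrictScalars F
  have key : ∀ k, I ^ k = ⊥ ∨ Module.finrank F (S k) + k ≤ Module.finrank F A := by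
    intro k
    induction k with
    | zero => right; simpa [S] using Submodule.finrank_le _
    | succ k ih =>
      rcases ih with h | h
      · left; rw [pow_succ, h, Ideal.bot_mul]
      · by_cases heq : I ^ (k + 1) = I ^ k
        · left
          have hst : ∀ j, I ^ (k + j) = I ^ k := by
            intro j
            induction j with
            | zero => rfl
            | succ j ihj => rw [← add_assoc, pow_succ, ihj, ← pow_succ, heq]
          rw [heq, ← hst m, pow_add, hm, mul_zero]; rfl
        · right
          have hle : S (k + 1) < S k :=
            lt_of_le_of_ne (fun x hx => Ideal.pow_le_pow_right (Nat.le_succ k) hx)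
              (fun e => heq (Submodule.restrictScalars_injective F A A e))
          have := Submodule.finrank_lt_finrank_of_lt hle
          omega
  rcases key (Module.finrank F A) with h | h
  · exact h
  · have : S (Module.finrank F A) = ⊥ := Submodule.finrank_eq_zero.mp (by omega)
    exact Submodule.restrictScalars_injective F A A (by simpa [S] using this)

end Groth.Agent.S18387
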