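import Groth.Statements.S18388
import Groth.Agent.S0384
import Groth.Agent.L06.ImmImage

set_option autoImplicit false
universe u
open LVCorr

set_option backward.isDefEq.respectTransparency.types false
set_option linter.style.haveILetI false
set_option backward.isDefEq.respectTransparency.types false
open AlgebraicGeometry CategoryTheory CategoryTheory.Limits
namespace Groth.Agent.S18388

open AlgebraicGeometry CategoryTheory in
/-- A correspondence admits a compactification compatible with any given compactifications of its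
targets. Over a quasi-compact quasi-separated base scheme S, let C → S be separated and of finite
type, let c₁ : C → X₁ and c₂ : C → X₂ be morphisms over S, and let jᵢ : Xᵢ → X̄ᵢ (i = 1, 2) be open
immersions over S with X̄ᵢ proper over S. Then there are a scheme C̄ proper over S, an open
immersion j : C → C̄ over S with dense image, and morphisms c̄ᵢ : C̄ → X̄ᵢ over S such that j
followed by c̄ᵢ equals cᵢ followed by jᵢ. (The source works over an algebraically closed field; the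
base here is any quasi-compact quasi-separated scheme, over which compactifications of separated
schemes of finite type exist.) -/
theorem result {S C X₁ X₂ Xb₁ Xb₂ : Scheme.{u}}
    [CompactSpace S] [QuasiSeparatedSpace S]
    (pC : C ⟶ S) [IsSeparated pC] [QuasiCompact pC] [LocallyOfFiniteType pC]
    (pX₁ : X₁ ⟶ S) (pX₂ : X₂ ⟶ S) (pXb₁ : Xb₁ ⟶ S) (pXb₂ : Xb₂ ⟶ S) [IsProper pXb₁] [IsProper pXb₂]
    (c₁ : C ⟶ X₁) (c₂ : C ⟶ X₂) (hc₁ : c₁ ≫ pX₁ = pC) (hc₂ : c₂ ≫ pX₂ = pC)
    (j₁ : X₁ ⟶ Xb₁) (j₂ : X₂ ⟶ Xb₂) [IsOpenImmersion j₁] [IsOpenImmersion j₂]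
    (hj₁ : j₁ ≫ pXb₁ = pX₁) (hj₂ : j₂ ≫ pXb₂ = pX₂) :
    ∃ (Cb : Scheme.{u}) (pCb : Cb ⟶ S) (j : C ⟶ Cb) (cb₁ : Cb ⟶ Xb₁) (cb₂ : Cb ⟶ Xb₂),
      IsProper pCb ∧ IsOpenImmersion j ∧ DenseRange j.base ∧ j ≫ pCb = pC ∧
      cb₁ ≫ pXb₁ = pCb ∧ cb₂ ≫ pXb₂ = pCb ∧ j ≫ cb₁ = c₁ ≫ j₁ ∧ j ≫ cb₂ = c₂ ≫ j₂ := by
  obtain ⟨Cc, jc, gc, hjc, _, hgc, hjg⟩ := Groth.Agent.S0384.result pC
  let q₁₂ : pullback pXb₁ pXb₂ ⟶ S := pullback.fst _ _ ≫ pXb₁
  let q : pullback gc q₁₂ ⟶ S := pullback.fst _ _ ≫ gc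
  let z₁₂ : C ⟶ pullback pXb₁ pXb₂ := pullback.lift (c₁ ≫ j₁) (c₂ ≫ j₂)
    (by rw [Category.assoc, Category.assoc, hj₁, hj₂, hc₁, hc₂])
  let z : C ⟶ pullback gc q₁₂ := pullback.lift jc z₁₂
    (by simp only [q₁₂, z₁₂, pullback.lift_fst_assoc, Category.assoc, hjg, hj₁, hc₁])
  haveI := hjc
  haveI := hgc
  haveI : IsProper q₁₂ := inferInstance
  haveI : IsProper q := inferInstance
  have hzq : z ≫ q = pC := by simp only [q, z, pullback.lift_fst_assoc, hjg]
  haveI : IsImmersion (z ≫ pullback.fst gc q₁₂) := by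
    rw [show z ≫ pullback.fst gc q₁₂ = jc from pullback.lift_fst _ _ _]
    infer_instance
  haveI : IsImmersion z := IsImmersion.of_comp z (pullback.fst gc q₁₂)
  haveI : QuasiCompact (z ≫ q) := by rw [hzq]; infer_instance
  haveI : QuasiCompact z := QuasiCompact.of_comp z q
  obtain ⟨hI, -, hd⟩ := Groth.L06.ImmImage.main z (Or.inl inferInstance)
  have hs : z.toImage ≫ z.imageι = z := z.toImage_imageι
  refine ⟨z.image, z.imageι ≫ q, z.toImage, z.imageι ≫ pullback.snd _ _ ≫ pullback.fst _ _,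
    z.imageι ≫ pullback.snd _ _ ≫ pullback.snd _ _, inferInstance, hI, hd,
    by rw [reassoc_of% hs, hzq], ?_, ?_, ?_, ?_⟩
  · simp only [q, Category.assoc]
    rw [pullback.condition (f := gc)]
  · simp only [q, Category.assoc]
    rw [pullback.condition (f := gc), ← pullback.condition (f := pXb₁)]
  · rw [reassoc_of% hs]; simp only [z, z₁₂, pullback.lift_snd_assoc, pullback.lift_fst]
  · rw [reassoc_of% hs]; simp only [z, z₁₂, pullback.lift_snd_assoc, pullback.lift_snd]


end Groth.Agent.S18388
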