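import Groth.Statements.S18389
import Mathlib.AlgebraicGeometry.Morphisms.Proper

set_option autoImplicit false
universe u
open LVCorr

namespace Groth.Agent.S18389

open AlgebraicGeometry CategoryTheory in
/-- Let j : C → C̄ be an open immersion with dense image and jX : X → X̄ an open immersion, and let c₁ :
C → X and c̄₁ : C̄ → X̄ satisfy j followed by c̄₁ equals c₁ followed by jX, with c̄₁ separated. Let
U be an open subset of X such that c₁⁻¹(U) is dense in C and the restriction c₁⁻¹(U) → U of c₁ is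
proper. Then c̄₁⁻¹(jX(U)) = j(c₁⁻¹(U)) as open subsets of C̄. (In the source all schemes are
separated of finite type over a field, C̄ and X̄ are compactifications of a correspondence and of X,
so that c̄₁ is automatically separated.) -/
theorem result {C Cb X Xb : Scheme.{u}}
    (j : C ⟶ Cb) [IsOpenImmersion j] (hj : DenseRange j.base)
    (jX : X ⟶ Xb) [IsOpenImmersion jX] (c₁ : C ⟶ X) (cb₁ : Cb ⟶ Xb) [IsSeparated cb₁]
    (h : j ≫ cb₁ = c₁ ≫ jX) (U : X.Opens) (hU : Dense ((c₁ ⁻¹ᵁ U : C.Opens) : Set C))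
    [IsProper (c₁ ∣_ U)] :
    cb₁ ⁻¹ᵁ (jX ''ᵁ U) = j ''ᵁ (c₁ ⁻¹ᵁ U) := by

    let W := cb₁ ⁻¹ᵁ (jX ''ᵁ U)
    have hle : c₁ ⁻¹ᵁ U ≤ j ⁻¹ᵁ W := fun x hx => by
      show cb₁.base (j.base x) ∈ jX ''ᵁ U
      rw [← Scheme.Hom.comp_apply, h, Scheme.Hom.comp_apply]
      exact ⟨c₁.base x, hx, rfl⟩
    refine le_antisymm (fun y hy => ?_) (fun y hy => ?_)
    swap
    · obtain ⟨x, hx, rfl⟩ := hy
      exact hle hx
    let g := j.resLE W (c₁ ⁻¹ᵁ U) hle
    let q := cb₁.resLE (jX ''ᵁ U) W le_rfl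
    have hcomp : g ≫ q = (c₁ ∣_ U) ≫ (jX.isoImage U).hom := by
      rw [← cancel_mono (jX ''ᵁ U).ι]
      simp [g, q, h]
    haveI : IsSeparated q := by
      have : q = cb₁ ∣_ (jX ''ᵁ U) := Scheme.Hom.resLE_eq_morphismRestrict _
      rw [this]
      infer_instance
    haveI : IsProper (g ≫ q) := by rw [hcomp]; infer_instance
    haveI : IsProper g := IsProper.of_comp g q
    have hd : DenseRange g.base := by
      refine dense_iff_inter_open.2 fun O hO hne => ?_
      obtain ⟨z, hz⟩ := hne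
      have hO' : IsOpen (W.ι.base '' O) := W.ι.isOpenEmbedding.isOpenMap O hO
      obtain ⟨x, hx⟩ := hj.exists_mem_open hO' ⟨_, z, hz, rfl⟩
      obtain ⟨x', hx'O, hx'U⟩ := dense_iff_inter_open.1 hU (j.base ⁻¹' (W.ι.base '' O)) (hO'.preimage j.continuous) ⟨x, hx⟩
      obtain ⟨z', hz', hzx⟩ := hx'O
      refine ⟨z', hz', ⟨x', hx'U⟩, W.ι.isOpenEmbedding.injective ?_⟩
      rw [hzx, ← Scheme.Hom.comp_apply]
      simp [g]
    obtain ⟨x, hx⟩ : (⟨y, hy⟩ : W) ∈ Set.range g.base := by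
      rw [← (g.isClosedMap.isClosed_range).closure_eq, hd.closure_range]
      trivial
    refine ⟨x.1, x.2, ?_⟩
    have h1 := congrArg W.ι.base hx
    rw [← Scheme.Hom.comp_apply] at h1
    simp [g] at h1
    exact h1

end Groth.Agent.S18389
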