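import Groth.Statements.S18390
import Mathlib.RingTheory.Finiteness.Basic
import Mathlib.Algebra.BigOperators.Ring.Finset
import Mathlib.Data.Nat.Choose.Sum

set_option autoImplicit false
universe u
open LVCorr

namespace Groth.Agent.S18390

/-- In the affine, ring-theoretic form which its proof establishes. Let φ : A' → A be a ring
homomorphism, I' a finitely generated ideal of A' and I an ideal of A containing the image of I'.
Then some power I'^k is mapped into I^(k+1) if and only if for every n ≥ 1 and every a ∈ I'^n there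
is a k with φ(a)^k ∈ I^(nk+1). (Geometrically, for a morphism f : (X, Z) → (X', Z') of pairs with Z
a closed subscheme of the preimage of Z', the normal cone of Z in X is the spectrum of the
associated graded algebra of I, and the second condition says that the induced map of normal cones
sends the normal cone of Z set-theoretically into the zero section Z'; the source states the
equivalence in that language.) -/
theorem result (A' A : Type u) [CommRing A'] [CommRing A]
    (φ : A' →+* A) (I' : Ideal A') (hI' : I'.FG) (I : Ideal A) (hle : I'.map φ ≤ I) :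
    (∃ k : ℕ, (I' ^ k).map φ ≤ I ^ (k + 1)) ↔
      ∀ n : ℕ, 1 ≤ n → ∀ a ∈ I' ^ n, ∃ k : ℕ, 1 ≤ k ∧ φ a ^ k ∈ I ^ (n * k + 1) := by
  classical
  constructor
  · rintro ⟨k, hk⟩ n hn a ha
    refine ⟨k + 1, by omega, ?_⟩
    have h1 : φ a ^ k ∈ I ^ (n * k + n) := by
      have h2 : φ (a ^ k) ∈ ((I' ^ k) ^ n).map φ :=
        Ideal.mem_map_of_mem φ (by rw [← pow_mul, mul_comm, pow_mul]; exact Ideal.pow_mem_pow ha k)
      rw [map_pow, Ideal.map_pow] at h2
      have := Ideal.pow_right_mono hk n h2
      rwa [← pow_mul, show (k + 1) * n = n * k + n by ring] at this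
    have h3 : φ a ∈ I ^ n := by
      have h2 := Ideal.mem_map_of_mem φ ha
      rw [Ideal.map_pow] at h2
      exact Ideal.pow_right_mono hle n h2
    have := Ideal.mul_mem_mul h1 h3
    rw [← pow_add] at this
    rw [pow_succ (φ a)]
    exact Ideal.pow_le_pow_right (show n * (k + 1) + 1 ≤ n * k + n + n by nlinarith) this
  · intro h
    suffices hs : ∀ J : Ideal A', J.FG → J ≤ I' → ∃ k, (J.map φ) ^ k ≤ I ^ (k + 1) by
      obtain ⟨k, hk⟩ := hs I' hI' le_rfl
      exact ⟨k, by rwa [Ideal.map_pow]⟩
    intro J hJ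
    refine Submodule.fg_induction (R := A') (M := A') (motive := fun J _ => J ≤ I' → ∃ k, (Ideal.map φ J) ^ k ≤ I ^ (k + 1)) ?_ ?_ J hJ
    · intro x hx
      have hx' : x ∈ I' := hx (Submodule.mem_span_singleton_self x)
      obtain ⟨k, hk, hkx⟩ := h 1 le_rfl x (by simpa using hx')
      refine ⟨k, ?_⟩
      rw [show (A' ∙ x) = Ideal.span {x} from rfl, Ideal.map_span, Set.image_singleton, Ideal.span_singleton_pow, Ideal.span_le,
        Set.singleton_subset_iff]
      simpa using hkx
    · intro J₁ J₂ _ _ ih1 ih2 hle12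
      obtain ⟨k₁, h1⟩ := ih1 (le_sup_left.trans hle12)
      obtain ⟨k₂, h2⟩ := ih2 (le_sup_right.trans hle12)
      refine ⟨k₁ + k₂, ?_⟩
      rw [Ideal.map_sup]
      have hl1 : Ideal.map φ J₁ ≤ I := le_trans (Ideal.map_mono (le_sup_left.trans hle12)) hle
      have hl2 : Ideal.map φ J₂ ≤ I := le_trans (Ideal.map_mono (le_sup_right.trans hle12)) hle
      generalize Ideal.map φ J₁ = a at *
      generalize Ideal.map φ J₂ = b at *
      rw [← Submodule.add_eq_sup, add_pow]
      refine Finset.sum_induction _ (fun x => x ≤ I ^ (k₁ + k₂ + 1)) (fun _ _ ha hb => sup_le ha hb) bot_le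
        fun i hi => ?_
      simp only [Finset.mem_range] at hi
      refine Ideal.mul_le_left.trans ?_
      rcases le_or_gt k₁ i with hik | hik
      · calc a ^ i * b ^ (k₁ + k₂ - i) = a ^ k₁ * (a ^ (i - k₁) * b ^ (k₁ + k₂ - i)) := by
              rw [← mul_assoc, ← pow_add, Nat.add_sub_of_le hik]
          _ ≤ I ^ (k₁ + 1) * (I ^ (i - k₁) * I ^ (k₁ + k₂ - i)) :=
              Ideal.mul_mono h1 (Ideal.mul_mono (Ideal.pow_right_mono hl1 _) (Ideal.pow_right_mono hl2 _))
          _ = I ^ (k₁ + k₂ + 1) := by rw [← pow_add, ← pow_add]; congr 1; omega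
      · calc a ^ i * b ^ (k₁ + k₂ - i) = b ^ k₂ * (a ^ i * b ^ (k₁ - i)) := by
              rw [mul_left_comm, ← pow_add]; congr 2; omega
          _ ≤ I ^ (k₂ + 1) * (I ^ i * I ^ (k₁ - i)) :=
              Ideal.mul_mono h2 (Ideal.mul_mono (Ideal.pow_right_mono hl1 _) (Ideal.pow_right_mono hl2 _))
          _ = I ^ (k₁ + k₂ + 1) := by rw [← pow_add, ← pow_add]; congr 1; omega

end Groth.Agent.S18390
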