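import Mathlib.RingTheory.Ideal.AssociatedPrime.Localization
import Groth.Statements.S18391
import Groth.Agent.L01.NormalDomain

set_option autoImplicit false
universe u
open LVCorr

namespace Groth.Agent.S18391

/-- Let A be a normal (integrally closed) Noetherian domain and z an element of A such that the radical
of the principal ideal (z) is prime. Then there exist elements w, t of A and a natural number r,
with w not in the radical of (z), such that in the localization A[1/w] the ideal generated by z
equals the ideal generated by t^r and the ideal generated by t is prime. (The condition on w is the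
one the printed proof produces and the later use of the lemma needs.) -/
theorem result (A : Type u) [CommRing A] [IsDomain A]
    [IsNoetherianRing A] [IsIntegrallyClosed A] (z : A) (hz : (Ideal.span {z}).radical.IsPrime) :
    ∃ (w t : A) (r : ℕ), w ∉ (Ideal.span {z}).radical ∧
      Ideal.span {algebraMap A (Localization.Away w) z} =
        Ideal.span {algebraMap A (Localization.Away w) t ^ r} ∧
      (Ideal.span {algebraMap A (Localization.Away w) t}).IsPrime := by
  classical
  set p := (Ideal.span {z}).radical with hp
  haveI := hz
  by_cases hz0 : z = 0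
  · subst hz0
    have h0 : p = ⊥ := by
      rw [hp, Ideal.span_singleton_zero]
      exact Ideal.radical_bot_of_isReduced
    refine ⟨1, 0, 1, ?_, by simp, ?_⟩
    · rw [h0]; simp
    · haveI : IsDomain (Localization.Away (1 : A)) :=
        IsLocalization.isDomain_localization (Submonoid.powers_le.2 (mem_nonZeroDivisors_of_ne_zero one_ne_zero))
      simp only [map_zero, Ideal.span_singleton_zero]
      exact Ideal.isPrime_bot
  · have hmin : p ∈ (Ideal.span {z}).minimalPrimes :=
      ⟨⟨hz, Ideal.le_radical⟩, fun q hq _ => hq.1.radical_le_iff.2 hq.2⟩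
    have hass : p ∈ associatedPrimes A (A ⧸ Ideal.span {z}) := by
      apply Module.associatedPrimes.minimalPrimes_annihilator_subset_associatedPrimes
      rwa [Ideal.annihilator_quotient]
    haveI := Groth.L01.isDVR_localization_of_mem_associatedPrimes hz0 hass
    let S := Localization.AtPrime p
    have hle : p.primeCompl ≤ nonZeroDivisors A := Ideal.primeCompl_le_nonZeroDivisors p
    have hinj : Function.Injective (algebraMap A S) := IsLocalization.injective S hle
    obtain ⟨π, hπ⟩ := IsDiscreteValuationRing.exists_irreducible S
    obtain ⟨⟨t, s₀⟩, ht⟩ := IsLocalization.surj p.primeCompl π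
    have hs₀ : IsUnit (algebraMap A S (s₀ : A)) := IsLocalization.map_units S s₀
    have hmt : IsLocalRing.maximalIdeal S = Ideal.span {algebraMap A S t} := by
      rw [hπ.maximalIdeal_eq, Ideal.span_singleton_eq_span_singleton]
      exact Associated.trans (associated_mul_unit_right π _ hs₀) (Associated.of_eq ht)
    have htp : t ∈ p := by
      have : algebraMap A S t ∈ IsLocalRing.maximalIdeal S := hmt ▸ Ideal.mem_span_singleton_self _
      exact (IsLocalization.AtPrime.to_map_mem_maximal_iff S p t).1 this
    have hzS : algebraMap A S z ≠ 0 := (map_ne_zero_iff _ hinj).2 hz0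
    obtain ⟨r, u, hu⟩ := IsDiscreteValuationRing.eq_unit_mul_pow_irreducible hzS hπ
    -- z ~ t ^ r in S
    have hzt : Ideal.span {algebraMap A S z} = Ideal.span {algebraMap A S (t ^ r)} := by
      rw [Ideal.span_singleton_eq_span_singleton, hu, map_pow]
      refine (associated_unit_mul_left _ _ u.isUnit).trans (Associated.pow_pow ?_)
      exact (associated_mul_unit_right π _ hs₀).trans (Associated.of_eq ht)
    -- descend a membership
    have key : ∀ (a b : A), algebraMap A S a ∈ Ideal.span {algebraMap A S b} →
        ∃ m ∉ p, m * a ∈ Ideal.span {b} := by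
      intro a b h
      rw [← Set.image_singleton, ← Ideal.map_span] at h
      exact (IsLocalization.algebraMap_mem_map_algebraMap_iff p.primeCompl S _ _).1 h
    obtain ⟨m₁, hm₁, h₁⟩ := key z (t ^ r) (hzt ▸ Ideal.mem_span_singleton_self _)
    obtain ⟨m₂, hm₂, h₂⟩ := key (t ^ r) z (hzt.symm ▸ Ideal.mem_span_singleton_self _)
    obtain ⟨F, hF⟩ : p.FG := IsNoetherian.noetherian p
    have hgen : ∀ x ∈ F, ∃ m ∉ p, m * x ∈ Ideal.span {t} := by
      intro x hx
      refine key x t ?_
      rw [← hmt]
      exact (IsLocalization.AtPrime.to_map_mem_maximal_iff S p x).2 (hF ▸ Ideal.subset_span hx)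
    choose! m hm hmx using hgen
    let w := m₁ * m₂ * ∏ x ∈ F, m x
    have hw : w ∉ p := by
      intro h
      rcases hz.mem_or_mem h with h | h
      · rcases hz.mem_or_mem h with h | h
        · exact hm₁ h
        · exact hm₂ h
      · obtain ⟨x, hx, h⟩ := (Ideal.IsPrime.prod_mem_iff (p := p)).1 h
        exact hm x hx h
    refine ⟨w, t, r, hw, ?_, ?_⟩
    · set B := Localization.Away w
      have hu' : ∀ c, c ∣ w → IsUnit (algebraMap A B c) := fun c hc =>
        isUnit_of_dvd_unit (map_dvd _ hc) (IsLocalization.Away.algebraMap_isUnit w)
      have step : ∀ a b c : A, c ∣ w → c * a ∈ Ideal.span {b} →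
          algebraMap A B a ∈ Ideal.span {algebraMap A B b} := by
        intro a b c hc h
        have h' := Ideal.mem_map_of_mem (algebraMap A B) h
        rw [Ideal.map_span, Set.image_singleton, map_mul] at h'
        exact (Ideal.unit_mul_mem_iff_mem _ (hu' c hc)).1 h'
      rw [← map_pow]
      apply le_antisymm <;> rw [Ideal.span_singleton_le_iff_mem]
      · exact step z (t ^ r) m₁ ⟨m₂ * ∏ x ∈ F, m x, by simp only [w]; ring⟩ h₁
      · exact step (t ^ r) z m₂ ⟨m₁ * ∏ x ∈ F, m x, by simp only [w]; ring⟩ h₂
    · set B := Localization.Away w
      have hd : Disjoint (Submonoid.powers w : Set A) (p : Set A) := by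
        rw [Set.disjoint_left]
        rintro _ ⟨n, rfl⟩ h
        exact hw (hz.mem_of_pow_mem n h)
      have heq : Ideal.span {algebraMap A B t} = p.map (algebraMap A B) := by
        apply le_antisymm
        · rw [Ideal.span_singleton_le_iff_mem]; exact Ideal.mem_map_of_mem _ htp
        · rw [← hF]; change (Ideal.span (F : Set A)).map _ ≤ _
          rw [Ideal.map_span, Ideal.span_le]
          rintro _ ⟨x, hx, rfl⟩
          have h' := Ideal.mem_map_of_mem (algebraMap A B) (hmx x hx)
          rw [Ideal.map_span, Set.image_singleton, map_mul] at h'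
          refine (Ideal.unit_mul_mem_iff_mem _ ?_).1 h'
          exact isUnit_of_dvd_unit (map_dvd _ (dvd_mul_of_dvd_right (Finset.dvd_prod_of_mem m hx) _))
            (IsLocalization.Away.algebraMap_isUnit w)
      rw [heq]
      exact IsLocalization.isPrime_of_isPrime_disjoint (Submonoid.powers w) B p hz hd

end Groth.Agent.S18391
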