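import Groth.Statements.S18392
import Groth.Agent.L01.NormalDomain
import Mathlib.RingTheory.Ideal.AssociatedPrime.Localization

set_option autoImplicit false
universe u
open LVCorr

namespace Groth.Agent.S18392

/-- Let A be a normal (integrally closed) Noetherian domain and z an element of A such that the radical
of (z) is prime. Then for every non-empty open subset V of Spec A contained in the basic open set
D(z) (that is, every non-empty open subset of Spec A[1/z]) there is an element x of A, not in the
radical of (z), such that the basic open set D(xz) = Spec A[1/xz] is contained in V. -/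
theorem result (A : Type u) [CommRing A]
    [IsDomain A] [IsNoetherianRing A] [IsIntegrallyClosed A] (z : A)
    (hz : (Ideal.span {z}).radical.IsPrime) (V : Set (PrimeSpectrum A)) (hV : IsOpen V)
    (hVz : V ⊆ (PrimeSpectrum.basicOpen z : Set (PrimeSpectrum A))) (hne : V.Nonempty) :
    ∃ x : A, x ∉ (Ideal.span {z}).radical ∧
      ((PrimeSpectrum.basicOpen (x * z) : TopologicalSpace.Opens (PrimeSpectrum A)) :
        Set (PrimeSpectrum A)) ⊆ V := by

    set P := (Ideal.span {z}).radical with hPdef
    haveI := hz
    have hPmin : P ∈ (Ideal.span {z}).minimalPrimes :=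
      ⟨⟨hz, Ideal.le_radical⟩, fun q hq _ => (hq.1.radical_le_iff).2 hq.2⟩
    have hPass : P ∈ associatedPrimes A (A ⧸ Ideal.span {z}) := by
      refine (Module.associatedPrimes.minimalPrimes_annihilator_subset_associatedPrimes A (A ⧸ Ideal.span {z})) ?_
      rwa [Ideal.annihilator_quotient]
    obtain ⟨q₀, hq₀⟩ := hne
    have hz0 : z ≠ 0 := fun h => hVz hq₀ (by rw [h]; exact q₀.asIdeal.zero_mem)
    haveI := Groth.L01.isDVR_localization_of_mem_associatedPrimes hz0 hPass
    obtain ⟨_, ⟨g, rfl⟩, hq₀g, hgV⟩ :=
      PrimeSpectrum.isTopologicalBasis_basic_opens.exists_subset_of_mem_open hq₀ hV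
    have hg0 : g ≠ 0 := fun h => hq₀g (by rw [h]; exact q₀.asIdeal.zero_mem)
    obtain ⟨π, hπ⟩ := IsDiscreteValuationRing.exists_irreducible (Localization.AtPrime P)
    have hinj : Function.Injective (algebraMap A (Localization.AtPrime P)) :=
      IsLocalization.injective _ (Ideal.primeCompl_le_nonZeroDivisors P)
    obtain ⟨m, u, hu⟩ := IsDiscreteValuationRing.eq_unit_mul_pow_irreducible ((map_ne_zero_iff _ hinj).2 hz0) hπ
    obtain ⟨n, v, hv⟩ := IsDiscreteValuationRing.eq_unit_mul_pow_irreducible ((map_ne_zero_iff _ hinj).2 hg0) hπ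
    have hm : m ≠ 0 := by
      rintro rfl
      have hzP : z ∈ P := Ideal.le_radical (Ideal.mem_span_singleton_self z)
      have : IsUnit (algebraMap A (Localization.AtPrime P) z) := by rw [hu]; simp
      exact (IsLocalization.AtPrime.isUnit_to_map_iff _ P z).1 this hzP
    obtain ⟨⟨a, t⟩, hat⟩ := IsLocalization.surj P.primeCompl
      ((u : Localization.AtPrime P) ^ n * ((v⁻¹ : (Localization.AtPrime P)ˣ) : Localization.AtPrime P) ^ m)
    have hkey : a * g ^ m = (t : A) * z ^ n := hinj (by
      have hvv : ((v⁻¹ : (Localization.AtPrime P)ˣ) : Localization.AtPrime P) ^ m * (v : Localization.AtPrime P) ^ m = 1 := by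
        rw [← mul_pow, Units.inv_mul, one_pow]
      simp only at hat
      rw [map_mul, map_mul, map_pow, map_pow, hu, hv, ← hat, mul_pow, mul_pow, ← pow_mul, ← pow_mul, mul_comm n m]
      linear_combination (algebraMap A (Localization.AtPrime P) t) * (u : Localization.AtPrime P) ^ n * π ^ (m * n) * hvv)
    refine ⟨t, t.2, fun q hq => hgV ?_⟩
    intro hgq
    refine hq ?_
    have h1 : (t : A) * z ^ n ∈ q.asIdeal := hkey ▸ q.asIdeal.mul_mem_left a (Ideal.pow_mem_of_mem _ hgq m (Nat.pos_of_ne_zero hm))
    rcases q.isPrime.mem_or_mem h1 with h | h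
    · exact q.asIdeal.mul_mem_right z h
    · exact q.asIdeal.mul_mem_left _ (q.isPrime.mem_of_pow_mem n h)

end Groth.Agent.S18392
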