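import Groth.Statements.S18393

set_option autoImplicit false
universe u v
open LVCorr

namespace Groth.Agent.S18393

/-- Stated for the underlying continuous maps. Let c₁, c₂ : C → X be continuous maps with C a Noetherian
topological space, let Z be a closed subset of X and B the closure in C of c₂⁻¹(Z) ∖ c₁⁻¹(Z). Call Z
locally invariant when every point x of Z has an open neighbourhood U such that every y in C with
c₂(y) ∈ Z ∩ U and c₁(y) ∈ U satisfies c₁(y) ∈ Z. Then Z is locally invariant if and only if for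
every irreducible subset T of B the closures of c₁(T) and of c₂(T) in X are disjoint. (The source
states this for a correspondence c = (c₁, c₂) : C → X × X of separated schemes of finite type over
an algebraically closed field and for the irreducible components of B; the condition for all
irreducible subsets of B is the same condition.) -/
theorem result {C : Type u} {X : Type v}
    [TopologicalSpace C] [TopologicalSpace X] [TopologicalSpace.NoetherianSpace C]
    (c₁ c₂ : C → X) (hc₁ : Continuous c₁) (hc₂ : Continuous c₂) (Z : Set X) (hZ : IsClosed Z) :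
    (∀ x ∈ Z, ∃ U : Set X, IsOpen U ∧ x ∈ U ∧
        ∀ y : C, c₂ y ∈ Z → c₂ y ∈ U → c₁ y ∈ U → c₁ y ∈ Z) ↔
      ∀ T : Set C, T ⊆ closure (c₂ ⁻¹' Z \ c₁ ⁻¹' Z) → IsIrreducible T →
        closure (c₁ '' T) ∩ closure (c₂ '' T) = ∅ := by
  constructor
  · intro h T hT hirr
    by_contra hne
    obtain ⟨x, hx1, hx2⟩ := Set.nonempty_iff_ne_empty.2 hne
    have hxZ : x ∈ Z := by
      refine closure_minimal ?_ hZ hx2
      rintro _ ⟨y, hy, rfl⟩
      exact closure_minimal Set.sdiff_subset (hZ.preimage hc₂) (hT hy)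
    obtain ⟨U, hU, hxU, hUy⟩ := h x hxZ
    obtain ⟨_, h1, a, ha, rfl⟩ := mem_closure_iff.1 hx1 U hU hxU
    obtain ⟨_, h2, b, hb, rfl⟩ := mem_closure_iff.1 hx2 U hU hxU
    obtain ⟨y, hyT, hy1, hy2⟩ := hirr.2 _ _ (hU.preimage hc₁) (hU.preimage hc₂) ⟨a, ha, h1⟩ ⟨b, hb, h2⟩
    obtain ⟨w, ⟨hw1, hw2⟩, hwZ, hwZ'⟩ := mem_closure_iff.1 (hT hyT) _
      ((hU.preimage hc₁).inter (hU.preimage hc₂)) ⟨hy1, hy2⟩
    exact hwZ' (hUy w hwZ hw2 hw1)
  · intro h x hx
    classical
    obtain ⟨S, hfin, hcl, hirr, hS⟩ := TopologicalSpace.NoetherianSpace.exists_finite_set_isClosed_irreducible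
      (isClosed_closure (s := c₂ ⁻¹' Z \ c₁ ⁻¹' Z))
    let W : Set C → Set X := fun T => if x ∈ closure (c₁ '' T) then closure (c₂ '' T) else closure (c₁ '' T)
    have hxW : ∀ T ∈ S, x ∉ W T := by
      intro T hT
      simp only [W]
      split_ifs with hx1
      · intro hx2
        have := h T (hS ▸ Set.subset_sUnion_of_mem hT) (hirr T hT)
        exact Set.notMem_empty x (this ▸ ⟨hx1, hx2⟩)
      · exact hx1
    refine ⟨(⋃ T ∈ S, W T)ᶜ, (hfin.isClosed_biUnion fun T _ => ?_).isOpen_compl, by simpa using hxW, ?_⟩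
    · simp only [W]; split_ifs <;> exact isClosed_closure
    · intro y hy2 hy2' hy1
      by_contra hy
      have : y ∈ ⋃₀ S := hS ▸ subset_closure ⟨hy2, hy⟩
      obtain ⟨T, hT, hyT⟩ := this
      have hW : c₁ y ∉ W T ∧ c₂ y ∉ W T := ⟨fun h' => hy1 (Set.mem_biUnion hT h'), fun h' => hy2' (Set.mem_biUnion hT h')⟩
      simp only [W] at hW
      split_ifs at hW
      · exact hW.2 (subset_closure ⟨y, hyT, rfl⟩)
      · exact hW.1 (subset_closure ⟨y, hyT, rfl⟩)

end Groth.Agent.S18393
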