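import Groth.Statements.S18394
import Groth.Agent.S0384
import Groth.Agent.S14898
import Groth.Agent.L06.ImmImage
import Groth.Agent.L20.AdmSep
import Groth.Agent.L13.BlowUp.Proper
import Groth.Agent.L22.BlowUp

set_option autoImplicit false
universe u v
open LVCorr

set_option backward.isDefEq.respectTransparency.types false
set_option linter.style.haveILetI false
set_option backward.isDefEq.respectTransparency.types false
open AlgebraicGeometry CategoryTheory CategoryTheory.Limits

namespace Groth.Agent.S18394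

open Groth.L22.Ideals in
/-- Over a Noetherian compactification, two disjoint closed subsets get separated closures after
a blow-up which is trivial over the open part. -/
theorem exists_pair {X Xc : Scheme.{u}} (jc : X ⟶ Xc) [IsOpenImmersion jc] [IsNoetherian Xc]
    (C₁ C₂ : Set X) (h₁ : IsClosed C₁) (h₂ : IsClosed C₂) (hd : C₁ ∩ C₂ = ∅) :
    ∃ (X' : Scheme.{u}) (b : X' ⟶ Xc) (t : X ⟶ X'), IsProper b ∧ t ≫ b = jc ∧
      closure (t.base '' C₁) ∩ closure (t.base '' C₂) = ∅ := by
  let U : Xc.Opens := jc.opensRange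
  haveI : TopologicalSpace.NoetherianSpace Xc := inferInstance
  haveI : TopologicalSpace.NoetherianSpace U :=
    Topology.IsInducing.noetherianSpace (i := (Subtype.val : U → Xc)) .subtypeVal
  have hU : IsCompact (U : Set Xc) := TopologicalSpace.NoetherianSpace.isCompact _
  have hcon : ∀ T : Set U, IsClosed T → Topology.IsConstructible T := fun T hT =>
    Topology.isConstructible_compl.1 ((TopologicalSpace.NoetherianSpace.isCompact _).isConstructible hT.isOpen_compl)
  have hcl : ∀ C : Set X, IsClosed C → IsClosed ((Subtype.val : U → Xc) ⁻¹' (jc.base '' C)) := by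
    intro C hC
    refine isOpen_compl_iff.1 ?_
    have e : ((Subtype.val : U → Xc) ⁻¹' (jc.base '' C))ᶜ = Subtype.val ⁻¹' (jc.base '' Cᶜ) := by
      ext ⟨y, z, rfl⟩
      simp only [Set.mem_compl_iff, Set.mem_preimage, jc.isOpenEmbedding.injective.mem_set_image]
    rw [e]
    exact (jc.isOpenEmbedding.isOpenMap _ hC.isOpen_compl).preimage continuous_subtype_val
  obtain ⟨I, X', b, hb, hadm, hdis⟩ := Groth.L20.AdmSep.exists_separating U hU
    ((Subtype.val : U → Xc) ⁻¹' (jc.base '' C₁)) ((Subtype.val : U → Xc) ⁻¹' (jc.base '' C₂))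
    (hcl _ h₁) (hcl _ h₂) (hcon _ (hcl _ h₁)) (hcon _ (hcl _ h₂))
    (Set.disjoint_left.2 fun y hy₁ hy₂ => by
      obtain ⟨a, ha, hya⟩ := hy₁
      obtain ⟨a', ha', hya'⟩ := hy₂
      obtain rfl := jc.isOpenEmbedding.injective (hya.trans hya'.symm)
      exact Set.eq_empty_iff_forall_notMem.1 hd a ⟨ha, ha'⟩)
  have htop : I.comap jc = ⊤ := comap_eq_top I jc fun y hy => Set.disjoint_left.1 hadm.2 hy ⟨y, rfl⟩
  obtain ⟨t, ht, -⟩ := hb.2 X jc (by rw [htop]; exact isEffCartier_top)
  refine ⟨X', b, t, Groth.L13.BU.isProper_blowUp hb hadm.1, ht, ?_⟩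
  have hsub : ∀ C : Set X, closure (t.base '' C) ⊆
      closure (b.base ⁻¹' (Subtype.val '' ((Subtype.val : U → Xc) ⁻¹' (jc.base '' C)))) := by
    intro C
    refine closure_mono ?_
    rintro _ ⟨a, ha, rfl⟩
    have hta : b.base (t.base a) = jc.base a := congrArg (fun φ : X ⟶ Xc => φ a) ht
    exact ⟨⟨jc.base a, a, rfl⟩, ⟨a, ha, rfl⟩, hta.symm⟩
  exact Set.eq_empty_iff_forall_notMem.2 fun y hy =>
    Set.disjoint_left.1 hdis (hsub _ hy.1) (hsub _ hy.2)

end Groth.Agent.S18394
namespace Groth.Agent.S18394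

open AlgebraicGeometry CategoryTheory in
/-- Let X be a scheme separated and of finite type over a field k, and let (C₁ᵢ, C₂ᵢ), i ranging over a
finite set, be pairs of closed subsets of X with C₁ᵢ and C₂ᵢ disjoint for every i. Then X admits a
compactification in which each pair stays disjoint: there are a scheme X̄ proper over k and an open
immersion j : X → X̄ over k with dense image such that for every i the closures of j(C₁ᵢ) and of
j(C₂ᵢ) in X̄ do not meet. (The source has k algebraically closed.) -/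
theorem result {X : Scheme.{u}} (k : Type u) [Field k]
    (pX : X ⟶ Spec (CommRingCat.of k)) [IsSeparated pX] [QuasiCompact pX] [LocallyOfFiniteType pX]
    {ι : Type v} [Finite ι] (C₁ C₂ : ι → Set X) (h₁ : ∀ i, IsClosed (C₁ i)) (h₂ : ∀ i, IsClosed (C₂ i))
    (hd : ∀ i, C₁ i ∩ C₂ i = ∅) :
    ∃ (Xb : Scheme.{u}) (j : X ⟶ Xb) (p : Xb ⟶ Spec (CommRingCat.of k)),
      IsProper p ∧ IsOpenImmersion j ∧ DenseRange j.base ∧ j ≫ p = pX ∧
      ∀ i, closure (j.base '' C₁ i) ∩ closure (j.base '' C₂ i) = ∅ := by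
  obtain ⟨Xc, jc, gc, hjc, _, hgc, hjg⟩ := Groth.Agent.S0384.result pX
  haveI := hjc
  haveI := hgc
  haveI : IsLocallyNoetherian Xc := LocallyOfFiniteType.isLocallyNoetherian gc
  haveI : CompactSpace Xc := QuasiCompact.compactSpace_of_compactSpace gc
  haveI : IsNoetherian Xc := ⟨⟩
  choose Xi b t hb ht hdis using fun i => exists_pair jc (C₁ i) (C₂ i) (h₁ i) (h₂ i) (hd i)
  let e := Finite.equivFin ι
  obtain ⟨P, q, z, r₀, hq, hz, hr₀⟩ := Groth.Agent.S14898.exists_product jc _ (fun k => Xi (e.symm k))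
    (fun k => b (e.symm k)) (fun k => hb _) (fun k => t (e.symm k)) (fun k => ht _)
  have key : ∀ k i, e.symm k = i → ∃ r : P ⟶ Xi i, z ≫ r = t i := by
    rintro k _ rfl
    exact ⟨r₀ k, (hr₀ k).2⟩
  choose r hr using fun i => key (e i) i (e.symm_apply_apply i)
  haveI := hq
  haveI : IsImmersion (z ≫ q) := by rw [hz]; infer_instance
  haveI : IsImmersion z := IsImmersion.of_comp z q
  haveI : QuasiCompact (z ≫ q ≫ gc) := by rw [reassoc_of% hz, hjg]; infer_instance
  haveI : QuasiCompact z := QuasiCompact.of_comp z (q ≫ gc)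
  obtain ⟨hI, -, hdense⟩ := Groth.L06.ImmImage.main z (Or.inl inferInstance)
  have hs : z.toImage ≫ z.imageι = z := z.toImage_imageι
  refine ⟨z.image, z.toImage, z.imageι ≫ q ≫ gc, inferInstance, hI, hdense,
    by rw [reassoc_of% hs, reassoc_of% hz, hjg], fun i => ?_⟩
  let R := z.imageι ≫ r i
  have hR : z.toImage ≫ R = t i := by simp only [R, reassoc_of% hs, hr i]
  have hmaps : ∀ C : Set X, ∀ y ∈ closure (z.toImage.base '' C), R.base y ∈ closure ((t i).base '' C) := by
    intro C y hy
    have h := image_closure_subset_closure_image R.continuous ⟨y, hy, rfl⟩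
    rw [Set.image_image] at h
    have e : (fun a => R.base (z.toImage.base a)) = (t i).base :=
      funext fun a => congrArg (fun φ : X ⟶ Xi i => φ a) hR
    rwa [show (fun a => R (z.toImage.base a)) = (t i).base from e] at h
  exact Set.eq_empty_iff_forall_notMem.2 fun y hy =>
    Set.eq_empty_iff_forall_notMem.1 (hdis i) (R.base y) ⟨hmaps _ y hy.1, hmaps _ y hy.2⟩


end Groth.Agent.S18394
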