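import Groth.Statements.S18395
import Groth.Agent.S0384
import Groth.Agent.S18388
import Groth.Agent.L06.ImmImage
import Groth.Agent.L13.ModPair.Colon
import Groth.Agent.L13.BlowUp.Exists
import Groth.Agent.L13.BlowUp.Proper
import Groth.Agent.L22.BlowUp

set_option autoImplicit false
universe u
open LVCorr

set_option backward.isDefEq.respectTransparency.types false
set_option linter.style.haveILetI false
set_option backward.isDefEq.respectTransparency.types false
open AlgebraicGeometry CategoryTheory CategoryTheory.Limits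

namespace Groth.Agent.S18395

/-- A scheme of finite type over a field has a compactification in which the closures of finitely many
closed subsets with empty intersection have empty intersection. -/
theorem exists_compactification {X : Scheme.{u}} (k : Type u) [Field k]
    (pX : X ⟶ Spec (CommRingCat.of k)) [IsSeparated pX] [QuasiCompact pX] [LocallyOfFiniteType pX]
    {ι : Type u} (D : ι → Set X) (hD : ∀ a, IsClosed (D a)) (he : ⋂ a, D a = ∅) :
    ∃ (Xb : Scheme.{u}) (jX : X ⟶ Xb) (pXb : Xb ⟶ Spec (CommRingCat.of k)),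
      IsProper pXb ∧ IsOpenImmersion jX ∧ DenseRange jX.base ∧ jX ≫ pXb = pX ∧
        ⋂ a, closure (jX.base '' D a) = ∅ := by
  obtain ⟨Xc, jc, gc, hjc, hjq, hgc, hjg⟩ := Groth.Agent.S0384.result pX
  haveI := hjc
  haveI := hgc
  haveI : IsLocallyNoetherian Xc := LocallyOfFiniteType.isLocallyNoetherian gc
  let I : ι → Xc.IdealSheafData := fun a =>
    Scheme.IdealSheafData.vanishingIdeal ⟨closure (jc.base '' D a), isClosed_closure⟩
  have hI : ∀ a, ((I a).support : Set Xc) = closure (jc.base '' D a) := fun a => by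
    simp only [I, Scheme.IdealSheafData.coe_support_vanishingIdeal]; rfl
  let 𝓘 : Xc.IdealSheafData := ⨆ a, I a
  have hft : BlowUp.IsFiniteTypeIdeal 𝓘 := fun V => by
    haveI : IsNoetherianRing Γ(Xc, V.1) := IsLocallyNoetherian.component_noetherian V
    exact IsNoetherian.noetherian _
  have havoid : ∀ y : X, jc y ∉ 𝓘.support := by
    intro y hy
    have hy' : ∀ a, jc y ∈ (I a).support := fun a =>
      Scheme.IdealSheafData.support_antitone (le_iSup I a) hy
    refine Set.eq_empty_iff_forall_notMem.1 he y (Set.mem_iInter.2 fun a => ?_)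
    have h : jc y ∈ closure (jc.base '' D a) := hI a ▸ hy' a
    rw [← (hD a).closure_eq, jc.isOpenEmbedding.isInducing.closure_eq_preimage_closure_image]
    exact h
  have htop : 𝓘.comap jc = ⊤ := Groth.L22.Ideals.comap_eq_top 𝓘 jc havoid
  obtain ⟨X', b, hb⟩ := Groth.L13.BU.exists_isBlowUp 𝓘
  obtain ⟨t, ht, -⟩ := hb.2 X jc (by rw [htop]; exact Groth.L22.Ideals.isEffCartier_top)
  haveI : IsProper b := Groth.L13.BU.isProper_blowUp hb hft
  haveI : IsImmersion (t ≫ b) := by rw [ht]; infer_instance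
  haveI : IsImmersion t := IsImmersion.of_comp t b
  haveI : QuasiCompact (t ≫ b) := by rw [ht]; infer_instance
  haveI : QuasiCompact t := QuasiCompact.of_comp t b
  obtain ⟨hO, -, hdense⟩ := Groth.L06.ImmImage.main t (Or.inl inferInstance)
  have hs : t.toImage ≫ t.imageι = t := t.toImage_imageι
  refine ⟨t.image, t.toImage, t.imageι ≫ b ≫ gc, inferInstance, hO, hdense,
    by rw [reassoc_of% hs, reassoc_of% ht, hjg], ?_⟩
  let E := 𝓘.comap b
  have hE : BlowUp.IsEffCartierIdeal E := hb.1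
  let K : ι → X'.IdealSheafData := fun a =>
    Groth.L13.MP.colon ((I a).comap b) (Groth.L13.MP.LocFG.of_isEffCartier hE)
  have hsup : E = ⨆ a, (I a).comap b := (Scheme.IdealSheafData.map_gc b).l_iSup
  have hle : ∀ a, (I a).comap b ≤ E := fun a => hsup ▸ le_iSup (fun a => (I a).comap b) a
  have hK : ∀ a, K a * E = (I a).comap b := fun a => Groth.L13.MP.colon_mul hE (hle a)
  have hKtop : (⨆ a, K a) = ⊤ := by
    refine Groth.L13.MP.eq_of_mul_eq hE ?_
    rw [Scheme.IdealSheafData.top_mul]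
    refine le_antisymm (Groth.L13.MP.mul_le_right' _ _) ?_
    conv_lhs => rw [hsup]
    exact iSup_le fun a => by rw [← hK a]; exact Groth.L13.MP.mul_mono' (le_iSup K a) le_rfl
  have hsub : ∀ a, ∀ y ∈ closure (t.toImage.base '' D a), t.imageι y ∈ (K a).support := by
    intro a y hy
    refine closure_minimal (s := t.toImage.base '' D a) ?_
      ((K a).support.isClosed.preimage t.imageι.continuous) hy
    rintro _ ⟨d, hd, rfl⟩
    show t.imageι (t.toImage d) ∈ (K a).support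
    rw [← Scheme.Hom.comp_apply, hs]
    have hbt : b (t d) = jc d := congrArg (fun φ : X ⟶ Xc => φ d) ht
    have h1 : t d ∈ ((I a).comap b).support := by
      rw [Scheme.IdealSheafData.support_comap]
      show b (t d) ∈ ((I a).support : Set Xc)
      rw [hbt, hI a]
      exact subset_closure ⟨d, hd, rfl⟩
    rw [← hK a, Scheme.IdealSheafData.support_mul] at h1
    rcases h1 with h1 | h1
    · exact h1
    · rw [Scheme.IdealSheafData.support_comap] at h1
      exact (havoid d (hbt ▸ h1)).elim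
  refine Set.eq_empty_iff_forall_notMem.2 fun y hy => ?_
  have h : t.imageι y ∈ ((⨆ a, K a).support : Set X') := by
    rw [Scheme.IdealSheafData.support_iSup, TopologicalSpace.Closeds.coe_iInf]
    exact Set.mem_iInter.2 fun a => hsub a y (Set.mem_iInter.1 hy a)
  rw [hKtop, Scheme.IdealSheafData.support_top] at h
  exact h

end Groth.Agent.S18395
namespace Groth.Agent.S18395

open AlgebraicGeometry CategoryTheory in
/-- Let X and C be schemes separated and of finite type over a field k, let c₁, c₂ : C → X be morphisms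
over k (a correspondence C → X × X), and fix an open U ⊆ X whose preimage c₁⁻¹(U) forms a dense
subset of C, such that the restriction c₁⁻¹(U) → U of c₁ is proper, and the closed subset Z = X ∖ U
is locally invariant: every point x of Z has an open neighbourhood U' such that every y in C with
c₂(y) ∈ Z ∩ U' and c₁(y) ∈ U' satisfies c₁(y) ∈ Z. Then the correspondence has a compactification
for which the complement of U is again locally invariant: there are schemes C̄ and X̄ proper over k,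
open immersions j : C → C̄ and jX : X → X̄ over k with dense images, and morphisms c̄₁, c̄₂ : C̄ →
X̄ over k with j followed by c̄ᵢ equal to cᵢ followed by jX, such that X̄ ∖ jX(U) is locally
invariant for (c̄₁, c̄₂) in the same sense. (The source has k algebraically closed.) -/
theorem result {C X : Scheme.{u}} (k : Type u) [Field k]
    (pC : C ⟶ Spec (CommRingCat.of k)) [IsSeparated pC] [QuasiCompact pC] [LocallyOfFiniteType pC]
    (pX : X ⟶ Spec (CommRingCat.of k)) [IsSeparated pX] [QuasiCompact pX] [LocallyOfFiniteType pX]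
    (c₁ c₂ : C ⟶ X) (hc₁ : c₁ ≫ pX = pC) (hc₂ : c₂ ≫ pX = pC) (U : X.Opens)
    (hU : Dense ((c₁ ⁻¹ᵁ U : C.Opens) : Set C)) [IsProper (c₁ ∣_ U)]
    (hZ : ∀ x ∈ ((U : Set X)ᶜ), ∃ U' : Set X, IsOpen U' ∧ x ∈ U' ∧
        ∀ y, c₂.base y ∈ ((U : Set X)ᶜ) → c₂.base y ∈ U' → c₁.base y ∈ U' → c₁.base y ∈ ((U : Set X)ᶜ)) :
    ∃ (Cb Xb : Scheme.{u}) (pCb : Cb ⟶ Spec (CommRingCat.of k)) (pXb : Xb ⟶ Spec (CommRingCat.of k))
      (j : C ⟶ Cb) (jX : X ⟶ Xb) (cb₁ cb₂ : Cb ⟶ Xb),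
      IsProper pCb ∧ IsProper pXb ∧ IsOpenImmersion j ∧ IsOpenImmersion jX ∧
      DenseRange j.base ∧ DenseRange jX.base ∧ j ≫ pCb = pC ∧ jX ≫ pXb = pX ∧
      cb₁ ≫ pXb = pCb ∧ cb₂ ≫ pXb = pCb ∧ j ≫ cb₁ = c₁ ≫ jX ∧ j ≫ cb₂ = c₂ ≫ jX ∧
      ∀ x ∈ ((jX.base '' (U : Set X))ᶜ), ∃ U' : Set Xb, IsOpen U' ∧ x ∈ U' ∧
        ∀ y, cb₂.base y ∈ ((jX.base '' (U : Set X))ᶜ) → cb₂.base y ∈ U' → cb₁.base y ∈ U' → cb₁.base y ∈ ((jX.base '' (U : Set X))ᶜ) := by
  haveI : IsLocallyNoetherian X := LocallyOfFiniteType.isLocallyNoetherian pX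
  haveI : CompactSpace X := QuasiCompact.compactSpace_of_compactSpace pX
  haveI : IsNoetherian X := ⟨⟩
  haveI : TopologicalSpace.NoetherianSpace X := inferInstance
  choose W hWo hWx hWinv using hZ
  obtain ⟨F, hF⟩ := (TopologicalSpace.NoetherianSpace.isCompact ((U : Set X)ᶜ)).elim_finite_subcover
    (fun a : ↥((U : Set X)ᶜ) => W a.1 a.2) (fun a => hWo _ _)
    (fun x hx => Set.mem_iUnion.2 ⟨⟨x, hx⟩, hWx x hx⟩)
  let V : Option ↥F → Set X := fun o => o.elim (U : Set X) (fun a => W a.1.1 a.1.2)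
  have hV : ∀ o, IsOpen (V o) := by rintro (_ | a); exacts [U.2, hWo _ _]
  obtain ⟨Xb, jX, pXb, hp, hjX, hdX, hjp, hcl⟩ := exists_compactification k pX (fun o => (V o)ᶜ)
    (fun o => (hV o).isClosed_compl) (Set.eq_empty_iff_forall_notMem.2 fun x hx => by
      have h := Set.mem_iInter.1 hx
      obtain ⟨a, ha⟩ := Set.mem_iUnion.1 (hF (h none))
      obtain ⟨haF, hxa⟩ := Set.mem_iUnion.1 ha
      exact h (some ⟨a, haF⟩) hxa)
  haveI := hp
  haveI := hjX
  obtain ⟨Cb, pCb, j, cb₁, cb₂, hpC, hj, hdj, hjpC, e₁, e₂, f₁, f₂⟩ :=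
    Groth.Agent.S18388.result pC pX pX pXb pXb c₁ c₂ hc₁ hc₂ jX jX hjp hjp
  haveI := hj
  haveI := hpC
  haveI : IsProper (cb₁ ≫ pXb) := by rw [e₁]; infer_instance
  haveI : IsProper cb₁ := IsProper.of_comp cb₁ pXb
  -- points over the image of `U` come from `C`
  have key : ∀ y : Cb, cb₁ y ∈ jX.base '' (U : Set X) → ∃ w : C, j w = y ∧ c₁ w ∈ U := by
    intro y hy
    let O : Xb.Opens := ⟨jX.base '' (U : Set X), jX.isOpenEmbedding.isOpenMap _ U.2⟩
    let l : (U : Scheme.{u}) ⟶ (O : Scheme.{u}) := IsOpenImmersion.lift O.ι (U.ι ≫ jX) (by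
      rw [Scheme.Opens.range_ι]; rintro _ ⟨x, rfl⟩; exact ⟨U.ι x, x.2, rfl⟩)
    have hl : l ≫ O.ι = U.ι ≫ jX := IsOpenImmersion.lift_fac _ _ _
    haveI : IsOpenImmersion (l ≫ O.ι) := by rw [hl]; infer_instance
    haveI : IsOpenImmersion l := IsOpenImmersion.of_comp l O.ι
    haveI : Surjective l := ⟨fun o => by
      obtain ⟨x, hx, hxo⟩ := o.2
      refine ⟨⟨x, hx⟩, O.ι.isOpenEmbedding.injective ?_⟩
      rw [← Scheme.Hom.comp_apply, hl]
      exact hxo⟩
    haveI : IsIso l := (isIso_iff_isOpenImmersion_and_surjective _).2 ⟨inferInstance, inferInstance⟩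
    let g : ((c₁ ⁻¹ᵁ U : C.Opens) : Scheme.{u}) ⟶ ((cb₁ ⁻¹ᵁ O : Cb.Opens) : Scheme.{u}) :=
      IsOpenImmersion.lift (cb₁ ⁻¹ᵁ O).ι ((c₁ ⁻¹ᵁ U).ι ≫ j) (by
        rw [Scheme.Opens.range_ι]; rintro _ ⟨w, rfl⟩
        refine ⟨c₁ w.1, w.2, ?_⟩
        show (c₁ ≫ jX) w.1 = (j ≫ cb₁) w.1
        rw [f₁])
    have hg : g ≫ (cb₁ ⁻¹ᵁ O).ι = (c₁ ⁻¹ᵁ U).ι ≫ j := IsOpenImmersion.lift_fac _ _ _
    have hgc : g ≫ (cb₁ ∣_ O) = (c₁ ∣_ U) ≫ l := by
      rw [← cancel_mono O.ι, Category.assoc, morphismRestrict_ι, reassoc_of% hg, f₁, Category.assoc, hl,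
        morphismRestrict_ι_assoc]
    haveI : IsProper (g ≫ (cb₁ ∣_ O)) := by rw [hgc]; infer_instance
    haveI : IsProper g := IsProper.of_comp g (cb₁ ∣_ O)
    have hcl : IsClosed (Set.range g) := g.isClosedMap.isClosed_range
    have hd : Dense (j.base '' ((c₁ ⁻¹ᵁ U : C.Opens) : Set C)) := hdj.dense_image j.continuous hU
    have hy' : (⟨y, hy⟩ : ↥(cb₁ ⁻¹ᵁ O)) ∈ Set.range g := by
      rw [← hcl.closure_eq]; refine mem_closure_iff.2 ?_
      intro Q hQ hyQ
      obtain ⟨_, ⟨q, hq, rfl⟩, ⟨w, hw, hwq⟩⟩ := hd.inter_open_nonempty _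
        ((cb₁ ⁻¹ᵁ O).ι.isOpenEmbedding.isOpenMap _ hQ) ⟨_, ⟨y, hy⟩, hyQ, rfl⟩
      refine ⟨q, hq, ⟨w, hw⟩, (cb₁ ⁻¹ᵁ O).ι.isOpenEmbedding.injective ?_⟩
      rw [← Scheme.Hom.comp_apply, hg]
      exact hwq
    obtain ⟨w, hw⟩ := hy'
    refine ⟨(c₁ ⁻¹ᵁ U).ι w, ?_, w.2⟩
    have h := congrArg (fun φ => (φ : _ ⟶ Cb) w) hg
    simp only [Scheme.Hom.comp_apply, hw] at h
    exact h.symm
  refine ⟨Cb, Xb, pCb, pXb, j, jX, cb₁, cb₂, hpC, hp, hj, hjX, hdj, hdX, hjpC, hjp, e₁, e₂, f₁, f₂, ?_⟩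
  intro x hx
  obtain ⟨o, ho⟩ : ∃ o, x ∉ closure (jX.base '' (V o)ᶜ) := by
    by_contra h
    push Not at h
    exact Set.eq_empty_iff_forall_notMem.1 hcl x (Set.mem_iInter.2 h)
  refine ⟨(closure (jX.base '' (V o)ᶜ))ᶜ, isClosed_closure.isOpen_compl, ho, fun y hy₂ hy₂' hy₁' hy₁ => ?_⟩
  obtain ⟨w, rfl, hw⟩ := key y hy₁
  have h₁ : cb₁ (j w) = jX (c₁ w) := by rw [← Scheme.Hom.comp_apply, f₁, Scheme.Hom.comp_apply]
  have h₂ : cb₂ (j w) = jX (c₂ w) := by rw [← Scheme.Hom.comp_apply, f₂, Scheme.Hom.comp_apply]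
  have hw₁ : c₁ w ∈ V o := by
    by_contra h
    exact hy₁' (h₁ ▸ subset_closure ⟨_, h, rfl⟩)
  have hw₂ : c₂ w ∈ V o := by
    by_contra h
    exact hy₂' (h₂ ▸ subset_closure ⟨_, h, rfl⟩)
  have hw₂' : c₂ w ∉ (U : Set X) := fun h => hy₂ (h₂ ▸ ⟨_, h, rfl⟩)
  cases o with
  | none => exact hw₂' hw₂
  | some a => exact hWinv _ _ w hw₂' hw₂ hw₁ hw


end Groth.Agent.S18395
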