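import Groth.Statements.S18397
import Groth.Agent.L04.Corr.FrobTwistGen
import Groth.Agent.L04.Corr.FrobInverse
import Groth.Agent.L17.ThickBasic
import Mathlib.AlgebraicGeometry.Morphisms.QuasiFinite

set_option autoImplicit false
universe u
open LVCorr

namespace Groth.Agent.S18397

open TopologicalSpace Topology in

open AlgebraicGeometry CategoryTheory CategoryTheory.Limits in
/-- Let k₀ be a finite field with p^e elements, K an algebraic closure of k₀, C₀ a scheme locally of
finite type over k₀, C = C₀ ×_{k₀} Spec K with its projections, and Fr : C → C the n-th power of the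
geometric Frobenius (over K, compatible with the (e·n)-th power of the absolute p-Frobenius of C₀).
Let X be locally of finite type over K and c₁, c₂ : C → X morphisms over K with c₂ quasi-finite, and
let d < p^(e n) be such that for every closed point x of X, with J_x the inverse image under c₂ of
the ideal sheaf of the reduced point x, one has (√J_x)^d ⊂ J_x (d bounds the ramification of c₂).
Then the twisted correspondence (c₁ ∘ Fr, c₂) is contracting near every closed point in a
neighbourhood of its fixed points: for every closed point x of X there is an open subset W of C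
containing every point of C whose image under (c₁ ∘ Fr, c₂) : C → X ×_K X lies in the diagonal, such
that, writing L and J for the inverse image ideal sheaves on W of the ideal of x under c₁ ∘ Fr and
under c₂, one has L ⊂ J and L^k ⊂ J^(k+1) for some k. (In the source the correspondence is defined
over k₀ and the twist is written with the geometric Frobenius of X.) -/
theorem result {C C₀ X : Scheme.{u}}
    (p : ℕ) [Fact p.Prime] (k₀ : Type u) [Field k₀] [Fintype k₀] [CharP k₀ p] (e : ℕ)
    (hq : Fintype.card k₀ = p ^ e) (K : Type u) [Field K] [Algebra k₀ K] [IsAlgClosure k₀ K]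
    (f₀ : C₀ ⟶ Spec (CommRingCat.of k₀)) [LocallyOfFiniteType f₀] [FrobSch.IsCharP C₀ p]
    (πC₀ : C ⟶ C₀) (πK : C ⟶ Spec (CommRingCat.of K))
    (hC : IsPullback πC₀ πK f₀ (Spec.map (CommRingCat.ofHom (algebraMap k₀ K))))
    (n : ℕ) (Fr : C ⟶ C)
    (hFr₀ : Fr ≫ πC₀ = πC₀ ≫ End.asHom (End.of (FrobSch.frob C₀ p) ^ (e * n)))
    (hFrK : Fr ≫ πK = πK)
    (pX : X ⟶ Spec (CommRingCat.of K)) [LocallyOfFiniteType pX]
    (c₁ c₂ : C ⟶ X) (hc₁ : c₁ ≫ pX = πK) (hc₂ : c₂ ≫ pX = πK)
    [LocallyQuasiFinite c₂] [LocallyOfFiniteType c₂]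
    (hcomm : (Fr ≫ c₁) ≫ pX = c₂ ≫ pX) (d : ℕ) (hn : d < p ^ (e * n))
    (hd : ∀ (x : X) (hx : IsClosed ({x} : Set X)),
      ((Scheme.IdealSheafData.vanishingIdeal ⟨{x}, hx⟩).comap c₂).radical ^ d ≤
        (Scheme.IdealSheafData.vanishingIdeal ⟨{x}, hx⟩).comap c₂)
    (x : X) (hx : IsClosed ({x} : Set X)) :
    ∃ W : C.Opens,
      (pullback.lift (Fr ≫ c₁) c₂ hcomm).base ⁻¹' Set.range (pullback.diagonal pX).base ⊆ (W : Set C) ∧
      (Scheme.IdealSheafData.vanishingIdeal ⟨{x}, hx⟩).comap (W.ι ≫ Fr ≫ c₁) ≤
        (Scheme.IdealSheafData.vanishingIdeal ⟨{x}, hx⟩).comap (W.ι ≫ c₂) ∧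
      ∃ k : ℕ, (Scheme.IdealSheafData.vanishingIdeal ⟨{x}, hx⟩).comap (W.ι ≫ Fr ≫ c₁) ^ k ≤
        (Scheme.IdealSheafData.vanishingIdeal ⟨{x}, hx⟩).comap (W.ι ≫ c₂) ^ (k + 1) := by

    haveI : IsAlgClosed K := IsAlgClosure.isAlgClosed k₀
    have hhom := Groth.L04.FrobTwist.isHomeomorph_frobTwist p k₀ e hq K f₀ πC₀ πK hC n Fr hFr₀ hFrK
    set I := Scheme.IdealSheafData.vanishingIdeal (⟨{x}, hx⟩ : Closeds X) with hIdef
    have hIsupp : (I.support : Set X) = {x} := by
      rw [hIdef, Scheme.IdealSheafData.coe_support_vanishingIdeal]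
      rfl
    let B : Set C := {b ∈ c₂.base ⁻¹' {x} | c₁.base (Fr.base b) ≠ x}
    have hB : IsClosed B := by
      haveI := (c₂.isDiscrete_preimage_singleton x).to_subtype
      have h := (hx.preimage c₂.continuous).isClosedEmbedding_subtypeVal.isClosedMap
        (Subtype.val ⁻¹' B : Set (c₂.base ⁻¹' {x})) (isClosed_discrete _)
      rwa [Subtype.image_preimage_coe, Set.inter_eq_right.2 (fun b hb => hb.1)] at h
    have hZ : IsClosed (Fr.base '' B) := hhom.isClosedMap _ hB
    let M := Scheme.IdealSheafData.vanishingIdeal (⟨Fr.base '' B, hZ⟩ : Closeds C)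
    have hMsupp : (M.support : Set C) = Fr.base '' B := by
      rw [Scheme.IdealSheafData.coe_support_vanishingIdeal]
      rfl
    have hd' : (I.comap c₂).radical ^ d ≤ I.comap c₂ := hd _ hx
    obtain ⟨hl, hp⟩ := Groth.L04.FrobTwist.comap_le' p k₀ K f₀ πC₀ πK hC (e * n) Fr hFr₀ hFrK
      (I.comap c₁ * M) (I.comap c₂) d hd' hn (by
        intro b hb
        simp only [Scheme.IdealSheafData.support_comap, Scheme.IdealSheafData.support_mul] at hb ⊢
        change c₂.base b ∈ (I.support : Set X) at hb
        change Fr.base b ∈ ((Closeds.preimage I.support c₁.continuous) ⊔ M.support : Closeds C)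
        rw [hIsupp] at hb
        by_cases h : c₁.base (Fr.base b) = x
        · left
          show c₁.base (Fr.base b) ∈ (I.support : Set X)
          rw [hIsupp]
          exact h
        · right
          show Fr.base b ∈ (M.support : Set C)
          rw [hMsupp]
          exact ⟨b, ⟨hb, h⟩, rfl⟩)
    let W : C.Opens := ⟨Bᶜ, hB.isOpen_compl⟩
    have hM : M.comap (W.ι ≫ Fr) = ⊤ := by
      rw [← Scheme.IdealSheafData.support_eq_bot_iff, Scheme.IdealSheafData.support_comap]
      refine Closeds.ext (Set.eq_empty_iff_forall_notMem.2 fun z hz => ?_)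
      change Fr.base z.1 ∈ (M.support : Set C) at hz
      rw [hMsupp] at hz
      obtain ⟨b, hb, hbe⟩ := hz
      exact z.2 (hhom.injective hbe ▸ hb)
    refine ⟨W, ?_, ?_, d, ?_⟩
    · rintro z ⟨t, ht⟩ hzB
      have ha := congrArg (pullback.fst pX pX).base ht
      have hb := congrArg (pullback.snd pX pX).base ht
      simp only [← Scheme.Hom.comp_apply, pullback.lift_fst, pullback.lift_snd, pullback.diagonal_fst,
        pullback.diagonal_snd] at ha hb
      exact hzB.2 (ha.symm.trans (hb.trans hzB.1))
    · have h := Scheme.IdealSheafData.comap_mono (f := W.ι) hl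
      simp only [Groth.L22.Ideals.comap_mul, ← Scheme.IdealSheafData.comap_comp, hM] at h
      rw [show (⊤ : W.toScheme.IdealSheafData) = 1 from rfl, mul_one] at h
      exact h
    · have h := Scheme.IdealSheafData.comap_mono (f := W.ι) hp
      simp only [Groth.L17.Thick.comap_pow, Groth.L22.Ideals.comap_mul, ← Scheme.IdealSheafData.comap_comp, hM] at h
      rw [show (⊤ : W.toScheme.IdealSheafData) = 1 from rfl, mul_one] at h
      exact h

end Groth.Agent.S18397
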