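import Groth.Statements.S18399
import Mathlib.RingTheory.Ideal.Cotangent
import Mathlib.RingTheory.RegularLocalRing.Defs
import Mathlib.RingTheory.Nakayama
import Mathlib.LinearAlgebra.Dimension.Finite
import Mathlib.Algebra.Algebra.Hom

set_option autoImplicit false
universe u
open CAlg

namespace Groth.Agent.S18399

/-- Let k be a field and A a regular local k-algebra with residue field k (the structure map from k onto
the residue field of A is surjective), let σ be a k-algebra endomorphism of A of finite order n with
n invertible in k, and let I_σ be the ideal of A generated by the elements f - σ f. Then I_σ is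
generated by finitely many elements of the maximal ideal whose classes in the cotangent space m/m^2
are linearly independent over the residue field. (Such elements are part of a regular system of
parameters of A, hence part of a regular sequence, which is the printed conclusion; the generators
with independent classes are what the argument produces.) -/
theorem result {k : Type u} [Field k] {A : Type u} [CommRing A] [Algebra k A] [IsRegularLocalRing A] (hres : Function.Surjective ⇑(algebraMap k (IsLocalRing.ResidueField A))) (σ : A →ₐ[k] A) (n : ℕ) (hσ : ∀ a : A, (⇑σ)^[n] a = a) (hn : (n : k) ≠ 0) : ∃ (m : ℕ) (f : Fin m → ↥(IsLocalRing.maximalIdeal A)), Ideal.span (Set.range fun i : Fin m => (f i : A)) = Ideal.span (Set.range fun a : A => a - σ a) ∧ LinearIndependent (IsLocalRing.ResidueField A) (fun i : Fin m => (IsLocalRing.maximalIdeal A).toCotangent (f i)) := by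
  classical
  set m := IsLocalRing.maximalIdeal A
  set I := Ideal.span (Set.range fun a : A => a - σ a)
  let dl : A → A := fun a => a - σ a
  have hn0 : 0 < n := Nat.pos_of_ne_zero (by rintro rfl; simp at hn)
  have hiter : ∀ i : ℕ, (⇑σ)^[i] = ⇑(σ ^ i) := fun i => by
    induction i with
    | zero => rfl
    | succ i ih => rw [Function.iterate_succ', ih, pow_succ']; rfl
  have hσn : σ ^ n = 1 := AlgHom.ext fun a => by
    have := hσ a; rw [hiter] at this; exact this
  have hsub : ∀ (i : ℕ) (a : A), a - (σ ^ i) a ∈ I := by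
    intro i a
    induction i with
    | zero => simp
    | succ i ih =>
      rw [pow_succ']
      show a - σ ((σ ^ i) a) ∈ I
      rw [show a - σ ((σ ^ i) a) = (a - (σ ^ i) a) + ((σ ^ i) a - σ ((σ ^ i) a)) by ring]
      exact add_mem ih (Ideal.subset_span ⟨_, rfl⟩)
  have hloc : ∀ a : A, a ∈ m → σ a ∈ m := by
    intro a ha h
    apply ha
    have h2 := h.map (σ ^ (n - 1))
    rwa [show (σ ^ (n - 1)) (σ a) = (σ ^ n) a by rw [← Nat.sub_add_cancel hn0, pow_succ]; rfl, hσn] at h2
  have hloci : ∀ (i : ℕ) (a : A), a ∈ m → (σ ^ i) a ∈ m := by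
    intro i a ha
    induction i with
    | zero => exact ha
    | succ i ih => rw [pow_succ']; exact hloc _ ih
  -- the span of the classes
  let W : Submodule (IsLocalRing.ResidueField A) m.Cotangent :=
    Submodule.span _ (Set.range fun a : m => m.toCotangent ⟨dl a, sub_mem a.2 (hloc _ a.2)⟩)
  haveI : IsNoetherianRing A := inferInstance
  obtain ⟨t, ht, htspan, htli⟩ := exists_linearIndependent (IsLocalRing.ResidueField A)
    (Set.range fun a : m => m.toCotangent ⟨dl a, sub_mem a.2 (hloc _ a.2)⟩)
  haveI : Finite t := htli.finite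
  obtain ⟨r, ⟨e⟩⟩ := Finite.exists_equiv_fin t
  choose g hg using fun x : t => ht x.2
  let f : Fin r → m := fun i => ⟨dl (g (e.symm i)), sub_mem (g (e.symm i)).2 (hloc _ (g (e.symm i)).2)⟩
  have hf : ∀ i, m.toCotangent (f i) = (e.symm i : m.Cotangent) := fun i => hg (e.symm i)
  refine ⟨r, f, le_antisymm (Ideal.span_mono ?_) ?_, ?_⟩
  · rintro _ ⟨i, rfl⟩; exact ⟨_, rfl⟩
  · set J := Ideal.span (Set.range fun i => (f i : A))
    refine Submodule.le_of_le_smul_of_le_jacobson_bot (I := m) (IsNoetherian.noetherian I)
      (IsLocalRing.maximalIdeal_le_jacobson _) (Ideal.span_le.mpr ?_)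
    -- squares
    have hsq : ∀ x ∈ m ^ 2, ∀ i : ℕ, x - (σ ^ i) x ∈ m * I := by
      intro x hx i
      rw [pow_two] at hx
      refine Submodule.mul_induction_on hx (fun a ha b hb => ?_) (fun a b ha hb => ?_)
      · rw [map_mul, show a * b - (σ ^ i) a * (σ ^ i) b = b * (a - (σ ^ i) a) + (σ ^ i) a * (b - (σ ^ i) b) by ring]
        exact add_mem (Ideal.mul_mem_mul hb (hsub i a)) (Ideal.mul_mem_mul (hloci i a ha) (hsub i b))
      · rw [map_add, add_sub_add_comm]; exact add_mem ha hb
    rintro _ ⟨a, rfl⟩
    -- reduce to the maximal ideal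
    obtain ⟨c, hc⟩ := hres (IsLocalRing.residue A a)
    have ha : a - algebraMap k A c ∈ m := by
      rw [← IsLocalRing.residue_eq_zero_iff, map_sub, ← hc, IsScalarTower.algebraMap_apply k A (IsLocalRing.ResidueField A)]
      exact sub_self _
    have heq : a - σ a = dl (a - algebraMap k A c) := by simp [dl]
    show a - σ a ∈ J ⊔ m • I
    rw [heq]
    generalize a - algebraMap k A c = b at ha ⊢
    have hb : m.toCotangent ⟨dl b, sub_mem ha (hloc _ ha)⟩ ∈ Submodule.span (IsLocalRing.ResidueField A) t := by
      rw [htspan]; exact Submodule.subset_span ⟨⟨b, ha⟩, rfl⟩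
    rw [show t = Set.range (fun i => (e.symm i : m.Cotangent)) by
      ext x; exact ⟨fun hx => ⟨e ⟨x, hx⟩, by simp⟩, fun ⟨i, hi⟩ => hi ▸ (e.symm i).2⟩] at hb
    obtain ⟨l, hl⟩ := (Submodule.mem_span_range_iff_exists_fun _).mp hb
    choose κ hκ using fun i => hres (l i)
    let b' : A := b - ∑ i, κ i • (g (e.symm i) : A)
    have hb' : dl b' = dl b - ∑ i, κ i • dl (g (e.symm i)) := by
      simp only [dl, b', map_sub, map_sum, map_smul, smul_sub, Finset.sum_sub_distrib]; ring
    have hmem2 : dl b' ∈ m ^ 2 := by
      rw [hb']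
      have : m.toCotangent (⟨dl b, sub_mem ha (hloc _ ha)⟩ - ∑ i, algebraMap k A (κ i) • f i) = 0 := by
        rw [map_sub, map_sum, ← hl, sub_eq_zero]
        refine Finset.sum_congr rfl fun i _ => ?_
        rw [map_smul, hf, ← hκ, IsScalarTower.algebraMap_apply k A (IsLocalRing.ResidueField A), IsLocalRing.ResidueField.algebraMap_eq,
          ← IsLocalRing.ResidueField.algebraMap_eq, algebraMap_smul]
      rw [Ideal.toCotangent_eq_zero] at this
      rw [AddSubgroupClass.coe_sub, AddSubmonoidClass.coe_finset_sum] at this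
      simpa [f, Algebra.smul_def] using this
    have hsum : (n : k) • dl b' ∈ m * I := by
      have h0 : ∑ i ∈ Finset.range n, (σ ^ i) (dl b') = 0 := by
        have h1 : ∀ i, (σ ^ i) (dl b') = (σ ^ i) b' - (σ ^ (i + 1)) b' := fun i => by
          simp only [dl, map_sub, pow_succ]; rfl
        rw [Finset.sum_congr rfl fun i _ => h1 i, Finset.sum_range_sub' (fun i => (σ ^ i) b'), hσn]
        exact sub_self _
      have h2 : (n : k) • dl b' = ∑ i ∈ Finset.range n, (dl b' - (σ ^ i) (dl b')) := by
        rw [Finset.sum_sub_distrib, h0, sub_zero, Finset.sum_const, Finset.card_range, Nat.cast_smul_eq_nsmul]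
      rw [h2]
      exact Ideal.sum_mem _ fun i _ => hsq _ hmem2 i
    have hb'I : dl b' ∈ m * I := by
      have := (m * I).mul_mem_left (algebraMap k A (n : k)⁻¹) hsum
      rwa [← Algebra.smul_def, smul_smul, inv_mul_cancel₀ hn, one_smul] at this
    rw [show dl b = ∑ i, κ i • dl (g (e.symm i)) + dl b' by rw [hb']; ring]
    refine add_mem (Submodule.mem_sup_left (J.sum_mem fun i _ => ?_)) (Submodule.mem_sup_right hb'I)
    rw [Algebra.smul_def]
    exact J.mul_mem_left _ (Ideal.subset_span ⟨i, rfl⟩)
  · have := htli.comp e.symm e.symm.injective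
    rw [show (fun i => m.toCotangent (f i)) = fun i => (e.symm i : m.Cotangent) from funext hf]
    exact this

end Groth.Agent.S18399
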