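import Groth.Statements.S1840
import Groth.Agent.L13.CycDet.Main
import Mathlib.LinearAlgebra.ExteriorPower.Basis
import Mathlib.LinearAlgebra.FiniteDimensional.Lemmas

set_option autoImplicit false
universe u v
open CycDet

namespace Groth.Agent.S1840

/-- Let M be a finite-dimensional vector space over the residue field κ of a local ring R, viewed as an
R-module. There is a κ-linear isomorphism from det_κ(M) to the top exterior power of M sending the
symbol of an admissible tuple (e₁, …, e_l) to e₁ ∧ … ∧ e_l. -/
theorem result (R : Type u) [CommRing R] [IsLocalRing R] (M : Type v) [AddCommGroup M] [Module R M] [Module (IsLocalRing.ResidueField R) M] [IsScalarTower R (IsLocalRing.ResidueField R) M] [Module.Finite (IsLocalRing.ResidueField R) M] : ∃ Φ : CycDet.Det R M ≃ₗ[IsLocalRing.ResidueField R] (⋀[IsLocalRing.ResidueField R]^((Module.length R M).toNat) M), ∀ e : CycDet.Adm R M (Module.length R M).toNat, Φ (CycDet.symbol R M e) = exteriorPower.ιMulti (IsLocalRing.ResidueField R) ((Module.length R M).toNat) e.1 := by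
  classical
  set κ := IsLocalRing.ResidueField R
  set l := (Module.length R M).toNat with hldef
  have hsurj : Function.Surjective (algebraMap R κ) := IsLocalRing.residue_surjective
  have hlen : Module.length R M = Module.finrank κ M := by
    rw [Module.length_eq_of_surjective (R := κ) hsurj, Module.length_eq_finrank]
  have hl : l = Module.finrank κ M := by rw [hldef, hlen, ENat.toNat_natCast]
  have hfin : IsFiniteLength R M := by
    rw [← Module.length_ne_top_iff, hlen]
    exact ENat.natCast_ne_top _
  have hsmul : ∀ (r : R) (y : M), r • y = IsLocalRing.residue R r • y := fun r y =>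
    (algebraMap_smul κ r y).symm
  have hadm : ∀ v : Fin l → M, CycDet.IsAdmissible R M v := fun v i r hr => by
    rw [hsmul, (IsLocalRing.residue_eq_zero_iff r).2 hr, zero_smul]
    exact zero_mem _
  have hdep : ∀ (v : Fin l → M) (a : Fin l), v a ∈ CycDet.spanBefore R M v a →
      exteriorPower.ιMulti κ l v = 0 := by
    intro v a ha
    refine AlternatingMap.map_linearDependent _ v fun hli => hli.notMem_span_image
      (s := {j : Fin l | (j : ℕ) < a}) (fun h => (Nat.lt_irrefl (a : ℕ)) h) ?_
    exact Submodule.span_le_restrictScalars R κ _ ha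
  let D : CycDet.Adm R M l → ⋀[κ]^l M := fun e => exteriorPower.ιMulti κ l e.1
  have hD : Groth.Agent.L13.CycDet.Respects D := by
    refine ⟨fun e he => ?_, fun e e' a c hj ha => ?_, fun e e' a b hab _ he' => ?_⟩
    · obtain ⟨a, ha⟩ := not_forall_not.1 he
      exact hdep _ a ha
    · have h0 : exteriorPower.ιMulti κ l
          (Function.update e'.1 a (e.1 a - (c : R) • e'.1 a)) = 0 := by
        apply hdep _ a
        rw [Function.update_self, Groth.Agent.L13.CycDet.sb_congr
          (Function.update e'.1 a (e.1 a - (c : R) • e'.1 a)) e.1 a fun j hjlt => by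
            rw [Function.update_of_ne (fun h => by rw [h] at hjlt; exact lt_irrefl _ hjlt),
              hj j (fun h => by rw [h] at hjlt; exact lt_irrefl _ hjlt)]]
        exact ha
      have he : e.1 = Function.update e'.1 a
          ((e.1 a - (c : R) • e'.1 a) + IsLocalRing.residue R (c : R) • e'.1 a) := by
        funext j
        rcases eq_or_ne j a with rfl | hne
        · rw [Function.update_self, ← hsmul, sub_add_cancel]
        · rw [Function.update_of_ne hne, hj j hne]
      show exteriorPower.ιMulti κ l e.1 = _ • exteriorPower.ιMulti κ l e'.1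
      conv_lhs => rw [he]
      rw [AlternatingMap.map_update_add, h0, zero_add, AlternatingMap.map_update_smul,
        Function.update_eq_self]
    · show exteriorPower.ιMulti κ l e.1 + exteriorPower.ιMulti κ l e'.1 = 0
      rw [he', AlternatingMap.map_swap _ _ (fun h => by rw [h] at hab; omega), add_neg_cancel]
  obtain ⟨Φ, hΦ⟩ := Groth.Agent.L13.CycDet.exists_lift hD
  have hΦsurj : Function.Surjective Φ := by
    rw [← LinearMap.range_eq_top, eq_top_iff, ← exteriorPower.ιMulti_span, Submodule.span_le]
    rintro _ ⟨v, rfl⟩
    exact ⟨Groth.Agent.L13.CycDet.cls ⟨v, hadm v⟩, hΦ _⟩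
  have h1 : Module.finrank κ (CycDet.Det R M) = 1 := Groth.Agent.L13.CycDet.finrank_det hfin
  have h2 : Module.finrank κ (⋀[κ]^l M) = 1 := by
    rw [exteriorPower.finrank_eq, hl, Nat.choose_self]
  have : FiniteDimensional κ (CycDet.Det R M) := Module.finite_of_finrank_eq_succ h1
  have hΦinj : Function.Injective Φ :=
    (LinearMap.injective_iff_surjective_of_finrank_eq_finrank (h1.trans h2.symm)).2 hΦsurj
  exact ⟨LinearEquiv.ofBijective Φ ⟨hΦinj, hΦsurj⟩, hΦ⟩

end Groth.Agent.S1840
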