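import Groth.Statements.S18402
import Groth.Agent.L23.QFDescent
import Mathlib.AlgebraicGeometry.Morphisms.Flat
import Mathlib.AlgebraicGeometry.Geometrically.Irreducible
import Mathlib.Topology.Sober

set_option autoImplicit false
universe u
open Pi1

set_option backward.isDefEq.respectTransparency.types false
set_option linter.style.haveILetI false

namespace Groth.Agent.S18402

open AlgebraicGeometry CategoryTheory CategoryTheory.Limits in
/-- Let X be an irreducible scheme and π : W ⟶ X a flat morphism whose fibre over every field-valued
point of X is irreducible (so every fibre is geometrically irreducible and π is surjective). Then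
for every finite étale cover Z of X with Z connected, the base change of Z along π is connected.
Ranging over all finite étale covers of X, this says that the monodromy group of each cover (the
image of the fundamental group in the permutations of a geometric fibre) is unchanged by pullback
along π. The published statement asserts that equality of monodromy groups, for generically finite,
generically étale covers between irreducible algebraic stacks. -/
theorem result {X W : Scheme.{u}}
    [IrreducibleSpace X] (π : W ⟶ X) [Flat π] [GeometricallyIrreducible π]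
    (Z : FEt.Cat X) [ConnectedSpace Z.left] :
    ConnectedSpace ↥(pullback Z.hom π) := by
  let q : pullback Z.hom π ⟶ Z.left := pullback.fst Z.hom π
  haveI : IsFinite Z.hom := Z.prop.1
  haveI : Etale Z.hom := Z.prop.2
  haveI : Surjective q := inferInstance
  haveI : Nonempty ↥Z.left := inferInstance
  obtain ⟨z₀⟩ := ‹Nonempty ↥Z.left›
  obtain ⟨p₀, -⟩ := q.surjective z₀
  haveI : Nonempty ↥(pullback Z.hom π) := ⟨p₀⟩
  haveI : PreconnectedSpace ↥(pullback Z.hom π) := by
    rw [preconnectedSpace_iff_clopen]
    intro s hs
    by_contra hne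
    push Not at hne
    have hfib : ∀ {x y}, q x = q y → x ∈ s → y ∈ s := fun {x y} he hx => by
      have hc : _root_.IsPreconnected (Set.range (q.fiberι (q x))) :=
        isPreconnected_range (q.fiberι (q x)).continuous
      have := hc.subset_isClopen hs ⟨x, by rw [q.range_fiberι]; rfl, hx⟩
      exact this (by rw [q.range_fiberι]; exact he.symm)
    have hgen : GeneralizingMap q := Flat.generalizingMap q
    -- images are stable under generalization
    have hA : ∀ {z w}, w ⤳ z → z ∈ q '' s → w ∈ q '' s := fun {z w} hw ⟨x, hx, he⟩ => by
      obtain ⟨x', hx', he'⟩ := hgen (show w ⤳ q x by rw [he]; exact hw)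
      exact ⟨x', hx'.mem_open hs.isOpen hx, he'⟩
    have hA' : ∀ {z w}, w ⤳ z → w ∈ q '' s → z ∈ q '' s := fun {z w} hw hmem => by
      by_contra hz
      obtain ⟨x, hx⟩ := q.surjective z
      have hxs : x ∈ sᶜ := fun h => hz ⟨x, h, hx⟩
      obtain ⟨x', hx', he'⟩ := hgen (show w ⤳ q x by rw [hx]; exact hw)
      obtain ⟨y, hy, hye⟩ := hmem
      exact hx'.mem_open hs.compl.isOpen hxs (hfib (hye.trans he'.symm) hy)
    -- finitely many maximal points
    let M : Set ↥Z.left := Z.hom ⁻¹' {genericPoint ↥X}
    have hM : M.Finite := Z.hom.finite_preimage_singleton _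
    have hcov : ∀ z, ∃ m ∈ M, m ⤳ z := fun z => by
      obtain ⟨m, hm, he⟩ := (Flat.generalizingMap Z.hom)
        (show genericPoint ↥X ⤳ Z.hom z from genericPoint_specializes _)
      exact ⟨m, he, hm⟩
    have hclosed : ∀ A : Set ↥Z.left, (∀ {z w}, w ⤳ z → w ∈ A → z ∈ A) → (∀ {z w}, w ⤳ z → z ∈ A → w ∈ A) →
        IsClosed A := fun A h1 h2 => by
      have : A = ⋃ m ∈ M ∩ A, closure {m} := by
        refine Set.Subset.antisymm (fun z hz => ?_) (Set.iUnion₂_subset fun m hm z hz => ?_)
        · obtain ⟨m, hm, hmz⟩ := hcov z
          exact Set.mem_iUnion₂.2 ⟨m, ⟨hm, h2 hmz hz⟩, hmz.mem_closure⟩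
        · exact h1 (specializes_iff_mem_closure.2 hz) hm.2
      rw [this]
      exact (hM.inter_of_left A).isClosed_biUnion fun _ _ => isClosed_closure
    have hAcl : IsClopen (q '' s) :=
      ⟨hclosed _ hA' hA, isClosed_compl_iff.1 (hclosed _ (fun hw hn hz => hn (hA hw hz))
        (fun hw hn hz => hn (hA' hw hz)))⟩
    rcases isClopen_iff.1 hAcl with h | h
    · exact hne.1.ne_empty (Set.image_eq_empty.1 h)
    · refine hne.2 (Set.eq_univ_of_forall fun y => ?_)
      obtain ⟨x, hx, hxy⟩ := h.symm ▸ Set.mem_univ (q y)
      exact hfib hxy hx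
  exact { toNonempty := ‹_› }

end Groth.Agent.S18402
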