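import Groth.Statements.S18405
import Groth.Agent.L14.Cubic.Aut

set_option autoImplicit false
universe u
open Cubic

namespace Groth.Agent.S18405

open MvPolynomial in
/-- Let f be a nonzero homogeneous cubic in three variables over ℂ whose plane curve is smooth (at every
nonzero zero of f some partial derivative is nonzero), and let A be an invertible matrix whose
linear substitution X_i ↦ Σ_j A_ij X_j multiplies f by a constant, so that v ↦ A·v is a projective
automorphism of the curve. If A·v is proportional to v for every flex v of the curve (every nonzero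
zero v of f through which some line meets the curve with multiplicity three: there is w linearly
independent from v with f(v + t·w) = t³·f(w) for all t), then A is a scalar matrix: the projective
automorphisms of a smooth plane cubic act faithfully on its flexes. -/
theorem result (f : MvPolynomial (Fin 3) ℂ) (hf : f.IsHomogeneous 3)
    (hf0 : f ≠ 0) (hsm : ∀ v : Fin 3 → ℂ, v ≠ 0 → eval v f = 0 → ∃ i : Fin 3, eval v (pderiv i f) ≠ 0)
    (A : Matrix (Fin 3) (Fin 3) ℂ) (hA : IsUnit A.det)
    (hAf : ∃ c : ℂ, aeval (fun i : Fin 3 => ∑ j : Fin 3, C (A i j) * X j) f = C c * f)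
    (hfix : ∀ v : Fin 3 → ℂ, v ≠ 0 → eval v f = 0 →
      (∃ w : Fin 3 → ℂ, LinearIndependent ℂ ![v, w] ∧ ∀ t : ℂ, eval (v + t • w) f = t ^ 3 * eval w f) →
      ∃ d : ℂ, A.mulVec v = d • v) :
    ∃ c : ℂ, A = c • (1 : Matrix (Fin 3) (Fin 3) ℂ) := by
  refine Groth.L14.Cubic.fix_flexes hf hsm A fun v hv hF => hfix v hv ?_ ((Groth.L14.Cubic.flex_iff hf v).mpr hF)
  obtain ⟨w, -, h0, -⟩ := hF
  rwa [Groth.L14.Cubic.eval_eq_tri hf]

end Groth.Agent.S18405
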