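import Groth.Statements.S18408
import Groth.Agent.L14.Cubic.Surface

set_option autoImplicit false
universe u
open Cubic

namespace Groth.Agent.S18408

open MvPolynomial in
/-- Let f be a nonzero homogeneous cubic in four variables over ℂ whose surface S = V_+(f) ⊂ P³ is
smooth (at every nonzero zero of f some partial derivative is nonzero); a line on S is a
2-dimensional subspace of ℂ⁴ on which f vanishes, and an Eckardt point of S is a nonzero vector
lying on three distinct lines on S. Let A be an involutory matrix (A² = 1) whose +1-eigenspace is a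
hyperplane and with A·p = −p, such that the substitution X_i ↦ Σ_j A_ij X_j multiplies f by a
constant — that is, a projective involution preserving S whose fixed locus is the disjoint union of
a plane and the point of p, where p is a nonzero vector on S. Then p is an Eckardt point of S. -/
theorem result (f : MvPolynomial (Fin 4) ℂ) (hf : f.IsHomogeneous 3)
    (hf0 : f ≠ 0) (hsm : ∀ v : Fin 4 → ℂ, v ≠ 0 → eval v f = 0 → ∃ i : Fin 4, eval v (pderiv i f) ≠ 0)
    (A : Matrix (Fin 4) (Fin 4) ℂ) (p : Fin 4 → ℂ) (hp : p ≠ 0) (hfp : eval p f = 0)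
    (hA : A * A = 1 ∧ Module.finrank ℂ ↥(LinearMap.ker (Matrix.toLin' A - LinearMap.id)) = 3 ∧
        A.mulVec p = -p ∧ ∃ c : ℂ, aeval (fun i : Fin 4 => ∑ j : Fin 4, C (A i j) * X j) f = C c * f) :
    (∃ U : Fin 3 → Submodule ℂ (Fin 4 → ℂ), Function.Injective U ∧
        ∀ i : Fin 3, Module.finrank ℂ ↥(U i) = 2 ∧ p ∈ U i ∧ ∀ u ∈ U i, eval u f = 0) := by
  exact Groth.L14.Cubic.eck_of_inv hf hsm hp hA

end Groth.Agent.S18408
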