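import Groth.Statements.S18412
import Groth.Agent.L14.Cubic.Aut

set_option autoImplicit false
universe u
open Cubic

namespace Groth.Agent.S18412

open MvPolynomial in
/-- For all k ∈ ℂ outside a finite set, the Hesse cubic h_k = X₀³ + X₁³ + X₂³ − 3k·X₀X₁X₂ has exactly 18
projective automorphisms; spelled without quotients as: the matrices A of determinant 1 whose
substitution X_i ↦ Σ_j A_ij X_j carries h_k to a constant multiple of h_k are exactly 54 in number
(every projective class has three lifts of determinant one, so 54 = 3 · 18). As every smooth plane
cubic over ℂ is projectively equivalent to some h_k, this is the statement that the general smooth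
plane cubic has a projective automorphism group of order 18. -/
theorem result :
    ∃ T : Finset ℂ, ∀ k : ℂ, k ∉ T →
      Nat.card {A : Matrix (Fin 3) (Fin 3) ℂ // A.det = 1 ∧
        ∃ c : ℂ, aeval (fun i : Fin 3 => ∑ j : Fin 3, C (A i j) * X j) (HesseCubic.form k) =
          C c * HesseCubic.form k} = 54 := by
  exact Groth.L14.Cubic.card_cofinite

end Groth.Agent.S18412
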