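import Groth.Statements.S18413
import Groth.Agent.L03.SurfAdj.Tools
import Groth.Agent.L03.Euler.Dim
import Groth.Agent.L03.ConnH0
import Groth.Agent.L17.BC.GenApply
import Groth.Agent.L12.CurveFam.R1
import Groth.Agent.L16.Connected.Fibre
import Groth.Agent.L21.Disc.Hurwitz
import Groth.Agent.L26.Elliptic.DegreeOne

set_option autoImplicit false
set_option backward.isDefEq.respectTransparency false
set_option linter.style.haveILetI false
universe u
open CategoryTheory AlgebraicGeometry
open Curves

namespace Groth.Agent.S18413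

/-- Let k be an algebraically closed field, X a k-scheme that is smooth of relative dimension 2 and
proper over k (a smooth proper surface), S an irreducible k-scheme smooth of relative dimension 1 (a
smooth curve), and π : X → S a proper flat k-morphism with O_S → π_* O_X bijective on every open
subset of S. For a closed point s of S whose scheme-theoretic fibre X_s is reduced: (a) H^0(X_s,
O_{X_s}) is one-dimensional over κ(s), and (b) the arithmetic genus dim H^1(X_s, O_{X_s}) equals
that of the generic fibre X_η over κ(η). -/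
theorem result
    {k : Type u} [Field k] [IsAlgClosed k] {X S : Scheme.{u}}
    (π : X ⟶ S) (g : S ⟶ Spec (CommRingCat.of k))
    [SmoothOfRelativeDimension 1 g] [IrreducibleSpace S]
    [SmoothOfRelativeDimension 2 (π ≫ g)] [IsProper (π ≫ g)]
    [IsProper π] [Flat π]
    (hO : ∀ U : S.Opens, Function.Bijective (π.app U))
    (s : S) (hs : IsClosed ({s} : Set S)) [AlgebraicGeometry.IsReduced (π.fiber s)] :
    PerfAux.betti π (Coh.structureModule X) s 0 = 1 ∧
      PerfAux.betti π (Coh.structureModule X) s 1 =
        PerfAux.betti π (Coh.structureModule X) (genericPoint S) 1 := by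
  haveI : Smooth g := SmoothOfRelativeDimension.smooth 1 g
  haveI : Smooth (π ≫ g) := SmoothOfRelativeDimension.smooth 2 (π ≫ g)
  letI : S.Over (Spec (CommRingCat.of k)) := ⟨g⟩
  letI : X.Over (Spec (CommRingCat.of k)) := ⟨π ≫ g⟩
  haveI : IsProper (X ↘ Spec (CommRingCat.of k)) := inferInstanceAs (IsProper (π ≫ g))
  haveI : Smooth (X ↘ Spec (CommRingCat.of k)) := inferInstanceAs (Smooth (π ≫ g))
  haveI : Smooth (S ↘ Spec (CommRingCat.of k)) := ‹Smooth g›
  haveI : IsLocallyNoetherian S := LocallyOfFiniteType.isLocallyNoetherian g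
  haveI := Groth.L21.RR.isNoetherian_of_proper (X := X) k
  haveI : LocallyOfFinitePresentation π := inferInstance
  haveI : IsReduced S := by
    haveI : ∀ x : S, _root_.IsReduced (S.presheaf.stalk x) := fun x => by
      haveI := Groth.L21.Smooth.isDomain_stalk (S ↘ Spec (CommRingCat.of k)) x
      infer_instance
    exact isReduced_of_isReduced_stalk S
  haveI : IsIntegral S := isIntegral_of_irreducibleSpace_of_isReduced S
  haveI hgc : GeometricallyConnected π :=
    Groth.L16.Connected.geometricallyConnected π fun U => (ConcreteCategory.isIso_iff_bijective _).2 (hO U)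
  have hfc : ∀ t : S, ConnectedSpace ↥(π.fiber t) := fun t => by
    haveI : GeometricallyConnected (π.fiberToSpecResidueField t) :=
      inferInstanceAs (GeometricallyConnected (Limits.pullback.snd π _))
    haveI : Subsingleton ↥(Spec (S.residueField t)) := inferInstanceAs (Subsingleton (PrimeSpectrum (S.residueField t)))
    exact GeometricallyConnected.connectedSpace_of_subsingleton (π.fiberToSpecResidueField t)
  have hsurj : Function.Surjective π.base := fun t => by
    haveI := hfc t
    obtain ⟨z⟩ : Nonempty ↥(π.fiber t) := inferInstance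
    exact ⟨π.fiberι t z, (π.range_fiberι t).subset ⟨z, rfl⟩⟩
  haveI : ConnectedSpace X := by
    have hcon : ∀ t : S, _root_.IsConnected (π.base ⁻¹' {t}) := fun t => by
      haveI := hfc t
      have hr : Set.range (π.fiberι t) = π.base ⁻¹' {t} := π.range_fiberι t
      rw [← hr]
      exact isConnected_range (π.fiberι t).continuous
    have h := (π.isClosedMap.isQuotientMap π.continuous hsurj).isCoinducing.isConnected_preimage_of_isClosed
      hcon isClosed_univ (IrreducibleSpace.isIrreducible_univ S).isConnected
    exact connectedSpace_iff_univ.2 (by simpa using h)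
  haveI : IsIntegral X := Groth.L21.NormalTotal.isIntegral_of_connected fun x =>
    Groth.L21.Smooth.isDomain_stalk (X ↘ Spec (CommRingCat.of k)) x
  haveI : Coh.IsQCoh (Coh.structureModule X) :=
    Groth.L21.Extend.isQCoh_of_isInvertible (Groth.L18.Ample.isInvertible_structureModule X)
  have hfp : CohB1.IsFP (Coh.structureModule X) := Groth.L18.LFP.isFP_of_isFinLocFree _
    (Groth.L16.Existence.isFinLocFree_of_isInvertible (Groth.L18.Ample.isInvertible_structureModule X))
  have hfl : FlatMod.IsFlatOver π (Coh.structureModule X) := Groth.L29.DC.RelTor.isFlatOver_of_isFlat π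
    (Groth.L21.RR.isFlat_of_isInvertible (Groth.L18.Ample.isInvertible_structureModule X))
  -- the fibre over `s` is a curve
  have hdimX : topologicalKrullDim X = (2 : ℕ) := Groth.L03.SurfAdj.dim_of_relDim (k := k) (π ≫ g) 2
  have hproper : Set.range (π.fiberι s) ≠ Set.univ := by
    intro h
    have hall : ∀ x : X, π.base x = s := fun x => (π.range_fiberι s).subset (h ▸ Set.mem_univ x)
    haveI : Subsingleton S := ⟨fun a b => by
      obtain ⟨a', rfl⟩ := hsurj a
      obtain ⟨b', rfl⟩ := hsurj b
      rw [hall, hall]⟩
    haveI : DiscreteTopology S := Subsingleton.discreteTopology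
    have h0 := topologicalKrullDim_zero_of_discreteTopology S
    rw [Groth.L03.SurfAdj.dim_of_relDim (k := k) g 1] at h0
    exact absurd (show (1 : ℕ) ≤ 0 by exact_mod_cast h0) (by norm_num)
  haveI : IsClosedImmersion (S.fromSpecResidueField s) := isClosed_singleton_iff_isClosedImmersion.mp hs
  haveI : IsClosedImmersion (π.fiberι s) :=
    inferInstanceAs (IsClosedImmersion (Limits.pullback.fst π (S.fromSpecResidueField s)))
  have hdF : topologicalKrullDim ↥(π.fiber s) ≤ ((1 : ℕ) : WithBot ℕ∞) := by
    have h1 := Groth.L03.Euler.topologicalKrullDim_add_one_le (π.fiberι s).isClosedEmbedding.isClosed_range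
      (IrreducibleSpace.isIrreducible_univ X) (Set.subset_univ _) hproper
    rw [Homeomorph.Set.univ X |>.isHomeomorph.topologicalKrullDim_eq, hdimX] at h1
    have h2 : topologicalKrullDim ↥(π.fiber s) ≤ topologicalKrullDim ↥(Set.range (π.fiberι s)) :=
      ((π.fiberι s).isEmbedding.toHomeomorph).isHomeomorph.topologicalKrullDim_eq.le
    refine h2.trans ?_
    generalize topologicalKrullDim ↥(Set.range (π.fiberι s)) = e at h1
    induction e with
    | bot => exact bot_le
    | coe e =>
      induction e with
      | top => exact absurd (WithBot.coe_le_coe.1 (show ((⊤ : ℕ∞) : WithBot ℕ∞) ≤ ((2 : ℕ∞) : WithBot ℕ∞) from h1)) (by simp)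
      | coe m =>
        have h3 : ((m + 1 : ℕ) : WithBot ℕ∞) ≤ ((2 : ℕ) : WithBot ℕ∞) := by push_cast; exact h1
        have h4 : m + 1 ≤ 2 := by exact_mod_cast h3
        exact_mod_cast (show m ≤ 1 by omega)
  have hvan : ∀ i, 1 < i → CohIII.fiberRank π (Coh.structureModule X) i s = 0 := fun i hi =>
    haveI := Groth.L12.CurveFam.subsingleton_fiberH_of_dim π s hdF (Coh.structureModule X) hi
    Module.finrank_zero_of_subsingleton
  -- constants on the fibre over `s`
  letI : Algebra k (S.residueField s) := Curv2.resAlgebra k S s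
  haveI : IsAlgClosed (S.residueField s) := by
    haveI : Module.Finite k (S.residueField s) := Groth.L21.Disc.finite_residueField_of_isClosed k hs
    exact IsAlgClosed.of_ringEquiv k _ (RingEquiv.ofBijective (algebraMap k (S.residueField s))
      IsAlgClosed.algebraMap_bijective_of_isIntegral)
  have h0s : CohIII.fiberRank π (Coh.structureModule X) 0 s = 1 := by
    haveI := hfc s
    letI : (π.fiber s).Over (Spec (CommRingCat.of (S.residueField s))) := ⟨π.fiberToSpecResidueField s⟩
    haveI : IsProper (π.fiber s ↘ Spec (CommRingCat.of (S.residueField s))) :=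
      inferInstanceAs (IsProper (Limits.pullback.snd π _))
    show Groth.L21.RR.h (S.residueField s) 0 ((Scheme.Modules.pullback (π.fiberι s)).obj (Coh.structureModule X)) = 1
    rw [Groth.L21.RR.h_congr (S.residueField s) (Groth.L29.LocFree.pullbackUnitIso (π.fiberι s)) 0]
    exact Groth.L03.ConnH0.h0_structure_eq_one (S.residueField s)
  refine ⟨h0s, ?_⟩
  -- the generic fibre
  let η : S := genericPoint S
  have hη : ∀ {U : Set S}, IsOpen U → s ∈ U → η ∈ U := fun hU hs' =>
    ((genericPoint_spec S).specializes trivial).mem_open hU hs'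
  obtain ⟨N, hN⟩ := Groth.L17.BC.exists_eulerSum_eventually_eq π (Coh.structureModule X) hfp hfl s
  obtain ⟨U, hU, hUo, hsU⟩ := eventually_nhds_iff.1 hN
  obtain ⟨hzη, hsum⟩ := hU η (hη hUo hsU)
  obtain ⟨hzs, -⟩ := hU s hsU
  have h0η : CohIII.fiberRank π (Coh.structureModule X) 0 η = 1 := by
    have hle : CohIII.fiberRank π (Coh.structureModule X) 0 η < 2 :=
      hη (Groth.L17.BC.isOpen_fiberRank_lt π (Coh.structureModule X) hfp hfl 0 2)
        (show CohIII.fiberRank π (Coh.structureModule X) 0 s < 2 by rw [h0s]; norm_num)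
    haveI := hfc η
    letI : (π.fiber η).Over (Spec (CommRingCat.of (S.residueField η))) := ⟨π.fiberToSpecResidueField η⟩
    have hpos : 0 < CohIII.fiberRank π (Coh.structureModule X) 0 η := by
      haveI := Groth.L17.BC.finite_fiberH π (Coh.structureModule X) hfp hfl η 0
      haveI : Nonempty ((⊤ : (π.fiber η).Opens) : Scheme) := ⟨⟨Classical.arbitrary _, trivial⟩⟩
      haveI : Nontrivial (Γ(Coh.structureModule (π.fiber η), ⊤) : Type u) :=
        inferInstanceAs (Nontrivial Γ(π.fiber η, ⊤))
      haveI : Nontrivial (Coh.HH (π.fiber η) (Coh.structureModule (π.fiber η)) 0) :=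
        (Groth.L21.RR.e0 (Coh.structureModule (π.fiber η))).toEquiv.nontrivial
      haveI : Nontrivial (CohIII.fiberH π (Coh.structureModule X) η 0) :=
        (Groth.L17.BC.HHequiv (Groth.L29.LocFree.pullbackUnitIso (π.fiberι η)) 0).toAddEquiv.toEquiv.nontrivial
      exact Module.finrank_pos
    omega
  have hi : ∀ i, 1 < i → CohIII.fiberRank π (Coh.structureModule X) i η = 0 := fun i hi =>
    Nat.lt_one_iff.1 (hη (Groth.L17.BC.isOpen_fiberRank_lt π (Coh.structureModule X) hfp hfl i 1)
      (show CohIII.fiberRank π (Coh.structureModule X) i s < 1 by rw [hvan i hi]; norm_num))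
  have hsum2 : ∀ z, (∀ i, N ≤ i → CohIII.fiberRank π (Coh.structureModule X) i z = 0) →
      (∀ i, 1 < i → CohIII.fiberRank π (Coh.structureModule X) i z = 0) →
      ∑ i ∈ Finset.range N, (-1 : ℤ) ^ i * (CohIII.fiberRank π (Coh.structureModule X) i z : ℤ) =
        CohIII.fiberRank π (Coh.structureModule X) 0 z - CohIII.fiberRank π (Coh.structureModule X) 1 z := by
    intro z hz1 hz2
    have e1 : ∑ i ∈ Finset.range N, (-1 : ℤ) ^ i * (CohIII.fiberRank π (Coh.structureModule X) i z : ℤ) =
        ∑ i ∈ Finset.range (N + 2), (-1 : ℤ) ^ i * (CohIII.fiberRank π (Coh.structureModule X) i z : ℤ) := by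
      rw [Finset.sum_range_succ, Finset.sum_range_succ, hz1 N le_rfl, hz1 (N + 1) (Nat.le_succ N)]
      simp
    have e2 : ∑ i ∈ Finset.range 2, (-1 : ℤ) ^ i * (CohIII.fiberRank π (Coh.structureModule X) i z : ℤ) =
        ∑ i ∈ Finset.range (N + 2), (-1 : ℤ) ^ i * (CohIII.fiberRank π (Coh.structureModule X) i z : ℤ) := by
      refine Finset.sum_subset (Finset.range_mono (by omega)) fun i _ hi' => ?_
      rw [hz2 i (by simp only [Finset.mem_range, not_lt] at hi'; omega)]
      simp
    rw [e1, ← e2, Finset.sum_range_succ, Finset.sum_range_one]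
    ring
  rw [hsum2 η hzη hi, hsum2 s hzs hvan, h0η, h0s] at hsum
  show CohIII.fiberRank π (Coh.structureModule X) 1 s = CohIII.fiberRank π (Coh.structureModule X) 1 η
  omega

end Groth.Agent.S18413
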