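import Groth.Statements.S18414
import Groth.Agent.L28.EtCartan.Frobenius

set_option backward.isDefEq.respectTransparency.types false

set_option autoImplicit false
universe u
open CategoryTheory AlgebraicGeometry
open EtCoh

namespace Groth.Agent.S18414

/-- In the case of a proper scheme — let k be a separably closed field of characteristic p > 0 and X a
scheme proper over k, so that p = 0 in Γ(X, O_X). Then for every q ≥ 0 the endomorphism of the étale
cohomology group H^q(X_et, G_a) induced by the Artin–Schreier endomorphism x ↦ x^p − x of G_a is
surjective; by the long exact sequence of 0 → Z/p → G_a → G_a → 0 this says that 0 → H^q(X_et, Z/p)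
→ H^q(X_et, G_a) → H^q(X_et, G_a) → 0 is exact for every q. (The published statement writes the
middle terms as the Zariski cohomology H^q(X, O_X), canonically isomorphic to H^q(X_et, G_a), and
also records the vanishing of H^q(X_et, Z/p) for q > dim X, and for q ≥ 2 when X is affine.) -/
theorem result
    {k : Type u} [Field k] [IsSepClosed k] (p : ℕ) [hp : Fact p.Prime] [CharP k p]
    {X : Scheme.{u}} (f : X ⟶ Spec (CommRingCat.of k)) [IsProper f]
    (h0 : (p : Γ(X, ⊤)) = 0) (q : ℕ) :
    Function.Surjective
      ((EtCoh.HF X q).map (W4c5etcohweilstudent.artinSchreierEndo X p hp.out h0)) := by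
  letI : X.Over (Spec (CommRingCat.of k)) := ⟨f⟩
  haveI : IsProper (X ↘ Spec (CommRingCat.of k)) := ‹IsProper f›
  exact Groth.L28.EtCartan.surjective_HF_as (k := k) p hp.out h0 q

end Groth.Agent.S18414
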