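import Groth.Statements.S18417
import Groth.Agent.S5802
import Mathlib.RingTheory.Smooth.Basic
import Mathlib.RingTheory.MvPolynomial.Homogeneous
import Mathlib.RingTheory.Ideal.Quotient.Operations
import Mathlib.RingTheory.MvPolynomial.Ideal

set_option autoImplicit false
universe u v
open CAlg

namespace Groth.Agent.S18417

/-- Let R → A be a ring homomorphism and x_1, …, x_d a weakly regular sequence in A generating an ideal
J such that B = A/J is formally smooth over R. Then for every N ≥ 1 there is an isomorphism of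
R-algebras e : A/J^N ≅ B[T_1, …, T_d]/(T_1, …, T_d)^N which sends the class of x_i to the class of
T_i and which is compatible with the projections to B: for every a ∈ A, e(a mod J^N) is congruent to
the constant a mod J modulo the ideal generated by the variables. (The source also assumes R → A
smooth, which its argument does not use, and a regular sequence; weak regularity is what the
argument uses.) -/
theorem result
    (R : Type u) (A : Type v) [CommRing R] [CommRing A] [Algebra R A] (d : ℕ) (x : Fin d → A)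
    (hreg : RingTheory.Sequence.IsWeaklyRegular A (List.ofFn x))
    [Algebra.FormallySmooth R (A ⧸ Ideal.span (Set.range x))] (N : ℕ) (hN : 1 ≤ N) :
    ∃ e : (A ⧸ Ideal.span (Set.range x) ^ N) ≃ₐ[R]
        (MvPolynomial (Fin d) (A ⧸ Ideal.span (Set.range x)) ⧸
          Ideal.span (Set.range (MvPolynomial.X : Fin d → MvPolynomial (Fin d) (A ⧸ Ideal.span (Set.range x)))) ^ N),
      (∀ i : Fin d, e (Ideal.Quotient.mk _ (x i)) = Ideal.Quotient.mk _ (MvPolynomial.X i)) ∧
      ∀ a : A, e (Ideal.Quotient.mk _ a) - Ideal.Quotient.mk _ (MvPolynomial.C (Ideal.Quotient.mk _ a)) ∈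
        (Ideal.span (Set.range (MvPolynomial.X : Fin d → MvPolynomial (Fin d) (A ⧸ Ideal.span (Set.range x))))).map
          (Ideal.Quotient.mk _) := by
  classical
  have hq : CAlgX.IsQuasiRegular x := Groth.Agent.S5802.result A d x hreg
  let J := Ideal.span (Set.range x)
  let mN := Ideal.Quotient.mk (J ^ N)
  have hJN : J ^ N ≤ J := Ideal.pow_le_self (by omega)
  let qN : (A ⧸ J ^ N) →ₐ[R] A ⧸ J := Ideal.Quotient.factorₐ R hJN
  have hqN : Function.Surjective qN := Ideal.Quotient.factor_surjective hJN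
  have hnil : IsNilpotent (RingHom.ker (qN : (A ⧸ J ^ N) →+* A ⧸ J)) := ⟨N, by
    have hle : RingHom.ker (qN : (A ⧸ J ^ N) →+* A ⧸ J) ≤ J.map mN := fun z hz => by
      obtain ⟨z, rfl⟩ := Ideal.Quotient.mk_surjective z
      exact Ideal.mem_map_of_mem _ (Ideal.Quotient.eq_zero_iff_mem.mp hz)
    refine le_bot_iff.mp ((Ideal.pow_right_mono hle N).trans ?_)
    rw [← Ideal.map_pow, Ideal.map_quotient_self]⟩
  let σ := Algebra.FormallySmooth.liftOfSurjective (AlgHom.id R (A ⧸ J)) qN hqN hnil
  have hσ : ∀ a : A, σ (Ideal.Quotient.mk J a) - mN a ∈ J.map mN := fun a => by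
    obtain ⟨b, hb⟩ := Ideal.Quotient.mk_surjective (σ (Ideal.Quotient.mk J a))
    have h : qN (σ (Ideal.Quotient.mk J a)) = Ideal.Quotient.mk J a :=
      Algebra.FormallySmooth.liftOfSurjective_apply _ _ _ _ _
    rw [← hb] at h ⊢
    rw [← map_sub]
    exact Ideal.mem_map_of_mem _ (Ideal.Quotient.eq.mp h)
  let Φ₀ : MvPolynomial (Fin d) (A ⧸ J) →ₐ[R] A ⧸ J ^ N :=
    { MvPolynomial.eval₂Hom σ.toRingHom (fun i => mN (x i)) with
      commutes' := fun r => by
        show MvPolynomial.eval₂Hom σ.toRingHom _ (algebraMap R _ r) = _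
        rw [IsScalarTower.algebraMap_apply R (A ⧸ J) (MvPolynomial (Fin d) (A ⧸ J)), MvPolynomial.algebraMap_eq, MvPolynomial.eval₂Hom_C]
        exact σ.commutes r }
  have hX : ∀ i, Φ₀ (MvPolynomial.X i) = mN (x i) := fun i => MvPolynomial.eval₂Hom_X' _ _ _
  have hC : ∀ b, Φ₀ (MvPolynomial.C b) = σ b := fun b => MvPolynomial.eval₂Hom_C _ _ _
  let T := Ideal.span (Set.range (MvPolynomial.X : Fin d → MvPolynomial (Fin d) (A ⧸ J)))
  have hT : T.map (Φ₀ : MvPolynomial (Fin d) (A ⧸ J) →+* A ⧸ J ^ N) ≤ J.map mN := by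
    rw [Ideal.map_span, Ideal.span_le]
    rintro _ ⟨_, ⟨i, rfl⟩, rfl⟩
    rw [show (Φ₀ : MvPolynomial (Fin d) (A ⧸ J) →+* A ⧸ J ^ N) (MvPolynomial.X i) = mN (x i) from hX i]
    exact Ideal.mem_map_of_mem _ (Ideal.subset_span ⟨i, rfl⟩)
  have hJpow : ∀ (k : ℕ) (z : A ⧸ J ^ N), z ∈ J.map mN ^ k → N ≤ k → z = 0 := fun k z hz hk => by
    have := Ideal.pow_le_pow_right hk hz
    rwa [← Ideal.map_pow, Ideal.map_quotient_self, Submodule.mem_bot] at this
  have hTN : ∀ P ∈ T ^ N, Φ₀ P = 0 := fun P hP => by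
    have := Ideal.mem_map_of_mem (Φ₀ : MvPolynomial (Fin d) (A ⧸ J) →+* A ⧸ J ^ N) hP
    rw [Ideal.map_pow] at this
    exact hJpow N _ (Ideal.pow_right_mono hT N this) le_rfl
  let Φ := Ideal.Quotient.liftₐ (T ^ N) Φ₀ hTN
  -- surjectivity
  have hlift : ∀ k, ∀ z ∈ J.map mN ^ k, ∃ P ∈ T ^ k, z - Φ₀ P ∈ J.map mN ^ (k + 1) := by
    intro k z hz
    rw [← Ideal.map_pow] at hz
    obtain ⟨a, ha, rfl⟩ := (Ideal.mem_map_iff_of_surjective mN Ideal.Quotient.mk_surjective).mp hz
    rw [show J ^ k = Ideal.span (Set.range x) ^ k from rfl] at ha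
    obtain ⟨P, hP, rfl⟩ := Groth.L07.QReg.exists_homogeneous_of_mem_span_pow x k ha
    refine ⟨MvPolynomial.map (Ideal.Quotient.mk J) P, ?_, ?_⟩
    · rw [show T = MvPolynomial.idealOfVars (Fin d) (A ⧸ J) from rfl, MvPolynomial.mem_pow_idealOfVars_iff]
      intro e he
      have := hP.map (Ideal.Quotient.mk J) (MvPolynomial.mem_support_iff.mp he)
      rw [Finsupp.degree_eq_weight_one]
      exact this.ge
    · rw [P.as_sum]
      simp only [map_sum, ← Finset.sum_sub_distrib]
      refine sum_mem fun e he => ?_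
      rw [MvPolynomial.map_monomial, MvPolynomial.eval_monomial, map_mul,
        show Φ₀ (MvPolynomial.monomial e (Ideal.Quotient.mk J (P.coeff e))) = σ (Ideal.Quotient.mk J (P.coeff e)) * mN (e.prod fun i n => x i ^ n) by
          show MvPolynomial.eval₂Hom σ.toRingHom _ _ = _
          rw [MvPolynomial.eval₂Hom_monomial, map_finsuppProd]
          simp,
        ← sub_mul, pow_succ']
      refine Ideal.mul_mem_mul ?_ ?_
      · rw [← neg_sub]; exact neg_mem (hσ _)
      · rw [← Ideal.map_pow]
        refine Ideal.mem_map_of_mem _ ?_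
        have h1 : MvPolynomial.eval x (MvPolynomial.monomial e (1 : A)) ∈ J ^ k :=
          Groth.L07.QReg.eval_mem_span_pow x (MvPolynomial.isHomogeneous_monomial _ (by
            rw [Finsupp.degree_eq_weight_one]; exact hP (MvPolynomial.mem_support_iff.mp he)))
        simpa [MvPolynomial.eval_monomial] using h1
  have hsur : ∀ k, ∀ z ∈ J.map mN ^ (N - k), ∃ P ∈ T ^ (N - k), Φ₀ P = z := by
    intro k
    induction k with
    | zero => exact fun z hz => ⟨0, zero_mem _, by rw [map_zero, hJpow _ z hz (by omega)]⟩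
    | succ k ih =>
      intro z hz
      by_cases hk : N ≤ k
      · rw [show N - (k + 1) = N - k by omega] at hz ⊢
        exact ih z hz
      obtain ⟨P, hP, hP'⟩ := hlift _ z hz
      rw [show N - (k + 1) + 1 = N - k by omega] at hP'
      obtain ⟨Q, hQ, hQ'⟩ := ih _ hP'
      refine ⟨P + Q, add_mem hP (Ideal.pow_le_pow_right (by omega) hQ), ?_⟩
      rw [map_add, hQ']; ring
  -- injectivity
  have hinj : ∀ k, ∀ P ∈ T ^ k, Φ₀ P = 0 → k < N → P ∈ T ^ (k + 1) := by
    intro k P hP h0 hk
    rw [show T = MvPolynomial.idealOfVars (Fin d) (A ⧸ J) from rfl, MvPolynomial.mem_pow_idealOfVars_iff] at hP ⊢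
    obtain ⟨P', hP'⟩ := MvPolynomial.map_surjective (Ideal.Quotient.mk J) Ideal.Quotient.mk_surjective P
    let H := MvPolynomial.homogeneousComponent k P'
    have hH : H.IsHomogeneous k := MvPolynomial.homogeneousComponent_isHomogeneous k P'
    have hmem : Φ₀ (MvPolynomial.map (Ideal.Quotient.mk J) H) ∈ J.map mN ^ (k + 1) := by
      have hd : P - MvPolynomial.map (Ideal.Quotient.mk J) H ∈ T ^ (k + 1) := by
        rw [show T = MvPolynomial.idealOfVars (Fin d) (A ⧸ J) from rfl, MvPolynomial.mem_pow_idealOfVars_iff]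
        intro e he
        rw [MvPolynomial.mem_support_iff, MvPolynomial.coeff_sub, MvPolynomial.coeff_map, MvPolynomial.coeff_homogeneousComponent] at he
        by_contra hlt
        apply he
        by_cases hek : e.degree = k
        · rw [if_pos hek, ← MvPolynomial.coeff_map, hP', sub_self]
        · rw [if_neg hek, map_zero, sub_zero]
          by_contra hne
          exact absurd (hP e (MvPolynomial.mem_support_iff.mpr hne)) (by omega)
      have h1 : Φ₀ (P - MvPolynomial.map (Ideal.Quotient.mk J) H) ∈ J.map mN ^ (k + 1) :=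
        Ideal.pow_right_mono hT (k + 1) (Ideal.map_pow (Φ₀ : MvPolynomial (Fin d) (A ⧸ J) →+* A ⧸ J ^ N) T (k + 1) ▸ Ideal.mem_map_of_mem _ hd)
      rw [map_sub, h0, zero_sub, neg_mem_iff] at h1
      exact h1
    have hev : mN (MvPolynomial.eval x H) - Φ₀ (MvPolynomial.map (Ideal.Quotient.mk J) H) ∈ J.map mN ^ (k + 1) := by
      rw [H.as_sum]
      simp only [map_sum, ← Finset.sum_sub_distrib]
      refine sum_mem fun e he => ?_
      rw [MvPolynomial.map_monomial, MvPolynomial.eval_monomial, map_mul,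
        show Φ₀ (MvPolynomial.monomial e (Ideal.Quotient.mk J (H.coeff e))) = σ (Ideal.Quotient.mk J (H.coeff e)) * mN (e.prod fun i n => x i ^ n) by
          show MvPolynomial.eval₂Hom σ.toRingHom _ _ = _
          rw [MvPolynomial.eval₂Hom_monomial, map_finsuppProd]
          simp,
        ← sub_mul, pow_succ']
      refine Ideal.mul_mem_mul ?_ ?_
      · rw [← neg_sub]; exact neg_mem (hσ _)
      · rw [← Ideal.map_pow]
        refine Ideal.mem_map_of_mem _ ?_
        have h1 : MvPolynomial.eval x (MvPolynomial.monomial e (1 : A)) ∈ J ^ k :=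
          Groth.L07.QReg.eval_mem_span_pow x (MvPolynomial.isHomogeneous_monomial _ (by
            rw [Finsupp.degree_eq_weight_one]; exact hH (MvPolynomial.mem_support_iff.mp he)))
        simpa [MvPolynomial.eval_monomial] using h1
    have hA : MvPolynomial.eval x H ∈ J ^ (k + 1) := by
      have h2 := add_mem hev hmem
      rw [sub_add_cancel, ← Ideal.map_pow, Ideal.mem_quotient_iff_mem_sup,
        sup_of_le_left (Ideal.pow_le_pow_right (by omega : k + 1 ≤ N))] at h2
      exact h2
    intro e he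
    rcases (hP e he).lt_or_eq with h | h
    · exact h
    · exfalso
      have hc := hq k H hH hA e
      rw [MvPolynomial.coeff_homogeneousComponent, if_pos h.symm, ← Ideal.Quotient.eq_zero_iff_mem, ← MvPolynomial.coeff_map, hP'] at hc
      exact MvPolynomial.mem_support_iff.mp he hc
  have hbij : Function.Bijective Φ := by
    refine ⟨(injective_iff_map_eq_zero Φ).mpr fun z hz => ?_, fun z => ?_⟩
    · obtain ⟨P, rfl⟩ := Ideal.Quotient.mk_surjective z
      have h0 : Φ₀ P = 0 := hz
      have : ∀ k ≤ N, P ∈ T ^ k := by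
        intro k
        induction k with
        | zero => simp
        | succ k ih => exact fun hk => hinj k P (ih (by omega)) h0 (by omega)
      exact Ideal.Quotient.eq_zero_iff_mem.mpr (this N le_rfl)
    · obtain ⟨P, -, hP⟩ := hsur N z (by simp)
      exact ⟨Ideal.Quotient.mk _ P, hP⟩
  let e := (AlgEquiv.ofBijective Φ hbij).symm
  refine ⟨e, fun i => ?_, fun a => ?_⟩
  · apply (AlgEquiv.ofBijective Φ hbij).injective
    rw [AlgEquiv.apply_symm_apply]
    exact (hX i).symm
  · obtain ⟨P, hP, hP'⟩ := hsur (N - 1) (mN a - σ (Ideal.Quotient.mk J a)) (by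
      rw [show N - (N - 1) = 1 by omega, pow_one, ← neg_sub]; exact neg_mem (hσ a))
    rw [show N - (N - 1) = 1 by omega, pow_one] at hP
    have : e (Ideal.Quotient.mk _ a) = Ideal.Quotient.mk _ (MvPolynomial.C (Ideal.Quotient.mk J a) + P) := by
      apply (AlgEquiv.ofBijective Φ hbij).injective
      rw [AlgEquiv.apply_symm_apply]
      show mN a = Φ₀ _
      rw [map_add, hC, hP']; ring
    rw [this, map_add, add_sub_cancel_left]
    exact Ideal.mem_map_of_mem _ hP

end Groth.Agent.S18417
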