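import Groth.Statements.S18418
import Mathlib.RingTheory.WittVector.DiscreteValuationRing
import Mathlib.Algebra.Module.PID
import Mathlib.RingTheory.Length
import Mathlib.RingTheory.Nakayama

set_option autoImplicit false
universe u v
open FonLaf

namespace Groth.Agent.S18418

namespace Aux

variable {W : Type u} [CommRing W] {τ : W →+* W} [RingHomSurjective τ]

/-- a surjective semilinear map preserves lengths of the quotient by the kernel -/
theorem length_quot_ker {T M : Type*} [AddCommGroup T] [Module W T] [AddCommGroup M] [Module W M]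
    (f : T →ₛₗ[τ] M) (hf : Function.Surjective f) :
    Module.length W (T ⧸ LinearMap.ker f) = Module.length W M := by
  have hb : Function.Bijective ((LinearMap.ker f).liftQ f le_rfl) := by
    refine ⟨LinearMap.ker_eq_bot.1 (Submodule.ker_liftQ_eq_bot _ _ _ le_rfl), fun m => ?_⟩
    obtain ⟨t, rfl⟩ := hf m
    exact ⟨Submodule.Quotient.mk t, rfl⟩
  apply WithBot.coe_injective
  rw [Module.coe_length, Module.coe_length]
  exact Order.krullDim_eq_of_orderIso (Submodule.orderIsoMapComapOfBijective _ hb)

/-- pure submodules of finite torsion modules over a DVR are direct summands -/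
theorem exists_isCompl_of_pure [IsDomain W] [IsDiscreteValuationRing W] (ϖ : W) (hϖ : Irreducible ϖ)
    {A : Type*} [AddCommGroup A] [Module W A] {N : Type v} [AddCommGroup N] [Module W N] [Module.Finite W N]
    (hN : Module.IsTorsion W N) (f : A →ₗ[W] N)
    (hpure : ∀ (n : ℕ) (a : A) (y : N), ϖ ^ n • y = f a → ∃ b, ϖ ^ n • b = a) :
    ∃ Q : Submodule W N, IsCompl (LinearMap.range f) Q := by
  classical
  have hQ : Module.IsTorsion W (N ⧸ LinearMap.range f) := by
    intro x
    obtain ⟨x, rfl⟩ := Submodule.Quotient.mk_surjective _ x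
    obtain ⟨a, ha⟩ := @hN x
    exact ⟨a, by rw [← Submodule.Quotient.mk_smul, ha, Submodule.Quotient.mk_zero]⟩
  obtain ⟨ι, _, p, hp, e, ⟨E⟩⟩ := Module.equiv_directSum_of_isTorsion hQ
  have hlift : ∀ i, ∃ b : N, (LinearMap.range f).mkQ b = E.symm (DirectSum.lof W ι _ i (Submodule.Quotient.mk 1)) ∧
      p i ^ e i • b = 0 := by
    intro i
    obtain ⟨b0, hb0⟩ := (LinearMap.range f).mkQ_surjective (E.symm (DirectSum.lof W ι _ i (Submodule.Quotient.mk 1)))
    have h0 : (LinearMap.range f).mkQ (p i ^ e i • b0) = 0 := by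
      rw [map_smul, hb0, ← map_smul, ← map_smul, ← Submodule.Quotient.mk_smul, smul_eq_mul, mul_one,
        (Submodule.Quotient.mk_eq_zero _).2 (Submodule.mem_span_singleton_self _), map_zero, map_zero]
    rw [Submodule.mkQ_apply, Submodule.Quotient.mk_eq_zero] at h0
    obtain ⟨a, ha⟩ := h0
    obtain ⟨u, hu⟩ := (IsDiscreteValuationRing.associated_of_irreducible W hϖ (hp i)).pow_pow (n := e i)
    obtain ⟨c, hc⟩ := hpure (e i) a ((u : W) • b0) (by rw [ha, smul_smul, hu])
    refine ⟨b0 - f ((↑u⁻¹ : W) • c), ?_, ?_⟩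
    · rw [map_sub, hb0, Submodule.mkQ_apply, (Submodule.Quotient.mk_eq_zero _).2 (LinearMap.mem_range_self _ _), sub_zero]
    · rw [smul_sub, ← ha, ← map_smul f, smul_smul, ← hu, mul_assoc, Units.mul_inv, mul_one, hc, sub_self]
  choose b hb hb0 using hlift
  let s0 : (DirectSum ι fun i => W ⧸ Submodule.span W {p i ^ e i}) →ₗ[W] N :=
    DirectSum.toModule W ι N fun i => (Submodule.span W {p i ^ e i}).liftQ (LinearMap.toSpanSingleton W N (b i))
      ((Submodule.span_singleton_le_iff_mem _ _).2 (by simpa using hb0 i))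
  have hs : (LinearMap.range f).mkQ.comp s0 = E.symm.toLinearMap := by
    refine DirectSum.linearMap_ext W fun i => Submodule.linearMap_qext _ (LinearMap.ext_ring ?_)
    simp only [s0, LinearMap.comp_apply, DirectSum.toModule_lof, Submodule.mkQ_apply, Submodule.liftQ_apply,
      LinearMap.toSpanSingleton_apply, one_smul, LinearEquiv.coe_coe]
    simpa using hb i
  let s := s0.comp E.toLinearMap
  have hs' : ∀ x, (LinearMap.range f).mkQ (s x) = x := fun x => by
    have := LinearMap.congr_fun hs (E x)
    simpa [s] using this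
  refine ⟨LinearMap.range s, ?_, ?_⟩
  · rw [Submodule.disjoint_def]
    rintro _ h ⟨x, rfl⟩
    have := hs' x
    rw [Submodule.mkQ_apply, (Submodule.Quotient.mk_eq_zero _).2 h] at this
    rw [← this, map_zero]
  · rw [codisjoint_iff, Submodule.eq_top_iff']
    intro y
    refine Submodule.mem_sup.2 ⟨y - s ((LinearMap.range f).mkQ y), ?_, _, LinearMap.mem_range_self s ((LinearMap.range f).mkQ y), sub_add_cancel _ _⟩
    rw [← Submodule.Quotient.mk_eq_zero, ← Submodule.mkQ_apply, map_sub, hs', sub_self]

end Aux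


/-- Let k be a perfect field of characteristic p and W = W(k) its ring of Witt vectors with Frobenius σ.
Fix r and W-modules of finite length N_0 = M, N_1, N_2, … with W-linear maps α_i : N_{i+1} → N_i and
σ-semilinear maps φ_i : N_i → M such that φ_i ∘ α_i = p φ_{i+1} for all i < r. Let ι be the map
sending (x_1, …, x_r) ∈ N_1 ⊕ ⋯ ⊕ N_r to (α_0 x_1, α_1 x_2 − p x_1, …, α_{r−1} x_r − p x_{r−1}, −p
x_r) ∈ N_0 ⊕ ⋯ ⊕ N_r, and Φ the map N_0 ⊕ ⋯ ⊕ N_r → M, (y_i) ↦ Σ_i φ_i(y_i). Suppose that Φ is
surjective and that its kernel is contained in the image of ι (with the displayed relation this says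
that Φ induces a σ-semilinear bijection from the cokernel of ι onto M). Then for every i < r the map
α_i is injective and its image is a direct summand of N_i (so the N_i form a filtration of M by
direct summands, the data of a Fontaine–Laffaille module). Families are indexed by all natural
numbers; only the indices ≤ r enter. -/
theorem result (p : ℕ) [Fact p.Prime]
    (k : Type u) [Field k] [CharP k p] [PerfectRing k p] (r : ℕ)
    (N : ℕ → Type v) [∀ i, AddCommGroup (N i)] [∀ i, Module (WittVector p k) (N i)]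
    (hfl : ∀ i, IsFiniteLength (WittVector p k) (N i))
    (α : ∀ i, N (i + 1) →ₗ[WittVector p k] N i)
    (φ : ∀ i, N i →ₛₗ[(WittVector.frobenius : WittVector p k →+* WittVector p k)] N 0)
    (hφ : ∀ i, i < r → ∀ y : N (i + 1), φ i (α i y) = (p : WittVector p k) • φ (i + 1) y)
    (hsurj : ∀ m : N 0, ∃ y : (i : ℕ) → N i, (∀ i, r < i → y i = 0) ∧
      (Finset.range (r + 1)).sum (fun i => φ i (y i)) = m)
    (hker : ∀ y : (i : ℕ) → N i, (∀ i, r < i → y i = 0) →
      (Finset.range (r + 1)).sum (fun i => φ i (y i)) = 0 →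
        ∃ z : (i : ℕ) → N (i + 1), (∀ i, r ≤ i → z i = 0) ∧
          y 0 = α 0 (z 0) ∧ ∀ i, y (i + 1) = α (i + 1) (z (i + 1)) - (p : WittVector p k) • z i)
    (i : ℕ) (hi : i < r) :
    Function.Injective (α i) ∧
      ∃ Q : Submodule (WittVector p k) (N i), IsCompl (LinearMap.range (α i)) Q := by
  classical
  haveI : RingHomSurjective (WittVector.frobenius : WittVector p k →+* WittVector p k) := ⟨(WittVector.frobenius_bijective p k).surjective⟩
  set π : (WittVector p k) := (p : (WittVector p k)) with hπ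
  have hirr : Irreducible π := WittVector.irreducible p
  have hσπ : (WittVector.frobenius : WittVector p k →+* WittVector p k) π = π := map_natCast _ p
  haveI hfin : ∀ i, IsNoetherian (WittVector p k) (N i) ∧ IsArtinian (WittVector p k) (N i) := fun i =>
    isFiniteLength_iff_isNoetherian_isArtinian.1 (hfl i)
  haveI hnoe : ∀ i, IsNoetherian (WittVector p k) (N i) := fun i => (hfin i).1
  haveI hart : ∀ i, IsArtinian (WittVector p k) (N i) := fun i => (hfin i).2
  -- some power of `p` kills each module
  have hkill : ∀ i, ∃ n : ℕ, ∀ x : N i, π ^ n • x = 0 := by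
    intro i
    let P : ℕ →o (Submodule (WittVector p k) (N i))ᵒᵈ :=
      ⟨fun n => OrderDual.toDual (LinearMap.range (π ^ n • LinearMap.id : N i →ₗ[(WittVector p k)] N i)), fun a b hab => by
        rintro _ ⟨x, rfl⟩
        exact ⟨π ^ (b - a) • x, by simp [smul_smul, ← pow_add, Nat.add_sub_cancel' hab, Nat.sub_add_cancel hab]⟩⟩
    obtain ⟨n, hn⟩ := IsArtinian.monotone_stabilizes P
    refine ⟨n, fun x => ?_⟩
    let V := LinearMap.range (π ^ n • LinearMap.id : N i →ₗ[(WittVector p k)] N i)
    have hle : V ≤ (Ideal.span {π}) • V := by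
      intro y hy
      have e : V = LinearMap.range (π ^ (n + 1) • LinearMap.id : N i →ₗ[(WittVector p k)] N i) := hn (n + 1) (Nat.le_succ n)
      rw [e] at hy
      obtain ⟨z, rfl⟩ := hy
      have : (π ^ (n + 1) • LinearMap.id : N i →ₗ[(WittVector p k)] N i) z = π • (π ^ n • z) := by
        simp [smul_smul, pow_succ']
      rw [this]
      exact Submodule.smul_mem_smul (Ideal.mem_span_singleton_self _) ⟨z, rfl⟩
    have hbot : V = ⊥ := Submodule.eq_bot_of_le_smul_of_le_jacobson_bot _ V (IsNoetherian.noetherian V) hle (by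
      rw [IsLocalRing.jacobson_eq_maximalIdeal ⊥ bot_ne_top]
      exact (Ideal.span_singleton_le_iff_mem _).2 hirr.not_isUnit)
    have : π ^ n • x ∈ V := ⟨x, rfl⟩
    rwa [hbot] at this
  let S := (j : Fin r) → N ((j : ℕ) + 1)
  let T := (j : Fin (r + 1)) → N (j : ℕ)
  let exS : S → (i : ℕ) → N (i + 1) := fun s i => if h : i < r then s ⟨i, h⟩ else 0
  let exT : T → (i : ℕ) → N i := fun y i => if h : i < r + 1 then y ⟨i, h⟩ else 0
  let exl : (i : ℕ) → (S →ₗ[(WittVector p k)] N (i + 1)) := fun i => if h : i < r then LinearMap.proj (R := (WittVector p k)) (φ := fun j : Fin r => N ((j : ℕ) + 1)) ⟨i, h⟩ else 0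
  have hexl : ∀ i s, exl i s = exS s i := by
    intro i s
    simp only [exl, exS]
    by_cases h : i < r
    · rw [dif_pos h, dif_pos h]; rfl
    · rw [dif_neg h, dif_neg h]; rfl
  let io : S →ₗ[(WittVector p k)] T := LinearMap.pi (R := (WittVector p k)) (φ := fun j : Fin (r + 1) => N (j : ℕ)) fun j => Fin.cases (motive := fun j : Fin (r + 1) => S →ₗ[(WittVector p k)] N (j : ℕ))
    ((α 0).comp (exl 0)) (fun j => (α (j + 1)).comp (exl (j + 1)) - π • exl j) j
  have io0 : ∀ s, io s 0 = α 0 (exS s 0) := fun s => by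
    show (α 0).comp (exl 0) s = _
    rw [LinearMap.comp_apply, hexl]
  have iosucc : ∀ s (j : Fin r), io s j.succ = α (j + 1) (exS s (j + 1)) - π • exS s j := fun s j => by
    show ((α (j + 1)).comp (exl (j + 1)) - π • exl j) s = _
    rw [LinearMap.sub_apply, LinearMap.comp_apply, LinearMap.smul_apply, hexl, hexl]
  let Φ : T →ₛₗ[(WittVector.frobenius : WittVector p k →+* WittVector p k)] N 0 := ∑ j : Fin (r + 1), (φ j).comp (LinearMap.proj (R := (WittVector p k)) (φ := fun j : Fin (r + 1) => N (j : ℕ)) j)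
  have hΦ : ∀ y : T, Φ y = (Finset.range (r + 1)).sum (fun i => φ i (exT y i)) := by
    intro y
    rw [LinearMap.sum_apply, Finset.sum_range]
    refine Finset.sum_congr rfl fun j _ => ?_
    show φ j (y j) = φ j (exT y j)
    rw [show exT y (j : ℕ) = y j from dif_pos j.2]
  have hsur : Function.Surjective Φ := by
    intro m
    obtain ⟨y, hy, rfl⟩ := hsurj m
    refine ⟨fun j => y j, ?_⟩
    rw [hΦ]
    refine Finset.sum_congr rfl fun i hi => ?_
    rw [show exT (fun j => y j) i = y i from dif_pos (Finset.mem_range.1 hi)]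
  have hrange : LinearMap.ker Φ = LinearMap.range io := by
    refine le_antisymm (fun y hy => ?_) ?_
    · rw [LinearMap.mem_ker, hΦ] at hy
      obtain ⟨z, hz, hz0, hzs⟩ := hker (exT y) (fun i hi => dif_neg (by omega)) hy
      refine ⟨fun j => z j, funext fun j => ?_⟩
      have hex : ∀ i, exS (fun j => z j) i = z i := fun i => by
        by_cases h : i < r
        · exact dif_pos h
        · exact (dif_neg h).trans (hz i (not_lt.1 h)).symm
      refine Fin.cases ?_ (fun j => ?_) j
      · rw [io0, hex, ← hz0]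
        exact dif_pos (Nat.succ_pos r)
      · rw [iosucc, hex, hex, hπ, ← hzs]
        exact dif_pos j.succ.2
    · rintro _ ⟨s, rfl⟩
      rw [LinearMap.mem_ker, LinearMap.sum_apply, Fin.sum_univ_succ]
      show φ 0 (io s 0) + ∑ j : Fin r, φ ((j : ℕ) + 1) (io s j.succ) = 0
      simp only [io0, iosucc, map_sub, LinearMap.map_smulₛₗ, hσπ, Finset.sum_sub_distrib]
      let F : ℕ → N 0 := fun i => φ i (α i (exS s i))
      have h1 : φ 0 (α 0 (exS s 0)) + ∑ j : Fin r, φ ((j : ℕ) + 1) (α ((j : ℕ) + 1) (exS s ((j : ℕ) + 1))) =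
          ∑ j : Fin r, F j := by
        have e : F r = 0 := by simp [F, exS]
        calc _ = ∑ j : Fin (r + 1), F j := (Fin.sum_univ_succ (fun j : Fin (r + 1) => F j)).symm
          _ = ∑ j : Fin r, F j := by rw [Fin.sum_univ_castSucc]; simp [e]
      rw [← add_sub_assoc, h1, sub_eq_zero]
      refine Finset.sum_congr rfl fun j _ => ?_
      simp only [F]
      rw [hφ j j.2]
  -- reduction modulo powers of `p`
  let qq : (n : ℕ) → (X : ℕ) → Submodule (WittVector p k) (N X) := fun n X => LinearMap.range (π ^ n • LinearMap.id : N X →ₗ[(WittVector p k)] N X)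
  have hkey : ∀ (n : ℕ) (s : S), (∃ t : T, π ^ n • t = io s) → ∀ j : Fin r, ∃ x, π ^ n • x = s j := by
    intro n
    let qS : Submodule (WittVector p k) S := LinearMap.range (π ^ n • LinearMap.id : S →ₗ[(WittVector p k)] S)
    let qT : Submodule (WittVector p k) T := LinearMap.range (π ^ n • LinearMap.id : T →ₗ[(WittVector p k)] T)
    let q0 : Submodule (WittVector p k) (N 0) := qq n 0
    let Φn : T →ₛₗ[(WittVector.frobenius : WittVector p k →+* WittVector p k)] N 0 ⧸ q0 := q0.mkQ.comp Φ
    have hkern : LinearMap.ker Φn = LinearMap.range io ⊔ qT := by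
      refine le_antisymm (fun y hy => ?_) (sup_le ?_ ?_)
      · rw [LinearMap.mem_ker, LinearMap.comp_apply, Submodule.mkQ_apply, Submodule.Quotient.mk_eq_zero] at hy
        obtain ⟨m, hm⟩ := hy
        obtain ⟨y0, hy0⟩ := hsur m
        refine Submodule.mem_sup.2 ⟨y - π ^ n • y0, ?_, π ^ n • y0, ⟨y0, rfl⟩, sub_add_cancel _ _⟩
        rw [← hrange, LinearMap.mem_ker, map_sub, LinearMap.map_smulₛₗ, map_pow, hσπ, hy0, ← hm]
        simp
      · rintro y hy
        rw [← hrange, LinearMap.mem_ker] at hy
        simp [Φn, hy]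
      · rintro _ ⟨y, rfl⟩
        rw [LinearMap.mem_ker, LinearMap.comp_apply, Submodule.mkQ_apply, Submodule.Quotient.mk_eq_zero]
        exact ⟨Φ y, by simp [LinearMap.map_smulₛₗ, hσπ]⟩
    have hle : qS ≤ qT.comap io := by
      rintro _ ⟨s, rfl⟩
      exact ⟨io s, by simp⟩
    let ion : (S ⧸ qS) →ₗ[(WittVector p k)] (T ⧸ qT) := qS.mapQ qT io hle
    haveI : IsNoetherian (WittVector p k) T := isNoetherian_pi
    haveI : IsArtinian (WittVector p k) T := isArtinian_pi
    haveI : IsNoetherian (WittVector p k) S := isNoetherian_pi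
    haveI : IsArtinian (WittVector p k) S := isArtinian_pi
    have hlen1 : Module.length (WittVector p k) (T ⧸ qT) = Module.length (WittVector p k) (LinearMap.range ion) + Module.length (WittVector p k) (N 0 ⧸ q0) := by
      rw [← Aux.length_quot_ker Φn (q0.mkQ_surjective.comp hsur)]
      refine Module.length_eq_add_of_exact (LinearMap.range ion).subtype
        (qT.mapQ (LinearMap.ker Φn) LinearMap.id (by rw [hkern]; exact le_sup_right)) Subtype.val_injective ?_ ?_
      · intro z
        obtain ⟨z, rfl⟩ := Submodule.Quotient.mk_surjective _ z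
        exact ⟨Submodule.Quotient.mk z, rfl⟩
      · intro z
        obtain ⟨z, rfl⟩ := Submodule.Quotient.mk_surjective _ z
        rw [Submodule.mapQ_apply, LinearMap.id_apply, Submodule.Quotient.mk_eq_zero, hkern]
        constructor
        · intro h
          obtain ⟨_, ⟨s, rfl⟩, b, hb, rfl⟩ := Submodule.mem_sup.1 h
          refine ⟨⟨_, LinearMap.mem_range_self ion (Submodule.Quotient.mk s)⟩, ?_⟩
          show qT.mkQ (io s) = qT.mkQ (io s + b)
          rw [map_add, show qT.mkQ b = 0 from (Submodule.Quotient.mk_eq_zero _).2 hb, add_zero]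
        · rintro ⟨⟨_, w, rfl⟩, hw⟩
          obtain ⟨s, rfl⟩ := Submodule.Quotient.mk_surjective _ w
          have : z - io s ∈ qT := (Submodule.Quotient.eq qT).1 hw.symm
          exact Submodule.mem_sup.2 ⟨io s, LinearMap.mem_range_self _ _, _, this, add_sub_cancel _ _⟩
    have hlen2 : Module.length (WittVector p k) (T ⧸ qT) = Module.length (WittVector p k) (S ⧸ qS) + Module.length (WittVector p k) (N 0 ⧸ q0) := by
      let ψ : T →ₗ[(WittVector p k)] (S ⧸ qS) × (N 0 ⧸ q0) :=
        (qS.mkQ.comp (LinearMap.pi (R := (WittVector p k)) fun j : Fin r => LinearMap.proj (R := (WittVector p k)) (φ := fun j : Fin (r + 1) => N (j : ℕ)) j.succ)).prod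
          (q0.mkQ.comp (LinearMap.proj (R := (WittVector p k)) (φ := fun j : Fin (r + 1) => N (j : ℕ)) (0 : Fin (r + 1))))
      have hψs : Function.Surjective ψ := by
        rintro ⟨a, b⟩
        obtain ⟨a, rfl⟩ := Submodule.Quotient.mk_surjective _ a
        obtain ⟨b, rfl⟩ := Submodule.Quotient.mk_surjective _ b
        exact ⟨Fin.cons (α := fun j : Fin (r + 1) => N (j : ℕ)) b a, rfl⟩
      have hψk : LinearMap.ker ψ = qT := by
        refine le_antisymm (fun y hy => ?_) ?_
        · rw [LinearMap.mem_ker, LinearMap.prod_apply, Prod.mk_eq_zero] at hy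
          obtain ⟨a, ha⟩ := (Submodule.Quotient.mk_eq_zero _).1 hy.1
          obtain ⟨b, hb⟩ := (Submodule.Quotient.mk_eq_zero _).1 hy.2
          refine ⟨Fin.cons (α := fun j : Fin (r + 1) => N (j : ℕ)) b a, funext fun j => ?_⟩
          refine Fin.cases ?_ (fun j => ?_) j
          · exact hb
          · exact congrFun ha j
        · rintro _ ⟨y, rfl⟩
          rw [LinearMap.mem_ker, LinearMap.prod_apply, Prod.mk_eq_zero]
          exact ⟨(Submodule.Quotient.mk_eq_zero _).2 ⟨fun j => y j.succ, rfl⟩, (Submodule.Quotient.mk_eq_zero _).2 ⟨y 0, rfl⟩⟩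
      rw [← hψk, (LinearMap.quotKerEquivOfSurjective ψ hψs).length_eq, Module.length_prod]
    have hinj : Function.Injective ion := by
      have h3 := Module.length_eq_add_of_exact (LinearMap.ker ion).subtype ion.rangeRestrict Subtype.val_injective
        (LinearMap.surjective_rangeRestrict ion) (LinearMap.exact_iff.2 (by rw [LinearMap.ker_rangeRestrict, Submodule.range_subtype]))
      have hfin0 : Module.length (WittVector p k) (N 0 ⧸ q0) ≠ ⊤ := Module.length_ne_top
      have hfinr : Module.length (WittVector p k) (LinearMap.range ion) ≠ ⊤ := Module.length_ne_top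
      have h4 : Module.length (WittVector p k) (LinearMap.range ion) = Module.length (WittVector p k) (S ⧸ qS) :=
        WithTop.add_right_cancel hfin0 (hlen1.symm.trans hlen2)
      rw [← h4] at h3
      have h5 : Module.length (WittVector p k) (LinearMap.ker ion) = 0 := by
        exact WithTop.add_right_cancel hfinr (h3.symm.trans (zero_add _).symm)
      haveI := Module.length_eq_zero_iff.1 h5
      exact LinearMap.ker_eq_bot.1 Submodule.eq_bot_of_subsingleton
    intro s ⟨t, ht⟩ j
    have : qS.mkQ s = 0 := hinj (by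
      rw [map_zero]
      exact (Submodule.Quotient.mk_eq_zero _).2 ⟨t, ht⟩)
    obtain ⟨a, ha⟩ := (Submodule.Quotient.mk_eq_zero _).1 this
    exact ⟨a j, congrFun ha j⟩
  -- every `α j` is injective modulo `p ^ n`
  have hP : ∀ n j, j < r → ∀ (x : N (j + 1)) (y : N j), π ^ n • y = α j x → ∃ b, π ^ n • b = x := by
    intro n
    induction n with
    | zero => intro j _ x _ _; exact ⟨x, by simp⟩
    | succ n ih =>
      intro j hj x y hy
      obtain ⟨b, hb⟩ := ih j hj x (π • y) (by rw [← hy, smul_smul, ← pow_succ])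
      let s : S := Pi.single ⟨j, hj⟩ x
      have hs : ∀ i, i ≠ j → exS s i = 0 := fun i hi => by
        by_cases h : i < r
        · refine (dif_pos h).trans ?_
          exact Pi.single_eq_of_ne (fun e => hi (congrArg Fin.val e)) _
        · exact dif_neg h
      have hsj : exS s j = x := (dif_pos hj).trans (Pi.single_eq_same _ _)
      have hqT : ∀ i : Fin (r + 1), ∃ t, π ^ (n + 1) • t = io s i := by
        refine Fin.cases ?_ (fun i => ?_)
        · rw [io0]
          rcases eq_or_ne 0 j with h | h
          · subst h; exact ⟨y, hy.trans (congrArg (α 0) hsj.symm)⟩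
          · exact ⟨0, (smul_zero _).trans ((congrArg (α 0) (hs 0 h)).trans (map_zero _)).symm⟩
        · rw [iosucc]
          rcases eq_or_ne ((i : ℕ) + 1) j with h | h
          · subst h; exact ⟨y, by rw [hy, hsj, hs i (by omega), smul_zero, sub_zero]⟩
          rw [hs _ h, map_zero, zero_sub]
          rcases eq_or_ne (i : ℕ) j with h' | h'
          · subst h'; exact ⟨-b, by rw [hsj, ← hb, smul_neg, smul_smul, ← pow_succ']⟩
          · exact ⟨0, by rw [hs _ h', smul_zero, smul_zero, neg_zero]⟩
      choose t ht using hqT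
      obtain ⟨c, hc⟩ := hkey (n + 1) s ⟨t, funext ht⟩ ⟨j, hj⟩
      exact ⟨c, hc.trans (Pi.single_eq_same _ _)⟩
  refine ⟨?_, Aux.exists_isCompl_of_pure π hirr ?_ (α i) (fun n a y h => hP n i hi a y h)⟩
  · rw [injective_iff_map_eq_zero]
    intro x hx
    obtain ⟨n, hn⟩ := hkill (i + 1)
    obtain ⟨b, rfl⟩ := hP n i hi x 0 (by rw [smul_zero, hx])
    exact hn b
  · intro x
    obtain ⟨n, hn⟩ := hkill i
    exact ⟨⟨π ^ n, mem_nonZeroDivisors_of_ne_zero (pow_ne_zero n hirr.ne_zero)⟩, hn x⟩

end Groth.Agent.S18418
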