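import Groth.Statements.S18420
import Mathlib.RingTheory.DividedPowers.SubDPIdeal
import Mathlib.RingTheory.DividedPowers.RatAlgebra
import Mathlib.Algebra.MvPolynomial.CommRing
import Mathlib.Tactic.FieldSimp
-- import your own Groth.Agent.* helpers here

set_option autoImplicit false
universe u v
open DPow

namespace Groth.Agent.S18420

section gen
variable {Z : Type*} [CommRing Z] {W : Type*} [CommRing W] (g : Z →+* W) {N : ℕ} (y : Fin N → ℕ → W)

theorem prod_mul_gen (h0 : ∀ i, y i 0 = 1) (hmul : ∀ i n m, y i n * y i m = ((n + m).choose n : W) * y i (n + m))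
    (e : Fin N →₀ ℕ) (i : Fin N) (n : ℕ) :
    (e.prod fun j k => y j k) * y i n =
      (((e i + n).choose (e i) : ℕ) : W) * ((e + Finsupp.single i n).prod fun j k => y j k) := by
  rw [← Finsupp.mul_prod_erase' e i (fun j k => y j k) h0, ← Finsupp.mul_prod_erase' (e + Finsupp.single i n) i (fun j k => y j k) h0]
  have he : (e + Finsupp.single i n).erase i = e.erase i := Finsupp.ext fun j => by
    by_cases hj : j = i
    · simp [hj]
    · simp [hj, Ne.symm hj, Finsupp.single_apply]
  rw [he, Finsupp.add_apply, Finsupp.single_eq_same, mul_right_comm, hmul, mul_assoc]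

/-- evaluation of a formal combination of divided monomials -/
noncomputable def LW (c : (Fin N →₀ ℕ) →₀ Z) : W := c.sum fun e z => g z * e.prod fun j k => y j k

theorem LW_add (c d : (Fin N →₀ ℕ) →₀ Z) : LW g y (c + d) = LW g y c + LW g y d :=
  Finsupp.sum_add_index' (fun e => by simp) (fun e a b => by simp [add_mul])

theorem LW_mulX (h0 : ∀ i, y i 0 = 1) (hmul : ∀ i n m, y i n * y i m = ((n + m).choose n : W) * y i (n + m))
    (c : (Fin N →₀ ℕ) →₀ Z) (i : Fin N) (n : ℕ) :
    LW g y (c.sum fun e z => Finsupp.single (e + Finsupp.single i n) (((e i + n).choose (e i) : ℕ) * z)) =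
      LW g y c * y i n := by
  unfold LW
  rw [Finsupp.sum_sum_index (fun e => by simp) (fun e a b => by simp [add_mul]), Finsupp.sum_mul]
  refine Finsupp.sum_congr fun e _ => ?_
  rw [Finsupp.sum_single_index (by simp), map_mul, map_natCast, mul_assoc (g _) _ (y i n),
    prod_mul_gen y h0 hmul, mul_comm ((Nat.choose _ _ : ℕ) : W) (g _), mul_assoc]

end gen

/-- Let R be a commutative ring and P = R⟨X_1, …, X_N⟩ the divided power polynomial algebra over R,
presented concretely as an R-algebra P with elements x i n = X_i^[n] (i < N, n ≥ 0) such that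
X_i^[0] = 1, X_i^[n] · X_i^[m] = C(n+m, n) X_i^[n+m], and the monomials ∏_i X_i^[e_i] (e ranging
over exponent vectors) form an R-basis of P. Let P_+ be the ideal generated by the X_i^[n] with n ≥
1 (the augmentation ideal). Then there is exactly one divided power structure γ on P_+ with
γ_n(X_i^[1]) = X_i^[n] for all i and all n. (The universal property that the source states alongside
is not restated here.) -/
theorem result (R : Type u) [CommRing R] (N : ℕ)
    (P : Type v) [CommRing P] [Algebra R P] (x : Fin N → ℕ → P)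
    (hx0 : ∀ i, x i 0 = 1)
    (hxmul : ∀ i n m, x i n * x i m = ((n + m).choose n : P) * x i (n + m))
    (b : Module.Basis (Fin N →₀ ℕ) R P) (hb : ∀ e : Fin N →₀ ℕ, b e = e.prod (fun i k => x i k)) :
    ∃! γ : DividedPowers (Ideal.span {y : P | ∃ (i : Fin N) (n : ℕ), 1 ≤ n ∧ y = x i n}),
      ∀ (i : Fin N) (n : ℕ), γ.dpow n (x i 1) = x i n := by
  classical
  let ι : (MvPolynomial R ℤ) →+* MvPolynomial R ℚ := MvPolynomial.map (Int.castRingHom ℚ)
  let π : (MvPolynomial R ℤ) →+* R := MvPolynomial.eval₂Hom (Int.castRingHom R) id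
  have hπ : Function.Surjective π := fun r => ⟨MvPolynomial.X r, MvPolynomial.eval₂Hom_X' _ _ r⟩
  let α : ℕ → MvPolynomial R ℚ := fun n => MvPolynomial.C ((n.factorial : ℚ)⁻¹)
  have hα : ∀ n m, α n * α m = ((n + m).choose n : MvPolynomial R ℚ) * α (n + m) := fun n m => by
    rw [← map_natCast (MvPolynomial.C : ℚ →+* MvPolynomial R ℚ), ← map_mul, ← map_mul]
    congr 1
    rw [eq_comm, ← div_eq_mul_inv, div_eq_iff (Nat.cast_ne_zero.2 (Nat.factorial_ne_zero _))]
    have := Nat.choose_mul_factorial_mul_factorial (Nat.le_add_right n m)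
    rw [Nat.add_sub_cancel_left] at this
    rw [← this]
    push_cast
    field_simp
  let xv : Fin N → ℕ → (MvPolynomial (Fin N) (MvPolynomial R ℚ)) := fun i n => MvPolynomial.monomial (Finsupp.single i n) (α n)
  have hv0 : ∀ i, xv i 0 = 1 := fun i => by simp [xv, α]
  have hvmul : ∀ i n m, xv i n * xv i m = ((n + m).choose n : (MvPolynomial (Fin N) (MvPolynomial R ℚ))) * xv i (n + m) := fun i n m => by
    simp only [xv, MvPolynomial.monomial_mul, ← Finsupp.single_add, hα]
    rw [← map_natCast (MvPolynomial.C : MvPolynomial R ℚ →+* (MvPolynomial (Fin N) (MvPolynomial R ℚ))), MvPolynomial.C_mul_monomial]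
  have hbv : ∀ e : Fin N →₀ ℕ, (e.prod fun j k => xv j k) = MvPolynomial.monomial e (e.prod fun _ k => α k) := by
    intro e
    induction e using Finsupp.induction with
    | zero => simp
    | single_add a k f ha hk ih =>
      have hd : Disjoint (Finsupp.single a k).support f.support := by
        rw [Finsupp.support_single_ne_zero _ hk]; simpa using ha
      rw [Finsupp.prod_add_index_of_disjoint hd, Finsupp.prod_add_index_of_disjoint hd, ih,
        Finsupp.prod_single_index (hv0 a), Finsupp.prod_single_index (by simp [α])]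
      simp [xv, MvPolynomial.monomial_mul]
  have hα0 : ∀ e : Fin N →₀ ℕ, (e.prod fun _ k => α k) ≠ 0 := fun e =>
    Finset.prod_ne_zero_iff.2 fun j _ => MvPolynomial.C_ne_zero.2 (inv_ne_zero (Nat.cast_ne_zero.2 (Nat.factorial_ne_zero _)))
  let gθ : (MvPolynomial R ℤ) →+* (MvPolynomial (Fin N) (MvPolynomial R ℚ)) := MvPolynomial.C.comp ι
  let gφ : (MvPolynomial R ℤ) →+* P := (algebraMap R P).comp π
  let θ : (MvPolynomial (Fin N × ℕ) (MvPolynomial R ℤ)) →+* (MvPolynomial (Fin N) (MvPolynomial R ℚ)) := MvPolynomial.eval₂Hom gθ (fun q => xv q.1 q.2)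
  let φ : (MvPolynomial (Fin N × ℕ) (MvPolynomial R ℤ)) →+* P := MvPolynomial.eval₂Hom gφ (fun q => x q.1 q.2)
  have hrep : ∀ f : (MvPolynomial (Fin N × ℕ) (MvPolynomial R ℤ)), ∃ c, θ f = LW gθ xv c ∧ φ f = LW gφ x c := by
    intro f
    induction f using MvPolynomial.induction_on with
    | C z => exact ⟨Finsupp.single 0 z, by simp [LW, θ, gθ], by simp [LW, φ, gφ]⟩
    | add f₁ f₂ h₁ h₂ =>
      obtain ⟨c, hc, hc'⟩ := h₁
      obtain ⟨d, hd, hd'⟩ := h₂
      exact ⟨c + d, by rw [map_add, hc, hd, LW_add], by rw [map_add, hc', hd', LW_add]⟩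
    | mul_X f q h =>
      obtain ⟨c, hc, hc'⟩ := h
      exact ⟨_, by rw [map_mul, hc, MvPolynomial.eval₂Hom_X', LW_mulX gθ xv hv0 hvmul c q.1 q.2],
        by rw [map_mul, hc', MvPolynomial.eval₂Hom_X', LW_mulX gφ x hx0 hxmul c q.1 q.2]⟩
  have hcoef : ∀ c e, MvPolynomial.coeff e (LW gθ xv c) = ι (c e) * e.prod fun _ k => α k := fun c e => by
    rw [LW, Finsupp.sum, MvPolynomial.coeff_sum, Finset.sum_eq_single e]
    · simp [gθ, hbv, MvPolynomial.C_mul_monomial]
    · intro e' _ hne; simp [gθ, hbv, MvPolynomial.C_mul_monomial, hne]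
    · intro he; simp [Finsupp.notMem_support_iff.1 he]
  have hιinj : Function.Injective ι := MvPolynomial.map_injective _ Int.cast_injective
  have hLP : ∀ c, LW gφ x c = b.repr.symm (c.mapRange π (map_zero _)) := fun c => by
    rw [LW, Module.Basis.repr_symm_apply, Finsupp.linearCombination_apply, Finsupp.sum_mapRange_index (by simp)]
    exact Finsupp.sum_congr fun e _ => by simp [gφ, hb, Algebra.smul_def]
  have hkerle : RingHom.ker θ.rangeRestrict ≤ RingHom.ker φ := fun f hf => by
    rw [RingHom.mem_ker] at hf ⊢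
    obtain ⟨c, hc, hc'⟩ := hrep f
    have hc0 : c = 0 := Finsupp.ext fun e => hιinj (by
      have := hcoef c e
      rw [← hc, show θ f = 0 from congr_arg Subtype.val hf, MvPolynomial.coeff_zero] at this
      rw [Finsupp.zero_apply, map_zero]
      exact (mul_eq_zero.1 this.symm).resolve_right (hα0 e))
    rw [hc', hc0]; simp [LW]
  let Φ : θ.range →+* P := θ.rangeRestrict.liftOfSurjective θ.rangeRestrict_surjective ⟨φ, hkerle⟩
  have hΦ : ∀ f, Φ (θ.rangeRestrict f) = φ f := fun f => RingHom.liftOfSurjective_comp_apply _ _ _ f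
  let G : Fin N → ℕ → θ.range := fun i n => θ.rangeRestrict (MvPolynomial.X (i, n))
  have hGv : ∀ i n, (G i n : (MvPolynomial (Fin N) (MvPolynomial R ℚ))) = xv i n := fun i n => by simp [G, θ]
  have hGP : ∀ i n, Φ (G i n) = x i n := fun i n => by rw [hΦ]; simp [φ]
  let I₀ : Ideal θ.range := Ideal.span {y | ∃ (i : Fin N) (n : ℕ), 1 ≤ n ∧ y = G i n}
  let J : Ideal (MvPolynomial (Fin N) (MvPolynomial R ℚ)) := RingHom.ker (MvPolynomial.constantCoeff : (MvPolynomial (Fin N) (MvPolynomial R ℚ)) →+* MvPolynomial R ℚ)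
  let γV := DividedPowers.RatAlgebra.dividedPowers J
  have hxvJ : ∀ i n, n ≠ 0 → xv i n ∈ J := fun i n hn => by
    simp [J, xv, MvPolynomial.constantCoeff_monomial, hn]
  have hI₀J : ∀ {y : θ.range}, y ∈ I₀ → (y : (MvPolynomial (Fin N) (MvPolynomial R ℚ))) ∈ J := fun {y} hy => by
    have : I₀ ≤ J.comap θ.range.subtype := Ideal.span_le.2 fun z ⟨i, n, hn, hz⟩ => by
      show (z : (MvPolynomial (Fin N) (MvPolynomial R ℚ))) ∈ J
      rw [hz, hGv]
      exact hxvJ i n (by omega)
    exact this hy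
  -- divided powers of single variables
  have hX : ∀ i n, γV.dpow n (xv i 1) = xv i n := fun i n => by
    rw [DividedPowers.RatAlgebra.dpow_apply, if_pos (hxvJ i 1 one_ne_zero), Ring.inverse_mul_eq_iff_eq_mul _ _ _
      (IsUnit.natCast_factorial_of_algebra ℚ _)]
    simp only [xv, MvPolynomial.monomial_pow, Finsupp.smul_single, smul_eq_mul, mul_one]
    rw [← map_natCast (MvPolynomial.C : MvPolynomial R ℚ →+* (MvPolynomial (Fin N) (MvPolynomial R ℚ))), MvPolynomial.C_mul_monomial]
    congr 1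
    simp only [α, Nat.factorial_one, Nat.cast_one, inv_one, map_one, one_pow]
    rw [← map_natCast (MvPolynomial.C : ℚ →+* MvPolynomial R ℚ), ← map_mul,
      mul_inv_cancel₀ (Nat.cast_ne_zero.2 (Nat.factorial_ne_zero _)), map_one]
  have hstable : ∀ y ∈ I₀, ∀ n, ∃ z : θ.range, (n ≠ 0 → z ∈ I₀) ∧ (z : (MvPolynomial (Fin N) (MvPolynomial R ℚ))) = γV.dpow n (y : (MvPolynomial (Fin N) (MvPolynomial R ℚ))) := by
    intro y hy
    induction hy using Submodule.span_induction with
    | mem y hy =>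
      obtain ⟨i, m, hm, rfl⟩ := hy
      intro n
      refine ⟨(Nat.uniformBell n m : θ.range) * G i (n * m), fun hn => Ideal.mul_mem_left _ _
        (Ideal.subset_span ⟨i, n * m, Nat.one_le_iff_ne_zero.2 (mul_ne_zero hn (by omega)), rfl⟩), ?_⟩
      rw [hGv, ← hX i m, γV.dpow_comp (by omega) (hxvJ i 1 one_ne_zero), hX, Subring.coe_mul, hGv]
      simp
    | zero =>
      intro n
      refine ⟨if n = 0 then 1 else 0, fun hn => by simp [hn], ?_⟩
      by_cases hn : n = 0
      · subst hn; simp [γV.dpow_zero (J.zero_mem)]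
      · simp [hn, γV.dpow_eval_zero hn]
    | add u v hu hv hu' hv' =>
      intro n
      choose zu hzu using hu'
      choose zv hzv using hv'
      refine ⟨∑ k ∈ Finset.antidiagonal n, zu k.1 * zv k.2, fun hn => Submodule.sum_mem _ fun k hk => ?_, ?_⟩
      · rw [Finset.mem_antidiagonal] at hk
        by_cases h1 : k.1 = 0
        · exact Ideal.mul_mem_left _ _ ((hzv k.2).1 (by omega))
        · exact Ideal.mul_mem_right _ _ ((hzu k.1).1 h1)
      · rw [Subring.coe_add, γV.dpow_add (hI₀J hu) (hI₀J hv), AddSubmonoidClass.coe_finsetSum]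
        exact Finset.sum_congr rfl fun k _ => by rw [Subring.coe_mul, (hzu k.1).2, (hzv k.2).2]
    | smul a u hu hu' =>
      intro n
      obtain ⟨z, hz, hz'⟩ := hu' n
      refine ⟨a ^ n * z, fun hn => Ideal.mul_mem_left _ _ (hz hn), ?_⟩
      rw [smul_eq_mul, Subring.coe_mul, Subring.coe_mul, SubmonoidClass.coe_pow, γV.dpow_mul (hI₀J hu), hz']
  choose d hd hd' using hstable
  let δ : DividedPowers I₀ :=
    { dpow := fun n y => if h : y ∈ I₀ then d y h n else 0
      dpow_null := fun h => dif_neg h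
      dpow_zero := fun h => Subtype.ext (by rw [dif_pos h, hd', γV.dpow_zero (hI₀J h)]; rfl)
      dpow_one := fun h => Subtype.ext (by rw [dif_pos h, hd', γV.dpow_one (hI₀J h)])
      dpow_mem := fun hn h => by rw [dif_pos h]; exact hd _ h _ hn
      dpow_add := fun {n u v} hu hv => Subtype.ext (by
        rw [dif_pos (I₀.add_mem hu hv), hd', Subring.coe_add, γV.dpow_add (hI₀J hu) (hI₀J hv), AddSubmonoidClass.coe_finsetSum]
        exact Finset.sum_congr rfl fun k _ => by rw [dif_pos hu, dif_pos hv, Subring.coe_mul, hd', hd'])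
      dpow_mul := fun {n a u} hu => Subtype.ext (by
        rw [dif_pos (I₀.mul_mem_left a hu), dif_pos hu, hd', Subring.coe_mul, γV.dpow_mul (hI₀J hu), Subring.coe_mul, hd', SubmonoidClass.coe_pow])
      mul_dpow := fun {m n u} hu => Subtype.ext (by
        simp only [dif_pos hu, Subring.coe_mul, hd', γV.mul_dpow (hI₀J hu)]
        simp)
      dpow_comp := fun {m n u} hn hu => Subtype.ext (by
        simp only [dif_pos hu]
        rw [dif_pos (hd u hu n hn), hd', hd', γV.dpow_comp hn (hI₀J hu), Subring.coe_mul, hd']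
        simp) }
  have hδ : ∀ n y (h : y ∈ I₀), (δ.dpow n y : (MvPolynomial (Fin N) (MvPolynomial R ℚ))) = γV.dpow n (y : (MvPolynomial (Fin N) (MvPolynomial R ℚ))) := fun n y h => by
    show (((if h : y ∈ I₀ then d y h n else 0) : θ.range) : (MvPolynomial (Fin N) (MvPolynomial R ℚ))) = _
    rw [dif_pos h, hd']
  -- kernel
  have hsub : DividedPowers.IsSubDPIdeal δ (RingHom.ker Φ ⊓ I₀) := by
    refine ⟨inf_le_right, fun n hn y ⟨hy, hyI⟩ => ⟨?_, δ.dpow_mem hn hyI⟩⟩
    obtain ⟨f, rfl⟩ := θ.rangeRestrict_surjective y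
    obtain ⟨c, hc, hc'⟩ := hrep f
    have hπc : ∀ e, π (c e) = 0 := fun e => by
      have h1 : LW gφ x c = 0 := by rw [← hc', ← hΦ]; exact hy
      rw [hLP, LinearEquiv.map_eq_zero_iff] at h1
      exact DFunLike.congr_fun h1 e
    have hc0 : c 0 = 0 := hιinj (by
      have h1 : MvPolynomial.constantCoeff (θ f) = 0 := hI₀J hyI
      rw [hc, MvPolynomial.constantCoeff_eq, hcoef] at h1
      simpa using h1)
    let B : (Fin N →₀ ℕ) → θ.range := fun e => e.prod fun j k => G j k
    have hBv : ∀ e, (B e : (MvPolynomial (Fin N) (MvPolynomial R ℚ))) = e.prod fun j k => xv j k := fun e => by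
      simp [B, Finsupp.prod, hGv]
    have hBI : ∀ e, e ≠ 0 → B e ∈ I₀ := fun e he => by
      obtain ⟨j, hj⟩ := Finsupp.support_nonempty_iff.2 he
      rw [show B e = G j (e j) * ∏ l ∈ e.support.erase j, G l (e l) from
        (Finset.mul_prod_erase e.support (fun l => G l (e l)) hj).symm]
      exact Ideal.mul_mem_right _ _ (Ideal.subset_span ⟨j, e j, Nat.one_le_iff_ne_zero.2 (Finsupp.mem_support_iff.1 hj), rfl⟩)
    let ζ : (MvPolynomial R ℤ) → θ.range := fun z => θ.rangeRestrict (MvPolynomial.C z)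
    have hy' : θ.rangeRestrict f = ∑ e ∈ c.support, ζ (c e) * B e := Subtype.ext (by
      rw [AddSubmonoidClass.coe_finsetSum]
      show θ f = _
      rw [hc, LW, Finsupp.sum]
      exact Finset.sum_congr rfl fun e _ => by rw [Subring.coe_mul, hBv]; simp [ζ, θ])
    rw [hy']
    have key : ∀ s : Finset (Fin N →₀ ℕ), (∀ e ∈ s, e ≠ 0) → ∑ e ∈ s, ζ (c e) * B e ∈ I₀ ∧
        ∀ n, n ≠ 0 → Φ (δ.dpow n (∑ e ∈ s, ζ (c e) * B e)) = 0 := by
      intro s
      induction s using Finset.induction with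
      | empty => exact fun _ => ⟨by simp, fun n hn => by rw [Finset.sum_empty, δ.dpow_eval_zero hn, map_zero]⟩
      | insert e s hes ih =>
        intro hs
        obtain ⟨h1, h2⟩ := ih fun e he => hs e (Finset.mem_insert_of_mem he)
        have hBe : B e ∈ I₀ := hBI e (hs e (Finset.mem_insert_self _ _))
        rw [Finset.sum_insert hes]
        refine ⟨I₀.add_mem (I₀.mul_mem_left _ hBe) h1, fun n hn => ?_⟩
        rw [δ.dpow_add (I₀.mul_mem_left _ hBe) h1, map_sum]
        refine Finset.sum_eq_zero fun k hk => ?_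
        rw [Finset.mem_antidiagonal] at hk
        rw [map_mul]
        by_cases hk2 : k.2 = 0
        · have hk1 : k.1 ≠ 0 := by omega
          rw [δ.dpow_mul hBe, map_mul, map_pow, hΦ]
          simp [φ, gφ, hπc, hk1]
        · rw [h2 _ hk2, mul_zero]
    exact (key c.support fun e he h => Finsupp.mem_support_iff.1 he (h ▸ hc0)).2 n hn
  have hsurj : Function.Surjective Φ := fun u => by
    refine ⟨θ.rangeRestrict (∑ e ∈ (b.repr u).support, MvPolynomial.C (Classical.choose (hπ (b.repr u e))) *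
      ∏ j ∈ e.support, MvPolynomial.X (j, e j)), ?_⟩
    rw [hΦ, map_sum]
    conv_rhs => rw [← b.linearCombination_repr u, Finsupp.linearCombination_apply]
    refine Finset.sum_congr rfl fun e _ => ?_
    simp [φ, gφ, hb, Finsupp.prod, Algebra.smul_def, Classical.choose_spec (hπ (b.repr u e))]
  have hmap : Ideal.span {y : P | ∃ (i : Fin N) (n : ℕ), 1 ≤ n ∧ y = x i n} = I₀.map Φ := by
    rw [Ideal.map_span]
    congr 1
    ext u
    constructor
    · rintro ⟨i, n, hn, rfl⟩; exact ⟨G i n, ⟨i, n, hn, rfl⟩, hGP i n⟩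
    · rintro ⟨_, ⟨i, n, hn, rfl⟩, rfl⟩; exact ⟨i, n, hn, hGP i n⟩
  have hG1 : ∀ i, G i 1 ∈ I₀ := fun i => Ideal.subset_span ⟨i, 1, le_rfl, rfl⟩
  refine ⟨DividedPowers.Quotient.OfSurjective.dividedPowers δ hsurj hmap hsub, fun i n => ?_, ?_⟩
  · rw [← hGP i 1, DividedPowers.Quotient.OfSurjective.dpow_apply δ hsurj hmap hsub (hG1 i), ← hGP i n]
    congr 1
    exact Subtype.ext (by rw [hδ n _ (hG1 i), hGv, hGv, hX])
  · intro γ hγ
    refine DividedPowers.ext _ _ fun n u hu => ?_
    set γ₀ := DividedPowers.Quotient.OfSurjective.dividedPowers δ hsurj hmap hsub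
    have hγ₀ : ∀ i n, γ₀.dpow n (x i 1) = x i n := fun i n => by
      rw [← hGP i 1, DividedPowers.Quotient.OfSurjective.dpow_apply δ hsurj hmap hsub (hG1 i), ← hGP i n]
      congr 1
      exact Subtype.ext (by rw [hδ n _ (hG1 i), hGv, hGv, hX])
    induction hu using Submodule.span_induction generalizing n with
    | mem u hu =>
      obtain ⟨i, m, hm, rfl⟩ := hu
      have hmem : x i 1 ∈ Ideal.span {y : P | ∃ (i : Fin N) (n : ℕ), 1 ≤ n ∧ y = x i n} :=
        Ideal.subset_span ⟨i, 1, le_rfl, rfl⟩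
      conv_lhs => rw [← hγ i m, γ.dpow_comp (by omega) hmem, hγ]
      conv_rhs => rw [← hγ₀ i m, γ₀.dpow_comp (by omega) hmem, hγ₀]
    | zero =>
      by_cases hn : n = 0
      · subst hn; rw [γ.dpow_zero (Submodule.zero_mem _), γ₀.dpow_zero (Submodule.zero_mem _)]
      · rw [γ.dpow_eval_zero hn, γ₀.dpow_eval_zero hn]
    | add u v hu hv hu' hv' =>
      rw [γ.dpow_add hu hv, γ₀.dpow_add hu hv]
      exact Finset.sum_congr rfl fun k _ => by rw [hu', hv']
    | smul a u hu hu' => rw [smul_eq_mul, γ.dpow_mul hu, γ₀.dpow_mul hu, hu']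


end Groth.Agent.S18420
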