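import Groth.Statements.S18421
import Groth.Agent.L07.DPowFlat

set_option autoImplicit false
set_option linter.style.haveILetI false
universe u v w
open DPow

namespace Groth.Agent.S18421

/-- Let (R, I, γ) be a divided power ring, Λ a set and P = R⟨X_λ : λ ∈ Λ⟩ the divided power polynomial
algebra, presented concretely as an R-algebra P with elements x l n = X_λ^[n] such that X_λ^[0] = 1,
X_λ^[n] · X_λ^[m] = C(n+m, n) X_λ^[n+m], and the monomials ∏_λ X_λ^[e_λ] form an R-basis of P; let
P_+ be the ideal generated by the X_λ^[n] with n ≥ 1 and δ_+ a divided power structure on P_+ with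
δ_+,n(X_λ^[1]) = X_λ^[n]. Put J = IP + P_+. Then there is exactly one divided power structure δ on J
which is compatible with γ (the structure map R → P is a divided power morphism from (I, γ) to (J,
δ)) and with δ_+ (δ_n(y) = δ_+,n(y) for all y ∈ P_+ and all n). -/
theorem result (R : Type u) [CommRing R] {I : Ideal R}
    (γ : DividedPowers I) (Λ : Type w)
    (P : Type v) [CommRing P] [Algebra R P] (x : Λ → ℕ → P)
    (hx0 : ∀ l, x l 0 = 1)
    (hxmul : ∀ l n m, x l n * x l m = ((n + m).choose n : P) * x l (n + m))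
    (b : Module.Basis (Λ →₀ ℕ) R P) (hb : ∀ e : Λ →₀ ℕ, b e = e.prod (fun l k => x l k))
    (δplus : DividedPowers (Ideal.span {y : P | ∃ (l : Λ) (n : ℕ), 1 ≤ n ∧ y = x l n}))
    (hδplus : ∀ (l : Λ) (n : ℕ), δplus.dpow n (x l 1) = x l n) :
    ∃! δ : DividedPowers (I.map (algebraMap R P) ⊔ Ideal.span {y : P | ∃ (l : Λ) (n : ℕ), 1 ≤ n ∧ y = x l n}),
      γ.IsDPMorphism δ (algebraMap R P) ∧
        ∀ (n : ℕ) (y : P), y ∈ Ideal.span {y : P | ∃ (l : Λ) (n : ℕ), 1 ≤ n ∧ y = x l n} →
          δ.dpow n y = δplus.dpow n y := by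
  classical
  haveI : Module.Free R P := Module.Free.of_basis b
  haveI : Module.Flat R P := inferInstance
  obtain ⟨γ', hγ'⟩ := Groth.L07.DPGen.exists_extension_of_flat (B := P) γ
  let Pp := Ideal.span {y : P | ∃ (l : Λ) (n : ℕ), 1 ≤ n ∧ y = x l n}
  -- augmentation ideal as an R-submodule
  have hmulb : ∀ e e' : Λ →₀ ℕ, ∃ c : ℕ, b e * b e' = (c : P) * b (e + e') := by
    intro e e'
    refine ⟨∏ l ∈ e.support ∪ e'.support, (e l + e' l).choose (e l), ?_⟩
    rw [hb, hb, hb, Finsupp.prod_of_support_subset e Finset.subset_union_left _ (fun l _ => hx0 l),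
      Finsupp.prod_of_support_subset e' Finset.subset_union_right _ (fun l _ => hx0 l),
      Finsupp.prod_of_support_subset (e + e') Finsupp.support_add _ (fun l _ => hx0 l),
      Nat.cast_prod, ← Finset.prod_mul_distrib, ← Finset.prod_mul_distrib]
    exact Finset.prod_congr rfl fun l _ => by rw [hxmul, Finsupp.add_apply]
  let W : Submodule R P := Submodule.span R (b '' {e | e ≠ 0})
  have hW : ∀ z ∈ Pp, z ∈ W := by
    have hclosed : ∀ (p : P) (w : P), w ∈ W → p * w ∈ W := by
      intro p w hw
      induction b.mem_span p using Submodule.span_induction with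
      | mem p hp =>
        obtain ⟨e, rfl⟩ := hp
        induction hw using Submodule.span_induction with
        | mem w hw =>
          obtain ⟨e', he', rfl⟩ := hw
          obtain ⟨c, hc⟩ := hmulb e e'
          rw [hc, ← nsmul_eq_mul]
          refine nsmul_mem (Submodule.subset_span (s := b '' {e | e ≠ 0}) ⟨e + e', ?_, rfl⟩) c
          intro h
          exact he' (Finsupp.ext fun l => by
            have := DFunLike.congr_fun h l
            simp at this
            simpa using this.2)
        | zero => simp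
        | add _ _ _ _ h h' => rw [mul_add]; exact add_mem h h'
        | smul c _ _ h => rw [mul_smul_comm]; exact W.smul_mem c h
      | zero => simp
      | add _ _ _ _ h h' => rw [add_mul]; exact add_mem h h'
      | smul c _ _ h => rw [smul_mul_assoc]; exact W.smul_mem c h
    intro z hz
    induction hz using Submodule.span_induction with
    | mem z hz =>
      obtain ⟨l, n, hn, rfl⟩ := hz
      refine Submodule.subset_span ⟨Finsupp.single l n, ?_, ?_⟩
      · simp; omega
      · rw [hb, Finsupp.prod_single_index (hx0 l)]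
    | zero => simp
    | add _ _ _ _ h h' => exact add_mem h h'
    | smul c _ _ h => rw [smul_eq_mul]; exact hclosed c _ h
  have hbPp : ∀ e, e ≠ 0 → b e ∈ Pp := by
    intro e he
    obtain ⟨l, hl⟩ := Finsupp.support_nonempty_iff.mpr he
    rw [hb, Finsupp.prod, ← Finset.mul_prod_erase _ _ hl]
    exact Ideal.mul_mem_right _ _ (Ideal.subset_span
      ⟨l, e l, Nat.one_le_iff_ne_zero.mpr (Finsupp.mem_support_iff.mp hl), rfl⟩)
  have hinf : I.map (algebraMap R P) ⊓ Pp ≤ I.map (algebraMap R P) * Pp := by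
    intro z hz
    have h0 : b.repr z 0 = 0 := by
      suffices h : ∀ w ∈ W, b.repr w 0 = 0 from h z (hW z hz.2)
      intro w hzW
      induction hzW using Submodule.span_induction with
      | mem w hw =>
        obtain ⟨e, he, rfl⟩ := hw
        rw [b.repr_self, Finsupp.single_eq_of_ne (Ne.symm he)]
      | zero => simp
      | add _ _ _ _ h h' => simp [h, h']
      | smul c _ _ h => simp [h]
    have hI : ∀ e, b.repr z e ∈ I := by
      have hz' : z ∈ I • (⊤ : Submodule R P) := by rw [Ideal.smul_top_eq_map]; exact hz.1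
      intro e
      refine Submodule.smul_induction_on (p := fun w => b.repr w e ∈ I) hz'
        (fun a ha q _ => ?_) (fun _ _ h h' => ?_)
      · rw [map_smul, Finsupp.smul_apply, smul_eq_mul]
        exact I.mul_mem_right _ ha
      · rw [map_add, Finsupp.add_apply]; exact add_mem h h'
    rw [← b.linearCombination_repr z, Finsupp.linearCombination_apply]
    refine sum_mem fun e he => ?_
    show b.repr z e • b e ∈ _
    rw [Algebra.smul_def]
    refine Ideal.mul_mem_mul (Ideal.mem_map_of_mem _ (hI e)) (hbPp e ?_)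
    rintro rfl
    exact (Finsupp.mem_support_iff.mp he) h0
  have hagree : ∀ (n : ℕ) (y : P), y ∈ I.map (algebraMap R P) ⊓ Pp →
      γ'.dpow n y = δplus.dpow n y := by
    suffices h : ∀ y ∈ I.map (algebraMap R P) * Pp, (y ∈ I.map (algebraMap R P) ∧ y ∈ Pp) ∧
        ∀ n, γ'.dpow n y = δplus.dpow n y from fun n y hy => (h y (hinf hy)).2 n
    intro y hy
    refine Submodule.mul_induction_on hy (fun a ha c hc => ?_) (fun u v hu hv => ?_)
    · refine ⟨⟨Ideal.mul_mem_right _ _ ha, Ideal.mul_mem_left _ _ hc⟩, fun n => ?_⟩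
      calc γ'.dpow n (a * c) = c ^ n * γ'.dpow n a := by rw [mul_comm, γ'.dpow_mul ha]
        _ = a ^ n * δplus.dpow n c := by
          rw [← δplus.factorial_mul_dpow_eq_pow hc, ← γ'.factorial_mul_dpow_eq_pow ha]; ring
        _ = δplus.dpow n (a * c) := (δplus.dpow_mul hc).symm
    · refine ⟨⟨add_mem hu.1.1 hv.1.1, add_mem hu.1.2 hv.1.2⟩, fun n => ?_⟩
      rw [γ'.dpow_add hu.1.1 hv.1.1, δplus.dpow_add hu.1.2 hv.1.2]
      exact Finset.sum_congr rfl fun k _ => by rw [hu.2, hv.2]
  obtain ⟨δ, ⟨hδI, hδP⟩, -⟩ := Groth.L07.DPGen.existsUnique_sup γ' δplus hagree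
  refine ⟨δ, ⟨⟨le_sup_left, fun {n} a ha => ?_⟩, hδP⟩, ?_⟩
  · rw [hδI n _ (Ideal.mem_map_of_mem _ ha), hγ'.2 a ha]
  · rintro δ' ⟨hδ'I, hδ'P⟩
    refine DividedPowers.dpow_eq_from_gens δ δ'
      (S := algebraMap R P '' (I : Set R) ∪ {y : P | ∃ (l : Λ) (n : ℕ), 1 ≤ n ∧ y = x l n})
      (by rw [Ideal.span_union]; rfl) ?_
    rintro n z (⟨a, ha, rfl⟩ | hz)
    · rw [hδI n _ (Ideal.mem_map_of_mem _ ha), hγ'.2 a ha, hδ'I.2 a ha]
    · have hz' : z ∈ Pp := Ideal.subset_span hz
      rw [hδP n z hz', hδ'P n z hz']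

end Groth.Agent.S18421
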