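import Groth.Statements.S18423
import Groth.Agent.S2195
import Mathlib.RingTheory.Etale.Locus
import Mathlib.RingTheory.Localization.NormTrace
import Mathlib.RingTheory.Ideal.KrullsHeightTheorem
import Mathlib.RingTheory.LocalRing.Module
import Mathlib.RingTheory.Finiteness.ModuleFinitePresentation
import Mathlib.Tactic

set_option autoImplicit false
universe u v
open Pi1

namespace Groth.Agent.S18423

/-- Let A be a Noetherian local ring of Krull dimension at least 2 and B a finite flat commutative
A-algebra. If B is etale over A at every prime of B lying over a non-maximal prime of A (that is,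
Spec B is etale over the punctured spectrum of A), then B is etale over A. -/
theorem result (A : Type u) (B : Type v) [CommRing A] [CommRing B]
    [Algebra A B] [IsNoetherianRing A] [IsLocalRing A] (hdim : (2 : WithBot ℕ∞) ≤ ringKrullDim A)
    [Module.Finite A B] [Module.Flat A B]
    (h : ∀ q : PrimeSpectrum B, q.asIdeal.comap (algebraMap A B) ≠ IsLocalRing.maximalIdeal A →
      Algebra.IsEtaleAt A q.asIdeal) :
    Algebra.Etale A B := by
  classical
  haveI : Module.Free A B := Module.free_of_flat_of_isLocalRing
  haveI : Module.FinitePresentation A B := Module.finitePresentation_of_finite A B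
  haveI : Algebra.FinitePresentation A B := Algebra.FinitePresentation.of_finiteType.mp inferInstance
  let b := Module.finBasis A B
  refine (Groth.Agent.S2195.result b).mpr ?_
  by_contra hd
  set D := Algebra.discr A b with hD
  have hne : Ideal.span {D} ≠ ⊤ := by rwa [ne_eq, Ideal.span_singleton_eq_top]
  obtain ⟨p, hp, -⟩ := Ideal.exists_minimalPrimes_le (I := Ideal.span {D})
    (J := IsLocalRing.maximalIdeal A) (IsLocalRing.le_maximalIdeal hne)
  haveI := hp.isPrime
  have hpm : p ≠ IsLocalRing.maximalIdeal A := by
    rintro rfl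
    have h1 : (IsLocalRing.maximalIdeal A).height ≤ 1 :=
      Ideal.height_le_one_of_isPrincipal_of_mem_minimalPrimes (Ideal.span {D}) _ hp
    rw [← IsLocalRing.maximalIdeal_height_eq_ringKrullDim] at hdim
    have h2 : (2 : WithBot ℕ∞) ≤ 1 := hdim.trans (by exact_mod_cast h1)
    exact absurd h2 (by norm_num)
  obtain ⟨f, hfm, hfp⟩ : ∃ f ∈ IsLocalRing.maximalIdeal A, f ∉ p :=
    SetLike.not_le_iff_exists.mp fun hle =>
      hpm ((IsLocalRing.le_maximalIdeal (Ideal.IsPrime.ne_top')).antisymm hle)
  have hg : Algebra.Etale A (Localization.Away (algebraMap A B f)) := by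
    rw [← Algebra.basicOpen_subset_etaleLocus_iff_etale]
    intro q hq
    refine h q fun he => hq ?_
    show f ∈ q.asIdeal.comap (algebraMap A B)
    rw [he]
    exact hfm
  let Af := Localization.Away f
  let Bf := Localization (Algebra.algebraMapSubmonoid B (Submonoid.powers f))
  haveI hloc : IsLocalization.Away (algebraMap A B f) Bf := by
    show IsLocalization (Submonoid.powers (algebraMap A B f)) Bf
    rw [← show Algebra.algebraMapSubmonoid B (Submonoid.powers f) = Submonoid.powers (algebraMap A B f) from
      Submonoid.map_powers _ f]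
    infer_instance
  haveI : Algebra.Etale A Bf := Algebra.Etale.of_equiv
    ((IsLocalization.algEquiv (Submonoid.powers (algebraMap A B f)) (Localization.Away (algebraMap A B f)) Bf).restrictScalars A)
  haveI : Algebra.Etale A Af := .of_isLocalizationAway f
  letI : Algebra Af Bf := localizationAlgebra (Submonoid.powers f) B
  haveI : IsScalarTower A Af Bf := IsScalarTower.of_algebraMap_eq' (by
    ext x
    simp [RingHom.algebraMap_toAlgebra, localizationAlgebra, IsScalarTower.algebraMap_apply A B Bf, Af])
  haveI : Algebra.Etale Af Bf := Algebra.Etale.of_restrictScalars A Af Bf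
  have hu : IsUnit (algebraMap A Af D) := by
    rw [hD, ← Algebra.discr_localizationLocalization A (Submonoid.powers f) (Rₘ := Af) (Sₘ := Bf) b]
    exact (Groth.Agent.S2195.result _).mp inferInstance
  obtain ⟨y, hy⟩ := hu.exists_right_inv
  obtain ⟨a, ⟨_, n, rfl⟩, rfl⟩ := IsLocalization.exists_mk'_eq (Submonoid.powers f) y
  rw [IsLocalization.mul_mk'_eq_mk'_of_mul, IsLocalization.mk'_eq_iff_eq_mul, one_mul] at hy
  obtain ⟨⟨_, k, rfl⟩, hk⟩ := (IsLocalization.eq_iff_exists (Submonoid.powers f) Af).mp hy
  have hmem : f ^ k * (D * a) ∈ p :=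
    Ideal.mul_mem_left _ _ (Ideal.mul_mem_right _ _ (hp.1.2 (Ideal.subset_span rfl)))
  rw [hk, ← pow_add] at hmem
  exact hfp (Ideal.IsPrime.mem_of_pow_mem inferInstance _ hmem)


end Groth.Agent.S18423
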