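import Groth.Statements.S18425
import Groth.Agent.L27.FinGSet.Discrete

set_option autoImplicit false
universe u
open Pi1

namespace Groth.Agent.S18425

open CategoryTheory in
/-- In the case of a discrete group G, let F be the forgetful functor from the category of finite G-sets
to finite sets. Then the canonical homomorphism from G to Aut(F), letting g act on every finite
G-set, extends to an isomorphism of topological groups from the profinite completion of G (the limit
of the finite quotients G/U over normal subgroups U of finite index) onto Aut(F) with its profinite
topology. (The published statement is for an arbitrary topological group G, with finite G-sets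
carrying a continuous action and the completion taken over open normal subgroups of finite index;
this row is the case of a discrete group.) -/
theorem result (G : Type u) [Group G] :
    ∃ φ : (ProfiniteGrp.ProfiniteCompletion.completion (GrpCat.of G)) ≃ₜ* Aut (Action.forget FintypeCat.{u} G),
      ∀ (g : G) (X : Action FintypeCat.{u} G) (x : X.V),
        (φ (ProfiniteGrp.ProfiniteCompletion.etaFn (GrpCat.of G) g)).hom.app X x = (X.ρ g).hom x := by
  let Ψ := Groth.L27.FinGSet.toCompletion (G := G)
  have hb : Function.Bijective Ψ :=
    ⟨Groth.L27.FinGSet.injective_toCompletion, Groth.L27.FinGSet.surjective_toCompletion⟩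
  let e : Aut (Action.forget FintypeCat.{u} G) ≃ₜ* ProfiniteGrp.ProfiniteCompletion.completion (GrpCat.of G) :=
    { __ := MulEquiv.ofBijective Ψ hb
      continuous_toFun := Groth.L27.FinGSet.continuous_toCompletion
      continuous_invFun := Continuous.continuous_symm_of_equiv_compact_to_t2
        (f := (MulEquiv.ofBijective Ψ hb).toEquiv) Groth.L27.FinGSet.continuous_toCompletion }
  refine ⟨e.symm, fun g X x => ?_⟩
  have : e.symm (ProfiniteGrp.ProfiniteCompletion.etaFn (GrpCat.of G) g) = Groth.L27.FinGSet.iotaD G g :=
    e.toMulEquiv.symm_apply_eq.2 (Groth.L27.FinGSet.toCompletion_iotaD g).symm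
  rw [this]
  rfl

end Groth.Agent.S18425
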