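import Groth.Statements.S18426
import Groth.Agent.L18.NormalizationField
import Groth.Agent.L19.NormalSections
import Mathlib.RingTheory.DedekindDomain.IntegralClosure

set_option autoImplicit false
set_option linter.style.haveILetI false
universe u
open Pi1

namespace Groth.Agent.S18426

open AlgebraicGeometry CategoryTheory CategoryTheory.Limits in
theorem aux {X : Scheme.{u}} [IsIntegral X] [IsNoetherian X] (hX : Pi1.IsNormalScheme X)
    {K : Type u} [Field K] (φ : X.functionField →+* K) (hφ : φ.Finite)
    (hsep : letI := φ.toAlgebra; Algebra.IsSeparable X.functionField K)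
    {g : Spec (CommRingCat.of K) ⟶ X}
    (hg : g = Spec.map (CommRingCat.ofHom φ) ≫ X.fromSpecStalk (genericPoint X))
    [QuasiCompact g] [QuasiSeparated g] : IsFinite g.fromNormalization := by
  refine ⟨fun U hU => ?_⟩
  by_cases hne : Nonempty U
  swap
  · have hb : g.fromNormalization ⁻¹ᵁ U = ⊥ :=
      le_bot_iff.mp fun x hx => (hne ⟨⟨_, hx⟩⟩).elim
    haveI : Subsingleton Γ(g.normalization, g.fromNormalization ⁻¹ᵁ U) := by
      rw [hb]; infer_instance
    exact RingHom.Finite.of_surjective _ fun b => ⟨0, Subsingleton.elim _ _⟩
  obtain ⟨e, he, -⟩ := Groth.L18.NormField.exists_equiv hg hU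
  haveI : IsFractionRing Γ(X, U) X.functionField := functionField_isFractionRing_of_isAffineOpen X U hU
  haveI : IsIntegrallyClosed Γ(X, U) :=
    Groth.L19.NormalSec.isIntegrallyClosed_sections (fun x => (hX x).2) U
  haveI : IsNoetherianRing Γ(X, U) := IsLocallyNoetherian.component_noetherian ⟨U, hU⟩
  letI aK : Algebra Γ(X, U) K := (φ.comp (X.germToFunctionField U).hom).toAlgebra
  letI aF : Algebra X.functionField K := φ.toAlgebra
  haveI : IsScalarTower Γ(X, U) X.functionField K := IsScalarTower.of_algebraMap_eq fun a => rfl
  haveI : Module.Finite X.functionField K := hφ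
  haveI : Algebra.IsSeparable X.functionField K := hsep
  haveI : Module.Finite Γ(X, U) (integralClosure Γ(X, U) K) :=
    IsIntegralClosure.finite Γ(X, U) X.functionField K (integralClosure Γ(X, U) K)
  have h1 : (algebraMap Γ(X, U) (integralClosure Γ(X, U) K)).Finite :=
    RingHom.finite_algebraMap.mpr inferInstance
  have h2 : (g.fromNormalization.app U).hom =
      e.symm.toRingHom.comp (algebraMap Γ(X, U) (integralClosure Γ(X, U) K)) :=
    RingHom.ext fun a => by
      apply e.injective
      rw [he, RingHom.comp_apply]
      exact (e.apply_symm_apply _).symm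
  rw [h2]
  exact (RingHom.Finite.of_surjective _ e.symm.surjective).comp h1


open AlgebraicGeometry CategoryTheory CategoryTheory.Limits in
/-- Suppose X is an integral scheme that is Noetherian and normal, write K for its function field, and
take L to be a finite separable extension of K. Then the normalization of X in L, namely the
relative normalization of the morphism Spec L → Spec K → X, is finite over X. (That this
normalization is a normal integral scheme with function field L is not restated.) -/
theorem result {X : Scheme.{u}} [IsIntegral X] [IsNoetherian X]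
    (hX : Pi1.IsNormalScheme X) (L : Type u) [Field L] [Algebra X.functionField L] [FiniteDimensional X.functionField L]
    [Algebra.IsSeparable X.functionField L]
    [QuasiCompact (Spec.map (CommRingCat.ofHom (algebraMap X.functionField L)) ≫ X.fromSpecStalk (genericPoint X))]
    [QuasiSeparated (Spec.map (CommRingCat.ofHom (algebraMap X.functionField L)) ≫ X.fromSpecStalk (genericPoint X))] :
    IsFinite (Spec.map (CommRingCat.ofHom (algebraMap X.functionField L)) ≫ X.fromSpecStalk (genericPoint X)).fromNormalization := by
  refine aux hX (algebraMap X.functionField L) (RingHom.finite_algebraMap.mpr inferInstance) ?_ rfl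
  have h : (algebraMap X.functionField L).toAlgebra = ‹Algebra X.functionField L› :=
    Algebra.algebra_ext _ _ fun _ => rfl
  rw [h]
  infer_instance

end Groth.Agent.S18426
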