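import Groth.Statements.S18427
import Groth.Agent.S17449
import Groth.Agent.L07.Count.Field
import Mathlib.RingTheory.Localization.FractionRing

set_option autoImplicit false
universe u
open Models

namespace Groth.Agent.S18427

open CategoryTheory AlgebraicGeometry in
/-- Let R be a discrete valuation ring with fraction field K, C a smooth proper geometrically connected
curve over K, and X a regular proper model of C over R (flat and proper over R, regular, with
generic fibre C). Then the structure morphism X → Spec R has geometrically connected fibres; in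
particular the special fibre of X is geometrically connected over the residue field of R. -/
theorem result (R : Type u) [CommRing R] [IsDomain R]
    [IsDiscreteValuationRing R] (C X : Scheme.{u})
    (f : C ⟶ Spec (CommRingCat.of (FractionRing R))) (p : X ⟶ Spec (CommRingCat.of R))
    (hC : Curve.IsSmoothProperCurve (FractionRing R) C f) [GeometricallyConnected f]
    (hX : Models.IsRegularProperModel R X p C f) :
    GeometricallyConnected p := by
  obtain ⟨hfl, -, -, g, hg⟩ := hX.1
  haveI := hX.2.1
  haveI := hfl
  haveI := hC.2.1
  haveI : IsIntegral C := hC.2.2.1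
  let S := Spec (CommRingCat.of R)
  haveI : IsDomain (CommRingCat.of R) := inferInstanceAs (IsDomain R)
  haveI : IsNoetherianRing (CommRingCat.of R) := inferInstanceAs (IsNoetherianRing R)
  let K := FractionRing R
  let j : Spec (CommRingCat.of K) ⟶ S := Spec.map (CommRingCat.ofHom (algebraMap R K))
  let η : S := genericPoint S
  have hj : ∀ q, j q = η := fun q => by
    show _ = genericPoint (Spec (CommRingCat.of R))
    rw [genericPoint_eq_bot_of_affine, Subsingleton.elim q (⊥ : PrimeSpectrum K)]
    refine PrimeSpectrum.ext ?_
    show Ideal.comap (algebraMap R K) ⊥ = ⊥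
    rw [← RingHom.ker_eq_comap_bot]
    exact (RingHom.injective_iff_ker_eq_bot _).1 (IsFractionRing.injective R K)
  obtain ⟨ψ, hψ⟩ := Groth.L07.Count.exists_residueField_factor K j η hj
  haveI : IsIso ψ := by
    have hR : ∀ r : R, algebraMap R K r ∈ ψ.hom.fieldRange := fun r => by
      have h' := hψ
      rw [Scheme.fromSpecResidueField, Spec.fromSpecStalk_eq, ← Spec.map_comp, ← Spec.map_comp] at h'
      exact ⟨_, RingHom.congr_fun (congrArg CommRingCat.Hom.hom (Spec.map_injective h')) r⟩
    refine (ConcreteCategory.isIso_iff_bijective ψ).2 ⟨ψ.hom.injective, fun z => ?_⟩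
    obtain ⟨a, b, -, rfl⟩ := IsFractionRing.div_surjective (A := R) z
    exact div_mem (hR a) (hR b)
  haveI : Surjective p := ⟨fun s => by
    obtain ⟨c⟩ : Nonempty ↥C := inferInstance
    have hmem : η ∈ Set.range p := ⟨g c, by rw [← Scheme.Hom.comp_apply, hg.w, Scheme.Hom.comp_apply]; exact hj _⟩
    exact ((genericPoint_specializes (α := S) s).mem_closed p.isClosedMap.isClosed_range hmem)⟩
  let e := Scheme.Spec.mapIso (asIso ψ).op
  let m : C ⟶ p.fiber η := Limits.pullback.lift g (f ≫ e.hom) (by rw [hg.w, Category.assoc]; exact congrArg (f ≫ ·) hψ.symm)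
  have hm : IsPullback m f (p.fiberToSpecResidueField η) e.hom := by
    refine IsPullback.of_right ?_ (Limits.pullback.lift_snd _ _ _) (IsPullback.of_hasPullback p (S.fromSpecResidueField η))
    rw [show m ≫ Limits.pullback.fst p (S.fromSpecResidueField η) = g from Limits.pullback.lift_fst _ _ _, show e.hom ≫ S.fromSpecResidueField η = j from hψ]
    exact hg
  haveI : IsIso m := by
    haveI : IsIso e.hom := inferInstance
    exact hm.isIso_fst_of_isIso
  have hfm : p.fiberToSpecResidueField η = inv m ≫ f ≫ e.hom := by
    rw [IsIso.eq_inv_comp]; exact hm.w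
  have hη : GeometricallyConnected (p.fiberToSpecResidueField η) ∧ Smooth (p.fiberToSpecResidueField η) := by
    refine ⟨?_, by rw [hfm]; infer_instance⟩
    rw [hfm]
    exact (MorphismProperty.cancel_left_of_respectsIso @GeometricallyConnected _ _).2
      ((MorphismProperty.cancel_right_of_respectsIso @GeometricallyConnected _ _).2 ‹GeometricallyConnected f›)
  refine Groth.Agent.S17449.result p fun Z η' hZ hη' => ?_
  have : η' = η := by
    have hu : Z = Set.univ := by
      rw [irreducibleComponents_eq_singleton] at hZ
      exact hZ
    rw [hu] at hη'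
    exact hη'.eq (genericPoint_spec S)
  subst this
  exact hη
end Groth.Agent.S18427
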