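import Groth.Statements.S18429

set_option autoImplicit false
universe u
open SpinCurv

namespace Groth.Agent.S18429

/-- Let n ≥ 1 and r ≥ 2 be integers and let e_0, …, e_{nr} be integers with e_0 = e_{nr} = 0 (the
coefficients of a chain of nr - 1 exceptional curves joining two non-exceptional components with
coefficient zero) such that at every interior index 1 ≤ j ≤ nr - 1 the second difference e_{j-1} - 2
e_j + e_{j+1} (the degree of the divisor Σ e_i E_i on the j-th curve of the chain) is divisible by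
r. Then there are integers e'_0, …, e'_{nr}, with e'_j ≡ e_j modulo r for every interior j, with
e'_0 = e'_{nr} = 0 and every e'_j ≤ 0, whose second differences at the interior indices are each 0
or r, and are nonzero at no two distinct interior indices. -/
theorem result (n r : ℕ) (hn : 1 ≤ n) (hr : 2 ≤ r)
    (e : ℕ → ℤ) (he0 : e 0 = 0) (henr : e (n * r) = 0)
    (hdiv : ∀ j : ℕ, 1 ≤ j → j < n * r → (r : ℤ) ∣ e (j - 1) - 2 * e j + e (j + 1)) :
    ∃ e' : ℕ → ℤ, e' 0 = 0 ∧ e' (n * r) = 0 ∧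
      (∀ j : ℕ, 1 ≤ j → j < n * r → (r : ℤ) ∣ e' j - e j) ∧
      (∀ j : ℕ, j ≤ n * r → e' j ≤ 0) ∧
      (∀ j : ℕ, 1 ≤ j → j < n * r →
        (e' (j - 1) - 2 * e' j + e' (j + 1) = 0 ∨ e' (j - 1) - 2 * e' j + e' (j + 1) = r)) ∧
      (∀ j j' : ℕ, 1 ≤ j → j < n * r → 1 ≤ j' → j' < n * r →
        e' (j - 1) - 2 * e' j + e' (j + 1) ≠ 0 → e' (j' - 1) - 2 * e' j' + e' (j' + 1) ≠ 0 → j = j') := by
  have hN : 1 ≤ n * r := Nat.one_le_iff_ne_zero.2 (Nat.mul_ne_zero (by omega) (by omega))
  -- residues are linear in j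
  have key : ∀ j : ℕ, j + 1 ≤ n * r →
      (r : ℤ) ∣ e (j + 1) - ((j : ℤ) + 1) * e 1 ∧ (r : ℤ) ∣ e j - (j : ℤ) * e 1 := by
    intro j
    induction j with
    | zero => intro _; simp [he0]
    | succ j ih =>
      intro hj
      obtain ⟨h1, h2⟩ := ih (by omega)
      refine ⟨?_, by push_cast; exact h1⟩
      have h3 := hdiv (j + 1) (by omega) (by omega)
      rw [Nat.add_sub_cancel] at h3
      have h4 : e (j + 1 + 1) - (((j + 1 : ℕ) : ℤ) + 1) * e 1 =
          2 * (e (j + 1) - ((j : ℤ) + 1) * e 1) - (e j - (j : ℤ) * e 1) + (e j - 2 * e (j + 1) + e (j + 1 + 1)) := by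
        push_cast; ring
      rw [h4]
      exact dvd_add (dvd_sub (h1.mul_left 2) h2) h3
  have hr0 : (r : ℤ) ≠ 0 := by exact_mod_cast (show r ≠ 0 by omega)
  set a : ℤ := -((-e 1) % (r : ℤ)) with ha
  have ha1 : -(r : ℤ) < a := by
    have := Int.emod_lt_of_pos (-e 1) (show (0 : ℤ) < r by omega); omega
  have ha2 : a ≤ 0 := by have := Int.emod_nonneg (-e 1) hr0; omega
  have ha3 : (r : ℤ) ∣ a - e 1 := by
    have := Int.dvd_self_sub_emod (x := -e 1) (m := (r : ℤ))
    convert this using 1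
    rw [ha]; ring
  set m : ℤ := (n : ℤ) * r + a * n with hm
  have hm0 : 0 < m := by
    rw [hm]; have : 0 < (n : ℤ) * ((r : ℤ) + a) := mul_pos (by omega) (by omega)
    linarith [this]
  have hmN : m ≤ (n : ℤ) * r := by
    rw [hm]; have : a * (n : ℤ) ≤ 0 := mul_nonpos_of_nonpos_of_nonneg ha2 (by omega)
    linarith
  set g : ℕ → ℤ := fun j => a * j + (r : ℤ) * max 0 ((j : ℤ) - m) with hg
  have hdd : ∀ j : ℕ, 1 ≤ j →
      ((j : ℤ) ≠ m → g (j - 1) - 2 * g j + g (j + 1) = 0) ∧
      ((j : ℤ) = m → g (j - 1) - 2 * g j + g (j + 1) = r) := by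
    intro j hj
    simp only [hg]
    rw [Nat.cast_sub hj, Nat.cast_add]
    push_cast
    constructor
    · intro hne
      rcases lt_or_gt_of_ne hne with h | h
      · rw [max_eq_left (by omega), max_eq_left (by omega), max_eq_left (by omega)]; ring
      · rw [max_eq_right (by omega), max_eq_right (by omega), max_eq_right (by omega)]; ring
    · intro h
      rw [max_eq_left (by omega), max_eq_left (by omega), max_eq_right (by omega)]
      linear_combination (r : ℤ) * h
  refine ⟨g, ?_, ?_, ?_, ?_, ?_, ?_⟩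
  · simp only [hg, Nat.cast_zero, mul_zero, zero_add, zero_sub]
    rw [max_eq_left (by omega), mul_zero]
  · simp only [hg]; push_cast
    rw [max_eq_right (by omega), hm]; ring
  · intro j hj1 hj2
    obtain ⟨-, h⟩ := key j (by omega)
    have h' : g j - e j = (a - e 1) * j + (r : ℤ) * max 0 ((j : ℤ) - m) - (e j - (j : ℤ) * e 1) := by
      simp only [hg]; ring
    rw [h']
    exact dvd_sub (dvd_add (dvd_mul_of_dvd_left ha3 _) (dvd_mul_right _ _)) h
  · intro j hj
    simp only [hg]
    have hjN : (j : ℤ) ≤ (n : ℤ) * r := by exact_mod_cast hj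
    rcases le_or_gt (j : ℤ) m with h | h
    · rw [max_eq_left (by omega), mul_zero, add_zero]
      exact mul_nonpos_of_nonpos_of_nonneg ha2 (by omega)
    · rw [max_eq_right (by omega)]
      have h1 : a * j + (r : ℤ) * ((j : ℤ) - m) = ((r : ℤ) + a) * ((j : ℤ) - (n : ℤ) * r) := by
        rw [hm]; ring
      rw [h1]
      exact mul_nonpos_of_nonneg_of_nonpos (by omega) (by omega)
  · intro j hj1 hj2
    by_cases h : (j : ℤ) = m
    · exact Or.inr ((hdd j hj1).2 h)
    · exact Or.inl ((hdd j hj1).1 h)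
  · intro j j' hj1 hj2 hj1' hj2' h h'
    have e1 : (j : ℤ) = m := by by_contra hh; exact h ((hdd j hj1).1 hh)
    have e2 : (j' : ℤ) = m := by by_contra hh; exact h' ((hdd j' hj1').1 hh)
    omega

end Groth.Agent.S18429
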