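import Groth.Statements.S18430

set_option autoImplicit false
universe u
open SpinCurv

namespace Groth.Agent.S18430

/-- Let n ≥ 1 and r ≥ 2 be integers and let e_0, …, e_{nr} be integers, thought of as the coefficients
of two non-exceptional components C = E_0 and D = E_{nr} of the special fibre and of the chain of nr
- 1 exceptional curves joining them. If at every interior index 1 ≤ j ≤ nr - 1 the second difference
e_{j-1} - 2 e_j + e_{j+1} is divisible by r (the degree of the divisor on each exceptional curve of
the chain is a multiple of r), then e_0 ≡ e_{nr} modulo r. (The published statement deduces from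
this step, using that the special fibre is connected, that all non-exceptional components are joined
by such chains and that one non-exceptional coefficient may be taken to be 0, that every
non-exceptional coefficient can be assumed divisible by r; only the chain step is stated here.) -/
theorem result (n r : ℕ) (hn : 1 ≤ n) (hr : 2 ≤ r)
    (e : ℕ → ℤ)
    (hdiv : ∀ j : ℕ, 1 ≤ j → j < n * r → (r : ℤ) ∣ e (j - 1) - 2 * e j + e (j + 1)) :
    (r : ℤ) ∣ e (n * r) - e 0 := by
  have key : ∀ j : ℕ, j + 1 ≤ n * r →
      (r : ℤ) ∣ e (j + 1) - e 0 - ((j : ℤ) + 1) * (e 1 - e 0) ∧ (r : ℤ) ∣ e j - e 0 - (j : ℤ) * (e 1 - e 0) := by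
    intro j
    induction j with
    | zero => intro _; simp
    | succ j ih =>
      intro hj
      obtain ⟨h1, h2⟩ := ih (by omega)
      refine ⟨?_, by push_cast; exact h1⟩
      have h3 := hdiv (j + 1) (by omega) (by omega)
      rw [Nat.add_sub_cancel] at h3
      have h4 : e (j + 1 + 1) - e 0 - (((j + 1 : ℕ) : ℤ) + 1) * (e 1 - e 0) =
          2 * (e (j + 1) - e 0 - ((j : ℤ) + 1) * (e 1 - e 0)) - (e j - e 0 - (j : ℤ) * (e 1 - e 0)) + (e j - 2 * e (j + 1) + e (j + 1 + 1)) := by
        push_cast; ring
      rw [h4]
      exact dvd_add (dvd_sub (h1.mul_left 2) h2) h3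
  have hpos : 1 ≤ n * r := Nat.one_le_iff_ne_zero.2 (Nat.mul_ne_zero (by omega) (by omega))
  obtain ⟨h, -⟩ := key (n * r - 1) (by omega)
  rw [Nat.sub_add_cancel hpos] at h
  have h' : ((n * r - 1 : ℕ) : ℤ) + 1 = (n : ℤ) * r := by
    rw [Nat.cast_sub hpos]; push_cast; ring
  rw [h'] at h
  have := dvd_add h (dvd_mul_of_dvd_left (Dvd.intro_left (n : ℤ) rfl) (e 1 - e 0))
  simpa using this

end Groth.Agent.S18430
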