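import Groth.Statements.S18431
import Mathlib.Algebra.Ring.GeomSum
import Mathlib.RingTheory.Ideal.Quotient.Operations
import Mathlib.RingTheory.LocalRing.ResidueField.Basic

set_option autoImplicit false
universe u
open SpinCurv

namespace Groth.Agent.S18431

/-- Let R be a Noetherian local ring in which the natural number r is invertible and let ξ, ζ ∈ R
satisfy ξ^r = 1 and ζ^r = 1. Then either ξ = ζ, or ξ - ζ is a unit of R. (Consequently an element of
R annihilated by ξ - ζ is zero unless ξ = ζ. In the published setting R is moreover complete; the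
step does not use completeness.) -/
theorem result (R : Type u) [CommRing R] [IsNoetherianRing R] [IsLocalRing R]
    (r : ℕ) (hr : IsUnit (r : R)) (ξ ζ : R) (hξ : ξ ^ r = 1) (hζ : ζ ^ r = 1) :
    ξ = ζ ∨ IsUnit (ξ - ζ) := by
  have key : (∑ i ∈ Finset.range r, ξ ^ i * ζ ^ (r - 1 - i)) * (ξ - ζ) = 0 := by
    rw [geom_sum₂_mul, hξ, hζ, sub_self]
  by_cases hu : IsUnit (ξ - ζ)
  · exact Or.inr hu
  left
  have hres : IsLocalRing.residue R ξ = IsLocalRing.residue R ζ := by
    rw [← sub_eq_zero, ← map_sub, IsLocalRing.residue_eq_zero_iff]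
    exact hu
  rcases Nat.eq_zero_or_pos r with hr0 | hrpos
  · subst hr0
    simp at hr
  have hζu : IsUnit ζ := IsUnit.of_pow_eq_one hζ hrpos.ne'
  have hs : IsUnit (∑ i ∈ Finset.range r, ξ ^ i * ζ ^ (r - 1 - i)) := by
    rw [← IsLocalRing.residue_ne_zero_iff_isUnit]
    simp only [map_sum, map_mul, map_pow, hres]
    rw [geom_sum₂_self]
    exact mul_ne_zero (by
        rw [← map_natCast (IsLocalRing.residue R)]
        exact (IsLocalRing.residue_ne_zero_iff_isUnit _).2 hr)
      (pow_ne_zero _ ((IsLocalRing.residue_ne_zero_iff_isUnit _).2 hζu))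
  exact sub_eq_zero.1 (hs.mul_right_eq_zero.1 key)

end Groth.Agent.S18431
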