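import Groth.Statements.S18432
import Groth.Agent.L01.NodeCanon
import Mathlib.LinearAlgebra.Matrix.ToLin
import Mathlib.LinearAlgebra.Dimension.Constructions
import Mathlib.LinearAlgebra.FiniteDimensional.Basic

set_option autoImplicit false
universe u
open SpinCurv

namespace Groth.Agent.S18432

variable {_unused : Unit}
open SpinCurv Groth.L01.NodeCanon

section
variable {R : Type u} [CommRing R]

theorem alpha_mulVec (p q : R) (a b : NodeRing R (p * q)) : Matrix.mulVec (nodeAlpha R p q) ![a, b] =
    ![NodeRing.x R (p * q) * a + algebraMap R _ p * b, algebraMap R _ q * a + NodeRing.y R (p * q) * b] := by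
  funext i
  fin_cases i <;> simp [nodeAlpha, Matrix.mulVec, dotProduct, Fin.sum_univ_two]

theorem xy_eq (π : R) : NodeRing.x R π * NodeRing.y R π = algebraMap R (NodeRing R π) π := by
  show Ideal.Quotient.mk _ _ * Ideal.Quotient.mk _ _ = Ideal.Quotient.mk _ (MvPowerSeries.C π)
  rw [← map_mul]
  exact Ideal.Quotient.eq.mpr (Ideal.mem_span_singleton_self _)

theorem ofX_map (π : R) : ∃ h : PowerSeries R →+* NodeRing R π, (∀ f, NodeRing.ofX R π f = h f) ∧
    (∀ c, h (PowerSeries.C c) = algebraMap R _ c) ∧ h PowerSeries.X = NodeRing.x R π :=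
  ⟨(Ideal.Quotient.mk _).comp (PowerSeries.toMvPowerSeries (σ := Fin 2) 0).toRingHom, fun _ => rfl,
    fun c => congrArg (Ideal.Quotient.mk _) (PowerSeries.toMvPowerSeries_C 0 c),
    congrArg (Ideal.Quotient.mk _) (PowerSeries.toMvPowerSeries_X 0)⟩

theorem ofY_map (π : R) : ∃ h : PowerSeries R →+* NodeRing R π, (∀ f, NodeRing.ofY R π f = h f) ∧
    (∀ c, h (PowerSeries.C c) = algebraMap R _ c) ∧ h PowerSeries.X = NodeRing.y R π :=
  ⟨(Ideal.Quotient.mk _).comp (PowerSeries.toMvPowerSeries (σ := Fin 2) 1).toRingHom, fun _ => rfl,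
    fun c => congrArg (Ideal.Quotient.mk _) (PowerSeries.toMvPowerSeries_C 1 c),
    congrArg (Ideal.Quotient.mk _) (PowerSeries.toMvPowerSeries_X 1)⟩

theorem ofX_add_C_mul (π c : R) (f f' : PowerSeries R) :
    NodeRing.ofX R π (f + PowerSeries.C c * f') = NodeRing.ofX R π f + algebraMap R _ c * NodeRing.ofX R π f' := by
  obtain ⟨h, hh, hC, -⟩ := ofX_map π
  rw [hh, hh, hh, map_add, map_mul, hC]

theorem ofY_add_C_mul (π c : R) (f f' : PowerSeries R) :
    NodeRing.ofY R π (f + PowerSeries.C c * f') = NodeRing.ofY R π f + algebraMap R _ c * NodeRing.ofY R π f' := by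
  obtain ⟨h, hh, hC, -⟩ := ofY_map π
  rw [hh, hh, hh, map_add, map_mul, hC]

theorem core [IsLocalRing R] [IsNoetherianRing R] (p q : R) (hpq : p * q ∈ IsLocalRing.maximalIdeal R) (F G : PowerSeries R)
    (h0 : NodeRing.x R (p * q) * NodeRing.ofX R (p * q) F + algebraMap R _ p * NodeRing.ofY R (p * q) G = 0)
    (h1 : algebraMap R _ q * NodeRing.ofX R (p * q) F + NodeRing.y R (p * q) * NodeRing.ofY R (p * q) G = 0) :
    F = 0 ∧ G = 0 := by
  obtain ⟨hx, hxx, hxC, hxX⟩ := ofX_map (R := R) (p * q)
  obtain ⟨hy, hyy, hyC, -⟩ := ofY_map (R := R) (p * q)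
  have e : NodeRing.ofX R (p * q) (PowerSeries.C q * F) = algebraMap R _ q * NodeRing.ofX R (p * q) F := by
    rw [hxx, hxx, map_mul hx, hxC]
  have hG := (eq_zero_of_normalForm hpq (e ▸ h1)).2
  subst hG
  have h2 : NodeRing.ofX R (p * q) (PowerSeries.X * F) + NodeRing.y R (p * q) * NodeRing.ofY R (p * q) 0 = 0 := by
    rw [hxx, hyy, map_mul hx, hxX, map_zero hy, mul_zero, add_zero]
    rw [hxx, hyy, map_zero hy, mul_zero, add_zero] at h0
    exact h0
  refine ⟨PowerSeries.ext fun i => ?_, rfl⟩
  simpa using congrArg (PowerSeries.coeff (i + 1)) (eq_zero_of_normalForm hpq h2).1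

end

open SpinCurv in

/-- Let R be a complete Noetherian local ring, p, q elements of its maximal ideal, A = R[[x, y]]/(xy -
pq), and α(p, q) the A-linear endomorphism of A² with matrix (x p; q y), sending a column (a, b) to
(x a + p b, q a + y b). Then the kernel of α(p, q) is the submodule of A² generated by the columns
(p, -x) and (y, -q); equivalently the image of α(p, q) (the standard rank-one torsion-free module
E(p, q)) is presented by two generators ξ, v with the relations p ξ = x v and y ξ = q v. -/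
theorem result (R : Type u) [CommRing R] [IsNoetherianRing R] [IsLocalRing R]
    [IsAdicComplete (IsLocalRing.maximalIdeal R) R]
    (p q : R) (hp : p ∈ IsLocalRing.maximalIdeal R) (hq : q ∈ IsLocalRing.maximalIdeal R) :
    LinearMap.ker (Matrix.mulVecLin (SpinCurv.nodeAlpha R p q)) =
      Submodule.span (SpinCurv.NodeRing R (p * q))
        {![algebraMap R (SpinCurv.NodeRing R (p * q)) p, -SpinCurv.NodeRing.x R (p * q)],
         ![SpinCurv.NodeRing.y R (p * q), -algebraMap R (SpinCurv.NodeRing R (p * q)) q]} := by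
  have hxy := xy_eq (R := R) (p * q)
  replace hxy := hxy.trans (map_mul (algebraMap R (NodeRing R (p * q))) p q)
  have hpq : p * q ∈ IsLocalRing.maximalIdeal R := Ideal.mul_mem_right q _ hp
  refine le_antisymm (fun v hv => ?_) (Submodule.span_le.mpr ?_)
  · obtain ⟨f, g, ha⟩ := exists_normalForm hpq (v 0)
    obtain ⟨f', g', hb⟩ := exists_normalForm' hpq (v 1)
    have hv' : v = ![v 0, v 1] := by funext i; fin_cases i <;> rfl
    rw [LinearMap.mem_ker, Matrix.mulVecLin_apply, hv', ha, hb, alpha_mulVec] at hv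
    have h0 := congrFun hv 0
    have h1 := congrFun hv 1
    simp only [Matrix.cons_val_zero, Matrix.cons_val_one, Matrix.cons_val_fin_one, Pi.zero_apply] at h0 h1
    obtain ⟨hF, hG⟩ := core p q hpq (f + PowerSeries.C p * f') (g' + PowerSeries.C q * g)
      (by rw [ofX_add_C_mul, ofY_add_C_mul]; linear_combination h0 + (-(NodeRing.ofY R (p * q) g)) * hxy)
      (by rw [ofX_add_C_mul, ofY_add_C_mul]; linear_combination h1 + (-(NodeRing.ofX R (p * q) f')) * hxy)
    have e1 : NodeRing.ofX R (p * q) f + algebraMap R _ p * NodeRing.ofX R (p * q) f' = 0 := by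
      obtain ⟨hx, hxx, -, -⟩ := ofX_map (R := R) (p * q)
      rw [← ofX_add_C_mul, hF, hxx, map_zero]
    have e2 : NodeRing.ofY R (p * q) g' + algebraMap R _ q * NodeRing.ofY R (p * q) g = 0 := by
      obtain ⟨hy, hyy, -, -⟩ := ofY_map (R := R) (p * q)
      rw [← ofY_add_C_mul, hG, hyy, map_zero]
    refine Submodule.mem_span_pair.mpr ⟨-NodeRing.ofX R (p * q) f', NodeRing.ofY R (p * q) g, ?_⟩
    funext i
    fin_cases i
    · simp only [Fin.zero_eta, Pi.add_apply, Pi.smul_apply, Matrix.cons_val_zero, smul_eq_mul]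
      linear_combination (-1 : NodeRing R (p * q)) * ha - e1
    · simp only [Fin.mk_one, Pi.add_apply, Pi.smul_apply, Matrix.cons_val_one, Matrix.cons_val_fin_one, smul_eq_mul]
      linear_combination (-1 : NodeRing R (p * q)) * hb - e2
  · rintro _ (rfl | rfl) <;>
    · rw [SetLike.mem_coe, LinearMap.mem_ker, Matrix.mulVecLin_apply, alpha_mulVec]
      funext i
      fin_cases i <;> simp only [Fin.zero_eta, Fin.mk_one, Matrix.cons_val_zero, Matrix.cons_val_one, Matrix.cons_val_fin_one, Pi.zero_apply] <;>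
        first | (linear_combination hxy) | (linear_combination -hxy) | (linear_combination)

end Groth.Agent.S18432
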