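import Groth.Statements.S18433
import Groth.Agent.L01.NodeCanon
import Mathlib.LinearAlgebra.Matrix.ToLin
import Mathlib.LinearAlgebra.Dimension.Constructions
import Mathlib.LinearAlgebra.FiniteDimensional.Basic

set_option autoImplicit false
universe u
open SpinCurv

namespace Groth.Agent.S18433

variable {_unused : Unit}
open SpinCurv Groth.L01.NodeCanon

section
variable {R : Type u} [CommRing R]

theorem alpha_mulVec (p q : R) (a b : NodeRing R (p * q)) : Matrix.mulVec (nodeAlpha R p q) ![a, b] =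
    ![NodeRing.x R (p * q) * a + algebraMap R _ p * b, algebraMap R _ q * a + NodeRing.y R (p * q) * b] := by
  funext i
  fin_cases i <;> simp [nodeAlpha, Matrix.mulVec, dotProduct, Fin.sum_univ_two]

theorem xy_eq (π : R) : NodeRing.x R π * NodeRing.y R π = algebraMap R (NodeRing R π) π := by
  show Ideal.Quotient.mk _ _ * Ideal.Quotient.mk _ _ = Ideal.Quotient.mk _ (MvPowerSeries.C π)
  rw [← map_mul]
  exact Ideal.Quotient.eq.mpr (Ideal.mem_span_singleton_self _)

theorem ofX_map (π : R) : ∃ h : PowerSeries R →+* NodeRing R π, (∀ f, NodeRing.ofX R π f = h f) ∧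
    (∀ c, h (PowerSeries.C c) = algebraMap R _ c) ∧ h PowerSeries.X = NodeRing.x R π :=
  ⟨(Ideal.Quotient.mk _).comp (PowerSeries.toMvPowerSeries (σ := Fin 2) 0).toRingHom, fun _ => rfl,
    fun c => congrArg (Ideal.Quotient.mk _) (PowerSeries.toMvPowerSeries_C 0 c),
    congrArg (Ideal.Quotient.mk _) (PowerSeries.toMvPowerSeries_X 0)⟩

theorem ofY_map (π : R) : ∃ h : PowerSeries R →+* NodeRing R π, (∀ f, NodeRing.ofY R π f = h f) ∧
    (∀ c, h (PowerSeries.C c) = algebraMap R _ c) ∧ h PowerSeries.X = NodeRing.y R π :=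
  ⟨(Ideal.Quotient.mk _).comp (PowerSeries.toMvPowerSeries (σ := Fin 2) 1).toRingHom, fun _ => rfl,
    fun c => congrArg (Ideal.Quotient.mk _) (PowerSeries.toMvPowerSeries_C 1 c),
    congrArg (Ideal.Quotient.mk _) (PowerSeries.toMvPowerSeries_X 1)⟩

theorem ofX_add_C_mul (π c : R) (f f' : PowerSeries R) :
    NodeRing.ofX R π (f + PowerSeries.C c * f') = NodeRing.ofX R π f + algebraMap R _ c * NodeRing.ofX R π f' := by
  obtain ⟨h, hh, hC, -⟩ := ofX_map π
  rw [hh, hh, hh, map_add, map_mul, hC]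

theorem ofY_add_C_mul (π c : R) (f f' : PowerSeries R) :
    NodeRing.ofY R π (f + PowerSeries.C c * f') = NodeRing.ofY R π f + algebraMap R _ c * NodeRing.ofY R π f' := by
  obtain ⟨h, hh, hC, -⟩ := ofY_map π
  rw [hh, hh, hh, map_add, map_mul, hC]

theorem core [IsLocalRing R] [IsNoetherianRing R] (p q : R) (hpq : p * q ∈ IsLocalRing.maximalIdeal R) (F G : PowerSeries R)
    (h0 : NodeRing.x R (p * q) * NodeRing.ofX R (p * q) F + algebraMap R _ p * NodeRing.ofY R (p * q) G = 0)
    (h1 : algebraMap R _ q * NodeRing.ofX R (p * q) F + NodeRing.y R (p * q) * NodeRing.ofY R (p * q) G = 0) :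
    F = 0 ∧ G = 0 := by
  obtain ⟨hx, hxx, hxC, hxX⟩ := ofX_map (R := R) (p * q)
  obtain ⟨hy, hyy, hyC, -⟩ := ofY_map (R := R) (p * q)
  have e : NodeRing.ofX R (p * q) (PowerSeries.C q * F) = algebraMap R _ q * NodeRing.ofX R (p * q) F := by
    rw [hxx, hxx, map_mul hx, hxC]
  have hG := (eq_zero_of_normalForm hpq (e ▸ h1)).2
  subst hG
  have h2 : NodeRing.ofX R (p * q) (PowerSeries.X * F) + NodeRing.y R (p * q) * NodeRing.ofY R (p * q) 0 = 0 := by
    rw [hxx, hyy, map_mul hx, hxX, map_zero hy, mul_zero, add_zero]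
    rw [hxx, hyy, map_zero hy, mul_zero, add_zero] at h0
    exact h0
  refine ⟨PowerSeries.ext fun i => ?_, rfl⟩
  simpa using congrArg (PowerSeries.coeff (i + 1)) (eq_zero_of_normalForm hpq h2).1

end

open SpinCurv in

/-- Let R be a complete Noetherian local ring, p, q elements of its maximal ideal, A = R[[x, y]]/(xy -
pq), and α(p, q) the endomorphism (a, b) ↦ (x a + p b, q a + y b) of A². Restrict α(p, q) to pairs
(f, g) with f a power series in x alone and g a power series in y alone: the resulting map R[[x]] ×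
R[[y]] → A², (f, g) ↦ (x f + p g, q f + y g), is injective and has the same image as α(p, q). Thus
the image E(p, q) of α(p, q) is identified, R-linearly, with R[[x]] ⊕ R[[y]]. -/
theorem result (R : Type u) [CommRing R] [IsNoetherianRing R] [IsLocalRing R]
    [IsAdicComplete (IsLocalRing.maximalIdeal R) R]
    (p q : R) (hp : p ∈ IsLocalRing.maximalIdeal R) (hq : q ∈ IsLocalRing.maximalIdeal R) :
    Function.Injective (fun fg : PowerSeries R × PowerSeries R =>
        Matrix.mulVec (SpinCurv.nodeAlpha R p q)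
          ![SpinCurv.NodeRing.ofX R (p * q) fg.1, SpinCurv.NodeRing.ofY R (p * q) fg.2]) ∧
    Set.range (fun fg : PowerSeries R × PowerSeries R =>
        Matrix.mulVec (SpinCurv.nodeAlpha R p q)
          ![SpinCurv.NodeRing.ofX R (p * q) fg.1, SpinCurv.NodeRing.ofY R (p * q) fg.2]) =
      Set.range (Matrix.mulVec (SpinCurv.nodeAlpha R p q)) := by
  have hxy := xy_eq (R := R) (p * q)
  replace hxy := hxy.trans (map_mul (algebraMap R (NodeRing R (p * q))) p q)
  have hpq : p * q ∈ IsLocalRing.maximalIdeal R := Ideal.mul_mem_right q _ hp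
  obtain ⟨hx, hxx, hxC, hxX⟩ := ofX_map (R := R) (p * q)
  obtain ⟨hy, hyy, hyC, hyX⟩ := ofY_map (R := R) (p * q)
  refine ⟨fun s t h => ?_, Set.ext fun w => ⟨?_, ?_⟩⟩
  · simp only [alpha_mulVec] at h
    have h0 := congrFun h 0
    have h1 := congrFun h 1
    simp only [Matrix.cons_val_zero, Matrix.cons_val_one, Matrix.cons_val_fin_one] at h0 h1
    obtain ⟨hF, hG⟩ := core p q hpq (s.1 - t.1) (s.2 - t.2)
      (by simp only [hxx, hyy, map_sub] at h0 ⊢; linear_combination h0)
      (by simp only [hxx, hyy, map_sub] at h1 ⊢; linear_combination h1)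
    exact Prod.ext (sub_eq_zero.mp hF) (sub_eq_zero.mp hG)
  · rintro ⟨fg, rfl⟩
    exact ⟨_, rfl⟩
  · rintro ⟨v, rfl⟩
    obtain ⟨f, g, ha⟩ := exists_normalForm hpq (v 0)
    obtain ⟨f', g', hb⟩ := exists_normalForm' hpq (v 1)
    refine ⟨(f + PowerSeries.C p * f', g' + PowerSeries.C q * g), ?_⟩
    conv_rhs => rw [show v = ![v 0, v 1] from by funext i; fin_cases i <;> rfl, ha, hb]
    simp only [alpha_mulVec, ofX_add_C_mul, ofY_add_C_mul]
    funext i
    fin_cases i
    · show _ = _
      simp only [Fin.zero_eta, Matrix.cons_val_zero]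
      linear_combination (-(NodeRing.ofY R (p * q) g)) * hxy
    · show _ = _
      simp only [Fin.mk_one, Matrix.cons_val_one, Matrix.cons_val_fin_one]
      linear_combination (-(NodeRing.ofX R (p * q) f')) * hxy

end Groth.Agent.S18433
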