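import Groth.Statements.S18434
import Groth.Agent.L01.NodeCanon
import Mathlib.LinearAlgebra.Matrix.ToLin
import Mathlib.LinearAlgebra.Dimension.Constructions
import Mathlib.LinearAlgebra.FiniteDimensional.Basic

set_option autoImplicit false
universe u
open SpinCurv

namespace Groth.Agent.S18434

variable {_unused : Unit}
open SpinCurv Groth.L01.NodeCanon Groth.L01.NodeUnits
open SpinCurv in

/-- Let k be a field, u, v ≥ 1 integers and w ∈ k nonzero. In the ring A = k[[x, y]]/(xy), the quotient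
A/(x^u, w y^v) has dimension u + v - 1 over k (a basis is 1, x, …, x^{u-1}, y, …, y^{v-1}); this is
the length of the cokernel at the node of a map whose image is generated by x^u and w y^v. -/
theorem result (k : Type u) [Field k] (u v : ℕ) (hu : 1 ≤ u) (hv : 1 ≤ v)
    (w : k) (hw : w ≠ 0) :
    Module.finrank k (SpinCurv.NodeRing k 0 ⧸
      Ideal.span {SpinCurv.NodeRing.x k 0 ^ u, algebraMap k (SpinCurv.NodeRing k 0) w * SpinCurv.NodeRing.y k 0 ^ v}) =
      u + v - 1 := by
  haveI : IsPrecomplete (IsLocalRing.maximalIdeal k) k := by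
    rw [show IsLocalRing.maximalIdeal k = ⊥ from IsLocalRing.isField_iff_maximalIdeal_eq.mp (Field.toIsField k)]
    infer_instance
  let L : MvPowerSeries (Fin 2) k →ₗ[k] (Fin u → k) × (Fin (v - 1) → k) :=
    (LinearMap.pi fun i : Fin u => MvPowerSeries.coeff (R := k) (ex (i : ℕ) 0)).prod
      (LinearMap.pi fun i : Fin (v - 1) => MvPowerSeries.coeff (R := k) (ex 0 ((i : ℕ) + 1)))
  have hL : Function.Surjective L := fun w' => by
    classical
    refine ⟨canon (fun i => if h : 0 < i ∧ i - 1 < v - 1 then w'.2 ⟨i - 1, h.2⟩ else if h' : i = 0 then w'.1 ⟨0, hu⟩ else 0)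
      (fun j => if h : j < u then w'.1 ⟨j, h⟩ else 0), Prod.ext (funext fun i => ?_) (funext fun i => ?_)⟩
    · simp only [L, LinearMap.prod_apply, Function.prod, LinearMap.pi_apply]
      rw [coeff_canon]
      have hi : (i : ℕ) < u := i.2
      split_ifs <;> first | rfl | omega | (exact congrArg w'.1 (Fin.ext (by simp; omega))) | (exact congrArg w'.1 (Fin.ext (by omega))) | (exfalso; omega)
    · simp only [L, LinearMap.prod_apply, Function.prod, LinearMap.pi_apply]
      rw [coeff_canon, if_pos rfl, dif_pos ⟨Nat.succ_pos _, by simp⟩]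
      rfl
  set I := Ideal.span {NodeRing.x k 0 ^ u, algebraMap k (NodeRing k 0) w * NodeRing.y k 0 ^ v}
  let M : MvPowerSeries (Fin 2) k →ₗ[k] NodeRing k 0 ⧸ I :=
    ((Ideal.Quotient.mkₐ k I).comp (Ideal.Quotient.mkₐ k _)).toLinearMap
  have hM : Function.Surjective M := (Ideal.Quotient.mk_surjective (I := I)).comp Ideal.Quotient.mk_surjective
  have hwu : IsUnit (algebraMap k (NodeRing k 0) w) := (isUnit_iff_ne_zero.mpr hw).map _
  have hker : LinearMap.ker M = LinearMap.ker L := by
    ext F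
    constructor
    · intro hF
      have hF' : Ideal.Quotient.mk _ F ∈ I := Ideal.Quotient.eq_zero_iff_mem.mp hF
      obtain ⟨s, t, hst⟩ := Ideal.mem_span_pair.mp hF'
      obtain ⟨s, rfl⟩ := Ideal.Quotient.mk_surjective s
      obtain ⟨t, rfl⟩ := Ideal.Quotient.mk_surjective t
      rw [← map_pow, ← map_pow, ← mul_assoc, show algebraMap k (NodeRing k 0) w = Ideal.Quotient.mk _ (MvPowerSeries.C w) from rfl,
        ← map_mul, ← map_mul, ← map_mul, ← map_add, Ideal.Quotient.eq] at hst
      obtain ⟨z, hz⟩ := Ideal.mem_span_singleton'.mp hst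
      have hzero : ∀ D : Fin 2 →₀ ℕ, D 0 < u → D 1 < v → (D 0 = 0 ∨ D 1 = 0) → MvPowerSeries.coeff D F = 0 := by
        intro D hD0 hD1 hor
        rw [show F = MvPowerSeries.X 0 ^ u * s + MvPowerSeries.X 1 ^ v * (t * MvPowerSeries.C w) -
          MvPowerSeries.X 0 * (z * MvPowerSeries.X 1) by rw [map_zero, sub_zero] at hz; linear_combination hz, map_sub, map_add,
          MvPowerSeries.X_pow_dvd_iff.mp (dvd_mul_right _ _) D hD0, MvPowerSeries.X_pow_dvd_iff.mp (dvd_mul_right _ _) D hD1,
          zero_add, zero_sub, neg_eq_zero]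
        rcases hor with h | h
        · exact MvPowerSeries.X_dvd_iff.mp (dvd_mul_right _ _) D h
        · exact MvPowerSeries.X_dvd_iff.mp ⟨MvPowerSeries.X 0 * z, by ring⟩ D h
      rw [LinearMap.mem_ker]
      refine Prod.ext (funext fun i => hzero _ ?_ ?_ ?_) (funext fun i => hzero _ ?_ ?_ ?_) <;>
        simp [ex, -not_lt] <;> omega
    · intro hF
      rw [LinearMap.mem_ker] at hF
      obtain ⟨f, g, hfg⟩ := exists_normalForm (π := (0 : k)) (Ideal.zero_mem _) (Ideal.Quotient.mk _ F)
      have hF0 := hfg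
      rw [← map_mul, ← map_add, Ideal.Quotient.eq, ← canon_eq] at hF0
      obtain ⟨z, hz⟩ := Ideal.mem_span_singleton'.mp hF0
      have hcoef : ∀ D : Fin 2 →₀ ℕ, (D 0 = 0 ∨ D 1 = 0) → MvPowerSeries.coeff D F = MvPowerSeries.coeff D
          (canon (fun i => if i = 0 then PowerSeries.coeff 0 f else PowerSeries.coeff (i - 1) g) (fun j => PowerSeries.coeff j f)) := by
        intro D hor
        rw [← sub_eq_zero, ← map_sub, ← hz, map_zero, sub_zero]
        rcases hor with h | h
        · exact MvPowerSeries.X_dvd_iff.mp ⟨z * MvPowerSeries.X 1, by ring⟩ D h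
        · exact MvPowerSeries.X_dvd_iff.mp ⟨z * MvPowerSeries.X 0, by ring⟩ D h
      obtain ⟨f', rfl⟩ : PowerSeries.X ^ u ∣ f := PowerSeries.X_pow_dvd_iff.mpr fun i hi => by
        have h := congrFun (congrArg Prod.fst hF) ⟨i, hi⟩
        rw [show (L F).1 ⟨i, hi⟩ = MvPowerSeries.coeff (ex i 0) F from rfl, hcoef _ (Or.inr (ex_apply i 0).2), coeff_canon] at h
        rcases Nat.eq_zero_or_pos i with rfl | hi0
        · simpa using h
        · simpa [hi0.ne'] using h
      obtain ⟨g', rfl⟩ : PowerSeries.X ^ (v - 1) ∣ g := PowerSeries.X_pow_dvd_iff.mpr fun i hi => by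
        have h := congrFun (congrArg Prod.snd hF) ⟨i, hi⟩
        rw [show (L F).2 ⟨i, hi⟩ = MvPowerSeries.coeff (ex 0 (i + 1)) F from rfl, hcoef _ (Or.inl (ex_apply 0 (i + 1)).1), coeff_canon] at h
        simpa using h
      refine Ideal.Quotient.eq_zero_iff_mem.mpr ?_
      show Ideal.Quotient.mk _ F ∈ I
      rw [hfg, NodeRing.ofX, NodeRing.ofY]
      simp only [map_mul, map_pow, PowerSeries.toMvPowerSeries_X]
      refine Ideal.mem_span_pair.mpr ⟨NodeRing.ofX k 0 f', NodeRing.ofY k 0 g' * ↑hwu.unit⁻¹, ?_⟩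
      have hu' : (↑hwu.unit⁻¹ : NodeRing k 0) * algebraMap k (NodeRing k 0) w = 1 := hwu.val_inv_mul
      have hpow : NodeRing.y k 0 * NodeRing.y k 0 ^ (v - 1) = NodeRing.y k 0 ^ v := by
        rw [← pow_succ', Nat.sub_add_cancel hv]
      show _ = _
      linear_combination (NodeRing.ofY k 0 g' * NodeRing.y k 0 ^ v) * hu' - NodeRing.ofY k 0 g' * hpow
  rw [← ((LinearMap.quotKerEquivOfSurjective L hL).symm ≪≫ₗ Submodule.quotEquivOfEq _ _ hker.symm ≪≫ₗ
    LinearMap.quotKerEquivOfSurjective M hM).finrank_eq, Module.finrank_prod, Module.finrank_fin_fun, Module.finrank_fin_fun]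
  omega

end Groth.Agent.S18434
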