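import Groth.Statements.S18435
import Groth.Agent.L01.PolyNodeBasis
import Mathlib.LinearAlgebra.FreeModule.Basic
import Mathlib.Algebra.Module.Submodule.RestrictScalars

set_option autoImplicit false
universe u
open SpinCurv

namespace Groth.Agent.S18435

variable {_unused : Unit}
open SpinCurv Groth.L01.PolyNodeBasis
open SpinCurv in

/-- Let k be a field and A = k[x, y]/(xy) the node, with the two affine charts U = Spec k[s, y]/(sy) and
V = Spec k[t, x]/(tx) of the curve obtained by the (p, q)-construction with p = q = 0, glued along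
k[s, s⁻¹] by t = s⁻¹ (y ↦ 0 from U, x ↦ 0 from V), and with A → O(U) given by x ↦ 0, y ↦ y and A →
O(V) by x ↦ x, y ↦ 0. A global section of O(1) is a pair (g, f) with g = s f on U ∩ V. If such a
pair is annihilated by both x and y (acting through the two restriction maps), then g = 0 and f = 0;
so the module of global sections of O(1) has no nonzero element killed by the maximal ideal (x, y),
i.e. its direct image on the node is torsion-free there. All three coordinate rings are written as
the quotient of the polynomial ring in two variables by the product of the variables, and the four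
restriction homomorphisms are k-algebra maps pinned by their values on generators. (The published
proof reduces the torsion-freeness of the direct image of O(1), for general R, p, q, to exactly this
case of a field with p = q = 0.) -/
theorem result (k : Type u) [Field k]
    (rU : SpinCurv.PolyNodeRing k 0 →ₐ[k] SpinCurv.PolyNodeRing k 0)
    (hrUx : rU (SpinCurv.PolyNodeRing.x k 0) = 0)
    (hrUy : rU (SpinCurv.PolyNodeRing.y k 0) = SpinCurv.PolyNodeRing.y k 0)
    (rV : SpinCurv.PolyNodeRing k 0 →ₐ[k] SpinCurv.PolyNodeRing k 0)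
    (hrVx : rV (SpinCurv.PolyNodeRing.x k 0) = SpinCurv.PolyNodeRing.y k 0)
    (hrVy : rV (SpinCurv.PolyNodeRing.y k 0) = 0)
    (gU : SpinCurv.PolyNodeRing k 0 →ₐ[k] LaurentPolynomial k)
    (hgUs : gU (SpinCurv.PolyNodeRing.x k 0) = LaurentPolynomial.T 1)
    (hgUy : gU (SpinCurv.PolyNodeRing.y k 0) = 0)
    (gV : SpinCurv.PolyNodeRing k 0 →ₐ[k] LaurentPolynomial k)
    (hgVt : gV (SpinCurv.PolyNodeRing.x k 0) = LaurentPolynomial.T (-1))
    (hgVx : gV (SpinCurv.PolyNodeRing.y k 0) = 0)
    (g f : SpinCurv.PolyNodeRing k 0) (hsec : gU g = LaurentPolynomial.T 1 * gV f)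
    (hx : rU (SpinCurv.PolyNodeRing.x k 0) * g = 0 ∧ rV (SpinCurv.PolyNodeRing.x k 0) * f = 0)
    (hy : rU (SpinCurv.PolyNodeRing.y k 0) * g = 0 ∧ rV (SpinCurv.PolyNodeRing.y k 0) * f = 0) :
    g = 0 ∧ f = 0 := by
  have hU := map_chart (0 : k) gU 1 (Or.inl rfl) hgUs (by rw [hgUy]; simp) g
  have hV := map_chart (0 : k) gV (-1) (Or.inr rfl) hgVt (by rw [hgVx]; simp) f
  have hkill : ∀ z : PolyNodeRing k 0, PolyNodeRing.y k 0 * z = 0 → ∀ m : ℤ, m ≤ 0 → E (0 : k) z m = 0 := by
    intro z hz m hm
    have key : ∀ z : PolyNodeRing k 0, E (0 : k) (PolyNodeRing.y k 0 * z) (m - 1) = E (0 : k) z m := by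
      intro z
      induction z using induction with
      | h0 => simp
      | hadd a b ha hb => rw [mul_add, map_add, map_add, Finsupp.add_apply, Finsupp.add_apply, ha, hb]
      | hsingle c n =>
        have hy : PolyNodeRing.y k 0 * e (0 : k) n = if n ≤ 0 then e (0 : k) (n - 1) else 0 := by
          by_cases h : n ≤ 0
          · rw [if_pos h]
            obtain ⟨j, rfl⟩ : ∃ j : ℕ, n = -(j : ℤ) := ⟨(-n).toNat, by omega⟩
            rw [e_neg, show -(j : ℤ) - 1 = -((j + 1 : ℕ) : ℤ) by push_cast; ring, e_neg, pow_succ']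
          · rw [if_neg h]
            obtain ⟨j, rfl⟩ : ∃ j : ℕ, n = ((j + 1 : ℕ) : ℤ) := ⟨n.toNat - 1, by omega⟩
            rw [e_natCast, pow_succ', ← mul_assoc, mul_comm (PolyNodeRing.y k 0), x_mul_y, map_zero (algebraMap k (PolyNodeRing k 0)), zero_mul]
        rw [mul_smul_comm, map_smul, map_smul, Finsupp.smul_apply, Finsupp.smul_apply, hy, E_e]
        congr 1
        by_cases h : n ≤ 0
        · rw [if_pos h, E_e, Finsupp.single_apply, Finsupp.single_apply]
          exact if_congr (by omega) rfl rfl
        · rw [if_neg h, map_zero, Finsupp.single_apply, if_neg (show ¬ n = m by omega)]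
          rfl
    rw [← key z, hz]; simp
  have hg := hkill g (by rw [← hrUy]; exact hy.1)
  have hf := hkill f (by rw [← hrVx]; exact hx.2)
  have h : ∀ m, (0 : k) ^ (-m).toNat * E (0 : k) g m = 0 ^ (m - 1).toNat * E (0 : k) f (1 - m) := fun m => by
    have h1 := congrArg (fun F : LaurentPolynomial k => F.coeff m) hsec
    simp only [coeff_T_mul, hU, hV, one_mul] at h1
    simpa using h1
  have hg0 : ∀ m, E (0 : k) g m = 0 := fun m => by
    by_cases hm : m ≤ 0
    · exact hg m hm
    · have := h m
      rw [show (-m).toNat = 0 by omega, pow_zero, one_mul, hf (1 - m) (by omega), mul_zero] at this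
      exact this
  have hf0 : ∀ m, E (0 : k) f m = 0 := fun m => by
    by_cases hm : m ≤ 0
    · exact hf m hm
    · have := h (1 - m)
      rw [hg0, mul_zero, show (1 - m - 1).toNat = 0 by omega, pow_zero, one_mul, sub_sub_cancel] at this
      exact this.symm
  exact ⟨(E (0 : k)).injective ((Finsupp.ext hg0 : E (0 : k) g = 0).trans (map_zero (E (0 : k))).symm),
    (E (0 : k)).injective ((Finsupp.ext hf0 : E (0 : k) f = 0).trans (map_zero (E (0 : k))).symm)⟩

end Groth.Agent.S18435
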