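import Groth.Statements.S18436
import Groth.Agent.L01.PolyNodeBasis
import Mathlib.LinearAlgebra.FreeModule.Basic
import Mathlib.Algebra.Module.Submodule.RestrictScalars

set_option autoImplicit false
universe u
open SpinCurv

namespace Groth.Agent.S18436

variable {_unused : Unit}
open SpinCurv Groth.L01.PolyNodeBasis
open SpinCurv in

/-- Let R be a commutative ring and p, q ∈ R, and consider the two affine charts U = Spec R[s, y]/(sy -
q) and V = Spec R[t, x]/(xt - p) of the curve obtained from the node xy = pq by the (p,
q)-construction, glued along R[s, s⁻¹] by t = s⁻¹ (so y = q s⁻¹ on U and x = p s on V). For an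
integer n ≥ -1 the global sections of the twisting sheaf O(n) (equal to vⁿ O on U and to ξⁿ O on V,
ξ = s v) are the pairs (g, f) of functions on U and V with g = sⁿ f on U ∩ V. This R-module, written
as the kernel of the R-linear map (g, f) ↦ g|_{U ∩ V} - sⁿ · f|_{U ∩ V} into R[s, s⁻¹], is free over
R (hence the direct image of O(n) on the node is flat over R). Both chart rings are written as the
quotient of the polynomial ring in two variables by (first variable)·(second variable) - constant,
and the two restriction homomorphisms to R[s, s⁻¹] are R-algebra maps pinned by their values on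
generators. (The published setting has R complete local and p, q in the maximal ideal; the printed
computation uses neither.) -/
theorem result (R : Type u) [CommRing R] (p q : R)
    (gU : SpinCurv.PolyNodeRing R q →ₐ[R] LaurentPolynomial R)
    (hgUs : gU (SpinCurv.PolyNodeRing.x R q) = LaurentPolynomial.T 1)
    (hgUy : gU (SpinCurv.PolyNodeRing.y R q) = LaurentPolynomial.C q * LaurentPolynomial.T (-1))
    (gV : SpinCurv.PolyNodeRing R p →ₐ[R] LaurentPolynomial R)
    (hgVt : gV (SpinCurv.PolyNodeRing.x R p) = LaurentPolynomial.T (-1))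
    (hgVx : gV (SpinCurv.PolyNodeRing.y R p) = LaurentPolynomial.C p * LaurentPolynomial.T 1)
    (n : ℤ) (hn : -1 ≤ n) :
    Module.Free R (LinearMap.ker
      (gU.toLinearMap.comp (LinearMap.fst R (SpinCurv.PolyNodeRing R q) (SpinCurv.PolyNodeRing R p)) -
        (LinearMap.mulLeft R (LaurentPolynomial.T n)).comp
          (gV.toLinearMap.comp (LinearMap.snd R (SpinCurv.PolyNodeRing R q) (SpinCurv.PolyNodeRing R p))))) := by
  set L := gU.toLinearMap.comp (LinearMap.fst R (SpinCurv.PolyNodeRing R q) (SpinCurv.PolyNodeRing R p)) -
        (LinearMap.mulLeft R (LaurentPolynomial.T n)).comp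
          (gV.toLinearMap.comp (LinearMap.snd R (SpinCurv.PolyNodeRing R q) (SpinCurv.PolyNodeRing R p)))
  have hmem : ∀ z, z ∈ LinearMap.ker L ↔ gU z.1 = LaurentPolynomial.T n * gV z.2 := fun z => by
    rw [LinearMap.mem_ker]; exact sub_eq_zero
  refine Module.Free.of_equiv (LinearEquiv.ofBijective
    ((Φ p q n).codRestrict _ fun h => (hmem _).mpr (Φ_mem p q n gU hgUs hgUy gV hgVt hgVx h)) ⟨fun a b h => ?_, fun z => ?_⟩)
  · exact Φ_injective p q n hn (congrArg Subtype.val h)
  · obtain ⟨h, hh⟩ := exists_Φ p q n gU hgUs hgUy gV hgVt hgVx hn z.1 ((hmem _).mp z.2)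
    exact ⟨h, Subtype.ext hh⟩

end Groth.Agent.S18436
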