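import Groth.Statements.S18437
import Groth.Agent.L01.PolyNodeBasis
import Mathlib.LinearAlgebra.FreeModule.Basic
import Mathlib.Algebra.Module.Submodule.RestrictScalars

set_option autoImplicit false
universe u
open SpinCurv

namespace Groth.Agent.S18437

variable {_unused : Unit}
open SpinCurv Groth.L01.PolyNodeBasis

theorem smul_eq_map {R : Type u} [CommRing R] {a : R} (c : R) (z : PolyNodeRing R a) :
    c • z = algebraMap R (PolyNodeRing R a) c * z := Algebra.smul_def c z

open SpinCurv in

/-- Let R be a commutative ring and p, q ∈ R; put A = R[x, y]/(xy - pq) and consider the two affine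
charts U = Spec R[s, y]/(sy - q) and V = Spec R[t, x]/(xt - p) of the curve obtained from Spec A by
blowing up as in the (p, q)-construction, glued along R[s, s⁻¹] by t = s⁻¹ (so y = q s⁻¹ on U and x
= p s on V), with the projection to Spec A given by x ↦ p s, y ↦ y on U and x ↦ x, y ↦ q t on V. For
n ≥ 0 the twisting sheaf O(n) is vⁿ O on U and ξⁿ O on V with ξ = s v, so its global sections are
the pairs (g, f) of functions on U and V with g = sⁿ f on U ∩ V. Then the map A^{n+1} → O(U) × O(V)
sending (F_0, …, F_n), i.e. the section Σ F_i ξ^{n-i} v^i, to (Σ F_i|_U s^{n-i}, Σ F_i|_V t^i) has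
image exactly the set of such pairs, and F is sent to zero exactly when it lies in the A-submodule
of A^{n+1} generated by the vectors p e_i - x e_{i+1} and y e_i - q e_{i+1} for 0 ≤ i < n (e_0, …,
e_n the standard basis). So the global sections of O(n) form the degree-n piece of A[ξ, v]/(p ξ - x
v, q v - y ξ). For n = 0 this says that a ↦ (a|_U, a|_V) is injective on A with image the pairs of
functions that agree on U ∩ V, so that the functions on the blown-up curve are exactly the functions
on Spec A (the direct image of its structure sheaf is the structure sheaf of Spec A); for n = 1 it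
presents the global sections of O(1) as A ξ ⊕ A v modulo the relations p ξ = x v and y ξ = q v. Here
R[s, y]/(sy - q) and R[t, x]/(xt - p) are both written as the quotient of the polynomial ring in two
variables by (first variable)·(second variable) - constant, the homomorphisms rU, rV are the
restriction maps from A to the two charts and gU, gV the restriction maps from the charts to their
intersection R[s, s⁻¹] (Laurent polynomials), each pinned by its values on the two generators. (The
published setting has R complete local and p, q in the maximal ideal, and reduces to this polynomial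
computation, which uses neither.) -/
theorem result (R : Type u) [CommRing R] (p q : R)
    (rU : SpinCurv.PolyNodeRing R (p * q) →ₐ[R] SpinCurv.PolyNodeRing R q)
    (hrUx : rU (SpinCurv.PolyNodeRing.x R (p * q)) = algebraMap R _ p * SpinCurv.PolyNodeRing.x R q)
    (hrUy : rU (SpinCurv.PolyNodeRing.y R (p * q)) = SpinCurv.PolyNodeRing.y R q)
    (rV : SpinCurv.PolyNodeRing R (p * q) →ₐ[R] SpinCurv.PolyNodeRing R p)
    (hrVx : rV (SpinCurv.PolyNodeRing.x R (p * q)) = SpinCurv.PolyNodeRing.y R p)
    (hrVy : rV (SpinCurv.PolyNodeRing.y R (p * q)) = algebraMap R _ q * SpinCurv.PolyNodeRing.x R p)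
    (gU : SpinCurv.PolyNodeRing R q →ₐ[R] LaurentPolynomial R)
    (hgUs : gU (SpinCurv.PolyNodeRing.x R q) = LaurentPolynomial.T 1)
    (hgUy : gU (SpinCurv.PolyNodeRing.y R q) = LaurentPolynomial.C q * LaurentPolynomial.T (-1))
    (gV : SpinCurv.PolyNodeRing R p →ₐ[R] LaurentPolynomial R)
    (hgVt : gV (SpinCurv.PolyNodeRing.x R p) = LaurentPolynomial.T (-1))
    (hgVx : gV (SpinCurv.PolyNodeRing.y R p) = LaurentPolynomial.C p * LaurentPolynomial.T 1) (n : ℕ) :
    Set.range (fun F : Fin (n + 1) → SpinCurv.PolyNodeRing R (p * q) =>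
        (∑ i : Fin (n + 1), rU (F i) * SpinCurv.PolyNodeRing.x R q ^ (n - (i : ℕ)),
         ∑ i : Fin (n + 1), rV (F i) * SpinCurv.PolyNodeRing.x R p ^ (i : ℕ))) =
      {gf : SpinCurv.PolyNodeRing R q × SpinCurv.PolyNodeRing R p |
        gU gf.1 = LaurentPolynomial.T (n : ℤ) * gV gf.2} ∧
    {F : Fin (n + 1) → SpinCurv.PolyNodeRing R (p * q) |
        (∑ i : Fin (n + 1), rU (F i) * SpinCurv.PolyNodeRing.x R q ^ (n - (i : ℕ)),
         ∑ i : Fin (n + 1), rV (F i) * SpinCurv.PolyNodeRing.x R p ^ (i : ℕ)) = 0} =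
      (Submodule.span (SpinCurv.PolyNodeRing R (p * q))
        (Set.range (fun i : Fin n =>
            (Pi.single (Fin.castSucc i) (algebraMap R (SpinCurv.PolyNodeRing R (p * q)) p) -
              Pi.single (Fin.succ i) (SpinCurv.PolyNodeRing.x R (p * q)) : Fin (n + 1) → SpinCurv.PolyNodeRing R (p * q))) ∪
         Set.range (fun i : Fin n =>
            (Pi.single (Fin.castSucc i) (SpinCurv.PolyNodeRing.y R (p * q)) -
              Pi.single (Fin.succ i) (algebraMap R (SpinCurv.PolyNodeRing R (p * q)) q) : Fin (n + 1) → SpinCurv.PolyNodeRing R (p * q)))) :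
        Set (Fin (n + 1) → SpinCurv.PolyNodeRing R (p * q))) := by
  let A := SpinCurv.PolyNodeRing R (p * q)
  let Ψ : (Fin (n + 1) → A) →ₗ[R] SpinCurv.PolyNodeRing R q × SpinCurv.PolyNodeRing R p :=
    LinearMap.prod
      (∑ i : Fin (n + 1), (LinearMap.mulRight R (SpinCurv.PolyNodeRing.x R q ^ (n - (i : ℕ)))).comp
        (rU.toLinearMap.comp (LinearMap.proj i)))
      (∑ i : Fin (n + 1), (LinearMap.mulRight R (SpinCurv.PolyNodeRing.x R p ^ (i : ℕ))).comp
        (rV.toLinearMap.comp (LinearMap.proj i)))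
  have hΨ : ∀ F, Ψ F = (∑ i : Fin (n + 1), rU (F i) * SpinCurv.PolyNodeRing.x R q ^ (n - (i : ℕ)),
      ∑ i : Fin (n + 1), rV (F i) * SpinCurv.PolyNodeRing.x R p ^ (i : ℕ)) := fun F => by
    simp [Ψ, LinearMap.sum_apply]
  have hsingle : ∀ (i : Fin (n + 1)) (a : A), Ψ (Pi.single i a) =
      (rU a * SpinCurv.PolyNodeRing.x R q ^ (n - (i : ℕ)), rV a * SpinCurv.PolyNodeRing.x R p ^ (i : ℕ)) := fun i a => by
    rw [hΨ, Finset.sum_eq_single i, Finset.sum_eq_single i]
    · simp
    · intro j _ hj; simp [hj]
    · simp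
    · intro j _ hj; simp [hj]
    · simp
  -- sections of the distinguished form
  let idx : ℤ → Fin (n + 1) := fun m => ⟨((n : ℤ) - m).toNat ⊓ n, by omega⟩
  let ι : (ℤ →₀ R) →ₗ[R] (Fin (n + 1) → A) := Finsupp.linearCombination R fun m =>
    Pi.single (idx m) (if m < 0 then e (p * q) m else if m ≤ (n : ℤ) then 1 else e (p * q) (m - n))
  have hΨι : Ψ.comp ι = Φ p q (n : ℤ) := by
    refine Finsupp.lhom_ext fun m c => ?_
    simp only [LinearMap.comp_apply, ι, Φ, Finsupp.linearCombination_single, map_smul, hsingle]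
    congr 1
    by_cases h1 : m < 0
    · obtain ⟨j, rfl⟩ : ∃ j : ℕ, m = -(j : ℤ) := ⟨(-m).toNat, by omega⟩
      rw [if_pos h1, show ((idx (-(j : ℤ))) : ℕ) = n by simp only [idx]; omega, Nat.sub_self, pow_zero, mul_one,
        show (-(j : ℤ) - n).toNat = 0 by omega, pow_zero, one_smul, show (- -(j : ℤ)).toNat = j by omega,
        e_neg, e_neg, show (n : ℤ) - -(j : ℤ) = ((j + n : ℕ) : ℤ) by push_cast; ring, e_natCast, map_pow, map_pow,
        hrUy, hrVy, mul_pow, smul_eq_map, map_pow, pow_add]
      ext <;> ring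
    by_cases h2 : m ≤ (n : ℤ)
    · obtain ⟨j, rfl⟩ : ∃ j : ℕ, m = (j : ℤ) := ⟨m.toNat, by omega⟩
      rw [if_neg h1, if_pos h2, show ((idx (j : ℤ)) : ℕ) = n - j by simp only [idx]; omega, Nat.sub_sub_self (by omega),
        map_one, map_one, one_mul, one_mul, show ((j : ℤ) - n).toNat = 0 by omega, show (-(j : ℤ)).toNat = 0 by omega,
        pow_zero, pow_zero, one_smul, one_smul, e_natCast, show (n : ℤ) - j = ((n - j : ℕ) : ℤ) by omega, e_natCast]
    · obtain ⟨j, rfl⟩ : ∃ j : ℕ, m = ((n + j : ℕ) : ℤ) := ⟨(m - n).toNat, by omega⟩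
      rw [if_neg h1, if_neg h2, show ((idx ((n + j : ℕ) : ℤ)) : ℕ) = 0 by simp only [idx]; omega, Nat.sub_zero, pow_zero, mul_one,
        show (((n + j : ℕ) : ℤ) - n) = (j : ℤ) by push_cast; ring, Int.toNat_natCast,
        show (-((n + j : ℕ) : ℤ)).toNat = 0 by omega, pow_zero, one_smul, e_natCast, e_natCast,
        show (n : ℤ) - ((n + j : ℕ) : ℤ) = -(j : ℤ) by push_cast; ring, e_neg, map_pow, map_pow, hrUx, hrVx, mul_pow,
        smul_eq_map, map_pow, pow_add]
      ext <;> ring
  -- the sections condition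
  have hcomp : ∀ a : A, gU (rU a) = gV (rV a) := by
    suffices gU.comp rU = gV.comp rV from fun a => AlgHom.congr_fun this a
    refine Ideal.Quotient.algHom_ext R (MvPolynomial.algHom_ext fun i => ?_)
    fin_cases i
    · show gU (rU (SpinCurv.PolyNodeRing.x R (p * q))) = gV (rV (SpinCurv.PolyNodeRing.x R (p * q)))
      rw [hrUx, hrVx, map_mul gU, AlgHom.commutes, hgUs, hgVx]
      rfl
    · show gU (rU (SpinCurv.PolyNodeRing.y R (p * q))) = gV (rV (SpinCurv.PolyNodeRing.y R (p * q)))
      rw [hrUy, hrVy, map_mul gV, AlgHom.commutes, hgVt, hgUy]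
      rfl
  have hin : ∀ F, gU (Ψ F).1 = LaurentPolynomial.T (n : ℤ) * gV (Ψ F).2 := fun F => by
    rw [hΨ]
    simp only [map_sum, map_mul gU, map_mul gV, map_pow, hgUs, hgVt, LaurentPolynomial.T_pow, Finset.mul_sum, hcomp]
    refine Finset.sum_congr rfl fun i _ => ?_
    rw [mul_left_comm, ← LaurentPolynomial.T_add]
    congr 2
    have := i.2
    omega
  set N := Submodule.span (SpinCurv.PolyNodeRing R (p * q))
        (Set.range (fun i : Fin n =>
            (Pi.single (Fin.castSucc i) (algebraMap R (SpinCurv.PolyNodeRing R (p * q)) p) -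
              Pi.single (Fin.succ i) (SpinCurv.PolyNodeRing.x R (p * q)) : Fin (n + 1) → SpinCurv.PolyNodeRing R (p * q))) ∪
         Set.range (fun i : Fin n =>
            (Pi.single (Fin.castSucc i) (SpinCurv.PolyNodeRing.y R (p * q)) -
              Pi.single (Fin.succ i) (algebraMap R (SpinCurv.PolyNodeRing R (p * q)) q) : Fin (n + 1) → SpinCurv.PolyNodeRing R (p * q))))
  have hN : ∀ F ∈ N, Ψ F = 0 := by
    intro F hF
    induction hF using Submodule.span_induction with
    | mem F hF =>
      rcases hF with ⟨i, rfl⟩ | ⟨i, rfl⟩ <;>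
      · have hi := i.2
        simp only [map_sub, hsingle, Fin.val_castSucc, Fin.val_succ, hrUx, hrUy, hrVx, hrVy, AlgHom.commutes,
          show n - (i : ℕ) = n - ((i : ℕ) + 1) + 1 by omega, pow_succ]
        have h1 := x_mul_y (R := R) q
        have h2 := x_mul_y (R := R) p
        refine sub_eq_zero.mpr (Prod.ext ?_ ?_) <;> dsimp only <;>
          first
            | (linear_combination (SpinCurv.PolyNodeRing.x R q ^ (n - ((i : ℕ) + 1))) * h1)
            | (linear_combination (-(SpinCurv.PolyNodeRing.x R p ^ (i : ℕ))) * h2)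
            | (linear_combination)
    | zero => exact map_zero _
    | add F G _ _ hF hG => rw [map_add, hF, hG, add_zero]
    | smul a F _ hF =>
      rw [hΨ] at hF ⊢
      obtain ⟨hF1, hF2⟩ := Prod.ext_iff.mp hF
      simp only [Pi.smul_apply, smul_eq_mul, map_mul rU, map_mul rV, mul_assoc, ← Finset.mul_sum]
      refine Prod.ext ?_ ?_ <;> dsimp only at hF1 hF2 ⊢ <;> simp [hF1, hF2]
  -- normal form modulo the relations
  let M : Submodule R (Fin (n + 1) → A) := N.restrictScalars R ⊔ LinearMap.range ι
  have hι : ∀ m, Pi.single (idx m) (if m < 0 then e (p * q) m else if m ≤ (n : ℤ) then 1 else e (p * q) (m - n)) ∈ M :=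
    fun m => Submodule.mem_sup_right ⟨Finsupp.single m 1, by simp [ι, Finsupp.linearCombination_single]⟩
  have hrel1 : ∀ (i : Fin n) (a : A), (p • Pi.single (Fin.castSucc i) a : Fin (n + 1) → A) -
      Pi.single (Fin.succ i) (SpinCurv.PolyNodeRing.x R (p * q) * a) ∈ M := fun i a => by
    refine Submodule.mem_sup_left (show _ ∈ N from ?_)
    have := N.smul_mem a (Submodule.subset_span (Or.inl ⟨i, rfl⟩))
    simp only [smul_sub, ← Pi.single_smul', smul_eq_mul] at this
    rw [← Pi.single_smul', smul_eq_map, mul_comm _ a, mul_comm _ a]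
    exact this
  have hrel2 : ∀ (i : Fin n) (a : A), Pi.single (Fin.castSucc i) (SpinCurv.PolyNodeRing.y R (p * q) * a) -
      (q • Pi.single (Fin.succ i) a : Fin (n + 1) → A) ∈ M := fun i a => by
    refine Submodule.mem_sup_left (show _ ∈ N from ?_)
    have := N.smul_mem a (Submodule.subset_span (Or.inr ⟨i, rfl⟩))
    simp only [smul_sub, ← Pi.single_smul', smul_eq_mul] at this
    rw [← Pi.single_smul', smul_eq_map, mul_comm _ a, mul_comm _ a]
    exact this
  have hall : ∀ (j : ℕ) (i : Fin (n + 1)), Pi.single i (e (p * q) (j : ℤ)) ∈ M ∧ Pi.single i (e (p * q) (-(j : ℤ))) ∈ M := by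
    intro j
    induction j with
    | zero =>
      intro i
      have := hι (((n - (i : ℕ) : ℕ)) : ℤ)
      rw [show idx ((n - (i : ℕ) : ℕ) : ℤ) = i from Fin.ext (by simp only [idx, Fin.val_last]; omega), if_neg (by omega), if_pos (by omega)] at this
      rw [Nat.cast_zero, neg_zero]
      rw [show e (p * q) 0 = 1 by simp [e]]
      exact ⟨this, this⟩
    | succ j ih =>
      intro i
      constructor
      · rcases Fin.eq_zero_or_eq_succ i with rfl | ⟨i', rfl⟩
        · have := hι (((n + (j + 1) : ℕ)) : ℤ)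
          rw [show idx ((n + (j + 1) : ℕ) : ℤ) = 0 from Fin.ext (by simp only [idx, Fin.val_zero]; omega), if_neg (by omega), if_neg (by omega),
            show (((n + (j + 1) : ℕ) : ℤ) - n) = ((j + 1 : ℕ) : ℤ) by push_cast; ring] at this
          exact this
        · have := M.sub_mem (M.smul_mem p (ih (Fin.castSucc i')).1) (hrel1 i' (e (p * q) (j : ℤ)))
          rw [sub_sub_cancel, e_natCast, ← pow_succ', ← e_natCast] at this
          exact this
      · rcases Fin.eq_castSucc_or_eq_last i with ⟨i', rfl⟩ | rfl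
        · have := M.add_mem (hrel2 i' (e (p * q) (-(j : ℤ)))) (M.smul_mem q (ih (Fin.succ i')).2)
          rw [sub_add_cancel, e_neg, ← pow_succ', ← e_neg] at this
          exact this
        · have := hι (-((j + 1 : ℕ) : ℤ))
          rw [show idx (-((j + 1 : ℕ) : ℤ)) = Fin.last n from Fin.ext (by simp only [idx, Fin.val_last]; omega), if_pos (by omega)] at this
          exact this
  have htop : ∀ F, F ∈ M := by
    intro F
    rw [← Finset.univ_sum_single F]
    refine M.sum_mem fun i _ => ?_
    induction F i using induction with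
    | h0 => rw [Pi.single_zero]; exact M.zero_mem
    | hadd a b ha hb => rw [Pi.single_add]; exact M.add_mem ha hb
    | hsingle c m =>
      rw [Pi.single_smul']
      refine M.smul_mem c ?_
      rcases Int.eq_nat_or_neg m with ⟨j, rfl | rfl⟩
      · exact (hall j i).1
      · exact (hall j i).2
  refine ⟨Set.ext fun z => ⟨?_, fun hz => ?_⟩, Set.ext fun F => ⟨fun hF => ?_, fun hF => ?_⟩⟩
  · rintro ⟨F, rfl⟩
    show gU _ = LaurentPolynomial.T (n : ℤ) * gV _
    have := hin F
    rw [hΨ] at this
    exact this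
  · obtain ⟨h, hh⟩ := exists_Φ p q (n : ℤ) gU hgUs hgUy gV hgVt hgVx (by omega) z hz
    exact ⟨ι h, by rw [← hh, ← hΨι]; exact (hΨ _).symm⟩
  · obtain ⟨a, ha, b, ⟨h, rfl⟩, hab⟩ := Submodule.mem_sup.mp (htop F)
    have h0 : Φ p q (n : ℤ) h = 0 := by
      rw [← hΨι, LinearMap.comp_apply]
      have h1 : Ψ F = 0 := (hΨ F).trans hF
      rwa [← hab, map_add, hN a ha, zero_add] at h1
    rw [Φ_injective p q (n : ℤ) (by omega) (h0.trans (map_zero _).symm), map_zero, add_zero] at hab
    exact hab ▸ ha
  · exact (hΨ F).symm.trans (hN F hF)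

end Groth.Agent.S18437
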