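import Groth.Statements.S18438
import Groth.Agent.L03.SurfAdj.Tools
-- import your own Groth.Agent.* helpers here

set_option autoImplicit false
universe u
open CategoryTheory CategoryTheory.Limits AlgebraicGeometry TopologicalSpace
open Surf

namespace Groth.Agent.S18438

open Groth.L22.Inter Groth.L22.Nef Groth.L22.Big Groth.L03.Euler Groth.L03.SurfNum Groth.L03.SurfAdj
open Groth.L00.Tensor (tensorIso tensorComm tensorUnitLeft tensorUnitRight tensorAssoc)


/-- Let k be an algebraically closed field and X a smooth projective surface over k whose anticanonical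
module is ample: X is an integral scheme, proper and smooth over k of dimension 2, W is a canonical
module (a second exterior power of Ω_{X/k}) and D a tensor inverse of W which is ample. Intersection
numbers of invertible modules are (L·M) = χ(O_X) − χ(L) − χ(M) + χ(L ⊗ M), so that for a closed
subscheme C with ideal I_C one has C·C = (I_C·I_C) and K·C = −(I_C·W). If C ⊆ X is an integral
closed one-dimensional subscheme with C·C < 0, then C is an exceptional curve of the first kind: C·C
= −1, K·C = −1 and H¹(C, O_C) = 0. (The published statement concerns del Pezzo surfaces of degree d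
embedded in projective d-space; its argument uses only the ampleness of the anticanonical module,
which is the hypothesis taken here.) -/
theorem result (k : Type u) [Field k] [IsAlgClosed k] (X : Scheme.{u})
    [X.Over (Spec (CommRingCat.of k))] [IsIntegral X] [IsProper (X ↘ (Spec (CommRingCat.of k)))] [Smooth (X ↘ (Spec (CommRingCat.of k)))]
    (hdim : topologicalKrullDim X = 2)
    (W : X.Modules) (hW : ExtPow.IsExtPow 2 (Omega.sheaf (X ↘ (Spec (CommRingCat.of k)))) W)
    (D : X.Modules) (hD : ClSub.IsInverseOf D W) (hample : CohB1.IsAmple D)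
    (C : X.IdealSheafData) (hC : IsIntegral C.subscheme) (hC1 : topologicalKrullDim (C.support : Set X) = 1)
    (hneg : FGA.intNum k X 2 ![ClSub.idealMod C, ClSub.idealMod C] (Coh.structureModule X) < 0) :
    FGA.intNum k X 2 ![ClSub.idealMod C, ClSub.idealMod C] (Coh.structureModule X) = -1 ∧
      FGA.intNum k X 2 ![ClSub.idealMod C, W] (Coh.structureModule X) = 1 ∧
      Subsingleton (Coh.HH C.subscheme (Coh.structureModule C.subscheme) 1) := by
  haveI := hC
  have hd2 : topologicalKrullDim X = (2 : ℕ) := hdim.trans Nat.cast_ofNat.symm
  have hreg := reg_of_smooth k (X := X)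
  have hI := isInvertible_idealMod k hd2 hreg C hC1
  have hWi := (canonical k hdim hreg hW).1
  obtain ⟨eD⟩ := hD
  have hneg' := Gram.curve_ample_neg k hd2.le hample C hC1 hI
  have hIW : 0 < ii k (ClSub.idealMod C) W := by
    rw [ii_comm, Gram.ii_inverse k hd2.le hample.1 hWi hI eD, ii_comm]
    linarith
  rw [← intNum_eq_ii k hd2.le] at hIW
  have hadj := adj_num k hdim hreg hW C hI
  rw [← intNum_eq_ii k hd2.le, ← intNum_eq_ii k hd2.le] at hadj
  have hIW' : 0 < FGA.intNum k X 2 ![ClSub.idealMod C, W] (Coh.structureModule X) := by exact_mod_cast hIW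
  obtain ⟨hle, hiff⟩ := curve_euler k C hC1
  have h : 2 * Curv2.euler k X (ClSub.quotMod C) =
      FGA.intNum k X 2 ![ClSub.idealMod C, W] (Coh.structureModule X) -
      FGA.intNum k X 2 ![ClSub.idealMod C, ClSub.idealMod C] (Coh.structureModule X) := by
    exact_mod_cast hadj
  exact ⟨by omega, by omega, hiff.1 (by omega)⟩

end Groth.Agent.S18438
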