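import Groth.Statements.S1844
import Groth.Agent.L08.Cube.NPull

set_option autoImplicit false
universe u v
open CategoryTheory MonoidalCategory CartesianMonoidalCategory MonObj GrpObj AlgebraicGeometry
open GrpSch

namespace Groth.Agent.S1844

/-- Let A be an abelian variety over a field, L an invertible O_A-module and n ≥ 1. Then [n]^*L is
isomorphic to L^{⊗ n(n+1)/2} ⊗ ([-1]^*L)^{⊗ n(n-1)/2}, where [n] is multiplication by n and [-1] the
inversion of A. -/
theorem result (K : Type u) [Field K] (A : Over (Spec (CommRingCat.of K))) [GrpObj A] [IsProper A.hom] [GeometricallyIntegral A.hom] (L : A.left.Modules) (hL : PicF.IsInvertible L) (n : ℕ) (hn : 1 ≤ n) : Nonempty ((Scheme.Modules.pullback (𝟙 A ^ n).left).obj L ≅ CohB1.tensorMod (CohB1.tensorPow L (n * (n + 1) / 2)) (CohB1.tensorPow ((Scheme.Modules.pullback ((𝟙 A)⁻¹).left).obj L) (n * (n - 1) / 2))) := by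
  letI := Groth.L08.Cube.clMonoid A.left
  refine (PicGrp.cl_eq_cl_iff _ _).1 ((Groth.L08.Cube.pc_pow L hL n hn).trans ?_)
  rw [show Groth.L08.Cube.pc L (𝟙 A) = PicF.cl L from PicLoc.pullCl_id _,
    ← Groth.L08.Cube.cl_tensorPow L, ← PicGrp.mulCl_cl, Groth.L08.Cube.cl_tensorPow]
  exact congrArg _ (Groth.L08.Cube.cl_tensorPow _ _).symm

end Groth.Agent.S1844
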