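import Groth.Statements.S18440
import Groth.Agent.L03.SurfAdj.Tools
-- import your own Groth.Agent.* helpers here

set_option autoImplicit false
universe u
open CategoryTheory CategoryTheory.Limits AlgebraicGeometry TopologicalSpace
open Surf

namespace Groth.Agent.S18440

open Groth.L22.Inter Groth.L22.Nef Groth.L22.Big Groth.L03.Euler Groth.L03.SurfNum Groth.L03.SurfAdj
open Groth.L00.Tensor (tensorIso tensorComm tensorUnitLeft tensorUnitRight tensorAssoc)


/-- Let k be an algebraically closed field and X a smooth projective surface over k (an integral scheme,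
proper and smooth over k of dimension 2) with H¹(X, O_X) = 0, and W a canonical module of X (a
second exterior power of Ω_{X/k}). Let C ⊆ X be an integral closed one-dimensional subscheme, smooth
over k, of arithmetic genus one, written χ(O_C) = 0 with the Euler characteristic of O_C computed on
X through the closed immersion (k being algebraically closed and C integral, H⁰(C, O_C) = k, so this
says dim_k H¹(C, O_C) = 1), whose module O_X(C) — a tensor inverse N of the ideal I_C — is ample.
Then W ≅ I_C, that is ω_X ≅ O_X(−C) (existence of an isomorphism of invertible modules). (The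
published statement is that a smooth del Pezzo surface of degree d embedded in projective d-space
has canonical module O_X(−1); its argument takes C a general hyperplane section and uses about the
embedding only that C is a smooth curve of genus one and that H¹(X, O_X) vanishes, facts it draws
from results quoted without proof; those two properties are the hypotheses here.) -/
theorem result (k : Type u) [Field k] [IsAlgClosed k] (X : Scheme.{u})
    [X.Over (Spec (CommRingCat.of k))] [IsIntegral X] [IsProper (X ↘ (Spec (CommRingCat.of k)))] [Smooth (X ↘ (Spec (CommRingCat.of k)))]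
    (hdim : topologicalKrullDim X = 2)
    (W : X.Modules) (hW : ExtPow.IsExtPow 2 (Omega.sheaf (X ↘ (Spec (CommRingCat.of k)))) W)
    (hq : Subsingleton (Coh.HH X (Coh.structureModule X) 1))
    (C : X.IdealSheafData) (hC : IsIntegral C.subscheme) (hC1 : topologicalKrullDim (C.support : Set X) = 1)
    (hCs : Smooth (C.subschemeι ≫ (X ↘ (Spec (CommRingCat.of k)))))
    (hg : Curv2.euler k X (ClSub.quotMod C) = 0)
    (N : X.Modules) (hN : ClSub.IsInverseOf N (ClSub.idealMod C)) (hNample : CohB1.IsAmple N) :
    Nonempty (W ≅ ClSub.idealMod C) := by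
  haveI := hC
  haveI := Groth.L21.RR.isNoetherian_of_proper (X := X) k
  have hd2 : topologicalKrullDim X = (2 : ℕ) := hdim.trans Nat.cast_ofNat.symm
  have hreg := reg_of_smooth k (X := X)
  obtain ⟨hWi, -, hflip0, -⟩ := canonical k hdim hreg hW
  haveI : SmoothOfRelativeDimension 2 (X ↘ Spec (CommRingCat.of k)) :=
    Groth.L16.SmoothSection.smoothOfRelativeDimension_dim _ 2 hd2
  have hΩ := Groth.L02.Canon.isFinLocFreeOfRank_omega (f := X ↘ Spec (CommRingCat.of k)) 2
  let S := C.subscheme
  let i := C.subschemeι
  letI : S.Over (Spec (CommRingCat.of k)) := ⟨i ≫ (X ↘ (Spec (CommRingCat.of k)))⟩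
  haveI : IsProper (S ↘ Spec (CommRingCat.of k)) :=
    inferInstanceAs (IsProper (i ≫ (X ↘ Spec (CommRingCat.of k))))
  haveI : Smooth (S ↘ Spec (CommRingCat.of k)) := hCs
  haveI := Groth.L21.RR.isNoetherian_of_proper (X := S) k
  have hSreg : ∀ z : S, IsRegularLocalRing (S.presheaf.stalk z) := fun z =>
    Groth.L08.Cube.isRegularLocalRing_of_smooth (S ↘ Spec (CommRingCat.of k)) z
  have hS : topologicalKrullDim S = (1 : ℕ) := by
    rw [← dim_closure_image i, ← dim_support C, hC1, Nat.cast_one]
  have hS1 : topologicalKrullDim S = 1 := hS.trans Nat.cast_one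
  have hI := isInvertible_idealMod k hd2 hreg C hC1
  have hker : i.ker = C := Scheme.IdealSheafData.ker_subschemeι C
  obtain ⟨φ, c, w, hse⟩ := exists_seq k i hd2 hreg hS hSreg
  have hΩS : PicF.IsInvertible (Omega.sheaf (S ↘ Spec (CommRingCat.of k))) :=
    Groth.L21.Duality.isInvertible_omega (k := k) hS1
  let P := Scheme.Modules.pullback i
  have hIk : PicF.IsInvertible (ClSub.idealMod i.ker) := by rw [hker]; exact hI
  obtain ⟨edet⟩ := nonempty_det_iso i hΩ hW (Groth.L18.Ample.isInvertible_pullback i hIk) hΩS φ c w hse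
  -- differentials of the curve are trivial
  have hh0 := Groth.L22.CurveDeg.h0_structure_eq_one k (X := S)
  have hh1 : Groth.L21.RR.h k 1 (Coh.structureModule S) = 1 := by
    have h := euler_subscheme k C
    have h' : (0 : ℤ) = (Groth.L21.RR.h k 0 (Coh.structureModule S) : ℤ) - Groth.L21.RR.h k 1 (Coh.structureModule S) :=
      hg.symm.trans (h.trans (Groth.L21.RR.euler_eq k hS1.le _))
    rw [hh0] at h'
    omega
  obtain ⟨hi0, -, hdeg⟩ := Groth.L21.Duality.omega_invariants (k := k) (X := S) hS1
  obtain ⟨eS⟩ : Nonempty (Coh.structureModule S ≅ Omega.sheaf (S ↘ Spec (CommRingCat.of k))) := by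
    refine Groth.L21.Duality.nonempty_iso_of_deg_eq_zero (k := k) hS1.le hΩS ?_ ?_
    · rw [hdeg hh0, show Curv2.genus k S = 1 from hh1]
      norm_num
    · refine Module.nontrivial_of_finrank_pos (R := k) ?_
      rw [show Module.finrank k (Coh.HH S (Omega.sheaf (S ↘ Spec (CommRingCat.of k))) 0) = 1 from hi0.trans hh1]
      exact one_pos
  obtain ⟨eN⟩ := hN
  let eW : P.obj W ≅ P.obj (ClSub.idealMod C) :=
    edet ≪≫ tensorIso (eqToIso (congrArg (fun J => P.obj (ClSub.idealMod J)) hker)) eS.symm ≪≫ tensorUnitRight _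
  let T := CohB1.tensorMod W N
  have hT : PicF.IsInvertible T := Groth.L18.GenLoc.isInvertible_tensor hWi hNample.1
  let eT : P.obj T ≅ Coh.structureModule S :=
    (Groth.L29.DC.PullTensor.pullTensor i W N).symm ≪≫ tensorIso eW (Iso.refl _) ≪≫
      Groth.L29.DC.PullTensor.pullTensor i _ N ≪≫ P.mapIso (tensorComm _ _ ≪≫ eN) ≪≫
      Groth.L29.LocFree.pullbackUnitIso i
  have hT2 := Groth.L21.RR.shortExact_tw C hT
  haveI : Subsingleton (Coh.HH X (CohB1.tensorMod T (ClSub.idealMod C)) 1) := by
    refine Groth.L22.EnrSev.subsingleton_of_iso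
      (tensorAssoc W N (ClSub.idealMod C) ≪≫ tensorIso (Iso.refl W) eN ≪≫ tensorUnitRight W).symm 1 ?_
    haveI := Groth.L16.ProperFinite.finite_HH k (Groth.L18.Ample.isCoh_of_isInvertible hWi) 1
    rw [← Module.finrank_zero_iff (R := k), hflip0 1 one_le_two]
    haveI := hq
    exact Module.finrank_zero_of_subsingleton
  have hsur : Function.Surjective (Groth.L16.CohLinear.overLin k (Groth.L16.CohLinear.hmap (Groth.L21.RR.twπ T C) 0)) :=
    fun y => (Groth.L16.CohLinear.exact_hmap_delta hT2 0 y).1
      (Subsingleton.elim (α := Coh.HH X (CohB1.tensorMod T (ClSub.idealMod C)) 1) _ _)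
  haveI : Nontrivial (Coh.HH X T 0) := by
    obtain ⟨q⟩ := nonempty_twistQuot_equiv k C hT 0
    haveI : Nontrivial (Coh.HH S (P.obj T) 0) := by
      refine Module.nontrivial_of_finrank_pos (R := k) ?_
      rw [finrank_HH_of_iso eT]
      show 0 < Groth.L21.RR.h k 0 (Coh.structureModule S)
      rw [hh0]
      exact one_pos
    exact Function.Surjective.nontrivial (q.surjective.comp hsur)
  have hTN : ii k T N = 0 := by
    have h := Groth.L03.SurfNum.CurveDegree.deg_pullback k i hd2 hreg hS hT
    rw [Groth.L21.RR.deg_congr k eT 1, Groth.L22.CurveDeg.deg_structure k, Int.cast_zero, hker] at h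
    rw [ii_comm, Gram.ii_inverse k hd2.le hI hNample.1 hT (tensorComm _ _ ≪≫ eN)]
    exact h.symm
  obtain ⟨e⟩ := (section_facts k hd2 hT hNample ‹_›).2 hTN
  exact ⟨(tensorUnitRight W).symm ≪≫ tensorIso (Iso.refl W) eN.symm ≪≫ (tensorAssoc _ _ _).symm ≪≫
    tensorIso e.symm (Iso.refl _) ≪≫ tensorUnitLeft _⟩

end Groth.Agent.S18440
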