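import Groth.Statements.S18442
import Groth.Agent.L05.CIConormal.Main
import Groth.Agent.L22.Adjunction.SmoothClosed
import Groth.Agent.L16.SmoothSection.Dim
import Groth.Agent.L12.Kvb.Lambda
import Groth.Agent.L29.DCoh.PullTensor
import Groth.Agent.L29.LocFree
import Groth.Agent.L12.FinCov.Basis

set_option autoImplicit false
universe u
open CategoryTheory CategoryTheory.Limits AlgebraicGeometry TopologicalSpace
open Surf

namespace Groth.Agent.S18442
set_option backward.isDefEq.respectTransparency false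
set_option backward.isDefEq.respectTransparency.types false
set_option linter.style.haveILetI false

/-- Let k be an algebraically closed field and X ⊆ P⁴_k a smooth surface which is the complete
intersection of two quadrics: X is an integral scheme, smooth over k of dimension 2, with a closed
immersion ι : X → P⁴_k over k whose kernel ideal sheaf is the ideal sheaf generated by two quadratic
forms G_0, G_1. Then a canonical module W of X (a second exterior power of Ω_{X/k}) is isomorphic to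
ι^*O(−1) (existence of an isomorphism), so its tensor inverse ι^*O(1) is ample and X is a del Pezzo
surface. -/
theorem result (k : Type u) [Field k] [IsAlgClosed k] (X : Scheme.{u})
    [X.Over (Spec (CommRingCat.of k))] [IsIntegral X] [Smooth (X ↘ (Spec (CommRingCat.of k)))] (hdim : topologicalKrullDim X = 2)
    (ι : X ⟶ CohB1.ProjSpace 4 k) [IsClosedImmersion ι] (hι : ι ≫ CohB1.ProjSpace.toSpec 4 k = X ↘ (Spec (CommRingCat.of k)))
    (G : Fin 2 → LefPen.Form 4 k 2) (hker : ι.ker = LefPen.ciIdeal G)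
    (W : X.Modules) (hW : ExtPow.IsExtPow 2 (Omega.sheaf (X ↘ (Spec (CommRingCat.of k)))) W) :
    Nonempty (W ≅ (Scheme.Modules.pullback ι).obj (Twist.twistProjSpace 4 k (-1))) := by
  classical
  haveI := Groth.L22.PDual.proper 4 k
  haveI := Groth.L21.RR.isNoetherian_of_proper (X := CohB1.ProjSpace 4 k) k
  haveI : QuasiSeparated (CohB1.ProjSpace.toSpec 4 k) := inferInstance
  let T := Scheme.Modules.pullback ι
  haveI : SmoothOfRelativeDimension 2 (X ↘ Spec (CommRingCat.of k)) :=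
    Groth.L16.SmoothSection.smoothOfRelativeDimension_dim _ _ hdim
  haveI : SmoothOfRelativeDimension 2 (ι ≫ CohB1.ProjSpace.toSpec 4 k) := hι ▸ inferInstance
  have hW' : ExtPow.IsExtPow 2 (Omega.sheaf (ι ≫ CohB1.ProjSpace.toSpec 4 k)) W := by
    simp only [hι]
    exact hW
  have hd : topologicalKrullDim ↥(LefPen.ciIdeal G).subscheme ≤ ((4 - 2 : ℕ) : WithBot ℕ∞) := by
    have hr : Set.range ι = Set.range (LefPen.ciIdeal G).subschemeι := by
      rw [Scheme.IdealSheafData.range_subschemeι, ← hker, Scheme.Hom.support_ker,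
        ι.isClosedEmbedding.isClosed_range.closure_eq]
    rw [← (ι.isEmbedding.toHomeomorph.trans ((Homeomorph.setCongr hr).trans
      (LefPen.ciIdeal G).subschemeι.isEmbedding.toHomeomorph.symm)).isHomeomorph.topologicalKrullDim_eq, hdim]
    exact le_rfl
  obtain ⟨c⟩ := Groth.L05.CIConormal.nonempty_conormal_of_ker (r := 2) (a := fun _ : Fin 2 => 2) ι (by norm_num)
    (fun _ => by norm_num) G hker hd
  have hC : FlatMod.IsFinLocFreeOfRank (1 + 1) (Omega.conormal ι) :=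
    Groth.L22.Adjunction.isFinLocFreeOfRank_conormal (CohB1.ProjSpace.toSpec 4 k) ι 4 2
  obtain ⟨D, hD, -⟩ := Groth.L22.Adjunction.exists_isExtPow hC
  let A : X.Modules := T.obj (Twist.twistProjSpace 4 k (-((2 : ℕ) : ℤ)))
  have hA : PicF.IsInvertible A := Groth.L18.Ample.isInvertible_pullback ι
    (Groth.L16.ProjTwist.isInvertible_twistProjSpace 4 k _)
  have hA1 : FlatMod.IsFinLocFreeOfRank 1 A := Groth.L12.FinCov.isFinLocFreeOfRank_one_of_isInvertible hA
  let F : Fin 2 → X.Modules := fun _ => A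
  let i₀ : A ⟶ ∐ F := Sigma.ι F 0
  let i₁ : A ⟶ ∐ F := Sigma.ι F 1
  let p₀ : ∐ F ⟶ A := Sigma.desc fun i => if i = 0 then 𝟙 _ else 0
  let p₁ : ∐ F ⟶ A := Sigma.desc fun i => if i = 1 then 𝟙 _ else 0
  have h00 : i₀ ≫ p₀ = 𝟙 _ := (Sigma.ι_desc _ _).trans (if_pos rfl)
  have h01 : i₀ ≫ p₁ = 0 := (Sigma.ι_desc _ _).trans (if_neg (by decide))
  have h10 : i₁ ≫ p₀ = 0 := (Sigma.ι_desc _ _).trans (if_neg (by decide))
  have h11 : i₁ ≫ p₁ = 𝟙 _ := (Sigma.ι_desc _ _).trans (if_pos rfl)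
  have hid : p₀ ≫ i₀ + p₁ ≫ i₁ = 𝟙 (∐ F) := by
    refine Sigma.hom_ext _ _ (Fin.forall_fin_two.2 ⟨?_, ?_⟩)
    · show i₀ ≫ _ = i₀ ≫ _
      rw [Preadditive.comp_add, ← Category.assoc, ← Category.assoc, h00, h01, Category.id_comp, zero_comp, add_zero,
        Category.comp_id]
    · show i₁ ≫ _ = i₁ ≫ _
      rw [Preadditive.comp_add, ← Category.assoc, ← Category.assoc, h10, h11, Category.id_comp, zero_comp, zero_add,
        Category.comp_id]
  let u : (Scheme.Modules.pullback (𝟙 X)).obj (Omega.conormal ι) ≅ ∐ F :=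
    (Scheme.Modules.pullbackId X).app _ ≪≫ c
  let S : ShortComplex X.Modules := ShortComplex.mk (i₀ ≫ u.inv) (u.hom ≫ p₁) (by
    rw [Category.assoc, Iso.inv_hom_id_assoc, h01])
  have hS : S.ShortExact := ShortComplex.Splitting.shortExact
    { r := u.hom ≫ p₀
      s := i₁ ≫ u.inv
      f_r := by show (i₀ ≫ u.inv) ≫ u.hom ≫ p₀ = _; rw [Category.assoc, Iso.inv_hom_id_assoc, h00]
      s_g := by show (i₁ ≫ u.inv) ≫ u.hom ≫ p₁ = _; rw [Category.assoc, Iso.inv_hom_id_assoc, h11]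
      id := by
        show (u.hom ≫ p₀) ≫ i₀ ≫ u.inv + (u.hom ≫ p₁) ≫ i₁ ≫ u.inv = 𝟙 _
        rw [Category.assoc, Category.assoc, ← Category.assoc p₀, ← Category.assoc p₁, ← Preadditive.comp_add,
          ← Preadditive.add_comp, hid, Category.id_comp, Iso.hom_inv_id] }
  obtain ⟨d⟩ := Groth.L22.Adjunction.nonempty_det_iso (𝟙 X) hC hD hA1 (Groth.L12.Kvb.isExtPow_one A) hA1
    (Groth.L12.Kvb.isExtPow_one A) _ _ S.zero hS
  obtain ⟨ΩP, hΩP, -⟩ := Groth.L22.Adjunction.exists_isExtPow (Groth.L02.Canon.isFinLocFreeOfRank_omega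
    (f := CohB1.ProjSpace.toSpec 4 k) 4)
  obtain ⟨e1⟩ := Groth.L22.Adjunction.nonempty_topForms_projSpace 4 k hΩP
  obtain ⟨e2⟩ := Groth.L22.Adjunction.nonempty_topForms_iso (CohB1.ProjSpace.toSpec 4 k) ι 4 2 (by norm_num) hΩP hW' hD
  obtain ⟨s4⟩ := Groth.L22.Reg.nonempty_O_add (n := 4) (R := k)
    (show (-((2 : ℕ) : ℤ)) + (-((2 : ℕ) : ℤ)) = (-4 : ℤ) by norm_num)
  obtain ⟨s0⟩ := Groth.L22.Reg.nonempty_O_add (n := 4) (R := k) (show (4 : ℤ) + (-4 : ℤ) = 0 by norm_num)
  obtain ⟨s1⟩ := Groth.L22.Reg.nonempty_O_add (n := 4) (R := k) (show (4 : ℤ) + (-(((4 : ℕ) : ℤ) + 1)) = -1 by norm_num)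
  obtain ⟨o⟩ := Groth.L22.Reg.nonempty_O_zero 4 k
  open Groth.L00.Tensor in
  let eD : D ≅ T.obj (Twist.twistProjSpace 4 k (-4)) :=
    ((Scheme.Modules.pullbackId X).app D).symm ≪≫ d ≪≫ Groth.L29.DC.PullTensor.pullTensor ι _ _ ≪≫ T.mapIso s4
  open Groth.L00.Tensor in
  exact ⟨(tensorUnitLeft W).symm ≪≫
    tensorIso (Groth.L29.LocFree.pullbackUnitIso ι).symm (Iso.refl W) ≪≫
    tensorIso (T.mapIso (s0 ≪≫ o).symm) (Iso.refl W) ≪≫
    tensorIso (Groth.L29.DC.PullTensor.pullTensor ι _ _).symm (Iso.refl W) ≪≫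
    tensorAssoc _ _ _ ≪≫ tensorIso (Iso.refl _) (tensorIso eD.symm (Iso.refl W) ≪≫ e2.symm ≪≫ T.mapIso e1) ≪≫
    Groth.L29.DC.PullTensor.pullTensor ι _ _ ≪≫ T.mapIso s1⟩

end Groth.Agent.S18442
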