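import Groth.Statements.S18445
import Groth.Agent.S12722
import Groth.Agent.L01.PowSerReg
import Groth.Agent.L12.T1Power
import Groth.Agent.L12.ArtBasic
import Groth.Agent.L12.SurjCrit


set_option autoImplicit false
universe u
open CategoryTheory
open Deform

namespace Groth.Agent.S18445

/-- Let k be a field of characteristic zero and R a complete local Noetherian k-algebra with residue
field k, with n the dimension of its cotangent space m_R/m_R². Then R is isomorphic as a k-algebra
to the power series ring k[[x_1, …, x_n]] if and only if for every local Artinian k-algebra A with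
residue field k, all A-modules M and M' and every surjective A-linear map f : M' → M, every
k-algebra homomorphism R → A ⊕ M into the trivial square-zero extension is the composite of some
k-algebra homomorphism R → A ⊕ M' with the map A ⊕ M' → A ⊕ M induced by f. (The modules are taken
in the universe of k, with the A-action on both sides equal; in positive characteristic the
criterion fails, e.g. for k[x]/(x^p).) -/
theorem result
    {k : Type u} [Field k] [CharZero k] (R : ArtFun.CRing k k) :
    Nonempty (R.carrier ≃ₐ[k] MvPowerSeries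
        (Fin (Module.finrank (IsLocalRing.ResidueField R.carrier) (IsLocalRing.CotangentSpace R.carrier))) k) ↔
      ∀ (A : ArtFun.Art k k) (M M' : Type u) [AddCommGroup M] [Module (↥A) M] [Module (↥A)ᵐᵒᵖ M]
        [IsCentralScalar (↥A) M] [Module k M] [IsScalarTower k (↥A) M] [IsScalarTower k (↥A)ᵐᵒᵖ M]
        [AddCommGroup M'] [Module (↥A) M'] [Module (↥A)ᵐᵒᵖ M'] [IsCentralScalar (↥A) M'] [Module k M']
        [IsScalarTower k (↥A) M'] [IsScalarTower k (↥A)ᵐᵒᵖ M'] (f : M' →ₗ[↥A] M),
        Function.Surjective f →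
          ∀ φ : R.carrier →ₐ[k] TrivSqZeroExt (↥A) M,
            ∃ ψ : R.carrier →ₐ[k] TrivSqZeroExt (↥A) M',
              ∀ r : R.carrier, (ψ r).fst = (φ r).fst ∧ f (ψ r).snd = (φ r).snd := by
  constructor
  · rintro ⟨e⟩ A M M' _ _ _ _ _ _ _ _ _ _ _ _ _ _ f hf φ
    haveI : IsRegularLocalRing R.carrier := IsRegularLocalRing.of_ringEquiv e.symm.toRingEquiv
    let π : TrivSqZeroExt (↥A) M' →ₐ[k] TrivSqZeroExt (↥A) M := (TrivSqZeroExt.map f).restrictScalars k
    have hπf : ∀ z, (π z).fst = z.fst ∧ (π z).snd = f z.snd := fun z =>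
      ⟨TrivSqZeroExt.fst_map f z, TrivSqZeroExt.snd_map f z⟩
    obtain ⟨g, hg⟩ := Groth.L12.RegJets.exists_lift R.res π (fun z => by
        obtain ⟨m, hm⟩ := hf z.snd
        exact ⟨TrivSqZeroExt.inl z.fst + TrivSqZeroExt.inr m,
          TrivSqZeroExt.ext (by rw [(hπf _).1]; simp) (by rw [(hπf _).2]; simpa using hm)⟩)
      (fun z hz => TrivSqZeroExt.isNilpotent_iff_isNilpotent_fst.2 (by
        have := congrArg TrivSqZeroExt.fst hz
        rw [(hπf z).1, TrivSqZeroExt.fst_zero] at this
        rw [this]; exact IsNilpotent.zero)) φ fun a ha => by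
      refine TrivSqZeroExt.isNilpotent_iff_isNilpotent_fst.2 (Groth.L12.isNilpotent_of_res_eq_zero A ?_)
      exact (Groth.L12.mem_maximalIdeal_of_res
        (A.res.comp ((TrivSqZeroExt.fstHom k (↥A) M).comp φ)) a).1 ha
    refine ⟨g, fun r => ?_⟩
    rw [← hg]
    exact ⟨(hπf (g r)).1.symm, (hπf (g r)).2.symm⟩
  · intro H
    obtain ⟨d, x, hx, hind⟩ := Groth.L12.T1Power.exists_indep (R := R.carrier) H R.res
    haveI : IsAdicComplete (IsLocalRing.maximalIdeal k) k :=
      (Groth.L12.artCRing (ArtFun.Art.base k k)).isAdicComplete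
    have hsm : ArtFun.IsSmoothFunctor (ArtFun.hR R.carrier R.res) := by
      intro B A μ hμ φ
      obtain ⟨g, hg⟩ := Groth.L12.RegJets.exists_lift_of_indep R.res x hx hind μ.toAlgHom hμ
        (fun z hz => Groth.L12.isNilpotent_of_res_eq_zero B ((B.mem_maximalIdeal_iff z).1
          (Groth.L12.ker_le_maximalIdeal μ hz))) φ.1
        fun a ha => Groth.L12.isNilpotent_of_res_eq_zero A
          ((DFunLike.congr_fun φ.2 a).trans ((Groth.L12.mem_maximalIdeal_of_res R.res a).1 ha))
      refine ⟨(⟨g, AlgHom.ext fun a => ?_⟩ : ArtFun.HomSet R.carrier R.res B), Subtype.ext hg⟩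
      rw [AlgHom.comp_apply, ← ArtFun.Art.res_app μ]
      exact (congrArg A.res (DFunLike.congr_fun hg a)).trans (DFunLike.congr_fun φ.2 a)
    obtain ⟨n, ⟨e⟩⟩ := (Groth.Agent.S12722.result Function.surjective_id R).1 hsm
    haveI : IsRegularLocalRing R.carrier := IsRegularLocalRing.of_ringEquiv e.symm.toRingEquiv
    have h1 : ((IsLocalRing.maximalIdeal R.carrier).spanFinrank : WithBot ℕ∞) = (n : WithBot ℕ∞) := by
      rw [(isRegularLocalRing_iff R.carrier).1 inferInstance, ringKrullDim_eq_of_ringEquiv e.toRingEquiv,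
        Groth.L01.PowSerReg.ringKrullDim_eq]
    rw [← IsLocalRing.spanFinrank_maximalIdeal_eq_finrank_cotangentSpace]
    have h2 : (IsLocalRing.maximalIdeal R.carrier).spanFinrank = n := by exact_mod_cast h1
    rw [h2]
    exact ⟨e⟩
end Groth.Agent.S18445
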