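import Groth.Statements.S18449
import Groth.Agent.L03.BlowPt.RationalConfig
import Groth.Agent.L03.SurfAdj.Tools
-- import your own Groth.Agent.* helpers here

set_option autoImplicit false
universe u
open CategoryTheory CategoryTheory.Limits AlgebraicGeometry TopologicalSpace
open Surf

namespace Groth.Agent.S18449

open Groth.L22.Inter Groth.L22.Nef Groth.L22.Big Groth.L03.BlowPt Groth.L03.BlowPt.Ramanujam Groth.L03.SurfAdj

/-- Let k be an algebraically closed field of characteristic zero and X a smooth projective surface over
k (an integral scheme, proper and smooth over k, of dimension 2). Let Z be a nonzero effective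
Cartier divisor on X, given by its ideal sheaf I_Z ≠ O_X, and consider the nonzero effective Cartier
divisors Z' ≤ Z, i.e. those with I_Z = I_{Z'} · J for some effective Cartier ideal J. Then H¹(Z',
O_{Z'}) = 0 for every such Z' if and only if χ(O_{Z'}) ≥ 1, i.e. the arithmetic genus 1 − χ(O_{Z'})
is at most 0, for every such Z'; here cohomology and Euler characteristics are computed on X through
the direct image of O_{Z'}. The published statement is about the cycles supported on the exceptional
curves of a resolution of a normal surface singularity over the complex numbers, where the first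
condition is rationality of the singularity; this row states the equivalence, which the printed
induction proves using only adjunction and the sub-divisors of the given cycle, for the sub-divisors
of one effective divisor. -/
theorem result (k : Type u) [Field k] [IsAlgClosed k] [CharZero k]
    (X : Scheme.{u}) [X.Over (Spec (CommRingCat.of k))] [IsProper (X ↘ (Spec (CommRingCat.of k)))]
    [Smooth (X ↘ (Spec (CommRingCat.of k)))] [IsIntegral X] (hdim : topologicalKrullDim X = 2)
    (Z : X.IdealSheafData) (hZ : FGA.IsEffCartier Z) (hZ0 : Z ≠ ⊤) :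
    (∀ Z' J : X.IdealSheafData, FGA.IsEffCartier Z' → FGA.IsEffCartier J → Z' ≠ ⊤ → Z = Z' * J →
        Subsingleton (Coh.HH X (ClSub.quotMod Z') 1)) ↔
      (∀ Z' J : X.IdealSheafData, FGA.IsEffCartier Z' → FGA.IsEffCartier J → Z' ≠ ⊤ → Z = Z' * J →
        1 ≤ Curv2.euler k X (ClSub.quotMod Z')) := by
  have hd2 : topologicalKrullDim X = (2 : ℕ) := hdim.trans Nat.cast_ofNat.symm
  have hreg : ∀ x : X, IsRegularLocalRing (X.presheaf.stalk x) :=
    fun z => Groth.L08.Cube.isRegularLocalRing_of_smooth (X ↘ Spec (CommRingCat.of k)) z
  refine ⟨fun h Z' J hZ' hJ h0 he => Rational.one_le_euler k hd2 hreg hZ' h0 (h Z' J hZ' hJ h0 he),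
    fun h Z' J hZ' hJ h0 he => ?_⟩
  classical
  obtain ⟨m, hm, rfl⟩ := exists_prodPt k hd2 hreg hZ'
  refine Rational.vanish_of_euler_pos k hd2 hreg m hm (Rational.ne_zero_of_ne_top h0) fun m' hle hne => ?_
  obtain ⟨r, rfl⟩ := Multiset.le_iff_exists_add.1 hle
  rw [Rational.prodPt_add, mul_assoc] at he
  exact h _ _ (isEffCartier_prodPt k hd2 hreg m' fun z hz => hm z (Multiset.mem_add.2 (Or.inl hz)))
    (Groth.L22.Ideals.isEffCartier_mul
      (isEffCartier_prodPt k hd2 hreg r fun z hz => hm z (Multiset.mem_add.2 (Or.inr hz))) hJ)
    (Rational.prodPt_ne_top hne) he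

end Groth.Agent.S18449
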