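import Groth.Statements.S18451
import Groth.Agent.L03.SurfNum.Gram
-- import your own Groth.Agent.* helpers here

set_option autoImplicit false
universe u
open CategoryTheory CategoryTheory.Limits AlgebraicGeometry TopologicalSpace
open Surf

namespace Groth.Agent.S18451

open Groth.L22.Inter Groth.L22.Nef Groth.L22.Big Groth.L03.Euler Groth.L03.SurfNum

/-- Let k be an algebraically closed field of characteristic zero and X a smooth projective surface over
k (integral, proper and smooth over k, of dimension 2, carrying an ample invertible module). Let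
C_1, …, C_r be pairwise distinct integral curves on X (integral closed one-dimensional subschemes
with ideal sheaves I_1, …, I_r) and write G_{ij} = (I_i·I_j) = χ(O_X) − χ(I_i) − χ(I_j) + χ(I_i ⊗
I_j) for their intersection matrix. Suppose the classes of the C_i span a negative definite
sublattice modulo numerical equivalence: for every integer vector a such that Σ_i a_i [C_i] is
numerically nontrivial, meaning that Σ_i a_i (I_i·M) ≠ 0 for some invertible O_X-module M, one has
Σ_{i,j} a_i a_j G_{ij} < 0. Then the classes are linearly independent, i.e. G itself is negative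
definite: Σ_{i,j} a_i a_j G_{ij} < 0 for every nonzero integer vector a. -/
theorem result (k : Type u) [Field k] [IsAlgClosed k] [CharZero k]
    (X : Scheme.{u}) [X.Over (Spec (CommRingCat.of k))] [IsProper (X ↘ (Spec (CommRingCat.of k)))]
    [Smooth (X ↘ (Spec (CommRingCat.of k)))] [IsIntegral X] (hdim : topologicalKrullDim X = 2)
    (hproj : ∃ H : X.Modules, CohB1.IsAmple H)
    (r : ℕ) (C : Fin r → X.IdealSheafData) (hC : Function.Injective C)
    (hCi : ∀ i, IsIntegral (C i).subscheme) (hCd : ∀ i, topologicalKrullDim ((C i).support : Set X) = 1)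
    (hneg : ∀ a : Fin r → ℤ,
      (∃ M : X.Modules, PicF.IsInvertible M ∧
        ∑ i, a i * FGA.intNum k X 2 ![(ClSub.idealMod (C i)), M] (Coh.structureModule X) ≠ 0) →
      ∑ i, ∑ j, a i * a j * FGA.intNum k X 2 ![(ClSub.idealMod (C i)), (ClSub.idealMod (C j))] (Coh.structureModule X) < 0) :
    ∀ a : Fin r → ℤ, a ≠ 0 →
      ∑ i, ∑ j, a i * a j * FGA.intNum k X 2 ![(ClSub.idealMod (C i)), (ClSub.idealMod (C j))] (Coh.structureModule X) < 0 := by
  have hd2 : topologicalKrullDim X = (2 : ℕ) := hdim.trans Nat.cast_ofNat.symm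
  have hd := hd2.le
  have hreg := fun z => Groth.L08.Cube.isRegularLocalRing_of_smooth (X ↘ Spec (CommRingCat.of k)) z
  obtain ⟨H, hH⟩ := hproj
  have hinv : ∀ i, PicF.IsInvertible (ClSub.idealMod (C i)) := fun i =>
    haveI := hCi i; isInvertible_idealMod k hd2 hreg (C i) (hCd i)
  have hoff := Gram.offdiag k hd C hC hCi hCd hinv
  intro a ha
  refine hneg a ?_
  by_contra hne
  have hnum : ∀ M : X.Modules, PicF.IsInvertible M → ∑ i, (a i : ℚ) * ii k (ClSub.idealMod (C i)) M = 0 := by
    intro M hM
    simp only [← intNum_eq_ii k hd]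
    exact_mod_cast not_not.1 fun h => hne ⟨M, hM, h⟩
  -- the positive and negative parts vanish
  let p : Fin r → ℤ := fun i => max (a i) 0
  let m : Fin r → ℤ := fun i => max (-a i) 0
  have hpm : ∀ i, a i = p i - m i := fun i => (max_zero_sub_max_neg_zero_eq_self _).symm
  have hcross : 0 ≤ ∑ i, ∑ j, (p i : ℚ) * m j * Gram.gr k C i j := by
    refine Finset.sum_nonneg fun i _ => Finset.sum_nonneg fun j _ => ?_
    by_cases hij : i = j
    · subst hij
      rcases le_total (a i) 0 with h' | h'
      · simp [p, max_eq_right h']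
      · simp [m, max_eq_right (neg_nonpos.2 h')]
    · exact mul_nonneg (mul_nonneg (Int.cast_nonneg (le_max_right _ _)) (Int.cast_nonneg (le_max_right _ _))) (hoff i j hij)
  have hnt : ∀ b : Fin r → ℤ, (∀ i, 0 ≤ b i) → b ≠ 0 →
      ∑ i, ∑ j, (b i : ℚ) * b j * Gram.gr k C i j < 0 := by
    intro b hb hb0
    rw [← Gram.intGram k hd C]
    refine Int.cast_lt_zero.2 (hneg b ⟨H, hH.1, fun h0 => hb0 (funext fun i => ?_)⟩)
    have h1 : ((∑ i, b i * FGA.intNum k X 2 ![(ClSub.idealMod (C i)), H] (Coh.structureModule X) : ℤ) : ℚ) = 0 := by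
      rw [h0, Int.cast_zero]
    push_cast at h1
    simp only [intNum_eq_ii k hd] at h1
    have hH' : ∀ j, ii k (ClSub.idealMod (C j)) H < 0 := fun j =>
      haveI := hCi j; Gram.curve_ample_neg k hd hH (C j) (hCd j) (hinv j)
    have h2 := (Finset.sum_eq_zero_iff_of_nonpos fun j _ =>
      mul_nonpos_of_nonneg_of_nonpos (Int.cast_nonneg (hb j)) (hH' j).le).1 h1 i (Finset.mem_univ i)
    exact_mod_cast (mul_eq_zero.1 h2).resolve_right (hH' i).ne
  have hrow : ∀ j, ∑ i, (p i : ℚ) * Gram.gr k C i j = ∑ i, (m i : ℚ) * Gram.gr k C i j := fun j => by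
    rw [← sub_eq_zero, ← Finset.sum_sub_distrib, ← hnum _ (hinv j)]
    exact Finset.sum_congr rfl fun i _ => by rw [hpm i]; push_cast; ring
  have key : ∀ b : Fin r → ℤ, ∑ j, (b j : ℚ) * ∑ i, (p i : ℚ) * Gram.gr k C i j =
      ∑ j, (b j : ℚ) * ∑ i, (m i : ℚ) * Gram.gr k C i j := fun b => by simp only [hrow]
  have e1 : ∀ b c : Fin r → ℤ, ∑ j, (b j : ℚ) * ∑ i, (c i : ℚ) * Gram.gr k C i j =
      ∑ i, ∑ j, (c i : ℚ) * b j * Gram.gr k C i j := fun b c => by
    simp only [Finset.mul_sum]
    rw [Finset.sum_comm]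
    exact Finset.sum_congr rfl fun i _ => Finset.sum_congr rfl fun j _ => by ring
  have hp := key p
  have hm := key m
  rw [e1, e1] at hp hm
  have hsymm : ∑ i, ∑ j, (m i : ℚ) * p j * Gram.gr k C i j = ∑ i, ∑ j, (p i : ℚ) * m j * Gram.gr k C i j := by
    rw [Finset.sum_comm]
    exact Finset.sum_congr rfl fun i _ => Finset.sum_congr rfl fun j _ => by
      rw [Gram.gr, ii_comm]; ring
  refine ha (funext fun i => ?_)
  have hp0 : p = 0 := by_contra fun h => absurd (hnt p (fun _ => le_max_right _ _) h) (by linarith)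
  have hm0 : m = 0 := by_contra fun h => absurd (hnt m (fun _ => le_max_right _ _) h) (by linarith)
  rw [hpm i, hp0, hm0]
  simp

end Groth.Agent.S18451
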