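import Groth.Statements.S18452
import Groth.Agent.L21.Conic.Fibration
import Groth.Agent.L03.Ruled.Push
import Groth.Agent.L03.SurfRR.BlowPoint
import Groth.Agent.L07.SmoothFibre
import Groth.Agent.L26.Weil.Axes
import Groth.Agent.S16754
import Groth.Agent.L17.BC.GenApply
import Groth.Agent.L21.Smooth.Scheme

set_option backward.isDefEq.respectTransparency false
set_option linter.style.haveILetI false

set_option autoImplicit false
universe u
open CategoryTheory CategoryTheory.Limits AlgebraicGeometry TopologicalSpace
open Surf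

namespace Groth.Agent.S18452

/-- Let k be an algebraically closed field, X a smooth projective surface over k (integral, proper and
smooth over k, of dimension 2), C a nonsingular complete curve over k (integral, proper over k, of
dimension 1, with regular local rings) and π : X → C a surjective k-morphism whose fibre over every
closed point of C is isomorphic to the projective line over k, so that π : X → C is a geometrically
ruled surface. Then π admits a section: there is a morphism σ : C → X with σ followed by π equal to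
the identity of C. The published statement is over the complex numbers; its algebraic proof works
over any algebraically closed field, so this row makes no characteristic assumption. -/
theorem result (k : Type u) [Field k] [IsAlgClosed k]
    (X : Scheme.{u}) [X.Over (Spec (CommRingCat.of k))] [IsProper (X ↘ (Spec (CommRingCat.of k)))]
    [Smooth (X ↘ (Spec (CommRingCat.of k)))] [IsIntegral X] (hdim : topologicalKrullDim X = 2)
    (C : Scheme.{u}) [C.Over (Spec (CommRingCat.of k))] [IsIntegral C] [IsProper (C ↘ (Spec (CommRingCat.of k)))]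
    (hdimC : topologicalKrullDim C = 1) (hregC : ∀ x : C, IsRegularLocalRing (C.presheaf.stalk x))
    (π : X ⟶ C) (hπ : π ≫ (C ↘ (Spec (CommRingCat.of k))) = (X ↘ (Spec (CommRingCat.of k))))
    (hsurj : Function.Surjective π)
    (hfib : ∀ y : C, IsClosed ({y} : Set C) → Nonempty (pullback π (C.fromSpecResidueField y) ≅ CohB1.ProjSpace 1 k)) :
    ∃ σ : C ⟶ X, σ ≫ π = 𝟙 C := by
  let sC : C ⟶ Spec (CommRingCat.of k) := C ↘ Spec (CommRingCat.of k)
  let sX : X ⟶ Spec (CommRingCat.of k) := X ↘ Spec (CommRingCat.of k)
  haveI hsmC : Smooth (C ↘ Spec (CommRingCat.of k)) :=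
    Groth.L26.Weil.smooth_of_regular_closed _ fun x _ => hregC x
  haveI : π.IsOver (Spec (CommRingCat.of k)) := ⟨hπ⟩
  haveI : Surjective π := ⟨hsurj⟩
  haveI : IsDominant π := ⟨hsurj.denseRange⟩
  haveI := Groth.L21.RR.isNoetherian_of_proper (X := X) k
  haveI := Groth.L21.RR.isNoetherian_of_proper (X := C) k
  haveI : C.IsSeparated := ⟨by rw [← terminal.comp_from (C ↘ Spec (CommRingCat.of k))]; infer_instance⟩
  haveI : IsProper (π ≫ sC) := by rw [show π ≫ sC = sX from hπ]; infer_instance
  haveI : IsProper π := IsProper.of_comp π sC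
  haveI : LocallyOfFiniteType π := inferInstance
  haveI : LocallyOfFinitePresentation π := inferInstance
  haveI := Groth.L03.SurfNum.flat_of_surjective k hdimC π
  have hreg : ∀ x : X, IsRegularLocalRing (X.presheaf.stalk x) := fun x =>
    Groth.L21.Smooth.regular_stalk (X ↘ Spec (CommRingCat.of k)) x
  have hd : topologicalKrullDim X = (2 : ℕ) := hdim
  -- every fibre is smooth
  have hclosed : ∀ y : C, IsClosed ({y} : Set C) → Smooth (π.fiberToSpecResidueField y) := fun y hy => by
    letI : Algebra k (C.residueField y) := Curv2.resAlgebra k C y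
    haveI : Module.Finite k (C.residueField y) := Groth.L21.Disc.finite_residueField_of_isClosed k hy
    haveI : IsAlgClosed (C.residueField y) :=
      IsAlgClosed.of_ringEquiv k _ (RingEquiv.ofBijective (algebraMap k (C.residueField y))
        IsAlgClosed.algebraMap_bijective_of_isIntegral)
    haveI : LocallyOfFiniteType (π.fiberToSpecResidueField y) := MorphismProperty.pullback_snd _ _ inferInstance
    obtain ⟨φ⟩ := hfib y hy
    let φ' : π.fiber y ⟶ CohB1.ProjSpace 1 k := φ.hom
    haveI : IsIso φ' := inferInstanceAs (IsIso φ.hom)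
    refine Groth.L26.Weil.smooth_of_regular_closed (K := C.residueField y) _ fun x _ => ?_
    haveI := Groth.L21.Smooth.regular_stalk (CohB1.ProjSpace.toSpec 1 k) (φ' x)
    exact IsRegularLocalRing.of_ringEquiv (asIso (φ'.stalkMap x)).commRingCatIsoToRingEquiv
  have hsm : ∀ y : C, Smooth (π.fiberToSpecResidueField y) := fun y => by
    by_contra hy
    obtain ⟨z, hyz, hz⟩ := (Groth.L07.SmoothFibre.isOpen_smooth_fibre π).isClosed_compl.exists_closed_singleton
      ⟨y, hy⟩
    exact hyz (hclosed z hz)
  set η : C := genericPoint C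
  letI : (π.fiber η).Over (Spec (CommRingCat.of (C.residueField η))) := ⟨π.fiberToSpecResidueField η⟩
  haveI : IsProper (π.fiber η ↘ Spec (CommRingCat.of (C.residueField η))) :=
    MorphismProperty.pullback_snd π _ ‹IsProper π›
  haveI : Smooth (π.fiber η ↘ Spec (CommRingCat.of (C.residueField η))) := hsm η
  have hdη : topologicalKrullDim ↥(π.fiber η) = 1 :=
    Groth.L21.Conic.fibre_dim_generic sX sC π hπ hdim hdimC
  -- cohomology of the generic fibre
  let O := Coh.structureModule X
  have hO : PicF.IsInvertible O := Groth.L18.Ample.isInvertible_structureModule X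
  haveI : Coh.IsQCoh O := Groth.L21.Extend.isQCoh_of_isInvertible hO
  have hfp : CohB1.IsFP O := Groth.L18.LFP.isFP_of_isFinLocFree _ (Groth.L16.Existence.isFinLocFree_of_isInvertible hO)
  have hfl := Groth.Agent.Pic0.isFlatOver_of_isInvertible π hO
  obtain ⟨z, hz, -⟩ : ∃ z : C, IsClosed ({z} : Set C) ∧ True :=
    ⟨_, (Groth.L21.RR.exists_closed_specialization (genericPoint C)).choose_spec.1, trivial⟩
  obtain ⟨φz⟩ := hfib z hz
  have hii : Groth.L22.Big.ii k O (ClSub.idealMod (π.fiberι z).ker) = 0 :=
    (Groth.L22.Big.ii_comm k _ _).trans (Groth.L03.SurfRR.ii_structure k _)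
  obtain ⟨hvan, hrk⟩ := Groth.L03.Ruled.fibre_vanish hd hreg hdimC π z hz φz hO hii.le
  have hmem : ∀ U : Set C, IsOpen U → z ∈ U → η ∈ U := fun U hU hzU =>
    (genericPoint_specializes z).mem_open hU hzU
  have hh1 : CohIII.fiberRank π O 1 η < 1 := hmem _ (Groth.L17.BC.isOpen_fiberRank_lt π O hfp hfl 1 1)
    (Nat.lt_one_iff.2 ((Groth.L17.BC.subsingleton_iff_fiberRank_eq_zero π O hfp hfl z 1).1 (hvan 1 one_pos)))
  have hz0 : CohIII.fiberRank π O 0 z = 1 := by
    rw [hii, sub_zero] at hrk
    exact_mod_cast hrk
  have hh0 : CohIII.fiberRank π O 0 η < 2 := hmem _ (Groth.L17.BC.isOpen_fiberRank_lt π O hfp hfl 0 2)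
    (show CohIII.fiberRank π O 0 z < 2 by omega)
  let e : CohIII.fiberMod π O η ≅ Coh.structureModule (π.fiber η) :=
    Groth.L29.LocFree.pullbackUnitIso (π.fiberι η)
  have hrank : ∀ p, CohIII.fiberRank π O p η =
      Module.finrank (C.residueField η) (Coh.HH (π.fiber η) (Coh.structureModule (π.fiber η)) p) := fun p =>
    (Groth.L03.SurfAdj.hhEquiv (C.residueField η) e p).finrank_eq
  have hgen : Curv2.genus (C.residueField η) (π.fiber η) = 0 :=
    (hrank 1).symm.trans (Nat.lt_one_iff.1 hh1)
  have h01 : Module.finrank (C.residueField η) (Coh.HH (π.fiber η) (Coh.structureModule (π.fiber η)) 0) = 1 := by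
    haveI := Groth.L21.RR.isNoetherian_of_proper (X := π.fiber η) (C.residueField η)
    haveI := Groth.L21.RR.finite_HH' (C.residueField η) (X := π.fiber η)
      (Groth.L18.Ample.isCoh_of_isInvertible (Groth.L18.Ample.isInvertible_structureModule (π.fiber η))) 0
    haveI : Nontrivial (Coh.HH (π.fiber η) (Coh.structureModule (π.fiber η)) 0) := by
      obtain ⟨x, hx⟩ := hsurj η
      haveI : Nonempty (π.fiber η) := by
        obtain ⟨w, -⟩ : x ∈ Set.range (π.fiberι η) := by rw [π.range_fiberι]; exact hx
        exact ⟨w⟩
      haveI : Nonempty ((⊤ : (π.fiber η).Opens) : Scheme) := ⟨⟨Classical.arbitrary _, trivial⟩⟩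
      haveI : Nontrivial Γ(Coh.structureModule (π.fiber η), ⊤) := inferInstanceAs (Nontrivial Γ(π.fiber η, ⊤))
      exact (Groth.L21.RR.e0 (Coh.structureModule (π.fiber η))).toEquiv.nontrivial
    have hpos := Module.finrank_pos (R := C.residueField η)
      (M := Coh.HH (π.fiber η) (Coh.structureModule (π.fiber η)) 0)
    have := hrank 0
    omega
  have h16754 := Groth.Agent.S16754.result (C.residueField η) (π.fiber η) hdη
  haveI : GeometricallyIntegral (π.fiber η ↘ Spec (CommRingCat.of (C.residueField η))) :=
    h16754.2.1 (h16754.1.1 h01)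
  haveI : IsIntegral (π.fiber η) :=
    GeometricallyIntegral.isIntegral_of_subsingleton (π.fiber η ↘ Spec (CommRingCat.of (C.residueField η)))
  letI : Algebra k (C.residueField η) := Curv2.resAlgebra k C η
  have hK : Curves.IsCi (C.residueField η) 1 := by
    obtain ⟨n, hn, ht, -⟩ := Groth.L22.SchemeDim.exists_dim_eq_trdeg k C
    obtain rfl : n = 1 := by
      rw [hdimC] at hn
      exact_mod_cast hn.symm
    exact Groth.Agent.S0212.result k (C.residueField η) 1 ht
  obtain ⟨s, hs⟩ := Groth.L21.Conic.exists_ratPoint (X := π.fiber η) (C.residueField η) hK hdη hgen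
  exact Groth.L21.Conic.exists_section_of_generic sC π hdimC.le s hs

end Groth.Agent.S18452
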