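import Groth.Statements.S18455
import Groth.Agent.L03.BlowPt.CanNum
-- import your own Groth.Agent.* helpers here

set_option autoImplicit false
universe u
open CategoryTheory CategoryTheory.Limits AlgebraicGeometry TopologicalSpace
open Surf

namespace Groth.Agent.S18455

open Groth.L03.BlowPt

/-- Let k be an algebraically closed field of characteristic zero and X a smooth projective surface over
k (integral, proper and smooth over k, of dimension 2) with canonical module W, a second exterior
power of Ω_{X/k}. Let x be a closed point of X and π : X' → X a blowing up of X in the ideal of x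
(characterised by its universal property), with X' again an integral scheme of dimension 2, proper
and smooth over k through π, W' a canonical module of X' and I_E the exceptional ideal (the inverse
image of the ideal of x). Let C be an integral curve on X with ideal I_C and C' an integral curve on
X' with ideal I_{C'}, such that the inverse image ideal of C on X' equals I_{C'} · I_E^m for some
natural number m; thus C' is the proper transform of C and m the multiplicity of C at x. Writing
(A·B) = χ(O) − χ(A) − χ(B) + χ(A ⊗ B) for intersection numbers on X and on X', one has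
(I_{C'}·I_{C'}) − (I_{C'}·W') = (I_C·I_C) − (I_C·W) − m(m − 1); in terms of arithmetic genera
2p_a(C') − 2 = K'·C' + C'² = K·C + C² − m(m−1) = 2p_a(C) − 2 − m(m−1), so p_a drops by m(m−1)/2. -/
theorem result (k : Type u) [Field k] [IsAlgClosed k] [CharZero k]
    (X : Scheme.{u}) [X.Over (Spec (CommRingCat.of k))] [IsProper (X ↘ (Spec (CommRingCat.of k)))]
    [Smooth (X ↘ (Spec (CommRingCat.of k)))] [IsIntegral X] (hdim : topologicalKrullDim X = 2)
    (W : X.Modules) (hW : ExtPow.IsExtPow 2 (Omega.sheaf (X ↘ (Spec (CommRingCat.of k)))) W)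
    (x : X) (hx : IsClosed ({x} : Set X))
    (X' : Scheme.{u}) (π : X' ⟶ X) (hπ : BlowUp.IsBlowUp π (Scheme.IdealSheafData.vanishingIdeal ⟨{x}, hx⟩))
    [IsIntegral X'] (hdim' : topologicalKrullDim X' = 2)
    [IsProper (π ≫ (X ↘ (Spec (CommRingCat.of k))))] [Smooth (π ≫ (X ↘ (Spec (CommRingCat.of k))))]
    (W' : X'.Modules) (hW' : ExtPow.IsExtPow 2 (Omega.sheaf (π ≫ (X ↘ (Spec (CommRingCat.of k))))) W')
    (C : X.IdealSheafData) (hCi : IsIntegral C.subscheme) (hCd : topologicalKrullDim (C.support : Set X) = 1)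
    (C' : X'.IdealSheafData) (hC'i : IsIntegral C'.subscheme) (hC'd : topologicalKrullDim (C'.support : Set X') = 1)
    (m : ℕ) (hm : C.comap π = C' * (BlowUp.exceptional π (Scheme.IdealSheafData.vanishingIdeal ⟨{x}, hx⟩)) ^ m) :
    letI : X'.Over (Spec (CommRingCat.of k)) := ⟨π ≫ (X ↘ (Spec (CommRingCat.of k)))⟩
    FGA.intNum k X' 2 ![(ClSub.idealMod C'), (ClSub.idealMod C')] (Coh.structureModule X') -
        FGA.intNum k X' 2 ![(ClSub.idealMod C'), W'] (Coh.structureModule X') =
      FGA.intNum k X 2 ![(ClSub.idealMod C), (ClSub.idealMod C)] (Coh.structureModule X) -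
        FGA.intNum k X 2 ![(ClSub.idealMod C), W] (Coh.structureModule X) - (m : ℤ) * ((m : ℤ) - 1) := by
  letI oX' : X'.Over (Spec (CommRingCat.of k)) := ⟨π ≫ (X ↘ (Spec (CommRingCat.of k)))⟩
  haveI : IsProper (X' ↘ (Spec (CommRingCat.of k))) := inferInstanceAs (IsProper (π ≫ (X ↘ (Spec (CommRingCat.of k)))))
  haveI : Smooth (X' ↘ (Spec (CommRingCat.of k))) := inferInstanceAs (Smooth (π ≫ (X ↘ (Spec (CommRingCat.of k)))))
  have hd : topologicalKrullDim X = (2 : ℕ) := hdim.trans Nat.cast_ofNat.symm
  have hd' : topologicalKrullDim X' = (2 : ℕ) := hdim'.trans Nat.cast_ofNat.symm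
  have hreg := Groth.L03.SurfAdj.reg_of_smooth k (X := X)
  have hreg' := Groth.L03.SurfAdj.reg_of_smooth k (X := X')
  haveI := hCi
  haveI := hC'i
  have hCc := (Groth.Agent.L19.IdealInvertible.isEffCartier_iff _).1
    (Groth.L03.SurfNum.isInvertible_idealMod k hd hreg C hCd)
  have hC'c := (Groth.Agent.L19.IdealInvertible.isEffCartier_iff _).1
    (Groth.L03.SurfNum.isInvertible_idealMod k hd' hreg' C' hC'd)
  obtain ⟨-, hW'i, -⟩ := canonical_iso k (b := π) rfl hdim hreg hdim' hreg' hπ hW hW'
  obtain ⟨h1, h2, -⟩ := canonical_num k (b := π) rfl hdim hreg hdim' hreg' hπ hW hW'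
  obtain ⟨-, h4, h5⟩ := strict_num k (b := π) rfl hdim hreg hdim' hπ hCc hC'c m hm
  have h6 := h5 W' hW'i
  rw [h2 _ ((Groth.Agent.L19.IdealInvertible.isEffCartier_iff _).2 hCc),
    Groth.L22.Big.ii_comm k (ClSub.idealMod (exc _ π)) W', h1] at h6
  rw [← Groth.L22.Big.intNum_eq_ii k hd'.le, ← Groth.L22.Big.intNum_eq_ii k hd.le] at h4 h6
  qify
  rw [h4, h6]
  ring

end Groth.Agent.S18455
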