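import Groth.Statements.S18456
import Groth.Agent.L03.BlowPt.RationalConfig
import Groth.Agent.L03.SurfAdj.Tools
-- import your own Groth.Agent.* helpers here

set_option autoImplicit false
universe u
open CategoryTheory CategoryTheory.Limits AlgebraicGeometry TopologicalSpace
open Surf

namespace Groth.Agent.S18456

open Groth.L22.Inter Groth.L22.Nef Groth.L22.Big Groth.L03.BlowPt Groth.L03.BlowPt.Ramanujam Groth.L03.SurfAdj

/-- Let k be an algebraically closed field of characteristic zero and X a smooth projective surface over
k (integral, proper and smooth over k, of dimension 2). Let C_1, …, C_r be pairwise distinct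
integral curves on X with ideal sheaves I_i, each with H¹(C_i, O_{C_i}) = 0 (so C_i ≅ P¹) and
self-intersection (I_i·I_i) = −2, and with negative definite intersection matrix: Σ_{i,j} a_i a_j
(I_i·I_j) < 0 for every nonzero integer vector a, where (A·B) = χ(O_X) − χ(A) − χ(B) + χ(A ⊗ B).
Then H¹(Z, O_Z) = 0 for every nonzero effective Cartier divisor Z on X supported on ⋃ C_i,
cohomology computed on X through the direct image of O_Z. The published statement concludes that the
singularity obtained by contracting the configuration over the complex numbers is rational; the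
vanishing for all supported nonzero effective divisors is the form of rationality the printed
argument establishes, and this row states that form. -/
theorem result (k : Type u) [Field k] [IsAlgClosed k] [CharZero k]
    (X : Scheme.{u}) [X.Over (Spec (CommRingCat.of k))] [IsProper (X ↘ (Spec (CommRingCat.of k)))]
    [Smooth (X ↘ (Spec (CommRingCat.of k)))] [IsIntegral X] (hdim : topologicalKrullDim X = 2)
    (r : ℕ) (C : Fin r → X.IdealSheafData) (hC : Function.Injective C)
    (hCi : ∀ i, IsIntegral (C i).subscheme) (hCd : ∀ i, topologicalKrullDim ((C i).support : Set X) = 1)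
    (hCrat : ∀ i, Subsingleton (Coh.HH X (ClSub.quotMod (C i)) 1))
    (hC2 : ∀ i, FGA.intNum k X 2 ![(ClSub.idealMod (C i)), (ClSub.idealMod (C i))] (Coh.structureModule X) = -2)
    (hneg : ∀ a : Fin r → ℤ, a ≠ 0 →
      ∑ i, ∑ j, a i * a j * FGA.intNum k X 2 ![(ClSub.idealMod (C i)), (ClSub.idealMod (C j))] (Coh.structureModule X) < 0)
    (Z : X.IdealSheafData) (hZ : FGA.IsEffCartier Z) (hZ0 : Z ≠ ⊤)
    (hZs : (Z.support : Set X) ⊆ ⋃ i, ((C i).support : Set X)) :
    Subsingleton (Coh.HH X (ClSub.quotMod Z) 1) := by
  have hd2 : topologicalKrullDim X = (2 : ℕ) := hdim.trans Nat.cast_ofNat.symm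
  have hreg : ∀ x : X, IsRegularLocalRing (X.presheaf.stalk x) :=
    fun z => Groth.L08.Cube.isRegularLocalRing_of_smooth (X ↘ Spec (CommRingCat.of k)) z
  refine Rational.minusTwo k hd2 hreg hC hCi hCd hCrat (fun i => ?_) (fun a ha => ?_) Z hZ hZ0 hZs
  · rw [← intNum_eq_ii k hd2.le, hC2 i]; norm_num
  · have h := hneg a ha
    have h' : ((∑ i, ∑ j, a i * a j * FGA.intNum k X 2 ![(ClSub.idealMod (C i)), (ClSub.idealMod (C j))]
        (Coh.structureModule X) : ℤ) : ℚ) < 0 := by exact_mod_cast h
    push_cast at h'
    simpa only [intNum_eq_ii k hd2.le] using h' 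

end Groth.Agent.S18456
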