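import Groth.Statements.S18457
import Mathlib.RingTheory.Artinian.Ring
import Mathlib.RingTheory.Artinian.Module
import Mathlib.LinearAlgebra.FiniteDimensional.Basic
import Mathlib.LinearAlgebra.Dimension.RankNullity
import Mathlib.LinearAlgebra.FiniteDimensional.Lemmas
import Mathlib.Algebra.Order.Chebyshev
import Mathlib.Tactic.Linarith
import Mathlib.Tactic.Positivity
import Mathlib.Tactic.IntervalCases

set_option autoImplicit false
open Finset
open Surf

namespace Groth.Agent.S18457

/-- In the Picard lattice of the plane blown up at n ≤ 8 points, with basis h, e_1, …, e_n, form h² = 1,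
e_i² = −1, all other products 0, and anticanonical class D = 3h − Σ e_i, let d·h − Σ a_i e_i be a
class with all a_i ≥ 0 (the class of the strict transform of a degree-d plane curve having
multiplicity a_i at the i-th point) which is a (−2)-class orthogonal to D, that is d² − Σ a_i² = −2
and 3d = Σ a_i. Then one of the following holds: d = 1 and every a_i is 0 or 1 with exactly three
equal to 1; d = 2 and every a_i is 0 or 1 with exactly six equal to 1; d = 3, n = 8, and one a_i
equals 2 while the remaining seven equal 1. The published statement is geometric: under the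
general-position hypotheses on the points, no smooth rational curve on the blown-up plane is
orthogonal to D; this row is the lattice enumeration its proof carries out (a line through three of
the points, a conic through six, a cubic through all eight and singular at one). -/
theorem result (n : ℕ) (hn : n ≤ 8)
    (d : ℤ) (a : Fin n → ℤ) (ha : ∀ i, 0 ≤ a i)
    (hsq : d ^ 2 - ∑ i, (a i) ^ 2 = -2) (hK : 3 * d = ∑ i, a i) :
    (d = 1 ∧ (∀ i, a i = 0 ∨ a i = 1) ∧ (Finset.univ.filter (fun i => a i = 1)).card = 3) ∨
      (d = 2 ∧ (∀ i, a i = 0 ∨ a i = 1) ∧ (Finset.univ.filter (fun i => a i = 1)).card = 6) ∨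
      (d = 3 ∧ n = 8 ∧ ∃ j, a j = 2 ∧ ∀ i, i ≠ j → a i = 1) := by
  have hS1 : ∑ i, a i = 3 * d := hK.symm
  have hS2 : ∑ i, (a i) ^ 2 = d ^ 2 + 2 := by linarith
  have hcs := sq_sum_le_card_mul_sum_sq (s := Finset.univ) (f := a)
  rw [hS1, hS2, Finset.card_univ, Fintype.card_fin] at hcs
  have hn' : (n : ℤ) ≤ 8 := by exact_mod_cast hn
  have hd0 : 0 ≤ d := by have := Finset.sum_nonneg (s := Finset.univ) fun i _ => ha i; omega
  have hd4 : d ≤ 4 := by nlinarith
  have binary : (∑ i, a i ^ 2 = ∑ i, a i) → (∀ i, a i = 0 ∨ a i = 1) ∧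
      ((Finset.univ.filter (fun i => a i = 1)).card : ℤ) = ∑ i, a i := by
    intro h
    have h0 : ∑ i, a i * (a i - 1) = 0 := by
      simp only [mul_sub, mul_one, Finset.sum_sub_distrib, ← pow_two, h, sub_self]
    have hnn : ∀ i ∈ (Finset.univ : Finset (Fin n)), 0 ≤ a i * (a i - 1) := fun i _ => by
      rcases le_or_gt (a i) 0 with h | h <;> nlinarith [ha i]
    have hi : ∀ i, a i = 0 ∨ a i = 1 := fun i => by
      rcases mul_eq_zero.mp ((Finset.sum_eq_zero_iff_of_nonneg hnn).mp h0 i (Finset.mem_univ i)) with h | h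
      · left; exact h
      · right; linarith
    refine ⟨hi, ?_⟩
    rw [Finset.card_filter]
    push_cast
    exact Finset.sum_congr rfl fun i _ => by rcases hi i with h | h <;> simp [h]
  interval_cases d
  · have := (Finset.sum_eq_zero_iff_of_nonneg (fun i _ => ha i)).mp (by simpa using hS1)
    simp [this] at hS2
  · obtain ⟨h1, h2⟩ := binary (by rw [hS1, hS2]; norm_num)
    exact Or.inl ⟨rfl, h1, by rw [hS1] at h2; omega⟩
  · obtain ⟨h1, h2⟩ := binary (by rw [hS1, hS2]; norm_num)
    exact Or.inr (Or.inl ⟨rfl, h1, by rw [hS1] at h2; omega⟩)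
  · right; right
    have e1 : ∑ i, (a i - 1) ^ 2 = (n : ℤ) - 7 := by
      simp only [sub_sq, one_pow, mul_one, Finset.sum_add_distrib, Finset.sum_sub_distrib, ← Finset.mul_sum, hS1, hS2]
      simp; ring
    have hnn : ∀ i ∈ (Finset.univ : Finset (Fin n)), 0 ≤ (a i - 1) ^ 2 := fun i _ => sq_nonneg _
    by_cases h8 : n = 8
    · subst h8
      refine ⟨rfl, rfl, ?_⟩
      have : ∃ j, a j ≠ 1 := by
        by_contra hh; push Not at hh; simp [hh] at e1
      obtain ⟨j, hj⟩ := this
      have hle := Finset.single_le_sum hnn (Finset.mem_univ j)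
      have hj1 : (a j - 1) ^ 2 = 1 := by
        have : (a j - 1) ^ 2 ≠ 0 := pow_ne_zero 2 (sub_ne_zero.mpr hj)
        have := sq_nonneg (a j - 1); push_cast at e1; omega
      have hoth : ∀ i, i ≠ j → a i = 1 := fun i hij => by
        have h2 : (a i - 1) ^ 2 + (a j - 1) ^ 2 ≤ ∑ k, (a k - 1) ^ 2 := by
          rw [← Finset.sum_pair (f := fun k => (a k - 1) ^ 2) hij]
          exact Finset.sum_le_sum_of_subset_of_nonneg (Finset.subset_univ _) fun k _ _ => sq_nonneg _
        have h3 : (a i - 1) ^ 2 = 0 := by have := sq_nonneg (a i - 1); push_cast at e1; omega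
        have := eq_zero_of_pow_eq_zero h3; omega
      refine ⟨j, ?_, hoth⟩
      have h4 : ∑ i, a i = a j + 7 := by
        rw [← Finset.add_sum_erase _ _ (Finset.mem_univ j), Finset.sum_congr rfl (fun i hi => hoth i (Finset.ne_of_mem_erase hi))]
        simp
      omega
    · exfalso
      have h7 : n = 7 := by have := Finset.sum_nonneg hnn; omega
      subst h7
      have h0 := (Finset.sum_eq_zero_iff_of_nonneg hnn).mp (by rw [e1]; norm_num)
      have h11 : ∀ i, a i = 1 := fun i => by
        have := eq_zero_of_pow_eq_zero (h0 i (Finset.mem_univ i)); omega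
      simp [h11] at hS1
  · exfalso
    have h8 : n = 8 := by norm_num at hcs; omega
    subst h8
    have e : ∑ i, (2 * a i - 3) ^ 2 = 0 := by
      simp only [sub_sq, mul_pow, Finset.sum_add_distrib, Finset.sum_sub_distrib, ← Finset.mul_sum, mul_assoc, ← Finset.sum_mul, hS2, hS1]
      simp
    have := eq_zero_of_pow_eq_zero ((Finset.sum_eq_zero_iff_of_nonneg (fun i _ => sq_nonneg _)).mp e 0 (Finset.mem_univ _))
    omega

end Groth.Agent.S18457
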