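import Groth.Statements.S18458
import Groth.Agent.L03.SurfNum.Gram
-- import your own Groth.Agent.* helpers here

set_option autoImplicit false
universe u
open CategoryTheory CategoryTheory.Limits AlgebraicGeometry TopologicalSpace
open Surf

namespace Groth.Agent.S18458

open Groth.L22.Inter Groth.L22.Nef Groth.L22.Big Groth.L03.Euler Groth.L03.SurfNum

/-- Let k be an algebraically closed field of characteristic zero and X a smooth projective surface over
k (integral, proper and smooth over k, of dimension 2, carrying an ample invertible module). Let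
C_1, …, C_r be pairwise distinct integral curves on X with ideal sheaves I_i whose intersection
matrix is negative definite: Σ_{i,j} a_i a_j (I_i·I_j) < 0 for every nonzero integer vector a, where
(A·B) = χ(O_X) − χ(A) − χ(B) + χ(A ⊗ B). Then there is an invertible O_X-module L (the sheaf of a
divisor H) which is nef and big and is orthogonal to exactly the curves C_i: writing (L·C) = χ(O_C ⊗
L) − χ(O_C) for the degree of L on an integral curve C, one has (L·C) ≥ 0 for every integral curve
C, (L·L) > 0, and (L·C) = 0 if and only if C is one of the C_i. -/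
theorem result (k : Type u) [Field k] [IsAlgClosed k] [CharZero k]
    (X : Scheme.{u}) [X.Over (Spec (CommRingCat.of k))] [IsProper (X ↘ (Spec (CommRingCat.of k)))]
    [Smooth (X ↘ (Spec (CommRingCat.of k)))] [IsIntegral X] (hdim : topologicalKrullDim X = 2)
    (hproj : ∃ H : X.Modules, CohB1.IsAmple H)
    (r : ℕ) (C : Fin r → X.IdealSheafData) (hC : Function.Injective C)
    (hCi : ∀ i, IsIntegral (C i).subscheme) (hCd : ∀ i, topologicalKrullDim ((C i).support : Set X) = 1)
    (hneg : ∀ a : Fin r → ℤ, a ≠ 0 →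
      ∑ i, ∑ j, a i * a j * FGA.intNum k X 2 ![(ClSub.idealMod (C i)), (ClSub.idealMod (C j))] (Coh.structureModule X) < 0) :
    ∃ L : X.Modules, PicF.IsInvertible L ∧
      (∀ D : X.IdealSheafData, IsIntegral D.subscheme → topologicalKrullDim (D.support : Set X) = 1 →
        0 ≤ Curv2.euler k X (CohB1.tensorMod (ClSub.quotMod D) L) - Curv2.euler k X (ClSub.quotMod D)) ∧
      0 < FGA.intNum k X 2 ![L, L] (Coh.structureModule X) ∧
      (∀ D : X.IdealSheafData, IsIntegral D.subscheme → topologicalKrullDim (D.support : Set X) = 1 →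
        (Curv2.euler k X (CohB1.tensorMod (ClSub.quotMod D) L) - Curv2.euler k X (ClSub.quotMod D) = 0 ↔
          ∃ i, D = C i)) := by
  have hd2 : topologicalKrullDim X = (2 : ℕ) := hdim.trans Nat.cast_ofNat.symm
  have hd := hd2.le
  have hreg := fun z => Groth.L08.Cube.isRegularLocalRing_of_smooth (X ↘ Spec (CommRingCat.of k)) z
  obtain ⟨H, hH⟩ := hproj
  have hinv : ∀ i, PicF.IsInvertible (ClSub.idealMod (C i)) := fun i =>
    haveI := hCi i; isInvertible_idealMod k hd2 hreg (C i) (hCd i)
  have hoff := Gram.offdiag k hd C hC hCi hCd hinv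
  obtain ⟨q, hq⟩ : ∃ q : Fin r → ℚ, ∀ j, ∑ i, q i * Gram.gr k C i j = ii k (ClSub.idealMod (C j)) H := by
    let M : (Fin r → ℚ) →ₗ[ℚ] (Fin r → ℚ) :=
      { toFun := fun a j => ∑ i, a i * Gram.gr k C i j
        map_add' := fun a b => funext fun j => by simp [add_mul, Finset.sum_add_distrib]
        map_smul' := fun c a => funext fun j => by simp [Finset.mul_sum, mul_assoc] }
    have hM : Function.Injective M := LinearMap.ker_eq_bot.1 (LinearMap.ker_eq_bot'.2 fun a ha => by
      refine Gram.eq_zero_of_gram_nonneg k hd C hneg a (le_of_eq ?_)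
      rw [Finset.sum_comm]
      symm
      refine Finset.sum_eq_zero fun j _ => ?_
      have := congrFun ha j
      calc ∑ i, a i * a j * Gram.gr k C i j = a j * ∑ i, a i * Gram.gr k C i j := by
            rw [Finset.mul_sum]; exact Finset.sum_congr rfl fun i _ => by ring
        _ = 0 := by rw [show ∑ i, a i * Gram.gr k C i j = 0 from this, mul_zero])
    obtain ⟨a, ha⟩ := LinearMap.surjective_of_injective hM (fun j => ii k (ClSub.idealMod (C j)) H)
    exact ⟨a, fun j => congrFun ha j⟩
  have hH' : ∀ j, ii k (ClSub.idealMod (C j)) H < 0 := fun j =>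
    haveI := hCi j; Gram.curve_ample_neg k hd hH (C j) (hCd j) (hinv j)
  obtain ⟨p, m, hp, hm, hpm, hcross, -⟩ := Gram.split_ge k hd C q hoff
  have hm0 : m = 0 := by
    refine Gram.eq_zero_of_gram_nonneg k hd C hneg m ?_
    have h2 : ∑ j, m j * ∑ i, q i * Gram.gr k C i j ≤ 0 :=
      Finset.sum_nonpos fun j _ => by rw [hq]; exact mul_nonpos_of_nonneg_of_nonpos (hm j) (hH' j).le
    have h3 : ∑ j, m j * ∑ i, q i * Gram.gr k C i j =
        ∑ i, ∑ j, p i * m j * Gram.gr k C i j - ∑ i, ∑ j, m i * m j * Gram.gr k C i j := by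
      simp only [Finset.mul_sum, ← Finset.sum_sub_distrib, hpm]
      rw [Finset.sum_comm]
      exact Finset.sum_congr rfl fun i _ => Finset.sum_congr rfl fun j _ => by ring
    linarith
  have hq0 : ∀ i, 0 ≤ q i := fun i => by rw [hpm i, hm0]; simpa using hp i
  obtain ⟨D, z, hD, hz⟩ := exists_int q
  obtain ⟨L, hL, hLii⟩ : ∃ L : X.Modules, PicF.IsInvertible L ∧ ∀ M : X.Modules, PicF.IsInvertible M →
      ii k L M = (D : ℚ) * ii k H M - ∑ i, (z i : ℚ) * ii k (ClSub.idealMod (C i)) M := by
    classical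
    suffices ∀ S : Finset (Fin r), ∃ L : X.Modules, PicF.IsInvertible L ∧ ∀ M : X.Modules, PicF.IsInvertible M →
        ii k L M = (D : ℚ) * ii k H M - ∑ i ∈ S, (z i : ℚ) * ii k (ClSub.idealMod (C i)) M from this Finset.univ
    intro S
    induction S using Finset.induction_on with
    | empty =>
      exact ⟨_, Groth.L18.Ample.isInvertible_tensorPow hH.1 D, fun M hM => by
        rw [ii_pow k hd hH.1 hM, Finset.sum_empty, sub_zero]⟩
    | insert a S ha ih =>
      obtain ⟨L, hL, hLii⟩ := ih
      obtain ⟨N, hN, ⟨e⟩⟩ := Groth.L08.Cube.exists_inverse (hinv a)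
      have hza : 0 ≤ z a := by
        have : (0 : ℚ) ≤ (z a : ℚ) := by rw [hz]; exact mul_nonneg (Nat.cast_nonneg _) (hq0 a)
        exact_mod_cast this
      have hNz := Groth.L18.Ample.isInvertible_tensorPow hN (z a).toNat
      refine ⟨_, Groth.L18.GenLoc.isInvertible_tensor hL hNz, fun M hM => ?_⟩
      rw [ii_tensor k hd hL hNz hM, ii_pow k hd hN hM, Gram.ii_inverse k hd (hinv a) hN hM e, hLii M hM,
        Finset.sum_insert ha, show (((z a).toNat : ℕ) : ℚ) = (z a : ℚ) by exact_mod_cast Int.toNat_of_nonneg hza]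
      ring
  have hLC : ∀ j, ii k L (ClSub.idealMod (C j)) = 0 := fun j => by
    rw [hLii _ (hinv j), ii_comm k H, ← hq j, Finset.mul_sum, sub_eq_zero]
    exact Finset.sum_congr rfl fun i _ => by rw [hz i]; ring
  have hdeg : ∀ (Γ : X.IdealSheafData), IsIntegral Γ.subscheme → topologicalKrullDim (Γ.support : Set X) = 1 →
      ((Curv2.euler k X (CohB1.tensorMod (ClSub.quotMod Γ) L) - Curv2.euler k X (ClSub.quotMod Γ) : ℤ) : ℚ) =
        -(D : ℚ) * ii k H (ClSub.idealMod Γ) + ∑ i, (z i : ℚ) * ii k (ClSub.idealMod (C i)) (ClSub.idealMod Γ) := by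
    intro Γ hΓi hΓd
    haveI := hΓi
    have hi := isInvertible_idealMod k hd2 hreg Γ hΓd
    rw [Gram.deg_eq k Γ hi hL, ii_comm, hLii _ hi]
    ring
  have hpos : ∀ (Γ : X.IdealSheafData), IsIntegral Γ.subscheme → topologicalKrullDim (Γ.support : Set X) = 1 →
      (¬ ∃ i, Γ = C i) → (0 : ℚ) < ((Curv2.euler k X (CohB1.tensorMod (ClSub.quotMod Γ) L) -
        Curv2.euler k X (ClSub.quotMod Γ) : ℤ) : ℚ) := by
    intro Γ hΓi hΓd hne
    haveI := hΓi
    have hi := isInvertible_idealMod k hd2 hreg Γ hΓd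
    rw [hdeg Γ hΓi hΓd, ii_comm k H]
    refine add_pos_of_pos_of_nonneg ?_ (Finset.sum_nonneg fun i _ => ?_)
    · rw [neg_mul, ← mul_neg]
      exact mul_pos (Nat.cast_pos.2 hD) (neg_pos.2 (Gram.curve_ample_neg k hd hH Γ hΓd hi))
    · haveI := hCi i
      refine mul_nonneg (by rw [hz]; exact mul_nonneg (Nat.cast_nonneg _) (hq0 i)) ?_
      exact Gram.curve_pair_nonneg k hd _ _ (hCd i) hΓd (hinv i) hi fun e => hne ⟨i, e.symm⟩
  have hzero : ∀ i, Curv2.euler k X (CohB1.tensorMod (ClSub.quotMod (C i)) L) - Curv2.euler k X (ClSub.quotMod (C i)) = 0 :=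
    fun i => by
      have h := Gram.deg_eq k (C i) (hinv i) hL
      rw [ii_comm, hLC i, neg_zero] at h
      exact_mod_cast h
  refine ⟨L, hL, fun Γ hΓi hΓd => ?_, ?_, fun Γ hΓi hΓd => ⟨fun h => ?_, ?_⟩⟩
  · by_cases hne : ∃ i, Γ = C i
    · obtain ⟨i, rfl⟩ := hne
      exact (hzero i).ge
    · exact_mod_cast (hpos Γ hΓi hΓd hne).le
  · have hLH : 0 < ii k L H := by
      rw [hLii H hH.1, sub_pos]
      refine lt_of_le_of_lt (Finset.sum_nonpos fun i _ => mul_nonpos_of_nonneg_of_nonpos
        (by rw [hz]; exact mul_nonneg (Nat.cast_nonneg _) (hq0 i)) (hH' i).le)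
        (mul_pos (Nat.cast_pos.2 hD) (ii_ample_pos k hd hd2 hH))
    have hLL : 0 < ii k L L := by
      rw [hLii L hL, ii_comm k H L]
      simp only [ii_comm k (ClSub.idealMod (C _)) L, hLC, mul_zero, Finset.sum_const_zero, sub_zero]
      exact mul_pos (Nat.cast_pos.2 hD) hLH
    rw [← intNum_eq_ii k hd] at hLL
    exact_mod_cast hLL
  · by_contra hne
    have := hpos Γ hΓi hΓd hne
    rw [h] at this
    simp at this
  · rintro ⟨i, rfl⟩
    exact hzero i

end Groth.Agent.S18458
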