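import Groth.Statements.S18459
import Groth.Agent.L03.Hirz.Basic
import Groth.Agent.L03.SurfAdj.Vertical
import Groth.Agent.L21.P1.Coh
import Groth.Agent.L21.P1.PullTwist
import Groth.Agent.L22.Big.SurfaceMain
import Groth.Agent.L13.PointBlow.Acyclic
import Groth.Agent.L03.SurfAmple.Canonical
import Groth.Agent.L16.ProjSpace.StdSmooth
import Groth.Agent.L16.ProjSpace.AmpleIff
import Groth.Agent.L21.Bundle.Lines
-- import your own Groth.Agent.* helpers here

set_option autoImplicit false
universe u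
open CategoryTheory CategoryTheory.Limits AlgebraicGeometry TopologicalSpace
open Surf

namespace Groth.Agent.S18459

open Groth.L22.Inter Groth.L22.Nef Groth.L22.Big Groth.L03.SurfNum Groth.L03.Hirz
open Groth.L03.SurfAdj (hhEquiv reg_of_smooth)
open Groth.L00.Tensor (tensorIso tensorComm tensorUnitLeft tensorUnitRight tensorAssoc)
set_option backward.isDefEq.respectTransparency false
set_option linter.style.haveILetI false
set_option maxHeartbeats 800000

/-- Fix an algebraically closed field k of characteristic zero, and suppose X is a smooth projective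
surface over k (integral, proper and smooth over k, of dimension 2). Assume given a surjective
k-morphism π : X → P¹_k each of whose fibres over a closed point is isomorphic to P¹_k, together
with an integral curve σ ⊂ X having ideal sheaf I_σ, such that π^*O(1) restricts to a degree-1 sheaf
on σ (σ·f = 1 for the fibre class f, so σ is a section) and (I_σ·I_σ) = −n for some natural number n
(σ² = −n); in other words X is the rational ruled surface F_n and σ its negative section. Take N to
be a tensor inverse of I_σ (the sheaf O_X(σ)), fix integers a ≥ 0 and b, and set L = N^{⊗a} ⊗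
π^*O_{P¹}(b), the sheaf attached to aσ + bf. The conclusions: (i) L is nef, meaning χ(O_C ⊗ L) −
χ(O_C) ≥ 0 for each integral curve C ⊂ X, exactly when na ≤ b; (ii) L is globally generated exactly
when na ≤ b; (iii) L admits a nonzero global section (equivalently, some effective divisor lies in
the linear class of aσ + bf) exactly when 0 ≤ b. Intersection numbers are computed as (A·B) = χ(O_X)
− χ(A) − χ(B) + χ(A ⊗ B). In the published version a may be any integer, with a ≥ 0 included in the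
numerical condition; when a < 0 none of the three properties holds, and here a ≥ 0 is imposed.
Neither the published second condition (|aσ + bf| non-empty with no fixed curve) nor the ampleness
criterion a > 0, b > na is restated. -/
theorem result (k : Type u) [Field k] [IsAlgClosed k] [CharZero k]
    (X : Scheme.{u}) [X.Over (Spec (CommRingCat.of k))] [IsProper (X ↘ (Spec (CommRingCat.of k)))]
    [Smooth (X ↘ (Spec (CommRingCat.of k)))] [IsIntegral X] (hdim : topologicalKrullDim X = 2)
    (π : X ⟶ CohB1.ProjSpace 1 k) (hπ : π ≫ CohB1.ProjSpace.toSpec 1 k = (X ↘ (Spec (CommRingCat.of k))))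
    (hsurj : Function.Surjective π)
    (hfib : ∀ y : CohB1.ProjSpace 1 k, IsClosed ({y} : Set (CohB1.ProjSpace 1 k)) →
      Nonempty (pullback π ((CohB1.ProjSpace 1 k).fromSpecResidueField y) ≅ CohB1.ProjSpace 1 k))
    (σ : X.IdealSheafData) (hσi : IsIntegral σ.subscheme) (hσd : topologicalKrullDim (σ.support : Set X) = 1)
    (hσf : Curv2.euler k X (CohB1.tensorMod (ClSub.quotMod σ) ((Scheme.Modules.pullback π).obj (Twist.twistProjSpace 1 k 1))) -
      Curv2.euler k X (ClSub.quotMod σ) = 1)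
    (n : ℕ) (hσσ : FGA.intNum k X 2 ![(ClSub.idealMod σ), (ClSub.idealMod σ)] (Coh.structureModule X) = -(n : ℤ))
    (N : X.Modules) (hN : ClSub.IsInverseOf N (ClSub.idealMod σ)) (a : ℕ) (b : ℤ) :
    ((∀ C : X.IdealSheafData, IsIntegral C.subscheme → topologicalKrullDim (C.support : Set X) = 1 →
        0 ≤ Curv2.euler k X (CohB1.tensorMod (ClSub.quotMod C)
          (CohB1.tensorMod (CohB1.tensorPow N a) ((Scheme.Modules.pullback π).obj (Twist.twistProjSpace 1 k b)))) -
          Curv2.euler k X (ClSub.quotMod C)) ↔ (n : ℤ) * a ≤ b) ∧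
      (Curv2.IsGloballyGenerated (CohB1.tensorMod (CohB1.tensorPow N a) ((Scheme.Modules.pullback π).obj (Twist.twistProjSpace 1 k b))) ↔
        (n : ℤ) * a ≤ b) ∧
      (Nontrivial (Coh.HH X (CohB1.tensorMod (CohB1.tensorPow N a) ((Scheme.Modules.pullback π).obj (Twist.twistProjSpace 1 k b))) 0) ↔
        0 ≤ b) := by
  classical
  haveI : IsIntegral (CohB1.ProjSpace 1 k) := Groth.L16.ProjSpace.isIntegral 1 k
  haveI : IsProper (CohB1.ProjSpace.toSpec 1 k) := Groth.L16.ProjSpace.isProper_toSpec 1 k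
  letI oP : (CohB1.ProjSpace 1 k).Over (Spec (CommRingCat.of k)) := ⟨CohB1.ProjSpace.toSpec 1 k⟩
  haveI : IsProper ((CohB1.ProjSpace 1 k) ↘ Spec (CommRingCat.of k)) :=
    inferInstanceAs (IsProper (CohB1.ProjSpace.toSpec 1 k))
  haveI : Smooth ((CohB1.ProjSpace 1 k) ↘ Spec (CommRingCat.of k)) :=
    inferInstanceAs (Smooth (CohB1.ProjSpace.toSpec 1 k))
  have hdP : topologicalKrullDim (CohB1.ProjSpace 1 k) = 1 :=
    (Groth.L16.ProjSpace.topologicalKrullDim_eq_of_field (n := 1) k).trans Nat.cast_one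
  haveI : π.IsOver (Spec (CommRingCat.of k)) := ⟨hπ⟩
  haveI : Surjective π := ⟨hsurj⟩
  haveI := Groth.L21.RR.isNoetherian_of_proper (X := X) k
  have hd2 : topologicalKrullDim X = (2 : ℕ) := hdim.trans Nat.cast_ofNat.symm
  have hd := hd2.le
  have hreg := reg_of_smooth k (X := X)
  haveI : X.IsSeparated := ⟨by rw [← terminal.comp_from (X ↘ Spec (CommRingCat.of k))]; infer_instance⟩
  haveI := hσi
  -- twists
  let O : ℤ → (CohB1.ProjSpace 1 k).Modules := fun d => Twist.twistProjSpace 1 k d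
  let Bd : ℤ → X.Modules := fun d => (Scheme.Modules.pullback π).obj (O d)
  have hO : ∀ d, PicF.IsInvertible (O d) := fun d => Groth.L16.ProjTwist.isInvertible_twistProjSpace 1 k d
  have hBd : ∀ d, PicF.IsInvertible (Bd d) := fun d => Groth.L18.Ample.isInvertible_pullback π (hO d)
  have hcov := Groth.L21.P1.exists_basicOpen_one (k := k)
  have hBadd : ∀ p q : ℤ, Nonempty (CohB1.tensorMod (Bd p) (Bd q) ≅ Bd (p + q)) := fun p q => by
    obtain ⟨e⟩ := Groth.L16.ProjTwist.nonempty_tensor_twist_iso_one (CohB1.polyGrading 1 k) hcov p q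
    exact ⟨Groth.L29.DC.PullTensor.pullTensor π _ _ ≪≫ (Scheme.Modules.pullback π).mapIso e⟩
  let A := Bd 1
  have hiiB : ∀ (M : X.Modules), PicF.IsInvertible M → ∀ d : ℤ, ii k (Bd d) M = d * ii k A M := fun M hM d => by
    let f : ℤ →+ ℚ := AddMonoidHom.mk' (fun d => ii k (Bd d) M) fun p q => by
      obtain ⟨e⟩ := hBadd p q
      rw [← ii_congr k e, ii_tensor k hd (hBd p) (hBd q) hM]
    have h := map_zsmul f d 1
    rw [zsmul_one, zsmul_eq_mul] at h
    exact h
  have hggO : ∀ d : ℤ, 0 ≤ d → Curv2.IsGloballyGenerated (O d) := fun d hd0 => by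
    refine Groth.L21.RR.isGloballyGenerated_of_deg k hdP.le (Groth.L22.CurveDeg.h0_structure_eq_one k) (hO d) ?_
    obtain ⟨e0⟩ := Groth.L16.ProjTwist.nonempty_twist_zero_iso (CohB1.polyGrading 1 k)
    have h1 := (Groth.L21.P1.h_O k 0).2
    rw [Groth.L21.RR.h_congr k e0 1] at h1
    have he := Groth.L21.P1.euler_O k d
    have he0 := Groth.L21.P1.euler_O k 0
    rw [Groth.L03.Euler.euler_iso e0] at he0
    rw [Curv2.deg]
    simp only [neg_zero, zero_sub, Int.reduceNeg, Int.reduceToNat, Int.toNat_of_nonpos (show (-1 : ℤ) ≤ 0 by norm_num)] at h1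
    rw [show Groth.L21.RR.h k 1 (Coh.structureModule (CohB1.ProjSpace 1 k)) = 0 from h1,
      show Curv2.euler k (CohB1.ProjSpace 1 k) (O d) = d + 1 from he,
      show Curv2.euler k (CohB1.ProjSpace 1 k) (Coh.structureModule _) = 0 + 1 from he0]
    push_cast
    omega
  have hggB : ∀ d : ℤ, 0 ≤ d → Curv2.IsGloballyGenerated (Bd d) := fun d hd0 =>
    Groth.L13.PointBlow.gg_pullback π (hggO d hd0)
  have hnA : IsNef k A := isNef_of_gg k hd (hBd 1) (hggB 1 zero_le_one)
  -- the section
  have hIi := Groth.L03.SurfNum.isInvertible_idealMod k hd2 hreg σ hσd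
  obtain ⟨eN⟩ := hN
  have hNi : PicF.IsInvertible N := Groth.L22.EnrSev.isInvertible_of_inverse hIi (tensorComm _ _ ≪≫ eN)
  have hiiN : ∀ M : X.Modules, PicF.IsInvertible M → ii k N M = - ii k (ClSub.idealMod σ) M := fun M hM =>
    Gram.ii_inverse k hd hIi hNi hM (tensorComm _ _ ≪≫ eN)
  have hσA : ii k (ClSub.idealMod σ) A = -1 := by
    have h := Gram.deg_eq k σ hIi (hBd 1)
    rw [show Curv2.euler k X (CohB1.tensorMod (ClSub.quotMod σ) (Bd 1)) - Curv2.euler k X (ClSub.quotMod σ) = 1 from hσf]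
      at h
    push_cast at h
    linarith
  have hσσ' : ii k (ClSub.idealMod σ) (ClSub.idealMod σ) = -(n : ℚ) := by
    rw [← intNum_eq_ii k hd, hσσ]; push_cast; rfl
  let L : ℕ → ℤ → X.Modules := fun i j => CohB1.tensorMod (CohB1.tensorPow N i) (Bd j)
  have hLi : ∀ i j, PicF.IsInvertible (L i j) := fun i j =>
    Groth.L18.GenLoc.isInvertible_tensor (Groth.L18.Ample.isInvertible_tensorPow hNi i) (hBd j)
  have hiiL : ∀ (i : ℕ) (j : ℤ) (M : X.Modules), PicF.IsInvertible M →
      ii k (L i j) M = -(i : ℚ) * ii k (ClSub.idealMod σ) M + j * ii k A M := fun i j M hM => by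
    rw [ii_tensor k hd (Groth.L18.Ample.isInvertible_tensorPow hNi i) (hBd j) hM, ii_pow k hd hNi hM,
      hiiN M hM, hiiB M hM]
    ring
  -- (i)
  have hnef : ∀ (i : ℕ) (j : ℤ), IsNef k (L i j) ↔ (n : ℤ) * i ≤ j := fun i j => by
    rw [isNef_iff k (hLi i j)]
    constructor
    · intro h
      have h1 := h σ hσi hσd
      have h2 := Gram.deg_eq k σ hIi (hLi i j)
      rw [ii_comm, hiiL i j _ hIi, hσσ', ii_comm k A, hσA] at h2
      have h3 : (0 : ℚ) ≤ ((Curv2.euler k X (CohB1.tensorMod (ClSub.quotMod σ) (L i j)) -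
        Curv2.euler k X (ClSub.quotMod σ) : ℤ) : ℚ) := Int.cast_nonneg h1
      rw [h2] at h3
      have h4 : (((n : ℤ) * i : ℤ) : ℚ) ≤ (j : ℚ) := by push_cast; linarith
      exact_mod_cast h4
    · intro h C hC hCd
      haveI := hC
      have hCi := Groth.L03.SurfNum.isInvertible_idealMod k hd2 hreg C hCd
      have h2 := Gram.deg_eq k C hCi (hLi i j)
      rw [ii_comm, hiiL i j _ hCi] at h2
      have hj : ((n : ℚ) * i) ≤ (j : ℚ) := by exact_mod_cast h
      have hj0 : (0 : ℚ) ≤ j := le_trans (by positivity) hj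
      have hpos : (0 : ℚ) ≤ ((Curv2.euler k X (CohB1.tensorMod (ClSub.quotMod C) (L i j)) -
        Curv2.euler k X (ClSub.quotMod C) : ℤ) : ℚ) := by
        rw [h2]
        by_cases hCσ : C = σ
        · subst hCσ
          rw [hσσ', ii_comm k A, hσA]
          linarith
        · have h5 := Gram.curve_pair_nonneg k hd σ C hσd hCd hIi hCi (Ne.symm hCσ)
          have h6 : ii k A (ClSub.idealMod C) ≤ 0 := by
            have h7 := (isNef_iff k (hBd 1)).1 hnA C hC hCd
            have h8 := Gram.deg_eq k C hCi (hBd 1)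
            have h9 : (0 : ℚ) ≤ ((Curv2.euler k X (CohB1.tensorMod (ClSub.quotMod C) (Bd 1)) -
              Curv2.euler k X (ClSub.quotMod C) : ℤ) : ℚ) := Int.cast_nonneg h7
            rw [h8, ii_comm] at h9
            linarith
          nlinarith [mul_nonneg (Nat.cast_nonneg (α := ℚ) i) h5, mul_nonpos_of_nonneg_of_nonpos hj0 h6]
      exact Int.cast_nonneg_iff.1 hpos
  -- the section is a line
  let g := σ.subschemeι
  letI oσ : σ.subscheme.Over (Spec (CommRingCat.of k)) := ⟨g ≫ (X ↘ Spec (CommRingCat.of k))⟩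
  haveI : IsProper (σ.subscheme ↘ Spec (CommRingCat.of k)) :=
    inferInstanceAs (IsProper (g ≫ (X ↘ Spec (CommRingCat.of k))))
  haveI := Groth.L21.RR.isNoetherian_of_proper (X := σ.subscheme) k
  have hσ1 : topologicalKrullDim σ.subscheme = 1 := by rw [← dim_closure_image g, ← dim_support σ, hσd]
  have hdegσ : ∀ {M : X.Modules}, PicF.IsInvertible M →
      ((Curv2.deg k σ.subscheme ((Scheme.Modules.pullback g).obj M) 1 : ℤ) : ℚ) = - ii k (ClSub.idealMod σ) M :=
    fun {M} hM => by
      have h := Groth.L03.SurfNum.CurveDegree.deg_pullback k g hd2 hreg (hσ1.trans Nat.cast_one.symm) hM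
      rw [Scheme.IdealSheafData.ker_subschemeι] at h
      exact h
  have hdA : Curv2.deg k σ.subscheme ((Scheme.Modules.pullback g).obj A) 1 = 1 := by
    have h := hdegσ (hBd 1)
    rw [hσA] at h
    simp only [neg_neg] at h
    exact_mod_cast h
  have hAσ := Groth.L18.Ample.isInvertible_pullback g (hBd 1)
  obtain ⟨eσ, heσ⟩ := Groth.L21.RR.exists_iso_projLine_of_h0_ge k hσ1 hAσ hdA
    (two_le_h0 k hσ1.le hAσ (Groth.L13.PointBlow.gg_pullback g (hggB 1 zero_le_one)) hdA)
  have h1σ := Groth.L21.RR.subsingleton_h1_of_iso k eσ heσ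
  -- no H¹ for fibre classes
  have hvan : ∀ d : ℤ, 0 ≤ d → Subsingleton (Coh.HH X (Bd d) 1) := fun d hd0 => by
    have hfibre : ∀ y : CohB1.ProjSpace 1 k, IsClosed ({y} : Set (CohB1.ProjSpace 1 k)) →
        ii k (Bd d) (ClSub.idealMod (π.fiberι y).ker) = -((0 : ℕ) : ℚ) := fun y hy => by
      haveI : IsClosedImmersion ((CohB1.ProjSpace 1 k).fromSpecResidueField y) :=
        isClosed_singleton_iff_isClosedImmersion.mp hy
      haveI : IsClosedImmersion (π.fiberι y) :=
        inferInstanceAs (IsClosedImmersion (pullback.fst π ((CohB1.ProjSpace 1 k).fromSpecResidueField y)))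
      obtain ⟨hF, -, hsupp, -⟩ := Groth.L03.SurfNum.fibre_ideal k hdP π hy
      obtain ⟨φ⟩ := hfib y hy
      obtain ⟨z, hz, hzpt, -⟩ := Groth.L03.Ruled.fibre_curve hd2 hreg hdP π y hy φ
      haveI : IsIntegral (π.fiberι y).ker.subscheme := by rw [hzpt]; exact Groth.L22.Inter.isIntegral_pt z
      have hFd : topologicalKrullDim ((π.fiberι y).ker.support : Set X) = 1 := by
        rw [hzpt, Groth.L18.support_vanishingIdeal]; exact hz.trans Nat.cast_one
      rw [Nat.cast_zero, neg_zero]
      exact Groth.L03.SurfAdj.ii_pullback_vertical k π (hO d) _ hFd hF (c := y)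
        fun x hx => hsupp.le hx
    have hf' : ∀ y : CohB1.ProjSpace 1 k, IsClosed ({y} : Set (CohB1.ProjSpace 1 k)) →
        ii k (Bd d) (ClSub.idealMod (π.fiberι y).ker) ≤ 0 := fun y hy => by rw [hfibre y hy]; simp
    have hJ1 := Groth.L03.Ruled.isFinLocFreeOfRank_push hd2 hreg hdP π hfib (hBd d) hf' 0 hfibre
    have hJ : PicF.IsInvertible ((Coh.push π).obj (Bd d)) :=
      Groth.L21.Bundle.isInvertible_of_rank hJ1
    obtain ⟨e⟩ := Groth.L03.Ruled.nonempty_HH_equiv hd2 hreg hdP π hfib (hBd d) hf' 0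
    obtain ⟨e1⟩ := Groth.L03.Ruled.nonempty_HH_equiv hd2 hreg hdP π hfib (hBd d) hf' 1
    obtain ⟨s, hs⟩ := nontrivial_of_gg (hBd d) (hggB d hd0)
    haveI : Nontrivial (Coh.HH X (Bd d) 0) := Groth.L22.Big.nontrivial_of_section k (hBd d) hs
    haveI : Nontrivial (Coh.HH (CohB1.ProjSpace 1 k) ((Coh.push π).obj (Bd d)) 0) := e.symm.toEquiv.nontrivial
    have hdeg := Groth.L21.RR.deg_nonneg k hdP.le hJ inferInstance
    have h1O : Subsingleton (Coh.HH (CohB1.ProjSpace 1 k) (Coh.structureModule _) 1) :=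
      Groth.L21.RR.subsingleton_h1_of_iso k (Iso.refl _) rfl
    haveI := Groth.L21.RR.subsingleton_h1_of_deg_gt k hdP.le (Groth.L22.CurveDeg.h0_structure_eq_one k) hJ (by
      rw [Groth.L21.RR.h_eq_zero_of_subsingleton k h1O]; push_cast; omega)
    exact e1.toEquiv.subsingleton
  -- the model class
  have hggM : Curv2.IsGloballyGenerated (CohB1.tensorMod N (Bd n)) := by
    refine Groth.L13.CurveContr.isGloballyGenerated_of_twist (I := σ) (hBd n) (hggB n (Int.natCast_nonneg n))
      (Groth.L18.GenLoc.isInvertible_tensor hNi (hBd n)) (hvan n (Int.natCast_nonneg n))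
      ((tensorAssoc _ _ _).symm ≪≫ tensorIso (tensorComm _ _ ≪≫ eN) (Iso.refl _) ≪≫ tensorUnitLeft _) fun _ => ?_
    have hM := Groth.L18.GenLoc.isInvertible_tensor hNi (hBd n)
    have hz : Curv2.deg k σ.subscheme ((Scheme.Modules.pullback g).obj (CohB1.tensorMod N (Bd n))) 1 = 0 := by
      have h := hdegσ hM
      rw [ii_comm, ii_tensor k hd hNi (hBd n) hIi, hiiN _ hIi, hσσ', hiiB _ hIi, ii_comm k A, hσA] at h
      push_cast at h
      have h' : ((Curv2.deg k σ.subscheme ((Scheme.Modules.pullback g).obj (CohB1.tensorMod N (Bd n))) 1 : ℤ) : ℚ) =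
        ((0 : ℤ) : ℚ) := by push_cast; linarith
      exact_mod_cast h'
    obtain ⟨e⟩ := trivial_of_deg_zero k hσ1.le h1σ (Groth.L18.Ample.isInvertible_pullback g hM) hz
    exact ⟨e.symm⟩
  have hgg : ∀ (i : ℕ) (j : ℤ), (n : ℤ) * i ≤ j → Curv2.IsGloballyGenerated (L i j) := by
    intro i
    induction i with
    | zero =>
      exact fun j hj => Groth.L18.Ample.isGloballyGenerated_of_iso (tensorUnitLeft (Bd j)).symm
        (hggB j (by simpa using hj))
    | succ i ih =>
      intro j hj
      obtain ⟨e⟩ := hBadd (j - n) n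
      have h := gg_tensor (hLi i (j - n)) (Groth.L18.GenLoc.isInvertible_tensor hNi (hBd n))
        (ih (j - n) (by push_cast at hj; linarith)) hggM
      exact Groth.L18.Ample.isGloballyGenerated_of_iso (Groth.L00.Tensor.tensorMiddleFour _ _ _ _ ≪≫
        tensorIso (Iso.refl _) (e ≪≫ eqToIso (by rw [sub_add_cancel]))) h
  have hnefgg : ∀ (i : ℕ) (j : ℤ), Curv2.IsGloballyGenerated (L i j) → (n : ℤ) * i ≤ j := fun i j h =>
    (hnef i j).1 (isNef_of_gg k hd (hLi i j) h)
  refine ⟨(isNef_iff k (hLi a b)).symm.trans (hnef a b), ⟨hnefgg a b, hgg a b⟩, ⟨fun hs => ?_, fun hb => ?_⟩⟩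
  · have hB : IsNef k (L 1 n) := (hnef 1 n).2 (by simp)
    have h := ii_nonneg_of_section k hd (hLi a b) hB hs
    rw [hiiL a b _ (hLi 1 n), ii_comm k (ClSub.idealMod σ), hiiL 1 n _ hIi, hσσ', ii_comm k A (ClSub.idealMod σ), hσA,
      ii_comm k A (L 1 n), hiiL 1 n A (hBd 1), hσA] at h
    have hAA : 0 ≤ ii k A A := by
      obtain ⟨s1, hs1⟩ := nontrivial_of_gg (hBd 1) (hggB 1 zero_le_one)
      exact ii_nonneg_of_section k hd (hBd 1) hnA (Groth.L22.Big.nontrivial_of_section k (hBd 1) hs1)
    push_cast at h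
    have h4 : ((0 : ℤ) : ℚ) ≤ (b : ℚ) := by
      push_cast
      have hn0 : (0 : ℚ) ≤ (n : ℚ) * ii k A A := mul_nonneg (Nat.cast_nonneg n) hAA
      by_contra hb
      nlinarith [lt_of_not_ge hb]
    exact_mod_cast h4
  · obtain ⟨t, ht⟩ := nontrivial_of_gg (hBd b) (hggB b hb)
    obtain ⟨M, s, hM, ⟨eM⟩, hloc⟩ := Groth.L08.Cube.exists_section_of_effCartier σ
      ((Groth.Agent.L19.IdealInvertible.isEffCartier_iff σ).1 hIi)
    obtain ⟨eMN⟩ : Nonempty (M ≅ N) := ⟨(tensorUnitLeft _).symm ≪≫
      tensorIso (tensorComm _ _ ≪≫ eN).symm (Iso.refl _) ≪≫ tensorIso (tensorComm _ _) (Iso.refl _) ≪≫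
      tensorAssoc _ _ _ ≪≫ tensorIso (Iso.refl _) eM ≪≫ tensorUnitRight _⟩
    have hηs : genericPoint X ∈ CohB1.genLocus M s := by
      show genericPoint X ∈ (CohB1.genLocus M s : Set X)
      rw [hloc]
      exact Groth.L03.SurfAmple.genericPoint_mem_of_isEffCartier
        ((Groth.Agent.L19.IdealInvertible.isEffCartier_iff σ).1 hIi)
    obtain ⟨p, hp⟩ : ∃ p : Coh.structureModule X ⟶ CohB1.tensorPow M a,
        genericPoint X ∈ CohB1.genLocus _ p := by
      clear hiiL
      induction a with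
      | zero =>
        exact ⟨𝟙 _, (Groth.L21.CurveAdj.mem_genLocus_iff' (Groth.L18.Ample.isInvertible_structureModule X) _ _).2
          fun v => ⟨v, by simp only [Groth.L21.RR.st, CategoryTheory.Functor.map_id]; rfl⟩⟩
      | succ a ih =>
        obtain ⟨p, hp⟩ := ih
        refine ⟨Groth.L18.GenLoc.tensHom p s, ?_⟩
        show genericPoint X ∈ CohB1.genLocus (CohB1.tensorMod (CohB1.tensorPow M a) M) _
        rw [Groth.L18.GenLoc.genLocus_tensHom (Groth.L18.Ample.isInvertible_tensorPow hM a) hM]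
        exact ⟨hp, hηs⟩
    have hMa := Groth.L18.Ample.isInvertible_tensorPow hM a
    have hq : genericPoint X ∈ CohB1.genLocus _ (Groth.L18.GenLoc.tensHom p t) := by
      rw [Groth.L18.GenLoc.genLocus_tensHom hMa (hBd b)]
      exact ⟨hp, Groth.L22.CurveAmple.genericPoint_mem_genLocus (hBd b) ht⟩
    haveI : Nontrivial (Coh.HH X (CohB1.tensorMod (CohB1.tensorPow M a) (Bd b)) 0) := by
      refine Groth.L22.Big.nontrivial_of_section k (Groth.L18.GenLoc.isInvertible_tensor hMa (hBd b))
        (φ := Groth.L18.GenLoc.tensHom p t) fun h0 => ?_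
      rw [h0] at hq
      exact Groth.L16.notMem_genLocus_zero _ _ hq
    exact (hhEquiv k (tensorIso (Groth.L00.Tensor.tensorPowIso eMN a) (Iso.refl (Bd b))) 0).symm.toEquiv.nontrivial

end Groth.Agent.S18459
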