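import Groth.Statements.S18460
import Groth.Agent.L03.SurfNum.NegDef
import Groth.Agent.L03.SurfAmple.Exists
import Groth.Agent.L00.EquidimFlat
-- import your own Groth.Agent.* helpers here

set_option autoImplicit false
universe u
open CategoryTheory CategoryTheory.Limits AlgebraicGeometry TopologicalSpace
open Surf

namespace Groth.Agent.S18460

open Groth.L22.Inter Groth.L22.Nef Groth.L22.Big Groth.L03.Euler Groth.L03.SurfNum
open Groth.L18.Frame (rs ro rs_rs rs_self IsFrame)
open Groth.L18.GenLoc (secOf secOf_homOfSection)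
open Groth.L18.Ample (tw it fr isFrame_fr it_rs exists_extend isInvertible_structureModule)
open Groth.L03.SurfAmple (isFrame_one fr_one_rs coeff_rs it_eq)

/-- Let k be an algebraically closed field of characteristic zero and X a smooth projective surface over
k (integral, proper and smooth over k, of dimension 2). Let Y be an integral normal scheme of
dimension 2, locally of finite type over k, y a closed point of Y, and π : X → Y a proper k-morphism
which restricts to an isomorphism over Y ∖ {y} and whose fibre over y is, as a set, the union of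
pairwise distinct integral curves C_1, …, C_r on X (r ≥ 1, ideal sheaves I_i), this union being
connected; so π contracts the connected curve C = ⋃ C_i to the normal point y. Then the intersection
matrix of the C_i is negative definite: Σ_{i,j} a_i a_j (I_i·I_j) < 0 for every nonzero integer
vector a, where (A·B) = χ(O_X) − χ(A) − χ(B) + χ(A ⊗ B). The published statement is about a
holomorphic contraction of a compact connected curve in a complex surface to a point of a normal
analytic surface; this row is the algebraic case, with Y locally of finite type so that the local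
ring at y is a two-dimensional Noetherian normal domain and a nonzero function vanishing at y cuts
out a curve through y, which is what the printed argument (pull back such a function and apply the
formal negativity lemma proved there) uses. -/
theorem result (k : Type u) [Field k] [IsAlgClosed k] [CharZero k]
    (X : Scheme.{u}) [X.Over (Spec (CommRingCat.of k))] [IsProper (X ↘ (Spec (CommRingCat.of k)))]
    [Smooth (X ↘ (Spec (CommRingCat.of k)))] [IsIntegral X] (hdim : topologicalKrullDim X = 2)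
    (Y : Scheme.{u}) [Y.Over (Spec (CommRingCat.of k))] [IsIntegral Y] (hYn : Pi1.IsNormalScheme Y)
    (hYd : topologicalKrullDim Y = 2)
    [LocallyOfFiniteType (Y ↘ (Spec (CommRingCat.of k)))]
    (π : X ⟶ Y) (hπk : π ≫ (Y ↘ (Spec (CommRingCat.of k))) = (X ↘ (Spec (CommRingCat.of k)))) [IsProper π]
    (y : Y) (hy : IsClosed ({y} : Set Y)) (hiso : IsIso (π ∣_ (⟨({y} : Set Y)ᶜ, hy.isOpen_compl⟩ : Y.Opens)))
    (r : ℕ) (hr : 0 < r) (C : Fin r → X.IdealSheafData) (hC : Function.Injective C)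
    (hCi : ∀ i, IsIntegral (C i).subscheme) (hCd : ∀ i, topologicalKrullDim ((C i).support : Set X) = 1)
    (hfib : (π.base : X → Y) ⁻¹' {y} = ⋃ i, ((C i).support : Set X))
    (hconn : _root_.IsConnected (⋃ i, ((C i).support : Set X))) :
    ∀ a : Fin r → ℤ, a ≠ 0 →
      ∑ i, ∑ j, a i * a j * FGA.intNum k X 2 ![(ClSub.idealMod (C i)), (ClSub.idealMod (C j))] (Coh.structureModule X) < 0 := by
  have hd2 : topologicalKrullDim X = (2 : ℕ) := hdim.trans Nat.cast_ofNat.symm
  have hd := hd2.le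
  haveI := Groth.L21.RR.isNoetherian_of_proper (X := X) k
  have hreg := fun z => Groth.L08.Cube.isRegularLocalRing_of_smooth (X ↘ Spec (CommRingCat.of k)) z
  have hcurveinv : ∀ z : X, topologicalKrullDim (closure ({z} : Set X)) = (1 : ℕ) →
      PicF.IsInvertible (ClSub.idealMod (pt z)) := fun z hz => by
    haveI := isIntegral_pt z
    exact Groth.L03.SurfNum.isInvertible_idealMod k hd2 hreg (pt z)
      (by rw [Groth.L18.support_vanishingIdeal]; exact hz.trans Nat.cast_one)
  -- an equation through `y`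
  obtain ⟨U, hU, hyU, -⟩ := exists_isAffineOpen_mem_and_subset (x := y) (U := ⊤) trivial
  let p := hU.primeIdealOf ⟨y, hyU⟩
  haveI : IsNoetherianRing Γ(Y, U) := by
    haveI := LocallyOfFiniteType.isLocallyNoetherian (Y ↘ Spec (CommRingCat.of k))
    exact IsLocallyNoetherian.component_noetherian ⟨U, hU⟩
  have hheight : p.asIdeal.height = 2 := by
    obtain ⟨a, b, ha, hb, hab⟩ := Groth.L00.EquidimFlat.point_data' k (Y ↘ Spec (CommRingCat.of k))
      ((2 : ℕ) : WithBot ℕ∞) (fun Z hZ => by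
        rw [irreducibleComponents_eq_singleton, Set.mem_singleton_iff] at hZ
        subst hZ
        rw [IsHomeomorph.topologicalKrullDim_eq _ (Homeomorph.Set.univ Y).isHomeomorph]
        exact hYd.trans Nat.cast_ofNat.symm) y
    obtain ⟨n, hn, hnt⟩ := Groth.L07.DimToolkit.exists_fdim_rtrdeg (Y ↘ Spec (CommRingCat.of k)) y
    rw [Groth.L00.EquidimFlat.fdim_qX k, hy.closure_eq] at hn
    have h0 : topologicalKrullDim ({y} : Set Y) = 0 := by
      refine le_antisymm (topologicalKrullDim_zero_of_discreteTopology _) ?_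
      haveI : Nonempty (IrreducibleCloseds ({y} : Set Y)) :=
        ⟨⟨closure {⟨y, rfl⟩}, isIrreducible_singleton.closure, isClosed_closure⟩⟩
      exact Order.krullDim_nonneg
    rw [h0] at hn
    obtain rfl : n = 0 := by exact_mod_cast hn.symm
    obtain rfl : a = 0 := by exact_mod_cast ha.symm.trans hnt
    obtain rfl : b = 2 := by
      have h2 : (2 : ℕ) = 0 + b := by exact_mod_cast hab
      omega
    letI : Algebra Γ(Y, U) (Y.presheaf.stalk y) := TopCat.Presheaf.algebra_section_stalk Y.presheaf ⟨y, hyU⟩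
    haveI := hU.isLocalization_stalk ⟨y, hyU⟩
    rw [IsLocalization.AtPrime.ringKrullDim_eq_height p.asIdeal (Y.presheaf.stalk y)] at hb
    exact WithBot.coe_inj.1 (hb.trans (by norm_cast))
  haveI : Nonempty U := ⟨⟨y, hyU⟩⟩
  obtain ⟨g₀, hg₀p, hg₀⟩ : ∃ g₀ ∈ p.asIdeal, g₀ ≠ 0 := by
    refine Submodule.exists_mem_ne_zero_of_ne_bot fun hbot => ?_
    rw [hbot, Ideal.height_bot] at hheight
    exact absurd hheight (by simp)
  obtain ⟨q, hq, hqp⟩ := Ideal.exists_minimalPrimes_le ((Ideal.span_singleton_le_iff_mem _).2 hg₀p)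
  have hq1 : q.height ≤ 1 := Ideal.height_le_one_of_isPrincipal_of_mem_minimalPrimes _ q hq
  haveI := hq.1.1
  let qs : PrimeSpectrum Γ(Y, U) := ⟨q, hq.1.1⟩
  set y' := hU.fromSpec qs
  have hy'U : y' ∈ U := by
    have : y' ∈ Set.range hU.fromSpec := ⟨qs, rfl⟩
    rwa [hU.range_fromSpec] at this
  have hqy : hU.primeIdealOf ⟨y', hy'U⟩ = qs :=
    hU.fromSpec.isOpenEmbedding.injective (hU.fromSpec_primeIdealOf ⟨y', hy'U⟩)
  have hy'spec : y' ⤳ y := by
    have h1 := ((PrimeSpectrum.le_iff_specializes qs p).1 hqp).map hU.fromSpec.continuous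
    rwa [hU.fromSpec_primeIdealOf ⟨y, hyU⟩] at h1
  have hy'ne : y' ≠ y := fun e => by
    have h1 : qs = p := hU.fromSpec.isOpenEmbedding.injective (e.trans (hU.fromSpec_primeIdealOf ⟨y, hyU⟩).symm)
    have h2 : q = p.asIdeal := congrArg PrimeSpectrum.asIdeal h1
    rw [h2, hheight] at hq1
    exact absurd hq1 (by simp)
  -- points away from `y` lift
  have hlift : ∀ w : Y, w ≠ y → ∃ x : X, π x = w := fun w hw => by
    haveI := hiso
    obtain ⟨v, hv⟩ := (π ∣_ (⟨({y} : Set Y)ᶜ, hy.isOpen_compl⟩ : Y.Opens)).surjective ⟨w, hw⟩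
    refine ⟨(π ⁻¹ᵁ (⟨({y} : Set Y)ᶜ, hy.isOpen_compl⟩ : Y.Opens)).ι v, ?_⟩
    rw [← Scheme.Hom.comp_apply, ← morphismRestrict_ι, Scheme.Hom.comp_apply, hv]
    rfl
  obtain ⟨x', hx'⟩ := hlift y' hy'ne
  have hηy : genericPoint Y ≠ y := fun e => hy'ne (by
    have h1 := (genericPoint_spec Y).def
    rw [e, hy.closure_eq] at h1
    exact Set.mem_singleton_iff.1 (h1.ge (Set.mem_univ y')))
  have hπη : π (genericPoint X) = genericPoint Y := by
    obtain ⟨x₁, hx₁⟩ := hlift _ hηy
    refine ((((genericPoint_spec X).specializes trivial).map π.continuous).antisymm ?_).eq.trans hx₁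
    rw [hx₁]
    exact (genericPoint_spec Y).specializes trivial
  -- its pullback
  let V' := π ⁻¹ᵁ U
  let g : Γ(X, V') := π.app U g₀
  have hηU : genericPoint Y ∈ U := ((genericPoint_spec Y).specializes trivial).mem_open U.2 hyU
  have hηV' : genericPoint X ∈ V' := by
    show π (genericPoint X) ∈ U
    rw [hπη]; exact hηU
  haveI : Nonempty V' := ⟨⟨_, hηV'⟩⟩
  have hgη : genericPoint X ∈ X.basicOpen g := by
    rw [← Scheme.preimage_basicOpen]
    show π (genericPoint X) ∈ Y.basicOpen g₀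
    rw [hπη]
    obtain ⟨w, hw⟩ : (Y.basicOpen g₀ : Set Y).Nonempty := by
      by_contra he
      exact hg₀ ((basicOpen_eq_bot_iff g₀).1 (Opens.ext (Set.not_nonempty_iff_eq_empty.1 he)))
    exact ((genericPoint_spec Y).specializes trivial).mem_open (Y.basicOpen g₀).2 hw
  have hgm : ∀ (x : X) (hxU : π x ∈ U), g₀ ∈ (hU.primeIdealOf ⟨π x, hxU⟩).asIdeal →
      ¬ IsUnit (X.presheaf.germ V' x hxU g) := fun x hxU hg₀x hu => by
    have h1 : x ∈ X.basicOpen g := (X.mem_basicOpen g x hxU).2 hu
    rw [← Scheme.preimage_basicOpen] at h1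
    exact (Groth.L22.LocalDim.mem_basicOpen_iff hU hxU g₀).1 h1 hg₀x
  -- two sections with ratio `g`
  obtain ⟨H, hH⟩ := Groth.L03.SurfAmple.exists_ample_of_smooth k X hdim
  obtain ⟨M, hM, σ, hση, hσV'⟩ : ∃ M : X.Modules, PicF.IsInvertible M ∧
      ∃ σ : Coh.structureModule X ⟶ M, genericPoint X ∈ CohB1.genLocus M σ ∧ CohB1.genLocus M σ ≤ V' := by
    obtain ⟨n, σ, h1, h2, -⟩ := Groth.L18.Ample.exists_affine_genLocus_subset hH V' hηV'
    exact ⟨_, Groth.L18.Ample.isInvertible_tensorPow hH.1 _, σ, h1, h2⟩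
  set V := CohB1.genLocus M σ
  let gV : Γ(X, V) := ro hσV' g
  obtain ⟨j, t, ht⟩ := exists_extend hM (isInvertible_structureModule X) σ
    (show Γ(Coh.structureModule X, V) from gV)
  let N := tw (Coh.structureModule X) M j
  have hN : PicF.IsInvertible N := by
    show PicF.IsInvertible (tw (Coh.structureModule X) M j)
    rw [Groth.L18.Ample.tw_unit]; exact Groth.L18.Ample.isInvertible_tensorPow hM j
  let τ : Γ(N, ⊤) := it (secOf σ) ⊤ (show Γ(Coh.structureModule X, ⊤) from (1 : Γ(X, ⊤))) j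
  let st := Groth.L16.homOfSection N t
  let sτ := Groth.L16.homOfSection N τ
  -- coefficients
  have hcoef : ∀ x : X, ∃ (W : X.Opens) (F : Γ(N, W)) (a b : Γ(X, W)) (hxW : x ∈ W), IsFrame N W F ∧
      a • F = rs N le_top (secOf sτ) ∧ b • F = rs N le_top (secOf st) ∧
      IsUnit (X.presheaf.germ W (genericPoint X) (((genericPoint_spec X).specializes trivial).mem_open W.2 hxW) a) ∧
      IsUnit (X.presheaf.germ W (genericPoint X) (((genericPoint_spec X).specializes trivial).mem_open W.2 hxW) b) ∧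
      ∀ hxV' : x ∈ V', X.presheaf.germ W x hxW b = X.presheaf.germ V' x hxV' g * X.presheaf.germ W x hxW a := by
    intro x
    obtain ⟨W, ε, hxW, hε⟩ := Groth.L18.Frame.exists_frame hM x
    obtain ⟨a, ha⟩ := hε.exists_coeff le_rfl (rs M le_top (secOf σ))
    rw [rs_self] at ha
    have hF := isFrame_fr (isFrame_one W) hε j
    obtain ⟨b, hb⟩ := hF.exists_coeff le_rfl (rs N le_top t)
    rw [rs_self] at hb
    have hηW : genericPoint X ∈ W := ((genericPoint_spec X).specializes trivial).mem_open W.2 hxW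
    have hau : IsUnit (X.presheaf.germ W _ hηW a) := (X.mem_basicOpen a _ hηW).1 (by
      rw [← Groth.L18.GenLoc.genLocus_inf_eq σ hε ha]; exact ⟨hση, hηW⟩)
    -- on the affine piece
    have hVW : ro (inf_le_right : V ⊓ W ≤ W) b =
        ro (inf_le_left : V ⊓ W ≤ V) gV * ro (inf_le_right : V ⊓ W ≤ W) a ^ j := by
      refine (isFrame_fr (isFrame_one (V ⊓ W)) (hε.mono inf_le_right) j).inj le_rfl ?_
      rw [rs_self, ← fr_one_rs (inf_le_right : V ⊓ W ≤ W) ε j, ← Groth.L18.Frame.rs_smul, hb, rs_rs]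
      refine ((rs_rs N (le_top : V ≤ ⊤) (inf_le_left : V ⊓ W ≤ V) t).symm).trans ?_
      rw [ht, it_rs, fr_one_rs]
      exact it_eq σ (coeff_rs σ (inf_le_right : V ⊓ W ≤ W) ha) _ j
    refine ⟨W, fr (show Γ(Coh.structureModule X, W) from (1 : Γ(X, W))) ε j, a ^ j, b, hxW, hF, ?_, ?_,
      by rw [map_pow]; exact hau.pow j, ?_, fun hxV' => ?_⟩
    · rw [secOf_homOfSection, it_rs]
      refine Eq.trans ?_ (congrArg (fun z => it (secOf σ) W z j) (show (show Γ(Coh.structureModule X, W) from
        (1 : Γ(X, W))) = rs (Coh.structureModule X) le_top (show Γ(Coh.structureModule X, ⊤) from (1 : Γ(X, ⊤))) from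
          (map_one (X.presheaf.map (homOfLE (le_top : W ≤ ⊤)).op).hom).symm))
      rw [it_eq σ ha (1 : Γ(X, W)) j, one_mul]
    · rw [secOf_homOfSection]; exact hb
    · have hηVW : genericPoint X ∈ V ⊓ W := ⟨hση, hηW⟩
      have h1 := congrArg (X.presheaf.germ (V ⊓ W) _ hηVW) hVW
      rw [map_mul, map_pow] at h1
      simp only [gV, Groth.L18.Frame.ro_ro] at h1
      erw [TopCat.Presheaf.germ_res_apply, TopCat.Presheaf.germ_res_apply, TopCat.Presheaf.germ_res_apply] at h1
      rw [h1]
      exact ((X.mem_basicOpen g _ hηV').1 hgη).mul (hau.pow j)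
    · haveI : Nonempty (V ⊓ (V' ⊓ W) : X.Opens) := ⟨⟨genericPoint X, hση, hηV', hηW⟩⟩
      have h1 : ro (inf_le_right : V' ⊓ W ≤ W) b =
          ro (inf_le_left : V' ⊓ W ≤ V') g * ro (inf_le_right : V' ⊓ W ≤ W) (a ^ j) := by
        refine map_injective_of_isIntegral X (homOfLE (inf_le_right : V ⊓ (V' ⊓ W) ≤ V' ⊓ W)) ?_
        show ro (inf_le_right : V ⊓ (V' ⊓ W) ≤ V' ⊓ W) _ = ro (inf_le_right : V ⊓ (V' ⊓ W) ≤ V' ⊓ W) _
        have h2 := congrArg (ro (le_inf inf_le_left (inf_le_right.trans inf_le_right) : V ⊓ (V' ⊓ W) ≤ V ⊓ W)) hVW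
        have ropow : ∀ {A B : X.Opens} (h : B ≤ A) (c : Γ(X, A)), ro h (c ^ j) = ro h c ^ j := fun h c => map_pow _ _ _
        simp only [Groth.L18.Frame.ro_mul, ropow, Groth.L18.Frame.ro_ro, gV] at h2 ⊢
        exact h2
      have h3 := congrArg (X.presheaf.germ (V' ⊓ W) x ⟨hxV', hxW⟩) h1
      rw [map_mul] at h3
      erw [TopCat.Presheaf.germ_res_apply, TopCat.Presheaf.germ_res_apply, TopCat.Presheaf.germ_res_apply] at h3
      exact h3
  have hgen : genericPoint X ∈ CohB1.genLocus N st ∧ genericPoint X ∈ CohB1.genLocus N sτ := by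
    obtain ⟨W, F, a, b, hxW, hF, ha, hb, hua, hub, -⟩ := hcoef (genericPoint X)
    constructor
    · exact (Groth.L18.GenLoc.genLocus_inf_eq st hF hb).ge ((X.mem_basicOpen b _ hxW).2 hub) |>.1
    · exact (Groth.L18.GenLoc.genLocus_inf_eq sτ hF ha).ge ((X.mem_basicOpen a _ hxW).2 hua) |>.1
  -- orders
  let ν : X → ℚ := fun z => ((Groth.L16.CohSupport.len z (cokernel st)).toNat : ℚ) -
    ((Groth.L16.CohSupport.len z (cokernel sτ)).toNat : ℚ)
  have hν : ∀ z : X, topologicalKrullDim (closure ({z} : Set X)) = (1 : ℕ) → z ∈ V' →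
      0 ≤ ν z ∧ ∀ hzU : π z ∈ U, g₀ ∈ (hU.primeIdealOf ⟨π z, hzU⟩).asIdeal → 0 < ν z := by
    intro z hz hzV'
    obtain ⟨W, F, a, b, hxW, hF, ha, hb, hua, hub, hgerm⟩ := hcoef z
    haveI : Nonempty W := ⟨⟨z, hxW⟩⟩
    have hdim1 := Groth.L03.SurfNum.ringKrullDim_stalk_eq_one k hd2 hz
    haveI : Ring.KrullDimLE 1 (X.presheaf.stalk z) := Ring.krullDimLE_iff.2 (by rw [hdim1]; exact le_of_eq Nat.cast_one.symm)
    have hne : ∀ {W' : X.Opens} (hW' : z ∈ W') (c : Γ(X, W')),
        (∃ h : genericPoint X ∈ W', IsUnit (X.presheaf.germ W' (genericPoint X) h c)) →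
        X.presheaf.germ W' z hW' c ≠ 0 := by
      intro W' hW' c ⟨h, hu⟩ h0
      haveI : Nonempty W' := ⟨⟨z, hW'⟩⟩
      have hc : c = 0 := germ_injective_of_isIntegral X z hW' (by rw [h0, map_zero])
      rw [hc, map_zero] at hu
      exact not_isUnit_zero hu
    have han := hne hxW a ⟨_, hua⟩
    have hgn := hne hzV' g ⟨_, (X.mem_basicOpen g _ hηV').1 hgη⟩
    have ea := len_cokernel_eq_ord sτ hF ha hxW
    have eb := len_cokernel_eq_ord st hF hb hxW
    rw [hgerm hzV', Ring.ord_mul _ (mem_nonZeroDivisors_of_ne_zero han)] at eb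
    have hgtop := Ring.ord_ne_top (mem_nonZeroDivisors_of_ne_zero hgn)
    have hatop := Ring.ord_ne_top (mem_nonZeroDivisors_of_ne_zero han)
    have e : ν z = ((Ring.ord (X.presheaf.stalk z) (X.presheaf.germ V' z hzV' g)).toNat : ℚ) := by
      simp only [ν, ea, eb, ENat.toNat_add hgtop hatop]
      push_cast
      ring
    rw [e]
    refine ⟨Nat.cast_nonneg _, fun hzU hg => ?_⟩
    rw [Nat.cast_pos]
    refine Nat.pos_of_ne_zero fun h0 => hgm z hzU hg ?_
    have h1 : Ring.ord (X.presheaf.stalk z) (X.presheaf.germ V' z hzV' g) = 0 :=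
      (ENat.toNat_eq_zero.1 h0).resolve_right hgtop
    rw [Ring.ord, Module.length_eq_zero_iff, Ideal.Quotient.subsingleton_iff, Ideal.span_singleton_eq_top] at h1
    exact h1
  -- the curves
  haveI := fun i => hCi i
  let yC : Fin r → X := fun i => (C i).subschemeι (genericPoint (C i).subscheme)
  have hCpt : ∀ i, C i = pt (yC i) := fun i => eq_pt (C i)
  have hCsupp : ∀ i, ((C i).support : Set X) = closure {yC i} := fun i => by
    rw [← Scheme.IdealSheafData.range_subschemeι]; exact range_eq_closure _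
  have hyC : ∀ i, topologicalKrullDim (closure ({yC i} : Set X)) = (1 : ℕ) := fun i => by
    rw [← hCsupp, hCd i, Nat.cast_one]
  have hyCinj : Function.Injective yC := fun i i' e => hC (by rw [hCpt i, hCpt i', e])
  have hCinv : ∀ i, PicF.IsInvertible (ClSub.idealMod (C i)) := fun i => by rw [hCpt i]; exact hcurveinv _ (hyC i)
  have hCy : ∀ i, ∀ x ∈ ((C i).support : Set X), π x = y := fun i x hx =>
    Set.mem_singleton_iff.1 (hfib.ge (Set.mem_iUnion.2 ⟨i, hx⟩))
  have hmemC : ∀ (z : X), topologicalKrullDim (closure ({z} : Set X)) = (1 : ℕ) → ∀ i,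
      z ∈ ((C i).support : Set X) → z = yC i := fun z hz i hzi => by
    rw [hCsupp] at hzi
    exact (eq_of_specializes_top isClosed_closure (hyC i).le hz (subset_closure rfl)
      (specializes_iff_mem_closure.2 hzi)).symm
  let m : Fin r → ℚ := fun i => ν (yC i)
  have hm : ∀ i, 0 < m i := fun i => by
    have hπy : π (yC i) = y := hCy i _ (by rw [hCsupp]; exact subset_closure rfl)
    have hV : yC i ∈ V' := by show π (yC i) ∈ U; rw [hπy]; exact hyU
    refine (hν _ (hyC i) hV).2 hV ?_
    have : (⟨π (yC i), hV⟩ : U) = ⟨y, hyU⟩ := Subtype.ext hπy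
    rw [this]; exact hg₀p
  -- the horizontal curve
  obtain ⟨z₀, hz₀, hz₀y⟩ : ∃ z ∈ closure ({x'} : Set X), π z = y := by
    have h1 : IsClosed (π '' closure ({x'} : Set X)) := π.isClosedMap _ isClosed_closure
    obtain ⟨z, hz, hzy⟩ := hy'spec.mem_closed h1 ⟨x', subset_closure rfl, hx'⟩
    exact ⟨z, hz, hzy⟩
  obtain ⟨i₀, hi₀⟩ := Set.mem_iUnion.1 (hfib.le (show z₀ ∈ (π.base : X → Y) ⁻¹' {y} from hz₀y))
  have hx'C : ∀ i, x' ∉ ((C i).support : Set X) := fun i h => hy'ne (hx'.symm.trans (hCy i _ h))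
  have hx'd : topologicalKrullDim (closure ({x'} : Set X)) = (1 : ℕ) := by
    have h1 : topologicalKrullDim (closure ({x'} : Set X)) ≤ (1 : ℕ) := dim_le_of_generic_notMem isClosed_closure
      (fun h => by
        have he : π x' = genericPoint Y := by
          refine (((specializes_iff_mem_closure.2 h).map π.continuous).antisymm ?_).eq.trans hπη
          rw [hπη]; exact (genericPoint_spec Y).specializes trivial
        rw [hx'] at he
        have hg : g₀ ∈ (hU.primeIdealOf ⟨y', hy'U⟩).asIdeal := by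
          rw [hqy]; exact hq.1.2 (Ideal.mem_span_singleton_self g₀)
        have h2 : y' ∉ Y.basicOpen g₀ := fun hb => (Groth.L22.LocalDim.mem_basicOpen_iff hU hy'U g₀).1 hb hg
        rw [← Scheme.preimage_basicOpen] at hgη
        have h3 : π (genericPoint X) ∈ Y.basicOpen g₀ := hgη
        rw [hπη, ← he] at h3
        exact h2 h3) (n := 1) hd
    refine le_antisymm h1 ?_
    by_contra hlt
    have h0 : topologicalKrullDim (closure ({x'} : Set X)) < (1 : ℕ) := not_le.1 hlt
    have hz' : z₀ ≠ x' := fun e => hx'C i₀ (e ▸ hi₀)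
    have h2 := topologicalKrullDim_add_one_le isClosed_closure isIrreducible_singleton.closure
      (closure_minimal (Set.singleton_subset_iff.2 hz₀) isClosed_closure)
      (fun e : closure ({z₀} : Set X) = closure {x'} =>
        hz' ((show IsGenericPoint z₀ (closure {x'}) from e).eq isGenericPoint_closure))
    have h4 := zero_le_topologicalKrullDim (Set.Nonempty.closure (Set.singleton_nonempty z₀))
    have h5 := ((add_le_add_left h4 1).trans h2).trans_lt h0
    norm_num at h5
  have hx'V : x' ∈ V' := by show π x' ∈ U; rw [hx']; exact hy'U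
  have hνx' : 0 < ν x' := by
    refine (hν x' hx'd hx'V).2 hx'V ?_
    have : (⟨π x', hx'V⟩ : U) = ⟨y', hy'U⟩ := Subtype.ext hx'
    rw [this, hqy]; exact hq.1.2 (Ideal.mem_span_singleton_self g₀)
  -- the relation
  obtain ⟨Tt, hTt, hsumt⟩ := ii_eq_sum_len k hd hN st hgen.1
  obtain ⟨Tτ, hTτ, hsumτ⟩ := ii_eq_sum_len k hd hN sτ hgen.2
  classical
  let S := Finset.univ.image yC
  let T := Tt ∪ Tτ ∪ S ∪ {x'}
  have hT : ∀ z ∈ T, topologicalKrullDim (closure ({z} : Set X)) = (1 : ℕ) := by
    intro z hz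
    simp only [T, S, Finset.mem_union, Finset.mem_singleton, Finset.mem_image] at hz
    rcases hz with ((hz | hz) | ⟨i, -, rfl⟩) | rfl
    exacts [hTt z hz, hTτ z hz, hyC i, hx'd]
  let G : Fin r → Fin r → ℚ := fun i l => ii k (ClSub.idealMod (C i)) (ClSub.idealMod (C l))
  let Gy : Fin r → X → ℚ := fun i z => ii k (ClSub.idealMod (C i)) (ClSub.idealMod (pt z))
  have hrel : ∀ i, ∑ z ∈ T, ν z * Gy i z = 0 := by
    intro i
    have e1 := hsumt T (fun z hz => by simp only [T, Finset.mem_union]; exact Or.inl (Or.inl (Or.inl hz))) hT _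
      (hCinv i)
    have e2 := hsumτ T (fun z hz => by simp only [T, Finset.mem_union]; exact Or.inl (Or.inl (Or.inr hz))) hT _
      (hCinv i)
    rw [e1, ← sub_eq_zero, ← Finset.sum_sub_distrib] at e2
    have e3 : ∀ z ∈ T, ν z * Gy i z = -(((Groth.L16.CohSupport.len z (cokernel st)).toNat : ℚ) *
          altT k (fun _ : Fin 1 => ClSub.idealMod (C i)) (ClSub.quotMod (pt z)) -
        ((Groth.L16.CohSupport.len z (cokernel sτ)).toNat : ℚ) *
          altT k (fun _ : Fin 1 => ClSub.idealMod (C i)) (ClSub.quotMod (pt z))) := fun z hz => by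
      rw [altT_quotMod_eq k (hCinv i) (pt z) (hcurveinv z (hT z hz)), ii_comm]
      ring
    rw [Finset.sum_congr rfl e3, Finset.sum_neg_distrib, e2, neg_zero]
  have hoff : ∀ i l, i ≠ l → 0 ≤ G i l := Gram.offdiag k hd C hC hCi hCd hCinv
  have hpos : ∀ i z, z ∈ T → z ∉ S → 0 ≤ ν z * Gy i z := by
    intro i z hzT hzS
    have hzd := hT z hzT
    haveI := isIntegral_pt z
    by_cases hzV : z ∈ V'
    · refine mul_nonneg (hν z hzd hzV).1 (Gram.inv_pair_nonneg k hd (C i) (pt z) (hCinv i)
        (by rw [Groth.L18.support_vanishingIdeal]; exact hzd.trans Nat.cast_one) (hcurveinv z hzd) fun hsub => ?_)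
      rw [Groth.L18.support_vanishingIdeal] at hsub
      exact hzS (Finset.mem_image.2 ⟨i, Finset.mem_univ i, (hmemC z hzd i (hsub (subset_closure rfl))).symm⟩)
    · rw [show Gy i z = 0 from ii_eq_zero_of_disjoint k hd (hCinv i) hzd (hcurveinv z hzd) fun w hw hwC => hzV
        ((specializes_iff_mem_closure.2 hw).mem_open V'.2 (show π w ∈ U by rw [hCy i w hwC]; exact hyU)), mul_zero]
  have hsplit : ∀ i, (∑ l, G i l * m l) + ∑ z ∈ T \ S, ν z * Gy i z = 0 := by
    intro i
    rw [← hrel i, ← Finset.sum_sdiff (s₁ := S) (s₂ := T) (fun z hz => by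
      simp only [T, Finset.mem_union]; exact Or.inl (Or.inr hz)), add_comm]
    congr 1
    rw [Finset.sum_image fun _ _ _ _ e => hyCinj e]
    refine Finset.sum_congr rfl fun l _ => ?_
    show G i l * m l = ν (yC l) * Gy i (yC l)
    simp only [G, Gy, m]
    rw [← hCpt l]
    exact mul_comm _ _
  have hconn' : Groth.L03.SurfAmple.Graph.Conn G Finset.univ := by
    intro S' _ hS' hSne
    obtain ⟨i, hi⟩ := hS'
    obtain ⟨l, hl⟩ : ∃ l, l ∉ S' := by
      by_contra h; push_neg at h
      exact hSne (Finset.eq_univ_iff_forall.2 h)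
    obtain ⟨w, -, hw1, hw2⟩ := isPreconnected_closed_iff.1 hconn.isPreconnected
      (⋃ i ∈ S', ((C i).support : Set X)) (⋃ i ∈ S'ᶜ, ((C i).support : Set X))
      (isClosed_biUnion_finset fun i _ => (C i).support.isClosed)
      (isClosed_biUnion_finset fun i _ => (C i).support.isClosed)
      (fun w hw => by
        obtain ⟨i, hi⟩ := Set.mem_iUnion.1 hw
        by_cases h : i ∈ S'
        · exact Or.inl (Set.mem_biUnion h hi)
        · exact Or.inr (Set.mem_biUnion (Finset.mem_compl.2 h) hi))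
      (by
        have hyi : yC i ∈ ((C i).support : Set X) := by rw [hCsupp]; exact subset_closure rfl
        exact ⟨yC i, Set.mem_iUnion.2 ⟨i, hyi⟩, Set.mem_biUnion hi hyi⟩)
      (by
        have hyl : yC l ∈ ((C l).support : Set X) := by rw [hCsupp]; exact subset_closure rfl
        exact ⟨yC l, Set.mem_iUnion.2 ⟨l, hyl⟩, Set.mem_biUnion (Finset.mem_compl.2 hl) hyl⟩)
    simp only [Set.mem_iUnion] at hw1 hw2
    obtain ⟨a, ha, hwa⟩ := hw1
    obtain ⟨b, hb, hwb⟩ := hw2
    rw [Finset.mem_compl] at hb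
    refine ⟨b, Finset.mem_univ b, hb, a, ha, ?_⟩
    have hab : ¬ yC a ∈ ((C b).support : Set X) := fun h => hb (hyCinj (hmemC _ (hyC a) b h) ▸ ha)
    show 0 < ii k (ClSub.idealMod (C b)) (ClSub.idealMod (C a))
    rw [hCpt a]
    exact ii_pos_of_meet k hd2 (hCinv b) (hyC a) (hcurveinv _ (hyC a)) hab (by rwa [← hCsupp]) hwb
  intro a ha
  have key := negDef_of_rows G (fun i l => ii_comm k _ _) hoff hconn' m hm
    (fun i => by
      have h1 : 0 ≤ ∑ z ∈ T \ S, ν z * Gy i z :=
        Finset.sum_nonneg fun z hz => hpos i z (Finset.mem_sdiff.1 hz).1 (Finset.mem_sdiff.1 hz).2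
      linarith [hsplit i])
    ⟨i₀, by
      have hx'T : x' ∈ T \ S := Finset.mem_sdiff.2 ⟨by simp [T], fun h => by
        obtain ⟨l, -, hl⟩ := Finset.mem_image.1 h
        exact hx'C l (by rw [hCsupp, ← hl]; exact subset_closure rfl)⟩
      have h1 : 0 < ∑ z ∈ T \ S, ν z * Gy i₀ z :=
        Finset.sum_pos' (fun z hz => hpos i₀ z (Finset.mem_sdiff.1 hz).1 (Finset.mem_sdiff.1 hz).2)
          ⟨x', hx'T, mul_pos hνx' (ii_pos_of_meet k hd2 (hCinv i₀) hx'd (hcurveinv _ hx'd) (hx'C i₀) hz₀ hi₀)⟩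
      linarith [hsplit i₀]⟩
    (fun i => (a i : ℚ)) (fun h => ha (funext fun i => Int.cast_eq_zero.1 (congrFun h i)))
  rw [← Gram.intGram k hd C] at key
  exact_mod_cast key

end Groth.Agent.S18460
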