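import Groth.Statements.S18461
import Groth.Agent.L03.BlowPt.RationalConfig
import Groth.Agent.L03.SurfAdj.Tools
-- import your own Groth.Agent.* helpers here

set_option autoImplicit false
universe u
open CategoryTheory CategoryTheory.Limits AlgebraicGeometry TopologicalSpace
open Surf

namespace Groth.Agent.S18461

open Groth.L22.Inter Groth.L22.Nef Groth.L22.Big Groth.L03.BlowPt Groth.L03.BlowPt.Ramanujam Groth.L03.SurfAdj

/-- Let k be an algebraically closed field of characteristic zero and X a smooth projective surface over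
k (integral, proper and smooth over k, of dimension 2). Let C_1, …, C_r (r ≥ 1) be pairwise distinct
integral curves on X, with ideal sheaves I_i, forming a connected configuration with negative
definite intersection matrix (no partition of the indices into two nonempty sets with (I_i·I_j) = 0
across; Σ a_i a_j (I_i·I_j) < 0 for every nonzero integer vector a; (A·B) = χ(O_X) − χ(A) − χ(B) +
χ(A ⊗ B)), and let Z₀ be a fundamental cycle: a nonzero effective Cartier divisor supported on ⋃ C_i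
with deg(I_{Z₀}|_{C_i}) = χ(O_{C_i} ⊗ I_{Z₀}) − χ(O_{C_i}) ≥ 0 for all i, every other such divisor Z
satisfying Z ≥ Z₀ (I_Z ⊆ I_{Z₀}). Suppose the configuration is rational in the sense that H¹(Z, O_Z)
= 0 for every nonzero effective Cartier divisor Z supported on ⋃ C_i. Then for every natural number
N, writing O_{Z₀}(−NZ₀) = O_{Z₀} ⊗ I_{Z₀}^{⊗N}: H¹(Z₀, O_{Z₀}(−NZ₀)) = 0 and dim_k H⁰(Z₀,
O_{Z₀}(−NZ₀)) = −N·(I_{Z₀}·I_{Z₀}) + 1, that is −N·Z₀² + 1; cohomology is computed on X through the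
direct image of O_{Z₀}. The published statement assumes the singularity obtained by contracting the
configuration over the complex numbers rational, which is equivalent to the vanishing assumed here,
and also asserts R¹π_*O_X(−NZ₀) = 0 for the contraction π and two facts on the maximal ideal of that
singularity; those are not restated. -/
theorem result (k : Type u) [Field k] [IsAlgClosed k] [CharZero k]
    (X : Scheme.{u}) [X.Over (Spec (CommRingCat.of k))] [IsProper (X ↘ (Spec (CommRingCat.of k)))]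
    [Smooth (X ↘ (Spec (CommRingCat.of k)))] [IsIntegral X] (hdim : topologicalKrullDim X = 2)
    (r : ℕ) (hr : 0 < r) (C : Fin r → X.IdealSheafData) (hC : Function.Injective C)
    (hCi : ∀ i, IsIntegral (C i).subscheme) (hCd : ∀ i, topologicalKrullDim ((C i).support : Set X) = 1)
    (hconn : ∀ S : Finset (Fin r), S.Nonempty → Sᶜ.Nonempty →
      ∃ i ∈ S, ∃ j ∈ Sᶜ, FGA.intNum k X 2 ![(ClSub.idealMod (C i)), (ClSub.idealMod (C j))] (Coh.structureModule X) ≠ 0)
    (hneg : ∀ a : Fin r → ℤ, a ≠ 0 →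
      ∑ i, ∑ j, a i * a j * FGA.intNum k X 2 ![(ClSub.idealMod (C i)), (ClSub.idealMod (C j))] (Coh.structureModule X) < 0)
    (Z₀ : X.IdealSheafData) (hZ₀ : FGA.IsEffCartier Z₀) (hZ₀0 : Z₀ ≠ ⊤)
    (hZ₀s : (Z₀.support : Set X) ⊆ ⋃ i, ((C i).support : Set X))
    (hZ₀C : ∀ i, 0 ≤ Curv2.euler k X (CohB1.tensorMod (ClSub.quotMod (C i)) (ClSub.idealMod Z₀)) -
      Curv2.euler k X (ClSub.quotMod (C i)))
    (hZ₀min : ∀ Z : X.IdealSheafData, FGA.IsEffCartier Z → Z ≠ ⊤ → (Z.support : Set X) ⊆ ⋃ i, ((C i).support : Set X) →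
      (∀ i, 0 ≤ Curv2.euler k X (CohB1.tensorMod (ClSub.quotMod (C i)) (ClSub.idealMod Z)) -
        Curv2.euler k X (ClSub.quotMod (C i))) → Z ≤ Z₀)
    (hrat : ∀ Z : X.IdealSheafData, FGA.IsEffCartier Z → Z ≠ ⊤ → (Z.support : Set X) ⊆ ⋃ i, ((C i).support : Set X) →
      Subsingleton (Coh.HH X (ClSub.quotMod Z) 1))
    (N : ℕ) :
    Subsingleton (Coh.HH X (CohB1.tensorMod (ClSub.quotMod Z₀) (CohB1.tensorPow (ClSub.idealMod Z₀) N)) 1) ∧
      (Module.finrank k (Coh.HH X (CohB1.tensorMod (ClSub.quotMod Z₀) (CohB1.tensorPow (ClSub.idealMod Z₀) N)) 0) : ℤ) =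
        -(N : ℤ) * FGA.intNum k X 2 ![(ClSub.idealMod Z₀), (ClSub.idealMod Z₀)] (Coh.structureModule X) + 1 := by
  have hd2 : topologicalKrullDim X = (2 : ℕ) := hdim.trans Nat.cast_ofNat.symm
  have hreg : ∀ x : X, IsRegularLocalRing (X.presheaf.stalk x) :=
    fun z => Groth.L08.Cube.isRegularLocalRing_of_smooth (X ↘ Spec (CommRingCat.of k)) z
  have hconn' : ∀ S : Finset (Fin r), S.Nonempty → Sᶜ.Nonempty →
      ∃ i ∈ S, ∃ j ∈ Sᶜ, ii k (ClSub.idealMod (C i)) (ClSub.idealMod (C j)) ≠ 0 := fun S h1 h2 => by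
    obtain ⟨i, hi, j, hj, hij⟩ := hconn S h1 h2
    exact ⟨i, hi, j, hj, by rw [← intNum_eq_ii k hd2.le]; exact_mod_cast hij⟩
  obtain ⟨hle, hvan⟩ := Rational.fundamental k hd2 hreg hC hCi hCd hconn' Z₀ hZ₀ hZ₀0 hZ₀s hZ₀C hZ₀min
  have hI := Rational.inv_of_eff k hd2 hreg (Z := Z₀) hZ₀
  have hL := Groth.L18.Ample.isInvertible_tensorPow hI N
  have hCinv : ∀ i, PicF.IsInvertible (ClSub.idealMod (C i)) := fun i =>
    haveI := hCi i
    Groth.L03.SurfNum.isInvertible_idealMod k hd2 hreg (C i) (hCd i)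
  have hdegC : ∀ i, 0 ≤ degOn k (C i) (CohB1.tensorPow (ClSub.idealMod Z₀) N) := fun i => by
    have h1 := degOn_cast k (hCinv i) hL
    have h2 := degOn_cast k (hCinv i) hI
    have h3 : (0 : ℚ) ≤ degOn k (C i) (ClSub.idealMod Z₀) := by exact_mod_cast hZ₀C i
    rw [ii_comm k, ii_pow k hd2.le hI (hCinv i)] at h1
    rw [ii_comm k] at h2
    have h4 : ((0 : ℤ) : ℚ) ≤ degOn k (C i) (CohB1.tensorPow (ClSub.idealMod Z₀) N) := by
      rw [h1]; push_cast; nlinarith [(Nat.cast_nonneg N : (0 : ℚ) ≤ N)]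
    exact_mod_cast h4
  have hχ : Curv2.euler k X (ClSub.quotMod Z₀) = 1 :=
    le_antisymm hle (Rational.one_le_euler k hd2 hreg hZ₀ hZ₀0 (hrat Z₀ hZ₀ hZ₀0 hZ₀s))
  have h1 := hvan hχ.ge _ hL hdegC
  let e := Groth.L00.Tensor.tensorComm (ClSub.quotMod Z₀) (CohB1.tensorPow (ClSub.idealMod Z₀) N)
  refine ⟨(hhEquiv k e 1).toEquiv.subsingleton, ?_⟩
  have heu := Rational.euler_twist k hd2 hreg (Z := Z₀) hZ₀ hL
  haveI := h1
  rw [hχ, Module.finrank_zero_of_subsingleton
    (M := Coh.HH X (CohB1.tensorMod (CohB1.tensorPow (ClSub.idealMod Z₀) N) (ClSub.quotMod Z₀)) 1),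
    ← (hhEquiv k e 0).finrank_eq] at heu
  have h5 := degOn_cast k hI hL
  rw [ii_comm k, ii_pow k hd2.le hI hI] at h5
  have h6 : (degOn k Z₀ (CohB1.tensorPow (ClSub.idealMod Z₀) N) : ℚ) =
      ((-(N : ℤ) * FGA.intNum k X 2 ![(ClSub.idealMod Z₀), (ClSub.idealMod Z₀)] (Coh.structureModule X) : ℤ) : ℚ) := by
    rw [h5]; push_cast; rw [intNum_eq_ii k hd2.le]; ring
  have h7 := Int.cast_injective h6
  omega

end Groth.Agent.S18461
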