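import Groth.Statements.S18462
import Groth.Agent.L03.SurfNum.Gram
-- import your own Groth.Agent.* helpers here

set_option autoImplicit false
universe u
open CategoryTheory CategoryTheory.Limits AlgebraicGeometry TopologicalSpace
open Surf

namespace Groth.Agent.S18462

open Groth.L22.Inter Groth.L22.Nef Groth.L22.Big Groth.L03.Euler Groth.L03.SurfNum

/-- Let k be an algebraically closed field of characteristic zero and X a smooth projective surface over
k (integral, proper and smooth over k, of dimension 2, carrying an ample invertible module). Let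
C_1, …, C_r be pairwise distinct integral curves on X with ideal sheaves I_i and negative definite
intersection matrix (Σ_{i,j} a_i a_j (I_i·I_j) < 0 for every nonzero integer vector a, where (A·B) =
χ(O_X) − χ(A) − χ(B) + χ(A ⊗ B)), let F be an effective Cartier divisor on X, with ideal I_F, none
of whose components is a C_i, and let s_1, …, s_r be integers such that the divisor class F + Σ_i
s_i C_i is orthogonal to every C_j, that is (F·C_j) + Σ_i s_i (C_i·C_j) = 0, written here as
deg(I_F|_{C_j}) = χ(O_{C_j} ⊗ I_F) − χ(O_{C_j}) = Σ_i s_i (I_i·I_j) for every j. Then all the s_i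
are nonnegative. The published statement allows real coefficients s_i; this row takes integer
coefficients. Its second assertion, that s_i > 0 on every connected group of the C_i one of which
meets F positively, is not restated. -/
theorem result (k : Type u) [Field k] [IsAlgClosed k] [CharZero k]
    (X : Scheme.{u}) [X.Over (Spec (CommRingCat.of k))] [IsProper (X ↘ (Spec (CommRingCat.of k)))]
    [Smooth (X ↘ (Spec (CommRingCat.of k)))] [IsIntegral X] (hdim : topologicalKrullDim X = 2)
    (hproj : ∃ H : X.Modules, CohB1.IsAmple H)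
    (r : ℕ) (C : Fin r → X.IdealSheafData) (hC : Function.Injective C)
    (hCi : ∀ i, IsIntegral (C i).subscheme) (hCd : ∀ i, topologicalKrullDim ((C i).support : Set X) = 1)
    (hneg : ∀ a : Fin r → ℤ, a ≠ 0 →
      ∑ i, ∑ j, a i * a j * FGA.intNum k X 2 ![(ClSub.idealMod (C i)), (ClSub.idealMod (C j))] (Coh.structureModule X) < 0)
    (F : X.IdealSheafData) (hF : FGA.IsEffCartier F) (hFC : ∀ i, ¬ ((C i).support : Set X) ⊆ (F.support : Set X))
    (s : Fin r → ℤ)
    (horth : ∀ j, Curv2.euler k X (CohB1.tensorMod (ClSub.quotMod (C j)) (ClSub.idealMod F)) - Curv2.euler k X (ClSub.quotMod (C j)) =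
      ∑ i, s i * FGA.intNum k X 2 ![(ClSub.idealMod (C i)), (ClSub.idealMod (C j))] (Coh.structureModule X)) :
    ∀ i, 0 ≤ s i := by
  have hd2 : topologicalKrullDim X = (2 : ℕ) := hdim.trans Nat.cast_ofNat.symm
  have hd := hd2.le
  have hreg := fun z => Groth.L08.Cube.isRegularLocalRing_of_smooth (X ↘ Spec (CommRingCat.of k)) z
  obtain ⟨H, hH⟩ := hproj
  have hinv : ∀ i, PicF.IsInvertible (ClSub.idealMod (C i)) := fun i =>
    haveI := hCi i; isInvertible_idealMod k hd2 hreg (C i) (hCd i)
  have hoff := Gram.offdiag k hd C hC hCi hCd hinv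
  obtain ⟨p, m, hp, hm, hpm, hcross, -⟩ := Gram.split_ge k hd C (fun i => (s i : ℚ)) hoff
  have hFinv : PicF.IsInvertible (ClSub.idealMod F) :=
    (Groth.Agent.L19.IdealInvertible.isEffCartier_iff F).2 hF
  have hj : ∀ j, ∑ i, (s i : ℚ) * Gram.gr k C i j ≤ 0 := by
    intro j
    haveI := hCi j
    have h1 : ((Curv2.euler k X (CohB1.tensorMod (ClSub.quotMod (C j)) (ClSub.idealMod F)) -
        Curv2.euler k X (ClSub.quotMod (C j)) : ℤ) : ℚ) =
        ((∑ i, s i * FGA.intNum k X 2 ![(ClSub.idealMod (C i)), (ClSub.idealMod (C j))] (Coh.structureModule X) : ℤ) : ℚ) :=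
      congrArg Int.cast (horth j)
    rw [Gram.deg_eq k (C j) (hinv j) hFinv, ii_comm] at h1
    push_cast at h1
    simp only [intNum_eq_ii k hd] at h1
    rw [← h1]
    exact neg_nonpos.2 (Gram.inv_pair_nonneg k hd F (C j) hFinv (hCd j) (hinv j) (hFC j))
  have h2 : ∑ j, m j * ∑ i, (s i : ℚ) * Gram.gr k C i j ≤ 0 :=
    Finset.sum_nonpos fun j _ => mul_nonpos_of_nonneg_of_nonpos (hm j) (hj j)
  have h3 : ∑ j, m j * ∑ i, (s i : ℚ) * Gram.gr k C i j =
      ∑ i, ∑ j, p i * m j * Gram.gr k C i j - ∑ i, ∑ j, m i * m j * Gram.gr k C i j := by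
    simp only [Finset.mul_sum, ← Finset.sum_sub_distrib, hpm]
    rw [Finset.sum_comm]
    exact Finset.sum_congr rfl fun i _ => Finset.sum_congr rfl fun j _ => by ring
  have hm0 := Gram.eq_zero_of_gram_nonneg k hd C hneg m (by linarith)
  intro i
  have : (0 : ℚ) ≤ (s i : ℚ) := by rw [hpm i, hm0]; simpa using hp i
  exact_mod_cast this

end Groth.Agent.S18462
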