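import Groth.Statements.S18463
import Groth.Agent.L03.SurfNum.Gram
-- import your own Groth.Agent.* helpers here

set_option autoImplicit false
universe u
open CategoryTheory CategoryTheory.Limits AlgebraicGeometry TopologicalSpace
open Surf

namespace Groth.Agent.S18463

open Groth.L22.Inter Groth.L22.Nef Groth.L22.Big Groth.L03.Euler Groth.L03.SurfNum

/-- Let k be an algebraically closed field of characteristic zero and X a smooth projective surface over
k (integral, proper and smooth over k, of dimension 2, carrying an ample invertible module). Let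
C_1, …, C_r be pairwise distinct integral curves on X with ideal sheaves I_i and negative definite
intersection matrix (Σ_{i,j} a_i a_j (I_i·I_j) < 0 for every nonzero integer vector a, where (A·B) =
χ(O_X) − χ(A) − χ(B) + χ(A ⊗ B)), let F be an effective Cartier divisor on X, with ideal I_F, none
of whose components is a C_i, and let s_1, …, s_r be integers such that F is numerically equivalent
to Σ_i s_i C_i: (I_F·M) = Σ_i s_i (I_i·M) for every invertible O_X-module M (equivalently (F·D) = Σ
s_i (C_i·D) for every divisor D). Then F = 0, i.e. I_F = O_X, and every s_i is 0. The published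
statement writes the hypothesis as [F] + Σ s_i[C_i] = 0 with real s_i; this row writes F ≡ Σ s_i C_i
with integer s_i, which is the same after changing the signs of the s_i. -/
theorem result (k : Type u) [Field k] [IsAlgClosed k] [CharZero k]
    (X : Scheme.{u}) [X.Over (Spec (CommRingCat.of k))] [IsProper (X ↘ (Spec (CommRingCat.of k)))]
    [Smooth (X ↘ (Spec (CommRingCat.of k)))] [IsIntegral X] (hdim : topologicalKrullDim X = 2)
    (hproj : ∃ H : X.Modules, CohB1.IsAmple H)
    (r : ℕ) (C : Fin r → X.IdealSheafData) (hC : Function.Injective C)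
    (hCi : ∀ i, IsIntegral (C i).subscheme) (hCd : ∀ i, topologicalKrullDim ((C i).support : Set X) = 1)
    (hneg : ∀ a : Fin r → ℤ, a ≠ 0 →
      ∑ i, ∑ j, a i * a j * FGA.intNum k X 2 ![(ClSub.idealMod (C i)), (ClSub.idealMod (C j))] (Coh.structureModule X) < 0)
    (F : X.IdealSheafData) (hF : FGA.IsEffCartier F) (hFC : ∀ i, ¬ ((C i).support : Set X) ⊆ (F.support : Set X))
    (s : Fin r → ℤ)
    (hnum : ∀ M : X.Modules, PicF.IsInvertible M →
      FGA.intNum k X 2 ![(ClSub.idealMod F), M] (Coh.structureModule X) =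
        ∑ i, s i * FGA.intNum k X 2 ![(ClSub.idealMod (C i)), M] (Coh.structureModule X)) :
    F = ⊤ ∧ ∀ i, s i = 0 := by
  have hd2 : topologicalKrullDim X = (2 : ℕ) := hdim.trans Nat.cast_ofNat.symm
  have hd := hd2.le
  have hreg := fun z => Groth.L08.Cube.isRegularLocalRing_of_smooth (X ↘ Spec (CommRingCat.of k)) z
  obtain ⟨H, hH⟩ := hproj
  have hinv : ∀ i, PicF.IsInvertible (ClSub.idealMod (C i)) := fun i =>
    haveI := hCi i; isInvertible_idealMod k hd2 hreg (C i) (hCd i)
  have hoff := Gram.offdiag k hd C hC hCi hCd hinv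
  obtain ⟨p, m, hp, hm, hpm, -, hcross⟩ := Gram.split_ge k hd C (fun i => (s i : ℚ)) hoff
  have hFinv : PicF.IsInvertible (ClSub.idealMod F) :=
    (Groth.Agent.L19.IdealInvertible.isEffCartier_iff F).2 hF
  have hnum' : ∀ M : X.Modules, PicF.IsInvertible M →
      ii k (ClSub.idealMod F) M = ∑ i, (s i : ℚ) * ii k (ClSub.idealMod (C i)) M := by
    intro M hM
    rw [← intNum_eq_ii k hd, hnum M hM]
    push_cast
    simp only [intNum_eq_ii k hd]
  have hj : ∀ j, 0 ≤ ∑ i, (s i : ℚ) * Gram.gr k C i j := by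
    intro j
    haveI := hCi j
    rw [← hnum' _ (hinv j)]
    exact Gram.inv_pair_nonneg k hd F (C j) hFinv (hCd j) (hinv j) (hFC j)
  have h2 : 0 ≤ ∑ j, p j * ∑ i, (s i : ℚ) * Gram.gr k C i j :=
    Finset.sum_nonneg fun j _ => mul_nonneg (hp j) (hj j)
  have h3 : ∑ j, p j * ∑ i, (s i : ℚ) * Gram.gr k C i j =
      ∑ i, ∑ j, p i * p j * Gram.gr k C i j - ∑ i, ∑ j, m i * p j * Gram.gr k C i j := by
    simp only [Finset.mul_sum, ← Finset.sum_sub_distrib, hpm]
    rw [Finset.sum_comm]
    exact Finset.sum_congr rfl fun i _ => Finset.sum_congr rfl fun j _ => by ring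
  have hp0 := Gram.eq_zero_of_gram_nonneg k hd C hneg p (by linarith)
  have hH' : ∀ j, ii k (ClSub.idealMod (C j)) H < 0 := fun j =>
    haveI := hCi j; Gram.curve_ample_neg k hd hH (C j) (hCd j) (hinv j)
  have hs : ∀ i, (s i : ℚ) ≤ 0 := fun i => by rw [hpm i, hp0]; simpa using hm i
  obtain ⟨N, σ, hN, ⟨e⟩, hloc⟩ := Groth.L08.Cube.exists_section_of_effCartier F hF
  have hsum : 0 ≤ ∑ i, (s i : ℚ) * ii k (ClSub.idealMod (C i)) H :=
    Finset.sum_nonneg fun i _ => mul_nonneg_of_nonpos_of_nonpos (hs i) (hH' i).le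
  have hNH : ii k N H ≤ 0 := by
    rw [Gram.ii_inverse k hd hFinv hN hH.1 e, hnum' H hH.1]
    linarith
  have hη : genericPoint X ∈ CohB1.genLocus N σ := by
    show genericPoint X ∈ (CohB1.genLocus N σ : Set X)
    rw [hloc]
    intro hηF
    obtain ⟨U, hxU, f, hf, hIU⟩ := hF (genericPoint X)
    have h1 : genericPoint X ∈ X.zeroLocus (U := U.1) (F.ideal U) :=
      (Scheme.IdealSheafData.mem_support_iff_of_mem (I := F) (U := U) hxU).1 hηF
    rw [hIU, Scheme.zeroLocus_span, Scheme.zeroLocus_singleton] at h1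
    have h2 : (X.basicOpen f : Set X) = ∅ := Set.eq_empty_iff_forall_notMem.2 fun y hy =>
      h1 (((genericPoint_spec X).specializes trivial).mem_open (X.basicOpen f).2 hy)
    have hf0 : f = 0 := (basicOpen_eq_bot_iff f).1 (TopologicalSpace.Opens.ext h2)
    haveI : Nonempty U.1 := ⟨⟨_, hxU⟩⟩
    exact one_ne_zero ((mem_nonZeroDivisors_iff_right.1 (hf0 ▸ hf)) 1 (mul_zero 1))
  have hσ : σ ≠ 0 := by
    intro h0
    haveI := Groth.L21.RR.isNoetherian_of_proper (X := X) k
    have hb := bijective_stalk_section σ hη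
    rw [h0, Functor.map_zero] at hb
    exact (Groth.L16.CohSupport.len_eq_zero_iff (genericPoint X) (Coh.structureModule X)).not.1
      (by rw [Groth.L22.Nakai.len_structure']; exact one_ne_zero) fun hsub => hsub ⟨fun a b => hb.1 rfl⟩
  have hFtop : F = ⊤ := by
    rw [← Scheme.IdealSheafData.support_eq_bot_iff]
    refine TopologicalSpace.Closeds.ext (Set.eq_empty_iff_forall_notMem.2 fun x hx => ?_)
    refine absurd hNH (not_le.2 (ii_effective_pos k hd hd2 hN hH σ hσ ⟨fun i => ?_⟩))
    have hg : CohB1.genLocus (Coh.structureModule X) (σ ≫ i.symm.hom) = CohB1.genLocus N σ :=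
      Groth.L16.genLocus_comp_iso σ i.symm
    rw [Groth.L16.genLocus_endo] at hg
    have hne : (show Γ(X, ⊤) from (σ ≫ i.symm.hom).app ⊤ (1 : Γ(X, ⊤))) ≠ 0 := fun h0 => by
      rw [h0, Scheme.basicOpen_zero] at hg
      exact (hg ▸ hη : genericPoint X ∈ (⊥ : X.Opens))
    obtain ⟨c, hc⟩ := (AlgebraicGeometry.isField_of_universallyClosed (K := k) (X ↘ Spec (CommRingCat.of k))).mul_inv_cancel hne
    rw [X.basicOpen_of_isUnit (IsUnit.of_mul_eq_one _ hc)] at hg
    have hmem : x ∈ CohB1.genLocus N σ := hg ▸ trivial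
    exact (show x ∉ (F.support : Set X) from (Set.ext_iff.1 hloc x).1 hmem) hx
  refine ⟨hFtop, fun i => ?_⟩
  have hN0 : 0 ≤ ii k N H := (ii_effective k hd hN hH σ hσ).elim le_of_lt fun h => (h H hH.1).ge
  have h0 : ∑ i, (s i : ℚ) * ii k (ClSub.idealMod (C i)) H = 0 := by
    rw [← hnum' H hH.1]
    linarith [Gram.ii_inverse k hd hFinv hN hH.1 e, hnum' H hH.1]
  have := (Finset.sum_eq_zero_iff_of_nonneg fun j _ => mul_nonneg_of_nonpos_of_nonpos (hs j) (hH' j).le).1 h0 i (Finset.mem_univ i)
  exact_mod_cast (mul_eq_zero.1 this).resolve_right (hH' i).ne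

end Groth.Agent.S18463
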