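import Groth.Statements.S18464
import Groth.Agent.L03.PlanePoints
import Mathlib.Algebra.MvPolynomial.Funext
import Mathlib.LinearAlgebra.Matrix.ToLin
import Mathlib.LinearAlgebra.Basis.VectorSpace

set_option autoImplicit false
universe u
open CategoryTheory CategoryTheory.Limits AlgebraicGeometry
open LefPen

namespace Groth.Agent.S18464

open Module in
theorem aux (k : Type u) [Field k] [Infinite k] (r d m : ℕ) (hm : Nat.choose (r + d) d ≤ m) :
    LefPen.IsZOpen k {x : Fin m → (Fin (r + 1) → k) |
      ∀ G : LefPen.Form r k d, (∀ i : Fin m, MvPolynomial.aeval (x i) G.1 = 0) → G = 0} ∧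
    ∃ x : Fin m → (Fin (r + 1) → k),
      ∀ G : LefPen.Form r k d, (∀ i : Fin m, MvPolynomial.aeval (x i) G.1 = 0) → G = 0 := by
  classical
  haveI : Module.Finite k (LefPen.Form r k d) := (Groth.L03.PlanePoints.finrank_homogeneous (F := k) r d).1
  have hdim : finrank k (LefPen.Form r k d) ≤ m := by
    refine le_trans (le_of_eq ((Groth.L03.PlanePoints.finrank_homogeneous (F := k) r d).2)) ?_
    rw [add_comm d r, Nat.choose_symm_add]; exact hm
  let E : (Fin m → (Fin (r + 1) → k)) → LefPen.Form r k d →ₗ[k] (Fin m → k) := fun x =>
    LinearMap.pi fun i => (MvPolynomial.aeval (x i)).toLinearMap ∘ₗ (CohB1.polyGrading r k d).subtype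
  refine ⟨fun v hv => ?_, ?_⟩
  · have hinj : LinearMap.ker (E v) = ⊥ :=
      LinearMap.ker_eq_bot'.2 fun G hG => hv G fun i => congrFun hG i
    obtain ⟨L, hL⟩ := (E v).exists_leftInverse_of_injective hinj
    let b := Module.finBasis k (LefPen.Form r k d)
    let f : (Fin m → (Fin (r + 1) → k)) → k := fun w => (LinearMap.toMatrix b b (L ∘ₗ E w)).det
    let A := Algebra.adjoin k (Set.range fun l : Dual k (Fin m → (Fin (r + 1) → k)) =>
      (l : (Fin m → (Fin (r + 1) → k)) → k))
    have hev : ∀ (p : MvPolynomial (Fin (r + 1)) k) (t : Fin m),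
        (fun w : Fin m → (Fin (r + 1) → k) => MvPolynomial.aeval (w t) p) ∈ A := fun p t => by
      induction p using MvPolynomial.induction_on with
      | C c => simp only [MvPolynomial.aeval_C]; exact A.algebraMap_mem c
      | add p q hp hq => simp only [map_add]; exact A.add_mem hp hq
      | mul_X p i hp =>
        simp only [map_mul, MvPolynomial.aeval_X]
        refine A.mul_mem hp (Algebra.subset_adjoin ?_)
        exact ⟨(LinearMap.proj (R := k) (φ := fun _ : Fin (r + 1) => k) i) ∘ₗ
          (LinearMap.proj (R := k) (φ := fun _ : Fin m => Fin (r + 1) → k) t), funext fun w => rfl⟩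
    let M : Matrix (Fin (finrank k (LefPen.Form r k d))) (Fin (finrank k (LefPen.Form r k d))) A :=
      Matrix.of fun i j => ⟨fun w => b.repr ((L ∘ₗ E w) (b j)) i, by
        have : (fun w => b.repr ((L ∘ₗ E w) (b j)) i) = ∑ t : Fin m,
            b.repr (L (Pi.single t 1)) i • (fun w => MvPolynomial.aeval (w t) (b j).1) := by
          funext w
          rw [LinearMap.comp_apply, pi_eq_sum_univ' (E w (b j)), map_sum, map_sum, Finsupp.finsetSum_apply,
            Finset.sum_apply]
          refine Finset.sum_congr rfl fun t _ => ?_
          simp [E, mul_comm]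
        rw [this]
        exact sum_mem fun t _ => A.smul_mem (hev _ t) _⟩
    have hf : f = (M.det : (Fin m → (Fin (r + 1) → k)) → k) := by
      funext w
      have h := ((Pi.evalRingHom (fun _ : Fin m → (Fin (r + 1) → k) => k) w).comp A.val.toRingHom).map_det M
      exact ((congrArg Matrix.det (Matrix.ext fun i j => LinearMap.toMatrix_apply b b _ i j)).trans h.symm)
    refine ⟨f, hf ▸ M.det.2, ?_, fun w hw G hG => ?_⟩
    · show (LinearMap.toMatrix b b (L ∘ₗ E v)).det ≠ 0
      rw [hL, LinearMap.toMatrix_id, Matrix.det_one]
      exact one_ne_zero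
    · have h0 : E w G = 0 := funext hG
      have : Matrix.mulVec (LinearMap.toMatrix b b (L ∘ₗ E w)) ⇑(b.repr G) = 0 := by
        rw [LinearMap.toMatrix_mulVec_repr, LinearMap.comp_apply, h0, map_zero, map_zero]; rfl
      have := Matrix.eq_zero_of_mulVec_eq_zero hw this
      exact b.repr.injective (by rw [map_zero]; exact DFunLike.coe_injective this)
  · let δ : (Fin (r + 1) → k) → Dual k (LefPen.Form r k d) := fun x =>
      (MvPolynomial.aeval x).toLinearMap ∘ₗ (CohB1.polyGrading r k d).subtype
    have htop : Submodule.span k (Set.range δ) = ⊤ := by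
      by_contra hne
      obtain ⟨φ, hφ0, hφ⟩ := Submodule.exists_le_ker_of_lt_top _ (lt_top_iff_ne_top.2 hne)
      obtain ⟨G, rfl⟩ := (Module.bijective_dual_eval k _).2 φ
      refine hφ0 ?_
      have hG : G = 0 := Subtype.ext <| MvPolynomial.funext fun x => by
        have := hφ (Submodule.subset_span ⟨x, rfl⟩)
        rw [LinearMap.mem_ker] at this
        simpa [δ, MvPolynomial.coe_aeval_eq_eval] using this
      rw [hG, map_zero]
    obtain ⟨g, hg, hgspan, -⟩ := Submodule.exists_fun_fin_finrank_span_eq k (Set.range δ)
    choose x hx using fun i => hg i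
    have hn : finrank k (Submodule.span k (Set.range δ)) ≤ m := by
      rw [htop, finrank_top, Subspace.dual_finrank_eq]; exact hdim
    refine ⟨fun i => if h : (i : ℕ) < finrank k (Submodule.span k (Set.range δ)) then x ⟨i, h⟩ else 0,
      fun G hG => ?_⟩
    refine (Module.forall_dual_apply_eq_zero_iff k G).1 fun φ => ?_
    have hφ : φ ∈ Submodule.span k (Set.range g) := by rw [hgspan, htop]; trivial
    induction hφ using Submodule.span_induction with
    | mem y hy =>
      obtain ⟨i, rfl⟩ := hy
      have := hG ⟨i, lt_of_lt_of_le i.2 hn⟩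
      simp only [dif_pos i.2] at this
      rw [← hx i]; exact this
    | zero => rfl
    | add y z _ _ hy hz => simp [hy, hz]
    | smul c y _ hy => simp [hy]

/-- Let k be an infinite field, r a natural number, d ≥ 1 an integer, and m ≥ C(r+d, d), the number of
monomials of degree d in r+1 variables. In the space of m-tuples of vectors of k^(r+1) (homogeneous
coordinate vectors of m points of projective r-space; a zero vector is allowed and imposes no
condition), the tuples such that the only form of degree d vanishing at all of them is the zero form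
make up a Zariski-open subset which contains the non-vanishing locus of a not identically zero
polynomial function, so a dense open subset. (The published statement is the openness and density of
the corresponding locus in the m-fold product of projective r-space over the ground field; here the
ground field is any infinite field and the statement is made on coordinate vectors.) -/
theorem result (k : Type u) [Field k] [Infinite k]
    (r d m : ℕ) (hd : 1 ≤ d) (hm : Nat.choose (r + d) d ≤ m) :
    LefPen.IsZOpen k {x : Fin m → (Fin (r + 1) → k) |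
      ∀ G : LefPen.Form r k d, (∀ i : Fin m, MvPolynomial.aeval (x i) G.1 = 0) → G = 0} ∧
    LefPen.IsGeneric k {x : Fin m → (Fin (r + 1) → k) |
      ∀ G : LefPen.Form r k d, (∀ i : Fin m, MvPolynomial.aeval (x i) G.1 = 0) → G = 0} := by
  obtain ⟨ho, v, hv⟩ := aux k r d m hm
  refine ⟨ho, ?_⟩
  obtain ⟨f, hf, hfv, hsub⟩ := ho v hv
  exact ⟨f, hf, ⟨v, hfv⟩, hsub⟩

end Groth.Agent.S18464
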