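import Groth.Statements.S18465
import Mathlib.Algebra.MonoidAlgebra.Basic
import Mathlib.Data.Fintype.EquivFin
import Mathlib.Tactic

set_option autoImplicit false
universe u v w x
open WildLef

namespace Groth.Agent.S18465

/-- Let f : G₁ → G₂ be a homomorphism of groups, ρ : G₂ → Γ a homomorphism with finite image G, and A a
nontrivial commutative ring. Let G₂ act on the group algebra A[G] through ρ followed by the left
regular representation, and G₁ through f. If the elements of A[G] fixed by G₁ coincide with those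
fixed by G₂, then ρ ∘ f and ρ have the same image. (The published statement has Γ a general linear
group GL_r(A); over the zero ring that group is trivial, so requiring A nontrivial and allowing any
target group loses nothing.) -/
theorem result
    {G₁ : Type u} {G₂ : Type v} {Γ : Type w} [Group G₁] [Group G₂] [Group Γ]
    (f : G₁ →* G₂) (ρ : G₂ →* Γ) [Finite ρ.range] (A : Type x) [CommRing A] [Nontrivial A]
    (h : {x : MonoidAlgebra A ρ.range | ∀ g : G₁, MonoidAlgebra.of A ρ.range (ρ.rangeRestrict (f g)) * x = x} =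
      {x : MonoidAlgebra A ρ.range | ∀ g : G₂, MonoidAlgebra.of A ρ.range (ρ.rangeRestrict g) * x = x}) :
    (ρ.comp f).range = ρ.range := by
  classical
  have hle : (ρ.comp f).range ≤ ρ.range := by
    rintro _ ⟨g, rfl⟩; exact ⟨f g, rfl⟩
  refine le_antisymm hle ?_
  rintro _ ⟨g₂, rfl⟩
  haveI := Fintype.ofFinite ρ.range
  let H : Subgroup ρ.range := (ρ.rangeRestrict.comp f).range
  let S : Finset ρ.range := Finset.univ.filter (· ∈ H)
  let x : MonoidAlgebra A ρ.range := ∑ s ∈ S, MonoidAlgebra.single s 1
  have hx : x ∈ {x : MonoidAlgebra A ρ.range | ∀ g : G₁, MonoidAlgebra.of A ρ.range (ρ.rangeRestrict (f g)) * x = x} := by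
    intro g
    simp only [x, Finset.mul_sum, MonoidAlgebra.of_apply, MonoidAlgebra.single_mul_single, one_mul]
    refine Finset.sum_nbij' (fun s => ρ.rangeRestrict (f g) * s) (fun s => (ρ.rangeRestrict (f g))⁻¹ * s) ?_ ?_ ?_ ?_ ?_
    · intro s hs
      simp [S] at hs ⊢
      exact H.mul_mem ⟨g, rfl⟩ hs
    · intro s hs
      simp [S] at hs ⊢
      exact H.mul_mem (H.inv_mem ⟨g, rfl⟩) hs
    · intro s _; simp
    · intro s _; simp
    · intro s _; rfl
  rw [h] at hx
  have h2 := congrArg (fun y : MonoidAlgebra A ρ.range => y.coeff (ρ.rangeRestrict g₂ * 1)) (hx g₂)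
  simp only [x, Finset.mul_sum, MonoidAlgebra.of_apply, MonoidAlgebra.single_mul_single, one_mul,
    MonoidAlgebra.coeff_sum, Finsupp.finsetSum_apply, MonoidAlgebra.coeff_single, Finsupp.single_apply] at h2
  rw [Finset.sum_ite_eq' S (ρ.rangeRestrict g₂ * 1)] at h2
  have h1 : (1 : ρ.range) ∈ S := by simp [S, H.one_mem]
  simp only [mul_one, mul_eq_left, Finset.sum_ite_eq', h1, if_true] at h2
  by_cases hm : ρ.rangeRestrict g₂ ∈ S
  · simp only [S, Finset.mem_filter, Finset.mem_univ, true_and] at hm
    obtain ⟨g₁, hg₁⟩ := hm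
    exact ⟨g₁, congrArg Subtype.val hg₁⟩
  · simp [hm] at h2

end Groth.Agent.S18465
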