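import Groth.Statements.S18466
import Groth.Agent.S16070
import Mathlib.RingTheory.Bialgebra.MonoidAlgebra
import Mathlib.RingTheory.RootsOfUnity.PrimitiveRoots
import Mathlib.NumberTheory.LegendreSymbol.AddCharacter
import Mathlib.RingTheory.Bialgebra.Equiv
import Mathlib.RingTheory.Bialgebra.GroupLike
import Mathlib.LinearAlgebra.FiniteDimensional.Basic
import Mathlib.LinearAlgebra.LinearIndependent.Lemmas

set_option autoImplicit false
universe u
open Hopf

namespace Groth.Agent.S18466

/-- Let k be a field and n ≥ 1. The constant group scheme ℤ/n over k is self-dual, that is, isomorphic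
to its Cartier dual μ_n — equivalently the Hopf algebra of k-valued functions on the cyclic group of
order n and the group algebra of that group over k (group elements group-like) are isomorphic as
bialgebras — precisely when the field k has a primitive n-th root of unity, i.e. k contains n
distinct n-th roots of unity in k. (The published statement assumes that the characteristic of k
does not divide n; both directions hold without that assumption by the same argument, since a
primitive n-th root of unity forces n to be nonzero in k, so it is omitted here.) -/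
theorem result
    (k : Type u) [Field k] (n : ℕ) [NeZero n] :
    Nonempty (ConstGrp.F k (Multiplicative (ZMod n)) ≃ₐc[k] MonoidAlgebra k (Multiplicative (ZMod n))) ↔
      ∃ ζ : k, IsPrimitiveRoot ζ n := by
  classical
  constructor
  · rintro ⟨e0⟩
    let f := e0.symm
    let v : ConstGrp.F k (Multiplicative (ZMod n)) := f (MonoidAlgebra.single (Multiplicative.ofAdd (1 : ZMod n)) 1)
    have hv1 : v 1 = 1 := by
      have h := CoalgHomClass.counit_comp_apply (R := k) f (MonoidAlgebra.single (Multiplicative.ofAdd (1 : ZMod n)) (1 : k))
      rw [ConstGrp.counit_apply, MonoidAlgebra.counit_single] at h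
      simpa using h
    have hvmul : ∀ a b, v (a * b) = v a * v b := by
      intro a b
      have h := CoalgHomClass.map_comp_comul_apply (R := k) f (MonoidAlgebra.single (Multiplicative.ofAdd (1 : ZMod n)) (1 : k))
      rw [MonoidAlgebra.comul_single] at h
      simp only [CommSemiring.comul_apply, TensorProduct.map_tmul, MonoidAlgebra.lsingle_apply] at h
      have h2 := congrArg (fun t => ConstGrp.pair k (Multiplicative (ZMod n)) t (a, b)) h
      simp only [ConstGrp.pair_comul] at h2
      refine h2.symm.trans ?_
      exact ConstGrp.pair_tmul k (Multiplicative (ZMod n)) _ _ a b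
    let χ : Multiplicative (ZMod n) →* k := { toFun := v, map_one' := hv1, map_mul' := hvmul }
    have hfp : ∀ j : ℕ, f (MonoidAlgebra.single (Multiplicative.ofAdd (j : ZMod n)) (1 : k)) = v ^ j := by
      intro j
      rw [show Multiplicative.ofAdd (j : ZMod n) = Multiplicative.ofAdd (1 : ZMod n) ^ j by
        rw [← ofAdd_nsmul, nsmul_one]]
      rw [← one_pow (M := k) j, ← MonoidAlgebra.single_pow, map_pow]
    have happ : ∀ (j : ℕ) (g : Multiplicative (ZMod n)), (v ^ j) g = χ g ^ j := fun j g =>
      map_pow (ConstGrp.ev k g) v j
    refine ⟨χ (Multiplicative.ofAdd 1), ⟨?_, fun j hj => ?_⟩⟩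
    · rw [← map_pow, ← ofAdd_nsmul, nsmul_one, ZMod.natCast_self, ofAdd_zero, map_one]
    · have hvj : v ^ j = 1 := by
        funext g
        rw [happ, ConstGrp.one_apply]
        obtain ⟨a, rfl⟩ := Multiplicative.ofAdd.surjective g
        rw [← ZMod.natCast_zmod_val a, ← nsmul_one a.val, ofAdd_nsmul, map_pow, ← pow_mul, mul_comm,
          pow_mul, hj, one_pow]
      have h0 : MonoidAlgebra.single (Multiplicative.ofAdd (j : ZMod n)) (1 : k) = MonoidAlgebra.single 1 1 := by
        refine f.injective ((hfp j).trans (hvj.trans ?_))
        rw [← MonoidAlgebra.one_def, map_one]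
      have := MonoidAlgebra.single_left_injective (one_ne_zero (α := k)) h0
      rw [← ofAdd_zero] at this
      exact (ZMod.natCast_eq_zero_iff _ _).1 (Multiplicative.ofAdd.injective this)
  · rintro ⟨ζ, hζ⟩
    let χ : AddChar (ZMod n) k := AddChar.zmodChar n hζ.pow_eq_one
    let φ : Multiplicative (ZMod n) →* ConstGrp.F k (Multiplicative (ZMod n)) :=
      { toFun := fun g => fun h => χ (g.toAdd * h.toAdd)
        map_one' := funext fun h => by simp
        map_mul' := fun a b => funext fun h => by simp [add_mul, AddChar.map_add_eq_mul] }
    let f0 := MonoidAlgebra.lift k (ConstGrp.F k (Multiplicative (ZMod n))) (Multiplicative (ZMod n)) φ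
    have hf0 : ∀ g, f0 (MonoidAlgebra.single g (1 : k)) = φ g := fun g => by simp [f0]
    let F := BialgHom.ofAlgHom f0
      (MonoidAlgebra.algHom_ext (fun g => by
        show Coalgebra.counit (R := k) (f0 (MonoidAlgebra.single g 1)) = Coalgebra.counit (R := k) (MonoidAlgebra.single g (1 : k))
        rw [ConstGrp.counit_apply, hf0, MonoidAlgebra.counit_single]
        simp [φ]) (Subsingleton.elim _ _))
      (MonoidAlgebra.algHom_ext (fun g => by
        refine Groth.Agent.S16070.pair_injective k (Multiplicative (ZMod n)) (funext fun p => ?_)
        show ConstGrp.pair k _ (Algebra.TensorProduct.map f0 f0 (Coalgebra.comul (MonoidAlgebra.single g (1 : k)))) p =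
          ConstGrp.pair k _ (Coalgebra.comul (f0 (MonoidAlgebra.single g 1))) p
        obtain ⟨a, b⟩ := p
        rw [ConstGrp.pair_comul, MonoidAlgebra.comul_single, hf0]
        simp only [CommSemiring.comul_apply, TensorProduct.map_tmul, MonoidAlgebra.lsingle_apply,
          Algebra.TensorProduct.map_tmul, hf0, ConstGrp.pair_tmul]
        simp [φ, mul_add, AddChar.map_add_eq_mul]) (Subsingleton.elim _ _))
    have hinjφ : Function.Injective fun g : Multiplicative (ZMod n) =>
        ({ toFun := φ g, map_one' := by simp [φ],
           map_mul' := fun a b => by simp [φ, mul_add, AddChar.map_add_eq_mul] } : Multiplicative (ZMod n) →* k) := by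
      intro g g' h
      have := DFunLike.congr_fun h (Multiplicative.ofAdd 1)
      simp only [MonoidHom.coe_mk, OneHom.coe_mk, φ, toAdd_ofAdd, mul_one, χ, AddChar.zmodChar_apply] at this
      exact Multiplicative.toAdd.injective (ZMod.val_injective n (hζ.pow_inj (ZMod.val_lt _) (ZMod.val_lt _) this))
    have hli : LinearIndependent k (fun g => (φ g : Multiplicative (ZMod n) → k)) :=
      (linearIndependent_monoidHom (Multiplicative (ZMod n)) k).comp _ hinjφ
    let b0 := MonoidAlgebra.basis (Multiplicative (ZMod n)) k
    have hinj : Function.Injective f0 := by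
      intro x y hxy
      have hl : f0.toLinearMap = b0.constr k (fun g => φ g) := b0.ext fun g => by
        rw [Module.Basis.constr_basis]
        show f0 (b0 g) = φ g
        rw [MonoidAlgebra.basis_apply, hf0]
      have hx : b0.constr k (fun g => φ g) x = b0.constr k (fun g => φ g) y := by rw [← hl]; exact hxy
      rw [Module.Basis.constr_apply, Module.Basis.constr_apply] at hx
      exact b0.repr.injective (hli hx)
    have hfin : Module.finrank k (MonoidAlgebra k (Multiplicative (ZMod n))) =
        Module.finrank k (ConstGrp.F k (Multiplicative (ZMod n))) := by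
      rw [Module.finrank_eq_card_basis b0, Module.finrank_eq_card_basis (ConstGrp.basis k (Multiplicative (ZMod n)))]
    haveI : Module.Finite k (MonoidAlgebra k (Multiplicative (ZMod n))) := Module.Finite.of_basis b0
    have hbij : Function.Bijective F :=
      ⟨hinj, (LinearMap.injective_iff_surjective_of_finrank_eq_finrank hfin (f := f0.toLinearMap)).1 hinj⟩
    exact ⟨(BialgEquiv.ofBijective F hbij).symm⟩


end Groth.Agent.S18466
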