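import Groth.Statements.S18467
import Mathlib.FieldTheory.Finite.Basic
import Mathlib.RingTheory.IntegralDomain
import Mathlib.Algebra.Ring.GeomSum


set_option autoImplicit false
universe u
open Hopf

namespace Groth.Agent.S18467

/-- Let p be a prime and R a commutative ring containing an element u with u(p − 1) = 1, and let χ be a
homomorphism from the group of units of ℤ/p to the group of units of R such that χ(m) − 1 is a unit
of R for every m ≠ 1. For 0 ≤ i < p − 1 put e_i = u · Σ_m χ(m)^{−i} [m] in the group algebra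
R[(ℤ/p)ˣ]. Then the e_i are idempotents, e_i e_j = 0 for i ≠ j, and Σ_i e_i = 1. (The published
statement is for algebras over the subring of the p-adic integers generated over ℤ by the values of
the Teichmüller character χ and by 1/(p(p − 1)); the hypotheses on R and χ here are the properties
of that situation which the computation uses, so the row is stated for every such pair.) -/
theorem result
    (p : ℕ) [Fact p.Prime] (R : Type u) [CommRing R] (u : R) (hu : u * ((p - 1 : ℕ) : R) = 1)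
    (χ : (ZMod p)ˣ →* Rˣ) (hχ : ∀ m : (ZMod p)ˣ, m ≠ 1 → IsUnit ((χ m : R) - 1)) :
    CompleteOrthogonalIdempotents (fun i : Fin (p - 1) =>
      u • ∑ m : (ZMod p)ˣ, ((χ m⁻¹ : Rˣ) : R) ^ (i : ℕ) • MonoidAlgebra.of R (ZMod p)ˣ m) := by
  classical
  set q := p - 1 with hq
  have hcard : Fintype.card (ZMod p)ˣ = q := ZMod.card_units p
  have hroot : ∀ m : (ZMod p)ˣ, ((χ m : Rˣ) : R) ^ q = 1 := fun m => by
    rw [← Units.val_pow_eq_pow_val, ← map_pow, ← hcard, pow_card_eq_one, map_one, Units.val_one]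
  have hgeom : ∀ m : (ZMod p)ˣ, m ≠ 1 → ∑ i : Fin q, ((χ m : Rˣ) : R) ^ (i : ℕ) = 0 := fun m hm => by
    rw [Fin.sum_univ_eq_sum_range (fun i => ((χ m : Rˣ) : R) ^ i)]
    have h := geom_sum_mul ((χ m : Rˣ) : R) q
    rw [hroot m, sub_self] at h
    exact (hχ m hm).mul_left_eq_zero.1 h
  obtain ⟨g, hg⟩ := IsCyclic.exists_generator (α := (ZMod p)ˣ)
  have hord : orderOf g = q := by
    rw [orderOf_eq_card_of_forall_mem_zpowers hg, Nat.card_eq_fintype_card, hcard]
  have hchar : ∀ d : ℕ, 0 < d → d < q → ∑ m : (ZMod p)ˣ, ((χ m : Rˣ) : R) ^ d = 0 := fun d hd hdq => by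
    have h : (((χ g : Rˣ) : R) ^ d) * ∑ m : (ZMod p)ˣ, ((χ m : Rˣ) : R) ^ d =
        ∑ m : (ZMod p)ˣ, ((χ m : Rˣ) : R) ^ d := by
      rw [Finset.mul_sum]
      exact Fintype.sum_equiv (Equiv.mulLeft g) _ _ fun m => by simp [mul_pow]
    have hgd : g ^ d ≠ 1 := fun h1 => by
      have := orderOf_dvd_of_pow_eq_one h1
      rw [hord] at this
      have := Nat.le_of_dvd hd this
      omega
    have hu' := hχ _ hgd
    rw [map_pow, Units.val_pow_eq_pow_val] at hu'
    refine hu'.mul_right_eq_zero.1 ?_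
    rw [sub_mul, one_mul, h, sub_self]
  set E : Fin q → MonoidAlgebra R (ZMod p)ˣ := fun i =>
    u • ∑ m : (ZMod p)ˣ, ((χ m⁻¹ : Rˣ) : R) ^ (i : ℕ) • MonoidAlgebra.of R (ZMod p)ˣ m with hE
  have hof : ∀ (i : Fin q) (a : (ZMod p)ˣ),
      MonoidAlgebra.of R (ZMod p)ˣ a * E i = ((χ a : Rˣ) : R) ^ (i : ℕ) • E i := by
    intro i a
    simp only [hE]
    rw [mul_smul_comm, smul_comm (((χ a : Rˣ) : R) ^ (i : ℕ)) u]
    refine congrArg (fun z : MonoidAlgebra R (ZMod p)ˣ => u • z) ?_
    rw [Finset.mul_sum, Finset.smul_sum]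
    refine Fintype.sum_equiv (Equiv.mulLeft a) _ _ fun m => ?_
    rw [mul_smul_comm, ← map_mul, smul_smul, ← mul_pow, ← Units.val_mul, ← map_mul]
    simp
  have hprod : ∀ i j : Fin q, E i * E j =
      (u * ∑ a : (ZMod p)ˣ, ((χ a⁻¹ : Rˣ) : R) ^ (i : ℕ) * ((χ a : Rˣ) : R) ^ (j : ℕ)) • E j := by
    intro i j
    conv_lhs => rw [show E i = u • ∑ m : (ZMod p)ˣ, ((χ m⁻¹ : Rˣ) : R) ^ (i : ℕ) •
      MonoidAlgebra.of R (ZMod p)ˣ m from rfl]
    rw [smul_mul_assoc, Finset.sum_mul, mul_smul, Finset.sum_smul]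
    refine congrArg (fun z : MonoidAlgebra R (ZMod p)ˣ => u • z) (Finset.sum_congr rfl fun a _ => ?_)
    rw [smul_mul_assoc, hof, smul_smul]
  refine ⟨⟨fun i => ?_, fun i j hij => ?_⟩, ?_⟩
  · show E i * E i = E i
    rw [hprod]
    convert one_smul R (E i) using 2
    have : ∀ a : (ZMod p)ˣ, ((χ a⁻¹ : Rˣ) : R) ^ (i : ℕ) * ((χ a : Rˣ) : R) ^ (i : ℕ) = 1 := fun a => by
      rw [← mul_pow, ← Units.val_mul, ← map_mul]; simp
    simp only [this, Finset.sum_const, Finset.card_univ, hcard, nsmul_eq_mul, mul_one]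
    exact hu
  · show E i * E j = 0
    rw [hprod]
    suffices h : ∑ a : (ZMod p)ˣ, ((χ a⁻¹ : Rˣ) : R) ^ (i : ℕ) * ((χ a : Rˣ) : R) ^ (j : ℕ) = 0 by
      rw [h, mul_zero, zero_smul]
    have hne : (i : ℕ) ≠ j := fun h => hij (Fin.ext h)
    rcases lt_or_gt_of_ne hne with h | h
    · rw [← hchar ((j : ℕ) - i) (by omega) (by omega)]
      refine Finset.sum_congr rfl fun a _ => ?_
      conv_lhs => rw [show (j : ℕ) = i + ((j : ℕ) - i) by omega, pow_add, ← mul_assoc, ← mul_pow,
        ← Units.val_mul, ← map_mul, inv_mul_cancel, map_one, Units.val_one, one_pow, one_mul]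
    · rw [← hchar ((i : ℕ) - j) (by omega) (by omega)]
      refine Fintype.sum_equiv (Equiv.inv _) _ _ fun a => ?_
      conv_lhs => rw [show (i : ℕ) = ((i : ℕ) - j) + j by omega, pow_add, mul_assoc, ← mul_pow,
        ← Units.val_mul, ← map_mul, inv_mul_cancel, map_one, Units.val_one, one_pow, mul_one]
      rfl
  · show ∑ i, E i = 1
    simp only [hE]
    rw [← Finset.smul_sum, Finset.sum_comm, Finset.sum_eq_single 1]
    · simp only [inv_one, map_one, Units.val_one, one_pow, one_smul, Finset.sum_const, Finset.card_univ,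
        Fintype.card_fin, ← Nat.cast_smul_eq_nsmul R, smul_smul]
      rw [hu, one_smul]
    · intro m _ hm
      rw [← Finset.sum_smul, hgeom _ (fun h => hm (inv_eq_one.1 h)), zero_smul]
    · intro h; exact absurd (Finset.mem_univ 1) h

end Groth.Agent.S18467
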