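import Groth.Statements.S1847
import Groth.Agent.L15.Tame.Main

set_option autoImplicit false
universe u
open CycAlg

namespace Groth.Agent.S1847

/-- Let A be a Noetherian local ring of dimension 1 and a₁, a₂ nonzerodivisors. Any two choices of tame
data (finite extension B, local parameters π_j, factorizations a_i = u_{i,j} π_j^{e_{i,j}}) give the
same product of norms, so the tame symbol ∂_A(a₁, a₂) is well defined. -/
theorem result (A : Type u) [CommRing A] [IsNoetherianRing A] [IsLocalRing A] (hA : ringKrullDim A = 1) (a₁ a₂ : A) (h₁ : a₁ ∈ nonZeroDivisors A) (h₂ : a₂ ∈ nonZeroDivisors A) (D D' : CycAlg.TameData A a₁ a₂) : D.value = D'.value := by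
  exact Groth.L15.Tame.value_eq hA h₁ h₂ D D'

end Groth.Agent.S1847
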