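import Groth.Statements.S18470
import Groth.Agent.L15.OT.Dual
import Mathlib.Tactic.Ring
import Mathlib.Tactic.LinearCombination
import Mathlib.Tactic.FieldSimp
import Mathlib.Algebra.BigOperators.Ring.Finset

set_option autoImplicit false
universe u v
open OortTate

namespace Groth.Agent.S18470

/-- Let R be a commutative ring and A a commutative Hopf algebra over R which is finitely generated and
projective as an R-module (a finite locally free group scheme G = Spec A, not assumed commutative),
and let A^D = Hom_R(A, R) be the dual algebra with its Hopf structure (the Cartier dual when A is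
cocommutative), whose counit is evaluation at 1. Then restriction of linear forms to the
augmentation ideal I = ker ε_A of A is a bijection from the augmentation ideal of A^D onto the dual
module Hom_R(I, R): the dual of the augmentation ideal of G is the augmentation ideal of the dual.
The published statement is for a group scheme of order p over a Λ_p-algebra; the argument uses only
the splitting A = R·1 ⊕ ker ε. -/
theorem result
    (R : Type u) [CommRing R] (A : Type v) [CommRing A] [HopfAlgebra R A]
    [Module.Finite R A] [Module.Projective R A] :
    Function.Bijective (fun f : LinearMap.ker (Bialgebra.counitAlgHom R (CartDual.D R A)).toLinearMap =>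
      ((CartDual.toDual R A) (f : CartDual.D R A)).comp
        (LinearMap.ker (Bialgebra.counitAlgHom R A).toLinearMap).subtype) := by
  open WithConv in
  exact by
    let ε : A →ₐ[R] R := Bialgebra.counitAlgHom R A
    have hmem : ∀ a : A, a - algebraMap R A (ε a) ∈ LinearMap.ker ε.toLinearMap := fun a => by
      rw [LinearMap.mem_ker, AlgHom.toLinearMap_apply, map_sub, AlgHom.commutes]; simp
    have hone : ∀ f : LinearMap.ker (Bialgebra.counitAlgHom R (CartDual.D R A)).toLinearMap,
        (f : CartDual.D R A).ofConv 1 = 0 := fun f => LinearMap.mem_ker.1 f.2
    constructor
    · intro f g h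
      apply Subtype.ext
      apply WithConv.ext
      refine LinearMap.ext fun a => ?_
      have h1 : (f : CartDual.D R A).ofConv (a - algebraMap R A (ε a)) =
          (g : CartDual.D R A).ofConv (a - algebraMap R A (ε a)) :=
        LinearMap.congr_fun h (⟨_, hmem a⟩ : LinearMap.ker ε.toLinearMap)
      rwa [map_sub, map_sub, Algebra.algebraMap_eq_smul_one, map_smul, map_smul, hone, hone, smul_zero,
        sub_zero, sub_zero] at h1
    · intro φ
      let P : A →ₗ[R] LinearMap.ker ε.toLinearMap :=
        (LinearMap.id - Algebra.linearMap R A ∘ₗ ε.toLinearMap).codRestrict _ hmem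
      refine ⟨⟨toConv (φ ∘ₗ P), ?_⟩, ?_⟩
      · rw [LinearMap.mem_ker]
        show φ (P 1) = 0
        rw [show P 1 = 0 from Subtype.ext (show (1 : A) - algebraMap R A (ε 1) = 0 by rw [map_one, map_one, sub_self])]
        exact map_zero φ
      · refine LinearMap.ext fun a => ?_
        show φ (P a) = φ a
        congr 1
        have ha : ε (a : A) = 0 := LinearMap.mem_ker.1 a.2
        exact Subtype.ext (show (a : A) - algebraMap R A (ε a) = a by rw [ha, map_zero, sub_zero])

end Groth.Agent.S18470
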