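import Groth.Statements.S18472
import Groth.Agent.L08.KaehlerHopf
import Mathlib.RingTheory.Smooth.Fiber
import Mathlib.RingTheory.Finiteness.ModuleFinitePresentation
import Mathlib.RingTheory.Flat.Basic

set_option autoImplicit false
universe u v
open Hopf

namespace Groth.Agent.S18472

/-- Let R be a commutative ring and A a commutative Hopf algebra over R which is finitely generated and
projective as an R-module (a finite locally free group scheme G = Spec A over Spec R), and let I =
ker ε be its augmentation ideal. Then A is étale over R if and only if I² = I. (The published text
calls G finite flat, meaning that A is finitely generated and projective.) -/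
theorem result
    (R : Type u) [CommRing R] (A : Type v) [CommRing A] [HopfAlgebra R A]
    [Module.Finite R A] [Module.Projective R A] :
    Algebra.Etale R A ↔
      RingHom.ker (Bialgebra.counitAlgHom R A) ^ 2 = RingHom.ker (Bialgebra.counitAlgHom R A) := by
  rw [← Groth.L08.KaehlerHopf.formallyUnramified_iff]
  refine ⟨fun h => inferInstance, fun h => ?_⟩
  haveI : Module.FinitePresentation R A := Module.finitePresentation_of_projective R A
  haveI : Algebra.FinitePresentation R A := inferInstance
  exact Algebra.Etale.of_formallyUnramified_of_flat

end Groth.Agent.S18472
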