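import Groth.Statements.S18473
import Groth.Agent.L15.OT.Group
import Mathlib.Tactic.Ring
import Mathlib.Tactic.LinearCombination
import Mathlib.Tactic.FieldSimp
import Mathlib.Algebra.BigOperators.Ring.Finset

set_option autoImplicit false
universe u
open OortTate

namespace Groth.Agent.S18473

/-- With the preceding computation: let p be a prime, R a commutative ring containing u with u(p − 1) =
1, and χ a homomorphism from the units of ℤ/p to the units of R such that χ(m) − 1 is a unit for
every m ≠ 1 (the situation of an algebra over the subring Λ_p of the p-adic integers generated by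
the Teichmüller values and 1/(p(p − 1)), with χ the Teichmüller character, which is the published
setting); assume moreover χ(m) ≡ m modulo pR for every m. In the group algebra over R of the cyclic
group of order p, written R[T]/(T^p − 1) with T group-like (the Hopf algebra of μ_p, on which the
power map [m] sends T to T^m), put y_i = u Σ_m χ(m)^{−i}(T^m − 1), the average of T − 1 for the
character χ^i. Then the elements y_0, …, y_{p−2} are a basis of the augmentation ideal (they are
linearly independent and span the kernel of the counit), the R-algebra is generated by y_1 alone,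
and y_1^p = w·y_1 for a unique w ∈ R (the constant w_p of the classification). -/
theorem result
    (p : ℕ) [Fact p.Prime] (R : Type u) [CommRing R] (u : R) (hu : u * ((p - 1 : ℕ) : R) = 1)
    (χ : (ZMod p)ˣ →* Rˣ) (hχ : ∀ m : (ZMod p)ˣ, m ≠ 1 → IsUnit ((χ m : R) - 1))
    (hχp : ∀ m : (ZMod p)ˣ, ((χ m : Rˣ) : R) - (((m : ZMod p).val : ℕ) : R) ∈ Ideal.span ({(p : R)} : Set R)) :
    LinearIndependent R (fun i : Fin (p - 1) => OortTate.ygen R p u χ (i : ℕ)) ∧
      Submodule.span R (Set.range (fun i : Fin (p - 1) => OortTate.ygen R p u χ (i : ℕ))) =
        LinearMap.ker (Bialgebra.counitAlgHom R (MonoidAlgebra R (Multiplicative (ZMod p)))).toLinearMap ∧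
      Algebra.adjoin R ({OortTate.ygen R p u χ 1} : Set (MonoidAlgebra R (Multiplicative (ZMod p)))) = ⊤ ∧
      ∃! w : R, OortTate.ygen R p u χ 1 ^ p = w • OortTate.ygen R p u χ 1 := by
  exact Groth.L15.OT.ygen_facts ⟨⟨hu, hχ⟩, hχp⟩

end Groth.Agent.S18473
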