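import Groth.Statements.S18475
import Groth.Agent.L15.OT.Gens
import Mathlib.Tactic.Ring
import Mathlib.Tactic.LinearCombination
import Mathlib.Tactic.FieldSimp
import Mathlib.Algebra.BigOperators.Ring.Finset

set_option autoImplicit false
universe u
open OortTate

namespace Groth.Agent.S18475

/-- Let p be a prime, R a commutative ring containing u with u(p − 1) = 1, and χ a homomorphism from the
units of ℤ/p to the units of R such that χ(m) − 1 is a unit for every m ≠ 1 (the situation of an
algebra over the subring Λ_p of the p-adic integers generated by the Teichmüller values and 1/(p(p −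
1)), with χ the Teichmüller character, which is the published setting); assume moreover χ(m) ≡ m
modulo pR for every m. Let A and A' be commutative and cocommutative Hopf algebras over R, finitely
generated and projective as R-modules of rank p at every prime (group schemes G, G' of order p over
Spec R), with dual Hopf algebras A^D = Hom_R(A, R) and A'^D (the Cartier duals; for a unit m of ℤ/p
the power map [m] acts on all four algebras). Suppose the χ-eigenspaces of the augmentation ideals
are free of rank one with chosen generators: I_1(A) = R·x and I_1(A^D) = R·ξ with ξ(x) = 1, and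
similarly I_1(A') = R·x', I_1(A'^D) = R·ξ' with ξ'(x') = 1 (this is the case of a local base R);
write x^p = α x, ξ^p = β ξ, x'^p = α' x', ξ'^p = β' ξ' with α, β, α', β' ∈ R. If there is a unit v
of R with α' = v^{p−1} α and β' = v^{−(p−1)} β, then A and A' are isomorphic as bialgebras over R,
i.e. G ≅ G'. (This is the injectivity of the classification map G ↦ (I_1, a, b) in the case where
the invertible module I_1 is free, the case the copy spells out; the general statement compares
triples consisting of an invertible module with two maps.) The published argument obtains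
commutativity and p-torsion of G over a locally Noetherian base; this row allows any commutative
ring R, over which both still hold. -/
theorem result
    (p : ℕ) [Fact p.Prime] (R : Type u) [CommRing R] (u : R) (hu : u * ((p - 1 : ℕ) : R) = 1)
    (χ : (ZMod p)ˣ →* Rˣ) (hχ : ∀ m : (ZMod p)ˣ, m ≠ 1 → IsUnit ((χ m : R) - 1))
    (hχp : ∀ m : (ZMod p)ˣ, ((χ m : Rˣ) : R) - (((m : ZMod p).val : ℕ) : R) ∈ Ideal.span ({(p : R)} : Set R))
    (A : Type u) [CommRing A] [HopfAlgebra R A] [Coalgebra.IsCocomm R A] [Module.Finite R A]
    [Module.Projective R A] (hrk : ∀ q : PrimeSpectrum R, Module.rankAtStalk A q = p)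
    (A' : Type u) [CommRing A'] [HopfAlgebra R A'] [Coalgebra.IsCocomm R A'] [Module.Finite R A']
    [Module.Projective R A'] (hrk' : ∀ q : PrimeSpectrum R, Module.rankAtStalk A' q = p)
    (x : A) (hx : Submodule.span R {x} = OortTate.eigenAug R A p χ 1)
    (ξ : CartDual.D R A) (hξ : Submodule.span R {ξ} = OortTate.eigenAug R (CartDual.D R A) p χ 1)
    (hxξ : CartDual.toDual R A ξ x = 1)
    (x' : A') (hx' : Submodule.span R {x'} = OortTate.eigenAug R A' p χ 1)
    (ξ' : CartDual.D R A') (hξ' : Submodule.span R {ξ'} = OortTate.eigenAug R (CartDual.D R A') p χ 1)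
    (hxξ' : CartDual.toDual R A' ξ' x' = 1)
    (α β α' β' : R) (hα : x ^ p = α • x) (hβ : ξ ^ p = β • ξ) (hα' : x' ^ p = α' • x')
    (hβ' : ξ' ^ p = β' • ξ')
    (v : Rˣ) (hαv : α' = ((v ^ (p - 1) : Rˣ) : R) * α) (hβv : β' = ((v⁻¹ ^ (p - 1) : Rˣ) : R) * β) :
    Nonempty (A ≃ₐc[R] A') := by
  exact Groth.L15.OT.nonempty_bialgEquiv_gens ⟨⟨hu, hχ⟩, hχp⟩ hrk hrk' hx hξ hxξ hx' hξ' hxξ' hα hβ hα' hβ' v hαv hβv

end Groth.Agent.S18475
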