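import Groth.Statements.S18477
import Groth.Agent.L15.OT.Pairing
import Mathlib.Tactic.Ring
import Mathlib.Tactic.LinearCombination
import Mathlib.Tactic.FieldSimp
import Mathlib.Algebra.BigOperators.Ring.Finset

set_option autoImplicit false
universe u
open scoped TensorProduct
open OortTate

namespace Groth.Agent.S18477

/-- Let p be a prime, R a commutative ring containing u with u(p − 1) = 1, and χ a homomorphism from the
units of ℤ/p to the units of R such that χ(m) − 1 is a unit for every m ≠ 1 (the situation of an
algebra over the subring Λ_p of the p-adic integers generated by the Teichmüller values and 1/(p(p −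
1)), with χ the Teichmüller character, which is the published setting); assume moreover χ(m) ≡ m
modulo pR for every m. Let A be a commutative and cocommutative Hopf algebra over R, finitely
generated and projective as an R-module of rank p at every prime (a group scheme G of order p), A^D
= Hom_R(A, R) its dual Hopf algebra (Cartier dual), δ ∈ A ⊗ A^D the canonical element — the one with
(id ⊗ ev_a)(δ) = a for every a ∈ A, corresponding to the identity of A — and ϕ the R-algebra map
from the group algebra of ℤ/p (the Hopf algebra R[T]/(T^p − 1) of μ_p, T group-like) to A ⊗ A^D with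
ϕ(T) = δ; ϕ is the comorphism of the Cartier pairing G × G^D → μ_p. Let I_1(A) ⊆ A and I_1(A^D) ⊆
A^D be the χ-eigenspaces of the augmentation ideals under the power maps [m], and y_1 = u Σ_m
χ(m)^{−1}(T^m − 1). Then ϕ(y_1) generates the image of I_1(A) ⊗ I_1(A^D) in A ⊗ A^D as an R-module,
and r·ϕ(y_1) = 0 only for r = 0 (so that image is free of rank one on ϕ(y_1)). The published
argument obtains commutativity and p-torsion of G over a locally Noetherian base; this row allows
any commutative ring R, over which both still hold. -/
theorem result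
    (p : ℕ) [Fact p.Prime] (R : Type u) [CommRing R] (u : R) (hu : u * ((p - 1 : ℕ) : R) = 1)
    (χ : (ZMod p)ˣ →* Rˣ) (hχ : ∀ m : (ZMod p)ˣ, m ≠ 1 → IsUnit ((χ m : R) - 1))
    (hχp : ∀ m : (ZMod p)ˣ, ((χ m : Rˣ) : R) - (((m : ZMod p).val : ℕ) : R) ∈ Ideal.span ({(p : R)} : Set R))
    (A : Type u) [CommRing A] [HopfAlgebra R A] [Coalgebra.IsCocomm R A] [Module.Finite R A]
    [Module.Projective R A] (hrk : ∀ q : PrimeSpectrum R, Module.rankAtStalk A q = p)
    (δ : A ⊗[R] CartDual.D R A)
    (hδ : ∀ a : A, TensorProduct.rid R A
      (LinearMap.lTensor A ((Module.Dual.eval R A a) ∘ₗ (CartDual.toDual R A).toLinearMap) δ) = a)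
    (ϕ : MonoidAlgebra R (Multiplicative (ZMod p)) →ₐ[R] A ⊗[R] CartDual.D R A)
    (hϕ : ϕ (OortTate.muT R p) = δ) :
    Submodule.span R {ϕ (OortTate.ygen R p u χ 1)} =
        LinearMap.range (TensorProduct.map (OortTate.eigenAug R A p χ 1).subtype
          (OortTate.eigenAug R (CartDual.D R A) p χ 1).subtype) ∧
      ∀ r : R, r • ϕ (OortTate.ygen R p u χ 1) = 0 → r = 0 := by
  exact Groth.L15.OT.span_pairing ⟨⟨hu, hχ⟩, hχp⟩ hrk δ hδ ϕ hϕ

end Groth.Agent.S18477
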