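import Groth.Statements.S18479
import Groth.Agent.L15.OT.Two
import Mathlib.Tactic.Ring
import Mathlib.Tactic.LinearCombination
import Mathlib.Tactic.FieldSimp
import Mathlib.Algebra.BigOperators.Ring.Finset

set_option autoImplicit false
universe u v
open scoped TensorProduct
open OortTate

namespace Groth.Agent.S18479

/-- Let R be a commutative ring and A a commutative Hopf algebra over R whose augmentation ideal ker ε
is a free R-module of rank one with generator x (this is the situation of a group scheme of order 2
over a local ring: A free of rank 2, so ker ε is free of rank 1). Then there are a, b ∈ R with x² =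
a·x, Δ(x) = x ⊗ 1 + 1 ⊗ x + b·(x ⊗ x), and ab = −2; thus A is the Hopf algebra R[T]/(T² − aT) with
comultiplication T ↦ T ⊗ 1 + 1 ⊗ T + b T ⊗ T. (The copy works over a Noetherian local ring to get
freeness; the computation uses only that ker ε is free on x.) -/
theorem result
    (R : Type u) [CommRing R] (A : Type v) [CommRing A] [HopfAlgebra R A]
    (x : A) (hx : Bialgebra.counitAlgHom R A x = 0)
    (hgen : ∀ f : A, Bialgebra.counitAlgHom R A f = 0 → ∃ r : R, f = r • x)
    (hfree : ∀ r : R, r • x = 0 → r = 0) :
    ∃ a b : R, x * x = a • x ∧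
      Bialgebra.comulAlgHom R A x = x ⊗ₜ[R] 1 + 1 ⊗ₜ[R] x + b • (x ⊗ₜ[R] x) ∧ a * b = -2 := by
  exact Groth.L15.OT.Gen.exists_data ⟨x, hx, hgen, hfree⟩

end Groth.Agent.S18479
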