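import Groth.Statements.S1848
import Groth.Agent.L15.Tame.Main

set_option autoImplicit false
universe u
open CycAlg

namespace Groth.Agent.S1848

open Groth.L15.Tame IsLocalRing

section
variable {A : Type u} [CommRing A] [IsLocalRing A]

/-- the factor at one point, with all instances fixed -/
noncomputable def fct {ι : Type} {a : ι → A} (F : Fam A a) (q : MaximalSpectrum F.B)
    (u v : (Localization.AtPrime q.asIdeal)ˣ) (e f : ℕ) : ResidueField A :=
  haveI := F.isFinExt.2.1
  haveI := isLocalHom_loc (A := A) q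
  lf A (F.π q) u v e f

theorem fct_mul {ι : Type} {a : ι → A} (F : Fam A a) (q : MaximalSpectrum F.B)
    (u u' v : (Localization.AtPrime q.asIdeal)ˣ) (e e' f : ℕ) :
    fct F q (u * u') v (e + e') f = fct F q u v e f * fct F q u' v e' f ∧
    fct F q v (u * u') f (e + e') = fct F q v u f e * fct F q v u' f e' := by
  haveI := F.isFinExt.2.1
  haveI := isLocalHom_loc (A := A) q
  exact ⟨lf_mul_left (F.π q) u u' v e e' f, lf_mul_right (F.π q) u u' v e e' f⟩

theorem symbol_prod [IsNoetherianRing A] (hA : ringKrullDim A = 1) {ι : Type} {a : ι → A} (F : Fam A a)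
    (ha : ∀ i, a i ∈ nonZeroDivisors A) (i j : ι) :
    CycAlg.tameSymbol A (a i) (a j) =
      ∏ᶠ q : MaximalSpectrum F.B, fct F q (F.u i q) (F.u j q) (F.e i q) (F.e j q) :=
  tameSymbol_fam hA F ha i j

theorem localFactor_toData {ι : Type} {a : ι → A} (F : Fam A a) (i j : ι) (q : MaximalSpectrum F.B) :
    (F.toData i j).localFactor q = fct F q (F.u i q) (F.u j q) (F.e i q) (F.e j q) := rfl

end

theorem symbol_ne_zero {A : Type u} [CommRing A] [IsNoetherianRing A] [IsLocalRing A] (hA : ringKrullDim A = 1)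
    (a b : A) (ha : a ∈ nonZeroDivisors A) (hb : b ∈ nonZeroDivisors A) :
    CycAlg.tameSymbol A a b ≠ 0 := by
  have hv : ∀ i : Fin 2, ![a, b] i ∈ nonZeroDivisors A := by intro i; fin_cases i <;> assumption
  obtain ⟨F⟩ := exists_fam hA ![a, b] hv
  have h := symbol_prod hA F hv 0 1
  simp only [Matrix.cons_val_zero, Matrix.cons_val_one] at h
  rw [h]
  refine finprod_induction (p := fun x => x ≠ 0) one_ne_zero (fun x y hx hy => mul_ne_zero hx hy) fun q => ?_
  haveI := F.isFinExt.2.1
  haveI := isLocalHom_loc (A := A) q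
  haveI := finite_res (A := A) q
  exact lf_ne_zero _ _ _ _ _

/-- the family with an extra product -/
def withMul {A : Type u} [CommRing A] [IsLocalRing A] {a a' b : A} (F : Fam A ![a, a', b]) :
    Fam A ![a, a', b, a * a'] where
  B := F.B
  isFinExt := F.isFinExt
  π := F.π
  π_mem := F.π_mem
  u := fun i q => ![F.u 0 q, F.u 1 q, F.u 2 q, F.u 0 q * F.u 1 q] i
  e := fun i q => ![F.e 0 q, F.e 1 q, F.e 2 q, F.e 0 q + F.e 1 q] i
  fac := fun i q => by
    have h0 := F.fac 0 q
    have h1 := F.fac 1 q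
    have h2 := F.fac 2 q
    fin_cases i
    · simpa using h0
    · simpa using h1
    · simpa using h2
    · change algebraMap A _ (a * a') = ((F.u 0 q * F.u 1 q : (Localization.AtPrime q.asIdeal)ˣ) : Localization.AtPrime q.asIdeal) *
        F.π q ^ (F.e 0 q + F.e 1 q)
      rw [map_mul, show algebraMap A (Localization.AtPrime q.asIdeal) a = _ from h0,
        show algebraMap A (Localization.AtPrime q.asIdeal) a' = _ from h1, Units.val_mul, pow_add]
      ring

theorem symbol_mul {A : Type u} [CommRing A] [IsNoetherianRing A] [IsLocalRing A] (hA : ringKrullDim A = 1)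
    (a a' b : A) (ha : a ∈ nonZeroDivisors A) (ha' : a' ∈ nonZeroDivisors A) (hb : b ∈ nonZeroDivisors A) :
    CycAlg.tameSymbol A (a * a') b = CycAlg.tameSymbol A a b * CycAlg.tameSymbol A a' b ∧
    CycAlg.tameSymbol A b (a * a') = CycAlg.tameSymbol A b a * CycAlg.tameSymbol A b a' := by
  have hv0 : ∀ i : Fin 3, ![a, a', b] i ∈ nonZeroDivisors A := by intro i; fin_cases i <;> assumption
  obtain ⟨F0⟩ := exists_fam hA ![a, a', b] hv0
  let F := withMul F0
  have hv : ∀ i : Fin 4, ![a, a', b, a * a'] i ∈ nonZeroDivisors A := by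
    intro i; fin_cases i
    · exact ha
    · exact ha'
    · exact hb
    · exact mul_mem ha ha'
  have := F0.isFinExt.2.1
  have := finite_spectrum (A := A) (B := F0.B)
  have : Finite (MaximalSpectrum F.B) := this
  have e1 : CycAlg.tameSymbol A (a * a') b = _ := symbol_prod hA F hv 3 2
  have e2 : CycAlg.tameSymbol A a b = _ := symbol_prod hA F hv 0 2
  have e3 : CycAlg.tameSymbol A a' b = _ := symbol_prod hA F hv 1 2
  have e4 : CycAlg.tameSymbol A b (a * a') = _ := symbol_prod hA F hv 2 3
  have e5 : CycAlg.tameSymbol A b a = _ := symbol_prod hA F hv 2 0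
  have e6 : CycAlg.tameSymbol A b a' = _ := symbol_prod hA F hv 2 1
  constructor
  · rw [e1, e2, e3, ← finprod_mul_distrib (Set.toFinite _) (Set.toFinite _)]
    refine finprod_congr fun q => ?_
    exact (fct_mul F q (F.u 0 q) (F.u 1 q) (F.u 2 q) (F.e 0 q) (F.e 1 q) (F.e 2 q)).1
  · rw [e4, e5, e6, ← finprod_mul_distrib (Set.toFinite _) (Set.toFinite _)]
    refine finprod_congr fun q => ?_
    exact (fct_mul F q (F.u 0 q) (F.u 1 q) (F.u 2 q) (F.e 0 q) (F.e 1 q) (F.e 2 q)).2

/-- total exponent of one element -/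
theorem sum_exp {A : Type u} [CommRing A] [IsNoetherianRing A] [IsLocalRing A] (hA : ringKrullDim A = 1)
    {ι : Type} {a : ι → A} (F : Fam A a) (ha : ∀ i, a i ∈ nonZeroDivisors A) (i : ι)
    (hF : algebraMap A F.B (a i) ∈ nonZeroDivisors F.B) :
    ∑ᶠ q : MaximalSpectrum F.B,
        deg A q * (F.e i q * (Ring.ord (Localization.AtPrime q.asIdeal) (F.π q)).toNat) =
      (Module.length A (A ⧸ Ideal.span {a i})).toNat := by
  obtain ⟨hinj, hfin, p, hp⟩ := F.isFinExt
  have := finite_spectrum (A := A) (B := F.B)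
  have : IsNoetherianRing F.B := IsNoetherianRing.of_finite A F.B
  have h := len_eq_sum hA hinj hF
  have hA' : Groth.L15.CommonFactor.len A F.B (algebraMap A F.B (a i)) = Groth.L15.CommonFactor.len A A (a i) := by
    by_cases hu : IsUnit (a i)
    · unfold Groth.L15.CommonFactor.len
      rw [Ideal.span_singleton_eq_top.mpr hu, Ideal.span_singleton_eq_top.mpr (hu.map _)]
      simp [Module.length_eq_zero]
    · have hw : (a i) ^ p ∈ nonZeroDivisors A := pow_mem (ha i) p
      refine Groth.L15.CommonFactor.len_map A hA hinj hinj (fun z hz => ?_) hw (fun c => ?_) (ha i)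
      · rw [mem_nonZeroDivisors_iff_right]
        intro c hc
        obtain ⟨y, hy⟩ := hp _ (Ideal.pow_mem_pow (show a i ∈ IsLocalRing.maximalIdeal A from hu) p) c
        rw [Algebra.smul_def] at hy
        have h1 : algebraMap A F.B (y * z) = 0 := by rw [map_mul, hy, mul_assoc, hc, mul_zero]
        have h2 : y = 0 := mem_nonZeroDivisors_iff_right.mp hz _ (hinj (by rw [h1, map_zero]))
        rw [h2, map_zero, map_pow] at hy
        exact mem_nonZeroDivisors_iff_left.mp (pow_mem hF p) _ hy.symm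
      · obtain ⟨y, hy⟩ := hp _ (Ideal.pow_mem_pow (show a i ∈ IsLocalRing.maximalIdeal A from hu) p) c
        exact ⟨y, by rw [hy, Algebra.smul_def]⟩
  change _ = Groth.L15.CommonFactor.len A A (a i)
  rw [← hA', h]
  refine finsum_congr fun q => ?_
  haveI := krullDimLE_loc (Groth.L15.CommonFactor.dim_le_one A hA hinj) q
  rw [← IsScalarTower.algebraMap_apply A F.B, F.fac i q, Ring.ord_mul_of_isUnit_left (Units.isUnit _),
    Ring.ord_pow (F.π_mem q), nsmul_eq_mul, ENat.toNat_mul]
  simp

theorem symbol_self {A : Type u} [CommRing A] [IsNoetherianRing A] [IsLocalRing A] (hA : ringKrullDim A = 1)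
    (b : A) (hb : b ∈ nonZeroDivisors A) :
    CycAlg.tameSymbol A b b = (-1) ^ (Module.length A (A ⧸ Ideal.span {b})).toNat := by
  have hv : ∀ i : Fin 1, ![b] i ∈ nonZeroDivisors A := by intro i; fin_cases i; assumption
  obtain ⟨F⟩ := exists_fam hA ![b] hv
  have h : CycAlg.tameSymbol A b b = _ := symbol_prod hA F hv 0 0
  have hs := sum_exp hA F hv 0 (data_nzd₁ (F.toData 0 0))
  simp only [Matrix.cons_val_zero] at hs
  have := F.isFinExt.2.1
  have := finite_spectrum (A := A) (B := F.B)
  have := Fintype.ofFinite (MaximalSpectrum F.B)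
  rw [h, finprod_eq_prod_of_fintype]
  refine Eq.trans ?_ (congrArg (fun n : ℕ => (-1 : ResidueField A) ^ n) hs)
  simp only [finsum_eq_sum_of_fintype]
  rw [← Finset.prod_pow_eq_pow_sum]
  refine Finset.prod_congr rfl fun q _ => ?_
  haveI := isLocalHom_loc (A := A) q
  haveI := finite_res (A := A) q
  change lf A (F.π q) (F.u 0 q) (F.u 0 q) (F.e 0 q) (F.e 0 q) = _
  have hs : sx (F.u 0 q) (F.u 0 q) (F.e 0 q) (F.e 0 q) =
      algebraMap (ResidueField A) _ ((-1) ^ F.e 0 q) := by
    rw [sx, mul_assoc, mul_inv_cancel₀ (pow_ne_zero _ (residue_unit_ne_zero _)), mul_one, map_pow, map_neg, map_one]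
    apply neg_one_pow_congr
    simp [Nat.even_mul]
  rw [lf, hs, Algebra.norm_algebraMap, deg_eq, ← pow_mul, ← pow_mul]
  congr 1
  ring

theorem symbol_unit {A : Type u} [CommRing A] [IsNoetherianRing A] [IsLocalRing A] (hA : ringKrullDim A = 1)
    (c : Aˣ) (b : A) (hb : b ∈ nonZeroDivisors A) :
    CycAlg.tameSymbol A (c : A) b =
      residue A (c : A) ^ (Module.length A (A ⧸ Ideal.span {b})).toNat := by
  have hv : ∀ i : Fin 2, ![(c : A), b] i ∈ nonZeroDivisors A := by
    intro i; fin_cases i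
    · exact c.isUnit.mem_nonZeroDivisors
    · exact hb
  obtain ⟨F⟩ := exists_fam hA ![(c : A), b] hv
  have h : CycAlg.tameSymbol A (c : A) b = _ := symbol_prod hA F hv 0 1
  have hs := sum_exp hA F hv 1 (data_nzd₂ (F.toData 0 1))
  simp only [Matrix.cons_val_one, Matrix.cons_val_zero] at hs
  have := F.isFinExt.2.1
  have := finite_spectrum (A := A) (B := F.B)
  have := Fintype.ofFinite (MaximalSpectrum F.B)
  rw [h, finprod_eq_prod_of_fintype]
  refine Eq.trans ?_ (congrArg (fun n : ℕ => (residue A (c : A) : ResidueField A) ^ n) hs)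
  simp only [finsum_eq_sum_of_fintype]
  rw [← Finset.prod_pow_eq_pow_sum]
  refine Finset.prod_congr rfl fun q _ => ?_
  haveI := isLocalHom_loc (A := A) q
  haveI := finite_res (A := A) q
  change lf A (F.π q) (F.u 0 q) (F.u 1 q) (F.e 0 q) (F.e 1 q) = _
  by_cases hu : IsUnit (F.π q)
  · rw [lf_of_isUnit hu, ord_unit hu]; simp
  have hc : (F.u 0 q : Localization.AtPrime q.asIdeal) * F.π q ^ F.e 0 q =
      ((Units.map (algebraMap A (Localization.AtPrime q.asIdeal)).toMonoidHom c : (Localization.AtPrime q.asIdeal)ˣ) : Localization.AtPrime q.asIdeal) * F.π q ^ 0 := by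
    rw [pow_zero, mul_one, ← F.fac 0 q]; rfl
  obtain ⟨he, hu0⟩ := eq_of_unit_mul_pow (F.π_mem q) hu hc
  have hs : sx (F.u 0 q) (F.u 1 q) (F.e 0 q) (F.e 1 q) =
      algebraMap (ResidueField A) _ (residue A (c : A) ^ F.e 1 q) := by
    rw [sx, he, hu0]
    simp only [Nat.zero_mul, pow_zero, one_mul, inv_one, mul_one, map_pow]
    rfl
  rw [lf, hs, Algebra.norm_algebraMap, deg_eq, ← pow_mul, ← pow_mul]
  congr 1
  ring

theorem symbol_steinberg {A : Type u} [CommRing A] [IsNoetherianRing A] [IsLocalRing A] (hA : ringKrullDim A = 1)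
    (a b : A) (ha : a ∈ nonZeroDivisors A) (hb : b ∈ nonZeroDivisors A) (hc : b - a ∈ nonZeroDivisors A) :
    CycAlg.tameSymbol A a (b - a) * CycAlg.tameSymbol A b b =
      CycAlg.tameSymbol A b (b - a) * CycAlg.tameSymbol A a b := by
  have hv : ∀ i : Fin 3, ![a, b, b - a] i ∈ nonZeroDivisors A := by intro i; fin_cases i <;> assumption
  obtain ⟨F⟩ := exists_fam hA ![a, b, b - a] hv
  have := F.isFinExt.2.1
  have := finite_spectrum (A := A) (B := F.B)
  have e1 : CycAlg.tameSymbol A a (b - a) = _ := symbol_prod hA F hv 0 2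
  have e2 : CycAlg.tameSymbol A b b = _ := symbol_prod hA F hv 1 1
  have e3 : CycAlg.tameSymbol A b (b - a) = _ := symbol_prod hA F hv 1 2
  have e4 : CycAlg.tameSymbol A a b = _ := symbol_prod hA F hv 0 1
  rw [e1, e2, e3, e4]
  rw [← finprod_mul_distrib (Set.toFinite _) (Set.toFinite _),
    ← finprod_mul_distrib (Set.toFinite _) (Set.toFinite _)]
  refine finprod_congr fun q => ?_
  haveI := isLocalHom_loc (A := A) q
  change lf A (F.π q) (F.u 0 q) (F.u 2 q) (F.e 0 q) (F.e 2 q) * lf A (F.π q) (F.u 1 q) (F.u 1 q) (F.e 1 q) (F.e 1 q) =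
    lf A (F.π q) (F.u 1 q) (F.u 2 q) (F.e 1 q) (F.e 2 q) * lf A (F.π q) (F.u 0 q) (F.u 1 q) (F.e 0 q) (F.e 1 q)
  by_cases hu : IsUnit (F.π q)
  · simp [lf_of_isUnit hu]
  simp only [lf, ← mul_pow, ← map_mul]
  congr 2
  have h0 : algebraMap A _ a = (F.u 0 q : Localization.AtPrime q.asIdeal) * F.π q ^ F.e 0 q := F.fac 0 q
  have h1 : algebraMap A _ b = (F.u 1 q : Localization.AtPrime q.asIdeal) * F.π q ^ F.e 1 q := F.fac 1 q
  have h2 : algebraMap A _ (b - a) = (F.u 2 q : Localization.AtPrime q.asIdeal) * F.π q ^ F.e 2 q := F.fac 2 q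
  rw [map_sub, h0, h1] at h2
  generalize F.u 0 q = u, F.u 1 q = v, F.u 2 q = w, F.e 0 q = e, F.e 1 q = f, F.e 2 q = g at h2 ⊢
  generalize hπ : F.π q = π at h2 hu
  have hπn : π ∈ nonZeroDivisors (Localization.AtPrime q.asIdeal) := hπ ▸ F.π_mem q
  have hπm : π ∈ maximalIdeal (Localization.AtPrime q.asIdeal) := hu
  have hru := residue_unit_ne_zero u
  have hrv := residue_unit_ne_zero v
  have hrw := residue_unit_ne_zero w
  have hrπ : residue (Localization.AtPrime q.asIdeal) π = 0 := (residue_eq_zero_iff _).mpr hπm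
  rcases lt_trichotomy e f with hef | hef | hef
  · obtain ⟨d, rfl⟩ := Nat.exists_eq_add_of_lt hef
    have hun : IsUnit ((v : Localization.AtPrime q.asIdeal) * π ^ (d + 1) - u) := by
      refine (residue_ne_zero_iff_isUnit _).mp ?_
      rw [map_sub, map_mul, map_pow, hrπ, zero_pow (Nat.succ_ne_zero d), mul_zero, zero_sub]
      exact neg_ne_zero.mpr hru
    obtain ⟨rfl, hw⟩ := eq_of_unit_mul_pow hπn hu (u := hun.unit) (v := w) (e := e) (f := g)
      (by rw [IsUnit.unit_spec, ← h2, pow_add, pow_add, pow_one]; ring)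
    have hrw' : residue (Localization.AtPrime q.asIdeal) (w : Localization.AtPrime q.asIdeal) =
        -residue _ (u : Localization.AtPrime q.asIdeal) := by
      rw [← hw, IsUnit.unit_spec, map_sub, map_mul, map_pow, hrπ, zero_pow (Nat.succ_ne_zero d), mul_zero, zero_sub]
    simp only [sx, hrw']
    field_simp
    generalize e + d + 1 = n
    generalize residue (Localization.AtPrime q.asIdeal) (u : Localization.AtPrime q.asIdeal) = U
    rw [neg_pow U n, neg_pow U e]
    have key : ((-1 : ResidueField (Localization.AtPrime q.asIdeal))) ^ (e * e) * (-1) ^ (n * n) * (-1) ^ n =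
        (-1) ^ e * (-1) ^ (n * e) * (-1) ^ (e * n) := by
      simp only [← pow_add]
      apply neg_one_pow_congr
      simp only [Nat.even_add, Nat.even_mul]
      tauto
    linear_combination (U ^ e * U ^ n) * key
  · subst hef
    have hge : e ≤ g := by
      by_contra hge
      push_neg at hge
      obtain ⟨d, rfl⟩ := Nat.exists_eq_add_of_lt hge
      refine hu (isUnit_of_mul_isUnit_right (x := ((v : Localization.AtPrime q.asIdeal) - u) * π ^ d) ?_)
      have h' : (((v : Localization.AtPrime q.asIdeal) - u) * π ^ d * π - w) * π ^ g = 0 := by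
        rw [sub_mul, ← h2]; ring
      rw [sub_eq_zero.mp (mem_nonZeroDivisors_iff_right.mp (pow_mem hπn g) _ h')]
      exact w.isUnit
    obtain ⟨d, rfl⟩ := Nat.exists_eq_add_of_le hge
    have h' : ((v : Localization.AtPrime q.asIdeal) - u - w * π ^ d) * π ^ e = 0 := by
      rw [show ((v : Localization.AtPrime q.asIdeal) - u - w * π ^ d) * π ^ e = v * π ^ e - u * π ^ e - w * π ^ (e + d) by ring,
        h2, sub_self]
    have h'' := congrArg (residue _) (sub_eq_zero.mp (mem_nonZeroDivisors_iff_right.mp (pow_mem hπn e) _ h'))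
    rcases d with _ | d
    · simp only [sx, add_zero]
      field_simp
    · rw [map_sub, map_mul, map_pow, hrπ, zero_pow (Nat.succ_ne_zero d), mul_zero, sub_eq_zero] at h''
      simp only [sx, h'']
  · obtain ⟨d, rfl⟩ := Nat.exists_eq_add_of_lt hef
    have hun : IsUnit ((v : Localization.AtPrime q.asIdeal) - u * π ^ (d + 1)) := by
      refine (residue_ne_zero_iff_isUnit _).mp ?_
      rw [map_sub, map_mul, map_pow, hrπ, zero_pow (Nat.succ_ne_zero d), mul_zero, sub_zero]
      exact hrv
    obtain ⟨rfl, hw⟩ := eq_of_unit_mul_pow hπn hu (u := hun.unit) (v := w) (e := f) (f := g)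
      (by rw [IsUnit.unit_spec, ← h2, pow_add, pow_add, pow_one]; ring)
    have hrw' : residue (Localization.AtPrime q.asIdeal) (w : Localization.AtPrime q.asIdeal) =
        residue _ (v : Localization.AtPrime q.asIdeal) := by
      rw [← hw, IsUnit.unit_spec, map_sub, map_mul, map_pow, hrπ, zero_pow (Nat.succ_ne_zero d), mul_zero, sub_zero]
    simp only [sx, hrw']
    field_simp

/-- For a Noetherian local ring A of dimension 1, the tame symbol ∂ on pairs of nonzerodivisors of A
takes nonzero values, is multiplicative in each variable, satisfies ∂(b, b) = (−1)^m and ∂(u, b) =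
ū^m for a unit u (ū its image in the residue field), where m = length_A(A/bA), and satisfies ∂(a, b
− a) ∂(b, b) = ∂(b, b − a) ∂(a, b) whenever a, b and b − a are nonzerodivisors. -/
theorem result (A : Type u) [CommRing A] [IsNoetherianRing A] [IsLocalRing A] (hA : ringKrullDim A = 1) : (∀ a b : A, a ∈ nonZeroDivisors A → b ∈ nonZeroDivisors A → CycAlg.tameSymbol A a b ≠ 0) ∧ (∀ a a' b : A, a ∈ nonZeroDivisors A → a' ∈ nonZeroDivisors A → b ∈ nonZeroDivisors A → CycAlg.tameSymbol A (a * a') b = CycAlg.tameSymbol A a b * CycAlg.tameSymbol A a' b ∧ CycAlg.tameSymbol A b (a * a') = CycAlg.tameSymbol A b a * CycAlg.tameSymbol A b a') ∧ (∀ b : A, b ∈ nonZeroDivisors A → CycAlg.tameSymbol A b b = (-1) ^ (Module.length A (A ⧸ Ideal.span {b})).toNat) ∧ (∀ (c : Aˣ) (b : A), b ∈ nonZeroDivisors A → CycAlg.tameSymbol A (c : A) b = IsLocalRing.residue A (c : A) ^ (Module.length A (A ⧸ Ideal.span {b})).toNat) ∧ (∀ a b : A, a ∈ nonZeroDivisors A → b ∈ nonZeroDivisors A → b - a ∈ nonZeroDivisors A → CycAlg.tameSymbol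 A a (b - a) * CycAlg.tameSymbol A b b = CycAlg.tameSymbol A b (b - a) * CycAlg.tameSymbol A a b) := by
  exact ⟨symbol_ne_zero hA, fun a a' b ha ha' hb => symbol_mul hA a a' b ha ha' hb,
    fun b hb => symbol_self hA b hb, fun c b hb => symbol_unit hA c b hb,
    fun a b ha hb hc => symbol_steinberg hA a b ha hb hc⟩

end Groth.Agent.S1848
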