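import Groth.Statements.S18480
import Groth.Agent.L15.OT.Two
import Mathlib.Tactic.Ring
import Mathlib.Tactic.LinearCombination
import Mathlib.Tactic.FieldSimp
import Mathlib.Algebra.BigOperators.Ring.Finset

set_option autoImplicit false
universe u v
open scoped TensorProduct
open OortTate

namespace Groth.Agent.S18480

/-- Let R be a commutative ring and let A and A' be commutative Hopf algebras over R whose augmentation
ideals are free of rank one with generators x and x', with constants a, b and a', b' ∈ R such that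
x² = a x, Δ(x) = x ⊗ 1 + 1 ⊗ x + b x ⊗ x and x'² = a' x', Δ(x') = x' ⊗ 1 + 1 ⊗ x' + b' x' ⊗ x' (the
group schemes of order two G_{a,b} and G_{a',b'}). Then A and A' are isomorphic as bialgebras over R
(G_{a,b} ≅ G_{a',b'} as group schemes) if and only if there is a unit s of R with a = a'·s and b' =
b·s. -/
theorem result
    (R : Type u) [CommRing R] (A : Type v) [CommRing A] [HopfAlgebra R A]
    (x : A) (hx : Bialgebra.counitAlgHom R A x = 0)
    (hgen : ∀ f : A, Bialgebra.counitAlgHom R A f = 0 → ∃ r : R, f = r • x)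
    (hfree : ∀ r : R, r • x = 0 → r = 0)
    (a b : R) (hxa : x * x = a • x)
    (hxb : Bialgebra.comulAlgHom R A x = x ⊗ₜ[R] 1 + 1 ⊗ₜ[R] x + b • (x ⊗ₜ[R] x))
    (A' : Type v) [CommRing A'] [HopfAlgebra R A']
    (x' : A') (hx' : Bialgebra.counitAlgHom R A' x' = 0)
    (hgen' : ∀ f : A', Bialgebra.counitAlgHom R A' f = 0 → ∃ r : R, f = r • x')
    (hfree' : ∀ r : R, r • x' = 0 → r = 0)
    (a' b' : R) (hxa' : x' * x' = a' • x')
    (hxb' : Bialgebra.comulAlgHom R A' x' = x' ⊗ₜ[R] 1 + 1 ⊗ₜ[R] x' + b' • (x' ⊗ₜ[R] x')) :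
    Nonempty (A ≃ₐc[R] A') ↔ ∃ s : Rˣ, a = a' * (s : R) ∧ b' = b * (s : R) := by
  exact Groth.L15.OT.Gen.iso_iff ⟨x, hx, hgen, hfree⟩ ⟨x', hx', hgen', hfree'⟩ hxa hxb hxa' hxb'

end Groth.Agent.S18480
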