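import Groth.Statements.S18483
import Groth.Agent.L26.Weil.Generic
import Groth.Agent.L26.Neron.Basic

set_option autoImplicit false
universe u
open CategoryTheory CategoryTheory.Limits AlgebraicGeometry MonObj
open Neron

namespace Groth.Agent.S18483

/-- Let R be a Dedekind domain with fraction field K and N a proper smooth group scheme over Spec R,
with no connectedness condition on its fibres. Then N is a Néron model of its generic fibre N_K: N
is smooth, separated and of finite type over Spec R, and for every smooth Spec R-scheme Y
restriction to generic fibres is a bijection from R-morphisms Y → N onto K-morphisms Y_K → N_K. (The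
source allows any connected Dedekind scheme as base; the affine case is stated.) -/
theorem result (R : Type u) [CommRing R] [IsDedekindDomain R]
    (N : Over (Spec (CommRingCat.of R))) [GrpObj N] [IsProper N.hom] [Smooth N.hom] :
    Neron.IsNeronModelOf R N ((Neron.genericFibre R).obj N) (Iso.refl _) := by
  haveI : GrpObj (Over.mk N.hom) := ‹GrpObj N›
  refine ⟨‹_›, inferInstance, inferInstance, inferInstance, fun Y hY => ?_⟩
  simp only [Iso.refl_hom, Category.comp_id]
  rw [Groth.Agent.NeronL.map_bijective_iff]
  intro v hv
  obtain ⟨g, ⟨hg1, hg2⟩, huniq⟩ := Groth.L26.Weil.existsUnique_of_generic Y.hom N.hom v hv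
  refine ⟨Over.homMk g hg1, hg2, fun h hh => Over.OverMorphism.ext ?_⟩
  exact huniq h.left ⟨Over.w h, hh⟩

end Groth.Agent.S18483
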