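import Groth.Statements.S18485
import Groth.Agent.L26.Neron.QFFlat
import Mathlib.AlgebraicGeometry.Morphisms.QuasiFinite
import Mathlib.AlgebraicGeometry.Morphisms.Flat
import Mathlib.Algebra.Category.Ring.Constructions

set_option autoImplicit false
universe u
open CategoryTheory CategoryTheory.Limits AlgebraicGeometry MonObj
open Neron

namespace Groth.Agent.S18485

open scoped TensorProduct

theorem affine_case' {R : Type u} [CommRing R] [IsDomain R] {X : Scheme.{u}} {A : CommRingCat.{u}}
    (f : X ⟶ Spec (CommRingCat.of R)) [Flat f] (c : Spec A ⟶ X) [IsOpenImmersion c]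
    [LocallyQuasiFinite (Limits.pullback.snd f (genPt R))] : LocallyQuasiFinite (c ≫ f) := by
  obtain ⟨φ, hφ⟩ : ∃ φ, Spec.map φ = c ≫ f := ⟨_, Spec.map_preimage _⟩
  have hfl : Flat (Spec.map φ) := by rw [hφ]; infer_instance
  have hq : LocallyQuasiFinite (Limits.pullback.snd (Spec.map φ) (genPt R)) := by
    have H := (IsPullback.of_hasPullback c (Limits.pullback.fst f (genPt R))).paste_vert
      (IsPullback.of_hasPullback f (genPt R))
    rw [← hφ] at H
    rw [← H.isoPullback_inv_snd]
    infer_instance
  rw [← hφ, HasRingHomProperty.Spec_iff (P := @LocallyQuasiFinite)]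
  algebraize [φ.hom]
  have hflat : Module.Flat R A := (HasRingHomProperty.Spec_iff (P := @Flat)).1 hfl
  have Hp := isPullback_SpecMap_of_isPushout _ _ _ _ (CommRingCat.isPushout_tensorProduct R (FractionRing R) A)
  have hb : LocallyQuasiFinite (Spec.map (CommRingCat.ofHom (algebraMap (FractionRing R) (FractionRing R ⊗[R] A)))) := by
    show LocallyQuasiFinite (Spec.map (CommRingCat.ofHom (Algebra.TensorProduct.includeLeftRingHom :
      FractionRing R →+* FractionRing R ⊗[R] A)))
    have hq' : LocallyQuasiFinite (Limits.pullback.snd (Spec.map (CommRingCat.ofHom (algebraMap R A))) (genPt R)) := hq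
    rw [← Hp.flip.isoPullback_hom_snd]
    infer_instance
  rw [HasRingHomProperty.Spec_iff (P := @LocallyQuasiFinite), CommRingCat.hom_ofHom, RingHom.quasiFinite_algebraMap,
    Algebra.QuasiFinite.iff_of_isArtinianRing] at hb
  exact Groth.Agent.NeronL.quasiFinite_of_flat (FractionRing R)

theorem affine_case {R : Type u} [CommRing R] [IsDomain R] {X W : Scheme.{u}} [IsAffine W]
    (f : X ⟶ Spec (CommRingCat.of R)) [Flat f] (c : W ⟶ X) [IsOpenImmersion c]
    [LocallyQuasiFinite (Limits.pullback.snd f (genPt R))] : LocallyQuasiFinite (c ≫ f) := by
  have := affine_case' f (W.isoSpec.inv ≫ c)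
  rw [← Iso.hom_inv_id_assoc W.isoSpec c, Category.assoc]
  infer_instance

/-- Let R be a Dedekind domain with fraction field K and H a Spec R-scheme which is flat and locally of
finite type over Spec R. If the generic fibre H_K is locally quasi-finite over K, then H is locally
quasi-finite over Spec R. (The published statement is about the schematic closure, in an S-group
algebraic space of finite type over a connected Dedekind scheme S, of a finite subgroup of the
generic fibre, which it asserts to be a quasi-finite S-group; this row is the statement about flat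
schemes locally of finite type over an affine Dedekind base on which that rests. Locally
quasi-finite is meant here without a finite type clause, which is assumed separately.) -/
theorem result (R : Type u) [CommRing R]
    [IsDedekindDomain R] (H : Over (Spec (CommRingCat.of R))) [Flat H.hom] [LocallyOfFiniteType H.hom]
    [LocallyQuasiFinite ((Neron.genericFibre R).obj H).hom] : LocallyQuasiFinite H.hom := by
  have hsnd : LocallyQuasiFinite (Limits.pullback.snd H.hom (genPt R)) :=
    ‹LocallyQuasiFinite ((Neron.genericFibre R).obj H).hom›
  rw [HasRingHomProperty.iff_of_source_openCover (P := @LocallyQuasiFinite) H.left.affineCover]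
  intro i
  have : IsOpenImmersion (H.left.affineCover.f i) := H.left.affineCover.map_prop i
  exact HasRingHomProperty.appTop @LocallyQuasiFinite _ (affine_case H.hom (H.left.affineCover.f i))

end Groth.Agent.S18485
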