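import Groth.Statements.S18486
import Groth.Agent.L26.Neron.Torsor
import Groth.Agent.L09.TorsorSch
import Groth.Agent.L23.Descent
import Groth.Agent.L25.Component

set_option autoImplicit false
universe u
open CategoryTheory CategoryTheory.Limits AlgebraicGeometry MonObj
open Neron

namespace Groth.Agent.S18486

open CategoryTheory CategoryTheory.Limits MonoidalCategory CartesianMonoidalCategory MonObj

/-- Let R be a Dedekind domain with fraction field K, X a group scheme over Spec R which is a Néron
model of its generic fibre, and P a Spec R-scheme with an action of X making it an X-torsor for the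
fppf topology (a pseudo-torsor which acquires sections on the members of some fppf covering family
of Spec R). Then P is smooth, separated and of finite type over Spec R and has the Néron mapping
property: for every smooth Spec R-scheme Y restriction to generic fibres is a bijection from
R-morphisms Y → P onto K-morphisms Y_K → P_K; that is, P is a Néron model of P_K. (The source treats
Néron lft models, torsors that are algebraic spaces and the mapping property towards smooth
algebraic spaces; the case of a Néron model of finite type and a torsor which is a scheme is
stated.) -/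
theorem result (R : Type u) [CommRing R] [IsDedekindDomain R]
    (X : Over (Spec (CommRingCat.of R))) [GrpObj X] (hX : Neron.IsNeronModelOf R X ((Neron.genericFibre R).obj X) (Iso.refl _))
    (P : NonAbH1.TorsorSch X Scheme.fppfPrecoverage) :
    Neron.IsNeronModelOf R P.X ((Neron.genericFibre R).obj P.X) (Iso.refl _) := by
  obtain ⟨hs, hsep, hft, hqc, hb⟩ := hX
  haveI := hs
  have hT : NonAbH1.IsTorsorFor Scheme.fpqcPrecoverage P.act :=
    ⟨P.isTorsor.1, let ⟨R', hR, h⟩ := P.isTorsor.2
      ⟨R', Scheme.fppfPrecoverage_le_fpqcPrecoverage _ hR, h⟩⟩
  haveI : MorphismProperty.DescendsAlong (@IsSeparated : MorphismProperty Scheme.{u})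
      (@Surjective ⊓ @Flat ⊓ @QuasiCompact) := by
    rw [show (@IsSeparated : MorphismProperty Scheme.{u}) = MorphismProperty.diagonal @IsClosedImmersion from by
      ext; exact isSeparated_iff _]
    infer_instance
  haveI : Smooth P.X.hom := Groth.L09.TorsorSch.of_grp @Smooth P.act hT hs
  haveI : Surjective P.X.hom :=
    Groth.L09.TorsorSch.of_grp @Surjective P.act hT (Groth.L25.Actions.surjective_grp X)
  refine ⟨inferInstance, Groth.L09.TorsorSch.of_grp @IsSeparated P.act hT hsep,
    Groth.L09.TorsorSch.of_grp @LocallyOfFiniteType P.act hT hft,
    Groth.L09.TorsorSch.of_grp @QuasiCompact P.act hT hqc, fun Y hY => ?_⟩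
  simp only [Iso.refl_hom, Category.comp_id]
  refine Groth.Agent.NeronL.Torsor.bijective_of_pseudoTorsor (Neron.genPt R) P.X P.act P.isTorsor.1 (fun Z hZ => ?_) Y hY
  have := hb Z hZ
  simp only [Iso.refl_hom, Category.comp_id] at this
  exact this

end Groth.Agent.S18486
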