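import Groth.Statements.S18487
import Groth.Agent.L09.GenericSection
import Groth.Agent.L23.AffineMor
import Groth.Agent.L23.Descent

set_option autoImplicit false
universe u
open CategoryTheory CategoryTheory.Limits AlgebraicGeometry MonObj
open NonAbH1

set_option linter.style.haveILetI false
set_option backward.isDefEq.respectTransparency.types false

namespace Groth.Agent.S18487

/-- Let R be a Dedekind domain with fraction field K, G a proper flat group scheme over Spec R, and P a
Spec R-scheme with an action of G making it a G-torsor for the fppf topology (a pseudo-torsor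
acquiring sections on the members of an fppf covering family). If P acquires a section over the
generic point Spec K → Spec R, then P has a section over Spec R: a generically trivial torsor is
trivial. (The source allows any connected Dedekind scheme as base and torsors that are fppf sheaves,
shown there to be schemes; the affine base and scheme torsors are stated.) -/
theorem result (R : Type u) [CommRing R] [IsDedekindDomain R]
    (G : Over (Spec (CommRingCat.of R))) [GrpObj G] [IsProper G.hom] [Flat G.hom]
    (P : NonAbH1.TorsorSch G Scheme.fppfPrecoverage) (h : NonAbH1.HasSectionOver P.X (Neron.genPt R)) :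
    NonAbH1.HasSectionOver P.X (𝟙 (Spec (CommRingCat.of R))) := by
  let a := P.act
  have h' : NonAbH1.IsTorsorFor Scheme.fpqcPrecoverage a :=
    ⟨P.isTorsor.1, P.isTorsor.2.imp fun R hR =>
      ⟨Scheme.fppfPrecoverage_le_fpqcPrecoverage _ hR.1, hR.2⟩⟩
  haveI : MorphismProperty.DescendsAlong @IsSeparated
      (@Surjective ⊓ @Flat ⊓ @QuasiCompact : MorphismProperty Scheme.{u}) := by
    rw [IsSeparated.isSeparated_eq_diagonal_isClosedImmersion]
    infer_instance
  haveI : LocallyOfFiniteType P.X.hom := Groth.L09.TorsorSch.of_grp @LocallyOfFiniteType a h' inferInstance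
  haveI : IsSeparated P.X.hom := Groth.L09.TorsorSch.of_grp @IsSeparated a h' inferInstance
  haveI : UniversallyClosed P.X.hom :=
    Groth.L09.TorsorSch.of_grp @UniversallyClosed a h' inferInstance
  let A : CommRingCat.{u} := CommRingCat.of R
  haveI : IsDomain A := inferInstanceAs (IsDomain R)
  haveI : IsNoetherianRing A := inferInstanceAs (IsNoetherianRing R)
  haveI : IsDedekindDomain A := inferInstanceAs (IsDedekindDomain R)
  haveI : IsLocallyNoetherian (Spec A) := inferInstance
  have hT : ∀ x : Spec A, ∃ (_ : IsDomain ((Spec A).presheaf.stalk x)),
      ValuationRing ((Spec A).presheaf.stalk x) := by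
    intro (x : PrimeSpectrum A)
    show ∃ (_ : IsDomain ((Spec.structureSheaf A).presheaf.stalk x)),
      ValuationRing ((Spec.structureSheaf A).presheaf.stalk x)
    haveI : IsDomain ((Spec.structureSheaf A).presheaf.stalk x) :=
      IsLocalization.isDomain_of_atPrime _ x.asIdeal
    refine ⟨inferInstance, ?_⟩
    let e := IsLocalization.algEquiv x.asIdeal.primeCompl (Localization.AtPrime x.asIdeal)
      ((Spec.structureSheaf A).presheaf.stalk x)
    haveI : ValuationRing (Localization.AtPrime x.asIdeal) := by
      by_cases hx : x.asIdeal = ⊥
      · haveI : IsFractionRing A (Localization.AtPrime x.asIdeal) := by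
          show IsLocalization _ _
          have : x.asIdeal.primeCompl = nonZeroDivisors A := by
            ext r
            show r ∉ x.asIdeal ↔ _
            rw [hx, Ideal.mem_bot]
            exact mem_nonZeroDivisors_iff_ne_zero.symm
          rw [← this]
          infer_instance
        letI := IsFractionRing.toField A (K := Localization.AtPrime x.asIdeal)
        infer_instance
      · haveI := IsLocalization.AtPrime.isDiscreteValuationRing_of_dedekind_domain A hx
          (Localization.AtPrime x.asIdeal)
        infer_instance
    exact Function.Surjective.valuationRing e.toRingEquiv.toRingHom e.surjective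
  obtain ⟨s, hs⟩ := h
  letI : Algebra R (Spec A).functionField :=
    (StructureSheaf.toStalk (A : Type u) (genericPoint (Spec A))).hom.toAlgebra
  haveI : IsFractionRing R (Spec A).functionField :=
    @AlgebraicGeometry.functionField_isFractionRing_of_affine A ‹IsDomain A›
  let e : FractionRing R ≃ₐ[R] (Spec A).functionField :=
    IsLocalization.algEquiv (nonZeroDivisors R) _ _
  have he : Spec.map (CommRingCat.ofHom e.toRingEquiv.toRingHom) ≫ Neron.genPt R =
      (Spec A).fromSpecStalk (genericPoint (Spec A)) := by
    rw [Spec.fromSpecStalk_eq, Neron.genPt, ← Spec.map_comp]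
    congr 1
    exact CommRingCat.hom_ext (RingHom.ext fun r => e.commutes r)
  obtain ⟨t, ht⟩ := Groth.L09.GenericSection.exists_section_valuation (X := Spec A) P.X.hom
    P.X.hom.isClosedMap hT (Spec.map (CommRingCat.ofHom e.toRingEquiv.toRingHom) ≫ s)
    (by rw [Category.assoc, hs]; exact he)
  exact ⟨t, ht⟩

end Groth.Agent.S18487
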