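import Groth.Statements.S18488
import Groth.Agent.L09.GenericTorsor
import Groth.Agent.L09.QuillenTransport
import Groth.Agent.L09.TorsorSch
import Groth.Agent.L23.AffineMor
import Groth.Agent.L23.Descent
import Mathlib.RingTheory.Flat.TorsionFree

set_option autoImplicit false
universe u
open CategoryTheory CategoryTheory.Limits AlgebraicGeometry MonObj
open MonoidalCategory CartesianMonoidalCategory
open NonAbH1

set_option linter.style.haveILetI false
set_option backward.isDefEq.respectTransparency.types false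
set_option backward.isDefEq.respectTransparency false

open Groth.L09.TorsorPts Groth.L09
open scoped TensorProduct

namespace Groth.Agent.S18488

lemma equivalence_equivIso {S : Scheme.{u}} (G : Over S) [GrpObj G] (K : Precoverage Scheme.{u}) :
    Equivalence (fun P Q : TorsorSch G K => Nonempty (EquivIso P.act Q.act)) where
  refl P := ⟨⟨Iso.refl _, by simp⟩⟩
  symm := by
    rintro P Q ⟨e⟩
    refine ⟨⟨e.iso.symm, ?_⟩⟩
    show Q.act.act ≫ e.iso.inv = (G ◁ e.iso.inv) ≫ P.act.act
    rw [Iso.comp_inv_eq, Category.assoc, e.comm, ← Category.assoc, ← MonoidalCategory.whiskerLeft_comp,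
      Iso.inv_hom_id, MonoidalCategory.whiskerLeft_id, Category.id_comp]
  trans := by
    rintro P Q T ⟨e⟩ ⟨e'⟩
    refine ⟨⟨e.iso ≪≫ e'.iso, ?_⟩⟩
    rw [Iso.trans_hom, reassoc_of% e.comm, e'.comm, MonoidalCategory.whiskerLeft_comp,
      Category.assoc]

section Bc

variable {S Y : Scheme.{u}} {d₀ : Y ⟶ S} {G P Q : Over S} [GrpObj G]

/-- A morphism between base changes as a morphism over `S`. -/
noncomputable def overS (θ : Red.bc d₀ P ⟶ Red.bc d₀ Q) : P ⊗ Over.mk d₀ ⟶ Q :=
  Over.homMk (θ.left ≫ pullback.fst Q.hom d₀) (by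
    show (θ.left ≫ pullback.fst Q.hom d₀) ≫ Q.hom = pullback.fst P.hom d₀ ≫ P.hom
    rw [Category.assoc, pullback.condition, pullback.condition, ← Category.assoc]
    exact congrArg (· ≫ d₀) (Over.w θ))

lemma overS_equiv {aP : AlgGrp.Action G P} {aQ : AlgGrp.Action G Q}
    (θ : Red.bc d₀ P ⟶ Red.bc d₀ Q)
    (hθ : AlgGrp.Action.IsEquivariant (aP.bc d₀) (aQ.bc d₀) θ)
    {Z : Over S} (g : Z ⟶ G) (x : Z ⟶ P) (k : Z ⟶ Over.mk d₀) :
    lift (sm aP g x) k ≫ overS θ = sm aQ g (lift x k ≫ overS θ) := by
  let y : Z.left ⟶ (Red.bc d₀ P).left := (lift x k).left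
  have hy1 : y ≫ pullback.fst P.hom d₀ = x.left := Conv.lift_left_fst _ _
  have hy2 : y ≫ pullback.snd P.hom d₀ = k.left := Conv.lift_left_snd _ _
  have hg : g.left ≫ G.hom = y ≫ (Red.bc d₀ P).hom ≫ d₀ := by
    show g.left ≫ G.hom = y ≫ pullback.snd P.hom d₀ ≫ d₀
    rw [← Category.assoc, hy2, Over.w g]
    exact (Over.w k).symm
  let Z' : Over S := Over.mk (g.left ≫ G.hom)
  let i : Z ⟶ Z' := Over.homMk (𝟙 _) (by simp [Z'])
  have hsm : ∀ {V : Over S} (a : AlgGrp.Action G V) (v : Z' ⟶ V) (v₀ : Z ⟶ V),
      v.left = v₀.left → (sm a (Over.homMk g.left rfl : Z' ⟶ G) v).left = (sm a g v₀).left := by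
    intro V a v v₀ hv
    have e1 : i ≫ (Over.homMk g.left rfl : Z' ⟶ G) = g := by ext1; exact Category.id_comp _
    have e2 : i ≫ v = v₀ := by ext1; exact (Category.id_comp _).trans hv
    have := congrArg Over.Hom.left (comp_sm a i (Over.homMk g.left rfl : Z' ⟶ G) v)
    rw [e1, e2, Over.comp_left] at this
    exact ((Category.id_comp _).symm.trans this)
  have h1 : (lift (sm aP g x) k).left = Conv.sact (aP.bc d₀) g.left y hg := by
    refine pullback.hom_ext ?_ ?_
    · refine (Conv.lift_left_fst _ _).trans ?_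
      exact ((Conv.sact_act_bc aP d₀ g.left y hg).trans (hsm aP _ x hy1)).symm
    · refine (Conv.lift_left_snd _ _).trans ?_
      exact (Conv.sact_proj (aP.bc d₀) g.left y hg).trans hy2 |>.symm
  ext1
  show (lift (sm aP g x) k).left ≫ θ.left ≫ pullback.fst Q.hom d₀ = _
  rw [← Category.assoc, h1, Conv.sact_equivariant θ hθ, Conv.sact_act_bc]
  refine hsm aQ _ (lift x k ≫ overS θ) ?_
  exact Category.assoc _ _ _

end Bc

lemma eq_zero_of_generic {R B K L : Type u} [CommRing R] [IsDomain R] [CommRing B] [Algebra R B]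
    [Field K] [Algebra R K] [IsFractionRing R K] [CommRing L] [Algebra R L]
    {J : Type u} (ev : J → (B →ₐ[R] L)) (k : K →ₐ[R] L)
    (hB : ∀ b, (∀ p, ev p b = 0) → b = 0) (z : B ⊗[R] K)
    (hz : ∀ p, Algebra.TensorProduct.productMap (ev p) k z = 0) : z = 0 := by
  have H : ∀ z : B ⊗[R] K, ∃ (r : R) (b : B), r ≠ 0 ∧ r • z = b ⊗ₜ[R] (1 : K) := by
    intro z
    induction z using TensorProduct.induction_on with
    | zero => exact ⟨1, 0, one_ne_zero, by simp⟩
    | tmul b x =>
      obtain ⟨⟨a, r⟩, h⟩ := IsLocalization.surj (nonZeroDivisors R) x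
      refine ⟨r, a • b, nonZeroDivisors.ne_zero r.2, ?_⟩
      have h' : (r : R) • x = a • (1 : K) := by
        rw [Algebra.smul_def, Algebra.smul_def, _root_.mul_one, _root_.mul_comm]
        exact h
      rw [← TensorProduct.tmul_smul, h', TensorProduct.tmul_smul, ← TensorProduct.smul_tmul']
    | add z z' hz hz' =>
      obtain ⟨r, b, hr, e⟩ := hz
      obtain ⟨r', b', hr', e'⟩ := hz'
      refine ⟨r * r', r' • b + r • b', mul_ne_zero hr hr', ?_⟩
      rw [smul_add, TensorProduct.add_tmul, ← TensorProduct.smul_tmul', ← TensorProduct.smul_tmul',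
        ← e, ← e', smul_smul, smul_smul, mul_comm r r']
  obtain ⟨r, b, hr, e⟩ := H z
  have hb : b = 0 := hB b fun p => by
    have := congrArg (Algebra.TensorProduct.productMap (ev p) k) e
    rw [map_smul, hz p, smul_zero, Algebra.TensorProduct.productMap_apply_tmul, map_one,
      _root_.mul_one] at this
    exact this.symm
  rw [hb, TensorProduct.zero_tmul] at e
  have hu : IsUnit (algebraMap R (B ⊗[R] K) r) := by
    have h : IsUnit (algebraMap R K r) :=
      IsUnit.mk0 _ fun h => hr (IsFractionRing.injective R K (by rw [h, map_zero]))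
    simpa using h.map (Algebra.TensorProduct.includeRight : K →ₐ[R] B ⊗[R] K)
  rw [Algebra.smul_def] at e
  exact hu.mul_right_eq_zero.mp e

section Main

variable (R : Type u) [CommRing R] [IsDedekindDomain R]
  {G P Q : Over (Spec (CommRingCat.of R))} [GrpObj G]

theorem exists_equivariant_of_generic [Flat P.hom] [Surjective P.hom] [IsSeparated Q.hom]
    [UniversallyClosed P.hom] [UniversallyClosed Q.hom] [QuasiCompact P.hom] [QuasiCompact Q.hom]
    {aP : AlgGrp.Action G P} {aQ : AlgGrp.Action G Q} (hP : NonAbH1.IsPseudoTorsorSch aP)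
    (θ : P ⊗ Over.mk (Neron.genPt R) ⟶ Q)
    (hθ : ∀ {Z : Over (Spec (CommRingCat.of R))} (g : Z ⟶ G) (x : Z ⟶ P)
      (k : Z ⟶ Over.mk (Neron.genPt R)),
      lift (sm aP g x) k ≫ θ = sm aQ g (lift x k ≫ θ)) :
    ∃ f : P ⟶ Q, aP.act ≫ f = (G ◁ f) ≫ aQ.act := by
  let S := Spec (CommRingCat.of R)
  let K := FractionRing R
  let K₀ : Over S := Over.mk (Neron.genPt R)
  haveI : CompactSpace P.left := QuasiCompact.compactSpace_of_compactSpace P.hom
  haveI : CompactSpace Q.left := QuasiCompact.compactSpace_of_compactSpace Q.hom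
  -- a point over the generic point
  obtain ⟨x, hx⟩ := P.hom.surjective (⊥ : PrimeSpectrum R)
  let L : Type u := P.left.residueField x
  letI : Field L := inferInstanceAs (Field (P.left.residueField x))
  obtain ⟨ψ, hψ⟩ : ∃ ψ : CommRingCat.of R ⟶ P.left.residueField x,
      Spec.map ψ = P.left.fromSpecResidueField x ≫ P.hom := Spec.map_surjective _
  letI : Algebra R L := ψ.hom.toAlgebra
  have hinj : Function.Injective (algebraMap R L) := by
    have h := congrArg (fun f => f (IsLocalRing.closedPoint L)) hψ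
    simp only [Scheme.Hom.comp_apply, Scheme.fromSpecResidueField_apply] at h
    have h' : (PrimeSpectrum.comap ψ.hom (IsLocalRing.closedPoint L)).asIdeal = ⊥ := by
      rw [show PrimeSpectrum.comap ψ.hom (IsLocalRing.closedPoint L) = (⊥ : PrimeSpectrum R) from
        h.trans hx]
      rfl
    rw [injective_iff_map_eq_zero]
    intro r hr
    have : r ∈ (PrimeSpectrum.comap ψ.hom (IsLocalRing.closedPoint L)).asIdeal := by
      show algebraMap R L r ∈ (IsLocalRing.closedPoint L).asIdeal
      rw [hr]
      exact Ideal.zero_mem _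
    rwa [h', Ideal.mem_bot] at this
  let φK : K →ₐ[R] L :=
    { IsFractionRing.lift hinj with commutes' := fun r => IsFractionRing.lift_algebraMap hinj r }
  let ZL : Over S := Over.mk (Spec.map (CommRingCat.ofHom (algebraMap R L)))
  let sP : ZL ⟶ P := Over.homMk (P.left.fromSpecResidueField x) hψ.symm
  let sK : ZL ⟶ K₀ := Over.homMk (Spec.map (CommRingCat.ofHom φK.toRingHom)) (by
    show _ ≫ Spec.map _ = Spec.map _
    rw [← Spec.map_comp]
    congr 1
    exact CommRingCat.hom_ext φK.comp_algebraMap)
  let sQ : ZL ⟶ Q := lift sP sK ≫ θ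
  -- valuation rings
  have hV : ∀ p : PrimeSpectrum R, ∃ (V : ValuationSubring L)
      (h : ∀ r, algebraMap R L r ∈ V.toSubring),
      Ideal.comap ((algebraMap R L).codRestrict V.toSubring h) (IsLocalRing.maximalIdeal V) =
        p.asIdeal := by
    intro p
    let f : Localization.AtPrime p.asIdeal →+* L := IsLocalization.lift (M := p.asIdeal.primeCompl)
      (g := algebraMap R L) fun r => IsUnit.mk0 _ fun h =>
        r.2 (by rw [hinj (h.trans (map_zero _).symm)]; exact p.asIdeal.zero_mem)
    obtain ⟨V, hmem, hloc⟩ := IsLocalRing.exists_factor_valuationRing f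
    have hf : ∀ r, f (algebraMap R _ r) = algebraMap R L r := fun r => IsLocalization.lift_eq _ r
    refine ⟨V, fun r => hf r ▸ hmem _, ?_⟩
    haveI : IsLocalRing V.toSubring := inferInstanceAs (IsLocalRing V)
    refine Eq.trans ?_
      (IsLocalization.AtPrime.comap_maximalIdeal (Localization.AtPrime p.asIdeal) p.asIdeal)
    refine Eq.trans ?_ (congrArg (Ideal.comap _)
      (IsLocalRing.maximalIdeal_comap (f.codRestrict V.toSubring hmem)))
    rw [Ideal.comap_comap]
    congr 1
    exact RingHom.ext fun r => Subtype.ext (hf r).symm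
  choose V hmem hcomap using hV
  choose lP hlP hlP' using fun p => Groth.L09.GenericTorsor.exists_valuation_lift P.hom sP.left
    (Over.w sP) (V p) (hmem p)
  choose lQ hlQ hlQ' using fun p => Groth.L09.GenericTorsor.exists_valuation_lift Q.hom sQ.left
    (Over.w sQ) (V p) (hmem p)
  let B : Type u := ∀ p : PrimeSpectrum R, V p
  let aB : R →+* B := RingHom.pi fun p => (algebraMap R L).codRestrict (V p).toSubring (hmem p)
  letI : Algebra R B := aB.toAlgebra
  let W : Over S := Over.mk (Spec.map (CommRingCat.ofHom (algebraMap R B)))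
  let evp (p : PrimeSpectrum R) : Spec (CommRingCat.of (V p)) ⟶ W.left :=
    Spec.map (CommRingCat.ofHom (Pi.evalRingHom (fun q => V q) p))
  obtain ⟨s₀, hs₀⟩ := Groth.L09.GenericTorsor.exists_lift_pi (V := fun p => V p) lP
  obtain ⟨y₀, hy₀⟩ := Groth.L09.GenericTorsor.exists_lift_pi (V := fun p => V p) lQ
  have hW : ∀ {X : Over S} (s : Spec (CommRingCat.of B) ⟶ X.left),
      (∀ p, evp p ≫ s ≫ X.hom =
        Spec.map (CommRingCat.ofHom ((algebraMap R L).codRestrict (V p).toSubring (hmem p)))) →
      s ≫ X.hom = W.hom := by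
    intro X s h
    obtain ⟨f, hf⟩ := Spec.map_surjective (s ≫ X.hom)
    rw [← hf]
    show Spec.map f = Spec.map _
    congr 1
    refine CommRingCat.hom_ext (RingHom.ext fun r => funext fun p => ?_)
    have := h p
    rw [← hf, ← Spec.map_comp] at this
    exact congr($(Spec.map_injective this) r)
  let s : W ⟶ P := Over.homMk s₀ (hW s₀ fun p => by
    rw [← hlP' p, ← hs₀ p, Category.assoc])
  let y : W ⟶ Q := Over.homMk y₀ (hW y₀ fun p => by
    rw [← hlQ' p, ← hy₀ p, Category.assoc])
  -- the cover
  haveI hflat : Flat W.hom := by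
    haveI : Module.IsTorsionFree R B := by
      rw [Module.isTorsionFree_iff_smul_eq_zero]
      intro r b h
      by_cases hr : r = 0
      · exact Or.inl hr
      refine Or.inr (funext fun p => Subtype.ext ?_)
      have := congrArg (fun c : B => ((c p : V p) : L)) h
      simp only [Algebra.smul_def] at this
      exact (mul_eq_zero.mp this).resolve_left fun h => hr (hinj (h.trans (map_zero _).symm))
    show Flat (Spec.map (CommRingCat.ofHom (algebraMap R B)))
    rw [HasRingHomProperty.Spec_iff (P := @Flat)]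
    exact RingHom.flat_algebraMap_iff.mpr (inferInstance : Module.Flat R B)
  have hcov : Groth.L25.Covers.Cov (toUnit W) := by
    refine ⟨⟨⟨fun (p : PrimeSpectrum R) => ?_⟩, hflat⟩, ?_⟩
    · refine ⟨evp p (IsLocalRing.closedPoint (V p)), ?_⟩
      apply PrimeSpectrum.ext
      exact hcomap p
    · show QuasiCompact (Spec.map (CommRingCat.ofHom (algebraMap R B)))
      infer_instance
  refine Groth.L09.GenericTorsor.exists_equivariant (K := K₀)
    (Groth.L09.GenericTorsor.relPseudo_of_isPseudo hP) ?_ hcov s y θ hθ ?_ ?_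
  · intro Z k k'
    haveI : Mono (Neron.genPt R) := by
      constructor
      intro Z g h e
      exact Groth.L09.GenericTorsor.mono_genPt R g h e
    ext1
    rw [← cancel_mono (Neron.genPt R)]
    exact (Over.w k).trans (Over.w k').symm
  · ext1
    let C : CommRingCat.{u} := CommRingCat.of (B ⊗[R] K)
    let e : Spec C ≅ (W ⊗ K₀).left := (pullbackSpecIso R B K).symm
    let ev (p : PrimeSpectrum R) : B →ₐ[R] L :=
      { (V p).subtype.comp (Pi.evalRingHom (fun q => V q) p) with commutes' := fun r => rfl }
    let φ (p : PrimeSpectrum R) : C ⟶ CommRingCat.of L :=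
      CommRingCat.ofHom (Algebra.TensorProduct.productMap (ev p) φK).toRingHom
    refine Groth.L09.GenericTorsor.eq_of_joint e φ (fun c hc => eq_zero_of_generic ev φK
      (fun b hb => funext fun p => Subtype.ext (hb p)) c hc) _ _ Q.hom
      ((Over.w _).trans (Over.w _).symm) fun p => ?_
    let wp : ZL ⟶ W := Over.homMk (Spec.map (CommRingCat.ofHom (ev p).toRingHom)) (by
      show _ ≫ Spec.map _ = Spec.map _
      rw [← Spec.map_comp]
      congr 1)
    have hq : Spec.map (φ p) ≫ e.hom = (lift wp sK).left := by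
      refine pullback.hom_ext ?_ ?_
      · refine Eq.trans ?_ (Conv.lift_left_fst wp sK).symm
        simp only [e, Iso.symm_hom, Category.assoc]
        refine (congrArg (Spec.map (φ p) ≫ ·) (pullbackSpecIso_inv_fst R B K)).trans ?_
        show _ ≫ Spec.map _ = Spec.map _
        rw [← Spec.map_comp]
        congr 1
        refine CommRingCat.hom_ext (RingHom.ext fun b => ?_)
        simp only [φ, CommRingCat.hom_comp, CommRingCat.hom_ofHom, RingHom.comp_apply]
        exact (Algebra.TensorProduct.productMap_apply_tmul _ _ _ _).trans (by simp)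
      · refine Eq.trans ?_ (Conv.lift_left_snd wp sK).symm
        simp only [e, Iso.symm_hom, Category.assoc]
        refine (congrArg (Spec.map (φ p) ≫ ·) (pullbackSpecIso_inv_snd R B K)).trans ?_
        show _ ≫ Spec.map _ = Spec.map _
        rw [← Spec.map_comp]
        congr 1
        refine CommRingCat.hom_ext (RingHom.ext fun b => ?_)
        simp only [φ, CommRingCat.hom_comp, CommRingCat.hom_ofHom, RingHom.comp_apply]
        exact (Algebra.TensorProduct.productMap_apply_tmul _ _ _ _).trans (by simp)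
    have hs : wp ≫ s = sP := by
      ext1
      rw [← hlP p, ← hs₀ p, ← Category.assoc, ← Spec.map_comp]
      rfl
    have hy : wp ≫ y = sQ := by
      ext1
      rw [← hlQ p, ← hy₀ p, ← Category.assoc, ← Spec.map_comp]
      rfl
    rw [← Category.assoc, hq, ← Category.assoc (Spec.map (φ p)), hq, ← Over.comp_left,
      ← Over.comp_left, lift_fst_assoc, hy, ← Category.assoc (lift wp sK), comp_lift,
      lift_fst_assoc, lift_snd, hs]
  · intro f g h
    haveI : Flat W.hom := hflat
    haveI : Flat ((P ⊗ W) ⊗ W).hom := by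
      show Flat (pullback.fst _ _ ≫ pullback.fst P.hom W.hom ≫ P.hom)
      infer_instance
    ext1
    haveI : IsSchemeTheoreticallyDominant (fst ((P ⊗ W) ⊗ W) K₀).left :=
      inferInstanceAs (IsSchemeTheoreticallyDominant
        (pullback.fst ((P ⊗ W) ⊗ W).hom (Neron.genPt R)))
    exact Groth.Agent.NeronL.eq_of_std (fst ((P ⊗ W) ⊗ W) K₀).left f.left g.left Q.hom
      ((Over.w f).trans (Over.w g).symm) (congrArg Over.Hom.left h)

end Main

/-- Let R be a Dedekind domain with fraction field K and G a proper flat group scheme over Spec R. Then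
restriction to the generic fibre, from the set of classes of G-torsors for the fppf topology (Spec
R-schemes with a G-action, pseudo-torsors trivialised on an fppf covering family, up to equivariant
isomorphism) to the set of classes of G_K-torsors, is injective. (The source allows any connected
Dedekind scheme as base and all fppf torsors, which it shows to be schemes; the affine base and
torsors representable by schemes are stated.) -/
theorem result (R : Type u) [CommRing R] [IsDedekindDomain R]
    (G : Over (Spec (CommRingCat.of R))) [GrpObj G] [IsProper G.hom] [Flat G.hom] :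
    Function.Injective (NonAbH1.H1Sch.bcMap (Neron.genPt R) G Scheme.fppfPrecoverage) := by
  intro p q h
  induction p using Quot.ind with | _ P => ?_
  induction q using Quot.ind with | _ Q => ?_
  obtain ⟨e⟩ := ((equivalence_equivIso _ _).eqvGen_iff).mp (Quot.eqvGen_exact h)
  apply Quot.sound
  have hPt : NonAbH1.IsTorsorFor Scheme.fpqcPrecoverage P.act :=
    ⟨P.isTorsor.1, P.isTorsor.2.imp fun R hR =>
      ⟨Scheme.fppfPrecoverage_le_fpqcPrecoverage _ hR.1, hR.2⟩⟩
  have hQt : NonAbH1.IsTorsorFor Scheme.fpqcPrecoverage Q.act :=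
    ⟨Q.isTorsor.1, Q.isTorsor.2.imp fun R hR =>
      ⟨Scheme.fppfPrecoverage_le_fpqcPrecoverage _ hR.1, hR.2⟩⟩
  haveI : MorphismProperty.DescendsAlong @IsSeparated
      (@Surjective ⊓ @Flat ⊓ @QuasiCompact : MorphismProperty Scheme.{u}) := by
    rw [IsSeparated.isSeparated_eq_diagonal_isClosedImmersion]
    infer_instance
  haveI := Groth.L25.Actions.descendsAlong_flat_fpqc.{u}
  haveI : Flat P.X.hom := Groth.L09.TorsorSch.of_grp @Flat P.act hPt inferInstance
  haveI : Surjective P.X.hom := Groth.L09.TorsorSch.of_grp @Surjective P.act hPt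
    (Groth.L25.Actions.surjective_grp G)
  haveI : IsSeparated Q.X.hom := Groth.L09.TorsorSch.of_grp @IsSeparated Q.act hQt inferInstance
  haveI : UniversallyClosed P.X.hom :=
    Groth.L09.TorsorSch.of_grp @UniversallyClosed P.act hPt inferInstance
  haveI : UniversallyClosed Q.X.hom :=
    Groth.L09.TorsorSch.of_grp @UniversallyClosed Q.act hQt inferInstance
  obtain ⟨f, hf⟩ := exists_equivariant_of_generic R (aP := P.act) (aQ := Q.act) P.isTorsor.1
    (overS e.iso.hom) (fun g x k => overS_equiv e.iso.hom e.comm g x k)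
  haveI : IsIso f :=
    Groth.L09.TorsorSch.isIso_of_isEquivariant P.act Q.act hPt Q.isTorsor.1 f hf
  exact ⟨⟨asIso f, hf⟩⟩

end Groth.Agent.S18488
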