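import Groth.Statements.S1849
import Groth.Agent.L15.Tame.Compat
-- import your own Groth.Agent.* helpers here

set_option autoImplicit false
universe u
open CycAlg

namespace Groth.Agent.S1849

/-- Let A be a Noetherian local ring of dimension 1 and A ⊆ B a finite extension with B/A killed by a
power of the maximal ideal 𝔪 and 𝔪 not an associated prime of the A-module B. For nonzerodivisors a,
b of A, ∂_A(a, b) is the product over the maximal ideals 𝔪_j of B of the norms from κ(𝔪_j) to κ of
∂_{B_{𝔪_j}}(a, b). -/
theorem result (A : Type u) [CommRing A] [IsNoetherianRing A] [IsLocalRing A] (hA : ringKrullDim A = 1) (B : Type u) [CommRing B] [Algebra A B] (hB : CycAlg.IsFinExt A B (IsLocalRing.maximalIdeal A)) (hass : IsLocalRing.maximalIdeal A ∉ associatedPrimes A B) [hloc : ∀ q : MaximalSpectrum B, IsLocalHom (algebraMap A (Localization.AtPrime q.asIdeal))] (a b : A) (ha : a ∈ nonZeroDivisors A) (hb : b ∈ nonZeroDivisors A) : CycAlg.tameSymbol A a b = ∏ᶠ q : MaximalSpectrum B, Algebra.norm (IsLocalRing.ResidueField A) (CycAlg.tameSymbol (Localization.AtPrime q.asIdeal)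 (algebraMap A (Localization.AtPrime q.asIdeal) a) (algebraMap A (Localization.AtPrime q.asIdeal) b)) := by
  exact Groth.L15.Tame.symbol_eq_prod_norm hA hB hass a b ha hb

end Groth.Agent.S1849
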