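import Groth.Statements.S18490
import Mathlib.AlgebraicGeometry.Morphisms.Flat
import Mathlib.AlgebraicGeometry.Morphisms.Separated
import Mathlib.AlgebraicGeometry.Morphisms.FiniteType
import Mathlib.AlgebraicGeometry.Morphisms.QuasiCompact
import Mathlib.RingTheory.RingHom.Flat

set_option autoImplicit false
universe u
open CategoryTheory CategoryTheory.Limits AlgebraicGeometry
open FlatMor

namespace Groth.Agent.S18490
open CategoryTheory AlgebraicGeometry

private theorem flat_of_retraction {X P S : Scheme.{u}} (s : X ⟶ P) (π : P ⟶ X) (f : X ⟶ S)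
    (h : s ≫ π = 𝟙 X) [Flat (π ≫ f)] : Flat f := by
  refine Flat.of_stalkMap f fun x => ?_
  have hx : π (s x) = x := by rw [← Scheme.Hom.comp_apply, h]; rfl
  suffices (f.stalkMap (π (s x))).hom.Flat by rwa [hx] at this
  have hiso : IsIso ((s ≫ π).stalkMap x) := by
    generalize s ≫ π = k at h ⊢
    subst h
    infer_instance
  let p := π.stalkMap (s x)
  let q : P.presheaf.stalk (s x) ⟶ X.presheaf.stalk (π (s x)) :=
    s.stalkMap x ≫ @inv _ _ _ _ ((s ≫ π).stalkMap x) hiso
  have hq : p ≫ q = 𝟙 _ := by
    rw [← Category.assoc]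
    simp only [p]
    rw [← Scheme.Hom.stalkMap_comp]
    exact @IsIso.hom_inv_id _ _ _ _ _ hiso
  have hfl : (f.stalkMap (π (s x)) ≫ p).hom.Flat := by
    rw [← Scheme.Hom.stalkMap_comp]
    exact Flat.stalkMap _ _
  generalize f.stalkMap (π (s x)) = φ at hfl ⊢
  rw [CommRingCat.hom_comp] at hfl
  let R := S.presheaf.stalk (f (π (s x)))
  algebraize [φ.hom, p.hom.comp φ.hom]
  have hM : Module.Flat R (P.presheaf.stalk (s x)) := hfl
  have hqp : ∀ y, q.hom (p.hom y) = y := fun y => by
    rw [← CommRingCat.comp_apply, hq]; rfl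
  let i' : X.presheaf.stalk (π (s x)) →ₗ[R] P.presheaf.stalk (s x) :=
    { p.hom with map_smul' := fun a b => by simp [Algebra.smul_def, RingHom.algebraMap_toAlgebra] }
  let q' : P.presheaf.stalk (s x) →ₗ[R] X.presheaf.stalk (π (s x)) :=
    { q.hom with map_smul' := fun a b => by simp [Algebra.smul_def, RingHom.algebraMap_toAlgebra, hqp] }
  rw [RingHom.Flat]
  exact Module.Flat.of_retract i' q' (LinearMap.ext fun y => by
    change q.hom (p.hom y) = y
    rw [← CommRingCat.comp_apply, hq]; rfl)


/-- Let f : X → S and g : Y → S be morphisms of schemes and suppose that g has a section y : S → Y. If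
the structure morphism X ×_S Y → S (first projection followed by f) is quasi-compact, then so is f;
likewise for locally of finite type, for separated, and for flat. (Finite type, also listed in the
source, is the conjunction of the first two.) -/
theorem result {X Y S : Scheme.{u}} (f : X ⟶ S) (g : Y ⟶ S)
    (y : S ⟶ Y) (hy : y ≫ g = 𝟙 S) :
    (QuasiCompact (pullback.fst f g ≫ f) → QuasiCompact f) ∧
    (LocallyOfFiniteType (pullback.fst f g ≫ f) → LocallyOfFiniteType f) ∧
    (IsSeparated (pullback.fst f g ≫ f) → IsSeparated f) ∧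
    (Flat (pullback.fst f g ≫ f) → Flat f) := by
  let s : X ⟶ Limits.pullback f g := Limits.pullback.lift (𝟙 X) (f ≫ y) (by
    rw [Category.id_comp, Category.assoc, hy, Category.comp_id])
  have hs : s ≫ Limits.pullback.fst f g = 𝟙 X := Limits.pullback.lift_fst _ _ _
  refine ⟨fun hqc => ?_, fun h => ?_, fun h => ?_, fun h => flat_of_retraction s _ f hs⟩
  · refine ⟨fun V hV hc => ?_⟩
    have hc' := hqc.isCompact_preimage V hV hc
    have hsurj : Function.Surjective (Limits.pullback.fst f g) := fun x =>
      ⟨s x, by rw [← Scheme.Hom.comp_apply, hs]; rfl⟩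
    have := hc'.image (Limits.pullback.fst f g).continuous
    rwa [show ((Limits.pullback.fst f g ≫ f : _ ⟶ S) : _ → _) = f ∘ Limits.pullback.fst f g from
      funext fun z => Scheme.Hom.comp_apply _ _ z, Set.preimage_comp, Set.image_preimage_eq _ hsurj] at this
  · have h1 : LocallyOfFiniteType (Limits.pullback.snd f g) := by
      rw [Limits.pullback.condition] at h
      exact locallyOfFiniteType_of_comp _ g
    refine MorphismProperty.of_isPullback (P := @LocallyOfFiniteType) (f' := s) ?_ h1 (f := y)
    exact IsPullback.of_right (v₁₁ := f) (h₁₂ := Limits.pullback.fst f g) (h₂₂ := g)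
      (by rw [hs, hy]; exact IsPullback.of_horiz_isIso ⟨by simp⟩)
      (Limits.pullback.lift_snd _ _ _) (IsPullback.of_hasPullback f g).flip.flip
  · have h1 : IsSeparated (Limits.pullback.snd f g) := by
      rw [Limits.pullback.condition] at h
      exact IsSeparated.of_comp _ g
    refine MorphismProperty.of_isPullback (P := @IsSeparated) (f' := s) ?_ h1 (f := y)
    exact IsPullback.of_right (v₁₁ := f) (h₁₂ := Limits.pullback.fst f g) (h₂₂ := g)
      (by rw [hs, hy]; exact IsPullback.of_horiz_isIso ⟨by simp⟩)
      (Limits.pullback.lift_snd _ _ _) (IsPullback.of_hasPullback f g).flip.flip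

end Groth.Agent.S18490
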