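import Groth.Statements.S2993
import Groth.Agent.S5414
import Groth.Agent.L18.GrpHomFinite

set_option backward.isDefEq.respectTransparency.types false
set_option backward.isDefEq.respectTransparency false

set_option autoImplicit false
universe u
open Par

namespace Groth.Agent.S2993

open AlgebraicGeometry CategoryTheory CategoryTheory.Limits in
/-- In the case proved in the text (G smooth over S; the editors note that flatness suffices): let S be
a locally Noetherian scheme of dimension ≤ 1, G and H two S-group schemes of finite type and f : G →
H a homomorphism of S-groups which is quasi-finite and separated. If G is smooth over S then f is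
affine. -/
theorem result {S : Scheme.{u}} [IsLocallyNoetherian S] (hS : topologicalKrullDim S ≤ 1)
    (G H : Over S) [GrpObj G] [GrpObj H] [LocallyOfFiniteType G.hom] [QuasiCompact G.hom] [LocallyOfFiniteType H.hom] [QuasiCompact H.hom]
    [Smooth G.hom] (f : G ⟶ H) [IsMonHom f] [LocallyQuasiFinite f.left] [QuasiCompact f.left] [IsSeparated f.left] :
    IsAffineHom f.left := by
  refine Groth.Agent.S5414.result S hS G H f fun s => ?_
  let φ := (Over.pullback (S.fromSpecResidueField s)).map f
  haveI : IsMonHom φ := Functor.map.instIsMonHom (F := Over.pullback (S.fromSpecResidueField s)) (f := f)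
  haveI : LocallyQuasiFinite φ.left := by
    refine MorphismProperty.of_isPullback (P := @LocallyQuasiFinite) (?_ : IsPullback (pullback.fst G.hom (S.fromSpecResidueField s))
      φ.left f.left (pullback.fst H.hom (S.fromSpecResidueField s))) ‹_›
    refine IsPullback.of_bot (v₂₁ := pullback.snd H.hom (S.fromSpecResidueField s)) (v₂₂ := H.hom)
      (h₃₁ := S.fromSpecResidueField s) ?_ ?_ (IsPullback.of_hasPullback _ _)
    · rw [Over.w f]
      erw [Over.w φ]
      exact IsPullback.of_hasPullback G.hom (S.fromSpecResidueField s)
    · exact (pullback.lift_fst _ _ _).symm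
  haveI : LocallyOfFiniteType ((Over.pullback (S.fromSpecResidueField s)).obj G).hom :=
    MorphismProperty.pullback_snd G.hom (S.fromSpecResidueField s) ‹_›
  haveI : LocallyOfFiniteType ((Over.pullback (S.fromSpecResidueField s)).obj H).hom :=
    MorphismProperty.pullback_snd H.hom (S.fromSpecResidueField s) ‹_›
  haveI : QuasiCompact ((Over.pullback (S.fromSpecResidueField s)).obj G).hom :=
    MorphismProperty.pullback_snd G.hom (S.fromSpecResidueField s) ‹_›
  exact Groth.L18.GrpHomFinite.isFinite_of_locallyQuasiFinite φ

end Groth.Agent.S2993
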