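import Groth.Statements.S18493
import Groth.Agent.L18.NeronFlat
import Groth.Agent.S2993

set_option autoImplicit false
universe u
open CategoryTheory CategoryTheory.Limits MonoidalCategory CartesianMonoidalCategory AlgebraicGeometry MonObj
open Neron

namespace Groth.Agent.S18493

/-- Let R be a Dedekind domain with fraction field K, let A and B be group schemes over Spec R which are
Néron models of their generic fibres, both abelian varieties over K (proper and geometrically
integral), let φ : A → B be a homomorphism whose generic fibre is an isogeny (surjective with finite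
kernel), and let i : N → A be a kernel of φ (cartesian square against the unit section of B). If φ
is flat, then N → Spec R is locally quasi-finite, of finite type, flat and affine; if moreover A is
proper over Spec R then N → Spec R is finite. -/
theorem result (R : Type u) [CommRing R]
    [IsDedekindDomain R] (A B : Over (Spec (CommRingCat.of R))) [GrpObj A] [GrpObj B]
    (hA : Neron.IsNeronModelOf R A ((Neron.genericFibre R).obj A) (Iso.refl _))
    (hB : Neron.IsNeronModelOf R B ((Neron.genericFibre R).obj B) (Iso.refl _))
    [IsProper ((Neron.genericFibre R).obj A).hom] [GeometricallyIntegral ((Neron.genericFibre R).obj A).hom]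
    [IsProper ((Neron.genericFibre R).obj B).hom] [GeometricallyIntegral ((Neron.genericFibre R).obj B).hom]
    (φ : A ⟶ B) [IsMonHom φ] (hφ : SGA7.IsIsogenyOver ((Neron.genericFibre R).map φ)) [Flat φ.left]
    (N : Over (Spec (CommRingCat.of R))) (i : N ⟶ A) (hN : AlgGrp.IsKernel i φ) :
    (LocallyQuasiFinite N.hom ∧ QuasiCompact N.hom ∧ Flat N.hom ∧ IsAffineHom N.hom) ∧
    (IsProper A.hom → IsFinite N.hom) := by
  haveI : Smooth A.hom := hA.1
  haveI : Smooth B.hom := hB.1
  haveI : IsSeparated A.hom := hA.2.1
  haveI : IsSeparated B.hom := hB.2.1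
  haveI : QuasiCompact A.hom := hA.2.2.2.1
  haveI : QuasiCompact B.hom := hB.2.2.2.1
  have hqf : LocallyQuasiFinite φ.left :=
    (Groth.L18.NeronFlat.locallyQuasiFinite_iff_flat φ (Groth.L18.NeronFlat.fiber_dim_eq_of_isogeny φ hφ)).2 ‹_›
  haveI : QuasiCompact (φ.left ≫ B.hom) := (Over.w φ).symm ▸ ‹QuasiCompact A.hom›
  haveI : QuasiCompact φ.left := QuasiCompact.of_comp φ.left B.hom
  haveI : IsSeparated (φ.left ≫ B.hom) := (Over.w φ).symm ▸ ‹IsSeparated A.hom›
  haveI : IsSeparated φ.left := IsSeparated.of_comp φ.left B.hom
  have hdim : topologicalKrullDim ↥(Spec (CommRingCat.of R)) ≤ 1 := by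
    show topologicalKrullDim (PrimeSpectrum R) ≤ 1
    rw [PrimeSpectrum.topologicalKrullDim_eq_ringKrullDim]
    exact Ring.krullDimLE_iff.1 inferInstance
  haveI : IsAffineHom φ.left := Groth.Agent.S2993.result hdim A B φ
  have sq := hN.map (Over.forget _)
  have he : (toUnit N).left = N.hom := (Category.comp_id _).symm.trans (Over.w (toUnit N))
  haveI hq : LocallyQuasiFinite N.hom := he ▸ MorphismProperty.of_isPullback (P := @LocallyQuasiFinite) sq hqf
  refine ⟨⟨hq, he ▸ MorphismProperty.of_isPullback (P := @QuasiCompact) sq ‹QuasiCompact φ.left›,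
    he ▸ MorphismProperty.of_isPullback (P := @Flat) sq ‹Flat φ.left›,
    he ▸ MorphismProperty.of_isPullback (P := @IsAffineHom) sq ‹IsAffineHom φ.left›⟩, fun hp => ?_⟩
  haveI : IsProper (φ.left ≫ B.hom) := (Over.w φ).symm ▸ hp
  haveI : IsProper φ.left := IsProper.of_comp φ.left B.hom
  haveI : IsProper N.hom := he ▸ MorphismProperty.of_isPullback (P := @IsProper) sq ‹IsProper φ.left›
  exact IsFinite.of_isProper_of_locallyQuasiFinite N.hom

end Groth.Agent.S18493
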