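import Groth.Statements.S18494
import Groth.Agent.L18.NeronFlat
import Groth.Agent.L00.IsogenyDual
import Groth.Agent.L26.Neron.Torsion
import Groth.Agent.S18484

set_option autoImplicit false
universe u
open CategoryTheory CategoryTheory.Limits MonoidalCategory CartesianMonoidalCategory AlgebraicGeometry MonObj
open Neron

namespace Groth.Agent.S18494

set_option backward.isDefEq.respectTransparency.types false
set_option backward.isDefEq.respectTransparency false
set_option linter.style.haveILetI false

/-- Maps into a Néron model are determined on the generic fibre. -/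
theorem map_injective {R : Type u} [CommRing R] [IsDomain R] (A : Over (Spec (CommRingCat.of R)))
    (hA : Neron.IsNeronModelOf R A ((Neron.genericFibre R).obj A) (Iso.refl _))
    (Y : Over (Spec (CommRingCat.of R))) (hY : Smooth Y.hom) {f g : Y ⟶ A}
    (h : (Neron.genericFibre R).map f = (Neron.genericFibre R).map g) : f = g :=
  (hA.2.2.2.2 Y hY).1 (by simp only [h])

/-- A unit of the base is nonzero in every residue field. -/
theorem isUnit_natCast_residueField {R : Type u} [CommRing R] (s : ↥(Spec (CommRingCat.of R))) {d : ℕ}
    (hd : IsUnit (d : R)) : IsUnit (d : (Spec (CommRingCat.of R)).residueField s) := by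
  have h := hd.map (((Spec (CommRingCat.of R)).evaluation ⊤ s trivial).hom.comp
    (Scheme.ΓSpecIso (CommRingCat.of R)).inv.hom)
  rwa [map_natCast] at h

/-- Let R be a Dedekind domain with fraction field K, let A and B be group schemes over Spec R which are
Néron models of their generic fibres, both abelian varieties over K (proper and geometrically
integral), let φ : A → B be a homomorphism whose generic fibre φ_K is an isogeny (surjective with
finite kernel), and let i : N → A be a kernel of φ. If the degree of φ_K, that is the order of the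
finite K-group scheme N_K (its rank over Spec K), is a unit in R, then N is a Néron model of its
generic fibre N_K (smooth, separated, of finite type, with the Néron mapping property for smooth
Spec R-schemes) and N → Spec R is étale. -/
theorem result (R : Type u) [CommRing R]
    [IsDedekindDomain R] (A B : Over (Spec (CommRingCat.of R))) [GrpObj A] [GrpObj B]
    (hA : Neron.IsNeronModelOf R A ((Neron.genericFibre R).obj A) (Iso.refl _))
    (hB : Neron.IsNeronModelOf R B ((Neron.genericFibre R).obj B) (Iso.refl _))
    [IsProper ((Neron.genericFibre R).obj A).hom] [GeometricallyIntegral ((Neron.genericFibre R).obj A).hom]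
    [IsProper ((Neron.genericFibre R).obj B).hom] [GeometricallyIntegral ((Neron.genericFibre R).obj B).hom]
    (φ : A ⟶ B) [IsMonHom φ] (hφ : SGA7.IsIsogenyOver ((Neron.genericFibre R).map φ))
    (N : Over (Spec (CommRingCat.of R))) (i : N ⟶ A) (hN : AlgGrp.IsKernel i φ)
    (hdeg : ∀ x : ↥(Spec (CommRingCat.of (FractionRing R))),
      IsUnit ((((Neron.genericFibre R).obj N).hom.finrank x : ℕ) : R)) :
    Neron.IsNeronModelOf R N ((Neron.genericFibre R).obj N) (Iso.refl _) ∧ Etale N.hom := by
  haveI : Smooth A.hom := hA.1
  haveI : Smooth B.hom := hB.1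
  haveI : IsSeparated A.hom := hA.2.1
  haveI : IsSeparated B.hom := hB.2.1
  haveI : QuasiCompact A.hom := hA.2.2.2.1
  haveI : QuasiCompact B.hom := hB.2.2.2.1
  let c := Neron.genPt R
  let AK := (Neron.genericFibre R).obj A
  let BK := (Neron.genericFibre R).obj B
  let φK : AK ⟶ BK := (Neron.genericFibre R).map φ
  haveI : IsMonHom φK := Functor.map.instIsMonHom (F := Over.pullback c) (f := φ)
  haveI : IsCommMonObj AK := isCommMonObj_of_isProper_of_geometricallyIntegral AK
  haveI : IsCommMonObj A := ⟨by
    haveI : Smooth (A ⊗ A).hom := inferInstanceAs (Smooth (pullback.fst A.hom A.hom ≫ A.hom))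
    refine Groth.Agent.S18494.map_injective A hA (A ⊗ A) inferInstance ?_
    rw [Functor.map_comp]
    refine (cancel_epi (Functor.LaxMonoidal.μ (Neron.genericFibre R) A A)).1 ?_
    rw [← Category.assoc, Functor.LaxBraided.braided, Category.assoc]
    show (β_ AK AK).hom ≫ μ[AK] = μ[AK]
    exact IsCommMonObj.mul_comm AK⟩
  haveI : AlgebraicGeometry.IsIntegral BK.left := GeometricallyIntegral.isIntegral_of_subsingleton BK.hom
  haveI hkerfin : ∀ (E : Over (Spec (CommRingCat.of (FractionRing R)))) (k : E ⟶ AK),
      AlgGrp.IsKernel k φK → IsFinite E.hom := hφ.2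
  haveI : Surjective φK.left := hφ.1
  haveI : IsFinite φK.left := by
    obtain ⟨E, gE, k, _, _, -, sq⟩ := Groth.L08.AbelianGrp.exists_kernel φK
    haveI : IsFinite E.hom := hkerfin E k sq
    exact Groth.L18.GrpHomFinite.isFinite_of_kernel_finite φK k sq
  haveI : Flat φK.left := Groth.L08.FlatHom.flat_of_surjective AK BK φK
  haveI : LocallyOfFinitePresentation φK.left := Groth.L00.IsogDual.lfp_left φK
  -- the degree
  let NK := (Neron.genericFibre R).obj N
  have hPl : IsPullback ((Neron.genericFibre R).map i).left ((Neron.genericFibre R).map (toUnit N)).left φK.left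
      ((Neron.genericFibre R).map η[B]).left :=
    (hN.map (Neron.genericFibre R)).map (Over.forget _)
  haveI hεi : IsIso (Functor.LaxMonoidal.ε (Neron.genericFibre R)) := inferInstance
  have hη : η[BK].left = (Functor.LaxMonoidal.ε (Neron.genericFibre R)).left ≫
      ((Neron.genericFibre R).map η[B]).left := rfl
  haveI : IsIso (Functor.LaxMonoidal.ε (Neron.genericFibre R)).left :=
    inferInstanceAs (IsIso ((Over.forget _).map (Functor.LaxMonoidal.ε (Neron.genericFibre R))))
  have hεinv : inv (Functor.LaxMonoidal.ε (Neron.genericFibre R)).left =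
      ((Neron.genericFibre R).obj (𝟙_ _)).hom := by
    apply IsIso.inv_eq_of_hom_inv_id
    exact Over.w (Functor.LaxMonoidal.ε (Neron.genericFibre R))
  have hP : IsPullback ((Neron.genericFibre R).map i).left NK.hom φK.left η[BK].left :=
    IsPullback.of_iso hPl (Iso.refl _) (Iso.refl _) (asIso (Functor.LaxMonoidal.ε (Neron.genericFibre R)).left).symm
      (Iso.refl _) (by simp) (by
        rw [Iso.symm_hom, asIso_inv, hεinv, Iso.refl_hom, Category.id_comp]
        exact Over.w ((Neron.genericFibre R).map (toUnit N))) (by simp) (by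
        rw [Iso.symm_hom, asIso_inv, hη, IsIso.inv_hom_id_assoc, Iso.refl_hom, Category.comp_id])
  obtain ⟨pt⟩ : Nonempty ↥(Spec (CommRingCat.of (FractionRing R))) := ⟨IsLocalRing.closedPoint (FractionRing R)⟩
  haveI : Subsingleton ↥(Spec (CommRingCat.of (FractionRing R))) :=
    inferInstanceAs (Subsingleton (PrimeSpectrum (FractionRing R)))
  let d := φK.left.finrank (η[BK].left pt)
  have hd : IsUnit (d : R) := by
    have := hdeg pt
    rwa [show NK.hom.finrank pt = d from Scheme.Hom.finrank_of_isPullback _ _ _ _ hP pt] at this
  have hd1 : 1 ≤ d := Nat.one_le_iff_ne_zero.2 fun h0 => by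
    rw [h0, Nat.cast_zero] at hd
    exact not_isUnit_zero hd
  obtain ⟨⟨g, ⟨_, hg⟩, -⟩, -⟩ := Groth.L00.IsogDual.exists_factor φK d hd1
    (fun s => by rw [Subsingleton.elim s pt])
  obtain ⟨ψ, hψ⟩ := (hA.2.2.2.2 B hB.1).2 g
  have hψ' : (Neron.genericFibre R).map ψ = g := (Category.comp_id _).symm.trans hψ
  have hfac : φ ≫ ψ = 𝟙 A ^ d := by
    refine Groth.Agent.S18494.map_injective A hA A hA.1 ?_
    rw [Functor.map_comp, hψ']
    have h := Groth.L08.MulEtale.map_pow_eq c A (d : ℤ)
    rw [zpow_natCast, zpow_natCast] at h
    exact hg.trans h.symm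
  haveI : Etale (φ.left ≫ ψ.left) := by
    rw [← Over.comp_left, hfac]
    refine Groth.Agent.Neron.Torsion.etale_npow A d fun s => ?_
    exact (isUnit_natCast_residueField s hd).ne_zero
  haveI : FormallyUnramified φ.left := FormallyUnramified.of_comp φ.left ψ.left
  haveI : LocallyQuasiFinite φ.left := LocallyQuasiFinite.of_comp φ.left ψ.left
  haveI : Flat φ.left :=
    (Groth.L18.NeronFlat.locallyQuasiFinite_iff_flat φ (Groth.L18.NeronFlat.fiber_dim_eq_of_isogeny φ hφ)).1 inferInstance
  haveI : LocallyOfFinitePresentation φ.left := Groth.L00.IsogDual.lfp_left φ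
  haveI : Etale φ.left := Etale.of_formallyUnramified_of_flat φ.left
  have sq := hN.map (Over.forget _)
  have he : (toUnit N).left = N.hom := (Category.comp_id _).symm.trans (Over.w (toUnit N))
  have het : Etale N.hom := he ▸ MorphismProperty.of_isPullback (P := @Etale) sq ‹Etale φ.left›
  haveI : IsClosedImmersion i.left := by
    refine MorphismProperty.of_isPullback (P := @IsClosedImmersion) sq.flip ?_
    haveI : IsClosedImmersion (η[B].left ≫ B.hom) := by
      rw [Over.w η[B]]
      exact (inferInstance : IsClosedImmersion (𝟙 (Spec (CommRingCat.of R))))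
    exact IsClosedImmersion.of_comp η[B].left B.hom
  haveI : Smooth N.hom := inferInstance
  exact ⟨Groth.Agent.S18484.result R A N hA i, het⟩

end Groth.Agent.S18494
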