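import Groth.Statements.S18497
import Groth.Agent.L05.NeronFinite.Dedekind
import Mathlib.RingTheory.Unramified.Field

set_option autoImplicit false
universe u
open CategoryTheory CategoryTheory.Limits AlgebraicGeometry MonObj
open Neron

namespace Groth.Agent.S18497

/-- Let R be a Dedekind domain with fraction field K and G a finite étale group scheme over K. Then G
has a Néron model over Spec R which is separated, quasi-finite and étale: there are a Spec R-scheme
N and an isomorphism e of its generic fibre N_K with G such that N is smooth, separated and of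
finite type over Spec R with the Néron mapping property (for every smooth Spec R-scheme Y, g ↦ e ∘
g_K is a bijection from R-morphisms Y → N onto K-morphisms Y_K → G), and N → Spec R is étale and
locally quasi-finite. -/
theorem result (R : Type u) [CommRing R] [IsDedekindDomain R]
    (G : Over (Spec (CommRingCat.of (FractionRing R)))) [GrpObj G] [IsFinite G.hom] [Etale G.hom] :
    ∃ (N : Over (Spec (CommRingCat.of R))) (e : (Neron.genericFibre R).obj N ≅ G),
      Neron.IsNeronModelOf R N G e ∧ Etale N.hom ∧ LocallyQuasiFinite N.hom := by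
  haveI : IsAffine G.left := isAffine_of_isAffineHom G.hom
  let E := Γ(G.left, ⊤)
  obtain ⟨φ, hφ⟩ := Spec.map_surjective (G.left.isoSpec.inv ≫ G.hom)
  letI : Algebra (FractionRing R) E := φ.hom.toAlgebra
  letI : Algebra R E := (φ.hom.comp (algebraMap R (FractionRing R))).toAlgebra
  haveI : IsScalarTower R (FractionRing R) E := IsScalarTower.of_algebraMap_eq fun _ => rfl
  haveI hfin : IsFinite (Spec.map φ) := by rw [hφ]; infer_instance
  haveI het : Etale (Spec.map φ) := by rw [hφ]; infer_instance
  haveI : Module.Finite (FractionRing R) E := RingHom.finite_algebraMap.1 ((IsFinite.SpecMap_iff φ).1 hfin)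
  haveI : Algebra.Etale (FractionRing R) E := RingHom.etale_algebraMap.1 ((HasRingHomProperty.Spec_iff (P := @Etale)).1 het)
  haveI : _root_.IsReduced E := Algebra.FormallyUnramified.isReduced_of_field (FractionRing R) E
  obtain ⟨N, e, hN, h1, h2⟩ := Groth.L05.NeronFinite.exists_neronModel_spec R E
  let iG : Over.mk (Spec.map (CommRingCat.ofHom (algebraMap (FractionRing R) E))) ≅ G :=
    Over.isoMk G.left.isoSpec.symm hφ.symm
  refine ⟨N, e ≪≫ iG, ⟨hN.1, hN.2.1, hN.2.2.1, hN.2.2.2.1, fun Y hY => ?_⟩, h1, h2⟩
  have h := hN.2.2.2.2 Y hY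
  exact ⟨fun a b hab => h.1 ((cancel_mono iG.hom).1 (by simpa using hab)), fun θ => by
    obtain ⟨g, hg⟩ := h.2 (θ ≫ iG.inv)
    exact ⟨g, by simpa using congrArg (· ≫ iG.hom) hg⟩⟩

end Groth.Agent.S18497
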