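import Groth.Statements.S18500
import Groth.Agent.L23.FlatClosure
-- import your own Groth.Agent.* helpers here

set_option autoImplicit false
universe u
open CategoryTheory CategoryTheory.Limits AlgebraicGeometry
open AlgSp

set_option backward.isDefEq.respectTransparency.types false
set_option linter.style.haveILetI false

namespace Groth.Agent.S18500

open Groth.L23 Groth.L23.FlatClosure Groth.L23.Img

/-- Let R be a Dedekind domain with fraction field K, S = Spec R, and Y an algebraic space over S (an
fppf sheaf on S-schemes with representable diagonal and an étale atlas), with structure map p : Y →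
h_S; let Y_K → Y be its generic fibre, the pullback of p along h_{Spec K} → h_S; let k : H → Y_K be
a closed subspace (a representable closed immersion from an algebraic space) and i : Z → Y the
scheme theoretic image of the composite H → Y_K → Y. Then Z is flat over S (étale-locally on
charts), the square H → Z, H → Y_K, Z → Y, Y_K → Y is cartesian for the induced H → Z (the generic
fibre of Z is H), and Z is the unique such subspace: every closed subspace i' : Z' → Y which is flat
over S and whose pullback along Y_K → Y is H (through some H → Z') is isomorphic to Z over Y. (The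
source allows any connected Dedekind scheme as base; the affine base is stated.) -/
theorem result (R : Type u) [CommRing R] [IsDedekindDomain R]
    (Y YK H Z : AlgSp.Space (Spec (CommRingCat.of R)))
    (pY : Y.obj ⟶ (AlgSp.yon (Spec (CommRingCat.of R))).obj (Over.mk (𝟙 (Spec (CommRingCat.of R)))))
    (pr : YK ⟶ Y) (qK : YK.obj ⟶ (AlgSp.yon (Spec (CommRingCat.of R))).obj (Over.mk (Neron.genPt R)))
    (hYK : IsPullback pr.hom qK pY ((AlgSp.yon (Spec (CommRingCat.of R))).map (Over.mkIdTerminal.from (Over.mk (Neron.genPt R)))))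
    (k : H ⟶ YK) (hk : AlgSp.RepWith @IsClosedImmersion k.hom)
    (i : Z ⟶ Y) (hZ : AlgSp.IsSchImage (k.hom ≫ pr.hom) i.hom) :
    AlgSp.LocP @Flat (i.hom ≫ pY) ∧
    (∃ m : H ⟶ Z, m ≫ i = k ≫ pr ∧ IsPullback m.hom k.hom i.hom pr.hom) ∧
    (∀ (Z' : AlgSp.Space (Spec (CommRingCat.of R))) (i' : Z' ⟶ Y) (m' : H ⟶ Z'),
      AlgSp.RepWith @IsClosedImmersion i'.hom → AlgSp.LocP @Flat (i'.hom ≫ pY) →
      IsPullback m'.hom k.hom i'.hom pr.hom → ∃ e : Z ≅ Z', e.hom ≫ i' = i) := by
  let T : Over (Spec (CommRingCat.of R)) := Over.mk (𝟙 _)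
  let K : Over (Spec (CommRingCat.of R)) := Over.mk (Neron.genPt R)
  let t : K ⟶ T := Over.mkIdTerminal.from K
  have htl : t.left = Neron.genPt R := (Category.comp_id _).symm.trans (Over.w t)
  haveI : IsDominant (Neron.genPt R) := ⟨(PrimeSpectrum.denseRange_comap_iff_ker_le_nilRadical _).2 (by
    rw [CommRingCat.hom_ofHom, (RingHom.injective_iff_ker_eq_bot _).1 (IsFractionRing.injective R (FractionRing R))]
    exact bot_le)⟩
  haveI : IsSchemeTheoreticallyDominant (Neron.genPt R) := IsSchemeTheoreticallyDominant.of_isDominant _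
  haveI : IsSchemeTheoreticallyDominant t.left := htl ▸ inferInstance
  haveI : IsAffineHom (Neron.genPt R) := isAffineHom_of_isAffine _
  haveI : IsAffineHom t.left := htl ▸ inferInstance
  haveI : Flat (Neron.genPt R) := by
    rw [HasRingHomProperty.Spec_iff (P := @Flat)]
    exact (RingHom.flat_algebraMap_iff).2 (IsLocalization.flat (FractionRing R) (nonZeroDivisors R))
  haveI : Mono (CommRingCat.ofHom (algebraMap R (FractionRing R))).op := by
    haveI : Epi (CommRingCat.ofHom (algebraMap R (FractionRing R))) :=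
      CommRingCat.epi_iff_epi.2 inferInstance
    infer_instance
  haveI : Mono (Neron.genPt R) := Scheme.Spec.map_mono (CommRingCat.ofHom (algebraMap R (FractionRing R))).op
  haveI : Mono t.left := htl ▸ inferInstance
  haveI : Mono t := (Over.forget _).mono_of_mono_map (show Mono ((Over.forget _).map t) from ‹Mono t.left›)
  haveI : Mono ((AlgSp.yon _).map t) := inferInstance
  haveI hmono : Mono pr.hom := MorphismProperty.of_isPullback (P := MorphismProperty.monomorphisms _)
    hYK.flip (show Mono ((AlgSp.yon _).map t) from inferInstance)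
  have haff : AlgSp.RepWith @IsAffineHom pr.hom :=
    repWith_of_isPullback hYK.flip (repWith_map (g := t) ‹IsAffineHom t.left›)
  have hflat : AlgSp.LocP @Flat pr.hom := locP_of_repWith etLocal_flat
    (repWith_of_isPullback hYK.flip (repWith_map (g := t) (htl ▸ inferInstance : Flat t.left)))
  have hkp : AlgSp.RepWith @QuasiCompact (k.hom ≫ pr.hom) :=
    repWith_comp (repWith_mono (fun φ (h : IsClosedImmersion φ) => by haveI := h; infer_instance) hk)
      (repWith_mono (fun φ (h : IsAffineHom φ) => by haveI := h; infer_instance) haff)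
  have := mono_of_closedImmersion hZ.1
  obtain ⟨m₀, hm₀⟩ := hZ.2.1
  obtain ⟨m, rfl⟩ : ∃ m : H ⟶ Z, m.hom = m₀ := ⟨ObjectProperty.homMk m₀, rfl⟩
  have hcart : IsPullback m.hom k.hom i.hom pr.hom := by
    have sqV : IsPullback (𝟙 H.obj) k.hom (k.hom ≫ pr.hom) pr.hom := by
      have := (IsPullback.of_horiz_isIso ⟨by simp⟩ : IsPullback (𝟙 H.obj) k.hom k.hom (𝟙 YK.obj)).paste_vert
        (IsKernelPair.id_of_mono pr.hom)
      simpa using this
    have sqZ := IsPullback.of_hasPullback i.hom pr.hom
    have hs := isSchImage_flat_base_change Y.property YK.property H.property hflat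
      (isQuasiCompactMor_of_repWith hkp) hZ sqV sqZ
    obtain ⟨b, hb⟩ := hs.2.2 k.hom H.property hk ⟨𝟙 _, Category.id_comp _⟩
    obtain ⟨a, ha₁, ha₂⟩ := sqZ.exists_lift m.hom k.hom hm₀
    have := mono_of_closedImmersion hk
    have := mono_of_closedImmersion hs.1
    refine sqZ.of_iso ⟨b, a, (cancel_mono (pullback.snd i.hom pr.hom)).1 ?_, (cancel_mono k.hom).1 ?_⟩
      (Iso.refl _) (Iso.refl _) (Iso.refl _) ?_ (by simpa using hb.symm) (by simp) (by simp)
    · rw [Category.assoc, ha₂, hb, Category.id_comp]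
    · rw [Category.assoc, hb, ha₂, Category.id_comp]
    · rw [← cancel_mono i.hom]
      simp only [Iso.refl_hom, Category.comp_id, Category.assoc, hm₀, reassoc_of% hb, pullback.condition]
  have hmd : AlgSp.IsSchImage m.hom (𝟙 Z.obj) := isSchImage_toImage hZ hm₀
  have hmrep : AlgSp.RepWith @IsAffineHom m.hom :=
    repWith_of_isPullback hcart.flip haff
  refine ⟨?_, ⟨m, ObjectProperty.hom_ext _ hm₀, hcart⟩, fun Z' i' m' hi' hfl hsq => ?_⟩
  · obtain ⟨U, a, ha, has⟩ := Z.property.atlas
    let q : U ⟶ T := Over.mkIdTerminal.from U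
    obtain ⟨c, hc⟩ := (AlgSp.yon _).map_surjective (a ≫ i.hom ≫ pY)
    obtain ⟨W, w, g₁, sqW⟩ : ∃ (W : Over (Spec (CommRingCat.of R))) (w : W ⟶ U) (g₁ : (AlgSp.yon _).obj W ⟶ H.obj),
        IsPullback g₁ ((AlgSp.yon _).map w) m.hom a := ⟨_, _, _, hmrep.1.isPullback a⟩
    haveI : IsAffineHom w.left := hmrep.2 _ _ _ sqW
    haveI : IsSchemeTheoreticallyDominant w.left := dominant_of_isSchImage_id w
      (isSchImage_flat_base_change Z.property (IsAlgSpace.yon_obj U) H.property
        (locP_of_repWith etLocal_flat (repWith_mono (fun φ (h : Etale φ) => by haveI := h; infer_instance) ha))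
        (isQuasiCompactMor_of_repWith (repWith_mono (fun φ (h : IsAffineHom φ) => by haveI := h; infer_instance) hmrep))
        hmd sqW (IsPullback.of_vert_isIso ⟨by simp⟩ : IsPullback a (𝟙 _) (𝟙 _) a))
    obtain ⟨v, hv⟩ := (AlgSp.yon _).map_surjective (g₁ ≫ k.hom ≫ qK)
    haveI : Flat (w.left ≫ U.hom) := by
      rw [Over.w w, ← Over.w v]
      haveI : IsField (FractionRing R) := Field.toIsField _
      let v' : W.left ⟶ Spec (CommRingCat.of (FractionRing R)) := v.left
      haveI : Flat v' := inferInstance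
      exact inferInstanceAs (Flat (v' ≫ Neron.genPt R))
    haveI := Groth.L02.STD.flat_of_dominant R w.left U.hom
    refine locP_of_chart etLocal_flat ha has (repWith_of_isIso (𝟙 _)) (h := q) ?_ ?_
    · rw [Category.comp_id, ← hc, Over.mkIdTerminal.hom_ext c q]
    · rw [show q.left = U.hom from (Category.comp_id _).symm.trans (Over.w q)]
      infer_instance
  · obtain ⟨k₀, hk₀⟩ := hZ.2.2 i'.hom Z'.property hi' ⟨m'.hom, hsq.w⟩
    have hq : AlgSp.IsQuasiCompactMor ((AlgSp.yon _).map t) := isQuasiCompactMor_of_repWith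
      (repWith_map (g := t) (show QuasiCompact t.left from inferInstance))
    have hd := isSchImage_flat_base_change (IsAlgSpace.yon_obj T) Z'.property (IsAlgSpace.yon_obj K) hfl hq
      (isSchImage_id_of_dominant t) (hsq.paste_vert hYK).flip
      (IsPullback.of_vert_isIso ⟨by simp⟩ : IsPullback (i'.hom ≫ pY) (𝟙 _) (𝟙 _) (i'.hom ≫ pY))
    have sqP := IsPullback.of_hasPullback i.hom i'.hom
    obtain ⟨l, -, hl⟩ := sqP.exists_lift m.hom m'.hom (hm₀.trans hsq.w.symm)
    obtain ⟨κ, hκ⟩ := hd.2.2 (pullback.snd i.hom i'.hom)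
      (isAlgSpace_of_representable_to Z'.property (repWith_of_isPullback sqP hZ.1).1)
      (repWith_of_isPullback sqP hZ.1) ⟨l, hl⟩
    have := mono_of_closedImmersion hi'
    have hb : (κ ≫ pullback.fst i.hom i'.hom) ≫ i.hom = i'.hom := by
      rw [Category.assoc, pullback.condition, reassoc_of% hκ]
    refine ⟨⟨ObjectProperty.homMk k₀, ObjectProperty.homMk (κ ≫ pullback.fst i.hom i'.hom),
      ObjectProperty.hom_ext _ ((cancel_mono i.hom).1 ?_), ObjectProperty.hom_ext _ ((cancel_mono i'.hom).1 ?_)⟩,
      ObjectProperty.hom_ext _ hk₀⟩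
    · show (k₀ ≫ κ ≫ pullback.fst i.hom i'.hom) ≫ i.hom = 𝟙 _ ≫ i.hom
      rw [Category.assoc, hb, hk₀, Category.id_comp]
    · show ((κ ≫ pullback.fst i.hom i'.hom) ≫ k₀) ≫ i'.hom = 𝟙 _ ≫ i'.hom
      rw [Category.assoc, hk₀, hb, Category.id_comp]

end Groth.Agent.S18500
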