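import Groth.Statements.S18501
import Groth.Agent.L18.NeronFlat

set_option backward.isDefEq.respectTransparency.types false
set_option backward.isDefEq.respectTransparency false

set_option autoImplicit false
universe u
open CategoryTheory CategoryTheory.Limits AlgebraicGeometry MonObj
open Neron

namespace Groth.Agent.S18501

/-- Let R be a discrete valuation ring with fraction field K and residue field k, let A and B be group
schemes over Spec R which are Néron models of their generic fibres, both abelian varieties over K
(proper and geometrically integral), and let φ : A → B be a homomorphism whose generic fibre is an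
isogeny (surjective with finite kernel). Then φ is flat if and only if the special fibre φ_k : A_k →
B_k maps the connected component of the identity point of A_k onto the connected component of the
identity point of B_k, i.e. the image of the former subset is the latter (φ induces a surjection of
identity components; on the generic fibre this is automatic). (The published lemma is over a
connected Dedekind scheme, with this condition at every point, and includes a further equivalent
condition, quasi-finiteness of φ; the case of a discrete valuation ring is stated here, where only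
the closed point matters.) -/
theorem result (R : Type u) [CommRing R]
    [IsDomain R] [IsDiscreteValuationRing R] (A B : Over (Spec (CommRingCat.of R))) [GrpObj A] [GrpObj B]
    (hA : Neron.IsNeronModelOf R A ((Neron.genericFibre R).obj A) (Iso.refl _))
    (hB : Neron.IsNeronModelOf R B ((Neron.genericFibre R).obj B) (Iso.refl _))
    [IsProper ((Neron.genericFibre R).obj A).hom] [GeometricallyIntegral ((Neron.genericFibre R).obj A).hom]
    [IsProper ((Neron.genericFibre R).obj B).hom] [GeometricallyIntegral ((Neron.genericFibre R).obj B).hom]
    (φ : A ⟶ B) [IsMonHom φ] (hφ : SGA7.IsIsogenyOver ((Neron.genericFibre R).map φ)) :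
    Flat φ.left ↔
      ((Over.pullback (Spec.map (CommRingCat.ofHom (IsLocalRing.residue R)))).map φ).left.base ''
          connectedComponent ((η[Red.bc (Spec.map (CommRingCat.ofHom (IsLocalRing.residue R))) A]).left.base (IsLocalRing.closedPoint (IsLocalRing.ResidueField R))) =
        connectedComponent ((η[Red.bc (Spec.map (CommRingCat.ofHom (IsLocalRing.residue R))) B]).left.base (IsLocalRing.closedPoint (IsLocalRing.ResidueField R))) := by
  haveI : Smooth A.hom := hA.1
  haveI : Smooth B.hom := hB.1
  haveI : IsSeparated A.hom := hA.2.1
  haveI : IsSeparated B.hom := hB.2.1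
  haveI : QuasiCompact A.hom := hA.2.2.2.1
  haveI : QuasiCompact B.hom := hB.2.2.2.1
  have hdim := Groth.L18.NeronFlat.fiber_dim_eq_of_isogeny φ hφ
  let c₀ : Spec (CommRingCat.of (IsLocalRing.ResidueField R)) ⟶ Spec (CommRingCat.of R) :=
    Spec.map (CommRingCat.ofHom (IsLocalRing.residue R))
  haveI : IsClosedImmersion c₀ := IsClosedImmersion.spec_of_surjective _ IsLocalRing.residue_surjective
  haveI : Subsingleton ↥(Spec (CommRingCat.of (IsLocalRing.ResidueField R))) :=
    inferInstanceAs (Subsingleton (PrimeSpectrum (IsLocalRing.ResidueField R)))
  have hpt : c₀ (IsLocalRing.closedPoint (IsLocalRing.ResidueField R)) = IsLocalRing.closedPoint R :=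
    IsLocalRing.comap_closedPoint (IsLocalRing.residue R)
  let Ak := Red.bc c₀ A
  let Bk := Red.bc c₀ B
  let ψ : Ak ⟶ Bk := (Over.pullback c₀).map φ
  haveI : IsMonHom ψ := Functor.map.instIsMonHom (F := Over.pullback c₀) (f := φ)
  haveI : LocallyOfFiniteType Ak.hom := MorphismProperty.pullback_snd A.hom c₀ inferInstance
  haveI : LocallyOfFiniteType Bk.hom := MorphismProperty.pullback_snd B.hom c₀ inferInstance
  haveI : QuasiCompact Ak.hom := MorphismProperty.pullback_snd A.hom c₀ inferInstance
  haveI : Smooth Bk.hom := MorphismProperty.pullback_snd B.hom c₀ inferInstance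
  haveI : IsReduced Bk.left := Groth.Agent.AV.isReduced_of_smooth_field Bk.hom
  have hdimk : topologicalKrullDim Ak.left = topologicalKrullDim Bk.left := by
    refine (Groth.L18.NeronFlat.dim_pullback_eq_fiber A.hom c₀ (IsLocalRing.closedPoint (IsLocalRing.ResidueField R))).trans
      ((hdim _).trans ?_)
    exact (Groth.L18.NeronFlat.dim_pullback_eq_fiber B.hom c₀ _).symm
  constructor
  · intro hflat
    haveI : Flat ψ.left := MorphismProperty.of_isPullback (Groth.L18.NeronFlat.isPullback_bc φ c₀) hflat
    haveI := Groth.L18.NeronFlat.locallyQuasiFinite_of_flat_of_dim_eq ψ hdimk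
    haveI := Groth.L18.GrpHomFinite.isFinite_of_locallyQuasiFinite ψ
    exact Groth.L18.NeronFlat.image_component_of_flat ψ
  · intro h
    haveI : Flat ψ.left := Groth.L18.NeronFlat.flat_of_image_component ψ
      (subset_trans (le_of_eq h.symm) (Set.image_subset_range _ _))
    haveI := Groth.L18.NeronFlat.locallyQuasiFinite_of_flat_of_dim_eq ψ hdimk
    let c₁ := Neron.genPt R
    haveI : IsPreimmersion c₁ :=
      IsPreimmersion.of_isLocalization (R := R) (S := FractionRing R) (nonZeroDivisors R)
    haveI : Subsingleton ↥(Spec (CommRingCat.of (FractionRing R))) :=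
      inferInstanceAs (Subsingleton (PrimeSpectrum (FractionRing R)))
    let AK := (Neron.genericFibre R).obj A
    let BK := (Neron.genericFibre R).obj B
    let φK : AK ⟶ BK := (Neron.genericFibre R).map φ
    haveI : IsMonHom φK := Functor.map.instIsMonHom (F := Over.pullback c₁) (f := φ)
    haveI : LocallyOfFiniteType AK.hom := MorphismProperty.pullback_snd A.hom c₁ inferInstance
    haveI : LocallyOfFiniteType BK.hom := MorphismProperty.pullback_snd B.hom c₁ inferInstance
    haveI : QuasiCompact AK.hom := MorphismProperty.pullback_snd A.hom c₁ inferInstance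
    haveI : LocallyQuasiFinite φK.left := by
      obtain ⟨E, gE, i, _, _, -, sq⟩ := Groth.L08.AbelianGrp.exists_kernel φK
      haveI : IsFinite E.hom := hφ.2 E i sq
      haveI : IsFinite φK.left := Groth.L18.GrpHomFinite.isFinite_of_kernel_finite φK i sq
      infer_instance
    haveI : LocallyOfFiniteType (φ.left ≫ B.hom) := (Over.w φ).symm ▸ (inferInstance : LocallyOfFiniteType A.hom)
    haveI : LocallyOfFiniteType φ.left := locallyOfFiniteType_of_comp φ.left B.hom
    refine (Groth.L18.NeronFlat.locallyQuasiFinite_iff_flat φ hdim).1 ?_
    rw [locallyQuasiFinite_iff_isDiscrete_preimage_singleton]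
    intro y
    by_cases hbot : (B.hom y).asIdeal = ⊥
    · refine Groth.L18.NeronFlat.isDiscrete_preimage_of_bc φ c₁ (IsLocalRing.closedPoint (FractionRing R)) y
        (PrimeSpectrum.ext ?_)
      rw [hbot]
      symm
      show (IsLocalRing.maximalIdeal (FractionRing R)).comap (algebraMap R (FractionRing R)) = ⊥
      rw [IsLocalRing.isField_iff_maximalIdeal_eq.1 (Field.toIsField (FractionRing R)), ← RingHom.ker_eq_comap_bot]
      exact (RingHom.injective_iff_ker_eq_bot _).1 (IsFractionRing.injective R (FractionRing R))
    · refine Groth.L18.NeronFlat.isDiscrete_preimage_of_bc φ c₀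
        (IsLocalRing.closedPoint (IsLocalRing.ResidueField R)) y (Eq.trans (PrimeSpectrum.ext ?_) hpt.symm)
      exact IsLocalRing.eq_maximalIdeal ((B.hom y).isPrime.isMaximal hbot)

end Groth.Agent.S18501
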