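import Groth.Statements.S18502
import Groth.Agent.L18.GIT.Fppf
import Groth.Agent.L18.GIT.UnivQuot
import Groth.Agent.L24.Quot.QuotSh
import Mathlib.AlgebraicGeometry.Morphisms.Separated

set_option autoImplicit false
set_option maxSynthPendingDepth 3
set_option linter.style.haveILetI false
universe u
open CategoryTheory MonoidalCategory CartesianMonoidalCategory MonObj GrpObj AlgebraicGeometry Topology
open EqInt

namespace Groth.Agent.S18502

/-- Over a field k, let an affine group scheme G of finite type act on X, let X and Y be separated and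
of finite type over k, and let φ : X → Y be G-invariant, flat and surjective with (σ, p₂) : G × X →
X ×_Y X an isomorphism (X is a principal G-bundle over Y). Conclusion: the pair (Y, φ) realizes Y as
a geometric quotient of X under G, and G acts freely, meaning (σ, p₂) : G × X → X × X is a closed
immersion. (The source takes X and Y integral; integrality plays no role. A geometric quotient is
taken here with φ universally submersive.) -/
theorem result (k : Type u) [Field k]
    (G X Y : Over (Spec (CommRingCat.of k))) [GrpObj G] [IsAffine G.left] [LocallyOfFiniteType G.hom]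
    [LocallyOfFiniteType X.hom] [QuasiCompact X.hom] [IsSeparated X.hom]
    [LocallyOfFiniteType Y.hom] [QuasiCompact Y.hom] [IsSeparated Y.hom]
    (a : AlgGrp.Action G X) (φ : X ⟶ Y) (hinv : GIT.IsInvariant a φ) [Flat φ.left] [Surjective φ.left]
    (hcart : IsIso (GIT.PsiY a φ hinv)) :
    GIT.IsGeomQuot a φ ∧ IsClosedImmersion (GIT.psi a (𝟙 X)).left := by
  haveI : IsLocallyNoetherian Y.left := LocallyOfFiniteType.isLocallyNoetherian Y.hom
  haveI : LocallyOfFiniteType (φ.left ≫ Y.hom) := by rw [Over.w φ]; infer_instance
  haveI : LocallyOfFiniteType φ.left := locallyOfFiniteType_of_comp φ.left Y.hom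
  haveI : LocallyOfFinitePresentation φ.left := inferInstance
  haveI := hcart
  have hsq : IsPullback a.act.left (snd G X).left φ.left φ.left :=
    IsPullback.of_iso_pullback ⟨hinv.left⟩ (asIso (GIT.PsiY a φ hinv))
      (Limits.pullback.lift_fst _ _ _) (Limits.pullback.lift_snd _ _ _)
  have hpb : IsPullback a.act (snd G X) φ φ := Groth.L18.GITQ.isPullback_over hinv hsq
  refine ⟨Groth.L18.GITFppf.isGeomQuot a φ (Groth.Agent.L24.Quot.isQuotient_of_isPullback hpb), ?_⟩
  have e : φ.left ≫ Y.hom = X.hom := Over.w φ
  have hd : (GIT.psi a (𝟙 X)).left = GIT.PsiY a φ hinv ≫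
      Limits.pullback.mapDesc φ.left φ.left Y.hom ≫ (Limits.pullback.congrHom e e).hom := by
    apply Limits.pullback.hom_ext
    · have e1 : (GIT.psi a (𝟙 X)).left ≫ Limits.pullback.fst X.hom X.hom = a.act.left :=
        congrArg CommaMorphism.left (show GIT.psi a (𝟙 X) ≫ fst X X = a.act by simp [GIT.psi])
      rw [e1, Category.assoc, Category.assoc]
      erw [Limits.pullback.lift_fst, Category.comp_id, Limits.pullback.lift_fst, Category.comp_id]
      exact (Limits.pullback.lift_fst _ _ _).symm
    · have e2 : (GIT.psi a (𝟙 X)).left ≫ Limits.pullback.snd X.hom X.hom = (snd G X).left :=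
        congrArg CommaMorphism.left (show GIT.psi a (𝟙 X) ≫ snd X X = snd G X by simp [GIT.psi])
      rw [e2, Category.assoc, Category.assoc]
      erw [Limits.pullback.lift_snd, Category.comp_id, Limits.pullback.lift_snd, Category.comp_id]
      exact (Limits.pullback.lift_snd _ _ _).symm
  rw [hd]
  infer_instance

end Groth.Agent.S18502
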