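import Groth.Statements.S18503
import Groth.Agent.L18.GIT.StabDim
import Groth.Agent.S3042

set_option autoImplicit false
set_option maxSynthPendingDepth 3
set_option linter.style.haveILetI false
universe u
open CategoryTheory MonoidalCategory CartesianMonoidalCategory MonObj GrpObj AlgebraicGeometry Topology
open EqInt

namespace Groth.Agent.S18503

/-- Over a field k, let an affine group scheme G of finite type act on a quasi-separated scheme X of
finite type over k. If the action is proper (the morphism (σ, p₂) : G × X → X × X is proper) and the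
stabilizer of every point is trivial (for each point x of X the fibre over x of the stabilizer group
scheme (G × X) ×_{X × X} X → X, the pullback of (σ, p₂) along the diagonal, is Spec κ(x) through its
structure map), then the action is free: (σ, p₂) is a closed immersion. (Stated for X a scheme; the
source allows an algebraic space.) -/
theorem result (k : Type u) [Field k]
    (G X : Over (Spec (CommRingCat.of k))) [GrpObj G] [IsAffine G.left] [LocallyOfFiniteType G.hom]
    [LocallyOfFiniteType X.hom] [QuasiCompact X.hom] [QuasiSeparated X.hom]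
    (a : AlgGrp.Action G X) (hp : IsProper (GIT.psi a (𝟙 X)).left)
    (htriv : ∀ x : ↥X.left, IsIso ((Limits.pullback.snd (GIT.psi a (𝟙 X)).left
      (CartesianMonoidalCategory.lift (𝟙 X) (𝟙 X)).left).fiberToSpecResidueField x)) :
    IsClosedImmersion (GIT.psi a (𝟙 X)).left := by
  let p := GLinSh.stabTo a (𝟙 X)
  haveI := hp
  haveI : IsProper p := MorphismProperty.of_isPullback (IsPullback.of_hasPullback _ _) hp
  haveI : Mono p := Groth.Agent.S3042.mono_of_fibres p fun x =>
    haveI : IsIso (p.fiberToSpecResidueField x) := htriv x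
    inferInstance
  haveI : IsSplitEpi p := ⟨⟨⟨Groth.L18.GITStab.idSec a, Groth.L18.GITStab.idSec_stabTo a⟩⟩⟩
  haveI : IsIso p := isIso_of_mono_of_isSplitEpi p
  haveI : Mono (GIT.psi a (𝟙 X)) := ⟨fun {T} u v h => by
    have h2 : u ≫ snd G X = v ≫ snd G X := by simpa [GIT.psi] using congrArg (· ≫ snd X X) h
    have h1 : u ≫ a.act = v ≫ a.act := by simpa [GIT.psi] using congrArg (· ≫ fst X X) h
    set x := u ≫ snd G X with hx
    have eu : u = lift (u ≫ fst G X) x := by
      apply CartesianMonoidalCategory.hom_ext <;> simp [hx]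
    have ev : v = lift (v ≫ fst G X) x := by
      apply CartesianMonoidalCategory.hom_ext <;> simp [hx, ← h2]
    set g := u ≫ fst G X
    set g' := v ≫ fst G X
    rw [eu, ev] at h1
    have hg : lift (g'⁻¹ * g) x ≫ GIT.psi a (𝟙 X) = x ≫ lift (𝟙 X) (𝟙 X) := by
      rw [GIT.psi, comp_lift, comp_lift, lift_whiskerLeft_assoc, lift_snd, Category.comp_id,
        Groth.L18.GITStab.mul_smul a, h1, ← Groth.L18.GITStab.mul_smul a, inv_mul_cancel,
        Groth.L18.GITStab.one_smul a]
    let q : T.left ⟶ GLinSh.stab a (𝟙 X) :=
      Limits.pullback.lift (lift (g'⁻¹ * g) x).left x.left (congrArg CommaMorphism.left hg)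
    have hq : q = x.left ≫ Groth.L18.GITStab.idSec a := by
      rw [← cancel_mono p, Category.assoc, Groth.L18.GITStab.idSec_stabTo, Category.comp_id]
      exact Limits.pullback.lift_snd _ _ _
    have h3 := congrArg (· ≫ Limits.pullback.fst _ _) hq
    have h3' : (lift (g'⁻¹ * g) x).left = x.left ≫ (lift (1 : X ⟶ G) (𝟙 X)).left :=
      (Limits.pullback.lift_fst _ _ _).symm.trans (h3.trans
        ((Category.assoc _ _ _).trans (congrArg (x.left ≫ ·) (Limits.pullback.lift_fst _ _ _))))
    have h4 : lift (g'⁻¹ * g) x ≫ fst G X = (x ≫ lift (1 : X ⟶ G) (𝟙 X)) ≫ fst G X :=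
      congrArg (· ≫ fst G X) (Over.OverMorphism.ext h3')
    rw [lift_fst, Category.assoc, lift_fst, MonObj.comp_one, inv_mul_eq_one] at h4
    rw [eu, ev, h4]⟩
  haveI : Mono (GIT.psi a (𝟙 X)).left := inferInstance
  exact (IsClosedImmersion.iff_isProper_and_mono _).2 ⟨hp, inferInstance⟩

end Groth.Agent.S18503
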