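import Groth.Statements.S18505
import Groth.Agent.L16.CurveCompletion.Normal
import Groth.Agent.L22.SymQuot.Quot

set_option autoImplicit false
universe u
open CategoryTheory MonoidalCategory CartesianMonoidalCategory MonObj GrpObj AlgebraicGeometry Topology
open EqInt

namespace Groth.Agent.S18505

set_option backward.isDefEq.respectTransparency false
set_option linter.style.haveILetI false

/-- The inverse image of a nonzero section of an integral scheme along a flat morphism is regular. -/
theorem eq_zero_of_mul_appLE {X P : Scheme.{u}} [IsIntegral X] (f : P ⟶ X) [Flat f] {W : X.Opens}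
    {O : P.Opens} (hle : O ≤ f ⁻¹ᵁ W) (s : Γ(X, W)) (hs : s ≠ 0) (z : Γ(P, O))
    (hz : z * (f.appLE W O hle).hom s = 0) : z = 0 := by
  have h : ∀ x : P, x ∈ O → ∃ O' : P.Opens, x ∈ O' ∧ ∃ h : O' ≤ O, (P.presheaf.map (homOfLE h).op).hom z = 0 := by
    intro x hx
    obtain ⟨W', hW', hxW', hW'W⟩ := exists_isAffineOpen_mem_and_subset (U := W) (x := f x) (hle hx)
    obtain ⟨O', hO', hxO', hO'le⟩ := exists_isAffineOpen_mem_and_subset (U := O ⊓ f ⁻¹ᵁ W') (x := x) ⟨hx, hxW'⟩
    refine ⟨O', hxO', fun y hy => (hO'le hy).1, ?_⟩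
    haveI : Nonempty W' := ⟨⟨_, hxW'⟩⟩
    let e : O' ≤ f ⁻¹ᵁ W' := fun y hy => (hO'le hy).2
    let s' := (X.presheaf.map (homOfLE (show W' ≤ W from hW'W)).op).hom s
    have hs' : s' ≠ 0 := fun h0 => hs (map_injective_of_isIntegral X (homOfLE (show W' ≤ W from hW'W))
      (h0.trans (map_zero _).symm))
    letI := (f.appLE W' O' e).hom.toAlgebra
    haveI : Module.Flat Γ(X, W') Γ(P, O') := f.flat_appLE hW' hO' e
    have hreg : IsSMulRegular Γ(P, O') s' := IsSMulRegular.of_flat (IsSMulRegular.of_ne_zero hs')
    apply hreg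
    show s' • _ = s' • (0 : Γ(P, O'))
    rw [smul_zero, Algebra.smul_def, mul_comm]
    have key := congrArg (P.presheaf.map (homOfLE (show O' ≤ O from fun y hy => (hO'le hy).1)).op).hom hz
    rw [map_mul, map_zero] at key
    convert key using 2
    show (f.appLE W' O' e).hom ((X.presheaf.map _).hom s) = _
    rw [← CommRingCat.comp_apply, ← CommRingCat.comp_apply, Scheme.Hom.map_appLE, Scheme.Hom.appLE_map]
  choose O' hxO' hle' hz' using h
  refine TopCat.Sheaf.eq_of_locally_eq' P.sheaf (fun x : {x : P // x ∈ O} => O' x.1 x.2) O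
    (fun x => homOfLE (hle' x.1 x.2)) (fun x hx => TopologicalSpace.Opens.mem_iSup.2 ⟨⟨x, hx⟩, hxO' x hx⟩) z 0
    fun x => ?_
  exact (hz' x.1 x.2).trans (map_zero _).symm

/-- Over an algebraically closed field k of characteristic zero, let an affine group scheme G of finite
type act on a normal variety X (integral, separated, of finite type over k, with integrally closed
local rings) and let (Y, φ) be a geometric quotient of X by G with Y separated of finite type over
k. Then Y is normal. (The other two conditions of the published criterion are immediate from the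
definition of a geometric quotient, and its converse rests on a result quoted there without proof;
only this implication is stated. A geometric quotient is taken here with φ universally submersive.) -/
theorem result (k : Type u) [Field k] [IsAlgClosed k] [CharZero k]
    (G X Y : Over (Spec (CommRingCat.of k))) [GrpObj G] [IsAffine G.left] [LocallyOfFiniteType G.hom]
    [LocallyOfFiniteType X.hom] [QuasiCompact X.hom] [IsSeparated X.hom] [IsIntegral X.left]
    (hX : Pi1.IsNormalScheme X.left)
    [LocallyOfFiniteType Y.hom] [QuasiCompact Y.hom] [IsSeparated Y.hom]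
    (a : AlgGrp.Action G X) (φ : X ⟶ Y) (h : GIT.IsGeomQuot a φ) :
    Pi1.IsNormalScheme Y.left := by
  let f := φ.left
  haveI : _root_.IrreducibleSpace Y.left := by
    obtain ⟨x⟩ := (inferInstance : Nonempty X.left)
    exact { toNonempty := ⟨f x⟩
            isPreirreducible_univ := by
              have h' := (IrreducibleSpace.isIrreducible_univ X.left).isPreirreducible.image f f.continuous.continuousOn
              rwa [Set.image_univ, h.surj.range_eq] at h' }
  haveI : IsReduced Y.left := ⟨fun U => isReduced_of_injective (f.app U).hom (h.sections U).1⟩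
  haveI : IsIntegral Y.left := isIntegral_of_irreducibleSpace_of_isReduced Y.left
  haveI : Flat G.hom := Groth.L22.SymQuot.flat_of_field (Field.toIsField k) G.hom
  haveI : Flat (snd G X).left := inferInstanceAs (Flat (Limits.pullback.snd G.hom X.hom))
  -- sections are integrally closed
  have hsec : ∀ U : Y.left.Opens, Nonempty U → IsIntegrallyClosed Γ(Y.left, U) := by
    intro U hU
    haveI := hU
    haveI : Nonempty (f ⁻¹ᵁ U) := by
      obtain ⟨⟨y, hy⟩⟩ := hU
      obtain ⟨x, rfl⟩ := h.surj y
      exact ⟨⟨x, hy⟩⟩
    haveI := Groth.L16.CurveCompletion.isIntegrallyClosed_sections (fun x => (hX x).2) (f ⁻¹ᵁ U) ‹_›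
    let A := Γ(Y.left, U)
    let B := Γ(X.left, f ⁻¹ᵁ U)
    let i : A →+* B := (f.app U).hom
    let K := FractionRing A
    let L := FractionRing B
    have hi : Function.Injective ((algebraMap B L).comp i) :=
      (IsFractionRing.injective B L).comp (h.sections U).1
    let ψ : K →+* L := IsFractionRing.lift hi
    have hψ : ∀ a, ψ (algebraMap A K a) = algebraMap B L (i a) := fun a => IsFractionRing.lift_algebraMap hi a
    rw [isIntegrallyClosed_iff K]
    intro x hx
    obtain ⟨a₀, s, hs, hx'⟩ := IsFractionRing.div_surjective A x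
    have hy : _root_.IsIntegral B (ψ x) := by
      obtain ⟨p, hpm, hp⟩ := hx
      refine ⟨p.map i, hpm.map _, ?_⟩
      rw [Polynomial.eval₂_map, show (algebraMap B L).comp i = ψ.comp (algebraMap A K) from
        RingHom.ext fun a => (hψ a).symm, ← Polynomial.hom_eval₂, hp, map_zero]
    obtain ⟨b, hb⟩ := IsIntegrallyClosed.algebraMap_eq_of_integral hy
    have hs0 : i s ≠ 0 := (map_ne_zero_iff i (h.sections U).1).2 (nonZeroDivisors.ne_zero hs)
    have hbs : b * i s = i a₀ := by
      apply IsFractionRing.injective B L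
      rw [map_mul, hb, ← hx', map_div₀, hψ, hψ, div_mul_cancel₀]
      exact (map_ne_zero_iff _ (IsFractionRing.injective B L)).2 hs0
    obtain ⟨c, hc⟩ : b ∈ Set.range (f.app U) := by
      rw [(h.sections U).2]
      have hsi : GIT.IsInvSection a φ U (i s) := (h.sections U).2.le ⟨s, rfl⟩
      have hai : GIT.IsInvSection a φ U (i a₀) := (h.sections U).2.le ⟨a₀, rfl⟩
      show GIT.IsInvSection a φ U b
      unfold GIT.IsInvSection at hsi hai ⊢
      rw [← sub_eq_zero]
      refine eq_zero_of_mul_appLE (snd G X).left inf_le_right (i s) hs0 _ ?_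
      rw [sub_mul, ← map_mul, hbs]
      conv_lhs => arg 1; rw [← hsi, ← map_mul, hbs]
      rw [hai, sub_self]
    exact ⟨c, ψ.injective (by rw [hψ]; exact (congrArg _ hc).trans hb)⟩
  intro y
  refine ⟨inferInstance, ?_⟩
  obtain ⟨U, hU, hyU, -⟩ := exists_isAffineOpen_mem_and_subset (X := Y.left) (U := ⊤) (x := y) trivial
  haveI : Nonempty U := ⟨⟨y, hyU⟩⟩
  haveI := hsec U inferInstance
  letI := Y.left.presheaf.algebra_section_stalk ⟨y, hyU⟩
  haveI := hU.isLocalization_stalk ⟨y, hyU⟩
  exact isIntegrallyClosed_of_isLocalization (Y.left.presheaf.stalk y) (hU.primeIdealOf ⟨y, hyU⟩).asIdeal.primeCompl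
    (Ideal.primeCompl_le_nonZeroDivisors _)

end Groth.Agent.S18505
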