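import Groth.Statements.S18508
import Groth.Agent.L18.GIT.StabDim
import Groth.Agent.L25.GrpDeriv
import Groth.Agent.L23.SourceRegular
import Groth.Agent.S3042

set_option autoImplicit false
set_option maxSynthPendingDepth 3
set_option linter.style.haveILetI false
universe u
open CategoryTheory MonoidalCategory CartesianMonoidalCategory MonObj GrpObj AlgebraicGeometry Topology
open EqInt

namespace Groth.Agent.S18508

/-- Over a field k, let an affine group scheme G of finite type act on a separated scheme X of finite
type over k, with stabilizer group scheme S = (G × X) ×_{X × X} X → X (the pullback of (σ, p₂) along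
the diagonal). Assume that k has characteristic zero or that G is finite étale over k. Then the
action is set-theoretically free (S → X is universally injective: the stabilizer of every geometric
point inside the group of geometric points is trivial) if and only if it is geometrically free (for
every point x of X the fibre of S over x is Spec κ(x) through its structure map). (The source takes
X integral and tests geometric points with values in an algebraic closure of k; the statement here
is over all points, which is what the argument gives pointwise.) -/
theorem result (k : Type u) [Field k]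
    (G X : Over (Spec (CommRingCat.of k))) [GrpObj G] [IsAffine G.left] [LocallyOfFiniteType G.hom]
    [LocallyOfFiniteType X.hom] [QuasiCompact X.hom] [IsSeparated X.hom]
    (hG : CharZero k ∨ (IsFinite G.hom ∧ Etale G.hom)) (a : AlgGrp.Action G X) :
    UniversallyInjective (Limits.pullback.snd (GIT.psi a (𝟙 X)).left (CartesianMonoidalCategory.lift (𝟙 X) (𝟙 X)).left) ↔
      ∀ x : ↥X.left, IsIso ((Limits.pullback.snd (GIT.psi a (𝟙 X)).left (CartesianMonoidalCategory.lift (𝟙 X) (𝟙 X)).left).fiberToSpecResidueField x) := by
  let p := GLinSh.stabTo a (𝟙 X)
  show UniversallyInjective p ↔ ∀ x : ↥X.left, IsIso (p.fiberToSpecResidueField x)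
  constructor
  · intro hinj x
    haveI : LocallyOfFiniteType p := inferInstance
    haveI : IsSeparated p := inferInstance
    let q := p.fiberToSpecResidueField x
    let sec : Spec (X.left.residueField x) ⟶ p.fiber x :=
      Limits.pullback.lift (X.left.fromSpecResidueField x ≫ Groth.L18.GITStab.idSec a) (𝟙 _) (by
        rw [Category.assoc, Groth.L18.GITStab.idSec_stabTo, Category.comp_id, Category.id_comp])
    have hsec : sec ≫ q = 𝟙 _ := Limits.pullback.lift_snd _ _ _
    haveI : IsSplitEpi q := ⟨⟨⟨sec, hsec⟩⟩⟩
    rcases hG with hk | ⟨-, het⟩
    · haveI : CharZero (X.left.residueField x) := charZero_of_injective_ringHom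
        (Spec.preimage (X.left.fromSpecResidueField x ≫ X.hom)).hom.injective
      haveI hq : LocallyOfFiniteType q := MorphismProperty.pullback_snd (P := @LocallyOfFiniteType) _ _ inferInstance
      haveI : IsSeparated q := MorphismProperty.pullback_snd (P := @IsSeparated) _ _ inferInstance
      haveI hi : UniversallyInjective q := MorphismProperty.pullback_snd (P := @UniversallyInjective) _ _ hinj
      letI : GrpObj (Over.mk p) := Groth.L18.GITStab.stabGrpObj a (𝟙 X)
      let hg : GrpObj (Over.mk q) := Over.grpObjMkPullbackSnd
      haveI : Smooth q := @Groth.L25.GrpDeriv.smooth_of_charZero (X.left.residueField x) _ _ _ q _ hg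
      haveI : IsReduced (Spec (X.left.residueField x)) := inferInstance
      haveI : IsReduced (p.fiber x) := Groth.L23.isReduced_of_smooth q
      haveI : IsClosedImmersion (sec ≫ q) := by rw [hsec]; infer_instance
      haveI : IsClosedImmersion sec := IsClosedImmersion.of_comp sec q
      haveI : Surjective sec := ⟨fun z => ⟨q z, q.injective (by
        rw [← Scheme.Hom.comp_apply sec q, hsec]; rfl)⟩⟩
      haveI : IsIso sec := isIso_of_isClosedImmersion_of_surjective sec
      exact IsIso.of_isIso_fac_left (f := sec) (h := 𝟙 _) hsec
    · haveI := het
      haveI : FormallyUnramified (snd G X).left :=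
        MorphismProperty.pullback_snd (P := @FormallyUnramified) G.hom X.hom inferInstance
      haveI : IsSeparated (fst X X).left :=
        MorphismProperty.pullback_fst (P := @IsSeparated) X.hom X.hom inferInstance
      haveI : IsClosedImmersion (lift (𝟙 X) (𝟙 X)).left := by
        haveI : IsClosedImmersion ((lift (𝟙 X) (𝟙 X)).left ≫ (fst X X).left) := by
          rw [← Over.comp_left, lift_fst, Over.id_left]; infer_instance
        exact IsClosedImmersion.of_comp _ (fst X X).left
      haveI : FormallyUnramified p := by
        have e : p = Limits.pullback.fst (GIT.psi a (𝟙 X)).left (lift (𝟙 X) (𝟙 X)).left ≫ (snd G X).left := by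
          have h := congrArg (· ≫ (snd X X).left) (Limits.pullback.condition
            (f := (GIT.psi a (𝟙 X)).left) (g := (lift (𝟙 X) (𝟙 X)).left))
          simp only [Category.assoc, ← Over.comp_left, GIT.psi, lift_snd, Over.id_left, Category.comp_id] at h
          exact h.symm
        haveI : IsClosedImmersion (Limits.pullback.fst (GIT.psi a (𝟙 X)).left (lift (𝟙 X) (𝟙 X)).left) :=
          MorphismProperty.pullback_fst _ _ inferInstance
        haveI hu : FormallyUnramified (Limits.pullback.fst (GIT.psi a (𝟙 X)).left (lift (𝟙 X) (𝟙 X)).left) :=
          haveI : IsIso (Limits.pullback.diagonal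
              (Limits.pullback.fst (GIT.psi a (𝟙 X)).left (lift (𝟙 X) (𝟙 X)).left)) :=
            (Limits.pullback.isIso_diagonal_iff _).2 inferInstance
          inferInstance
        rw [e]
        exact MorphismProperty.comp_mem (W := @FormallyUnramified) _ _ hu ‹FormallyUnramified (snd G X).left›
      haveI : Surjective (Limits.pullback.diagonal p) := (UniversallyInjective.iff_diagonal p).1 hinj
      haveI : IsIso (Limits.pullback.diagonal p) := (isIso_iff_isOpenImmersion_and_surjective _).2 ⟨inferInstance, inferInstance⟩
      haveI : Mono p := (Limits.pullback.isIso_diagonal_iff p).1 inferInstance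
      haveI : Mono q := inferInstanceAs (Mono (Limits.pullback.snd _ _))
      exact isIso_of_mono_of_isSplitEpi q
  · intro h
    haveI : Mono p := Groth.Agent.S3042.mono_of_fibres p fun x =>
      haveI := h x
      inferInstance
    infer_instance

end Groth.Agent.S18508
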