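import Groth.Statements.S18510
import Groth.Agent.L19.AlgGrpBasic.Descent
import Groth.Agent.L23.QFDescent
import Groth.Agent.S0086

set_option autoImplicit false
set_option maxSynthPendingDepth 3
set_option linter.style.haveILetI false
universe u
open CategoryTheory MonoidalCategory CartesianMonoidalCategory MonObj GrpObj AlgebraicGeometry Topology
open EqInt

namespace Groth.Agent.S18510

/-- Over a field k, let an affine group scheme G of finite type act on X, on Y and on U (quasi-separated
schemes of finite type over k), let f : X → Y be G-equivariant, and let q_X : X × U → X_G and q_Y :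
Y × U → Y_G be principal bundle quotients for the diagonal actions (each is invariant, flat and
surjective, and (σ, p₂) into the fibre square over the quotient is an isomorphism), X_G and Y_G
being quasi-separated of finite type over k. Let f_G : X_G → Y_G satisfy f_G ∘ q_X = q_Y ∘ (f ×
id_U) as maps X × U → Y_G. If f is proper, resp. flat, resp. smooth, then so is f_G. (Stated for
schemes; the source allows algebraic spaces and also treats regular embeddings and local complete
intersection morphisms, which are not stated here.) -/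
theorem result (k : Type u) [Field k]
    (G X Y U XG YG : Over (Spec (CommRingCat.of k))) [GrpObj G] [IsAffine G.left] [LocallyOfFiniteType G.hom]
    [LocallyOfFiniteType X.hom] [QuasiCompact X.hom] [QuasiSeparated X.hom]
    [LocallyOfFiniteType Y.hom] [QuasiCompact Y.hom] [QuasiSeparated Y.hom]
    [LocallyOfFiniteType U.hom] [QuasiCompact U.hom] [QuasiSeparated U.hom]
    [LocallyOfFiniteType XG.hom] [QuasiCompact XG.hom] [QuasiSeparated XG.hom]
    [LocallyOfFiniteType YG.hom] [QuasiCompact YG.hom] [QuasiSeparated YG.hom]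
    (a : AlgGrp.Action G X) (aY : AlgGrp.Action G Y) (b : AlgGrp.Action G U)
    (f : X ⟶ Y) (hf : AlgGrp.Action.IsEquivariant a aY f)
    (qX : X ⊗ U ⟶ XG) (hqX : GIT.IsInvariant (a.prod b) qX) [Flat qX.left] [Surjective qX.left]
    (hcX : IsIso (GIT.PsiY (a.prod b) qX hqX))
    (qY : Y ⊗ U ⟶ YG) (hqY : GIT.IsInvariant (aY.prod b) qY) [Flat qY.left] [Surjective qY.left]
    (hcY : IsIso (GIT.PsiY (aY.prod b) qY hqY))
    (fG : XG ⟶ YG) (hfG : qX ≫ fG = (f ▷ U) ≫ qY) :
    (IsProper f.left → IsProper fG.left) ∧ (Flat f.left → Flat fG.left) ∧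
      (Smooth f.left → Smooth fG.left) := by
  haveI : QuasiCompact (X ⊗ U).hom := by
    show QuasiCompact (Limits.pullback.fst X.hom U.hom ≫ X.hom); infer_instance
  haveI : QuasiCompact (Y ⊗ U).hom := by
    show QuasiCompact (Limits.pullback.fst Y.hom U.hom ≫ Y.hom); infer_instance
  haveI := Groth.L19.AlgGrpBasic.qc_left qX
  haveI := Groth.L19.AlgGrpBasic.qc_left qY
  haveI := hcX
  haveI := hcY
  let hA : X ⊗ U ⟶ Y ⊗ U := f ▷ U
  have heq : (a.prod b).act ≫ hA = (G ◁ hA) ≫ (aY.prod b).act := by
    apply CartesianMonoidalCategory.hom_ext <;> simp only [hA, AlgGrp.Action.prod_act, Category.assoc,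
      whiskerRight_fst, whiskerRight_snd, lift_fst, lift_snd, lift_fst_assoc, lift_snd_assoc]
    · rw [hf, ← whiskerLeft_comp_assoc, ← whiskerLeft_comp_assoc, whiskerRight_fst]
    · rw [← whiskerLeft_comp_assoc, whiskerRight_snd]
  have tX : IsPullback (a.prod b).act.left (snd G (X ⊗ U)).left qX.left qX.left :=
    IsPullback.of_iso_pullback ⟨hqX.left⟩ (asIso (GIT.PsiY (a.prod b) qX hqX))
      (Limits.pullback.lift_fst _ _ _) (Limits.pullback.lift_snd _ _ _)
  have tY : IsPullback (aY.prod b).act.left (snd G (Y ⊗ U)).left qY.left qY.left :=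
    IsPullback.of_iso_pullback ⟨hqY.left⟩ (asIso (GIT.PsiY (aY.prod b) qY hqY))
      (Limits.pullback.lift_fst _ _ _) (Limits.pullback.lift_snd _ _ _)
  have hfG' : qX.left ≫ fG.left = hA.left ≫ qY.left := by rw [← Over.comp_left, hfG, Over.comp_left]
  have big : IsPullback ((a.prod b).act.left ≫ hA.left) (snd G (X ⊗ U)).left qY.left
      (qX.left ≫ fG.left) := by
    have := (Groth.L19.AlgGrpBasic.isPullback_whiskerLeft G hA).paste_horiz tY
    rw [← Over.comp_left, ← heq, Over.comp_left, ← hfG'] at this
    exact this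
  let pr₁ := Limits.pullback.fst fG.left qY.left
  let pr₂ := Limits.pullback.snd fG.left qY.left
  let c := Limits.pullback.lift qX.left hA.left hfG'
  have hc1 : c ≫ pr₁ = qX.left := Limits.pullback.lift_fst _ _ _
  have hc2 : c ≫ pr₂ = hA.left := Limits.pullback.lift_snd _ _ _
  have hl : IsPullback ((a.prod b).act.left ≫ c) (snd G (X ⊗ U)).left pr₁ qX.left := by
    refine IsPullback.of_right (h₁₂ := pr₂) (h₂₂ := fG.left) ?_ ?_ (IsPullback.of_hasPullback _ _).flip
    · rw [Category.assoc, hc2]; exact big
    · rw [Category.assoc, hc1]; exact tX.w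
  have top : IsPullback (a.prod b).act.left (𝟙 _) c ((a.prod b).act.left ≫ c) := by
    refine IsPullback.of_bot (v₂₁ := (snd G (X ⊗ U)).left) (v₂₂ := pr₁) (h₃₁ := qX.left) ?_ ?_ hl
    · rw [Category.id_comp, hc1]; exact tX
    · rw [Category.id_comp]
  haveI : IsIso c := MorphismProperty.of_isPullback_of_descendsAlong
    (P := MorphismProperty.isomorphisms Scheme.{u}) (Q := @Surjective ⊓ @Flat ⊓ @QuasiCompact) top.flip
    ⟨⟨MorphismProperty.of_isPullback hl.flip ‹Surjective qX.left›,
      MorphismProperty.of_isPullback hl.flip ‹Flat qX.left›⟩,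
      MorphismProperty.of_isPullback hl.flip ‹QuasiCompact qX.left›⟩
    (inferInstanceAs (IsIso (𝟙 _)))
  have sq : IsPullback hA.left qX.left qY.left fG.left :=
    (IsPullback.of_iso_pullback ⟨hfG'⟩ (asIso c) hc1 hc2).flip
  have hQ : (@Surjective ⊓ @Flat ⊓ @QuasiCompact : MorphismProperty Scheme.{u}) qY.left :=
    ⟨⟨inferInstance, inferInstance⟩, inferInstance⟩
  have hb := (Groth.L19.AlgGrpBasic.isPullback_whiskerRight f U).flip
  haveI := Groth.Agent.S0086.result.{u}
  exact ⟨fun h => MorphismProperty.of_isPullback_of_descendsAlong sq hQ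
      (MorphismProperty.of_isPullback (P := @IsProper) hb h),
    fun h => MorphismProperty.of_isPullback_of_descendsAlong sq hQ
      (MorphismProperty.of_isPullback (P := @Flat) hb h),
    fun h => MorphismProperty.of_isPullback_of_descendsAlong sq hQ
      (MorphismProperty.of_isPullback (P := @Smooth) hb h)⟩

end Groth.Agent.S18510
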