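import Groth.Statements.S18511
import Groth.Agent.L06.EqIntDescent

set_option autoImplicit false
set_option maxSynthPendingDepth 3
set_option linter.style.haveILetI false
universe u
open CategoryTheory MonoidalCategory CartesianMonoidalCategory MonObj GrpObj AlgebraicGeometry Topology
open EqInt

namespace Groth.Agent.S18511

/-- Over a field k, let an affine group scheme G of finite type act on X, with X and Y separated of
finite type over k, and let φ : X → Y be G-invariant. Let α : Y' → Y be faithfully flat and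
quasi-compact and let X' → Y' be the base change of φ with its induced action of G (X' → X
equivariant, X' → Y' invariant). If (Y', φ') is a universal geometric quotient of X' by G, then (Y,
φ) is a universal geometric quotient of X by G. (The source takes X and Y integral; integrality
plays no role. Geometric quotients are taken with universally submersive structure map.) -/
theorem result (k : Type u) [Field k]
    (G X Y X' Y' : Over (Spec (CommRingCat.of k))) [GrpObj G] [IsAffine G.left] [LocallyOfFiniteType G.hom]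
    [LocallyOfFiniteType X.hom] [QuasiCompact X.hom] [IsSeparated X.hom]
    [LocallyOfFiniteType Y.hom] [QuasiCompact Y.hom] [IsSeparated Y.hom]
    (a : AlgGrp.Action G X) (φ : X ⟶ Y) (hinv : GIT.IsInvariant a φ)
    (α : Y' ⟶ Y) [Flat α.left] [Surjective α.left] [QuasiCompact α.left]
    (pr : X' ⟶ X) (φ' : X' ⟶ Y') (hpb : IsPullback pr φ' φ α)
    (a' : AlgGrp.Action G X') (heq : a'.act ≫ pr = (G ◁ pr) ≫ a.act) (hinv' : GIT.IsInvariant a' φ')
    (h : GIT.IsUnivGeomQuot a' φ') :
    GIT.IsUnivGeomQuot a φ := by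
  haveI : QuasiCompact (φ.left ≫ Y.hom) := by rw [Over.w φ]; infer_instance
  haveI : QuasiCompact φ.left := QuasiCompact.of_comp φ.left Y.hom
  refine ⟨Groth.L06.EqIntDescent.isGeomQuot_of_baseChange a φ hinv α pr φ' hpb a' heq h.1, ?_⟩
  intro X₁ Y₁ pr₁ φ₁ g _ hpb₁ a₁ heq₁ hinv₁
  haveI : QuasiCompact φ₁.left :=
    MorphismProperty.of_isPullback (hpb₁.map (Over.forget _)) ‹QuasiCompact φ.left›
  let Y₁' : Over (Spec (CommRingCat.of k)) :=
    Over.mk (Limits.pullback.fst g.left α.left ≫ Y₁.hom)
  let β : Y₁' ⟶ Y₁ := Over.homMk (Limits.pullback.fst g.left α.left) rfl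
  let g' : Y₁' ⟶ Y' := Over.homMk (Limits.pullback.snd g.left α.left) (by
    show _ ≫ Y'.hom = Limits.pullback.fst g.left α.left ≫ Y₁.hom
    rw [← Over.w g, ← Over.w α, Limits.pullback.condition_assoc])
  haveI : Flat β.left := inferInstanceAs (Flat (Limits.pullback.fst g.left α.left))
  haveI : Surjective β.left := inferInstanceAs (Surjective (Limits.pullback.fst g.left α.left))
  haveI : QuasiCompact β.left := inferInstanceAs (QuasiCompact (Limits.pullback.fst g.left α.left))
  let X₁' : Over (Spec (CommRingCat.of k)) :=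
    Over.mk (Limits.pullback.fst φ₁.left β.left ≫ X₁.hom)
  let pr₁' : X₁' ⟶ X₁ := Over.homMk (Limits.pullback.fst φ₁.left β.left) rfl
  let φ₁' : X₁' ⟶ Y₁' := Over.homMk (Limits.pullback.snd φ₁.left β.left) (by
    show _ ≫ Y₁'.hom = Limits.pullback.fst φ₁.left β.left ≫ X₁.hom
    rw [← Over.w φ₁, ← Over.w β, Limits.pullback.condition_assoc])
  have hpb₁' : IsPullback pr₁' φ₁' φ₁ β :=
    Groth.L18.GITQ.isPullback_over (Over.OverMorphism.ext Limits.pullback.condition)
      (IsPullback.of_hasPullback _ _)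
  obtain ⟨a₁', ha₁', hi₁'⟩ := Groth.L18.GITQ.exists_baseChange_action a₁ hinv₁ hpb₁'
  refine Groth.L06.EqIntDescent.isGeomQuot_of_baseChange a₁ φ₁ hinv₁ β pr₁' φ₁' hpb₁' a₁' ha₁' ?_
  have hw : (pr₁' ≫ pr₁) ≫ φ = (φ₁' ≫ g') ≫ α := by
    rw [Category.assoc, hpb₁.w, ← Category.assoc, hpb₁'.w, Category.assoc, Category.assoc,
      show β ≫ g = g' ≫ α from Over.OverMorphism.ext Limits.pullback.condition]
  let e : X₁' ⟶ X' := hpb.lift _ _ hw
  have he₁ : e ≫ pr = pr₁' ≫ pr₁ := hpb.lift_fst _ _ _
  have he₂ : e ≫ φ' = φ₁' ≫ g' := hpb.lift_snd _ _ _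
  have big : IsPullback e φ₁' φ' g' := by
    refine IsPullback.of_right ?_ he₂ hpb
    rw [he₁, ← show β ≫ g = g' ≫ α from Over.OverMorphism.ext Limits.pullback.condition]
    exact hpb₁'.paste_horiz hpb₁
  refine h.2 e φ₁' g' trivial big a₁' (hpb.hom_ext ?_ ?_) hi₁'
  · rw [Category.assoc, he₁, reassoc_of% ha₁', heq₁, Category.assoc, heq,
      ← MonoidalCategory.whiskerLeft_comp_assoc, ← MonoidalCategory.whiskerLeft_comp_assoc, he₁]
  · rw [Category.assoc, he₂, ← Category.assoc, hi₁', Category.assoc, Category.assoc, hinv',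
      whiskerLeft_snd_assoc, he₂]

end Groth.Agent.S18511
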