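import Groth.Statements.S18515
import Groth.Agent.L09.GenericTorsor
import Groth.Agent.L09.QuillenTransport

set_option autoImplicit false
open CategoryTheory CategoryTheory.Limits MonoidalCategory CartesianMonoidalCategory MonObj GrpObj AlgebraicGeometry
universe u
open NonAbH1

open Limits MonoidalCategory CartesianMonoidalCategory

set_option linter.style.haveILetI false
set_option backward.isDefEq.respectTransparency.types false
set_option backward.isDefEq.respectTransparency false

namespace Groth.Agent.S18515

/-- Restricting an equivariant isomorphism along a homomorphism. -/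
def restrictIso {S : Scheme.{u}} {H G X X' : Over S} [GrpObj H] [GrpObj G]
    {a : AlgGrp.Action G X} {a' : AlgGrp.Action G X'} (φ : H ⟶ G) [IsMonHom φ]
    (e : EquivIso a a') : EquivIso (a.restrict φ) (a'.restrict φ) where
  iso := e.iso
  comm := by
    rw [AlgGrp.Action.restrict_act, AlgGrp.Action.restrict_act, Category.assoc, e.comm,
      MonoidalCategory.whisker_exchange_assoc]

lemma nonempty_equivIso_bc {S Y T : Scheme.{u}} {X : Scheme.{u}} {G : Over S} [GrpObj G]
    {x : X ⟶ S} {e' : Y ⟶ X} {dY : Y ⟶ S} {j : T ⟶ Y} {dT : T ⟶ S} {e : T ⟶ X}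
    (hY : e' ≫ x = dY) (hT : j ≫ dY = dT) (he : j ≫ e' = e) (he' : e ≫ x = dT)
    {P : Over X} (a : AlgGrp.Action (Red.bc x G) P) :
    Nonempty (EquivIso
      ((((a.bc e').restrict (ActBC.bcCompIso e' x G hY).inv).bc j).restrict
        (ActBC.bcCompIso j dY G hT).inv)
      ((a.bc e).restrict (ActBC.bcCompIso e x G he').inv)) := by
  let C := (ActBC.bcCompIso j e' (Red.bc x G) he).hom
  let ψ : Red.bc dT G ⟶ Red.bc j (Red.bc e' (Red.bc x G)) :=
    (ActBC.bcCompIso j dY G hT).inv ≫ (Over.pullback j).map (ActBC.bcCompIso e' x G hY).inv
  have hψ : ψ ≫ C = (ActBC.bcCompIso e x G he').inv := by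
    rw [← Iso.comp_hom_eq_id]
    simp only [ψ, C, Category.assoc]
    rw [Iso.inv_comp_eq, Category.comp_id]
    ext1
    refine pullback.hom_ext ?_ ?_
    · simp only [Over.comp_left, Category.assoc, ActBC.bcCompIso_hom_left_fst,
        ActBC.bcCompIso_hom_left_fst_assoc, ActBC.pullback_map_left_fst_assoc]
      congr 1
      rw [← ActBC.bcCompIso_hom_left_fst e' x (X := G) hY, ← Category.assoc, ← Over.comp_left,
        Iso.inv_hom_id, Over.id_left, Category.id_comp]
    · exact (Over.w _).trans (Over.w _).symm
  let E := restrictIso ψ (ActBC.equivIsoBcComp j e' he a)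
  refine ⟨⟨E.iso, ?_⟩⟩
  have h1 : ((((a.bc e').restrict (ActBC.bcCompIso e' x G hY).inv).bc j).restrict
        (ActBC.bcCompIso j dY G hT).inv).act = (((a.bc e').bc j).restrict ψ).act := by
    rw [AlgGrp.Action.bc_restrict]
    simp only [AlgGrp.Action.restrict_act, ψ, MonoidalCategory.comp_whiskerRight, Category.assoc]
  have h2 : ((a.bc e).restrict (ActBC.bcCompIso e x G he').inv).act =
      (((a.bc e).restrict C).restrict ψ).act := by
    simp only [AlgGrp.Action.restrict_act, ← MonoidalCategory.comp_whiskerRight_assoc, hψ]
  rw [h1, h2]
  exact E.comm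


/-- A class represented by a torsor over a complete variety is unramified at every discrete valuation
ring of the function field. The published lemma assumes G finite, k algebraically closed of
characteristic zero and K finitely generated over k; this row allows any field k, any field K and
any affine k-group scheme of finite type: let k be a field, X a proper k-scheme, G an affine k-group
scheme of finite type and P a torsor over X, locally trivial for the etale topology, under the base
change of G. For every field K with a k-morphism e : Spec K ⟶ X (for instance the generic point of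
an integral X) and every discrete valuation ring R with fraction field K containing k compatibly,
there is a torsor Q over Spec R under the base change of G whose restriction to Spec K is
equivariantly isomorphic to the pullback of P along e, both regarded as actions of the base change
of G to Spec K through the canonical identifications of iterated base changes. -/
theorem result
    (k K R : Type u) [Field k] [Field K] [Algebra k K]
    [CommRing R] [IsDomain R] [IsDiscreteValuationRing R] [Algebra k R] [Algebra R K] [IsFractionRing R K]
    (hc : Spec.map (CommRingCat.ofHom (algebraMap R K)) ≫ Spec.map (CommRingCat.ofHom (algebraMap k R)) =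
      Spec.map (CommRingCat.ofHom (algebraMap k K)))
    (X : Scheme.{u}) (x : X ⟶ Spec (CommRingCat.of k)) [IsProper x]
    (G : Over (Spec (CommRingCat.of k))) [GrpObj G] [IsAffine G.left] [LocallyOfFiniteType G.hom]
    (P : NonAbH1.TorsorSch (Red.bc x G) Scheme.etalePrecoverage)
    (e : Spec (CommRingCat.of K) ⟶ X) (he : e ≫ x = Spec.map (CommRingCat.ofHom (algebraMap k K))) :
    ∃ Q : NonAbH1.TorsorSch (Red.bc (Spec.map (CommRingCat.ofHom (algebraMap k R))) G) Scheme.etalePrecoverage,
      Nonempty (NonAbH1.EquivIso
        ((Q.act.bc (Spec.map (CommRingCat.ofHom (algebraMap R K)))).restrict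
          (ActBC.bcCompIso (Spec.map (CommRingCat.ofHom (algebraMap R K)))
            (Spec.map (CommRingCat.ofHom (algebraMap k R))) G hc).inv)
        ((P.act.bc e).restrict (ActBC.bcCompIso e x G he).inv)) := by
  let V : ValuationSubring K :=
    ⟨(algebraMap R K).range, ValuationRing.isInteger_or_isInteger R⟩
  have hcomm : ∀ r, algebraMap k K r = algebraMap R K (algebraMap k R r) := fun r => by
    rw [← Spec.map_comp] at hc
    exact (congr($(Spec.map_injective hc) r)).symm
  have hV : ∀ r, algebraMap k K r ∈ V.toSubring := fun r => ⟨_, (hcomm r).symm⟩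
  obtain ⟨l, hl, hl'⟩ := Groth.L09.GenericTorsor.exists_valuation_lift x e he V hV
  let ι' : R →+* V := (algebraMap R K).rangeRestrict
  let E : R ≃+* V := RingEquiv.ofBijective ι'
    ⟨fun a b h => IsFractionRing.injective R K (congrArg Subtype.val h),
      (algebraMap R K).rangeRestrict_surjective⟩
  let e' : Spec (CommRingCat.of R) ⟶ X :=
    Spec.map (CommRingCat.ofHom E.symm.toRingHom) ≫ l
  have hY : e' ≫ x = Spec.map (CommRingCat.ofHom (algebraMap k R)) := by
    simp only [e', Category.assoc, hl', ← Spec.map_comp]
    congr 1
    refine CommRingCat.hom_ext (RingHom.ext fun r => ?_)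
    show E.symm _ = algebraMap k R r
    rw [RingEquiv.symm_apply_eq]
    exact Subtype.ext (hcomm r)
  have hj : Spec.map (CommRingCat.ofHom (algebraMap R K)) ≫ e' = e := by
    rw [← hl, ← Category.assoc, ← Spec.map_comp]
    congr 2
    refine CommRingCat.hom_ext (RingHom.ext fun v => ?_)
    show algebraMap R K (E.symm v) = v.1
    exact congrArg Subtype.val (E.apply_symm_apply v)
  exact ⟨⟨Red.bc e' P.X, (P.act.bc e').restrict (ActBC.bcCompIso e' x G hY).inv,
    Groth.L09.Conv.isTorsor_restrict _ (isTorsorFor_bc e' _ P.isTorsor)⟩,
    nonempty_equivIso_bc hY hc hj he P.act⟩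

end Groth.Agent.S18515
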