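import Groth.Statements.S18519
import Groth.Agent.L21.CSA.SplitBasic
import Mathlib.FieldTheory.SeparableClosure
import Mathlib.RingTheory.Algebraic.Integral
import Mathlib.LinearAlgebra.FiniteDimensional.Basic
import Mathlib.RingTheory.TensorProduct.Free

set_option autoImplicit false
universe u
open scoped TensorProduct
open Brauer

namespace Groth.Agent.S18519

/-- For a field K with maximal abelian extension K_ab, cd(K_ab) ≤ 1 if and only if for every etale
K-algebra E the restriction map Br(E) ⟶ Br(E ⊗_K K_ab) is trivial; the same holds with the maximal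
solvable extension. Stated here for an arbitrary separable algebraic extension F of K in place of
K_ab (the published lemma takes for F the maximal abelian or the maximal solvable extension of K;
this row allows any separable algebraic extension), with cd(F) ≤ 1 unfolded by the Brauer-group
criterion (every finite separable extension of F has trivial Brauer group) and with etale algebras
replaced by their field factors: (a) every finite-dimensional central division algebra over a finite
separable extension F′ of F is F′ itself; if and only if (b) for every finite separable extension E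
of K, every finite-dimensional central division algebra D over E and every field M containing E and
F compatibly over K, the base change M ⊗_E D is isomorphic over M to a matrix algebra over M. -/
theorem result
    (K F : Type u) [Field K] [Field F] [Algebra K F] [Algebra.IsSeparable K F] :
    (∀ (F' : Type u) [Field F'] [Algebra F F'] [FiniteDimensional F F'] [Algebra.IsSeparable F F']
        (D : Type u) [DivisionRing D] [Algebra F' D] [Algebra.IsCentral F' D] [FiniteDimensional F' D],
        Module.finrank F' D = 1) ↔
    (∀ (E : Type u) [Field E] [Algebra K E] [FiniteDimensional K E] [Algebra.IsSeparable K E]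
        (D : Type u) [DivisionRing D] [Algebra E D] [Algebra.IsCentral E D] [FiniteDimensional E D]
        (M : Type u) [Field M] [Algebra K M] [Algebra E M] [Algebra F M] [IsScalarTower K E M]
        [IsScalarTower K F M],
        ∃ n : ℕ, Nonempty ((M ⊗[E] D) ≃ₐ[M] Matrix (Fin n) (Fin n) M)) := by
  classical
  constructor
  · intro ha E _ _ _ _ D _ _ _ _ M _ _ _ _ _ _
    set S : Set M := Set.range fun i => algebraMap E M (Module.finBasis K E i) with hS
    let F' : IntermediateField F M := IntermediateField.adjoin F S
    have hsepint : ∀ x ∈ S, IsSeparable F x := by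
      rintro x ⟨i, rfl⟩
      have h : IsSeparable K (Module.finBasis K E i) := Algebra.IsSeparable.isSeparable K _
      refine IsSeparable.tower_top (F := K) (L := F) ?_
      rw [IsSeparable] at h ⊢
      rwa [← IsScalarTower.coe_toAlgHom' K E M,
        minpoly.algHom_eq _ (algebraMap E M).injective]
    haveI : FiniteDimensional F F' :=
      have : Finite S := (Set.finite_range _).to_subtype
      IntermediateField.finiteDimensional_adjoin fun x hx => (hsepint x hx).isIntegral
    haveI : Algebra.IsSeparable F F' := (IntermediateField.isSeparable_adjoin_iff_isSeparable F M).2 hsepint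
    have hmem : ∀ e : E, algebraMap E M e ∈ F' := fun e => by
      rw [← (Module.finBasis K E).sum_repr e, map_sum]
      refine sum_mem fun i _ => ?_
      rw [Algebra.smul_def, map_mul, ← IsScalarTower.algebraMap_apply,
        IsScalarTower.algebraMap_apply K F M]
      exact mul_mem (F'.algebraMap_mem _) (IntermediateField.subset_adjoin F S ⟨i, rfl⟩)
    letI : Algebra E F' := ((algebraMap E M).codRestrict F'.toSubfield hmem).toAlgebra
    haveI : IsScalarTower E F' M := IsScalarTower.of_algebraMap_eq fun e => rfl
    haveI : Algebra.IsCentral F' (F' ⊗[E] D) := Groth.L11.CSA.isCentral_baseChange E D F'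
    haveI : IsSimpleRing (F' ⊗[E] D) := Groth.L11.CSA.isSimpleRing_baseChange E D F'
    obtain ⟨d, hd, D', hD', hDA', hDf', ⟨φ⟩⟩ :=
      haveI := Groth.L11.CSA.isArtinianRing_of_finite F' (F' ⊗[E] D)
      IsSimpleRing.exists_algEquiv_matrix_divisionRing_finite F' (F' ⊗[E] D)
    haveI : NeZero d := hd
    haveI : Algebra.IsCentral F' D' :=
      Groth.L21.CSA.isCentral_of_matrix (D := D') (A := F' ⊗[E] D) F' φ
    have h1 := ha F' D'
    let eD : F' ≃ₐ[F'] D' := AlgEquiv.ofBijective (Algebra.ofId F' D')
      ⟨(algebraMap F' D').injective, fun z ↦ by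
        obtain ⟨c, hc⟩ := exists_smul_eq_of_finrank_eq_one h1 one_ne_zero z
        exact ⟨c, by rw [← hc, Algebra.ofId_apply, Algebra.algebraMap_eq_smul_one]⟩⟩
    obtain ⟨n, -, hn⟩ := Groth.L21.CSA.splits_trans E D F' M ⟨d, hd.out, ⟨φ.trans eD.symm.mapMatrix⟩⟩
    exact ⟨n, hn⟩
  · intro hb F' _ _ _ _ D _ _ _ _
    letI : Algebra K F' := ((algebraMap F F').comp (algebraMap K F)).toAlgebra
    haveI : IsScalarTower K F F' := IsScalarTower.of_algebraMap_eq fun _ => rfl
    haveI : Algebra.IsSeparable K F' := Algebra.IsSeparable.trans K F F'
    let bas := Module.finBasis F' D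
    let S : Set F' := Set.range (fun p : Fin (Module.finrank F' D) × Fin (Module.finrank F' D) ×
      Fin (Module.finrank F' D) => bas.repr (bas p.1 * bas p.2.1) p.2.2) ∪
      Set.range fun i => bas.repr 1 i
    let E : IntermediateField K F' := IntermediateField.adjoin K S
    haveI : FiniteDimensional K E :=
      have : Finite S := ((Set.finite_range _).union (Set.finite_range _)).to_subtype
      IntermediateField.finiteDimensional_adjoin fun x _ => Algebra.IsIntegral.isIntegral x
    haveI : Algebra.IsSeparable K E := Algebra.isSeparable_tower_bot_of_isSeparable K E F'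
    haveI : IsScalarTower E F' D := inferInstance
    let D₀ : Subalgebra E D :=
      { carrier := {z | ∀ i, bas.repr z i ∈ E}
        add_mem' := fun ha hb i => by rw [map_add, Finsupp.add_apply]; exact add_mem (ha i) (hb i)
        mul_mem' := fun {a b} ha hb i => by
          rw [← bas.sum_repr a, ← bas.sum_repr b, Finset.sum_mul_sum, map_sum, Finsupp.finset_sum_apply]
          refine sum_mem fun p _ => ?_
          rw [map_sum, Finsupp.finset_sum_apply]
          refine sum_mem fun q _ => ?_
          rw [smul_mul_smul_comm, map_smul, Finsupp.smul_apply, smul_eq_mul]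
          exact mul_mem (mul_mem (ha p) (hb q))
            (IntermediateField.subset_adjoin K S (Or.inl ⟨(p, q, i), rfl⟩))
        algebraMap_mem' := fun c i => by
          show bas.repr (algebraMap F' D (c : F')) i ∈ E
          rw [Algebra.algebraMap_eq_smul_one, map_smul, Finsupp.smul_apply, smul_eq_mul]
          exact mul_mem c.2 (IntermediateField.subset_adjoin K S (Or.inr ⟨i, rfl⟩)) }
    have hbas : ∀ j, bas j ∈ D₀ := fun j i => by
      rw [bas.repr_self]
      by_cases h : j = i
      · rw [h, Finsupp.single_eq_same]; exact one_mem _
      · rw [Finsupp.single_eq_of_ne (Ne.symm h)]; exact zero_mem _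
    let b₀ : Module.Basis (Fin (Module.finrank F' D)) E D₀ := Module.Basis.mk (v := fun j => ⟨bas j, hbas j⟩)
      (LinearIndependent.of_comp D₀.val.toLinearMap
        ((bas.linearIndependent.restrict_scalars' E)))
      (fun z _ => by
        have hz : z = ∑ j, (⟨bas.repr (z : D) j, z.2 j⟩ : E) • (⟨bas j, hbas j⟩ : D₀) := by
          refine Subtype.ext ?_
          rw [AddSubmonoidClass.coe_finsetSum]
          exact (bas.sum_repr (z : D)).symm.trans (Finset.sum_congr rfl fun j _ => rfl)
        rw [hz]
        exact Submodule.sum_mem _ fun j _ => Submodule.smul_mem _ _ (Submodule.subset_span ⟨j, rfl⟩))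
    haveI : FiniteDimensional E D₀ := Module.Finite.of_basis b₀
    letI : DivisionRing D₀ := divisionRingOfFiniteDimensional E D₀
    haveI : Algebra.IsCentral E D₀ := ⟨fun z hz => by
      have hc : (z : D) ∈ Subalgebra.center F' D := Subalgebra.mem_center_iff.2 fun y => by
        rw [← bas.sum_repr y, Finset.sum_mul, Finset.mul_sum]
        refine Finset.sum_congr rfl fun j _ => ?_
        rw [smul_mul_assoc, mul_smul_comm]
        exact congrArg (bas.repr y j • ·) (congrArg Subtype.val (Subalgebra.mem_center_iff.1 hz ⟨bas j, hbas j⟩))
      rw [Algebra.IsCentral.center_eq_bot, Algebra.mem_bot] at hc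
      obtain ⟨c, hc⟩ := hc
      obtain ⟨i, hi⟩ : ∃ i, bas.repr (1 : D) i ≠ 0 := by
        by_contra h
        push Not at h
        exact one_ne_zero (bas.repr.injective (by rw [map_zero]; exact Finsupp.ext fun i => h i))
      have hcE : c ∈ E := by
        have h := z.2 i
        rw [← hc, Algebra.algebraMap_eq_smul_one, map_smul, Finsupp.smul_apply, smul_eq_mul] at h
        have h2 := mul_mem h (inv_mem (IntermediateField.subset_adjoin K S (Or.inr ⟨i, rfl⟩) : bas.repr (1 : D) i ∈ E))
        rwa [mul_assoc, mul_inv_cancel₀ hi, mul_one] at h2
      exact Algebra.mem_bot.2 ⟨⟨c, hcE⟩, Subtype.ext hc⟩⟩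
    obtain ⟨n, ⟨ψ⟩⟩ := hb E D₀ F'
    let Φ : F' ⊗[E] D₀ →ₐ[F'] D := Algebra.TensorProduct.lift (Algebra.ofId F' D) D₀.val
      fun x y => Algebra.commutes x (y : D)
    have hΦ : Function.Bijective Φ := by
      have : Φ.toLinearMap = ((Algebra.TensorProduct.basis F' b₀).equiv bas (Equiv.refl _)).toLinearMap := by
        refine (Algebra.TensorProduct.basis F' b₀).ext fun j => ?_
        rw [LinearEquiv.coe_coe, Module.Basis.equiv_apply, Algebra.TensorProduct.basis_apply]
        simp [Φ, b₀]
      have h2 : (Φ : F' ⊗[E] D₀ → D) = ((Algebra.TensorProduct.basis F' b₀).equiv bas (Equiv.refl _)) :=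
        congrArg DFunLike.coe this
      rw [h2]; exact LinearEquiv.bijective _
    let χ : D ≃ₐ[F'] Matrix (Fin n) (Fin n) F' := (AlgEquiv.ofBijective Φ hΦ).symm.trans ψ
    rcases n with _ | _ | n
    · exact absurd (χ.injective (Subsingleton.elim (χ 0) (χ 1))) zero_ne_one
    · rw [χ.toLinearEquiv.finrank_eq, Module.finrank_matrix, Module.finrank_self]; simp
    · exfalso
      have h0 : χ.symm (Matrix.single 0 1 1) * χ.symm (Matrix.single 0 1 1) = 0 := by
        rw [← map_mul, Matrix.single_mul_single_of_ne (h := (by simp : (1 : Fin (n + 2)) ≠ 0)), map_zero]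
      rcases mul_eq_zero.1 h0 with h | h <;>
      · have := congrFun (congrFun (χ.symm.injective (h.trans (map_zero χ.symm).symm)) 0) 1
        simp at this

end Groth.Agent.S18519
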