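import Groth.Statements.S1852
import Mathlib.RingTheory.Ideal.AssociatedPrime.Localization
import Mathlib.RingTheory.Length
import Mathlib.RingTheory.Support
import Mathlib.RingTheory.SimpleModule.Basic
import Mathlib.Algebra.Module.LocalizedModule.Exact
import Mathlib.Data.Fin.Tuple.Basic
import Mathlib.RingTheory.Localization.AtPrime.Basic
import Mathlib.Tactic.Ring

set_option autoImplicit false
universe u
open CycAlg

namespace Groth.Agent.S1852

open Module in
theorem length_localized_quot (R : Type u) [CommRing R] (q : Ideal R) [q.IsPrime] :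
    Module.length (Localization.AtPrime q) (LocalizedModule q.primeCompl (R ⧸ q)) = 1 := by
  rw [Module.length_eq_one_iff, isSimpleModule_iff_toSpanSingleton_surjective]
  refine ⟨⟨⟨LocalizedModule.mk 1 1, 0, fun h => ?_⟩⟩, fun v hv w => ?_⟩
  · rw [← LocalizedModule.zero_mk (1 : q.primeCompl), LocalizedModule.mk_eq] at h
    obtain ⟨u, hu⟩ := h
    simp only [one_smul, smul_zero] at hu
    have h' : Ideal.Quotient.mk q (u : R) = 0 := by
      simpa [Submonoid.smul_def, Algebra.smul_def] using hu
    exact u.2 (Ideal.Quotient.eq_zero_iff_mem.1 h')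
  · induction v using LocalizedModule.induction_on with
    | _ a s =>
      induction w using LocalizedModule.induction_on with
      | _ c t =>
        obtain ⟨a, rfl⟩ := Ideal.Quotient.mk_surjective a
        obtain ⟨c, rfl⟩ := Ideal.Quotient.mk_surjective c
        have ha : a ∉ q := fun h => hv (by rw [Ideal.Quotient.eq_zero_iff_mem.2 h, LocalizedModule.zero_mk])
        refine ⟨Localization.mk (c * (s : R)) (t * ⟨a, ha⟩), ?_⟩
        rw [LinearMap.toSpanSingleton_apply, LocalizedModule.mk_smul_mk, LocalizedModule.mk_eq]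
        refine ⟨1, ?_⟩
        simp only [one_smul, Submonoid.smul_def, Algebra.smul_def, Submonoid.coe_mul,
          Ideal.Quotient.algebraMap_eq, map_mul]
        ring

theorem step_length {R : Type u} [CommRing R] {M : Type u} [AddCommGroup M] [Module R M] (q : Ideal R) [q.IsPrime]
    (N N' : Submodule R M) (hle : N ≤ N') (e : (↥N' ⧸ N.submoduleOf N') ≃ₗ[R] (R ⧸ q)) :
    Module.length (Localization.AtPrime q) (LocalizedModule q.primeCompl (M ⧸ N)) =
      1 + Module.length (Localization.AtPrime q) (LocalizedModule q.primeCompl (M ⧸ N')) := by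
  let f : (R ⧸ q) →ₗ[R] M ⧸ N := (Submodule.mapQ (N.submoduleOf N') N N'.subtype le_rfl) ∘ₗ e.symm.toLinearMap
  let g : (M ⧸ N) →ₗ[R] M ⧸ N' := Submodule.factor hle
  have hf : Function.Injective f := by
    show Function.Injective (⇑(Submodule.mapQ (N.submoduleOf N') N N'.subtype le_rfl) ∘ ⇑e.symm)
    refine Function.Injective.comp ?_ e.symm.injective
    rw [← LinearMap.ker_eq_bot, Submodule.eq_bot_iff]
    intro z hz
    obtain ⟨⟨z, hzN⟩, rfl⟩ := Submodule.Quotient.mk_surjective _ z
    rw [LinearMap.mem_ker, Submodule.mapQ_apply, Submodule.Quotient.mk_eq_zero] at hz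
    rw [Submodule.Quotient.mk_eq_zero]
    exact hz
  have hg : Function.Surjective g := Submodule.factor_surjective hle
  have hex : Function.Exact f g := by
    intro z
    obtain ⟨z, rfl⟩ := Submodule.Quotient.mk_surjective _ z
    change (Submodule.Quotient.mk z : M ⧸ N') = 0 ↔ _
    rw [Submodule.Quotient.mk_eq_zero]
    constructor
    · intro hz
      exact ⟨e (Submodule.Quotient.mk ⟨z, hz⟩), by simp [f]⟩
    · rintro ⟨r, hr⟩
      obtain ⟨⟨z', hz'⟩, hz''⟩ := Submodule.Quotient.mk_surjective _ (e.symm r)
      have : f r = Submodule.Quotient.mk z' := by simp [f, ← hz'']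
      rw [hr, Submodule.Quotient.eq] at this
      simpa using N'.add_mem (hle this) hz'
  rw [Module.length_eq_add_of_exact (LocalizedModule.map q.primeCompl f) (LocalizedModule.map q.primeCompl g)
    (LocalizedModule.map_injective q.primeCompl f hf) (LocalizedModule.map_surjective q.primeCompl g hg)
    (LocalizedModule.map_exact q.primeCompl f g hex), length_localized_quot]


/-- Let R be a Noetherian local ring, M a finite R-module and 𝔮 a minimal prime of the support of M.
There are x₁, …, x_l in M such that 𝔮 is not in the support of M/⟨x₁, …, x_l⟩ and each ⟨x₁, …,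
x_i⟩/⟨x₁, …, x_{i−1}⟩ is isomorphic to R/𝔮; and for any such sequence l equals the length of M_𝔮
over R_𝔮. -/
theorem result (R : Type u) [CommRing R] [IsNoetherianRing R] [IsLocalRing R] (M : Type u) [AddCommGroup M] [Module R M] [Module.Finite R M] (q : PrimeSpectrum R) (hq : Minimal (fun p : PrimeSpectrum R => p ∈ Module.support R M) q) : (∃ (l : ℕ) (x : Fin l → M), q ∉ Module.support R (M ⧸ Submodule.span R (Set.range x)) ∧ ∀ i : Fin l, Nonempty ((↥(CycDet.spanBefore R M x (i + 1)) ⧸ (CycDet.spanBefore R M x i).submoduleOf (CycDet.spanBefore R M x (i + 1))) ≃ₗ[R] (R ⧸ q.asIdeal))) ∧ ∀ (l : ℕ) (x : Fin l → M), q ∉ Module.support R (M ⧸ Submodule.span R (Set.range x)) → (∀ i : Fin l, Nonempty ((↥(CycDet.spanBefore R M x (i + 1)) ⧸ (CycDet.spanBefore R M x i).submoduleOf (CycDet.spanBefore R M x (i + 1))) ≃ₗ[R] (R ⧸ q.asIdeal))) → (l : ℕ∞) = Module.length (Localization.AtPrime q.asIdeal) (LocalizedModule q.asIdeal.primeCompl M) := by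
  classical
  let Good : ∀ {l : ℕ}, (Fin l → M) → Prop := fun {l} x => ∀ i : Fin l,
    Nonempty ((↥(CycDet.spanBefore R M x (i + 1)) ⧸ (CycDet.spanBefore R M x i).submoduleOf (CycDet.spanBefore R M x (i + 1))) ≃ₗ[R] (R ⧸ q.asIdeal))
  have hmono : ∀ {l : ℕ} (x : Fin l → M) (i : ℕ), CycDet.spanBefore R M x i ≤ CycDet.spanBefore R M x (i + 1) :=
    fun x i => Submodule.span_mono (Set.image_mono fun j (hj : (j : ℕ) < i) => Nat.lt_succ_of_lt hj)
  constructor
  · suffices ∀ N : Submodule R M, ∀ (l : ℕ) (x : Fin l → M), Submodule.span R (Set.range x) = N → Good x →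
        ∃ (l' : ℕ) (x' : Fin l' → M), q ∉ Module.support R (M ⧸ Submodule.span R (Set.range x')) ∧ Good x' by
      exact this ⊥ 0 Fin.elim0 (by simp) (fun i => i.elim0)
    intro N
    induction N using WellFoundedGT.induction with
    | _ N IH =>
      intro l x hx hgood
      by_cases hmem : q ∉ Module.support R (M ⧸ N)
      · exact ⟨l, x, by rwa [hx], hgood⟩
      push Not at hmem
      have hmin : q.asIdeal ∈ (Module.annihilator R (M ⧸ N)).minimalPrimes := by
        refine ⟨⟨q.isPrime, ?_⟩, fun p hp hpq => ?_⟩
        · rwa [Module.support_eq_zeroLocus, PrimeSpectrum.mem_zeroLocus, SetLike.coe_subset_coe] at hmem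
        · obtain ⟨hp1, hp2⟩ := hp
          have hps : (⟨p, hp1⟩ : PrimeSpectrum R) ∈ Module.support R M := by
            rw [Module.support_eq_zeroLocus, PrimeSpectrum.mem_zeroLocus, SetLike.coe_subset_coe]
            exact ((LinearMap.annihilator_le_of_surjective N.mkQ N.mkQ_surjective).trans hp2)
          exact hq.2 hps hpq
      obtain ⟨-, yb, hy⟩ := isAssociatedPrime_iff.1 (AssociatedPrimes.mem_iff.1 (Module.associatedPrimes.minimalPrimes_annihilator_subset_associatedPrimes R (M ⧸ N) hmin))
      obtain ⟨y, rfl⟩ := Submodule.Quotient.mk_surjective _ yb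
      have hiff : ∀ r : R, r • y ∈ N ↔ r ∈ q.asIdeal := fun r => by
        rw [hy, Submodule.mem_colon_singleton, Submodule.mem_bot, ← Submodule.Quotient.mk_smul, Submodule.Quotient.mk_eq_zero]
      have hyN : y ∉ N := fun h => q.isPrime.ne_top ((Ideal.eq_top_iff_one _).2 ((hiff 1).1 (by rwa [one_smul])))
      have hbefore : ∀ i ≤ l, CycDet.spanBefore R M (Fin.snoc (α := fun _ => M) x y) i = CycDet.spanBefore R M x i := by
        intro i hi
        simp only [CycDet.spanBefore]
        congr 1
        ext v
        constructor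
        · rintro ⟨j, hj, rfl⟩
          exact ⟨⟨j, lt_of_lt_of_le hj hi⟩, hj, (Fin.snoc_castSucc (α := fun _ => M) y x ⟨j, lt_of_lt_of_le hj hi⟩).symm⟩
        · rintro ⟨j, hj, rfl⟩
          exact ⟨j.castSucc, hj, Fin.snoc_castSucc ..⟩
      have hall : ∀ {m : ℕ} (z : Fin m → M), CycDet.spanBefore R M z m = Submodule.span R (Set.range z) := by
        intro m z
        simp [CycDet.spanBefore, ← Set.image_univ]
      set N' := Submodule.span R (Set.range (Fin.snoc (α := fun _ => M) x y)) with hN'
      have hN'eq : N' = N ⊔ Submodule.span R {y} := by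
        rw [hN', Fin.range_snoc, Submodule.span_insert, hx, sup_comm]
      have hlt : N < N' := by
        rw [hN'eq]
        exact left_lt_sup.2 (fun h => hyN (h (Submodule.mem_span_singleton_self y)))
      refine IH N' hlt (l + 1) _ rfl fun i => ?_
      rcases Nat.lt_or_ge (i : ℕ) l with hi | hi
      · rw [hbefore _ hi, hbefore _ hi.le]
        exact hgood ⟨i, hi⟩
      · obtain ⟨i, hil⟩ := i
        obtain rfl : i = l := by simp only at hi; omega
        change Nonempty ((↥(CycDet.spanBefore R M _ (i + 1)) ⧸ (CycDet.spanBefore R M _ i).submoduleOf _) ≃ₗ[R] _)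
        rw [hall, hbefore i le_rfl, hall, hx]
        let φ : R →ₗ[R] (↥N' ⧸ N.submoduleOf N') :=
          (N.submoduleOf N').mkQ ∘ₗ LinearMap.toSpanSingleton R N' ⟨y, hN'eq ▸ Submodule.mem_sup_right (Submodule.mem_span_singleton_self y)⟩
        have hker : LinearMap.ker φ = q.asIdeal := by
          ext r
          rw [LinearMap.mem_ker, ← hiff r]
          simp only [φ, LinearMap.comp_apply, Submodule.mkQ_apply, Submodule.Quotient.mk_eq_zero]
          rfl
        have hsurj : Function.Surjective φ := by
          intro z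
          obtain ⟨⟨z, hz⟩, rfl⟩ := Submodule.Quotient.mk_surjective _ z
          obtain ⟨n, hn, w, hw, rfl⟩ := Submodule.mem_sup.1 (hN'eq ▸ hz)
          obtain ⟨r, rfl⟩ := Submodule.mem_span_singleton.1 hw
          refine ⟨r, ?_⟩
          simp only [φ, LinearMap.comp_apply, Submodule.mkQ_apply, Submodule.Quotient.eq]
          show r • y - (n + r • y) ∈ N
          simpa using hn
        exact ⟨((Submodule.quotEquivOfEq _ _ hker.symm).trans (φ.quotKerEquivOfSurjective hsurj)).symm⟩
  · intro l x hxq hgood
    let lam : ℕ → ℕ∞ := fun i => Module.length (Localization.AtPrime q.asIdeal)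
      (LocalizedModule q.asIdeal.primeCompl (M ⧸ CycDet.spanBefore R M x i))
    have hstep : ∀ i, i < l → lam i = 1 + lam (i + 1) := fun i hi =>
      step_length q.asIdeal _ _ (hmono x i) (hgood ⟨i, hi⟩).some
    have hsum : ∀ i ≤ l, lam 0 = i + lam i := by
      intro i
      induction i with
      | zero => simp
      | succ i IH =>
        intro hi
        rw [IH (by omega), hstep i (by omega), Nat.cast_succ, add_assoc]
    have hend : lam l = 0 := by
      have h1 : CycDet.spanBefore R M x l = Submodule.span R (Set.range x) := by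
        simp [CycDet.spanBefore, ← Set.image_univ]
      rw [← h1] at hxq
      haveI := Module.notMem_support_iff.1 hxq
      exact Module.length_eq_zero
    have h0 := hsum l le_rfl
    rw [hend, add_zero] at h0
    rw [← h0]
    let e0 : (M ⧸ CycDet.spanBefore R M x 0) ≃ₗ[R] M := Submodule.quotEquivOfEqBot _ (by simp [CycDet.spanBefore])
    exact le_antisymm
      (Module.length_le_of_injective (LocalizedModule.map q.asIdeal.primeCompl e0.toLinearMap)
        (LocalizedModule.map_injective _ _ e0.injective))
      (Module.length_le_of_injective (LocalizedModule.map q.asIdeal.primeCompl e0.symm.toLinearMap)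
        (LocalizedModule.map_injective _ _ e0.symm.injective))

end Groth.Agent.S1852
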