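import Groth.Statements.S18524
import Groth.Agent.L13.ParHilb.Basic

set_option autoImplicit false
universe u
open CategoryTheory CategoryTheory.Limits AlgebraicGeometry
open ParSh

namespace Groth.Agent.S18524

/-- Let X be a scheme proper over a field k with an ample invertible sheaf L, and 0 → F → E → G → 0 a
short exact sequence of coherent O_X-modules. Let 𝓔 be a finite weighted filtration of E by coherent
sub-modules E = E₀ ⊇ E₁ ⊇ ⋯ ⊇ E_l ⊇ B with B coherent and weights 0 ≤ w₀ < ⋯ < w_l < 1, and give F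
the filtration pulled back along F → E and G the image filtration along E → G, so that the sequence
is a parabolic extension. Then for every natural number m the parabolic Hilbert functions are
additive: par-χ(F, m) + par-χ(G, m) = par-χ(E, m), where par-χ(E, m) = χ(B ⊗ L^m) + Σ_j w_j (χ(E_j ⊗
L^m) − χ(E_{j+1} ⊗ L^m)) with E_{l+1} = B. The published statement is for parabolic sheaves along
effective Cartier divisors D on a projective scheme over an algebraically closed field, with B =
E(−D) and the functions averaged over several divisors; the identity holds for each weighted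
filtration separately, over any field and for any coherent bottom piece. -/
theorem result (k : Type u) [Field k] (X : Scheme.{u})
    [X.Over (Spec (CommRingCat.of k))] [IsProper (X ↘ Spec (CommRingCat.of k))]
    (L : X.Modules) (hL : CohB1.IsAmple L) {F E G : X.Modules}
    (hF : Coh.IsCoh F) (hE : Coh.IsCoh E) (hG : Coh.IsCoh G)
    (i : F ⟶ E) (p : E ⟶ G) [Epi p] (𝓕 : ParSh.Str F) (𝓔 : ParSh.Str E) (𝓖 : ParSh.Str G)
    (hext : ParSh.IsParExt i p 𝓕 𝓔 𝓖)
    (hcoh : ∀ j, Coh.IsCoh ((𝓔.piece j : Subobject E) : X.Modules))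
    (hbot : Coh.IsCoh ((𝓔.bot : Subobject E) : X.Modules)) (m : ℕ) :
    𝓕.parHilb k X L m + 𝓖.parHilb k X L m = 𝓔.parHilb k X L m := by
  obtain ⟨w, hS, rfl, rfl⟩ := hext
  haveI : Mono i := hS.mono_f
  haveI : IsLocallyNoetherian X := LocallyOfFiniteType.isLocallyNoetherian (X ↘ Spec (CommRingCat.of k))
  have hcX : ∀ j, Coh.IsCoh ((𝓔.pieceX j : Subobject E) : X.Modules) := fun j => by
    induction j using Fin.lastCases with
    | last => rwa [𝓔.pieceX_last]
    | cast j => rw [𝓔.pieceX_castSucc]; exact hcoh j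
  have key : ∀ j : Fin (𝓔.l + 2),
      ((Curv2.euler k X (ShStab.twist X L (((𝓔.induced i).pieceX j : Subobject F) : X.Modules) m) : ℝ) +
        (Curv2.euler k X (ShStab.twist X L (((𝓔.coinduced p).pieceX j : Subobject G) : X.Modules) m) : ℝ)) =
      (Curv2.euler k X (ShStab.twist X L ((𝓔.pieceX j : Subobject E) : X.Modules) m) : ℝ) := by
    intro j
    let Ej := 𝓔.pieceX j
    have hA := Groth.L13.ParHilb.pieceX_induced 𝓔 i j
    have hGj : (𝓔.coinduced p).pieceX j = imageSubobject (Ej.arrow ≫ p) := by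
      induction j using Fin.lastCases with
      | last => exact (𝓔.coinduced p).pieceX_last.trans (congrArg (fun A : Subobject E => imageSubobject (A.arrow ≫ p)) 𝓔.pieceX_last.symm)
      | cast j => exact ((𝓔.coinduced p).pieceX_castSucc j).trans (congrArg (fun A : Subobject E => imageSubobject (A.arrow ≫ p)) (𝓔.pieceX_castSucc j).symm)
    have hAc := Groth.L13.ParHilb.isCoh_pieceX_induced k hE 𝓔 hcX i hF j
    rw [hA] at hAc
    rw [hA, hGj]
    have hImc : Coh.IsCoh ((imageSubobject (Ej.arrow ≫ p) : Subobject G) : X.Modules) :=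
      Groth.L16.CohSupport.isCoh_of_iso ((Abelian.imageIsoImage (Ej.arrow ≫ p)) ≪≫ (imageSubobjectIso (Ej.arrow ≫ p)).symm)
        (Groth.L03.ShStab.Basic.coh_parts k (hcX j) hG (Ej.arrow ≫ p)).2.1
    have sq := Subobject.isPullback i Ej
    have wz : Subobject.pullbackπ i Ej ≫ factorThruImageSubobject (Ej.arrow ≫ p) = 0 := by
      rw [← cancel_mono (imageSubobject (Ej.arrow ≫ p)).arrow, Category.assoc, imageSubobject_arrow_comp,
        ← Category.assoc, sq.w, Category.assoc, w, Limits.comp_zero, Limits.zero_comp]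
    haveI : Mono (Subobject.pullbackπ i Ej) := MorphismProperty.of_isPullback (P := MorphismProperty.monomorphisms _)
      sq.flip ‹Mono i›
    have hT : (ShortComplex.mk _ _ wz).ShortExact := by
      refine ShortComplex.ShortExact.mk (ShortComplex.exact_of_f_is_kernel _ ?_)
      refine KernelFork.IsLimit.ofι' _ wz fun {A} t ht => ?_
      have ht' : (t ≫ Ej.arrow) ≫ p = 0 := by
        have := congrArg (· ≫ (imageSubobject (Ej.arrow ≫ p)).arrow) ht
        simpa using this
      exact ⟨sq.lift t (hS.exact.lift (t ≫ Ej.arrow) ht') (hS.exact.lift_f _ _).symm, sq.lift_fst _ _ _⟩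
    have hm := Groth.L18.Ample.isInvertible_tensorPow hL.1 m
    have := Groth.L03.Euler.euler_add (k := k) (Groth.L03.Euler.shortExact_tensor hm hT)
      (Groth.L03.Euler.isCoh_tensor hm hAc) (Groth.L03.Euler.isCoh_tensor hm (hcX j)) (Groth.L03.Euler.isCoh_tensor hm hImc)
    exact_mod_cast this.symm
  simp only [ParSh.Str.parHilb, ParSh.Str.parSum]
  rw [add_add_add_comm]
  have hb := key (Fin.last _)
  simp only [ParSh.Str.pieceX_last] at hb
  have h1 : ((𝓔.induced i).bot : Subobject F) = (𝓔.induced i).pieceX (Fin.last (𝓔.l + 1)) := (𝓔.induced i).pieceX_last.symm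
  have h2 : ((𝓔.coinduced p).bot : Subobject G) = (𝓔.coinduced p).pieceX (Fin.last (𝓔.l + 1)) := (𝓔.coinduced p).pieceX_last.symm
  rw [h1, h2, key, 𝓔.pieceX_last]
  congr 1
  show ∑ j : Fin (𝓔.l + 1), _ + ∑ j : Fin (𝓔.l + 1), _ = _
  rw [← Finset.sum_add_distrib]
  refine Finset.sum_congr rfl fun j _ => ?_
  have e1 : (𝓔.induced i).piece j = (𝓔.induced i).pieceX j.castSucc := ((𝓔.induced i).pieceX_castSucc j).symm
  have e2 : (𝓔.coinduced p).piece j = (𝓔.coinduced p).pieceX j.castSucc := ((𝓔.coinduced p).pieceX_castSucc j).symm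
  rw [e1, e2]
  show 𝓔.wt j * _ + 𝓔.wt j * _ = _
  rw [← mul_add, ← add_sub_add_comm]
  congr 2
  · exact (key j.castSucc).trans (by rw [𝓔.pieceX_castSucc])
  · exact key j.succ

end Groth.Agent.S18524
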