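import Groth.Statements.S18527
import Groth.Agent.L13.ParHilb.Basic

set_option autoImplicit false
universe u
open CategoryTheory CategoryTheory.Limits AlgebraicGeometry Polynomial
open ParSh

namespace Groth.Agent.S18527

/-- An upper and a lower bound for the second coefficient of the parabolic Hilbert polynomial. Let X be
a scheme proper over a field k with an ample invertible sheaf L, I the ideal of an effective Cartier
divisor D on X, and E a coherent O_X-module with a finite weighted filtration 𝓔 along I by coherent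
pieces E = E₀ ⊇ ⋯ ⊇ E_l ⊇ E_{l+1} = I·E, weights 0 ≤ w₀ < ⋯ < w_l < 1. Let d ≥ 1 be a natural number
with Supp E ∩ Supp D of topological Krull dimension less than d, P the Hilbert polynomial of E with
respect to L and P_j that of E_j (0 ≤ j ≤ l+1). Then the coefficient of degree d − 1 of the
parabolic Hilbert polynomial P_{l+1} + Σ_{j ≤ l} w_j (P_j − P_{j+1}) is at least the coefficient of
degree d − 1 of P_{l+1} and at most that of P. For E pure of dimension d this says that the
parabolic slope lies between the slope of E(−D) and the slope of E; the published statement also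
gives a lower bound μ(E) − b with b depending only on a bound for the multiplicity of E, on d, D and
L, which is not part of this row. -/
theorem result (k : Type u) [Field k] (X : Scheme.{u})
    [X.Over (Spec (CommRingCat.of k))] [IsProper (X ↘ Spec (CommRingCat.of k))]
    (L : X.Modules) (hL : CohB1.IsAmple L) (I : X.IdealSheafData) (hD : FGA.IsEffCartier I)
    (E : X.Modules) (hE : Coh.IsCoh E) (𝓔 : ParSh.Str E) (h𝓔 : 𝓔.Along I)
    (hcoh : ∀ j, Coh.IsCoh ((𝓔.pieceX j : Subobject E) : X.Modules)) (d : ℕ) (hd : 1 ≤ d)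
    (hsupp : topologicalKrullDim ↥(CohB1.support E ∩ (I.support : Set X)) < (d : WithBot ℕ∞))
    (P : ℚ[X]) (hP : ShStab.IsHilbPoly k X L E P) (PX : Fin (𝓔.l + 2) → ℚ[X])
    (hPX : ∀ j, ShStab.IsHilbPoly k X L ((𝓔.pieceX j : Subobject E) : X.Modules) (PX j)) :
    (W4swparbununimod.rpoly (PX (Fin.last (𝓔.l + 1)))).coeff (d - 1) ≤ (W4swparbununimod.parPoly 𝓔 PX).coeff (d - 1) ∧
      (W4swparbununimod.parPoly 𝓔 PX).coeff (d - 1) ≤ (W4swparbununimod.rpoly P).coeff (d - 1) := by
  obtain ⟨H, hH, hrel, h0⟩ := Groth.L13.ParHilb.exists_quot_hilb k hL hE 𝓔 hcoh hP hPX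
  rw [Groth.L13.ParHilb.coeff_parPoly_of_eq 𝓔 P PX H hrel h0 (d - 1), Polynomial.coeff_map, Polynomial.coeff_map]
  have hmono : ∀ i j, i ≤ j → ((H i).coeff (d - 1) : ℝ) ≤ ((H j).coeff (d - 1) : ℝ) := fun i j hij =>
    Rat.cast_le.2 (Groth.L13.ParHilb.coeff_quot_mono hL hE h𝓔 hcoh hd hsupp hij (hH i) (hH j))
  have hlast : ((H 0).coeff (d - 1) : ℝ) ≤ _ := hmono 0 (Fin.last (𝓔.l + 1)) (Fin.le_last _)
  rw [h0, Polynomial.coeff_zero, Rat.cast_zero] at hlast
  have hw0 : 0 ≤ 𝓔.wtX 0 := 𝓔.wt_nonneg.trans (𝓔.wtX_castSucc 0).ge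
  have hsum : ∑ j : Fin (𝓔.l + 1), (𝓔.wtX j.succ - 𝓔.wtX j.castSucc) * ((H j.succ).coeff (d - 1) : ℝ) ≤
      ((H (Fin.last (𝓔.l + 1))).coeff (d - 1) : ℝ) := by
    refine (Finset.sum_le_sum fun j _ => mul_le_mul_of_nonneg_left (hmono _ _ (Fin.le_last _))
      (Groth.L13.ParHilb.wtX_step_nonneg 𝓔 j)).trans ?_
    rw [← Finset.sum_mul, Groth.L13.ParHilb.sum_wtX_step]
    nlinarith
  have hnn : 0 ≤ ∑ j : Fin (𝓔.l + 1), (𝓔.wtX j.succ - 𝓔.wtX j.castSucc) * ((H j.succ).coeff (d - 1) : ℝ) :=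
    Finset.sum_nonneg fun j _ => mul_nonneg (Groth.L13.ParHilb.wtX_step_nonneg 𝓔 j) (by
      have := hmono 0 j.succ (Fin.zero_le _)
      rwa [h0, Polynomial.coeff_zero, Rat.cast_zero] at this)
  rw [hrel, Polynomial.coeff_sub]
  push_cast
  constructor <;> simp only [eq_ratCast, Rat.cast_sub] <;> linarith

end Groth.Agent.S18527
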