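import Groth.Statements.S18528
import Groth.Agent.L13.ParHilb.Basic

set_option autoImplicit false
universe u
open CategoryTheory CategoryTheory.Limits AlgebraicGeometry Polynomial
open ParSh

namespace Groth.Agent.S18528

/-- Reduced parabolic Hilbert polynomials versus parabolic slopes, for one test subsheaf. Let X be a
scheme proper over a field k with an ample invertible sheaf L, I the ideal of an effective Cartier
divisor D on X, and E a nonzero coherent O_X-module, pure of dimension d ≥ 1, with Supp E ∩ Supp D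
of topological Krull dimension less than d, carrying a finite weighted filtration 𝓔 along I by
coherent pieces E = E₀ ⊇ ⋯ ⊇ E_{l+1} = I·E with weights 0 ≤ w₀ < ⋯ < w_l < 1. Let P be the Hilbert
polynomial of E and P_j that of E_j. Let ι : W → E be a monomorphism from a coherent module W, give
W the induced filtration (pieces the preimages of the E_j, same weights) with Hilbert polynomials Q
of W and Q_j of its pieces, and write Par_E = P_{l+1} + Σ_j w_j (P_j − P_{j+1}), Par_W = Q_{l+1} +
Σ_j w_j (Q_j − Q_{j+1}), α_d for d! times the coefficient of degree d. Then: (i) if Par_W(m)·α_d(P)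
≤ Par_E(m)·α_d(Q) for all large natural numbers m, the coefficients of degree d − 1 satisfy
coeff(Par_W)·α_d(P) ≤ coeff(Par_E)·α_d(Q); (ii) if this coefficient inequality is strict, then
Par_W(m)·α_d(P) < Par_E(m)·α_d(Q) for all large m. With W running over the saturated nonzero proper
subsheaves this is the published implication: parabolic semistability for the reduced parabolic
Hilbert polynomial implies parabolic slope-semistability, and parabolic slope-stability implies
stability for the reduced parabolic Hilbert polynomial. -/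
theorem result (k : Type u) [Field k] (X : Scheme.{u})
    [X.Over (Spec (CommRingCat.of k))] [IsProper (X ↘ Spec (CommRingCat.of k))]
    (L : X.Modules) (hL : CohB1.IsAmple L) (I : X.IdealSheafData) (hD : FGA.IsEffCartier I)
    (E : X.Modules) (hE : Coh.IsCoh E) (h0 : ¬ IsZero E) (d : ℕ) (hd : 1 ≤ d)
    (hpure : ShStab.IsPure X E d) (𝓔 : ParSh.Str E) (h𝓔 : 𝓔.Along I)
    (hcoh : ∀ j, Coh.IsCoh ((𝓔.pieceX j : Subobject E) : X.Modules))
    (hsupp : topologicalKrullDim ↥(CohB1.support E ∩ (I.support : Set X)) < (d : WithBot ℕ∞))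
    (P : ℚ[X]) (hP : ShStab.IsHilbPoly k X L E P) (PX : Fin (𝓔.l + 2) → ℚ[X])
    (hPX : ∀ j, ShStab.IsHilbPoly k X L ((𝓔.pieceX j : Subobject E) : X.Modules) (PX j))
    {W : X.Modules} (ι : W ⟶ E) [Mono ι] (hW : Coh.IsCoh W)
    (Q : ℚ[X]) (hQ : ShStab.IsHilbPoly k X L W Q) (QX : Fin (𝓔.l + 2) → ℚ[X])
    (hQX : ∀ j, ShStab.IsHilbPoly k X L (((𝓔.induced ι).pieceX j : Subobject W) : X.Modules) (QX j)) :
    ((∃ M : ℕ, ∀ m : ℕ, M ≤ m →
        (W4swparbununimod.parPoly (𝓔.induced ι) QX).eval (m : ℝ) * (StabCat.alpha d P : ℝ) ≤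
          (W4swparbununimod.parPoly 𝓔 PX).eval (m : ℝ) * (StabCat.alpha d Q : ℝ)) →
      (W4swparbununimod.parPoly (𝓔.induced ι) QX).coeff (d - 1) * (StabCat.alpha d P : ℝ) ≤
        (W4swparbununimod.parPoly 𝓔 PX).coeff (d - 1) * (StabCat.alpha d Q : ℝ)) ∧
    ((W4swparbununimod.parPoly (𝓔.induced ι) QX).coeff (d - 1) * (StabCat.alpha d P : ℝ) <
        (W4swparbununimod.parPoly 𝓔 PX).coeff (d - 1) * (StabCat.alpha d Q : ℝ) →
      ∃ M : ℕ, ∀ m : ℕ, M ≤ m →
        (W4swparbununimod.parPoly (𝓔.induced ι) QX).eval (m : ℝ) * (StabCat.alpha d P : ℝ) <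
          (W4swparbununimod.parPoly 𝓔 PX).eval (m : ℝ) * (StabCat.alpha d Q : ℝ)) := by
  obtain ⟨H, hH, hrel, h0⟩ := Groth.L13.ParHilb.exists_quot_hilb k hL hE 𝓔 hcoh hP hPX
  have hcW := Groth.L13.ParHilb.isCoh_pieceX_induced k hE 𝓔 hcoh ι hW
  obtain ⟨K, hK, hrelW, hK0⟩ := Groth.L13.ParHilb.exists_quot_hilb k hL hW (𝓔.induced ι) hcW hQ hQX
  have hH' : ∀ j n, d ≤ n → (H j).coeff n = 0 := fun j n hn =>
    Groth.L13.ParHilb.coeff_quot_zero hL (Groth.L13.ParHilb.isCoh_cokernel k hE (hcoh j))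
      (Groth.L13.ParHilb.support_cokernel_pieceX h𝓔 j) hsupp hn (hH j)
  have hK' : ∀ j n, d ≤ n → (K j).coeff n = 0 := fun j n hn =>
    Groth.L13.ParHilb.coeff_quot_zero hL (Groth.L13.ParHilb.isCoh_cokernel k hW (hcW j))
      ((Groth.L13.ParHilb.support_cokernel_induced 𝓔 ι j).trans (Groth.L13.ParHilb.support_cokernel_pieceX h𝓔 j))
      hsupp hn (hK j)
  have hdE := Groth.L03.ShStab.Basic.dim_le_of_isPure hE hpure
  have hPd := Groth.L03.ShStab.Basic.natDegree_le (k := k) hL.1 hE hdE hP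
  have hQd := Groth.L03.ShStab.Basic.natDegree_le (k := k) hL.1 hW (Groth.L03.ShStab.Basic.dim_sub_le ι hdE) hQ
  set A := W4swparbununimod.parPoly (𝓔.induced ι) QX with hA
  set B := W4swparbununimod.parPoly 𝓔 PX with hB
  let R : ℝ[X] := B * Polynomial.C (StabCat.alpha d Q : ℝ) - A * Polynomial.C (StabCat.alpha d P : ℝ)
  have hAd : A.natDegree ≤ d := Groth.L13.ParHilb.natDegree_parPoly_le (𝓔.induced ι) Q QX K hrelW hK0 hQd hK'
  have hBd : B.natDegree ≤ d := Groth.L13.ParHilb.natDegree_parPoly_le 𝓔 P PX H hrel h0 hPd hH'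
  have hAt : A.coeff d = (Q.coeff d : ℝ) :=
    Groth.L13.ParHilb.coeff_parPoly_top (𝓔.induced ι) Q QX K hrelW hK0 fun j => hK' j d le_rfl
  have hBt : B.coeff d = (P.coeff d : ℝ) :=
    Groth.L13.ParHilb.coeff_parPoly_top 𝓔 P PX H hrel h0 fun j => hH' j d le_rfl
  have hR : R.natDegree ≤ d - 1 := by
    rw [Polynomial.natDegree_le_iff_coeff_eq_zero]
    intro n hn
    simp only [R, Polynomial.coeff_sub, Polynomial.coeff_mul_C]
    rcases eq_or_lt_of_le (show d ≤ n by omega) with rfl | hn'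
    · rw [hAt, hBt]
      simp only [StabCat.alpha]
      push_cast
      ring
    · rw [Polynomial.coeff_eq_zero_of_natDegree_lt (hAd.trans_lt hn'),
        Polynomial.coeff_eq_zero_of_natDegree_lt (hBd.trans_lt hn')]
      ring
  have hev : ∀ x : ℝ, R.eval x = B.eval x * (StabCat.alpha d Q : ℝ) - A.eval x * (StabCat.alpha d P : ℝ) :=
    fun x => by simp [R]
  have hco : R.coeff (d - 1) = B.coeff (d - 1) * (StabCat.alpha d Q : ℝ) - A.coeff (d - 1) * (StabCat.alpha d P : ℝ) := by
    simp [R, Polynomial.coeff_mul_C]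
  constructor
  · rintro ⟨M, hM⟩
    have := Groth.L13.ParHilb.coeff_nonneg_of_eventually hR ⟨M, fun m hm => by rw [hev]; linarith [hM m hm]⟩
    linarith
  · intro h
    obtain ⟨M, hM⟩ := Groth.L13.ParHilb.eventually_pos_of_coeff hR (by rw [hco]; linarith)
    exact ⟨M, fun m hm => by have := hM m hm; rw [hev] at this; linarith⟩

end Groth.Agent.S18528
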