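import Groth.Statements.S1853
import Groth.Agent.L13.CycDet.Coker

set_option autoImplicit false
universe u
open CycDet

namespace Groth.Agent.S1853

open IsLocalRing Groth.Agent.L13.CycDet Groth.Agent.L13.CycDet.Lattice Groth.Agent.L13.CycDet.Coker

theorem filtration_facts {R : Type u} [CommRing R] [IsLocalRing R] [IsNoetherianRing R] (q : Ideal R) [q.IsPrime]
    [Ring.KrullDimLE 1 (R ⧸ q)] {P : Type u} [AddCommGroup P] [Module R P] [Module.Finite R P] {l : ℕ}
    (x : Fin l → P) (hx : Submodule.span R (Set.range x) = ⊤)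
    (hxq : ∀ i : Fin l, Nonempty ((↥(spanBefore R P x (i + 1)) ⧸
      (spanBefore R P x i).submoduleOf (spanBefore R P x (i + 1))) ≃ₗ[R] (R ⧸ q))) :
    (∀ a : Fin l, ∀ r ∈ q, r • x a ∈ spanBefore R P x a) ∧ Function.Injective (ι q P) ∧
      Proper (R := Localization.AtPrime q) (ι q P ∘ x) ∧
      Submodule.span (Localization.AtPrime q) (Set.range (ι q P ∘ x)) = ⊤ ∧
      Module.length (Localization.AtPrime q) (LocalizedModule q.primeCompl P) = l := by
  have hxm : ∀ a : Fin l, x a ∈ spanBefore R P x ((a : ℕ) + 1) := fun a => mem_sb x (Nat.lt_succ_self _)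
  have hA : ∀ a : Fin l, ∀ r ∈ q, r • x a ∈ spanBefore R P x a := by
    intro a r hr
    obtain ⟨e⟩ := hxq a
    set c : ↥(spanBefore R P x ((a : ℕ) + 1)) ⧸ (spanBefore R P x a).submoduleOf (spanBefore R P x ((a : ℕ) + 1)) :=
      Submodule.Quotient.mk ⟨x a, hxm a⟩
    have h0 : r • c = 0 := e.injective (by
      rw [map_smul, map_zero]
      obtain ⟨t, ht⟩ := Ideal.Quotient.mk_surjective (e c)
      rw [← ht, Algebra.smul_def, Ideal.Quotient.algebraMap_eq, Ideal.Quotient.eq_zero_iff_mem.2 hr, zero_mul])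
    exact ((Submodule.Quotient.mk_eq_zero _).1 h0 :)
  have hB : ∀ (a : Fin l) (h : R), h • x a ∈ spanBefore R P x a → h ∈ q := by
    intro a h hh
    obtain ⟨e⟩ := hxq a
    obtain ⟨⟨w, hw⟩, hwe⟩ := Submodule.Quotient.mk_surjective _ (e.symm 1)
    obtain ⟨s, hs⟩ := exists_coeff x a hw
    have h0 : h • (1 : R ⧸ q) = 0 := by
      rw [← e.apply_symm_apply 1, ← map_smul, ← hwe, ← Submodule.Quotient.mk_smul]
      have h1 : h • w ∈ spanBefore R P x a := by
        have h2 := add_mem (Submodule.smul_mem _ h hs) (Submodule.smul_mem _ s hh)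
        rwa [smul_sub, smul_comm s h, sub_add_cancel] at h2
      rw [((Submodule.Quotient.mk_eq_zero _).2 h1 : (Submodule.Quotient.mk (h • ⟨w, hw⟩) :
        ↥(spanBefore R P x ((a : ℕ) + 1)) ⧸ (spanBefore R P x a).submoduleOf _) = 0), map_zero]
    rw [Algebra.smul_def, Ideal.Quotient.algebraMap_eq, mul_one] at h0
    exact Ideal.Quotient.eq_zero_iff_mem.1 h0
  have hC : ∀ k, k ≤ l → ∀ n ∈ spanBefore R P x k, ∀ r ∉ q, r • n = 0 → n = 0 := by
    intro k
    induction k with
    | zero => intro _ n hn r _ _; rw [sb_zero] at hn; exact (Submodule.mem_bot R).1 hn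
    | succ k ih =>
      intro hk n hn r hr h0
      obtain ⟨e⟩ := hxq ⟨k, hk⟩
      refine ih (Nat.le_of_succ_le hk) n ?_ r hr h0
      set c : ↥(spanBefore R P x (k + 1)) ⧸ (spanBefore R P x k).submoduleOf (spanBefore R P x (k + 1)) :=
        Submodule.Quotient.mk ⟨n, hn⟩ with hc
      have h1 : r • e c = 0 := by
        rw [← map_smul, hc, ← Submodule.Quotient.mk_smul]
        have : r • (⟨n, hn⟩ : ↥(spanBefore R P x (k + 1))) = 0 := Subtype.ext h0
        rw [this, Submodule.Quotient.mk_zero, map_zero]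
      rw [Algebra.smul_def, mul_eq_zero, Ideal.Quotient.algebraMap_eq, Ideal.Quotient.eq_zero_iff_mem] at h1
      have h2 : c = 0 := e.injective ((h1.resolve_left hr).trans (map_zero e).symm)
      exact ((Submodule.Quotient.mk_eq_zero _).1 h2 :)
  have hinj : Function.Injective (ι q P) := by
    rw [← LinearMap.ker_eq_bot, LinearMap.ker_eq_bot']
    intro n hn
    obtain ⟨s, hs⟩ := (IsLocalizedModule.eq_zero_iff q.primeCompl (ι q P)).1 hn
    exact hC l le_rfl n (by rw [sb_top, hx]; trivial) s.1 s.2 hs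
  have hP : Proper (R := Localization.AtPrime q) (ι q P ∘ x) := fun a ha => by
    obtain ⟨h, hh, hmem⟩ := mem_sat_iff (q := q) x a (x a) ha hinj
    exact hh (hB a h hmem)
  have htop : Submodule.span (Localization.AtPrime q) (Set.range (ι q P ∘ x)) = ⊤ := by
    refine eq_top_iff.2 fun v _ => ?_
    obtain ⟨z, s, hs, hz⟩ := exists_scale (q := q) v
    have h := sb_le_sat (q := q) x l (show z ∈ spanBefore R P x l by rw [sb_top, hx]; trivial)
    rw [mem_sat, hz, sb_top, smul_mem_iff hs] at h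
    exact h
  refine ⟨hA, hinj, hP, htop, ?_⟩
  obtain ⟨s, hs0, hs1, -, hs3, -⟩ := exists_series (adm_of_filtration (q := q) x hA) l le_rfl
  rw [← Module.length_compositionSeries s hs0 (hs1.trans ((sb_top _).trans htop)), hs3 fun a _ => hP a]

theorem idx_eq_length {R : Type u} [CommRing R] [IsLocalRing R] [IsNoetherianRing R] {q : Ideal R} [q.IsPrime]
    [Ring.KrullDimLE 1 (R ⧸ q)] {N : Type u} [AddCommGroup N] [Module R N] [Module.Finite R N] {l : ℕ}
    (z : Fin l → N) (hinj : Function.Injective (ι q N)) (hp : Proper (R := Localization.AtPrime q) (ι q N ∘ z))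
    (hq : ∀ a : Fin l, ∀ r ∈ q, r • z a ∈ spanBefore R N z a)
    (htop : Submodule.span (Localization.AtPrime q) (Set.range (ι q N ∘ z)) = ⊤) :
    ∃ n : ℕ, Module.length R (N ⧸ Submodule.span R (Set.range z)) = n ∧ (n : ℤ) = idx (ι q N ∘ z) := by
  obtain ⟨h1, h2⟩ := partial_len z hinj hp hq l le_rfl
  have hs : sat (spanBefore (Localization.AtPrime q) (LocalizedModule q.primeCompl N) (ι q N ∘ z) l) = ⊤ := by
    rw [sb_top, htop]; exact eq_top_iff.2 fun n _ => trivial
  have hl' : len (spanBefore R N z l) (⊤ : Submodule R N) = Module.length R (N ⧸ Submodule.span R (Set.range z)) := by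
    rw [← sb_top]
    refine (Submodule.Quotient.equiv _ _ (Submodule.topEquiv : ↥(⊤ : Submodule R N) ≃ₗ[R] N) ?_).length_eq
    ext w
    exact ⟨fun ⟨v, hv, hvw⟩ => hvw ▸ hv, fun hw => ⟨⟨w, trivial⟩, hw, rfl⟩⟩
  rw [hs, hl'] at h1 h2
  refine ⟨_, (ENat.natCast_toNat h1).symm, h2.trans ?_⟩
  exact Finset.sum_congr (Finset.filter_true_of_mem fun a _ => a.2) fun _ _ => rfl


/-- Let R be Noetherian local, 𝔮 a prime with dim R/𝔮 = 1, and φ : M → N a map of finite modules
generated by x₁, …, x_l and y₁, …, y_l respectively, with all successive quotients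
⟨x₁..x_i⟩/⟨x₁..x_{i−1}⟩ and ⟨y₁..y_i⟩/⟨y₁..y_{i−1}⟩ isomorphic to R/𝔮. Then φ is injective iff φ_𝔮
is bijective; and in that case, if the symbols of (φ(x_i)) and (y_i) in det_{κ(𝔮)}(N_𝔮) differ by
the scalar f, the length of coker φ equals ord_{R/𝔮}(f). -/
theorem result (R : Type u) [CommRing R] [IsNoetherianRing R] [IsLocalRing R] (q : PrimeSpectrum R) (hq : ringKrullDim (R ⧸ q.asIdeal) = 1) (M N : Type u) [AddCommGroup M] [Module R M] [AddCommGroup N] [Module R N] [Module.Finite R M] [Module.Finite R N] (φ : M →ₗ[R] N) (l : ℕ) (x : Fin l → M) (y : Fin l → N) (hx : Submodule.span R (Set.range x) = ⊤) (hy : Submodule.span R (Set.range y) = ⊤) (hxq : ∀ i : Fin l, Nonempty ((↥(CycDet.spanBefore R M x (i + 1)) ⧸ (CycDet.spanBefore R M x i).submoduleOf (CycDet.spanBefore R M x (i + 1))) ≃ₗ[R] (R ⧸ q.asIdeal))) (hyq : ∀ i : Fin l, Nonempty ((↥(CycDet.spanBefore R N y (i + 1)) ⧸ (CycDet.spanBefore R N y i).submoduleOf (CycDet.spanBefore R N y (i + 1))) ≃ₗ[R] (R ⧸ q.asIdeal))) : (Function.Injective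 φ ↔ Function.Bijective (LocalizedModule.map q.asIdeal.primeCompl φ)) ∧ (Function.Injective φ → ∀ (hl : (Module.length (Localization.AtPrime q.asIdeal) (LocalizedModule q.asIdeal.primeCompl N)).toNat = l) (ex ey : CycDet.Adm (Localization.AtPrime q.asIdeal) (LocalizedModule q.asIdeal.primeCompl N) (Module.length (Localization.AtPrime q.asIdeal) (LocalizedModule q.asIdeal.primeCompl N)).toNat) (f : q.asIdeal.ResidueField), (ex.1 = fun i => LocalizedModule.mkLinearMap q.asIdeal.primeCompl N (φ (x (Fin.cast hl i)))) → (ey.1 = fun i => LocalizedModule.mkLinearMap q.asIdeal.primeCompl N (y (Fin.cast hl i))) → CycDet.symbol (Localization.AtPrime q.asIdeal) (LocalizedModule q.asIdeal.primeCompl N) ex = f • CycDet.symbol (Localization.AtPrime q.asIdeal) (LocalizedModule q.asIdeal.primeCompl N) ey → ∃ n : ℕ, Module.length R (N ⧸ LinearMap.range φ) = n ∧ (n : ℤ) = CycAlg.ordFrac (R ⧸ q.asIdeal) q.asIdeal.ResidueField f) := by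
  haveI : Ring.KrullDimLE 1 (R ⧸ q.asIdeal) := Ring.krullDimLE_iff.2 (by rw [hq]; rfl)
  obtain ⟨hMA, hMinj, hMp, hMtop, hMlen⟩ := filtration_facts q.asIdeal x hx hxq
  obtain ⟨hNA, hNinj, hNp, hNtop, hNlen⟩ := filtration_facts q.asIdeal y hy hyq
  have hmap : ∀ m : M, LocalizedModule.map q.asIdeal.primeCompl φ (ι q.asIdeal M m) = ι q.asIdeal N (φ m) :=
    fun m => by simp [ι, LocalizedModule.map_mk]
  have hNfl : IsFiniteLength (Localization.AtPrime q.asIdeal) (LocalizedModule q.asIdeal.primeCompl N) :=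
    Module.length_ne_top_iff.1 (by rw [hNlen]; exact ENat.natCast_ne_top l)
  obtain ⟨hNnoe, hNart⟩ := isFiniteLength_iff_isNoetherian_isArtinian.1 hNfl
  have hbij : Function.Injective φ → Function.Bijective (LocalizedModule.map q.asIdeal.primeCompl φ) := by
    intro hφ
    have hi := LocalizedModule.map_injective q.asIdeal.primeCompl φ hφ
    refine ⟨hi, LinearMap.range_eq_top.1 (by_contra fun hne => ?_)⟩
    have := Submodule.length_lt hne
    rw [← (LinearEquiv.ofInjective _ hi).length_eq, hMlen, hNlen] at this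
    exact lt_irrefl _ this
  refine ⟨⟨hbij, fun hb => ?_⟩, ?_⟩
  · intro m m' hmm
    exact hMinj (hb.1 (by rw [hmap, hmap, hmm]))
  intro hφ hl ex ey f hex hey hsym
  subst hl
  set z := φ ∘ x with hz
  have hexz : ex.1 = ι q.asIdeal N ∘ z := hex
  have heyy : ey.1 = ι q.asIdeal N ∘ y := hey
  have hzq : ∀ a : Fin (Module.length (Localization.AtPrime q.asIdeal) (LocalizedModule q.asIdeal.primeCompl N)).toNat, ∀ r ∈ q.asIdeal, r • z a ∈ spanBefore R N z a := by
    intro a r hr
    rw [hz, Function.comp_apply, ← map_smul, sb_map]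
    exact Submodule.mem_map_of_mem (hMA a r hr)
  have hztop : Submodule.span (Localization.AtPrime q.asIdeal) (Set.range (ι q.asIdeal N ∘ z)) = ⊤ := by
    have h := congrArg (Submodule.map (LocalizedModule.map q.asIdeal.primeCompl φ)) hMtop
    rw [Submodule.map_top, LinearMap.range_eq_top.2 (hbij hφ).2, Submodule.map_span, ← Set.range_comp] at h
    rw [← h]
    congr 1
    exact congrArg Set.range (funext fun i => (hmap (x i)).symm)
  have hzp := proper_of_span_eq_top (adm_of_filtration (q := q.asIdeal) z hzq) hNlen hztop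
  have hexp : Proper (R := Localization.AtPrime q.asIdeal) ex.1 := hexz ▸ hzp
  have heyp : Proper (R := Localization.AtPrime q.asIdeal) ey.1 := heyy ▸ hNp
  have hfull : ∀ e : Adm (Localization.AtPrime q.asIdeal) (LocalizedModule q.asIdeal.primeCompl N) _,
      Proper (R := Localization.AtPrime q.asIdeal) e.1 → Submodule.span (Localization.AtPrime q.asIdeal) (Set.range e.1) = ⊤ :=
    hfull_of_isFiniteLength hNfl
  obtain ⟨s, -, hs1, hs2⟩ := rel_of_proper hfull (Module.length (Localization.AtPrime q.asIdeal) (LocalizedModule q.asIdeal.primeCompl N)).toNat ex ey hexp heyp fun j hj => absurd hj (by omega)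
  have hf : f = s := smul_left_injective q.asIdeal.ResidueField (cls_ne_zero hNfl ey heyp)
    ((hsym.symm.trans hs1 :) : f • cls ey = s • cls ey)
  obtain ⟨n, hn, hn'⟩ := idx_eq_length z hNinj hzp hzq hztop
  obtain ⟨m, hm, hm'⟩ := idx_eq_length y hNinj hNp hNA hNtop
  have hm0 : m = 0 := by
    rw [hy] at hm
    haveI : Subsingleton (N ⧸ (⊤ : Submodule R N)) := Submodule.Quotient.subsingleton_iff.2 rfl
    rw [Module.length_eq_zero] at hm
    exact_mod_cast hm.symm
  have hr : LinearMap.range φ = Submodule.span R (Set.range z) := by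
    rw [hz, Set.range_comp, ← Submodule.map_span, hx, Submodule.map_top]
  refine ⟨n, by rw [← hn]; exact (Submodule.quotEquivOfEq _ _ hr).length_eq, ?_⟩
  rw [hexz, heyy, ← hn', ← hm', hm0, ← hf] at hs2
  show (n : ℤ) = oF q.asIdeal f
  simpa using hs2

end Groth.Agent.S1853
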