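import Groth.Statements.S18531
import Groth.Agent.L13.ParHilb.One

set_option autoImplicit false
universe u
open CategoryTheory CategoryTheory.Limits AlgebraicGeometry Polynomial
open ParSh

namespace Groth.Agent.S18531

/-- Semistability for the reduced parabolic Hilbert polynomial together with semistable flag quotients
gives semistability for the first modified polynomial. Let X be a scheme proper over a field k with
an ample invertible sheaf L, I the ideal of an effective Cartier divisor D on X, d ≥ 1, and E a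
nonzero coherent O_X-module, pure of dimension d, with Supp E ∩ Supp D of topological Krull
dimension less than d, carrying a finite weighted filtration 𝓔 along I by coherent pieces E = E₀ ⊇ ⋯
⊇ E_{l+1} = I·E, weights 0 ≤ w₀ < ⋯ < w_l < 1, w_{l+1} := 1. Let P be the Hilbert polynomial of E,
P_j that of E_j, H_j that of E/E_j with α_{d−1}(H_j) ≠ 0 for 1 ≤ j ≤ l+1, and Par_E = P_{l+1} + Σ_j
w_j (P_j − P_{j+1}); α_i(H) = i!·coefficient of degree i. Assume: (i) for every nonzero coherent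
sub-module W → E whose cokernel is pure of dimension d or zero, with its induced filtration and
Hilbert polynomials Q of W and Q_j of the pieces, Par_W(m)·α_d(P) ≤ Par_E(m)·α_d(Q) for all large
natural m; (ii) for 1 ≤ j ≤ l+1 the quotient E/E_j is semistable of dimension d − 1 with respect to
L (coherent, nonzero, pure, and for each nonzero proper coherent sub-module the cross-multiplied
comparison of Hilbert polynomials holds for large m). Then for every nonzero coherent sub-module ι :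
W → E, with induced filtration W_j = W ∩ E_j and Hilbert polynomials Q of W, Q_j of W_j and K_j of
W/W_j, one has par-P₁(W ⊂ E)(m)·α_d(P) ≤ Par_E(m)·α_d(Q) for all large natural m, where par-P₁(W ⊂
E) = Q − Σ_{j=1}^{l+1} (w_j − w_{j−1})·(α_{d−1}(K_j)/α_{d−1}(H_j))·H_j. Semistability in (i) is
tested on saturated sub-modules with the induced filtration, the class to which the general test
reduces. -/
theorem result (k : Type u) [Field k] (X : Scheme.{u})
    [X.Over (Spec (CommRingCat.of k))] [IsProper (X ↘ Spec (CommRingCat.of k))]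
    (L : X.Modules) (hL : CohB1.IsAmple L) (I : X.IdealSheafData) (hD : FGA.IsEffCartier I)
    (E : X.Modules) (hE : Coh.IsCoh E) (𝓔 : ParSh.Str E) (h𝓔 : 𝓔.Along I)
    (hcoh : ∀ j, Coh.IsCoh ((𝓔.pieceX j : Subobject E) : X.Modules)) (d : ℕ) (hd : 1 ≤ d)
    (hsupp : topologicalKrullDim ↥(CohB1.support E ∩ (I.support : Set X)) < (d : WithBot ℕ∞))
    (h0 : ¬ IsZero E) (hpure : ShStab.IsPure X E d)
    (P : ℚ[X]) (hP : ShStab.IsHilbPoly k X L E P) (PX : Fin (𝓔.l + 2) → ℚ[X])
    (hPX : ∀ j, ShStab.IsHilbPoly k X L ((𝓔.pieceX j : Subobject E) : X.Modules) (PX j))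
    (H : Fin (𝓔.l + 2) → ℚ[X]) (hH : ∀ j, ShStab.IsHilbPoly k X L (cokernel (𝓔.pieceX j).arrow) (H j))
    (hHa : ∀ j : Fin (𝓔.l + 1), StabCat.alpha (d - 1) (H j.succ) ≠ 0)
    (hss : (∀ (W : X.Modules) (ι : W ⟶ E), Mono ι → Coh.IsCoh W → ¬ IsZero W → ShStab.IsPure X (cokernel ι) d →
        ∀ (Q : ℚ[X]) (QX : Fin (𝓔.l + 2) → ℚ[X]), ShStab.IsHilbPoly k X L W Q →
          (∀ j, ShStab.IsHilbPoly k X L (((𝓔.induced ι).pieceX j : Subobject W) : X.Modules) (QX j)) →
          ∃ M : ℕ, ∀ m : ℕ, M ≤ m →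
            (W4swparbununimod.parPoly (𝓔.induced ι) QX).eval (m : ℝ) * (StabCat.alpha d P : ℝ) ≤
              (W4swparbununimod.parPoly 𝓔 PX).eval (m : ℝ) * (StabCat.alpha d Q : ℝ)))
    (hq : ∀ j : Fin (𝓔.l + 1), ShStab.IsSemistable k X L (cokernel (𝓔.pieceX j.succ).arrow) (d - 1))
    {W : X.Modules} (ι : W ⟶ E) [Mono ι] (hW : Coh.IsCoh W)
    (Q : ℚ[X]) (hQ : ShStab.IsHilbPoly k X L W Q) (QH : Fin (𝓔.l + 2) → ℚ[X])
    (hQH : ∀ j, ShStab.IsHilbPoly k X L (cokernel ((𝓔.induced ι).pieceX j).arrow) (QH j)) (hW0 : ¬ IsZero W) :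
    ∃ M : ℕ, ∀ m : ℕ, M ≤ m →
      (W4swparbununimod.parPolyOne 𝓔 d Q QH H).eval (m : ℝ) * (StabCat.alpha d P : ℝ) ≤
        (W4swparbununimod.parPoly 𝓔 PX).eval (m : ℝ) * (StabCat.alpha d Q : ℝ) := by
  obtain ⟨W', t, ι', _, _, Q', ht, hW', hQ', hαQ, hsat⟩ :=
    Groth.L13.ParHilb.exists_saturation_sub hL hE hpure ι hW hQ
  have hW'0 : ¬ IsZero W' := fun h => hW0 (IsZero.of_mono t h)
  choose QX' hQX' using fun j =>
    Groth.L13.ParHilb.exists_hilb' k hL (Groth.L13.ParHilb.isCoh_pieceX_induced k hE 𝓔 hcoh ι' hW' j)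
  have hQX := Groth.L13.ParHilb.hilb_piece_induced hL hE 𝓔 hcoh ι hW hQ QH hQH
  obtain ⟨M, hM⟩ := hss W' ι' inferInstance hW' hW'0 hsat Q' QX' hQ' hQX'
  have hαP : (0 : ℝ) ≤ (StabCat.alpha d P : ℝ) := by
    exact_mod_cast (Groth.L03.ShStab.Basic.alpha_pos_sub hL hpure (𝟙 E) hE h0 hP).le
  obtain ⟨N, hN⟩ := Filter.eventually_atTop.1
    ((Groth.L13.ParHilb.parPolyOne_le hL hE 𝓔 hcoh H hH hq ι hW (Q := Q) QH hQH).and
      (Groth.L13.ParHilb.parPoly_induced_mono hL hE 𝓔 hcoh t ι ι' ht hW hW' hQ hQ' _ QX' hQX hQX'))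
  refine ⟨max M N, fun m hm => ?_⟩
  obtain ⟨h1, h2⟩ := hN m (le_trans (le_max_right _ _) hm)
  have h3 := hM m (le_trans (le_max_left _ _) hm)
  rw [hαQ] at h3
  exact (mul_le_mul_of_nonneg_right (h1.trans h2) hαP).trans h3

end Groth.Agent.S18531
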