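import Groth.Statements.S18532
import Groth.Agent.L13.ParHilb.Basic

set_option autoImplicit false
universe u
open CategoryTheory CategoryTheory.Limits AlgebraicGeometry Polynomial
open ParSh

namespace Groth.Agent.S18532

/-- The comparison of the second and first modified parabolic Hilbert polynomials for one test subsheaf.
Let X be a scheme proper over a field k with an ample invertible sheaf L, I the ideal of an
effective Cartier divisor D on X, d ≥ 1, and E a nonzero coherent O_X-module, pure of dimension d,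
with Supp E ∩ Supp D of topological Krull dimension less than d, carrying a finite weighted
filtration 𝓔 along I by coherent pieces E = E₀ ⊇ ⋯ ⊇ E_{l+1} = I·E, weights 0 ≤ w₀ < ⋯ < w_l < 1,
w_{l+1} := 1. Let P be the Hilbert polynomial of E, P_j of E_j, H_j of E/E_j with α_{d−1}(H_j) ≠ 0
for 1 ≤ j ≤ l+1, and Par_E = P_{l+1} + Σ_j w_j (P_j − P_{j+1}). Let ι : W → E be a monomorphism from
a coherent module W with induced filtration W_j = W ∩ E_j, Q the Hilbert polynomial of W and K_j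
that of W/W_j; put par-P₁(W ⊂ E) = Q − Σ_{j=1}^{l+1} (w_j − w_{j−1})·(α_{d−1}(K_j)/α_{d−1}(H_j))·H_j
and par-P₂(W ⊂ E)(x, y) = Q(x) − Σ_{j=1}^{l+1} (w_j − w_{j−1})·(K_j(y)/H_j(y))·H_j(x). Then: (i) if
there is M such that for every m ≥ M there is N with par-P₂(W ⊂ E)(m, n)·P(n) ≤ Par_E(m)·Q(n) for
all n ≥ N, then par-P₁(W ⊂ E)(m)·α_d(P) ≤ Par_E(m)·α_d(Q) for all large m; (ii) if par-P₁(W ⊂
E)(m)·α_d(P) < Par_E(m)·α_d(Q) for all large m, then there is M such that for every m ≥ M there is N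
with par-P₂(W ⊂ E)(m, n)·P(n) < Par_E(m)·Q(n) for all n ≥ N. With W running over the nonzero
saturated (proper) sub-modules this is the published implication p₂-semistable ⇒ p₁-semistable,
p₁-stable ⇒ p₂-stable; the further implications to and from parabolic slope-(semi)stability in the
published statement are not part of this row. -/
theorem result (k : Type u) [Field k] (X : Scheme.{u})
    [X.Over (Spec (CommRingCat.of k))] [IsProper (X ↘ Spec (CommRingCat.of k))]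
    (L : X.Modules) (hL : CohB1.IsAmple L) (I : X.IdealSheafData) (hD : FGA.IsEffCartier I)
    (E : X.Modules) (hE : Coh.IsCoh E) (𝓔 : ParSh.Str E) (h𝓔 : 𝓔.Along I)
    (hcoh : ∀ j, Coh.IsCoh ((𝓔.pieceX j : Subobject E) : X.Modules)) (d : ℕ) (hd : 1 ≤ d)
    (hsupp : topologicalKrullDim ↥(CohB1.support E ∩ (I.support : Set X)) < (d : WithBot ℕ∞))
    (h0 : ¬ IsZero E) (hpure : ShStab.IsPure X E d)
    (P : ℚ[X]) (hP : ShStab.IsHilbPoly k X L E P) (PX : Fin (𝓔.l + 2) → ℚ[X])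
    (hPX : ∀ j, ShStab.IsHilbPoly k X L ((𝓔.pieceX j : Subobject E) : X.Modules) (PX j))
    (H : Fin (𝓔.l + 2) → ℚ[X]) (hH : ∀ j, ShStab.IsHilbPoly k X L (cokernel (𝓔.pieceX j).arrow) (H j))
    (hHa : ∀ j : Fin (𝓔.l + 1), StabCat.alpha (d - 1) (H j.succ) ≠ 0)
    {W : X.Modules} (ι : W ⟶ E) [Mono ι] (hW : Coh.IsCoh W)
    (Q : ℚ[X]) (hQ : ShStab.IsHilbPoly k X L W Q) (QH : Fin (𝓔.l + 2) → ℚ[X])
    (hQH : ∀ j, ShStab.IsHilbPoly k X L (cokernel ((𝓔.induced ι).pieceX j).arrow) (QH j)) :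
    ((∃ M : ℕ, ∀ m : ℕ, M ≤ m → ∃ N : ℕ, ∀ n : ℕ, N ≤ n →
        (((Q.eval (m : ℚ) : ℚ) : ℝ) -
            ∑ j : Fin (𝓔.l + 1), (𝓔.wtX j.succ - 𝓔.wtX j.castSucc) *
              ((((QH j.succ).eval (n : ℚ) / (H j.succ).eval (n : ℚ) : ℚ) : ℝ) * (((H j.succ).eval (m : ℚ) : ℚ) : ℝ))) *
          ((P.eval (n : ℚ) : ℚ) : ℝ) ≤
        (W4swparbununimod.parPoly 𝓔 PX).eval (m : ℝ) * ((Q.eval (n : ℚ) : ℚ) : ℝ)) →
      ∃ M : ℕ, ∀ m : ℕ, M ≤ m →
        (W4swparbununimod.parPolyOne 𝓔 d Q QH H).eval (m : ℝ) * (StabCat.alpha d P : ℝ) ≤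
          (W4swparbununimod.parPoly 𝓔 PX).eval (m : ℝ) * (StabCat.alpha d Q : ℝ)) ∧
    ((∃ M : ℕ, ∀ m : ℕ, M ≤ m →
        (W4swparbununimod.parPolyOne 𝓔 d Q QH H).eval (m : ℝ) * (StabCat.alpha d P : ℝ) <
          (W4swparbununimod.parPoly 𝓔 PX).eval (m : ℝ) * (StabCat.alpha d Q : ℝ)) →
      ∃ M : ℕ, ∀ m : ℕ, M ≤ m → ∃ N : ℕ, ∀ n : ℕ, N ≤ n →
        (((Q.eval (m : ℚ) : ℚ) : ℝ) -
            ∑ j : Fin (𝓔.l + 1), (𝓔.wtX j.succ - 𝓔.wtX j.castSucc) *
              ((((QH j.succ).eval (n : ℚ) / (H j.succ).eval (n : ℚ) : ℚ) : ℝ) * (((H j.succ).eval (m : ℚ) : ℚ) : ℝ))) *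
          ((P.eval (n : ℚ) : ℚ) : ℝ) <
        (W4swparbununimod.parPoly 𝓔 PX).eval (m : ℝ) * ((Q.eval (n : ℚ) : ℚ) : ℝ)) := by
  have hcW := Groth.L13.ParHilb.isCoh_pieceX_induced k hE 𝓔 hcoh ι hW
  have hsK : ∀ j, topologicalKrullDim (CohB1.support (cokernel ((𝓔.induced ι).pieceX j).arrow)) ≤ ((d - 1 : ℕ) : WithBot ℕ∞) :=
    fun j => Groth.L13.ParHilb.dim_quot_le
      ((Groth.L13.ParHilb.support_cokernel_induced 𝓔 ι j).trans (Groth.L13.ParHilb.support_cokernel_pieceX h𝓔 j)) hsupp hd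
  have hKd : ∀ j, (QH j).natDegree ≤ d - 1 := fun j =>
    Groth.L03.ShStab.Basic.natDegree_le (k := k) hL.1 (Groth.L13.ParHilb.isCoh_cokernel k hW (hcW j)) (hsK j) (hQH j)
  have hHd : ∀ j, (H j).natDegree ≤ d - 1 := fun j =>
    Groth.L03.ShStab.Basic.natDegree_le (k := k) hL.1 (Groth.L13.ParHilb.isCoh_cokernel k hE (hcoh j))
      (Groth.L13.ParHilb.dim_quot_le (Groth.L13.ParHilb.support_cokernel_pieceX h𝓔 j) hsupp hd) (hH j)
  have hdE := Groth.L03.ShStab.Basic.dim_le_of_isPure hE hpure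
  have hPd := Groth.L03.ShStab.Basic.natDegree_le (k := k) hL.1 hE hdE hP
  have hQd := Groth.L03.ShStab.Basic.natDegree_le (k := k) hL.1 hW (Groth.L03.ShStab.Basic.dim_sub_le ι hdE) hQ
  have hdeg : ∀ (R : ℚ[X]), (W4swparbununimod.rpoly R).natDegree ≤ R.natDegree := fun R => Polynomial.natDegree_map_le
  have hev : ∀ (R : ℚ[X]) (n : ℕ), (W4swparbununimod.rpoly R).eval (n : ℝ) = ((R.eval (n : ℚ) : ℚ) : ℝ) := fun R n => by
    rw [Polynomial.eval_map, ← map_natCast (Rat.castHom ℝ) n, Polynomial.eval₂_at_apply]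
    rfl
  have hlim : ∀ (R : ℚ[X]) (e : ℕ), R.natDegree ≤ e → Filter.Tendsto (fun n : ℕ => ((R.eval (n : ℚ) : ℚ) : ℝ) / (n : ℝ) ^ e)
      Filter.atTop (nhds (R.coeff e : ℝ)) := fun R e he => by
    have := Groth.L13.ParHilb.tendsto_eval_div_pow ((hdeg R).trans he)
    simp only [hev, Polynomial.coeff_map, eq_ratCast] at this
    exact this
  have hne : ∀ j : Fin (𝓔.l + 1), ((H j.succ).coeff (d - 1) : ℝ) ≠ 0 := fun j h => hHa j (by
    simp only [StabCat.alpha, Rat.cast_eq_zero.1 h, mul_zero])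
  let c : Fin (𝓔.l + 1) → ℝ := fun j => ((StabCat.alpha (d - 1) (QH j.succ) / StabCat.alpha (d - 1) (H j.succ) : ℚ) : ℝ)
  have hratio : ∀ j : Fin (𝓔.l + 1), Filter.Tendsto
      (fun n : ℕ => (((QH j.succ).eval (n : ℚ) / (H j.succ).eval (n : ℚ) : ℚ) : ℝ)) Filter.atTop (nhds (c j)) := by
    intro j
    have h := (hlim _ _ (hKd j.succ)).div (hlim _ _ (hHd j.succ)) (hne j)
    have hc : c j = ((QH j.succ).coeff (d - 1) : ℝ) / ((H j.succ).coeff (d - 1) : ℝ) := by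
      simp only [c, StabCat.alpha]
      push_cast
      exact mul_div_mul_left _ _ (Nat.cast_ne_zero.2 (Nat.factorial_ne_zero _))
    rw [hc]
    refine h.congr' ?_
    filter_upwards [Filter.eventually_ne_atTop 0] with n hn
    rw [Rat.cast_div]
    exact div_div_div_cancel_right₀ (pow_ne_zero _ (Nat.cast_ne_zero.2 hn)) _ _
  set B := W4swparbununimod.parPoly 𝓔 PX
  let A : ℕ → ℝ := fun m => ((Q.eval (m : ℚ) : ℚ) : ℝ) -
    ∑ j : Fin (𝓔.l + 1), (𝓔.wtX j.succ - 𝓔.wtX j.castSucc) * (c j * (((H j.succ).eval (m : ℚ) : ℚ) : ℝ))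
  have hA : ∀ m : ℕ, (W4swparbununimod.parPolyOne 𝓔 d Q QH H).eval (m : ℝ) = A m := fun m => by
    simp only [W4swparbununimod.parPolyOne, Polynomial.eval_sub, Polynomial.eval_finsetSum, Polynomial.eval_mul,
      Polynomial.eval_C, hev, A, c, mul_assoc]
  have key : ∀ m : ℕ, Filter.Tendsto (fun n : ℕ =>
      ((((Q.eval (m : ℚ) : ℚ) : ℝ) -
        ∑ j : Fin (𝓔.l + 1), (𝓔.wtX j.succ - 𝓔.wtX j.castSucc) *
          ((((QH j.succ).eval (n : ℚ) / (H j.succ).eval (n : ℚ) : ℚ) : ℝ) * (((H j.succ).eval (m : ℚ) : ℚ) : ℝ))) *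
        ((P.eval (n : ℚ) : ℚ) : ℝ) - B.eval (m : ℝ) * ((Q.eval (n : ℚ) : ℚ) : ℝ)) / (n : ℝ) ^ d)
      Filter.atTop (nhds (A m * (P.coeff d : ℝ) - B.eval (m : ℝ) * (Q.coeff d : ℝ))) := by
    intro m
    have h1 := ((tendsto_const_nhds (x := ((Q.eval (m : ℚ) : ℚ) : ℝ)) (f := Filter.atTop (α := ℕ))).sub
      (tendsto_finsetSum Finset.univ fun j _ => ((hratio j).mul_const (((H j.succ).eval (m : ℚ) : ℚ) : ℝ)).const_mul
        (𝓔.wtX j.succ - 𝓔.wtX j.castSucc))).mul (hlim P d hPd)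
    have h2 := h1.sub ((hlim Q d hQd).const_mul (B.eval (m : ℝ)))
    refine h2.congr fun n => ?_
    ring
  have halpha : ∀ (R : ℚ[X]), (StabCat.alpha d R : ℝ) = (d.factorial : ℝ) * (R.coeff d : ℝ) := fun R => by
    simp [StabCat.alpha]
  have hfac : (0 : ℝ) < (d.factorial : ℝ) := Nat.cast_pos.2 (Nat.factorial_pos d)
  constructor
  · rintro ⟨M, hM⟩
    refine ⟨M, fun m hm => ?_⟩
    obtain ⟨N, hN⟩ := hM m hm
    have h : A m * (P.coeff d : ℝ) - B.eval (m : ℝ) * (Q.coeff d : ℝ) ≤ 0 := by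
      refine le_of_tendsto (key m) ?_
      filter_upwards [Filter.eventually_ge_atTop N] with n hn
      exact div_nonpos_of_nonpos_of_nonneg (by linarith [hN n hn]) (pow_nonneg (Nat.cast_nonneg n) d)
    rw [hA, halpha, halpha]
    nlinarith
  · rintro ⟨M, hM⟩
    refine ⟨M, fun m hm => ?_⟩
    have h := hM m hm
    rw [hA, halpha, halpha] at h
    have h' : A m * (P.coeff d : ℝ) - B.eval (m : ℝ) * (Q.coeff d : ℝ) < 0 := by nlinarith
    obtain ⟨N, hN⟩ := Filter.eventually_atTop.1 ((key m).eventually_lt_const h')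
    refine ⟨max N 1, fun n hn => ?_⟩
    have hn' : (0 : ℝ) < (n : ℝ) ^ d := pow_pos (Nat.cast_pos.2 (le_trans (le_max_right N 1) hn)) d
    have := hN n (le_trans (le_max_left N 1) hn)
    rw [div_lt_iff₀ hn', zero_mul] at this
    linarith

end Groth.Agent.S18532
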