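import Groth.Statements.S18534
import Groth.Agent.L28.CplGalois.Field
import Groth.Agent.L28.CplGalois.Span
import Mathlib.RingTheory.IsGaloisGroup.Basic
import Mathlib.FieldTheory.Galois.IsGaloisGroup

set_option autoImplicit false
set_option maxHeartbeats 2000000
set_option linter.style.haveILetI false
universe u
open EtAlg
open scoped Pointwise

namespace Groth.Agent.S18534

/-- Let R be a normal domain which is excellent and S a normal domain containing R on which a finite
group G acts by R-algebra automorphisms, faithfully and with ring of invariants exactly R (so S is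
the integral closure of R in a finite Galois extension of Frac R with group G), Q a prime of S lying
over the prime P of R, and D the decomposition group of Q (the stabilizer of Q in G). Equip the
completion of the local ring S_Q with an action of D by ring automorphisms extending the action of D
on S, and with an algebra structure over the completion of R_P compatible with R → S (both exist and
are unique, by density and continuity). Then D is a Galois group for the completed extension: it
acts faithfully, linearly over the completion of R_P, and its ring of invariants is exactly the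
image of the completion of R_P; equivalently the extension of fraction fields of the completed local
rings is Galois with group D. (Only the completions of the local rings R_P and S_Q are treated. For
the P-adic completion of R itself and the Q-adic completion of S the analogous finiteness fails:
with R = k[x,y], S = k[y,t], t² = x + y², char k ≠ 2 and Q = (t − y) over P = (x), the Q-adic
completion k[y][[t − y]] is not finite over the (x)-adic completion k[y][[x]] and their fraction
fields form an extension of infinite degree.) -/
theorem result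
    (R S G : Type u) [CommRing R] [CommRing S] [IsDomain R] [IsDomain S]
    [IsIntegrallyClosed R] [IsIntegrallyClosed S] (hR : EGA4.IsExcellent R)
    [Algebra R S] [FaithfulSMul R S]
    [Group G] [Finite G] [MulSemiringAction G S] [SMulCommClass G R S] [IsGaloisGroup G R S]
    (P : Ideal R) [P.IsPrime] (Q : Ideal S) [Q.IsPrime] [Q.LiesOver P]
    [MulSemiringAction (MulAction.stabilizer G Q) (EGA4.Cpl (Localization.AtPrime Q))]
    (hact : ∀ (g : MulAction.stabilizer G Q) (s : S),
      g • algebraMap (Localization.AtPrime Q) (EGA4.Cpl (Localization.AtPrime Q)) (algebraMap S (Localization.AtPrime Q) s) =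
        algebraMap (Localization.AtPrime Q) (EGA4.Cpl (Localization.AtPrime Q)) (algebraMap S (Localization.AtPrime Q) (g • s)))
    [Algebra (EGA4.Cpl (Localization.AtPrime P)) (EGA4.Cpl (Localization.AtPrime Q))]
    (halg : ∀ r : R,
      algebraMap (EGA4.Cpl (Localization.AtPrime P)) (EGA4.Cpl (Localization.AtPrime Q)) (algebraMap (Localization.AtPrime P) (EGA4.Cpl (Localization.AtPrime P)) (algebraMap R (Localization.AtPrime P) r)) =
        algebraMap (Localization.AtPrime Q) (EGA4.Cpl (Localization.AtPrime Q)) (algebraMap S (Localization.AtPrime Q) (algebraMap R S r))) :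
    IsGaloisGroup (MulAction.stabilizer G Q) (EGA4.Cpl (Localization.AtPrime P)) (EGA4.Cpl (Localization.AtPrime Q)) := by
  classical
  haveI : IsNoetherianRing R := hR.1
  haveI : Algebra.IsInvariant R S G := ‹IsGaloisGroup G R S›.isInvariant
  haveI : Algebra.IsIntegral R S := Algebra.IsInvariant.isIntegral R S G
  letI := IsFractionRing.mulSemiringAction G S (FractionRing S)
  letI : Algebra (FractionRing R) (FractionRing S) := FractionRing.liftAlgebra R (FractionRing S)
  haveI := IsGaloisGroup.isGalois G (FractionRing R) (FractionRing S)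
  haveI := IsGaloisGroup.finiteDimensional G (FractionRing R) (FractionRing S)
  haveI : IsIntegralClosure S R (FractionRing S) :=
    IsIntegralClosure.of_isIntegrallyClosed S R (FractionRing S)
  haveI hfin : Module.Finite R S := IsIntegralClosure.finite R (FractionRing R) (FractionRing S) S
  haveI : IsNoetherianRing S := isNoetherian_of_tower R inferInstance
  obtain ⟨_, _, _⟩ := Groth.L28.CplUnram.completion_normal_domain hR R P (Localization.AtPrime P)
  obtain ⟨_, _, _⟩ := Groth.L28.CplUnram.completion_normal_domain hR S Q (Localization.AtPrime Q)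
  haveI : IsNoetherianRing (EGA4.Cpl (Localization.AtPrime P)) :=
    Groth.L01.AnalUnram.isNoetherianRing_completion (Localization.AtPrime P)
  haveI : IsNoetherianRing (EGA4.Cpl (Localization.AtPrime Q)) :=
    Groth.L01.AnalUnram.isNoetherianRing_completion (Localization.AtPrime Q)
  haveI : IsLocalRing (EGA4.Cpl (Localization.AtPrime P)) :=
    AdicCompletion.isLocalRing_of_fg (IsNoetherian.noetherian _)
  haveI : IsLocalRing (EGA4.Cpl (Localization.AtPrime Q)) :=
    AdicCompletion.isLocalRing_of_fg (IsNoetherian.noetherian _)
  let θ := algebraMap (EGA4.Cpl (Localization.AtPrime P)) (EGA4.Cpl (Localization.AtPrime Q))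
  let ofP := algebraMap (Localization.AtPrime P) (EGA4.Cpl (Localization.AtPrime P))
  let ofQ := algebraMap (Localization.AtPrime Q) (EGA4.Cpl (Localization.AtPrime Q))
  have hsmulR : ∀ (g : MulAction.stabilizer G Q) (r : R),
      g • ofQ (algebraMap S _ (algebraMap R S r)) = ofQ (algebraMap S _ (algebraMap R S r)) := fun g r =>
    (hact g _).trans (by rw [Subgroup.smul_def, smul_algebraMap])
  -- the action fixes the image of `R_P`
  have hsmulP : ∀ (g : MulAction.stabilizer G Q) (x : Localization.AtPrime P), g • θ (ofP x) = θ (ofP x) := by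
    intro g
    refine RingHom.congr_fun (IsLocalization.ringHom_ext P.primeCompl (RingHom.ext fun r => ?_)
      : ((MulSemiringAction.toRingHom _ (EGA4.Cpl (Localization.AtPrime Q)) g).comp (θ.comp ofP)) = θ.comp ofP)
    show g • θ (ofP (algebraMap R _ r)) = θ (ofP (algebraMap R _ r))
    simp only [θ, ofP, halg]
    exact hsmulR g r
  -- the map of completions is local
  have hm : (IsLocalRing.maximalIdeal (EGA4.Cpl (Localization.AtPrime P))).map θ ≤
      IsLocalRing.maximalIdeal (EGA4.Cpl (Localization.AtPrime Q)) := by
    have e : IsLocalRing.maximalIdeal (EGA4.Cpl (Localization.AtPrime P)) =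
        (IsLocalRing.maximalIdeal (Localization.AtPrime P)).map ofP :=
      (Groth.L01.AnalUnram.completion_map_maximalIdeal (Localization.AtPrime P)).symm
    rw [e, Ideal.map_map, Ideal.map_le_iff_le_comap]
    refine (IsLocalization.AtPrime.map_eq_maximalIdeal P (Localization.AtPrime P)).ge.trans
      (Ideal.map_le_iff_le_comap.2 fun r hr => ?_)
    rw [Ideal.mem_comap, Ideal.mem_comap]
    show θ (ofP (algebraMap R _ r)) ∈ _
    simp only [θ, ofP, halg]
    rw [← (Groth.L01.AnalUnram.completion_map_maximalIdeal (Localization.AtPrime Q))]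
    refine Ideal.mem_map_of_mem _ ((IsLocalization.AtPrime.to_map_mem_maximal_iff _ Q _).2 ?_)
    rwa [← Ideal.mem_comap, ← Ideal.under, ← Ideal.LiesOver.over (P := Q) (p := P)]
  -- the action fixes the image of the completion
  have hcomm : ∀ (g : MulAction.stabilizer G Q) (x : EGA4.Cpl (Localization.AtPrime P)), g • θ x = θ x := by
    intro g x
    rw [← sub_eq_zero, ← Ideal.mem_bot, ← Ideal.iInf_pow_eq_bot_of_isLocalRing
      (IsLocalRing.maximalIdeal (EGA4.Cpl (Localization.AtPrime Q))) (Ideal.IsMaximal.ne_top inferInstance),
      Submodule.mem_iInf]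
    intro n
    obtain ⟨r, hr⟩ : ∃ r : Localization.AtPrime P,
        x - ofP r ∈ IsLocalRing.maximalIdeal (EGA4.Cpl (Localization.AtPrime P)) ^ n := by
      obtain ⟨x', rfl⟩ := AdicCompletion.mk_surjective _ _ x
      refine ⟨x'.1 n, ?_⟩
      have h : AdicCompletion.mk _ _ x' - ofP (x'.1 n) ∈
          (IsLocalRing.maximalIdeal (Localization.AtPrime P) ^ n • ⊤ :
            Submodule (Localization.AtPrime P) (EGA4.Cpl (Localization.AtPrime P))) := by
        rw [AdicCompletion.pow_smul_top_eq_ker_eval (IsNoetherian.noetherian _), LinearMap.mem_ker, map_sub,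
          sub_eq_zero]
        rfl
      rw [Ideal.smul_top_eq_map, Submodule.restrictScalars_mem, Ideal.map_pow] at h
      rwa [Groth.L01.AnalUnram.completion_map_maximalIdeal] at h
    have h1 : θ (x - ofP r) ∈ IsLocalRing.maximalIdeal (EGA4.Cpl (Localization.AtPrime Q)) ^ n := by
      have := Ideal.mem_map_of_mem θ hr
      rw [Ideal.map_pow] at this
      exact Ideal.pow_right_mono hm n this
    have h2 : g • θ (x - ofP r) ∈ IsLocalRing.maximalIdeal (EGA4.Cpl (Localization.AtPrime Q)) ^ n := by
      have hgm : (IsLocalRing.maximalIdeal (EGA4.Cpl (Localization.AtPrime Q))).map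
          (MulSemiringAction.toRingHom _ (EGA4.Cpl (Localization.AtPrime Q)) g) ≤ IsLocalRing.maximalIdeal _ :=
        Ideal.map_le_iff_le_comap.2 fun y hy hu => hy (by
          have := hu.map (MulSemiringAction.toRingHom _ (EGA4.Cpl (Localization.AtPrime Q)) g⁻¹)
          simpa using this)
      have := Ideal.mem_map_of_mem (MulSemiringAction.toRingHom _ (EGA4.Cpl (Localization.AtPrime Q)) g) h1
      rw [Ideal.map_pow] at this
      exact Ideal.pow_right_mono hgm n this
    have := sub_mem h2 h1
    rwa [map_sub, smul_sub, hsmulP, sub_sub_sub_cancel_right] at this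
  haveI : SMulCommClass (MulAction.stabilizer G Q) (EGA4.Cpl (Localization.AtPrime P))
      (EGA4.Cpl (Localization.AtPrime Q)) := ⟨fun g x y => by
    rw [Algebra.smul_def, Algebra.smul_def, smul_mul', hcomm]⟩
  -- finiteness
  obtain ⟨n, f, hf⟩ := Module.Finite.exists_fin' R S
  have hc : ∀ s : S, ∃ g : Fin n → R, ∑ i, g i • f (Pi.single i 1) = s := fun s => by
    obtain ⟨g, rfl⟩ := hf s
    refine ⟨g, ?_⟩
    conv_rhs => rw [pi_eq_sum_univ' g, map_sum]
    simp [map_smul]
  have hΦ := Groth.L28.CplGalois.completion_spanned P Q halg n _ hc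
  haveI : Module.Finite (EGA4.Cpl (Localization.AtPrime P)) (EGA4.Cpl (Localization.AtPrime Q)) :=
    Module.Finite.of_surjective _ hΦ
  -- injectivity
  haveI : FaithfulSMul (EGA4.Cpl (Localization.AtPrime P)) (EGA4.Cpl (Localization.AtPrime Q)) := by
    rw [faithfulSMul_iff_algebraMap_injective]
    refine Groth.L28.CplGalois.injective_of_dim ?_ ringKrullDim_lt_top
    refine (Groth.L01.CompletionReg.ringKrullDim_completion (Localization.AtPrime P)).trans_le
      (le_of_le_of_eq ?_ (Groth.L01.CompletionReg.ringKrullDim_completion (Localization.AtPrime Q)).symm)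
    rw [IsLocalization.AtPrime.ringKrullDim_eq_height P (Localization.AtPrime P),
      IsLocalization.AtPrime.ringKrullDim_eq_height Q (Localization.AtPrime Q),
      Ideal.height_eq_height_add_of_liesOver_of_hasGoingDown P Q]
    exact WithBot.coe_le_coe.2 le_self_add
  let F := FractionRing (EGA4.Cpl (Localization.AtPrime P))
  let L := FractionRing (EGA4.Cpl (Localization.AtPrime Q))
  letI : Algebra F L := FractionRing.liftAlgebra _ L
  haveI : IsScalarTower R F L := IsScalarTower.of_algebraMap_eq fun r => by
    rw [IsScalarTower.algebraMap_apply R (EGA4.Cpl (Localization.AtPrime Q)) L,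
      IsScalarTower.algebraMap_apply R (EGA4.Cpl (Localization.AtPrime P)) F,
      ← IsScalarTower.algebraMap_apply (EGA4.Cpl (Localization.AtPrime P)) F L,
      IsScalarTower.algebraMap_apply (EGA4.Cpl (Localization.AtPrime P)) (EGA4.Cpl (Localization.AtPrime Q)) L]
    exact congrArg _ (halg r).symm
  have hofQ : Function.Injective (fun s : S => ofQ (algebraMap S _ s)) :=
    (AdicCompletion.of_injective (IsLocalRing.maximalIdeal (Localization.AtPrime Q)) _).comp
      (IsLocalization.injective _ Q.primeCompl_le_nonZeroDivisors)
  have hofP : Function.Injective (algebraMap R F) :=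
    (IsFractionRing.injective (EGA4.Cpl (Localization.AtPrime P)) F).comp
      ((AdicCompletion.of_injective (IsLocalRing.maximalIdeal (Localization.AtPrime P)) _).comp
        (IsLocalization.injective _ P.primeCompl_le_nonZeroDivisors))
  let j : S →ₐ[R] L :=
    { (algebraMap (EGA4.Cpl (Localization.AtPrime Q)) L).comp (ofQ.comp (algebraMap S (Localization.AtPrime Q))) with
      commutes' := fun r => rfl }
  -- the image of `S` spans
  have hspan : Submodule.span F (Set.range j) = ⊤ := by
    haveI : Algebra.IsAlgebraic F L := isAlgebraic_of_isFractionRing (EGA4.Cpl (Localization.AtPrime P)) (EGA4.Cpl (Localization.AtPrime Q)) F L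
    let B := Algebra.adjoin F (Set.range j)
    have hB : B.toSubmodule = Submodule.span F (Set.range j) := by
      rw [Algebra.adjoin_eq_span]
      congr 1
      exact congrArg SetLike.coe (Submonoid.closure_eq (MonoidHom.mrange (j : S →* L)))
    have hC : ∀ y, algebraMap (EGA4.Cpl (Localization.AtPrime Q)) L y ∈ B := fun y => by
      obtain ⟨r, rfl⟩ := hΦ y
      rw [Fintype.linearCombination_apply, map_sum]
      refine sum_mem fun i _ => ?_
      rw [Algebra.smul_def, map_mul, ← IsScalarTower.algebraMap_apply,
        IsScalarTower.algebraMap_apply (EGA4.Cpl (Localization.AtPrime P)) F L]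
      exact mul_mem (B.algebraMap_mem _) (Algebra.subset_adjoin ⟨_, rfl⟩)
    rw [← hB, eq_top_iff]
    intro x _
    obtain ⟨a, b, hb, rfl⟩ := IsFractionRing.div_surjective (EGA4.Cpl (Localization.AtPrime Q)) x
    rw [div_eq_mul_inv, Subalgebra.mem_toSubmodule]
    refine mul_mem (hC a) ?_
    exact B.inv_mem_of_algebraic (x := ⟨_, hC b⟩) (Algebra.IsAlgebraic.isAlgebraic _)
  -- a basis from `S`
  obtain ⟨T, hT, hTspan, hTli⟩ := exists_linearIndependent (FractionRing R)
    (Set.range (algebraMap S (FractionRing S)))
  have hTtop : Submodule.span (FractionRing R) T = ⊤ := by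
    rw [hTspan, eq_top_iff]
    intro x _
    obtain ⟨d, hd, hint⟩ := IsAlgebraic.exists_integral_multiple
      ((IsFractionRing.isAlgebraic_iff R (FractionRing R) (FractionRing S)).2
        (Algebra.IsAlgebraic.isAlgebraic x))
    obtain ⟨s, hs⟩ := (IsIntegralClosure.isIntegral_iff (A := S)).1 hint
    have hd' : algebraMap R (FractionRing R) d ≠ 0 := IsFractionRing.to_map_eq_zero_iff.not.2 hd
    rw [show x = (algebraMap R (FractionRing R) d)⁻¹ • algebraMap S (FractionRing S) s by
      rw [hs, ← algebraMap_smul (FractionRing R) d x, inv_smul_smul₀ hd']]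
    exact Submodule.smul_mem _ _ (Submodule.subset_span ⟨s, rfl⟩)
  let bas := Module.Basis.mk hTli (by rw [Subtype.range_coe, hTtop])
  haveI : Fintype T := FiniteDimensional.fintypeBasisIndex bas
  choose b hb using fun i : T => hT i.2
  have hbbas : ∀ i, algebraMap S (FractionRing S) (b i) = bas i := fun i => by
    rw [hb, Module.Basis.mk_apply]
  have hdeg := Groth.L28.CplGalois.finrank_le_card (F := F) j hspan b
    (by rw [IsGaloisGroup.card_eq_finrank G (FractionRing R) (FractionRing S),
      Module.finrank_eq_card_basis bas])
    (fun s => by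
      obtain ⟨⟨d, hd⟩, hd'⟩ := IsLocalization.exist_integer_multiples_of_finite (nonZeroDivisors R)
        (fun i : T => bas.repr (algebraMap S (FractionRing S) s) i)
      choose a ha using hd'
      refine ⟨d, (map_ne_zero_iff _ hofP).2 (nonZeroDivisors.ne_zero hd), ?_⟩
      have : d • s = ∑ i, a i • b i := by
        apply IsFractionRing.injective S (FractionRing S)
        rw [map_sum, Algebra.smul_def, map_mul, ← IsScalarTower.algebraMap_apply, ← Algebra.smul_def]
        conv_lhs => rw [← bas.sum_repr (algebraMap S (FractionRing S) s)]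
        rw [Finset.smul_sum]
        refine Finset.sum_congr rfl fun i _ => ?_
        rw [Algebra.smul_def (a i), map_mul, ← IsScalarTower.algebraMap_apply, hbbas, ← smul_assoc,
          IsScalarTower.algebraMap_apply R (FractionRing R) (FractionRing S), ha i, ← Algebra.smul_def]
      rw [this]
      exact sum_mem fun i _ => Submodule.smul_mem _ _ (Submodule.subset_span ⟨i, rfl⟩))
    (MulAction.stabilizer G Q)
    (fun g σ hσ => by
      haveI : IsIntegralClosure (EGA4.Cpl (Localization.AtPrime Q)) (EGA4.Cpl (Localization.AtPrime P)) L :=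
        IsIntegralClosure.of_isIntegrallyClosed _ _ L
      haveI : Algebra.IsAlgebraic F L :=
        isAlgebraic_of_isFractionRing (EGA4.Cpl (Localization.AtPrime P)) (EGA4.Cpl (Localization.AtPrime Q)) F L
      let σ' : L ≃ₐ[F] L := AlgEquiv.ofBijective σ (Algebra.IsAlgebraic.algHom_bijective σ)
      let τ := galRestrict (EGA4.Cpl (Localization.AtPrime P)) F L (EGA4.Cpl (Localization.AtPrime Q)) σ'
      have hτ : ∀ s, τ (ofQ (algebraMap S _ s)) = ofQ (algebraMap S _ (g • s)) := fun s => by
        apply IsFractionRing.injective (EGA4.Cpl (Localization.AtPrime Q)) L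
        rw [algebraMap_galRestrict_apply]
        exact hσ s
      have hunit : ∀ s, IsUnit (ofQ (algebraMap S _ s)) ↔ s ∉ Q := fun s => by
        rw [← not_iff_not, not_not]
        refine Iff.trans ?_ (IsLocalization.AtPrime.to_map_mem_maximal_iff (Localization.AtPrime Q) Q s)
        show algebraMap _ _ (algebraMap S _ s) ∈ IsLocalRing.maximalIdeal (EGA4.Cpl (Localization.AtPrime Q)) ↔ _
        refine ⟨fun h hu => h (hu.map _), fun h => ?_⟩
        rw [← Groth.L01.AnalUnram.completion_map_maximalIdeal]
        exact Ideal.mem_map_of_mem _ h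
      rw [MulAction.mem_stabilizer_iff]
      ext s
      rw [Ideal.mem_pointwise_smul_iff_inv_smul_mem, ← not_iff_not, ← hunit, ← hunit]
      conv_rhs => rw [← smul_inv_smul g s, ← hτ, isUnit_map_iff])
  obtain ⟨_, hdeg⟩ := hdeg
  -- Galois theory of the fraction fields
  letI := IsFractionRing.mulSemiringAction (MulAction.stabilizer G Q) (EGA4.Cpl (Localization.AtPrime Q)) L
  haveI hf1 : FaithfulSMul (MulAction.stabilizer G Q) (EGA4.Cpl (Localization.AtPrime Q)) := ⟨fun {g g'} h => by
    apply Subtype.ext
    haveI := ‹IsGaloisGroup G R S›.faithful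
    refine eq_of_smul_eq_smul fun s : S => hofQ ?_
    show ofQ _ = ofQ _
    have := h (ofQ (algebraMap S _ s))
    simp only [ofQ, hact] at this
    exact this⟩
  haveI : FaithfulSMul (MulAction.stabilizer G Q) L :=
    IsFractionRing.faithfulSMul _ (EGA4.Cpl (Localization.AtPrime Q)) L
  haveI : SMulCommClass (MulAction.stabilizer G Q) F L :=
    IsFractionRing.smulCommClass _ (EGA4.Cpl (Localization.AtPrime P)) (EGA4.Cpl (Localization.AtPrime Q)) F L
  haveI : IsGaloisGroup (MulAction.stabilizer G Q) F L := by
    refine ⟨inferInstance, inferInstance, ⟨fun x hx => ?_⟩⟩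
    haveI : Fintype (MulAction.stabilizer G Q) := Fintype.ofFinite _
    let E : IntermediateField F L := FixedPoints.intermediateField (MulAction.stabilizer G Q)
    have h1 : Module.finrank E L = Nat.card (MulAction.stabilizer G Q) := by
      rw [Nat.card_eq_fintype_card]
      exact FixedPoints.finrank_eq_card (MulAction.stabilizer G Q) L
    have h2 : Module.finrank F E = 1 := by
      have h3 := Module.finrank_mul_finrank F E L
      have h4 : 0 < Module.finrank F E := Module.finrank_pos
      rw [h1] at h3
      rcases Nat.lt_or_ge 1 (Module.finrank F E) with h5 | h5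
      · have := Nat.card_pos (α := MulAction.stabilizer G Q)
        nlinarith
      · omega
    have hx' : x ∈ E := hx
    rw [IntermediateField.finrank_eq_one_iff.1 h2] at hx'
    exact IntermediateField.mem_bot.1 hx'
  exact IsGaloisGroup.of_isFractionRing (MulAction.stabilizer G Q) (EGA4.Cpl (Localization.AtPrime P))
    (EGA4.Cpl (Localization.AtPrime Q)) F L

end Groth.Agent.S18534
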