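import Groth.Statements.S18535
import Groth.Agent.L05.Galois.FreeAction
import Groth.Agent.L05.Hensel.IntegralDomain
import Groth.Agent.L05.HensTensor.Integral
import Mathlib.RingTheory.Unramified.LocalRing
import Mathlib.RingTheory.DedekindDomain.IntegralClosure
import Mathlib.RingTheory.IsGaloisGroup.Basic
import Mathlib.FieldTheory.Galois.IsGaloisGroup
import Mathlib.RingTheory.Filtration

set_option autoImplicit false
universe u
open EtAlg

namespace Groth.Agent.S18535

/-- Let R be a complete Noetherian local normal domain with maximal ideal m, let S be a normal domain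
containing R on which a finite group G acts by R-algebra automorphisms, faithfully and with ring of
invariants exactly R (so that S is the integral closure of R in some finite Galois extension, with
group G, of Frac R), and let n be a maximal ideal of S over m. Then the inertia subgroup of n in G
(the elements g with g s - s ∈ n for all s ∈ S) is trivial if and only if mS = n and the residue
field S/n is finite and separable over R/m. -/
theorem result
    (R S G : Type u) [CommRing R] [CommRing S] [IsDomain R] [IsDomain S]
    [IsNoetherianRing R] [IsLocalRing R] [IsIntegrallyClosed R]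
    [IsAdicComplete (IsLocalRing.maximalIdeal R) R]
    [Algebra R S] [FaithfulSMul R S] [IsIntegrallyClosed S]
    [Group G] [Finite G] [MulSemiringAction G S] [SMulCommClass G R S] [IsGaloisGroup G R S]
    (n : Ideal S) [n.IsMaximal] [n.LiesOver (IsLocalRing.maximalIdeal R)] :
    n.toAddSubgroup.inertia G = ⊥ ↔
      ((IsLocalRing.maximalIdeal R).map (algebraMap R S) = n ∧
        Module.Finite (R ⧸ IsLocalRing.maximalIdeal R) (S ⧸ n) ∧
        Algebra.IsSeparable (R ⧸ IsLocalRing.maximalIdeal R) (S ⧸ n)) := by
  haveI : Algebra.IsInvariant R S G := ‹IsGaloisGroup G R S›.isInvariant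
  haveI : Algebra.IsIntegral R S := Algebra.IsInvariant.isIntegral R S G
  haveI hfin : Module.Finite R S := by
    letI := IsFractionRing.mulSemiringAction G S (FractionRing S)
    letI : Algebra (FractionRing R) (FractionRing S) := FractionRing.liftAlgebra R (FractionRing S)
    haveI := IsGaloisGroup.isGalois G (FractionRing R) (FractionRing S)
    haveI := IsGaloisGroup.finiteDimensional G (FractionRing R) (FractionRing S)
    haveI : IsIntegralClosure S R (FractionRing S) :=
      IsIntegralClosure.of_isIntegrallyClosed S R (FractionRing S)
    exact IsIntegralClosure.finite R (FractionRing R) (FractionRing S) S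
  haveI : HenselianLocalRing R :=
    Groth.L05.henselianLocalRing_of_henselianRing (A := R)
  haveI : IsLocalRing S := Groth.L05.isLocalRing_of_integral_domain (A := R) S
  haveI := Groth.L05.HensTensor.isLocalHom_of_isIntegral R S
  haveI : IsNoetherianRing S := IsNoetherianRing.of_finite R S
  obtain rfl : n = IsLocalRing.maximalIdeal S := IsLocalRing.eq_maximalIdeal inferInstance
  have e : (Ideal.Quotient.algebraOfLiesOver (IsLocalRing.maximalIdeal S) (IsLocalRing.maximalIdeal R) :
      Algebra (R ⧸ IsLocalRing.maximalIdeal R) (S ⧸ IsLocalRing.maximalIdeal S)) =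
      (IsLocalRing.ResidueField.instAlgebra : Algebra (IsLocalRing.ResidueField R) (IsLocalRing.ResidueField S)) :=
    Algebra.algebra_ext _ _ fun x => by
      obtain ⟨r, rfl⟩ := Ideal.Quotient.mk_surjective x
      rfl
  constructor
  · intro h
    obtain ⟨-, -, hu⟩ := Groth.L05.Galois.finite_projective_formallyUnramified (R := R) (S := S) (G := G)
      fun n hn => by rw [IsLocalRing.eq_maximalIdeal hn]; exact h
    haveI := hu
    refine ⟨Algebra.FormallyUnramified.map_maximalIdeal (R := R) (S := S), ?_, ?_⟩
    · exact Module.Finite.of_restrictScalars_finite R _ _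
    · rw [e]
      exact (Algebra.FormallyUnramified.iff_map_maximalIdeal_eq.mp hu).1
  · rintro ⟨hmap, -, hsep⟩
    rw [e] at hsep
    haveI : Algebra.FormallyUnramified R S :=
      Algebra.FormallyUnramified.iff_map_maximalIdeal_eq.mpr ⟨hsep, hmap⟩
    refine (Subgroup.eq_bot_iff_forall _).mpr fun σ hσ => ?_
    have h1 : MulSemiringAction.toAlgHom R S σ = AlgHom.id R S :=
      Algebra.FormallyUnramified.ext_of_iInf (IsLocalRing.maximalIdeal S)
        (Ideal.iInf_pow_eq_bot_of_isLocalRing _ (IsLocalRing.maximalIdeal.isMaximal S).ne_top)
        fun x => Ideal.Quotient.eq.mpr (hσ x)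
    haveI : FaithfulSMul G S := ‹IsGaloisGroup G R S›.faithful
    exact eq_of_smul_eq_smul fun x : S => by
      rw [one_smul]; exact AlgHom.congr_fun h1 x

end Groth.Agent.S18535
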