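import Groth.Statements.S18537
import Groth.Agent.L28.CplUnram.Basic
import Mathlib.FieldTheory.SeparableClosure

set_option autoImplicit false
set_option maxHeartbeats 2000000
set_option linter.style.haveILetI false
universe u
open EtAlg

namespace Groth.Agent.S18537

section Completion

open IsLocalRing

/-- A map of local rings extends to a map of completions. -/
theorem exists_completion_map {A B : Type u} [CommRing A] [IsLocalRing A] [CommRing B] [IsLocalRing B]
    (f : A →+* B) (hf : (maximalIdeal A).map f ≤ maximalIdeal B) :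
    ∃ θ : AdicCompletion (maximalIdeal A) A →+* AdicCompletion (maximalIdeal B) B,
      ∀ a, θ (algebraMap A _ a) = algebraMap B _ (f a) := by
  have hn : ∀ n, maximalIdeal A ^ n ≤ (maximalIdeal B ^ n).comap f := fun n => by
    rw [← Ideal.map_le_iff_le_comap, Ideal.map_pow]
    exact Ideal.pow_right_mono hf n
  let g : (n : ℕ) → AdicCompletion (maximalIdeal A) A →+* B ⧸ maximalIdeal B ^ n := fun n =>
    (Ideal.quotientMap _ f (hn n)).comp (AdicCompletion.evalₐ (maximalIdeal A) n).toRingHom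
  have hg : ∀ {m n : ℕ} (hle : m ≤ n),
      (Ideal.Quotient.factorPow (maximalIdeal B) hle).comp (g n) = g m := by
    intro m n hle
    ext x
    obtain ⟨y, rfl⟩ := AdicCompletion.mk_surjective _ _ x
    simp only [g, RingHom.comp_apply, AlgHom.toRingHom_eq_coe, RingHom.coe_coe, AdicCompletion.evalₐ_mk]
    simp only [Ideal.quotientMap_mk, Ideal.Quotient.factor_mk]
    rw [Ideal.Quotient.eq, ← map_sub]
    refine hn m ?_
    have := y.2 hle
    rw [SModEq.sub_mem, smul_eq_mul, Ideal.mul_top] at this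
    exact (neg_sub (y.1 m) (y.1 n)) ▸ neg_mem this
  refine ⟨AdicCompletion.liftRingHom (maximalIdeal B) g hg, fun a => ?_⟩
  refine AdicCompletion.ext_evalₐ fun n => ?_
  rw [AdicCompletion.evalₐ_liftRingHom]
  simp only [g, RingHom.comp_apply, AlgHom.toRingHom_eq_coe, RingHom.coe_coe, AlgHom.commutes]
  rfl

end Completion

theorem generated_finite_separable {K L M Ω : Type u} [Field K] [Field L] [Field M] [Field Ω]
    [Algebra K L] [Algebra K M] [Algebra K Ω] [Algebra L Ω] [Algebra M Ω]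
    [IsScalarTower K L Ω] [IsScalarTower K M Ω]
    [FiniteDimensional K L] [FiniteDimensional K M] [Algebra.IsSeparable K L] [Algebra.IsSeparable K M]
    (hΩ : IntermediateField.adjoin K (Set.range (algebraMap L Ω) ∪ Set.range (algebraMap M Ω)) = ⊤) :
    Algebra.IsSeparable K Ω ∧ FiniteDimensional K Ω := by
  let l := IsScalarTower.toAlgHom K L Ω
  let m := IsScalarTower.toAlgHom K M Ω
  constructor
  · rw [← separableClosure.eq_top_iff, eq_top_iff, ← hΩ, IntermediateField.adjoin_le_iff]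
    rintro _ (⟨x, rfl⟩ | ⟨x, rfl⟩)
    · exact mem_separableClosure_iff.2 ((Algebra.IsSeparable.isSeparable K x).map l l.toRingHom.injective)
    · exact mem_separableClosure_iff.2 ((Algebra.IsSeparable.isSeparable K x).map m m.toRingHom.injective)
  · haveI : FiniteDimensional K l.fieldRange := LinearMap.finiteDimensional_range l.toLinearMap
    haveI : FiniteDimensional K m.fieldRange := LinearMap.finiteDimensional_range m.toLinearMap
    have h : (⊤ : IntermediateField K Ω) ≤ l.fieldRange ⊔ m.fieldRange := by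
      rw [← hΩ, IntermediateField.adjoin_le_iff]
      rintro _ (⟨x, rfl⟩ | ⟨x, rfl⟩)
      · exact (le_sup_left : l.fieldRange ≤ _) ⟨x, rfl⟩
      · exact (le_sup_right : m.fieldRange ≤ _) ⟨x, rfl⟩
    haveI := IntermediateField.finiteDimensional_sup l.fieldRange m.fieldRange
    exact Module.Finite.equiv (((IntermediateField.equivOfEq (top_le_iff.1 h)).trans
      IntermediateField.topEquiv).toLinearEquiv)

/-- Let R be an excellent normal local domain with fraction field K, let L, M ⊇ K be two finite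
separable field extensions, both contained in a field Ω that they generate, let A ⊆ Ω be the
localization of the integral closure of R in Ω at one of its maximal ideals, and put S = A ∩ L, T =
A ∩ M; these are local rings, T ⊆ A, and the completions at the maximal ideals give maps Ŝ → Â ← T̂
(the algebra structures below are these inclusions and completed inclusions, pinned by the stated
compatibilities). If, inside the fraction field of Â, the ring Ŝ lies in the fraction field of T̂
(every element of Ŝ becomes a quotient of two elements of T̂), then A is unramified over T: m_T A =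
m_A and A/m_A is a finite separable extension of T/m_T. -/
theorem result
    (R K L M Ω : Type u) [CommRing R] [IsDomain R] [IsLocalRing R] [IsIntegrallyClosed R]
    (hR : EGA4.IsExcellent R)
    [Field K] [Field L] [Field M] [Field Ω]
    [Algebra R K] [IsFractionRing R K]
    [Algebra K L] [Algebra K M] [Algebra K Ω] [Algebra L Ω] [Algebra M Ω]
    [IsScalarTower K L Ω] [IsScalarTower K M Ω]
    [FiniteDimensional K L] [FiniteDimensional K M] [Algebra.IsSeparable K L] [Algebra.IsSeparable K M]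
    (hΩ : IntermediateField.adjoin K (Set.range (algebraMap L Ω) ∪ Set.range (algebraMap M Ω)) = ⊤)
    [Algebra R L] [Algebra R M] [Algebra R Ω] [IsScalarTower R K L] [IsScalarTower R K M] [IsScalarTower R K Ω]
    [IsScalarTower R L Ω] [IsScalarTower R M Ω]
    (𝔪 : Ideal ↥(integralClosure R Ω)) [𝔪.IsMaximal]
    (A : Subalgebra R Ω)
    (hA : ∀ z : Ω, z ∈ A ↔ ∃ a b : ↥(integralClosure R Ω), b ∉ 𝔪 ∧ z * (b : Ω) = (a : Ω))
    [IsLocalRing ↥A] [IsLocalRing ↥(Subalgebra.comap (IsScalarTower.toAlgHom R L Ω) A)] [IsLocalRing ↥(Subalgebra.comap (IsScalarTower.toAlgHom R M Ω) A)]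
    [Algebra ↥(Subalgebra.comap (IsScalarTower.toAlgHom R L Ω) A) ↥A]
    (hSA : ∀ s : ↥(Subalgebra.comap (IsScalarTower.toAlgHom R L Ω) A), ((algebraMap ↥(Subalgebra.comap (IsScalarTower.toAlgHom R L Ω) A) ↥A s : ↥A) : Ω) = algebraMap L Ω (s : L))
    [Algebra ↥(Subalgebra.comap (IsScalarTower.toAlgHom R M Ω) A) ↥A]
    (hTA : ∀ t : ↥(Subalgebra.comap (IsScalarTower.toAlgHom R M Ω) A), ((algebraMap ↥(Subalgebra.comap (IsScalarTower.toAlgHom R M Ω) A) ↥A t : ↥A) : Ω) = algebraMap M Ω (t : M))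
    [Algebra (EGA4.Cpl ↥(Subalgebra.comap (IsScalarTower.toAlgHom R L Ω) A)) (EGA4.Cpl ↥A)]
    (hcS : ∀ s : ↥(Subalgebra.comap (IsScalarTower.toAlgHom R L Ω) A), algebraMap (EGA4.Cpl ↥(Subalgebra.comap (IsScalarTower.toAlgHom R L Ω) A)) (EGA4.Cpl ↥A) (algebraMap ↥(Subalgebra.comap (IsScalarTower.toAlgHom R L Ω) A) (EGA4.Cpl ↥(Subalgebra.comap (IsScalarTower.toAlgHom R L Ω) A)) s) =
      algebraMap ↥A (EGA4.Cpl ↥A) (algebraMap ↥(Subalgebra.comap (IsScalarTower.toAlgHom R L Ω) A) ↥A s))
    [Algebra (EGA4.Cpl ↥(Subalgebra.comap (IsScalarTower.toAlgHom R M Ω) A)) (EGA4.Cpl ↥A)]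
    (hcT : ∀ t : ↥(Subalgebra.comap (IsScalarTower.toAlgHom R M Ω) A), algebraMap (EGA4.Cpl ↥(Subalgebra.comap (IsScalarTower.toAlgHom R M Ω) A)) (EGA4.Cpl ↥A) (algebraMap ↥(Subalgebra.comap (IsScalarTower.toAlgHom R M Ω) A) (EGA4.Cpl ↥(Subalgebra.comap (IsScalarTower.toAlgHom R M Ω) A)) t) =
      algebraMap ↥A (EGA4.Cpl ↥A) (algebraMap ↥(Subalgebra.comap (IsScalarTower.toAlgHom R M Ω) A) ↥A t))
    [(IsLocalRing.maximalIdeal ↥A).LiesOver (IsLocalRing.maximalIdeal ↥(Subalgebra.comap (IsScalarTower.toAlgHom R M Ω) A))]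
    (hLM : ∀ x : (EGA4.Cpl ↥(Subalgebra.comap (IsScalarTower.toAlgHom R L Ω) A)), ∃ a b : (EGA4.Cpl ↥(Subalgebra.comap (IsScalarTower.toAlgHom R M Ω) A)), algebraMap (EGA4.Cpl ↥(Subalgebra.comap (IsScalarTower.toAlgHom R M Ω) A)) (EGA4.Cpl ↥A) b ≠ 0 ∧
      algebraMap (EGA4.Cpl ↥(Subalgebra.comap (IsScalarTower.toAlgHom R L Ω) A)) (EGA4.Cpl ↥A) x * algebraMap (EGA4.Cpl ↥(Subalgebra.comap (IsScalarTower.toAlgHom R M Ω) A)) (EGA4.Cpl ↥A) b = algebraMap (EGA4.Cpl ↥(Subalgebra.comap (IsScalarTower.toAlgHom R M Ω) A)) (EGA4.Cpl ↥A) a) :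
    (IsLocalRing.maximalIdeal ↥(Subalgebra.comap (IsScalarTower.toAlgHom R M Ω) A)).map (algebraMap ↥(Subalgebra.comap (IsScalarTower.toAlgHom R M Ω) A) ↥A) = IsLocalRing.maximalIdeal ↥A ∧
      Module.Finite (↥(Subalgebra.comap (IsScalarTower.toAlgHom R M Ω) A) ⧸ IsLocalRing.maximalIdeal ↥(Subalgebra.comap (IsScalarTower.toAlgHom R M Ω) A)) (↥A ⧸ IsLocalRing.maximalIdeal ↥A) ∧
      Algebra.IsSeparable (↥(Subalgebra.comap (IsScalarTower.toAlgHom R M Ω) A) ⧸ IsLocalRing.maximalIdeal ↥(Subalgebra.comap (IsScalarTower.toAlgHom R M Ω) A)) (↥A ⧸ IsLocalRing.maximalIdeal ↥A) := by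
  classical
  haveI : IsNoetherianRing R := hR.1
  obtain ⟨_, _⟩ := generated_finite_separable hΩ
  haveI : Module.Finite R (integralClosure R Ω) := IsIntegralClosure.finite R K Ω (integralClosure R Ω)
  let C := integralClosure R Ω
  have hCA : ∀ c : C, (c : Ω) ∈ A := fun c => (hA _).2 ⟨c, 1,
    fun h => (Ideal.IsMaximal.ne_top ‹_›) ((Ideal.eq_top_iff_one _).2 h), mul_one _⟩
  let ι : C →ₐ[R] A := C.val.codRestrict A hCA
  letI : Algebra C A := ι.toRingHom.toAlgebra
  haveI : IsScalarTower R C A := IsScalarTower.of_algebraMap_eq fun r => (ι.commutes r).symm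
  have hne : ∀ y : C, y ∉ 𝔪 → (y : Ω) ≠ 0 := fun y hy h =>
    hy (by rw [show y = 0 from Subtype.ext h]; exact 𝔪.zero_mem)
  haveI : IsLocalization.AtPrime A 𝔪 := by
    refine ⟨?_, ?_, ?_⟩
    · rintro ⟨y, hy⟩
      refine IsUnit.of_mul_eq_one ⟨(y : Ω)⁻¹, (hA _).2 ⟨1, y, hy, inv_mul_cancel₀ (hne y hy)⟩⟩ ?_
      exact Subtype.ext (mul_inv_cancel₀ (hne y hy))
    · intro z
      obtain ⟨a, b, hb, hz⟩ := (hA _).1 z.2
      exact ⟨⟨a, ⟨b, hb⟩⟩, Subtype.ext hz⟩
    · intro x y hxy
      exact ⟨1, by rw [show x = y from Subtype.ext (congrArg (fun w : A => (w : Ω)) hxy)]⟩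
  haveI : IsNoetherianRing C := isNoetherian_of_tower R inferInstance
  haveI : IsNoetherianRing A := IsLocalization.isNoetherianRing 𝔪.primeCompl A inferInstance
  -- the maximal ideal of `R` in `A`
  set mR := IsLocalRing.maximalIdeal R
  set mA := IsLocalRing.maximalIdeal A
  have hmA : 𝔪.map (algebraMap C A) = mA := IsLocalization.AtPrime.map_eq_maximalIdeal 𝔪 A
  have hunder : 𝔪.comap (algebraMap R C) = mR :=
    IsLocalRing.eq_maximalIdeal (Ideal.isMaximal_comap_of_isIntegral_of_isMaximal 𝔪)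
  have hle : mR.map (algebraMap R A) ≤ mA := by
    rw [IsScalarTower.algebraMap_eq R C A, ← Ideal.map_map, ← hmA]
    exact Ideal.map_mono (Ideal.map_le_iff_le_comap.2 hunder.ge)
  obtain ⟨N, hN⟩ := (mR.map (algebraMap R A)).exists_pow_le_of_le_radical_of_fg (I := mA) (by
    rw [Ideal.radical_eq_sInf]
    refine le_sInf fun P ⟨hP, hPp⟩ => ?_
    haveI := hPp
    haveI : (P.comap (algebraMap C A)).IsPrime := Ideal.IsPrime.comap _
    have h1 : (P.comap (algebraMap C A)).comap (algebraMap R C) = mR := by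
      rw [Ideal.comap_comap, ← IsScalarTower.algebraMap_eq]
      refine le_antisymm (IsLocalRing.le_maximalIdeal ?_) (Ideal.map_le_iff_le_comap.1 hP)
      exact Ideal.IsPrime.ne_top'
    have h2 : (P.comap (algebraMap C A)).IsMaximal :=
      Ideal.isMaximal_of_isIntegral_of_isMaximal_comap (R := R) _ (h1 ▸ IsLocalRing.maximalIdeal.isMaximal R)
    have h3 : P.comap (algebraMap C A) = 𝔪 := h2.eq_of_le (Ideal.IsMaximal.ne_top ‹_›) (by
      intro c hc
      by_contra hcm
      exact hPp.ne_top (Ideal.eq_top_of_isUnit_mem _ hc (IsLocalization.map_units A (⟨c, hcm⟩ : 𝔪.primeCompl))))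
    rw [← hmA, ← h3]
    exact Ideal.map_comap_le) (IsNoetherian.noetherian _)
  -- the normalisation in `M`
  haveI : Module.Finite R (integralClosure R M) := IsIntegralClosure.finite R K M (integralClosure R M)
  let B := integralClosure R M
  haveI : IsNoetherianRing B := isNoetherian_of_tower R inferInstance
  haveI : IsFractionRing B M := integralClosure.isFractionRing_of_finite_extension K M
  haveI : IsIntegrallyClosed B := integralClosure.isIntegrallyClosedOfFiniteExtension K
  haveI : IsFractionRing C Ω := integralClosure.isFractionRing_of_finite_extension K Ω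
  haveI : IsIntegrallyClosed C := integralClosure.isIntegrallyClosedOfFiniteExtension K
  let ιM : B →ₐ[R] C := ((IsScalarTower.toAlgHom R M Ω).comp B.val).codRestrict C
    fun b => b.2.map (IsScalarTower.toAlgHom R M Ω)
  letI : Algebra B C := ιM.toRingHom.toAlgebra
  haveI : IsScalarTower R B C := IsScalarTower.of_algebraMap_eq fun r => (ιM.commutes r).symm
  haveI : Algebra.IsIntegral B C := ⟨fun c => IsIntegral.tower_top (R := R) (Algebra.IsIntegral.isIntegral c)⟩
  haveI : FaithfulSMul B C := (faithfulSMul_iff_algebraMap_injective B C).2 fun x y h =>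
    Subtype.ext ((algebraMap M Ω).injective (congrArg (fun w : C => (w : Ω)) h))
  let 𝔫 := 𝔪.comap (algebraMap B C)
  let T := Subalgebra.comap (IsScalarTower.toAlgHom R M Ω) A
  have hBT : ∀ b : B, (b : M) ∈ T := fun b => hCA (algebraMap B C b)
  let ιT : B →ₐ[R] T := B.val.codRestrict T hBT
  letI : Algebra B T := ιT.toRingHom.toAlgebra
  haveI : IsLocalization.AtPrime T 𝔫 := by
    refine ⟨?_, ?_, ?_⟩
    · rintro ⟨y, hy⟩
      have hy0 : (y : M) ≠ 0 := fun h => hy (by rw [show y = 0 from Subtype.ext h]; exact 𝔫.zero_mem)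
      refine IsUnit.of_mul_eq_one ⟨(y : M)⁻¹, ?_⟩ (Subtype.ext (mul_inv_cancel₀ hy0))
      show algebraMap M Ω (y : M)⁻¹ ∈ A
      rw [map_inv₀]
      exact (hA _).2 ⟨1, algebraMap B C y, hy, inv_mul_cancel₀ (hne _ hy)⟩
    · intro z
      obtain ⟨a, b, hb, hab⟩ := (hA _).1 z.2
      obtain ⟨s, hs, c, hsc⟩ := Groth.L28.CplUnram.exists_denominator (B := B) (C := C) (algebraMap M Ω)
        (fun _ => rfl) 𝔪 (z : M) ⟨a, b, hb, hab⟩
      exact ⟨⟨c, ⟨s, hs⟩⟩, Subtype.ext ((mul_comm _ _).trans hsc)⟩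
    · intro x y hxy
      exact ⟨1, by rw [show x = y from Subtype.ext (congrArg (fun w : T => (w : M)) hxy)]⟩
  obtain ⟨_, _, _⟩ := Groth.L28.CplUnram.completion_normal_domain hR B 𝔫 T
  obtain ⟨_, _, _⟩ := Groth.L28.CplUnram.completion_normal_domain hR C 𝔪 A
  -- the comparison map of completions
  let fS : R →+* ↥(Subalgebra.comap (IsScalarTower.toAlgHom R M Ω) A) := algebraMap R ↥(Subalgebra.comap (IsScalarTower.toAlgHom R M Ω) A)
  have hfS : mR.map fS ≤ IsLocalRing.maximalIdeal ↥(Subalgebra.comap (IsScalarTower.toAlgHom R M Ω) A) := by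
    rw [Ideal.map_le_iff_le_comap]
    intro r hr hu
    have h2 : algebraMap R A r ∈ mA := hle (Ideal.mem_map_of_mem _ hr)
    refine h2 ?_
    have h3 : algebraMap R A r = algebraMap ↥(Subalgebra.comap (IsScalarTower.toAlgHom R M Ω) A) A (fS r) := Subtype.ext (by
      rw [hTA]; exact IsScalarTower.algebraMap_apply R M Ω r)
    rw [h3]
    exact hu.map _
  obtain ⟨θ, hθ⟩ := exists_completion_map fS hfS
  let ψ : AdicCompletion mR R →+* EGA4.Cpl A :=
    (algebraMap (EGA4.Cpl ↥(Subalgebra.comap (IsScalarTower.toAlgHom R M Ω) A)) (EGA4.Cpl A)).comp θ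
  have hψ : ∀ r, ψ (algebraMap R _ r) = algebraMap A (EGA4.Cpl A) (algebraMap R A r) := fun r => by
    show algebraMap (EGA4.Cpl ↥(Subalgebra.comap (IsScalarTower.toAlgHom R M Ω) A)) (EGA4.Cpl A) (θ _) = _
    rw [hθ, hcT]
    exact congrArg _ (Subtype.ext ((hTA _).trans (IsScalarTower.algebraMap_apply R M Ω r).symm))
  letI : Algebra (AdicCompletion mR R) (EGA4.Cpl A) := ψ.toAlgebra
  let θT := algebraMap (EGA4.Cpl ↥(Subalgebra.comap (IsScalarTower.toAlgHom R M Ω) A)) (EGA4.Cpl A)
  let D : Subalgebra (EGA4.Cpl ↥(Subalgebra.comap (IsScalarTower.toAlgHom R M Ω) A)) (EGA4.Cpl A) :=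
    { carrier := {y | ∃ p q, θT q ≠ 0 ∧ y * θT q = θT p}
      mul_mem' := by
        rintro y y' ⟨p, q, hq, h⟩ ⟨p', q', hq', h'⟩
        exact ⟨p * p', q * q', by rw [map_mul]; exact mul_ne_zero hq hq', by
          rw [map_mul, map_mul, ← h, ← h']; ring⟩
      add_mem' := by
        rintro y y' ⟨p, q, hq, h⟩ ⟨p', q', hq', h'⟩
        exact ⟨p * q' + p' * q, q * q', by rw [map_mul]; exact mul_ne_zero hq hq', by
          rw [map_mul, map_add, map_mul, map_mul, ← h, ← h']; ring⟩
      algebraMap_mem' := fun r => ⟨r, 1, by rw [map_one]; exact one_ne_zero, by rw [map_one, mul_one]⟩ }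
  -- the subring of `Ω` generated by `↥(Subalgebra.comap (IsScalarTower.toAlgHom R L Ω) A)` and `↥(Subalgebra.comap (IsScalarTower.toAlgHom R M Ω) A)`
  let U : Subalgebra R A :=
    { carrier := {z | algebraMap A (EGA4.Cpl A) z ∈ D}
      mul_mem' := fun {a b} ha hb => by
        show algebraMap A (EGA4.Cpl A) (a * b) ∈ D
        rw [map_mul]; exact mul_mem ha hb
      add_mem' := fun {a b} ha hb => by
        show algebraMap A (EGA4.Cpl A) (a + b) ∈ D
        rw [map_add]; exact add_mem ha hb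
      algebraMap_mem' := fun r => by
        show algebraMap A (EGA4.Cpl A) (algebraMap R A r) ∈ D
        rw [← hψ r]; exact Subalgebra.algebraMap_mem D (θ _) }
  let E : Subalgebra K Ω :=
    { carrier := {z | ∃ d : R, d ≠ 0 ∧ ∃ h : d • z ∈ A, (⟨d • z, h⟩ : A) ∈ U}
      mul_mem' := by
        rintro a b ⟨d, hd, h, hU⟩ ⟨d', hd', h', hU'⟩
        have he : (d * d') • (a * b) = (d • a) * (d' • b) := by rw [smul_mul_smul_comm]
        refine ⟨d * d', mul_ne_zero hd hd', he ▸ mul_mem h h', ?_⟩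
        convert mul_mem hU hU' using 1
        exact Subtype.ext he
      add_mem' := by
        rintro a b ⟨d, hd, h, hU⟩ ⟨d', hd', h', hU'⟩
        have he : (d * d') • (a + b) = d' • (d • a) + d • (d' • b) := by
          rw [smul_add, smul_smul, smul_smul, mul_comm d' d]
        refine ⟨d * d', mul_ne_zero hd hd', he ▸ add_mem (A.smul_mem h d') (A.smul_mem h' d), ?_⟩
        convert add_mem (U.smul_mem hU d') (U.smul_mem hU' d) using 1
        exact Subtype.ext he
      algebraMap_mem' := fun q => by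
        obtain ⟨a, b, hb, rfl⟩ := IsFractionRing.div_surjective R q
        have hb0 : b ≠ 0 := nonZeroDivisors.ne_zero hb
        have hbK : algebraMap R K b ≠ 0 := IsFractionRing.to_map_eq_zero_iff.not.2 hb0
        have he : b • algebraMap K Ω (algebraMap R K a / algebraMap R K b) = algebraMap R Ω a := by
          rw [Algebra.smul_def, IsScalarTower.algebraMap_apply R K Ω, ← map_mul, mul_div_cancel₀ _ hbK,
            ← IsScalarTower.algebraMap_apply]
        refine ⟨b, hb0, he ▸ A.algebraMap_mem a, ?_⟩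
        convert U.algebraMap_mem a using 1
        exact Subtype.ext he }
  have hclear : ∀ {F : Type u} [Field F] [Algebra K F] [Algebra R F] [IsScalarTower R K F]
      [FiniteDimensional K F] (l : F), ∃ d : R, d ≠ 0 ∧ IsIntegral R (d • l) := fun {F} _ _ _ _ _ l =>
    IsAlgebraic.exists_integral_multiple
      ((IsFractionRing.isAlgebraic_iff R K F).2 (Algebra.IsAlgebraic.isAlgebraic l))
  have hEtop : E = ⊤ := by
    have h : (IntermediateField.adjoin K (Set.range (algebraMap L Ω) ∪ Set.range (algebraMap M Ω))).toSubalgebra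
        ≤ E := by
      rw [IntermediateField.adjoin_toSubalgebra_of_isAlgebraic fun x _ => Algebra.IsAlgebraic.isAlgebraic x]
      refine Algebra.adjoin_le ?_
      rintro _ (⟨l, rfl⟩ | ⟨m, rfl⟩)
      · obtain ⟨d, hd, hint⟩ := hclear l
        have he : d • algebraMap L Ω l = algebraMap L Ω (d • l) :=
          (map_smul (IsScalarTower.toAlgHom R L Ω) d l).symm
        have hmem : algebraMap L Ω (d • l) ∈ A :=
          hCA ⟨_, hint.map (IsScalarTower.toAlgHom R L Ω)⟩
        refine ⟨d, hd, he ▸ hmem, ?_⟩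
        show algebraMap A (EGA4.Cpl A) _ ∈ D
        rw [show (⟨d • algebraMap L Ω l, he ▸ hmem⟩ : A) = algebraMap ↥(Subalgebra.comap (IsScalarTower.toAlgHom R L Ω) A) A ⟨d • l, hmem⟩ from
          Subtype.ext (he.trans (hSA ⟨d • l, hmem⟩).symm), ← hcS]
        exact hLM _
      · obtain ⟨d, hd, hint⟩ := hclear m
        have he : d • algebraMap M Ω m = algebraMap M Ω (d • m) :=
          (map_smul (IsScalarTower.toAlgHom R M Ω) d m).symm
        have hmem : algebraMap M Ω (d • m) ∈ A :=
          hCA ⟨_, hint.map (IsScalarTower.toAlgHom R M Ω)⟩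
        refine ⟨d, hd, he ▸ hmem, ?_⟩
        show algebraMap A (EGA4.Cpl A) _ ∈ D
        rw [show (⟨d • algebraMap M Ω m, he ▸ hmem⟩ : A) = algebraMap ↥(Subalgebra.comap (IsScalarTower.toAlgHom R M Ω) A) A ⟨d • m, hmem⟩ from
          Subtype.ext (he.trans (hTA ⟨d • m, hmem⟩).symm), ← hcT]
        exact Subalgebra.algebraMap_mem D _
    rw [hΩ, IntermediateField.top_toSubalgebra] at h
    exact eq_top_iff.2 h
  -- generators of the integral closure
  obtain ⟨n, f, hf⟩ := Module.Finite.exists_fin' R C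
  let c : Fin n → C := fun i => f (Pi.single i 1)
  have hE : ∀ z : Ω, ∃ d : R, d ≠ 0 ∧ ∃ h : d • z ∈ A, (⟨d • z, h⟩ : A) ∈ U := fun z =>
    show z ∈ E from hEtop ▸ Algebra.mem_top
  choose d hd hdA hdU using fun i => hE (c i : Ω)
  set d₀ := ∏ i, d i
  have hd₀ : d₀ ≠ 0 := Finset.prod_ne_zero_iff.2 fun i _ => hd i
  have hd₀U : ∀ i, algebraMap R A d₀ * ι (c i) ∈ U := fun i => by
    obtain ⟨q, hq⟩ : d i ∣ d₀ := Finset.dvd_prod_of_mem d (Finset.mem_univ i)
    convert U.smul_mem (hdU i) q using 1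
    rw [← Algebra.smul_def, hq, mul_comm, mul_smul]
    rfl
  -- surjectivity
  have hfgR : mR.FG := IsNoetherian.noetherian _
  haveI : IsAdicComplete mR (AdicCompletion mR (Fin n → R)) := AdicCompletion.isAdicComplete hfgR
  haveI : IsScalarTower R (AdicCompletion mR R) (EGA4.Cpl A) := IsScalarTower.of_algebraMap_eq fun r => by
    show _ = ψ _
    rw [hψ]
    exact IsScalarTower.algebraMap_apply R A _ r
  haveI : IsAdicComplete mA (EGA4.Cpl A) := AdicCompletion.isAdicComplete (IsNoetherian.noetherian _)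
  haveI : IsHausdorff (mR.map (algebraMap R A)) (EGA4.Cpl A) := by
    refine ⟨fun x hx => IsHausdorff.haus (I := mA) inferInstance x fun k => ?_⟩
    exact (hx k).mono (Submodule.smul_mono (Ideal.pow_right_mono hle k) le_rfl)
  haveI : IsHausdorff mR (EGA4.Cpl A) := IsHausdorff.map_algebraMap_iff.mp ‹_›
  let Φ : (Fin n → AdicCompletion mR R) →ₗ[AdicCompletion mR R] EGA4.Cpl A :=
    Fintype.linearCombination (AdicCompletion mR R) fun i => algebraMap A (EGA4.Cpl A) (ι (c i))
  have hΦ : Function.Surjective Φ := by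
    let ee := (AdicCompletion.piEquivFin mR n).toLinearMap.restrictScalars R
    suffices h : Function.Surjective ((Φ.restrictScalars R).comp ee) from Function.Surjective.of_comp h
    refine surjective_of_mkQ_comp_surjective (I := mR) fun y => ?_
    obtain ⟨y, rfl⟩ := Submodule.mkQ_surjective _ y
    -- approximate by an element of `A`
    obtain ⟨a, ha⟩ : ∃ a : A, y - algebraMap A (EGA4.Cpl A) a ∈ (mA ^ N • ⊤ : Submodule A (EGA4.Cpl A)) := by
      obtain ⟨y', rfl⟩ := AdicCompletion.mk_surjective _ _ y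
      refine ⟨y'.1 N, ?_⟩
      rw [AdicCompletion.pow_smul_top_eq_ker_eval (IsNoetherian.noetherian _), LinearMap.mem_ker, map_sub,
        sub_eq_zero]
      rfl
    obtain ⟨p, q, hq, hpq⟩ := (hA _).1 a.2
    obtain ⟨q', e, he, hqe⟩ : ∃ q' e : C, e ∈ 𝔪 ^ N ∧ q * q' + e = 1 := by
      have h : Ideal.span {q} ⊔ 𝔪 ^ N = ⊤ := Ideal.sup_pow_eq_top (by
        rw [sup_comm]
        refine ((‹𝔪.IsMaximal›).1).2 _ (SetLike.lt_iff_le_and_exists.2 ⟨le_sup_left, q, ?_, hq⟩)
        exact Ideal.mem_sup_right (Ideal.mem_span_singleton_self q))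
      obtain ⟨_, hx, e, he, hxe⟩ := Submodule.mem_sup.1 ((Ideal.eq_top_iff_one _).1 h)
      obtain ⟨q', rfl⟩ := Ideal.mem_span_singleton'.1 hx
      exact ⟨q', e, he, by rw [mul_comm]; exact hxe⟩
    obtain ⟨g, hg⟩ := hf (p * q')
    refine ⟨(AdicCompletion.piEquivFin mR n).symm (fun i => algebraMap R _ (g i)), ?_⟩
    rw [LinearMap.comp_apply, Submodule.mkQ_apply, Submodule.mkQ_apply, Submodule.Quotient.eq]
    simp only [ee, LinearMap.comp_apply, LinearMap.restrictScalars_apply, LinearEquiv.coe_coe, LinearEquiv.apply_symm_apply]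
    have hsum : Φ (fun i => algebraMap R _ (g i)) = algebraMap A (EGA4.Cpl A) (ι (p * q')) := by
      rw [← hg, LinearMap.pi_apply_eq_sum_univ f g, map_sum, map_sum, Fintype.linearCombination_apply]
      refine Finset.sum_congr rfl fun i _ => ?_
      have hci : (fun j => if i = j then (1 : R) else 0) = Pi.single i 1 := by
        funext j; simp [Pi.single_apply, eq_comm]
      rw [hci, map_smul, Algebra.smul_def (g i), map_mul, ← IsScalarTower.algebraMap_apply]
      rw [Algebra.smul_def, ← IsScalarTower.algebraMap_apply]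
    have hmem : y - Φ (fun i => algebraMap R _ (g i)) ∈ (mA ^ N • ⊤ : Submodule A (EGA4.Cpl A)) := by
      have h2 : a - ι (p * q') ∈ mA ^ N := by
        have h3 : a - ι (p * q') = a * ι e := by
          have hp : a * ι q = ι p := Subtype.ext hpq
          have h1 : ι q * ι q' + ι e = 1 := by rw [← map_mul, ← map_add, hqe, map_one]
          rw [map_mul, ← hp]
          linear_combination (-a) * h1
        rw [h3, ← hmA, ← Ideal.map_pow]
        exact Ideal.mul_mem_left _ _ (Ideal.mem_map_of_mem _ he)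
      rw [hsum, ← sub_add_sub_cancel y (algebraMap A (EGA4.Cpl A) a), ← map_sub]
      refine add_mem ha ?_
      rw [Algebra.algebraMap_eq_smul_one]
      exact Submodule.smul_mem_smul h2 trivial
    have h4 : y - Φ (fun i => algebraMap R _ (g i)) ∈
        ((mR.map (algebraMap R A)) • ⊤ : Submodule A (EGA4.Cpl A)).restrictScalars R :=
      Submodule.smul_mono hN le_rfl hmem
    rw [Submodule.restrictScalars_map_smul_eq, Submodule.restrictScalars_top] at h4
    simpa using neg_mem h4
  haveI : Module.Finite (EGA4.Cpl ↥(Subalgebra.comap (IsScalarTower.toAlgHom R M Ω) A)) (EGA4.Cpl A) := by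
    refine Module.Finite.of_surjective (Fintype.linearCombination (EGA4.Cpl ↥(Subalgebra.comap (IsScalarTower.toAlgHom R M Ω) A))
      fun i => algebraMap A (EGA4.Cpl A) (ι (c i))) fun x => ?_
    obtain ⟨r, rfl⟩ := hΦ x
    refine ⟨fun i => θ (r i), ?_⟩
    rw [Fintype.linearCombination_apply, Fintype.linearCombination_apply]
    refine Finset.sum_congr rfl fun i _ => ?_
    rw [Algebra.smul_def, Algebra.smul_def]
    rfl
  have hfrac : ∀ x : EGA4.Cpl A, x ∈ D := by
    intro x
    obtain ⟨r, rfl⟩ := hΦ x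
    have h1 : Φ r * algebraMap A (EGA4.Cpl A) (algebraMap R A d₀) ∈ D := by
      rw [Fintype.linearCombination_apply, Finset.sum_mul]
      refine sum_mem fun i _ => ?_
      rw [Algebra.smul_def, mul_assoc, ← map_mul, mul_comm (ι (c i))]
      exact mul_mem (Subalgebra.algebraMap_mem D (θ (r i))) (hd₀U i)
    obtain ⟨p, q, hq, hpq⟩ := h1
    refine ⟨p, θ (algebraMap R _ d₀) * q, ?_, ?_⟩
    · show algebraMap _ (EGA4.Cpl A) _ ≠ 0
      rw [map_mul, show algebraMap _ (EGA4.Cpl A) (θ (algebraMap R _ d₀)) = _ from hψ d₀]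
      refine mul_ne_zero (fun h0 => ?_) hq
      have h1 : algebraMap R A d₀ = 0 := AdicCompletion.of_injective mA A (by
        rw [map_zero]; exact h0)
      refine hd₀ ((injective_iff_map_eq_zero (algebraMap R Ω)).1 ?_ d₀ (congrArg (fun w : A => (w : Ω)) h1))
      rw [IsScalarTower.algebraMap_eq R K Ω]
      exact (algebraMap K Ω).injective.comp (IsFractionRing.injective R K)
    · show _ * algebraMap _ (EGA4.Cpl A) _ = _
      rw [map_mul, show algebraMap _ (EGA4.Cpl A) (θ (algebraMap R _ d₀)) = _ from hψ d₀, ← mul_assoc]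
      exact hpq
  have hdim : ringKrullDim T ≤ ringKrullDim A := by
    rw [IsLocalization.AtPrime.ringKrullDim_eq_height 𝔫 T, IsLocalization.AtPrime.ringKrullDim_eq_height 𝔪 A]
    haveI : 𝔪.LiesOver 𝔫 := ⟨rfl⟩
    rw [Ideal.height_eq_height_add_of_liesOver_of_hasGoingDown 𝔫 𝔪]
    exact WithBot.coe_le_coe.2 le_self_add
  haveI : IsNoetherianRing (EGA4.Cpl T) := Groth.L01.AnalUnram.isNoetherianRing_completion T
  haveI : IsLocalRing (EGA4.Cpl T) := AdicCompletion.isLocalRing_of_fg (IsNoetherian.noetherian _)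
  have hdT : ringKrullDim (EGA4.Cpl T) = ringKrullDim T := Groth.L01.CompletionReg.ringKrullDim_completion T
  have hdA : ringKrullDim (EGA4.Cpl A) = ringKrullDim A := Groth.L01.CompletionReg.ringKrullDim_completion A
  have hs : Function.Surjective (algebraMap (EGA4.Cpl T) (EGA4.Cpl A)) :=
    Groth.L28.CplUnram.surjective_of_fractions (by rw [hdT, hdA]; exact hdim) ringKrullDim_lt_top hfrac
  have hleT : (IsLocalRing.maximalIdeal T).map (algebraMap T A) ≤ mA :=
    Ideal.map_le_iff_le_comap.2 (Ideal.LiesOver.over (P := mA) (p := IsLocalRing.maximalIdeal T)).le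
  have hNT : mA ^ N ≤ (IsLocalRing.maximalIdeal T).map (algebraMap T A) := by
    refine hN.trans ?_
    rw [Ideal.map_le_iff_le_comap]
    intro r hr
    have h3 : algebraMap R A r = algebraMap T A (fS r) := Subtype.ext (by
      rw [hTA]; exact IsScalarTower.algebraMap_apply R M Ω r)
    rw [Ideal.mem_comap, h3]
    exact Ideal.mem_map_of_mem _ (hfS (Ideal.mem_map_of_mem _ hr))
  obtain ⟨hmap, hres⟩ := Groth.L28.CplUnram.unramified_of_surjective hcT hleT hNT hs
  have hsurj : Function.Surjective (algebraMap (T ⧸ IsLocalRing.maximalIdeal T) (A ⧸ mA)) := fun x => by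
    obtain ⟨a, rfl⟩ := Ideal.Quotient.mk_surjective x
    obtain ⟨t, ht⟩ := hres a
    exact ⟨Ideal.Quotient.mk _ t, (Ideal.Quotient.eq.2 ht).symm⟩
  refine ⟨hmap, Module.Finite.of_surjective (Algebra.linearMap _ _) hsurj, ⟨fun x => ?_⟩⟩
  obtain ⟨y, rfl⟩ := hsurj x
  letI := Ideal.Quotient.field (IsLocalRing.maximalIdeal T)
  exact isSeparable_algebraMap y

end Groth.Agent.S18537
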