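import Groth.Statements.S18538
import Mathlib.RingTheory.IntegralClosure.Algebra.Basic
import Mathlib.LinearAlgebra.FreeModule.Basic
import Mathlib.RingTheory.Flat.FaithfullyFlat.Basic

set_option autoImplicit false
universe u
open EtAlg

namespace Groth.Agent.S18538

/-- Let A ⊆ B be an injective finite extension of integrally closed domains, with fraction fields K ⊆ L
and L separable over K. Then A → B → B ⊗_A B is exact, the second map being b ↦ b ⊗ 1 - 1 ⊗ b: every
element of B whose two images in B ⊗_A B agree comes from A. -/
theorem result
    (A B K L : Type u) [CommRing A] [CommRing B] [IsDomain A] [IsDomain B]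
    [IsIntegrallyClosed A] [IsIntegrallyClosed B] [Algebra A B] [FaithfulSMul A B] [Module.Finite A B]
    [Field K] [Field L] [Algebra A K] [IsFractionRing A K] [Algebra B L] [IsFractionRing B L]
    [Algebra K L] [Algebra A L] [IsScalarTower A K L] [IsScalarTower A B L]
    [Algebra.IsSeparable K L] :
    Algebra.IsEffective A B := by
  intro b
  refine ⟨fun hb => ?_, Algebra.TensorProduct.includeLeftSubRight_zero_of_mem_range⟩
  let ψ : B →ₐ[A] L := IsScalarTower.toAlgHom A B L
  let θ : TensorProduct A B B →ₐ[A] TensorProduct K L L :=
    Algebra.TensorProduct.lift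
      (((Algebra.TensorProduct.includeLeft : L →ₐ[K] TensorProduct K L L).restrictScalars A).comp ψ)
      (((Algebra.TensorProduct.includeRight : L →ₐ[K] TensorProduct K L L).restrictScalars A).comp ψ)
      (fun x y => Commute.all _ _)
  have h : Algebra.TensorProduct.includeLeftSubRight K L (ψ b) = 0 := by
    have h1 := congrArg θ hb
    rw [Algebra.TensorProduct.includeLeftSubRight_apply, map_sub, map_zero] at h1
    rw [Algebra.TensorProduct.includeLeftSubRight_apply]
    simpa [θ] using h1
  haveI : Module.FaithfullyFlat K L := inferInstance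
  obtain ⟨k, hk⟩ := (Algebra.IsEffective.of_faithfullyFlat K L (ψ b)).mp h
  have hint : IsIntegral A k := by
    have hb' : IsIntegral A (ψ b) := (Algebra.IsIntegral.isIntegral b).map ψ
    rw [← hk] at hb'
    exact (isIntegral_algebraMap_iff (algebraMap K L).injective).mp hb'
  obtain ⟨a, ha⟩ := IsIntegrallyClosed.isIntegral_iff.mp hint
  refine ⟨a, IsFractionRing.injective B L ?_⟩
  rw [Algebra.linearMap_apply, ← IsScalarTower.algebraMap_apply, IsScalarTower.algebraMap_apply A K L, ha]
  exact hk

end Groth.Agent.S18538
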