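import Groth.Statements.S18539
import Mathlib.RingTheory.Regular.RegularSequence

set_option autoImplicit false
universe u v w
open CAlg

namespace Groth.Agent.S18539

/-- For a commutative ring R, R-modules M and N and elements r₁, r₂ of R such that r₁ is a
non-zero-divisor on N and r₂ is a non-zero-divisor on N/r₁N, the element r₁ is a non-zero-divisor on
the module Hom_R(M, N) and r₂ is a non-zero-divisor on Hom_R(M, N)/r₁Hom_R(M, N). (Weak regularity
on both sides: no condition that the quotient by (r₁, r₂) is nonzero, which would fail for M = 0.) -/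
theorem result
    (R : Type u) [CommRing R] (M : Type v) (N : Type w)
    [AddCommGroup M] [Module R M] [AddCommGroup N] [Module R N]
    (r₁ r₂ : R) (h : RingTheory.Sequence.IsWeaklyRegular N [r₁, r₂]) :
    RingTheory.Sequence.IsWeaklyRegular (M →ₗ[R] N) [r₁, r₂] := by
  rw [RingTheory.Sequence.isWeaklyRegular_cons_iff, RingTheory.Sequence.isWeaklyRegular_cons_iff] at h ⊢
  obtain ⟨h1, h2, -⟩ := h
  refine ⟨fun f g hfg => LinearMap.ext fun x => h1 (LinearMap.congr_fun hfg x), ?_, RingTheory.Sequence.IsWeaklyRegular.nil R _⟩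
  rw [isSMulRegular_iff_right_eq_zero_of_smul] at h2 ⊢
  intro F hF
  obtain ⟨f, rfl⟩ := Submodule.Quotient.mk_surjective _ F
  rw [← Submodule.Quotient.mk_smul, Submodule.Quotient.mk_eq_zero, Submodule.mem_smul_pointwise_iff_exists] at hF
  obtain ⟨g, -, hg⟩ := hF
  have hx : ∀ x, ∃ y : N, r₁ • y = f x := by
    intro x
    have h3 : (Submodule.Quotient.mk (f x) : QuotSMulTop r₁ N) = 0 := h2 _ (by
      rw [← Submodule.Quotient.mk_smul, Submodule.Quotient.mk_eq_zero, Submodule.mem_smul_pointwise_iff_exists]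
      exact ⟨g x, trivial, LinearMap.congr_fun hg x⟩)
    rw [Submodule.Quotient.mk_eq_zero, Submodule.mem_smul_pointwise_iff_exists] at h3
    obtain ⟨y, -, hy⟩ := h3
    exact ⟨y, hy⟩
  choose φ hφ using hx
  let φ' : M →ₗ[R] N :=
    { toFun := φ
      map_add' := fun a b => h1 (by
        show r₁ • φ (a + b) = r₁ • (φ a + φ b)
        rw [smul_add, hφ, hφ, hφ, map_add])
      map_smul' := fun c a => h1 (by
        show r₁ • φ (c • a) = r₁ • (c • φ a)
        rw [hφ, map_smul, smul_comm r₁ c, hφ]) }
  rw [Submodule.Quotient.mk_eq_zero, Submodule.mem_smul_pointwise_iff_exists]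
  exact ⟨φ', trivial, LinearMap.ext fun x => hφ x⟩

end Groth.Agent.S18539
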