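import Groth.Statements.S18540
import Groth.Agent.L26.AV.TorsKill
import Groth.Agent.L26.AV.TateSat
import Groth.Agent.L26.AV.Hom
import Groth.Agent.L26.AV.SmoothField
import Mathlib.LinearAlgebra.Charpoly.Basic

set_option autoImplicit false
universe u
open CategoryTheory MonoidalCategory CartesianMonoidalCategory MonObj GrpObj AlgebraicGeometry
open AbVar

namespace Groth.Agent.S18540

open Groth.Agent.AV

/-- Let k be a field with algebraic closure Ω, ℓ a prime number invertible in k, A an abelian variety
over k (a commutative group scheme over k which is smooth and proper with geometrically connected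
fibres) and f an endomorphism of A over k. Suppose the ℓ-adic Tate module of Ω-valued points of A is
free of finite rank over the ℓ-adic integers, and let P be a polynomial with integer coefficients
mapping to the characteristic polynomial of the endomorphism T_ℓ(f) of that Tate module (the
characteristic polynomial of f). Then P(f) = 0 in the endomorphism ring of A: f satisfies its own
characteristic polynomial. -/
theorem result (k Ω : Type u) [Field k] [Field Ω] [Algebra k Ω]
    [IsAlgClosure k Ω] (A : Over (Spec (CommRingCat.of k)))
    [GrpObj A] [IsCommMonObj A] [Smooth A.hom] [IsProper A.hom] [GeometricallyConnected A.hom]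
    (l : ℕ) [Fact l.Prime] (hl : (l : k) ≠ 0)
    [Module.Free ℤ_[l] (AbDual.TateMod A l (SGA7.pt Ω))] [Module.Finite ℤ_[l] (AbDual.TateMod A l (SGA7.pt Ω))]
    (f : EndAV.End A) (P : Polynomial ℤ)
    (hP : (EndAV.End.tateRep l (SGA7.pt Ω) f).charpoly = P.map (Int.castRingHom ℤ_[l])) :
    Polynomial.aeval f P = 0 := by
  haveI : IsAlgClosed Ω := IsAlgClosure.isAlgClosed k
  haveI : ConnectedSpace A.left := GeometricallyConnected.connectedSpace A.hom A.hom.isOpenMap
  haveI : GeometricallyReduced A.hom := geometricallyReduced_of_smooth A.hom
  haveI : GeometricallyIntegral A.hom := geometricallyIntegral_of_connected A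
  have h0 : EndAV.End.tateRep l (SGA7.pt Ω) (Polynomial.aeval f P) = 0 := by
    rw [show Polynomial.aeval f P = Polynomial.eval₂ (algebraMap ℤ (EndAV.End A)) f P from rfl,
      Polynomial.hom_eval₂,
      show (EndAV.End.tateRep l (SGA7.pt Ω)).comp (algebraMap ℤ (EndAV.End A)) =
        (algebraMap ℤ_[l] (Module.End ℤ_[l] (AbDual.TateMod A l (SGA7.pt Ω)))).comp (Int.castRingHom ℤ_[l]) from
        RingHom.ext_int _ _, ← Polynomial.eval₂_map, ← hP]
    exact LinearMap.aeval_self_charpoly _
  refine EndAV.End.ext ?_
  rw [EndAV.End.toHom_zero]
  exact TorsKill.eq_one_of_kills_geom (K := Ω) (Polynomial.aeval f P).toHom hl fun n Q hQ =>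
    TateSat.comp_eq_one_of_smul (fun Q => Isogeny.exists_pow_eq l hl Q) (Polynomial.aeval f P).toHom n 0
      (by rw [smul_zero]; exact h0) Q hQ

end Groth.Agent.S18540
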