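import Groth.Statements.S18541
import Groth.Agent.L26.AbDual.LamLinear
import Groth.Agent.L26.AV.FrobPullback

set_option autoImplicit false
universe u
open CategoryTheory MonoidalCategory CartesianMonoidalCategory MonObj GrpObj AlgebraicGeometry
open AbVar

namespace Groth.Agent.S18541

attribute [local instance] Groth.L08.Cube.clMonoid Groth.Agent.AV.InterPic.picLaw
open Groth.Agent Groth.Agent.Poincare

/-- Let k be a finite field with q elements and A an abelian variety over k (a commutative group scheme
over k which is smooth and proper with geometrically connected fibres), given with a dual (A^t, φ)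
for the fppf topology. Let π : A → A be the q-power Frobenius endomorphism of A (the identity on the
underlying space and the q-th power map on sections; a homomorphism) and π^t : A^t → A^t a transpose
of π. Let L be an invertible module on A and λ_L : A → A^t the homomorphism Λ(L) attached to L
through φ. Then π followed by λ_L followed by π^t is q·λ_L, the q-th power of λ_L in the group of
morphisms A → A^t. (The published statement fixes L ample and reads π^‡ ∘ π = [q] for the Rosati
involution ‡ of L; its proof rewrites this as the displayed identity, which uses only that L is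
invertible.) -/
theorem result (k : Type u) [Field k] [Finite k]
    (A At : Over (Spec (CommRingCat.of k)))
    [GrpObj A] [IsCommMonObj A] [Smooth A.hom] [IsProper A.hom] [GeometricallyConnected A.hom]
    [GrpObj At] [IsCommMonObj At]
    (φ : AgPol.DualMap A At) (hdual : AbDual.IsDualAV Scheme.fppfPrecoverage A At φ)
    (π : A ⟶ A) [IsMonHom π] (hπb : π.left.base = 𝟙 _) (hπle : ∀ U : A.left.Opens, U ≤ π.left ⁻¹ᵁ U)
    (hπapp : ∀ (U : A.left.Opens) (s : Γ(A.left, U)), (π.left.appLE U U (hπle U)).hom s = s ^ Nat.card k)
    (πt : At ⟶ At) [IsMonHom πt] (hπt : AbDual.IsTranspose π φ φ πt)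
    (L : A.left.Modules) (hL : PicF.IsInvertible L) (lam : A ⟶ At) (hlam : AgPol.IsLambda A At φ L lam) :
    π ≫ lam ≫ πt = lam ^ Nat.card k := by
  haveI := Groth.Agent.AV.geometricallyReduced_of_smooth A.hom
  haveI : GeometricallyIntegral A.hom := Groth.L08.Cube.geometricallyIntegral_of_group A
  have hc : PicF.cl ((Scheme.Modules.pullback π.left).obj L) = PicF.cl L ^ Nat.card k :=
    Groth.Agent.AV.FrobPullback.pullCl_eq π.left hπle (Nat.card k) hπapp hL
  have hπL : PicF.IsInvertible ((Scheme.Modules.pullback π.left).obj L) := PicLoc.isInvertible_pullback π.left hL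
  rw [LamLinear.eq_lamOf L hL hlam, ← LamPull.lamOf_pullback hdual π πt hπt L hL hπL,
    LamLinear.lamOf_pow hdual L _ hL hπL (Nat.card k) hc]

end Groth.Agent.S18541
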