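import Groth.Statements.S18542
import Groth.Agent.L26.AV.Subgroup
import Groth.Agent.L26.AV.PointClosure
import Groth.Agent.L26.AV.Hom

set_option autoImplicit false
universe u
open CategoryTheory MonoidalCategory CartesianMonoidalCategory MonObj GrpObj AlgebraicGeometry
open AbVar

namespace Groth.Agent.S18542

open CategoryTheory CategoryTheory.Limits MonoidalCategory CartesianMonoidalCategory MonObj AlgebraicGeometry

/-- Let k be an algebraically closed field, ℓ a prime number invertible in k and A an abelian variety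
over k (a commutative group scheme over k which is smooth and proper with geometrically connected
fibres). Then the set A[ℓ^∞](k) of ℓ-power torsion k-points is Zariski dense in A: the union over
all n of the images, in the underlying topological space of A, of the k-valued points a of A with
a^(ℓ^n) = 1 in the group of k-points is dense. -/
theorem result (k : Type u) [Field k] [IsAlgClosed k]
    (A : Over (Spec (CommRingCat.of k)))
    [GrpObj A] [IsCommMonObj A] [Smooth A.hom] [IsProper A.hom] [GeometricallyConnected A.hom]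
    (l : ℕ) [Fact l.Prime] (hl : (l : k) ≠ 0) :
    Dense (⋃ (n : ℕ) (a : (Over.mk (𝟙 (Spec (CommRingCat.of k)))) ⟶ A)
      (_ : a ∈ AbDual.torsPts A (l ^ n) (Over.mk (𝟙 (Spec (CommRingCat.of k))))), Set.range a.left.base) := by
  haveI : GeometricallyReduced A.hom :=
    ⟨fun L _ y W fst snd h =>
      haveI : Smooth snd := MorphismProperty.of_isPullback h ‹Smooth A.hom›
      Groth.Agent.AV.isReduced_of_smooth_field snd⟩
  haveI : ConnectedSpace A.left := GeometricallyConnected.connectedSpace_of_subsingleton A.hom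
  haveI := Groth.Agent.AV.geometricallyIntegral_of_connected A
  let H : Subgroup (𝟙_ (Over (Spec (CommRingCat.of k))) ⟶ A) :=
    { carrier := {a | ∃ n, a ^ (l ^ n) = 1}
      one_mem' := ⟨0, one_pow _⟩
      mul_mem' := fun {a b} ⟨n, ha⟩ ⟨m, hb⟩ => ⟨n + m, by
        rw [mul_pow, pow_add, pow_mul, ha, one_pow, mul_comm (l ^ n), pow_mul, hb, one_pow, _root_.mul_one]⟩
      inv_mem' := fun {a} ⟨n, ha⟩ => ⟨n, by rw [inv_pow, ha, inv_one]⟩ }
  obtain ⟨K, gK, i, hi, hic, hr, hfac⟩ := Groth.Agent.AV.PointClosure.exists_closureSubgroup (A := A) H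
  letI := gK
  haveI : IsIso i := Groth.Agent.AV.Subgroup.isIso_of_torsion_factors i hl fun n a ha => hfac a ⟨n, ha⟩
  haveI : IsIso i.left := inferInstanceAs (IsIso ((Over.forget _).map i))
  refine dense_iff_closure_eq.2 (Set.eq_univ_of_univ_subset ?_)
  rw [← i.left.surjective.range_eq, hr]
  refine closure_mono fun x hx => ?_
  obtain ⟨a, ⟨n, ha⟩, rfl⟩ := hx
  exact Set.mem_iUnion.2 ⟨n, Set.mem_iUnion.2 ⟨a, Set.mem_iUnion.2 ⟨ha, ⟨_, rfl⟩⟩⟩⟩

end Groth.Agent.S18542
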