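import Mathlib.Algebra.MvPolynomial.Eval
import Mathlib.LinearAlgebra.Matrix.Determinant.Basic
import Mathlib.FieldTheory.IsAlgClosed.Basic
import Mathlib.LinearAlgebra.Matrix.Transvection
import Mathlib.FieldTheory.IsAlgClosed.Basic
import Mathlib.Algebra.MvPolynomial.Funext
import Mathlib.Algebra.Polynomial.Roots

set_option autoImplicit false
namespace CAlg
end CAlg
universe u
open CAlg

namespace Groth.Agent.S18544

/-- Let F be an algebraically closed field of characteristic zero, n a natural number, and N a nonzero
polynomial over F in the n² matrix entries whose evaluation on n × n matrices is multiplicative,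
N(xy) = N(x)·N(y) for all x, y (a norm form on the matrix algebra M_n(F) over F). Then N is a
natural power of the determinant: for some m, N(x) = det(x)^m for every matrix x. The published
statement concerns norm forms of any central simple algebra over a subfield; this row is the case of
the full matrix algebra over an algebraically closed field, which is the case its proof treats. -/
theorem result (F : Type u) [Field F] [IsAlgClosed F]
    [CharZero F] (n : ℕ) (N : MvPolynomial (Fin n × Fin n) F) (hN : N ≠ 0)
    (hmul : ∀ x y : Matrix (Fin n) (Fin n) F,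
      MvPolynomial.eval (fun ij : Fin n × Fin n => (x * y) ij.1 ij.2) N =
        MvPolynomial.eval (fun ij : Fin n × Fin n => x ij.1 ij.2) N * MvPolynomial.eval (fun ij : Fin n × Fin n => y ij.1 ij.2) N) :
    ∃ m : ℕ, ∀ x : Matrix (Fin n) (Fin n) F,
      MvPolynomial.eval (fun ij : Fin n × Fin n => x ij.1 ij.2) N = x.det ^ m := by
  classical
  let f : Matrix (Fin n) (Fin n) F → F := fun x =>
    MvPolynomial.eval (fun ij : Fin n × Fin n => x ij.1 ij.2) N
  have hf : ∀ x y, f (x * y) = f x * f y := hmul
  have hf1 : f 1 = 1 := by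
    have h := hf 1 1
    rw [one_mul] at h
    refine (mul_eq_left₀ ?_).mp h.symm
    intro h0
    refine hN (MvPolynomial.funext fun v => ?_)
    have := hf (Matrix.of fun i j => v (i, j)) 1
    rw [mul_one, h0, mul_zero] at this
    simpa [f] using this
  let φ : Matrix (Fin n) (Fin n) F →* F := { toFun := f, map_one' := hf1, map_mul' := hf }
  -- restriction to an affine line
  have hline : ∀ a b : Matrix (Fin n) (Fin n) F, ∃ g : Polynomial F, ∀ t, g.eval t = f (a + t • b) := by
    intro a b
    refine ⟨MvPolynomial.eval₂ Polynomial.C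
      (fun ij : Fin n × Fin n => Polynomial.C (a ij.1 ij.2) + Polynomial.X * Polynomial.C (b ij.1 ij.2)) N,
      fun t => ?_⟩
    rw [← Polynomial.coe_evalRingHom, MvPolynomial.eval₂_comp_left]
    simp only [f, MvPolynomial.eval, MvPolynomial.coe_eval₂Hom]
    congr 1
    · ext; simp
    · ext ij; simp; rw [mul_comm]
  have htr : ∀ t : Matrix.TransvectionStruct (Fin n) F, φ t.toMatrix = 1 := by
    intro t
    obtain ⟨g, hg⟩ := hline 1 (Matrix.single t.i t.j 1)
    have hg' : ∀ c, g.eval c = f (Matrix.transvection t.i t.j c) := fun c => by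
      rw [hg, Matrix.transvection, Matrix.smul_single, smul_eq_mul, mul_one]
    have h0 : g.eval 0 = 1 := by rw [hg', Matrix.transvection_zero]; exact hf1
    have hdeg : g.degree = 0 := by
      by_contra h
      obtain ⟨c, hc⟩ := IsAlgClosed.exists_root g h
      have h2 : f (Matrix.transvection t.i t.j c) * f (Matrix.transvection t.i t.j (-c)) = 1 := by
        rw [← hf, Matrix.transvection_mul_transvection_same _ _ t.hij, add_neg_cancel,
          Matrix.transvection_zero, hf1]
      rw [← hg' c, hc.eq_zero, zero_mul] at h2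
      exact one_ne_zero h2.symm
    rw [Polynomial.eq_C_of_degree_le_zero hdeg.le, Polynomial.eval_C] at h0
    show f (Matrix.transvection t.i t.j t.c) = 1
    rw [← hg', Polynomial.eq_C_of_degree_le_zero hdeg.le, Polynomial.eval_C, h0]
  -- restriction to the diagonal
  let δ : Fin n → F → Matrix (Fin n) (Fin n) F := fun i c => Matrix.diagonal (Pi.mulSingle i c)
  have hδ : ∀ i, ∃ m : ℕ, ∀ c, f (δ i c) = c ^ m := by
    intro i
    obtain ⟨g, hg⟩ := hline (Matrix.diagonal (Function.update 1 i 0)) (Matrix.single i i 1)
    have hg' : ∀ c, g.eval c = f (δ i c) := fun c => by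
      rw [hg]
      congr 1
      ext a b
      by_cases hab : a = b
      · subst hab
        by_cases hai : a = i
        · subst hai; simp [δ]
        · simp [δ, hai, Matrix.single, Ne.symm hai]
      · have : ¬ (i = a ∧ i = b) := fun h => hab (h.1.symm.trans h.2)
        simp [δ, hab, Matrix.single, this]
    have h1 : g.eval 1 = 1 := by
      rw [hg']; simp only [δ, Pi.mulSingle_one, Matrix.diagonal_one']; exact hf1
    have hne : ∀ c, c ≠ 0 → g.eval c ≠ 0 := fun c hc h => by
      have h2 : g.eval c * g.eval c⁻¹ = 1 := by
        rw [hg', hg', ← hf]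
        show f (Matrix.diagonal (Pi.mulSingle i c) * Matrix.diagonal (Pi.mulSingle i c⁻¹)) = 1
        rw [Matrix.diagonal_mul_diagonal, show (fun k => (Pi.mulSingle i c : Fin n → F) k *
          (Pi.mulSingle i c⁻¹ : Fin n → F) k) = Pi.mulSingle i c * Pi.mulSingle i c⁻¹ from rfl,
          ← Pi.mulSingle_mul, mul_inv_cancel₀ hc, Pi.mulSingle_one, Matrix.diagonal_one']
        exact hf1
      rw [h, zero_mul] at h2
      exact one_ne_zero h2.symm
    have hg0 : g ≠ 0 := fun h => hne 1 one_ne_zero (by rw [h, Polynomial.eval_zero])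
    obtain ⟨q, hq, hqd⟩ := Polynomial.exists_eq_pow_rootMultiplicity_mul_and_not_dvd g hg0 0
    rw [map_zero, sub_zero] at hq hqd
    have hdeg : q.degree = 0 := by
      by_contra h
      obtain ⟨c, hc⟩ := IsAlgClosed.exists_root q h
      by_cases hc0 : c = 0
      · subst hc0
        exact hqd (Polynomial.X_dvd_iff.mpr (by rw [Polynomial.coeff_zero_eq_eval_zero]; exact hc))
      · exact hne c hc0 (by rw [hq, Polynomial.eval_mul, hc.eq_zero, mul_zero])
    rw [Polynomial.eq_C_of_degree_le_zero hdeg.le] at hq
    obtain ⟨e, he⟩ : ∃ e, e = g.rootMultiplicity 0 := ⟨_, rfl⟩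
    rw [← he] at hq
    refine ⟨e, fun c => ?_⟩
    rw [hq] at h1
    simp at h1
    rw [← hg', hq]
    simp [h1]
  choose m hm using hδ
  have hsame : ∀ i j, m i = m j := by
    intro i j
    let σ := Equiv.swap i j
    have h : ∀ c, f (δ j c) = f (δ i c) := by
      intro c
      have hsub : (1 : Matrix (Fin n) (Fin n) F).submatrix σ id * δ i c *
          (1 : Matrix (Fin n) (Fin n) F).submatrix id σ = δ j c := by
        rw [show (δ i c) = (δ i c).submatrix id id from rfl,
          ← Matrix.submatrix_mul _ _ _ _ _ Function.bijective_id, one_mul,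
          ← Matrix.submatrix_mul _ _ _ _ _ Function.bijective_id, mul_one]
        simp only [δ, Matrix.submatrix_diagonal_equiv]
        congr 1
        ext a
        simp [Pi.mulSingle_apply, σ, Equiv.swap_apply_def]
        split_ifs <;> simp_all
      have hinv : f ((1 : Matrix (Fin n) (Fin n) F).submatrix id σ) *
          f ((1 : Matrix (Fin n) (Fin n) F).submatrix σ id) = 1 := by
        rw [← hf, Matrix.submatrix_mul_equiv, one_mul, Matrix.submatrix_id_id, hf1]
      rw [← hsub, hf, hf]
      linear_combination f (δ i c) * hinv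
    by_contra hne
    have : (Polynomial.X : Polynomial F) ^ m j = Polynomial.X ^ m i :=
      Polynomial.funext fun c => by simp [← hm, h c]
    exact hne (Polynomial.natDegree_X_pow (R := F) (m i) ▸ this ▸ Polynomial.natDegree_X_pow (m j))
  obtain ⟨M, hM⟩ : ∃ M, ∀ i, m i = M := by
    rcases isEmpty_or_nonempty (Fin n) with h | ⟨⟨i₀⟩⟩
    · exact ⟨0, fun i => isEmptyElim i⟩
    · exact ⟨m i₀, fun i => hsame i i₀⟩
  refine ⟨M, fun x => ?_⟩
  show φ x = _
  induction x using Matrix.diagonal_transvection_induction with
  | hdiag D _ =>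
    rw [Matrix.det_diagonal, ← Finset.prod_pow]
    let ψ : (Fin n → F) →* F := φ.comp (Matrix.diagonalRingHom (Fin n) F).toMonoidHom
    show ψ D = _
    conv_lhs => rw [← Finset.univ_prod_mulSingle D]
    rw [map_prod]
    exact Finset.prod_congr rfl fun i _ => by rw [← hM i]; exact hm i (D i)
  | htransvec t => rw [htr, t.det, one_pow]
  | hmul A B hA hB => rw [map_mul, hA, hB, Matrix.det_mul, mul_pow]

end Groth.Agent.S18544
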