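import Groth.Statements.S18545
import Mathlib.LinearAlgebra.BilinearForm.Orthogonal
import Mathlib.LinearAlgebra.FiniteDimensional.Basic
import Mathlib.LinearAlgebra.Dual.Lemmas
import Mathlib.Tactic.Linarith

set_option autoImplicit false
universe u
open AbVar

namespace Groth.Agent.S18545

/-- A step in the proof of Tate's isogeny result over finite fields, in linear-algebra form. Let K be a
field and V a K-vector space of finite dimension 2g carrying a nondegenerate alternating bilinear
form e. Let F be a K-subalgebra of End(V) which is isomorphic as a K-algebra to a finite product K ×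
⋯ × K and which is spanned over K by a set S of similitudes of e (for each s in S there is a nonzero
scalar c with e(s x, s y) = c·e(x, y) for all x, y). Let D be a set of endomorphisms of V such that
every F-stable isotropic subspace W of dimension g (a maximal isotropic subspace) is D-stable. Then
every F-stable isotropic subspace of V is D-stable. (In the application V is the rational ℓ-adic
Tate module of an abelian variety over a finite field with the Riemann form of a polarisation, F the
algebra generated by the Galois group, split for the chosen ℓ, and D the commutant of the image of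
the endomorphism algebra; the hypothesis on maximal isotropic subspaces is the step obtained from
the finiteness of isomorphism classes.) -/
theorem result (K : Type u) [Field K]
    (V : Type u) [AddCommGroup V] [Module K V] [FiniteDimensional K V] (g : ℕ) (hV : Module.finrank K V = 2 * g)
    (e : LinearMap.BilinForm K V) (he : e.IsAlt) (hnd : e.Nondegenerate)
    (F : Subalgebra K (Module.End K V)) (r : ℕ) (hF : Nonempty (F ≃ₐ[K] (Fin r → K)))
    (S : Set (Module.End K V)) (hS : Submodule.span K S = Subalgebra.toSubmodule F)
    (hsim : ∀ s ∈ S, ∃ c : K, c ≠ 0 ∧ ∀ x y : V, e (s x) (s y) = c * e x y)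
    (D : Set (Module.End K V))
    (hmax : ∀ W : Submodule K V, (∀ f ∈ F, ∀ w ∈ W, f w ∈ W) → (∀ x ∈ W, ∀ y ∈ W, e x y = 0) →
      Module.finrank K W = g → ∀ d ∈ D, ∀ w ∈ W, d w ∈ W)
    (W : Submodule K V) (hWF : ∀ f ∈ F, ∀ w ∈ W, f w ∈ W) (hWiso : ∀ x ∈ W, ∀ y ∈ W, e x y = 0) :
    ∀ d ∈ D, ∀ w ∈ W, d w ∈ W := by
  classical
  obtain ⟨φ⟩ := hF
  suffices key : ∀ (k : ℕ) (W : Submodule K V), (∀ f ∈ F, ∀ w ∈ W, f w ∈ W) →
      (∀ x ∈ W, ∀ y ∈ W, e x y = 0) → g - Module.finrank K W = k → ∀ d ∈ D, ∀ w ∈ W, d w ∈ W from
    key _ W hWF hWiso rfl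
  intro k
  induction k using Nat.strong_induction_on with
  | _ k ih =>
    intro W hWF hWiso hk
    have hperp : Module.finrank K (e.orthogonal W) = 2 * g - Module.finrank K W := by
      rw [LinearMap.BilinForm.finrank_orthogonal hnd W, hV]
    have hle : W ≤ e.orthogonal W := fun x hx =>
      LinearMap.BilinForm.mem_orthogonal_iff.2 fun y hy => hWiso y hy x hx
    have hdim := Submodule.finrank_mono hle
    rcases Nat.lt_or_ge (Module.finrank K W) g with hlt | hge
    swap
    · exact hmax W hWF hWiso (by omega)
    -- similitudes preserve the orthogonal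
    have hstab : ∀ f ∈ F, ∀ x ∈ e.orthogonal W, f x ∈ e.orthogonal W := by
      intro f hf x hx
      have hf' : f ∈ Submodule.span K S := by rw [hS]; exact hf
      induction hf' using Submodule.span_induction with
      | mem s hs =>
        obtain ⟨c, hc, hsc⟩ := hsim s hs
        have hsF : s ∈ F := by
          have : s ∈ Submodule.span K S := Submodule.subset_span hs
          rwa [hS] at this
        have hinj : Function.Injective (s.restrict (hWF s hsF)) := by
          rw [← LinearMap.ker_eq_bot, LinearMap.ker_eq_bot']
          intro w hw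
          have hw' : s (w : V) = 0 := congrArg Subtype.val hw
          refine Subtype.ext (hnd.1 (w : V) fun y => ?_)
          have := hsc w y
          rw [hw', map_zero, LinearMap.zero_apply, eq_comm, mul_eq_zero] at this
          exact this.resolve_left hc
        rw [LinearMap.BilinForm.mem_orthogonal_iff]
        intro w hw
        obtain ⟨w', hw'⟩ := LinearMap.surjective_of_injective hinj ⟨w, hw⟩
        have hw2 : s (w' : V) = w := congrArg Subtype.val hw'
        show e w (s x) = 0
        rw [← hw2, hsc, show e (w' : V) x = 0 from (LinearMap.BilinForm.mem_orthogonal_iff.1 hx) w' w'.2,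
          mul_zero]
      | zero => simp
      | add a b ha hb iha ihb =>
        rw [hS] at ha hb
        rw [LinearMap.add_apply]
        exact add_mem (iha ha) (ihb hb)
      | smul c a ha iha =>
        rw [hS] at ha
        rw [LinearMap.smul_apply]
        exact Submodule.smul_mem _ c (iha ha)
    -- idempotents
    let π : Fin r → Module.End K V := fun i => (φ.symm (Pi.single i 1) : F)
    have hπF : ∀ i, π i ∈ F := fun i => (φ.symm (Pi.single i 1)).2
    have hsum : ∀ v, ∑ i, π i v = v := fun v => by
      rw [← LinearMap.sum_apply]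
      have : (∑ i, π i) = 1 := by
        simp only [π, ← AddSubmonoidClass.coe_finset_sum, ← map_sum]
        rw [Finset.univ_sum_single (fun _ : Fin r => (1 : K))]
        exact (congrArg Subtype.val (map_one φ.symm))
      rw [this]; rfl
    have heig : ∀ f (hf : f ∈ F) i v, f (π i v) = φ ⟨f, hf⟩ i • π i v := by
      intro f hf i v
      have e1 : (⟨f, hf⟩ : F) * φ.symm (Pi.single i 1) = φ ⟨f, hf⟩ i • φ.symm (Pi.single i 1) := by
        apply φ.injective
        rw [map_mul, map_smul, AlgEquiv.apply_symm_apply]
        funext j
        by_cases h : j = i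
        · subst h; simp
        · simp [Pi.single_eq_of_ne h]
      exact LinearMap.congr_fun (congrArg Subtype.val e1) v
    -- enlarge `W` by an eigenline
    have extend : ∀ i v, v ∈ e.orthogonal W → π i v ∉ W →
        ∀ d ∈ D, ∀ w ∈ W, d w ∈ W ⊔ K ∙ π i v := by
      intro i v hv hnot d hd w hw
      have hu : π i v ∈ e.orthogonal W := hstab _ (hπF i) v hv
      have hlt' : W < W ⊔ K ∙ π i v := lt_of_le_of_ne le_sup_left fun h =>
        hnot (h.symm ▸ Submodule.mem_sup_right (Submodule.mem_span_singleton_self _))
      have h2 : ∀ f ∈ F, ∀ x ∈ W ⊔ K ∙ π i v, f x ∈ W ⊔ K ∙ π i v := by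
        intro f hf x hx
        obtain ⟨a, ha, b, hb, rfl⟩ := Submodule.mem_sup.1 hx
        obtain ⟨c, rfl⟩ := Submodule.mem_span_singleton.1 hb
        rw [map_add, map_smul, heig f hf i v, smul_smul]
        exact Submodule.add_mem_sup (hWF f hf a ha) (Submodule.smul_mem _ _ (Submodule.mem_span_singleton_self _))
      have h3 : ∀ x ∈ W ⊔ K ∙ π i v, ∀ y ∈ W ⊔ K ∙ π i v, e x y = 0 := by
        intro x hx y hy
        obtain ⟨a, ha, b, hb, rfl⟩ := Submodule.mem_sup.1 hx
        obtain ⟨a', ha', b', hb', rfl⟩ := Submodule.mem_sup.1 hy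
        obtain ⟨c, rfl⟩ := Submodule.mem_span_singleton.1 hb
        obtain ⟨c', rfl⟩ := Submodule.mem_span_singleton.1 hb'
        have h1 : ∀ z ∈ W, e z (π i v) = 0 := LinearMap.BilinForm.mem_orthogonal_iff.1 hu
        have h1' : ∀ z ∈ W, e (π i v) z = 0 := fun z hz => he.isRefl z _ (h1 z hz)
        simp [hWiso a ha a' ha', h1 a ha, h1' a' ha', he (π i v)]
      have h4 := Submodule.finrank_lt_finrank_of_lt hlt'
      exact ih _ (by omega) _ h2 h3 rfl d hd w (Submodule.mem_sup_left hw)
    obtain ⟨i, v, hv, hnot⟩ : ∃ i v, v ∈ e.orthogonal W ∧ π i v ∉ W := by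
      by_contra hc
      push Not at hc
      have : e.orthogonal W ≤ W := fun v hv => hsum v ▸ W.sum_mem fun i _ => hc i v hv
      have := Submodule.finrank_mono this
      omega
    obtain ⟨i', v', hv', hnot'⟩ : ∃ i' v', v' ∈ e.orthogonal W ∧ π i' v' ∉ W ⊔ K ∙ π i v := by
      by_contra hc
      push Not at hc
      have h1 : e.orthogonal W ≤ W ⊔ K ∙ π i v := fun x hx =>
        hsum x ▸ Submodule.sum_mem _ fun j _ => hc j x hx
      have h2 := Submodule.finrank_mono h1
      have h3 := Submodule.finrank_add_le_finrank_add_finrank W (K ∙ π i v)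
      have h4 : Module.finrank K (K ∙ π i v) ≤ 1 :=
        le_of_eq (finrank_span_singleton (fun h => hnot (by rw [h]; exact W.zero_mem)))
      omega
    intro d hd w hw
    obtain ⟨a, ha, b, hb, hab⟩ := Submodule.mem_sup.1
      (extend i' v' hv' (fun h => hnot' (Submodule.mem_sup_left h)) d hd w hw)
    obtain ⟨c, rfl⟩ := Submodule.mem_span_singleton.1 hb
    have hmem : c • π i' v' ∈ W ⊔ K ∙ π i v := by
      have h1 := extend i v hv hnot d hd w hw
      rw [← hab] at h1
      exact (Submodule.add_mem_iff_right _ (Submodule.mem_sup_left ha)).1 h1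
    by_cases hc : c = 0
    · rw [← hab, hc, zero_smul, add_zero]; exact ha
    · exact absurd ((Submodule.smul_mem_iff _ hc).1 hmem) hnot'

end Groth.Agent.S18545
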