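import Groth.Statements.S18548
import Groth.Agent.L11.GalCoh.SymSq

set_option autoImplicit false
open scoped TensorProduct
universe u v w
open GalCoh

namespace Groth.Agent.S18548

/-- Let G be a group acting linearly on a vector space V over the field 𝔽₂ with two elements, and
suppose V is a permutation module: G permutes the vectors of some basis of V. Then the short exact
sequence of G-modules 0 → V → S²V → Λ²V → 0 (v ↦ v·v, x·y ↦ x ∧ y) splits G-equivariantly. Here, for
a vector space V over the field with two elements carrying a linear action ρ of a group G, write N_a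
⊆ V ⊗ V for the span of the tensors v ⊗ v and N_s ⊆ N_a for the span of the tensors x ⊗ y + y ⊗ x,
so that S²V = (V ⊗ V)/N_s, Λ²V = (V ⊗ V)/N_a and the surjection S²V → Λ²V, x·y ↦ x ∧ y, is
G-equivariant for the diagonal action; a G-equivariant linear section of this surjection is the same
thing as a G-stable subspace W of V ⊗ V with W ∩ N_a = N_s and W + N_a = V ⊗ V, which is how the
splitting is stated. (The source has the absolute Galois group of a field acting continuously; any
group and any basis index set are allowed here.) -/
theorem result (G : Type u) [Group G] (V : Type v)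
    [AddCommGroup V] [Module (ZMod 2) V] (ρ : Representation (ZMod 2) G V)
    (ι : Type w) (b : Module.Basis ι (ZMod 2) V) (hb : ∀ g : G, ∀ i : ι, ∃ j : ι, ρ g (b i) = b j) :
    ∃ W : Submodule (ZMod 2) (V ⊗[ZMod 2] V),
      (∀ g : G, ∀ w ∈ W, ρ.tprod ρ g w ∈ W) ∧
      W ⊓ Submodule.span (ZMod 2) (Set.range fun v : V => v ⊗ₜ[ZMod 2] v) =
        Submodule.span (ZMod 2) (Set.range fun p : V × V => p.1 ⊗ₜ[ZMod 2] p.2 + p.2 ⊗ₜ[ZMod 2] p.1) ∧
      W ⊔ Submodule.span (ZMod 2) (Set.range fun v : V => v ⊗ₜ[ZMod 2] v) = ⊤ := by
  exact Groth.L11.SymSq.exists_splitting_of_permutation b ρ hb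

end Groth.Agent.S18548
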