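import Groth.Statements.S18549
import Groth.Agent.L11.GalCoh.SymSq

set_option autoImplicit false
open scoped TensorProduct
universe u v
open GalCoh

namespace Groth.Agent.S18549

/-- Over the real numbers, that is for the group G = Gal(ℂ/ℝ) of order 2 acting linearly on a
finite-dimensional vector space V over the field 𝔽₂ with two elements, the short exact sequence of
G-modules 0 → V → S²V → Λ²V → 0 (v ↦ v·v, x·y ↦ x ∧ y) splits G-equivariantly. Here, for a vector
space V over the field with two elements carrying a linear action ρ of a group G, write N_a ⊆ V ⊗ V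
for the span of the tensors v ⊗ v and N_s ⊆ N_a for the span of the tensors x ⊗ y + y ⊗ x, so that
S²V = (V ⊗ V)/N_s, Λ²V = (V ⊗ V)/N_a and the surjection S²V → Λ²V, x·y ↦ x ∧ y, is G-equivariant for
the diagonal action; a G-equivariant linear section of this surjection is the same thing as a
G-stable subspace W of V ⊗ V with W ∩ N_a = N_s and W + N_a = V ⊗ V, which is how the splitting is
stated. (G is any group of order 2 here; V is taken finite-dimensional, the case covered by the
structure theory of finitely generated modules over 𝔽₂[G] that the argument uses.) -/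
theorem result (G : Type u) [Group G] (hG : Nat.card G = 2)
    (V : Type v) [AddCommGroup V] [Module (ZMod 2) V] [Module.Finite (ZMod 2) V]
    (ρ : Representation (ZMod 2) G V) :
    ∃ W : Submodule (ZMod 2) (V ⊗[ZMod 2] V),
      (∀ g : G, ∀ w ∈ W, ρ.tprod ρ g w ∈ W) ∧
      W ⊓ Submodule.span (ZMod 2) (Set.range fun v : V => v ⊗ₜ[ZMod 2] v) =
        Submodule.span (ZMod 2) (Set.range fun p : V × V => p.1 ⊗ₜ[ZMod 2] p.2 + p.2 ⊗ₜ[ZMod 2] p.1) ∧
      W ⊔ Submodule.span (ZMod 2) (Set.range fun v : V => v ⊗ₜ[ZMod 2] v) = ⊤ := by
  obtain ⟨ι, b, hb⟩ := Groth.L11.SymSq.exists_permuted_basis ρ hG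
  exact Groth.L11.SymSq.exists_splitting_of_permutation b ρ hb

end Groth.Agent.S18549
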