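import Groth.Statements.S18560
import Groth.Agent.L13.Quiv.Basic

set_option autoImplicit false
universe u v
open PtQuiv

namespace Groth.Agent.S18560

open Groth.Agent.L13.Quiv PtQuiv

/-- Let K be a field and s i ∈ K² (i in a finite index type) nonzero vectors, regarded as a
representation of the quiver with a central vertex carrying the plane and one vertex per i carrying
a line that maps to the plane by 1 ↦ s i. For a weight θ in the hypersimplex (0 ≤ θ i ≤ 1, Σ θ i =
2, central weight -1) the representation is θ-semistable if and only if, for every vector v, the
indices i with s i on the line K ∙ v have total weight at most 1. (The published statement is over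
an algebraically closed field, assumes semistability for some interior weight instead of s i ≠ 0,
and phrases the bound through the classes of pairwise proportional s i; any field is allowed here.
Its further assertion that the bounding walls, where the total weight of one proportionality class
equals 1, do not meet in the interior of the hypersimplex is not part of this row.) -/
theorem result (K : Type u) [Field K] (ι : Type v) [Fintype ι]
    (s : ι → (Fin 2 → K)) (hs : ∀ i, s i ≠ 0) (θ : ι → ℚ) (h0 : ∀ i, 0 ≤ θ i)
    (h1 : ∀ i, θ i ≤ 1) (h2 : ∑ i, θ i = 2) :
    PtQuiv.QSemistable (-1) θ s ↔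
      ∀ (J : Finset ι) (v : Fin 2 → K), (∀ i ∈ J, s i ∈ K ∙ v) → ∑ i ∈ J, θ i ≤ 1 := by
  classical
  constructor
  · intro h J v hJ
    rcases J.eq_empty_or_nonempty with rfl | ⟨i, hi⟩
    · simp
    have hv : v ≠ 0 := fun h0 => hs i (by simpa [h0] using hJ i hi)
    have := h.2 (K ∙ v) J hJ
    simp [QWt, finrank_span_singleton hv] at this
    linarith
  · intro h
    refine ⟨by rw [h2]; norm_num, fun L I hI => ?_⟩
    rcases (finrank_le_two L).eq_or_lt with h' | h'
    · have := Finset.sum_le_sum_of_subset_of_nonneg (f := θ) I.subset_univ fun i _ _ => h0 i
      simp [QWt, h']
      linarith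
    interval_cases hd : Module.finrank K L
    · have hL : L = ⊥ := Submodule.finrank_eq_zero.mp hd
      have : I = ∅ := Finset.eq_empty_iff_forall_notMem.mpr fun i hi =>
        hs i ((Submodule.mem_bot K).mp (hL ▸ hI i hi))
      simp [QWt, hd, this]
    · obtain ⟨v, hv, rfl⟩ := exists_gen hd
      have := h I v hI
      simp [QWt, finrank_span_singleton hv]
      linarith

end Groth.Agent.S18560
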