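import Groth.Statements.S18561
import Groth.Agent.L13.Quiv.Basic
import Mathlib.Algebra.Order.Field.Basic

set_option autoImplicit false
universe u v
open PtQuiv

namespace Groth.Agent.S18561

open Groth.Agent.L13.Quiv PtQuiv

/-- Let K be a field and s i ∈ K² (i in a finite index type) nonzero vectors, regarded as a
representation of the quiver with a central vertex carrying the plane and one vertex per i carrying
a line mapping to the plane by 1 ↦ s i. Then the representation is stable for some weight of the
hypersimplex (0 ≤ θ i ≤ 1, Σ θ i = 2, central weight -1) if and only if the s i fall into at least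
three proportionality classes, i.e. three of them are pairwise non-proportional. (The published
statement is over an algebraically closed field and assumes semistability for some interior weight
instead of s i ≠ 0; any field is allowed here. Its further assertions, that the set of semistability
weights is full-dimensional exactly in this case and is a wall otherwise, are not part of this row.) -/
theorem result (K : Type u) [Field K] (ι : Type v)
    [Fintype ι] (s : ι → (Fin 2 → K)) (hs : ∀ i, s i ≠ 0) :
    (∃ θ : ι → ℚ, (∀ i, 0 ≤ θ i) ∧ (∀ i, θ i ≤ 1) ∧ ∑ i, θ i = 2 ∧ PtQuiv.QStable (-1) θ s) ↔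
      ∃ i j k : ι, s i ∉ K ∙ s j ∧ s j ∉ K ∙ s k ∧ s i ∉ K ∙ s k := by
  classical
  constructor
  · rintro ⟨θ, h0, h1, h2, hsem, hst⟩
    have hline : ∀ i₀, ∑ i ∈ Finset.univ.filter (fun i => s i ∈ K ∙ s i₀), θ i < 1 := fun i₀ => by
      let I := Finset.univ.filter fun i => s i ∈ K ∙ s i₀
      have hI : QSubrep s (K ∙ s i₀) I := fun i hi => (Finset.mem_filter.mp hi).2
      have h' := hsem.2 _ I hI
      rcases h'.eq_or_lt with h'' | h''
      · exfalso
        rcases hst _ I hI h'' with ⟨hL, -⟩ | ⟨hL, -⟩
        · exact hs i₀ (Submodule.span_singleton_eq_bot.mp hL)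
        · have := congr_arg (fun L : Submodule K (Fin 2 → K) => Module.finrank K L) hL
          simp [finrank_span_singleton (hs i₀)] at this
      · simp [QWt, finrank_span_singleton (hs i₀)] at h''
        simp only [I] at h''
        linarith
    obtain ⟨i⟩ : Nonempty ι := by
      by_contra hne
      rw [not_nonempty_iff] at hne
      simp at h2
    obtain ⟨j, hj⟩ : ∃ j, s j ∉ K ∙ s i := by
      by_contra hall
      push Not at hall
      have := hline i
      rw [Finset.filter_true_of_mem (fun k _ => hall k), h2] at this
      norm_num at this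
    obtain ⟨k, hki, hkj⟩ : ∃ k, s k ∉ K ∙ s i ∧ s k ∉ K ∙ s j := by
      by_contra hall
      push Not at hall
      have h3 := Finset.sum_le_sum_of_subset_of_nonneg (f := θ)
        (s := Finset.univ) (t := Finset.univ.filter (fun k => s k ∈ K ∙ s i) ∪
          Finset.univ.filter (fun k => s k ∈ K ∙ s j))
        (fun k _ => by
          simp only [Finset.mem_union, Finset.mem_filter, Finset.mem_univ, true_and]
          exact or_iff_not_imp_left.mpr (hall k)) fun k _ _ => h0 k
      have h4 := Finset.sum_union_inter (f := θ) (s₁ := Finset.univ.filter (fun k => s k ∈ K ∙ s i))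
        (s₂ := Finset.univ.filter (fun k => s k ∈ K ∙ s j))
      have h5 : 0 ≤ ∑ k ∈ Finset.univ.filter (fun k => s k ∈ K ∙ s i) ∩
          Finset.univ.filter (fun k => s k ∈ K ∙ s j), θ k := Finset.sum_nonneg fun k _ => h0 k
      linarith [hline i, hline j]
    exact ⟨i, j, k, fun h => hj (mem_comm (hs i) h), fun h => hkj (mem_comm (hs j) h),
      fun h => hki (mem_comm (hs i) h)⟩
  · rintro ⟨i, j, k, hij, hjk, hik⟩
    let C : ι → Submodule K (Fin 2 → K) := fun l => K ∙ s l
    let S := Finset.univ.image C
    let m : ℕ := S.card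
    have hm : 3 ≤ m := by
      have hsub : ({C i, C j, C k} : Finset _) ⊆ S := fun x hx => by
        simp only [Finset.mem_insert, Finset.mem_singleton] at hx
        rcases hx with rfl | rfl | rfl <;> simp [S]
      refine le_trans (le_of_eq ?_) (Finset.card_le_card hsub)
      have e1 : C i ≠ C j := fun h => hij ((show K ∙ s i = K ∙ s j from h) ▸ Submodule.mem_span_singleton_self _)
      have e2 : C j ≠ C k := fun h => hjk ((show K ∙ s j = K ∙ s k from h) ▸ Submodule.mem_span_singleton_self _)
      have e3 : C i ≠ C k := fun h => hik ((show K ∙ s i = K ∙ s k from h) ▸ Submodule.mem_span_singleton_self _)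
      rw [Finset.card_insert_of_notMem (by simp [e1, e3]), Finset.card_pair e2]
    let n : Submodule K (Fin 2 → K) → ℕ := fun L => (Finset.univ.filter fun l => C l = L).card
    let θ : ι → ℚ := fun l => 2 / ((m : ℚ) * n (C l))
    have hn : ∀ l, 0 < n (C l) := fun l => Finset.card_pos.mpr ⟨l, by simp⟩
    have hm' : (0 : ℚ) < m := by exact_mod_cast (by omega : 0 < m)
    have hθ : ∀ l, 0 < θ l := fun l =>
      div_pos two_pos (mul_pos hm' (by exact_mod_cast hn l))
    have hfib : ∀ L ∈ S, ∑ l ∈ Finset.univ.filter (fun l => C l = L), θ l = 2 / m := fun L hL => by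
      obtain ⟨l₀, -, rfl⟩ := Finset.mem_image.mp hL
      rw [Finset.sum_congr rfl (g := fun _ => 2 / ((m : ℚ) * n (C l₀))) fun l hl => by
        simp only [θ, (Finset.mem_filter.mp hl).2], Finset.sum_const, nsmul_eq_mul]
      show (n (C l₀) : ℚ) * _ = _
      have : (n (C l₀) : ℚ) ≠ 0 := by exact_mod_cast (hn l₀).ne'
      field_simp
    have hsum : ∑ l, θ l = 2 := by
      rw [← Finset.sum_fiberwise_of_maps_to (fun l _ => Finset.mem_image_of_mem C (Finset.mem_univ l)),
        Finset.sum_congr rfl hfib, Finset.sum_const, nsmul_eq_mul]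
      show (m : ℚ) * _ = _
      field_simp
    have hlt : (2 : ℚ) / m < 1 := by
      rw [div_lt_one hm']
      exact_mod_cast (by omega : 2 < m)
    have hline : ∀ (v : Fin 2 → K) (I : Finset ι), (∀ l ∈ I, s l ∈ K ∙ v) →
        ∑ l ∈ I, θ l < 1 := by
      intro v I hI
      rcases I.eq_empty_or_nonempty with rfl | ⟨l₀, hl₀⟩
      · simp
      refine lt_of_le_of_lt ?_ hlt
      rw [← hfib (C l₀) (Finset.mem_image_of_mem C (Finset.mem_univ _))]
      refine Finset.sum_le_sum_of_subset_of_nonneg (fun l hl => ?_) fun l _ _ => (hθ l).le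
      simp only [Finset.mem_filter, Finset.mem_univ, true_and, C]
      rw [span_eq_of_mem (hs l) (hI l hl), span_eq_of_mem (hs l₀) (hI l₀ hl₀)]
    have hsub : ∀ (L : Submodule K (Fin 2 → K)) (I : Finset ι), QSubrep s L I →
        QWt K (-1) θ L I ≤ 0 ∧ (QWt K (-1) θ L I = 0 →
          (L = ⊥ ∧ I = ∅) ∨ (L = ⊤ ∧ I = Finset.univ)) := by
      intro L I hI
      rcases (finrank_le_two L).eq_or_lt with h' | h'
      · have h3 := Finset.sum_le_sum_of_subset_of_nonneg (f := θ) I.subset_univ fun l _ _ => (hθ l).le
        refine ⟨by simp [QWt, h']; linarith, fun h => Or.inr ⟨eq_top_of_two h', ?_⟩⟩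
        refine Finset.eq_univ_of_forall fun l => ?_
        by_contra hl
        have h4 := Finset.sum_le_sum_of_subset_of_nonneg (f := θ)
          (Finset.subset_univ (insert l I)) fun x _ _ => (hθ x).le
        rw [Finset.sum_insert hl] at h4
        simp [QWt, h'] at h
        linarith [hθ l]
      interval_cases hd : Module.finrank K L
      · have hL : L = ⊥ := Submodule.finrank_eq_zero.mp hd
        have : I = ∅ := Finset.eq_empty_iff_forall_notMem.mpr fun l hl =>
          hs l ((Submodule.mem_bot K).mp (hL ▸ hI l hl))
        exact ⟨by simp [QWt, hd, this], fun _ => Or.inl ⟨hL, this⟩⟩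
      · obtain ⟨v, hv, rfl⟩ := exists_gen hd
        have hlt' := hline v I hI
        have : QWt K (-1) θ (K ∙ v) I < 0 := by
          simp [QWt, finrank_span_singleton hv]
          linarith
        exact ⟨this.le, fun h => absurd h this.ne⟩
    refine ⟨θ, fun l => (hθ l).le, fun l => ?_, hsum, ⟨by rw [hsum]; norm_num,
      fun L I h => (hsub L I h).1⟩, fun L I h => (hsub L I h).2⟩
    have := hline (s l) {l} fun x hx => by
      rw [Finset.mem_singleton.mp hx]; exact Submodule.mem_span_singleton_self _
    simp at this
    exact this.le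

end Groth.Agent.S18561
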