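import Groth.Statements.S18563
import Groth.Agent.L13.Quiv.Basic

set_option autoImplicit false
universe u v
open PtQuiv

namespace Groth.Agent.S18563

open Groth.Agent.L13.Quiv PtQuiv

/-- Let K be a field, κ a finite index type with a ≠ b, and s i ∈ K² a representation of the quiver with
a central vertex carrying the plane and one vertex per i : κ carrying a line mapping to the plane by
1 ↦ s i. Let θ be a weight of the hypersimplex (0 ≤ θ i ≤ 1, Σ θ i = 2, central weight -1) with 1 <
θ a + θ b < 2, and put c = 1 / (2 - θ a - θ b). Then s is θ-stable if and only if s a, s b are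
linearly independent and, writing every other s i = t i 0 • s a + t i 1 • s b, the representation t
of the quiver with two one-dimensional sinks p₀, p₁ and one one-dimensional source per i ≠ a, b
(arrow to p_j given by t i j) is stable for the weight c (θ a - 1) at p₀, c (θ b - 1) at p₁ and c θ
i at the sources. (The published statement is about representations over a base scheme, with
(semi)stability tested on geometric fibres, that is over algebraically closed fields; this row
states the fibrewise content over an arbitrary field.) -/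
theorem result (K : Type u) [Field K]
    (κ : Type v) [Fintype κ] [DecidableEq κ] (a b : κ) (hab : a ≠ b) (s : κ → (Fin 2 → K))
    (θ : κ → ℚ) (h0 : ∀ i, 0 ≤ θ i) (h1 : ∀ i, θ i ≤ 1) (h2 : ∑ i, θ i = 2)
    (hθ : 1 < θ a + θ b) (hθ' : θ a + θ b < 2) :
    PtQuiv.QStable (-1) θ s ↔
      (LinearIndependent K ![s a, s b] ∧
        ∀ t : {i : κ // i ≠ a ∧ i ≠ b} → (Fin 2 → K),
          (∀ i, s i.1 = t i 0 • s a + t i 1 • s b) →
            PtQuiv.PStable ![(2 - θ a - θ b)⁻¹ * (θ a - 1), (2 - θ a - θ b)⁻¹ * (θ b - 1)]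
              (fun i : {i : κ // i ≠ a ∧ i ≠ b} => (2 - θ a - θ b)⁻¹ * θ i.1) t) := by
  classical
  constructor
  · rintro ⟨h, hst⟩
    have hli := linearIndependent_of_semistable h2 hθ h1 h hab
    refine ⟨hli, fun t ht => ⟨⟨weight_zero hab h2 hθ', fun U I hU => ?_⟩, fun U I hU h0' => ?_⟩⟩
    · obtain ⟨L, J, hJ, he, -, -⟩ := exists_qSubrep hab ht hθ' hli U I hU
      have := h.2 L J hJ
      rw [he] at this
      exact nonpos_of_mul_nonpos_right this (by linarith)
    · obtain ⟨L, J, hJ, he, hbot, htop⟩ := exists_qSubrep hab ht hθ' hli U I hU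
      rcases hst L J hJ (by rw [he]; exact mul_eq_zero_of_right _ h0') with h3 | h3
      · exact Or.inl (hbot h3)
      · exact Or.inr (htop h3)
  · rintro ⟨hli, h⟩
    have hspan : ∀ i, ∃ c : Fin 2 → K, s i = c 0 • s a + c 1 • s b := fun i => by
      have htop : Submodule.span K (Set.range ![s a, s b]) = ⊤ :=
        hli.span_eq_top_of_card_eq_finrank (by simp [Module.finrank_fin_fun])
      obtain ⟨c, hc⟩ := (Submodule.mem_span_range_iff_exists_fun K).mp
        (htop ▸ Submodule.mem_top : s i ∈ Submodule.span K (Set.range ![s a, s b]))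
      exact ⟨c, by simpa [Fin.sum_univ_two] using hc.symm⟩
    choose c hc using hspan
    obtain ⟨⟨-, hP⟩, hPst⟩ := h (fun i => c i.1) fun i => hc i.1
    have hD : 0 < 2 - θ a - θ b := by linarith
    have hpos : ∀ i, 0 < θ i := by
      intro i
      by_cases hia : i = a
      · subst hia; linarith [h1 b]
      by_cases hib : i = b
      · subst hib; linarith [h1 a]
      refine lt_of_le_of_ne (h0 i) fun hi => ?_
      let i' : {i : κ // i ≠ a ∧ i ≠ b} := ⟨i, hia, hib⟩
      have hw : PWt K (eta θ a b) (fun i : {i : κ // i ≠ a ∧ i ≠ b} => (2 - θ a - θ b)⁻¹ * θ i.1) ⊤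
          (Finset.univ.erase i') = 0 := by
        have e := weight_zero (θ := θ) hab h2 hθ'
        rw [PWt, Finset.sum_erase _ (by simp [i', ← hi])]
        simpa [Fin.sum_univ_two, Module.finrank_self] using e
      rcases hPst ⊤ (Finset.univ.erase i') (fun _ _ _ => trivial) hw with ⟨h3, -⟩ | ⟨-, h3⟩
      · exact top_ne_bot (congr_fun h3 0)
      · exact Finset.notMem_erase i' _ (h3 ▸ Finset.mem_univ i')
    have hsub : ∀ (L : Submodule K (Fin 2 → K)) (I : Finset κ), QSubrep s L I →
        QWt K (-1) θ L I ≤ 0 ∧ (QWt K (-1) θ L I = 0 →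
          (L = ⊥ ∧ I = ∅) ∨ (L = ⊤ ∧ I = Finset.univ)) := by
      intro L I hI
      rcases qWt_le hab h0 h2 (fun i => hc i.1) hθ hθ' hli L I hI with
        rfl | hlt | ⟨U, J, hU, hle, hUtop, hUbot⟩
      · have h3 := Finset.sum_le_sum_of_subset_of_nonneg (f := θ) I.subset_univ fun i _ _ => h0 i
        refine ⟨by simp [QWt, Module.finrank_fin_fun]; linarith,
          fun h => Or.inr ⟨rfl, Finset.eq_univ_of_forall fun l => ?_⟩⟩
        by_contra hl
        have h4 := Finset.sum_le_sum_of_subset_of_nonneg (f := θ)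
          (Finset.subset_univ (insert l I)) fun x _ _ => h0 x
        rw [Finset.sum_insert hl] at h4
        simp [QWt, Module.finrank_fin_fun] at h
        linarith [hpos l]
      · exact ⟨hlt.le, fun h => absurd h hlt.ne⟩
      · have hneg := hP U J hU
        refine ⟨hle.trans (mul_nonpos_of_nonneg_of_nonpos hD.le hneg), fun h => Or.inl ?_⟩
        have h3 : PWt K (eta θ a b) (fun i : {i : κ // i ≠ a ∧ i ≠ b} => (2 - θ a - θ b)⁻¹ * θ i.1) U J = 0 := by
          refine le_antisymm hneg (nonneg_of_mul_nonneg_right ?_ hD)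
          linarith
        rcases hPst U J hU h3 with ⟨h4, h5⟩ | ⟨h4, -⟩
        · exact hUbot h4 h5
        · exact absurd h4 hUtop
    exact ⟨⟨by rw [h2]; norm_num, fun L I h => (hsub L I h).1⟩, fun L I h => (hsub L I h).2⟩

end Groth.Agent.S18563
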