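import Groth.Statements.S18570
import Groth.Agent.L13.GPar.Numeric

set_option autoImplicit false
universe u
open CategoryTheory CategoryTheory.Limits AlgebraicGeometry
open ParSh

namespace Groth.Agent.S18570

/-- Let Y be a smooth proper integral curve (integral, smooth and proper over k, of dimension one) over
an algebraically closed field k and D an effective Cartier divisor on Y with ideal I, of degree d ≥
1 in the sense that H⁰(Y, G ⊗ O_D) has k-dimension r·d for every finite locally free G of rank r. A
generalised parabolic structure on a finite locally free E is a k-subspace F₁ of H⁰(E ⊗ O_D); with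
weight α its parabolic degree in rank n is deg E + α·dim_k F₁ (deg E = χ(E) − n·χ(O_Y)); a submodule
G → E carries the preimage structure under H⁰(G ⊗ O_D) → H⁰(E ⊗ O_D), and (E, F₁) is α-semistable
(α-stable) when deg_α(G)·n ≤ (<) deg_α(E)·r for every finite locally free submodule G of rank r ≥ 1
(with r < n for stability); weight α = 1 gives 1-semistability and 1-stability. Let E have rank n ≥
2 with structure F₁ and let 0 ≤ α < 1 satisfy 1 − 1/(d·n·(n−1)) < α. Suppose moreover that n and deg
E are coprime and that dim_k F₁ = a·n is a multiple of n. Then α-semistability, α-stability,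
1-semistability and 1-stability of (E, F₁) are all equivalent. The published statement is set on the
normalisation of a singular curve, with structures over several disjoint divisors D_i lying over its
singular points, d their total degree and each dim F₁^i a multiple of n; here Y is any smooth proper
integral curve with one structure over one divisor and only dim F₁ = a·n is assumed, which contains
the several-divisor case (D the sum of the D_i, F₁ the direct sum of the F₁^i). -/
theorem result (k : Type u) [Field k] [IsAlgClosed k] (X : Scheme.{u}) [X.Over (Spec (CommRingCat.of k))]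
    [AlgebraicGeometry.IsIntegral X] [IsProper (X ↘ Spec (CommRingCat.of k))] [Smooth (X ↘ Spec (CommRingCat.of k))]
    (hdim : topologicalKrullDim X = 1)
    (I : X.IdealSheafData) (hD : FGA.IsEffCartier I) (d : ℕ) (hd : 0 < d)
    (hdegD : ∀ (G : X.Modules) (r : ℕ), FlatMod.IsFinLocFreeOfRank r G → Module.finrank k (ParSh.fibD X I G) = r * d)
    {E : X.Modules} (n : ℕ) (hn : 2 ≤ n) (hE : FlatMod.IsFinLocFreeOfRank n E)
    (F₁ : Submodule k (ParSh.fibD X I E))
    (α : ℝ) (hα0 : 0 ≤ α) (hα1 : α < 1) (hα : 1 - 1 / ((d : ℝ) * (n : ℝ) * ((n : ℝ) - 1)) < α)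
    (hcop : IsCoprime (n : ℤ) (Curv2.deg k X E n)) (a : ℕ) (ha : Module.finrank k F₁ = a * n) :
    (ParSh.IsGPSemistable k X I α F₁ n ↔ ParSh.IsGPSemistable k X I 1 F₁ n) ∧
      (ParSh.IsGPStable k X I α F₁ n ↔ ParSh.IsGPSemistable k X I 1 F₁ n) ∧
      (ParSh.IsGPStable k X I 1 F₁ n ↔ ParSh.IsGPSemistable k X I 1 F₁ n) := by
  haveI := LocallyOfFiniteType.isLocallyNoetherian (X ↘ Spec (CommRingCat.of k))
  have h1 := Groth.L13.GPar.one_stable_of_coprime k F₁ hcop ha
  have h2 := Groth.L13.GPar.stable_of_one_stable k hE F₁ hd hdegD hn hα1 hα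
  have h3 := Groth.L13.GPar.semistable_of_stable k hdim.le hD hE F₁ α hα0 hα1.le
  have h4 := Groth.L13.GPar.one_semistable k hdim.le hD hE F₁ hd hdegD hn hα1 hα
  exact ⟨⟨h4, fun h => h3 (h2 (h1 h))⟩, ⟨fun h => h4 (h3 h), fun h => h2 (h1 h)⟩,
    ⟨Groth.L13.GPar.semistable_of_stable k hdim.le hD hE F₁ 1 zero_le_one le_rfl, h1⟩⟩

end Groth.Agent.S18570
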