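import Groth.Statements.S18572
import Groth.Agent.L11.REq.Retract

set_option autoImplicit false
universe u
open CategoryTheory AlgebraicGeometry
open REq

namespace Groth.Agent.S18572

/-- Let k be an infinite field and X an integral separated scheme of finite type over k which is retract
rational over k. Then X is almost R-trivial over k: there is a dense open subscheme U of X such
that, for every field K containing k (in the universe of k), U has a K-point and any two K-points of
X lying in U are R-equivalent on X. -/
theorem result (k : Type u) [Field k] [Infinite k] (X : Scheme.{u})
    (f : X ⟶ Spec (CommRingCat.of k)) [IsIntegral X] [LocallyOfFiniteType f] [QuasiCompact f]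
    [IsSeparated f] (hX : REq.IsRetractRational f) :
    REq.IsAlmostRTrivial f := by
  obtain ⟨U, hd, -, h⟩ := Groth.L11.REqHom.isAlmostRTrivial f hX
  exact ⟨U, hd, fun K _ _ => ⟨(h K).1, fun A B hA hB => Relation.EqvGen.rel _ _ ((h K).2 A B hA hB)⟩⟩

end Groth.Agent.S18572
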