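import Groth.Statements.S18574
import Groth.Agent.L11.REq.Image

set_option autoImplicit false
universe u v
open CategoryTheory AlgebraicGeometry
open REq

namespace Groth.Agent.S18574

/-- Let k be a field and Φ a contravariant functor from the category of schemes over Spec k to sets.
Assume that for every integral scheme Y smooth, separated and quasi-compact over k, the map Φ(Y) →
Φ(P^1_Y) induced by the projection P^1_Y → Y is bijective. Let X be a proper integral scheme over k
having a non-empty open subscheme smooth over k, and assume X is almost R-trivial over k. Then there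
is a non-empty open subscheme U of X, smooth over k, such that the image of Φ(X) → Φ(U) (restriction
along the inclusion) equals the image of Φ(Spec k) → Φ(U) (along the structure morphism of U). The
functor takes values in an arbitrary universe. -/
theorem result (k : Type u) [Field k]
    (Φ : (Over (Spec (CommRingCat.of k)))ᵒᵖ ⥤ Type v)
    (hΦ : ∀ (Y : Scheme.{u}) (g : Y ⟶ Spec (CommRingCat.of k)) [IsIntegral Y] [Smooth g]
      [IsSeparated g] [QuasiCompact g],
      Function.Bijective (Φ.map (Over.homMk (CohB1.ProjSpaceOver.toBase 1 Y) rfl :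
        Over.mk (CohB1.ProjSpaceOver.toBase 1 Y ≫ g) ⟶ Over.mk g).op))
    (X : Scheme.{u}) (f : X ⟶ Spec (CommRingCat.of k)) [IsIntegral X] [IsProper f]
    (hsm : ∃ V : X.Opens, (V : Set X).Nonempty ∧ Smooth (V.ι ≫ f))
    (hR : REq.IsAlmostRTrivial f) :
    ∃ U : X.Opens, (U : Set X).Nonempty ∧ Smooth (U.ι ≫ f) ∧
      Set.range (Φ.map (Over.homMk U.ι rfl : Over.mk (U.ι ≫ f) ⟶ Over.mk f).op) =
        Set.range (Φ.map (Over.homMk (U.ι ≫ f) (Category.comp_id _) :
          Over.mk (U.ι ≫ f) ⟶ Over.mk (𝟙 (Spec (CommRingCat.of k)))).op) := by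
  exact Groth.L11.REqHom.range_eq_range k Φ hΦ X f hsm hR

end Groth.Agent.S18574
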