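import Groth.Statements.S18575
import Groth.Agent.L16.RTrivForms.Main

set_option autoImplicit false
universe u
open CategoryTheory AlgebraicGeometry Opposite
open REq

namespace Groth.Agent.S18575

/-- Let k be an infinite field and X an integral scheme, proper and smooth over k, which is almost
R-trivial over k. Then for all integers i > 0 and m > 0 the space of global sections of
(Ω^i_{X/k})^{⊗m} is zero. Here Ω^i is expressed through an O_X-module L that is an i-th exterior
power of the sheaf of differentials Ω_{X/k}, and the conclusion is that Γ(X, L^{⊗m}) has at most one
element. (The source assumes X geometrically connected rather than integral; for X smooth over k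
with a k-rational point, which almost R-triviality provides, the two agree.) -/
theorem result (k : Type u) [Field k]
    [Infinite k] (X : Scheme.{u}) (f : X ⟶ Spec (CommRingCat.of k)) [IsIntegral X] [IsProper f]
    [Smooth f] (hR : REq.IsAlmostRTrivial f) (i m : ℕ) (hi : 0 < i) (hm : 0 < m)
    (L : X.Modules) (hL : ExtPow.IsExtPow i (Omega.sheaf f) L) :
    Subsingleton ((CohB1.tensorPow L m).val.obj (op ⊤)) := by
  exact Groth.L16.RTrivForms.subsingleton_sections f hR i m hi hm L hL

end Groth.Agent.S18575
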