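import Groth.Statements.S18579
import Mathlib.RingTheory.Prime
-- import your own Groth.Agent.* helpers here

set_option autoImplicit false
universe u
open LogDiff

namespace Groth.Agent.S18579

/-- The exact sequence for units (first Milnor K-groups) when every component of the divisor is removed.
Let k be a field, B a smooth k-algebra, R the localization of B at a prime ideal, K the fraction
field of R and f_1, …, f_r pairwise non-associate prime elements of R. If w is a unit of K such that
w and w⁻¹ both lie in R[1/(f_1⋯f_r)], i.e. each becomes an element of R after multiplication by a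
power of f_1⋯f_r, then there is exactly one pair (v, b) consisting of a unit v of R and integers
b_1, …, b_r with w = v · ∏ f_i^{b_i} in K. (This is the exactness of 0 → Γ(Spec R, O^×) → Γ(Spec R ∖
V(f_1⋯f_r), O^×) → ℤ^r → 0, the last map being the orders along the f_i. The published statement
takes the f_i to be local equations of the components of a normal crossings divisor, over a field of
characteristic zero; this row allows arbitrary pairwise non-associate prime elements and any field.) -/
theorem result
    {k B R K : Type u} [Field k] [CommRing B] [Algebra k B] [Algebra.Smooth k B]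
    (p : Ideal B) [p.IsPrime] [CommRing R] [Algebra B R] [IsLocalization.AtPrime R p]
    [Field K] [Algebra R K] [IsFractionRing R K]
    {r : ℕ} (f : Fin r → R) (hf : ∀ i, Prime (f i)) (hfa : ∀ i j, Associated (f i) (f j) → i = j)
    (w : Kˣ)
    (hw : ∃ (a : R) (n : ℕ), (w : K) * algebraMap R K ((∏ i, f i) ^ n) = algebraMap R K a)
    (hw' : ∃ (a : R) (n : ℕ), (w⁻¹ : Kˣ) * algebraMap R K ((∏ i, f i) ^ n) = algebraMap R K a) :
    ∃! vb : Rˣ × (Fin r → ℤ),
      (w : K) = algebraMap R K (vb.1 : R) * ∏ i, (algebraMap R K (f i)) ^ (vb.2 i) := by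
  classical
  haveI : IsDomain R := (IsFractionRing.injective R K).isDomain (algebraMap R K)
  have hinj : Function.Injective (algebraMap R K) := IsFractionRing.injective R K
  have hf0 : ∀ i, algebraMap R K (f i) ≠ 0 := fun i => (map_ne_zero_iff _ hinj).mpr (hf i).ne_zero
  have hle : ∀ (v v' : Rˣ) (e e' : Fin r → ℕ), (v : R) * ∏ j, f j ^ e j = (v' : R) * ∏ j, f j ^ e' j → ∀ i, e' i ≤ e i := by
    intro v v' e e' h i
    by_contra hlt
    push Not at hlt
    rw [← Finset.mul_prod_erase Finset.univ (fun j => f j ^ e j) (Finset.mem_univ i),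
      ← Finset.mul_prod_erase Finset.univ (fun j => f j ^ e' j) (Finset.mem_univ i),
      show e' i = e i + (e' i - e i - 1 + 1) by omega, pow_add] at h
    have h2 : (v : R) * ∏ j ∈ Finset.univ.erase i, f j ^ e j =
        f i * ((v' : R) * f i ^ (e' i - e i - 1) * ∏ j ∈ Finset.univ.erase i, f j ^ e' j) := by
      apply mul_left_cancel₀ (pow_ne_zero (e i) (hf i).ne_zero)
      rw [pow_succ] at h
      linear_combination h
    obtain ⟨j, hj, hdj⟩ := (hf i).exists_mem_finset_dvd
      ((Units.dvd_mul_left).mp (Dvd.intro _ h2.symm : f i ∣ (v : R) * ∏ j ∈ Finset.univ.erase i, f j ^ e j))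
    exact (Finset.mem_erase.mp hj).1 (hfa j i ((hf i).associated_of_dvd (hf j) ((hf i).dvd_of_dvd_pow hdj)).symm)
  obtain ⟨a, n, ha⟩ := hw
  obtain ⟨a', n', ha'⟩ := hw'
  have haa : a * a' = 1 * ∏ q : Fin r × Fin (n + n'), f q.1 := by
    apply hinj
    rw [map_mul, ← ha, ← ha', one_mul, Fintype.prod_prod_type_right]
    simp only [Finset.prod_const, Finset.card_univ, Fintype.card_fin]
    rw [pow_add, map_mul]
    have := w.mul_inv
    linear_combination (algebraMap R K ((∏ i, f i) ^ n) * algebraMap R K ((∏ i, f i) ^ n')) * this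
  obtain ⟨t, u, b, c, -, -, hbc, hat, -⟩ := mul_eq_mul_prime_prod (fun q _ => hf q.1) haa
  obtain ⟨v, hv⟩ : IsUnit b := isUnit_of_dvd_one ⟨c, hbc⟩
  let e : Fin r → ℕ := fun i => (t.filter fun q => q.1 = i).card
  have hae : a = (v : R) * ∏ i, f i ^ e i := by
    rw [hat, hv, ← Finset.prod_fiberwise' t Prod.fst f]
    congr 1
    refine Finset.prod_congr rfl fun i _ => ?_
    rw [Finset.prod_const]
  refine ⟨(v, fun i => (e i : ℤ) - n), ?_, ?_⟩
  · show (w : K) = algebraMap R K v * ∏ i, algebraMap R K (f i) ^ ((e i : ℤ) - n)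
    have hP : algebraMap R K ((∏ i, f i) ^ n) = ∏ i, algebraMap R K (f i) ^ n := by
      rw [map_pow, map_prod, Finset.prod_pow]
    have h1 : (w : K) * ∏ i, algebraMap R K (f i) ^ n = algebraMap R K v * ∏ i, algebraMap R K (f i) ^ e i := by
      rw [← hP, ha, hae, map_mul, map_prod]; simp only [map_pow]
    simp only [zpow_sub₀ (hf0 _), zpow_natCast, Finset.prod_div_distrib]
    rw [← mul_div_assoc, eq_div_iff (Finset.prod_ne_zero_iff.mpr fun i _ => pow_ne_zero _ (hf0 i)), h1]
  · rintro ⟨v', b'⟩ hb'
    obtain ⟨M, hM⟩ : ∃ M : ℕ, ∀ i, 0 ≤ b' i + M ∧ (n : ℤ) ≤ M := by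
      refine ⟨n + ∑ i, (b' i).natAbs, fun i => ⟨?_, by omega⟩⟩
      have := Finset.single_le_sum (f := fun i => (b' i).natAbs) (fun _ _ => Nat.zero_le _) (Finset.mem_univ i)
      omega
    have hMn : ∀ i, e i + (M - n) = ((e i : ℤ) - n + M).toNat := fun i => by have := (hM i).2; omega
    have key : (v : R) * ∏ i, f i ^ (e i + (M - n)) = (v' : R) * ∏ i, f i ^ (b' i + M).toNat := by
      apply hinj
      simp only [map_mul, map_prod, map_pow]
      have e1 : ∀ i, algebraMap R K (f i) ^ (b' i + M).toNat = algebraMap R K (f i) ^ (b' i) * algebraMap R K (f i) ^ M := fun i => by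
        rw [← zpow_natCast, Int.toNat_of_nonneg (hM i).1, zpow_add₀ (hf0 i), zpow_natCast]
      have e2 : ∀ i, algebraMap R K (f i) ^ (e i + (M - n)) = algebraMap R K (f i) ^ ((e i : ℤ) - n) * algebraMap R K (f i) ^ M := fun i => by
        rw [← zpow_natCast _ M, ← zpow_add₀ (hf0 i), ← zpow_natCast]
        congr 1
        have := (hM i).2
        omega
      simp only [e1, e2, Finset.prod_mul_distrib, ← mul_assoc]
      congr 1
      simp only at hb'
      rw [← hb']
      have hP : algebraMap R K ((∏ i, f i) ^ n) = ∏ i, algebraMap R K (f i) ^ n := by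
        rw [map_pow, map_prod, Finset.prod_pow]
      have h1 : (w : K) * ∏ i, algebraMap R K (f i) ^ n = algebraMap R K v * ∏ i, algebraMap R K (f i) ^ e i := by
        rw [← hP, ha, hae, map_mul, map_prod]; simp only [map_pow]
      simp only [zpow_sub₀ (hf0 _), zpow_natCast, Finset.prod_div_distrib]
      rw [← mul_div_assoc, div_eq_iff (Finset.prod_ne_zero_iff.mpr fun i _ => pow_ne_zero _ (hf0 i)), h1]
    have hee : ∀ i, e i + (M - n) = (b' i + M).toNat := fun i =>
      le_antisymm (hle _ _ _ _ key.symm i) (hle _ _ _ _ key i)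
    have hb : b' = fun i => (e i : ℤ) - n := funext fun i => by have := hee i; have := hM i; omega
    have hv' : v' = v := by
      apply Units.ext
      simp only [hee] at key
      exact (mul_right_cancel₀ (Finset.prod_ne_zero_iff.mpr fun i _ => pow_ne_zero _ (hf i).ne_zero) key).symm
    rw [hb, hv']

end Groth.Agent.S18579
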