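import Groth.Statements.S18580
import Mathlib.AlgebraicGeometry.Morphisms.Separated
import Mathlib.AlgebraicGeometry.Morphisms.FlatMono
import Mathlib.AlgebraicGeometry.Morphisms.Etale
-- import your own Groth.Agent.* helpers here

set_option autoImplicit false
universe u
open EtBase

namespace Groth.Agent.S18580

open AlgebraicGeometry CategoryTheory in
/-- Let Y be a connected scheme and f : X ⟶ Y a separated morphism that is unramified (locally of finite
type and formally unramified). Then the sections of f correspond bijectively to the connected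
components of X mapping isomorphically onto Y: there is a bijection from the set of sections s of f
to the set of open subschemes U of X whose underlying set is a connected component of X and for
which U ⟶ X ⟶ Y is an isomorphism, sending s to its image. In particular every section is an
isomorphism onto a connected component of X and is determined by its image. (A connected component
mapping isomorphically onto Y is the image of a section, hence open, so restricting to open
components loses nothing. The published statement also assumes Y Noetherian; that hypothesis plays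
no role and is omitted.) -/
theorem result {X Y : Scheme.{u}} (f : X ⟶ Y)
    [FormallyUnramified f] [LocallyOfFiniteType f] [IsSeparated f] [ConnectedSpace Y] :
    ∃ e : {s : Y ⟶ X // s ≫ f = 𝟙 Y} ≃
        {U : X.Opens // (∃ x : X, (U : Set X) = connectedComponent x) ∧ IsIso (U.ι ≫ f)},
      ∀ s : {s : Y ⟶ X // s ≫ f = 𝟙 Y}, ((e s).1 : Set X) = Set.range s.1 := by
  classical
  have hsec : ∀ s : {s : Y ⟶ X // s ≫ f = 𝟙 Y}, IsOpenImmersion s.1 ∧ IsClosedImmersion s.1 := by
    intro s
    haveI : Etale (s.1 ≫ f) := by rw [s.2]; infer_instance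
    haveI : Etale s.1 := Etale.of_comp s.1 f
    haveI : Mono s.1 := mono_of_mono_fac s.2
    haveI : IsClosedImmersion (s.1 ≫ f) := by rw [s.2]; infer_instance
    exact ⟨IsOpenImmersion.of_flat_of_mono s.1, IsClosedImmersion.of_comp s.1 f⟩
  have hcomp : ∀ s : {s : Y ⟶ X // s ≫ f = 𝟙 Y}, ∀ y, Set.range s.1 = connectedComponent (s.1 y) := by
    intro s y
    obtain ⟨h1, h2⟩ := hsec s
    haveI := h1; haveI := h2
    refine subset_antisymm ((isConnected_range s.1.continuous).subset_connectedComponent ⟨y, rfl⟩) ?_
    exact isPreconnected_connectedComponent.subset_isClopen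
      ⟨s.1.isClosedEmbedding.isClosed_range, s.1.isOpenEmbedding.isOpen_range⟩
      ⟨s.1 y, mem_connectedComponent, y, rfl⟩
  let toU : {s : Y ⟶ X // s ≫ f = 𝟙 Y} →
      {U : X.Opens // (∃ x : X, (U : Set X) = connectedComponent x) ∧ IsIso (U.ι ≫ f)} := fun s =>
    haveI := (hsec s).1
    ⟨s.1.opensRange, ⟨s.1 (Classical.arbitrary Y), hcomp s _⟩, by
      have h : s.1.isoOpensRange.hom ≫ s.1.opensRange.ι = s.1 := s.1.isoOpensRange_hom_ι
      have : s.1.opensRange.ι ≫ f = s.1.isoOpensRange.inv := by
        rw [← cancel_epi s.1.isoOpensRange.hom, ← Category.assoc, h, s.2, Iso.hom_inv_id]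
      rw [this]; infer_instance⟩
  let ofU : {U : X.Opens // (∃ x : X, (U : Set X) = connectedComponent x) ∧ IsIso (U.ι ≫ f)} →
      {s : Y ⟶ X // s ≫ f = 𝟙 Y} := fun U =>
    haveI := U.2.2
    ⟨inv (U.1.ι ≫ f) ≫ U.1.ι, by rw [Category.assoc, IsIso.inv_hom_id]⟩
  refine ⟨{ toFun := toU, invFun := ofU, left_inv := fun s => ?_, right_inv := fun U => ?_ }, fun s => ?_⟩
  · haveI := (hsec s).1
    apply Subtype.ext
    haveI : IsIso (s.1.opensRange.ι ≫ f) := (toU s).2.2
    show inv (s.1.opensRange.ι ≫ f) ≫ s.1.opensRange.ι = s.1
    rw [IsIso.inv_comp_eq, Category.assoc]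
    have h : s.1.isoOpensRange.hom ≫ s.1.opensRange.ι = s.1 := s.1.isoOpensRange_hom_ι
    rw [← cancel_epi s.1.isoOpensRange.hom]
    simp only [← Category.assoc]
    rw [h, s.2, Category.id_comp]
  · haveI := U.2.2
    apply Subtype.ext
    haveI := (hsec (ofU U)).1
    show (inv (U.1.ι ≫ f) ≫ U.1.ι).opensRange = U.1
    rw [Scheme.Hom.opensRange_comp_of_isIso, Scheme.Opens.opensRange_ι]
  · rfl

end Groth.Agent.S18580
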