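import Groth.Statements.S18581
import Groth.Agent.L05.Henselization.Fibres

set_option autoImplicit false
set_option backward.isDefEq.respectTransparency.types false
set_option backward.isDefEq.respectTransparency false
set_option linter.style.haveILetI false
universe u
open Desc

namespace Groth.Agent.S18581

/-- Let A → B be a local homomorphism of Noetherian local rings which is étale, in the sense that B is
(compatibly with the map from A) the localization of an étale A-algebra E at a prime ideal. Then A
is a Cohen–Macaulay ring exactly when B is one. -/
theorem result (A B : Type u) [CommRing A] [CommRing B]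
    [IsLocalRing A] [IsLocalRing B] [IsNoetherianRing A] [IsNoetherianRing B]
    [Algebra A B] [IsLocalHom (algebraMap A B)]
    (E : Type u) [CommRing E] [Algebra A E] [Algebra.Etale A E] (P : Ideal E) [P.IsPrime]
    [Algebra E B] [IsScalarTower A E B] [IsLocalization.AtPrime B P] :
    LocCoh.IsCohenMacaulayLocalRing A ↔ LocCoh.IsCohenMacaulayLocalRing B := by
  haveI : Module.Flat E B := IsLocalization.flat B P.primeCompl
  haveI : Module.Flat A B := Module.Flat.trans A E B
  refine Groth.L05.Henselization.isCohenMacaulayLocalRing_iff_of_map_maximalIdeal A B (le_antisymm ?_ ?_)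
  · exact ((IsLocalRing.local_hom_TFAE (algebraMap A B)).out 0 2 rfl rfl).mp inferInstance
  · intro b hb
    obtain ⟨x, s, rfl⟩ := IsLocalization.exists_mk'_eq P.primeCompl b
    rw [IsLocalization.AtPrime.mk'_mem_maximal_iff B P] at hb
    obtain ⟨t, ht, htx⟩ := Groth.L05.Henselization.exists_mul_mem_map_of_etale (A := A) P hb
    have hle : (P.comap (algebraMap A E)).map (algebraMap A B) ≤
        (IsLocalRing.maximalIdeal A).map (algebraMap A B) :=
      Ideal.map_mono (IsLocalRing.le_maximalIdeal (Ideal.IsPrime.comap (algebraMap A E)).ne_top)
    apply hle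
    have h1 := Ideal.mem_map_of_mem (algebraMap E B) htx
    rw [Ideal.map_map, ← IsScalarTower.algebraMap_eq, map_mul,
      Ideal.unit_mul_mem_iff_mem _ (IsLocalization.map_units B (⟨t, ht⟩ : P.primeCompl))] at h1
    rw [IsLocalization.mk'_eq_mul_mk'_one]
    exact Ideal.mul_mem_right _ _ h1

end Groth.Agent.S18581
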