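import Mathlib.RingTheory.WittVector.Basic
import Mathlib.Algebra.CharP.Defs
import Mathlib.Algebra.Module.Submodule.Basic
import Groth.Agent.L02.WittWeight

set_option autoImplicit false
namespace CAlg
end CAlg
universe u
open CAlg

namespace Groth.Agent.S18590

/-- Let p be a prime, A a commutative ring, K a commutative A-algebra of characteristic p and M_0, M_1,
M_2, … A-submodules of K with M_i · M_j ⊆ M_(i+j) for all i, j. Then the subset of the ring W(K) of
p-typical Witt vectors consisting of the vectors whose n-th coordinate lies in M_(p^n) for every n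
is closed under addition and under multiplication by the image of W(A) under W of the structure map;
in other words it is a W(A)-submodule of W(K). (The published statement is the case of an integral
normal noetherian scheme X of characteristic p with function field K, an affine open subset U with
coordinate ring A, and M_k the module of sections over U of the divisorial sheaf of k·D for a real
Weil divisor D on X; these form such a multiplicative family, and the subset is then the module of
sections over U of the Witt divisorial sheaf of D inside W(K). Only the two stated properties of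
that family enter.) -/
theorem result
    (p : ℕ) [Fact p.Prime] (A K : Type u) [CommRing A] [CommRing K] [Algebra A K] [CharP K p]
    (M : ℕ → Submodule A K)
    (hmul : ∀ (i j : ℕ) (a b : K), a ∈ M i → b ∈ M j → a * b ∈ M (i + j)) :
    (∀ φ ψ : WittVector p K, (∀ n : ℕ, φ.coeff n ∈ M (p ^ n)) → (∀ n : ℕ, ψ.coeff n ∈ M (p ^ n)) →
        ∀ n : ℕ, (φ + ψ).coeff n ∈ M (p ^ n)) ∧
      (∀ (x : WittVector p A) (φ : WittVector p K), (∀ n : ℕ, φ.coeff n ∈ M (p ^ n)) →
        ∀ n : ℕ, (WittVector.map (algebraMap A K) x * φ).coeff n ∈ M (p ^ n)) := by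
  let N : ℕ → Submodule A K := fun m => if m = 0 then 1 else M m
  have hN : ∀ n, N (p ^ n) = M (p ^ n) := fun n => if_neg (pow_pos (Fact.out : p.Prime).pos n).ne'
  have h1 : (1 : K) ∈ N 0 := by
    simp only [N, if_pos rfl]
    exact Submodule.mem_one.mpr ⟨1, map_one _⟩
  have hNmul : ∀ (i j : ℕ) (a b : K), a ∈ N i → b ∈ N j → a * b ∈ N (i + j) := by
    intro i j a b ha hb
    rcases Nat.eq_zero_or_pos i with rfl | hi
    · obtain ⟨r, rfl⟩ := Submodule.mem_one.mp (by simpa [N] using ha)
      rw [zero_add, ← Algebra.smul_def]
      exact Submodule.smul_mem _ _ hb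
    rcases Nat.eq_zero_or_pos j with rfl | hj
    · obtain ⟨r, rfl⟩ := Submodule.mem_one.mp (by simpa [N] using hb)
      rw [add_zero, mul_comm, ← Algebra.smul_def]
      exact Submodule.smul_mem _ _ ha
    simp only [N, hi.ne', hj.ne', (Nat.add_pos_left hi j).ne', if_false] at ha hb ⊢
    exact hmul i j a b ha hb
  refine ⟨fun φ ψ hφ hψ n => ?_, fun x φ hφ n => ?_⟩
  · rw [WittVector.add_coeff, ← hN]
    have h := Groth.L02.WittWeight.isWeightedHomogeneous_wittStructureInt (p := p) (c := fun _ : Fin 2 => 1) (d := 1)
      (Φ := MvPolynomial.X 0 + MvPolynomial.X 1)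
      ((MvPolynomial.isWeightedHomogeneous_X ℤ _ 0).add (MvPolynomial.isWeightedHomogeneous_X ℤ _ 1)) n
    rw [one_mul] at h
    refine Groth.L02.WittWeight.aeval_mem N h1 hNmul _ (fun t => ?_) h
    obtain ⟨i, k⟩ := t
    fin_cases i <;> simp [hN, hφ, hψ]
  · rw [WittVector.mul_coeff, ← hN]
    have h := Groth.L02.WittWeight.isWeightedHomogeneous_wittStructureInt (p := p) (c := (![0, 1] : Fin 2 → ℕ)) (d := 1)
      (Φ := MvPolynomial.X 0 * MvPolynomial.X 1)
      ((MvPolynomial.isWeightedHomogeneous_X ℤ _ 0).mul (MvPolynomial.isWeightedHomogeneous_X ℤ _ 1)) n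
    rw [one_mul] at h
    refine Groth.L02.WittWeight.aeval_mem N h1 hNmul _ (fun t => ?_) h
    obtain ⟨i, k⟩ := t
    fin_cases i
    · simp [N, WittVector.map_coeff]
    · simp [hN, hφ]

end Groth.Agent.S18590
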