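import Groth.Statements.S18591
import Groth.Agent.L20.AdjProd

set_option autoImplicit false
universe v u
open W4c5suslinpi1ab

set_option backward.isDefEq.respectTransparency.types false
namespace Groth.Agent.S18591

open CategoryTheory MonoidalCategory Functor.LaxMonoidal Functor.OplaxMonoidal in
/-- In a square of adjunctions between monoidal categories — fL ⊣ fR from the base S₀ to Y₁, pL ⊣ pR
from Y₁ to X (both left adjoints oplax monoidal, right adjoints with the induced lax structure), qL
⊣ qR from Y₂ to X, a functor gR : Y₂ ⥤ S₀ and a natural transformation ν : qR ⋙ gR ⟶ pR ⋙ fR from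
which the base change fL gR ⟶ pR qL is built, the adjoint under the composite adjunction fL ⋙ pL ⊣
pR ⋙ fR of the exterior product fR A ⊗ gR B ⟶ fR pR (pL A ⊗ qL B) is the oplax comparison map of fL
⋙ pL followed by (pL of the counit of adjf at A) ⊗ (pL of the base change at B, then the counit of
adjp at qL B). (The published statement assumes symmetric monoidal categories and monoidal pullbacks
and writes the domain of this map as a tensor product of pullbacks; here only oplax left adjoints
are assumed and the oplax comparison map is kept explicit.) -/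
theorem result {S₀ : Type u} [Category.{v} S₀] [MonoidalCategory S₀]
    {Y₁ : Type u} [Category.{v} Y₁] [MonoidalCategory Y₁]
    {Y₂ : Type u} [Category.{v} Y₂] [MonoidalCategory Y₂]
    {X : Type u} [Category.{v} X] [MonoidalCategory X]
    {fL : S₀ ⥤ Y₁} {fR : Y₁ ⥤ S₀} (adjf : fL ⊣ fR) [fL.OplaxMonoidal] [fR.LaxMonoidal]
    [adjf.IsMonoidal] {gR : Y₂ ⥤ S₀}
    {pL : Y₁ ⥤ X} {pR : X ⥤ Y₁} (adjp : pL ⊣ pR) [pL.OplaxMonoidal] [pR.LaxMonoidal]
    [adjp.IsMonoidal] {qL : Y₂ ⥤ X} {qR : X ⥤ Y₂} (adjq : qL ⊣ qR)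
    (ν : qR ⋙ gR ⟶ pR ⋙ fR) (A : Y₁) (B : Y₂) :
    ((adjf.comp adjp).homEquiv _ _).symm (W4c5suslinpi1ab.extProd adjf adjp adjq ν A B) =
      δ (fL ⋙ pL) (fR.obj A) (gR.obj B) ≫
        (pL.map (adjf.counit.app A) ⊗ₘ
          (pL.map ((W4c5suslinpi1ab.bcMor adjf adjq ν).app B) ≫ adjp.counit.app (qL.obj B))) := by
  rw [Adjunction.comp_homEquiv]
  simp only [Equiv.symm_trans_apply, Adjunction.homEquiv_counit, extProd, fL.map_comp, Category.assoc]
  have h1 := adjf.counit.naturality (A ◁ (bcMor adjf adjq ν).app B ≫ projL adjp A (qL.obj B))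
  dsimp at h1
  simp only [fR.map_comp, fL.map_comp, Category.assoc] at h1
  rw [h1, reassoc_of% (Groth.L20.AdjProd.symm_projR adjf A (gR.obj B))]
  simp only [pL.map_comp, Category.assoc]
  rw [Groth.L20.AdjProd.symm_projL adjp A (qL.obj B)]
  simp only [Functor.OplaxMonoidal.comp_δ, Category.assoc]
  congr 1
  rw [← pL.map_comp_assoc, ← tensorHom_def]
  have h2 := δ_natural pL (adjf.counit.app A) ((bcMor adjf adjq ν).app B)
  dsimp at h2
  rw [← reassoc_of% h2]
  congr 1
  rw [← id_tensorHom, tensorHom_comp_tensorHom, Category.comp_id]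

end Groth.Agent.S18591
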