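import Groth.Statements.S18592
import Groth.Agent.L20.AdjProd

set_option autoImplicit false
universe v u
open W4c5suslinpi1ab

set_option backward.isDefEq.respectTransparency.types false
namespace Groth.Agent.S18592

open CategoryTheory MonoidalCategory Functor.LaxMonoidal Functor.OplaxMonoidal in
/-- In a square of adjunctions between monoidal categories — fL ⊣ fR from the base S₀ to Y₁, pL ⊣ pR
from Y₁ to X (both left adjoints oplax monoidal, right adjoints with the induced lax structure), qL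
⊣ qR from Y₂ to X, a functor gR : Y₂ ⥤ S₀ and a natural transformation ν : qR ⋙ gR ⟶ pR ⋙ fR from
which the base change fL gR ⟶ pR qL is built, with right adjoints fS of fR, gS of gR and pS of pR
(so fS ⋙ pS is right adjoint to pR ⋙ fR), and with the right projection morphisms of adjf, the left
projection morphisms of adjp and the base change all isomorphisms, the exterior product fR fS A ⊗ gR
gS B ⟶ fR pR (pL fS A ⊗ qL gS B) followed by the adjoint of the shriek product pL fS A ⊗ qL gS B ⟶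
pS fS (A ⊗ B) is the tensor product of the counits fR fS A ⟶ A and gR gS B ⟶ B. -/
theorem result {S₀ : Type u} [Category.{v} S₀] [MonoidalCategory S₀]
    {Y₁ : Type u} [Category.{v} Y₁] [MonoidalCategory Y₁]
    {Y₂ : Type u} [Category.{v} Y₂] [MonoidalCategory Y₂]
    {X : Type u} [Category.{v} X] [MonoidalCategory X]
    {fL : S₀ ⥤ Y₁} {fR : Y₁ ⥤ S₀} (adjf : fL ⊣ fR) [fL.OplaxMonoidal] [fR.LaxMonoidal]
    [adjf.IsMonoidal] {gR : Y₂ ⥤ S₀}
    {pL : Y₁ ⥤ X} {pR : X ⥤ Y₁} (adjp : pL ⊣ pR) [pL.OplaxMonoidal] [pR.LaxMonoidal]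
    [adjp.IsMonoidal] {qL : Y₂ ⥤ X} {qR : X ⥤ Y₂} (adjq : qL ⊣ qR)
    (ν : qR ⋙ gR ⟶ pR ⋙ fR)
    {fS : S₀ ⥤ Y₁} (adjf' : fR ⊣ fS) {gS : S₀ ⥤ Y₂} (adjg' : gR ⊣ gS)
    {pS : Y₁ ⥤ X} (adjp' : pR ⊣ pS)
    [∀ (A : Y₁) (B : S₀), IsIso (W4c5suslinpi1ab.projR adjf A B)]
    [∀ (A : Y₁) (B : X), IsIso (W4c5suslinpi1ab.projL adjp A B)]
    [∀ B : Y₂, IsIso ((W4c5suslinpi1ab.bcMor adjf adjq ν).app B)] (A B : S₀) :
    W4c5suslinpi1ab.extProd adjf adjp adjq ν (fS.obj A) (gS.obj B) ≫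
      ((adjp'.comp adjf').homEquiv _ _).symm
        (W4c5suslinpi1ab.prodShriek adjf adjf' adjg' adjp adjp' adjq ν A B) =
      (adjf'.counit.app A ⊗ₘ adjg'.counit.app B) := by
  exact Groth.L20.AdjProd.extProd_counit adjf adjp adjq ν adjf' adjg' adjp' A B

end Groth.Agent.S18592
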