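import Groth.Statements.S18598
import Groth.Prelude.Def_W4c2gerbepatchBitors
import Groth.Prelude.Def_W4c6defoisocp1TwistExt
import Mathlib.CategoryTheory.Monoidal.Rigid.Basic
import Mathlib.CategoryTheory.Monoidal.Preadditive
import Mathlib.CategoryTheory.Idempotents.Basic
import Mathlib.CategoryTheory.Preadditive.Biproducts
import Mathlib.CategoryTheory.Sites.CoversTop.Basic
import Mathlib.LinearAlgebra.FiniteDimensional.Lemmas
import Mathlib.GroupTheory.Index
import Mathlib.RingTheory.Nilpotent.Exp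
import Mathlib.RingTheory.Nilpotent.Lemmas
import Mathlib.Algebra.Algebra.Bilinear
import Mathlib.Algebra.Ring.GeomSum
import Mathlib.RingTheory.Polynomial.Cyclotomic.Eval
import Mathlib.RingTheory.RootsOfUnity.CyclotomicUnits

set_option autoImplicit false
universe u
open SSRed

namespace Groth.Agent.S18598
open CategoryTheory CategoryTheory.Limits MonoidalCategory Opposite

/-- Let O be a commutative integral domain of characteristic zero, n a positive integer such that no
prime number dividing n is a unit in O, and α an element of O of finite multiplicative order such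
that (α − 1)² is divisible by n in O. Then α = 1 if n ≥ 5, α² = 1 if n = 4, α³ = 1 if n = 3, and α⁴
= 1 if n = 2. -/
theorem result (O : Type u) [CommRing O] [IsDomain O] [CharZero O]
    (n : ℕ) (hn : 0 < n) (hO : ∀ p : ℕ, p.Prime → p ∣ n → ¬ IsUnit (p : O))
    (α : O) (hα : IsOfFinOrder α) (h : (n : O) ∣ (α - 1) ^ 2) :
    (5 ≤ n → α = 1) ∧ (n = 4 → α ^ 2 = 1) ∧ (n = 3 → α ^ 3 = 1) ∧ (n = 2 → α ^ 4 = 1) := by
  obtain ⟨hm, hζ⟩ : 0 < orderOf α ∧ IsPrimitiveRoot α (orderOf α) :=
    ⟨hα.orderOf_pos, IsPrimitiveRoot.orderOf α⟩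
  generalize orderOf α = m at hm hζ
  have key : ∀ (q : ℕ) (k : ℕ), q.Prime → q ^ (k + 1) ∣ m →
      (n : O) ^ Nat.totient (q ^ (k + 1)) ∣ (q : O) ^ 2 := by
    intro q k hq hd
    obtain ⟨r, rfl⟩ := hd
    have hβ : IsPrimitiveRoot (α ^ r) (q ^ (k + 1)) := hζ.pow hm (mul_comm _ _)
    have hd' : (n : O) ∣ (α ^ r - 1) ^ 2 := h.trans (pow_dvd_pow_of_dvd (sub_one_dvd_pow_sub_one α r) 2)
    have hN : 0 < q ^ (k + 1) := pow_pos hq.pos _
    have : Fact q.Prime := ⟨hq⟩
    have e := congrArg (Polynomial.eval 1) (Polynomial.cyclotomic_eq_prod_X_sub_primitiveRoots hβ)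
    rw [Polynomial.eval_one_cyclotomic_prime_pow, Polynomial.eval_prod] at e
    have ha : Associated ((α ^ r - 1) ^ Nat.totient (q ^ (k + 1))) (q : O) := by
      rw [e, ← hβ.card_primitiveRoots, ← Finset.prod_const]
      refine Associated.prod _ _ _ fun x hx => ?_
      rw [mem_primitiveRoots hN] at hx
      haveI : NeZero (q ^ (k + 1)) := ⟨hN.ne'⟩
      obtain ⟨j, -, hj, rfl⟩ := (hβ.isPrimitiveRoot_iff).mp hx
      simp only [Polynomial.eval_sub, Polynomial.eval_X, Polynomial.eval_C]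
      rw [← neg_sub ((α ^ r) ^ j) 1]
      exact (hβ.associated_sub_one_pow_sub_one_of_coprime hj).neg_right
    refine (pow_dvd_pow_of_dvd hd' _).trans ?_
    rw [← pow_mul, mul_comm, pow_mul]
    exact (ha.pow_pow (n := 2)).dvd
  have nu : ∀ p : ℕ, p.Prime → p ∣ n → ∀ a b : ℕ, (p : O) ^ a ∣ (p : O) ^ b → a ≤ b := by
    intro p hp hpn a b hab
    exact (pow_dvd_pow_iff (Nat.cast_ne_zero.mpr hp.ne_zero) (hO p hp hpn)).mp hab
  have main : ∀ q k, q.Prime → q ^ (k + 1) ∣ m → ∀ p : ℕ, p.Prime → p ∣ n →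
      p = q ∧ (∀ l, p ^ l ∣ n → l * Nat.totient (q ^ (k + 1)) ≤ 2) := by
    intro q k hq hd p hp hpn
    have h1 : p = q := by
      by_contra hne
      have h3 : (p : O) ∣ (q : O) ^ 2 := by
        refine dvd_trans ?_ (key q k hq hd)
        exact (Nat.cast_dvd_cast hpn).trans (dvd_pow_self _ (Nat.totient_pos.mpr (pow_pos hq.pos _)).ne')
      have hc : Nat.Coprime p (q ^ 2) := ((Nat.coprime_primes hp hq).mpr hne).pow_right 2
      have : IsCoprime (p : O) ((q : O) ^ 2) := by simpa using (Nat.isCoprime_iff_coprime.mpr hc).map (Int.castRingHom O)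
      exact hO p hp hpn (this.isUnit_of_dvd h3)
    refine ⟨h1, fun l hl => ?_⟩
    subst h1
    refine nu p hp hpn _ _ ?_
    rw [pow_mul]
    exact (pow_dvd_pow_of_dvd (by exact_mod_cast Nat.cast_dvd_cast (α := O) hl) _).trans (key p k hq hd)
  have done : ∀ q e, q.Prime → (∀ p, p.Prime → p ∣ m → p = q) → ¬ q ^ (e + 1) ∣ m → α ^ q ^ e = 1 := by
    intro q e hq hall hnd
    rw [hζ.pow_eq_one_iff_dvd]
    obtain ⟨v, hv⟩ : ∃ v, m = q ^ v := ⟨_, Nat.eq_prime_pow_of_unique_prime_dvd hm.ne' fun {d} hd hdm => hall d hd hdm⟩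
    subst hv
    exact pow_dvd_pow q (by by_contra hh; exact hnd (pow_dvd_pow q (by omega)))
  refine ⟨fun h5 => ?_, fun h4 => ?_, fun h3 => ?_, fun h2 => ?_⟩
  · by_contra hne
    obtain ⟨q, hq, hqm⟩ := Nat.exists_prime_and_dvd (n := m) (fun h1 => hne (by
      rw [h1] at hζ; exact IsPrimitiveRoot.one_right_iff.mp hζ))
    have hall := fun p hp hpn => main q 0 hq (by simpa using hqm) p hp hpn
    obtain ⟨v, hv⟩ : ∃ v, n = q ^ v := ⟨_, Nat.eq_prime_pow_of_unique_prime_dvd hn.ne' fun {d} hd hdn => (hall d hd hdn).1⟩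
    have hv0 : v ≠ 0 := by rintro rfl; simp at hv; omega
    have h2 := (hall q hq (hv ▸ dvd_pow_self q hv0)).2 v hv.symm.dvd
    rw [pow_one, Nat.totient_prime hq] at h2
    have hq3 : q ≤ 3 := by nlinarith [Nat.one_le_iff_ne_zero.mpr hv0, hq.two_le, Nat.sub_add_cancel hq.one_le]
    have hv2 : v ≤ 2 := le_trans (Nat.le_mul_of_pos_right v (by have := hq.two_le; omega)) h2
    have := hq.two_le
    interval_cases q <;> interval_cases v <;> omega
  · subst h4
    refine (pow_one 2 ▸ done 2 1 Nat.prime_two (fun p hp hpm => ((main p 0 hp (by simpa using hpm) 2 Nat.prime_two (by norm_num)).1).symm) fun hd => ?_ : α ^ 2 = 1)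
    have := (main 2 1 Nat.prime_two hd 2 Nat.prime_two (by norm_num)).2 2 (by norm_num)
    rw [show Nat.totient (2 ^ (1 + 1)) = 2 by decide] at this
    omega
  · subst h3
    refine (pow_one 3 ▸ done 3 1 Nat.prime_three (fun p hp hpm => ((main p 0 hp (by simpa using hpm) 3 Nat.prime_three (by norm_num)).1).symm) fun hd => ?_ : α ^ 3 = 1)
    have := (main 3 1 Nat.prime_three hd 3 Nat.prime_three (by norm_num)).2 1 (by norm_num)
    rw [show Nat.totient (3 ^ (1 + 1)) = 6 by decide] at this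
    omega
  · subst h2
    refine (done 2 2 Nat.prime_two (fun p hp hpm => ((main p 0 hp (by simpa using hpm) 2 Nat.prime_two (by norm_num)).1).symm) fun hd => ?_)
    have := (main 2 2 Nat.prime_two hd 2 Nat.prime_two (by norm_num)).2 1 (by norm_num)
    rw [show Nat.totient (2 ^ (2 + 1)) = 4 by decide] at this
    omega

end Groth.Agent.S18598
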