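import Groth.Statements.S18599
import Mathlib.NumberTheory.Padics.RingHoms
import Mathlib.GroupTheory.Index
import Mathlib.LinearAlgebra.FreeModule.PID
import Mathlib.Algebra.Module.Torsion.Basic
import Mathlib.Tactic

set_option autoImplicit false
universe u
open SSRed

namespace Groth.Agent.S18599

/-- Let ℓ be a prime number, M a free ℤ_ℓ-module of finite rank, A an automorphism of M with A^ℓ = 1,
and c the rank of M minus the rank of the submodule of A-invariants. Assume that ℓ = 2 and A − 1 ∈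
2·End(M), or that ℓ = 2 and (A − 1)² ∈ 4·End(M), or that ℓ = 3 and (A − 1)² ∈ 3·End(M). Then the
torsion submodule of M/(A − 1)M is a vector space over ℤ/ℓℤ of dimension c/(ℓ − 1): it is killed by
ℓ and has ℓ^r elements for some r with r(ℓ − 1) = c. -/
theorem result (ℓ : ℕ) [Fact ℓ.Prime]
    (M : Type u) [AddCommGroup M] [Module ℤ_[ℓ] M] [Module.Free ℤ_[ℓ] M] [Module.Finite ℤ_[ℓ] M]
    (A : M ≃ₗ[ℤ_[ℓ]] M) (hA : A ^ ℓ = 1) (f : Module.End ℤ_[ℓ] M) (hf : f = (A : M →ₗ[ℤ_[ℓ]] M) - 1)
    (hcase : (ℓ = 2 ∧ ∃ B : Module.End ℤ_[ℓ] M, f = (2 : ℤ_[ℓ]) • B) ∨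
      (ℓ = 2 ∧ ∃ B : Module.End ℤ_[ℓ] M, f ^ 2 = (4 : ℤ_[ℓ]) • B) ∨
      (ℓ = 3 ∧ ∃ B : Module.End ℤ_[ℓ] M, f ^ 2 = (3 : ℤ_[ℓ]) • B))
    (c : ℕ) (hc : c = Module.finrank ℤ_[ℓ] M - Module.finrank ℤ_[ℓ] (LinearMap.ker f)) :
    (∀ x ∈ Submodule.torsion ℤ_[ℓ] (M ⧸ LinearMap.range f), (ℓ : ℤ_[ℓ]) • x = 0) ∧
      ∃ r : ℕ, r * (ℓ - 1) = c ∧
        Nat.card (Submodule.torsion ℤ_[ℓ] (M ⧸ LinearMap.range f)) = ℓ ^ r := by
  classical
  have hℓ0 : (ℓ : ℤ_[ℓ]) ≠ 0 := by exact_mod_cast (Fact.out : ℓ.Prime).ne_zero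
  have cancel : ∀ (r : ℤ_[ℓ]), r ≠ 0 → ∀ u v : Module.End ℤ_[ℓ] M, r • u = r • v → u = v := fun r hr u v h =>
    LinearMap.ext fun x => smul_right_injective M hr (by simpa using LinearMap.congr_fun h x)
  have hA' : (1 + f) ^ ℓ = 1 := by
    rw [show 1 + f = (A : M →ₗ[ℤ_[ℓ]] M) from by rw [hf]; abel]
    refine LinearMap.ext fun x => ?_
    have h := LinearEquiv.congr_fun hA x
    rw [LinearEquiv.coe_pow] at h
    rw [Module.End.pow_apply]
    exact h
  have two : ℓ = 2 → f * f = -((2 : ℤ_[ℓ]) • f) := fun h2 => by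
    have h : (1 + f) * (1 + f) = 1 := by
      rw [← sq]
      calc (1 + f) ^ 2 = (1 + f) ^ ℓ := congrArg ((1 + f) ^ ·) h2.symm
        _ = 1 := hA'
    rw [show (2 : ℤ_[ℓ]) • f = f + f from two_smul _ f, eq_neg_iff_add_eq_zero]
    calc f * f + (f + f) = (1 + f) * (1 + f) - 1 := by noncomm_ring
      _ = 0 := by rw [h, sub_self]
  obtain ⟨e, he, hef, hfe, hker, hsub, hidx⟩ : ∃ e : Module.End ℤ_[ℓ] M, e * e = e ∧ e * f = f ∧ f * e = f ∧
      (∀ x, f x = 0 → e x = 0) ∧ (∀ x, ∃ y, f y = (ℓ : ℤ_[ℓ]) • e x) ∧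
      ((ℓ = 2 ∧ LinearMap.range f = (LinearMap.range e).map ((ℓ : ℤ_[ℓ]) • (1 : Module.End ℤ_[ℓ] M))) ∨
        (ℓ = 3 ∧ (LinearMap.range f).map f = (LinearMap.range e).map ((ℓ : ℤ_[ℓ]) • (1 : Module.End ℤ_[ℓ] M)))) := by
    rcases hcase with ⟨h2, hB⟩ | ⟨h2, B, hB⟩ | ⟨h3, B, hB⟩
    rotate_left 2
    · -- ℓ = 3
      subst h3
      have h30 : (3 : ℤ_[3]) ≠ 0 := by exact_mod_cast hℓ0
      have hff : f * f = (3 : ℤ_[3]) • B := by rw [← sq, hB]
      have hcomm : B * f = f * B := cancel _ h30 _ _ (by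
        rw [← smul_mul_assoc, ← mul_smul_comm, ← hff, mul_assoc])
      have h3 : (1 + f) * (1 + f) * (1 + f) = 1 :=
        calc (1 + f) * (1 + f) * (1 + f) = (1 + f) ^ 3 := by noncomm_ring
          _ = 1 := hA'
      have R1 : f * B + (3 : ℤ_[3]) • B + f = 0 := cancel _ h30 _ _ (by
        rw [smul_zero, smul_add, smul_add, ← mul_smul_comm, ← hff,
          show (3 : ℤ_[3]) • f = f + f + f by module, show (3 : ℤ_[3]) • (f * f) = f * f + f * f + f * f by module]
        calc f * (f * f) + (f * f + f * f + f * f) + (f + f + f)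
            = (1 + f) * (1 + f) * (1 + f) - 1 := by noncomm_ring
          _ = 0 := by rw [h3, sub_self])
      have R2 : f * B = -(B * B) - B := cancel _ h30 _ _ (by
        have h := congrArg (f * ·) R1
        simp only [mul_add, mul_zero, mul_smul_comm, ← mul_assoc, hff, smul_mul_assoc] at h
        rw [smul_sub, smul_neg, ← sub_eq_zero, ← h]
        abel)
      have R3 : f = B * B + B - (3 : ℤ_[3]) • B := by
        calc f = (f * B + (3 : ℤ_[3]) • B + f) - f * B - (3 : ℤ_[3]) • B := by abel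
          _ = _ := by rw [R1, R2]; abel
      have R4 : B * B * B = B * B - B := by
        have h := congrArg (· * B) R3
        simp only [sub_mul, add_mul, smul_mul_assoc] at h
        rw [R2] at h
        calc B * B * B = (B * B * B + B * B - (3 : ℤ_[3]) • (B * B)) - B * B + (3 : ℤ_[3]) • (B * B) := by abel
          _ = _ := by rw [← h]; module
      have R5 : B * B * B * B = -B := by rw [R4, sub_mul, R4]; abel
      have heB : -(B * B * B) * B = B := by rw [neg_mul, R5, neg_neg]
      have hBe : B * -(B * B * B) = B := by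
        rw [mul_neg, ← mul_assoc, ← mul_assoc, R5, neg_neg]
      refine ⟨-(B * B * B), ?_, ?_, ?_, fun x hx => ?_, fun x => ⟨f ((-(B * B)) x), ?_⟩, Or.inr ⟨rfl, ?_⟩⟩
      · calc -(B * B * B) * -(B * B * B) = (B * B * B * B) * (B * B) := by noncomm_ring
          _ = _ := by rw [R5]; noncomm_ring
      · conv_lhs => rw [R3, mul_sub, mul_add, ← mul_assoc, mul_smul_comm, heB]
        exact R3.symm
      · conv_lhs => rw [R3, sub_mul, add_mul, mul_assoc, smul_mul_assoc, hBe]
        exact R3.symm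
      · have hBx : B x = 0 := by
          have := LinearMap.congr_fun hff x
          simp only [Module.End.mul_apply, hx, map_zero, LinearMap.smul_apply] at this
          exact (smul_eq_zero.mp this.symm).resolve_left h30
        simp [hBx]
      · rw [← Module.End.mul_apply f f, hff]
        push_cast
        simp
      · refine le_antisymm ?_ ?_
        · rintro _ ⟨_, ⟨y, rfl⟩, rfl⟩
          refine ⟨(-(B * B * B)) (B y), ⟨_, rfl⟩, ?_⟩
          rw [← Module.End.mul_apply f f, hff, ← Module.End.mul_apply _ B, heB]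
          simp
        · rintro _ ⟨_, ⟨y, rfl⟩, rfl⟩
          refine ⟨f ((-(B * B)) y), ⟨_, rfl⟩, ?_⟩
          rw [← Module.End.mul_apply f f, hff]
          push_cast
          simp
    all_goals
      subst h2
      have h20 : (2 : ℤ_[2]) ≠ 0 := by exact_mod_cast hℓ0
      obtain ⟨B, hfB⟩ : ∃ B : Module.End ℤ_[2] M, f = (2 : ℤ_[2]) • B := by
        first
          | exact hB
          | refine ⟨-B, cancel _ h20 _ _ ?_⟩
            rw [smul_smul, show ((2 : ℤ_[2]) * 2) = 4 by norm_num, smul_neg, ← hB, sq, two rfl, neg_neg]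
      have hBB : B * B = -B := cancel _ (mul_ne_zero h20 h20) _ _ (by
        have := two rfl
        rw [hfB, smul_mul_smul_comm, smul_smul] at this
        rw [smul_neg]
        exact this)
      refine ⟨-B, by rw [neg_mul_neg, hBB], by rw [hfB, neg_mul, mul_smul_comm, hBB, smul_neg, neg_neg],
        by rw [hfB, mul_neg, smul_mul_assoc, hBB, smul_neg, neg_neg], fun x hx => ?_, fun x => ⟨-x, ?_⟩,
        Or.inl ⟨rfl, le_antisymm ?_ ?_⟩⟩
      · rw [hfB] at hx
        simpa using (smul_eq_zero.mp hx).resolve_left h20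
      · simp [hfB]
      · rintro _ ⟨y, rfl⟩
        exact ⟨(-B) (-y), ⟨_, rfl⟩, by simp [hfB]⟩
      · rintro _ ⟨_, ⟨y, rfl⟩, rfl⟩
        exact ⟨-y, by simp [hfB]⟩
  let q : M →ₗ[ℤ_[ℓ]] M ⧸ LinearMap.range f := Submodule.mkQ _
  have hle : LinearMap.range f ≤ LinearMap.range e := by
    rintro _ ⟨x, rfl⟩; exact ⟨f x, LinearMap.congr_fun hef x⟩
  have hT : Submodule.torsion ℤ_[ℓ] (M ⧸ LinearMap.range f) = (LinearMap.range e).map q := by
    refine le_antisymm (fun x hx => ?_) ?_
    · obtain ⟨⟨a, ha⟩, hax⟩ := (Submodule.mem_torsion_iff _).mp hx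
      obtain ⟨m, rfl⟩ := Submodule.mkQ_surjective _ x
      have hm : a • m ∈ LinearMap.range f := (Submodule.Quotient.mk_eq_zero _).mp hax
      obtain ⟨y, hy⟩ := hm
      refine ⟨m, ⟨m, smul_right_injective M (nonZeroDivisors.ne_zero ha) ?_⟩, rfl⟩
      show a • e m = a • m
      rw [← map_smul, ← hy]
      exact LinearMap.congr_fun hef y
    · rintro _ ⟨_, ⟨x, rfl⟩, rfl⟩
      obtain ⟨y, hy⟩ := hsub x
      exact (Submodule.mem_torsion_iff _).mpr ⟨⟨(ℓ : ℤ_[ℓ]), mem_nonZeroDivisors_of_ne_zero hℓ0⟩,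
        (Submodule.Quotient.mk_eq_zero _).mpr ⟨y, hy⟩⟩
  refine ⟨fun x hx => ?_, ?_⟩
  · rw [hT] at hx
    obtain ⟨_, ⟨x, rfl⟩, rfl⟩ := hx
    obtain ⟨y, hy⟩ := hsub x
    exact (Submodule.Quotient.mk_eq_zero _).mpr ⟨y, hy⟩
  have hidxT : Nat.card (Submodule.torsion ℤ_[ℓ] (M ⧸ LinearMap.range f)) =
      (LinearMap.range f).toAddSubgroup.relIndex (LinearMap.range e).toAddSubgroup := by
    rw [hT]
    have h := AddSubgroup.relIndex_map_map q.toAddMonoidHom (LinearMap.range f).toAddSubgroup (LinearMap.range e).toAddSubgroup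
    have hqk : q.toAddMonoidHom.ker = (LinearMap.range f).toAddSubgroup := by
      ext x; exact Submodule.Quotient.mk_eq_zero _
    rw [hqk, sup_idem, sup_eq_left.mpr (show (LinearMap.range f).toAddSubgroup ≤ (LinearMap.range e).toAddSubgroup from hle),
      (AddSubgroup.map_eq_bot_iff _).mpr hqk.ge, AddSubgroup.relIndex_bot_left] at h
    exact h
  have hkerE : LinearMap.ker f = LinearMap.ker e := by
    ext x
    refine ⟨hker x, fun hx => ?_⟩
    have : e x = 0 := hx
    rw [LinearMap.mem_ker, ← LinearMap.congr_fun hfe x, Module.End.mul_apply, this, map_zero]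
  have hcrank : Module.finrank ℤ_[ℓ] (LinearMap.range e) = c := by
    have := Submodule.finrank_quotient_add_finrank (LinearMap.ker e)
    rw [e.quotKerEquivRange.finrank_eq] at this
    rw [hc, hkerE]; omega
  have hN : ((LinearMap.range e).map ((ℓ : ℤ_[ℓ]) • (1 : Module.End ℤ_[ℓ] M))).toAddSubgroup.relIndex
      (LinearMap.range e).toAddSubgroup = ℓ ^ c := by
    haveI : Module.Free ℤ_[ℓ] (LinearMap.range e) := Module.free_of_finite_type_torsion_free'
    let b := (Module.finBasisOfFinrankEq ℤ_[ℓ] (LinearMap.range e) hcrank).equivFun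
    let g : ↥(LinearMap.range e) →+ (Fin c → ZMod ℓ) :=
      { toFun := fun x i => PadicInt.toZMod (b x i)
        map_zero' := funext fun i => by simp
        map_add' := fun x y => funext fun i => by simp }
    have hgs : Function.Surjective g := fun v => by
      refine ⟨b.symm fun i => (ZMod.val (v i) : ℤ_[ℓ]), funext fun i => ?_⟩
      show PadicInt.toZMod (b (b.symm _) i) = v i
      rw [LinearEquiv.apply_symm_apply, map_natCast, ZMod.natCast_zmod_val]
    have hgk : g.ker = ((LinearMap.range e).map ((ℓ : ℤ_[ℓ]) • (1 : Module.End ℤ_[ℓ] M))).toAddSubgroup.addSubgroupOf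
        (LinearMap.range e).toAddSubgroup := by
      ext x
      rw [AddMonoidHom.mem_ker, AddSubgroup.mem_addSubgroupOf]
      constructor
      · intro hx
        have h1 : ∀ i, ∃ w, b x i = (ℓ : ℤ_[ℓ]) * w := fun i => by
          have : b x i ∈ RingHom.ker (PadicInt.toZMod (p := ℓ)) := congrFun hx i
          rw [PadicInt.ker_toZMod, PadicInt.maximalIdeal_eq_span_p, Ideal.mem_span_singleton] at this
          exact this
        choose w hw using h1
        refine ⟨(b.symm w : ↥(LinearMap.range e)).1, (b.symm w).2, ?_⟩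
        have : x = (ℓ : ℤ_[ℓ]) • b.symm w := b.injective (funext fun i => by simp [hw])
        rw [this]; rfl
      · rintro ⟨y, hy, hxy⟩
        funext i
        have : x = (ℓ : ℤ_[ℓ]) • (⟨y, hy⟩ : ↥(LinearMap.range e)) := Subtype.ext hxy.symm
        show PadicInt.toZMod (b x i) = 0
        rw [this, map_smul]
        simp
    show AddSubgroup.index _ = _
    rw [← hgk, AddSubgroup.index_ker, AddMonoidHom.range_eq_top.mpr hgs]
    simp
  rcases hidx with ⟨h2, hidx⟩ | ⟨h3, hidx⟩
  · exact ⟨c, by subst h2; simp, by rw [hidxT, hidx, hN]⟩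
  · have hinj : (LinearMap.range f).toAddSubgroup.relIndex (LinearMap.range e).toAddSubgroup =
        ((LinearMap.range f).map f).toAddSubgroup.relIndex (LinearMap.range f).toAddSubgroup := by
      have hfr : LinearMap.range f = (LinearMap.range e).map f := by
        refine le_antisymm ?_ LinearMap.map_le_range
        rintro _ ⟨x, rfl⟩
        exact ⟨e x, ⟨x, rfl⟩, LinearMap.congr_fun hfe x⟩
      have hm : ∀ S : Submodule ℤ_[ℓ] M, (S.map f).toAddSubgroup = S.toAddSubgroup.map f.toAddMonoidHom := fun S => rfl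
      let f' : Module.End ℤ_[ℓ] M := f + (1 - e)
      have hinj' : Function.Injective f' := by
        refine (injective_iff_map_eq_zero _).mpr fun x hx => ?_
        have h1 : f x + (x - e x) = 0 := hx
        have h2 := congrArg e h1
        rw [map_zero, map_add, map_sub, ← Module.End.mul_apply e f, hef, ← Module.End.mul_apply e e, he, sub_self, add_zero] at h2
        rw [h2, hker x h2, sub_zero, zero_add] at h1
        exact h1
      have hm' : ∀ S : Submodule ℤ_[ℓ] M, S ≤ LinearMap.range e →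
          (S.map f).toAddSubgroup = S.toAddSubgroup.map f'.toAddMonoidHom := by
        intro S hS
        ext y
        have key : ∀ x ∈ S, f' x = f x := fun x hx => by
          obtain ⟨z, rfl⟩ := hS hx
          show f (e z) + (e z - e (e z)) = f (e z)
          rw [← Module.End.mul_apply e e, he, sub_self, add_zero]
        constructor
        · rintro ⟨x, hx, rfl⟩; exact ⟨x, hx, key x hx⟩
        · rintro ⟨x, hx, rfl⟩; exact ⟨x, hx, (key x hx).symm⟩
      have h := AddSubgroup.relIndex_map_map_of_injective (LinearMap.range f).toAddSubgroup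
        (LinearMap.range e).toAddSubgroup (f := f'.toAddMonoidHom) hinj'
      rw [← hm' _ hle, ← hm' _ le_rfl, ← hfr] at h
      exact h.symm
    set R := (LinearMap.range f).toAddSubgroup.relIndex (LinearMap.range e).toAddSubgroup with hR
    have hsq : R * R = ℓ ^ c := by
      rw [← hN, ← hidx]
      have := AddSubgroup.relIndex_mul_relIndex ((LinearMap.range f).map f).toAddSubgroup
        (LinearMap.range f).toAddSubgroup (LinearMap.range e).toAddSubgroup
        (LinearMap.map_le_range (f := f) (p := LinearMap.range f)) hle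
      rw [← hinj] at this
      exact this
    obtain ⟨r, -, hr⟩ := (Nat.dvd_prime_pow (Fact.out : ℓ.Prime)).mp ⟨R, hsq.symm⟩
    refine ⟨r, ?_, by rw [hidxT]; exact hr⟩
    rw [hr, ← pow_add] at hsq
    have := Nat.pow_right_injective (Fact.out : ℓ.Prime).two_le hsq
    subst h3
    omega

end Groth.Agent.S18599
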