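import Groth.Statements.S18600
import Mathlib.NumberTheory.Padics.PadicIntegers
import Mathlib.LinearAlgebra.Matrix.Charpoly.Coeff
import Mathlib.RingTheory.IntegralClosure.IsIntegralClosure.Basic
import Mathlib.Data.Nat.Factorization.Basic
import Mathlib.Algebra.Polynomial.Expand
import Mathlib.Tactic.Ring
import Mathlib.Tactic.LinearCombination
import Mathlib.Tactic.FieldSimp
import Mathlib.Tactic.Abel

set_option autoImplicit false
universe v
open SSRed

namespace Groth.Agent.S18600

variable {_unused : Unit}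

section Aux

open Polynomial

variable {R : Type*} [CommRing R] {g : ℕ}

theorem charpoly_comp (M : Matrix (Fin g) (Fin g) R) (q : R[X]) :
    M.charpoly.comp q = (Matrix.scalar (Fin g) q - M.map C).det := by
  rw [← Matrix.eval_charpoly, Matrix.charpoly_map, eval_map]
  rfl

theorem coeff_charpoly_smul [IsDomain R] (c : R) (hc : c ≠ 0) (B : Matrix (Fin g) (Fin g) R) (i : ℕ) :
    c ^ (g - i) ∣ (c • B).charpoly.coeff i := by
  have h1 : (c • B).charpoly.comp (C c * X) = C (c ^ g) * B.charpoly := by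
    rw [charpoly_comp]
    have e : Matrix.scalar (Fin g) (C c * X) - (c • B).map C = C c • Matrix.charmatrix B := by
      ext a b : 1
      by_cases hab : a = b
      · subst hab
        simp [mul_sub]
      · simp [hab, Matrix.charmatrix_apply_ne]
    rw [e, Matrix.det_smul, Fintype.card_fin, C_pow]
    rfl
  have h2 := congrArg (fun p => coeff p i) h1
  simp only [comp_C_mul_X_coeff, coeff_C_mul] at h2
  rcases le_or_gt i g with hi | hi
  · refine ⟨B.charpoly.coeff i, mul_right_cancel₀ (pow_ne_zero i hc) ?_⟩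
    rw [h2, mul_right_comm, ← pow_add, Nat.sub_add_cancel hi]
  · rw [Nat.sub_eq_zero_of_le hi.le, pow_zero]
    exact one_dvd _

theorem even_product (A B : Matrix (Fin g) (Fin g) R) (c : R) (h : (A - 1) ^ 2 = c • B) :
    A.charpoly.comp (1 + X) * A.charpoly.comp (1 - X) =
      C ((-1) ^ g) * expand R 2 (c • B).charpoly := by
  rw [expand_eq_comp_X_pow]
  rw [charpoly_comp, charpoly_comp, charpoly_comp]
  have e1 : Matrix.scalar (Fin g) (1 + X : R[X]) - A.map C = Matrix.scalar (Fin g) X - (A - 1).map C := by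
    rw [Matrix.map_sub _ (map_sub C), Matrix.map_one _ (map_zero C) (map_one C), map_add, map_one]
    abel
  have e2 : Matrix.scalar (Fin g) (1 - X : R[X]) - A.map C =
      -(Matrix.scalar (Fin g) X + (A - 1).map C) := by
    rw [Matrix.map_sub _ (map_sub C), Matrix.map_one _ (map_zero C) (map_one C), map_sub, map_one]
    abel
  have e3 : (Matrix.scalar (Fin g) X - (A - 1).map C) * (Matrix.scalar (Fin g) X + (A - 1).map C) =
      Matrix.scalar (Fin g) (X ^ 2 : R[X]) - (c • B).map C := by
    have hcomm : Commute (Matrix.scalar (Fin g) (X : R[X])) ((A - 1).map C) :=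
      Matrix.scalar_commute _ (fun _ => Commute.all _ _) _
    rw [← h, pow_two (A - 1), Matrix.map_mul, map_pow, pow_two, sub_mul, mul_add, mul_add, hcomm.eq]
    abel
  rw [e1, e2, Matrix.det_neg, Fintype.card_fin, C_pow, C_neg, C_1, ← e3, Matrix.det_mul]
  ring

theorem int_dvd_of_padic {n : ℕ} (hn : 0 < n) (z : ℤ) (k : ℕ)
    (h : ∀ (ℓ : ℕ) [Fact ℓ.Prime], ℓ ∣ n → (n : ℤ_[ℓ]) ^ k ∣ (z : ℤ_[ℓ])) : ((n : ℤ) ^ k) ∣ z := by
  rw [← Int.natCast_pow, Int.natCast_dvd, Nat.dvd_iff_prime_pow_dvd_dvd]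
  intro p j hp hpj
  rcases Nat.eq_zero_or_pos j with rfl | hj
  · simp
  haveI := Fact.mk hp
  have hpn : p ∣ n := hp.dvd_of_dvd_pow ((dvd_pow_self p hj.ne').trans hpj)
  have h1 : (p : ℤ_[p]) ^ j ∣ (z : ℤ_[p]) := by
    refine dvd_trans ?_ (h p hpn)
    rw [← Nat.cast_pow, ← Nat.cast_pow]
    exact Nat.cast_dvd_cast hpj
  rw [PadicInt.pow_p_dvd_int_iff] at h1
  exact Int.natCast_dvd.1 (by exact_mod_cast h1)

end Aux



/-- Let n be a positive integer, g a natural number and f ∈ ℤ[x] a monic polynomial such that for every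
prime ℓ dividing n there is a g × g matrix A_ℓ over ℤ_ℓ whose characteristic polynomial is f and
such that (A_ℓ − 1)² lies in n·M_g(ℤ_ℓ). Then for every root α of f in a field of characteristic
zero and every square root s of n in that field, (α − 1)/s is integral over ℤ. (The published
statement is for matrices of size 2d and speaks of the eigenvalues of the A_ℓ, which are the roots
of their common characteristic polynomial f; the parity of the size plays no role.) -/
theorem result (n : ℕ) (hn : 0 < n) (g : ℕ) (f : Polynomial ℤ)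
    (hf : f.Monic)
    (hA : ∀ (ℓ : ℕ) [Fact ℓ.Prime], ℓ ∣ n → ∃ A : Matrix (Fin g) (Fin g) ℤ_[ℓ],
      A.charpoly = f.map (Int.castRingHom ℤ_[ℓ]) ∧
        ∃ B : Matrix (Fin g) (Fin g) ℤ_[ℓ], (A - 1) ^ 2 = (n : ℤ_[ℓ]) • B)
    (K : Type v) [Field K] [CharZero K] (α s : K) (hα : Polynomial.aeval α f = 0) (hs : s ^ 2 = (n : K)) :
    IsIntegral ℤ ((α - 1) / s) := by
  classical
  have hs0 : s ≠ 0 := by
    intro h0
    rw [h0, zero_pow (by norm_num)] at hs
    exact hn.ne' (Nat.cast_eq_zero.1 hs.symm)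
  rcases Nat.lt_or_ge n 2 with hn2 | hn2
  · obtain rfl : n = 1 := by omega
    rw [Nat.cast_one] at hs
    have hαi : IsIntegral ℤ α := ⟨f, hf, hα⟩
    have hsi : IsIntegral ℤ s := IsIntegral.of_pow (n := 2) (by norm_num) (by rw [hs]; exact isIntegral_one)
    have he : (α - 1) / s = (α - 1) * s := by
      rw [div_eq_iff hs0, mul_assoc, ← sq, hs, mul_one]
    rw [he]
    exact (hαi.sub isIntegral_one).mul hsi
  set P : Polynomial ℤ := Polynomial.C ((-1) ^ g) *
    (f.comp (1 + Polynomial.X) * f.comp (1 - Polynomial.X)) with hP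
  have hloc : ∀ (ℓ : ℕ) [Fact ℓ.Prime], ℓ ∣ n → f.natDegree = g ∧ ∃ B : Matrix (Fin g) (Fin g) ℤ_[ℓ],
      P.map (Int.castRingHom ℤ_[ℓ]) = Polynomial.expand ℤ_[ℓ] 2 ((n : ℤ_[ℓ]) • B).charpoly := by
    intro ℓ _ hℓ
    obtain ⟨A, hchar, B, hB⟩ := hA ℓ hℓ
    refine ⟨?_, B, ?_⟩
    · have := congrArg Polynomial.natDegree hchar
      rw [Matrix.charpoly_natDegree_eq_dim, Fintype.card_fin, hf.natDegree_map] at this
      exact this.symm
    · rw [hP, Polynomial.map_mul, Polynomial.map_mul, Polynomial.map_comp, Polynomial.map_comp, ← hchar,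
        Polynomial.map_add, Polynomial.map_sub, Polynomial.map_one, Polynomial.map_X, Polynomial.map_C,
        even_product A B _ hB, ← mul_assoc, ← Polynomial.C_mul, map_pow, map_neg, map_one, ← mul_pow,
        neg_one_mul, neg_neg, one_pow, Polynomial.C_1, one_mul]
  obtain ⟨ℓ₀, hℓ₀p, hℓ₀⟩ := Nat.exists_prime_and_dvd (show n ≠ 1 by omega)
  haveI := Fact.mk hℓ₀p
  obtain ⟨hdeg, B₀, hB₀⟩ := hloc ℓ₀ hℓ₀
  have hinj : Function.Injective (Int.castRingHom ℤ_[ℓ₀]) := Int.cast_injective
  have hexp : P = Polynomial.expand ℤ 2 (P.contract 2) := by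
    ext i
    rw [Polynomial.coeff_expand (by norm_num)]
    split_ifs with hi
    · rw [Polynomial.coeff_contract (by norm_num), Nat.div_mul_cancel hi]
    · apply hinj
      have := congrArg (fun p => Polynomial.coeff p i) hB₀
      simp only [Polynomial.coeff_map, Polynomial.coeff_expand (show 0 < 2 by norm_num), if_neg hi] at this
      rw [map_zero]; exact this
  set h := P.contract 2 with hh
  have hmonic : h.Monic ∧ h.natDegree = g := by
    have h1 : h.map (Int.castRingHom ℤ_[ℓ₀]) = ((n : ℤ_[ℓ₀]) • B₀).charpoly := by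
      refine Polynomial.expand_injective (R := ℤ_[ℓ₀]) (show 0 < 2 by norm_num) ?_
      rw [← Polynomial.map_expand, ← hexp, hB₀]
    refine ⟨Polynomial.monic_of_injective hinj (h1 ▸ Matrix.charpoly_monic _), ?_⟩
    rw [← Polynomial.natDegree_map_eq_of_injective hinj, h1, Matrix.charpoly_natDegree_eq_dim,
      Fintype.card_fin]
  have hdvd : ∀ i, (n : ℤ) ^ (g - i) ∣ h.coeff i := by
    intro i
    refine int_dvd_of_padic hn _ _ fun ℓ _ hℓ => ?_
    obtain ⟨-, B, hB⟩ := hloc ℓ hℓ
    have h1 : h.map (Int.castRingHom ℤ_[ℓ]) = ((n : ℤ_[ℓ]) • B).charpoly := by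
      refine Polynomial.expand_injective (R := ℤ_[ℓ]) (show 0 < 2 by norm_num) ?_
      rw [← Polynomial.map_expand, ← hexp, hB]
    have h2 := coeff_charpoly_smul (n : ℤ_[ℓ]) (Nat.cast_ne_zero.2 hn.ne') B i
    rw [← h1, Polynomial.coeff_map] at h2
    exact h2
  choose c hc using hdvd
  let r : Polynomial ℤ := ∑ i ∈ Finset.range (g + 1), Polynomial.C (c i) * Polynomial.X ^ i
  have hcg : c g = 1 := by
    have := hc g
    rw [Nat.sub_self, pow_zero, one_mul] at this
    rw [← this, ← hmonic.2]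
    exact hmonic.1
  have hr : r.Monic := by
    show (∑ i ∈ Finset.range (g + 1), Polynomial.C (c i) * Polynomial.X ^ i).Monic
    rw [Finset.sum_range_succ, hcg, Polynomial.C_1, one_mul, add_comm]
    exact Polynomial.monic_X_pow_add ((Polynomial.degree_sum_le _ _).trans_lt
      ((Finset.sup_lt_iff (WithBot.bot_lt_coe g)).2 fun i hi =>
        (Polynomial.degree_C_mul_X_pow_le i (c i)).trans_lt (WithBot.coe_lt_coe.2 (Finset.mem_range.1 hi))))
  have hPα : Polynomial.aeval (α - 1) P = 0 := by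
    rw [hP, map_mul, map_mul, Polynomial.aeval_comp, map_add, map_one, Polynomial.aeval_X,
      add_sub_cancel, hα, zero_mul, mul_zero]
  rw [hexp, Polynomial.expand_aeval] at hPα
  have hroot : Polynomial.aeval (((α - 1) / s) ^ 2) r = 0 := by
    have e : (α - 1) ^ 2 = (n : K) * ((α - 1) / s) ^ 2 := by
      rw [← hs]; field_simp
    rw [e, Polynomial.aeval_eq_sum_range' (n := g + 1) (by omega)] at hPα
    have key : (n : K) ^ g * Polynomial.aeval (((α - 1) / s) ^ 2) r = 0 := by
      rw [← hPα, map_sum, Finset.mul_sum]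
      refine Finset.sum_congr rfl fun i hi => ?_
      rw [Finset.mem_range] at hi
      rw [map_mul, map_pow, Polynomial.aeval_C, Polynomial.aeval_X, hc i, zsmul_eq_mul, mul_pow]
      simp only [algebraMap_int_eq, eq_intCast, Int.cast_mul, Int.cast_pow, Int.cast_natCast]
      rw [show (n : K) ^ g = (n : K) ^ (g - i) * (n : K) ^ i by rw [← pow_add, Nat.sub_add_cancel (by omega)]]
      ring
    exact (mul_eq_zero.1 key).resolve_left (pow_ne_zero _ (Nat.cast_ne_zero.2 hn.ne'))
  exact IsIntegral.of_pow (by norm_num) ⟨r, hr, hroot⟩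


end Groth.Agent.S18600
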