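import Groth.Statements.S18609
import Groth.Agent.L07.NoGaPow.Pow

set_option autoImplicit false
set_option backward.isDefEq.respectTransparency.types false
set_option linter.style.haveILetI false
universe u
open CategoryTheory CategoryTheory.Limits MonoidalCategory CartesianMonoidalCategory AlgebraicGeometry MonObj
open SGA7

namespace Groth.Agent.S18609

instance isMonHom_mul {C : Type*} [Category C] [CartesianMonoidalCategory C] [BraidedCategory C] {M G : C} [GrpObj M]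
    [GrpObj G] [IsCommMonObj G] (f g : M ⟶ G) [IsMonHom f] [IsMonHom g] : IsMonHom (f * g) :=
  Groth.L25.Bridge.isMonHom_of_mul _ fun Y a b => by
    rw [MonObj.comp_mul, MonObj.comp_mul, MonObj.comp_mul, MonObj.mul_comp, MonObj.mul_comp, _root_.mul_mul_mul_comm]

instance isMonHom_pow' {C : Type*} [Category C] [CartesianMonoidalCategory C] [BraidedCategory C] {M G : C} [GrpObj M]
    [GrpObj G] [IsCommMonObj G] (f : M ⟶ G) [IsMonHom f] (n : ℕ) : IsMonHom (f ^ n) :=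
  Groth.L25.Bridge.isMonHom_of_mul _ fun Y a b => by
    rw [MonObj.comp_pow, MonObj.comp_pow, MonObj.comp_pow, MonObj.mul_comp, mul_pow]

open Groth.L07.NoGaPow in
/-- From a root of a norm element to the decomposition. -/
theorem exists_root {k : Type u} [Field k] (G : Over (Spec (CommRingCat.of k))) [GrpObj G] [IsCommMonObj G]
    [Smooth G.hom] [ConnectedSpace ↥G.left] (hG : SGA7.FibresUnipotentRankZero G) (u : Aut G) [IsMonHom u.hom]
    (h : (u * u = 1 ∧ ∀ (T : Over (Spec (CommRingCat.of k))) (x : T ⟶ G), x ^ 2 = 1 → x ≫ u.hom = x) ∨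
      (u * u = 1 ∧ ∀ (T : Over (Spec (CommRingCat.of k))) (x : T ⟶ G), x ^ 4 = 1 →
        (((x ≫ u.hom) * x⁻¹) ≫ u.hom) * ((x ≫ u.hom) * x⁻¹)⁻¹ = 1) ∨
      (u * u * u = 1 ∧ ∀ (T : Over (Spec (CommRingCat.of k))) (x : T ⟶ G), x ^ 3 = 1 →
        (((x ≫ u.hom) * x⁻¹) ≫ u.hom) * ((x ≫ u.hom) * x⁻¹)⁻¹ = 1)) :
    ∃ p : G ⟶ G, IsMonHom p ∧ p ≫ p = p ∧
      (u * u = 1 → p * p = 𝟙 G * u.hom) ∧ (u * u * u = 1 → p * p * p = 𝟙 G * u.hom * (u * u).hom) := by
  obtain ⟨v, hv⟩ : ∃ v, v = u.hom := ⟨_, rfl⟩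
  haveI : IsMonHom v := hv ▸ inferInstance
  have e2 : (u * u).hom = v ≫ v := by rw [hv]; rfl
  have h22 : u * u = 1 → v ≫ v = 𝟙 G := fun e => by
    rw [← e2, e]; rfl
  have h33 : u * u * u = 1 → v ≫ v ≫ v = 𝟙 G := fun e => by
    have h3 : (u * u * u).hom = v ≫ v ≫ v := by rw [hv]; rfl
    rw [← h3, e]; rfl
  let d : G ⟶ G := v * (𝟙 G)⁻¹
  haveI : IsMonHom d := inferInstanceAs (IsMonHom (v * (𝟙 G)⁻¹))
  have hd : ∀ {T : Over (Spec (CommRingCat.of k))} (x : T ⟶ G), x ≫ d = (x ≫ v) * x⁻¹ := fun x => by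
    rw [MonObj.comp_mul, GrpObj.comp_inv, Category.comp_id]
  -- idempotency
  have hidem : ∀ (p N : G ⟶ G) [IsMonHom p] (m : ℕ), 0 < m → p ^ m = N → N ≫ N = N ^ m → p ≫ p = p := by
    intro p N _ m hm hp hN
    refine pow_injective G hG (m * m) (Nat.mul_pos hm hm) _ _ ?_
    rw [pow_mul, pow_mul, ← MonObj.pow_comp, ← MonObj.comp_pow, hp]
    exact hN
  rcases (h : _ ∨ _) with h | h | h
  rotate_left 2
  · -- order three
    obtain ⟨e, ht⟩ := h
    have hv3 := h33 e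
    obtain ⟨δ, hδ, _⟩ := exists_pow_eq G hG 3 (by norm_num) (d ≫ d) fun T x hx => by
      rw [← Category.assoc, hd, hd, hv]
      exact ht T x hx
    have hdd : d ≫ d = ((v ≫ v) * v⁻¹) * (v⁻¹ * 𝟙 G) := by
      rw [hd d, show d ≫ v = (v ≫ v) * v⁻¹ by rw [MonObj.mul_comp, GrpObj.inv_comp, Category.id_comp]]
      simp only [d, mul_inv, inv_inv]
    let p : G ⟶ G := δ * v
    haveI : IsMonHom p := inferInstanceAs (IsMonHom (δ * v))
    have hp3 : p ^ 3 = 𝟙 G * v * (v ≫ v) := by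
      rw [mul_pow, hδ, hdd]
      calc ((v ≫ v) * v⁻¹ * (v⁻¹ * 𝟙 G)) * v ^ 3 = (v⁻¹ * v) * (v⁻¹ * v) * (𝟙 G * v * (v ≫ v)) := by
            rw [pow_succ, pow_two]; ac_rfl
        _ = 𝟙 G * v * (v ≫ v) := by rw [inv_mul_cancel, _root_.one_mul, _root_.one_mul]
    have hvN : v ≫ (𝟙 G * v * (v ≫ v)) = 𝟙 G * v * (v ≫ v) := by
      rw [MonObj.comp_mul, MonObj.comp_mul, Category.comp_id, hv3]
      ac_rfl
    refine ⟨p, inferInstance, hidem p _ 3 (by norm_num) hp3 ?_, fun e' => ?_, fun _ => ?_⟩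
    · calc (𝟙 G * v * (v ≫ v)) ≫ (𝟙 G * v * (v ≫ v))
          = (𝟙 G * v * (v ≫ v)) * (𝟙 G * v * (v ≫ v)) * (𝟙 G * v * (v ≫ v)) := by
            rw [MonObj.mul_comp, MonObj.mul_comp, Category.id_comp, hvN, Category.assoc, hvN, hvN]
        _ = _ := by rw [pow_succ, pow_two]
    · have h1 : v = 𝟙 G := by
        have := hv3
        rwa [h22 e', Category.comp_id] at this
      have h3 : p = 𝟙 G := by
        refine pow_injective G hG 3 (by norm_num) _ _ ?_
        rw [hp3, h1, Category.comp_id, pow_succ, pow_two]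
      have hu : u.hom = 𝟙 G := hv.symm.trans h1
      exact (congrArg₂ (· * ·) h3 h3).trans (congrArg (𝟙 G * ·) hu).symm
    · refine Eq.trans ?_ (hp3.trans (by rw [e2, hv]))
      rw [pow_succ, pow_two]
  all_goals
    obtain ⟨e, ht⟩ := h
    have hv2 := h22 e
    obtain ⟨β, hβ, _⟩ : ∃ β : G ⟶ G, β ^ 2 = d ∧ IsMonHom β := by
      first
      | exact exists_pow_eq G hG 2 (by norm_num) d fun T x hx => by
          rw [hd, hv, ht T x hx, mul_inv_cancel]
      | obtain ⟨γ, hγ, _⟩ := exists_pow_eq G hG 4 (by norm_num) (d ≫ d) fun T x hx => by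
          rw [← Category.assoc, hd, hd, hv]
          exact ht T x hx
        refine ⟨γ⁻¹, ?_, inferInstance⟩
        have h4 : γ ^ 2 = d⁻¹ := by
          refine pow_injective G hG 2 (by norm_num) _ _ ?_
          rw [← pow_mul, hγ, hd d,
            show d ≫ v = 𝟙 G * v⁻¹ by rw [MonObj.mul_comp, GrpObj.inv_comp, Category.id_comp, hv2]]
          simp only [d, mul_inv, inv_inv, pow_two]
          ac_rfl
        rw [inv_pow, h4, inv_inv]
    let p : G ⟶ G := 𝟙 G * β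
    haveI : IsMonHom p := inferInstanceAs (IsMonHom (𝟙 G * β))
    have hp2 : p ^ 2 = 𝟙 G * v := by
      rw [mul_pow, hβ]
      calc (𝟙 G : G ⟶ G) ^ 2 * d = ((𝟙 G)⁻¹ * 𝟙 G) * (𝟙 G * v) := by
            simp only [d, pow_two]; ac_rfl
        _ = _ := by rw [inv_mul_cancel, _root_.one_mul]
    refine ⟨p, inferInstance, hidem p _ 2 (by norm_num) hp2 ?_, fun _ => ?_, fun e' => ?_⟩
    · rw [MonObj.mul_comp, Category.id_comp, MonObj.comp_mul, Category.comp_id, hv2, pow_two]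
      ac_rfl
    · exact (pow_two p).symm.trans (hp2.trans (congrArg (𝟙 G * ·) hv))
    · have h1 : v = 𝟙 G := by
        have := h33 e'
        rwa [hv2, Category.comp_id] at this
      have h3 : p = 𝟙 G := by
        refine pow_injective G hG 2 (by norm_num) _ _ ?_
        rw [hp2, h1, pow_two]
      have hu : u.hom = 𝟙 G := hv.symm.trans h1
      refine Eq.trans ?_ (congrArg₂ (fun a b => 𝟙 G * a * b) hu (e2.trans (by rw [h1, Category.comp_id]))).symm
      rw [h3]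

/-- Let k be a field, G a smooth connected commutative k-group scheme whose geometric fibre contains no
copy of the additive group (an extension of an abelian variety by a torus), and α an automorphism of
the group scheme G. For a point x of G with values in a k-scheme write (α − 1)x = α(x)·x⁻¹. Assume
(a) α² = 1 and (α − 1)x = 1 whenever x² = 1, or (b) α² = 1 and (α − 1)((α − 1)x) = 1 whenever x⁴ =
1, or (c) α³ = 1 and (α − 1)((α − 1)x) = 1 whenever x³ = 1. Then there is an idempotent endomorphism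
p of G with p + p = 1 + α in cases (a) and (b) and p + p + p = 1 + α + α² in case (c) (sums taken
pointwise), the kernels G₁ of 1 − p and G₂ of p are closed connected subgroup schemes, and
multiplication G₁ × G₂ → G is an isomorphism. (The published statement further identifies G₁ with
the identity component of ker(1 − α) and G₂ with that of ker(1 + α), resp. ker(1 + α + α²); over a
field of characteristic 2, resp. 3, this fails scheme-theoretically — for α = −1 on an ordinary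
elliptic curve in characteristic 2 one gets G₁ trivial while ker(1 − α) = ker 2 has a non-trivial
connected part — so it is not restated.) -/
theorem result (k : Type u) [Field k]
    (G : Over (Spec (CommRingCat.of k))) [GrpObj G] [IsCommMonObj G] [Smooth G.hom] [ConnectedSpace ↥G.left]
    (hG : SGA7.FibresUnipotentRankZero G) (u : Aut G) [IsMonHom u.hom]
    (h : (u * u = 1 ∧ ∀ (T : Over (Spec (CommRingCat.of k))) (x : T ⟶ G), x ^ 2 = 1 → x ≫ u.hom = x) ∨
      (u * u = 1 ∧ ∀ (T : Over (Spec (CommRingCat.of k))) (x : T ⟶ G), x ^ 4 = 1 →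
        (((x ≫ u.hom) * x⁻¹) ≫ u.hom) * ((x ≫ u.hom) * x⁻¹)⁻¹ = 1) ∨
      (u * u * u = 1 ∧ ∀ (T : Over (Spec (CommRingCat.of k))) (x : T ⟶ G), x ^ 3 = 1 →
        (((x ≫ u.hom) * x⁻¹) ≫ u.hom) * ((x ≫ u.hom) * x⁻¹)⁻¹ = 1)) :
    ∃ (p : G ⟶ G) (G₁ G₂ : Over (Spec (CommRingCat.of k))) (_ : GrpObj G₁) (_ : GrpObj G₂)
      (i₁ : G₁ ⟶ G) (i₂ : G₂ ⟶ G),
      IsMonHom p ∧ p ≫ p = p ∧
      (u * u = 1 → p * p = 𝟙 G * u.hom) ∧ (u * u * u = 1 → p * p * p = 𝟙 G * u.hom * (u * u).hom) ∧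
      IsMonHom i₁ ∧ IsMonHom i₂ ∧ IsClosedImmersion i₁.left ∧ IsClosedImmersion i₂.left ∧
      AlgGrp.IsKernel i₁ (𝟙 G * p⁻¹) ∧ AlgGrp.IsKernel i₂ p ∧
      ConnectedSpace ↥G₁.left ∧ ConnectedSpace ↥G₂.left ∧
      IsIso ((i₁ ⊗ₘ i₂) ≫ μ[G]) := by
  obtain ⟨p, hp, hidem, h2, h3⟩ := exists_root G hG u h
  haveI := hp
  let q : G ⟶ G := 𝟙 G * p⁻¹
  haveI : IsMonHom q := inferInstanceAs (IsMonHom (𝟙 G * p⁻¹))
  haveI : LocallyOfFiniteType G.hom := inferInstance
  obtain ⟨G₁, _, i₁, hi₁, hc₁, -, hk₁⟩ := Groth.L08.AbelianGrp.exists_kernel q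
  obtain ⟨G₂, _, i₂, hi₂, hc₂, -, hk₂⟩ := Groth.L08.AbelianGrp.exists_kernel p
  haveI := hi₁; haveI := hi₂; haveI := hc₁; haveI := hc₂
  haveI : Mono i₁ := (Over.forget _).mono_of_mono_map (inferInstanceAs (Mono i₁.left))
  haveI : Mono i₂ := (Over.forget _).mono_of_mono_map (inferInstanceAs (Mono i₂.left))
  have hpq : p ≫ q = 1 := by
    rw [MonObj.comp_mul, GrpObj.comp_inv, Category.comp_id, hidem, mul_inv_cancel]
  have hqp : q ≫ p = 1 := by
    rw [MonObj.mul_comp, GrpObj.inv_comp, Category.id_comp, hidem, mul_inv_cancel]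
  have hi₁p : i₁ ≫ p = i₁ := by
    have h1 : i₁ ≫ q = 1 := hk₁.w.trans (Hom.one_def).symm
    rw [MonObj.comp_mul, GrpObj.comp_inv, Category.comp_id] at h1
    exact (mul_inv_eq_one.1 h1).symm
  have hi₂p : i₂ ≫ p = 1 := hk₂.w.trans (Hom.one_def).symm
  have hi₂q : i₂ ≫ q = i₂ := by
    rw [MonObj.comp_mul, GrpObj.comp_inv, Category.comp_id, hi₂p, inv_one, _root_.mul_one]
  let r₁ : G ⟶ G₁ := hk₁.lift p (toUnit G) (by rw [hpq, Hom.one_def])
  let r₂ : G ⟶ G₂ := hk₂.lift q (toUnit G) (by rw [hqp, Hom.one_def])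
  have hr₁ : r₁ ≫ i₁ = p := hk₁.lift_fst _ _ _
  have hr₂ : r₂ ≫ i₂ = q := hk₂.lift_fst _ _ _
  have conn : ∀ {H : Over (Spec (CommRingCat.of k))} (r : G ⟶ H) (i : H ⟶ G), i ≫ r = 𝟙 H →
      ConnectedSpace ↥H.left := fun r i e => by
    haveI : Surjective (i.left ≫ r.left) := by rw [← Over.comp_left, e, Over.id_left]; infer_instance
    haveI : Surjective r.left := Surjective.of_comp i.left r.left
    exact r.left.surjective.connectedSpace r.left.continuous
  have hr₁' : i₁ ≫ r₁ = 𝟙 G₁ := by rw [← cancel_mono i₁, Category.assoc, hr₁, hi₁p, Category.id_comp]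
  have hr₂' : i₂ ≫ r₂ = 𝟙 G₂ := by rw [← cancel_mono i₂, Category.assoc, hr₂, hi₂q, Category.id_comp]
  refine ⟨p, G₁, G₂, inferInstance, inferInstance, i₁, i₂, hp, hidem, h2, h3, hi₁, hi₂, hc₁, hc₂, hk₁, hk₂,
    conn r₁ i₁ hr₁', conn r₂ i₂ hr₂', ⟨lift r₁ r₂, ?_, ?_⟩⟩
  · have hm : (i₁ ⊗ₘ i₂) ≫ μ[G] = (fst G₁ G₂ ≫ i₁) * (snd G₁ G₂ ≫ i₂) := by
      rw [MonObj.mul_eq_mul, MonObj.comp_mul, tensorHom_fst, tensorHom_snd]
    rw [hm]
    ext1
    · rw [Category.assoc, lift_fst, Category.id_comp, ← cancel_mono i₁, Category.assoc, hr₁, MonObj.mul_comp,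
        Category.assoc, Category.assoc, hi₁p, hi₂p, MonObj.comp_one, _root_.mul_one]
    · rw [Category.assoc, lift_snd, Category.id_comp, ← cancel_mono i₂, Category.assoc, hr₂, MonObj.mul_comp,
        Category.assoc, Category.assoc, hi₂q,
        show i₁ ≫ q = 1 from hk₁.w.trans (Hom.one_def).symm, MonObj.comp_one, _root_.one_mul]
  · rw [MonObj.mul_eq_mul, MonObj.comp_mul, MonObj.comp_mul, tensorHom_fst, tensorHom_snd, ← Category.assoc,
      ← Category.assoc, lift_fst, lift_snd, hr₁, hr₂]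
    calc p * (𝟙 G * p⁻¹) = 𝟙 G * (p * p⁻¹) := by ac_rfl
      _ = 𝟙 G := by rw [mul_inv_cancel, _root_.mul_one]
end Groth.Agent.S18609
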