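
import Groth.Statements.S1861
import Groth.Agent.L22.Cyc.RelDim

set_option autoImplicit false
universe u
open CategoryTheory AlgebraicGeometry
open Cyc

namespace Groth.Agent.S1861

/-- Let f : X → Y be flat, locally of finite type, of relative dimension r, y a point of Y and x a point
of X that is generic in an irreducible component of f⁻¹ of the closure of y (that is, x lies in that
closed set and has no proper generalization in it). Then f(x) = y and δX(x) = δY(y) + r. Here a pair
(X, δ) with Cyc.IsSetup plays the role of a scheme locally of finite type over a fixed base with a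
dimension function (X locally Noetherian with universally catenary local rings, δ a dimension
function), and Cyc.DeltaCompat records that the dimension function upstairs is the induced one. -/
theorem result (X Y : Scheme.{u}) (δX : X → ℤ) (δY : Y → ℤ) (hX : Cyc.IsSetup X δX) (hY : Cyc.IsSetup Y δY) (f : X ⟶ Y) [Flat f] [LocallyOfFiniteType f] (r : ℕ) (hr : Cyc.HasRelDim f r) (hδ : Cyc.DeltaCompat f δX δY) (y : Y) (x : X) (hx : f x ∈ closure ({y} : Set Y)) (hmax : ∀ x' : X, f x' ∈ closure ({y} : Set Y) → x' ⤳ x → x' = x) : f x = y ∧ δX x = δY y + r := by
  have hyx : y ⤳ f x := specializes_iff_mem_closure.2 hx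
  obtain ⟨x', hx'x, hfx'⟩ := Flat.generalizingMap f hyx
  have hxy : f x = y := by
    rw [← hmax x' (by rw [hfx']; exact subset_closure rfl) hx'x, hfx']
  refine ⟨hxy, ?_⟩
  rw [← hxy]
  exact Groth.L22.Cyc.shift_of_deltaCompat f hr hδ x fun w hw hwx =>
    hmax w (by rw [hw]; exact hx) hwx

end Groth.Agent.S1861
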