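import Groth.Statements.S18614
import Mathlib.LinearAlgebra.Basis.VectorSpace

set_option autoImplicit false
universe u v
open LinTop

namespace Groth.Agent.S18614

/-- Let k be a field carrying the discrete topology and M a separated topological k-module with a
k-linear topology (the open k-submodules form a basis of neighbourhoods of zero and M is a
topological additive group). For a closed submodule M₁, the perpendicular of the perpendicular of
M₁, both taken with respect to the pairing of M with its continuous dual (the continuous k-linear
maps M → k), is M₁ itself: an element killed by every continuous functional vanishing on M₁ belongs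
to M₁. -/
theorem result (k : Type u) (M : Type v) [Field k]
    [TopologicalSpace k] [DiscreteTopology k] [AddCommGroup M] [Module k M] [TopologicalSpace M]
    [IsTopologicalAddGroup M] [IsLinearTopology k M] [T2Space M]
    (M₁ : Submodule k M) (hM₁ : IsClosed (M₁ : Set M)) (x : M)
    (hx : ∀ φ : M →L[k] k, (∀ m ∈ M₁, φ m = 0) → φ x = 0) : x ∈ M₁ := by
  by_contra hne
  have h0 : (fun z => x + z) ⁻¹' (M₁ : Set M)ᶜ ∈ nhds (0 : M) :=
    (hM₁.isOpen_compl.preimage (continuous_const.add continuous_id)).mem_nhds (by simpa using hne)
  obtain ⟨W, hW, hWU⟩ := (IsLinearTopology.hasBasis_open_submodule k).mem_iff.mp h0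
  have hnot : x ∉ M₁ ⊔ W := by
    intro h
    obtain ⟨m, hm, w, hw, rfl⟩ := Submodule.mem_sup.mp h
    exact hWU (neg_mem hw) (by simpa using hm)
  obtain ⟨f, hfx, hf⟩ := Submodule.exists_le_ker_of_notMem hnot
  have hfc : Continuous f := by
    refine continuous_of_continuousAt_zero f ?_
    refine fun U hU => Filter.mem_map.mpr (Filter.mem_of_superset (hW.mem_nhds (zero_mem W)) fun z hz => ?_)
    have h1 : f z = 0 := hf (Submodule.mem_sup_right hz)
    have h2 := mem_of_mem_nhds hU
    simp only [map_zero] at h2
    simpa [h1] using h2
  exact hfx (hx ⟨f, hfc⟩ fun m hm => hf (Submodule.mem_sup_left hm))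

end Groth.Agent.S18614
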