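import Groth.Statements.S18615
import Mathlib.LinearAlgebra.Basis.VectorSpace
import Mathlib.LinearAlgebra.Isomorphisms

set_option autoImplicit false
universe u v
open LinTop

namespace Groth.Agent.S18615

/-- Let k be a field carrying the discrete topology and M a separated topological k-module with a
k-linear topology (open k-submodules form a basis of neighbourhoods of zero, M a topological
additive group). For closed submodules M₁ ⊆ M₂ there is a short exact sequence 0 → M₂^⊥ → M₁^⊥ →
(M₂/M₁)^* → 0 of plain k-modules, where ⊥ denotes the annihilator in the continuous dual of M and *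
the continuous dual. Stated here as its one non-formal part, surjectivity on the right: every
continuous functional on M₂ (subspace topology) that vanishes on M₁ is the restriction of a
continuous functional on M vanishing on M₁ (continuous functionals on M₂/M₁ being the continuous
functionals on M₂ that kill M₁). -/
theorem result (k : Type u) (M : Type v) [Field k]
    [TopologicalSpace k] [DiscreteTopology k] [AddCommGroup M] [Module k M] [TopologicalSpace M]
    [IsTopologicalAddGroup M] [IsLinearTopology k M] [T2Space M]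
    (M₁ M₂ : Submodule k M) (h₁₂ : M₁ ≤ M₂) (hM₁ : IsClosed (M₁ : Set M))
    (hM₂ : IsClosed (M₂ : Set M)) (ψ : M₂ →L[k] k)
    (hψ : ∀ m : M₂, (m : M) ∈ M₁ → ψ m = 0) :
    ∃ φ : M →L[k] k, (∀ m ∈ M₁, φ m = 0) ∧ ∀ m : M₂, φ (m : M) = ψ m := by
  have hker : IsOpen ((ψ : M₂ →L[k] k) ⁻¹' {0}) := (isOpen_discrete _).preimage ψ.continuous
  obtain ⟨U, hU, hUeq⟩ := isOpen_induced_iff.mp hker
  have h0U : (0 : M) ∈ U := by
    have : (0 : M₂) ∈ (ψ : M₂ →L[k] k) ⁻¹' {0} := by simp
    rw [← hUeq] at this
    exact this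
  obtain ⟨W, hW, hWU⟩ := (IsLinearTopology.hasBasis_open_submodule k).mem_iff.mp (hU.mem_nhds h0U)
  let f : M₂ →ₗ[k] M ⧸ W := W.mkQ.comp M₂.subtype
  have hle : LinearMap.ker f ≤ LinearMap.ker (ψ : M₂ →ₗ[k] k) := by
    intro m hm
    have hmU : m ∈ (Subtype.val : M₂ → M) ⁻¹' U := hWU ((Submodule.Quotient.mk_eq_zero W).mp hm)
    have hm0 : m ∈ (ψ : M₂ →L[k] k) ⁻¹' {0} := hUeq ▸ hmU
    simpa using hm0
  obtain ⟨g, hg⟩ := LinearMap.exists_extend
    (((LinearMap.ker f).liftQ (ψ : M₂ →ₗ[k] k) hle).comp f.quotKerEquivRange.symm.toLinearMap)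
  let φ : M →ₗ[k] k := g.comp W.mkQ
  have hφ : ∀ m : M₂, φ (m : M) = ψ m := by
    intro m
    have := LinearMap.congr_fun hg ⟨f m, LinearMap.mem_range_self f m⟩
    simp only [LinearMap.comp_apply, Submodule.subtype_apply, LinearEquiv.coe_coe] at this
    rw [LinearMap.quotKerEquivRange_symm_apply_image] at this
    simpa [φ, f] using this
  have hφc : Continuous φ := by
    refine continuous_of_continuousAt_zero φ ?_
    refine fun V hV => Filter.mem_map.mpr (Filter.mem_of_superset (hW.mem_nhds (zero_mem W)) fun z hz => ?_)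
    have h1 : φ z = 0 := by simp [φ, (Submodule.Quotient.mk_eq_zero W).mpr hz]
    have h2 := mem_of_mem_nhds hV
    simp only [map_zero] at h2
    simpa [h1] using h2
  refine ⟨⟨φ, hφc⟩, fun m hm => ?_, hφ⟩
  exact (hφ ⟨m, h₁₂ hm⟩).trans (hψ ⟨m, h₁₂ hm⟩ hm)

end Groth.Agent.S18615
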