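import Groth.Statements.S18617
import Mathlib.Tactic.FieldSimp
import Mathlib.Algebra.CharZero.Defs
-- import your own Groth.Agent.* helpers here

set_option autoImplicit false
universe u
open LocRes

namespace Groth.Agent.S18617

/-- The published statement is that, for a complete separated linearly topologized commutative algebra K
over a field of characteristic zero, the separated de Rham complex of K tensored with the exterior
algebra on symbols α_1, ..., α_n maps quasi-isomorphically to the separated de Rham complex of the
iterated Laurent series ring K((t_1, ..., t_n)), α_i going to dlog t_i; this row is the case K = k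
and n = 1, unpacked: over a field k of characteristic 0, a formal Laurent series f in k((t)) has
term-by-term derivative zero if and only if it is the constant series on its coefficient of degree
0, and a Laurent series g is the derivative of some Laurent series if and only if its residue (the
coefficient of t⁻¹) vanishes; so H⁰ of the complex k((t)) → k((t)) dt is k and H¹ is the line
spanned by the class of dt/t, on which the residue is 1. -/
theorem result (k : Type u) [Field k] [CharZero k] :
    (∀ f : LaurentSeries k, LocRes.D k f = 0 ↔ f = HahnSeries.C (f.coeff 0)) ∧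
      ∀ g : LaurentSeries k, (∃ f : LaurentSeries k, LocRes.D k f = g) ↔ LocRes.res k g = 0 := by
  have hD : ∀ (f : LaurentSeries k) (n : ℤ), (LocRes.D k f).coeff n = (n + 1) • f.coeff (n + 1) :=
    fun f n => LocRes.derivative_coeff k f n
  have hC : ∀ (a : k) (n : ℤ), (HahnSeries.C a : LaurentSeries k).coeff n = if n = 0 then a else 0 := fun a n => by
    rw [HahnSeries.C_apply, HahnSeries.coeff_single]
    split_ifs <;> rfl
  refine ⟨fun f => ⟨fun h => ?_, fun h => ?_⟩, fun g => ⟨?_, fun h => ?_⟩⟩
  · ext n
    rw [hC]
    split_ifs with hn
    · rw [hn]
    · have h1 := hD f (n - 1)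
      rw [h, sub_add_cancel, zsmul_eq_mul] at h1
      exact (mul_eq_zero.1 h1.symm).resolve_left (Int.cast_ne_zero.2 hn)
  · ext n
    rw [hD, h, hC]
    split_ifs with hn <;> simp [hn]
  · rintro ⟨f, rfl⟩
    simp [hD]
  · have hg : g.coeff (-1) = 0 := h
    refine ⟨HahnSeries.ofSuppBddBelow (fun n => if n = 0 then 0 else g.coeff (n - 1) / (n : k)) ?_, ?_⟩
    · refine ⟨g.order, fun n hn => ?_⟩
      by_contra hlt
      refine hn ?_
      show (if n = 0 then 0 else g.coeff (n - 1) / (n : k)) = 0
      split_ifs with h0
      · rfl
      · rw [HahnSeries.coeff_eq_zero_of_lt_order (show n - 1 < g.order by omega), zero_div]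
    · ext n
      rw [hD, HahnSeries.ofSuppBddBelow_coeff, zsmul_eq_mul]
      split_ifs with h0
      · rw [mul_zero, show n = -1 by omega, hg]
      · rw [add_sub_cancel_right, mul_div_cancel₀]
        exact Int.cast_ne_zero.2 h0

end Groth.Agent.S18617
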