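import Groth.Statements.S18618
import Groth.Agent.L03.BlowAcyc.PointsHom
-- import your own Groth.Agent.* helpers here

set_option autoImplicit false
universe u
open VBPn

namespace Groth.Agent.S18618

open CategoryTheory CategoryTheory.Limits AlgebraicGeometry TopologicalSpace in
/-- Let k be an algebraically closed field of characteristic zero, n ≥ 2, Z = {p_1, …, p_s} a finite set
of distinct closed points of P^n_k, and π : X → P^n_k a blow-up of P^n_k in the ideal of the reduced
set Z (universal property); write O_X(−e₀) = π^*O(−1) and O_X(−2e₀) = π^*O(−2). Let f : P → Q be a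
monomorphism of O_X-modules with P ≅ O_X(−2e₀)^a and Q ≅ O_X(−e₀)^b, whose cokernel E is finite
locally free of rank b − a. Assume the stabiliser of f under Aut(Q) × Aut(P) is the scalars:
whenever automorphisms β of Q and γ of P satisfy γ ≫ f = f ≫ β, there is one scalar c ∈ k with β and
γ both equal to multiplication by c. Then E is simple: every endomorphism of E is multiplication by
a scalar of k. (The published statement fixes a and b in terms of n and the rank and takes f
general, a general matrix of linear forms of that size having scalar stabiliser by a result it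
quotes; here that property of f is the hypothesis and a, b are arbitrary.) -/
theorem result (k : Type u) [Field k] [IsAlgClosed k] [CharZero k]
    (n : ℕ) (hn : 2 ≤ n) (s : ℕ) (P : Fin s → ↥(CohB1.ProjSpace n k)) (hP : Function.Injective P)
    (hPc : ∀ i, IsClosed ({P i} : Set ↥(CohB1.ProjSpace n k))) (hZ : IsClosed (Set.range P))
    (X : Scheme.{u}) (π : X ⟶ CohB1.ProjSpace n k)
    (hπ : BlowUp.IsBlowUp π (Scheme.IdealSheafData.vanishingIdeal ⟨Set.range P, hZ⟩))
    (a b : ℕ) (P₁ Q₁ : X.Modules)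
    (hP₁ : Nonempty (P₁ ≅ ∐ fun _ : Fin a => (Scheme.Modules.pullback π).obj (Twist.twistProjSpace n k (-2))))
    (hQ₁ : Nonempty (Q₁ ≅ ∐ fun _ : Fin b => (Scheme.Modules.pullback π).obj (Twist.twistProjSpace n k (-1))))
    (f : P₁ ⟶ Q₁) [Mono f] (hE : FlatMod.IsFinLocFreeOfRank (b - a) (cokernel f))
    (hstab : ∀ (β : Q₁ ≅ Q₁) (γ : P₁ ≅ P₁), γ.hom ≫ f = f ≫ β.hom →
      ∃ c : k, (SheafOfModules.toSheaf X.ringCatSheaf).map β.hom =
          Coh.smulAb Q₁ (Coh.toGlobal (π ≫ CohB1.ProjSpace.toSpec n k) c) ∧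
        (SheafOfModules.toSheaf X.ringCatSheaf).map γ.hom =
          Coh.smulAb P₁ (Coh.toGlobal (π ≫ CohB1.ProjSpace.toSpec n k) c)) :
    ∀ φ : cokernel f ⟶ cokernel f, ∃ c : k, (SheafOfModules.toSheaf X.ringCatSheaf).map φ =
      Coh.smulAb (cokernel f) (Coh.toGlobal (π ≫ CohB1.ProjSpace.toSpec n k) c) := by
  obtain ⟨m, rfl⟩ : ∃ m, n = m + 1 := ⟨n - 1, by omega⟩
  obtain ⟨eP⟩ := hP₁; obtain ⟨eQ⟩ := hQ₁
  haveI := Groth.L00.Tensor.grothendieckAbelian_modules X
  haveI : HasExt.{u} X.Modules := inferInstance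
  have hext := Groth.L03.BlowAcyc.subsingleton_ext hP hPc hZ hπ (by omega) b a (-1) (-2) eP eQ
  letI : X.Over (Spec (CommRingCat.of k)) := ⟨π ≫ CohB1.ProjSpace.toSpec (m + 1) k⟩
  have hk : Function.Bijective (Coh.toGlobal (X ↘ Spec (CommRingCat.of k))) :=
    Groth.L03.BlowAcyc.toGlobal_bijective hP hPc hZ hπ
  have hfin : ∀ (c : ℤ) (N : ℕ) (A : X.Modules),
      (A ≅ ∐ fun _ : Fin N => Groth.L03.BlowAcyc.pO π c) → Module.Finite k (A ⟶ A) := fun c N A e => by
    haveI := Groth.L03.VBPn.CokerSimple.finite_end_invertible hk (Groth.L03.BlowAcyc.nonempty_pO_inv π c).some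
    haveI := Groth.L03.VBPn.CokerSimple.finite_hom_sigma (k := k) (N := N) (N' := N)
      (L := Groth.L03.BlowAcyc.pO π c) (M := Groth.L03.BlowAcyc.pO π c)
    exact Groth.L03.VBPn.CokerSimple.finite_hom_of_iso e.symm e.symm
  haveI := hfin _ _ _ eP
  haveI := hfin _ _ _ eQ
  intro φ
  obtain ⟨c, rfl⟩ := Groth.L03.VBPn.CokerSimple.exists_smul (k := k) f hext (fun β γ h => by
    obtain ⟨c, h1, -⟩ := hstab β γ h
    exact ⟨c, (SheafOfModules.toSheaf X.ringCatSheaf).map_injective
      (h1.trans (Groth.L03.VBPn.toSheaf_map_smul_id Q₁ c).symm)⟩) φ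
  exact ⟨c, Groth.L03.VBPn.toSheaf_map_smul_id _ c⟩

end Groth.Agent.S18618
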