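
import Groth.Statements.S1862
import Groth.Agent.L22.Cyc.PushPull

set_option autoImplicit false
universe u
open CategoryTheory AlgebraicGeometry
open Cyc

namespace Groth.Agent.S1862

/-- Let f : X → Y be a morphism locally of finite type of integral schemes with δX(η_X) = δY(η_Y). Then
either the image of f is not dense, or f maps the generic point to the generic point and the induced
extension of residue fields there (the function fields) is finite. Here a pair (X, δ) with
Cyc.IsSetup plays the role of a scheme locally of finite type over a fixed base with a dimension
function (X locally Noetherian with universally catenary local rings, δ a dimension function), and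
Cyc.DeltaCompat records that the dimension function upstairs is the induced one. -/
theorem result (X Y : Scheme.{u}) [IsIntegral X] [IsIntegral Y] (δX : X → ℤ) (δY : Y → ℤ) (hX : Cyc.IsSetup X δX) (hY : Cyc.IsSetup Y δY) (f : X ⟶ Y) [LocallyOfFiniteType f] (hδ : Cyc.DeltaCompat f δX δY) (heq : δX (genericPoint X) = δY (genericPoint Y)) : ¬ Dense (Set.range f) ∨ (f (genericPoint X) = genericPoint Y ∧ (f.residueFieldMap (genericPoint X)).hom.Finite) := by
  by_cases hd : Dense (Set.range f)
  · refine Or.inr ?_
    have hX' : ∀ x : X, genericPoint X ⤳ x := fun x => (genericPoint_spec X).specializes trivial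
    have hcl : closure (Set.range f) ⊆ closure {f (genericPoint X)} :=
      closure_minimal (Set.range_subset_iff.2 fun x => ((hX' x).map f.continuous).mem_closure)
        isClosed_closure
    rw [hd.closure_eq] at hcl
    have hη : f (genericPoint X) = genericPoint Y :=
      ((specializes_iff_mem_closure.2 (hcl (Set.mem_univ (genericPoint Y)))).antisymm
        ((genericPoint_spec Y).specializes trivial)).eq
    refine ⟨hη, ?_⟩
    obtain ⟨n, hn, h1⟩ := hδ (genericPoint X)
    rw [hη, heq] at h1
    have hn0 : n = 0 := by omega
    subst hn0
    letI := (f.residueFieldMap (genericPoint X)).hom.toAlgebra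
    have h2 := (Groth.L22.Cyc.rtrdeg_eq_zero_iff f (genericPoint X)).1 (by
      show Algebra.trdeg _ _ = 0
      rw [hn]; simp)
    exact RingHom.finite_algebraMap.2 (Module.finite_of_finrank_pos (Nat.pos_of_ne_zero h2))
  · exact Or.inl hd

end Groth.Agent.S1862
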