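import Groth.Statements.S18623
import Groth.Agent.L03.BlowAcyc.JetH1
-- import your own Groth.Agent.* helpers here

set_option autoImplicit false
universe u
open VBPn

namespace Groth.Agent.S18623

open TopologicalSpace CategoryTheory CategoryTheory.Limits AlgebraicGeometry

open CategoryTheory CategoryTheory.Limits AlgebraicGeometry TopologicalSpace in
/-- For one blown-up point; let k be an algebraically closed field of characteristic zero, n ≥ 3, p a
closed point of P^n_k and π : X → P^n_k a blow-up of P^n_k in the ideal of p (universal property),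
with exceptional divisor e₁ whose ideal sheaf is the inverse image ideal, and O_X(e₀) = π^*O(1); put
O_X(c e₀ − d e₁) = π^*O(c) ⊗ (ideal of e₁)^{⊗ d} for c ∈ ℤ, d ≥ 0. If d = 0, or if 0 < d ≤ c, then
H^1(X, O_X(c e₀ − d e₁)) = 0. (The published statement also covers no point blown up, where it is
the vanishing of H^1(P^n, O(c)).) -/
theorem result (k : Type u) [Field k] [IsAlgClosed k] [CharZero k]
    (n : ℕ) (hn : 3 ≤ n) (p : ↥(CohB1.ProjSpace n k)) (hp : IsClosed ({p} : Set ↥(CohB1.ProjSpace n k)))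
    (X : Scheme.{u}) (π : X ⟶ CohB1.ProjSpace n k)
    (hπ : BlowUp.IsBlowUp π (Scheme.IdealSheafData.vanishingIdeal ⟨{p}, hp⟩))
    (c : ℤ) (d : ℕ) (hcd : d = 0 ∨ (0 < d ∧ (d : ℤ) ≤ c)) :
    Subsingleton (Coh.HH X (CohB1.tensorMod ((Scheme.Modules.pullback π).obj (Twist.twistProjSpace n k c))
      (CohB1.tensorPow (ClSub.idealMod (BlowUp.exceptional π (Scheme.IdealSheafData.vanishingIdeal ⟨{p}, hp⟩))) d)) 1) := by
  obtain ⟨m, rfl⟩ : ∃ m, n = m + 1 := ⟨n - 1, by omega⟩
  rcases Int.lt_or_le c 0 with hc | hc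
  · obtain rfl : d = 0 := by omega
    have hr : (Set.range fun _ : Fin 1 => p) = {p} := Set.range_const
    have hZ : IsClosed (Set.range fun _ : Fin 1 => p) := hr ▸ hp
    have hπ' : BlowUp.IsBlowUp π (Scheme.IdealSheafData.vanishingIdeal ⟨Set.range fun _ : Fin 1 => p, hZ⟩) := by
      rw [show (⟨Set.range fun _ : Fin 1 => p, hZ⟩ : Closeds ↥(CohB1.ProjSpace (m + 1) k)) = ⟨{p}, hp⟩ from
        Closeds.ext hr]
      exact hπ
    obtain ⟨D, -, hbase⟩ := Groth.L03.BlowAcyc.exists_setup (fun a b _ => Subsingleton.elim a b)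
      (fun _ => hp) hZ hπ' c
    exact Groth.L14.LocHilbLift.subsingleton_HH_of_iso (Groth.L00.Tensor.tensorUnitRight _).symm _
      (hbase 1 (Groth.L16.ProjSpace.subsingleton_HH_twist (m + 1) k c 1 (by omega) (by omega)))
  · obtain ⟨c', rfl⟩ := Int.eq_ofNat_of_zero_le hc
    exact Groth.L03.BlowAcyc.subsingleton_H1_point (by omega) hp hπ c' d (by omega)

end Groth.Agent.S18623
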