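import Groth.Statements.S18624
import Groth.Agent.L03.BlowAcyc.MultSurj
import Groth.Agent.L08.Cube.Inverse
-- import your own Groth.Agent.* helpers here

set_option autoImplicit false
universe u
open VBPn

namespace Groth.Agent.S18624

open CategoryTheory CategoryTheory.Limits AlgebraicGeometry TopologicalSpace in
/-- The bundles are arithmetically Cohen–Macaulay: let k be an algebraically closed field of
characteristic zero, n ≥ 3, Z a set of s ≤ 1 closed points of P^n_k and π : X → P^n_k a blow-up of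
P^n_k in the ideal of the reduced set Z (universal property; for s = 0 this is P^n_k itself). Write
O_X(e₀) = π^*O(1), let I_E be the exceptional ideal (inverse image ideal of Z), and let H be the
anticanonical module, H ≅ π^*O(n+1) ⊗ I_E^{⊗(n−1)}, with a tensor inverse H′. Let g : Q → P be an
epimorphism of O_X-modules with Q ≅ O_X(e₀)^b and P ≅ O_X(2e₀)^a (a matrix of linear forms) whose
induced map on global sections H^0(X, Q) → H^0(X, P) is surjective, and let G = ker g. Then G has no
intermediate cohomology with respect to H: for 1 ≤ i ≤ n − 1 and every t ≥ 0, H^i(X, G ⊗ H^{⊗t}) = 0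
and H^i(X, G ⊗ H′^{⊗t}) = 0. (The published statement asserts this for the dual bundle E = G^∨ and
for a, b of a particular shape; since X is smooth and proper with canonical module H′ and G is
locally free, Serre duality exchanges the two families of vanishings, and the argument uses nothing
about a, b beyond the displayed presentation and the surjectivity on global sections.) -/
theorem result (k : Type u) [Field k] [IsAlgClosed k] [CharZero k]
    (n : ℕ) (hn : 3 ≤ n) (s : ℕ) (P : Fin s → ↥(CohB1.ProjSpace n k)) (hP : Function.Injective P)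
    (hPc : ∀ i, IsClosed ({P i} : Set ↥(CohB1.ProjSpace n k))) (hZ : IsClosed (Set.range P))
    (X : Scheme.{u}) (π : X ⟶ CohB1.ProjSpace n k)
    (hπ : BlowUp.IsBlowUp π (Scheme.IdealSheafData.vanishingIdeal ⟨Set.range P, hZ⟩)) (hs : s ≤ 1)
    (a b : ℕ) (Q₂ P₂ : X.Modules)
    (hQ₂ : Nonempty (Q₂ ≅ ∐ fun _ : Fin b => (Scheme.Modules.pullback π).obj (Twist.twistProjSpace n k 1)))
    (hP₂ : Nonempty (P₂ ≅ ∐ fun _ : Fin a => (Scheme.Modules.pullback π).obj (Twist.twistProjSpace n k 2)))
    (g : Q₂ ⟶ P₂) [Epi g]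
    (hg0 : Function.Surjective (Sheaf.H.map ((SheafOfModules.toSheaf X.ringCatSheaf).map g) 0))
    (Hm Hi : X.Modules)
    (hHm : Nonempty (Hm ≅ CohB1.tensorMod ((Scheme.Modules.pullback π).obj (Twist.twistProjSpace n k ((n : ℤ) + 1)))
      (CohB1.tensorPow (ClSub.idealMod (BlowUp.exceptional π (Scheme.IdealSheafData.vanishingIdeal ⟨Set.range P, hZ⟩))) (n - 1))))
    (hHi : ClSub.IsInverseOf Hi Hm) (i t : ℕ) (hi : 1 ≤ i) (hin : i + 1 ≤ n) :
    Subsingleton (Coh.HH X (CohB1.tensorMod (kernel g) (CohB1.tensorPow Hm t)) i) ∧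
      Subsingleton (Coh.HH X (CohB1.tensorMod (kernel g) (CohB1.tensorPow Hi t)) i) := by
  obtain ⟨m, rfl⟩ : ∃ m, n = m + 1 := ⟨n - 1, by omega⟩
  obtain ⟨eH⟩ := hHm
  obtain ⟨eQ⟩ := hQ₂; obtain ⟨eP⟩ := hP₂
  have hm : (m + 1 - 1 : ℕ) = m := by omega
  let I := ClSub.idealMod (BlowUp.exceptional π (Scheme.IdealSheafData.vanishingIdeal ⟨Set.range P, hZ⟩))
  have hIi : PicF.IsInvertible I := (Groth.Agent.L19.IdealInvertible.isEffCartier_iff _).2 hπ.1
  obtain ⟨J', hJi, ⟨cJ⟩⟩ := Groth.L08.Cube.exists_inverse hIi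
  have hJ : ClSub.IsInverseOf J' I := ⟨Groth.L00.Tensor.tensorComm _ _ ≪≫ cJ⟩
  have hS : (ShortComplex.mk (kernel.ι g) g (kernel.condition g)).ShortExact :=
    { exact := ShortComplex.exact_kernel g }
  have key : ∀ T : X.Modules, PicF.IsInvertible T → Subsingleton (Coh.HH X (CohB1.tensorMod Q₂ T) i) →
      (∀ r, i = r + 1 → Function.Surjective
        (Groth.L16.CohLinear.hmap ((Groth.L00.Tensor.tensorRightF T).map g) r)) →
      Subsingleton (Coh.HH X (CohB1.tensorMod (kernel g) T) i) := fun T hT hQ hsurj => by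
    obtain ⟨r, rfl⟩ : ∃ r, i = r + 1 := ⟨i - 1, by omega⟩
    have hST := Groth.L03.Euler.shortExact_tensor hT hS
    refine subsingleton_of_forall_eq 0 fun z => ?_
    obtain ⟨w, rfl⟩ := (Groth.L16.CohLinear.exact_delta_hmap hST r z).1 (hQ.elim _ _)
    obtain ⟨v, rfl⟩ := hsurj r rfl w
    exact (Groth.L16.CohLinear.exact_hmap_delta hST r _).2 ⟨v, rfl⟩
  have hsum : ∀ {N : ℕ} {M : X.Modules} (c : ℤ) (e : ℤ) (B T : X.Modules) (q : ℕ),
      (M ≅ ∐ fun _ : Fin N => Groth.L03.BlowAcyc.pO π c) →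
      (T ≅ CohB1.tensorMod (Groth.L03.BlowAcyc.pO π e) B) →
      Subsingleton (Coh.HH X (CohB1.tensorMod (Groth.L03.BlowAcyc.pO π (c + e)) B) q) →
      Subsingleton (Coh.HH X (CohB1.tensorMod M T) q) := fun {N M} c e B T q eM eT h =>
    Groth.L03.BlowAcyc.subsingleton_sum_tensor eM q (Groth.L14.LocHilbLift.subsingleton_HH_of_iso
      (Groth.L00.Tensor.tensorIso (Iso.refl _) eT ≪≫ (Groth.L00.Tensor.tensorAssoc _ _ _).symm ≪≫
        Groth.L00.Tensor.tensorIso (Groth.L03.BlowAcyc.nonempty_pO_add π c e).some (Iso.refl B)).symm q h)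
  obtain ⟨et⟩ := Groth.L03.BlowAcyc.nonempty_pow_twist π (((m + 1 : ℕ) : ℤ) + 1) I (m + 1 - 1) t
  let eT := Groth.L00.Tensor.tensorPowIso eH t ≪≫ et
  have hTi : ∀ (c : ℤ) (B : X.Modules), PicF.IsInvertible B →
      PicF.IsInvertible (CohB1.tensorMod (Groth.L03.BlowAcyc.pO π c) B) := fun c B hB =>
    Groth.L18.GenLoc.isInvertible_tensor
      (Groth.L18.Ample.isInvertible_pullback π (Groth.L16.ProjTwist.isInvertible_twistProjSpace (m + 1) k c)) hB
  have hpos : Subsingleton (Coh.HH X (CohB1.tensorMod (kernel g) (CohB1.tensorPow Hm t)) i) := by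
    refine key _ (Groth.L18.Ample.isInvertible_of_iso eT.symm (hTi _ _ (Groth.L18.Ample.isInvertible_tensorPow hIi _))) ?_ ?_
    · exact hsum 1 _ _ _ i eQ eT (Groth.L03.BlowAcyc.subsingleton_HH_twist_point hP hPc hZ hπ (by omega) hs _ _ i hi
        (by omega) (fun _ => by
          rcases Nat.eq_zero_or_pos t with rfl | ht
          · exact Or.inl (by simp)
          · right; rw [hm]; push_cast; nlinarith) (fun h => by omega))
    intro r hr
    rcases Nat.eq_zero_or_pos r with rfl | hr0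
    · refine Groth.L03.BlowAcyc.surj_iso g eT.symm ?_
      have hgr : ∀ u : ℕ, Groth.L03.BlowAcyc.Surj g (Groth.L03.BlowAcyc.pO π (u : ℤ)) :=
        Groth.L03.BlowAcyc.surj_hyperplane hP hPc hZ hπ eP g hg0
      obtain rfl | rfl : s = 0 ∨ s = 1 := by omega
      · have htop : BlowUp.exceptional π (Scheme.IdealSheafData.vanishingIdeal ⟨Set.range P, hZ⟩) = 1 := by
          rw [Scheme.IdealSheafData.one_eq_top]
          refine Groth.L22.Ideals.comap_eq_top _ π fun z hz => ?_
          have hz' : π z ∈ ((Scheme.IdealSheafData.vanishingIdeal ⟨Set.range P, hZ⟩).support :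
              Set ↥(CohB1.ProjSpace (m + 1) k)) := hz
          simp at hz'
        obtain ⟨o⟩ := Groth.L13.PointBlow.idealMod_one (X := X)
        refine Groth.L03.BlowAcyc.surj_iso g ?_ (hgr ((m + 2) * t))
        refine (Groth.L00.Tensor.tensorUnitRight _).symm ≪≫ Groth.L00.Tensor.tensorIso
          (eqToIso (by push_cast; congr 1; ring_nf)) (Groth.L00.Tensor.tensorPowUnit X _).symm ≪≫
          Groth.L00.Tensor.tensorIso (Iso.refl _) (Groth.L00.Tensor.tensorPowIso
            (o.symm ≪≫ eqToIso (by rw [← htop])) _)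
      · exact Groth.L03.BlowAcyc.surj_iso g (eqToIso (by
            rw [hm, show ((2 * t + m * t : ℕ) : ℤ) = (t : ℤ) * (((m + 1 : ℕ) : ℤ) + 1) by push_cast; ring]))
          (Groth.L03.BlowAcyc.surj_through_point hPc hZ hπ hJ (by omega) eP g (2 * t) (hgr (2 * t)) (m * t))
    · have := hsum 2 _ _ _ r eP eT (Groth.L03.BlowAcyc.subsingleton_HH_twist_point hP hPc hZ hπ (by omega) hs _ _ r
        hr0 (by omega) (fun _ => by
          rcases Nat.eq_zero_or_pos t with rfl | ht
          · exact Or.inl (by simp)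
          · right; rw [hm]; push_cast; nlinarith) (fun h => by omega))
      exact fun w => ⟨0, this.elim _ _⟩
  refine ⟨hpos, ?_⟩
  rcases Nat.eq_zero_or_pos t with rfl | ht
  · exact hpos
  obtain ⟨eV⟩ := Groth.L03.BlowAcyc.nonempty_negH π hJ (((m + 1 : ℕ) : ℤ) + 1) (m + 1 - 1) eH.symm hHi t
  refine key _ (Groth.L18.Ample.isInvertible_of_iso eV.symm (hTi _ _ (Groth.L18.Ample.isInvertible_tensorPow hJi _))) ?_ ?_
  · exact hsum 1 _ _ _ i eQ eV (Groth.L03.BlowAcyc.subsingleton_HH_twist_point_inv hP hPc hZ hπ (by omega) hs hJ _ _ i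
      (by push_cast; nlinarith) (Or.inr (by rw [hm]; push_cast; nlinarith)) (by omega))
  intro r hr
  have := hsum 2 _ _ _ r eP eV (Groth.L03.BlowAcyc.subsingleton_HH_twist_point_inv hP hPc hZ hπ (by omega) hs hJ _ _ r
    (by push_cast; nlinarith) (by
      rw [hm]
      rcases Nat.eq_or_lt_of_le ht with h1 | h1
      · exact Or.inl (le_of_eq (by rw [← h1]; ring))
      · right; push_cast; nlinarith) (by omega))
  exact fun w => ⟨0, this.elim _ _⟩

end Groth.Agent.S18624
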