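import Groth.Statements.S18625
import Groth.Agent.L03.VBPn.CokerSimple
import Groth.Agent.L03.ShStab.QuadricCoh
import Groth.Agent.L03.Euler.Basic
import Groth.Agent.L14.LocHilb.Lift.PushHom
import Groth.Agent.L08.Cube.SeesawH0
-- import your own Groth.Agent.* helpers here

set_option autoImplicit false
universe u
open VBPn

namespace Groth.Agent.S18625

open Groth.L03.ShStab.QuadricCoh

open CategoryTheory CategoryTheory.Limits AlgebraicGeometry TopologicalSpace in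
/-- Let k be an algebraically closed field of characteristic zero and X = P¹_k ×_k P¹_k the smooth
quadric surface, O(a, b) = pr₁^*O(a) ⊗ pr₂^*O(b). Let r ≥ 2 and let f : P → Q₁ ⊞ Q₂ be a
monomorphism of O_X-modules with P ≅ O(−1,−1)^r, Q₁ ≅ O(−1,0)^r and Q₂ ≅ O(0,−1)^r (a 2r × r matrix
of linear forms, the Q₁-block in the coordinates of one factor and the Q₂-block in those of the
other), whose cokernel E is finite locally free of rank r. Assume that the stabiliser of f in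
Aut(Q₁) × Aut(Q₂) × Aut(P) is the scalars: whenever automorphisms β₁ of Q₁, β₂ of Q₂ and γ of P
satisfy γ ≫ f = f ≫ (β₁ ⊕ β₂), there is one c ∈ k with β₁, β₂ and γ all multiplication by c. Then E
is simple: every endomorphism of E is multiplication by a scalar of k. (The published statement
takes f the transpose of a general matrix and obtains a scalar stabiliser for each of the two r × r
blocks separately from a result it quotes; for r ≥ 2 a square matrix of linear forms in two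
variables never has scalar stabiliser, so that block-wise property holds for no f, and the printed
argument needs only the property of f as a whole, which is the hypothesis here.) -/
theorem result (k : Type u) [Field k] [IsAlgClosed k] [CharZero k]
    (r : ℕ) (P₁ Q₁ Q₂ : (pullback (CohB1.ProjSpace.toSpec 1 k) (CohB1.ProjSpace.toSpec 1 k)).Modules)
    (hP₁ : Nonempty (P₁ ≅ ∐ fun _ : Fin r => CohB1.tensorMod
        ((Scheme.Modules.pullback (pullback.fst (CohB1.ProjSpace.toSpec 1 k) (CohB1.ProjSpace.toSpec 1 k))).obj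
          (Twist.twistProjSpace 1 k (-1)))
        ((Scheme.Modules.pullback (pullback.snd (CohB1.ProjSpace.toSpec 1 k) (CohB1.ProjSpace.toSpec 1 k))).obj
          (Twist.twistProjSpace 1 k (-1)))))
    (hQ₁ : Nonempty (Q₁ ≅ ∐ fun _ : Fin r => CohB1.tensorMod
        ((Scheme.Modules.pullback (pullback.fst (CohB1.ProjSpace.toSpec 1 k) (CohB1.ProjSpace.toSpec 1 k))).obj
          (Twist.twistProjSpace 1 k (-1)))
        ((Scheme.Modules.pullback (pullback.snd (CohB1.ProjSpace.toSpec 1 k) (CohB1.ProjSpace.toSpec 1 k))).obj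
          (Twist.twistProjSpace 1 k (0)))))
    (hQ₂ : Nonempty (Q₂ ≅ ∐ fun _ : Fin r => CohB1.tensorMod
        ((Scheme.Modules.pullback (pullback.fst (CohB1.ProjSpace.toSpec 1 k) (CohB1.ProjSpace.toSpec 1 k))).obj
          (Twist.twistProjSpace 1 k (0)))
        ((Scheme.Modules.pullback (pullback.snd (CohB1.ProjSpace.toSpec 1 k) (CohB1.ProjSpace.toSpec 1 k))).obj
          (Twist.twistProjSpace 1 k (-1)))))
    (f : P₁ ⟶ Q₁ ⊞ Q₂) [Mono f] (hE : FlatMod.IsFinLocFreeOfRank r (cokernel f))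
    (hr : 2 ≤ r)
    (hstab : ∀ (β₁ : Q₁ ≅ Q₁) (β₂ : Q₂ ≅ Q₂) (γ : P₁ ≅ P₁), γ.hom ≫ f = f ≫ biprod.map β₁.hom β₂.hom →
      ∃ c : k, (SheafOfModules.toSheaf _).map β₁.hom = Coh.smulAb Q₁ (Coh.toGlobal (pullback.fst (CohB1.ProjSpace.toSpec 1 k) (CohB1.ProjSpace.toSpec 1 k) ≫ CohB1.ProjSpace.toSpec 1 k) c) ∧
        (SheafOfModules.toSheaf _).map β₂.hom = Coh.smulAb Q₂ (Coh.toGlobal (pullback.fst (CohB1.ProjSpace.toSpec 1 k) (CohB1.ProjSpace.toSpec 1 k) ≫ CohB1.ProjSpace.toSpec 1 k) c) ∧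
        (SheafOfModules.toSheaf _).map γ.hom = Coh.smulAb P₁ (Coh.toGlobal (pullback.fst (CohB1.ProjSpace.toSpec 1 k) (CohB1.ProjSpace.toSpec 1 k) ≫ CohB1.ProjSpace.toSpec 1 k) c)) :
    ∀ φ : cokernel f ⟶ cokernel f, ∃ c : k, (SheafOfModules.toSheaf _).map φ =
      Coh.smulAb (cokernel f) (Coh.toGlobal (pullback.fst (CohB1.ProjSpace.toSpec 1 k) (CohB1.ProjSpace.toSpec 1 k) ≫ CohB1.ProjSpace.toSpec 1 k) c) := by
  let q := pullback.fst (CohB1.ProjSpace.toSpec 1 k) (CohB1.ProjSpace.toSpec 1 k) ≫ CohB1.ProjSpace.toSpec 1 k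
  letI : (Qd k).Over (Spec (CommRingCat.of k)) := ⟨q⟩
  have hov : p₁ k ≫ CohB1.ProjSpace.toSpec 1 k = (Qd k ↘ Spec (CommRingCat.of k)) := rfl
  haveI := Groth.L00.Tensor.grothendieckAbelian_modules (Qd k)
  haveI : HasExt.{u} (Qd k).Modules := inferInstance
  obtain ⟨eP⟩ := hP₁; obtain ⟨e1⟩ := hQ₁; obtain ⟨e2⟩ := hQ₂
  change P₁ ≅ ∐ fun _ : Fin r => O2 k (-1) (-1) at eP
  change Q₁ ≅ ∐ fun _ : Fin r => O2 k (-1) 0 at e1
  change Q₂ ≅ ∐ fun _ : Fin r => O2 k 0 (-1) at e2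
  obtain ⟨u0⟩ := nonempty_O2_zero k
  have hk : Function.Bijective (Coh.toGlobal (Qd k ↘ Spec (CommRingCat.of k))) := by
    refine (Groth.L08.Cube.bijective_toGlobal_of_finrank (Qd k ↘ Spec (CommRingCat.of k)) ?_).2
    exact (Groth.L03.Euler.finrank_HH_of_iso (k := k) u0 0).symm.trans (by simpa using (finrank_H0_O2 k hov 0 0).2)
  have hinv : ∀ a b : ℤ, Nonempty (CohB1.tensorMod (O2 k a b) (O2 k (-a) (-b)) ≅ Coh.structureModule (Qd k)) :=
    fun a b => ⟨(nonempty_O2_add k (add_neg_cancel a) (add_neg_cancel b)).some ≪≫ u0⟩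
  have hvan : ∀ {A : (Qd k).Modules} (a b a' b' : ℤ) (i : ℕ), (A ≅ ∐ fun _ : Fin r => O2 k a b) →
      (∀ p t : ℕ, p + t = i → ¬ (NZ p (a + a') ∧ NZ t (b + b'))) →
      Subsingleton (Coh.HH (Qd k) (CohB1.tensorMod A (O2 k a' b')) i) := fun {A} a b a' b' i e h => by
    refine Groth.L14.LocHilbLift.subsingleton_HH_of_iso (Groth.L00.Tensor.tensorIso e.symm (Iso.refl _)) i ?_
    exact subsingleton_sigma_tensor _ _ i fun _ => Groth.L14.LocHilbLift.subsingleton_HH_of_iso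
      (nonempty_O2_add k rfl rfl).some.symm i (subsingleton_O2 k hov _ _ i h)
  have hhom : ∀ {A B : (Qd k).Modules} (a b a' b' : ℤ), (A ≅ ∐ fun _ : Fin r => O2 k a b) →
      (B ≅ ∐ fun _ : Fin r => O2 k a' b') → (a' + -a < 0 ∨ b' + -b < 0) → ∀ g : A ⟶ B, g = 0 := by
    intro A B a b a' b' eA eB h g
    have := Groth.L03.VBPn.CokerSimple.hom_sigma_eq_zero (Groth.L03.VBPn.CokerSimple.hom_eq_zero_of_twist
      (hinv a b).some (hvan a' b' (-a) (-b) 0 eB (fun p t hpt => by unfold NZ; omega))) (eA.inv ≫ g)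
    rw [← cancel_epi eA.inv, this, comp_zero]
  have hfin : ∀ {A : (Qd k).Modules} (a b : ℤ), (A ≅ ∐ fun _ : Fin r => O2 k a b) → Module.Finite k (A ⟶ A) :=
    fun {A} a b e => by
      haveI := Groth.L03.VBPn.CokerSimple.finite_end_invertible hk (hinv a b).some
      haveI := Groth.L03.VBPn.CokerSimple.finite_hom_sigma (k := k) (N := r) (N' := r) (L := O2 k a b) (M := O2 k a b)
      exact Groth.L03.VBPn.CokerSimple.finite_hom_of_iso e.symm e.symm
  haveI := hfin _ _ eP; haveI := hfin _ _ e1; haveI := hfin _ _ e2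
  have h12 : ∀ g : Q₁ ⟶ Q₂, g = 0 := hhom _ _ _ _ e1 e2 (by omega)
  have h21 : ∀ g : Q₂ ⟶ Q₁, g = 0 := hhom _ _ _ _ e2 e1 (by omega)
  have hdiag : ∀ g : Q₁ ⊞ Q₂ ⟶ Q₁ ⊞ Q₂,
      g = biprod.map (biprod.inl ≫ g ≫ biprod.fst) (biprod.inr ≫ g ≫ biprod.snd) := fun g => by
    apply biprod.hom_ext' <;> apply biprod.hom_ext <;> simp [h12 (biprod.inl ≫ g ≫ biprod.snd), h21 (biprod.inr ≫ g ≫ biprod.fst)]
  haveI : Module.Finite k (Q₁ ⊞ Q₂ ⟶ Q₁ ⊞ Q₂) := by
    let Φ : (Q₁ ⊞ Q₂ ⟶ Q₁ ⊞ Q₂) →ₗ[k] (Q₁ ⟶ Q₁) × (Q₂ ⟶ Q₂) :=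
      { toFun := fun g => (biprod.inl ≫ g ≫ biprod.fst, biprod.inr ≫ g ≫ biprod.snd)
        map_add' := fun g g' => by simp
        map_smul' := fun c g => by simp }
    refine Module.Finite.of_injective Φ fun g g' h => ?_
    have ha : biprod.inl ≫ g ≫ biprod.fst = biprod.inl ≫ g' ≫ biprod.fst := congrArg Prod.fst h
    have hb : biprod.inr ≫ g ≫ biprod.snd = biprod.inr ≫ g' ≫ biprod.snd := congrArg Prod.snd h
    rw [hdiag g, hdiag g', ha, hb]
  have hext : Subsingleton (CategoryTheory.Abelian.Ext (Q₁ ⊞ Q₂) P₁ 1) := by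
    have h1 : ∀ {A : (Qd k).Modules} (a b : ℤ), (A ≅ ∐ fun _ : Fin r => O2 k a b) →
        (∀ p t : ℕ, p + t = 1 → ¬ (NZ p (-1 + -a) ∧ NZ t (-1 + -b))) →
        Subsingleton (CategoryTheory.Abelian.Ext A P₁ 1) := fun {A} a b e h =>
      Groth.L03.VBPn.CokerSimple.ext_of_iso_left e 1
        (Groth.L03.VBPn.ext_sigma_subsingleton _ P₁ 1 fun _ =>
          Groth.L22.PDual.subsingleton_ext_of_twist (hinv a b).some 0 P₁ (hvan _ _ _ _ 1 eP h))
    refine subsingleton_of_forall_eq 0 fun x => ?_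
    rw [← CategoryTheory.Abelian.Ext.mk₀_id_comp x, ← biprod.total, CategoryTheory.Abelian.Ext.mk₀_add,
      CategoryTheory.Abelian.Ext.add_comp, ← CategoryTheory.Abelian.Ext.mk₀_comp_mk₀,
      ← CategoryTheory.Abelian.Ext.mk₀_comp_mk₀,
      CategoryTheory.Abelian.Ext.comp_assoc_of_second_deg_zero,
      CategoryTheory.Abelian.Ext.comp_assoc_of_second_deg_zero,
      @Subsingleton.elim _ (h1 _ _ e1 (fun p t hpt => by unfold NZ; omega))
        ((CategoryTheory.Abelian.Ext.mk₀ biprod.inl).comp x (zero_add 1)) 0,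
      @Subsingleton.elim _ (h1 _ _ e2 (fun p t hpt => by unfold NZ; omega))
        ((CategoryTheory.Abelian.Ext.mk₀ biprod.inr).comp x (zero_add 1)) 0]
    simp
  intro φ
  obtain ⟨c, rfl⟩ := Groth.L03.VBPn.CokerSimple.exists_smul (k := k) f hext (fun β γ h => by
    have hb : ∀ (g g' : Q₁ ⊞ Q₂ ⟶ Q₁ ⊞ Q₂), g ≫ g' = 𝟙 _ →
        (biprod.inl ≫ g ≫ biprod.fst) ≫ (biprod.inl ≫ g' ≫ biprod.fst) = 𝟙 _ ∧
        (biprod.inr ≫ g ≫ biprod.snd) ≫ (biprod.inr ≫ g' ≫ biprod.snd) = 𝟙 _ := fun g g' hg => by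
      constructor
      · have := congrArg (fun w => biprod.inl ≫ w ≫ biprod.fst) hg
        rw [hdiag g, hdiag g'] at this
        simpa using this
      · have := congrArg (fun w => biprod.inr ≫ w ≫ biprod.snd) hg
        rw [hdiag g, hdiag g'] at this
        simpa using this
    obtain ⟨c, h1, h2, -⟩ := hstab ⟨_, _, (hb _ _ β.hom_inv_id).1, (hb _ _ β.inv_hom_id).1⟩
      ⟨_, _, (hb _ _ β.hom_inv_id).2, (hb _ _ β.inv_hom_id).2⟩ γ (h.trans (congrArg (f ≫ ·) (hdiag β.hom)))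
    refine ⟨c, ?_⟩
    have a1 : biprod.inl ≫ β.hom ≫ biprod.fst = c • 𝟙 Q₁ := (SheafOfModules.toSheaf _).map_injective
      (h1.trans (Groth.L03.VBPn.toSheaf_map_smul_id Q₁ c).symm)
    have a2 : biprod.inr ≫ β.hom ≫ biprod.snd = c • 𝟙 Q₂ := (SheafOfModules.toSheaf _).map_injective
      (h2.trans (Groth.L03.VBPn.toSheaf_map_smul_id Q₂ c).symm)
    rw [hdiag β.hom, a1, a2]
    apply biprod.hom_ext' <;> simp) φ
  exact ⟨c, Groth.L03.VBPn.toSheaf_map_smul_id _ c⟩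

end Groth.Agent.S18625
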