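import Groth.Statements.S18627
import Groth.Agent.L03.ShStab.QuadricCoh
import Groth.Agent.L03.ShStab.GeneralSections

set_option autoImplicit false
universe u
open VBPn

namespace Groth.Agent.S18627

open Groth.L03.ShStab.QuadricCoh
open Groth.L22.Reg (O' subsingleton_of_exact subsingleton_iso subsingleton_biprod Generates)
open Groth.L16.CohLinear (hmap exact_hmap_hmap exact_hmap_delta exact_delta_hmap overLin)
open Groth.L00.Tensor (tensorIso tensorAssoc tensorRightF tensorUnitRight)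

open CategoryTheory CategoryTheory.Limits AlgebraicGeometry TopologicalSpace in
/-- Let k be an algebraically closed field of characteristic zero and X = P¹_k ×_k P¹_k the smooth
quadric surface, O(a, b) = pr₁^*O(a) ⊗ pr₂^*O(b), polarised by the anticanonical module H = O(2, 2)
(which embeds X in P⁸). Let r ≥ 2 and let m : Q₁ ⊞ Q₂ → P be an epimorphism of O_X-modules with Q₁ ≅
O(1,0)^r, Q₂ ≅ O(0,1)^r and P ≅ O(1,1)^r whose induced map H^0(X, Q₁ ⊞ Q₂) → H^0(X, P) is
surjective, and F = ker m (a vector bundle of rank r). Then H^0(X, F) = 0, H^1(X, F) = 0, H^2(X, F ⊗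
O(−2,−2)) = 0, and H^1(X, F ⊗ O(2t, 2t)) = 0 for every t ∈ ℤ. (The published statement says that
E(H) is an initialized Ulrich bundle for E = F^∨; by Serre duality on X, whose canonical module is
O(−2,−2), its vanishing part, that E has no intermediate cohomology in any twist by H, is equivalent
to the H^1-vanishings stated here, and its statement that E is initialized, H^0(X, E) = 0, to the
H^2-vanishing; the argument establishes the vanishings for F and for E symmetrically; the count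
h^0(E(H)) = 8r is not restated.) -/
theorem result (k : Type u) [Field k] [IsAlgClosed k] [CharZero k]
    (r : ℕ) (hr : 2 ≤ r) (Q₁ Q₂ P₂ : (pullback (CohB1.ProjSpace.toSpec 1 k) (CohB1.ProjSpace.toSpec 1 k)).Modules)
    (hQ₁ : Nonempty (Q₁ ≅ ∐ fun _ : Fin r => CohB1.tensorMod
        ((Scheme.Modules.pullback (pullback.fst (CohB1.ProjSpace.toSpec 1 k) (CohB1.ProjSpace.toSpec 1 k))).obj
          (Twist.twistProjSpace 1 k (1)))
        ((Scheme.Modules.pullback (pullback.snd (CohB1.ProjSpace.toSpec 1 k) (CohB1.ProjSpace.toSpec 1 k))).obj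
          (Twist.twistProjSpace 1 k (0)))))
    (hQ₂ : Nonempty (Q₂ ≅ ∐ fun _ : Fin r => CohB1.tensorMod
        ((Scheme.Modules.pullback (pullback.fst (CohB1.ProjSpace.toSpec 1 k) (CohB1.ProjSpace.toSpec 1 k))).obj
          (Twist.twistProjSpace 1 k (0)))
        ((Scheme.Modules.pullback (pullback.snd (CohB1.ProjSpace.toSpec 1 k) (CohB1.ProjSpace.toSpec 1 k))).obj
          (Twist.twistProjSpace 1 k (1)))))
    (hP₂ : Nonempty (P₂ ≅ ∐ fun _ : Fin r => CohB1.tensorMod
        ((Scheme.Modules.pullback (pullback.fst (CohB1.ProjSpace.toSpec 1 k) (CohB1.ProjSpace.toSpec 1 k))).obj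
          (Twist.twistProjSpace 1 k (1)))
        ((Scheme.Modules.pullback (pullback.snd (CohB1.ProjSpace.toSpec 1 k) (CohB1.ProjSpace.toSpec 1 k))).obj
          (Twist.twistProjSpace 1 k (1)))))
    (m : Q₁ ⊞ Q₂ ⟶ P₂) [Epi m]
    (hm0 : Function.Surjective (Sheaf.H.map ((SheafOfModules.toSheaf _).map m) 0)) :
    Subsingleton (Coh.HH _ (kernel m) 0) ∧ Subsingleton (Coh.HH _ (kernel m) 1) ∧
      Subsingleton (Coh.HH _ (CohB1.tensorMod (kernel m) (CohB1.tensorMod
        ((Scheme.Modules.pullback (pullback.fst (CohB1.ProjSpace.toSpec 1 k) (CohB1.ProjSpace.toSpec 1 k))).obj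
          (Twist.twistProjSpace 1 k (-2)))
        ((Scheme.Modules.pullback (pullback.snd (CohB1.ProjSpace.toSpec 1 k) (CohB1.ProjSpace.toSpec 1 k))).obj
          (Twist.twistProjSpace 1 k (-2))))) 2) ∧
      ∀ t : ℤ, Subsingleton (Coh.HH _ (CohB1.tensorMod (kernel m) (CohB1.tensorMod
        ((Scheme.Modules.pullback (pullback.fst (CohB1.ProjSpace.toSpec 1 k) (CohB1.ProjSpace.toSpec 1 k))).obj
          (Twist.twistProjSpace 1 k (2 * t)))
        ((Scheme.Modules.pullback (pullback.snd (CohB1.ProjSpace.toSpec 1 k) (CohB1.ProjSpace.toSpec 1 k))).obj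
          (Twist.twistProjSpace 1 k (2 * t))))) 1) := by
  letI : (Qd k).Over (Spec (CommRingCat.of k)) := ⟨p₁ k ≫ CohB1.ProjSpace.toSpec 1 k⟩
  have hov : p₁ k ≫ CohB1.ProjSpace.toSpec 1 k = (Qd k ↘ Spec (CommRingCat.of k)) := rfl
  obtain ⟨q₁⟩ := hQ₁
  obtain ⟨q₂⟩ := hQ₂
  obtain ⟨p⟩ := hP₂
  let S : ShortComplex (Qd k).Modules := ShortComplex.mk (kernel.ι m) m (kernel.condition m)
  have hS : S.ShortExact := { exact := ShortComplex.exact_kernel m }
  have hS' : ∀ a b : ℤ, (S.map (tensorRightF (O2 k a b))).ShortExact := fun a b =>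
    Groth.L03.Euler.shortExact_tensor (isInvertible_O2 k a b) hS
  let F : ℤ → ℤ → (Qd k).Modules := fun a b => (S.map (tensorRightF (O2 k a b))).X₁
  -- vanishing of the middle and right terms
  have hP : ∀ (a b : ℤ) (q : ℕ), (∀ x y : ℕ, x + y = q → ¬ (NZ x (a + 1) ∧ NZ y (b + 1))) →
      Subsingleton (Coh.HH (Qd k) (S.map (tensorRightF (O2 k a b))).X₃ q) := fun a b q h => by
    refine subsingleton_iso (tensorIso p (Iso.refl _)).symm q (subsingleton_sigma_tensor _ _ q fun j => ?_)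
    obtain ⟨e⟩ := nonempty_O2_add k (show (1 : ℤ) + a = a + 1 by omega) (show (1 : ℤ) + b = b + 1 by omega)
    exact subsingleton_iso e.symm q (subsingleton_O2 k hov _ _ q h)
  have hQ : ∀ (a b : ℤ) (q : ℕ), (∀ x y : ℕ, x + y = q → ¬ (NZ x (a + 1) ∧ NZ y b)) →
      (∀ x y : ℕ, x + y = q → ¬ (NZ x a ∧ NZ y (b + 1))) →
      Subsingleton (Coh.HH (Qd k) (S.map (tensorRightF (O2 k a b))).X₂ q) := fun a b q h h' => by
    haveI : PreservesColimits (tensorRightF (O2 k a b)) := Groth.L00.Tensor.preservesColimits_tensorRightF _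
    refine subsingleton_iso (Groth.L22.Reg.tensorBiprod (O2 k a b) Q₁ Q₂) q (subsingleton_biprod q ?_ ?_)
    · refine subsingleton_iso (tensorIso q₁ (Iso.refl _)).symm q (subsingleton_sigma_tensor _ _ q fun j => ?_)
      obtain ⟨e⟩ := nonempty_O2_add k (show (1 : ℤ) + a = a + 1 by omega) (show (0 : ℤ) + b = b by omega)
      exact subsingleton_iso e.symm q (subsingleton_O2 k hov _ _ q h)
    · refine subsingleton_iso (tensorIso q₂ (Iso.refl _)).symm q (subsingleton_sigma_tensor _ _ q fun j => ?_)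
      obtain ⟨e⟩ := nonempty_O2_add k (show (0 : ℤ) + a = a by omega) (show (1 : ℤ) + b = b + 1 by omega)
      exact subsingleton_iso e.symm q (subsingleton_O2 k hov _ _ q h')
  have h2 : ∀ (a b : ℤ), -2 ≤ a → -2 ≤ b → ∀ q, 2 ≤ q → Subsingleton (Coh.HH (Qd k) (F a b) q) := fun a b ha hb q hq => by
    obtain ⟨r, rfl⟩ : ∃ r, q = r + 1 := ⟨q - 1, by omega⟩
    exact subsingleton_of_exact (exact_delta_hmap (hS' a b) r)
      (hP a b r fun x y hxy ⟨h1, h2⟩ => by simp only [NZ] at h1 h2; omega)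
      (hQ a b (r + 1) (fun x y hxy ⟨h1, h2⟩ => by simp only [NZ] at h1 h2; omega)
        (fun x y hxy ⟨h1, h2⟩ => by simp only [NZ] at h1 h2; omega)) (map_zero _)
  have hq3 : ∀ (a b : ℤ) (q : ℕ), 3 ≤ q → (-2 ≤ a ∨ -2 ≤ b) → Subsingleton (Coh.HH (Qd k) (F a b) q) := fun a b q hq hab => by
    obtain ⟨r, rfl⟩ : ∃ r, q = r + 1 := ⟨q - 1, by omega⟩
    exact subsingleton_of_exact (exact_delta_hmap (hS' a b) r)
      (hP a b r fun x y hxy ⟨h1, h2⟩ => by simp only [NZ] at h1 h2; omega)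
      (hQ a b (r + 1) (fun x y hxy ⟨h1, h2⟩ => by simp only [NZ] at h1 h2; omega)
        (fun x y hxy ⟨h1, h2⟩ => by simp only [NZ] at h1 h2; omega)) (map_zero _)
  -- the untwisted kernel
  obtain ⟨e0⟩ := nonempty_O2_zero k
  let i0 : F 0 0 ≅ kernel m := tensorIso (Iso.refl _) e0 ≪≫ tensorUnitRight _
  have hQ1 : Subsingleton (Coh.HH (Qd k) (Q₁ ⊞ Q₂) 1) :=
    subsingleton_iso (tensorIso (Iso.refl _) e0 ≪≫ tensorUnitRight _) 1 (hQ 0 0 1
      (fun x y hxy ⟨h1, h2⟩ => by simp only [NZ] at h1 h2; omega)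
      (fun x y hxy ⟨h1, h2⟩ => by simp only [NZ] at h1 h2; omega))
  have hF1 : Subsingleton (Coh.HH (Qd k) (kernel m) 1) := by
    refine ⟨fun x y => ?_⟩
    suffices hz : ∀ z : Coh.HH (Qd k) (kernel m) 1, z = 0 by rw [hz x, hz y]
    intro z
    obtain ⟨w, hw⟩ := (exact_delta_hmap hS 0 z).1 (Subsingleton.elim _ _)
    obtain ⟨v, rfl⟩ := hm0 w
    rw [← hw]
    exact (exact_hmap_delta hS 0 _).2 ⟨v, rfl⟩
  have hF0 : Subsingleton (Coh.HH (Qd k) (kernel m) 0) := by
    haveI : ∀ a b : ℤ, Module.Finite k (Coh.HH (Qd k) (O2 k a b) 0) := fun a b => (finrank_H0_O2 k hov a b).1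
    let g := overLin k (hmap m 0)
    have hd : ∀ {M : (Qd k).Modules} {n : ℕ} {a b : ℤ} (e : M ≅ ∐ fun _ : Fin n => O2 k a b),
        Module.Finite k (Coh.HH (Qd k) M 0) ∧
        Module.finrank k (Coh.HH (Qd k) M 0) = n * ((a + 1).toNat * (b + 1).toNat) := fun {M n a b} e => by
      let E : Coh.HH (Qd k) M 0 ≃ₗ[k] Coh.HH (Qd k) (∐ fun _ : Fin n => O2 k a b) 0 :=
        LinearEquiv.ofLinear (overLin k (hmap e.hom 0)) (overLin k (hmap e.inv 0))
          (LinearMap.ext fun x => by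
            show hmap e.hom 0 (hmap e.inv 0 x) = x
            rw [← Groth.L16.CohLinear.hmap_comp, e.inv_hom_id]
            exact Groth.L16.CohLinear.hmap_id 0 x)
          (LinearMap.ext fun x => by
            show hmap e.inv 0 (hmap e.hom 0 x) = x
            rw [← Groth.L16.CohLinear.hmap_comp, e.hom_inv_id]
            exact Groth.L16.CohLinear.hmap_id 0 x)
      have hfr := finrank_sigma (k := k) (fun _ : Fin n => O2 k a b) 0
      simp only [(finrank_H0_O2 k hov a b).2, Finset.sum_const, Finset.card_univ, Fintype.card_fin, smul_eq_mul] at hfr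
      exact ⟨Module.Finite.equiv ((sigmaEquiv (k := k) (fun _ : Fin n => O2 k a b) 0).trans E.symm),
        E.finrank_eq.trans hfr⟩
    haveI := (hd q₁).1
    haveI := (hd q₂).1
    haveI := (hd p).1
    have e1 := (hd q₁).2
    have e2 := (hd q₂).2
    have e3 := (hd p).2
    have hb := finrank_biprod (k := k) Q₁ Q₂ 0
    have hinj : Function.Injective g := by
      have hfin : Module.finrank k (Coh.HH (Qd k) (Q₁ ⊞ Q₂) 0) = Module.finrank k (Coh.HH (Qd k) P₂ 0) := by
        rw [hb, e1, e2, e3]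
        simp only [show ((1 : ℤ) + 1).toNat = 2 from rfl, show ((0 : ℤ) + 1).toNat = 1 from rfl]
        omega
      haveI : Module.Finite k (Coh.HH (Qd k) (Q₁ ⊞ Q₂) 0) :=
        Module.finite_of_finrank_pos (by rw [hb, e1]; simp only [show ((1 : ℤ) + 1).toNat = 2 from rfl, show ((0 : ℤ) + 1).toNat = 1 from rfl]; omega)
      exact (LinearMap.injective_iff_surjective_of_finrank_eq_finrank hfin).2 hm0
    refine ⟨fun x y => ?_⟩
    have hmono : Function.Injective (hmap (kernel.ι m) 0) := Groth.L21.RR.injective_hmap_zero (kernel.ι m)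
    refine hmono (hinj ?_)
    show hmap m 0 (hmap (kernel.ι m) 0 x) = hmap m 0 (hmap (kernel.ι m) 0 y)
    have hz : ∀ x, hmap m 0 (hmap (kernel.ι m) 0 x) = 0 := fun x => by
      rw [← Groth.L16.CohLinear.hmap_comp, kernel.condition]
      exact Groth.L21.RR.hmap_zero ..
    exact (hz x).trans (hz y).symm
  -- propagation
  have h00 : Subsingleton (Coh.HH (Qd k) (F 0 0) 1) := subsingleton_iso i0.symm 1 hF1
  let L₁ := (Scheme.Modules.pullback (p₁ k)).obj (O' 1 k (-1))
  let L₂ := (Scheme.Modules.pullback (p₂ k)).obj (O' 1 k (-1))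
  obtain ⟨z⟩ := Groth.L22.Reg.nonempty_O_zero 1 k
  have hL₁ : ∀ j : ℕ, Nonempty (CohB1.tensorPow L₁ j ≅ O2 k (-(j : ℤ)) 0) := fun j => by
    obtain ⟨e⟩ := Groth.L22.Reg.nonempty_O_pow (n := 1) (R := k) j
    exact ⟨(Groth.L18.Ample.pullPow (p₁ k) _ j).symm ≪≫ (Scheme.Modules.pullback (p₁ k)).mapIso e ≪≫
      (tensorUnitRight _).symm ≪≫
      tensorIso (Iso.refl _) ((Scheme.Modules.pullback (p₂ k)).mapIso z ≪≫ Groth.L29.LocFree.pullbackUnitIso _).symm⟩
  have hL₂ : ∀ j : ℕ, Nonempty (CohB1.tensorPow L₂ j ≅ O2 k 0 (-(j : ℤ))) := fun j => by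
    obtain ⟨e⟩ := Groth.L22.Reg.nonempty_O_pow (n := 1) (R := k) j
    exact ⟨(Groth.L18.Ample.pullPow (p₂ k) _ j).symm ≪≫ (Scheme.Modules.pullback (p₂ k)).mapIso e ≪≫
      (Groth.L00.Tensor.tensorUnitLeft _).symm ≪≫
      tensorIso ((Scheme.Modules.pullback (p₁ k)).mapIso z ≪≫ Groth.L29.LocFree.pullbackUnitIso _).symm (Iso.refl _)⟩
  have hinv : ∀ g : Qd k ⟶ CohB1.ProjSpace 1 k, PicF.IsInvertible ((Scheme.Modules.pullback g).obj (O' 1 k (-1))) :=
    fun g => Groth.L18.Ample.isInvertible_pullback _ (Groth.L16.ProjTwist.isInvertible_twistProjSpace 1 k (-1))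
  have stepA : ∀ a b : ℤ, 0 ≤ a → 0 ≤ b → Subsingleton (Coh.HH (Qd k) (F a b) 1) →
      Subsingleton (Coh.HH (Qd k) (F (a + 1) b) 1) := fun a b ha hb h => by
    refine Groth.L22.Reg.subsingleton_of_twists (hinv (p₁ k))
      (generates_pullback (p₁ k) (Groth.L22.Reg.generates_sigmas (n := 1) (R := k))) fun j => ?_
    obtain ⟨e⟩ := hL₁ (j + 1)
    obtain ⟨e'⟩ := nonempty_O2_add k (show a + 1 + -((j + 1 : ℕ) : ℤ) = a - j by omega) (show b + 0 = b by omega)
    refine subsingleton_iso (tensorAssoc (kernel m) _ _ ≪≫ tensorIso (Iso.refl _) (tensorIso (Iso.refl _) e ≪≫ e')).symm _ ?_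
    rcases j with _ | _ | j
    · rw [show a - ((0 : ℕ) : ℤ) = a by simp]; exact h
    · exact h2 _ _ (by omega) (by omega) _ le_rfl
    · exact hq3 _ _ _ (by omega) (Or.inr (by omega))
  have stepB : ∀ a b : ℤ, 0 ≤ a → 0 ≤ b → Subsingleton (Coh.HH (Qd k) (F a b) 1) →
      Subsingleton (Coh.HH (Qd k) (F a (b + 1)) 1) := fun a b ha hb h => by
    refine Groth.L22.Reg.subsingleton_of_twists (hinv (p₂ k))
      (generates_pullback (p₂ k) (Groth.L22.Reg.generates_sigmas (n := 1) (R := k))) fun j => ?_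
    obtain ⟨e⟩ := hL₂ (j + 1)
    obtain ⟨e'⟩ := nonempty_O2_add k (show a + 0 = a by omega) (show b + 1 + -((j + 1 : ℕ) : ℤ) = b - j by omega)
    refine subsingleton_iso (tensorAssoc (kernel m) _ _ ≪≫ tensorIso (Iso.refl _) (tensorIso (Iso.refl _) e ≪≫ e')).symm _ ?_
    rcases j with _ | _ | j
    · rw [show b - ((0 : ℕ) : ℤ) = b by simp]; exact h
    · exact h2 _ _ (by omega) (by omega) _ le_rfl
    · exact hq3 _ _ _ (by omega) (Or.inl (by omega))
  have hnn : ∀ a b : ℕ, Subsingleton (Coh.HH (Qd k) (F a b) 1) := by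
    intro a b
    induction b with
    | zero =>
      induction a with
      | zero => exact h00
      | succ a ih => exact_mod_cast stepA a 0 (by omega) le_rfl ih
    | succ b ih => exact_mod_cast stepB a b (by omega) (by omega) ih
  refine ⟨hF0, hF1, h2 (-2) (-2) le_rfl le_rfl 2 le_rfl, fun t => ?_⟩
  rcases le_or_gt 0 t with ht | ht
  · obtain ⟨T, hT⟩ := Int.eq_ofNat_of_zero_le (show 0 ≤ 2 * t by omega)
    have := hnn T T
    rw [← hT] at this
    exact this
  · exact subsingleton_of_exact (exact_delta_hmap (hS' (2 * t) (2 * t)) 0)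
      (hP _ _ 0 fun x y hxy ⟨h1, h2⟩ => by simp only [NZ] at h1 h2; omega)
      (hQ _ _ 1 (fun x y hxy ⟨h1, h2⟩ => by simp only [NZ] at h1 h2; omega)
        (fun x y hxy ⟨h1, h2⟩ => by simp only [NZ] at h1 h2; omega)) (map_zero _)

end Groth.Agent.S18627
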