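import Groth.Statements.S18628
import Groth.Agent.L03.BlowAcyc.OnePoint
-- import your own Groth.Agent.* helpers here

set_option autoImplicit false
universe u
open VBPn

namespace Groth.Agent.S18628

open TopologicalSpace CategoryTheory CategoryTheory.Limits AlgebraicGeometry

open CategoryTheory CategoryTheory.Limits AlgebraicGeometry TopologicalSpace in
/-- Let k be an algebraically closed field of characteristic zero, n ≥ 3, Z a set of s ≤ 1 closed points
of P^n_k and π : X → P^n_k a blow-up of P^n_k in the ideal of the reduced set Z (universal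
property), with O_X(e₀) = π^*O(1), exceptional ideal I_E (inverse image ideal of Z) and
anticanonical module H ≅ π^*O(n+1) ⊗ I_E^{⊗(n−1)}. Let f : P → Q be a monomorphism of O_X-modules
with P ≅ O_X(−2e₀)^a and Q ≅ O_X(−e₀)^b, and E = coker f. Then H^i(X, E ⊗ H^{⊗t}) = 0 for every 1 ≤
i ≤ n − 1 and every t ≥ 0. (This is the part of the published statement 'E is arithmetically
Cohen–Macaulay' that concerns non-negative twists; it needs no genericity of f.) -/
theorem result (k : Type u) [Field k] [IsAlgClosed k] [CharZero k]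
    (n : ℕ) (hn : 3 ≤ n) (s : ℕ) (P : Fin s → ↥(CohB1.ProjSpace n k)) (hP : Function.Injective P)
    (hPc : ∀ i, IsClosed ({P i} : Set ↥(CohB1.ProjSpace n k))) (hZ : IsClosed (Set.range P))
    (X : Scheme.{u}) (π : X ⟶ CohB1.ProjSpace n k)
    (hπ : BlowUp.IsBlowUp π (Scheme.IdealSheafData.vanishingIdeal ⟨Set.range P, hZ⟩)) (hs : s ≤ 1)
    (a b : ℕ) (P₁ Q₁ : X.Modules)
    (hP₁ : Nonempty (P₁ ≅ ∐ fun _ : Fin a => (Scheme.Modules.pullback π).obj (Twist.twistProjSpace n k (-2))))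
    (hQ₁ : Nonempty (Q₁ ≅ ∐ fun _ : Fin b => (Scheme.Modules.pullback π).obj (Twist.twistProjSpace n k (-1))))
    (f : P₁ ⟶ Q₁) [Mono f] (Hm : X.Modules)
    (hHm : Nonempty (Hm ≅ CohB1.tensorMod ((Scheme.Modules.pullback π).obj (Twist.twistProjSpace n k ((n : ℤ) + 1)))
      (CohB1.tensorPow (ClSub.idealMod (BlowUp.exceptional π (Scheme.IdealSheafData.vanishingIdeal ⟨Set.range P, hZ⟩))) (n - 1))))
    (i t : ℕ) (hi : 1 ≤ i) (hin : i + 1 ≤ n) :
    Subsingleton (Coh.HH X (CohB1.tensorMod (cokernel f) (CohB1.tensorPow Hm t)) i) := by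
  obtain ⟨m, rfl⟩ : ∃ m, n = m + 1 := ⟨n - 1, by omega⟩
  obtain ⟨eP⟩ := hP₁; obtain ⟨eQ⟩ := hQ₁; obtain ⟨eH⟩ := hHm
  obtain ⟨et⟩ := Groth.L03.BlowAcyc.nonempty_pow_twist π (((m + 1 : ℕ) : ℤ) + 1)
    (ClSub.idealMod (BlowUp.exceptional π (Scheme.IdealSheafData.vanishingIdeal ⟨Set.range P, hZ⟩))) (m + 1 - 1) t
  let T := CohB1.tensorPow Hm t
  let eT := Groth.L00.Tensor.tensorPowIso eH t ≪≫ et
  have hP' := fun (c : ℤ) (q : ℕ) (hq : 1 ≤ q) (hq' : q ≤ m + 1)
      (h1 : q = 1 → (m + 1 - 1) * t = 0 ∨ (((m + 1 - 1) * t : ℕ) : ℤ) ≤ c + t * (((m + 1 : ℕ) : ℤ) + 1))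
      (htop : q = m + 1 → -((m : ℤ) + 1) ≤ c + t * (((m + 1 : ℕ) : ℤ) + 1)) =>
    Groth.L14.LocHilbLift.subsingleton_HH_of_iso
      (((Groth.L00.Tensor.tensorIso (Groth.L03.BlowAcyc.nonempty_pO_add π c _).some (Iso.refl _)).symm ≪≫
        Groth.L00.Tensor.tensorAssoc _ _ _ ≪≫ Groth.L00.Tensor.tensorIso (Iso.refl _) eT.symm)) q
      (Groth.L03.BlowAcyc.subsingleton_HH_twist_point hP hPc hZ hπ (by omega) hs _ _ q hq hq' h1 htop)
  have hm : (m + 1 - 1 : ℕ) = m := by omega
  have hQi : Subsingleton (Coh.HH X (CohB1.tensorMod Q₁ T) i) :=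
    Groth.L14.LocHilbLift.subsingleton_HH_of_iso (Groth.L00.Tensor.tensorIso eQ.symm (Iso.refl T)) i
      (Groth.L03.BlowAcyc.subsingleton_HH_sigma_tensor b i (hP' (-1) i hi (by omega) (fun _ => by
        rcases Nat.eq_zero_or_pos t with rfl | ht
        · exact Or.inl (by simp)
        · right; rw [hm]; push_cast; nlinarith) (fun _ => by omega)))
  have hPi : Subsingleton (Coh.HH X (CohB1.tensorMod P₁ T) (i + 1)) :=
    Groth.L14.LocHilbLift.subsingleton_HH_of_iso (Groth.L00.Tensor.tensorIso eP.symm (Iso.refl T)) (i + 1)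
      (Groth.L03.BlowAcyc.subsingleton_HH_sigma_tensor a (i + 1) (hP' (-2) (i + 1) (by omega) (by omega)
        (fun h => by omega) (fun _ => by push_cast; nlinarith)))
  have hS : (ShortComplex.mk f (cokernel.π f) (cokernel.condition f)).ShortExact :=
    { exact := ShortComplex.exact_cokernel f }
  have hTi : PicF.IsInvertible T := by
    refine Groth.L18.Ample.isInvertible_of_iso eT.symm (Groth.L18.GenLoc.isInvertible_tensor
      (Groth.L18.Ample.isInvertible_pullback π (Groth.L16.ProjTwist.isInvertible_twistProjSpace (m + 1) k _))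
      (Groth.L18.Ample.isInvertible_tensorPow ((Groth.Agent.L19.IdealInvertible.isEffCartier_iff _).2 hπ.1) _))
  have hST := Groth.L03.Euler.shortExact_tensor hTi hS
  refine subsingleton_of_forall_eq 0 fun z => ?_
  haveI := hQi
  obtain ⟨w, hw⟩ := (Groth.L16.CohLinear.exact_hmap_delta hST i z).1 (hPi.elim _ _)
  rw [← hw, show w = 0 from hQi.elim _ _]
  exact map_zero _

end Groth.Agent.S18628
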