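import Groth.Statements.S18629
import Groth.Agent.L03.VBPn.QuadricEpi
-- import your own Groth.Agent.* helpers here

set_option autoImplicit false
universe u
open VBPn

namespace Groth.Agent.S18629

open CategoryTheory CategoryTheory.Limits AlgebraicGeometry TopologicalSpace in
/-- Let k be an algebraically closed field of characteristic zero and X = P¹_k ×_k P¹_k the smooth
quadric surface, O(a, b) = pr₁^*O(a) ⊗ pr₂^*O(b). For every r ≥ 2 there is an epimorphism of
O_X-modules m : O(1,0)^r ⊕ O(0,1)^r → O(1,1)^r (an r × 2r matrix of linear forms) whose induced map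
on global sections is surjective. (The published statement says moreover that such m form a dense
open subset of the space of all matrices; only the existence is stated here. The published proof
exhibits explicit block matrices; its 3 × 6 block for r = 3 as published is surjective at every
point but not on global sections, while a 3 × 6 block of the same shape with both properties exists,
so the block-sum construction from the 2 × 4 and 3 × 6 blocks covers every r ≥ 2.) -/
theorem result (k : Type u) [Field k] [IsAlgClosed k] [CharZero k]
    (r : ℕ) (hr : 2 ≤ r) :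
    ∃ m : (∐ fun _ : Fin r => CohB1.tensorMod
        ((Scheme.Modules.pullback (pullback.fst (CohB1.ProjSpace.toSpec 1 k) (CohB1.ProjSpace.toSpec 1 k))).obj
          (Twist.twistProjSpace 1 k (1)))
        ((Scheme.Modules.pullback (pullback.snd (CohB1.ProjSpace.toSpec 1 k) (CohB1.ProjSpace.toSpec 1 k))).obj
          (Twist.twistProjSpace 1 k (0)))) ⊞ (∐ fun _ : Fin r => CohB1.tensorMod
        ((Scheme.Modules.pullback (pullback.fst (CohB1.ProjSpace.toSpec 1 k) (CohB1.ProjSpace.toSpec 1 k))).obj
          (Twist.twistProjSpace 1 k (0)))
        ((Scheme.Modules.pullback (pullback.snd (CohB1.ProjSpace.toSpec 1 k) (CohB1.ProjSpace.toSpec 1 k))).obj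
          (Twist.twistProjSpace 1 k (1)))) ⟶ (∐ fun _ : Fin r => CohB1.tensorMod
        ((Scheme.Modules.pullback (pullback.fst (CohB1.ProjSpace.toSpec 1 k) (CohB1.ProjSpace.toSpec 1 k))).obj
          (Twist.twistProjSpace 1 k (1)))
        ((Scheme.Modules.pullback (pullback.snd (CohB1.ProjSpace.toSpec 1 k) (CohB1.ProjSpace.toSpec 1 k))).obj
          (Twist.twistProjSpace 1 k (1)))),
      Epi m ∧ Function.Surjective (Sheaf.H.map ((SheafOfModules.toSheaf _).map m) 0) := by
  exact Groth.L03.VBPn.QuadricEpi.exists_matrix k r hr

end Groth.Agent.S18629
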