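import Groth.Statements.S18631
import Groth.Agent.L03.ShStab.SerreSurface
import Groth.Agent.L08.Cube.SmoothStalk
import Groth.Agent.L16.NegPow.Gen
-- import your own Groth.Agent.* helpers here

set_option autoImplicit false
universe u
open VBPn

namespace Groth.Agent.S18631

open CategoryTheory CategoryTheory.Limits AlgebraicGeometry TopologicalSpace in
/-- Let k be an algebraically closed field of characteristic zero and X ⊆ P³_k a smooth integral surface
of degree d ≥ 4: ι : X → P³_k a closed immersion over k whose ideal is that of one form F of degree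
d, X proper and smooth over k of dimension 2, polarised by the ample L = ι^*O(1); assume Pic X is
generated by O_X(1), i.e. every invertible O_X-module is isomorphic to ι^*O(n) for some integer n.
Let Z ⊆ X be a closed subscheme with finite support such that H⁰(X, I_Z ⊗ ι^*O(d−2)) = 0, and let 0
→ O_X → E → I_Z ⊗ ι^*O(d−1) → 0 be a short exact sequence of O_X-modules with E finite locally free
of rank 2. Then E is slope-stable (of dimension 2, with respect to L). (The published statement is
for the rank-2 Ulrich bundles on a general degree-d surface, 4 ≤ d ≤ 15, which come with such a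
presentation and vanishing; its argument uses about generality only that Pic X is generated by
O_X(1), and about E only the displayed data; it concludes through the quoted criterion that a rank-2
bundle on such an X is slope-stable once its normalised twist has no sections.) -/
theorem result (k : Type u) [Field k] [IsAlgClosed k] [CharZero k]
    (X : Scheme.{u}) [X.Over (Spec (CommRingCat.of k))] [AlgebraicGeometry.IsIntegral X]
    [IsProper (X ↘ (Spec (CommRingCat.of k)))] [Smooth (X ↘ (Spec (CommRingCat.of k)))]
    (hdim : topologicalKrullDim X = 2)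
    (ι : X ⟶ CohB1.ProjSpace 3 k) [IsClosedImmersion ι] (hιk : ι ≫ CohB1.ProjSpace.toSpec 3 k = X ↘ (Spec (CommRingCat.of k)))
    (hL : CohB1.IsAmple ((Scheme.Modules.pullback ι).obj (Twist.twistProjSpace 3 k (1))))
    (d : ℕ) (hd : 4 ≤ d) (F : LefPen.Form 3 k d) (hF : ι.ker = LefPen.hypIdeal F)
    (hPic : ∀ M : X.Modules, PicF.IsInvertible M → ∃ n : ℤ, Nonempty (M ≅ ((Scheme.Modules.pullback ι).obj (Twist.twistProjSpace 3 k (n)))))
    (Z : X.IdealSheafData) (hZfin : (Z.support : Set X).Finite)
    (hZ : Subsingleton (Coh.HH X (CohB1.tensorMod (ClSub.idealMod Z) ((Scheme.Modules.pullback ι).obj (Twist.twistProjSpace 3 k ((d : ℤ) - 2)))) 0))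
    (S : ShortComplex X.Modules) (hS : S.ShortExact)
    (h₁ : Nonempty (S.X₁ ≅ Coh.structureModule X))
    (h₃ : Nonempty (S.X₃ ≅ CohB1.tensorMod (ClSub.idealMod Z) ((Scheme.Modules.pullback ι).obj (Twist.twistProjSpace 3 k ((d : ℤ) - 1)))))
    (hE : FlatMod.IsFinLocFreeOfRank 2 S.X₂) :
    ShStab.IsMuStable k X ((Scheme.Modules.pullback ι).obj (Twist.twistProjSpace 3 k (1))) S.X₂ 2 := by
  obtain ⟨e₁⟩ := h₁
  obtain ⟨e₃⟩ := h₃
  have h2 : Coh.IsCoh S.X₂ := Groth.L16.NegPow.isCoh_of_isFinLocFree fun x => by
    obtain ⟨U, hU, e⟩ := hE x; exact ⟨U, 2, hU, e⟩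
  exact Groth.L03.ShStab.SerreSurface.isMuStable ι
    (fun x => Groth.L08.Cube.isRegularLocalRing_of_smooth (X ↘ Spec (CommRingCat.of k)) x)
    (le_refl 2) (by rw [hdim]; rfl) hL hPic d (by omega) Z hZfin hZ S hS e₁ e₃ h2 hE

end Groth.Agent.S18631
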