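import Groth.Statements.S18632
import Groth.Agent.L03.BlowAcyc.NegTwist
import Groth.Agent.L03.BlowAcyc.PointsHom
import Groth.Agent.L08.Cube.Inverse
-- import your own Groth.Agent.* helpers here

set_option autoImplicit false
universe u
open VBPn

namespace Groth.Agent.S18632

open CategoryTheory CategoryTheory.Limits AlgebraicGeometry TopologicalSpace in
/-- Let k be an algebraically closed field of characteristic zero, n ≥ 3, Z a set of s ≤ 1 closed points
of P^n_k and π : X → P^n_k a blow-up of P^n_k in the ideal of the reduced set Z (universal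
property), with exceptional ideal I_E (inverse image ideal of Z) and anticanonical module H ≅
π^*O(n+1) ⊗ I_E^{⊗(n−1)}, with a tensor inverse H′. Then H^i(X, H^{⊗t}) = 0 and H^i(X, H′^{⊗t}) = 0
for every 1 ≤ i ≤ n − 1 and every t ≥ 0: O_X has no intermediate cohomology in any anticanonical
twist. (The published statement is that X, embedded by the very ample H, is arithmetically
Cohen–Macaulay; the part asserting that the ideal of the embedded X has no H¹ in any twist is not
restated.) -/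
theorem result (k : Type u) [Field k] [IsAlgClosed k] [CharZero k]
    (n : ℕ) (hn : 3 ≤ n) (s : ℕ) (P : Fin s → ↥(CohB1.ProjSpace n k)) (hP : Function.Injective P)
    (hPc : ∀ i, IsClosed ({P i} : Set ↥(CohB1.ProjSpace n k))) (hZ : IsClosed (Set.range P))
    (X : Scheme.{u}) (π : X ⟶ CohB1.ProjSpace n k)
    (hπ : BlowUp.IsBlowUp π (Scheme.IdealSheafData.vanishingIdeal ⟨Set.range P, hZ⟩)) (hs : s ≤ 1)
    (Hm Hi : X.Modules)
    (hHm : Nonempty (Hm ≅ CohB1.tensorMod ((Scheme.Modules.pullback π).obj (Twist.twistProjSpace n k ((n : ℤ) + 1)))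
      (CohB1.tensorPow (ClSub.idealMod (BlowUp.exceptional π (Scheme.IdealSheafData.vanishingIdeal ⟨Set.range P, hZ⟩))) (n - 1))))
    (hHi : ClSub.IsInverseOf Hi Hm) (i t : ℕ) (hi : 1 ≤ i) (hin : i + 1 ≤ n) :
    Subsingleton (Coh.HH X (CohB1.tensorPow Hm t) i) ∧ Subsingleton (Coh.HH X (CohB1.tensorPow Hi t) i) := by
  obtain ⟨m, rfl⟩ : ∃ m, n = m + 1 := ⟨n - 1, by omega⟩
  obtain ⟨eH⟩ := hHm
  obtain ⟨eHi⟩ := hHi
  have hm : (m + 1 - 1 : ℕ) = m := by omega
  let I := ClSub.idealMod (BlowUp.exceptional π (Scheme.IdealSheafData.vanishingIdeal ⟨Set.range P, hZ⟩))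
  have hIi : PicF.IsInvertible I := (Groth.Agent.L19.IdealInvertible.isEffCartier_iff _).2 hπ.1
  obtain ⟨J', -, ⟨cJ⟩⟩ := Groth.L08.Cube.exists_inverse hIi
  have hJ : ClSub.IsInverseOf J' I := ⟨Groth.L00.Tensor.tensorComm _ _ ≪≫ cJ⟩
  obtain ⟨et⟩ := Groth.L03.BlowAcyc.nonempty_pow_twist π (((m + 1 : ℕ) : ℤ) + 1) I (m + 1 - 1) t
  refine ⟨?_, ?_⟩
  · exact Groth.L14.LocHilbLift.subsingleton_HH_of_iso ((Groth.L00.Tensor.tensorPowIso eH t ≪≫ et).symm) i
      (Groth.L03.BlowAcyc.subsingleton_HH_twist_point hP hPc hZ hπ (by omega) hs _ _ i hi (by omega)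
        (fun _ => by
          rcases Nat.eq_zero_or_pos t with rfl | ht
          · exact Or.inl (by simp)
          · right; rw [hm]; push_cast; nlinarith)
        (fun h => by omega))
  · rcases Nat.eq_zero_or_pos t with rfl | ht
    · obtain ⟨e0⟩ := Groth.L22.Reg.nonempty_O_zero (m + 1) k
      exact Groth.L14.LocHilbLift.subsingleton_HH_of_iso
        ((Scheme.Modules.pullback π).mapIso e0 ≪≫ Groth.L29.LocFree.pullbackUnitIso _) i
        (Groth.L03.BlowAcyc.subsingleton_HH_pO hP hPc hZ hπ 0 i (by omega) (by omega))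
    · obtain ⟨eV⟩ := Groth.L03.BlowAcyc.nonempty_negH π hJ (((m + 1 : ℕ) : ℤ) + 1) (m + 1 - 1) (eH.symm) ⟨eHi⟩ t
      refine Groth.L14.LocHilbLift.subsingleton_HH_of_iso eV.symm i
        (Groth.L03.BlowAcyc.subsingleton_HH_twist_point_inv hP hPc hZ hπ (by omega) hs hJ _ _ i
          (by push_cast; nlinarith) (Or.inr ?_) (by omega))
      rw [hm]; push_cast; nlinarith

end Groth.Agent.S18632
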