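import Groth.Statements.S18633
import Groth.Agent.L03.SurfDual.Duality
import Groth.Agent.L03.SurfAdj.Canonical
import Groth.Agent.L05.EulerDiv.Chain
import Groth.Agent.L05.InterPair.Curve
-- import your own Groth.Agent.* helpers here

set_option autoImplicit false
universe u
open CategoryTheory CategoryTheory.Limits AlgebraicGeometry TopologicalSpace
open Surf

namespace Groth.Agent.S18633

/-- Let k be an algebraically closed field of characteristic zero and X a strong del Pezzo surface over
k: an integral scheme, proper and smooth over k of dimension 2, with canonical module W (a second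
exterior power of Ω_{X/k}) and a tensor inverse D of W which is very ample relative to k — there is
a closed immersion ι : X → P^N_k over k with ι^*O(1) ≅ D. Assume H¹(X, O_X) = 0. Then H¹(X, D^{⊗m})
= 0 and H¹(X, W^{⊗m}) = 0 for every m ≥ 0; that is, H¹(X, O_X(m)) = 0 for all m ∈ ℤ in the
anticanonical embedding X ⊆ P^d. (The published statement is that the anticanonically embedded X is
arithmetically Cohen–Macaulay; its argument obtains H¹(X, O_X) = 0 from the rationality of del Pezzo
surfaces, quoted, and that vanishing is the hypothesis here; the part about H¹ of the twisted ideal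
sheaves of X is not restated.) -/
theorem result (k : Type u) [Field k] [IsAlgClosed k] [CharZero k] (X : Scheme.{u})
    [X.Over (Spec (CommRingCat.of k))] [IsIntegral X] [IsProper (X ↘ (Spec (CommRingCat.of k)))] [Smooth (X ↘ (Spec (CommRingCat.of k)))]
    (hdim : topologicalKrullDim X = 2)
    (W : X.Modules) (hW : ExtPow.IsExtPow 2 (Omega.sheaf (X ↘ (Spec (CommRingCat.of k)))) W)
    (D : X.Modules) (hD : ClSub.IsInverseOf D W)
    (hva : ∃ (N : ℕ) (ι : X ⟶ CohB1.ProjSpace N k), IsClosedImmersion ι ∧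
      ι ≫ CohB1.ProjSpace.toSpec N k = X ↘ (Spec (CommRingCat.of k)) ∧
      Nonempty ((Scheme.Modules.pullback ι).obj (Twist.twistProjSpace N k 1) ≅ D))
    (hq : Subsingleton (Coh.HH X (Coh.structureModule X) 1)) (m : ℕ) :
    Subsingleton (Coh.HH X (CohB1.tensorPow D m) 1) ∧ Subsingleton (Coh.HH X (CohB1.tensorPow W m) 1) := by
  classical
  haveI := Groth.L21.RR.isNoetherian_of_proper (X := X) k
  obtain ⟨N, ι, hι, hιk, ⟨eD⟩⟩ := hva
  haveI := hι
  obtain ⟨eDW⟩ := hD
  have hd2 : topologicalKrullDim X = (2 : ℕ) := hdim.trans Nat.cast_ofNat.symm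
  have hreg : ∀ x : X, IsRegularLocalRing (X.presheaf.stalk x) := fun x =>
    Groth.L08.Cube.isRegularLocalRing_of_smooth (X ↘ Spec (CommRingCat.of k)) x
  obtain ⟨ω, hω, hflip, hflip0, hRR⟩ := Groth.L03.SurfDual.exists_canonical (k := k) hdim hreg ⟨N, ι, hι, hιk⟩
  obtain ⟨eω⟩ := Groth.L03.SurfAdj.exists_canonical_iso k hd2 hreg hW hω hflip hflip0 hRR
  have hWi : PicF.IsInvertible W := Groth.L18.Ample.isInvertible_of_iso eω hω
  have hDi : PicF.IsInvertible D := Groth.L18.Ample.isInvertible_of_iso eD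
    (Groth.L18.Ample.isInvertible_pullback ι (Groth.L16.ProjTwist.isInvertible_twistProjSpace N k 1))
  have hfin : ∀ M : X.Modules, PicF.IsInvertible M → Module.Finite k (Coh.HH X M 1) := fun M hM =>
    Groth.L16.ProperFinite.finite_HH k (Groth.L18.Ample.isCoh_of_isInvertible hM) 1
  have hiso : ∀ {A B : X.Modules}, (A ≅ B) → Subsingleton (Coh.HH X A 1) → Subsingleton (Coh.HH X B 1) :=
    fun e h => Groth.L22.Reg.subsingleton_iso e 1 h
  have hfr : ∀ M : X.Modules, PicF.IsInvertible M → Module.finrank k (Coh.HH X M 1) = 0 →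
      Subsingleton (Coh.HH X M 1) := fun M hM h => by
    haveI := hfin M hM
    exact Module.finrank_zero_iff.1 h
  have hW1 : Subsingleton (Coh.HH X W 1) := hiso eω (hfr ω hω (by
    rw [hflip0 1 (by omega)]
    haveI := hq
    exact Module.finrank_zero_of_subsingleton))
  obtain ⟨J, hJint, hJd, -, ⟨eJ⟩⟩ := Groth.L03.SurfAdj.exists_section k hd2 hreg ι hιk (H' := W)
    ⟨Groth.L00.Tensor.tensorIso eD (Iso.refl W) ≪≫ eDW⟩ hW1
  letI oC : J.subscheme.Over (Spec (CommRingCat.of k)) := ⟨J.subschemeι ≫ (X ↘ (Spec (CommRingCat.of k)))⟩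
  haveI : IsProper (J.subscheme ↘ Spec (CommRingCat.of k)) :=
    inferInstanceAs (IsProper (J.subschemeι ≫ (X ↘ Spec (CommRingCat.of k))))
  have hJd1 : topologicalKrullDim J.subscheme = 1 := hJd.trans Nat.cast_one
  let P := Scheme.Modules.pullback J.subschemeι
  have hP : ∀ {M : X.Modules}, PicF.IsInvertible M → PicF.IsInvertible (P.obj M) := fun h =>
    Groth.L18.Ample.isInvertible_pullback _ h
  have hA : CohB1.IsAmple (P.obj D) := Groth.L18.Ample.isAmple_pullback_of_isAffineHom J.subschemeι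
    (Groth.L18.Ample.isAmple_of_iso eD (Groth.L22.Big.proj_facts k hdim ι hιk).2)
  have hDpos : 0 < ArSurf.curveDeg k J.subscheme (P.obj D) := by
    have h := Groth.L22.Big.altT_ample_pos k hA hJd
    rw [← Groth.L05.InterPair.curveDeg_eq_altT k hJd1] at h
    exact_mod_cast h
  have hWneg : ArSurf.curveDeg k J.subscheme (P.obj W) < 0 := by
    have h := Groth.L05.InterPair.curveDeg_tensor k hJd1 (hP hDi) (hP hWi)
    rw [Groth.L05.InterPair.curveDeg_congr k hJd1 (Groth.L29.DC.PullTensor.pullTensor _ D W ≪≫ P.mapIso eDW ≪≫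
      Groth.L29.LocFree.pullbackUnitIso _), Groth.L05.InterPair.curveDeg_unit k hJd1] at h
    linarith
  have hpow : ∀ j : ℕ, ArSurf.curveDeg k J.subscheme (P.obj (CohB1.tensorPow W (j + 1))) < 0 := by
    intro j
    induction j with
    | zero => rwa [Groth.L05.InterPair.curveDeg_congr k hJd1 (P.mapIso (Groth.L00.Tensor.tensorPowOne W))]
    | succ j ih =>
      rw [show CohB1.tensorPow W (j + 1 + 1) = CohB1.tensorMod (CohB1.tensorPow W (j + 1)) W from rfl,
        ← Groth.L05.InterPair.curveDeg_congr k hJd1 (Groth.L29.DC.PullTensor.pullTensor J.subschemeι _ W),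
        Groth.L05.InterPair.curveDeg_tensor k hJd1 (hP (Groth.L18.Ample.isInvertible_tensorPow hWi (j + 1))) (hP hWi)]
      linarith
  have hneg : ∀ j : ℕ, Subsingleton (Coh.HH X (CohB1.tensorPow W (j + 1)) 1) := by
    intro j
    induction j with
    | zero => exact hiso (Groth.L00.Tensor.tensorPowOne W).symm hW1
    | succ j ih =>
      have hT := Groth.L18.Ample.isInvertible_tensorPow hWi (j + 1)
      have hS := Groth.L03.Euler.shortExact_tensor hT (Groth.L21.RR.shortExact_idealSeq J)
      haveI : Subsingleton (Coh.HH X (CohB1.tensorMod (ClSub.quotMod J) (CohB1.tensorPow W (j + 1))) 0) := by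
        obtain ⟨g⟩ := Groth.L03.SurfAdj.nonempty_twistQuot_equiv k J hT 0
        exact Groth.L22.Reg.subsingleton_iso (Groth.L00.Tensor.tensorComm _ _) 0 (@Equiv.subsingleton _ _ g.toEquiv
          (Groth.L05.EulerDiv.subsingleton_h0_of_neg k hJd1 (hP hT) (hpow j)))
      haveI := hiso (Groth.L00.Tensor.tensorUnitLeft _).symm ih
      refine hiso (Groth.L00.Tensor.tensorIso eJ (Iso.refl _) ≪≫ Groth.L00.Tensor.tensorComm _ _)
        (subsingleton_of_forall_eq 0 fun z => ?_)
      obtain ⟨w, rfl⟩ := (Groth.L16.CohLinear.exact_delta_hmap hS 0 z).1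
        (Subsingleton.elim (α := Coh.HH X (CohB1.tensorMod (Coh.structureModule X) (CohB1.tensorPow W (j + 1))) 1) _ _)
      rw [Subsingleton.elim (α := Coh.HH X (CohB1.tensorMod (ClSub.quotMod J) (CohB1.tensorPow W (j + 1))) 0) w 0]
      exact map_zero _
  rcases m with _ | m
  · exact ⟨hq, hq⟩
  refine ⟨?_, hneg m⟩
  have hinv : ∀ j : ℕ, Nonempty (CohB1.tensorMod (CohB1.tensorPow W j) (CohB1.tensorPow D j) ≅ Coh.structureModule X) :=
    fun j => ⟨(Groth.L00.Tensor.tensorPowTensor W D j).symm ≪≫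
      Groth.L00.Tensor.tensorPowIso (Groth.L00.Tensor.tensorComm W D ≪≫ eDW) j ≪≫
      Groth.L00.Tensor.tensorPowUnit X j⟩
  have h0 := hflip (CohB1.tensorPow W (m + 2)) (CohB1.tensorPow D (m + 2))
    (Groth.L18.Ample.isInvertible_tensorPow hWi _) (hinv _) 1 (by omega)
  haveI := hneg (m + 1)
  rw [show (2 : ℕ) - 1 = 1 from rfl, Module.finrank_zero_of_subsingleton (M := Coh.HH X (CohB1.tensorPow W (m + 2)) 1)] at h0
  refine hiso ?_ (hfr _ (Groth.L18.GenLoc.isInvertible_tensor hω (Groth.L18.Ample.isInvertible_tensorPow hDi _)) h0)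
  exact Groth.L00.Tensor.tensorIso eω (Groth.L00.Tensor.tensorIso (Iso.refl (CohB1.tensorPow D (m + 1))) (Iso.refl D) ≪≫
      Groth.L00.Tensor.tensorComm _ _) ≪≫
    (Groth.L00.Tensor.tensorAssoc _ _ _).symm ≪≫
    Groth.L00.Tensor.tensorIso (Groth.L00.Tensor.tensorComm W D ≪≫ eDW) (Iso.refl _) ≪≫
    Groth.L00.Tensor.tensorUnitLeft _

end Groth.Agent.S18633
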