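import Groth.Statements.S18638
import Groth.Agent.L12.GrLCCanon
import Groth.Agent.L12.GrLCGorCrit
-- import your own Groth.Agent.* helpers here

set_option autoImplicit false
universe u
open GrLC

namespace Groth.Agent.S18638

open Groth.L12.GrLCLib

/-- Let R be a graded ring defined over a field which is Cohen–Macaulay, and K_R its canonical module.
Then R is Gorenstein exactly when K_R is isomorphic to a degree shift R(a) of R for some integer a,
that is, there is a bijective R-linear map R → K_R homogeneous of some fixed degree. Here 'graded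
ring defined over a field' means R = ⊕_{n ≥ 0} R_n is Noetherian with R_0 a field (so R is finitely
generated over R_0), m = R_+ is its unique graded maximal ideal and n = dim R; the canonical module
K_R (the graded dual of H^n_m(R)) is represented by a finitely generated graded module C together
with a homogeneous isomorphism from Hom_R(C, E) onto H^n_m(R), where E is a *injective envelope of
R/m and H^n_m(R) is computed from a *injective resolution of R in the graded category; by graded
Matlis duality this says exactly that C ≅ K_R as graded modules. -/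
theorem result (R : Type u) [CommRing R] [LocCoh.IsCohenMacaulayRing R] (𝒜 : ℤ → AddSubgroup R) [GradedRing 𝒜] (hpos : ∀ n : ℤ, n < 0 → 𝒜 n = ⊥) (h0 : IsField (GrLC.deg0 𝒜)) (m : HomogeneousIdeal 𝒜) (hm : GrLC.IsStarLocal 𝒜 m) (hmsp : m.toIdeal = Ideal.span (⋃ n ∈ Set.Ioi (0 : ℤ), (𝒜 n : Set R))) (n : ℕ) (hn : ringKrullDim R = n) (I : GrLC.StarInjRes 𝒜 𝒜) (E' : Type u) [AddCommGroup E'] [Module R E'] (𝓔 : ℤ → AddSubgroup E') [DirectSum.Decomposition 𝓔] [SetLike.GradedSMul 𝒜 𝓔] (e : (R ⧸ m.toIdeal) →ₗ[R] E') (he : GrLC.IsStarInjHull 𝒜 (GrLC.quotGr 𝒜 m) 𝓔 e) (C : Type u) [AddCommGroup C] [Module R C] (𝒞 : ℤ → AddSubgroup C) [DirectSum.Decomposition 𝒞] [SetLike.GradedSMul 𝒜 𝒞] (hC : GrLC.IsStarCanonical 𝒜 𝒞 𝓔 m n I) : LocCoh.IsGorensteinRing R ↔ ∃ (a : ℤ) (f : R →ₗ[R] C), Function.Bijective f ∧ GrLC.IsGrHomDeg 𝒜 𝒞 f a := by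
  classical
  have hnm : m.toIdeal.height = n := by
    have h1 := ringKrullDim_eq_height_starLocal hpos hm
    rw [hn] at h1
    exact_mod_cast h1.symm
  obtain ⟨hfin, φ, hφ⟩ := hC
  haveI := hfin
  constructor
  · intro h
    obtain ⟨g₀, X, f, ψ, hf, hψ⟩ := exists_top_hull hm n hnm I
    obtain ⟨β, hβ⟩ := exists_shift_equiv hf he
    exact exists_free_of_hom_equiv hpos h0 hmsp (isDual_of_hull hpos h0 hm he) (φ.trans (ψ.trans β))
  · rintro ⟨a, f, hf, hfdeg⟩
    rw [isGorenstein_iff_starInj_top hm n hnm I]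
    let F : R ≃ₗ[R] C := LinearEquiv.ofBijective f hf
    let Ψ : E' ≃ₗ[R] I.H m n :=
      ((LinearMap.ringLmapEquivSelf R R E').symm.trans ((F.arrowCongr (LinearEquiv.refl R E')).trans φ))
    let X : GrLC.GMod.{u} 𝒜 := shG 𝒜 𝓔 a
    letI := (Hgr_isInternal m I n).chooseDecomposition
    have hF := grHom_symm (R := R) 𝒜 (shG 𝒜 𝒞 a).gr F (fun i r hr => hfdeg i r hr)
    have hΨ : GrLC.IsGrHom X.gr (I.Hgr m n) Ψ.toLinearMap := by
      intro i x hx
      refine hφ i _ (fun g c hc => ?_)
      have h1 : F.symm c ∈ 𝒜 (g - a) := hF (g - a) c (show c ∈ 𝒞 (g - a + a) by rwa [sub_add_cancel])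
      have h2 : F.symm c • x ∈ 𝓔 (g - a + (i + a)) := smul_mem' 𝒜 𝓔 h1 hx
      rw [show g - a + (i + a) = g + i by abel] at h2
      change F.symm c • x ∈ 𝓔 (g + i)
      exact h2
    exact ⟨X, Ψ.symm, starInj_shift he.starInj a, grHom_symm (R := R) X.gr _ Ψ hΨ⟩

end Groth.Agent.S18638
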