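import Groth.Statements.S1864
import Groth.Agent.L25.Component
import Mathlib.AlgebraicGeometry.Limits
import Mathlib.AlgebraicGeometry.AlgClosed.Basic

set_option autoImplicit false
universe u v
open CategoryTheory MonoidalCategory CartesianMonoidalCategory MonObj GrpObj AlgebraicGeometry
open GrpSch

namespace Groth.Agent.S1864

private lemma lft_comp {C : Type*} [Category C] [CartesianMonoidalCategory C] {G : C} [GrpObj G]
    (p : 𝟙_ C ⟶ G) {T : C} (q : T ⟶ G) :
    q ≫ ((toUnit G ≫ p) * 𝟙 G) = (toUnit T ≫ p) * q := by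
  rw [MonObj.comp_mul, Category.comp_id, ← Category.assoc, toUnit_unique (q ≫ toUnit G) (toUnit T)]

private lemma rgt_comp {C : Type*} [Category C] [CartesianMonoidalCategory C] {G : C} [GrpObj G]
    (p : 𝟙_ C ⟶ G) {T : C} (q : T ⟶ G) :
    q ≫ (𝟙 G * (toUnit G ≫ p)) = q * (toUnit T ≫ p) := by
  rw [MonObj.comp_mul, Category.comp_id, ← Category.assoc, toUnit_unique (q ≫ toUnit G) (toUnit T)]

private lemma isIso_lft {C : Type*} [Category C] [CartesianMonoidalCategory C] {G : C} [GrpObj G]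
    (p : 𝟙_ C ⟶ G) : IsIso ((toUnit G ≫ p) * 𝟙 G) := by
  have h : ∀ a : 𝟙_ C ⟶ G, toUnit G ≫ a⁻¹ = (toUnit G ≫ a)⁻¹ := fun a => GrpObj.comp_inv _ _
  refine ⟨(toUnit G ≫ p⁻¹) * 𝟙 G, ?_, ?_⟩
  · rw [lft_comp, h, ← _root_.mul_assoc, inv_mul_cancel, _root_.one_mul]
  · rw [lft_comp, h, ← _root_.mul_assoc, mul_inv_cancel, _root_.one_mul]

private lemma isIso_rgt {C : Type*} [Category C] [CartesianMonoidalCategory C] {G : C} [GrpObj G]
    (p : 𝟙_ C ⟶ G) : IsIso (𝟙 G * (toUnit G ≫ p)) := by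
  have h : ∀ a : 𝟙_ C ⟶ G, toUnit G ≫ a⁻¹ = (toUnit G ≫ a)⁻¹ := fun a => GrpObj.comp_inv _ _
  refine ⟨𝟙 G * (toUnit G ≫ p⁻¹), ?_, ?_⟩
  · rw [rgt_comp, h, _root_.mul_assoc, mul_inv_cancel, _root_.mul_one]
  · rw [rgt_comp, h, _root_.mul_assoc, inv_mul_cancel, _root_.mul_one]

private lemma exists_translations (K : Type u) [Field K] [IsAlgClosed K] (G : Over (Spec (CommRingCat.of K)))
    [GrpObj G] [LocallyOfFiniteType G.hom] {x : G.left} (hx : IsClosed ({x} : Set G.left)) :
    ∃ L R : G.left ⟶ G.left, IsIso L ∧ IsIso R ∧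
      ∀ (y : G.left), IsClosed ({y} : Set G.left) → ∀ (R' : G ⟶ G) (q : 𝟙_ (Over (Spec (CommRingCat.of K))) ⟶ G),
        q.left (IsLocalRing.closedPoint K) = y → R' = 𝟙 G * (toUnit G ≫ q) → R'.left x = L y := by
  let p : 𝟙_ (Over (Spec (CommRingCat.of K))) ⟶ G :=
    Over.homMk _ ((pointEquivClosedPoint G.hom).symm ⟨x, hx⟩).2
  have hp : p.left (IsLocalRing.closedPoint K) = x :=
    congrArg Subtype.val ((pointEquivClosedPoint G.hom).apply_symm_apply ⟨x, hx⟩)
  haveI := isIso_lft p
  haveI := isIso_rgt p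
  refine ⟨((toUnit G ≫ p) * 𝟙 G).left, (𝟙 G * (toUnit G ≫ p)).left,
    inferInstanceAs (IsIso ((Over.forget _).map ((toUnit G ≫ p) * 𝟙 G))), inferInstanceAs (IsIso ((Over.forget _).map (𝟙 G * (toUnit G ≫ p)))), ?_⟩
  rintro y - _ q hq rfl
  have e : p ≫ (𝟙 G * (toUnit G ≫ q)) = q ≫ ((toUnit G ≫ p) * 𝟙 G) := by
    rw [rgt_comp, lft_comp, toUnit_unique (toUnit (𝟙_ (Over (Spec (CommRingCat.of K))))) (𝟙 _),
      Category.id_comp, Category.id_comp]
  rw [← hq, ← hp]
  exact congr(($e).left (IsLocalRing.closedPoint K))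

private lemma exists_affine_component (K : Type u) [Field K] [IsAlgClosed K] (G : Over (Spec (CommRingCat.of K)))
    [GrpObj G] [LocallyOfFiniteType G.hom] {J : Type} [Finite J] (C : G.left.Opens)
    (hC : IsIrreducible (C : Set G.left)) (hC' : IsClopen (C : Set G.left))
    (g : J → G.left) (hgC : ∀ i, g i ∈ C) (hg : ∀ i, IsClosed ({g i} : Set G.left)) :
    ∃ U : G.left.Opens, IsAffineOpen U ∧ U ≤ C ∧ ∀ i, g i ∈ U := by
  haveI : IsLocallyNoetherian G.left := LocallyOfFiniteType.isLocallyNoetherian G.hom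
  haveI : JacobsonSpace G.left := LocallyOfFiniteType.jacobsonSpace G.hom
  obtain ⟨c, hc⟩ := hC.nonempty
  obtain ⟨_, ⟨A, hA, rfl⟩, hcA, hAC⟩ :=
    G.left.isBasis_affineOpens.exists_subset_of_mem_open hc C.isOpen
  rcases isEmpty_or_nonempty J with hJ | ⟨⟨i₀⟩⟩
  · exact ⟨A, hA, hAC, fun i => isEmptyElim i⟩
  choose L R hL hR hLR using fun i => exists_translations K G (hg i)
  let e : G.left := Groth.L25.Component.one G
  have hD : IsIrreducible (connectedComponent e) := (Groth.L25.Component.connectedComponent_mem G e).1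
  have hDo : IsOpen (connectedComponent e) :=
    Groth.L25.Component.isOpen_of_mem G (Groth.L25.Component.connectedComponent_mem G e)
  have hCeq : ∀ z ∈ C, (C : Set G.left) = connectedComponent z := fun z hz =>
    subset_antisymm (hC.isConnected.subset_connectedComponent hz) (hC'.connectedComponent_subset hz)
  have hLe : ∀ i, L i e = g i := by
    intro i
    have h1 : η[G].left (IsLocalRing.closedPoint K) = e :=
      congrArg η[G].left (Subsingleton.elim (α := PrimeSpectrum K) _ _)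
    have hcl : IsClosed ({e} : Set G.left) := by
      rw [← h1]
      exact ((pointEquivClosedPoint G.hom) ⟨η[G].left, Over.w η[G]⟩).2
    have h2 := hLR i e hcl (𝟙 G) η[G] h1 (by rw [← Hom.one_def]; simp)
    simpa using h2.symm
  have hne : ∀ i, (connectedComponent e ∩ L i ⁻¹' (A : Set G.left)).Nonempty := by
    intro i
    obtain ⟨z, rfl⟩ := (L i).homeomorph.surjective c
    refine ⟨z, ?_, hcA⟩
    have hgi : L i e = g i := hLe i
    have : (L i) z ∈ connectedComponent (L i e) := by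
      rw [hgi, ← hCeq _ (hgC i)]; exact hc
    have h2 := (L i).homeomorph.symm.continuous.image_connectedComponent_subset _ ⟨_, this, rfl⟩
    have e' : ∀ w, (L i).homeomorph.symm (L i w) = w := (L i).homeomorph.symm_apply_apply
    rwa [e', e'] at h2
  classical
  obtain ⟨T, hT⟩ : ∃ T : Finset J, ∀ i, i ∈ T := ⟨(Set.finite_univ (α := J)).toFinset, fun i => by simp⟩
  have hkey : ∀ S : Finset J, ∃ V : Set G.left, IsOpen V ∧ V ⊆ connectedComponent e ∧ V.Nonempty ∧
      ∀ i ∈ S, V ⊆ L i ⁻¹' (A : Set G.left) := by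
    intro S
    induction S using Finset.induction with
    | empty => exact ⟨_, hDo, subset_rfl, hD.nonempty, fun i hi => absurd hi (Finset.notMem_empty i)⟩
    | insert a S ha ih =>
      obtain ⟨V, hV, hVD, hVne, hVS⟩ := ih
      have h := hD.isPreirreducible V (L a ⁻¹' (A : Set G.left)) hV (A.isOpen.preimage (L a).continuous)
        (by rwa [Set.inter_eq_right.mpr hVD]) (hne a)
      refine ⟨connectedComponent e ∩ (V ∩ L a ⁻¹' (A : Set G.left)),
        hDo.inter (hV.inter (A.isOpen.preimage (L a).continuous)), Set.inter_subset_left, h, ?_⟩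
      intro i hi
      rcases Finset.mem_insert.mp hi with rfl | hi
      · exact fun z hz => hz.2.2
      · exact fun z hz => hVS i hi hz.2.1
  obtain ⟨V, hVo, hVD, hVne, hVT⟩ := hkey T
  obtain ⟨h, hhV, hh⟩ := nonempty_inter_closedPoints hVne hVo.isLocallyClosed
  let q : 𝟙_ (Over (Spec (CommRingCat.of K))) ⟶ G :=
    Over.homMk _ ((pointEquivClosedPoint G.hom).symm ⟨h, hh⟩).2
  have hq : q.left (IsLocalRing.closedPoint K) = h :=
    congrArg Subtype.val ((pointEquivClosedPoint G.hom).apply_symm_apply ⟨h, hh⟩)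
  let R' : G ⟶ G := 𝟙 G * (toUnit G ≫ q)
  haveI : IsIso R' := isIso_rgt q
  haveI : IsIso R'.left := inferInstanceAs (IsIso ((Over.forget _).map R'))
  have hgA : ∀ i, R'.left (g i) ∈ A := fun i => by
    rw [hLR i h hh R' q hq rfl]; exact hVT i (hT i) hhV
  refine ⟨R'.left ⁻¹ᵁ A, hA.preimage R'.left, fun z hz => ?_, hgA⟩
  have hz' : R'.left z ∈ connectedComponent (R'.left (g i₀)) := by
    rw [← hCeq _ (hAC (hgA i₀))]; exact hAC hz
  have h2 := R'.left.homeomorph.symm.continuous.image_connectedComponent_subset _ ⟨_, hz', rfl⟩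
  have e' : ∀ w, R'.left.homeomorph.symm (R'.left w) = w := R'.left.homeomorph.symm_apply_apply
  have h3 : z ∈ connectedComponent (g i₀) := by rwa [e', e'] at h2
  rw [← hCeq _ (hgC i₀)] at h3
  exact h3


/-- Let G be a group scheme locally of finite type over an algebraically closed field and g₁, …, g_n
finitely many closed points of G. Then some affine open of G contains all the g_i. -/
theorem result (K : Type u) [Field K] [IsAlgClosed K] (G : Over (Spec (CommRingCat.of K))) [GrpObj G] [LocallyOfFiniteType G.hom] (n : ℕ) (g : Fin n → G.left) (hg : ∀ i, IsClosed ({g i} : Set G.left)) : ∃ U : G.left.Opens, IsAffineOpen U ∧ ∀ i, g i ∈ U := by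
  classical
  haveI : IsLocallyNoetherian G.left := LocallyOfFiniteType.isLocallyNoetherian G.hom
  let C : Fin n → G.left.Opens := fun i => ⟨connectedComponent (g i),
    Groth.L25.Component.isOpen_of_mem G (Groth.L25.Component.connectedComponent_mem G (g i))⟩
  have hU : ∀ c : Set.range C, ∃ U : G.left.Opens, IsAffineOpen U ∧ U ≤ c.1 ∧ ∀ i : {i // C i = c.1}, g i ∈ U := by
    rintro ⟨_, i₀, rfl⟩
    refine exists_affine_component K G (C i₀) (Groth.L25.Component.connectedComponent_mem G (g i₀)).1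
      ⟨isClosed_connectedComponent, (C i₀).isOpen⟩ (fun i : {i // C i = C i₀} => g i) (fun i => ?_) (fun i => hg i)
    exact (SetLike.ext_iff.mp i.2 (g i)).mp mem_connectedComponent
  choose U hUa hUle hUg using hU
  refine ⟨⨆ c, U c, IsAffineOpen.iSup_of_disjoint hUa ?_, fun i => ?_⟩
  · intro c d hcd
    refine Disjoint.mono (hUle c) (hUle d) ?_
    obtain ⟨_, a, rfl⟩ := c
    obtain ⟨_, b, rfl⟩ := d
    rw [disjoint_iff]
    ext z
    simp only [TopologicalSpace.Opens.coe_inf, TopologicalSpace.Opens.coe_bot, Set.mem_empty_iff_false, iff_false]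
    rintro ⟨hza, hzb⟩
    apply hcd
    refine Subtype.ext (TopologicalSpace.Opens.ext ?_)
    exact (connectedComponent_eq hza).trans (connectedComponent_eq hzb).symm
  · exact TopologicalSpace.Opens.mem_iSup.mpr ⟨⟨C i, i, rfl⟩, hUg ⟨C i, i, rfl⟩ ⟨i, rfl⟩⟩

end Groth.Agent.S1864
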