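import Groth.Statements.S18642
import Groth.Agent.L12.GrLCVerDesc
-- import your own Groth.Agent.* helpers here

set_option autoImplicit false
universe u
open GrLC

namespace Groth.Agent.S18642

open Groth.L12.GrLCLib

/-- Let R be a graded ring defined over a field which is Cohen–Macaulay and generated over R_0 by R_1,
with dim R ≥ 2, and let q ≥ 1. If the Veronese subring R^(q) is a Gorenstein ring, then R is a
Gorenstein ring and q divides the a-invariant a(R). Here 'graded ring defined over a field' means R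
= ⊕_{n ≥ 0} R_n is Noetherian with R_0 a field, and m = R_+ is its unique graded maximal ideal. The
a-invariant a(R) is the largest degree in which the graded local cohomology H^n_m(R) (n = dim R, m =
R_+), computed from a *injective resolution of R in the graded category, is nonzero. The Veronese
subring R^(q) = ⊕_j R_{jq}, regraded by (R^(q))_j = R_{jq}, is presented abstractly as a ℤ-graded
ring R' with an injective ring homomorphism φ : R' → R carrying R'_j onto R_{jq} for every j. -/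
theorem result (R : Type u) [CommRing R] [LocCoh.IsCohenMacaulayRing R] (𝒜 : ℤ → AddSubgroup R) [GradedRing 𝒜] (hpos : ∀ n : ℤ, n < 0 → 𝒜 n = ⊥) (h0 : IsField (GrLC.deg0 𝒜)) (m : HomogeneousIdeal 𝒜) (hm : GrLC.IsStarLocal 𝒜 m) (hmsp : m.toIdeal = Ideal.span (⋃ n ∈ Set.Ioi (0 : ℤ), (𝒜 n : Set R))) (hstd : Ideal.span (⋃ n ∈ Set.Ioi (0 : ℤ), (𝒜 n : Set R)) = Ideal.span ((𝒜 1 : AddSubgroup R) : Set R)) (n : ℕ) (hn : ringKrullDim R = n) (h2 : 2 ≤ n) (I : GrLC.StarInjRes 𝒜 𝒜) (q : ℕ) (hq : 0 < q) (R' : Type u) [CommRing R'] (𝒜' : ℤ → AddSubgroup R') [GradedRing 𝒜'] (φ : R' →+* R) (hφ : Function.Injective φ) (hdeg : ∀ j : ℤ, (𝒜' j).map (φ : R' →+ R) = 𝒜 (j * q)) [LocCoh.IsGorensteinRing R'] : LocCoh.IsGorensteinRing R ∧ ∃ a : ℤ, GrLC.endDeg (I.Hgr m n) = ((a : WithTop ℤ) : WithBot (WithTop ℤ)) ∧ (q : ℤ) ∣ a := by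
  classical
  letI := φ.toAlgebra
  have h := isVer_of_map φ hφ hdeg hq
  obtain ⟨b, W, ψ, hW, hψ, hψs⟩ := exists_dual_of_ver h hpos h0 hm hmsp hstd n hn h2 I
  have hnm : m.toIdeal.height = n := by
    have h1 := ringKrullDim_eq_height_starLocal hpos hm
    rw [hn] at h1
    exact_mod_cast h1.symm
  let X := shG 𝒜 W.gr (-(b * (q : ℤ)))
  let ψ' : I.H m n ≃ₗ[R] X.carrier := ψ
  refine ⟨(isGorenstein_iff_starInj_top hm n hnm I).2 ⟨X, ψ', starInj_shift (hW.starInj h0) _, fun d x hx => ?_⟩,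
    b * q, ?_, dvd_mul_left _ _⟩
  · change ψ x ∈ W.gr (d + -(b * (q : ℤ)))
    rw [← sub_eq_add_neg]
    exact hψ d x hx
  · obtain ⟨u, hu, hune, -⟩ := hW.line
    have hu' : ψ.symm u ∈ I.Hgr m n (b * q) := by
      have h1 := hψs 0 u hu
      rwa [zero_add] at h1
    refine le_antisymm ((endDeg_le_coe_iff _ _).2 fun g hg => (AddSubgroup.eq_bot_iff_forall _).2 fun x hx =>
      ψ.map_eq_zero_iff.1 (hW.uniq _ _ (hψ g x hx) fun c hc => ?_)) ?_
    · rw [hpos _ (by omega), AddSubgroup.mem_bot] at hc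
      rw [hc, zero_smul]
    · have hne : I.Hgr m n (b * q) ≠ ⊥ := fun e => hune (ψ.symm.map_eq_zero_iff.1 (by
        rw [e, AddSubgroup.mem_bot] at hu'; exact hu'))
      exact le_iSup₂ (f := fun (g : ℤ) (_ : I.Hgr m n g ≠ ⊥) => ((g : WithTop ℤ) : WithBot (WithTop ℤ))) (b * q) hne

end Groth.Agent.S18642
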