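import Groth.Statements.S18643
import Groth.Agent.L12.GrLCType
import Groth.Agent.L12.GrLCGor
import Groth.Agent.S0341
-- import your own Groth.Agent.* helpers here

set_option autoImplicit false
universe u
open GrLC

namespace Groth.Agent.S18643

open Groth.L12.GrLCLib

/-- Let R be a graded ring defined over a field k = R_0 which is Gorenstein and generated over k by R_1,
with dim R ≥ 1 and dim_k R_1 ≥ 2, and let q ≥ 1. Then the Veronese subring R^(q) is a Gorenstein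
ring if and only if q divides the a-invariant a(R). Here 'graded ring defined over a field' means R
= ⊕_{n ≥ 0} R_n is Noetherian with R_0 a field, and m = R_+ is its unique graded maximal ideal. The
a-invariant a(R) is the largest degree in which the graded local cohomology H^n_m(R) (n = dim R, m =
R_+), computed from a *injective resolution of R in the graded category, is nonzero. The Veronese
subring R^(q) = ⊕_j R_{jq}, regraded by (R^(q))_j = R_{jq}, is presented abstractly as a ℤ-graded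
ring R' with an injective ring homomorphism φ : R' → R carrying R'_j onto R_{jq} for every j. -/
theorem result (R : Type u) [CommRing R] [LocCoh.IsGorensteinRing R] (𝒜 : ℤ → AddSubgroup R) [GradedRing 𝒜] (hpos : ∀ n : ℤ, n < 0 → 𝒜 n = ⊥) (h0 : IsField (GrLC.deg0 𝒜)) (m : HomogeneousIdeal 𝒜) (hm : GrLC.IsStarLocal 𝒜 m) (hmsp : m.toIdeal = Ideal.span (⋃ n ∈ Set.Ioi (0 : ℤ), (𝒜 n : Set R))) (hstd : Ideal.span (⋃ n ∈ Set.Ioi (0 : ℤ), (𝒜 n : Set R)) = Ideal.span ((𝒜 1 : AddSubgroup R) : Set R)) (hR1 : 2 ≤ Module.finrank (GrLC.deg0 𝒜) (GrLC.comp 𝒜 𝒜 1)) (n : ℕ) (hn : ringKrullDim R = n) (h1 : 1 ≤ n) (I : GrLC.StarInjRes 𝒜 𝒜) (a : ℤ) (ha : GrLC.endDeg (I.Hgr m n) = ((a : WithTop ℤ) : WithBot (WithTop ℤ))) (q : ℕ) (hq : 0 < q) (R' : Type u) [CommRing R'] (𝒜' : ℤ → AddSubgroup R') [GradedRing 𝒜'] (φ : R' →+* R) (hφ : Function.Injective φ) (hdeg : ∀ j : ℤ, (𝒜' j).map (φ : R' →+ R) = 𝒜 (j * q)) : LocCoh.IsGorensteinRing R' ↔ (q : ℤ) ∣ a :=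 by
  letI := φ.toAlgebra
  haveI : LocCoh.IsCohenMacaulayRing R :=
    { isCohenMacaulayLocalRing_localization := fun p _ => by
        haveI := LocCoh.IsGorensteinRing.isGorensteinLocalRing_localization (A := R) p
        exact Groth.Agent.S0341.result _ }
  have h := isVer_of_map φ hφ hdeg hq
  refine ⟨fun hG => ?_, fun hdvd => isGorensteinRing_ver h hpos h0 hm hmsp n hn I a ha hdvd⟩
  haveI := isNoetherianRing_ver h
  have hpos' := pos_ver h hpos
  have hm' := posIdeal_isStarLocal hpos' (isField_deg0_ver h h0)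
  haveI : (posIdeal 𝒜').toIdeal.IsMaximal := starLocal_isMaximal hpos' hm'
  haveI := isIntegral_ver h
  have hn' : (posIdeal 𝒜').toIdeal.height = n := by
    have h1 := ringKrullDim_eq_height_starLocal hpos' hm'
    rw [ringKrullDim_eq_of_integral h.inj, hn] at h1
    exact_mod_cast h1.symm
  have hq' : (q : ℤ) ≠ 0 := by omega
  set ρ := a % (q : ℤ) with hρdef
  have hρ := bassNum_ver h hpos h0 hm hmsp hstd n hn I a ha ρ (Int.emod_nonneg a hq') (Int.emod_lt_of_pos a (by omega))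
    (Int.dvd_self_sub_emod) (posIdeal 𝒜') rfl
  rw [bassNum_gorenstein (posIdeal 𝒜').toIdeal n hn' n, if_pos rfl] at hρ
  have hone : Module.finrank (GrLC.deg0 𝒜) (GrLC.comp 𝒜 𝒜 ρ) = 1 := by exact_mod_cast hρ.symm
  by_contra hnd
  have hρ1 : 1 ≤ ρ := by
    have h2 := Int.emod_nonneg a hq'
    have h3 : ρ ≠ 0 := fun e => hnd (Int.dvd_of_emod_eq_zero e)
    omega
  letI : Field (GrLC.deg0 𝒜) := h0.toField
  have hone' : ∀ s : ℤ, ρ ≤ s → ∃ g ∈ 𝒜 s, ∀ v ∈ 𝒜 s, ∃ r ∈ 𝒜 0, v = r * g := by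
    intro s hs
    obtain ⟨d, rfl⟩ : ∃ d : ℕ, s = ρ + d := ⟨(s - ρ).toNat, by rw [Int.toNat_of_nonneg (by omega)]; ring⟩
    clear hs
    induction d with
    | zero =>
      obtain ⟨g, -, hg⟩ := finrank_eq_one_iff'.1 hone
      refine ⟨g, by simp [show (g : R) ∈ 𝒜 ρ from g.2], fun v hv => ?_⟩
      obtain ⟨r, hr⟩ := hg ⟨v, by rw [Nat.cast_zero, add_zero] at hv; exact hv⟩
      exact ⟨r, r.2, (congrArg Subtype.val hr).symm⟩
    | succ d ih =>
      obtain ⟨g, hg, hgen⟩ := ih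
      have hgen1 : ∀ (t : ℤ), 1 ≤ t → ∀ K : AddSubgroup R, (∀ b ∈ 𝒜 (t - 1), ∀ y ∈ 𝒜 1, y * b ∈ K) → ∀ c ∈ 𝒜 t, c ∈ K :=
        mem_of_standard hstd
      rw [show ρ + ((d + 1 : ℕ) : ℤ) = ρ + d + 1 by push_cast; ring]
      by_cases hg0 : g = 0
      · refine ⟨0, zero_mem _, fun v hv => ⟨0, zero_mem _, ?_⟩⟩
        have h1 := hgen1 (ρ + d + 1) (by omega) ⊥ (fun b hb y hy => by
          rw [add_sub_cancel_right] at hb
          obtain ⟨r, hr, rfl⟩ := hgen b hb
          simp [hg0]) v hv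
        simpa using h1
      · obtain ⟨b', hb', y', hy', hne⟩ : ∃ b' ∈ 𝒜 (ρ + d - 1), ∃ y' ∈ 𝒜 1, y' * b' ≠ 0 := by
          by_contra hcon
          push Not at hcon
          exact hg0 (hgen1 (ρ + d) (by omega) ⊥ (fun b hb y hy => by simp [hcon b hb y hy]) g hg)
        obtain ⟨μ, hμ, hμe⟩ := hgen (y' * b') (by
          have := SetLike.mul_mem_graded hy' hb'; rwa [show 1 + (ρ + d - 1) = ρ + d by ring] at this)
        obtain ⟨μi, hμi⟩ := h0.mul_inv_cancel (a := (⟨μ, hμ⟩ : GrLC.deg0 𝒜)) (fun e => hne (by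
          rw [hμe, show μ = 0 from congrArg Subtype.val e, zero_mul]))
        have hμi' : μ * (μi : R) = 1 := congrArg Subtype.val hμi
        let K : AddSubgroup R :=
          { carrier := {v | ∃ r ∈ 𝒜 0, v = r * (y' * g)}
            add_mem' := by
              rintro _ _ ⟨r, hr, rfl⟩ ⟨r', hr', rfl⟩
              exact ⟨r + r', add_mem hr hr', by ring⟩
            zero_mem' := ⟨0, zero_mem _, by ring⟩
            neg_mem' := by
              rintro _ ⟨r, hr, rfl⟩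
              exact ⟨-r, neg_mem hr, by ring⟩ }
        refine ⟨y' * g, by
          have := SetLike.mul_mem_graded hy' hg; rwa [show 1 + (ρ + d) = ρ + d + 1 by ring] at this,
          fun v hv => hgen1 (ρ + d + 1) (by omega) K (fun b hb y hy => ?_) v hv⟩
        rw [add_sub_cancel_right] at hb
        obtain ⟨r, hr, rfl⟩ := hgen b hb
        obtain ⟨ν, hν, hνe⟩ := hgen (y * b') (by
          have := SetLike.mul_mem_graded hy hb'; rwa [show 1 + (ρ + d - 1) = ρ + d by ring] at this)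
        refine ⟨r * (μi : R) * ν, ?_, ?_⟩
        · have h1 := SetLike.mul_mem_graded (SetLike.mul_mem_graded hr μi.2) hν
          rwa [add_zero, add_zero] at h1
        · calc y * (r * g) = r * ((μ * (μi : R)) * (y * g)) := by rw [hμi']; ring
            _ = r * (μi : R) * (y * (μ * g)) := by ring
            _ = r * (μi : R) * (y' * (y * b')) := by rw [← hμe]; ring
            _ = r * (μi : R) * ν * (y' * g) := by rw [hνe]; ring
  -- a regular homogeneous element
  have hgam : GrLC.gam m.toIdeal R = ⊥ := by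
    letI := (Hgr_isInternal m I 0).chooseDecomposition
    refine (Submodule.eq_bot_iff _).2 fun z hz => eq_zero_of_cp 𝒜 fun g => ?_
    exact (van_zero_iff m).1 ((van_iff m I).2 (van_below_dim hpos hm hn (by omega) g I)) _ (gam_isHomogeneous 𝒜 𝒜 m g hz) (cp_mem 𝒜 g z)
  obtain ⟨e, y, he, hy, hreg⟩ := exists_homog_regular_pos (M := R) m hmsp hgam
  have hyt : y ^ ρ.toNat ∈ 𝒜 (ρ * e) := by
    have := SetLike.pow_mem_graded ρ.toNat hy
    rwa [nsmul_eq_mul, Int.toNat_of_nonneg (by omega : (0:ℤ) ≤ ρ)] at this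
  have hs : ρ ≤ ρ * e + 1 := by
    have : ρ * 1 ≤ ρ * e := mul_le_mul_of_nonneg_left (by omega) (by omega)
    omega
  obtain ⟨g, hg, hgen⟩ := hone' _ hs
  let L : GrLC.comp 𝒜 𝒜 1 →ₗ[GrLC.deg0 𝒜] GrLC.comp 𝒜 𝒜 (ρ * e + 1) :=
    { toFun := fun x => ⟨y ^ ρ.toNat * x.1, show y ^ ρ.toNat * x.1 ∈ 𝒜 (ρ * e + 1) from SetLike.GradedMul.mul_mem (A := 𝒜) hyt x.2⟩
      map_add' := fun x x' => Subtype.ext (mul_add _ _ _)
      map_smul' := fun r x => Subtype.ext (mul_left_comm _ (r : R) _) }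
  haveI := isNoetherian_comp (𝒜 := 𝒜) 𝒜 (ρ * (e : ℤ) + 1)
  haveI : Module.Finite (GrLC.deg0 𝒜) (GrLC.comp 𝒜 𝒜 (ρ * (e : ℤ) + 1)) := Module.IsNoetherian.finite _ _
  have h2 := LinearMap.finrank_le_finrank_of_injective (f := L) (fun x x' hxx =>
    Subtype.ext ((hreg.pow ρ.toNat) (congrArg Subtype.val hxx)))
  have h3 : Module.finrank (GrLC.deg0 𝒜) (GrLC.comp 𝒜 𝒜 (ρ * e + 1)) ≤ 1 := by
    refine finrank_le_one (⟨g, hg⟩ : GrLC.comp 𝒜 𝒜 (ρ * e + 1)) fun w => ?_
    obtain ⟨r, hr, hw⟩ := hgen w.1 w.2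
    exact ⟨⟨r, hr⟩, Subtype.ext hw.symm⟩
  omega

end Groth.Agent.S18643
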