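import Groth.Statements.S18648
import Groth.Agent.L12.GrSegStd

set_option autoImplicit false
universe u
open scoped TensorProduct
open GrSegre

open Groth.L12.GrLCLib Groth.L12.GrSegLib

namespace Groth.Agent.S18648

/-- Let R and S be standard graded rings defined over a field k which are Cohen–Macaulay, of dimensions
r ≥ 2 and s ≥ 2. Then the Segre product T = R # S is a Cohen–Macaulay ring if and only if a(R) < 0
and a(S) < 0. Here a graded ring defined over k is a commutative k-algebra of finite type, graded in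
nonnegative degrees by k-subspaces with degree-zero part k·1, and it is standard graded when its
irrelevant ideal is generated by the degree-one piece; the a-invariant a(R) is the largest degree in
which the graded local cohomology H^{dim R}_{R_+}(R), computed from a *injective resolution of R in
the graded category, is nonzero; the Segre product T = R # S = ⊕_n R_n ⊗_k S_n is presented
abstractly as a graded k-algebra T with an injective k-algebra homomorphism ψ : T → R ⊗_k S carrying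
T_n onto the k-span of the elementary tensors a ⊗ b with a ∈ R_n, b ∈ S_n. -/
theorem result (k : Type u) [Field k] (R : Type u) [CommRing R] [Algebra k R] (𝒜 : ℤ → Submodule k R) [GradedAlgebra 𝒜] (hposR : ∀ n : ℤ, n < 0 → 𝒜 n = ⊥) (h0R : 𝒜 0 = Submodule.span k {(1 : R)}) [Algebra.FiniteType k R] (S : Type u) [CommRing S] [Algebra k S] (ℬ : ℤ → Submodule k S) [GradedAlgebra ℬ] (hposS : ∀ n : ℤ, n < 0 → ℬ n = ⊥) (h0S : ℬ 0 = Submodule.span k {(1 : S)}) [Algebra.FiniteType k S] (T : Type u) [CommRing T] [Algebra k T] (𝒯 : ℤ → Submodule k T) [GradedAlgebra 𝒯] (ψ : T →ₐ[k] TensorProduct k R S) (hψ : Function.Injective ψ) (hdegT : ∀ n : ℤ, (𝒯 n).map ψ.toLinearMap = Submodule.span k {x : TensorProduct k R S | ∃ a ∈ 𝒜 n, ∃ b ∈ ℬ n, x = a ⊗ₜ[k] b}) [LocCoh.IsCohenMacaulayRing R] [LocCoh.IsCohenMacaulayRing S] (mR : HomogeneousIdeal 𝒜) (hmR : mR.toIdeal = Ideal.span (⋃ n ∈ Set.Ioi (0 : ℤ), (𝒜 n : Set R))) (hstdR : Ideal.span (⋃ n ∈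 Set.Ioi (0 : ℤ), (𝒜 n : Set R)) = Ideal.span ((𝒜 1 : Submodule k R) : Set R)) (I : GrLC.StarInjRes 𝒜 𝒜) (mS : HomogeneousIdeal ℬ) (hmS : mS.toIdeal = Ideal.span (⋃ n ∈ Set.Ioi (0 : ℤ), (ℬ n : Set S))) (hstdS : Ideal.span (⋃ n ∈ Set.Ioi (0 : ℤ), (ℬ n : Set S)) = Ideal.span ((ℬ 1 : Submodule k S) : Set S)) (J : GrLC.StarInjRes ℬ ℬ) (r s : ℕ) (hr : ringKrullDim R = r) (hs : ringKrullDim S = s) (h2r : 2 ≤ r) (h2s : 2 ≤ s) : LocCoh.IsCohenMacaulayRing T ↔ GrLC.endDeg (I.Hgr mR r) < 0 ∧ GrLC.endDeg (J.Hgr mS s) < 0 := by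
  have h1r : 1 ≤ r := by omega
  have h1s : 1 ≤ s := by omega
  have hR0 : ∀ n : ℤ, 0 ≤ n → 𝒜 n ≠ ⊥ := fun n hn => piece_ne_bot hposR h0R hstdR hr h1r hn
  have hS0 : ∀ n : ℤ, 0 ≤ n → ℬ n ≠ ⊥ := fun n hn => piece_ne_bot hposS h0S hstdS hs h1s hn
  haveI : Nontrivial R := by
    by_contra h
    rw [not_nontrivial_iff_subsingleton] at h
    exact hR0 0 le_rfl ((Submodule.eq_bot_iff _).2 fun x _ => Subsingleton.elim x 0)
  haveI : Nontrivial S := by
    by_contra h
    rw [not_nontrivial_iff_subsingleton] at h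
    exact hS0 0 le_rfl ((Submodule.eq_bot_iff _).2 fun x _ => Subsingleton.elim x 0)
  have hT : GrSeg.IsSegreRing 𝒜 ℬ 𝒯 ψ := ⟨hψ, hdegT⟩
  haveI := seg_nontrivial ψ
  haveI : IsNoetherianRing T := isNoetherian_segreMod 𝒜 ℬ 𝒜 ℬ 𝒯 𝒯 hT (isSegreMod_self 𝒜 ℬ 𝒯 hT)
  rw [← Module.supportDim_self_eq_ringKrullDim] at hr hs
  have hR : CMAll R R := isCMRing_iff.1 ‹_›
  have hS : CMAll S S := isCMRing_iff.1 ‹_›
  rw [isCMRing_iff (A := T), show (∀ (q : Ideal T) [q.IsPrime], _) ↔ _ from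
    seg_cm_iff_two hposR h0R hposS h0S hT (isSegreMod_self 𝒜 ℬ 𝒯 hT) hmR hmS I J h2r h2s hr hs hR hS,
    endDeg_lt_zero_iff, endDeg_lt_zero_iff]
  simp only [pieceK_eq_bot_iff, ← Hk_eq_bot_iff_Hgr]
  constructor
  · intro h
    exact ⟨fun g hg => (h g).2.resolve_right fun e => hS0 g hg ((Submodule.eq_bot_iff _).2 e),
      fun g hg => (h g).1.resolve_left fun e => hR0 g hg ((Submodule.eq_bot_iff _).2 e)⟩
  · rintro ⟨hI, hJ⟩ d
    rcases lt_or_ge d 0 with hd | hd
    · exact ⟨Or.inl fun x hx => by rwa [hposR d hd, Submodule.mem_bot] at hx,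
        Or.inr fun x hx => by rwa [hposS d hd, Submodule.mem_bot] at hx⟩
    · exact ⟨Or.inr (hJ d hd), Or.inl (hI d hd)⟩

end Groth.Agent.S18648
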