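import Groth.Statements.S18649
import Groth.Agent.L12.GrSegTopSurj
import Groth.Agent.L13.LiaisonBasic

set_option autoImplicit false
universe u
open scoped TensorProduct
open GrSegre

open Groth.L12.GrLCLib Groth.L12.GrSegLib
open scoped KMod

namespace Groth.Agent.S18649

/-- Let R and S be standard graded rings defined over a field k which are Cohen–Macaulay, of dimensions
r ≥ 2 and s ≥ 2. Whenever their Segre product T = R # S is Gorenstein, both R and S are Gorenstein,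
and their a-invariants agree and are negative: a(R) = a(S) < 0. Here a graded ring defined over k is
a commutative k-algebra of finite type, graded in nonnegative degrees by k-subspaces with
degree-zero part k·1, and it is standard graded when its irrelevant ideal is generated by the
degree-one piece; the a-invariant a(R) is the largest degree in which the graded local cohomology
H^{dim R}_{R_+}(R), computed from a *injective resolution of R in the graded category, is nonzero;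
the Segre product T = R # S = ⊕_n R_n ⊗_k S_n is presented abstractly as a graded k-algebra T with
an injective k-algebra homomorphism ψ : T → R ⊗_k S carrying T_n onto the k-span of the elementary
tensors a ⊗ b with a ∈ R_n, b ∈ S_n. -/
theorem result (k : Type u) [Field k] (R : Type u) [CommRing R] [Algebra k R] (𝒜 : ℤ → Submodule k R) [GradedAlgebra 𝒜] (hposR : ∀ n : ℤ, n < 0 → 𝒜 n = ⊥) (h0R : 𝒜 0 = Submodule.span k {(1 : R)}) [Algebra.FiniteType k R] (S : Type u) [CommRing S] [Algebra k S] (ℬ : ℤ → Submodule k S) [GradedAlgebra ℬ] (hposS : ∀ n : ℤ, n < 0 → ℬ n = ⊥) (h0S : ℬ 0 = Submodule.span k {(1 : S)}) [Algebra.FiniteType k S] (T : Type u) [CommRing T] [Algebra k T] (𝒯 : ℤ → Submodule k T) [GradedAlgebra 𝒯] (ψ : T →ₐ[k] TensorProduct k R S) (hψ : Function.Injective ψ) (hdegT : ∀ n : ℤ, (𝒯 n).map ψ.toLinearMap = Submodule.span k {x : TensorProduct k R S | ∃ a ∈ 𝒜 n, ∃ b ∈ ℬ n, x = a ⊗ₜ[k] b}) [LocCoh.IsCohenMacaulayRing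 R] [LocCoh.IsCohenMacaulayRing S] (mR : HomogeneousIdeal 𝒜) (hmR : mR.toIdeal = Ideal.span (⋃ n ∈ Set.Ioi (0 : ℤ), (𝒜 n : Set R))) (hstdR : Ideal.span (⋃ n ∈ Set.Ioi (0 : ℤ), (𝒜 n : Set R)) = Ideal.span ((𝒜 1 : Submodule k R) : Set R)) (I : GrLC.StarInjRes 𝒜 𝒜) (mS : HomogeneousIdeal ℬ) (hmS : mS.toIdeal = Ideal.span (⋃ n ∈ Set.Ioi (0 : ℤ), (ℬ n : Set S))) (hstdS : Ideal.span (⋃ n ∈ Set.Ioi (0 : ℤ), (ℬ n : Set S)) = Ideal.span ((ℬ 1 : Submodule k S) : Set S)) (J : GrLC.StarInjRes ℬ ℬ) (r s : ℕ) (hr : ringKrullDim R = r) (hs : ringKrullDim S = s) (h2r : 2 ≤ r) (h2s : 2 ≤ s) [LocCoh.IsGorensteinRing T] : LocCoh.IsGorensteinRing R ∧ LocCoh.IsGorensteinRing S ∧ GrLC.endDeg (I.Hgr mR r) = GrLC.endDeg (J.Hgr mS s) ∧ GrLC.endDeg (I.Hgr mR r) < 0 := by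
  classical
  haveI : Nontrivial R := by
    by_contra h
    rw [not_nontrivial_iff_subsingleton] at h
    rw [ringKrullDim_eq_bot_of_subsingleton] at hr
    exact absurd hr.symm WithBot.coe_ne_bot
  haveI : Nontrivial S := by
    by_contra h
    rw [not_nontrivial_iff_subsingleton] at h
    rw [ringKrullDim_eq_bot_of_subsingleton] at hs
    exact absurd hs.symm WithBot.coe_ne_bot
  haveI : IsNoetherianRing R := Algebra.FiniteType.isNoetherianRing k R
  haveI : IsNoetherianRing S := Algebra.FiniteType.isNoetherianRing k S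
  obtain rfl := eq_irr hmR
  obtain rfl := eq_irr hmS
  have hT : GrSeg.IsSegreRing 𝒜 ℬ 𝒯 ψ := ⟨hψ, hdegT⟩
  haveI := seg_nontrivial ψ
  haveI := seg_finiteType hT hposR h0R h0S
  haveI : IsNoetherianRing T := Algebra.FiniteType.isNoetherianRing k T
  haveI : IsNoetherian T T := inferInstance
  haveI hTcm : LocCoh.IsCohenMacaulayRing T := Groth.L13.Liaison.isCohenMacaulayRing_of_gorenstein T
  have hposT : ∀ n : ℤ, n < 0 → 𝒯 n = ⊥ := fun n hn => (Submodule.eq_bot_iff _).2 (seg_pos hT hposR n hn)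
  have h0T := seg_deg0 hT h0R h0S
  have hr' : Module.supportDim R R = r := by rw [Module.supportDim_self_eq_ringKrullDim, hr]
  have hs' : Module.supportDim S S = s := by rw [Module.supportDim_self_eq_ringKrullDim, hs]
  have hdT : ringKrullDim T = ((r + s - 1 : ℕ) : WithBot ℕ∞) := by
    rw [← Module.supportDim_self_eq_ringKrullDim,
      seg_supportDim_cm hposR h0R hposS h0S hT (isSegreMod_self 𝒜 ℬ 𝒯 hT) (r := r) (s := s) (by omega) (by omega) hr' hs'
        (isCMRing_iff.1 ‹_›) (isCMRing_iff.1 ‹_›)]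
  have hvan := (seg_cm_iff_two hposR h0R hposS h0S hT (isSegreMod_self 𝒜 ℬ 𝒯 hT) (mR := irr 𝒜) rfl (mS := irr ℬ) rfl
    I J h2r h2s hr' hs' (isCMRing_iff.1 ‹_›) (isCMRing_iff.1 ‹_›)).1 (isCMRing_iff.1 hTcm)
  haveI : ∀ d, Module.Finite k (Hk I (irr 𝒜) r d) := fun d => finite_Hk I _ h0R rfl r d
  haveI : ∀ d, Module.Finite k (Hk J (irr ℬ) s d) := fun d => finite_Hk J _ h0S rfl s d
  haveI : ∀ d, Module.Finite k (𝒜 d) := fun d => finite_piece (𝒜 := 𝒜) h0R d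
  haveI : ∀ d, Module.Finite k (ℬ d) := fun d => finite_piece (𝒜 := ℬ) h0S d
  obtain ⟨EP⟩ := nonempty_starInjRes 𝒯 𝒯
  obtain ⟨a, haT⟩ := exists_endDeg hposT h0T hdT EP
  obtain ⟨fT, uT⟩ := gorenstein_pairing hposT h0T hdT EP haT
  obtain ⟨i, hi⟩ : ∃ i, r = i + 2 := ⟨r - 2, by omega⟩
  obtain ⟨j, hj⟩ : ∃ j, s = j + 2 := ⟨s - 2, by omega⟩
  subst hi hj
  obtain ⟨Φ, hΦ⟩ := exists_segre_top (isSegreMod_self 𝒜 ℬ 𝒯 hT) hT hposR hposS h0R h0S (mR := irr 𝒜) rfl
    (mS := irr ℬ) rfl (mT := irr 𝒯) rfl I J EP i j (fun p hp d => Hk_eq_bot_of_dim_lt I hr'.le hp d)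
    (fun q hq d => Hk_eq_bot_of_dim_lt J hs'.le hq d)
  have hn : i + 2 + (j + 2) - 1 = i + j + 3 := by omega
  rw [hn] at fT uT
  letI := (Hgr_isInternal (irr 𝒜) I (i + 2)).chooseDecomposition
  letI := (Hgr_isInternal (irr ℬ) J (j + 2)).chooseDecomposition
  letI := (Hgr_isInternal (irr 𝒯) EP (i + j + 3)).chooseDecomposition
  haveI : SetLike.GradedSMul 𝒜 (I.Hgr (irr 𝒜) (i + 2)) := ⟨fun {_ _ _ _} hr hx => smul_mem_Hgr I _ _ hr hx⟩
  haveI : SetLike.GradedSMul ℬ (J.Hgr (irr ℬ) (j + 2)) := ⟨fun {_ _ _ _} hr hx => smul_mem_Hgr J _ _ hr hx⟩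
  haveI : SetLike.GradedSMul 𝒯 (EP.Hgr (irr 𝒯) (i + j + 3)) := ⟨fun {_ _ _ _} hr hx => smul_mem_Hgr EP _ _ hr hx⟩
  have form : ∀ g, Module.finrank k (Hk I (irr 𝒜) (i + 2) g) * Module.finrank k (Hk J (irr ℬ) (j + 2) g) =
      Module.finrank k (𝒜 (a - g)) * Module.finrank k (ℬ (a - g)) := fun g => by
    have h := finrank_seg_piece (𝒜 := 𝒜) (ℬ := ℬ) (𝒯 := 𝒯) hΦ g
    rw [show pieceK 𝒯 (EP.Hgr (irr 𝒯) (i + j + 3)) g = Hk EP (irr 𝒯) (i + j + 3) g from Submodule.ext fun x => mem_pieceK _,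
      show pieceK 𝒜 (I.Hgr (irr 𝒜) (i + 2)) g = Hk I (irr 𝒜) (i + 2) g from Submodule.ext fun x => mem_pieceK _,
      show pieceK ℬ (J.Hgr (irr ℬ) (j + 2)) g = Hk J (irr ℬ) (j + 2) g from Submodule.ext fun x => mem_pieceK _] at h
    rw [← h, fT, finrank_segRing hT]
  obtain ⟨hoR, hoS⟩ : Module.finrank k (Hk I (irr 𝒜) (i + 2) a) = 1 ∧ Module.finrank k (Hk J (irr ℬ) (j + 2) a) = 1 := by
    have h := form a
    rw [sub_self, h0R, h0S, finrank_span_singleton one_ne_zero, finrank_span_singleton one_ne_zero] at h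
    exact mul_eq_one.1 h
  have hneR : ∀ g ≤ a, Hk I (irr 𝒜) (i + 2) g ≠ ⊥ := fun g hg =>
    top_ne_bot_down hposR h0R hr (by omega) I hstdR hg fun h => by rw [h, finrank_bot] at hoR; exact zero_ne_one hoR
  have hneS : ∀ g ≤ a, Hk J (irr ℬ) (j + 2) g ≠ ⊥ := fun g hg =>
    top_ne_bot_down hposS h0S hs (by omega) J hstdS hg fun h => by rw [h, finrank_bot] at hoS; exact zero_ne_one hoS
  have kill : ∀ g, ∀ x ∈ I.Hgr (irr 𝒜) (i + 2) g, ∀ y ∈ J.Hgr (irr ℬ) (j + 2) g,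
      ((∀ c ∈ 𝒜 (a - g), c • x = 0) ∨ ∀ e ∈ ℬ (a - g), e • y = 0) → x ⊗ₜ[k] y = 0 := fun g x hx y hy hor => by
    obtain ⟨p, hp, hpz⟩ := seg_exists (I.Hgr (irr 𝒜) (i + 2)) (J.Hgr (irr ℬ) (j + 2)) hΦ
      (Submodule.subset_span ⟨x, hx, y, hy, rfl⟩ : x ⊗ₜ[k] y ∈ GrSeg.segrePiece k (I.Hgr (irr 𝒜) (i + 2)) (J.Hgr (irr ℬ) (j + 2)) g)
    rw [← hpz, uT g p hp fun t ht => hΦ.injective ?_, map_zero]
    rw [hΦ.map_smul, hpz, map_zero]
    have hz : ψ t ∈ GrSeg.segrePiece k 𝒜 ℬ (a - g) := (hT.2 _).le ⟨t, ht, rfl⟩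
    generalize ψ t = z at hz ⊢
    induction hz using Submodule.span_induction with
    | mem z hz =>
      obtain ⟨c, hc, e, he, rfl⟩ := hz
      rw [GrSeg.act_tmul]
      rcases hor with h | h
      · rw [h c hc, TensorProduct.zero_tmul]
      · rw [h e he, TensorProduct.tmul_zero]
    | zero => simp
    | add u v _ _ hu hv => rw [map_add, LinearMap.add_apply, hu, hv, add_zero]
    | smul c u _ hu => rw [map_smul, LinearMap.smul_apply, hu, smul_zero]
  have tne : ∀ {X Y : Type u} [AddCommGroup X] [Module k X] [AddCommGroup Y] [Module k Y] (x : X) (y : Y),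
      x ⊗ₜ[k] y = 0 → x = 0 ∨ y = 0 := fun {X Y} _ _ _ _ x y h => by
    by_contra hne
    rw [not_or] at hne
    obtain ⟨φ, hφ⟩ : ∃ φ : Y →ₗ[k] k, φ y ≠ 0 := by
      by_contra! hall
      exact hne.2 ((Module.forall_dual_apply_eq_zero_iff k y).1 hall)
    have h1 := congrArg (TensorProduct.rid k X ∘ₗ TensorProduct.map LinearMap.id φ : TensorProduct k X Y →ₗ[k] X) h
    simp [hφ] at h1
    exact hne.1 h1
  have uR : ∀ g ≤ a, ∀ x ∈ I.Hgr (irr 𝒜) (i + 2) g, (∀ c ∈ 𝒜 (a - g), c • x = 0) → x = 0 := fun g hg x hx h => by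
    obtain ⟨y, hy, hy0⟩ := Submodule.exists_mem_ne_zero_of_ne_bot (hneS g hg)
    exact (tne x y (kill g x hx y hy (Or.inl h))).resolve_right hy0
  have uS : ∀ g ≤ a, ∀ y ∈ J.Hgr (irr ℬ) (j + 2) g, (∀ c ∈ ℬ (a - g), c • y = 0) → y = 0 := fun g hg y hy h => by
    obtain ⟨x, hx, hx0⟩ := Submodule.exists_mem_ne_zero_of_ne_bot (hneR g hg)
    exact (tne x y (kill g x hx y hy (Or.inr h))).resolve_left hx0
  have hdims : ∀ g ≤ a, Module.finrank k (Hk I (irr 𝒜) (i + 2) g) = Module.finrank k (𝒜 (a - g)) ∧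
      Module.finrank k (Hk J (irr ℬ) (j + 2) g) = Module.finrank k (ℬ (a - g)) := fun g hg => by
    obtain ⟨-, -, -, l1⟩ := pairing_le h0R I hoR (uR g hg)
    obtain ⟨-, -, -, l2⟩ := pairing_le h0S J hoS (uS g hg)
    have p1 : 0 < Module.finrank k (Hk I (irr 𝒜) (i + 2) g) :=
      Nat.pos_of_ne_zero fun h => hneR g hg (Submodule.finrank_eq_zero.1 h)
    have p2 : 0 < Module.finrank k (Hk J (irr ℬ) (j + 2) g) :=
      Nat.pos_of_ne_zero fun h => hneS g hg (Submodule.finrank_eq_zero.1 h)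
    have h := form g
    refine ⟨le_antisymm l1 (le_of_not_gt fun hlt => ?_), le_antisymm l2 (le_of_not_gt fun hlt => ?_)⟩
    · exact absurd h (Nat.mul_lt_mul_of_lt_of_le hlt l2 (p2.trans_le l2)).ne
    · exact absurd h (Nat.mul_lt_mul_of_le_of_lt l1 hlt (p1.trans_le l1)).ne
  obtain ⟨gR, eR⟩ := gorenstein_of_below hposR h0R hr (by omega) I hstdR h2r a hoR fun g hg => ⟨uR g hg, (hdims g hg).1⟩
  obtain ⟨gS, eS⟩ := gorenstein_of_below hposS h0S hs (by omega) J hstdS h2s a hoS fun g hg => ⟨uS g hg, (hdims g hg).2⟩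
  refine ⟨gR, gS, eR.trans eS.symm, ?_⟩
  have ha : a < 0 := by
    by_contra hge
    rcases (hvan a).1 with h | h
    · have h' : 𝒜 a = ⊥ := by rwa [show pieceK 𝒜 𝒜 a = 𝒜 a from Submodule.ext fun x => mem_pieceK 𝒜] at h
      exact piece_ne_bot hposR h0R hstdR hr (by omega) (by omega) h'
    · rw [h, finrank_bot] at hoS
      exact zero_ne_one hoS
  rw [eR]
  exact_mod_cast ha

end Groth.Agent.S18649
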