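import Groth.Statements.S18654
import Groth.Agent.L12.GrLCType
import Groth.Agent.L12.GrLCVerGor
import Mathlib.Algebra.Polynomial.AlgebraMap
-- import your own Groth.Agent.* helpers here

set_option autoImplicit false
universe u
open GrLC

namespace Groth.Agent.S18654

open Groth.L12.GrLCLib

/-- Let R be a graded ring defined over a field k = R_0 which is Cohen–Macaulay and generated over k by
R_1, with dim R ≥ 1, and write H(n, R) = dim_k R_n. Then H(n + 1, R) ≥ H(n, R) for every integer n.
Here 'graded ring defined over a field' means R = ⊕_{n ≥ 0} R_n is Noetherian with R_0 a field, and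
m = R_+ is its unique graded maximal ideal. -/
theorem result (R : Type u) [CommRing R] [LocCoh.IsCohenMacaulayRing R] (𝒜 : ℤ → AddSubgroup R) [GradedRing 𝒜] (hpos : ∀ n : ℤ, n < 0 → 𝒜 n = ⊥) (h0 : IsField (GrLC.deg0 𝒜)) (hstd : Ideal.span (⋃ n ∈ Set.Ioi (0 : ℤ), (𝒜 n : Set R)) = Ideal.span ((𝒜 1 : AddSubgroup R) : Set R)) (h1 : 1 ≤ ringKrullDim R) (n : ℤ) : Module.finrank (GrLC.deg0 𝒜) (GrLC.comp 𝒜 𝒜 n) ≤ Module.finrank (GrLC.deg0 𝒜) (GrLC.comp 𝒜 𝒜 (n + 1)) := by
  classical
  letI : Field (GrLC.deg0 𝒜) := h0.toField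
  have hfin : ∀ g, Module.Finite (GrLC.deg0 𝒜) (GrLC.comp 𝒜 𝒜 g) := fun g => by
    haveI := isNoetherian_comp (𝒜 := 𝒜) 𝒜 g
    exact Module.IsNoetherian.finite _ _
  haveI := hfin n
  haveI := hfin (n + 1)
  haveI := hfin 1
  let m := posIdeal 𝒜
  have hm : GrLC.IsStarLocal 𝒜 m := posIdeal_isStarLocal hpos h0
  have hdim := ringKrullDim_eq_height_starLocal hpos hm
  obtain ⟨d, hd⟩ := ENat.ne_top_iff_exists.1 (Ideal.height_ne_top (starLocal_ne_top hm))
  rw [← hd] at hdim
  rw [hdim] at h1
  have hd1 : 1 ≤ d := by exact_mod_cast h1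
  obtain ⟨I⟩ := nonempty_starInjRes 𝒜 𝒜
  haveI hsub : Subsingleton (I.H m 0) := subsingleton_of_forall_eq 0 fun z => by
    letI := (Hgr_isInternal m I 0).chooseDecomposition
    refine eq_zero_of_cp (I.Hgr m 0) fun g => ?_
    have h1 := cp_mem (I.Hgr m 0) g z
    rwa [van_below_dim hpos hm hdim (show 0 < d by omega) g I, AddSubgroup.mem_bot] at h1
  obtain ⟨e, -⟩ := exists_H0_equiv m I
  -- a polynomial with all of `R_1` as coefficients
  obtain ⟨r, x, hx⟩ := Submodule.fg_iff_exists_fin_generating_family.1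
    (Module.Finite.fg_top (R := GrLC.deg0 𝒜) (M := GrLC.comp 𝒜 𝒜 1))
  let L : Polynomial R := ∑ i : Fin r, Polynomial.monomial i.1 ((x i : GrLC.comp 𝒜 𝒜 1) : R)
  have hLmem : ∀ a, L.coeff a ∈ 𝒜 1 := fun a => by
    simp only [L, Polynomial.finsetSum_coeff, Polynomial.coeff_monomial]
    refine sum_mem fun i _ => ?_
    split_ifs
    · exact (x i).2
    · exact zero_mem _
  have hLdeg : ∀ a, r ≤ a → L.coeff a = 0 := fun a ha => by
    simp only [L, Polynomial.finsetSum_coeff, Polynomial.coeff_monomial]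
    exact Finset.sum_eq_zero fun i _ => if_neg (by have := i.2; omega)
  have hLreg : L ∈ nonZeroDivisors (Polynomial R) := by
    by_contra hL
    obtain ⟨c, hc0, hc⟩ := Polynomial.notMem_nonZeroDivisors_iff.1 hL
    have hcx : ∀ i : Fin r, c * ((x i : GrLC.comp 𝒜 𝒜 1) : R) = 0 := fun i => by
      have h2 := congrArg (fun P => Polynomial.coeff P i.1) hc
      simp only [Polynomial.coeff_smul, Polynomial.coeff_zero, smul_eq_mul, L, Polynomial.finsetSum_coeff,
        Polynomial.coeff_monomial] at h2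
      rwa [Finset.sum_eq_single i (fun b _ hb => if_neg fun e => hb (Fin.ext e)) (fun hi => absurd (Finset.mem_univ i) hi),
        if_pos rfl] at h2
    have hc1 : ∀ y ∈ 𝒜 1, c * y = 0 := fun y hy => by
      have hy' : (⟨y, hy⟩ : GrLC.comp 𝒜 𝒜 1) ∈ Submodule.span (GrLC.deg0 𝒜) (Set.range x) := hx ▸ Submodule.mem_top
      obtain ⟨w, hw⟩ := (Submodule.mem_span_range_iff_exists_fun _).1 hy'
      have h2 := congrArg (GrLC.comp 𝒜 𝒜 1).subtype hw
      simp only [map_sum, map_smul, Submodule.coe_subtype] at h2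
      rw [← h2, Finset.mul_sum]
      refine Finset.sum_eq_zero fun i _ => ?_
      change c * ((w i : R) * ((x i : GrLC.comp 𝒜 𝒜 1) : R)) = 0
      rw [mul_left_comm, hcx, mul_zero]
    have hcgam : c ∈ GrLC.gam m.toIdeal R := by
      refine ⟨1, fun y hy => ?_⟩
      rw [pow_one] at hy
      change y ∈ Ideal.span (⋃ n ∈ Set.Ioi (0 : ℤ), (𝒜 n : Set R)) at hy
      rw [hstd] at hy
      induction hy using Submodule.span_induction with
      | mem y hy => rw [smul_eq_mul, mul_comm]; exact hc1 y hy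
      | zero => rw [zero_smul]
      | add a b _ _ ha hb => rw [add_smul, ha, hb, add_zero]
      | smul t a _ ha => rw [smul_eq_mul, smul_eq_mul, mul_assoc, ← smul_eq_mul a c, ha, mul_zero]
    exact hc0 (congrArg Subtype.val (e.injective (Subsingleton.elim (e ⟨c, hcgam⟩) (e 0))))
  -- the comparison
  let V := GrLC.comp 𝒜 𝒜 n
  let W := GrLC.comp 𝒜 𝒜 (n + 1)
  let N : ℕ := r * Module.finrank (GrLC.deg0 𝒜) W + 1
  let P : (Fin N → V) → Polynomial R := fun v => ∑ i : Fin N, Polynomial.monomial i.1 ((v i : V) : R)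
  have hPmem : ∀ v b, (P v).coeff b ∈ 𝒜 n := fun v b => by
    simp only [P, Polynomial.finsetSum_coeff, Polynomial.coeff_monomial]
    refine sum_mem fun i _ => ?_
    split_ifs
    · exact (v i).2
    · exact zero_mem _
  have hPdeg : ∀ v b, N ≤ b → (P v).coeff b = 0 := fun v b hb => by
    simp only [P, Polynomial.finsetSum_coeff, Polynomial.coeff_monomial]
    exact Finset.sum_eq_zero fun i _ => if_neg (by have := i.2; omega)
  have hmem : ∀ v j, (L * P v).coeff j ∈ 𝒜 (n + 1) := fun v j => by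
    rw [Polynomial.coeff_mul]
    refine sum_mem fun p _ => ?_
    have h2 := SetLike.mul_mem_graded (hLmem p.1) (hPmem v p.2)
    rwa [add_comm] at h2
  have hPadd : ∀ v w, P (v + w) = P v + P w := fun v w => by
    simp only [P, Pi.add_apply, Submodule.coe_add, map_add, Finset.sum_add_distrib]
  have hPsmul : ∀ (c : GrLC.deg0 𝒜) v, P (c • v) = Polynomial.C (c : R) * P v := fun c v => by
    simp only [P, Finset.mul_sum, Polynomial.C_mul_monomial]
    rfl
  let Φ : (Fin N → V) →ₗ[GrLC.deg0 𝒜] (Fin (N + r) → W) :=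
    { toFun := fun v j => ⟨(L * P v).coeff j.1, hmem v j.1⟩
      map_add' := fun v w => funext fun j => Subtype.ext (by
        change (L * P (v + w)).coeff j.1 = (L * P v).coeff j.1 + (L * P w).coeff j.1
        rw [hPadd, mul_add, Polynomial.coeff_add])
      map_smul' := fun c v => funext fun j => Subtype.ext (by
        change (L * P (c • v)).coeff j.1 = (c : R) * (L * P v).coeff j.1
        rw [hPsmul, mul_left_comm, Polynomial.coeff_C_mul]) }
  have hΦ : Function.Injective Φ := (injective_iff_map_eq_zero Φ).2 fun v hv => by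
    have h2 : L * P v = 0 := Polynomial.ext fun j => by
      rw [Polynomial.coeff_zero]
      by_cases hj : j < N + r
      · exact congrArg Subtype.val (congrFun hv ⟨j, hj⟩)
      · rw [Polynomial.coeff_mul]
        refine Finset.sum_eq_zero fun p hp => ?_
        rw [Finset.mem_antidiagonal] at hp
        by_cases hp1 : r ≤ p.1
        · rw [hLdeg _ hp1, zero_mul]
        · rw [hPdeg v _ (by omega), mul_zero]
    have h3 : P v = 0 := hLreg.1 _ h2
    refine funext fun i => Subtype.ext ?_
    have h4 := congrArg (fun Q => Polynomial.coeff Q i.1) h3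
    simp only [P, Polynomial.finsetSum_coeff, Polynomial.coeff_monomial, Polynomial.coeff_zero] at h4
    rwa [Finset.sum_eq_single i (fun b _ hb => if_neg fun e => hb (Fin.ext e)) (fun hi => absurd (Finset.mem_univ i) hi),
      if_pos rfl] at h4
  have hle := LinearMap.finrank_le_finrank_of_injective hΦ
  rw [Module.finrank_pi_fintype, Module.finrank_pi_fintype, Finset.sum_const, Finset.sum_const, Finset.card_univ,
    Finset.card_univ, Fintype.card_fin, Fintype.card_fin, smul_eq_mul, smul_eq_mul] at hle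
  by_contra hlt
  rw [not_le] at hlt
  have h5 : N * (Module.finrank (GrLC.deg0 𝒜) W + 1) ≤ N * Module.finrank (GrLC.deg0 𝒜) V := Nat.mul_le_mul_left N hlt
  have h6 := h5.trans hle
  simp only [N, add_mul, mul_add, mul_one] at h6
  linarith

end Groth.Agent.S18654
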