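import Groth.Statements.S18656
import Groth.Agent.L12.GrLCAinv

set_option autoImplicit false
universe u
open GrLC

namespace Groth.Agent.S18656

open Groth.L12.GrLCLib

/-- Let R be a graded ring defined over a field k = R_0, generated over k by R_1, of dimension r ≥ 1,
and let a(R) be its a-invariant. Then the homogeneous piece H^r_m(R)_n is nonzero for every n ≤
a(R). Here 'graded ring defined over a field' means R = ⊕_{n ≥ 0} R_n is Noetherian with R_0 a
field, and m = R_+ is its unique graded maximal ideal. The a-invariant a(R) is the largest degree in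
which the graded local cohomology H^n_m(R) (n = dim R, m = R_+), computed from a *injective
resolution of R in the graded category, is nonzero. -/
theorem result (R : Type u) [CommRing R] [IsNoetherianRing R] (𝒜 : ℤ → AddSubgroup R) [GradedRing 𝒜] (hpos : ∀ n : ℤ, n < 0 → 𝒜 n = ⊥) (h0 : IsField (GrLC.deg0 𝒜)) (m : HomogeneousIdeal 𝒜) (hm : GrLC.IsStarLocal 𝒜 m) (hmsp : m.toIdeal = Ideal.span (⋃ n ∈ Set.Ioi (0 : ℤ), (𝒜 n : Set R))) (hstd : Ideal.span (⋃ n ∈ Set.Ioi (0 : ℤ), (𝒜 n : Set R)) = Ideal.span ((𝒜 1 : AddSubgroup R) : Set R)) (r : ℕ) (hr : ringKrullDim R = r) (h1 : 1 ≤ r) (I : GrLC.StarInjRes 𝒜 𝒜) (a : ℤ) (ha : GrLC.endDeg (I.Hgr m r) = ((a : WithTop ℤ) : WithBot (WithTop ℤ))) (n : ℤ) (hn : n ≤ a) : I.Hcomp m r n ≠ ⊥ := by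
  intro hbot
  have hH : ∀ (j : ℕ) (i : ℕ), r ≤ i → Van m 𝒜 i (n + j + (r : ℤ) - i) := by
    intro j
    induction j with
    | zero =>
      intro i hi
      rcases eq_or_lt_of_le hi with rfl | h
      · convert (hcomp_eq_bot_iff m I r n).1 hbot using 1
        push_cast
        ring
      · exact van_above_dim m hr.le h _
    | succ j ih =>
      intro i hi
      refine (koszul_chase m (hmsp.trans hstd) _).1 i (by omega) fun p => ?_
      convert ih (i + p) (by omega) using 1
      push_cast
      ring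
  have h2 : GrLC.endDeg (I.Hgr m r) ≤ (((a - 1 : ℤ) : WithTop ℤ) : WithBot (WithTop ℤ)) :=
    (endDeg_le_coe_iff _ _).2 fun g hg => (van_iff m I).1 (by
      have := hH (g - n).toNat r le_rfl
      rwa [Int.toNat_of_nonneg (by omega), add_sub_cancel_right, add_sub_cancel] at this)
  rw [ha, WithBot.coe_le_coe, WithTop.coe_le_coe] at h2
  omega

end Groth.Agent.S18656
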