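import Groth.Statements.S18657
import Groth.Agent.L12.GrLCTwo
import Groth.Agent.L12.GrLCCanonCor
-- import your own Groth.Agent.* helpers here

set_option autoImplicit false
universe u
open GrLC

namespace Groth.Agent.S18657

open Groth.L12.GrLCLib

/-- Let R be a graded ring defined over a field k = R_0 which is Cohen–Macaulay and generated over k by
R_1, of dimension r ≥ 2, with canonical module K_R and a-invariant a(R). Then dim_k (K_R)_n ≥ 2 for
every n > −a(R). Here 'graded ring defined over a field' means R = ⊕_{n ≥ 0} R_n is Noetherian with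
R_0 a field (so R is finitely generated over R_0), m = R_+ is its unique graded maximal ideal and n
= dim R; the canonical module K_R (the graded dual of H^n_m(R)) is represented by a finitely
generated graded module C together with a homogeneous isomorphism from Hom_R(C, E) onto H^n_m(R),
where E is a *injective envelope of R/m and H^n_m(R) is computed from a *injective resolution of R
in the graded category; by graded Matlis duality this says exactly that C ≅ K_R as graded modules.
The a-invariant a(R) is the largest degree in which the graded local cohomology H^n_m(R) (n = dim R,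
m = R_+), computed from a *injective resolution of R in the graded category, is nonzero. -/
theorem result (R : Type u) [CommRing R] [LocCoh.IsCohenMacaulayRing R] (𝒜 : ℤ → AddSubgroup R) [GradedRing 𝒜] (hpos : ∀ n : ℤ, n < 0 → 𝒜 n = ⊥) (h0 : IsField (GrLC.deg0 𝒜)) (m : HomogeneousIdeal 𝒜) (hm : GrLC.IsStarLocal 𝒜 m) (hmsp : m.toIdeal = Ideal.span (⋃ n ∈ Set.Ioi (0 : ℤ), (𝒜 n : Set R))) (hstd : Ideal.span (⋃ n ∈ Set.Ioi (0 : ℤ), (𝒜 n : Set R)) = Ideal.span ((𝒜 1 : AddSubgroup R) : Set R)) (n : ℕ) (hn : ringKrullDim R = n) (h2 : 2 ≤ n) (I : GrLC.StarInjRes 𝒜 𝒜) (a : ℤ) (ha : GrLC.endDeg (I.Hgr m n) = ((a : WithTop ℤ) : WithBot (WithTop ℤ))) (E' : Type u) [AddCommGroup E'] [Module R E'] (𝓔 : ℤ → AddSubgroup E') [DirectSum.Decomposition 𝓔] [SetLike.GradedSMul 𝒜 𝓔] (e : (R ⧸ m.toIdeal) →ₗ[R] E') (he : GrLC.IsStarInjHull 𝒜 (GrLC.quotGr 𝒜 m) 𝓔 e) (C : Type u) [AddCommGroup C] [Module R C] (𝒞 : ℤ → AddSubgroup C) [DirectSum.Decomposition 𝒞] [SetLike.GradedSMul 𝒜 𝒞] (hC : GrLC.IsStarCanonical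 𝒜 𝒞 𝓔 m n I) (j : ℤ) (hj : -a < j) : 2 ≤ Module.finrank (GrLC.deg0 𝒜) (GrLC.comp 𝒜 𝒞 j) := by
  classical
  have hX := isDual_of_hull hpos h0 hm he
  obtain ⟨F⟩ := nonempty_starInjRes 𝒜 𝒞
  obtain ⟨hlow, -⟩ := canonH_ring hpos h0 hm hmsp hX hn I hC F
  obtain ⟨hfin, φ, hφ⟩ := hC
  haveI := hfin
  letI := (Hgr_isInternal m I n).chooseDecomposition
  -- a nonzero element in degree at most `-a`
  obtain ⟨d, hd, c, hc, hc0⟩ : ∃ d : ℤ, d ≤ -a ∧ ∃ c ∈ 𝒞 d, c ≠ 0 := by
    have hne : I.Hgr m n a ≠ ⊥ := fun h => by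
      have h1 : GrLC.endDeg (I.Hgr m n) ≤ (((a - 1 : ℤ) : WithTop ℤ) : WithBot (WithTop ℤ)) :=
        (endDeg_le_coe_iff _ _).2 fun g hg => by
          rcases eq_or_lt_of_le (show a ≤ g by omega) with rfl | hlt
          · exact h
          · exact (endDeg_le_coe_iff (I.Hgr m n) a).1 ha.le g hlt
      rw [ha, WithBot.coe_le_coe, WithTop.coe_le_coe] at h1
      omega
    obtain ⟨z, hz, hz0⟩ : ∃ z ∈ I.Hgr m n a, z ≠ 0 := by
      by_contra hcon
      push Not at hcon
      exact hne ((AddSubgroup.eq_bot_iff_forall _).2 hcon)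
    have hψ : φ.symm z ∈ GrLC.homDeg 𝒜 𝒞 𝓔 a := mem_homDeg_of_map φ hφ (by rwa [φ.apply_symm_apply])
    by_contra hcon
    push Not at hcon
    refine hz0 (φ.symm.map_eq_zero_iff.1 (LinearMap.ext fun w => ?_))
    induction w using induction_on_hom 𝒞 with
    | h0 => simp
    | ha p q hp hq => rw [map_add, hp, hq]; simp
    | hh g w hw =>
      rw [LinearMap.zero_apply]
      by_cases hg : g ≤ -a
      · rw [hcon g hg w hw, map_zero]
      · refine hX.uniq (g + a) _ (hψ g w hw) fun b hb => ?_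
        rw [hpos _ (by omega), AddSubgroup.mem_bot] at hb
        rw [hb, zero_smul]
  exact two_le_finrank_comp hpos h0 hmsp hstd F (hlow 0 (by omega)) (hlow 1 (by omega)) (lt_of_le_of_lt hd hj) hc hc0

end Groth.Agent.S18657
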