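import Groth.Statements.S18659
import Groth.Agent.L12.GrSegGorTop
import Groth.Agent.L13.LiaisonBasic

set_option autoImplicit false
universe u
open scoped TensorProduct
open GrSegre

open Groth.L12.GrLCLib Groth.L12.GrSegLib
open scoped KMod

namespace Groth.Agent.S18659

/-- Let R and S be graded rings defined over a field k which are Gorenstein, of dimensions r ≥ 2 and s ≥
2, with a(R) = a(S). If the Segre product T = R # S is a Cohen–Macaulay ring, then T is a Gorenstein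
ring. (No generation in degree one is assumed here.) Here a graded ring defined over k is a
commutative k-algebra of finite type, graded in nonnegative degrees by k-subspaces with degree-zero
part k·1; the a-invariant a(R) is the largest degree in which the graded local cohomology H^{dim
R}_{R_+}(R), computed from a *injective resolution of R in the graded category, is nonzero; the
Segre product T = ⊕_n R_n ⊗_k S_n is presented abstractly as a graded k-algebra T with an injective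
k-algebra homomorphism ψ : T → R ⊗_k S carrying T_n onto the k-span of the elementary tensors a ⊗ b
with a ∈ R_n, b ∈ S_n. -/
theorem result (k : Type u) [Field k] (R : Type u) [CommRing R] [Algebra k R] (𝒜 : ℤ → Submodule k R) [GradedAlgebra 𝒜] (hposR : ∀ n : ℤ, n < 0 → 𝒜 n = ⊥) (h0R : 𝒜 0 = Submodule.span k {(1 : R)}) [Algebra.FiniteType k R] (S : Type u) [CommRing S] [Algebra k S] (ℬ : ℤ → Submodule k S) [GradedAlgebra ℬ] (hposS : ∀ n : ℤ, n < 0 → ℬ n = ⊥) (h0S : ℬ 0 = Submodule.span k {(1 : S)}) [Algebra.FiniteType k S] (T : Type u) [CommRing T] [Algebra k T] (𝒯 : ℤ → Submodule k T) [GradedAlgebra 𝒯] (ψ : T →ₐ[k] TensorProduct k R S) (hψ : Function.Injective ψ) (hdegT : ∀ n : ℤ, (𝒯 n).map ψ.toLinearMap = Submodule.span k {x : TensorProduct k R S | ∃ a ∈ 𝒜 n, ∃ b ∈ ℬ n, x = a ⊗ₜ[k] b}) [LocCoh.IsGorensteinRing R] [LocCoh.IsGorensteinRing S] (mR : HomogeneousIdeal 𝒜) (hmR : mR.toIdeal = Ideal.span (⋃ n ∈ Set.Ioi (0 : ℤ), (𝒜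 n : Set R))) (I : GrLC.StarInjRes 𝒜 𝒜) (mS : HomogeneousIdeal ℬ) (hmS : mS.toIdeal = Ideal.span (⋃ n ∈ Set.Ioi (0 : ℤ), (ℬ n : Set S))) (J : GrLC.StarInjRes ℬ ℬ) (r s : ℕ) (hr : ringKrullDim R = r) (hs : ringKrullDim S = s) (h2r : 2 ≤ r) (h2s : 2 ≤ s) (haeq : GrLC.endDeg (I.Hgr mR r) = GrLC.endDeg (J.Hgr mS s)) [LocCoh.IsCohenMacaulayRing T] : LocCoh.IsGorensteinRing T := by
  classical
  haveI : Nontrivial R := by
    by_contra h
    rw [not_nontrivial_iff_subsingleton] at h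
    rw [ringKrullDim_eq_bot_of_subsingleton] at hr
    exact absurd hr.symm WithBot.coe_ne_bot
  haveI : Nontrivial S := by
    by_contra h
    rw [not_nontrivial_iff_subsingleton] at h
    rw [ringKrullDim_eq_bot_of_subsingleton] at hs
    exact absurd hs.symm WithBot.coe_ne_bot
  haveI : LocCoh.IsCohenMacaulayRing R := Groth.L13.Liaison.isCohenMacaulayRing_of_gorenstein R
  haveI : LocCoh.IsCohenMacaulayRing S := Groth.L13.Liaison.isCohenMacaulayRing_of_gorenstein S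
  haveI : IsNoetherianRing R := Algebra.FiniteType.isNoetherianRing k R
  haveI : IsNoetherianRing S := Algebra.FiniteType.isNoetherianRing k S
  obtain rfl := eq_irr hmR
  obtain rfl := eq_irr hmS
  obtain ⟨a, ha⟩ := exists_endDeg hposR h0R hr I
  obtain ⟨fR, uR⟩ := gorenstein_pairing hposR h0R hr I ha
  obtain ⟨fS, uS⟩ := gorenstein_pairing hposS h0S hs J (haeq.symm.trans ha)
  have hT : GrSeg.IsSegreRing 𝒜 ℬ 𝒯 ψ := ⟨hψ, hdegT⟩
  haveI := seg_nontrivial ψ
  haveI := seg_finiteType hT hposR h0R h0S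
  haveI : IsNoetherianRing T := Algebra.FiniteType.isNoetherianRing k T
  haveI : IsNoetherian T T := inferInstance
  have hposT : ∀ n : ℤ, n < 0 → 𝒯 n = ⊥ := fun n hn => (Submodule.eq_bot_iff _).2 (seg_pos hT hposR n hn)
  have h0T := seg_deg0 hT h0R h0S
  rw [← Module.supportDim_self_eq_ringKrullDim] at hr hs
  have hdT : ringKrullDim T = ((r + s - 1 : ℕ) : WithBot ℕ∞) := by
    rw [← Module.supportDim_self_eq_ringKrullDim,
      seg_supportDim_cm hposR h0R hposS h0S hT (isSegreMod_self 𝒜 ℬ 𝒯 hT) (r := r) (s := s) (by omega) (by omega) hr hs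
        (isCMRing_iff.1 ‹_›) (isCMRing_iff.1 ‹_›)]
  obtain ⟨EP⟩ := nonempty_starInjRes 𝒯 𝒯
  obtain ⟨i, rfl⟩ : ∃ i, r = i + 2 := ⟨r - 2, by omega⟩
  obtain ⟨j, rfl⟩ : ∃ j, s = j + 2 := ⟨s - 2, by omega⟩
  obtain ⟨Φ, hΦ⟩ := exists_segre_top (isSegreMod_self 𝒜 ℬ 𝒯 hT) hT hposR hposS h0R h0S (mR := irr 𝒜) rfl
    (mS := irr ℬ) rfl (mT := irr 𝒯) rfl I J EP i j (fun p hp d => Hk_eq_bot_of_dim_lt I hr.le hp d)
    (fun q hq d => Hk_eq_bot_of_dim_lt J hs.le hq d)
  rw [show i + 2 + (j + 2) - 1 = i + j + 3 by omega] at hdT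
  letI := (Hgr_isInternal (irr 𝒜) I (i + 2)).chooseDecomposition
  letI := (Hgr_isInternal (irr ℬ) J (j + 2)).chooseDecomposition
  letI := (Hgr_isInternal (irr 𝒯) EP (i + j + 3)).chooseDecomposition
  haveI : SetLike.GradedSMul 𝒜 (I.Hgr (irr 𝒜) (i + 2)) := ⟨fun {_ _ _ _} hr hx => smul_mem_Hgr I _ _ hr hx⟩
  haveI : SetLike.GradedSMul ℬ (J.Hgr (irr ℬ) (j + 2)) := ⟨fun {_ _ _ _} hr hx => smul_mem_Hgr J _ _ hr hx⟩
  haveI : SetLike.GradedSMul 𝒯 (EP.Hgr (irr 𝒯) (i + j + 3)) := ⟨fun {_ _ _ _} hr hx => smul_mem_Hgr EP _ _ hr hx⟩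
  refine gorenstein_of_pairing hposT h0T hdT EP a (fun g => ?_) fun g x hx hkill => ?_
  · have h := finrank_seg_piece (𝒜 := 𝒜) (ℬ := ℬ) (𝒯 := 𝒯) hΦ g
    rw [show pieceK 𝒯 (EP.Hgr (irr 𝒯) (i + j + 3)) g = Hk EP (irr 𝒯) (i + j + 3) g from Submodule.ext fun x => mem_pieceK _,
      show pieceK 𝒜 (I.Hgr (irr 𝒜) (i + 2)) g = Hk I (irr 𝒜) (i + 2) g from Submodule.ext fun x => mem_pieceK _,
      show pieceK ℬ (J.Hgr (irr ℬ) (j + 2)) g = Hk J (irr ℬ) (j + 2) g from Submodule.ext fun x => mem_pieceK _] at h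
    rw [h, fR, fS, finrank_segRing hT]
  · exact seg_kill hT hΦ g (a - g) (uR g) (uS g) hx hkill

end Groth.Agent.S18659
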