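import Groth.Statements.S18660
import Groth.Agent.L12.GrSegGorOne
import Groth.Agent.L21.GorensteinAscend

set_option autoImplicit false
universe u
open scoped TensorProduct
open GrSegre

open Groth.L12.GrLCLib Groth.L12.GrSegLib
open scoped KMod

namespace Groth.Agent.S18660

/-- Let R and S be standard graded rings defined over a field k which are Cohen–Macaulay of dimension 1,
and assume R is not a polynomial ring over k. If the Segre product T = R # S is a Gorenstein ring,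
then S is a polynomial ring k[T] and R is a Gorenstein ring. Here a graded ring defined over k is a
commutative k-algebra of finite type, graded in nonnegative degrees by k-subspaces with degree-zero
part k·1, standard graded when its irrelevant ideal is generated by the degree-one piece;
'polynomial ring' means k-algebra isomorphic to k[T]; the Segre product T = ⊕_n R_n ⊗_k S_n is
presented abstractly as a graded k-algebra T with an injective k-algebra homomorphism ψ : T → R ⊗_k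
S carrying T_n onto the k-span of the elementary tensors a ⊗ b with a ∈ R_n, b ∈ S_n. -/
theorem result (k : Type u) [Field k] (R : Type u) [CommRing R] [Algebra k R] (𝒜 : ℤ → Submodule k R) [GradedAlgebra 𝒜] (hposR : ∀ n : ℤ, n < 0 → 𝒜 n = ⊥) (h0R : 𝒜 0 = Submodule.span k {(1 : R)}) [Algebra.FiniteType k R] (S : Type u) [CommRing S] [Algebra k S] (ℬ : ℤ → Submodule k S) [GradedAlgebra ℬ] (hposS : ∀ n : ℤ, n < 0 → ℬ n = ⊥) (h0S : ℬ 0 = Submodule.span k {(1 : S)}) [Algebra.FiniteType k S] (T : Type u) [CommRing T] [Algebra k T] (𝒯 : ℤ → Submodule k T) [GradedAlgebra 𝒯] (ψ : T →ₐ[k] TensorProduct k R S) (hψ : Function.Injective ψ) (hdegT : ∀ n : ℤ, (𝒯 n).map ψ.toLinearMap = Submodule.span k {x : TensorProduct k R S | ∃ a ∈ 𝒜 n, ∃ b ∈ ℬ n, x = a ⊗ₜ[k] b}) [LocCoh.IsCohenMacaulayRing R] [LocCoh.IsCohenMacaulayRing S] (hstdR : Ideal.span (⋃ n ∈ Set.Ioi (0 : ℤ), (𝒜 n : Set R)) = Ideal.span ((𝒜 1 : Submodule k R) : Set R)) (hstdS : Ideal.span (⋃ n ∈ Set.Ioi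 (0 : ℤ), (ℬ n : Set S)) = Ideal.span ((ℬ 1 : Submodule k S) : Set S)) (hr : ringKrullDim R = 1) (hs : ringKrullDim S = 1) (hR : IsEmpty (R ≃ₐ[k] Polynomial k)) [LocCoh.IsGorensteinRing T] : Nonempty (S ≃ₐ[k] Polynomial k) ∧ LocCoh.IsGorensteinRing R := by
  classical
  haveI : Nontrivial R := by
    by_contra h
    rw [not_nontrivial_iff_subsingleton] at h
    rw [ringKrullDim_eq_bot_of_subsingleton] at hr
    exact absurd hr.symm WithBot.coe_ne_bot
  haveI : Nontrivial S := by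
    by_contra h
    rw [not_nontrivial_iff_subsingleton] at h
    rw [ringKrullDim_eq_bot_of_subsingleton] at hs
    exact absurd hs.symm WithBot.coe_ne_bot
  haveI : IsNoetherianRing R := Algebra.FiniteType.isNoetherianRing k R
  haveI : IsNoetherianRing S := Algebra.FiniteType.isNoetherianRing k S
  have hT : GrSeg.IsSegreRing 𝒜 ℬ 𝒯 ψ := ⟨hψ, hdegT⟩
  haveI := seg_nontrivial ψ
  haveI := seg_finiteType hT hposR h0R h0S
  haveI : IsNoetherianRing T := Algebra.FiniteType.isNoetherianRing k T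
  have hposT : ∀ n : ℤ, n < 0 → 𝒯 n = ⊥ := fun n hn => (Submodule.eq_bot_iff _).2 (seg_pos hT hposR n hn)
  have h0T := seg_deg0 hT h0R h0S
  have hdR : Module.supportDim R R = (1 : ℕ) := by rw [Module.supportDim_self_eq_ringKrullDim, hr]; rfl
  have hdS : Module.supportDim S S = (1 : ℕ) := by rw [Module.supportDim_self_eq_ringKrullDim, hs]; rfl
  haveI := seg_gradedSMul 𝒜 ℬ 𝒜 ℬ (isSegreMod_self 𝒜 ℬ 𝒯 hT) hT
  haveI : IsNoetherian T T := inferInstance
  have hdT : ringKrullDim T = (1 : ℕ) := by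
    rw [← Module.supportDim_self_eq_ringKrullDim,
      seg_supportDim_cm hposR h0R hposS h0S hT (isSegreMod_self 𝒜 ℬ 𝒯 hT) le_rfl le_rfl hdR hdS
        (isCMRing_iff.1 ‹_›) (isCMRing_iff.1 ‹_›)]
  obtain ⟨EM⟩ := nonempty_starInjRes 𝒜 𝒜
  obtain ⟨EN⟩ := nonempty_starInjRes ℬ ℬ
  obtain ⟨EP⟩ := nonempty_starInjRes 𝒯 𝒯
  haveI : ∀ d, Module.Finite k (Hk EM (irr 𝒜) 1 d) := fun d => finite_Hk EM _ h0R rfl 1 d
  haveI : ∀ d, Module.Finite k (Hk EN (irr ℬ) 1 d) := fun d => finite_Hk EN _ h0S rfl 1 d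
  haveI : ∀ d, Module.Finite k (Hk EP (irr 𝒯) 1 d) := fun d => finite_Hk EP _ h0T rfl 1 d
  haveI : ∀ d, Module.Finite k (𝒜 d) := fun d => by
    haveI := finite_pieceK (𝒜 := 𝒜) 𝒜 h0R d
    rwa [show pieceK 𝒜 𝒜 d = 𝒜 d from Submodule.ext fun x => mem_pieceK 𝒜] at this
  haveI : ∀ d, Module.Finite k (ℬ d) := fun d => by
    haveI := finite_pieceK (𝒜 := ℬ) ℬ h0S d
    rwa [show pieceK ℬ ℬ d = ℬ d from Submodule.ext fun x => mem_pieceK ℬ] at this
  obtain ⟨g₀, htop, hline⟩ := exists_top_line hposT h0T hdT EP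
  have form := fun d => seg_finrank_one_one hposR h0R hposS h0S hT hr hs EM EN EP d
  have hm : ∀ d : ℤ, 0 ≤ d → 0 < Module.finrank k (𝒜 d) := fun d hd => Nat.pos_of_ne_zero fun h =>
    piece_ne_bot hposR h0R hstdR (r := 1) (by rw [hr]; rfl) le_rfl hd (Submodule.finrank_eq_zero.1 h)
  have hn : ∀ d : ℤ, 0 ≤ d → 0 < Module.finrank k (ℬ d) := fun d hd => Nat.pos_of_ne_zero fun h =>
    piece_ne_bot hposS h0S hstdS (r := 1) (by rw [hs]; rfl) le_rfl hd (Submodule.finrank_eq_zero.1 h)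
  have hzero : ∀ g, g₀ < g → 0 ≤ g → Hk EM (irr 𝒜) 1 g = ⊥ ∧ Hk EN (irr ℬ) 1 g = ⊥ := fun g hg hg0 => by
    have h1 := form g
    rw [finrank_Hk_zero_of_bot EP (htop g hg), eq_comm] at h1
    simp only [Nat.add_eq_zero_iff, Nat.mul_eq_zero, (hm g hg0).ne', (hn g hg0).ne', false_or, or_false] at h1
    exact ⟨Submodule.finrank_eq_zero.1 h1.1.2, Submodule.finrank_eq_zero.1 h1.1.1⟩
  have hnotR : ¬ ∀ g : ℤ, 0 ≤ g → Hk EM (irr 𝒜) 1 g = ⊥ := fun h =>
    hR.elim ((polynomial_iff_top_vanish hposR h0R hstdR hr EM).1 h).some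
  have hg0 : 0 ≤ g₀ := le_of_not_gt fun h => hnotR fun g hg => (hzero g (by omega) hg).1
  have key : Hk EN (irr ℬ) 1 g₀ = ⊥ ∧ Module.finrank k (ℬ g₀) = 1 := by
    have h1 := form g₀
    rw [hline] at h1
    have a := hm g₀ hg0
    have b := hn g₀ hg0
    rcases Nat.eq_zero_or_pos (Module.finrank k (Hk EM (irr 𝒜) 1 g₀)) with h | h
    · exfalso
      rw [h] at h1
      simp only [zero_mul, add_zero] at h1
      obtain ⟨hm1, -⟩ := mul_eq_one.1 h1.symm
      rcases hg0.eq_or_lt with h0 | h0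
      · subst h0
        refine hnotR fun g hg => ?_
        rcases hg.eq_or_lt with h2 | h2
        · subst h2; exact Submodule.finrank_eq_zero.1 h
        · exact (hzero g h2 hg).1
      · obtain ⟨l, hl, hgen⟩ := exists_gen_of_finrank_one hposR h0R hstdR hr (by omega) hm1
        exact hR.elim (AlgEquiv.ofBijective _ (aeval_gen_bijective hposR h0R hstdR hr hl hgen).1).symm
    · have h2 : 1 ≤ Module.finrank k (Hk EM (irr 𝒜) 1 g₀) * Module.finrank k (ℬ g₀) := Nat.mul_pos h b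
      have h3 : Module.finrank k (𝒜 g₀) * Module.finrank k (Hk EN (irr ℬ) 1 g₀) = 0 := by omega
      have h4 : Module.finrank k (Hk EM (irr 𝒜) 1 g₀) * Module.finrank k (ℬ g₀) = 1 := by omega
      exact ⟨Submodule.finrank_eq_zero.1 ((Nat.mul_eq_zero.1 h3).resolve_left a.ne'), (mul_eq_one.1 h4).2⟩
  obtain ⟨l, hl, hgen⟩ : ∃ l ∈ ℬ 1, ℬ 1 ≤ Submodule.span k {l} := by
    rcases hg0.eq_or_lt with h0 | h0
    · subst h0
      obtain ⟨e⟩ := (polynomial_iff_top_vanish hposS h0S hstdS hs EN).1 fun g hg => by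
        rcases hg.eq_or_lt with h2 | h2
        · subst h2; exact key.1
        · exact (hzero g h2 hg).2
      exact exists_gen_of_algEquiv hposS h0S e
    · exact exists_gen_of_finrank_one hposS h0S hstdS hs (by omega) key.2
  refine ⟨⟨(AlgEquiv.ofBijective _ (aeval_gen_bijective hposS h0S hstdS hs hl hgen).1).symm⟩, ?_⟩
  obtain ⟨π⟩ := seg_nonempty_algEquiv (𝒯 := 𝒯) hT hposR hposS h0S hstdS hs hl hgen
  refine { isGorensteinLocalRing_localization := fun p hp => ?_ }
  haveI : (p.comap π.toRingEquiv.toRingHom).IsPrime := Ideal.comap_isPrime _ p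
  have H : Submonoid.map π.toRingEquiv.toMonoidHom (p.comap π.toRingEquiv.toRingHom).primeCompl = p.primeCompl := by
    ext x
    refine ⟨?_, fun hx => ⟨π.symm x, fun h => hx ?_, π.apply_symm_apply x⟩⟩
    · rintro ⟨y, hy, rfl⟩ h
      exact hy h
    · have h' : π (π.symm x) ∈ p := h
      rwa [π.apply_symm_apply] at h'
  exact Groth.L21.GorensteinAscend.isGorensteinLocalRing_of_ringEquiv
    (IsLocalization.ringEquivOfRingEquiv (Localization.AtPrime (p.comap π.toRingEquiv.toRingHom)) (Localization.AtPrime p) π.toRingEquiv H)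
    (LocCoh.IsGorensteinRing.isGorensteinLocalRing_localization (A := T) _)

end Groth.Agent.S18660
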