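import Groth.Statements.S18664
import Groth.Agent.L12.GrSegPolyOne

set_option autoImplicit false
universe u
open scoped TensorProduct
open GrSegre

open Groth.L12.GrLCLib Groth.L12.GrSegLib

namespace Groth.Agent.S18664

/-- Let R and S be standard graded rings defined over a field k which are Cohen–Macaulay, with dim R = 1
and dim S ≥ 2. Then the Segre product T = R # S is a Cohen–Macaulay ring if and only if R is a
polynomial ring over k (in one variable). Here a graded ring defined over k is a commutative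
k-algebra of finite type, graded in nonnegative degrees by k-subspaces with degree-zero part k·1,
standard graded when its irrelevant ideal is generated by the degree-one piece; the Segre product T
= ⊕_n R_n ⊗_k S_n is presented abstractly as a graded k-algebra T with an injective k-algebra
homomorphism ψ : T → R ⊗_k S carrying T_n onto the k-span of the elementary tensors a ⊗ b with a ∈
R_n, b ∈ S_n. -/
theorem result (k : Type u) [Field k] (R : Type u) [CommRing R] [Algebra k R] (𝒜 : ℤ → Submodule k R) [GradedAlgebra 𝒜] (hposR : ∀ n : ℤ, n < 0 → 𝒜 n = ⊥) (h0R : 𝒜 0 = Submodule.span k {(1 : R)}) [Algebra.FiniteType k R] (S : Type u) [CommRing S] [Algebra k S] (ℬ : ℤ → Submodule k S) [GradedAlgebra ℬ] (hposS : ∀ n : ℤ, n < 0 → ℬ n = ⊥) (h0S : ℬ 0 = Submodule.span k {(1 : S)}) [Algebra.FiniteType k S] (T : Type u) [CommRing T] [Algebra k T] (𝒯 : ℤ → Submodule k T) [GradedAlgebra 𝒯] (ψ : T →ₐ[k] TensorProduct k R S) (hψ : Function.Injective ψ) (hdegT : ∀ n : ℤ, (𝒯 n).map ψ.toLinearMap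 = Submodule.span k {x : TensorProduct k R S | ∃ a ∈ 𝒜 n, ∃ b ∈ ℬ n, x = a ⊗ₜ[k] b}) [LocCoh.IsCohenMacaulayRing R] [LocCoh.IsCohenMacaulayRing S] (hstdR : Ideal.span (⋃ n ∈ Set.Ioi (0 : ℤ), (𝒜 n : Set R)) = Ideal.span ((𝒜 1 : Submodule k R) : Set R)) (hstdS : Ideal.span (⋃ n ∈ Set.Ioi (0 : ℤ), (ℬ n : Set S)) = Ideal.span ((ℬ 1 : Submodule k S) : Set S)) (hr : ringKrullDim R = 1) (hs : 2 ≤ ringKrullDim S) : LocCoh.IsCohenMacaulayRing T ↔ Nonempty (R ≃ₐ[k] Polynomial k) := by
  obtain ⟨s, hs'⟩ : ∃ s : ℕ, ringKrullDim S = s := by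
    obtain ⟨n, f, hf⟩ := Algebra.FiniteType.iff_quotient_mvPolynomial''.1 (inferInstance : Algebra.FiniteType k S)
    have hle : ringKrullDim S ≤ (n : WithBot ℕ∞) := (ringKrullDim_le_of_surjective f.toRingHom hf).trans (le_of_eq (by
      rw [MvPolynomial.ringKrullDim_of_isNoetherianRing, ringKrullDim_eq_zero_of_field, zero_add, Nat.card_fin]))
    generalize ringKrullDim S = v at hs hle
    induction v using WithBot.recBotCoe with
    | bot => exact absurd hs (by simp)
    | coe v =>
      induction v using ENat.recTopCoe with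
      | top => exact absurd (WithBot.coe_le_coe.1 hle) (not_le.2 (ENat.natCast_lt_top n))
      | coe v => exact ⟨v, rfl⟩
  have h2s : 2 ≤ s := by
    rw [hs'] at hs
    exact_mod_cast hs
  have hS0 : ∀ n : ℤ, 0 ≤ n → ℬ n ≠ ⊥ := fun n hn => piece_ne_bot hposS h0S hstdS hs' (by omega) hn
  haveI : Nontrivial R := by
    by_contra h
    rw [not_nontrivial_iff_subsingleton] at h
    rw [ringKrullDim_eq_bot_of_subsingleton] at hr
    exact absurd hr.symm WithBot.coe_ne_bot
  haveI : Nontrivial S := by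
    by_contra h
    rw [not_nontrivial_iff_subsingleton] at h
    exact hS0 0 le_rfl ((Submodule.eq_bot_iff _).2 fun x _ => Subsingleton.elim x 0)
  have hT : GrSeg.IsSegreRing 𝒜 ℬ 𝒯 ψ := ⟨hψ, hdegT⟩
  haveI := seg_nontrivial ψ
  haveI : IsNoetherianRing R := Algebra.FiniteType.isNoetherianRing k R
  haveI : IsNoetherianRing T := isNoetherian_segreMod 𝒜 ℬ 𝒜 ℬ 𝒯 𝒯 hT (isSegreMod_self 𝒜 ℬ 𝒯 hT)
  obtain ⟨I⟩ := nonempty_starInjRes 𝒜 𝒜
  rw [← polynomial_iff_top_vanish hposR h0R hstdR hr I]
  rw [← Module.supportDim_self_eq_ringKrullDim] at hr hs'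
  have hR : CMAll R R := isCMRing_iff.1 ‹_›
  have hS : CMAll S S := isCMRing_iff.1 ‹_›
  rw [isCMRing_iff (A := T), show (∀ (q : Ideal T) [q.IsPrime], _) ↔ _ from
    (seg_cm_iff_one hposR h0R hposS h0S hT (isSegreMod_self 𝒜 ℬ 𝒯 hT) (mR := irr 𝒜) rfl I (by omega) hr hs' hR hS).1 h2s]
  simp only [pieceK_eq_bot_iff]
  constructor
  · intro h g hg
    exact (h g).resolve_right fun e => hS0 g hg ((Submodule.eq_bot_iff _).2 e)
  · intro h d
    rcases lt_or_ge d 0 with hd | hd
    · exact Or.inr fun x hx => by rwa [hposS d hd, Submodule.mem_bot] at hx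
    · exact Or.inl (h d hd)

end Groth.Agent.S18664
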