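import Groth.Statements.S18665
import Groth.Agent.L12.GrSegGorTop
import Groth.Agent.L12.GrSegGorOne
import Groth.Agent.L12.GrLCCanonCor
import Groth.Agent.L13.LiaisonBasic

set_option autoImplicit false
universe u
open scoped TensorProduct
open GrSegre

open Groth.L12.GrLCLib Groth.L12.GrSegLib
open scoped KMod Groth.L12.GrLCLib.Asub

namespace Groth.Agent.S18665

/-- Let R and S be standard graded rings defined over a field k which are Gorenstein, of dimensions r ≥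
2 and s ≥ 2, put a = a(R), b = a(S) with a ≥ b, and assume that the Segre product T = R # S is a
Cohen–Macaulay ring. Then the type r(T) equals dim_k R_{a−b}. Here the type of T is the Bass number
μ_{r+s−1}(T_+, T), the dimension over the residue field of Ext^{r+s−1} over the local ring of T at
its graded maximal ideal T_+ (T has dimension r + s − 1); a graded ring defined over k is a
commutative k-algebra of finite type, graded in nonnegative degrees by k-subspaces with degree-zero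
part k·1, standard graded when its irrelevant ideal is generated by the degree-one piece; the
a-invariant is the largest nonzero degree of the top graded local cohomology with support in the
irrelevant ideal, computed from a *injective resolution in the graded category; the Segre product T
= ⊕_n R_n ⊗_k S_n is presented abstractly as a graded k-algebra T with an injective k-algebra
homomorphism ψ : T → R ⊗_k S carrying T_n onto the k-span of the elementary tensors a ⊗ b with a ∈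
R_n, b ∈ S_n. -/
theorem result (k : Type u) [Field k] (R : Type u) [CommRing R] [Algebra k R] (𝒜 : ℤ → Submodule k R) [GradedAlgebra 𝒜] (hposR : ∀ n : ℤ, n < 0 → 𝒜 n = ⊥) (h0R : 𝒜 0 = Submodule.span k {(1 : R)}) [Algebra.FiniteType k R] (S : Type u) [CommRing S] [Algebra k S] (ℬ : ℤ → Submodule k S) [GradedAlgebra ℬ] (hposS : ∀ n : ℤ, n < 0 → ℬ n = ⊥) (h0S : ℬ 0 = Submodule.span k {(1 : S)}) [Algebra.FiniteType k S] (T : Type u) [CommRing T] [Algebra k T] (𝒯 : ℤ → Submodule k T) [GradedAlgebra 𝒯] (ψ : T →ₐ[k] TensorProduct k R S) (hψ : Function.Injective ψ) (hdegT : ∀ n : ℤ, (𝒯 n).map ψ.toLinearMap = Submodule.span k {x : TensorProduct k R S | ∃ a ∈ 𝒜 n, ∃ b ∈ ℬ n, x = a ⊗ₜ[k] b}) [LocCoh.IsGorensteinRing R] [LocCoh.IsGorensteinRing S] (mR : HomogeneousIdeal 𝒜) (hmR : mR.toIdeal = Ideal.span (⋃ n ∈ Set.Ioi (0 : ℤ), (𝒜 n : Set R))) (hstdR : Ideal.span (⋃ n ∈ Set.Ioi (0 : ℤ), (𝒜 n : Set R)) = Ideal.span ((𝒜 1 : Submodule k R)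 : Set R)) (I : GrLC.StarInjRes 𝒜 𝒜) (mS : HomogeneousIdeal ℬ) (hmS : mS.toIdeal = Ideal.span (⋃ n ∈ Set.Ioi (0 : ℤ), (ℬ n : Set S))) (hstdS : Ideal.span (⋃ n ∈ Set.Ioi (0 : ℤ), (ℬ n : Set S)) = Ideal.span ((ℬ 1 : Submodule k S) : Set S)) (J : GrLC.StarInjRes ℬ ℬ) (r s : ℕ) (hr : ringKrullDim R = r) (hs : ringKrullDim S = s) (h2r : 2 ≤ r) (h2s : 2 ≤ s) (a b : ℤ) (ha : GrLC.endDeg (I.Hgr mR r) = ((a : WithTop ℤ) : WithBot (WithTop ℤ))) (hb : GrLC.endDeg (J.Hgr mS s) = ((b : WithTop ℤ) : WithBot (WithTop ℤ))) (hab : b ≤ a) [LocCoh.IsCohenMacaulayRing T] (mT : HomogeneousIdeal 𝒯) [mT.toIdeal.IsMaximal] (hmT : mT.toIdeal = Ideal.span (⋃ n ∈ Set.Ioi (0 : ℤ), (𝒯 n : Set T))) : GrLC.bassNum mT.toIdeal T (r + s - 1) = (Module.finrank k (𝒜 (a - b)) : ℕ∞) := by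
  classical
  haveI : Nontrivial R := by
    by_contra h
    rw [not_nontrivial_iff_subsingleton] at h
    rw [ringKrullDim_eq_bot_of_subsingleton] at hr
    exact absurd hr.symm WithBot.coe_ne_bot
  haveI : Nontrivial S := by
    by_contra h
    rw [not_nontrivial_iff_subsingleton] at h
    rw [ringKrullDim_eq_bot_of_subsingleton] at hs
    exact absurd hs.symm WithBot.coe_ne_bot
  haveI : LocCoh.IsCohenMacaulayRing R := Groth.L13.Liaison.isCohenMacaulayRing_of_gorenstein R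
  haveI : LocCoh.IsCohenMacaulayRing S := Groth.L13.Liaison.isCohenMacaulayRing_of_gorenstein S
  haveI : IsNoetherianRing R := Algebra.FiniteType.isNoetherianRing k R
  haveI : IsNoetherianRing S := Algebra.FiniteType.isNoetherianRing k S
  obtain rfl := eq_irr hmR
  obtain rfl := eq_irr hmS
  obtain rfl := eq_irr hmT
  obtain ⟨fR, uR⟩ := gorenstein_pairing hposR h0R hr I ha
  obtain ⟨fS, uS⟩ := gorenstein_pairing hposS h0S hs J hb
  have hT : GrSeg.IsSegreRing 𝒜 ℬ 𝒯 ψ := ⟨hψ, hdegT⟩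
  haveI := seg_nontrivial ψ
  haveI := seg_finiteType hT hposR h0R h0S
  haveI : IsNoetherianRing T := Algebra.FiniteType.isNoetherianRing k T
  haveI : IsNoetherian T T := inferInstance
  have hposT : ∀ n : ℤ, n < 0 → 𝒯 n = ⊥ := fun n hn => (Submodule.eq_bot_iff _).2 (seg_pos hT hposR n hn)
  have h0T := seg_deg0 hT h0R h0S
  have hr' : Module.supportDim R R = r := by rw [Module.supportDim_self_eq_ringKrullDim, hr]
  have hs' : Module.supportDim S S = s := by rw [Module.supportDim_self_eq_ringKrullDim, hs]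
  have hdT : Module.supportDim T T = ((r + s - 1 : ℕ) : WithBot ℕ∞) :=
    seg_supportDim_cm hposR h0R hposS h0S hT (isSegreMod_self 𝒜 ℬ 𝒯 hT) (r := r) (s := s) (by omega) (by omega) hr' hs'
      (isCMRing_iff.1 ‹_›) (isCMRing_iff.1 ‹_›)
  obtain ⟨EP⟩ := nonempty_starInjRes 𝒯 𝒯
  obtain ⟨i, rfl⟩ : ∃ i, r = i + 2 := ⟨r - 2, by omega⟩
  obtain ⟨j, rfl⟩ : ∃ j, s = j + 2 := ⟨s - 2, by omega⟩
  obtain ⟨Φ, hΦ⟩ := exists_segre_top (isSegreMod_self 𝒜 ℬ 𝒯 hT) hT hposR hposS h0R h0S (mR := irr 𝒜) rfl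
    (mS := irr ℬ) rfl (mT := irr 𝒯) rfl I J EP i j (fun p hp d => Hk_eq_bot_of_dim_lt I hr'.le hp d)
    (fun q hq d => Hk_eq_bot_of_dim_lt J hs'.le hq d)
  have hn : i + 2 + (j + 2) - 1 = i + j + 3 := by omega
  rw [hn] at hdT ⊢
  letI := (Hgr_isInternal (irr 𝒜) I (i + 2)).chooseDecomposition
  letI := (Hgr_isInternal (irr ℬ) J (j + 2)).chooseDecomposition
  letI := (Hgr_isInternal (irr 𝒯) EP (i + j + 3)).chooseDecomposition
  haveI : SetLike.GradedSMul 𝒜 (I.Hgr (irr 𝒜) (i + 2)) := ⟨fun {_ _ _ _} hr hx => smul_mem_Hgr I _ _ hr hx⟩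
  haveI : SetLike.GradedSMul ℬ (J.Hgr (irr ℬ) (j + 2)) := ⟨fun {_ _ _ _} hr hx => smul_mem_Hgr J _ _ hr hx⟩
  haveI : SetLike.GradedSMul 𝒯 (EP.Hgr (irr 𝒯) (i + j + 3)) := ⟨fun {_ _ _ _} hr hx => smul_mem_Hgr EP _ _ hr hx⟩
  haveI : ∀ d, Module.Finite k (Hk EP (irr 𝒯) (i + j + 3) d) := fun d => finite_Hk EP _ h0T rfl _ d
  have form : ∀ g, Module.finrank k (Hk EP (irr 𝒯) (i + j + 3) g) =
      Module.finrank k (𝒜 (a - g)) * Module.finrank k (ℬ (b - g)) := fun g => by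
    have h := finrank_seg_piece (𝒜 := 𝒜) (ℬ := ℬ) (𝒯 := 𝒯) hΦ g
    rw [show pieceK 𝒯 (EP.Hgr (irr 𝒯) (i + j + 3)) g = Hk EP (irr 𝒯) (i + j + 3) g from Submodule.ext fun x => mem_pieceK _,
      show pieceK 𝒜 (I.Hgr (irr 𝒜) (i + 2)) g = Hk I (irr 𝒜) (i + 2) g from Submodule.ext fun x => mem_pieceK _,
      show pieceK ℬ (J.Hgr (irr ℬ) (j + 2)) g = Hk J (irr ℬ) (j + 2) g from Submodule.ext fun x => mem_pieceK _] at h
    rw [h, fR, fS]
  have habove : ∀ g, b < g → ∀ x ∈ EP.Hgr (irr 𝒯) (i + j + 3) g, x = 0 := fun g hg => by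
    have h := form g
    rw [hposS (b - g) (by omega), finrank_bot, mul_zero, Submodule.finrank_eq_zero] at h
    exact fun x hx => (Submodule.eq_bot_iff (Hk EP (irr 𝒯) (i + j + 3) g)).1 h x hx
  -- nonzero elements below the smaller end are not killed
  have hbelow : ∀ g, g < b → ∀ x ∈ EP.Hgr (irr 𝒯) (i + j + 3) g,
      (∀ t ∈ 𝒯 (b - g), t • x = 0) → x = 0 := fun g hg x hx h => by
    refine seg_kill hT hΦ g (b - g) (fun y hy hk => uR g y hy fun c hc => ?_) (uS g) hx h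
    have hc' : c ∈ 𝒜 1 ^ ((a - b).toNat + (b - g).toNat) := by
      rw [← piece_eq_pow hposR h0R hstdR]
      rwa [show (((a - b).toNat + (b - g).toNat : ℕ) : ℤ) = a - g by omega]
    rw [pow_add, ← piece_eq_pow hposR h0R hstdR, ← piece_eq_pow hposR h0R hstdR] at hc'
    refine Submodule.mul_induction_on (C := fun t => t • y = 0) hc' (fun u _ v hv => ?_) (fun u v hu hv => ?_)
    · rw [mul_smul, hk v (by rwa [show b - g = ((b - g).toNat : ℤ) by omega]), smul_zero]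
    · rw [add_smul, hu, hv, add_zero]
  let Soc := Submodule.torsionBySet T (EP.H (irr 𝒯) (i + j + 3)) ((irr 𝒯).toIdeal : Set T)
  have hmem : ∀ x, x ∈ Soc ↔ x ∈ Hk EP (irr 𝒯) (i + j + 3) b := by
    intro x
    constructor
    · intro hx
      have hk : ∀ n, 0 < n → ∀ t ∈ 𝒯 n, t • x = 0 := fun n hn t ht =>
        (Submodule.mem_torsionBySet_iff _ _).1 hx ⟨t, Ideal.subset_span (Set.mem_iUnion₂.2 ⟨n, hn, ht⟩)⟩
      obtain ⟨s, hs, -⟩ := exists_sum_cp (EP.Hgr (irr 𝒯) (i + j + 3)) x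
      rw [← hs]
      refine Submodule.sum_mem _ fun g _ => ?_
      rcases lt_trichotomy g b with hg | rfl | hg
      · rw [hbelow g hg _ (cp_mem _ g x) fun t ht => ?_]
        · exact zero_mem _
        · rw [← cp_smul_hom 𝒯 (EP.Hgr (irr 𝒯) (i + j + 3)) ht g x, hk _ (by omega) t ht, map_zero]
      · exact cp_mem (EP.Hgr (irr 𝒯) (i + j + 3)) _ x
      · rw [habove g hg _ (cp_mem _ g x)]
        exact zero_mem _
    · intro hx
      refine (Submodule.mem_torsionBySet_iff _ _).2 ?_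
      rintro ⟨t, ht⟩
      change t • x = 0
      suffices H : (irr 𝒯).toIdeal ≤ Ideal.torsionOf T (EP.H (irr 𝒯) (i + j + 3)) x from H ht
      refine Ideal.span_le.2 fun t ht => ?_
      obtain ⟨n, hn, ht⟩ := Set.mem_iUnion₂.1 ht
      exact habove (n + b) (by have : (0:ℤ) < n := hn; omega) _ (smul_mem_Hgr EP (irr 𝒯) _ ht hx)
  haveI : (Asub.hid (irr 𝒯)).toIdeal.IsMaximal := ‹(irr 𝒯).toIdeal.IsMaximal›
  have hcm := (cm_iff_Hk EP (m := irr 𝒯) rfl hposT h0T hdT).1 (isCMRing_iff.1 ‹_›)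
  have hlow : ∀ q < i + j + 3, Subsingleton ((Asub.res EP).H (Asub.hid (irr 𝒯)) q) := fun q hq => by
    letI := (Hgr_isInternal (irr 𝒯) EP q).chooseDecomposition
    have h0 : ∀ x : EP.H (irr 𝒯) q, x = 0 := fun x => eq_zero_of_cp (EP.Hgr (irr 𝒯) q) fun d =>
      (Submodule.eq_bot_iff _).1 (hcm q hq d) _ (cp_mem (EP.Hgr (irr 𝒯) q) d x)
    exact ⟨fun x y => (h0 x).trans (h0 y).symm⟩
  have key : GrLC.bassNum (irr 𝒯).toIdeal T (i + j + 3) = Module.length T Soc :=
    bassNum_top_eq_socle (m := Asub.hid (irr 𝒯)) (irr_isStarLocal hposT h0T) (i + j + 3) (Asub.res EP) hlow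
  rw [key]
  let f : Soc ≃+ Hk EP (irr 𝒯) (i + j + 3) b :=
    { toFun := fun x => ⟨x.1, (hmem x.1).1 x.2⟩
      invFun := fun x => ⟨x.1, (hmem x.1).2 x.2⟩
      map_add' := fun _ _ => rfl }
  rw [length_eq_of_addEquiv (A := T) (B := k) f (fun t x => ?_) (fun c x => ⟨algebraMap k T c, Subtype.ext (IsScalarTower.algebraMap_smul T c x.1)⟩),
    Module.length_eq_finrank, form, sub_self, h0S, finrank_span_singleton one_ne_zero, mul_one]
  obtain ⟨c, -, hc⟩ := exists_scalar hposT h0T (I := (irr 𝒯).toIdeal) rfl t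
  refine ⟨c, Subtype.ext ?_⟩
  have h1 : (t - algebraMap k T c) • x.1 = 0 := (Submodule.mem_torsionBySet_iff _ _).1 x.2 ⟨_, hc⟩
  rw [sub_smul, sub_eq_zero, IsScalarTower.algebraMap_smul] at h1
  exact h1

end Groth.Agent.S18665
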