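import Groth.Statements.S18666
import Groth.Agent.L15.ProjFree
import Groth.Agent.L21.GorensteinFlat
import Groth.Agent.L21.GorensteinAscend
import Mathlib.AlgebraicGeometry.Stalk
import Mathlib.RingTheory.Flat.Stability
import Mathlib.RingTheory.Localization.LocalizationLocalization

set_option autoImplicit false
universe u
open GrProj

namespace Groth.Agent.S18666

open AlgebraicGeometry Pointwise in
/-- Let A = ⊕_{n ≥ 0} A_n be a commutative Noetherian graded ring satisfying condition (#) — there is an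
integer d_0 such that for every d ≥ d_0 the Veronese subring A^(d) is generated by A_d over A_0,
equivalently A_{(n+1)d} is additively generated by the products A_d A_{nd} for every n ≥ 1 — and
assume A is a Gorenstein ring. Then X = Proj A is a Gorenstein scheme: all of its local rings are
Gorenstein local rings. (The Cohen–Macaulay case of the same lemma is stated separately.) -/
theorem result (A : Type u) [CommRing A] (𝒜 : ℕ → AddSubgroup A) [GradedRing 𝒜] [LocCoh.IsGorensteinRing A] (hsharp : ∃ d₀ : ℕ, ∀ d : ℕ, d₀ ≤ d → ∀ n : ℕ, 1 ≤ n → 𝒜 ((n + 1) * d) = AddSubgroup.closure ((𝒜 d : Set A) * (𝒜 (n * d) : Set A))) (x : Proj 𝒜) : LocCoh.IsGorensteinLocalRing ((Proj 𝒜).presheaf.stalk x) := by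
  let p : Ideal A := x.asHomogeneousIdeal.toIdeal
  haveI : p.IsPrime := x.isPrime
  obtain ⟨f, hf1, hf2⟩ := SetLike.not_le_iff_exists.mp x.not_irrelevant_le
  obtain ⟨e, he, hfe⟩ : ∃ e, 0 < e ∧ Groth.L15.ProjCM.comp 𝒜 f e ∉ p := by
    classical
    by_contra h
    simp only [not_exists, not_and, not_not] at h
    refine hf2 ?_
    show f ∈ p
    rw [← DirectSum.sum_support_decompose 𝒜 f]
    refine Ideal.sum_mem _ fun i _ => ?_
    rcases Nat.eq_zero_or_pos i with rfl | hi
    · rw [HomogeneousIdeal.mem_irrelevant_iff, GradedRing.proj_apply] at hf1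
      rw [hf1]
      exact p.zero_mem
    · exact h i hi
  obtain ⟨d₀, hd₀⟩ := hsharp
  have hall : ∀ d, d₀ ≤ d → ∃ t ∈ 𝒜 d, t ∉ p := by
    intro d hd
    by_contra! hall
    have hsub : ((𝒜 d : Set A) * (𝒜 ((2 * e - 1) * d) : Set A)) ⊆ (p : Set A) := by
      rintro _ ⟨a, ha, b, -, rfl⟩
      exact p.mul_mem_right _ (hall a ha)
    have hle : 𝒜 ((2 * e - 1 + 1) * d) ≤ p.toAddSubgroup := by
      rw [hd₀ d hd (2 * e - 1) (by omega), AddSubgroup.closure_le]
      exact hsub
    have h1 : Groth.L15.ProjCM.comp 𝒜 f e ^ (2 * d) ∈ 𝒜 ((2 * e - 1 + 1) * d) := by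
      have := SetLike.pow_mem_graded (2 * d) (Groth.L15.ProjCM.comp_mem 𝒜 f e)
      convert this using 2
      rw [smul_eq_mul, show 2 * e - 1 + 1 = 2 * e by omega]; ring
    exact hfe ((inferInstance : p.IsPrime).mem_of_pow_mem _ (hle h1))
  obtain ⟨t, ht, htp⟩ := hall d₀ le_rfl
  obtain ⟨s, hs, hsp⟩ := hall (d₀ + 1) d₀.le_succ
  let S0 := HomogeneousLocalization 𝒜 (Groth.L15.ProjCM.T 𝒜 p)
  let L := Localization (Groth.L15.ProjCM.T 𝒜 p)
  let E1 : HomogeneousLocalization.AtPrime 𝒜 p ≃+* S0 :=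
    (RingEquiv.ofBijective _ (Groth.L15.ProjCM.mapId_bijective 𝒜 p)).symm
  let E : (Proj 𝒜).presheaf.stalk x ≃+* S0 := (Proj.stalkIso' 𝒜 x).trans E1
  haveI hloc : IsLocalRing S0 := E1.isLocalRing
  haveI : IsNoetherianRing S0 := Groth.L15.ProjCM.isNoetherianRing 𝒜 p
  haveI : Module.Free S0 L := Groth.L15.ProjFree.free 𝒜 p ⟨t, ⟨d₀, ht⟩, htp⟩ ⟨s, ⟨d₀ + 1, hs⟩, hsp⟩ ht hs
  let m := IsLocalRing.maximalIdeal S0
  have hne : m.map (algebraMap S0 L) ≠ ⊤ := fun h => (IsLocalRing.maximalIdeal.isMaximal S0).ne_top (by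
    have h1 := Groth.L15.ProjCM.comap_map 𝒜 p m
    rw [show m.map (algebraMap (HomogeneousLocalization 𝒜 (Groth.L15.ProjCM.T 𝒜 p))
      (Localization (Groth.L15.ProjCM.T 𝒜 p))) = ⊤ from h, Ideal.comap_top] at h1
    exact h1.symm)
  obtain ⟨Q, hQ, hmQ⟩ := Ideal.exists_le_maximal _ hne
  haveI := hQ
  have hcomap : Q.comap (algebraMap S0 L) = m :=
    ((IsLocalRing.maximalIdeal.isMaximal S0).eq_of_le (Ideal.IsPrime.comap _).ne_top
      (Ideal.map_le_iff_le_comap.mp hmQ)).symm
  haveI : IsNoetherianRing L := IsLocalization.isNoetherianRing (Groth.L15.ProjCM.T 𝒜 p) L inferInstance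
  let B := Localization.AtPrime Q
  haveI : IsNoetherianRing B := IsLocalization.isNoetherianRing Q.primeCompl B inferInstance
  haveI : Module.Flat L B := IsLocalization.flat B Q.primeCompl
  haveI : Module.Flat S0 B := Module.Flat.trans S0 L B
  haveI : IsLocalHom (algebraMap S0 B) := ⟨fun z hz => by
    by_contra hzu
    have h1 : algebraMap S0 L z ∈ Q := by
      have : z ∈ Q.comap (algebraMap S0 L) := by rw [hcomap]; exact hzu
      exact this
    rw [IsScalarTower.algebraMap_apply S0 L B] at hz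
    exact (IsLocalization.AtPrime.to_map_mem_maximal_iff B Q _).mpr h1 hz⟩
  haveI : (Q.under A).IsPrime := Ideal.IsPrime.under _ Q
  haveI : IsLocalization.AtPrime B (Q.under A) :=
    IsLocalization.isLocalization_isLocalization_atPrime_isLocalization (Groth.L15.ProjCM.T 𝒜 p) B Q
  have hB : LocCoh.IsGorensteinLocalRing B :=
    L21.GorensteinAscend.isGorensteinLocalRing_of_ringEquiv (R := Localization.AtPrime (Q.under A))
      (IsLocalization.algEquiv (Q.under A).primeCompl (Localization.AtPrime (Q.under A)) B).toRingEquiv (LocCoh.IsGorensteinRing.isGorensteinLocalRing_localization (Q.under A))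
  have hS0 : LocCoh.IsGorensteinLocalRing S0 := ((L21.GorensteinFlat.gorenstein_flat_local_iff S0 B).mp hB).1
  haveI := hS0
  exact L21.GorensteinAscend.isGorensteinLocalRing_of_ringEquiv E.symm hS0

end Groth.Agent.S18666
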