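import Groth.Statements.S18667
import Groth.Agent.L04.Graded.Restrict
import Groth.Agent.L04.Graded.CanonicalDuality
import Mathlib.RingTheory.Ideal.GoingUp

set_option autoImplicit false
universe u
open GrLC

namespace Groth.Agent.S18667

open Groth.L12.GrLCLib Groth.L04.Graded

/-- Let R and S be graded rings defined over the same field k and f : R → S a degree-preserving k-linear
ring map (not necessarily injective), with R Cohen–Macaulay and S a finite R-module through f, and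
put t = dim R − dim S. Then K_S = Ext^t_R(S, K_R). Stated here as the existence of an R-linear
isomorphism between the canonical module of S (an S-module, viewed over R) and the R-module
Ext^t_R(S, K_R); the published isomorphism is natural and respects gradings. Here a graded ring
defined over a field is Noetherian, positively ℤ-graded with degree-zero part a field; that R and S
are defined over the same field and f is k-linear is expressed by asking f to carry R_0 onto S_0;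
and the canonical module is represented by a finitely generated graded module together with a
homogeneous isomorphism from its Hom into a *injective envelope of the residue field onto the top
graded local cohomology of the ring with support in its irrelevant ideal, computed from a *injective
resolution in the graded category (by graded Matlis duality this pins the module up to graded
isomorphism). -/
theorem result (R : Type u) [CommRing R] [LocCoh.IsCohenMacaulayRing R] (𝒜 : ℤ → AddSubgroup R) [GradedRing 𝒜] (hpos : ∀ n : ℤ, n < 0 → 𝒜 n = ⊥) (h0 : IsField (GrLC.deg0 𝒜)) (m : HomogeneousIdeal 𝒜) (hm : GrLC.IsStarLocal 𝒜 m) (hmsp : m.toIdeal = Ideal.span (⋃ n ∈ Set.Ioi (0 : ℤ), (𝒜 n : Set R))) (n : ℕ) (hn : ringKrullDim R = n) (I : GrLC.StarInjRes 𝒜 𝒜) (E' : Type u) [AddCommGroup E'] [Module R E'] (𝓔 : ℤ → AddSubgroup E') [DirectSum.Decomposition 𝓔] [SetLike.GradedSMul 𝒜 𝓔] (e : (R ⧸ m.toIdeal) →ₗ[R] E') (he : GrLC.IsStarInjHull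 𝒜 (GrLC.quotGr 𝒜 m) 𝓔 e) (C : Type u) [AddCommGroup C] [Module R C] (𝒞 : ℤ → AddSubgroup C) [DirectSum.Decomposition 𝒞] [SetLike.GradedSMul 𝒜 𝒞] (hC : GrLC.IsStarCanonical 𝒜 𝒞 𝓔 m n I) (S : Type u) [CommRing S] [IsNoetherianRing S] [Algebra R S] [Module.Finite R S] (𝒜' : ℤ → AddSubgroup S) [GradedRing 𝒜'] (hf : ∀ j : ℤ, (𝒜 j).map (algebraMap R S : R →+ S) ≤ 𝒜' j) (hf0 : (𝒜 0).map (algebraMap R S : R →+ S) = 𝒜' 0) (hpos' : ∀ j : ℤ, j < 0 → 𝒜' j = ⊥) (h0' : IsField (GrLC.deg0 𝒜')) (m' : HomogeneousIdeal 𝒜') (hm' : GrLC.IsStarLocal 𝒜' m') (hm'sp : m'.toIdeal = Ideal.span (⋃ j ∈ Set.Ioi (0 : ℤ), (𝒜' j : Set S))) (n' : ℕ) (hn' : ringKrullDim S = n') (I' : GrLC.StarInjRes 𝒜' 𝒜') (E'' : Type u) [AddCommGroup E''] [Module S E''] (𝓔'' : ℤ → AddSubgroup E'') [DirectSum.Decomposition 𝓔''] [SetLike.GradedSMul 𝒜' 𝓔''] (e' : (S ⧸ m'.toIdeal) →ₗ[S] E'') (he' : GrLC.IsStarInjHull 𝒜' (GrLC.quotGr 𝒜' m') 𝓔'' e') (C' : Type u) [AddCommGroup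 C'] [Module S C'] [Module R C'] [IsScalarTower R S C'] (𝒞' : ℤ → AddSubgroup C') [DirectSum.Decomposition 𝒞'] [SetLike.GradedSMul 𝒜' 𝒞'] (hC' : GrLC.IsStarCanonical 𝒜' 𝒞' 𝓔'' m' n' I') : Nonempty (C' ≃ₗ[R] CategoryTheory.Abelian.Ext.{u} (ModuleCat.of R S) (ModuleCat.of R C) (n - n')) := by
  classical
  have hf' : ∀ j, ∀ r ∈ 𝒜 j, algebraMap R S r ∈ 𝒜' j := fun j r hr => hf j (AddSubgroup.mem_map_of_mem _ hr)
  have hf0' : ∀ s ∈ 𝒜' 0, ∃ r ∈ 𝒜 0, algebraMap R S r = s := fun s hs => by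
    rw [← hf0] at hs
    exact AddSubgroup.mem_map.1 hs
  letI : Module R E'' := Module.compHom E'' (algebraMap R S)
  haveI : IsScalarTower R S E'' := IsScalarTower.of_algebraMap_smul fun _ _ => rfl
  haveI : SetLike.GradedSMul 𝒜 𝒜' := gradedSMul_restrict hf' 𝒜'
  haveI : SetLike.GradedSMul 𝒜 𝒞' := gradedSMul_restrict hf' 𝒞'
  haveI : SetLike.GradedSMul 𝒜 𝓔'' := gradedSMul_restrict hf' 𝓔''
  obtain ⟨hCfin, φ, hφ⟩ := hC
  obtain ⟨hC'fin, φ', hφ'⟩ := hC'
  -- the duals of the two rings and the comparison map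
  have hX : IsDual 𝒜 𝓔 := isDual_of_hull hpos h0 hm he
  have hX' : IsDual 𝒜' 𝓔'' := isDual_of_hull hpos' h0' hm' he'
  obtain ⟨u, hu, hu0, hul⟩ := hX.line
  obtain ⟨u', hu', hu0', hul'⟩ := hX'.line
  haveI : Nontrivial E'' := ⟨u', 0, hu0'⟩
  haveI : Nontrivial S := Module.nontrivial S E''
  have hunit : ∀ r ∈ 𝒜 0, r ≠ 0 → ∃ b ∈ 𝒜 0, r * b = 1 := fun r hr hr0 => by
    obtain ⟨b, hb⟩ := h0.mul_inv_cancel (a := (⟨r, hr⟩ : GrLC.deg0 𝒜)) (fun h => hr0 (congrArg Subtype.val h))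
    exact ⟨b, b.2, congrArg Subtype.val hb⟩
  have hu'r : ∀ r ∈ 𝒜 0, r • u' = 0 → r = 0 := fun r hr h => by
    by_contra hr0
    obtain ⟨b, -, hb⟩ := hunit r hr hr0
    exact hu0' (by rw [← one_smul R u', ← hb, mul_comm, mul_smul, h, smul_zero])
  have hur : ∀ r ∈ 𝒜 0, r • u = 0 → r = 0 := fun r hr h => by
    by_contra hr0
    obtain ⟨b, -, hb⟩ := hunit r hr hr0
    exact hu0 (by rw [← one_smul R u, ← hb, mul_comm, mul_smul, h, smul_zero])
  have hline' : ∀ y ∈ 𝓔'' 0, ∃ r ∈ 𝒜 0, r • u' = y := fun y hy => by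
    obtain ⟨s, hs, rfl⟩ := hul' y hy
    obtain ⟨r, hr, rfl⟩ := hf0' s hs
    exact ⟨r, hr, (algebraMap_smul S r u').symm⟩
  choose co hco hcou using hline'
  have hco' : ∀ y hy r, r ∈ 𝒜 0 → r • u' = y → co y hy = r := fun y hy r hr hry =>
    sub_eq_zero.1 (hu'r _ (sub_mem (hco y hy) hr) (by rw [sub_smul, hcou, hry, sub_self]))
  let μ0 : E'' → E' := fun y => if hy : y ∈ 𝓔'' 0 then co y hy • u else 0
  have hμ0v : ∀ r ∈ 𝒜 0, μ0 (r • u') = r • u := fun r hr => by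
    have hy : r • u' ∈ 𝓔'' 0 := by
      have := smul_mem' 𝒜 𝓔'' hr hu'
      rwa [add_zero] at this
    simp only [μ0, dif_pos hy, hco' _ hy r hr rfl]
  obtain ⟨μ, hμ, hμe⟩ := hX.exists_hom (𝒩 := 𝓔'') μ0
    (fun y hy => by
      rw [← hcou y hy, hμ0v _ (hco y hy)]
      have := smul_mem' 𝒜 𝓔 (hco y hy) hu
      rwa [add_zero] at this)
    (fun a ha b hb => by
      rw [← hcou a ha, ← hcou b hb, ← add_smul, hμ0v _ (add_mem (hco a ha) (hco b hb)), hμ0v _ (hco a ha),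
        hμ0v _ (hco b hb), add_smul])
    (fun r hr y hy => by
      rw [← hcou y hy, smul_smul, hμ0v _ (by
        have := SetLike.mul_mem_graded hr (hco y hy)
        rwa [add_zero] at this), hμ0v _ (hco y hy), mul_smul])
  have hμs : ∀ y ∈ 𝓔 0, ∃ x ∈ 𝓔'' 0, μ x = y := fun y hy => by
    obtain ⟨r, hr, rfl⟩ := hul y hy
    have hx : r • u' ∈ 𝓔'' 0 := by
      have := smul_mem' 𝒜 𝓔'' hr hu'
      rwa [add_zero] at this
    exact ⟨r • u', hx, (hμe _ hx).trans (hμ0v r hr)⟩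
  have hμi : ∀ x ∈ 𝓔'' 0, μ x = 0 → x = 0 := fun x hx h => by
    obtain ⟨r, hr, rfl⟩ : ∃ r ∈ 𝒜 0, r • u' = x := ⟨co x hx, hco x hx, hcou x hx⟩
    rw [hμe _ hx, hμ0v _ hr] at h
    rw [hur _ hr h, zero_smul]
  -- the local cohomology of `S` over `R` is the dual of `C'`
  obtain ⟨F⟩ := nonempty_starInjRes 𝒜 𝒜'
  obtain ⟨Θ, hΘb, hΘ, hΘ'⟩ := exists_restrictH hf' hmsp hm'sp I' F n'
  let Ψ : F.H m n' →ₗ[R] (C' →ₗ[S] E'') :=
    { toFun := fun x => φ'.symm (Θ x)
      map_add' := fun x y => by rw [map_add, map_add]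
      map_smul' := fun r x => by
        rw [map_smulₛₗ, map_smul, RingHom.id_apply, algebraMap_smul] }
  let Φ : (C' →ₗ[S] E'') ≃ₗ[R] F.H m n' := (LinearEquiv.ofBijective Ψ (φ'.symm.bijective.comp hΘb)).symm
  have hΘΦ : ∀ ψ, Θ (Φ ψ) = φ' ψ := fun ψ => by
    refine φ'.symm.injective ?_
    rw [φ'.symm_apply_apply]
    exact (LinearEquiv.ofBijective Ψ (φ'.symm.bijective.comp hΘb)).apply_symm_apply ψ
  letI := (Hgr_isInternal m' I' n').chooseDecomposition
  obtain ⟨e₁⟩ := nonempty_equiv_homFun_of_dual (𝒞 := 𝒞') hX hX' h0' hf' hf0' μ hμ hμs hμi Φ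
    (fun j ψ hψ => hΘ' j _ (by rw [hΘΦ]; exact hφ' j ψ hψ))
    (fun j h hh => mem_homDeg_of_map φ' hφ' (by
      have h1 : φ' (Φ.symm h) = Θ h := φ'.apply_symm_apply (Θ h)
      rw [h1]
      exact hΘ j h hh))
  -- duality over `R`
  have hvan : ∀ i, i < n → Subsingleton (I.H m i) := fun i hi => by
    obtain ⟨e⟩ := nonempty_H_equiv I m i
    have hh : m.toIdeal.height = n := by
      have := ringKrullDim_eq_height_starLocal hpos hm
      rw [hn] at this
      exact_mod_cast this.symm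
    have hd : LocCoh.idealDepth m.toIdeal R = n :=
      (Groth.L04.isCohenMacaulayRing_iff_height.1 ‹_› m.toIdeal (starLocal_ne_top hm)).trans hh
    haveI := (Groth.L04.LC.le_idealDepth_iff_H m.toIdeal R n).1 hd.ge i hi
    exact e.toEquiv.subsingleton
  have hle : n' ≤ n := by
    have h : ringKrullDim S ≤ ringKrullDim R :=
      Order.krullDim_le_of_strictMono (PrimeSpectrum.comap (algebraMap R S)) fun P Q hPQ => by
        haveI := P.isPrime
        exact Ideal.IsIntegral.comap_lt_comap (A := S) hPQ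
    rw [hn, hn'] at h
    exact_mod_cast h
  obtain ⟨e₂⟩ := nonempty_duality (𝒞 := 𝒞) (𝒳 := 𝓔) ⟨hn.le, h0, hX, φ, hφ⟩ hvan (n - n') n' (by omega)
    (GrLC.GMod.of 𝒜 S 𝒜') (inferInstanceAs (Module.Finite R S)) F
  exact ⟨e₁.trans e₂⟩

end Groth.Agent.S18667
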