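
import Groth.Statements.S1867
import Groth.Agent.L22.LocQuotDim
import Groth.Agent.L22.SchemeDim
import Mathlib.AlgebraicGeometry.ZariskisMainTheorem

set_option autoImplicit false
universe u
open CategoryTheory AlgebraicGeometry
open Cyc

namespace Groth.Agent.S1867

/-- Let f : X → Y be a proper morphism of integral schemes with Y locally Noetherian, mapping the
generic point to the generic point with finite extension of function fields, and let ξ be a point of
Y whose local ring has dimension 1. Then f is finite over some open neighbourhood of ξ. -/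
theorem result (X Y : Scheme.{u}) [IsIntegral X] [IsIntegral Y] [IsLocallyNoetherian Y] (f : X ⟶ Y) [IsProper f] (hgen : f (genericPoint X) = genericPoint Y) (hfin : (f.residueFieldMap (genericPoint X)).hom.Finite) (ξ : Y) (hξ : ringKrullDim (Y.presheaf.stalk ξ) = 1) : ∃ V : Y.Opens, ξ ∈ V ∧ IsFinite (f ∣_ V) := by
  haveI : IsLocallyNoetherian X := LocallyOfFiniteType.isLocallyNoetherian f
  obtain ⟨N, hN, hN0⟩ : ∃ N : ℕ, Groth.L22.Cyc.rtrdeg f (genericPoint X) = N ∧ N = 0 := by
    letI := (f.residueFieldMap (genericPoint X)).hom.toAlgebra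
    haveI : Module.Finite (Y.residueField (f (genericPoint X))) (X.residueField (genericPoint X)) :=
      RingHom.finite_algebraMap.1 hfin
    haveI : Algebra.IsAlgebraic (Y.residueField (f (genericPoint X)))
      (X.residueField (genericPoint X)) := Algebra.IsAlgebraic.of_finite _ _
    exact ⟨0, by rw [Nat.cast_zero]; exact trdeg_eq_zero, rfl⟩
  subst hN0
  have hzero : ∀ z : f.fiber ξ, closure ({z} : Set (f.fiber ξ)) = {z} := fun z => by
    letI : (f.fiber ξ).Over (Spec (CommRingCat.of (Y.residueField ξ))) :=
      ⟨f.fiberToSpecResidueField ξ⟩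
    haveI : LocallyOfFiniteType ((f.fiber ξ) ↘ Spec (CommRingCat.of (Y.residueField ξ))) :=
      MorphismProperty.pullback_snd f (Y.fromSpecResidueField ξ) inferInstance
    obtain ⟨n, hn, htr⟩ :=
      Groth.L22.SchemeDim.exists_dim_closure_eq_trdeg (Y.residueField ξ) (f.fiber ξ) z
    set x := f.fiberι ξ z
    have hfx : f x = ξ := (f.range_fiberι ξ).subset ⟨z, rfl⟩
    have hsp : genericPoint X ⤳ x := (genericPoint_spec X).specializes trivial
    have hne : genericPoint X ≠ x := fun h => by
      have h1 : ∀ y, y = genericPoint Y → ringKrullDim (Y.presheaf.stalk y) = 0 := by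
        rintro y rfl
        exact ringKrullDim_eq_zero_of_isField (Field.toIsField Y.functionField)
      have h2 : ξ = genericPoint Y := by rw [← hgen, h, hfx]
      rw [h1 ξ h2] at hξ
      exact zero_ne_one hξ
    obtain ⟨D, hD, hD1, -, -⟩ := Groth.L22.LocQuotDim.exists_dim_locQuot x (genericPoint X) hsp
    obtain ⟨F, hF, -, -, -⟩ := Groth.L22.LocQuotDim.exists_dim_locQuot (f x) (f (genericPoint X))
      (hsp.map f.continuous)
    have hnx : Groth.L22.Cyc.rtrdeg f x = n := by
      rw [Groth.L22.Cyc.rtrdeg_fiberι, htr]
    have key := (Groth.L22.DimFormula.scheme_dim_formula f hsp hnx hN).1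
    have hF1 : (F : WithBot ℕ∞) ≤ 1 := by
      rw [← hξ, ← hF, ← hfx]
      exact ringKrullDim_quotient_le _
    rw [hD, hF] at key
    have h5 : D + n ≤ F + 0 := by exact_mod_cast key
    have h6 : F ≤ 1 := by exact_mod_cast hF1
    have h7 := hD1 hne
    have hn0 : n = 0 := by omega
    subst hn0
    refine Set.Subset.antisymm (fun w hw => ?_) subset_closure
    by_contra hwz
    obtain ⟨m, hm, -⟩ := Groth.L22.SchemeDim.exists_dim_closure_eq_trdeg (Y.residueField ξ) (f.fiber ξ) w
    let c : Set (f.fiber ξ) := closure {z}
    let Z₁ : TopologicalSpace.IrreducibleCloseds c :=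
      ⟨closure {(⟨w, hw⟩ : c)}, isIrreducible_singleton.closure, isClosed_closure⟩
    haveI : IrreducibleSpace c := Subtype.irreducibleSpace isIrreducible_singleton.closure
    let Z₂ : TopologicalSpace.IrreducibleCloseds c :=
      ⟨Set.univ, IrreducibleSpace.isIrreducible_univ _, isClosed_univ⟩
    have hlt : Z₁ < Z₂ := by
      refine lt_of_le_of_ne (fun a _ => trivial) fun h => hwz ?_
      have h8 : (⟨z, subset_closure rfl⟩ : c) ∈ (Z₁ : Set c) := by rw [h]; trivial
      have h9 : w ⤳ z := (specializes_iff_mem_closure.2 h8).map continuous_subtype_val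
      exact (h9.antisymm (specializes_iff_mem_closure.2 hw)).eq
    have h10 : (1 : WithBot ℕ∞) ≤ topologicalKrullDim c := by
      rw [topologicalKrullDim]
      exact Order.LTSeries.length_le_krullDim
        ((RelSeries.singleton _ Z₁).snoc Z₂ hlt)
    rw [show topologicalKrullDim c = _ from hn] at h10
    exact absurd h10 (by simp)
  have hfin' : (f ⁻¹' {ξ}).Finite := by
    haveI : LocallyOfFiniteType (f.fiberToSpecResidueField ξ) :=
      MorphismProperty.pullback_snd f (Y.fromSpecResidueField ξ) inferInstance
    haveI : QuasiCompact (f.fiberToSpecResidueField ξ) :=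
      MorphismProperty.pullback_snd f (Y.fromSpecResidueField ξ) inferInstance
    haveI : IsLocallyNoetherian (f.fiber ξ) :=
      LocallyOfFiniteType.isLocallyNoetherian (f.fiberToSpecResidueField ξ)
    haveI : CompactSpace (f.fiber ξ) :=
      QuasiCompact.compactSpace_of_compactSpace (f.fiberToSpecResidueField ξ)
    haveI : IsNoetherian (f.fiber ξ) := ⟨⟩
    have hc := TopologicalSpace.NoetherianSpace.finite_irreducibleComponents (α := f.fiber ξ)
    haveI : Finite (f.fiber ξ) := by
      refine Finite.of_finite_univ (Set.Finite.subset (hc.biUnion (t := fun T => T) fun T hT => ?_)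
        fun z _ => ?_)
      · obtain ⟨η, hη⟩ := QuasiSober.sober hT.1 (isClosed_of_mem_irreducibleComponents T hT)
        rw [← hη.def, hzero η]
        exact Set.finite_singleton η
      · exact Set.mem_biUnion (irreducibleComponent_mem_irreducibleComponents z)
          mem_irreducibleComponent
    rw [← f.range_fiberι]
    exact Set.finite_range _
  obtain ⟨V, hV, hV'⟩ := exists_isFinite_morphismRestrict_of_finite_preimage_singleton f ξ hfin'
  exact ⟨V, hV, hV'⟩

end Groth.Agent.S1867
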