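import Groth.Statements.S18670
import Groth.Agent.L12.GrSectLead

set_option autoImplicit false
universe u
open GrSect

open Groth.L12.GrSectLead

namespace Groth.Agent.S18670

/-- Let X be a complete smooth curve of genus g ≥ 1 over an algebraically closed field k, P a closed
point, R = R_{X,P} and H = H_{X,P}. Then emb(R) = emb(H) + 1, where emb(R) = ν(R_+) is the minimal
number of generators of the irrelevant ideal R_+ (the embedding dimension of the local ring of R at
R_+) and emb(H) is the number of minimal generators of the numerical semigroup H. (The published
item also gives the multiplicity m(R) = m(H); only the embedding-dimension assertion is stated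
here.) Here the complete smooth curve X over the algebraically closed field k is given by its
function field K/k (a function field of one variable in which k is algebraically closed), the closed
point P by a place of K/k, g ≥ 1 is the genus, H^0(X, O_X(nP)) = L(nP), and R_{X,P} = ⊕_{n ≥ 0}
L(nP)·T^n is realised as the k-subalgebra of K[T] of polynomials whose coefficient of T^n lies in
L(nP); the Weierstrass semigroup H_{X,P} is the set of n ≥ 0 with ℓ(nP) = ℓ((n−1)P) + 1. The
irrelevant ideal is the kernel of the constant-coefficient map R → K. -/
theorem result (k : Type u) [Field k] [IsAlgClosed k] (K : Type u) [Field K] [Algebra k K] (hK : FunFld.IsFunctionField k K) (hg : 1 ≤ FunFld.genus k K) (P : FunFld.Place k K) : (RingHom.ker (Polynomial.constantCoeff.comp (W4c6gradedringsgw.sectRing (Finsupp.single P 1 : FunFld.Divisor k K)).val.toRingHom)).spanFinrank = Set.ncard (W4c6gradedringsgw.minGens (W4c6gradedringsgw.poleOrders P)) + 1 := by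
  exact spanFinrank_irr hK hg P

end Groth.Agent.S18670
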