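import Groth.Statements.S18672
import Groth.Agent.L12.GrLCBase
-- import your own Groth.Agent.* helpers here

set_option autoImplicit false
universe u
open GrLC

namespace Groth.Agent.S18672

open Groth.L12.GrLCLib

/-- Let R be a graded ring defined over a field k = R_0 which is Cohen–Macaulay and generated over k by
R_1 (the standing hypotheses of this section; only generation in degree one is used), q ≥ 1, R' =
R^(q), and a an integer. Then the Veronese submodule [R(a)]^(q) = ⊕_j R_{a+jq} is generated over R'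
by its piece R(a)_n = R_{a+n}, where n is the smallest multiple of q with n + a ≥ 0. Here 'graded
ring defined over a field' means R = ⊕_{n ≥ 0} R_n is Noetherian with R_0 a field, and m = R_+ is
its unique graded maximal ideal. The Veronese subring R^(q) = ⊕_j R_{jq}, regraded by (R^(q))_j =
R_{jq}, is presented abstractly as a ℤ-graded ring R' with an injective ring homomorphism φ : R' → R
carrying R'_j onto R_{jq} for every j. The module [R(a)]^(q) is presented as a graded R'-module M'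
with an injective additive map g : M' → R, semilinear over φ, carrying M'_j onto R_{a+jq} for every
j; with n = j₀q, the conclusion is that the R'-span of M'_{j₀} is all of M'. -/
theorem result (R : Type u) [CommRing R] [LocCoh.IsCohenMacaulayRing R] (𝒜 : ℤ → AddSubgroup R) [GradedRing 𝒜] (hpos : ∀ n : ℤ, n < 0 → 𝒜 n = ⊥) (h0 : IsField (GrLC.deg0 𝒜)) (hstd : Ideal.span (⋃ n ∈ Set.Ioi (0 : ℤ), (𝒜 n : Set R)) = Ideal.span ((𝒜 1 : AddSubgroup R) : Set R)) (q : ℕ) (hq : 0 < q) (R' : Type u) [CommRing R'] (𝒜' : ℤ → AddSubgroup R') [GradedRing 𝒜'] (φ : R' →+* R) (hφ : Function.Injective φ) (hdeg : ∀ j : ℤ, (𝒜' j).map (φ : R' →+ R) = 𝒜 (j * q)) (a : ℤ) (M' : Type u) [AddCommGroup M'] [Module R' M'] (ℳ' : ℤ → AddSubgroup M') [DirectSum.Decomposition ℳ'] [SetLike.GradedSMul 𝒜' ℳ'] (g : M' →ₛₗ[φ] R) (hg : Function.Injective g) (hgdeg : ∀ j : ℤ, (ℳ' j).map (g : M' →+ R) = 𝒜 (a + j * q)) (j₀ : ℤ) (hj₀ : 0 ≤ a + j₀ * q) (hj₀' : a + (j₀ - 1) * q < 0) : Submodule.span R' ((ℳ' j₀ :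 AddSubgroup M') : Set M') = ⊤ := by
  classical
  have hpiece : ∀ (u v : ℕ), ∀ z ∈ 𝒜 ((u + v : ℕ) : ℤ), z ∈ AddSubgroup.closure {w : R | ∃ s ∈ 𝒜 (u : ℤ), ∃ t ∈ 𝒜 (v : ℤ), w = s * t} := by
    intro u
    induction u with
    | zero =>
      intro v z hz
      refine AddSubgroup.subset_closure ⟨1, by simpa using SetLike.one_mem_graded 𝒜, z, ?_, (one_mul z).symm⟩
      simpa using hz
    | succ u ih =>
      intro v z hz
      have hzI : z ∈ Ideal.span ((𝒜 1 : AddSubgroup R) : Set R) := hstd ▸ Ideal.subset_span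
        (Set.mem_biUnion (Set.mem_Ioi.2 (by push_cast; omega : (0 : ℤ) < ((u + 1 + v : ℕ) : ℤ))) hz)
      obtain ⟨l, hl, hlz⟩ := Submodule.mem_span_set.1 hzI
      rw [← cp_same 𝒜 hz, ← hlz, Finsupp.sum, map_sum]
      refine sum_mem fun c hc => ?_
      rw [cp_smul_mem 𝒜 𝒜 (l c) (show c ∈ 𝒜 1 from hl hc), smul_eq_mul]
      have h1 := ih v (cp 𝒜 (((u + 1 + v : ℕ) : ℤ) - 1) (l c)) (by
        have := cp_mem 𝒜 (((u + 1 + v : ℕ) : ℤ) - 1) (l c)
        convert this using 2
        push_cast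
        ring)
      generalize cp 𝒜 (((u + 1 + v : ℕ) : ℤ) - 1) (l c) = y at h1 ⊢
      induction h1 using AddSubgroup.closure_induction with
      | mem w hw =>
        obtain ⟨s, hs, t, ht, rfl⟩ := hw
        refine AddSubgroup.subset_closure ⟨s * c, ?_, t, ht, by ring⟩
        have := SetLike.mul_mem_graded hs (show c ∈ 𝒜 1 from hl hc)
        rwa [Nat.cast_succ]
      | zero => rw [zero_mul]; exact zero_mem _
      | add a b _ _ ha hb => rw [add_mul]; exact add_mem ha hb
      | neg a _ ha => rw [neg_mul]; exact neg_mem ha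
  refine eq_top_iff.2 fun z _ => ?_
  rw [← DirectSum.sum_support_decompose ℳ' z]
  refine Submodule.sum_mem _ fun j _ => ?_
  generalize hw : ((DirectSum.decompose ℳ' z j : ℳ' j) : M') = w
  have hwj : w ∈ ℳ' j := hw ▸ (DirectSum.decompose ℳ' z j).2
  clear hw
  have hgw : g w ∈ 𝒜 (a + j * q) := hgdeg j ▸ ⟨w, hwj, rfl⟩
  rcases lt_or_ge j j₀ with h | h
  · have hneg : a + j * q < 0 := lt_of_le_of_lt (by nlinarith) hj₀'
    rw [hpos _ hneg, AddSubgroup.mem_bot] at hgw
    rw [show w = 0 from hg (by rw [hgw, map_zero])]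
    exact zero_mem _
  have hsplit := hpiece ((j - j₀) * q).toNat (a + j₀ * q).toNat (g w) (by
    convert hgw using 2
    push_cast
    rw [Int.toNat_of_nonneg (mul_nonneg (by omega) (by omega)), Int.toNat_of_nonneg hj₀]
    ring)
  have key : g w ∈ g '' (Submodule.span R' ((ℳ' j₀ : AddSubgroup M') : Set M') : Set M') := by
    generalize g w = y at hsplit ⊢
    induction hsplit using AddSubgroup.closure_induction with
    | mem x hx =>
      obtain ⟨s, hs, t, ht, rfl⟩ := hx
      rw [Int.toNat_of_nonneg (mul_nonneg (by omega) (by omega)), ← hdeg] at hs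
      rw [Int.toNat_of_nonneg hj₀, ← hgdeg] at ht
      obtain ⟨s', -, rfl⟩ := hs
      obtain ⟨t', ht', rfl⟩ := ht
      exact ⟨s' • t', Submodule.smul_mem _ _ (Submodule.subset_span ht'), g.map_smulₛₗ s' t'⟩
    | zero => exact ⟨0, zero_mem _, map_zero g⟩
    | add x y _ _ hx hy =>
      obtain ⟨x', hx', rfl⟩ := hx
      obtain ⟨y', hy', rfl⟩ := hy
      exact ⟨x' + y', add_mem hx' hy', map_add g x' y'⟩
    | neg x _ hx =>
      obtain ⟨x', hx', rfl⟩ := hx
      exact ⟨-x', neg_mem hx', map_neg g x'⟩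
  obtain ⟨w', hw', hgw'⟩ := key
  exact hg hgw' ▸ hw'

end Groth.Agent.S18672
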