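import Groth.Statements.S18685
import Groth.Agent.L28.GLat.Basic

set_option autoImplicit false
open GLat

namespace Groth.Agent.S18685

/-- For a finite group G and a finitely generated G-module A there is an exact sequence 0 → P → F → A →
0 of finitely generated G-modules with P a permutation lattice and F a flasque lattice; rendered by
equivariant ℤ-linear maps i : P → F injective, π : F → A surjective, with range i = ker π. -/
theorem result (G : Type) [Group G] [Finite G]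
    (A : Type) [AddCommGroup A] [Module.Finite ℤ A] (ρ : Representation ℤ G A) :
    ∃ (P : Type) (_ : AddCommGroup P) (F : Type) (_ : AddCommGroup F)
      (_ : Module.Finite ℤ P) (_ : Module.Free ℤ P) (_ : Module.Finite ℤ F) (_ : Module.Free ℤ F)
      (σ : Representation ℤ G P) (τ : Representation ℤ G F) (i : P →ₗ[ℤ] F) (π : F →ₗ[ℤ] A),
      GLat.IsEquivariant σ τ i ∧ GLat.IsEquivariant τ ρ π ∧ Function.Injective i ∧ Function.Surjective π ∧
      LinearMap.range i = LinearMap.ker π ∧ GLat.IsPermutation σ ∧ GLat.IsFlasque τ := by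
  classical
  obtain ⟨S₁, i1, i2, π₁, hπ₁, hs₁, -⟩ := Groth.L28.GLat.exists_cover ρ
  have : Module.Finite ℤ (LinearMap.ker π₁) := Module.Finite.iff_fg.2 (IsNoetherian.noetherian _)
  let ω := Groth.L28.GLat.kerRep (Groth.L28.GLat.permRep G S₁) ρ π₁ hπ₁
  obtain ⟨S, i1', i2', F, j1, j2, j3, τ, j, π, h1, h2, h3, h4, h5, h6⟩ :=
    Groth.L28.GLat.exists_flasque_resolution ω
  let σ₁ := Groth.L28.GLat.permRep G S₁
  let σ := Groth.L28.GLat.permRep G S
  let θ : Representation ℤ G ((S₁ → ℤ) × (S → ℤ)) :=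
    { toFun := fun g => (σ₁ g).prodMap (σ g)
      map_one' := by rw [map_one, map_one]; rfl
      map_mul' := fun g h => by rw [map_mul, map_mul]; rfl }
  let R := LinearMap.range ((LinearMap.ker π₁).subtype.prod (-j))
  have hR : ∀ g, R ≤ R.comap (θ g) := by
    rintro g _ ⟨q, rfl⟩
    refine ⟨ω g q, Prod.ext rfl ?_⟩
    show -j (ω g q) = σ g (-j q)
    rw [h1, map_neg]
  let χ : Representation ℤ G (((S₁ → ℤ) × (S → ℤ)) ⧸ R) :=
    { toFun := fun g => R.mapQ R (θ g) (hR g)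
      map_one' := Submodule.linearMap_qext _ (LinearMap.ext fun x => by
        show R.mkQ (θ 1 x) = R.mkQ x
        rw [map_one]; rfl)
      map_mul' := fun g h => Submodule.linearMap_qext _ (LinearMap.ext fun x => by
        show R.mkQ (θ (g * h) x) = R.mkQ (θ g (θ h x))
        rw [map_mul]; rfl) }
  let inP : (S → ℤ) →ₗ[ℤ] ((S₁ → ℤ) × (S → ℤ)) ⧸ R := R.mkQ ∘ₗ LinearMap.inr ℤ _ _
  let inP₁ : (S₁ → ℤ) →ₗ[ℤ] ((S₁ → ℤ) × (S → ℤ)) ⧸ R := R.mkQ ∘ₗ LinearMap.inl ℤ _ _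
  let toA : ((S₁ → ℤ) × (S → ℤ)) ⧸ R →ₗ[ℤ] A := R.liftQ (π₁ ∘ₗ LinearMap.fst ℤ _ _) (by
    rintro _ ⟨q, rfl⟩
    exact LinearMap.mem_ker.1 q.2)
  let toF : ((S₁ → ℤ) × (S → ℤ)) ⧸ R →ₗ[ℤ] F := R.liftQ (π ∘ₗ LinearMap.snd ℤ _ _) (by
    rintro _ ⟨q, rfl⟩
    show π (-j q) = 0
    rw [map_neg, LinearMap.mem_ker.1 (h5 ▸ LinearMap.mem_range_self j q), neg_zero])
  have hinP₁ : Function.Injective inP₁ := by
    rw [← LinearMap.ker_eq_bot, _root_.eq_bot_iff]
    intro x hx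
    obtain ⟨q, hq⟩ := (Submodule.Quotient.mk_eq_zero R).1 hx
    have hq2 : -j q = 0 := congrArg Prod.snd hq
    have hq0 : q = 0 := h3 (by rw [map_zero]; exact neg_eq_zero.1 hq2)
    have hq1 : q.1 = x := congrArg Prod.fst hq
    rw [Submodule.mem_bot, ← hq1, hq0]; rfl
  have hex : LinearMap.range inP₁ = LinearMap.ker toF := by
    refine le_antisymm ?_ fun x hx => ?_
    · rintro _ ⟨a, rfl⟩
      exact LinearMap.mem_ker.2 (map_zero π)
    · obtain ⟨⟨a, b⟩, rfl⟩ := R.mkQ_surjective x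
      obtain ⟨q, hq⟩ : b ∈ LinearMap.range j := h5 ▸ LinearMap.mem_ker.2 (show π b = 0 from hx)
      refine ⟨a + q.1, (Submodule.Quotient.eq R).2 ⟨q, Prod.ext ?_ ?_⟩⟩
      · show q.1 = a + q.1 - a
        abel
      · show -j q = 0 - b
        rw [hq, zero_sub]
  have : IsAddTorsionFree (((S₁ → ℤ) × (S → ℤ)) ⧸ R) := by
    refine ⟨fun n hn x y hxy => ?_⟩
    rw [← sub_eq_zero]
    have hd : n • (x - y) = 0 := by rw [smul_sub]; exact sub_eq_zero.2 hxy
    have h0 := congrArg toF hd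
    rw [map_nsmul, map_zero, ← natCast_zsmul, smul_eq_zero, Nat.cast_eq_zero] at h0
    obtain ⟨z, hz⟩ : x - y ∈ LinearMap.range inP₁ := hex ▸ LinearMap.mem_ker.2 (h0.resolve_left hn)
    rw [← hz, ← map_nsmul, ← map_zero inP₁] at hd
    rw [← hz, (smul_eq_zero.1 (hinP₁ hd)).resolve_left hn, map_zero]
  refine ⟨S → ℤ, inferInstance, ((S₁ → ℤ) × (S → ℤ)) ⧸ R, inferInstance, inferInstance, inferInstance,
    inferInstance, Module.free_of_finite_type_torsion_free', σ, χ, inP, toA, ?_, ?_, ?_, ?_, ?_,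
    Groth.L28.GLat.isPermutation_permRep S, ?_⟩
  · intro g a
    refine congrArg R.mkQ (Prod.ext ?_ rfl)
    show (0 : S₁ → ℤ) = σ₁ g 0
    rw [map_zero]
  · intro g x
    obtain ⟨x, rfl⟩ := R.mkQ_surjective x
    exact hπ₁ g x.1
  · rw [← LinearMap.ker_eq_bot, _root_.eq_bot_iff]
    intro x hx
    obtain ⟨q, hq⟩ := (Submodule.Quotient.mk_eq_zero R).1 hx
    have hq1 : q = 0 := Subtype.ext (congrArg Prod.fst hq)
    have hq2 : -j q = x := congrArg Prod.snd hq
    rw [Submodule.mem_bot, ← hq2, hq1, map_zero, neg_zero]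
  · intro a
    obtain ⟨x, hx⟩ := hs₁ a
    exact ⟨R.mkQ (x, 0), hx⟩
  · refine le_antisymm ?_ fun x hx => ?_
    · rintro _ ⟨a, rfl⟩
      exact LinearMap.mem_ker.2 (map_zero π₁)
    · obtain ⟨⟨a, b⟩, rfl⟩ := R.mkQ_surjective x
      let q : LinearMap.ker π₁ := ⟨a, hx⟩
      refine ⟨b + j q, (Submodule.Quotient.eq R).2 ⟨-q, Prod.ext ?_ ?_⟩⟩
      · show -a = 0 - a
        rw [zero_sub]
      · show -j (-q) = b + j q - b
        rw [map_neg, neg_neg]; abel
  · refine Groth.L28.GLat.isFlasque_of_ext σ₁ χ τ inP₁ toF ?_ ?_ hinP₁ ?_ hex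
      (Groth.L28.GLat.isFlasque_permRep S₁) h6
    · intro g a
      refine congrArg R.mkQ (Prod.ext rfl ?_)
      show (0 : S → ℤ) = σ g 0
      rw [map_zero]
    · intro g x
      obtain ⟨x, rfl⟩ := R.mkQ_surjective x
      exact h2 g x.2
    · intro y
      obtain ⟨x, hx⟩ := h4 y
      exact ⟨R.mkQ (0, x), hx⟩

end Groth.Agent.S18685
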