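import Groth.Statements.S18687
import Groth.Agent.L28.GLat.Basic

set_option autoImplicit false
open GLat

namespace Groth.Agent.S18687

/-- For a finite group G and a G-lattice A (finitely generated and free over ℤ) there is an exact
sequence 0 → A → Q → P → 0 of G-lattices with Q coflasque and P a permutation lattice (a coflasque
resolution of A); rendered by equivariant ℤ-linear maps i : A → Q injective, π : Q → P surjective,
with range i = ker π. -/
theorem result (G : Type) [Group G] [Finite G]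
    (A : Type) [AddCommGroup A] [Module.Finite ℤ A] [Module.Free ℤ A] (ρ : Representation ℤ G A) :
    ∃ (Q : Type) (_ : AddCommGroup Q) (P : Type) (_ : AddCommGroup P)
      (_ : Module.Finite ℤ Q) (_ : Module.Free ℤ Q) (_ : Module.Finite ℤ P) (_ : Module.Free ℤ P)
      (σ : Representation ℤ G Q) (τ : Representation ℤ G P) (i : A →ₗ[ℤ] Q) (π : Q →ₗ[ℤ] P),
      GLat.IsEquivariant ρ σ i ∧ GLat.IsEquivariant σ τ π ∧ Function.Injective i ∧ Function.Surjective π ∧
      LinearMap.range i = LinearMap.ker π ∧ GLat.IsCoflasque σ ∧ GLat.IsPermutation τ := by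
  classical
  obtain ⟨S, i1, i2, F, j1, j2, j3, τ, i, π, h1, h2, h3, h4, h5, -⟩ :=
    Groth.L28.GLat.exists_flasque_resolution ρ
  obtain ⟨S', i1', i2', π', h2', h4', hco⟩ := Groth.L28.GLat.exists_coflasque_cover τ
  let σ := Groth.L28.GLat.permRep G S
  let σ' := Groth.L28.GLat.permRep G S'
  let f : (S → ℤ) × (S' → ℤ) →ₗ[ℤ] F := π.coprod (-π')
  have hmem : ∀ x, x ∈ LinearMap.ker f ↔ π x.1 = π' x.2 := fun x => by
    rw [LinearMap.mem_ker, LinearMap.coprod_apply, LinearMap.neg_apply, ← sub_eq_add_neg, sub_eq_zero]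
  let θ : Representation ℤ G ((S → ℤ) × (S' → ℤ)) :=
    { toFun := fun g => (σ g).prodMap (σ' g)
      map_one' := by rw [map_one, map_one]; rfl
      map_mul' := fun g h => by rw [map_mul, map_mul]; rfl }
  have hf : GLat.IsEquivariant θ τ f := fun g x => by
    show π (σ g x.1) + -π' (σ' g x.2) = τ g (π x.1 + -π' x.2)
    rw [h2, h2', map_add, map_neg]
  let χ := Groth.L28.GLat.kerRep θ τ f hf
  let inA : A →ₗ[ℤ] LinearMap.ker f := (LinearMap.inl ℤ (S → ℤ) (S' → ℤ) ∘ₗ i).codRestrict _ fun a => by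
    rw [hmem]
    show π (i a) = π' 0
    rw [map_zero]
    exact LinearMap.mem_ker.1 (h5 ▸ LinearMap.mem_range_self i a)
  let toP : LinearMap.ker f →ₗ[ℤ] S' → ℤ := LinearMap.snd ℤ _ _ ∘ₗ (LinearMap.ker f).subtype
  let toP₀ : LinearMap.ker f →ₗ[ℤ] S → ℤ := LinearMap.fst ℤ _ _ ∘ₗ (LinearMap.ker f).subtype
  let inK : LinearMap.ker π' →ₗ[ℤ] LinearMap.ker f :=
    (LinearMap.inr ℤ (S → ℤ) (S' → ℤ) ∘ₗ (LinearMap.ker π').subtype).codRestrict _ fun a => by
      rw [hmem]
      show π 0 = π' a.1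
      rw [map_zero, LinearMap.mem_ker.1 a.2]
  refine ⟨LinearMap.ker f, inferInstance, S' → ℤ, inferInstance, Module.Finite.iff_fg.2 (IsNoetherian.noetherian _),
    inferInstance, inferInstance, inferInstance, χ, σ', inA, toP, ?_, ?_, ?_, ?_, ?_, ?_,
    Groth.L28.GLat.isPermutation_permRep S'⟩
  · intro g a
    refine Subtype.ext (Prod.ext (h1 g a) ?_)
    show (0 : S' → ℤ) = σ' g 0
    rw [map_zero]
  · exact fun g x => rfl
  · exact fun a a' h => h3 (congrArg (fun x : LinearMap.ker f => x.1.1) h)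
  · intro y
    obtain ⟨x, hx⟩ := h4 (π' y)
    exact ⟨⟨(x, y), (hmem _).2 hx⟩, rfl⟩
  · refine le_antisymm ?_ fun x hx => ?_
    · rintro _ ⟨a, rfl⟩
      exact LinearMap.mem_ker.2 rfl
    · have hx2 : x.1.2 = 0 := hx
      have hx1 := (hmem _).1 x.2
      rw [hx2, map_zero] at hx1
      obtain ⟨a, ha⟩ : x.1.1 ∈ LinearMap.range i := h5 ▸ LinearMap.mem_ker.2 hx1
      exact ⟨a, Subtype.ext (Prod.ext ha hx2.symm)⟩
  · refine Groth.L28.GLat.isCoflasque_of_ext _ χ σ inK toP₀ ?_ (fun g x => rfl) ?_ ?_ ?_ hco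
      (Groth.L28.GLat.isCoflasque_permRep S)
    · intro g a
      refine Subtype.ext (Prod.ext ?_ rfl)
      show (0 : S → ℤ) = σ g 0
      rw [map_zero]
    · exact fun a a' h => Subtype.ext (congrArg (fun x : LinearMap.ker f => x.1.2) h)
    · intro x
      obtain ⟨y, hy⟩ := h4' (π x)
      exact ⟨⟨(x, y), (hmem _).2 hy.symm⟩, rfl⟩
    · refine le_antisymm ?_ fun x hx => ?_
      · rintro _ ⟨a, rfl⟩
        exact LinearMap.mem_ker.2 rfl
      · have hx1 : x.1.1 = 0 := hx
        have hx2 := (hmem _).1 x.2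
        rw [hx1, map_zero] at hx2
        exact ⟨⟨x.1.2, LinearMap.mem_ker.2 hx2.symm⟩, Subtype.ext (Prod.ext hx1.symm rfl)⟩

end Groth.Agent.S18687
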