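import Groth.Statements.S18694
import Groth.Agent.L04.WeilGmLift.Main

set_option autoImplicit false
open CategoryTheory MonoidalCategory CartesianMonoidalCategory MonObj GrpObj AlgebraicGeometry
universe u
open MultTori

namespace Groth.Agent.S18694

/-- In the case of the quasitrivial torus R_{B/A}(G_m), let A be a semilocal ring (finitely many maximal
ideals m, residue fields κ_m = A/m), B a finite étale A-algebra, and (P, q) a Weil restriction along
Spec B → Spec A of the multiplicative group over B (P an A-scheme with q : P ×_A B → G_{m,B}
universal). Then the reduction map P(A) → ∏_m P(κ_m) is surjective: every family (u_m) of κ_m-points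
of P over the closed points of Spec A is the family of restrictions of one section of P over A. (The
source states this for every invertible A-torus and reduces it to this case; the
invertible/quasitrivial notions are not available here, so only this case is stated.) -/
theorem result
    (A : Type u) [CommRing A] [Finite (MaximalSpectrum A)]
    (B : Type u) [CommRing B] [Algebra A B] [Module.Finite A B] [Algebra.Etale A B]
    (P : Over (Spec (CommRingCat.of A))) (q : Red.bc (Spec.map (CommRingCat.ofHom (algebraMap A B))) P ⟶ Red.Gm (Spec (CommRingCat.of B)))
    (hP : WeilRes.IsWeilRes (Spec.map (CommRingCat.ofHom (algebraMap A B))) (Red.Gm (Spec (CommRingCat.of B))) P q)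
    (u : ∀ m : MaximalSpectrum A, Spec (CommRingCat.of (A ⧸ m.asIdeal)) ⟶ P.left)
    (hu : ∀ m : MaximalSpectrum A, u m ≫ P.hom = (Spec.map (CommRingCat.ofHom (Ideal.Quotient.mk m.asIdeal)))) :
    ∃ s : Spec (CommRingCat.of A) ⟶ P.left, s ≫ P.hom = 𝟙 (Spec (CommRingCat.of A)) ∧
      ∀ m : MaximalSpectrum A, (Spec.map (CommRingCat.ofHom (Ideal.Quotient.mk m.asIdeal))) ≫ s = u m := by
  haveI : Algebra.IsIntegral A B := Algebra.IsIntegral.of_finite A B
  exact Groth.L04.WeilGmLift.main A B P q hP u hu

end Groth.Agent.S18694
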