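import Groth.Statements.S18696
import Groth.Agent.L24.Retract.Geom
-- import your own Groth.Agent.* helpers here

set_option autoImplicit false
open CategoryTheory MonoidalCategory CartesianMonoidalCategory MonObj GrpObj AlgebraicGeometry
universe u
open MultTori

namespace Groth.Agent.S18696

/-- (v) ⇒ (viii): let k be a field and T an isotrivial k-torus (isomorphic to a split torus of some rank
after one finite étale surjective base change). If for every discrete valuation ring A containing k
(a k-algebra), with residue field κ, the reduction map T(A) → T(κ) is surjective, then T is retract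
rational over k: there are a nonempty open subscheme U of T, an open subscheme Y of an affine space
over k and k-morphisms U → Y → U whose composite is the identity of U. -/
theorem result
    (k : Type u) [Field k] (T : Over (Spec (CommRingCat.of k))) [GrpObj T]
    (hT : ∃ r : ℕ, TwC.Locally (Spec (CommRingCat.of k)) .finiteEtale
        (fun S' g => Red.IsSplitTorusWith (Fin r → ℤ) (Red.bc g T)))
    (h : ∀ (A : Type u) [CommRing A] [IsDomain A] [IsDiscreteValuationRing A] [Algebra k A]
        (u : Spec (CommRingCat.of (IsLocalRing.ResidueField A)) ⟶ T.left),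
        u ≫ T.hom = Spec.map (CommRingCat.ofHom ((IsLocalRing.residue A).comp (algebraMap k A))) →
        ∃ s : Spec (CommRingCat.of A) ⟶ T.left, s ≫ T.hom = Spec.map (CommRingCat.ofHom (algebraMap k A)) ∧
          Spec.map (CommRingCat.ofHom (IsLocalRing.residue A)) ≫ s = u) :
    ∃ (U : T.left.Opens) (n : ℕ) (Y : (Spec (CommRingCat.of (MvPolynomial (Fin n) k))).Opens)
        (a : (U : Scheme.{u}) ⟶ (Y : Scheme.{u})) (b : (Y : Scheme.{u}) ⟶ (U : Scheme.{u})),
        (U : Set T.left).Nonempty ∧ a ≫ b = 𝟙 (U : Scheme.{u}) ∧
        a ≫ Y.ι ≫ Spec.map (CommRingCat.ofHom (algebraMap k (MvPolynomial (Fin n) k))) = U.ι ≫ T.hom ∧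
        b ≫ U.ι ≫ T.hom = Y.ι ≫ Spec.map (CommRingCat.ofHom (algebraMap k (MvPolynomial (Fin n) k))) := by
  exact Groth.L24.Retract.exists_retraction T hT h

end Groth.Agent.S18696
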