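
import Groth.Statements.S1870
import Groth.Agent.L22.Herbrand

set_option autoImplicit false
universe u v
open CycAlg

namespace Groth.Agent.S1870

/-- A morphism of (2,1)-periodic complexes, both with finite-length cohomology, whose kernel and
cokernel have finite length does not change the additive Herbrand quotient: e_R(M, φ, ψ) = e_R(M',
φ', ψ'). -/
theorem result {R : Type u} [CommRing R] {M M' : Type v} [AddCommGroup M] [Module R M] [AddCommGroup M'] [Module R M'] (φ ψ : M →ₗ[R] M) (φ' ψ' : M' →ₗ[R] M') (h : CycAlg.IsPeriodic φ ψ) (h' : CycAlg.IsPeriodic φ' ψ') (f : M →ₗ[R] M') (cφ : φ' ∘ₗ f = f ∘ₗ φ) (cψ : ψ' ∘ₗ f = f ∘ₗ ψ) (hfin : CycAlg.FinCoh R φ ψ) (hfin' : CycAlg.FinCoh R φ' ψ') (hker : Module.length R (LinearMap.ker f) < ⊤) (hcoker : Module.length R (M' ⧸ LinearMap.range f) < ⊤) : CycAlg.herbrand R φ ψ = CycAlg.herbrand R φ' ψ' := by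
  have c1 := LinearMap.congr_fun cφ
  have d1 := LinearMap.congr_fun cψ
  simp only [LinearMap.comp_apply] at c1 d1
  have hk : ∀ x ∈ LinearMap.ker f, φ x ∈ LinearMap.ker f := fun x hx => by
    rw [LinearMap.mem_ker] at hx ⊢; rw [← c1, hx, map_zero]
  have lk : ∀ x ∈ LinearMap.ker f, ψ x ∈ LinearMap.ker f := fun x hx => by
    rw [LinearMap.mem_ker] at hx ⊢; rw [← d1, hx, map_zero]
  have hr : ∀ y ∈ LinearMap.range f, φ' y ∈ LinearMap.range f := by
    rintro _ ⟨x, rfl⟩; exact ⟨φ x, (c1 x).symm⟩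
  have lr : ∀ y ∈ LinearMap.range f, ψ' y ∈ LinearMap.range f := by
    rintro _ ⟨x, rfl⟩; exact ⟨ψ x, (d1 x).symm⟩
  have hr' : LinearMap.range f ≤ Submodule.comap φ' (LinearMap.range f) := hr
  have lr' : LinearMap.range f ≤ Submodule.comap ψ' (LinearMap.range f) := lr
  set A := LinearMap.range f with hA
  let φK : LinearMap.ker f →ₗ[R] LinearMap.ker f := φ.restrict hk
  let ψK : LinearMap.ker f →ₗ[R] LinearMap.ker f := ψ.restrict lk
  let φI : A →ₗ[R] A := φ'.restrict hr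
  let ψI : A →ₗ[R] A := ψ'.restrict lr
  let φC : (M' ⧸ A) →ₗ[R] (M' ⧸ A) := A.mapQ A φ' hr'
  let ψC : (M' ⧸ A) →ₗ[R] (M' ⧸ A) := A.mapQ A ψ' lr'
  have pK : CycAlg.IsPeriodic φK ψK :=
    ⟨LinearMap.ext fun x => Subtype.ext (LinearMap.congr_fun h.1 x.1),
      LinearMap.ext fun x => Subtype.ext (LinearMap.congr_fun h.2 x.1)⟩
  have pC : CycAlg.IsPeriodic φC ψC := by
    constructor <;>
    · ext x
      simp only [φC, ψC, LinearMap.comp_apply, Submodule.mkQ_apply, Submodule.mapQ_apply,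
        LinearMap.zero_apply]
      first
        | (rw [show φ' (ψ' x) = 0 from LinearMap.congr_fun h'.1 x]; rfl)
        | (rw [show ψ' (φ' x) = 0 from LinearMap.congr_fun h'.2 x]; rfl)
  obtain ⟨fK, eK⟩ := Groth.L22.herbrand_eq_length_sub_length pK hker hker
  obtain ⟨fC, eC⟩ := Groth.L22.herbrand_eq_length_sub_length pC hcoker hcoker
  obtain ⟨_, _, fI, e1⟩ := Groth.L22.herbrand_shortExact φK ψK φ ψ φI ψI h
    (LinearMap.ker f).subtype (LinearMap.ker f).subtype f.rangeRestrict f.rangeRestrict rfl rfl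
    (LinearMap.ext fun x => Subtype.ext (c1 x)) (LinearMap.ext fun x => Subtype.ext (d1 x))
    (Submodule.injective_subtype _) (Submodule.injective_subtype _)
    f.surjective_rangeRestrict f.surjective_rangeRestrict
    (by simp [LinearMap.ker_rangeRestrict]) (by simp [LinearMap.ker_rangeRestrict])
    (Or.inl ⟨fK, hfin⟩)
  obtain ⟨_, _, _, e2⟩ := Groth.L22.herbrand_shortExact φI ψI φ' ψ' φC ψC h'
    A.subtype A.subtype A.mkQ A.mkQ rfl rfl rfl rfl
    (Submodule.injective_subtype _) (Submodule.injective_subtype _)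
    A.mkQ_surjective A.mkQ_surjective (by simp) (by simp) (Or.inl ⟨fI, hfin'⟩)
  rw [e1, e2, eK, eC]
  ring

end Groth.Agent.S1870
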