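import Groth.Statements.S18701
import Groth.Agent.L04.Depth2
import Groth.Agent.L04.SupportLoc

set_option autoImplicit false
universe u
open QGor

namespace Groth.Agent.S18701

/-- Affine form. Let A be a Noetherian ring and G the kernel of a linear map u : E⁰ → E¹ of finite
A-modules. If E⁰ has (S_1) then G has (S_1). If Supp G ⊆ Supp E¹, E¹ has (S_1) and E⁰ has (S_2),
then G has (S_2). -/
theorem result (A : Type u) [CommRing A] [IsNoetherianRing A]
    (E0 E1 : Type u) [AddCommGroup E0] [Module A E0] [Module.Finite A E0] [AddCommGroup E1] [Module A E1]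
    [Module.Finite A E1] (u : E0 →ₗ[A] E1) :
    (LocCoh.HasSk 1 A E0 → LocCoh.HasSk 1 A (LinearMap.ker u)) ∧
    (Module.support A (LinearMap.ker u) ⊆ Module.support A E1 → LocCoh.HasSk 1 A E1 → LocCoh.HasSk 2 A E0 →
      LocCoh.HasSk 2 A (LinearMap.ker u)) := by
  have hex : Function.Exact (LinearMap.ker u).subtype u :=
    LinearMap.exact_iff.2 (Submodule.range_subtype _).symm
  have hmono : ∀ (p : Ideal A) [p.IsPrime],
      Module.supportDim (Localization.AtPrime p) (LocalizedModule p.primeCompl (LinearMap.ker u)) ≤
        Module.supportDim (Localization.AtPrime p) (LocalizedModule p.primeCompl E0) := fun p _ =>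
    Module.supportDim_le_of_injective _ (LocalizedModule.map_injective p.primeCompl _ (LinearMap.ker u).injective_subtype)
  refine ⟨fun h0 => Groth.L04.hasSk_of_exact _ (LinearMap.ker u).injective_subtype u hex 1 (by norm_num) ?_
    (by norm_num) (by norm_num), fun hsupp h1 h0 => Groth.L04.hasSk_of_exact _ (LinearMap.ker u).injective_subtype u hex 2 le_rfl ?_ ?_ ?_⟩
  · intro p _ hd
    have := h0 p
    rw [min_eq_left (le_trans (by simpa using hd) (hmono p))] at this
    exact_mod_cast this
  · intro p _ hd
    have := h0 p
    rw [min_eq_left (le_trans (by simpa using hd) (hmono p))] at this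
    exact WithBot.coe_le_coe.1 (by simpa using this)
  · intro _ p _ hd
    have hle : Module.supportDim (Localization.AtPrime p) (LocalizedModule p.primeCompl (LinearMap.ker u)) ≤
        Module.supportDim (Localization.AtPrime p) (LocalizedModule p.primeCompl E1) :=
      Groth.L04.supportDim_localized_mono hsupp p
    have := h1 p
    rw [min_eq_left (le_trans (le_trans (by norm_num) hd) hle)] at this
    exact_mod_cast this
  · intro _ p _ hd
    have := h0 p
    rcases le_total (2 : WithBot ℕ∞) (Module.supportDim (Localization.AtPrime p) (LocalizedModule p.primeCompl E0)) with h2 | h2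
    · rw [min_eq_left (by simpa using h2)] at this
      exact le_trans one_le_two ((WithBot.coe_le_coe (a := (2 : ℕ∞))).1 (by simpa using this))
    · rw [min_eq_right (by simpa using h2)] at this
      exact WithBot.coe_le_coe.1 (le_trans (le_trans (by simpa using hd) (hmono p)) this)

end Groth.Agent.S18701
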