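import Groth.Statements.S18702
import Groth.Agent.L04.Depth2

set_option autoImplicit false
universe u
open QGor

namespace Groth.Agent.S18702

theorem depth_free {A : Type u} [CommRing A] [IsNoetherianRing A] {k' k : ℕ} (h : LocCoh.HasSk k' A A)
    (hk : k ≤ k') (p : Ideal A) [p.IsPrime] {G : Type u} [AddCommGroup G] [Module A G] [Module.Finite A G]
    (hd : (k : WithBot ℕ∞) ≤ Module.supportDim (Localization.AtPrime p) (LocalizedModule p.primeCompl G))
    (j : ℕ) : (k : ℕ∞) ≤ LocCoh.depth (Localization.AtPrime p) (LocalizedModule p.primeCompl (Fin j → A)) := by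
  haveI : Module.Free (Localization.AtPrime p) (LocalizedModule p.primeCompl (Fin j → A)) :=
    Module.free_of_isLocalizedModule p.primeCompl (LocalizedModule.mkLinearMap p.primeCompl (Fin j → A))
  refine Groth.L04.le_idealDepth_free _ _ ?_
  let e : LocalizedModule p.primeCompl A ≃ₗ[Localization.AtPrime p] Localization.AtPrime p :=
    (IsLocalizedModule.linearEquiv p.primeCompl (LocalizedModule.mkLinearMap p.primeCompl A)
      (Algebra.linearMap A (Localization.AtPrime p))).extendScalarsOfIsLocalization p.primeCompl _
  have hdim := hd.trans ((Module.supportDim_le_ringKrullDim _ _).trans_eq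
    ((Module.supportDim_self_eq_ringKrullDim (R := Localization.AtPrime p)).symm.trans
      (Module.supportDim_eq_of_equiv e.symm)))
  have h1 := h p
  rw [← Groth.L04.idealDepth_congr e]
  have h2 := le_trans (le_min (by exact_mod_cast hk) hdim) h1
  exact_mod_cast h2

/-- Affine form, for an arbitrary Noetherian ring A (not assumed to be a domain). Let I be an ideal and
G a finite reflexive A-module (the evaluation map into the double dual is bijective). For k = 1 and
k = 2: if depth_I A ≥ k then depth_I G ≥ k; and if A satisfies (S_k) then G satisfies (S_k). -/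
theorem result (A : Type u) [CommRing A] [IsNoetherianRing A] (I : Ideal A)
    (G : Type u) [AddCommGroup G] [Module A G] [Module.Finite A G] [Module.IsReflexive A G] :
    (1 ≤ LocCoh.idealDepth I A → 1 ≤ LocCoh.idealDepth I G) ∧
    (2 ≤ LocCoh.idealDepth I A → 2 ≤ LocCoh.idealDepth I G) ∧
    (LocCoh.HasSk 1 A A → LocCoh.HasSk 1 A G) ∧ (LocCoh.HasSk 2 A A → LocCoh.HasSk 2 A G) := by
  obtain ⟨n, m, w, ⟨e⟩⟩ := Groth.L04.exists_dual_equiv_ker (R := A) (Module.Dual A G)
  let e' : G ≃ₗ[A] LinearMap.ker w := (Module.evalEquiv A G).trans e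
  have hex : Function.Exact ((LinearMap.ker w).subtype ∘ₗ e'.toLinearMap) w :=
    LinearMap.exact_iff.2 (by rw [LinearMap.range_comp, LinearEquiv.range, Submodule.map_top, Submodule.range_subtype])
  have hinj : Function.Injective ((LinearMap.ker w).subtype ∘ₗ e'.toLinearMap) :=
    (LinearMap.ker w).injective_subtype.comp e'.injective
  refine ⟨fun h => ?_, fun h => ?_, fun h => ?_, fun h => ?_⟩
  · rw [Groth.L04.idealDepth_congr e']
    exact (Groth.L04.idealDepth_ker I w).1 (by simpa using Groth.L04.le_idealDepth_pi (n := 1) I (by simpa using h) n)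
  · rw [Groth.L04.idealDepth_congr e']
    exact (Groth.L04.idealDepth_ker I w).2 (Groth.L04.le_idealDepth_pi (n := 2) I h n)
      (by simpa using Groth.L04.le_idealDepth_pi (n := 1) I (by simpa using one_le_two.trans h) m)
  · exact Groth.L04.hasSk_of_exact _ hinj w hex 1 (by norm_num)
      (fun p _ hd => depth_free h (k := 1) le_rfl p hd _) (by norm_num) (by norm_num)
  · exact Groth.L04.hasSk_of_exact _ hinj w hex 2 le_rfl
      (fun p _ hd => depth_free h (k := 2) le_rfl p hd _)
      (fun _ p _ hd => by simpa using depth_free h (k := 1) one_le_two p (by exact le_trans (by norm_num) hd) m)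
      (fun _ p _ hd => by simpa using depth_free h (k := 1) one_le_two p (by exact le_trans (by norm_num) hd) n)

end Groth.Agent.S18702
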