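import Groth.Statements.S18704
import Groth.Agent.L04.Reflexive
import Mathlib.Algebra.Module.LocalizedModule.Basic

set_option autoImplicit false
universe u
open QGor

namespace Groth.Agent.S18704

/-- Affine form. Let A be a Noetherian ring with Serre's condition (S_2), I an ideal with ht I ≥ 2
(every prime containing I has height ≥ 2), and G a finite A-module with G_p reflexive for every
prime p not containing I. Then the following are equivalent: (i) G has (S_2) and dim Supp(G_p) ≥ 2
for every prime p ⊇ I in Supp G; (ii) depth_I G ≥ 2; (iii) G is reflexive. -/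
theorem result (A : Type u) [CommRing A] [IsNoetherianRing A]
    (hA : LocCoh.HasSk 2 A A) (I : Ideal A) (hI : 2 ≤ I.height)
    (G : Type u) [AddCommGroup G] [Module A G] [Module.Finite A G]
    (hU : ∀ p : PrimeSpectrum A, ¬ I ≤ p.asIdeal →
      Module.IsReflexive (Localization.AtPrime p.asIdeal) (LocalizedModule p.asIdeal.primeCompl G)) :
    ((LocCoh.HasSk 2 A G ∧ ∀ p : PrimeSpectrum A, I ≤ p.asIdeal → p ∈ Module.support A G →
        (2 : WithBot ℕ∞) ≤ Module.supportDim (Localization.AtPrime p.asIdeal) (LocalizedModule p.asIdeal.primeCompl G)) ↔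
      2 ≤ LocCoh.idealDepth I G) ∧
    (2 ≤ LocCoh.idealDepth I G ↔ Module.IsReflexive A G) := by

    classical
    have c2 : ∀ n : ℕ∞, ((2 : WithBot ℕ∞) ≤ (n : WithBot ℕ∞)) ↔ (2 : ℕ∞) ≤ n := fun n => by
      rw [show (2 : WithBot ℕ∞) = ((2 : ℕ∞) : WithBot ℕ∞) from rfl, WithBot.coe_le_coe]
    have hdim : ∀ (p : Ideal A) [p.IsPrime], (2 : WithBot ℕ∞) ≤ ringKrullDim (Localization.AtPrime p) →
        (2 : ℕ∞) ≤ LocCoh.depth (Localization.AtPrime p) (LocalizedModule p.primeCompl A) := by
      intro p _ hp
      have h := hA p
      rw [Module.supportDim_eq_of_equiv (LinearEquiv.symm (IsLocalizedModule.linearEquiv p.primeCompl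
        (Algebra.linearMap A (Localization.AtPrime p)) (LocalizedModule.mkLinearMap p.primeCompl A) |>.extendScalarsOfIsLocalization p.primeCompl (Localization.AtPrime p))),
        Module.supportDim_self_eq_ringKrullDim, min_eq_left (by exact_mod_cast hp)] at h
      exact (c2 _).1 h
    have hdA : 2 ≤ LocCoh.idealDepth I A := by
      rw [Groth.L04.idealDepth_eq_iInf_depth]
      refine le_iInf₂ fun p hp => hdim p.asIdeal ?_
      rw [IsLocalization.AtPrime.ringKrullDim_eq_height p.asIdeal (Localization.AtPrime p.asIdeal)]
      exact (c2 _).2 (hI.trans (Ideal.height_mono hp))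
    have h23 : 2 ≤ LocCoh.idealDepth I G → Module.IsReflexive A G :=
      Groth.L04.isReflexive_of_idealDepth_two I G (one_le_two.trans hdA) hU
    refine ⟨⟨fun ⟨hS, hd⟩ => ?_, fun h => ⟨?_, fun p hp hs => ?_⟩⟩, ⟨h23, fun hR => ?_⟩⟩
    · rw [Groth.L04.idealDepth_eq_iInf_depth]
      refine le_iInf₂ fun p hp => ?_
      by_cases hs : p ∈ Module.support A G
      · have h := hS p.asIdeal
        rw [min_eq_left (by exact_mod_cast hd p hp hs)] at h
        exact (c2 _).1 h
      · haveI := Module.notMem_support_iff.1 hs
        rw [LocCoh.depth, Groth.L04.idealDepth_eq_top (Subsingleton.elim _ _)]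
        exact le_top
    · haveI := h23 h
      obtain ⟨n, m, w, ⟨e⟩⟩ := Groth.L04.exists_dual_equiv_ker (R := A) (Module.Dual A G)
      let i : G →ₗ[A] (Fin n → A) := (LinearMap.ker w).subtype ∘ₗ e.toLinearMap ∘ₗ
        (Module.evalEquiv A G).toLinearMap
      have hfree : ∀ (p : Ideal A) [p.IsPrime] (k : ℕ), (2 : WithBot ℕ∞) ≤
          Module.supportDim (Localization.AtPrime p) (LocalizedModule p.primeCompl G) →
          (2 : ℕ∞) ≤ LocCoh.depth (Localization.AtPrime p) (LocalizedModule p.primeCompl (Fin k → A)) := by
        intro p _ k hk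
        haveI : Module.Free (Localization.AtPrime p) (LocalizedModule p.primeCompl (Fin k → A)) :=
          Module.free_of_isLocalizedModule p.primeCompl (LocalizedModule.mkLinearMap p.primeCompl (Fin k → A))
        haveI : Module.Finite (Localization.AtPrime p) (LocalizedModule p.primeCompl (Fin k → A)) :=
          Module.Finite.of_isLocalizedModule p.primeCompl (LocalizedModule.mkLinearMap p.primeCompl (Fin k → A))
        refine Groth.L04.le_idealDepth_free (n := 2) _ _ ?_
        have h2 := hdim p (hk.trans (Module.supportDim_le_ringKrullDim _ _))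
        rw [LocCoh.depth, ← Groth.L04.idealDepth_congr (IsLocalizedModule.linearEquiv p.primeCompl
          (Algebra.linearMap A (Localization.AtPrime p)) (LocalizedModule.mkLinearMap p.primeCompl A) |>.extendScalarsOfIsLocalization p.primeCompl (Localization.AtPrime p))] at h2
        exact h2
      refine Groth.L04.hasSk_of_exact i ?_ w ?_ 2 le_rfl (fun p _ hp => hfree p n hp)
        (fun _ p _ hp => one_le_two.trans (hfree p m hp)) (fun _ p _ hp => ?_)
      · exact Subtype.val_injective.comp (e.injective.comp (Module.evalEquiv A G).injective)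
      · rw [LinearMap.exact_iff]
        simp only [i, LinearMap.range_comp, LinearEquiv.range, Submodule.map_top, LinearEquiv.range, Submodule.range_subtype]
      · haveI : Module.Free (Localization.AtPrime p) (LocalizedModule p.primeCompl (Fin n → A)) :=
          Module.free_of_isLocalizedModule p.primeCompl (LocalizedModule.mkLinearMap p.primeCompl (Fin n → A))
        haveI : Module.Finite (Localization.AtPrime p) (LocalizedModule p.primeCompl (Fin n → A)) :=
          Module.Finite.of_isLocalizedModule p.primeCompl (LocalizedModule.mkLinearMap p.primeCompl (Fin n → A))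
        have h1 := hA p
        rw [Module.supportDim_eq_of_equiv (LinearEquiv.symm (IsLocalizedModule.linearEquiv p.primeCompl
          (Algebra.linearMap A (Localization.AtPrime p)) (LocalizedModule.mkLinearMap p.primeCompl A) |>.extendScalarsOfIsLocalization p.primeCompl (Localization.AtPrime p))),
          Module.supportDim_self_eq_ringKrullDim] at h1
        have h2 : (1 : WithBot ℕ∞) ≤ ((LocCoh.depth (Localization.AtPrime p) (LocalizedModule p.primeCompl A) : ℕ∞) : WithBot ℕ∞) :=
          (le_min (by norm_num) (hp.trans (Module.supportDim_le_ringKrullDim _ _))).trans h1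
        rw [LocCoh.depth, ← Groth.L04.idealDepth_congr (IsLocalizedModule.linearEquiv p.primeCompl
          (Algebra.linearMap A (Localization.AtPrime p)) (LocalizedModule.mkLinearMap p.primeCompl A) |>.extendScalarsOfIsLocalization p.primeCompl (Localization.AtPrime p))] at h2
        simpa [LocCoh.depth] using Groth.L04.le_idealDepth_free (n := 1) _ (LocalizedModule p.primeCompl (Fin n → A))
          (by exact_mod_cast h2)
    · exact le_trans ((c2 _).2 h) (Groth.L04.idealDepth_le_supportDim p hs hp)
    · rw [Groth.L04.idealDepth_congr (Module.evalEquiv A G)]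
      exact (Groth.L04.idealDepth_dual I (Module.Dual A G)).2 hdA

end Groth.Agent.S18704
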