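import Groth.Statements.S18707
import Groth.Agent.L04.FibStalkSeq
import Groth.Agent.L02.CMMor.FlatDepth
import Groth.Agent.L04.Depth2
import Mathlib.RingTheory.Flat.Localization

set_option linter.style.haveILetI false

set_option autoImplicit false
universe u
open QGor

namespace Groth.Agent.S18707

/-- Affine form. Let A → B be a homomorphism of Noetherian rings, J an ideal of B, and 0 → F → E⁰ → E¹ →
G → 0 an exact sequence of finite B-modules such that E⁰ and E¹ are flat over A and G_q is flat over
A for every prime q not containing J. Assume that for every prime q ⊇ J with contraction p to A the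
fibre stalk (E⁰)_q / p(E⁰)_q has depth ≥ 2 and (E¹)_q / p(E¹)_q has depth ≥ 1 over the fibre local
ring B_q / pB_q. Then depth_J F ≥ 2 (the restriction map from F to its sections off V(J) is
bijective). -/
theorem result (A B : Type u) [CommRing A] [CommRing B]
    [IsNoetherianRing A] [IsNoetherianRing B] [Algebra A B] (J : Ideal B)
    (F E0 E1 G : Type u) [AddCommGroup F] [Module B F] [Module.Finite B F]
    [AddCommGroup E0] [Module B E0] [Module A E0] [IsScalarTower A B E0] [Module.Finite B E0] [Module.Flat A E0]
    [AddCommGroup E1] [Module B E1] [Module A E1] [IsScalarTower A B E1] [Module.Finite B E1] [Module.Flat A E1]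
    [AddCommGroup G] [Module B G] [Module A G] [IsScalarTower A B G] [Module.Finite B G]
    (f : F →ₗ[B] E0) (u : E0 →ₗ[B] E1) (v : E1 →ₗ[B] G)
    (hf : Function.Injective f) (hfu : Function.Exact f u) (huv : Function.Exact u v) (hv : Function.Surjective v)
    (hGU : ∀ q : PrimeSpectrum B, ¬ J ≤ q.asIdeal → FlatCA.FlatAt A q.asIdeal G)
    (h0 : ∀ q : PrimeSpectrum B, J ≤ q.asIdeal →
      2 ≤ LocCoh.idealDepth (q.asIdeal.map (algebraMap B (EGA4.FibLocRing A B q.asIdeal))) (EGA4.FibLocMod A B q.asIdeal E0))
    (h1 : ∀ q : PrimeSpectrum B, J ≤ q.asIdeal →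
      1 ≤ LocCoh.idealDepth (q.asIdeal.map (algebraMap B (EGA4.FibLocRing A B q.asIdeal))) (EGA4.FibLocMod A B q.asIdeal E1)) :
    2 ≤ LocCoh.idealDepth J F := by
  obtain ⟨-, hker⟩ := Groth.L04.idealDepth_ker J u
  have key : ∀ (E : Type u) [AddCommGroup E] [Module B E] [Module A E] [IsScalarTower A B E] [Module.Finite B E]
      [Module.Flat A E] (k : ℕ∞),
      (∀ q : PrimeSpectrum B, J ≤ q.asIdeal →
        k ≤ LocCoh.idealDepth (q.asIdeal.map (algebraMap B (EGA4.FibLocRing A B q.asIdeal))) (EGA4.FibLocMod A B q.asIdeal E)) →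
      k ≤ LocCoh.idealDepth J E := by
    intro E _ _ _ _ _ _ k h
    rw [Groth.L04.idealDepth_eq_iInf_depth]
    refine le_iInf₂ fun P hP => ?_
    let q := P.asIdeal
    let p := q.comap (algebraMap A B)
    let Ap := Localization.AtPrime p
    let Bq := Localization.AtPrime q
    letI : Algebra Ap Bq := (Localization.localRingHom p q (algebraMap A B) rfl).toAlgebra
    haveI : IsLocalHom (algebraMap Ap Bq) := Localization.isLocalHom_localRingHom p q (algebraMap A B) rfl
    haveI : IsScalarTower A Ap Bq := IsScalarTower.of_algebraMap_eq fun a =>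
      (IsScalarTower.algebraMap_apply A B Bq a).trans
        (Localization.localRingHom_to_map p q (algebraMap A B) rfl a).symm
    letI : Module Ap (LocalizedModule q.primeCompl E) := Module.compHom _ (algebraMap Ap Bq)
    haveI : IsScalarTower Ap Bq (LocalizedModule q.primeCompl E) := IsScalarTower.of_algebraMap_smul fun _ _ => rfl
    haveI : IsScalarTower A Ap (LocalizedModule q.primeCompl E) := IsScalarTower.of_algebraMap_smul fun a x => by
      show algebraMap Ap Bq (algebraMap A Ap a) • x = a • x
      rw [← IsScalarTower.algebraMap_apply, algebraMap_smul]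
    haveI : Module.Finite Bq (LocalizedModule q.primeCompl E) :=
      Module.Finite.of_isLocalizedModule q.primeCompl (LocalizedModule.mkLinearMap q.primeCompl E)
    haveI : Module.Flat A (LocalizedModule q.primeCompl E) :=
      Groth.L20.FibreCrit.flat_localizedModule_of_flat q.primeCompl
    haveI : Module.Flat Ap (LocalizedModule q.primeCompl E) :=
      (Module.flat_iff_of_isLocalization Ap p.primeCompl (LocalizedModule q.primeCompl E)).2 inferInstance
    have hm : EGA4.mB Ap Bq = (p.map (algebraMap A B)).map (algebraMap B Bq) := by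
      rw [EGA4.mB, ← Localization.AtPrime.map_eq_maximalIdeal, Ideal.map_map, Ideal.map_map]
      congr 1
      rw [← IsScalarTower.algebraMap_eq, ← IsScalarTower.algebraMap_eq]
    have h2 : k ≤ LocCoh.depth Bq (EGA4.FibMod Ap Bq (LocalizedModule q.primeCompl E)) := by
      have h1 := h P hP
      rw [Groth.L04.FibStalk.idealDepth_fibLocMod] at h1
      obtain ⟨e⟩ := Groth.L04.FibStalk.nonempty_localizedQuotient E (p.map (algebraMap A B)) q
      refine h1.trans_eq ?_
      rw [LocCoh.depth, LocCoh.depth, Groth.L04.idealDepth_congr e]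
      exact Groth.L04.idealDepth_congr (Submodule.quotEquivOfEq _ _ (by rw [hm]))
    refine h2.trans ?_
    have h3 : LocCoh.depth Bq (LocalizedModule q.primeCompl E) = LocCoh.depth Bq
        (TensorProduct Ap (LocalizedModule q.primeCompl E) Ap) := by
      rw [LocCoh.depth, LocCoh.depth]
      exact Groth.L04.idealDepth_congr (TensorProduct.AlgebraTensorModule.rid Ap Bq (LocalizedModule q.primeCompl E)).symm
    show _ ≤ LocCoh.depth Bq (LocalizedModule q.primeCompl E)
    rw [h3, L02.CMMor.depth_tensor]
    exact le_add_self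
  have hk := hker (key E0 2 h0) (key E1 1 h1)
  exact hk.trans_eq (Groth.L04.idealDepth_congr
    ((LinearEquiv.ofInjective f hf).trans (LinearEquiv.ofEq _ _ (LinearMap.exact_iff.1 hfu).symm))).symm

end Groth.Agent.S18707
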