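import Groth.Statements.S18709
import Mathlib.LinearAlgebra.Dual.Lemmas
import Mathlib.Algebra.Module.FinitePresentation
import Mathlib.RingTheory.LocalRing.Module
import Mathlib.Algebra.Module.LocalizedModule.Exact
import Mathlib.RingTheory.Localization.Module
import Mathlib.RingTheory.Localization.AtPrime.Basic
-- import your own Groth.Agent.* helpers here

set_option autoImplicit false
universe u
open QGor

namespace Groth.Agent.S18709

open Module in
/-- A finite presentation of the dual of a reflexive module dualizes to a copresentation. -/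
theorem exists_exact_dual {B : Type u} [CommRing B] [IsNoetherianRing B] (F : Type u) [AddCommGroup F]
    [Module B F] [Module.Finite B F] [IsReflexive B F] :
    ∃ (n k : ℕ) (p : (Fin n → B) →ₗ[B] Dual B F) (q : (Fin k → B) →ₗ[B] (Fin n → B))
      (_ : Function.Surjective p) (_ : Function.Exact q p) (g : F →ₗ[B] (Fin n → B)),
      Function.Injective g ∧ Function.Exact g
        ((Pi.basisFun B (Fin k)).dualBasis.equivFun.toLinearMap ∘ₗ q.dualMap ∘ₗ
          (Pi.basisFun B (Fin n)).dualBasis.equivFun.symm.toLinearMap) := by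
  obtain ⟨n, p, hp⟩ := Module.Finite.exists_fin' B (Dual B F)
  obtain ⟨k, q₀, hq₀⟩ := Module.Finite.exists_fin' B (LinearMap.ker p)
  let q := (LinearMap.ker p).subtype ∘ₗ q₀
  have hex : Function.Exact q p := by
    rw [LinearMap.exact_iff, LinearMap.range_comp, LinearMap.range_eq_top.2 hq₀,
      Submodule.map_top, Submodule.range_subtype]
  have hd : Function.Exact p.dualMap q.dualMap := by
    intro l
    constructor
    · intro hl
      have hle : LinearMap.ker p ≤ LinearMap.ker l := by
        intro x hx
        obtain ⟨y, rfl⟩ := (hex x).1 hx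
        exact LinearMap.congr_fun hl y
      exact ⟨(LinearMap.ker p).liftQ l hle ∘ₗ (p.quotKerEquivOfSurjective hp).symm.toLinearMap,
        LinearMap.ext fun x => by simp⟩
    · rintro ⟨l', rfl⟩
      exact LinearMap.ext fun y => by simp [hex.apply_apply_eq_zero]
  have hinj : Function.Injective p.dualMap := LinearMap.dualMap_injective_of_surjective hp
  let en : Dual B (Fin n → B) ≃ₗ[B] (Fin n → B) := (Pi.basisFun B (Fin n)).dualBasis.equivFun
  refine ⟨n, k, p, q, hp, hex, en.toLinearMap ∘ₗ p.dualMap ∘ₗ (evalEquiv B F).toLinearMap,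
    en.injective.comp (hinj.comp (evalEquiv B F).injective), ?_⟩
  intro y
  constructor
  · intro hy
    obtain ⟨φ, hφ⟩ := (hd (en.symm y)).1
      ((Pi.basisFun B (Fin k)).dualBasis.equivFun.map_eq_zero_iff.1 hy)
    refine ⟨(evalEquiv B F).symm φ, ?_⟩
    simp only [LinearMap.comp_apply, LinearEquiv.coe_coe, LinearEquiv.apply_symm_apply]
    rw [hφ, LinearEquiv.apply_symm_apply]
  · rintro ⟨x, rfl⟩
    simp only [LinearMap.comp_apply, LinearEquiv.coe_coe, en, LinearEquiv.symm_apply_apply]
    rw [hd.apply_apply_eq_zero, map_zero]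

/-- Affine form; the flatness and depth hypotheses of the printed lemma only serve to place the sequence
in the situation of the key proposition and are not needed for the existence. Let B be a Noetherian
ring, J an ideal and F a finite reflexive B-module with F_q free for every prime q not containing J.
Then there is an exact sequence 0 → F → Bⁿ → Bᵐ → G → 0 with G_q free for every prime q not
containing J. -/
theorem result (B : Type u) [CommRing B] [IsNoetherianRing B]
    (J : Ideal B) (F : Type u) [AddCommGroup F] [Module B F] [Module.Finite B F] [Module.IsReflexive B F]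
    (hU : ∀ q : PrimeSpectrum B, ¬ J ≤ q.asIdeal →
      Module.Free (Localization.AtPrime q.asIdeal) (LocalizedModule q.asIdeal.primeCompl F)) :
    ∃ (n m : ℕ) (g : F →ₗ[B] (Fin n → B)) (h : (Fin n → B) →ₗ[B] (Fin m → B)),
      Function.Injective g ∧ Function.Exact g h ∧
      ∀ q : PrimeSpectrum B, ¬ J ≤ q.asIdeal →
        Module.Free (Localization.AtPrime q.asIdeal)
          (LocalizedModule q.asIdeal.primeCompl ((Fin m → B) ⧸ LinearMap.range h)) := by
  classical
  obtain ⟨n, k, p, q, hp, hex, g, hg, hgh⟩ := exists_exact_dual (B := B) F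
  let en : Module.Dual B (Fin n → B) ≃ₗ[B] (Fin n → B) := (Pi.basisFun B (Fin n)).dualBasis.equivFun
  let ek : Module.Dual B (Fin k → B) ≃ₗ[B] (Fin k → B) := (Pi.basisFun B (Fin k)).dualBasis.equivFun
  let h : (Fin n → B) →ₗ[B] (Fin k → B) := ek.toLinearMap ∘ₗ q.dualMap ∘ₗ en.symm.toLinearMap
  refine ⟨n, k, g, h, hg, hgh, fun P hP => ?_⟩
  let S := P.asIdeal.primeCompl
  let R := Localization.AtPrime P.asIdeal
  haveI : Module.FinitePresentation B F := Module.finitePresentation_of_finite B F
  -- a section of a free cover of `F` up to a scalar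
  obtain ⟨l, β, hβ⟩ := Module.Finite.exists_fin' B F
  haveI := hU P hP
  obtain ⟨σ, hσ⟩ := Module.projective_lifting_property (LocalizedModule.map S β) LinearMap.id
    (LocalizedModule.map_surjective S β hβ)
  obtain ⟨α₀, s₀, hα₀⟩ := Module.FinitePresentation.exists_lift_of_isLocalizedModule S
    (LocalizedModule.mkLinearMap S (Fin l → B))
    ((σ.restrictScalars B) ∘ₗ LocalizedModule.mkLinearMap S F)
  have hcomp : LocalizedModule.mkLinearMap S F ∘ₗ (β ∘ₗ α₀) =
      LocalizedModule.mkLinearMap S F ∘ₗ ((s₀ : B) • LinearMap.id) := by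
    refine LinearMap.ext fun x => ?_
    have h1 : LocalizedModule.mkLinearMap S F (β (α₀ x)) =
        LocalizedModule.map S β (LocalizedModule.mkLinearMap S _ (α₀ x)) :=
      (IsLocalizedModule.map_apply S (LocalizedModule.mkLinearMap S _)
        (LocalizedModule.mkLinearMap S F) β (α₀ x)).symm
    have h2 := LinearMap.congr_fun hα₀ x
    simp only [LinearMap.comp_apply, LinearMap.smul_apply, LinearMap.id_apply] at h2 ⊢
    rw [h1, h2, Submonoid.smul_def, LinearMap.map_smul_of_tower, map_smul]
    exact congrArg ((s₀ : B) • ·) (LinearMap.congr_fun hσ _)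
  obtain ⟨c, hc⟩ := Module.Finite.exists_smul_of_comp_eq_of_isLocalizedModule S
    (LocalizedModule.mkLinearMap S F) _ _ hcomp
  let s : B := (c : B) * s₀
  let α : F →ₗ[B] (Fin l → B) := (c : B) • α₀
  have hsα : β ∘ₗ α = s • LinearMap.id := by
    rw [LinearMap.comp_smul, mul_smul]
    exact hc
  -- the same for the dual
  obtain ⟨γ, hγ⟩ := Module.projective_lifting_property p
    (α.dualMap ∘ₗ (Pi.basisFun B (Fin l)).dualBasis.equivFun.symm.toLinearMap) hp
  let u : Module.Dual B F →ₗ[B] (Fin n → B) :=
    γ ∘ₗ (Pi.basisFun B (Fin l)).dualBasis.equivFun.toLinearMap ∘ₗ β.dualMap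
  have hu : ∀ φ, p (u φ) = s • φ := fun φ => by
    have h1 := LinearMap.congr_fun hγ ((Pi.basisFun B (Fin l)).dualBasis.equivFun (β.dualMap φ))
    simp only [LinearMap.comp_apply, LinearEquiv.coe_coe, LinearEquiv.symm_apply_apply] at h1
    refine h1.trans (LinearMap.ext fun x => ?_)
    show φ (β (α x)) = _
    rw [show β (α x) = s • x from LinearMap.congr_fun hsα x, map_smul]
    rfl
  let e₁ : (Fin n → B) →ₗ[B] LinearMap.range q := LinearMap.codRestrict _
    (s • LinearMap.id - u ∘ₗ p) fun x => (hex _).1 (by simp [hu])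
  obtain ⟨r, hr⟩ := Module.projective_lifting_property q.rangeRestrict e₁ q.surjective_rangeRestrict
  have hqrq : ∀ y, q (r (q y)) = s • q y := fun y => by
    have h1 := congrArg Subtype.val (LinearMap.congr_fun hr (q y))
    simp only [LinearMap.comp_apply] at h1
    rw [show q (r (q y)) = (q.rangeRestrict (r (q y)) : Fin n → B) from rfl, h1]
    simp [e₁, hex.apply_apply_eq_zero]
  let r' : (Fin k → B) →ₗ[B] (Fin n → B) := en.toLinearMap ∘ₗ r.dualMap ∘ₗ ek.symm.toLinearMap
  let e : (Fin k → B) →ₗ[B] (Fin k → B) := s • LinearMap.id - h ∘ₗ r'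
  have he : LinearMap.range h ≤ LinearMap.ker e := by
    rintro _ ⟨x, rfl⟩
    have h1 : q.dualMap (r.dualMap (q.dualMap (en.symm x))) = s • q.dualMap (en.symm x) :=
      LinearMap.ext fun y => by
        show en.symm x (q (r (q y))) = s • en.symm x (q y)
        rw [hqrq, map_smul]
    simp only [LinearMap.mem_ker, e, h, r', LinearMap.sub_apply, LinearMap.smul_apply,
      LinearMap.id_apply, LinearMap.comp_apply, LinearEquiv.coe_coe, LinearEquiv.symm_apply_apply, h1,
      map_smul, sub_self]
  let ebar := (LinearMap.range h).liftQ e he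
  let π := (LinearMap.range h).mkQ
  have hπe : π ∘ₗ ebar = s • LinearMap.id := by
    refine Submodule.linearMap_qext _ (LinearMap.ext fun x => ?_)
    simp [π, ebar, e, h]
  -- the cokernel is a direct summand of a free module at `P`
  have hs : IsUnit (algebraMap B R s) :=
    IsLocalization.map_units R (M := S) ⟨s, S.mul_mem c.2 s₀.2⟩
  let G := LocalizedModule S ((Fin k → B) ⧸ LinearMap.range h)
  have hsplit : ∀ z : G, LocalizedModule.map S π (LocalizedModule.map S ebar z) = algebraMap B R s • z := by
    intro z
    induction z using LocalizedModule.induction_on with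
    | h m t =>
      rw [LocalizedModule.map_mk, LocalizedModule.map_mk, show π (ebar m) = s • m from LinearMap.congr_fun hπe m,
        algebraMap_smul, LocalizedModule.smul'_mk]
  haveI : Module.Free R (LocalizedModule S (Fin k → B)) :=
    Module.Free.of_basis ((Pi.basisFun B (Fin k)).ofIsLocalizedModule R S
      (LocalizedModule.mkLinearMap S (Fin k → B)))
  haveI : Module.Projective R G := Module.Projective.of_split
    (((hs.unit⁻¹ : Rˣ) : R) • LocalizedModule.map S ebar) (LocalizedModule.map S π)
    (LinearMap.ext fun z => by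
      rw [LinearMap.comp_apply, LinearMap.smul_apply, map_smul, hsplit, smul_smul,
        IsUnit.val_inv_mul, one_smul, LinearMap.id_apply])
  exact Module.free_of_flat_of_isLocalRing

end Groth.Agent.S18709
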