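import Groth.Statements.S1871
import Groth.Agent.L22.IntMult.Positive
-- import your own Groth.Agent.* helpers here

set_option autoImplicit false
universe u
open CategoryTheory AlgebraicGeometry
attribute [local instance] HasDerivedCategory.standard
open IntMult

namespace Groth.Agent.S1871

/-- Positivity of intersection multiplicities. Let X be a nonsingular variety of dimension n over an
algebraically closed field K (X integral, smooth, separated and quasi-compact over K), and V, W
integral closed subschemes of X, given by quasi-coherent ideal sheaves, of dimensions r and s, which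
intersect properly (if V ∩ W is nonempty then n ≤ r + s and dim(V ∩ W) ≤ r + s − n). Let ξ be the
generic point of an irreducible component Z of V ∩ W, i.e. a point of V ∩ W such that every point of
V ∩ W specializing to ξ equals ξ. Then the intersection multiplicity e(X, V·W, Z) = ∑_i (−1)^i
length_{O_{X,ξ}} Tor_i^{O_{X,ξ}}(O_{X,ξ}/I_{W,ξ}, O_{X,ξ}/I_{V,ξ}) is positive. -/
theorem result (K : Type u) [Field K] [IsAlgClosed K] (X : Scheme.{u}) (f : X ⟶ Spec (CommRingCat.of K)) [Smooth f] [IsSeparated f] [QuasiCompact f] [IsIntegral X] (IV IW : X.IdealSheafData) [IsIntegral IV.subscheme] [IsIntegral IW.subscheme] (n r s : ℕ) (hn : topologicalKrullDim X = n) (hr : topologicalKrullDim IV.support = r) (hs : topologicalKrullDim IW.support = s) (hprop : IntMult.ProperInt (IV.support : Set X) (IW.support : Set X) n r s) (ξ : X) (hξV : ξ ∈ IV.support) (hξW : ξ ∈ IW.support) (hmax : ∀ ξ' : X, ξ' ∈ IV.support → ξ' ∈ IW.support → ξ' ⤳ ξ → ξ' = ξ) : 0 < IntMult.mult IV IW ξ := by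
  obtain ⟨hA, hP, hQ, hmm, a, b, ha, hb, hab⟩ :=
    Groth.L22.IntMult.proper_facts K f IV IW n r s hn hr hs hprop ξ hξV hξW hmax
  haveI := hA
  exact Groth.L22.IntMult.chi_pos_stalk K f ξ _ _ (IsLocalRing.le_maximalIdeal hQ.ne_top)
    (IsLocalRing.le_maximalIdeal hP.ne_top) b a hb ha (by rw [hab, add_comm])
    (fun W hW hle => hmm W hW (by rw [sup_comm]; exact hle))

end Groth.Agent.S1871
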