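import Groth.Statements.S18710
import Groth.Agent.L04.FlatSurjDepth

set_option autoImplicit false
universe u
open QGor

namespace Groth.Agent.S18710

open TensorProduct in
/-- Affine form. Let A → B be a flat homomorphism of Noetherian rings and I an ideal of A with V(I)
contained in the image of Spec B → Spec A (every prime containing I is a contraction of a prime of
B). Then ht(IB) = ht(I) (codimension of the preimage equals codimension), and for every finite
A-module G one has depth_{IB} (B ⊗_A G) = depth_I G. -/
theorem result (A B : Type u) [CommRing A] [CommRing B]
    [IsNoetherianRing A] [IsNoetherianRing B] [Algebra A B] [Module.Flat A B] (I : Ideal A)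
    (hI : ∀ p : PrimeSpectrum A, I ≤ p.asIdeal → ∃ q : PrimeSpectrum B, q.asIdeal.comap (algebraMap A B) = p.asIdeal)
    (G : Type u) [AddCommGroup G] [Module A G] [Module.Finite A G] :
    (I.map (algebraMap A B)).height = I.height ∧
    LocCoh.idealDepth (I.map (algebraMap A B)) (B ⊗[A] G) = LocCoh.idealDepth I G := by

    exact ⟨Groth.L04.height_map_eq I hI, Groth.L04.idealDepth_tensor_eq I hI G⟩

end Groth.Agent.S18710
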