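import Groth.Statements.S18711
import Groth.Agent.L04.FibStalkKernel

set_option autoImplicit false
universe u
open QGor

namespace Groth.Agent.S18711

open TensorProduct in
/-- Affine form. Let A → B be a flat homomorphism of Noetherian rings, J an ideal of B such that for
every prime q ⊇ J with contraction p the fibre local ring B_q/pB_q has depth ≥ 2, A → A′ a
homomorphism of Noetherian rings and B′ = A′ ⊗_A B the (Noetherian) pushout. Let 0 → F → E⁰ → E¹ → G
→ 0 be an exact sequence of finite B-modules with E⁰, E¹ projective and F_q, G_q free for every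
prime q not containing J. Then F is reflexive; the kernel K′ of B′ ⊗_B E⁰ → B′ ⊗_B E¹ is a reflexive
B′-module with depth_{JB′} K′ ≥ 2 (so it is the module of sections of the pull-back of F off
V(JB′)); and K′ is flat over A′ with depth ≥ 2 along JB′ on every fibre stalk K′_{q′}/p′K′_{q′} if
and only if B′ ⊗_B G is flat over A′. (The published statement phrases the last left-hand condition
as the relative S₂ condition of K′ over A′; the two agree when the fibres of Spec B′ → Spec A′
satisfy S₂ off V(JB′), and without that the relative S₂ form fails already for A = A′ a field, J =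
B, F = E⁰ = B not S₂ and E¹ = G = 0, so the fibrewise-depth form, which is what the proof
establishes, is stated.) -/
theorem result (A B : Type u) [CommRing A] [CommRing B] [IsNoetherianRing A] [IsNoetherianRing B] [Algebra A B]
    (A' B' : Type u) [CommRing A'] [CommRing B'] [IsNoetherianRing A'] [IsNoetherianRing B']
    [Algebra A A'] [Algebra B B'] [Algebra A' B'] [Algebra A B'] [IsScalarTower A B B'] [IsScalarTower A A' B']
    [Algebra.IsPushout A B A' B'] [Module.Flat A B] (J : Ideal B)
    (hZ : ∀ q : PrimeSpectrum B, J ≤ q.asIdeal →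
      2 ≤ LocCoh.idealDepth (q.asIdeal.map (algebraMap B (EGA4.FibLocRing A B q.asIdeal))) (EGA4.FibLocRing A B q.asIdeal))
    (F E0 E1 G : Type u) [AddCommGroup F] [Module B F] [Module.Finite B F]
    [AddCommGroup E0] [Module B E0] [Module.Finite B E0] [Module.Projective B E0]
    [AddCommGroup E1] [Module B E1] [Module.Finite B E1] [Module.Projective B E1]
    [AddCommGroup G] [Module B G] [Module.Finite B G]
    (f : F →ₗ[B] E0) (u : E0 →ₗ[B] E1) (v : E1 →ₗ[B] G)
    (hf : Function.Injective f) (hfu : Function.Exact f u) (huv : Function.Exact u v) (hv : Function.Surjective v)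
    (hFU : ∀ q : PrimeSpectrum B, ¬ J ≤ q.asIdeal → Module.Free (Localization.AtPrime q.asIdeal) (LocalizedModule q.asIdeal.primeCompl F))
    (hGU : ∀ q : PrimeSpectrum B, ¬ J ≤ q.asIdeal → Module.Free (Localization.AtPrime q.asIdeal) (LocalizedModule q.asIdeal.primeCompl G)) :
    Module.IsReflexive B F ∧
    Module.IsReflexive B' (LinearMap.ker (u.baseChange B')) ∧
    2 ≤ LocCoh.idealDepth (J.map (algebraMap B B')) (LinearMap.ker (u.baseChange B')) ∧
    ((∀ q' : PrimeSpectrum B', FlatCA.FlatAt A' q'.asIdeal (LinearMap.ker (u.baseChange B')) ∧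
        2 ≤ LocCoh.idealDepth ((J.map (algebraMap B B')).map (algebraMap B' (EGA4.FibLocRing A' B' q'.asIdeal)))
          (EGA4.FibLocMod A' B' q'.asIdeal (LinearMap.ker (u.baseChange B')))) ↔
      Module.Flat A' (B' ⊗[B] G)) := by

    letI : Module A E0 := Module.compHom E0 (algebraMap A B)
    haveI : IsScalarTower A B E0 := IsScalarTower.of_algebraMap_smul fun _ _ => rfl
    letI : Module A E1 := Module.compHom E1 (algebraMap A B)
    haveI : IsScalarTower A B E1 := IsScalarTower.of_algebraMap_smul fun _ _ => rfl
    haveI : Module.Flat A E0 := Module.Flat.trans A B E0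
    haveI : Module.Flat A E1 := Module.Flat.trans A B E1
    haveI : Algebra.IsPushout A A' B B' := Algebra.IsPushout.symm inferInstance
    let J' := J.map (algebraMap B B')
    have hB : 2 ≤ LocCoh.idealDepth J B := Groth.L04.FibStalk.le_idealDepth_self_of_fibre (A := A) J hZ
    have hB' : 2 ≤ LocCoh.idealDepth J' B' :=
      Groth.L04.FibStalk.le_idealDepth_baseChange_self (A := A) (A' := A') J hZ
    have hker := (Groth.L04.idealDepth_ker J u).2 (Groth.L04.le_idealDepth_of_projective (n := 2) J E0 hB)
      (by simpa using Groth.L04.le_idealDepth_of_projective (n := 1) J E1 (by simpa using one_le_two.trans hB))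
    have hF : 2 ≤ LocCoh.idealDepth J F := by
      rw [Groth.L04.idealDepth_congr ((LinearEquiv.ofInjective f hf) ≪≫ₗ
        LinearEquiv.ofEq _ _ (LinearMap.exact_iff.1 hfu).symm)]
      exact hker
    have hK : 2 ≤ LocCoh.idealDepth J' (LinearMap.ker (u.baseChange B')) :=
      (Groth.L04.idealDepth_ker J' (u.baseChange B')).2 (Groth.L04.le_idealDepth_of_projective (n := 2) J' _ hB')
        (by simpa using Groth.L04.le_idealDepth_of_projective (n := 1) J' (B' ⊗[B] E1) (by simpa using one_le_two.trans hB'))
    refine ⟨Groth.L04.FibStalk.isReflexive_of_two_le J (one_le_two.trans hB) F hFU hF,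
      Groth.L04.FibStalk.isReflexive_of_two_le J' (one_le_two.trans hB') _
        (fun q' hq' => Groth.L04.FibStalk.free_localized_ker_baseChange J f u v hf hfu huv hv hFU hGU q'.asIdeal hq') hK,
      hK, ?_⟩
    haveI : Module.Flat A' B' := Module.Flat.isBaseChange A A' B B' (Algebra.IsPushout.out)
    haveI : Module.Flat A' (B' ⊗[B] E0) := Module.Flat.trans A' B' _
    haveI : Module.Flat A' (B' ⊗[B] E1) := Module.Flat.trans A' B' _
    let K := LinearMap.ker (u.baseChange B')
    let u' := u.baseChange B'
    let v' := v.baseChange B'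
    have hk : Function.Exact K.subtype u' := LinearMap.exact_subtype_ker_map u'
    have huv' : Function.Exact u' v' := lTensor_exact B' huv hv
    have hv' : Function.Surjective v' := LinearMap.lTensor_surjective B' hv
    have hGU' : ∀ q' : PrimeSpectrum B', ¬ J' ≤ q'.asIdeal → FlatCA.FlatAt A' q'.asIdeal (B' ⊗[B] G) := fun q' hq' => by
      haveI := Groth.L04.free_localized_baseChange G q'.asIdeal
        (hGU ⟨q'.asIdeal.comap (algebraMap B B'), inferInstance⟩ fun hle => hq' (Ideal.map_le_iff_le_comap.2 hle))
      haveI : Module.Flat A' (Localization.AtPrime q'.asIdeal) := Module.Flat.trans A' B' _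
      exact Module.Flat.trans A' (Localization.AtPrime q'.asIdeal) _
    have hfib : ∀ (E : Type u) [AddCommGroup E] [Module B E] [Module.Finite B E] [Module.Projective B E] (n : ℕ),
        n ≤ 2 → ∀ q' : PrimeSpectrum B', J' ≤ q'.asIdeal →
        (n : ℕ∞) ≤ LocCoh.idealDepth (q'.asIdeal.map (algebraMap B' (EGA4.FibLocRing A' B' q'.asIdeal)))
          (EGA4.FibLocMod A' B' q'.asIdeal (B' ⊗[B] E)) := fun E _ _ _ _ n hn q' hq' =>
      Groth.L04.FibStalk.le_idealDepth_fibLocMod_baseChange (A := A) E q'.asIdeal
        (Groth.L04.FibStalk.le_idealDepth_fibLocMod_of_projective _ E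
          (le_trans (by exact_mod_cast hn) (hZ ⟨q'.asIdeal.comap (algebraMap B B'), inferInstance⟩ (Ideal.map_le_iff_le_comap.1 hq'))))
    have hpt := Groth.L04.FibStalk.point (A := A') (B := B') (F := ↥K) (E0 := B' ⊗[B] E0) (E1 := B' ⊗[B] E1) (G := B' ⊗[B] G) J' K.subtype u' v' K.injective_subtype hk huv' hv' hGU'
      (fun q' hq' => hfib E0 2 le_rfl q' hq') (fun q' hq' => by simpa using hfib E1 1 one_le_two q' hq')
    constructor
    · intro h
      refine Module.flat_of_isLocalized_maximal (R := A') (S := B') (B' ⊗[B] G)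
        (fun P _ => LocalizedModule P.primeCompl (B' ⊗[B] G))
        (fun P _ => LocalizedModule.mkLinearMap P.primeCompl (B' ⊗[B] G)) fun P _ => ?_
      by_cases hP : J' ≤ P
      · refine (hpt P hP).2 fun q' hq' _ hJq => ?_
        refine Groth.L04.FibStalk.le_idealDepth_fibLocMod_of_localized _ hJq ?_
        rw [← Groth.L04.FibStalk.idealDepth_fibLocMod_map (A := A') J' q' ↥K]
        exact (h ⟨q', hq'⟩).2
      · exact hGU' ⟨P, inferInstance⟩ hP
    · intro hG q'
      haveI := hG
      have hGat : ∀ (P : Ideal B') [P.IsPrime], FlatCA.FlatAt A' P (B' ⊗[B] G) := fun P _ =>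
        Groth.L20.FibreCrit.flat_localizedModule_of_flat P.primeCompl
      refine ⟨Groth.L04.FibStalk.flatAt_kernel_point K.subtype u' v' K.injective_subtype hk huv' hv' q'.asIdeal (hGat _), ?_⟩
      rw [Groth.L04.FibStalk.idealDepth_fibLocMod_map]
      exact Groth.L04.FibStalk.le_idealDepth_fibre_localized _ _ _ _ fun P hP _ hJP => (hpt P hJP).1 (hGat P)

end Groth.Agent.S18711
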