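import Groth.Statements.S18715
import Groth.Agent.L04.LC.SkLocus

set_option autoImplicit false
universe u
open CategoryTheory
attribute [local instance] HasDerivedCategory.standard
open QGor

namespace Groth.Agent.S18715

/-- Affine form. Let A be a Noetherian ring with a dualizing complex ω and M a finite A-module. For
every k ≥ 1 the S_k-locus {p : M_p satisfies (S_k) over A_p} is open in Spec A. (The Cohen–Macaulay
and Gorenstein loci, also treated there, are separate known statements.) -/
theorem result (A : Type u) [CommRing A] [IsNoetherianRing A]
    (ω : Dual.D A) (hω : Dual.IsDualizing A ω) (M : Type u) [AddCommGroup M] [Module A M] [Module.Finite A M]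
    (k : ℕ) (hk : 1 ≤ k) :
    IsOpen {p : PrimeSpectrum A | EGA4.HasSkAt k A M p.asIdeal} := by

    exact Groth.L04.SkLocus.isOpen_hasSkAt hω k

end Groth.Agent.S18715
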