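import Groth.Statements.S18718
import Groth.Agent.L04.FibStalkReflexive

set_option autoImplicit false
universe u
open QGor

namespace Groth.Agent.S18718

open TensorProduct in
/-- Affine form. Let A → B be a flat homomorphism of Noetherian rings, J an ideal of B such that the
fibre local ring B_q/pB_q has depth ≥ 2 at every prime q ⊇ J (p its contraction), A → A′ a
homomorphism of Noetherian rings with Noetherian pushout B′ = A′ ⊗_A B, and F a finite B-module with
F_q free for every prime q not containing J. Then depth_J (F^∨∨) ≥ 2 (the double dual is the module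
of sections of F off V(J)); the natural map (B′ ⊗_B F)^∨∨ → (B′ ⊗_B F^∨∨)^∨∨ obtained by dualising
twice the base change of F → F^∨∨ is bijective; and if moreover F is flat over A and the fibre
stalks F_q/pF_q have depth ≥ 2 at all primes q ⊇ J, then F and B′ ⊗_B F are reflexive. -/
theorem result (A B : Type u) [CommRing A] [CommRing B] [IsNoetherianRing A] [IsNoetherianRing B] [Algebra A B]
    (A' B' : Type u) [CommRing A'] [CommRing B'] [IsNoetherianRing A'] [IsNoetherianRing B']
    [Algebra A A'] [Algebra B B'] [Algebra A' B'] [Algebra A B'] [IsScalarTower A B B'] [IsScalarTower A A' B']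
    [Algebra.IsPushout A B A' B'] [Module.Flat A B] (J : Ideal B)
    (hZ : ∀ q : PrimeSpectrum B, J ≤ q.asIdeal →
      2 ≤ LocCoh.idealDepth (q.asIdeal.map (algebraMap B (EGA4.FibLocRing A B q.asIdeal))) (EGA4.FibLocRing A B q.asIdeal))
    (F : Type u) [AddCommGroup F] [Module B F] [Module A F] [IsScalarTower A B F] [Module.Finite B F]
    (hFU : ∀ q : PrimeSpectrum B, ¬ J ≤ q.asIdeal → Module.Free (Localization.AtPrime q.asIdeal) (LocalizedModule q.asIdeal.primeCompl F)) :
    2 ≤ LocCoh.idealDepth J (Module.Dual B (Module.Dual B F)) ∧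
    Function.Bijective (((Module.Dual.eval B F).baseChange B').dualMap.dualMap) ∧
    (Module.Flat A F →
      (∀ q : PrimeSpectrum B, J ≤ q.asIdeal →
        2 ≤ LocCoh.idealDepth (q.asIdeal.map (algebraMap B (EGA4.FibLocRing A B q.asIdeal))) (EGA4.FibLocMod A B q.asIdeal F)) →
      Module.IsReflexive B F ∧ Module.IsReflexive B' (B' ⊗[B] F)) := by

    have hB : 2 ≤ LocCoh.idealDepth J B := Groth.L04.FibStalk.le_idealDepth_self_of_fibre (A := A) J hZ
    have hB' : 2 ≤ LocCoh.idealDepth (J.map (algebraMap B B')) B' :=
      Groth.L04.FibStalk.le_idealDepth_baseChange_self (A := A) (A' := A') J hZ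
    refine ⟨(Groth.L04.idealDepth_dual J (Module.Dual B F)).2 hB, ?_, fun hflat hF => ?_⟩
    · have hinv := (Groth.L04.invOff_eval J F fun q hq => by
        haveI := hFU q hq
        haveI : Module.Finite (Localization.AtPrime q.asIdeal) (LocalizedModule q.asIdeal.primeCompl F) :=
          Module.Finite.of_isLocalizedModule q.asIdeal.primeCompl (LocalizedModule.mkLinearMap q.asIdeal.primeCompl F)
        infer_instance).baseChange B'
      exact (LinearEquiv.ofBijective _ (hinv.bijective_dualMap hB')).dualMap.bijective
    · haveI := hflat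
      refine ⟨Groth.L04.FibStalk.isReflexive_of_two_le J (one_le_two.trans hB) F hFU
        (Groth.L04.FibStalk.le_idealDepth_of_fibre (A := A) J F hF), ?_⟩
      exact Groth.L04.FibStalk.isReflexive_of_two_le (J.map (algebraMap B B')) (one_le_two.trans hB') _
        (fun q' hq' => Groth.L04.free_localized_baseChange F q'.asIdeal
          (hFU ⟨q'.asIdeal.comap (algebraMap B B'), inferInstance⟩ fun hle => hq' (Ideal.map_le_iff_le_comap.2 hle)))
        (Groth.L04.FibStalk.le_idealDepth_baseChange_of_fibre (A := A) (A' := A') J F hF)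

end Groth.Agent.S18718
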