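import Groth.Statements.S18719
import Groth.Agent.L04.LC.LowestDegree
import Groth.Agent.L29.Dual.FiniteType

set_option autoImplicit false
universe u
open CategoryTheory
attribute [local instance] HasDerivedCategory.standard
open QGor

namespace Groth.Agent.S18719

/-- Affine-local form. Let A be a Noetherian local ring of Krull dimension n with a normalized dualizing
complex ω, and K = H^{-n}(ω) the dualizing module (for A satisfying S₂, ω[−n] is the ordinary
dualizing complex and K its dualizing sheaf). If A satisfies (S₂), then r ↦ r · id_K is a bijection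
A → Hom_A(K, K). If A satisfies (S₃), then Ext¹_A(K, K) = 0 (no nonzero morphisms K → K[1] in D(A)). -/
theorem result (A : Type u) [CommRing A] [IsNoetherianRing A]
    [IsLocalRing A] (ω : Dual.D A) (hω : Dual.IsDualizing A ω) (hn : Dual.IsNormalized A ω)
    (n : ℕ) (hd : ringKrullDim A = n) :
    (LocCoh.HasSk 2 A A →
      Function.Bijective (fun r : A => r • (LinearMap.id : Dual.HD A ω (-(n : ℤ)) →ₗ[A] Dual.HD A ω (-(n : ℤ))))) ∧
    (LocCoh.HasSk 3 A A →
      Subsingleton (Dual.inD A (Dual.HD A ω (-(n : ℤ))) ⟶ (Dual.inD A (Dual.HD A ω (-(n : ℤ))))⟦(1 : ℤ)⟧)) := by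

    have h0 : ∀ m : PrimeSpectrum A, m.asIdeal.IsMaximal → Groth.L29.HomD.dimFun hω m = 0 := by
      intro m hm
      obtain rfl : m = IsLocalRing.closedPoint A := PrimeSpectrum.ext (IsLocalRing.eq_maximalIdeal hm)
      exact Groth.L04.Lowest.dimFun_closedPoint_of_normalized hω hn
    have hQ0 : ∀ Q : PrimeSpectrum A, Q.asIdeal ∈ (Module.annihilator A A).minimalPrimes →
        Groth.L29.HomD.dimFun hω Q ≤ -(-(n : ℤ)) := fun Q _ => by
      obtain ⟨hnn, heq⟩ := Groth.L04.SkLocus.ringKrullDim_quotient_eq hω h0 Q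
      have h1 := heq.symm.le.trans (ringKrullDim_quotient_le Q.asIdeal)
      rw [hd] at h1
      have h2 : (Groth.L29.HomD.dimFun hω Q).toNat ≤ n := by exact_mod_cast h1
      omega
    have hlow := Groth.L04.Lowest.low_of_bound hω (-(n : ℤ)) hQ0
    have hsupp : ∀ k : ℕ, 2 ≤ k → LocCoh.HasSk k A A → ∀ j : ℤ, -(n : ℤ) < j →
        ∀ P ∈ Module.support A (Dual.HD A ω j), Groth.L29.HomD.dimFun hω P ≤ -j - k := by
      intro k hk2 hk j hj P hP
      have h2 : LocCoh.HasSk 2 A A := fun p _ =>
        le_trans (min_le_min_right _ (by exact_mod_cast hk2)) (hk p)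
      have heq := Groth.L06.Hartshorne.equidim_of_catenary (Groth.L29.HomD.isCatenary_of_dualizing hω)
        (Groth.L06.Hartshorne.depth_of_hasSk h2)
      refine (Groth.L04.SkLocus.hasSk_iff_dimFun hω (n : ℤ) (fun Q hQ => ?_) k).1 hk j (by omega) P
        ((Groth.L04.Lowest.mem_SE_self_iff P j).2 hP)
      obtain ⟨hnn, heq'⟩ := Groth.L04.SkLocus.ringKrullDim_quotient_eq hω h0 Q
      have hQ' : Q.asIdeal ∈ minimalPrimes A := by
        rwa [Module.annihilator_eq_bot.mpr inferInstance] at hQ
      have h1 := heq Q.asIdeal hQ'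
      rw [hd, heq'] at h1
      have h2 : (Groth.L29.HomD.dimFun hω Q).toNat = n := by exact_mod_cast h1
      omega
    exact ⟨fun h2 => Groth.L04.Lowest.bijective_smul_id hω _ hlow 2 le_rfl (hsupp 2 le_rfl h2),
      fun h3 => Groth.L04.Lowest.subsingleton_self_ext hω _ hlow 3 le_rfl (hsupp 3 (by omega) h3)⟩

end Groth.Agent.S18719
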