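import Groth.Statements.S18720
import Groth.Agent.L04.LC.LowestDegree

set_option autoImplicit false
universe u
open CategoryTheory
attribute [local instance] HasDerivedCategory.standard
open QGor

namespace Groth.Agent.S18720

/-- Affine-local form. Let A be a Noetherian local ring of Krull dimension n with a dualizing complex ω,
L = H⁰(ω), and J an ideal with ht J ≥ 1 such that ω restricted off V(J) is L placed in degree 0,
i.e. H^i(ω)_p = 0 for every i ≠ 0 and every prime p not containing J. Then ω is ordinary (its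
codimension function is p ↦ ht p), which for the local ring means: A is equidimensional and ω[n] is
normalized; and L satisfies (S₂). If moreover ht J ≥ 2, then depth_J L ≥ 2 (L is the module of
sections of its restriction off V(J)). -/
theorem result (A : Type u) [CommRing A] [IsNoetherianRing A]
    [IsLocalRing A] (ω : Dual.D A) (hω : Dual.IsDualizing A ω) (n : ℕ) (hd : ringKrullDim A = n)
    (J : Ideal A) (hJ : 1 ≤ J.height)
    (hoff : ∀ p : PrimeSpectrum A, ¬ J ≤ p.asIdeal → ∀ i : ℤ, i ≠ 0 → p ∉ Module.support A (Dual.HD A ω i)) :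
    (EGA4.IsEquidim A ∧ Dual.IsNormalized A (ω⟦(n : ℤ)⟧) ∧ LocCoh.HasSk 2 A (Dual.HD A ω 0)) ∧
    (2 ≤ J.height → 2 ≤ LocCoh.idealDepth J (Dual.HD A ω 0)) := by

    have hgen : ∀ Q : PrimeSpectrum A, Q.asIdeal ∈ (Module.annihilator A A).minimalPrimes →
        Groth.L29.HomD.dimFun hω Q = 0 := fun Q hQ => by
      have hQJ : ¬ J ≤ Q.asIdeal := fun h => by
        have h1 : J.height ≤ Q.asIdeal.height := Ideal.height_mono h
        have h2 : Q.asIdeal.height = 0 := Ideal.height_eq_zero_iff.2 (by
          rwa [Module.annihilator_eq_bot.mpr inferInstance] at hQ)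
        rw [h2] at h1
        exact absurd (hJ.trans h1) (by simp)
      have hQs : Q ∈ Module.support A A := Module.mem_support_iff_of_finite.2 hQ.1.2
      obtain ⟨m, D, hmD, -, hD, hi, -, -⟩ := Groth.L04.SkLocus.exists_data (M := A) hω hQs
      obtain ⟨D', hD', -, R, hR, hRQ, hRD⟩ := Groth.L04.SkLocus.exists_dim (M := A) hω Q hQs
      obtain rfl : D' = D := by exact_mod_cast hD'.symm.trans hD
      obtain rfl : R = Q := PrimeSpectrum.ext (le_antisymm hRQ (hQ.2 ⟨R.isPrime, hR.1.2⟩ hRQ))
      by_contra hne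
      exact hoff R hQJ _ (by omega) ((Groth.L04.Lowest.mem_SE_self_iff R _).1 hi)
    have hQ0 : ∀ Q : PrimeSpectrum A, Q.asIdeal ∈ (Module.annihilator A A).minimalPrimes →
        Groth.L29.HomD.dimFun hω Q ≤ -(0 : ℤ) := fun Q hQ => by rw [hgen Q hQ]; simp
    have hdimQ : ∀ Q : PrimeSpectrum A, Q.asIdeal ∈ (Module.annihilator A A).minimalPrimes →
        ringKrullDim (A ⧸ Q.asIdeal) =
          ((-Groth.L29.HomD.dimFun hω (IsLocalRing.closedPoint A)).toNat : WithBot ℕ∞) := fun Q hQ => by
      rw [Groth.L04.Lowest.ringKrullDim_quotient_local hω Q, hgen Q hQ, zero_sub]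
    obtain ⟨Q₀, hQ₀, hQ₀m⟩ := Groth.L04.Lowest.exists_minimal_le (A := A) (IsLocalRing.closedPoint A)
    have hδm : Groth.L29.HomD.dimFun hω (IsLocalRing.closedPoint A) = -(n : ℤ) := by
      have h1 := Groth.L04.Lowest.dim_le_of_bound hω 0 hQ0
      have h2 := (hdimQ Q₀ hQ₀).symm.le.trans (ringKrullDim_quotient_le Q₀.asIdeal)
      rw [hd] at h1 h2
      simp only [neg_zero, zero_sub] at h1
      have h1' : n ≤ (-Groth.L29.HomD.dimFun hω (IsLocalRing.closedPoint A)).toNat := by exact_mod_cast h1
      have h2' : (-Groth.L29.HomD.dimFun hω (IsLocalRing.closedPoint A)).toNat ≤ n := by exact_mod_cast h2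
      have h3 := (Groth.L29.HomD.dimFun_strictAnti hω).antitone hQ₀m
      have h4 := hgen Q₀ hQ₀
      omega
    refine ⟨⟨fun p hp => ?_, Groth.L04.Lowest.isNormalized_shift hω n hδm,
      Groth.L04.Lowest.hasSk_two_lowest hω 0 hQ0⟩, fun hJ2 => ?_⟩
    · have hp' : p ∈ (Module.annihilator A A).minimalPrimes := by
        rwa [Module.annihilator_eq_bot.mpr inferInstance]
      rw [hd, hdimQ ⟨p, hp.1.1⟩ hp', hδm]
      simp
    · haveI := hω.finite_cohomology 0
      rw [Groth.L04.idealDepth_eq_iInf_depth]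
      refine le_iInf₂ fun p hp => ?_
      refine Groth.L04.Lowest.le_depth hω 0 (Groth.L04.Lowest.low_of_bound hω 0 hQ0) p 2 le_rfl ?_
      have h1 := (hJ2.trans (Ideal.height_mono hp)).trans (Groth.L04.Lowest.height_le hω 0 hQ0 p)
      have h1' : 2 ≤ (-(0 : ℤ) - Groth.L29.HomD.dimFun hω p).toNat := by exact_mod_cast h1
      omega

end Groth.Agent.S18720
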