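import Groth.Statements.S18721
import Groth.Agent.L04.LC.SkLocus

set_option autoImplicit false
set_option backward.isDefEq.respectTransparency false
universe u
open CategoryTheory
attribute [local instance] HasDerivedCategory.standard
open QGor

namespace Groth.Agent.S18721

/-- Affine form. Let k be a field and A a finitely generated k-algebra, equidimensional of Krull
dimension n, and let ω be a dualizing complex of A normalized at every maximal ideal m (no nonzero
morphisms A/m → ω[i] in D(A) for i ≠ 0 — the canonical dualizing complex of Spec A over k). Put Z_i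
= Supp H^{-i}(ω). Then H^{-i}(ω) = 0 for every i > n, and for every k′ ≥ 1: A satisfies (S_{k′}) if
and only if dim Z_i ≤ i − k′ for all i ≠ n, where for i < k′ this means H^{-i}(ω) = 0. -/
theorem result (k A : Type u) [Field k] [CommRing A]
    [Algebra k A] (hft : Algebra.FiniteType k A) [IsNoetherianRing A]
    (hEq : EGA4.IsEquidim A) (n : ℕ) (hd : ringKrullDim A = n)
    (ω : Dual.D A) (hω : Dual.IsDualizing A ω)
    (hnorm : ∀ (m : Ideal A) (_ : m.IsMaximal) (i : ℤ), i ≠ 0 → Subsingleton (Dual.inD A (A ⧸ m) ⟶ ω⟦i⟧)) :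
    (∀ i : ℕ, n < i → Subsingleton (Dual.HD A ω (-(i : ℤ)))) ∧
    ∀ k' : ℕ, 1 ≤ k' →
      (LocCoh.HasSk k' A A ↔
        ∀ i : ℕ, i ≠ n →
          (i < k' → Subsingleton (Dual.HD A ω (-(i : ℤ)))) ∧
          (k' ≤ i → Module.supportDim A (Dual.HD A ω (-(i : ℤ))) ≤ ((i - k' : ℕ) : WithBot ℕ∞))) := by

    have h0 : ∀ m : PrimeSpectrum A, m.asIdeal.IsMaximal → Groth.L29.HomD.dimFun hω m = 0 := by
      intro m hm
      by_contra hne
      haveI := hnorm m.asIdeal hm (-Groth.L29.HomD.dimFun hω m) (by omega)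
      exact (Groth.L29.HomD.not_lz_iff_eq hω m _).2 rfl Groth.L29.HomD.LZ.of_subsingleton
    have hgen : ∀ Q : PrimeSpectrum A, Q.asIdeal ∈ (Module.annihilator A A).minimalPrimes →
        Groth.L29.HomD.dimFun hω Q = (n : ℤ) := fun Q hQ => by
      obtain ⟨hnn, heq⟩ := Groth.L04.SkLocus.ringKrullDim_quotient_eq hω h0 Q
      have hQ' : Q.asIdeal ∈ minimalPrimes A := by
        rwa [Module.annihilator_eq_bot.mpr inferInstance] at hQ
      have h1 := hEq Q.asIdeal hQ'
      rw [hd, heq] at h1
      have h2 : (Groth.L29.HomD.dimFun hω Q).toNat = n := by exact_mod_cast h1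
      omega
    have hint : ∀ (j : ℤ), ∀ p ∈ Groth.L04.SkLocus.SE ω A j,
        0 ≤ -Groth.L29.HomD.dimFun hω p - j ∧ -j ≤ n := by
      intro j p hp
      have hps := Groth.L04.SkLocus.mem_support_of_mem_SE hω hp
      obtain ⟨m, D, -, -, hD, -, -, hi⟩ := Groth.L04.SkLocus.exists_data (M := A) hω hps
      obtain ⟨D', hD', -, Q, hQ, -, hQD⟩ := Groth.L04.SkLocus.exists_dim (M := A) hω p hps
      obtain rfl : D' = D := by exact_mod_cast hD'.symm.trans hD
      have h1 := hi j hp
      have h2 := hgen Q hQ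
      omega
    refine ⟨fun i hi => ?_, fun k' hk' => ?_⟩
    · refine (Groth.L29.HomD.evalShiftEquiv ω (-(i : ℤ))).symm.toEquiv.subsingleton_congr.2 ?_
      rw [← Module.support_eq_empty_iff (R := A)]
      refine Set.eq_empty_iff_forall_notMem.2 fun p hp => ?_
      have := hint _ p hp
      omega
    rw [Groth.L04.SkLocus.hasSk_iff_dimFun hω n hgen k']
    constructor
    · intro h i hi
      have h1 := (Groth.L04.SkLocus.forall_SE_le_iff hω h0 A (-(i : ℤ)) (-(-(i : ℤ)) - k')).1 (h (-(i : ℤ)) (by omega))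
      refine ⟨fun hik => ?_, fun hik => ?_⟩
      · haveI := h1.1 (by omega)
        exact (Groth.L29.HomD.evalShiftEquiv ω (-(i : ℤ))).symm.toEquiv.subsingleton
      · rw [← Module.supportDim_eq_of_equiv (Groth.L29.HomD.evalShiftEquiv ω (-(i : ℤ))),
          show i - k' = (-(-(i : ℤ)) - k').toNat from by omega]
        exact h1.2 (by omega)
    · intro h j hj p hp
      obtain ⟨hnn, -⟩ := Groth.L04.SkLocus.ringKrullDim_quotient_eq hω h0 p
      have h2 := hint j p hp
      obtain ⟨i, rfl⟩ : ∃ i : ℕ, j = -(i : ℤ) := ⟨(-j).toNat, by omega⟩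
      obtain ⟨h3, h4⟩ := h i (by omega)
      refine (Groth.L04.SkLocus.forall_SE_le_iff hω h0 A (-(i : ℤ)) _).2 ⟨fun hlt => ?_, fun hle => ?_⟩ p hp
      · haveI := h3 (by omega)
        exact (Groth.L29.HomD.evalShiftEquiv ω (-(i : ℤ))).toEquiv.subsingleton
      · rw [Module.supportDim_eq_of_equiv (Groth.L29.HomD.evalShiftEquiv ω (-(i : ℤ))),
          show (-(-(i : ℤ)) - k').toNat = i - k' from by omega]
        exact h4 (by omega)

end Groth.Agent.S18721
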