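import Groth.Statements.S18723
import Groth.Agent.L04.LC.RefPow

set_option autoImplicit false
universe u
open CategoryTheory
attribute [local instance] HasDerivedCategory.standard
open QGor

namespace Groth.Agent.S18723

/-- Affine-local form, with (2) for tensor powers m ≥ 0. Let A be a Noetherian local ring of Krull
dimension n with a dualizing complex ω, L = H⁰(ω), and J an ideal with ht J ≥ 2 (the closed set V(J)
has codimension ≥ 2) such that off V(J) the complex ω is the invertible module L in degree 0: for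
every prime p not containing J, H^i(ω)_p = 0 for i ≠ 0 and L_p is free of rank 1. (1) If A satisfies
(S₁), then ω is ordinary (A is equidimensional and ω[n] is normalized) and L is reflexive and
satisfies (S₂). (2) If A satisfies (S₂), then for every m ≥ 0 the double dual L^[m] of the m-th
tensor power of L satisfies (S₂) and depth_J L^[m] ≥ 2 (it is the module of sections of L^⊗m off
V(J)). -/
theorem result (A : Type u) [CommRing A] [IsNoetherianRing A]
    [IsLocalRing A] (ω : Dual.D A) (hω : Dual.IsDualizing A ω) (n : ℕ) (hd : ringKrullDim A = n)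
    (J : Ideal A) (hJ : 2 ≤ J.height)
    (hoff : ∀ p : PrimeSpectrum A, ¬ J ≤ p.asIdeal →
      (∀ i : ℤ, i ≠ 0 → p ∉ Module.support A (Dual.HD A ω i)) ∧
      Module.Free (Localization.AtPrime p.asIdeal) (LocalizedModule p.asIdeal.primeCompl (Dual.HD A ω 0)) ∧
      Module.finrank (Localization.AtPrime p.asIdeal) (LocalizedModule p.asIdeal.primeCompl (Dual.HD A ω 0)) = 1) :
    (LocCoh.HasSk 1 A A →
      (EGA4.IsEquidim A ∧ Dual.IsNormalized A (ω⟦(n : ℤ)⟧)) ∧
      Module.IsReflexive A (Dual.HD A ω 0) ∧ LocCoh.HasSk 2 A (Dual.HD A ω 0)) ∧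
    (LocCoh.HasSk 2 A A → ∀ m : ℕ,
      LocCoh.HasSk 2 A (Module.Dual A (Module.Dual A (TensorPower A m (Dual.HD A ω 0)))) ∧
      2 ≤ LocCoh.idealDepth J (Module.Dual A (Module.Dual A (TensorPower A m (Dual.HD A ω 0))))) := by

    have hJ1 : 1 ≤ J.height := one_le_two.trans hJ
    have hgen : ∀ Q : PrimeSpectrum A, Q.asIdeal ∈ (Module.annihilator A A).minimalPrimes →
        Groth.L29.HomD.dimFun hω Q = 0 := fun Q hQ => by
      have hQJ : ¬ J ≤ Q.asIdeal := fun h => by
        have h1 : J.height ≤ Q.asIdeal.height := Ideal.height_mono h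
        have h2 : Q.asIdeal.height = 0 := Ideal.height_eq_zero_iff.2 (by
          rwa [Module.annihilator_eq_bot.mpr inferInstance] at hQ)
        rw [h2] at h1
        exact absurd (hJ1.trans h1) (by simp)
      have hQs : Q ∈ Module.support A A := Module.mem_support_iff_of_finite.2 hQ.1.2
      obtain ⟨m, D, hmD, -, hD, hi, -, -⟩ := Groth.L04.SkLocus.exists_data (M := A) hω hQs
      obtain ⟨D', hD', -, R, hR, hRQ, hRD⟩ := Groth.L04.SkLocus.exists_dim (M := A) hω Q hQs
      obtain rfl : D' = D := by exact_mod_cast hD'.symm.trans hD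
      obtain rfl : R = Q := PrimeSpectrum.ext (le_antisymm hRQ (hQ.2 ⟨R.isPrime, hR.1.2⟩ hRQ))
      by_contra hne
      exact (hoff R hQJ).1 _ (by omega) ((Groth.L04.Lowest.mem_SE_self_iff R _).1 hi)
    have hQ0 : ∀ Q : PrimeSpectrum A, Q.asIdeal ∈ (Module.annihilator A A).minimalPrimes →
        Groth.L29.HomD.dimFun hω Q ≤ -(0 : ℤ) := fun Q hQ => by rw [hgen Q hQ]; simp
    have hdimQ : ∀ Q : PrimeSpectrum A, Q.asIdeal ∈ (Module.annihilator A A).minimalPrimes →
        ringKrullDim (A ⧸ Q.asIdeal) =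
          ((-Groth.L29.HomD.dimFun hω (IsLocalRing.closedPoint A)).toNat : WithBot ℕ∞) := fun Q hQ => by
      rw [Groth.L04.Lowest.ringKrullDim_quotient_local hω Q, hgen Q hQ, zero_sub]
    obtain ⟨Q₀, hQ₀, hQ₀m⟩ := Groth.L04.Lowest.exists_minimal_le (A := A) (IsLocalRing.closedPoint A)
    have hδm : Groth.L29.HomD.dimFun hω (IsLocalRing.closedPoint A) = -(n : ℤ) := by
      have h1 := Groth.L04.Lowest.dim_le_of_bound hω 0 hQ0
      have h2 := (hdimQ Q₀ hQ₀).symm.le.trans (ringKrullDim_quotient_le Q₀.asIdeal)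
      rw [hd] at h1 h2
      simp only [neg_zero, zero_sub] at h1
      have h1' : n ≤ (-Groth.L29.HomD.dimFun hω (IsLocalRing.closedPoint A)).toNat := by exact_mod_cast h1
      have h2' : (-Groth.L29.HomD.dimFun hω (IsLocalRing.closedPoint A)).toNat ≤ n := by exact_mod_cast h2
      have h3 := (Groth.L29.HomD.dimFun_strictAnti hω).antitone hQ₀m
      have h4 := hgen Q₀ hQ₀
      omega
    have hdepL : (2 : ℕ∞) ≤ LocCoh.idealDepth J (Dual.HD A ω 0) := by
      haveI := hω.finite_cohomology 0
      rw [Groth.L04.idealDepth_eq_iInf_depth]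
      refine le_iInf₂ fun p hp => ?_
      refine Groth.L04.Lowest.le_depth hω 0 (Groth.L04.Lowest.low_of_bound hω 0 hQ0) p 2 le_rfl ?_
      have h1 := (hJ.trans (Ideal.height_mono hp)).trans (Groth.L04.Lowest.height_le hω 0 hQ0 p)
      have h1' : 2 ≤ (-(0 : ℤ) - Groth.L29.HomD.dimFun hω p).toNat := by exact_mod_cast h1
      omega
    haveI := hω.finite_cohomology 0
    refine ⟨fun h1 => ⟨⟨fun p hp => ?_, Groth.L04.Lowest.isNormalized_shift hω n hδm⟩,
      Groth.L04.RefPow.isReflexive hdepL
        (Groth.L04.RefPow.le_idealDepth_of_hasSk h1 J 1 le_rfl (by exact_mod_cast hJ1))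
        (fun p hp => (hoff p hp).2),
      Groth.L04.Lowest.hasSk_two_lowest hω 0 hQ0⟩, fun h2 m => ?_⟩
    · have hp' : p ∈ (Module.annihilator A A).minimalPrimes := by
        rwa [Module.annihilator_eq_bot.mpr inferInstance]
      rw [hd, hdimQ ⟨p, hp.1.1⟩ hp', hδm]
      simp
    · haveI : Module.Finite A (Module.Dual A (TensorPower A m (Dual.HD A ω 0))) := by
        obtain ⟨k, l, w, ⟨e⟩⟩ := Groth.L04.exists_dual_equiv_ker (R := A) (TensorPower A m (Dual.HD A ω 0))
        exact Module.Finite.equiv e.symm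
      exact ⟨Groth.L04.RefPow.hasSk_two_dual h2 _, (Groth.L04.idealDepth_dual J _).2
        (Groth.L04.RefPow.le_idealDepth_of_hasSk h2 J 2 le_rfl hJ)⟩

end Groth.Agent.S18723
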