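import Groth.Statements.S18731
import Groth.Agent.L13.ModPair.Basic

set_option autoImplicit false
universe u
open CategoryTheory CategoryTheory.Limits AlgebraicGeometry TopologicalSpace
open ModPair

namespace Groth.Agent.S18731

/-- Let I on X and J on Y be quasi-coherent ideal sheaves of effective Cartier divisors and f : X ⟶ Y a
morphism satisfying the modulus condition I ≤ J.comap f (the closed subscheme J ×_Y X of X lies
inside the closed subscheme cut out by I). Then the pull-back of the divisor of J along f is
defined: J.comap f is the ideal sheaf of an effective Cartier divisor on X. -/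
theorem result {X Y : Scheme.{u}} (I : X.IdealSheafData)
    (J : Y.IdealSheafData) (hI : BlowUp.IsEffCartierIdeal I) (hJ : BlowUp.IsEffCartierIdeal J)
    (f : X ⟶ Y) (hf : ModPair.IsAmbient I J f) : BlowUp.IsEffCartierIdeal (J.comap f) := by
  exact Groth.L13.MP.isEffCartier_comap_of_ambient hI hJ hf

end Groth.Agent.S18731
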