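import Groth.Statements.S18734
import Groth.Agent.L13.ModPair.ValFinite

set_option autoImplicit false
universe u
open CategoryTheory CategoryTheory.Limits AlgebraicGeometry TopologicalSpace
open ModPair

namespace Groth.Agent.S18734

/-- Let R be a valuation ring with fraction field K and f : Y ⟶ Spec R a morphism of schemes which is
flat, proper and generically finite (the generic fibre Y ×_{Spec R} Spec K ⟶ Spec K is a finite
morphism). Then f is finite. No finite-presentation hypothesis is assumed. -/
theorem result {R : Type u} [CommRing R]
    [IsDomain R] [ValuationRing R] {Y : Scheme.{u}} (f : Y ⟶ Spec (CommRingCat.of R)) [Flat f] [IsProper f]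
    (hgen : IsFinite (pullback.snd f
      (Spec.map (CommRingCat.ofHom (algebraMap R (FractionRing R)))))) :
    IsFinite f := by
  haveI := hgen
  exact Groth.L13.MP.isFinite_of_valuation f

end Groth.Agent.S18734
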