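import Groth.Statements.S18735
import Groth.Agent.L13.ModPair.Product

set_option autoImplicit false
universe u
open CategoryTheory CategoryTheory.Limits AlgebraicGeometry TopologicalSpace
open ModPair

namespace Groth.Agent.S18735

/-- Let (S, I_S), (T, I_T), (X, I_X) be schemes equipped with quasi-coherent ideal sheaves of effective
Cartier divisors, g : T ⟶ S a morphism satisfying the modulus condition I_T ≤ I_S.comap g, and s : X
⟶ S an abstract admissible blow-up (I_X = I_S.comap s, s proper and an isomorphism over the open
complement of the support of I_S). Let Y be the scheme-theoretic image in X ×_S T of the open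
pr₁⁻¹(X°) ∩ pr₂⁻¹(T°), where X°, T° are the open complements of the supports of I_X, I_T, with
projections q : Y ⟶ T and r : Y ⟶ X. Then I_T.comap q is the ideal sheaf of an effective Cartier
divisor on Y, q is an abstract admissible blow-up from (Y, I_T.comap q) to (T, I_T), and r satisfies
the modulus condition from (Y, I_T.comap q) to (X, I_X). -/
theorem result {S T X : Scheme.{u}} (IS : S.IdealSheafData)
    (IT : T.IdealSheafData) (IX : X.IdealSheafData) (hS : BlowUp.IsEffCartierIdeal IS)
    (hT : BlowUp.IsEffCartierIdeal IT) (hX : BlowUp.IsEffCartierIdeal IX)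
    (g : T ⟶ S) (hg : ModPair.IsAmbient IT IS g) (s : X ⟶ S) (hs : ModPair.IsAdmBlowup IX IS s) :
    BlowUp.IsEffCartierIdeal (IT.comap (ModPair.mprodι s g IX IT ≫ pullback.snd s g)) ∧
      ModPair.IsAdmBlowup (IT.comap (ModPair.mprodι s g IX IT ≫ pullback.snd s g)) IT
        (ModPair.mprodι s g IX IT ≫ pullback.snd s g) ∧
      ModPair.IsAmbient (IT.comap (ModPair.mprodι s g IX IT ≫ pullback.snd s g)) IX
        (ModPair.mprodι s g IX IT ≫ pullback.fst s g) := by
  obtain ⟨h1, h2⟩ := Groth.L13.MP.admBlowup_snd s g hT hX hg hs
  exact ⟨Groth.L13.MP.isEffCartier_snd s g hX hT, h1, h2⟩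

end Groth.Agent.S18735
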