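import Groth.Statements.S18737
import Groth.Agent.L13.ModPair.Coprod

set_option autoImplicit false
universe u
open CategoryTheory CategoryTheory.Limits AlgebraicGeometry TopologicalSpace
open ModPair

namespace Groth.Agent.S18737

/-- Let X be a scheme and I the quasi-coherent ideal sheaf of an effective Cartier divisor on X, with
open complement U, and suppose U is the disjoint union of two opens U₀, U₁ of X. Let X₀, X₁ ⊆ X be
the scheme-theoretic images of U₀ and U₁ in X and p : X₀ ⨿ X₁ ⟶ X the morphism induced by the two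
closed immersions. Then the pulled-back ideal I.comap p is the ideal sheaf of an effective Cartier
divisor, and p is an abstract admissible blow-up from (X₀ ⨿ X₁, I.comap p) to (X, I): proper, with
the pulled-back modulus, and an isomorphism over U. -/
theorem result {X : Scheme.{u}}
    (I : X.IdealSheafData) (hI : BlowUp.IsEffCartierIdeal I) (U₀ U₁ : X.Opens)
    (hU : U₀ ⊔ U₁ = ModPair.interior I) (hd : Disjoint U₀ U₁) :
    BlowUp.IsEffCartierIdeal (I.comap (coprod.desc U₀.ι.imageι U₁.ι.imageι)) ∧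
      ModPair.IsAdmBlowup (I.comap (coprod.desc U₀.ι.imageι U₁.ι.imageι)) I
        (coprod.desc U₀.ι.imageι U₁.ι.imageι) := by
  let U : ULift.{u} Bool → X.Opens := fun b => if b.down then U₀ else U₁
  have hle₀ : U₀ ≤ ModPair.interior I := hU ▸ le_sup_left
  have hle₁ : U₁ ≤ ModPair.interior I := hU ▸ le_sup_right
  haveI hqU := Groth.L13.MP.quasiCompact_interior hI
  have hclopen : ∀ {V V' : X.Opens}, V ⊔ V' = ModPair.interior I → Disjoint V V' →
      QuasiCompact V.ι := by
    intro V V' hV hVV'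
    have hle : V ≤ ModPair.interior I := hV ▸ le_sup_left
    have hrange : IsClosed (Set.range (X.homOfLE hle)) := by
      have : Set.range (X.homOfLE hle) = ((ModPair.interior I).ι ⁻¹' (V' : Set X))ᶜ := by
        ext x
        constructor
        · rintro ⟨v, rfl⟩ hv'
          refine (disjoint_iff.1 hVV' ▸ (show (_ : X) ∈ V ⊓ V' from ⟨?_, hv'⟩) : _ ∈ (⊥ : X.Opens))
          show ((X.homOfLE hle) ≫ (ModPair.interior I).ι) v ∈ V
          rw [Scheme.homOfLE_ι]
          exact v.2
        · intro hx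
          have hx2 : x.1 ∈ V ⊔ V' := hV.symm ▸ x.2
          rcases hx2 with h | h
          · refine ⟨⟨x.1, h⟩, ?_⟩
            apply Subtype.ext
            show ((X.homOfLE hle) ≫ (ModPair.interior I).ι) _ = x.1
            rw [Scheme.homOfLE_ι]
            rfl
          · exact absurd h hx
      rw [this]
      exact (V'.2.preimage (ModPair.interior I).ι.continuous).isClosed_compl
    haveI : IsClosedImmersion (X.homOfLE hle) := .of_isPreimmersion _ hrange
    rw [← Scheme.homOfLE_ι X hle]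
    infer_instance
  haveI hq₀ : QuasiCompact U₀.ι := hclopen hU hd
  haveI hq₁ : QuasiCompact U₁.ι := hclopen ((sup_comm _ _).trans hU) hd.symm
  have hdisj : ∀ {V V' : X.Opens} [QuasiCompact V'.ι], Disjoint V V' → ∀ z, V'.ι.imageι z ∉ V := by
    intro V V' hqc hVV' z hz
    have h1 : V'.ι.imageι z ∈ closure (Set.range V'.ι) := by
      rw [← Scheme.Hom.support_ker, ← Scheme.IdealSheafData.range_subschemeι]; exact ⟨z, rfl⟩
    obtain ⟨y, hy, hy'⟩ := mem_closure_iff.1 h1 _ V.2 hz
    rw [Scheme.Opens.range_ι] at hy'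
    exact (disjoint_iff.1 hVV' ▸ (show y ∈ V ⊓ V' from ⟨hy, hy'⟩) : y ∈ (⊥ : X.Opens))
  refine ⟨Groth.L13.BU.isEffCartier_of_cover fun x => ?_, rfl, ?_, ?_⟩
  · have hx : x ∈ (⊤ : (U₀.ι.image ⨿ U₁.ι.image).Opens) := trivial
    rw [← codisjoint_iff.1 (isCompl_opensRange_inl_inr _ _).codisjoint] at hx
    rcases hx with ⟨y, rfl⟩ | ⟨y, rfl⟩
    · refine ⟨_, coprod.inl, inferInstance, ⟨y, rfl⟩, ?_⟩
      rw [← Scheme.IdealSheafData.comap_comp, coprod.inl_desc]
      haveI := Groth.L13.MP.dominant_preimage_image U₀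
      haveI := Groth.L13.MP.quasiCompact_preimage U₀.ι.imageι hq₀
      exact Groth.L13.MP.isEffCartier_comap _ hI (W := U₀.ι.imageι ⁻¹ᵁ U₀) (fun z hz => hle₀ hz)
    · refine ⟨_, coprod.inr, inferInstance, ⟨y, rfl⟩, ?_⟩
      rw [← Scheme.IdealSheafData.comap_comp, coprod.inr_desc]
      haveI := Groth.L13.MP.dominant_preimage_image U₁
      haveI := Groth.L13.MP.quasiCompact_preimage U₁.ι.imageι hq₁
      exact Groth.L13.MP.isEffCartier_comap _ hI (W := U₁.ι.imageι ⁻¹ᵁ U₁) (fun z hz => hle₁ hz)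
  · infer_instance
  · refine IsZariskiLocalAtTarget.of_iSup_eq_top (P := MorphismProperty.isomorphisms Scheme)
      (fun b : ULift.{u} Bool => (ModPair.interior I).ι ⁻¹ᵁ U b) (eq_top_iff.2 fun x _ => Opens.mem_iSup.2 ?_) fun b => ?_
    · have hx : x.1 ∈ U₀ ⊔ U₁ := hU.symm ▸ x.2
      rcases hx with h | h
      · exact ⟨⟨true⟩, h⟩
      · exact ⟨⟨false⟩, h⟩
    rw [(MorphismProperty.isomorphisms Scheme).arrow_mk_iso_iff
      (morphismRestrictRestrict _ _ _ ≪≫ morphismRestrictEq _ (show _ = U b from ?_))]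
    · show IsIso (coprod.desc U₀.ι.imageι U₁.ι.imageι ∣_ U b)
      obtain ⟨_ | _⟩ := b
      · have hpre : coprod.desc U₀.ι.imageι U₁.ι.imageι ⁻¹ᵁ U₁ ≤
            (coprod.inr : U₁.ι.image ⟶ U₀.ι.image ⨿ U₁.ι.image).opensRange := by
          intro z hz
          have hz' : z ∈ (⊤ : (U₀.ι.image ⨿ U₁.ι.image).Opens) := trivial
          rw [← codisjoint_iff.1 (isCompl_opensRange_inl_inr _ _).codisjoint] at hz'
          rcases hz' with ⟨w, rfl⟩ | hw
          · refine absurd ?_ (hdisj hd.symm w)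
            show U₀.ι.imageι w ∈ U₁
            rw [← coprod.inl_desc U₀.ι.imageι U₁.ι.imageι]
            exact hz
          · exact hw
        have h1 : IsIso ((coprod.inr ≫ coprod.desc U₀.ι.imageι U₁.ι.imageι) ∣_ U₁) := by
          rw [coprod.inr_desc]; exact Groth.L13.MP.isIso_imageι_restrict U₁
        rw [morphismRestrict_comp] at h1
        haveI := Groth.L13.MP.isIso_restrict_openImmersion (coprod.inr : U₁.ι.image ⟶ U₀.ι.image ⨿ U₁.ι.image) _ hpre
        exact @IsIso.of_isIso_comp_left _ _ _ _ _ (coprod.inr ∣_ _) (coprod.desc U₀.ι.imageι U₁.ι.imageι ∣_ U₁) _ h1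
      · have hpre : coprod.desc U₀.ι.imageι U₁.ι.imageι ⁻¹ᵁ U₀ ≤
            (coprod.inl : U₀.ι.image ⟶ U₀.ι.image ⨿ U₁.ι.image).opensRange := by
          intro z hz
          have hz' : z ∈ (⊤ : (U₀.ι.image ⨿ U₁.ι.image).Opens) := trivial
          rw [← codisjoint_iff.1 (isCompl_opensRange_inl_inr _ _).codisjoint] at hz'
          rcases hz' with hw | ⟨w, rfl⟩
          · exact hw
          · refine absurd ?_ (hdisj hd w)
            show U₁.ι.imageι w ∈ U₀
            rw [← coprod.inr_desc U₀.ι.imageι U₁.ι.imageι]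
            exact hz
        have h1 : IsIso ((coprod.inl ≫ coprod.desc U₀.ι.imageι U₁.ι.imageι) ∣_ U₀) := by
          rw [coprod.inl_desc]; exact Groth.L13.MP.isIso_imageι_restrict U₀
        rw [morphismRestrict_comp] at h1
        haveI := Groth.L13.MP.isIso_restrict_openImmersion (coprod.inl : U₀.ι.image ⟶ U₀.ι.image ⨿ U₁.ι.image) _ hpre
        exact @IsIso.of_isIso_comp_left _ _ _ _ _ (coprod.inl ∣_ _) (coprod.desc U₀.ι.imageι U₁.ι.imageι ∣_ U₀) _ h1
    · rw [Scheme.Hom.image_preimage_eq_opensRange_inf, Scheme.Opens.opensRange_ι, inf_eq_right]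
      obtain ⟨_ | _⟩ := b
      · exact hle₁
      · exact hle₀

end Groth.Agent.S18737
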