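import Groth.Statements.S18738
import Groth.Agent.L13.ModPair.Product

set_option autoImplicit false
universe u
open CategoryTheory CategoryTheory.Limits AlgebraicGeometry TopologicalSpace
open ModPair

namespace Groth.Agent.S18738

/-- In the category of modulus pairs and ambient morphisms, the class Σ of abstract admissible blow-ups
(minimal, proper, an isomorphism over the interior of the target) admits a calculus of right
fractions: it contains the identities and is stable under composition; every pair X' ⟶ X ⟵ Y with X'
⟶ X in Σ can be completed to a commutative square with a morphism Y' ⟶ Y in Σ; and two ambient
morphisms f, g : X ⟶ Y equalized by some Y ⟶ Z in Σ are equalized by some X' ⟶ X in Σ. -/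
theorem result :
    (ModPair.Pair.admBlowup.{u}).HasRightCalculusOfFractions := by
  exact Groth.L13.MP.hasRightCalculus

end Groth.Agent.S18738
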