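import Groth.Prelude.Def_W4c6modpairsegaMP
import Mathlib.AlgebraicGeometry.Morphisms.Flat
import Mathlib.AlgebraicGeometry.Morphisms.FinitePresentation
import Mathlib.AlgebraicGeometry.Morphisms.QuasiSeparated
import Groth.Agent.L11.FlatRef.Refine
-- import your own Groth.Agent.* helpers here

set_option autoImplicit false
set_option backward.isDefEq.respectTransparency false
set_option backward.isDefEq.respectTransparency.types false
universe u
open CategoryTheory CategoryTheory.Limits AlgebraicGeometry TopologicalSpace
open ModPair

namespace Groth.Agent.S18740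

/-- Let (X, I_X) be a modulus pair (a scheme with the quasi-coherent ideal sheaf of an effective Cartier
divisor) with X quasi-compact and quasi-separated, u : Y ⟶ X a minimal morphism of modulus pairs
(I_Y = I_X.comap u) which is flat and of finite presentation (flat, locally of finite presentation,
quasi-compact, quasi-separated), and b : Y' ⟶ Y an abstract admissible blow-up of modulus pairs.
Then there exist an abstract admissible blow-up a : X' ⟶ X of modulus pairs, a minimal morphism v :
V ⟶ X' of modulus pairs which is again flat and of finite presentation, and an abstract admissible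
blow-up w : V ⟶ Y', such that w ≫ b ≫ u = v ≫ a. If u is in addition surjective (an fppf covering),
then v can be chosen surjective as well. -/
theorem result {X Y Y' : Scheme.{u}} [CompactSpace X]
    [QuasiSeparatedSpace X] (IX : X.IdealSheafData) (IY : Y.IdealSheafData) (IY' : Y'.IdealSheafData)
    (hX : BlowUp.IsEffCartierIdeal IX) (hY : BlowUp.IsEffCartierIdeal IY)
    (hY' : BlowUp.IsEffCartierIdeal IY') (u : Y ⟶ X) (hu : ModPair.IsMinimal IY IX u) [Flat u]
    [LocallyOfFinitePresentation u] [QuasiCompact u] [QuasiSeparated u]
    (b : Y' ⟶ Y) (hb : ModPair.IsAdmBlowup IY' IY b) :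
    ∃ (X' : Scheme.{u}) (IX' : X'.IdealSheafData) (a : X' ⟶ X) (V : Scheme.{u})
      (IV : V.IdealSheafData) (v : V ⟶ X') (w : V ⟶ Y'),
      BlowUp.IsEffCartierIdeal IX' ∧ ModPair.IsAdmBlowup IX' IX a ∧
        BlowUp.IsEffCartierIdeal IV ∧ ModPair.IsMinimal IV IX' v ∧ Flat v ∧
        LocallyOfFinitePresentation v ∧ QuasiCompact v ∧ QuasiSeparated v ∧
        ModPair.IsAdmBlowup IV IY' w ∧ w ≫ b ≫ u = v ≫ a ∧
        (Surjective u → Surjective v) := by
  exact Groth.L11.FlatRef.exists_refinement IX IY IY' hX hY hY' u hu b hb
end Groth.Agent.S18740
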