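import Groth.Statements.S18741

set_option autoImplicit false
universe v₁ v₂ v₃ u₁ u₂ u₃
open CategoryTheory
open ModPair

namespace Groth.Agent.S18741

/-- Let C be a category, W a class of morphisms of C admitting a calculus of right fractions, and S an
object of C; let W_S be the class of morphisms of the slice category over S whose underlying
morphism lies in W. Then the canonical functor from the localization of the slice category C/S at
W_S to the slice category over S of the localization of C at W is an equivalence: for every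
localization functor L : C ⥤ D at W, every localization functor L' : C/S ⥤ E at W_S, and every
functor Φ : E ⥤ D/L(S) through which the functor C/S ⥤ D/L(S) induced by L factors up to
isomorphism, Φ is an equivalence of categories. -/
theorem result {C : Type u₁}
    [Category.{v₁} C] (W : MorphismProperty C) [W.HasRightCalculusOfFractions] (S : C)
    {D : Type u₂} [Category.{v₂} D] (L : C ⥤ D) [L.IsLocalization W]
    {E : Type u₃} [Category.{v₃} E] (L' : Over S ⥤ E)
    [L'.IsLocalization (W.inverseImage (Over.forget S))]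
    (Φ : E ⥤ Over (L.obj S)) (e : L' ⋙ Φ ≅ Over.post L) : Φ.IsEquivalence := by
  have exPair : ∀ {A : C} {Y : C} (f : A ⟶ S) (g : Y ⟶ S) (s : L.obj A ⟶ L.obj Y),
      s ≫ L.map g = L.map f → ∃ (A' : C) (a : A' ⟶ A) (b : A' ⟶ Y), W a ∧ b ≫ g = a ≫ f ∧ L.map a ≫ s = L.map b := by
    intro A Y f g s h
    obtain ⟨φ, hφ⟩ := Localization.exists_rightFraction L W s
    have h1 : L.map (φ.f ≫ g) = L.map (φ.s ≫ f) := by
      rw [Functor.map_comp, Functor.map_comp, ← h, ← Category.assoc, hφ, MorphismProperty.RightFraction.map_s_comp_map]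
    obtain ⟨Z, t, ht, h2⟩ := (MorphismProperty.map_eq_iff_precomp L W _ _).1 h1
    exact ⟨Z, t ≫ φ.s, t ≫ φ.f, W.comp_mem _ _ ht φ.hs, by simpa using h2, by rw [hφ]; simp⟩
  haveI : (W.inverseImage (Over.forget S)).HasRightCalculusOfFractions :=
    { id_mem := fun Y => W.id_mem Y.left
      comp_mem := fun a b ha hb => W.comp_mem a.left b.left ha hb
      exists_rightFraction := fun A B φ => by
        obtain ⟨χ, hχ⟩ := MorphismProperty.HasRightCalculusOfFractions.exists_rightFraction
          (MorphismProperty.LeftFraction.mk φ.f.left φ.s.left φ.hs)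
        dsimp at hχ
        refine ⟨⟨Over.homMk (U := Over.mk (χ.s ≫ A.hom)) χ.s rfl, χ.hs,
          Over.homMk (U := Over.mk (χ.s ≫ A.hom)) χ.f ?_⟩, Over.OverMorphism.ext hχ⟩
        show χ.f ≫ B.hom = χ.s ≫ A.hom
        rw [← Over.w φ.f, ← Over.w φ.s, reassoc_of% hχ]
      ext := fun A B B' a b s hs h => by
        obtain ⟨Z, t, ht, h'⟩ := MorphismProperty.HasRightCalculusOfFractions.ext a.left b.left s.left hs
          (congrArg CommaMorphism.left h)
        exact ⟨Over.mk (t ≫ A.hom), Over.homMk t rfl, ht, Over.OverMorphism.ext h'⟩ }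
  haveI : L'.EssSurj := Localization.essSurj L' (W.inverseImage (Over.forget S))
  haveI := Localization.essSurj L W
  have hfaith : ∀ {Y Z : Over S} (α β : L'.obj Y ⟶ L'.obj Z), Φ.map α = Φ.map β → α = β := by
    intro Y Z α β h
    obtain ⟨φ, hφ⟩ := Localization.exists_rightFraction L' (W.inverseImage (Over.forget S)) α
    obtain ⟨ψ, hψ⟩ := Localization.exists_rightFraction L' (W.inverseImage (Over.forget S)) β
    obtain ⟨χ, hχ⟩ := MorphismProperty.HasRightCalculusOfFractions.exists_rightFraction
      (MorphismProperty.LeftFraction.mk φ.s ψ.s ψ.hs)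
    dsimp at hχ
    have ha : L'.map (χ.s ≫ φ.s) ≫ α = L'.map (χ.s ≫ φ.f) := by rw [hφ]; simp
    have hb : L'.map (χ.s ≫ φ.s) ≫ β = L'.map (χ.f ≫ ψ.f) := by rw [hχ, hψ]; simp
    have h1 : Φ.map (L'.map (χ.s ≫ φ.f)) = Φ.map (L'.map (χ.f ≫ ψ.f)) := by
      rw [← ha, ← hb, Φ.map_comp _ α, Φ.map_comp _ β, h]
    have h2 : (Over.post L).map (χ.s ≫ φ.f) = (Over.post L).map (χ.f ≫ ψ.f) :=
      (cancel_epi (e.hom.app _)).1 ((e.hom.naturality _).symm.trans ((congrArg (· ≫ e.hom.app Z) h1).trans (e.hom.naturality _)))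
    obtain ⟨V, t, ht, h3⟩ := (MorphismProperty.map_eq_iff_precomp L W _ _).1 (congrArg CommaMorphism.left h2)
    have h4 : L'.map (χ.s ≫ φ.f) = L'.map (χ.f ≫ ψ.f) :=
      (MorphismProperty.map_eq_iff_precomp L' (W.inverseImage (Over.forget S)) _ _).2
        ⟨Over.mk (t ≫ χ.X'.hom), Over.homMk t rfl, ht, Over.OverMorphism.ext h3⟩
    haveI := Localization.inverts L' (W.inverseImage (Over.forget S)) (χ.s ≫ φ.s) ((W.inverseImage (Over.forget S)).comp_mem _ _ χ.hs φ.hs :
      (W.inverseImage (Over.forget S)) (χ.s ≫ φ.s))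
    rw [← cancel_epi (L'.map (χ.s ≫ φ.s)), ha, hb, h4]
  have hfull : ∀ {Y Z : Over S} (g : (Over.post L).obj Y ⟶ (Over.post L).obj Z),
      ∃ α : L'.obj Y ⟶ L'.obj Z, Φ.map α = e.hom.app Y ≫ g ≫ e.inv.app Z := by
    intro Y Z g
    obtain ⟨A', a, b, ha, hab, hg⟩ := exPair Y.hom Z.hom g.left (Over.w g)
    let sa : Over.mk (a ≫ Y.hom) ⟶ Y := Over.homMk a rfl
    let fb : Over.mk (a ≫ Y.hom) ⟶ Z := Over.homMk b hab
    haveI := Localization.inverts L' (W.inverseImage (Over.forget S)) sa ha
    refine ⟨inv (L'.map sa) ≫ L'.map fb, ?_⟩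
    rw [Functor.map_comp, Functor.map_inv, IsIso.inv_comp_eq]
    have h1 := e.hom.naturality sa
    have h2 := e.hom.naturality fb
    dsimp only [Functor.comp_map] at h1 h2
    rw [← Category.assoc, h1, Category.assoc, ← Category.assoc ((Over.post L).map sa),
      show (Over.post L).map sa ≫ g = (Over.post L).map fb from Over.OverMorphism.ext hg, ← Category.assoc, ← h2,
      Category.assoc, Iso.hom_inv_id_app, Category.comp_id]
  exact
    { faithful := ⟨fun {P Q} {α β} h => by
        let i := L'.objObjPreimageIso P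
        let j := L'.objObjPreimageIso Q
        rw [← cancel_epi i.hom, ← cancel_mono j.inv]
        exact hfaith _ _ (by rw [Functor.map_comp, Functor.map_comp, Functor.map_comp, Functor.map_comp, h])⟩
      full := ⟨fun {P Q} g => by
        let i := L'.objObjPreimageIso P
        let j := L'.objObjPreimageIso Q
        obtain ⟨α, hα⟩ := hfull (e.inv.app _ ≫ Φ.map i.hom ≫ g ≫ Φ.map j.inv ≫ e.hom.app _)
        refine ⟨i.inv ≫ α ≫ j.hom, ?_⟩
        rw [Functor.map_comp, Functor.map_comp, hα]
        simp [← Functor.map_comp, ← Functor.map_comp_assoc, i, j]⟩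
      essSurj := ⟨fun D' => by
        let i := L.objObjPreimageIso D'.left
        obtain ⟨φ, hφ⟩ := Localization.exists_rightFraction L W (i.hom ≫ D'.hom)
        haveI := Localization.inverts L W _ φ.hs
        refine ⟨L'.obj (Over.mk φ.f), ⟨e.app _ ≪≫ Over.isoMk (Localization.isoOfHom L W φ.s φ.hs ≪≫ i) ?_⟩⟩
        show (L.map φ.s ≫ i.hom) ≫ D'.hom = L.map φ.f
        rw [Category.assoc, hφ, MorphismProperty.RightFraction.map_s_comp_map]⟩ }

end Groth.Agent.S18741
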