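import Groth.Statements.S18742
import Groth.Agent.L13.ModPair.Limit

set_option autoImplicit false
universe u
open CategoryTheory CategoryTheory.Limits AlgebraicGeometry TopologicalSpace
open ModPair

namespace Groth.Agent.S18742

/-- Let S be a quasi-compact quasi-separated scheme, (X_i) a cofiltered system of S-schemes with affine,
scheme-theoretically dominant transition morphisms and all X_i quasi-compact and quasi-separated, X
its limit in the category of S-schemes, and Y ⟶ S locally of finite type with Y quasi-compact and
quasi-separated. Then the canonical map from the colimit of the sets Hom_S(X_i, Y) to Hom_S(X, Y) is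
bijective: every S-morphism X ⟶ Y factors through the projection to some X_i, and two S-morphisms
X_i ⟶ Y with the same composite X ⟶ Y become equal after composition with some transition morphism
X_j ⟶ X_i. No finite-presentation hypothesis on Y is assumed. -/
theorem result {S : Scheme.{u}} [CompactSpace S]
    [QuasiSeparatedSpace S] {I : Type u} [SmallCategory I] [IsCofiltered I] (D : I ⥤ Over S)
    (c : Cone D) (hc : IsLimit c)
    [∀ (i j : I) (t : i ⟶ j), IsAffineHom (D.map t).left]
    [∀ (i j : I) (t : i ⟶ j), IsSchemeTheoreticallyDominant (D.map t).left]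
    [∀ i, CompactSpace (D.obj i).left] [∀ i, QuasiSeparatedSpace (D.obj i).left]
    (Y : Over S) [CompactSpace Y.left] [QuasiSeparatedSpace Y.left] [LocallyOfFiniteType Y.hom] :
    (∀ φ : c.pt ⟶ Y, ∃ (i : I) (φi : D.obj i ⟶ Y), c.π.app i ≫ φi = φ) ∧
      ∀ (i : I) (φ ψ : D.obj i ⟶ Y), c.π.app i ≫ φ = c.π.app i ≫ ψ →
        ∃ (j : I) (t : j ⟶ i), D.map t ≫ φ = D.map t ≫ ψ := by
  refine ⟨fun φ => Groth.L13.MP.exists_factor_stage hc Y (Or.inl fun i j t => inferInstance) φ, fun i φ ψ h => ?_⟩
  let D' := D ⋙ Over.forget S
  haveI : ∀ {i j : I} (f : i ⟶ j), IsAffineHom (D'.map f) := fun {i j} f => inferInstanceAs (IsAffineHom (D.map f).left)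
  haveI : ∀ i, CompactSpace (D'.obj i) := fun i => inferInstanceAs (CompactSpace (D.obj i).left)
  let t : D' ⟶ (Functor.const I).obj S :=
    { app := fun i => (D.obj i).hom
      naturality := fun i j f => (Over.w (D.map f)).trans (Category.comp_id _).symm }
  obtain ⟨k, hik, hk⟩ := Scheme.exists_hom_comp_eq_comp_of_locallyOfFiniteType D' t Y.hom ((Over.forget S).mapCone c)
    (isLimitOfPreserves _ hc) φ.left ψ.left (Over.w φ).symm (Over.w ψ).symm (congrArg CommaMorphism.left h)
  exact ⟨k, hik, Over.OverMorphism.ext hk⟩

end Groth.Agent.S18742
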