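import Groth.Statements.S18753
import Groth.Agent.L13.ModPair.SemiVal

set_option autoImplicit false
universe u
open CategoryTheory CategoryTheory.Limits AlgebraicGeometry TopologicalSpace
open ModPair

namespace Groth.Agent.S18753

/-- Let O be a local ring with residue field κ, R a valuation ring of κ, A ⊆ O the subring of elements
whose residue class lies in R (the fibre product ring R ×_κ O, a semi-valuation ring), and f an
element of A such that O is the localization of A obtained by inverting f. Equip P = Spec A with the
modulus V(f), the closed subscheme cut out by f (an effective Cartier divisor: f is a unit of O, so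
a nonzerodivisor of A), whose interior is Spec O. Let q : Q ⟶ P be a proper, minimal morphism of
modulus pairs (the modulus of Q is the pull-back of V(f) and is an effective Cartier divisor) whose
restriction over the interior of P is a finite morphism. Then q is finite. -/
theorem result {O : Type u} [CommRing O]
    [IsLocalRing O] (R : ValuationSubring (IsLocalRing.ResidueField O))
    (f : ↥((R.toSubring).comap (IsLocalRing.residue O)))
    [IsLocalization.Away f O] {Q : Scheme.{u}} (IQ : Q.IdealSheafData)
    (hQ : BlowUp.IsEffCartierIdeal IQ)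
    (q : Q ⟶ Spec (CommRingCat.of ↥((R.toSubring).comap (IsLocalRing.residue O))))
    (hq : ModPair.IsMinimal IQ
      (Spec.map (CommRingCat.ofHom (Ideal.Quotient.mk (Ideal.span {f})))).ker q)
    [IsProper q]
    (hfin : IsFinite (q ∣_ ModPair.interior
      (Spec.map (CommRingCat.ofHom (Ideal.Quotient.mk (Ideal.span {f})))).ker)) :
    IsFinite q := by
  let A := (R.toSubring).comap (IsLocalRing.residue O)
  let ρ : A →+* R := ((IsLocalRing.residue O).comp A.subtype).codRestrict R.toSubring fun a => a.2
  have hf : IsUnit ((f : A) : O) := IsLocalization.Away.algebraMap_isUnit (S := O) f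
  have hρ : Function.Surjective ρ := fun r => by
    obtain ⟨o, ho⟩ := IsLocalRing.residue_surjective (r : IsLocalRing.ResidueField O)
    exact ⟨⟨o, show IsLocalRing.residue O o ∈ R.toSubring by rw [ho]; exact r.2⟩, Subtype.ext ho⟩
  have hdiv : ∀ a, ρ a = 0 → ∀ n : ℕ, f ^ n ∣ a := fun a ha n => by
    obtain ⟨u, hu⟩ := hf.pow n
    have h0 : IsLocalRing.residue O (a : O) = 0 := congrArg Subtype.val ha
    refine ⟨⟨↑u⁻¹ * (a : O), ?_⟩, Subtype.ext ?_⟩
    · show IsLocalRing.residue O (↑u⁻¹ * (a : O)) ∈ R.toSubring
      rw [map_mul, h0, mul_zero]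
      exact zero_mem _
    · show (a : O) = (f : O) ^ n * (↑u⁻¹ * (a : O))
      rw [← hu, Units.mul_inv_cancel_left]
  have hmax : ∀ p : PrimeSpectrum A, f ∉ p.asIdeal → p.asIdeal ≤ RingHom.ker ρ := fun p hp a ha => by
    by_contra hne
    have hunit : IsUnit (a : O) := by
      rw [← IsLocalRing.residue_ne_zero_iff_isUnit]
      exact fun h => hne (RingHom.mem_ker.2 (Subtype.ext h))
    obtain ⟨u, hu⟩ := hunit
    obtain ⟨⟨c, ⟨_, k, rfl⟩⟩, hc⟩ := IsLocalization.surj (Submonoid.powers f) (↑u⁻¹ : O)
    have hac : f ^ k = a * c := Subtype.ext (by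
      show (f : O) ^ k = (a : O) * (c : O)
      have hc' : (↑u⁻¹ : O) * (f : O) ^ k = (c : O) := hc
      rw [← hu, ← hc', Units.mul_inv_cancel_left])
    exact hp (p.isPrime.mem_of_pow_mem k (hac ▸ Ideal.mul_mem_right _ _ ha))
  rw [Groth.L13.MP.ker_SpecMap_quotient] at hq hfin
  haveI := hfin
  exact Groth.L13.MP.isFinite_semiVal ρ hρ f hdiv hmax q (hq ▸ hQ)

end Groth.Agent.S18753
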