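import Groth.Statements.S18754
import Groth.Agent.L13.ModPair.Basic
import Groth.Agent.L19.Limit.Factor
import Mathlib.AlgebraicGeometry.Morphisms.FinitePresentation
import Mathlib.CategoryTheory.Limits.Constructions.Over.Connected

set_option autoImplicit false
universe u
open CategoryTheory CategoryTheory.Limits AlgebraicGeometry TopologicalSpace
open ModPair

namespace Groth.Agent.S18754

/-- Let (Y, I_Y) be a modulus pair with Y quasi-compact and quasi-separated, and let (X_i ⟶ Y) be a
cofiltered system of Y-schemes with affine transition morphisms such that every X_i is quasi-compact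
and quasi-separated, the pulled-back ideal I_Y.comap (X_i ⟶ Y) is the ideal of an effective Cartier
divisor, and X_i ⟶ Y is an abstract admissible blow-up of modulus pairs which is locally of finite
presentation. Let X be the limit of the system over Y and suppose that X ⟶ Y, with the pulled-back
modulus (assumed effective Cartier), is also an abstract admissible blow-up. Then X ⟶ Y is locally
of finite presentation: an abstract admissible blow-up of quasi-compact quasi-separated modulus
pairs which is not of finite presentation is never a limit of finitely presented ones. -/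
theorem result {Y : Scheme.{u}}
    [CompactSpace Y] [QuasiSeparatedSpace Y] (IY : Y.IdealSheafData) (hY : BlowUp.IsEffCartierIdeal IY)
    {I : Type u} [SmallCategory I] [IsCofiltered I] (D : I ⥤ Over Y) (c : Cone D) (hc : IsLimit c)
    [∀ (i j : I) (t : i ⟶ j), IsAffineHom (D.map t).left]
    [∀ i, CompactSpace (D.obj i).left] [∀ i, QuasiSeparatedSpace (D.obj i).left]
    (hI : ∀ i, BlowUp.IsEffCartierIdeal (IY.comap (D.obj i).hom))
    (hadm : ∀ i, ModPair.IsAdmBlowup (IY.comap (D.obj i).hom) IY (D.obj i).hom)
    [∀ i, LocallyOfFinitePresentation (D.obj i).hom]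
    (hX : BlowUp.IsEffCartierIdeal (IY.comap c.pt.hom))
    (hXadm : ModPair.IsAdmBlowup (IY.comap c.pt.hom) IY c.pt.hom) :
    LocallyOfFinitePresentation c.pt.hom := by
  let D' := D ⋙ Over.forget Y
  let c' : Cone D' := (Over.forget Y).mapCone c
  haveI : ∀ {i j : I} (f : i ⟶ j), IsAffineHom (D'.map f) := fun {i j} f => inferInstanceAs (IsAffineHom (D.map f).left)
  obtain ⟨i⟩ := IsCofiltered.nonempty (C := I)
  haveI : CompactSpace (D'.obj i) := inferInstanceAs (CompactSpace (D.obj i).left)
  haveI := hXadm.2.1
  haveI : LocallyOfFiniteType (𝟙 c'.pt ≫ c'.π.app i) := by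
    rw [Category.id_comp]
    haveI : LocallyOfFiniteType ((c'.π.app i) ≫ (D.obj i).hom) :=
      (Over.w (c.π.app i)).symm ▸ inferInstanceAs (LocallyOfFiniteType c.pt.hom)
    exact locallyOfFiniteType_of_comp _ (D.obj i).hom
  obtain ⟨j, -, hj⟩ := Groth.L19.Limit.exists_isClosedImmersion_comp (isLimitOfPreserves _ hc) i (𝟙 c'.pt)
  rw [Category.id_comp] at hj
  haveI : IsClosedImmersion (c.π.app j).left := hj
  haveI := Groth.L13.MP.dominant_interior (hI j)
  obtain ⟨hmin, hprop, hiso⟩ := hadm j
  have h1 : IsIso (((c.π.app j).left ≫ (D.obj j).hom) ∣_ ModPair.interior IY) := by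
    rw [Over.w (c.π.app j)]
    exact hXadm.2.2
  rw [morphismRestrict_comp] at h1
  haveI := hiso
  haveI h2 : IsIso ((c.π.app j).left ∣_ ((D.obj j).hom ⁻¹ᵁ ModPair.interior IY)) :=
    @IsIso.of_isIso_comp_right _ _ _ _ _ _ ((D.obj j).hom ∣_ ModPair.interior IY) hiso h1
  have hker : (c.π.app j).left.ker = ⊥ := by
    refine le_bot_iff.1 ?_
    rw [← (ModPair.interior (IY.comap (D.obj j).hom)).ι.ker_eq_bot]
    rw [Groth.L13.MP.interior_comap]
    rw [← IsIso.inv_hom_id_assoc ((c.π.app j).left ∣_ ((D.obj j).hom ⁻¹ᵁ ModPair.interior IY))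
      ((D.obj j).hom ⁻¹ᵁ ModPair.interior IY).ι, morphismRestrict_ι, ← Category.assoc]
    exact Scheme.Hom.le_ker_comp _ _
  haveI : IsIso (c.π.app j).left := IsClosedImmersion.isIso_iff_ker_eq_bot.2 hker
  rw [show c.pt.hom = (c.π.app j).left ≫ (D.obj j).hom from (Over.w (c.π.app j)).symm]
  infer_instance

end Groth.Agent.S18754
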