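import Groth.Statements.S18755
import Groth.Agent.L13.ModPair.AmbProd

set_option autoImplicit false
universe u
open CategoryTheory CategoryTheory.Limits AlgebraicGeometry TopologicalSpace
open ModPair

namespace Groth.Agent.S18755

/-- Let (S₀, I₀), (S₁, I₁), (T, J), (X, I) be schemes with quasi-coherent ideal sheaves of effective
Cartier divisors, f : X ⟶ S₁, g : T ⟶ S₁ and σ : S₁ ⟶ S₀ morphisms satisfying the modulus condition,
and let (Y₁, K₁) with π₁ and (Y₀, K₀) with π₀ be ambient products of (X, I) and (T, J) over S₁ and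
over S₀ (the latter for f ≫ σ and g ≫ σ): blow-ups of the scheme-theoretic image of the product of
the interiors inside X ×_{S₁} T, resp. X ×_{S₀} T, in the intersection of the pulled-back moduli,
with K·E = D_X·D_T. Then the ambient product is functorial in the base: there is a unique morphism φ
: Y₁ ⟶ Y₀ compatible with the maps to X ×_{S₀} T (through the canonical X ×_{S₁} T ⟶ X ×_{S₀} T),
and every such φ is minimal, K₁ = K₀.comap φ. -/
theorem result {S₀ S₁ T X Y₁ Y₀ : Scheme.{u}} (I₀ : S₀.IdealSheafData)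
    (I₁ : S₁.IdealSheafData) (J : T.IdealSheafData) (I : X.IdealSheafData)
    (h₀ : BlowUp.IsEffCartierIdeal I₀) (h₁ : BlowUp.IsEffCartierIdeal I₁)
    (hT : BlowUp.IsEffCartierIdeal J) (hX : BlowUp.IsEffCartierIdeal I)
    (f : X ⟶ S₁) (hf : ModPair.IsAmbient I I₁ f) (g : T ⟶ S₁) (hg : ModPair.IsAmbient J I₁ g)
    (σ : S₁ ⟶ S₀) (hσ : ModPair.IsAmbient I₁ I₀ σ)
    (π₁ : Y₁ ⟶ ModPair.mprod f g I J) (K₁ : Y₁.IdealSheafData) (hY₁ : ModPair.IsAmbProd f g I J π₁ K₁)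
    (π₀ : Y₀ ⟶ ModPair.mprod (f ≫ σ) (g ≫ σ) I J) (K₀ : Y₀.IdealSheafData)
    (hY₀ : ModPair.IsAmbProd (f ≫ σ) (g ≫ σ) I J π₀ K₀) :
    (∃! φ : Y₁ ⟶ Y₀, φ ≫ π₀ ≫ ModPair.mprodι (f ≫ σ) (g ≫ σ) I J =
        π₁ ≫ ModPair.mprodι f g I J ≫ pullback.mapDesc f g σ) ∧
      ∀ φ : Y₁ ⟶ Y₀, φ ≫ π₀ ≫ ModPair.mprodι (f ≫ σ) (g ≫ σ) I J =
          π₁ ≫ ModPair.mprodι f g I J ≫ pullback.mapDesc f g σ →
        ModPair.IsMinimal K₁ K₀ φ := by
  have hw : Groth.L13.MP.pr1 f g I J π₁ ≫ f ≫ σ = Groth.L13.MP.pr2 f g I J π₁ ≫ g ≫ σ := by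
    simp [Groth.L13.MP.pr1, Groth.L13.MP.pr2, pullback.condition_assoc]
  obtain ⟨⟨φ, hφ, hφu⟩, hamb⟩ := Groth.L13.MP.ambProd_lift hY₀ (Groth.L13.MP.ambProd_effCartier hX hT hY₁)
    (Groth.L13.MP.pr1 f g I J π₁) (Groth.L13.MP.pr2 f g I J π₁) (Groth.L13.MP.ambProd_ambient_fst hY₁)
    (Groth.L13.MP.ambProd_ambient_snd hY₁) hw (Groth.L13.MP.isEffCartier_exc hY₁.1)
  have hiff : ∀ ψ : Y₁ ⟶ Y₀, ψ ≫ π₀ ≫ ModPair.mprodι (f ≫ σ) (g ≫ σ) I J =
        π₁ ≫ ModPair.mprodι f g I J ≫ pullback.mapDesc f g σ ↔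
      ψ ≫ Groth.L13.MP.pr1 (f ≫ σ) (g ≫ σ) I J π₀ = Groth.L13.MP.pr1 f g I J π₁ ∧
        ψ ≫ Groth.L13.MP.pr2 (f ≫ σ) (g ≫ σ) I J π₀ = Groth.L13.MP.pr2 f g I J π₁ := by
    intro ψ
    constructor
    · intro hψ
      constructor
      · have := congrArg (· ≫ pullback.fst (f ≫ σ) (g ≫ σ)) hψ
        simpa [Groth.L13.MP.pr1, pullback.mapDesc, pullback.map, pullback.lift_fst, pullback.lift_snd] using this
      · have := congrArg (· ≫ pullback.snd (f ≫ σ) (g ≫ σ)) hψ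
        simpa [Groth.L13.MP.pr2, pullback.mapDesc, pullback.map, pullback.lift_fst, pullback.lift_snd] using this
    · rintro ⟨h1, h2⟩
      apply pullback.hom_ext
      · simpa [Groth.L13.MP.pr1, pullback.mapDesc, pullback.map, pullback.lift_fst, pullback.lift_snd] using h1
      · simpa [Groth.L13.MP.pr2, pullback.mapDesc, pullback.map, pullback.lift_fst, pullback.lift_snd] using h2
  refine ⟨⟨φ, (hiff φ).2 hφ, fun ψ hψ => hφu ψ ((hiff ψ).1 hψ)⟩, fun ψ hψ => ?_⟩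
  obtain ⟨h1, h2⟩ := (hiff ψ).1 hψ
  refine le_antisymm (hamb ψ ((hiff ψ).1 hψ)) (Groth.L13.MP.le_of_mul_le (Groth.L13.MP.isEffCartier_exc hY₁.1) ?_)
  have hK := congrArg (Scheme.IdealSheafData.comap · ψ) (Groth.L13.MP.ambProd_mul hY₀)
  simp only [Groth.L22.Ideals.comap_mul, Scheme.IdealSheafData.comap_sup, ← Scheme.IdealSheafData.comap_comp,
    h1, h2] at hK
  rw [hK, Groth.L13.MP.ambProd_mul hY₁]

end Groth.Agent.S18755
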