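import Groth.Statements.S18758
import Groth.Agent.L13.ModPair.Product
import Mathlib.CategoryTheory.ObjectProperty.FullSubcategory

set_option autoImplicit false
universe w v u
open CategoryTheory CategoryTheory.Limits AlgebraicGeometry TopologicalSpace
open ModPair

namespace Groth.Agent.S18758

/-- Let S be a modulus pair and PSch_S the full subcategory of the slice category of modulus pairs over
S on the objects whose structure morphism is of finite type (locally of finite type and
quasi-compact); let Σ_ft be the class of morphisms of PSch_S whose underlying morphism of modulus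
pairs is an abstract admissible blow-up, and Q the localization functor of modulus pairs at all
abstract admissible blow-ups. Then the canonical functor from the localization of PSch_S at Σ_ft to
the slice category over Q S is fully faithful, so that it identifies the localization with the full
subcategory MSch_S of objects isomorphic to finite type ones: for every localization functor L' of
PSch_S at Σ_ft and every functor Φ to the slice over Q S through which the inclusion followed by Q
on slices factors up to isomorphism, Φ is full and faithful. -/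
theorem result (S : ModPair.Pair.{u})
    {E : Type v} [Category.{w} E]
    (L' : (ObjectProperty.FullSubcategory
        ((fun X : Over S => LocallyOfFiniteType X.hom.hom ∧ QuasiCompact X.hom.hom) :
          ObjectProperty (Over S))) ⥤ E)
    [L'.IsLocalization ((((ModPair.Pair.admBlowup.{u}).inverseImage (Over.forget S)).inverseImage
      (ObjectProperty.ι ((fun X : Over S => LocallyOfFiniteType X.hom.hom ∧ QuasiCompact X.hom.hom) :
          ObjectProperty (Over S)))))]
    (Φ : E ⥤ Over ((ModPair.Pair.admBlowup.{u}).Q.obj S))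
    (e : L' ⋙ Φ ≅ ObjectProperty.ι ((fun X : Over S => LocallyOfFiniteType X.hom.hom ∧ QuasiCompact X.hom.hom) :
          ObjectProperty (Over S)) ⋙ Over.post (ModPair.Pair.admBlowup.{u}).Q) :
    Φ.Full ∧ Φ.Faithful := by
  let P : ObjectProperty (Over S) := fun X : Over S => LocallyOfFiniteType X.hom.hom ∧ QuasiCompact X.hom.hom
  let L := (ModPair.Pair.admBlowup.{u}).Q
  let WS := ((ModPair.Pair.admBlowup.{u}).inverseImage (Over.forget S)).inverseImage P.ι
  haveI hrc := Groth.L13.MP.hasRightCalculus.{u}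
  have hP : ∀ (Y : P.FullSubcategory) {A : ModPair.Pair.{u}} (a : A ⟶ Y.obj.left),
      ModPair.Pair.admBlowup a → P (Over.mk (a ≫ Y.obj.hom)) := by
    intro Y A a ha
    haveI := ha.2.1
    haveI := Y.property.1
    haveI := Y.property.2
    exact ⟨inferInstanceAs (LocallyOfFiniteType (a.hom ≫ Y.obj.hom.hom)), inferInstanceAs (QuasiCompact (a.hom ≫ Y.obj.hom.hom))⟩
  haveI : WS.HasRightCalculusOfFractions :=
    { id_mem := fun Y => hrc.id_mem Y.obj.left
      comp_mem := fun a b ha hb => hrc.comp_mem a.hom.left b.hom.left ha hb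
      exists_rightFraction := fun A B φ => by
        obtain ⟨χ, hχ⟩ := hrc.exists_rightFraction (MorphismProperty.LeftFraction.mk φ.f.hom.left φ.s.hom.left φ.hs)
        dsimp at hχ
        let A' : P.FullSubcategory := ⟨Over.mk (χ.s ≫ A.obj.hom), hP A χ.s χ.hs⟩
        refine ⟨⟨ObjectProperty.homMk (X := A') (Over.homMk (U := Over.mk (χ.s ≫ A.obj.hom)) χ.s rfl), χ.hs,
          ObjectProperty.homMk (X := A') (Over.homMk (U := Over.mk (χ.s ≫ A.obj.hom)) χ.f ?_)⟩,
          ObjectProperty.hom_ext P (Over.OverMorphism.ext hχ)⟩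
        show χ.f ≫ B.obj.hom = χ.s ≫ A.obj.hom
        rw [← Over.w φ.f.hom, ← Over.w φ.s.hom, reassoc_of% hχ]
      ext := fun A B B' a b s hs h => by
        obtain ⟨Z, t, ht, h'⟩ := hrc.ext a.hom.left b.hom.left s.hom.left hs
          (congrArg (fun f => f.hom.left) h)
        let A' : P.FullSubcategory := ⟨Over.mk (t ≫ A.obj.hom), hP A t ht⟩
        exact ⟨A', ObjectProperty.homMk (X := A') (Over.homMk t rfl), ht, ObjectProperty.hom_ext P (Over.OverMorphism.ext h')⟩ }
  haveI : L'.EssSurj := Localization.essSurj L' WS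
  have hfaith : ∀ {Y Z : P.FullSubcategory} (α β : L'.obj Y ⟶ L'.obj Z), Φ.map α = Φ.map β → α = β := by
    intro Y Z α β h
    obtain ⟨φ, hφ⟩ := Localization.exists_rightFraction L' WS α
    obtain ⟨ψ, hψ⟩ := Localization.exists_rightFraction L' WS β
    obtain ⟨χ, hχ⟩ := MorphismProperty.HasRightCalculusOfFractions.exists_rightFraction
      (MorphismProperty.LeftFraction.mk φ.s ψ.s ψ.hs)
    dsimp at hχ
    have ha : L'.map (χ.s ≫ φ.s) ≫ α = L'.map (χ.s ≫ φ.f) := by rw [hφ]; simp
    have hb : L'.map (χ.s ≫ φ.s) ≫ β = L'.map (χ.f ≫ ψ.f) := by rw [hχ, hψ]; simp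
    have h1 : Φ.map (L'.map (χ.s ≫ φ.f)) = Φ.map (L'.map (χ.f ≫ ψ.f)) := by
      rw [← ha, ← hb, Φ.map_comp _ α, Φ.map_comp _ β, h]
    have h2 : (P.ι ⋙ Over.post L).map (χ.s ≫ φ.f) = (P.ι ⋙ Over.post L).map (χ.f ≫ ψ.f) :=
      (cancel_epi (e.hom.app _)).1 ((e.hom.naturality _).symm.trans ((congrArg (· ≫ e.hom.app Z) h1).trans (e.hom.naturality _)))
    obtain ⟨V, t, ht, h3⟩ := (MorphismProperty.map_eq_iff_precomp L ModPair.Pair.admBlowup _ _).1 (congrArg CommaMorphism.left h2)
    let V' : P.FullSubcategory := ⟨Over.mk (t ≫ χ.X'.obj.hom), hP χ.X' t ht⟩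
    have h4 : L'.map (χ.s ≫ φ.f) = L'.map (χ.f ≫ ψ.f) :=
      (MorphismProperty.map_eq_iff_precomp L' WS _ _).2
        ⟨V', ObjectProperty.homMk (X := V') (Over.homMk t rfl), ht, ObjectProperty.hom_ext P (Over.OverMorphism.ext h3)⟩
    haveI := Localization.inverts L' WS (χ.s ≫ φ.s) (WS.comp_mem _ _ χ.hs φ.hs)
    rw [← cancel_epi (L'.map (χ.s ≫ φ.s)), ha, hb, h4]
  have hfull : ∀ {Y Z : P.FullSubcategory} (g : (P.ι ⋙ Over.post L).obj Y ⟶ (P.ι ⋙ Over.post L).obj Z),
      ∃ α : L'.obj Y ⟶ L'.obj Z, Φ.map α = e.hom.app Y ≫ g ≫ e.inv.app Z := by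
    intro Y Z g
    obtain ⟨φ, hφ⟩ := Localization.exists_rightFraction L ModPair.Pair.admBlowup g.left
    have h1 : L.map (φ.f ≫ Z.obj.hom) = L.map (φ.s ≫ Y.obj.hom) := by
      have h0 : g.left ≫ L.map Z.obj.hom = L.map Y.obj.hom := Over.w g
      have h0' : L.map φ.s ≫ g.left = L.map φ.f := (congrArg (L.map φ.s ≫ ·) hφ).trans (φ.map_s_comp_map L _)
      rw [Functor.map_comp, Functor.map_comp]
      exact (congrArg (· ≫ L.map Z.obj.hom) h0'.symm).trans ((Category.assoc _ _ _).trans (congrArg (L.map φ.s ≫ ·) h0))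
    obtain ⟨A', t, ht, h2⟩ := (MorphismProperty.map_eq_iff_precomp L ModPair.Pair.admBlowup _ _).1 h1
    have hts : ModPair.Pair.admBlowup (t ≫ φ.s) := hrc.comp_mem _ _ ht φ.hs
    let X' : P.FullSubcategory := ⟨Over.mk ((t ≫ φ.s) ≫ Y.obj.hom), hP Y _ hts⟩
    let sa : X' ⟶ Y := ObjectProperty.homMk (Over.homMk (t ≫ φ.s) rfl)
    let fb : X' ⟶ Z := ObjectProperty.homMk (Over.homMk (t ≫ φ.f) (by simpa [X'] using h2))
    haveI := Localization.inverts L' WS sa hts
    refine ⟨inv (L'.map sa) ≫ L'.map fb, ?_⟩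
    rw [Functor.map_comp, Functor.map_inv, IsIso.inv_comp_eq]
    have hn1 := e.hom.naturality sa
    have hn2 := e.hom.naturality fb
    have hg : (P.ι ⋙ Over.post L).map sa ≫ g = (P.ι ⋙ Over.post L).map fb := Over.OverMorphism.ext (by
      show L.map (t ≫ φ.s) ≫ g.left = L.map (t ≫ φ.f)
      rw [hφ, Functor.map_comp, Functor.map_comp]
      exact (Category.assoc _ _ _).trans (congrArg (L.map t ≫ ·) (φ.map_s_comp_map L _)))
    dsimp only [Functor.comp_map] at hn1 hn2 hg
    rw [← Category.assoc, hn1, Category.assoc, ← Category.assoc ((Over.post L).map (P.ι.map sa)), hg,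
      ← Category.assoc, ← hn2, Category.assoc, Iso.hom_inv_id_app, Category.comp_id]
  refine ⟨⟨fun {A B} g => ?_⟩, ⟨fun {A B} {α β} h => ?_⟩⟩
  · let i := L'.objObjPreimageIso A
    let j := L'.objObjPreimageIso B
    obtain ⟨α, hα⟩ := hfull (e.inv.app _ ≫ Φ.map i.hom ≫ g ≫ Φ.map j.inv ≫ e.hom.app _)
    refine ⟨i.inv ≫ α ≫ j.hom, ?_⟩
    rw [Functor.map_comp, Functor.map_comp, hα]
    simp [← Functor.map_comp, ← Functor.map_comp_assoc, i, j]
  · let i := L'.objObjPreimageIso A
    let j := L'.objObjPreimageIso B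
    rw [← cancel_epi i.hom, ← cancel_mono j.inv]
    exact hfaith _ _ (by rw [Functor.map_comp, Functor.map_comp, Functor.map_comp, Functor.map_comp, h])

end Groth.Agent.S18758
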