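import Groth.Statements.S1876
import Mathlib.Algebra.Homology.DerivedCategory.KProjective
import Mathlib.LinearAlgebra.Trace
import Mathlib.Algebra.Category.ModuleCat.Projective

set_option autoImplicit false
universe u
open CategoryTheory
attribute [local instance] HasDerivedCategory.standard
open Trace

namespace Groth.Agent.S1876

open CategoryTheory in
/-- The alternating trace of an endomorphism. -/
noncomputable def altTr (Λ : Type u) [CommRing Λ] (P : DRing.Cx Λ) (a b : ℤ) (f : P ⟶ P) : Λ :=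
  ∑ i ∈ Finset.Icc a b, ((i.negOnePow : ℤˣ) : ℤ) • LinearMap.trace Λ (P.X i) (f.f i).hom

theorem telescope {Λ : Type u} [CommRing Λ] (T : ℤ → Λ) (a : ℤ) :
    ∀ n : ℕ, ∑ i ∈ Finset.Icc a (a + n), ((i.negOnePow : ℤˣ) : ℤ) • (T i + T (i + 1)) =
      ((a.negOnePow : ℤˣ) : ℤ) • T a + (((a + n).negOnePow : ℤˣ) : ℤ) • T (a + n + 1) := by
  intro n
  induction n with
  | zero => simp [smul_add]
  | succ n ih =>
    rw [show (a + ((n + 1 : ℕ) : ℤ)) = a + n + 1 by push_cast; ring,
      show Finset.Icc a (a + (n : ℤ) + 1) = insert (a + (n : ℤ) + 1) (Finset.Icc a (a + (n : ℤ))) by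
        ext; simp; omega,
      Finset.sum_insert (by simp), ih, Int.negOnePow_succ, Units.val_neg, neg_smul, neg_smul]
    rw [smul_add]
    abel

open CategoryTheory in
theorem altTr_eq_of_homotopy {Λ : Type u} [CommRing Λ] {P : DRing.Cx Λ} {a b : ℤ}
    (hP : DRing.VanishesOutside P a b) (hPf : DRing.TermwiseFiniteFree P) {f f' : P ⟶ P}
    (h : Homotopy f f') : altTr Λ P a b f = altTr Λ P a b f' := by
  let T : ℤ → Λ := fun i => LinearMap.trace Λ (P.X i) (h.hom i (i - 1) ≫ P.d (i - 1) i).hom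
  have key : ∀ i, LinearMap.trace Λ (P.X i) (f.f i).hom =
      LinearMap.trace Λ (P.X i) (f'.f i).hom + (T i + T (i + 1)) := by
    intro i
    have hc := h.comm i
    rw [dNext_eq _ (show (ComplexShape.up ℤ).Rel i (i + 1) by simp),
      prevD_eq _ (show (ComplexShape.up ℤ).Rel (i - 1) i by simp)] at hc
    have := (hPf i).1; have := (hPf i).2
    have := (hPf (i + 1)).1; have := (hPf (i + 1)).2
    have hcyc : LinearMap.trace Λ (P.X i) (P.d i (i + 1) ≫ h.hom (i + 1) i).hom = T (i + 1) := by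
      simp only [T]
      rw [ModuleCat.hom_comp, LinearMap.trace_comp_comm', ← ModuleCat.hom_comp]
      have hk : ∀ k, k = i + 1 - 1 → LinearMap.trace Λ (P.X (i + 1))
          (h.hom (i + 1) k ≫ P.d k (i + 1)).hom = LinearMap.trace Λ (P.X (i + 1))
          (h.hom (i + 1) (i + 1 - 1) ≫ P.d (i + 1 - 1) (i + 1)).hom := by
        rintro k rfl; rfl
      exact hk i (by ring)
    rw [hc, ModuleCat.hom_add, ModuleCat.hom_add, map_add, map_add, hcyc]
    ring
  rcases lt_or_ge b a with hab | hab
  · simp [altTr, Finset.Icc_eq_empty (not_le.2 hab)]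
  obtain ⟨n, rfl⟩ : ∃ n : ℕ, b = a + n := ⟨(b - a).toNat, by omega⟩
  have hT0 : T a = 0 := by
    have : h.hom a (a - 1) = 0 := (hP (a - 1) (Or.inl (by omega))).eq_of_tgt _ _
    simp [T, this]
  have hT1 : T (a + n + 1) = 0 := by
    have : h.hom (a + n + 1) (a + n + 1 - 1) = 0 :=
      (hP (a + n + 1) (Or.inr (by omega))).eq_of_src _ _
    simp [T, this]
  simp only [altTr]
  rw [Finset.sum_congr rfl fun i _ => by rw [key i, smul_add], Finset.sum_add_distrib,
    telescope T a n, hT0, hT1, smul_zero, smul_zero, add_zero, add_zero]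

open CategoryTheory in
theorem altTr_comp_comm {Λ : Type u} [CommRing Λ] {P Q : DRing.Cx Λ} {a b : ℤ}
    (hPf : DRing.TermwiseFiniteFree P) (hQf : DRing.TermwiseFiniteFree Q) (u : P ⟶ Q) (v : Q ⟶ P) :
    altTr Λ P a b (u ≫ v) = altTr Λ Q a b (v ≫ u) := by
  refine Finset.sum_congr rfl fun i _ => ?_
  have := (hPf i).1; have := (hPf i).2; have := (hQf i).1; have := (hQf i).2
  rw [HomologicalComplex.comp_f, HomologicalComplex.comp_f, ModuleCat.hom_comp, ModuleCat.hom_comp,
    LinearMap.trace_comp_comm']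

open CategoryTheory in
theorem isKProjective_of_free {Λ : Type u} [CommRing Λ] {P : DRing.Cx Λ} {a b : ℤ}
    (hP : DRing.VanishesOutside P a b) (hPf : DRing.TermwiseFiniteFree P) : P.IsKProjective := by
  have : P.IsStrictlyLE b := (CochainComplex.isStrictlyLE_iff P b).2 fun i hi => hP i (Or.inr hi)
  have : ∀ n, Projective (P.X n) := fun n => by
    have := (hPf n).2
    exact (IsProjective.iff_projective (P.X n)).1 inferInstance
  exact CochainComplex.isKProjective_of_projective P b


/-- Commutative coefficient ring, finite free terms: let P and Q be bounded complexes of finite free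
Λ-modules with chain endomorphisms f and g, and α : P ≅ Q an isomorphism in the derived category
D(Λ) with α ∘ f = g ∘ α there. Then Σ_i (−1)^i Tr(f^i | P^i) = Σ_i (−1)^i Tr(g^i | Q^i); that is,
the trace of an endomorphism of a perfect object of D(Λ) is well defined. -/
theorem result (Λ : Type u) [CommRing Λ] (P Q : DRing.Cx Λ) (a b : ℤ) (hP : DRing.VanishesOutside P a b) (hQ : DRing.VanishesOutside Q a b) (hPf : DRing.TermwiseFiniteFree P) (hQf : DRing.TermwiseFiniteFree Q) (f : P ⟶ P) (g : Q ⟶ Q) (α : DRing.toD P ≅ DRing.toD Q) (h : α.hom ≫ DerivedCategory.Q.map g = DerivedCategory.Q.map f ≫ α.hom) : ∑ i ∈ Finset.Icc a b, ((i.negOnePow : ℤˣ) : ℤ) • LinearMap.trace Λ (P.X i) (f.f i).hom = ∑ i ∈ Finset.Icc a b, ((i.negOnePow : ℤˣ) : ℤ) • LinearMap.trace Λ (Q.X i) (g.f i).hom := by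
  have hPK := isKProjective_of_free hP hPf
  have hQK := isKProjective_of_free hQ hQf
  let C := ModuleCat.{u} Λ
  let qu := HomotopyCategory.quotient C (ComplexShape.up ℤ)
  have lift : ∀ {X Y : DRing.Cx Λ} [X.IsKProjective] (φ : DRing.toD X ⟶ DRing.toD Y),
      ∃ u : X ⟶ Y, DerivedCategory.Q.map u = φ := by
    intro X Y _ φ
    obtain ⟨w, hw⟩ := (CochainComplex.IsKProjective.Qh_map_bijective X (qu.obj Y)).2
      ((DerivedCategory.quotientCompQhIso C).hom.app X ≫ φ ≫
        (DerivedCategory.quotientCompQhIso C).inv.app Y)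
    obtain ⟨u, rfl⟩ := qu.map_surjective w
    refine ⟨u, ?_⟩
    have := (DerivedCategory.quotientCompQhIso C).hom.naturality u
    have h3 : DerivedCategory.Qh.map (qu.map u) ≫ (DerivedCategory.quotientCompQhIso C).hom.app Y
        = (DerivedCategory.quotientCompQhIso C).hom.app X ≫ φ := by
      rw [hw, Category.assoc, Category.assoc, Iso.inv_hom_id_app, Category.comp_id]
    exact (cancel_epi ((DerivedCategory.quotientCompQhIso C).hom.app X)).1 (this.symm.trans h3)
  have htpy : ∀ {X Y : DRing.Cx Λ} [X.IsKProjective] (u u' : X ⟶ Y),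
      DerivedCategory.Q.map u = DerivedCategory.Q.map u' → Nonempty (Homotopy u u') := by
    intro X Y _ u u' h
    refine ⟨HomotopyCategory.homotopyOfEq _ _ ?_⟩
    apply (CochainComplex.IsKProjective.Qh_map_bijective X (qu.obj Y)).1
    have h1 := (DerivedCategory.quotientCompQhIso C).hom.naturality u
    have h2 := (DerivedCategory.quotientCompQhIso C).hom.naturality u'
    rw [h] at h1
    exact (cancel_mono ((DerivedCategory.quotientCompQhIso C).hom.app Y)).1 (h1.trans h2.symm)
  obtain ⟨u, hu⟩ := lift α.hom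
  obtain ⟨v, hv⟩ := lift α.inv
  obtain ⟨h1⟩ := htpy (f ≫ u ≫ v) f (by
    rw [Functor.map_comp, Functor.map_comp, hu, hv, Iso.hom_inv_id, Category.comp_id])
  obtain ⟨h2⟩ := htpy (v ≫ f ≫ u) g (by
    rw [Functor.map_comp, Functor.map_comp, hu, hv, ← h, Iso.inv_hom_id_assoc])
  show altTr Λ P a b f = altTr Λ Q a b g
  rw [← altTr_eq_of_homotopy hP hPf h1, ← altTr_eq_of_homotopy hQ hQf h2, ← Category.assoc,
    altTr_comp_comm hPf hQf (f ≫ u) v]

end Groth.Agent.S1876
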