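import Groth.Statements.S18764
import Groth.Agent.L19.Nori.FibreProd

set_option autoImplicit false
set_option backward.isDefEq.respectTransparency.types false
set_option backward.isDefEq.respectTransparency false
set_option linter.style.haveILetI false
universe u
open CategoryTheory CategoryTheory.Limits MonoidalCategory CartesianMonoidalCategory MonObj GrpObj AlgebraicGeometry
open NonAbH1

namespace Groth.Agent.S18764

/-- Let k be a field and X a quasi-compact k-scheme, connected and reduced, having a k-point x; let G,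
G₁, G₂ be finite group schemes over k with homomorphisms φ₁ : G₁ → G and φ₂ : G₂ → G, and let T, T₁,
T₂ be torsors over X (fppf-locally trivial) under the base changes to X of G, G₁, G₂ respectively,
each pointed by a k-point lying over x. Let f₁ : T₁ → T and f₂ : T₂ → T be morphisms of pointed
torsors: X-morphisms which intertwine the actions along φ₁, φ₂ and send the marked points of T₁, T₂
to that of T. Let P be the fibre product group scheme G₁ ×_G G₂ with its projections π₁, π₂. Then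
the fibre product T₁ ×_T T₂ carries an action of the base change of P for which both projections to
T₁ and T₂ are equivariant (along π₁, π₂) and which makes it a torsor over X (fppf-locally trivial).
(The published statement says that such an X has a fundamental group scheme; this row states the
closure of finite pointed torsors under fibre products to which it is reduced.) -/
theorem result
    (k : Type u) [Field k] (X : Scheme.{u}) [X.Over (Spec (CommRingCat.of k))] [ConnectedSpace X]
    [CompactSpace X] [AlgebraicGeometry.IsReduced X]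
    (x : Spec (CommRingCat.of k) ⟶ X) (hx : x ≫ (X ↘ Spec (CommRingCat.of k)) = 𝟙 _)
    (G G₁ G₂ : Over (Spec (CommRingCat.of k))) [GrpObj G] [GrpObj G₁] [GrpObj G₂]
    [IsFinite G.hom] [IsFinite G₁.hom] [IsFinite G₂.hom]
    (φ₁ : G₁ ⟶ G) (φ₂ : G₂ ⟶ G) [IsMonHom φ₁] [IsMonHom φ₂]
    (T T₁ T₂ : Over X)
    (a : AlgGrp.Action (Red.bc (X ↘ Spec (CommRingCat.of k)) G) T)
    (a₁ : AlgGrp.Action (Red.bc (X ↘ Spec (CommRingCat.of k)) G₁) T₁)
    (a₂ : AlgGrp.Action (Red.bc (X ↘ Spec (CommRingCat.of k)) G₂) T₂)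
    (hT : NonAbH1.IsTorsorFor Scheme.fppfPrecoverage a)
    (hT₁ : NonAbH1.IsTorsorFor Scheme.fppfPrecoverage a₁)
    (hT₂ : NonAbH1.IsTorsorFor Scheme.fppfPrecoverage a₂)
    (t : Spec (CommRingCat.of k) ⟶ T.left) (t₁ : Spec (CommRingCat.of k) ⟶ T₁.left)
    (t₂ : Spec (CommRingCat.of k) ⟶ T₂.left)
    (ht : t ≫ T.hom = x) (ht₁ : t₁ ≫ T₁.hom = x) (ht₂ : t₂ ≫ T₂.hom = x)
    (f₁ : T₁ ⟶ T) (f₂ : T₂ ⟶ T)
    (hf₁ : AlgGrp.Action.IsEquivariant a₁ (a.restrict ((Over.pullback (X ↘ Spec (CommRingCat.of k))).map φ₁)) f₁)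
    (hf₂ : AlgGrp.Action.IsEquivariant a₂ (a.restrict ((Over.pullback (X ↘ Spec (CommRingCat.of k))).map φ₂)) f₂)
    (hft₁ : t₁ ≫ f₁.left = t) (hft₂ : t₂ ≫ f₂.left = t)
    (P : Over (Spec (CommRingCat.of k))) [GrpObj P] (π₁ : P ⟶ G₁) (π₂ : P ⟶ G₂) [IsMonHom π₁] [IsMonHom π₂]
    (hP : IsPullback π₁ π₂ φ₁ φ₂) :
    ∃ c : AlgGrp.Action (Red.bc (X ↘ Spec (CommRingCat.of k)) P) (pullback f₁ f₂),
      AlgGrp.Action.IsEquivariant c (a₁.restrict ((Over.pullback (X ↘ Spec (CommRingCat.of k))).map π₁)) (pullback.fst f₁ f₂) ∧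
      AlgGrp.Action.IsEquivariant c (a₂.restrict ((Over.pullback (X ↘ Spec (CommRingCat.of k))).map π₂)) (pullback.snd f₁ f₂) ∧
      NonAbH1.IsTorsorFor Scheme.fppfPrecoverage c := by
  have F : ∀ {H : Over (Spec (CommRingCat.of k))} [GrpObj H] {Y : Over X}
      {c : AlgGrp.Action (Red.bc (X ↘ Spec (CommRingCat.of k)) H) Y},
      NonAbH1.IsTorsorFor Scheme.fppfPrecoverage c → NonAbH1.IsTorsorFor Scheme.fpqcPrecoverage c := by
    intro H _ Y c h
    obtain ⟨R, hR, hs⟩ := h.2
    exact ⟨h.1, R, Scheme.fppfPrecoverage_le_fpqcPrecoverage X hR, hs⟩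
  exact Groth.L19.Nori.exists_fibreProd_torsor hx (F hT) (F hT₁) (F hT₂) ht₁ ht₂ f₁ f₂ hf₁ hf₂ hft₁ hft₂ hP

end Groth.Agent.S18764
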