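import Groth.Statements.S18765
import Groth.Agent.L21.Bundle.Results
import Groth.Agent.L21.Lift.Through
import Groth.Agent.L02.Quot.RankLocus
import Groth.Agent.L15.FittSheaf
import Groth.Agent.L22.Chern.Compat
import Groth.Agent.L07.FittStrict
import Groth.Agent.L14.Quot.Pull
import Groth.Agent.L13.Fitting.Minors
import Groth.Agent.L16.NegPow.Gen

set_option autoImplicit false
set_option backward.isDefEq.respectTransparency false
set_option linter.style.haveILetI false
universe u
open CategoryTheory CategoryTheory.Limits AlgebraicGeometry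
open VBCurve

namespace Groth.Agent.S18765

open TopologicalSpace

section

variable {k : Type u} [Field k] {X : Scheme.{u}} [X.Over (Spec (CommRingCat.of k))]
  [LocallyOfFiniteType (X ↘ Spec (CommRingCat.of k))]

/-- Along a non-constant curve each degeneracy locus of the cokernel is all or nothing. -/
theorem allOrNone {r r' : ℕ} (hr : 0 < r) (hr' : 0 < r') {E F : X.Modules}
    (hE : FlatMod.IsFinLocFreeOfRank r E) (hF : FlatMod.IsFinLocFreeOfRank r' F) (f : E ⟶ F)
    (C : Scheme.{u}) [C.Over (Spec (CommRingCat.of k))] [AlgebraicGeometry.IsIntegral C]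
    [IsProper (C ↘ Spec (CommRingCat.of k))] [Smooth (C ↘ Spec (CommRingCat.of k))]
    (hd : topologicalKrullDim C = 1) (γ : C ⟶ X)
    (hEs : ModFun.IsSlopeSemistable k C ((Scheme.Modules.pullback γ).obj E) r ∧
        Curv2.deg k C ((Scheme.Modules.pullback γ).obj E) r = 0)
    (hFs : ModFun.IsSlopeSemistable k C ((Scheme.Modules.pullback γ).obj F) r' ∧
        Curv2.deg k C ((Scheme.Modules.pullback γ).obj F) r' = 0) (n : ℕ) (c c' : C) :
    γ c ∈ (Fitt.sheafIdeal (cokernel f) n).support → γ c' ∈ (Fitt.sheafIdeal (cokernel f) n).support := by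
  haveI := LocallyOfFiniteType.isLocallyNoetherian (X ↘ Spec (CommRingCat.of k))
  haveI := LocallyOfFiniteType.isLocallyNoetherian (C ↘ Spec (CommRingCat.of k))
  have hM : Coh.IsCoh (cokernel f) :=
    (Groth.L16.CohKernel.isCoh_kernel_cokernel (Groth.L16.NegPow.isCoh_of_isFinLocFree (Groth.L22.CurveDeg.isFinLocFree_of_rank hE)) (Groth.L16.NegPow.isCoh_of_isFinLocFree (Groth.L22.CurveDeg.isFinLocFree_of_rank hF)) f).2
  have hE' := Groth.L22.Chern.rank_pullback γ hE
  have hF' := Groth.L22.Chern.rank_pullback γ hF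
  obtain ⟨-, s₀, hs₀, -, -⟩ := Groth.L21.Bundle.kernel_cokernel_ss k
    (Groth.L21.Smooth.regular_stalk (C ↘ Spec (CommRingCat.of k))) hd.le hr hr' hE' hF' hEs.1 hFs.1
    (by rw [hEs.2, hFs.2, zero_mul, zero_mul]) ((Scheme.Modules.pullback γ).map f)
  let e : (Scheme.Modules.pullback γ).obj (cokernel f) ≅ cokernel ((Scheme.Modules.pullback γ).map f) :=
    PreservesCokernel.iso (Scheme.Modules.pullback γ) f
  have hC : Coh.IsCoh (cokernel ((Scheme.Modules.pullback γ).map f)) :=
    (Groth.L16.CohKernel.isCoh_kernel_cokernel (Groth.L21.Bundle.isCoh_of_rank hE') (Groth.L21.Bundle.isCoh_of_rank hF') _).2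
  have hgM : Coh.IsCoh ((Scheme.Modules.pullback γ).obj (cokernel f)) :=
    Groth.L14.Quot.isCoh_of_iso e.symm hC
  obtain ⟨h0, h1⟩ := (Groth.L02.Quot.isFinLocFreeOfRank_iff_fitt _ hC s₀).1 hs₀
  have hsupp : ∀ (m : ℕ) (t : C), γ t ∈ (Fitt.sheafIdeal (cokernel f) m).support ↔
      t ∈ (Fitt.sheafIdeal (cokernel ((Scheme.Modules.pullback γ).map f)) m).support := fun m t => by
    rw [← Groth.L07.FittStrict.sheafIdeal_congr e m, Groth.L02.Quot.sheafIdeal_pullback γ _ hM hgM,
      Scheme.IdealSheafData.support_comap]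
    rfl
  rw [hsupp, hsupp]
  intro hc
  by_cases hn : n < s₀
  · rw [h0 n hn, Scheme.IdealSheafData.support_bot]
    trivial
  · exfalso
    obtain ⟨_, ⟨U, hU, rfl⟩, hcU, -⟩ := C.isBasis_affineOpens.exists_subset_of_mem_open (Set.mem_univ c) isOpen_univ
    haveI := hC.1
    haveI := Groth.L20.ModStalk.finite_sections _ hC hU
    exact (Groth.L15.FittSheaf.notMem_support_iff _ hC.2 n (U := ⟨U, hU⟩) hcU).2
      (fun hle => (Groth.L15.FittSheaf.notMem_support_iff _ hC.2 s₀ (U := ⟨U, hU⟩) hcU).1 (h1 c)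
        ((Groth.L13.Fitting.ideal_mono (not_lt.1 hn)).trans hle)) hc

end


/-- Let k be a perfect field and X a finite-type k-scheme, connected and reduced, having a k-point,
which is connected by chains of proper curves: for any two closed points of X there are finitely
many k-morphisms γ_i : C_i → X from smooth, proper, integral curves over k whose images have
connected union containing both points. Let E and F be finite locally free O_X-modules, of ranks r
and r', which are Nori-semistable: the pull-back along every non-constant k-morphism from a smooth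
proper integral curve over k is slope-semistable of degree 0 (degree = χ − rank·χ(O)). Then every
O_X-linear map f : E → F is a morphism of vector bundles, i.e. has constant rank: its cokernel is a
finite locally free O_X-module. (The published definition of connectedness by chains of proper
curves joins any two points by a chain; this row asks it for closed points. Curves of the chains are
taken smooth, which over a perfect field is the same as allowing proper irreducible curves and
passing to normalisations; the further assertion that these bundles form a neutral Tannakian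
category is not included.) -/
theorem result
    (k : Type u) [Field k] [PerfectField k] (X : Scheme.{u}) [X.Over (Spec (CommRingCat.of k))]
    [LocallyOfFiniteType (X ↘ Spec (CommRingCat.of k))] [CompactSpace X]
    [AlgebraicGeometry.IsReduced X] [ConnectedSpace X]
    (x : Spec (CommRingCat.of k) ⟶ X) (hx : x ≫ (X ↘ Spec (CommRingCat.of k)) = 𝟙 _)
    (hchain : ∀ y z : X, IsClosed ({y} : Set X) → IsClosed ({z} : Set X) → ∃ (n : ℕ) (C : Fin n → Scheme.{u}) (γ : ∀ i, C i ⟶ X),
      (∀ i, AlgebraicGeometry.IsIntegral (C i) ∧ IsProper (γ i ≫ (X ↘ Spec (CommRingCat.of k))) ∧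
        Smooth (γ i ≫ (X ↘ Spec (CommRingCat.of k))) ∧ topologicalKrullDim (C i) = 1) ∧
      _root_.IsConnected (⋃ i, Set.range (γ i).base) ∧ y ∈ ⋃ i, Set.range (γ i).base ∧ z ∈ ⋃ i, Set.range (γ i).base)
    (r r' : ℕ) (E F : X.Modules) (hE : FlatMod.IsFinLocFreeOfRank r E) (hF : FlatMod.IsFinLocFreeOfRank r' F)
    (hEss : ∀ (C : Scheme.{u}) [C.Over (Spec (CommRingCat.of k))], AlgebraicGeometry.IsIntegral C →
      IsProper (C ↘ Spec (CommRingCat.of k)) → Smooth (C ↘ Spec (CommRingCat.of k)) → topologicalKrullDim C = 1 →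
      ∀ (γ : C ⟶ X), γ ≫ (X ↘ Spec (CommRingCat.of k)) = C ↘ Spec (CommRingCat.of k) →
      (Set.range γ.base).Nontrivial →
      ModFun.IsSlopeSemistable k C ((Scheme.Modules.pullback γ).obj E) r ∧
        Curv2.deg k C ((Scheme.Modules.pullback γ).obj E) r = 0)
    (hFss : ∀ (C : Scheme.{u}) [C.Over (Spec (CommRingCat.of k))], AlgebraicGeometry.IsIntegral C →
      IsProper (C ↘ Spec (CommRingCat.of k)) → Smooth (C ↘ Spec (CommRingCat.of k)) → topologicalKrullDim C = 1 →
      ∀ (γ : C ⟶ X), γ ≫ (X ↘ Spec (CommRingCat.of k)) = C ↘ Spec (CommRingCat.of k) →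
      (Set.range γ.base).Nontrivial →
      ModFun.IsSlopeSemistable k C ((Scheme.Modules.pullback γ).obj F) r' ∧
        Curv2.deg k C ((Scheme.Modules.pullback γ).obj F) r' = 0)
    (f : E ⟶ F) :
    FlatMod.IsFinLocFree (cokernel f) := by
  haveI := LocallyOfFiniteType.isLocallyNoetherian (X ↘ Spec (CommRingCat.of k))
  haveI : JacobsonSpace X := LocallyOfFiniteType.jacobsonSpace (X ↘ Spec (CommRingCat.of k))
  have hcE := Groth.L16.NegPow.isCoh_of_isFinLocFree (Groth.L22.CurveDeg.isFinLocFree_of_rank hE)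
  have hcF := Groth.L16.NegPow.isCoh_of_isFinLocFree (Groth.L22.CurveDeg.isFinLocFree_of_rank hF)
  have hM : Coh.IsCoh (cokernel f) := (Groth.L16.CohKernel.isCoh_kernel_cokernel hcE hcF f).2
  by_cases hf : f = 0
  · exact Groth.L29.LocFree.of_iso (cokernelIsoOfEq hf ≪≫ cokernelZeroIsoTarget).symm
      (Groth.L22.CurveDeg.isFinLocFree_of_rank hF)
  have hr : 0 < r := Nat.pos_of_ne_zero fun h => hf
    ((Groth.L21.Bundle.isZero_of_rank_zero (h ▸ hE)).eq_of_src _ _)
  have hr' : 0 < r' := Nat.pos_of_ne_zero fun h => hf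
    ((Groth.L21.Bundle.isZero_of_rank_zero (h ▸ hF)).eq_of_tgt _ _)
  let Z : ℕ → Set X := fun n => (Fitt.sheafIdeal (cokernel f) n).support
  -- invariance along one member of a chain and the specializations of its generic point
  have hinv : ∀ (C : Scheme.{u}) [AlgebraicGeometry.IsIntegral C] (γ : C ⟶ X) (hC : IsProper (γ ≫ (X ↘ Spec (CommRingCat.of k))) ∧
      Smooth (γ ≫ (X ↘ Spec (CommRingCat.of k))) ∧ topologicalKrullDim C = 1) (n : ℕ) (y : X),
      γ (genericPoint C) ⤳ y → γ (genericPoint C) ∉ Z n → y ∉ Z n := by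
    rintro C _ γ ⟨_, _, hd⟩ n y hsp hη
    letI : C.Over (Spec (CommRingCat.of k)) := ⟨γ ≫ (X ↘ Spec (CommRingCat.of k))⟩
    haveI : IsProper (C ↘ Spec (CommRingCat.of k)) := ‹_›
    haveI : Smooth (C ↘ Spec (CommRingCat.of k)) := ‹_›
    haveI := LocallyOfFiniteType.isLocallyNoetherian (C ↘ Spec (CommRingCat.of k))
    haveI : CompactSpace C := QuasiCompact.compactSpace_of_compactSpace (C ↘ Spec (CommRingCat.of k))
    haveI : IsNoetherian C := {}
    obtain ⟨γ', hγ', hη', c, hc⟩ := Groth.L21.Lift.exists_through (X ↘ Spec (CommRingCat.of k))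
      (C ↘ Spec (CommRingCat.of k)) hd
      (fun x => ⟨Groth.L21.Smooth.isDomain_stalk (C ↘ Spec (CommRingCat.of k)) x,
        Groth.L21.Smooth.isIntegrallyClosed_stalk (C ↘ Spec (CommRingCat.of k)) x⟩) γ rfl hsp
    rw [← hc]
    intro hcZ
    apply hη
    rw [← hη']
    by_cases hnt : (Set.range γ'.base).Nontrivial
    · exact allOrNone hr hr' hE hF f C hd γ' (hEss C ‹_› ‹_› ‹_› hd γ' hγ' hnt) (hFss C ‹_› ‹_› ‹_› hd γ' hγ' hnt)
        n c _ hcZ
    · rwa [Set.not_nontrivial_iff.1 hnt ⟨_, rfl⟩ ⟨c, rfl⟩]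
  have hall : ∀ (n : ℕ) (y z : X), IsClosed ({y} : Set X) → IsClosed ({z} : Set X) → y ∈ Z n → z ∈ Z n := by
    intro n y z hy hz hyn
    obtain ⟨m, C, γ, hC, hconn, hyU, hzU⟩ := hchain y z hy hz
    haveI : ∀ i, AlgebraicGeometry.IsIntegral (C i) := fun i => (hC i).1
    let η : Fin m → X := fun i => γ i (genericPoint (C i))
    let A : Set X := ⋃ i ∈ {i | η i ∈ Z n}, closure {η i}
    let B : Set X := ⋃ i ∈ {i | η i ∉ Z n}, closure {η i}
    have hA : IsClosed A := (Set.toFinite _).isClosed_biUnion fun _ _ => isClosed_closure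
    have hB : IsClosed B := (Set.toFinite _).isClosed_biUnion fun _ _ => isClosed_closure
    have hZ : IsClosed (Z n) := (Fitt.sheafIdeal (cokernel f) n).support.isClosed
    have hAZ : A ⊆ Z n := Set.iUnion₂_subset fun i hi => closure_minimal (Set.singleton_subset_iff.2 hi) hZ
    have hBZ : Disjoint B (Z n) := by
      rw [Set.disjoint_left]
      intro w hw
      obtain ⟨i, hi, hwi⟩ := Set.mem_iUnion₂.1 hw
      exact hinv (C i) (γ i) (hC i).2 n w (specializes_iff_mem_closure.2 hwi) hi
    have hcover : (⋃ i, Set.range (γ i).base) ⊆ A ∪ B := by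
      rintro _ ⟨_, ⟨i, rfl⟩, t, rfl⟩
      have ht : γ i t ∈ closure ({η i} : Set X) :=
        specializes_iff_mem_closure.1 ((genericPoint_specializes t).map (γ i).continuous)
      by_cases hi : η i ∈ Z n
      · exact Or.inl (Set.mem_iUnion₂.2 ⟨i, hi, ht⟩)
      · exact Or.inr (Set.mem_iUnion₂.2 ⟨i, hi, ht⟩)
    by_contra hzn
    obtain ⟨w, -, hwA, hwB⟩ := isPreconnected_closed_iff.1 hconn.isPreconnected A B hA hB hcover
      ⟨y, hyU, (hcover hyU).resolve_right fun h => Set.disjoint_left.1 hBZ h hyn⟩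
      ⟨z, hzU, (hcover hzU).resolve_left fun h => hzn (hAZ h)⟩
    exact Set.disjoint_left.1 hBZ hwB (hAZ hwA)
  obtain ⟨x₀, hx₀⟩ : ∃ x₀ : X, IsClosed ({x₀} : Set X) := by
    obtain ⟨x₀, -, h⟩ := nonempty_inter_closedPoints (Set.univ_nonempty (α := X)) isOpen_univ.isLocallyClosed
    exact ⟨x₀, h⟩
  classical
  have hex : ∃ d, x₀ ∉ Z d := by
    obtain ⟨_, ⟨U, hU, rfl⟩, hxU, -⟩ := X.isBasis_affineOpens.exists_subset_of_mem_open (Set.mem_univ x₀) isOpen_univ
    haveI := hM.1
    haveI := Groth.L20.ModStalk.finite_sections _ hM hU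
    obtain ⟨N, g, hg⟩ := Module.Finite.exists_fin (R := Γ(X, U)) (M := Γ(cokernel f, U))
    refine ⟨N, (Groth.L15.FittSheaf.notMem_support_iff _ hM.2 N (U := ⟨U, hU⟩) hxU).2 fun h => ?_⟩
    refine (hU.primeIdealOf ⟨x₀, hxU⟩).2.ne_top (top_le_iff.1 (le_trans ?_ h))
    intro a _
    rw [← mul_one a]
    exact Ideal.mul_mem_left _ a (Ideal.subset_span ⟨N, g, 1, hg, fun i hi => by simp at hi, by simp⟩)
  suffices h : FlatMod.IsFinLocFreeOfRank (Nat.find hex) (cokernel f) from
    Groth.L22.CurveDeg.isFinLocFree_of_rank h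
  refine (Groth.L02.Quot.isFinLocFreeOfRank_iff_fitt _ hM _).2 ⟨fun n hn => ?_, fun x hx => ?_⟩
  · refine Scheme.IdealSheafData.support_eq_top_iff.1 (SetLike.coe_injective (Set.eq_univ_of_forall fun x => ?_))
    have h0 : x₀ ∈ Z n := not_not.1 (Nat.find_min hex hn)
    by_contra hx
    obtain ⟨p, hp, hpc⟩ := nonempty_inter_closedPoints (Z := (Z n)ᶜ) ⟨x, hx⟩
      (Fitt.sheafIdeal (cokernel f) n).support.isClosed.isOpen_compl.isLocallyClosed
    exact hp (hall n x₀ p hx₀ hpc h0)
  · obtain ⟨p, hp, hpc⟩ := nonempty_inter_closedPoints ⟨x, hx⟩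
      (Fitt.sheafIdeal (cokernel f) _).support.isClosed.isLocallyClosed
    exact Nat.find_spec hex (hall _ p x₀ hpc hx₀ hp)

end Groth.Agent.S18765
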