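import Groth.Statements.S18771
import Groth.Agent.L21.TFNodal.NodeHull
import Groth.Agent.L21.TFNodal.NormIso

set_option autoImplicit false
set_option backward.isDefEq.respectTransparency false
set_option backward.isDefEq.respectTransparency.types false
set_option linter.style.haveILetI false
set_option maxHeartbeats 1000000
universe u
open CategoryTheory CategoryTheory.Limits AlgebraicGeometry
open TFNodal

namespace Groth.Agent.S18771

/-- Let k be algebraically closed of characteristic zero, X a connected proper curve over k (dimension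
one) whose closed points are smooth points or nodes, and π : Y → X its normalization, given as a
finite morphism from a smooth k-scheme that is an isomorphism over the complement U of the nodes
with dense preimage of U; let F be a coherent O_X-module, torsion free of rank r with type a(x) at
each node x (stalk free of rank r off the nodes, isomorphic to O_x^{a(x)} ⊕ m_x^{r − a(x)} at a node
x). Then there are a locally free O_X-module G of rank r and a monomorphism j : F → G whose cokernel
has zero stalk off the nodes and, at each node x, stalk annihilated by the maximal ideal m_x and of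
length r − a(x) (so G/F is the direct sum over the nodes of k(x)^{r − a(x)}). -/
theorem result (k : Type u) [Field k] [IsAlgClosed k] [CharZero k]
    (X : Scheme.{u}) [X.Over (Spec (CommRingCat.of k))] [IsProper (X ↘ Spec (CommRingCat.of k))]
    [ConnectedSpace X] (hdim : topologicalKrullDim X = 1) (hnod : Curv2.AtWorstNodal k X)
    (Y : Scheme.{u}) (π : Y ⟶ X) [IsFinite π] [Smooth (π ≫ (X ↘ Spec (CommRingCat.of k)))]
    (U : X.Opens) (hU : ∀ x : X, x ∈ U ↔ ¬ Curv2.IsNode k X x) (hUiso : IsIso (π ∣_ U))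
    (hUd : Dense ((π ⁻¹ᵁ U : Y.Opens) : Set Y))
    (r : ℕ) (F : X.Modules) (hF : Coh.IsCoh F) (a : X → ℕ)
    (hfree : ∀ x : X, ¬ Curv2.IsNode k X x →
      Nonempty (F.presheaf.stalk x ≃ₗ[X.presheaf.stalk x] (Fin r → X.presheaf.stalk x)))
    (htype : ∀ x : X, Curv2.IsNode k X x → a x ≤ r ∧
      Nonempty (F.presheaf.stalk x ≃ₗ[X.presheaf.stalk x]
        ((Fin (a x) → X.presheaf.stalk x) × (Fin (r - a x) → IsLocalRing.maximalIdeal (X.presheaf.stalk x))))) :
    ∃ (G : X.Modules) (j : F ⟶ G), FlatMod.IsFinLocFreeOfRank r G ∧ Mono j ∧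
      (∀ x : X, ¬ Curv2.IsNode k X x → Subsingleton ((cokernel j).presheaf.stalk x)) ∧
      (∀ x : X, Curv2.IsNode k X x →
        IsLocalRing.maximalIdeal (X.presheaf.stalk x) • (⊤ : Submodule (X.presheaf.stalk x) ((cokernel j).presheaf.stalk x)) = ⊥ ∧
        Module.length (X.presheaf.stalk x) ((cokernel j).presheaf.stalk x) = ((r - a x : ℕ) : ℕ∞)) := by
  classical
  haveI := Groth.L21.RR.isNoetherian_of_proper (X := X) k
  have h := Groth.L21.TFNodal.setting_of_hyps (U := U) hdim hnod hU hUiso hUd
  haveI := Groth.L21.NormRed.isReduced_of_atWorstNodal k h.hdim hnod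
  haveI := hF.1
  have hd := Groth.L21.NormRed.dim_le_one_of_components h.hdim
  have hcl : ∀ y : X, y ∉ U → IsClosed ({y} : Set X) := fun y hy => by
    by_contra hyc
    exact hy ((hU y).2 fun hn => hyc hn.1)
  have hfin : (U : Set X)ᶜ.Finite := Groth.L21.TFNodal.Lat.finite_of_closed_points U.2.isClosed_compl hcl
  have hcurve := (Groth.L21.Nodal.curveLike_iff X).2 h.hdim
  have hmax : ∀ y ∈ U, ∀ x ∉ U, y ⤳ x → IsField (X.presheaf.stalk y) := fun y hy x hx hyx =>
    Groth.L21.TFNodal.isField_stalk_of_nonclosed (fun a b c => hcurve.1 a b c) fun hyc =>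
      hx (by rwa [show x = y from hyx.mem_closed hyc rfl])
  have htF := Groth.L21.TFNodal.isTorsionFree_of_type hfree htype
  haveI : Mono (Groth.L21.TFNodal.Hull.toP U F) :=
    Groth.L21.TFNodal.mono_of_injective_on_dense htF _ U h.hUd fun y hy =>
      Groth.L21.TFNodal.Hull.injective_toP_stalk U F hy
  have hinj : ∀ y, Function.Injective (Groth.L21.Bundle.sm (Groth.L21.TFNodal.Hull.toP U F) y) := fun y =>
    Groth.L21.Bundle.injective_sm _ y
  have e := fun (x : X) (hx : Curv2.IsNode k X x) => (htype x hx).2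
  let ν : ∀ (x : X), Curv2.IsNode k X x → (F.presheaf.stalk x →ₗ[X.presheaf.stalk x]
      (Fin (a x) ⊕ Fin (r - a x) → X.presheaf.stalk x)) := fun x hx =>
    ((LinearEquiv.sumArrowLequivProdArrow _ _ (X.presheaf.stalk x) (X.presheaf.stalk x)).symm.toLinearMap).comp
      ((LinearMap.prodMap LinearMap.id
        (LinearMap.compLeft (IsLocalRing.maximalIdeal (X.presheaf.stalk x)).subtype (Fin (r - a x)))).comp
        (e x hx).some.toLinearMap)
  have hν : ∀ x hx, Function.Injective (ν x hx) := fun x hx m m' hm => by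
    refine (e x hx).some.injective (Prod.ext ?_ ?_)
    · exact funext fun i => congrFun hm (Sum.inl i)
    · exact funext fun i => Subtype.ext (congrFun hm (Sum.inr i))
  have hνr : ∀ x hx (w : Fin (a x) ⊕ Fin (r - a x) → X.presheaf.stalk x),
      (∀ i, w (Sum.inr i) ∈ IsLocalRing.maximalIdeal (X.presheaf.stalk x)) → ∃ m, ν x hx m = w := fun x hx w hw => by
    refine ⟨(e x hx).some.symm (fun i => w (Sum.inl i), fun i => ⟨w (Sum.inr i), hw i⟩), funext fun i => ?_⟩
    simp only [ν, LinearMap.comp_apply, LinearEquiv.coe_coe, LinearEquiv.apply_symm_apply]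
    rcases i with i | i <;> rfl
  have hnode : ∀ x, Curv2.IsNode k X x → ∃ b : Fin (a x) ⊕ Fin (r - a x) → (Groth.L21.TFNodal.Hull.pU U F).presheaf.stalk x,
      ∀ hx, Groth.L21.TFNodal.Hull.IsHullAt U F x (ν x hx) b := fun x hx => by
    obtain ⟨c, hcm, hc⟩ := Groth.L21.TFNodal.exists_nonZeroDivisor_of_not_le_minimal
      (IsLocalRing.maximalIdeal (X.presheaf.stalk x)) fun p hp hle => by
        have h2 := Groth.L21.TFNodal.finrank_cotangent_node h.hdim hx
        have hpm : p = IsLocalRing.maximalIdeal (X.presheaf.stalk x) :=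
          le_antisymm (IsLocalRing.le_maximalIdeal hp.1.1.ne_top) hle
        have hf : IsField (X.presheaf.stalk x) := by
          refine PrimeSpectrum.subsingleton_iff_isField_of_isReduced.1 ⟨fun q q' => ?_⟩
          have hall : ∀ q : PrimeSpectrum (X.presheaf.stalk x), q.asIdeal = IsLocalRing.maximalIdeal _ := fun q =>
            le_antisymm (IsLocalRing.le_maximalIdeal q.2.ne_top)
              ((hpm ▸ hp.2 ⟨q.2, bot_le⟩ ((IsLocalRing.le_maximalIdeal q.2.ne_top).trans hle)))
          exact PrimeSpectrum.ext ((hall q).trans (hall q').symm)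
        haveI : Subsingleton (IsLocalRing.maximalIdeal (X.presheaf.stalk x)) := by
          rw [IsLocalRing.isField_iff_maximalIdeal_eq.1 hf]
          infer_instance
        haveI : Subsingleton (IsLocalRing.CotangentSpace (X.presheaf.stalk x)) :=
          (IsLocalRing.maximalIdeal (X.presheaf.stalk x)).toCotangent_surjective.subsingleton
        rw [Module.finrank_zero_of_subsingleton] at h2
        exact absurd h2 (by omega)
    obtain ⟨b, hb⟩ := Groth.L21.TFNodal.Hull.exists_hullAt U F hF hinj hfin hcl hmax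
      (fun hxU => (hU x).1 hxU hx) (ν x hx) (hν x hx) (isRegular_iff_mem_nonZeroDivisors.2 hc)
      (fun w => hνr x hx (c • w) fun i => Ideal.mul_mem_right _ _ hcm)
    exact ⟨b, fun _ => hb⟩
  choose b hb using hnode
  let W := Groth.L21.TFNodal.Hull.pU U F
  let ι := Groth.L21.TFNodal.Hull.toP U F
  let D : Groth.L00.SubExtend.StalkSub W := fun y =>
    if hy : Curv2.IsNode k X y then Submodule.span _ (Set.range (b y hy))
    else LinearMap.range (Groth.L21.Bundle.sm ι y)
  haveI : Coh.IsQCoh (F.restrict U.ι) := Scheme.Modules.isQuasicoherent_restrictFunctor _ F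
  haveI : Coh.IsQCoh W := Groth.L16.QcqsPush.isQCoh_push (M := F.restrict U.ι) U.ι
  have hgood : Groth.L00.SubExtend.Good W ⊤ D := fun x _ => by
    by_cases hx : Curv2.IsNode k X x
    · obtain ⟨-, -, V, hxV, n, t, hV, h1, h2⟩ := hb x hx hx
      refine ⟨V, hV, hxV, le_top, n, t, fun y hy => ?_⟩
      by_cases hyx : y = x
      · subst hyx
        simp only [D, dif_pos hx]
        exact h1.symm
      · simp only [D, dif_neg ((hU y).1 (h2 y hy hyx).1)]
        exact (h2 y hy hyx).2.symm
    · obtain ⟨V, hV, hxV, hVU⟩ := exists_isAffineOpen_mem_and_subset (x := x) (U := U) ((hU x).2 hx)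
      obtain ⟨n, t, ht⟩ := Groth.L21.TFNodal.Lat.exists_generators F hV hF
      refine ⟨V, hV, hxV, le_top, n, fun q => ι.app V (t q), fun y hy => ?_⟩
      simp only [D, dif_neg ((hU y).1 (hVU hy))]
      rw [LinearMap.range_eq_map, ← ht y hy, Groth.L00.SubExtend.gspan, Submodule.map_span, ← Set.range_comp]
      refine congrArg _ (congrArg Set.range (funext fun q => ?_))
      exact Groth.L21.Mod.stalkF_map_germ ι V y hy (t q)
  obtain ⟨hq, hft⟩ := Groth.L00.SubExtend.isQCoh_isFT_sub W D hgood
  let G := Groth.L00.SubExtend.sub W D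
  let i := Groth.L00.SubExtend.subι W D
  have hr : ∀ y, LinearMap.range (Groth.L21.Bundle.sm i y) = D y := fun y => by
    refine le_antisymm ?_ ?_
    · rintro _ ⟨v, rfl⟩
      obtain ⟨O, hy, s, rfl⟩ := TopCat.Presheaf.exists_germ_eq G.presheaf v
      rw [show Groth.L21.Bundle.sm i y _ = _ from Groth.L21.Mod.stalkF_map_germ i O y hy s,
        Groth.L00.SubExtend.subι_app]
      exact (show Groth.L00.SubExtend.secs W D O from s).2 y hy
    · obtain ⟨V, hV, hy, -, n, t, ht⟩ := hgood y trivial
      rw [ht y hy]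
      refine Submodule.span_le.2 ?_
      rintro _ ⟨q, rfl⟩
      refine ⟨G.presheaf.germ V y hy (show Groth.L00.SubExtend.secs W D V from
        ⟨t q, fun z hz => by rw [ht z hz]; exact Submodule.subset_span ⟨q, rfl⟩⟩), ?_⟩
      exact Groth.L21.Mod.stalkF_map_germ i V y hy _
  have hle : ∀ y, LinearMap.range (Groth.L21.Bundle.sm ι y) ≤ LinearMap.range (Groth.L21.Bundle.sm i y) := fun y => by
    rw [hr]
    by_cases hy : Curv2.IsNode k X y
    · simp only [D, dif_pos hy]
      rintro _ ⟨m, rfl⟩
      rw [(hb y hy hy).2.1 m]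
      exact Submodule.sum_mem _ fun q _ => Submodule.smul_mem _ _ (Submodule.subset_span ⟨q, rfl⟩)
    · simp only [D, dif_neg hy]
      exact le_rfl
  have h0 : ι ≫ cokernel.π i = 0 := Groth.L21.Mod.hom_ext_stalk fun y => by
    ext v
    obtain ⟨w, hw⟩ := hle y (LinearMap.mem_range_self (Groth.L21.Bundle.sm ι y) v)
    have hz : (Groth.L00.Stk.F X y).map i ≫ (Groth.L00.Stk.F X y).map (cokernel.π i) = 0 := by
      rw [← Functor.map_comp, cokernel.condition, Functor.map_zero]
    rw [Functor.map_comp, Functor.map_zero]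
    show Groth.L21.Bundle.sm (cokernel.π i) y (Groth.L21.Bundle.sm ι y v) = 0
    rw [← hw]
    exact congr($hz w)
  let j : F ⟶ G := Abelian.monoLift i ι h0
  have hji : j ≫ i = ι := Abelian.monoLift_comp i ι h0
  haveI : Mono j := mono_of_mono_fac hji
  have hcomp : ∀ y v, Groth.L21.Bundle.sm i y (Groth.L21.Bundle.sm j y v) = Groth.L21.Bundle.sm ι y v := fun y v => by
    show ((Groth.L00.Stk.F X y).map j ≫ (Groth.L00.Stk.F X y).map i).hom v = _
    rw [← Functor.map_comp, hji]
    rfl
  -- coordinates
  let θ : ∀ y, G.presheaf.stalk y ≃ₗ[X.presheaf.stalk y] D y := fun y =>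
    (LinearEquiv.ofInjective _ (Groth.L21.Bundle.injective_sm i y)).trans (LinearEquiv.ofEq _ _ (hr y))
  have hnodecoord : ∀ x (hx : Curv2.IsNode k X x), ∃ φ : G.presheaf.stalk x ≃ₗ[X.presheaf.stalk x]
      (Fin (a x) ⊕ Fin (r - a x) → X.presheaf.stalk x), ∀ m, φ (Groth.L21.Bundle.sm j x m) = ν x hx m := fun x hx => by
    obtain ⟨hli, hfac, -⟩ := hb x hx hx
    let φ := (θ x).trans ((LinearEquiv.ofEq _ _ (by simp only [D, dif_pos hx])).trans
      (Module.Basis.span hli).equivFun)
    refine ⟨φ, fun m => φ.symm.injective ((φ.symm_apply_apply _).trans ?_)⟩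
    apply Groth.L21.Bundle.injective_sm i x
    rw [hcomp, hfac]
    symm
    have h3 : ∀ z, Groth.L21.Bundle.sm i x z = ((θ x z : D x) : W.presheaf.stalk x) := fun z => rfl
    rw [h3]
    simp only [φ, LinearEquiv.trans_symm, LinearEquiv.trans_apply, LinearEquiv.apply_symm_apply,
      Module.Basis.equivFun_symm_apply, LinearEquiv.coe_ofEq_apply, LinearEquiv.ofEq_symm]
    simp
    congr 1 <;> exact Finset.sum_congr rfl fun i _ => congrArg _ (congrArg Subtype.val (Module.Basis.span_apply hli _))
  have hflat : ∀ y, Nonempty (G.presheaf.stalk y ≃ₗ[X.presheaf.stalk y] (Fin r → X.presheaf.stalk y)) := fun y => by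
    by_cases hy : Curv2.IsNode k X y
    · obtain ⟨φ, -⟩ := hnodecoord y hy
      exact ⟨φ.trans (LinearEquiv.funCongrLeft _ _ ((finCongr (Nat.add_sub_cancel' (htype y hy).1).symm).trans
        finSumFinEquiv.symm))⟩
    · obtain ⟨f⟩ := hfree y hy
      exact ⟨(θ y).trans ((LinearEquiv.ofEq _ _ (by simp only [D, dif_neg hy]; rfl)).trans
        ((LinearEquiv.ofInjective _ (hinj y)).symm.trans f))⟩
  have hGf : FlatMod.IsFinLocFree G := Groth.L15.CohFlat.isFinLocFree_of_isCoh_isFlat G ⟨hq, hft⟩ fun y => by
    obtain ⟨f⟩ := hflat y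
    exact Module.Flat.of_linearEquiv f
  have hrk : FlatMod.IsFinLocFreeOfRank r G := by
    obtain ⟨n, hn⟩ := Groth.L18.KRRAmple.exists_rank hGf
    obtain ⟨y⟩ := (inferInstance : Nonempty X)
    obtain ⟨f⟩ := hflat y
    obtain ⟨f'⟩ := Groth.L22.CurveDeg.nonempty_stalk_equiv hn y
    have := (f'.trans f).finrank_eq
    rw [Module.finrank_fin_fun, Module.finrank_fin_fun] at this
    exact this ▸ hn
  refine ⟨G, j, hrk, inferInstance, fun x hx => ?_, fun x hx => ?_⟩
  · refine Groth.L21.TFNodal.subsingleton_coker_stalk j fun v => ?_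
    obtain ⟨m, hm⟩ : Groth.L21.Bundle.sm i x v ∈ LinearMap.range (Groth.L21.Bundle.sm ι x) := by
      have := LinearMap.mem_range_self (Groth.L21.Bundle.sm i x) v
      rw [hr] at this
      simpa only [D, dif_neg hx] using this
    exact ⟨m, Groth.L21.Bundle.injective_sm i x ((hcomp x m).trans hm)⟩
  · obtain ⟨φ, hφ⟩ := hnodecoord x hx
    let κ := IsLocalRing.ResidueField (X.presheaf.stalk x)
    let q : G.presheaf.stalk x →ₗ[X.presheaf.stalk x] (Fin (r - a x) → κ) :=
      ((Algebra.linearMap (X.presheaf.stalk x) κ).compLeft (Fin (r - a x))).comp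
        ((LinearMap.funLeft (X.presheaf.stalk x) (X.presheaf.stalk x) Sum.inr).comp φ.toLinearMap)
    have hq1 : Function.Surjective q := fun w => by
      choose w' hw' using fun i => IsLocalRing.residue_surjective (w i)
      exact ⟨φ.symm (Sum.elim 0 w'), funext fun i => by simp [q]; exact hw' i⟩
    have hq2 : LinearMap.ker q = LinearMap.range (Groth.L21.Bundle.sm j x) := by
      ext z
      constructor
      · intro hz
        obtain ⟨m, hm⟩ := hνr x hx (φ z) fun i => (IsLocalRing.residue_eq_zero_iff _).1 (congrFun hz i)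
        exact ⟨m, φ.injective ((hφ m).trans hm)⟩
      · rintro ⟨m, rfl⟩
        refine funext fun i => ?_
        show IsLocalRing.residue _ (φ (Groth.L21.Bundle.sm j x m) (Sum.inr i)) = 0
        rw [hφ]
        exact (IsLocalRing.residue_eq_zero_iff _).2 (((e x hx).some m).2 i).2
    let c := (PreservesCokernel.iso (Groth.L00.Stk.F X x) j ≪≫ ModuleCat.cokernelIsoRangeQuotient _).toLinearEquiv
    let c' : (cokernel j).presheaf.stalk x ≃ₗ[X.presheaf.stalk x] (Fin (r - a x) → κ) :=
      c.trans ((Submodule.quotEquivOfEq _ _ hq2.symm).trans (q.quotKerEquivOfSurjective hq1))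
    refine ⟨?_, ?_⟩
    · rw [eq_bot_iff, Submodule.smul_le]
      intro s hs v _
      rw [Submodule.mem_bot]
      refine c'.injective ?_
      rw [map_smul, map_zero]
      refine funext fun i => ?_
      show s • (c' v i) = 0
      rw [Algebra.smul_def, show algebraMap (X.presheaf.stalk x) κ s = 0 from (IsLocalRing.residue_eq_zero_iff _).2 hs,
        zero_mul]
    · have hκ : Module.length (X.presheaf.stalk x) κ = 1 := by
        rw [Module.length_eq_of_surjective (S := X.presheaf.stalk x) (R := κ) IsLocalRing.residue_surjective]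
        exact (Module.length_eq_finrank _ _).trans (by rw [Module.finrank_self]; rfl)
      rw [c'.length_eq, Module.length_pi, hκ, mul_one, ENat.card_eq_coe_fintype_card, Fintype.card_fin]

end Groth.Agent.S18771
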