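import Groth.Statements.S18769
import Groth.Agent.L21.TFNodal.Modif
import Groth.Agent.L21.TFNodal.NodeRad
import Groth.Agent.S18771
import Groth.Agent.S18768
import Groth.Agent.S18770
import Groth.Agent.L02.InterH0.Stalk
import Groth.Agent.L21.CurveAdj.Marked
import Groth.Agent.L15.TFCurve.BC.PullFlat
import Groth.Agent.L21.P1.PushCoh
import Groth.Agent.L07.PrinParts.Mod
import Groth.Agent.L12.StabLimit
import Groth.Agent.L12.DefoSh.Tensor

set_option autoImplicit false
set_option backward.isDefEq.respectTransparency false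
set_option backward.isDefEq.respectTransparency.types false
set_option linter.style.haveILetI false
set_option maxHeartbeats 2000000
set_option synthInstance.maxHeartbeats 400000
universe u
open CategoryTheory CategoryTheory.Limits AlgebraicGeometry
open TFNodal

namespace Groth.Agent.S18769

/-- Let k be algebraically closed of characteristic zero, X a connected proper curve over k (dimension
one) whose closed points are smooth points or nodes, and π : Y → X its normalization, given as a
finite morphism from a smooth k-scheme that is an isomorphism over the complement U of the nodes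
with dense preimage of U; let F be a coherent O_X-module, torsion free of rank r with type a(x) at
each node x (stalk free of rank r off the nodes, isomorphic to O_x^{a(x)} ⊕ m_x^{r − a(x)} at a node
x). Write D ⊂ Y for the reduced closed subscheme on the preimage of the nodes. Then there are a
locally free O_Y-module E of rank r and a quotient q : π_*(E ⊗ O_D) → Q, with Q having zero stalks
off the nodes and total length r · (number of nodes) over the nodes, such that F is isomorphic to
the kernel of the composite π_*E → π_*(E ⊗ O_D) → Q (existence of such an isomorphism). -/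
theorem result (k : Type u) [Field k] [IsAlgClosed k] [CharZero k]
    (X : Scheme.{u}) [X.Over (Spec (CommRingCat.of k))] [IsProper (X ↘ Spec (CommRingCat.of k))]
    [ConnectedSpace X] (hdim : topologicalKrullDim X = 1) (hnod : Curv2.AtWorstNodal k X)
    (Y : Scheme.{u}) (π : Y ⟶ X) [IsFinite π] [Smooth (π ≫ (X ↘ Spec (CommRingCat.of k)))]
    (U : X.Opens) (hU : ∀ x : X, x ∈ U ↔ ¬ Curv2.IsNode k X x) (hUiso : IsIso (π ∣_ U))
    (hUd : Dense ((π ⁻¹ᵁ U : Y.Opens) : Set Y))
    (r : ℕ) (F : X.Modules) (hF : Coh.IsCoh F) (a : X → ℕ)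
    (hfree : ∀ x : X, ¬ Curv2.IsNode k X x →
      Nonempty (F.presheaf.stalk x ≃ₗ[X.presheaf.stalk x] (Fin r → X.presheaf.stalk x)))
    (htype : ∀ x : X, Curv2.IsNode k X x → a x ≤ r ∧
      Nonempty (F.presheaf.stalk x ≃ₗ[X.presheaf.stalk x]
        ((Fin (a x) → X.presheaf.stalk x) × (Fin (r - a x) → IsLocalRing.maximalIdeal (X.presheaf.stalk x))))) :
    ∃ (E : Y.Modules), FlatMod.IsFinLocFreeOfRank r E ∧
      ∃ (Q : X.Modules) (q : (Scheme.Modules.pushforward π).obj
          (ParSh.resD (Scheme.IdealSheafData.vanishingIdeal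
            ⟨closure (π.base ⁻¹' {x : X | Curv2.IsNode k X x}), isClosed_closure⟩) E) ⟶ Q),
        Epi q ∧
        (∀ x : X, ¬ Curv2.IsNode k X x → Subsingleton (Q.presheaf.stalk x)) ∧
        (∑ᶠ x ∈ {x : X | Curv2.IsNode k X x},
            (Module.length (X.presheaf.stalk x) (Q.presheaf.stalk x)).toNat) = r * Nat.card {x : X // Curv2.IsNode k X x} ∧
        Nonempty (F ≅ kernel ((Scheme.Modules.pushforward π).map
            ((SecTwist.unitorR E).inv ≫ KoszTw.tensorMap (𝟙 E) (ClSub.toSubscheme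
              (Scheme.IdealSheafData.vanishingIdeal
                ⟨closure (π.base ⁻¹' {x : X | Curv2.IsNode k X x}), isClosed_closure⟩))) ≫ q)) := by
  classical
  haveI := Groth.L21.RR.isNoetherian_of_proper (X := X) k
  have h := Groth.L21.TFNodal.setting_of_hyps (U := U) hdim hnod hU hUiso hUd
  haveI := h.reduced
  haveI : IsLocallyNoetherian Y := LocallyOfFiniteType.isLocallyNoetherian π
  haveI : AlgebraicGeometry.IsReduced Y := Groth.L21.NormRed.isReduced_of_normal h.hnorm
  haveI : X.IsSeparated := ⟨by rw [← terminal.comp_from (X ↘ Spec (CommRingCat.of k))]; infer_instance⟩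
  letI : Y.Over (Spec (CommRingCat.of k)) := ⟨π ≫ (X ↘ Spec (CommRingCat.of k))⟩
  haveI : IsProper (Y ↘ Spec (CommRingCat.of k)) := inferInstanceAs (IsProper (π ≫ (X ↘ Spec (CommRingCat.of k))))
  haveI := Groth.L21.RR.isNoetherian_of_proper (X := Y) k
  have hdX : topologicalKrullDim X ≤ 1 := hdim.le
  have hdY : topologicalKrullDim Y ≤ 1 := (Groth.L19.topologicalKrullDim_le_of_isIntegralHom π).trans hdX
  have hdom : ∀ y : Y, IsDomain (Y.presheaf.stalk y) := fun y => (h.hnorm y).1
  have hpir : ∀ y : Y, IsPrincipalIdealRing (Y.presheaf.stalk y) := fun y => by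
    haveI := hdom y
    haveI := Groth.L21.Smooth.regular_stalk (π ≫ (X ↘ Spec (CommRingCat.of k))) y
    have h1 : (IsLocalRing.maximalIdeal (Y.presheaf.stalk y)).IsPrincipal :=
      Groth.L21.SmoothDescent.isPrincipal_of_dim_le_one ((Groth.L21.SmoothDescent.ringKrullDim_stalk_le y).trans hdY)
    exact ((tfae_of_isNoetherianRing_of_isLocalRing_of_isDomain (R := Y.presheaf.stalk y)).out 4 0
      (a := (IsLocalRing.maximalIdeal (Y.presheaf.stalk y)).IsPrincipal)
      (b := IsPrincipalIdealRing (Y.presheaf.stalk y))).1 h1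
  -- nodes and their preimages
  have hfin : {x : X | Curv2.IsNode k X x}.Finite :=
    (Groth.L21.TFNodal.Lat.finite_of_closed_points U.2.isClosed_compl fun y hy => by
      by_contra hyc
      exact hy ((hU y).2 fun hn => hyc hn.1)).subset fun x hx hxU => (hU x).1 hxU hx
  have hDfin : (π.base ⁻¹' {x : X | Curv2.IsNode k X x}).Finite := hfin.preimage' fun x _ => π.finite_preimage_singleton x
  have hYcl : ∀ y : Y, Curv2.IsNode k X (π y) → IsClosed ({y} : Set Y) := fun y hy => by
    by_contra hc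
    exact (hU (π y)).1 (Groth.L21.RR.mem_of_dense_of_not_isClosed hdY hUd hc) hy
  let SX := hfin.toFinset
  let SY := hDfin.toFinset
  have hSX : ∀ x ∈ SX, IsClosed ({x} : Set X) := fun x hx => (hfin.mem_toFinset.1 hx).1
  have hSY : ∀ y ∈ SY, IsClosed ({y} : Set Y) := fun y hy => hYcl y (hDfin.mem_toFinset.1 hy)
  -- the hull
  obtain ⟨G, j, hG, hj, hjoff, hjnode⟩ :=
    Groth.Agent.S18771.result k X hdim hnod Y π U hU hUiso hUd r F hF a hfree htype
  haveI := hj
  haveI := hF.1
  haveI : Coh.IsQCoh G := Groth.L21.TFNodal.isQCoh_of_rank hG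
  have hGc : Coh.IsCoh G := Groth.L16.NegPow.isCoh_of_isFinLocFree (Groth.L22.CurveDeg.isFinLocFree_of_rank hG)
  have hGfree : ∀ x : X, ¬ Curv2.IsNode k X x →
      Nonempty (G.presheaf.stalk x ≃ₗ[X.presheaf.stalk x] (Fin r → X.presheaf.stalk x)) := fun x _ =>
    let ⟨e⟩ := Groth.L22.CurveDeg.nonempty_stalk_equiv hG x
    ⟨e.symm⟩
  have hGtype : ∀ x : X, Curv2.IsNode k X x → r ≤ r ∧
      Nonempty (G.presheaf.stalk x ≃ₗ[X.presheaf.stalk x]
        ((Fin r → X.presheaf.stalk x) × (Fin (r - r) → IsLocalRing.maximalIdeal (X.presheaf.stalk x)))) := fun x _ => by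
    obtain ⟨e⟩ := Groth.L22.CurveDeg.nonempty_stalk_equiv hG x
    haveI : IsEmpty (Fin (r - r)) := by rw [Nat.sub_self]; infer_instance
    exact ⟨le_rfl, ⟨e.symm.trans (LinearEquiv.prodUnique).symm⟩⟩
  let adj := Scheme.Modules.pullbackPushforwardAdjunction π
  let EG := (Scheme.Modules.pullback π).obj G
  haveI : Coh.IsQCoh EG := Groth.L16.AffineBC.isQCoh_pullback π G
  haveI : Coh.IsQCoh ((𝟭 X.Modules).obj G) := hGc.1
  have hEG : FlatMod.IsFinLocFreeOfRank r EG := Groth.L12.StabLimit.isFinLocFreeOfRank_pullback π hG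
  have hEGc : Coh.IsCoh EG := Groth.L16.NegPow.isCoh_of_isFinLocFree (Groth.L22.CurveDeg.isFinLocFree_of_rank hEG)
  obtain ⟨huG, huGn, huGo⟩ :=
    Groth.Agent.S18768.result k X hdim hnod Y π U hU hUiso hUd r G hGc (fun _ => r) hGfree hGtype
  let f : F ⟶ (Scheme.Modules.pushforward π).obj EG := j ≫ adj.unit.app G
  haveI : Mono (adj.unit.app G) := huG
  haveI : Mono f := mono_comp j (adj.unit.app G)
  have hsurj : ∀ {A B : X.Modules} (φ : A ⟶ B) (x : X), Subsingleton ((cokernel φ).presheaf.stalk x) →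
      Function.Surjective ((Groth.L00.Stk.F X x).map φ).hom := fun φ x hx => by
    have h0 := (Module.length_eq_zero_iff (R := X.presheaf.stalk x)).2 hx
    rw [Groth.L21.TFNodal.length_coker_stalk, Module.length_eq_zero_iff,
      Submodule.Quotient.subsingleton_iff, LinearMap.range_eq_top] at h0
    exact h0
  -- `E₀`
  let i := (Scheme.Modules.pullback π).map j
  have hioff : ∀ y, y ∉ SY → Function.Surjective (Groth.L21.Bundle.sm i y) := fun y hy =>
    Groth.L15.TFCurve.BC.pullback_st_surjective π y j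
      (hsurj j (π y) (hjoff (π y) fun hn => hy (hDfin.mem_toFinset.2 hn)))
  haveI : Coh.IsQCoh ((Scheme.Modules.pullback π).obj F) := Groth.L16.AffineBC.isQCoh_pullback π F
  have hPF := Groth.L16.AffineBC.isCoh_pullback (f := π) hF
  let E₀ := Abelian.image i
  let p : (Scheme.Modules.pullback π).obj F ⟶ E₀ := Abelian.factorThruImage i
  let ι₀ : E₀ ⟶ EG := Abelian.image.ι i
  have hpι : p ≫ ι₀ = i := Abelian.image.fac i
  have hE₀c : Coh.IsCoh E₀ := (Groth.L16.CohKernel.isCoh_kernel_cokernel hEGc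
    (Groth.L16.CohKernel.isCoh_kernel_cokernel hPF hEGc i).2 (cokernel.π i)).1
  have hι₀off : ∀ y, y ∉ SY → Function.Surjective (Groth.L21.Bundle.sm ι₀ y) := fun y hy w => by
    obtain ⟨v, hv⟩ := hioff y hy w
    refine ⟨Groth.L21.Bundle.sm p y v, ?_⟩
    show ((Groth.L00.Stk.F Y y).map p ≫ (Groth.L00.Stk.F Y y).map ι₀).hom v = w
    rw [← Functor.map_comp, hpι]
    exact hv
  have hUSY : ∀ y ∈ π ⁻¹ᵁ U, y ∉ SY := fun y hy hyS => (hU (π y)).1 hy (hDfin.mem_toFinset.1 hyS)
  have hE₀ : FlatMod.IsFinLocFreeOfRank r E₀ := Groth.L21.TFNodal.Modif.rank_of_mono hdom hpir ι₀ hE₀c hEG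
    (π ⁻¹ᵁ U) hUd fun y hy => hι₀off y (hUSY y hy)
  obtain ⟨hβ₀, hβ₀n, hβ₀o⟩ := Groth.Agent.S18770.result k X hdim hnod Y π U hU hUiso hUd r F hF a hfree htype E₀ hE₀ p
  haveI := hβ₀
  let β₀ := adj.unit.app F ≫ (Scheme.Modules.pushforward π).map p
  have hβ₀f : β₀ ≫ (Scheme.Modules.pushforward π).map ι₀ = f := by
    rw [Category.assoc, ← Functor.map_comp, hpι]
    exact (adj.unit.naturality j).symm
  -- lengths and Euler characteristics
  have hpush : ∀ M : Y.Modules, Coh.IsQCoh M →
      Curv2.euler k X ((Scheme.Modules.pushforward π).obj M) = Curv2.euler k Y M := fun M hM =>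
    haveI := hM
    Groth.L21.P1.euler_push_affine k π rfl M
  have hcohpush : ∀ {M : Y.Modules}, Coh.IsCoh M → Coh.IsCoh ((Scheme.Modules.pushforward π).obj M) := fun hM =>
    Groth.L07.PrinParts.isCoh_pushforward_finite π hM
  have hfnode : ∀ x, Curv2.IsNode k X x → Module.length (X.presheaf.stalk x) ((cokernel f).presheaf.stalk x) =
      ((2 * r - a x : ℕ) : ℕ∞) := fun x hx => by
    rw [Groth.L21.TFNodal.length_coker_comp j (adj.unit.app G) x, (hjnode x hx).2, huGn x hx, ← Nat.cast_add]
    congr 1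
    have := (htype x hx).1
    omega
  have hfoff : ∀ x, ¬ Curv2.IsNode k X x → Subsingleton ((cokernel f).presheaf.stalk x) := fun x hx => by
    rw [← Module.length_eq_zero_iff (R := X.presheaf.stalk x), Groth.L21.TFNodal.length_coker_comp j (adj.unit.app G) x,
      Module.length_eq_zero_iff.2 (hjoff x hx), Module.length_eq_zero_iff.2 (huGo x hx), add_zero]
  have hsum : ∀ {A B : X.Modules} (φ : A ⟶ B) [Mono φ], Coh.IsCoh A → Coh.IsCoh B →
      (∀ x, ¬ Curv2.IsNode k X x → Subsingleton ((cokernel φ).presheaf.stalk x)) →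
      Curv2.euler k X B = Curv2.euler k X A +
        ∑ x ∈ SX, ((Module.length (X.presheaf.stalk x) ((cokernel φ).presheaf.stalk x)).toNat : ℤ) :=
    fun φ _ hA hB hoff => (Groth.L21.TFNodal.Modif.euler_mono k hdX φ hA hB SX hSX
      fun x hx => hoff x fun hn => hx (hfin.mem_toFinset.2 hn)).2
  have e1 := hsum (A := F) (B := (Scheme.Modules.pushforward π).obj E₀) β₀ hF (hcohpush hE₀c) hβ₀o
  have e2 := hsum (A := F) f hF (hcohpush hEGc) hfoff
  rw [hpush _ hE₀c.1, Finset.sum_congr rfl fun x hx => by rw [hβ₀n x (hfin.mem_toFinset.1 hx)]] at e1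
  rw [hpush _ hEGc.1, Finset.sum_congr rfl fun x hx => by rw [hfnode x (hfin.mem_toFinset.1 hx)]] at e2
  simp only [ENat.toNat_natCast] at e1 e2
  obtain ⟨hcfin, e3⟩ := Groth.L21.TFNodal.Modif.euler_mono k hdY ι₀ hE₀c hEGc SY hSY fun y hy =>
    Groth.L21.TFNodal.subsingleton_coker_stalk ι₀ (hι₀off y hy)
  let c : Y → ℕ := fun y => (Module.length (Y.presheaf.stalk y) ((cokernel ι₀).presheaf.stalk y)).toNat
  let N := ∑ x ∈ SX, (r - a x)
  have hsa : ∀ x ∈ SX, ((2 * r - a x : ℕ) : ℤ) = (a x : ℤ) + 2 * ((r - a x : ℕ) : ℤ) := fun x hx => by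
    have := (htype x (hfin.mem_toFinset.1 hx)).1
    omega
  rw [Finset.sum_congr rfl hsa, Finset.sum_add_distrib, ← Finset.mul_sum] at e2
  have hcN : (∑ y ∈ SY, c y : ℕ) = 2 * N := by
    zify [N, c]
    linarith
  obtain ⟨l, hl, hlsum⟩ := Groth.L21.TFNodal.Modif.exists_weights SY c (N := N) (by omega)
  obtain ⟨E, a', b, hEc, hb, hab, hblen, hboff⟩ := Groth.L21.TFNodal.Modif.exists_between ι₀ hE₀c hEGc SY hSY
    hι₀off l (fun y hy => le_trans (Nat.cast_le.2 (hl y hy)) (ENat.coe_toNat (hcfin y)).le) fun y _ => hcfin y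
  haveI := hb
  have hE : FlatMod.IsFinLocFreeOfRank r E := Groth.L21.TFNodal.Modif.rank_of_mono hdom hpir b hEc hEG
    (π ⁻¹ᵁ U) hUd fun y hy => hboff y (hUSY y hy)
  haveI : Coh.IsQCoh E := hEc.1
  have e4 := (Groth.L21.TFNodal.Modif.euler_mono k hdY b hEc hEGc SY hSY fun y hy =>
    Groth.L21.TFNodal.subsingleton_coker_stalk b (hboff y hy)).2
  rw [Finset.sum_congr rfl fun y hy => by rw [hblen y hy, ENat.toNat_natCast], ← Nat.cast_sum, hlsum] at e4
  -- `β`
  let β : F ⟶ (Scheme.Modules.pushforward π).obj E := β₀ ≫ (Scheme.Modules.pushforward π).map a'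
  have hβf : β ≫ (Scheme.Modules.pushforward π).map b = f := by
    rw [Category.assoc, ← Functor.map_comp, hab, hβ₀f]
  haveI : Mono (β ≫ (Scheme.Modules.pushforward π).map b) := hβf.symm ▸ inferInstance
  haveI : Mono β := mono_of_mono β ((Scheme.Modules.pushforward π).map b)
  haveI : (Scheme.Modules.pushforward π).IsRightAdjoint := adj.isRightAdjoint
  haveI : Mono ((Scheme.Modules.pushforward π).map b) := inferInstance
  have hβoff : ∀ x, ¬ Curv2.IsNode k X x → Subsingleton ((cokernel β).presheaf.stalk x) := fun x hx => by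
    have h1 := (Module.length_eq_zero_iff (R := X.presheaf.stalk x)).2 (hfoff x hx)
    rw [show f = β ≫ (Scheme.Modules.pushforward π).map b from hβf.symm,
      Groth.L21.TFNodal.length_coker_comp β ((Scheme.Modules.pushforward π).map b) x, add_eq_zero] at h1
    exact Module.length_eq_zero_iff.1 h1.1
  have e5 := hsum (A := F) β hF (hcohpush hEc) hβoff
  rw [hpush _ hEc.1] at e5
  -- the map to the fibre over `D`
  let I : Y.IdealSheafData := Scheme.IdealSheafData.vanishingIdeal
    ⟨closure (π.base ⁻¹' {x : X | Curv2.IsNode k X x}), isClosed_closure⟩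
  let μ : E ⟶ ParSh.resD I E := (SecTwist.unitorR E).inv ≫ KoszTw.tensorMap (𝟙 E) (ClSub.toSubscheme I)
  let θ : E ≅ E := (SecTwist.unitorR E).symm ≪≫ Groth.L00.Tensor.tensorUnitRight E
  have hμ : μ = θ.hom ≫ Groth.L21.RR.twπ E I := by
    have e : ((DCoh.tensorBi (X := Y)).obj E).map (ClSub.toSubscheme I) =
        Groth.L00.Tensor.tensorMap (𝟙 E) (ClSub.toSubscheme I) := by
      refine congrArg (Groth.L00.Tensor.shf Y).map ?_
      rw [CategoryTheory.Functor.map_id]
      exact (MonoidalCategory.id_tensorHom _ _).symm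
    simp only [μ, θ, Groth.L21.RR.twπ, Iso.trans_hom, Iso.symm_hom, Category.assoc, Iso.hom_inv_id_assoc,
      Groth.L12.DefoSh.tensorMap_eq, e]
  have hθ : ∀ y, Function.Bijective (Groth.L21.Bundle.sm θ.hom y) := fun y =>
    (Groth.L21.Mod.isIso_iff_stalk_bijective _).1 inferInstance y
  have hμv : ∀ y v, Groth.L21.Bundle.sm μ y v =
      Groth.L21.RR.st (Groth.L21.RR.twπ E I) y (Groth.L21.Bundle.sm θ.hom y v) := fun y v => by
    rw [hμ]; exact Groth.L21.RR.st_comp _ _ y v
  haveI : Epi μ := (Groth.L21.Mod.epi_iff_stalk_surjective _).2 fun y w => by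
    obtain ⟨v, hv⟩ := (Groth.L02.InterH0.twπ_spec y E I).1 w
    obtain ⟨u, rfl⟩ := (hθ y).2 v
    exact ⟨u, (hμv y u).trans hv⟩
  haveI : IsLocallyNoetherian I.subscheme := LocallyOfFiniteType.isLocallyNoetherian I.subschemeι
  haveI : Coh.IsQCoh (ClSub.quotMod I) :=
    (Groth.L07.PrinParts.isCoh_pushforward_finite I.subschemeι Groth.L16.CohClosedPush.isCoh_structure).1
  haveI : Coh.IsQCoh (ParSh.resD I E) := Groth.L00.Tensor.isQCoh_tensorMod _ _
  let s := (Scheme.Modules.pushforward π).map μ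
  haveI : Epi s := Groth.L21.TFNodal.Modif.epi_push π μ
  have hker : ∀ y, Curv2.IsNode k X (π y) → LinearMap.ker (Groth.L21.Bundle.sm μ y) ≤
      IsLocalRing.maximalIdeal (Y.presheaf.stalk y) • ⊤ := fun y hy v hv => by
    have h1 : Groth.L21.Bundle.sm θ.hom y v ∈ LinearMap.ker (Groth.L21.RR.st (Groth.L21.RR.twπ E I) y) :=
      (hμv y v).symm.trans hv
    rw [(Groth.L02.InterH0.twπ_spec y E I).2] at h1
    have hcl : closure (π.base ⁻¹' {x : X | Curv2.IsNode k X x}) ⊆ π.base ⁻¹' {x : X | Curv2.IsNode k X x} := by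
      refine closure_minimal subset_rfl ?_
      rw [← Set.biUnion_of_singleton (π.base ⁻¹' {x : X | Curv2.IsNode k X x})]
      exact hDfin.isClosed_biUnion hYcl
    rw [Groth.L21.CurveAdj.stI_vanishingIdeal_finite isClosed_closure (hDfin.subset hcl)
      (fun z hz => hYcl z (hcl hz)) (subset_closure hy)] at h1
    let e := LinearEquiv.ofBijective (Groth.L21.Bundle.sm θ.hom y) (hθ y)
    have h2 := Submodule.mem_map_of_mem (f := e.symm.toLinearMap) h1
    rw [Submodule.map_smul''] at h2
    exact Submodule.smul_mono le_rfl le_top (e.symm_apply_apply v ▸ h2)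
  have hsker : ∀ x v, Groth.L21.Bundle.sm s x v = 0 → v ∈ LinearMap.range (Groth.L21.Bundle.sm β x) := fun x v hv => by
    by_cases hx : Curv2.IsNode k X x
    · have h1 := Groth.L21.TFNodal.ker_push_le h μ hx (fun y hy => hker y (by rw [hy]; exact hx))
        (LinearMap.mem_ker.2 hv)
      have h2 : Groth.L21.Bundle.sm ((Scheme.Modules.pushforward π).map b) x v ∈
          IsLocalRing.maximalIdeal (X.presheaf.stalk x) • (⊤ : Submodule (X.presheaf.stalk x) _) := by
        have := Submodule.mem_map_of_mem (f := Groth.L21.Bundle.sm ((Scheme.Modules.pushforward π).map b) x) h1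
        rw [Submodule.map_smul''] at this
        exact Submodule.smul_mono le_rfl le_top this
      obtain ⟨w, hw, hwv⟩ := Groth.L21.TFNodal.smul_top_le_range h (adj.unit.app G)
        (Groth.L21.TFNodal.generates_unit (π := π) G) hx h2
      obtain ⟨z, hz⟩ : w ∈ LinearMap.range (Groth.L21.Bundle.sm j x) := by
        let cq := (PreservesCokernel.iso (Groth.L00.Stk.F X x) j ≪≫ ModuleCat.cokernelIsoRangeQuotient _).toLinearEquiv
        have h3 : Submodule.Quotient.mk w ∈ IsLocalRing.maximalIdeal (X.presheaf.stalk x) •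
            (⊤ : Submodule (X.presheaf.stalk x) (_ ⧸ LinearMap.range (Groth.L21.Bundle.sm j x))) := by
          have := Submodule.mem_map_of_mem (f := (LinearMap.range (Groth.L21.Bundle.sm j x)).mkQ) hw
          rw [Submodule.map_smul''] at this
          exact Submodule.smul_mono le_rfl le_top this
        have h4 := Submodule.mem_map_of_mem (f := cq.symm.toLinearMap) h3
        rw [Submodule.map_smul''] at h4
        have h5 := Submodule.smul_mono (le_refl (IsLocalRing.maximalIdeal (X.presheaf.stalk x))) le_top h4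
        rw [(hjnode x hx).1, Submodule.mem_bot] at h5
        exact (Submodule.Quotient.mk_eq_zero _).1 (cq.symm.map_eq_zero_iff.1 h5)
      refine ⟨z, Groth.L21.Bundle.injective_sm ((Scheme.Modules.pushforward π).map b) x ?_⟩
      refine Eq.trans ?_ hwv
      show ((Groth.L00.Stk.F X x).map β ≫ (Groth.L00.Stk.F X x).map ((Scheme.Modules.pushforward π).map b)).hom z = _
      rw [← Functor.map_comp, hβf, ← hz, Functor.map_comp]
      rfl
    · exact LinearMap.range_eq_top.2 (hsurj β x (hβoff x hx)) ▸ Submodule.mem_top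
  let q := cokernel.π (β ≫ s)
  have hqs : ∀ x v, Groth.L21.Bundle.sm (s ≫ q) x v = 0 → v ∈ LinearMap.range (Groth.L21.Bundle.sm β x) := fun x v hv => by
    rw [Groth.L21.Bundle.sm, Functor.map_comp] at hv
    let cq := (PreservesCokernel.iso (Groth.L00.Stk.F X x) (β ≫ s) ≪≫ ModuleCat.cokernelIsoRangeQuotient _)
    have h1 : Groth.L21.Bundle.sm s x v ∈ LinearMap.range (Groth.L21.Bundle.sm (β ≫ s) x) := by
      have hex := (ShortComplex.mk (β ≫ s) q (cokernel.condition _)).exact_of_g_is_cokernel (cokernelIsCokernel _)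
      exact (ShortComplex.moduleCat_exact_iff _).1 (hex.map (Groth.L00.Stk.F X x)) _ hv
    obtain ⟨z, hz⟩ := h1
    have h2 : Groth.L21.Bundle.sm s x (v - Groth.L21.Bundle.sm β x z) = 0 := by
      rw [map_sub, sub_eq_zero, ← hz, Groth.L21.Bundle.sm, Functor.map_comp]
      rfl
    have := add_mem (hsker x _ h2) (LinearMap.mem_range_self (Groth.L21.Bundle.sm β x) z)
    rwa [sub_add_cancel] at this
  have hqs0 : β ≫ s ≫ q = 0 := by rw [← Category.assoc]; exact cokernel.condition _
  have hlenQ : ∀ x, Module.length (X.presheaf.stalk x) ((cokernel (β ≫ s)).presheaf.stalk x) =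
      Module.length (X.presheaf.stalk x) ((cokernel β).presheaf.stalk x) := fun x => by
    haveI : Epi (s ≫ q) := epi_comp s q
    let T := Groth.L21.Bundle.sm (s ≫ q) x
    have hT : Function.Surjective T := (Groth.L21.Mod.epi_iff_stalk_surjective _).1 inferInstance x
    have hk : LinearMap.ker T = LinearMap.range (Groth.L21.Bundle.sm β x) := by
      refine le_antisymm (fun v hv => hqs x v hv) ?_
      rintro _ ⟨z, rfl⟩
      show ((Groth.L00.Stk.F X x).map β ≫ (Groth.L00.Stk.F X x).map (s ≫ q)).hom z = 0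
      rw [← Functor.map_comp, hqs0, Functor.map_zero]
      rfl
    rw [Groth.L21.TFNodal.length_coker_stalk β x, ← (T.quotKerEquivOfSurjective hT).length_eq,
      (Submodule.quotEquivOfEq _ _ hk).length_eq]
    rfl
  refine ⟨E, hE, cokernel (β ≫ s), q, inferInstance, fun x hx => ?_, ?_, ⟨?_⟩⟩
  · rw [← Module.length_eq_zero_iff (R := X.presheaf.stalk x), hlenQ, Module.length_eq_zero_iff]
    exact hβoff x hx
  · rw [finsum_mem_eq_finite_toFinset_sum _ hfin, Finset.sum_congr rfl fun x _ => by rw [hlenQ x]]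
    have hn : Nat.card {x : X // Curv2.IsNode k X x} = SX.card := Nat.card_eq_card_finite_toFinset hfin
    have hrn : ∑ x ∈ SX, (r : ℤ) = ∑ x ∈ SX, (a x : ℤ) + (N : ℤ) := by
      simp only [N, Nat.cast_sum, ← Finset.sum_add_distrib]
      refine Finset.sum_congr rfl fun x hx => ?_
      have := (htype x (hfin.mem_toFinset.1 hx)).1
      omega
    rw [Finset.sum_const, nsmul_eq_mul] at hrn
    have hN : (N : ℤ) = ∑ x ∈ SX, ((r - a x : ℕ) : ℤ) := Nat.cast_sum _ _
    rw [hn]
    zify
    linarith [hrn, hN]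
  · haveI : IsIso (kernel.lift (s ≫ q) β hqs0) := (Groth.L21.Mod.isIso_iff_stalk_bijective _).2 fun x => by
      haveI : Mono (kernel.lift (s ≫ q) β hqs0) := mono_of_mono_fac (kernel.lift_ι (s ≫ q) β hqs0)
      refine ⟨(Groth.L21.Mod.mono_iff_stalk_injective _).1 inferInstance x, fun w => ?_⟩
      have h0 : Groth.L21.Bundle.sm (s ≫ q) x (Groth.L21.Bundle.sm (kernel.ι (s ≫ q)) x w) = 0 := by
        show ((Groth.L00.Stk.F X x).map (kernel.ι (s ≫ q)) ≫ (Groth.L00.Stk.F X x).map (s ≫ q)).hom w = 0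
        rw [← Functor.map_comp, kernel.condition, Functor.map_zero]
        rfl
      obtain ⟨z, hz⟩ := hqs x _ h0
      refine ⟨z, Groth.L21.Bundle.injective_sm (kernel.ι (s ≫ q)) x (Eq.trans ?_ hz)⟩
      show ((Groth.L00.Stk.F X x).map (kernel.lift (s ≫ q) β hqs0) ≫
        (Groth.L00.Stk.F X x).map (kernel.ι (s ≫ q))).hom z = _
      rw [← Functor.map_comp, kernel.lift_ι]
      rfl
    exact asIso (kernel.lift (s ≫ q) β hqs0)

end Groth.Agent.S18769
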