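import Groth.Statements.S18772
import Groth.Agent.L21.TFNodal.Factor

set_option autoImplicit false
set_option linter.style.haveILetI false
set_option backward.isDefEq.respectTransparency false
universe u
open CategoryTheory CategoryTheory.Limits AlgebraicGeometry
open TFNodal

namespace Groth.Agent.S18772

/-- Let k be algebraically closed of characteristic zero, X a connected proper curve over k (dimension
one) whose closed points are smooth points or nodes, and π : Y → X its normalization, given as a
finite morphism from a smooth k-scheme that is an isomorphism over the complement U of the nodes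
with dense preimage of U; let F be a coherent O_X-module, torsion free of rank r with type a(x) at
each node x (stalk free of rank r off the nodes, isomorphic to O_x^{a(x)} ⊕ m_x^{r − a(x)} at a node
x). Let p : π^*F → E₀ be an epimorphism onto a locally free O_Y-module of rank r and β : F → π_*E₀
the composite of the unit with π_*p. Then every monomorphism f : F → π_*E into the direct image of a
locally free O_Y-module E of rank r factors as β followed by π_*λ for exactly one λ : E₀ → E. -/
theorem result (k : Type u) [Field k] [IsAlgClosed k] [CharZero k]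
    (X : Scheme.{u}) [X.Over (Spec (CommRingCat.of k))] [IsProper (X ↘ Spec (CommRingCat.of k))]
    [ConnectedSpace X] (hdim : topologicalKrullDim X = 1) (hnod : Curv2.AtWorstNodal k X)
    (Y : Scheme.{u}) (π : Y ⟶ X) [IsFinite π] [Smooth (π ≫ (X ↘ Spec (CommRingCat.of k)))]
    (U : X.Opens) (hU : ∀ x : X, x ∈ U ↔ ¬ Curv2.IsNode k X x) (hUiso : IsIso (π ∣_ U))
    (hUd : Dense ((π ⁻¹ᵁ U : Y.Opens) : Set Y))
    (r : ℕ) (F : X.Modules) (hF : Coh.IsCoh F) (a : X → ℕ)
    (hfree : ∀ x : X, ¬ Curv2.IsNode k X x →
      Nonempty (F.presheaf.stalk x ≃ₗ[X.presheaf.stalk x] (Fin r → X.presheaf.stalk x)))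
    (htype : ∀ x : X, Curv2.IsNode k X x → a x ≤ r ∧
      Nonempty (F.presheaf.stalk x ≃ₗ[X.presheaf.stalk x]
        ((Fin (a x) → X.presheaf.stalk x) × (Fin (r - a x) → IsLocalRing.maximalIdeal (X.presheaf.stalk x)))))
    (E₀ : Y.Modules) (hE₀ : FlatMod.IsFinLocFreeOfRank r E₀)
    (p : (Scheme.Modules.pullback π).obj F ⟶ E₀) [Epi p]
    (E : Y.Modules) (hE : FlatMod.IsFinLocFreeOfRank r E)
    (f : F ⟶ (Scheme.Modules.pushforward π).obj E) [Mono f] :
    ∃! lam : E₀ ⟶ E, (Scheme.Modules.pullbackPushforwardAdjunction π).unit.app F ≫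
      (Scheme.Modules.pushforward π).map p ≫ (Scheme.Modules.pushforward π).map lam = f := by
  have h := Groth.L21.TFNodal.setting_of_hyps hdim hnod hU hUiso hUd
  haveI := h.noetherian
  haveI : IsLocallyNoetherian Y := LocallyOfFiniteType.isLocallyNoetherian π
  haveI : AlgebraicGeometry.IsReduced Y := Groth.L21.NormRed.isReduced_of_normal h.hnorm
  haveI : Coh.IsQCoh F := hF.1
  haveI : Coh.IsQCoh ((Scheme.Modules.pullback π).obj F) := Groth.L16.AffineBC.isQCoh_pullback π F
  haveI : Coh.IsQCoh E₀ := Groth.L21.TFNodal.isQCoh_of_rank hE₀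
  haveI : Coh.IsQCoh E := Groth.L21.TFNodal.isQCoh_of_rank hE
  let adj := Scheme.Modules.pullbackPushforwardAdjunction π
  haveI hβ : Mono (adj.unit.app F ≫ (Scheme.Modules.pushforward π).map p) :=
    (Groth.Agent.S18770.result k X hdim hnod Y π U hU hUiso hUd r F hF a hfree htype E₀ hE₀ p).1
  let g : (Scheme.Modules.pullback π).obj F ⟶ E := (adj.homEquiv F E).symm f
  have hg : adj.unit.app F ≫ (Scheme.Modules.pushforward π).map g = f :=
    (adj.homEquiv_unit F E g).symm.trans ((adj.homEquiv F E).apply_symm_apply f)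
  have hk : kernel.ι p ≫ g = 0 := by
    refine Groth.L21.TFNodal.eq_zero_of_stalk_dense (Groth.L21.TFNodal.isTorsionFree_of_rank hE) _ _ hUd
      fun y hy v => ?_
    have hinj := Groth.L21.TFNodal.injective_stalk_of_mem_preimage h (adj.unit.app F)
      (Groth.L21.TFNodal.generates_unit F) p (y := y) hy
    have h0 : ((Groth.L00.Stk.F Y y).map (kernel.ι p)).hom v = 0 := by
      refine hinj ?_
      rw [map_zero, ← LinearMap.comp_apply, ← ModuleCat.hom_comp, ← Functor.map_comp, kernel.condition,
        Functor.map_zero]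
      rfl
    rw [Functor.map_comp, ModuleCat.hom_comp, LinearMap.comp_apply, h0, map_zero]
  let lam : E₀ ⟶ E := (Abelian.epiIsCokernelOfKernel _ (kernelIsKernel p)).desc (CokernelCofork.ofπ g hk)
  have hlam : p ≫ lam = g :=
    (Abelian.epiIsCokernelOfKernel _ (kernelIsKernel p)).fac (CokernelCofork.ofπ g hk) WalkingParallelPair.one
  refine ⟨lam, ?_, fun l hl => ?_⟩
  · show adj.unit.app F ≫ _ = f
    rw [← Functor.map_comp, hlam, hg]
  · rw [← cancel_epi p, hlam]
    refine (adj.homEquiv F E).injective ?_
    rw [adj.homEquiv_unit, adj.homEquiv_unit, hg, Functor.map_comp]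
    exact hl

end Groth.Agent.S18772
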