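import Groth.Statements.S18774
import Groth.Agent.L21.Bundle.Normalized

set_option autoImplicit false
set_option backward.isDefEq.respectTransparency false
universe u
open CategoryTheory CategoryTheory.Limits AlgebraicGeometry
open VBCurve

namespace Groth.Agent.S18774

/-- Let k be a finite field and C a smooth proper geometrically integral curve over k (proper, smooth
and geometrically integral over k, of dimension one), and write g = dim_k H^1(C, O_C). Let E be a
finite locally free O_C-module and F a finite locally free submodule of E of rank r' ≥ 1 (a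
monomorphism F → E). Then deg F ≤ r' · (dim_k H^0(C, E) + g − 1), that is, the slope of F is at most
h^0(C, E) + g − 1; here the degree of a rank-n locally free module G is χ(G) − n·χ(O_C). -/
theorem result (k : Type u) [Field k] [Finite k] (X : Scheme.{u}) [X.Over (Spec (CommRingCat.of k))]
    [IsProper (X ↘ Spec (CommRingCat.of k))] [Smooth (X ↘ Spec (CommRingCat.of k))]
    [GeometricallyIntegral (X ↘ Spec (CommRingCat.of k))] (hdim : topologicalKrullDim ↥X = 1)
    (E : X.Modules) (hE : FlatMod.IsFinLocFree E) (F : X.Modules) (r' : ℕ) (hr' : 0 < r')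
    (hF : FlatMod.IsFinLocFreeOfRank r' F) (i : F ⟶ E) [Mono i] :
    Curv2.deg k X F r' ≤ (r' : ℤ) * ((Module.finrank k (Coh.HH X E 0) : ℤ) + (Curv2.genus k X : ℤ) - 1) := by
  haveI : IsIntegral X := GeometricallyIntegral.isIntegral_of_subsingleton (X ↘ Spec (CommRingCat.of k))
  haveI := Groth.L21.RR.isNoetherian_of_proper (X := X) k
  have h0 : Groth.L21.RR.h k 0 (Coh.structureModule X) = 1 :=
    Groth.L21.RR.h0_eq_one_of_geometricallyIntegral k hdim
  have hcE : Coh.IsCoh E := Groth.L16.NegPow.isCoh_of_isFinLocFree hE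
  haveI := Groth.L21.RR.finite_HH' k hcE 0
  have h1 : Groth.L21.RR.h k 0 F ≤ Groth.L21.RR.h k 0 E :=
    LinearMap.finrank_le_finrank_of_injective (f := Groth.L21.RR.hk k i 0) (Groth.L21.RR.injective_hmap_zero i)
  have hχ := Groth.L21.Bundle.euler_bundle k hdim h0 hF
  rw [Groth.L21.RR.euler_eq k hdim.le] at hχ
  rw [Groth.L21.Bundle.dg_eq k hF]
  have h1' : (Groth.L21.RR.h k 0 F : ℤ) ≤ Module.finrank k (Coh.HH X E 0) := by exact_mod_cast h1
  have hr : (1 : ℤ) ≤ r' := by exact_mod_cast hr'
  nlinarith [Int.natCast_nonneg (Groth.L21.RR.h k 1 F), Int.natCast_nonneg (Module.finrank k (Coh.HH X E 0))]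

end Groth.Agent.S18774
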