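import Groth.Statements.S18776
import Groth.Agent.L21.Bundle.Embed
import Groth.Agent.L21.Sep.CurveSeries
import Groth.Agent.L21.Weil.TensorBound

set_option autoImplicit false
set_option backward.isDefEq.respectTransparency false
universe u
open CategoryTheory CategoryTheory.Limits AlgebraicGeometry
open VBCurve

namespace Groth.Agent.S18776

/-- Let k be a finite field and C a smooth proper geometrically integral curve over k (proper, smooth
and geometrically integral over k, of dimension one) of genus one, i.e. dim_k H^1(C, O_C) = 1, with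
a k-rational point O (an elliptic curve over k). Let F and F' be finite locally free O_C-modules of
ranks r ≥ 1 and s ≥ 1 such that F is semistable in the sense that deg G · rk F ≤ deg F · rk G for
every finite locally free submodule G of F of positive rank (the degree of a rank-n locally free
module being χ − n·χ(O_C)), and likewise for F'. Then for every finite locally free submodule G of F
⊗ F' of rank t ≥ 1 one has μ(G) − μ(F) − μ(F') ≤ 4, that is deg G · r · s ≤ t · (4 r s + deg F · s +
deg F' · r). (The published statement takes F and F' arbitrary; that form fails for F the direct sum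
of invertible modules of degrees 5 and −5 and F' = O_C, so both are taken semistable here, as the
published argument requires.) -/
theorem result (k : Type u) [Field k] [Finite k] (X : Scheme.{u}) [X.Over (Spec (CommRingCat.of k))]
    [IsProper (X ↘ Spec (CommRingCat.of k))] [Smooth (X ↘ Spec (CommRingCat.of k))]
    [GeometricallyIntegral (X ↘ Spec (CommRingCat.of k))] (hdim : topologicalKrullDim ↥X = 1)
    (hg : Curv2.genus k X = 1) (O : Spec (CommRingCat.of k) ⟶ X) (hO : O ≫ (X ↘ Spec (CommRingCat.of k)) = 𝟙 _)
    (F F' : X.Modules) (r s : ℕ) (hr : 0 < r) (hs : 0 < s)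
    (hF : FlatMod.IsFinLocFreeOfRank r F) (hF' : FlatMod.IsFinLocFreeOfRank s F')
    (hFss : (∀ (G : X.Modules) (r' : ℕ) (i : G ⟶ F), Mono i → 0 < r' → FlatMod.IsFinLocFreeOfRank r' G →
      Curv2.deg k X G r' * (r : ℤ) ≤ Curv2.deg k X F r * (r' : ℤ)))
    (hF'ss : (∀ (G : X.Modules) (r' : ℕ) (i : G ⟶ F'), Mono i → 0 < r' → FlatMod.IsFinLocFreeOfRank r' G →
      Curv2.deg k X G r' * (s : ℤ) ≤ Curv2.deg k X F' s * (r' : ℤ)))
    (G : X.Modules) (t : ℕ) (ht : 0 < t) (hG : FlatMod.IsFinLocFreeOfRank t G)
    (i : G ⟶ CohB1.tensorMod F F') [Mono i] :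
    Curv2.deg k X G t * (r : ℤ) * (s : ℤ) ≤
      (t : ℤ) * (4 * (r : ℤ) * (s : ℤ) + Curv2.deg k X F r * (s : ℤ) + Curv2.deg k X F' s * (r : ℤ)) := by
  haveI : IsIntegral X := GeometricallyIntegral.isIntegral_of_subsingleton (X ↘ Spec (CommRingCat.of k))
  haveI := Groth.L21.RR.isNoetherian_of_proper (X := X) k
  have hreg := Groth.L21.Smooth.regular_stalk (k := k) (X ↘ Spec (CommRingCat.of k))
  have h0 : Groth.L21.RR.h k 0 (Coh.structureModule X) = 1 :=
    Groth.L21.RR.h0_eq_one_of_geometricallyIntegral k hdim
  have hO' := hO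
  haveI : IsClosedImmersion O := by
    haveI : IsClosedImmersion (O ≫ (X ↘ Spec (CommRingCat.of k))) := by rw [hO']; infer_instance
    exact IsClosedImmersion.of_comp O (X ↘ Spec (CommRingCat.of k))
  let p : Spec (CommRingCat.of k) := IsLocalRing.closedPoint k
  have hz : IsClosed ({O p} : Set X) := by
    have : Set.range O = {O p} := by
      ext x
      constructor
      · rintro ⟨q, rfl⟩
        exact congrArg O (Subsingleton.elim (α := PrimeSpectrum k) q p)
      · rintro rfl
        exact ⟨p, rfl⟩
    rw [← this]
    exact O.isClosedEmbedding.isClosed_range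
  rw [Groth.L21.Bundle.dg_eq k hG, Groth.L21.Bundle.dg_eq k hF, Groth.L21.Bundle.dg_eq k hF']
  exact Groth.L21.Weil.dg_sub_tensor_le k hreg hdim h0 hg hz
    (Groth.L21.Bundle.finrank_residue_of_isRat k (Groth.L21.RR.isRat_of_section k O hO p)) hr hs hF hF'
    (Groth.L21.Bundle.bd_of_ss k hreg hdim.le hF hFss) (Groth.L21.Bundle.bd_of_ss k hreg hdim.le hF' hF'ss) hG i

end Groth.Agent.S18776
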