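import Groth.Statements.S18778
import Groth.Agent.L21.Bundle.Sections
import Groth.Agent.L21.Bundle.DualityApps

set_option autoImplicit false
set_option backward.isDefEq.respectTransparency false
universe u
open CategoryTheory CategoryTheory.Limits AlgebraicGeometry
open VBCurve

namespace Groth.Agent.S18778

/-- Let k be a finite field and C a smooth proper geometrically integral curve over k (proper, smooth
and geometrically integral over k, of dimension one) of genus one, i.e. dim_k H^1(C, O_C) = 1, with
a k-rational point O (an elliptic curve over k). Let G be a finite locally free O_C-module of rank r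
≥ 1 and degree 0, where the degree of a rank-n locally free module H is χ(H) − n·χ(O_C), which is
semistable: deg H · r ≤ deg G · rk H = 0 for every finite locally free submodule H of G of positive
rank. Then dim_k H^0(C, G) ≤ r. -/
theorem result (k : Type u) [Field k] [Finite k] (X : Scheme.{u}) [X.Over (Spec (CommRingCat.of k))]
    [IsProper (X ↘ Spec (CommRingCat.of k))] [Smooth (X ↘ Spec (CommRingCat.of k))]
    [GeometricallyIntegral (X ↘ Spec (CommRingCat.of k))] (hdim : topologicalKrullDim ↥X = 1)
    (hg : Curv2.genus k X = 1) (O : Spec (CommRingCat.of k) ⟶ X) (hO : O ≫ (X ↘ Spec (CommRingCat.of k)) = 𝟙 _)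
    (G : X.Modules) (r : ℕ) (hr : 0 < r) (hG : FlatMod.IsFinLocFreeOfRank r G)
    (hdeg : Curv2.deg k X G r = 0)
    (hGss : (∀ (H : X.Modules) (r' : ℕ) (i : H ⟶ G), Mono i → 0 < r' → FlatMod.IsFinLocFreeOfRank r' H →
      Curv2.deg k X H r' * (r : ℤ) ≤ Curv2.deg k X G r * (r' : ℤ))) :
    Module.finrank k (Coh.HH X G 0) ≤ r := by
  haveI : IsIntegral X := GeometricallyIntegral.isIntegral_of_subsingleton (X ↘ Spec (CommRingCat.of k))
  haveI := Groth.L21.RR.isNoetherian_of_proper (X := X) k
  have hreg := Groth.L21.Smooth.regular_stalk (k := k) (X ↘ Spec (CommRingCat.of k))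
  have hO' := hO
  haveI : IsClosedImmersion O := by
    haveI : IsClosedImmersion (O ≫ (X ↘ Spec (CommRingCat.of k))) := by rw [hO']; infer_instance
    exact IsClosedImmersion.of_comp O (X ↘ Spec (CommRingCat.of k))
  let p : Spec (CommRingCat.of k) := IsLocalRing.closedPoint k
  have hz : IsClosed ({O p} : Set X) := by
    have : Set.range O = {O p} := by
      ext x
      constructor
      · rintro ⟨q, rfl⟩
        exact congrArg O (Subsingleton.elim (α := PrimeSpectrum k) q p)
      · rintro rfl
        exact ⟨p, rfl⟩
    rw [← this]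
    exact O.isClosedEmbedding.isClosed_range
  haveI := hreg (O p)
  obtain ⟨L, s, -, -, hL, hd1, hs, -⟩ := Groth.L21.RR.exists_deg_one_section k hdim.le hz
    (fun h => Groth.L21.Bundle.not_isClosed_generic hdim (h ▸ hz))
    (Groth.L21.RR.isRat_of_section k O hO p)
    (Groth.L21.SmoothDescent.isPrincipal_of_dim_le_one ((Groth.L21.SmoothDescent.ringKrullDim_stalk_le _).trans hdim.le))
  have hb := Groth.L21.Bundle.bd_of_ss k hreg hdim.le hG hGss
  rw [← Groth.L21.Bundle.dg_eq k hG, hdeg] at hb
  exact (Groth.L21.Bundle.h0_le_of_bd k hreg hdim hL hd1 hs 1 hG hb (by push_cast; omega)).trans_eq (mul_one r)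

end Groth.Agent.S18778
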