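import Groth.Statements.S18779
import Groth.Agent.L21.Bundle.Split

set_option autoImplicit false
set_option backward.isDefEq.respectTransparency false
universe u
open CategoryTheory CategoryTheory.Limits AlgebraicGeometry
open VBCurve

namespace Groth.Agent.S18779

/-- Let k be a finite field and C a smooth proper geometrically integral curve over k (proper, smooth
and geometrically integral over k, of dimension one) of genus one, i.e. dim_k H^1(C, O_C) = 1, with
a k-rational point O (an elliptic curve over k). Let 0 → A → E → B → 0 be a short exact sequence of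
O_C-modules in which A and B are finite locally free of ranks a ≥ 1 and b ≥ 1, A is semistable in
the sense that deg G · rk A ≤ deg A · rk G for every finite locally free submodule G of A of
positive rank (the degree of a rank-n locally free module being χ − n·χ(O_C)), likewise for B, and
μ(A) > μ(B), that is deg B · a < deg A · b. Then the sequence splits: E → B is a split epimorphism,
so E ≅ A ⊕ B. (This is the case of a two-step filtration; the published statement, that a vector
bundle on an elliptic curve is the direct sum of the graded pieces of its Harder–Narasimhan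
filtration, follows by induction on the length and is not restated in that form.) (The published
setting takes k of characteristic at least 5; the argument does not use this and the row allows
every finite field.) -/
theorem result (k : Type u) [Field k] [Finite k] (X : Scheme.{u}) [X.Over (Spec (CommRingCat.of k))]
    [IsProper (X ↘ Spec (CommRingCat.of k))] [Smooth (X ↘ Spec (CommRingCat.of k))]
    [GeometricallyIntegral (X ↘ Spec (CommRingCat.of k))] (hdim : topologicalKrullDim ↥X = 1)
    (hg : Curv2.genus k X = 1) (O : Spec (CommRingCat.of k) ⟶ X) (hO : O ≫ (X ↘ Spec (CommRingCat.of k)) = 𝟙 _)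
    (T : ShortComplex X.Modules) (hT : T.ShortExact)
    (a b : ℕ) (ha : 0 < a) (hb : 0 < b)
    (hA : FlatMod.IsFinLocFreeOfRank a T.X₁) (hB : FlatMod.IsFinLocFreeOfRank b T.X₃)
    (hAss : (∀ (G : X.Modules) (r' : ℕ) (i : G ⟶ T.X₁), Mono i → 0 < r' → FlatMod.IsFinLocFreeOfRank r' G →
      Curv2.deg k X G r' * (a : ℤ) ≤ Curv2.deg k X T.X₁ a * (r' : ℤ)))
    (hBss : (∀ (G : X.Modules) (r' : ℕ) (i : G ⟶ T.X₃), Mono i → 0 < r' → FlatMod.IsFinLocFreeOfRank r' G →
      Curv2.deg k X G r' * (b : ℤ) ≤ Curv2.deg k X T.X₃ b * (r' : ℤ)))
    (hslope : Curv2.deg k X T.X₃ b * (a : ℤ) < Curv2.deg k X T.X₁ a * (b : ℤ)) :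
    IsSplitEpi T.g := by
  haveI : IsIntegral X := GeometricallyIntegral.isIntegral_of_subsingleton (X ↘ Spec (CommRingCat.of k))
  haveI := Groth.L21.RR.isNoetherian_of_proper (X := X) k
  have hreg := Groth.L21.Smooth.regular_stalk (k := k) (X ↘ Spec (CommRingCat.of k))
  have h0 : Groth.L21.RR.h k 0 (Coh.structureModule X) = 1 :=
    Groth.L21.RR.h0_eq_one_of_geometricallyIntegral k hdim
  haveI := Groth.L17.Duality.hasSheafHom T.X₃
  have hΩ := Groth.L21.Duality.isInvertible_omega (X := X) (k := k) hdim
  have hdΩ : Curv2.deg k X (Groth.L21.Bundle.omega (X := X) k) 1 = 0 := by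
    rw [Groth.L21.Bundle.dg_eq k (Groth.L21.Bundle.locFree_one hΩ), Groth.L21.Bundle.dg_omega k hdim h0, hg]
    norm_num
  haveI := Groth.L21.Bundle.subsingleton_h1_homMod k hdim h0 hA hB fun φ => by
    refine Groth.L21.Bundle.hom_eq_zero_of_sbd k hreg hdim.le hA
      (Groth.L21.Bundle.locFree_twist hdim hreg hΩ hB) (Groth.L21.Bundle.bd_of_ss k hreg hdim.le hA hAss) ?_ φ
    have hs : Groth.L21.Bundle.SBd k T.X₃ (Groth.L21.Bundle.dg k T.X₁) a :=
      Groth.L21.Bundle.sbd_of k hreg hdim.le hB fun G r' i hi hr' hG => by
        have h1 := hBss G r' i hi hr' hG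
        rw [← Groth.L21.Bundle.dg_eq k hA]
        have hbz : (0 : ℤ) < b := by exact_mod_cast hb
        have haz : (0 : ℤ) ≤ a := Int.natCast_nonneg a
        have hrz : (0 : ℤ) < r' := by exact_mod_cast hr'
        have h2 := mul_le_mul_of_nonneg_right h1 haz
        have h3 := mul_lt_mul_of_pos_right hslope hrz
        by_contra h4
        push Not at h4
        have h5 := mul_le_mul_of_nonneg_right h4 hbz.le
        nlinarith
    have h6 := Groth.L21.Bundle.sbd_twist k hdim hΩ hs
    rwa [hdΩ, mul_zero, add_zero] at h6
  exact Groth.L21.Bundle.isSplitEpi_of_h1_homMod hT (Groth.L22.CurveDeg.isFinLocFree_of_rank hB)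

end Groth.Agent.S18779
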