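import Groth.Statements.S18784
import Groth.Agent.L21.CurveDual.Reduced
import Groth.Agent.L08.Cube.FibreFun

set_option autoImplicit false
set_option backward.isDefEq.respectTransparency false
universe u
open CategoryTheory CategoryTheory.Limits AlgebraicGeometry
attribute [local instance] HasDerivedCategory.standard
open Curves

namespace Groth.Agent.S18784

/-- Let k be a perfect field and X a proper scheme over k of dimension one which is geometrically
connected and geometrically reduced over k, Gorenstein with trivial dualizing sheaf: its dualizing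
module ω_X (the degree −1 cohomology sheaf of f^! O for the structure morphism f, assuming Rf_* on
D_QCoh and its right adjoint exist) is isomorphic to O_X. Let D be an effective Cartier divisor on X
of positive degree, given here as an invertible module L = O_X(D) with a monomorphism s : O_X → L
and deg L = χ(L) − χ(O_X) > 0. Then H^1(X, O_X(D)) = 0. (The first assertion of the lemma, H^0(X,
O_X) = k, is not restated.) -/
theorem result (k : Type u) [Field k] [PerfectField k]
    (X : Scheme.{u}) [X.Over (Spec (CommRingCat.of k))] [IsProper (X ↘ Spec (CommRingCat.of k))]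
    [GeometricallyConnected (X ↘ Spec (CommRingCat.of k))] [GeometricallyReduced (X ↘ Spec (CommRingCat.of k))]
    (hdim : topologicalKrullDim ↥X = 1)
    [DCoh.HasRpush (X ↘ Spec (CommRingCat.of k))] (h : DCoh.RpushPreservesQCoh (X ↘ Spec (CommRingCat.of k))) [DCoh.HasShriek (X ↘ Spec (CommRingCat.of k)) h]
    (OY : DCoh.DQCoh (Spec (CommRingCat.of k))) (hOY : Nonempty (OY.obj ≅ DCoh.inD (Spec (CommRingCat.of k)) (Coh.structureModule (Spec (CommRingCat.of k)))))
    (hω : Nonempty (DCoh.dualizingMod (X ↘ Spec (CommRingCat.of k)) h OY 1 ≅ Coh.structureModule X))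
    (L : X.Modules) (hL : PicF.IsInvertible L) (s : Coh.structureModule X ⟶ L) [Mono s]
    (hdeg : 0 < Curv2.deg k X L 1) :
    Subsingleton (Coh.HH X L 1) := by
  haveI : ConnectedSpace X :=
    GeometricallyConnected.connectedSpace_of_subsingleton (X ↘ Spec (CommRingCat.of k))
  haveI : Nonempty X := ConnectedSpace.toNonempty
  haveI : IsReduced X :=
    GeometricallyReduced.isReduced_of_flat_of_isLocallyNoetherian (X ↘ Spec (CommRingCat.of k))
  have hb := Groth.L08.Cube.bijective_toGlobal_of_geometric (X ↘ Spec (CommRingCat.of k))
  have h0 : Groth.L21.RR.h k 0 (Coh.structureModule X) = 1 := by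
    let g : k →ₗ[k] Coh.HH X (Coh.structureModule X) 0 :=
      LinearMap.toSpanSingleton k _ ((Groth.L21.RR.e0 (Coh.structureModule X)).symm (show Γ(X, ⊤) from 1))
    have hg : Function.Bijective g := by
      have hfun : ∀ c, Groth.L21.RR.e0 (Coh.structureModule X) (g c) =
          (show Γ(X, ⊤) from Coh.toGlobal (X ↘ Spec (CommRingCat.of k)) c) := fun c => by
        change Groth.L21.RR.e0 (Coh.structureModule X) (c • _) = _
        rw [Groth.L21.RR.e0_smul, AddEquiv.apply_symm_apply]
        exact mul_one (M := Γ(X, ⊤)) _
      refine ⟨fun a b hab => hb.1 ?_, fun y => ?_⟩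
      · exact ((hfun a).symm.trans (congrArg _ hab)).trans (hfun b)
      · obtain ⟨c, hc⟩ := hb.2 (Groth.L21.RR.e0 (Coh.structureModule X) y)
        exact ⟨c, (Groth.L21.RR.e0 (Coh.structureModule X)).injective ((hfun c).trans hc)⟩
    exact (LinearEquiv.ofBijective g hg).finrank_eq.symm.trans (Module.finrank_self k)
  obtain ⟨t, ht⟩ := Groth.L21.CurveDual.exists_isRDual k hdim.le h OY hOY
  obtain ⟨e⟩ := hω
  exact Groth.L21.CurveDual.h1_zero_of_effective hdim h0 ht e hL s hdeg

end Groth.Agent.S18784
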