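import Groth.Statements.S18786
import Groth.Agent.L21.CycBundle.Main
import Groth.Agent.S7636
import Groth.Agent.L18.Ample
import Mathlib.FieldTheory.Finite.Extension

set_option autoImplicit false
set_option backward.isDefEq.respectTransparency false
set_option backward.isDefEq.respectTransparency.types false
set_option linter.style.haveILetI false
universe u
open CategoryTheory CategoryTheory.Limits AlgebraicGeometry
open VBCurve

namespace Groth.Agent.S18786

/-- Let k be a finite field and C a smooth proper geometrically integral curve over k (proper, smooth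
and geometrically integral over k, of dimension one) of genus one, i.e. dim_k H^1(C, O_C) = 1, with
a k-rational point O (an elliptic curve over k); k is finite with q elements. Let G be a finite
locally free O_C-module of rank 2 and degree 0 (the degree of a rank-n locally free module being χ −
n·χ(O_C)) which is indecomposable (nonzero, no isomorphism with a direct sum of two nonzero modules)
but not geometrically indecomposable (its pull-back to C_K splits into two nonzero summands for some
field extension K of k, taken in the universe of k), and put E = O_C ⊕ G. Then Aut(E) has exactly (q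
− 1)(q² − 1) elements. (The accompanying bound on the number of isomorphism classes of such E is not
restated.) (The published setting takes k of characteristic at least 5; the argument does not use
this and the row allows every finite field.) -/
theorem result (k : Type u) [Field k] [Finite k] (X : Scheme.{u}) [X.Over (Spec (CommRingCat.of k))]
    [IsProper (X ↘ Spec (CommRingCat.of k))] [Smooth (X ↘ Spec (CommRingCat.of k))]
    [GeometricallyIntegral (X ↘ Spec (CommRingCat.of k))] (hdim : topologicalKrullDim ↥X = 1)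
    (hg : Curv2.genus k X = 1) (O : Spec (CommRingCat.of k) ⟶ X) (hO : O ≫ (X ↘ Spec (CommRingCat.of k)) = 𝟙 _)
    (G : X.Modules) (hG : FlatMod.IsFinLocFreeOfRank 2 G) (hdeg : Curv2.deg k X G 2 = 0)
    (hGi : (¬ IsZero G ∧ ∀ (E₁ E₂ : X.Modules), Nonempty (G ≅ E₁ ⊞ E₂) → IsZero E₁ ∨ IsZero E₂)) (hGng : (∃ (K : Type u) (_ : Field K) (_ : Algebra k K) (E₁ E₂ : (Curv2.bc k X K).Modules),
      ¬ IsZero E₁ ∧ ¬ IsZero E₂ ∧ Nonempty ((Scheme.Modules.pullback (Curv2.bcFst k X K)).obj G ≅ E₁ ⊞ E₂))) :
    Nat.card (Aut (Coh.structureModule X ⊞ G)) = (Nat.card k - 1) * (Nat.card k ^ 2 - 1) := by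
  classical
  obtain ⟨p, hp⟩ := CharP.exists k
  haveI := hp
  haveI : Fact p.Prime := ⟨(CharP.char_is_prime_or_zero k p).resolve_right (CharP.char_ne_zero_of_finite k p)⟩
  let K := ULift.{u} (FiniteField.Extension k p 2)
  have hK : Module.finrank k K = 2 :=
    (LinearEquiv.finrank_eq (ULift.moduleEquiv (R := k) (M := FiniteField.Extension k p 2))).trans
      (FiniteField.finrank_extension k p 2)
  haveI : FiniteDimensional k K := Module.finite_of_finrank_pos (by omega)
  haveI : Finite K := Module.finite_of_finite k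
  letI : Fintype (K ≃ₐ[k] K) := Fintype.ofFinite _
  obtain ⟨M, d, hM, -, hnd, hdegM, ⟨e⟩⟩ := Groth.L21.CycBundle.exists_split hdim K Nat.prime_two hG hGi hGng hK
  letI : (Curv2.bc k X K).Over (Spec (CommRingCat.of K)) := ⟨Curv2.bcSnd k X K⟩
  haveI : IsIntegral X := GeometricallyIntegral.isIntegral_of_subsingleton (X ↘ Spec (CommRingCat.of k))
  haveI : IsLocallyNoetherian X := LocallyOfFiniteType.isLocallyNoetherian (X ↘ Spec (CommRingCat.of k))
  have sq := Groth.L21.CycBundle.sq (k := k) (X := X) K
  haveI : Flat (Curv2.bcFst k X K) := MorphismProperty.of_isPullback (P := @Flat) sq.flip (Groth.L03.ShStab.BC.flat_specMap K)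
  haveI : Surjective (Curv2.bcFst k X K) :=
    MorphismProperty.of_isPullback (P := @Surjective) sq.flip (Groth.L03.ShStab.BC.surjective_specMap K)
  haveI : IsProper (Curv2.bc k X K ↘ Spec (CommRingCat.of K)) := Groth.L21.CycBundle.isProper_bc K
  let P := Scheme.Modules.pullback (Curv2.bcFst k X K)
  have hO : PicF.IsInvertible (Coh.structureModule X) := Groth.L18.Ample.isInvertible_structureModule X
  have hPO : FlatMod.IsFinLocFreeOfRank 1 (P.obj (Coh.structureModule X)) :=
    Groth.L12.StabLimit.isFinLocFreeOfRank_pullback _ (Groth.L21.Bundle.locFree_one hO)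
  have hd1 := Groth.L21.CycBundle.dim_bc (k := k) (X := X) hdim K
  have hdegO : Curv2.deg K (Curv2.bc k X K) (P.obj (Coh.structureModule X)) 1 = 0 :=
    (Groth.Agent.S7636.result k X hdim.le K 1 _ (Groth.L21.Bundle.locFree_one hO)).trans
      (Groth.L22.CurveDeg.deg_structure ..)
  have hcard : Fintype.card (K ≃ₐ[k] K) = 2 := by
    rw [← Nat.card_eq_fintype_card, IsGalois.card_aut_eq_finrank, hK]
  let d' := d.reindex (Fintype.equivFinOfCardEq hcard).symm
  have hS : (ShortComplex.mk (d'.j 0) (d'.p 1) (d'.j_p_ne 0 1 (by decide))).ShortExact :=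
    ShortComplex.Splitting.shortExact
      { r := d'.p 0, s := d'.j 1, f_r := d'.j_p 0, s_g := d'.j_p 1, id := by
          have h := d'.total
          rw [Fin.sum_univ_two] at h
          exact h }
  have hPG : FlatMod.IsFinLocFreeOfRank 2 (P.obj G) := Groth.L12.StabLimit.isFinLocFreeOfRank_pullback _ hG
  have hsum := Groth.L21.Bundle.dg_add (X := Curv2.bc k X K) hd1 K hS (Groth.L21.Bundle.isCoh_of_rank (hM _))
    (Groth.L21.Bundle.isCoh_of_rank hPG) (Groth.L21.Bundle.isCoh_of_rank (hM _))
  have hdeg0 : ∀ σ, Curv2.deg K (Curv2.bc k X K) (M σ) 1 = 0 := fun σ => by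
    have h2 : Curv2.deg K (Curv2.bc k X K) (P.obj G) 2 = 0 := (Groth.Agent.S7636.result k X hdim.le K 2 G hG).trans hdeg
    rw [← Groth.L21.Bundle.dg_eq K (hM _), ← Groth.L21.Bundle.dg_eq K hPG, h2, ← Groth.L21.Bundle.dg_eq K (hM _)] at hsum
    have ha := hdegM ((Fintype.equivFinOfCardEq hcard).symm 0) σ
    have hb := hdegM ((Fintype.equivFinOfCardEq hcard).symm 1) σ
    omega
  have hinv := fun σ => Groth.L21.Bundle.isInvertible_of_rank (hM σ)
  have hinvO := Groth.L21.Bundle.isInvertible_of_rank hPO
  have h₁ : ∀ f : Coh.structureModule X ⟶ G, f = 0 := fun f => by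
    refine Groth.L24.KrullSchmidt.eq_zero_of_pullback (Curv2.bcFst k X K) f ?_
    rw [← Category.comp_id (P.map f), ← d.total, Preadditive.comp_sum]
    refine Finset.sum_eq_zero fun σ _ => ?_
    rw [← Category.assoc, Groth.L21.Bundle.AutCurve.hom_eq_zero K (Groth.L21.CycBundle.regular_bc K) hd1 hinvO (hinv σ)
      (hdegO.trans (hdeg0 σ).symm) (fun ⟨i⟩ => hnd σ _ hO ⟨i.symm⟩) (P.map f ≫ d.p σ), Limits.zero_comp]
  have h₂ : ∀ f : G ⟶ Coh.structureModule X, f = 0 := fun f => by
    refine Groth.L24.KrullSchmidt.eq_zero_of_pullback (Curv2.bcFst k X K) f ?_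
    rw [← Category.id_comp (P.map f), ← d.total, Preadditive.sum_comp]
    refine Finset.sum_eq_zero fun σ _ => ?_
    rw [Category.assoc, Groth.L21.Bundle.AutCurve.hom_eq_zero K (Groth.L21.CycBundle.regular_bc K) hd1 (hinv σ) hinvO
      ((hdeg0 σ).trans hdegO.symm) (hnd σ _ hO) (d.j σ ≫ P.map f), Limits.comp_zero]
  obtain ⟨N, -, ⟨eO⟩⟩ := Groth.L08.Cube.exists_inverse hO
  haveI : Nontrivial (End (Coh.structureModule X)) := ⟨⟨1, 0, fun h =>
    Groth.L21.Bundle.not_isZero_of_rank Nat.one_pos (Groth.L21.Bundle.locFree_one hO) ((IsZero.iff_id_eq_zero _).2 h)⟩⟩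
  let eOk : k ≃+* End (Coh.structureModule X) :=
    RingEquiv.ofBijective (algebraMap k (End (Coh.structureModule X))) ⟨(algebraMap k _).injective, fun φ => by
      obtain ⟨c, hc⟩ := Groth.L03.VBPn.exists_eq_smul_id (Groth.L21.CycBundle.constants (k := k) (X := X)) eO φ
      exact ⟨c, (Algebra.algebraMap_eq_smul_one c).trans hc.symm⟩⟩
  rw [Groth.L21.Bundle.AutCat.card_aut_prod h₁ h₂, Groth.L21.Bundle.AutCat.card_aut_simple eOk,
    Groth.L21.Bundle.AutCat.card_aut, Nat.card_congr (Units.mapEquiv e.symm.toRingEquiv.toMulEquiv).toEquiv,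
    Nat.card_units, Module.natCard_eq_pow_finrank (K := k) (V := K), hK]

end Groth.Agent.S18786
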