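import Groth.Statements.S18787
import Groth.Agent.L21.Bundle.AutCurve
import Groth.Agent.L21.Smooth.Scheme
import Groth.Agent.L18.Ample

set_option autoImplicit false
set_option backward.isDefEq.respectTransparency false
set_option linter.style.haveILetI false
universe u
open CategoryTheory CategoryTheory.Limits AlgebraicGeometry
open VBCurve

namespace Groth.Agent.S18787

/-- Let k be a finite field and C a smooth proper geometrically integral curve over k (proper, smooth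
and geometrically integral over k, of dimension one) of genus one, i.e. dim_k H^1(C, O_C) = 1, with
a k-rational point O (an elliptic curve over k); k is finite with q elements. Let L₁ and L₂ be
invertible O_C-modules of degree 0 (χ(L) − χ(O_C) = 0) and E = O_C ⊕ L₁ ⊕ L₂. Then the number of
automorphisms of E is: (q³ − 1)(q³ − q)(q³ − q²) if L₁ ≅ L₂ ≅ O_C; (q − 1)³ (q + 1) q if L₁ ≅ L₂ and
L₁ ≇ O_C; (q − 1)³ (q + 1) q if L₁ ≇ L₂ and L₂ ≅ O_C; and (q − 1)³ if O_C, L₁, L₂ are pairwise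
non-isomorphic. (In the third case the published value is (q − 1)² q³, and the published computation
gives (q − 1)³ q²; but there E ≅ O_C ⊕ O_C ⊕ L₁ with L₁ of degree 0 and non-trivial, whose
endomorphism ring is M₂(k) × k, so Aut(E) ≅ GL₂(k) × kˣ has (q − 1)³ (q + 1) q elements, the same
count as in the second case; the row states this corrected value.) (The published setting takes k of
characteristic at least 5; the argument does not use this and the row allows every finite field.) -/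
theorem result (k : Type u) [Field k] [Finite k] (X : Scheme.{u}) [X.Over (Spec (CommRingCat.of k))]
    [IsProper (X ↘ Spec (CommRingCat.of k))] [Smooth (X ↘ Spec (CommRingCat.of k))]
    [GeometricallyIntegral (X ↘ Spec (CommRingCat.of k))] (hdim : topologicalKrullDim ↥X = 1)
    (hg : Curv2.genus k X = 1) (O : Spec (CommRingCat.of k) ⟶ X) (hO : O ≫ (X ↘ Spec (CommRingCat.of k)) = 𝟙 _)
    (L₁ L₂ : X.Modules) (hL₁ : PicF.IsInvertible L₁) (hL₂ : PicF.IsInvertible L₂)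
    (hd₁ : Curv2.deg k X L₁ 1 = 0) (hd₂ : Curv2.deg k X L₂ 1 = 0) :
    (Nonempty (L₁ ≅ Coh.structureModule X) → Nonempty (L₂ ≅ Coh.structureModule X) →
      Nat.card (Aut (Coh.structureModule X ⊞ L₁ ⊞ L₂)) =
        (Nat.card k ^ 3 - 1) * (Nat.card k ^ 3 - Nat.card k) * (Nat.card k ^ 3 - Nat.card k ^ 2)) ∧
    (Nonempty (L₁ ≅ L₂) → ¬ Nonempty (L₁ ≅ Coh.structureModule X) →
      Nat.card (Aut (Coh.structureModule X ⊞ L₁ ⊞ L₂)) = (Nat.card k - 1) ^ 3 * (Nat.card k + 1) * Nat.card k) ∧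
    (¬ Nonempty (L₁ ≅ L₂) → Nonempty (L₂ ≅ Coh.structureModule X) →
      Nat.card (Aut (Coh.structureModule X ⊞ L₁ ⊞ L₂)) = (Nat.card k - 1) ^ 3 * (Nat.card k + 1) * Nat.card k) ∧
    (¬ Nonempty (L₁ ≅ Coh.structureModule X) → ¬ Nonempty (L₂ ≅ Coh.structureModule X) → ¬ Nonempty (L₁ ≅ L₂) →
      Nat.card (Aut (Coh.structureModule X ⊞ L₁ ⊞ L₂)) = (Nat.card k - 1) ^ 3) := by
  haveI : IsIntegral X := GeometricallyIntegral.isIntegral_of_subsingleton (X ↘ Spec (CommRingCat.of k))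
  haveI := Groth.L21.RR.isNoetherian_of_proper (X := X) k
  letI := Groth.L21.Bundle.AutCurve.linearStruct (X := X) k
  have hreg := Groth.L21.Smooth.regular_stalk (k := k) (X ↘ Spec (CommRingCat.of k))
  have hb := Groth.L08.Cube.bijective_toGlobal_of_geometric (X ↘ Spec (CommRingCat.of k))
  have hO := Groth.L18.Ample.isInvertible_structureModule X
  have hdO : Curv2.deg k X (Coh.structureModule X) 1 = 0 := by simp [Curv2.deg]
  have hz : ∀ {L M : X.Modules}, PicF.IsInvertible L → PicF.IsInvertible M → Curv2.deg k X L 1 = 0 →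
      Curv2.deg k X M 1 = 0 → ¬ Nonempty (L ≅ M) → ∀ f : L ⟶ M, f = 0 :=
    fun hL hM h1 h2 hne f => Groth.L21.Bundle.AutCurve.hom_eq_zero k hreg hdim.le hL hM (h1.trans h2.symm) hne f
  have he : ∀ {L : X.Modules}, PicF.IsInvertible L → Nonempty (k ≃+* End L) := fun hL =>
    ⟨Groth.L21.Bundle.AutCat.scalarEquiv (Groth.L21.Bundle.AutCurve.smul_bijective k hb hL)⟩
  obtain ⟨eO⟩ := he hO
  obtain ⟨eL₁⟩ := he hL₁
  obtain ⟨eL₂⟩ := he hL₂
  have hq : 1 ≤ Nat.card k := Finite.one_lt_card.le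
  have key : ∀ {A B : X.Modules} (eA : k ≃+* End A) (eB : k ≃+* End B), (∀ f : A ⟶ B, f = 0) →
      (∀ f : B ⟶ A, f = 0) →
      Nat.card (Aut (A ⊞ B ⊞ B)) = (Nat.card k - 1) ^ 3 * (Nat.card k + 1) * Nat.card k := by
    intro A B eA eB h1 h2
    rw [Groth.L21.Bundle.AutCat.card_aut_prod
        (fun f => biprod.hom_ext _ _ (by rw [h1 (f ≫ biprod.fst), zero_comp]) (by rw [h1 (f ≫ biprod.snd), zero_comp]))
        (fun f => biprod.hom_ext' _ _ (by rw [h2 (biprod.inl ≫ f), comp_zero]) (by rw [h2 (biprod.inr ≫ f), comp_zero])),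
      Groth.L21.Bundle.AutCat.card_aut_simple eA, Groth.L21.Bundle.AutCat.card_aut_two eB]
    obtain ⟨m, hm⟩ := Nat.exists_eq_add_of_le hq
    rw [hm]
    have e1 : (1 + m) ^ 2 - 1 = m * (m + 2) := by rw [Nat.sub_eq_iff_eq_add (Nat.one_le_pow _ _ (by omega))]; ring
    have e2 : (1 + m) ^ 2 - (1 + m) = m * (m + 1) := by
      rw [Nat.sub_eq_iff_eq_add (Nat.le_self_pow two_ne_zero _)]; ring
    rw [e1, e2, Nat.add_sub_cancel_left]
    ring
  refine ⟨fun ⟨u₁⟩ ⟨u₂⟩ => ?_, fun ⟨u⟩ hne => ?_, fun hne ⟨u₂⟩ => ?_, fun h1 h2 h12 => ?_⟩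
  · rw [Groth.L21.Bundle.AutCat.card_aut_congr
      (biprod.mapIso (Iso.refl (Coh.structureModule X)) (biprod.mapIso u₁ u₂))]
    exact Groth.L21.Bundle.AutCat.card_aut_three eO
  · rw [Groth.L21.Bundle.AutCat.card_aut_congr
      (biprod.mapIso (Iso.refl (Coh.structureModule X)) (biprod.mapIso (Iso.refl L₁) u.symm))]
    exact key eO eL₁ (hz hO hL₁ hdO hd₁ fun ⟨i⟩ => hne ⟨i.symm⟩) (hz hL₁ hO hd₁ hdO hne)
  · have h1 : ¬ Nonempty (L₁ ≅ Coh.structureModule X) := fun ⟨i⟩ => hne ⟨i ≪≫ u₂.symm⟩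
    rw [Groth.L21.Bundle.AutCat.card_aut_congr
      (biprod.mapIso (Iso.refl (Coh.structureModule X)) (biprod.mapIso (Iso.refl L₁) u₂)),
      Groth.L21.Bundle.AutCat.card_aut_congr
      ({ hom := biprod.lift (biprod.snd ≫ biprod.fst) (biprod.lift biprod.fst (biprod.snd ≫ biprod.snd))
         inv := biprod.lift (biprod.snd ≫ biprod.fst) (biprod.lift biprod.fst (biprod.snd ≫ biprod.snd))
         hom_inv_id := by apply biprod.hom_ext <;> [skip; apply biprod.hom_ext] <;> simp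
         inv_hom_id := by apply biprod.hom_ext <;> [skip; apply biprod.hom_ext] <;> simp } :
        Coh.structureModule X ⊞ L₁ ⊞ Coh.structureModule X ≅
          L₁ ⊞ Coh.structureModule X ⊞ Coh.structureModule X)]
    exact key eL₁ eO (hz hL₁ hO hd₁ hdO h1) (hz hO hL₁ hdO hd₁ fun ⟨i⟩ => h1 ⟨i.symm⟩)
  · have a1 := hz hO hL₁ hdO hd₁ fun ⟨i⟩ => h1 ⟨i.symm⟩
    have a2 := hz hO hL₂ hdO hd₂ fun ⟨i⟩ => h2 ⟨i.symm⟩
    have b1 := hz hL₁ hO hd₁ hdO h1
    have b2 := hz hL₂ hO hd₂ hdO h2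
    rw [Groth.L21.Bundle.AutCat.card_aut_prod
        (fun f => biprod.hom_ext _ _ (by rw [a1 (f ≫ biprod.fst), zero_comp]) (by rw [a2 (f ≫ biprod.snd), zero_comp]))
        (fun f => biprod.hom_ext' _ _ (by rw [b1 (biprod.inl ≫ f), comp_zero]) (by rw [b2 (biprod.inr ≫ f), comp_zero])),
      Groth.L21.Bundle.AutCat.card_aut_prod (hz hL₁ hL₂ hd₁ hd₂ h12) (hz hL₂ hL₁ hd₂ hd₁ fun ⟨i⟩ => h12 ⟨i.symm⟩),
      Groth.L21.Bundle.AutCat.card_aut_simple eO, Groth.L21.Bundle.AutCat.card_aut_simple eL₁,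
      Groth.L21.Bundle.AutCat.card_aut_simple eL₂]
    ring

end Groth.Agent.S18787
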