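import Groth.Statements.S18788
import Groth.Agent.L21.Bundle.AutCurve
import Groth.Agent.L21.Smooth.Scheme
import Groth.Agent.L18.Ample

set_option autoImplicit false
set_option backward.isDefEq.respectTransparency false
set_option linter.style.haveILetI false
universe u
open CategoryTheory CategoryTheory.Limits AlgebraicGeometry
open VBCurve

namespace Groth.Agent.S18788

/-- Let k be a finite field and C a smooth proper geometrically integral curve over k (proper, smooth
and geometrically integral over k, of dimension one) of genus one, i.e. dim_k H^1(C, O_C) = 1, with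
a k-rational point O (an elliptic curve over k); k is finite with q elements. Let F be an O_C-module
with a short exact sequence 0 → O_C → F → O_C → 0 that does not split, and L an invertible
O_C-module of degree 0 (χ(L) − χ(O_C) = 0). Then Aut(O_C ⊕ F) has (q − 1)² q³ elements, and if L ≇
O_C then Aut(O_C ⊕ (L ⊗ F)) has (q − 1)² q elements. (The source states this for E = O_C ⊕ G with G
a geometrically indecomposable rank-2 bundle of degree 0, which it writes as L ⊗ F with F the
non-split self-extension of O_C by a classification it quotes; the row takes G in that form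
directly. The accompanying count of isomorphism classes is not restated.) (The published setting
takes k of characteristic at least 5; the argument does not use this and the row allows every finite
field.) -/
theorem result (k : Type u) [Field k] [Finite k] (X : Scheme.{u}) [X.Over (Spec (CommRingCat.of k))]
    [IsProper (X ↘ Spec (CommRingCat.of k))] [Smooth (X ↘ Spec (CommRingCat.of k))]
    [GeometricallyIntegral (X ↘ Spec (CommRingCat.of k))] (hdim : topologicalKrullDim ↥X = 1)
    (hg : Curv2.genus k X = 1) (O : Spec (CommRingCat.of k) ⟶ X) (hO : O ≫ (X ↘ Spec (CommRingCat.of k)) = 𝟙 _)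
    (T : ShortComplex X.Modules) (hT : T.ShortExact)
    (e₁ : T.X₁ ≅ Coh.structureModule X) (e₃ : T.X₃ ≅ Coh.structureModule X) (hns : ¬ IsSplitEpi T.g)
    (L : X.Modules) (hL : PicF.IsInvertible L) (hdeg : Curv2.deg k X L 1 = 0) :
    Nat.card (Aut (Coh.structureModule X ⊞ T.X₂)) = (Nat.card k - 1) ^ 2 * Nat.card k ^ 3 ∧
    (¬ Nonempty (L ≅ Coh.structureModule X) →
      Nat.card (Aut (Coh.structureModule X ⊞ CohB1.tensorMod L T.X₂)) = (Nat.card k - 1) ^ 2 * Nat.card k) := by
  haveI : IsIntegral X := GeometricallyIntegral.isIntegral_of_subsingleton (X ↘ Spec (CommRingCat.of k))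
  haveI := Groth.L21.RR.isNoetherian_of_proper (X := X) k
  letI := Groth.L21.Bundle.AutCurve.linearStruct (X := X) k
  have hreg := Groth.L21.Smooth.regular_stalk (k := k) (X ↘ Spec (CommRingCat.of k))
  have hb := Groth.L08.Cube.bijective_toGlobal_of_geometric (X ↘ Spec (CommRingCat.of k))
  have hO := Groth.L18.Ample.isInvertible_structureModule X
  have hdO : Curv2.deg k X (Coh.structureModule X) 1 = 0 := by simp [Curv2.deg]
  have sO := Groth.L21.Bundle.AutCurve.smul_bijective k hb hO
  have sL := Groth.L21.Bundle.AutCurve.smul_bijective k hb hL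
  refine ⟨Groth.L21.Bundle.AutCat.card_aut_sum_selfExt sO hT e₁ e₃ hns, fun hne => ?_⟩
  let S := T.map (Groth.L00.Tensor.tensorLeftF L)
  have hS : S.ShortExact :=
    (ShortComplex.shortExact_iff_of_iso (T.mapNatIso (Groth.L00.Tensor.tensorFlipIso L))).1
      (Groth.L03.Euler.shortExact_tensor hL hT)
  let i₁ : S.X₁ ≅ L := (Groth.L00.Tensor.tensorLeftF L).mapIso e₁ ≪≫ Groth.L00.Tensor.tensorUnitRight L
  let i₃ : S.X₃ ≅ L := (Groth.L00.Tensor.tensorLeftF L).mapIso e₃ ≪≫ Groth.L00.Tensor.tensorUnitRight L
  have hnsS : ¬ IsSplitEpi S.g := by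
    intro h
    haveI : IsSplitEpi ((Groth.L00.Tensor.tensorLeftF L).map T.g) := h
    haveI : IsSplitEpi ((Groth.L00.Tensor.tensorRightF L).map T.g) :=
      Groth.L21.Bundle.isSplitEpi_of_natIso (Groth.L00.Tensor.tensorFlipIso L).symm T.g
    obtain ⟨N, hN, ⟨e⟩⟩ := Groth.L08.Cube.exists_inverse hL
    let E := Groth.L21.Bundle.twistEquiv (L := L) (L' := N) (Groth.L00.Tensor.tensorComm N L ≪≫ e)
    refine hns (IsSplitEpi.mk' ⟨E.functor.preimage (section_ ((Groth.L00.Tensor.tensorRightF L).map T.g)), ?_⟩)
    apply E.functor.map_injective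
    rw [Functor.map_comp, Functor.map_preimage]
    exact (IsSplitEpi.id ((Groth.L00.Tensor.tensorRightF L).map T.g)).trans (E.functor.map_id _).symm
  have a1 : ∀ f : Coh.structureModule X ⟶ L, f = 0 :=
    Groth.L21.Bundle.AutCurve.hom_eq_zero k hreg hdim.le hO hL (hdO.trans hdeg.symm) fun ⟨i⟩ => hne ⟨i.symm⟩
  have b1 : ∀ f : L ⟶ Coh.structureModule X, f = 0 :=
    Groth.L21.Bundle.AutCurve.hom_eq_zero k hreg hdim.le hL hO (hdeg.trans hdO.symm) hne
  show Nat.card (Aut (Coh.structureModule X ⊞ S.X₂)) = _
  rw [Groth.L21.Bundle.AutCat.card_aut_prod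
      (fun f => by
        obtain ⟨χ, hχ⟩ := Groth.L21.Bundle.AutCat.exists_lift hS i₁ i₃ f (a1 _)
        rw [← hχ, a1 χ, zero_comp])
      (fun f => by
        obtain ⟨χ, hχ⟩ := Groth.L21.Bundle.AutCat.exists_desc hS i₁ i₃ f (b1 _)
        rw [← hχ, b1 χ, comp_zero]),
    Groth.L21.Bundle.AutCat.card_aut_simple (Groth.L21.Bundle.AutCat.scalarEquiv sO),
    Groth.L21.Bundle.AutCat.card_aut_selfExt sL hS i₁ i₃ hnsS]
  ring

end Groth.Agent.S18788
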