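import Groth.Statements.S18789
import Groth.Agent.L14.GrFree.Basic

set_option autoImplicit false
universe u v w x
open TorusGr

namespace Groth.Agent.S18789

open DirectSum in
/-- Let `A` be a commutative algebra over a field `k`, graded by an additive commutative group `M` (for
`M` the character group of a split torus `T` this is a `T`-action on `Spec A`, and an `M`-graded
`A`-module is a `T`-equivariant quasi-coherent sheaf), let `P` be a finitely generated projective
`A`-module with a compatible `M`-grading (a locally free `T`-sheaf of finite rank), and let `m` be a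
homogeneous maximal ideal with residue field `k` (a `T`-fixed rational point). If homogeneous
elements `f i` of `P` reduce to a basis of `P/mP`, then there is a homogeneous `s ∉ m` such that
after inverting `s` the `f i` generate `P` and every relation among them is killed by a power of
`s`: on the invariant open `D(s)` the module is free on the homogeneous sections `f i`, with the
weights of the fibre `P/mP`. (The published statement has `M ≅ ℤ^r`, a split torus; here `M` is any
additive commutative group, i.e. any diagonalizable group.) -/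
theorem result
    {k : Type u} [Field k] {M : Type v} [AddCommGroup M] [DecidableEq M]
    {A : Type w} [CommRing A] [Algebra k A] (𝒜 : M → Submodule k A) [GradedAlgebra 𝒜]
    {P : Type x} [AddCommGroup P] [Module A P] [Module k P] [IsScalarTower k A P]
    (ℳ : M → Submodule k P) [Decomposition ℳ] [SetLike.GradedSMul 𝒜 ℳ]
    [Module.Finite A P] [Module.Projective A P]
    (m : Ideal A) [m.IsMaximal] (hm : m.IsHomogeneous 𝒜)
    (hrat : Function.Surjective (algebraMap k (A ⧸ m)))
    {n : ℕ} (wt : Fin n → M) (f : Fin n → P) (hf : ∀ i, f i ∈ ℳ (wt i))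
    (hli : LinearIndependent (A ⧸ m)
      (fun i => (Submodule.Quotient.mk (f i) : P ⧸ (m • (⊤ : Submodule A P)))))
    (hsp : Submodule.span A (Set.range f) ⊔ m • (⊤ : Submodule A P) = ⊤) :
    ∃ s : A, SetLike.IsHomogeneousElem 𝒜 s ∧ s ∉ m ∧
      (∀ p : P, ∃ (N : ℕ) (c : Fin n → A), s ^ N • p = ∑ i, c i • f i) ∧
      (∀ c : Fin n → A, ∑ i, c i • f i = 0 → ∃ N : ℕ, ∀ i, s ^ N * c i = 0) := by
  have H1 : ∀ p : P, ∃ u ∉ m, u • p ∈ Submodule.span A (Set.range f) ⊔ m • (⊤ : Submodule A P) :=
    fun p => ⟨1, fun h => ‹m.IsMaximal›.ne_top ((Ideal.eq_top_iff_one m).2 h), by rw [hsp]; exact Submodule.mem_top⟩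
  have H2 : ∀ c : Fin n → A, ∑ i, c i • f i ∈ m • (⊤ : Submodule A P) → ∀ i, c i ∈ m := by
    intro c hc i
    rw [← Ideal.Quotient.eq_zero_iff_mem]
    refine Fintype.linearIndependent_iff.1 hli (fun i => Ideal.Quotient.mk m (c i)) ?_ i
    rw [← (Submodule.Quotient.mk_eq_zero _).2 hc]
    simp only [← Submodule.mkQ_apply, map_sum, map_smul]
    rfl
  obtain ⟨j, s, hs, hsm, h1, h2⟩ := Groth.L14.GrFree.exists_homogeneous_kill 𝒜 ℳ m hf H1 H2
  exact ⟨s, ⟨j, hs⟩, hsm, fun p => ⟨1, by simpa only [pow_one] using h1 p⟩, fun c hc => ⟨1, fun i => by rw [pow_one]; exact h2 c hc i⟩⟩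

end Groth.Agent.S18789
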