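import Groth.Statements.S18790
import Mathlib.RingTheory.GradedAlgebra.Basic
import Mathlib.RingTheory.Ideal.Operations

set_option autoImplicit false
universe u v w
open TorusGr

namespace Groth.Agent.S18790

/-- Let `A` be a commutative algebra over a field `k`, graded by an additive commutative group `M` (for
`M` the character group of a split torus `T`, a `T`-action on `Spec A`), let `J` be the ideal
generated by the homogeneous elements of non-zero degree (its zero locus is the fixed-point
subscheme) and let `m ⊇ J` be a maximal ideal with residue field `k` (a fixed rational point) at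
which the fixed-point subscheme is the reduced point: `J` and `m` agree after localizing at `m`.
Then the cotangent space `m/m²` has no part of weight zero: every degree-zero element of `m` lies in
`m²`. (The published statement has `M ≅ ℤ^r`, a split torus, and phrases the conclusion as the
non-vanishing of the weights of a semi-invariant basis of `m/m²`; here `M` is any additive
commutative group, i.e. any diagonalizable group.) -/
theorem result
    {k : Type u} [Field k] {M : Type v} [AddCommGroup M] [DecidableEq M]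
    {A : Type w} [CommRing A] [Algebra k A] (𝒜 : M → Submodule k A) [GradedAlgebra 𝒜]
    (m : Ideal A) [m.IsMaximal] (hrat : Function.Surjective (algebraMap k (A ⧸ m)))
    (hfix : ∀ i : M, i ≠ 0 → ∀ a ∈ 𝒜 i, a ∈ m)
    (hred : ∀ a ∈ m, ∃ s ∉ m, s * a ∈ Ideal.span {b : A | ∃ i : M, i ≠ 0 ∧ b ∈ 𝒜 i})
    {f : A} (hf0 : f ∈ 𝒜 0) (hfm : f ∈ m) : f ∈ m ^ 2 := by
  classical
  obtain ⟨s, hs, hsf⟩ := hred f hfm
  obtain ⟨c, hc⟩ := hrat (Ideal.Quotient.mk m s)
  have hs' : s - algebraMap k A c ∈ m := by
    rw [← Ideal.Quotient.eq]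
    exact hc.symm
  have hc0 : c ≠ 0 := by
    rintro rfl
    rw [map_zero, sub_zero] at hs'
    exact hs hs'
  have hcomp : ∀ x ∈ m, (DirectSum.decompose 𝒜 x 0 : A) ∈ m := by
    intro x hx
    have h1 := DirectSum.sum_support_decompose 𝒜 x
    by_cases h0 : (0 : M) ∈ DFinsupp.support (DirectSum.decompose 𝒜 x)
    · rw [← Finset.add_sum_erase _ _ h0] at h1
      rw [eq_sub_of_add_eq h1]
      exact sub_mem hx (sum_mem fun i hi => hfix i (Finset.ne_of_mem_erase hi) _ (SetLike.coe_mem _))
    · rw [DFinsupp.notMem_support_iff.1 h0]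
      exact zero_mem _
  have hJ : ∀ x ∈ Ideal.span {b : A | ∃ i : M, i ≠ 0 ∧ b ∈ 𝒜 i}, ∀ a : A,
      (DirectSum.decompose 𝒜 (a * x) 0 : A) ∈ m ^ 2 := by
    intro x hx
    induction hx using Submodule.span_induction with
    | zero => intro a; simp
    | add y z _ _ hy hz => intro a; rw [mul_add]; simpa using add_mem (hy a) (hz a)
    | smul r y _ hy => intro a; rw [smul_eq_mul, ← mul_assoc]; exact hy _
    | mem b hb =>
      obtain ⟨i, hi, hbi⟩ := hb
      intro a
      have h1 : (DirectSum.decompose 𝒜 (a * b) ((-i) + i) : A) = DirectSum.decompose 𝒜 a (-i) * b :=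
        DirectSum.coe_decompose_mul_add_of_right_mem 𝒜 hbi
      rw [neg_add_cancel] at h1
      rw [h1, sq]
      exact Ideal.mul_mem_mul (hfix (-i) (neg_ne_zero.2 hi) _ (SetLike.coe_mem _)) (hfix i hi b hbi)
  have h1 : (DirectSum.decompose 𝒜 ((s - algebraMap k A c) * f) 0 : A) ∈ m ^ 2 := by
    have h2 : (DirectSum.decompose 𝒜 ((s - algebraMap k A c) * f) ((0 : M) + 0) : A) =
        DirectSum.decompose 𝒜 (s - algebraMap k A c) 0 * f :=
      DirectSum.coe_decompose_mul_add_of_right_mem 𝒜 hf0
    rw [add_zero] at h2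
    rw [h2, sq]
    exact Ideal.mul_mem_mul (hcomp _ hs') hfm
  have h2 := hJ _ hsf 1
  rw [one_mul] at h2
  have e : s * f = (s - algebraMap k A c) * f + c • f := by
    rw [Algebra.smul_def]
    ring
  rw [e, DirectSum.decompose_add, DirectSum.add_apply, Submodule.coe_add,
    DirectSum.decompose_of_mem_same 𝒜 (Submodule.smul_mem _ c hf0)] at h2
  have h3 : c • f ∈ m ^ 2 := (Ideal.add_mem_iff_right _ h1).1 h2
  have h4 := Ideal.mul_mem_left (m ^ 2) (algebraMap k A c⁻¹) h3
  rwa [← Algebra.smul_def, smul_smul, inv_mul_cancel₀ hc0, one_smul] at h4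


end Groth.Agent.S18790
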