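import Groth.Statements.S18791
import Mathlib.LinearAlgebra.Matrix.Determinant.Basic
import Mathlib.LinearAlgebra.Matrix.Adjugate
-- import your own Groth.Agent.* helpers here

set_option autoImplicit false
universe u v w x
open TorusGr

namespace Groth.Agent.S18791

/-- Let `φ : B → A` be a degree-preserving homomorphism of commutative algebras over a field `k` graded
by an additive commutative group `M` (for `M` the character group of a split torus, an equivariant
morphism `Spec A → Spec B`), and let `m` be a maximal ideal of `A` containing all homogeneous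
elements of non-zero degree (a fixed point). Then the ideal of those `b` whose image is zero in the
local ring `A_m` is homogeneous: the homogeneous (weight) components of such a `b` again die in
`A_m`. Since `A_m` embeds in its completion when `A` is Noetherian, these are the elements of `B`
that die in the completed local ring. (The published lemma asserts moreover that, for `B = k[Y_1, …,
Y_d]` mapping the `Y_i` to semi-invariant lifts of a basis of `m/m²`, the kernel of the induced
surjection of completions `k[[Y]] → Â_m` is generated by semi-invariant polynomials; generation of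
that kernel by polynomials can fail, so only the statement about polynomial elements of the kernel
is recorded here. The published statement has `M ≅ ℤ^r` (a split torus) and `B` the polynomial ring
on the lifts; here `M` is any additive commutative group and `B` any `M`-graded `k`-algebra.) -/
theorem result
    {k : Type u} [Field k] {M : Type v} [AddCommGroup M] [DecidableEq M]
    {A : Type w} [CommRing A] [Algebra k A] (𝒜 : M → Submodule k A) [GradedAlgebra 𝒜]
    {B : Type x} [CommRing B] [Algebra k B] (ℬ : M → Submodule k B) [GradedAlgebra ℬ]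
    (φ : B →ₐ[k] A) (hφ : ∀ i : M, ∀ b ∈ ℬ i, φ b ∈ 𝒜 i)
    (m : Ideal A) [m.IsMaximal] (hfix : ∀ i : M, i ≠ 0 → ∀ a ∈ 𝒜 i, a ∈ m) :
    (RingHom.ker ((algebraMap A (Localization.AtPrime m)).comp (φ : B →+* A))).IsHomogeneous ℬ := by
  classical
  intro i b hb
  rw [RingHom.mem_ker, RingHom.comp_apply, IsLocalization.map_eq_zero_iff m.primeCompl] at hb
  obtain ⟨⟨s, hs⟩, hsb⟩ := hb
  replace hsb : s * φ b = 0 := hsb
  have hdec : ∀ {x : A} (j : M), j ≠ 0 → ((DirectSum.decompose 𝒜 x j : 𝒜 j) : A) ∈ m :=
    fun {x} j hj => hfix j hj _ (DirectSum.decompose 𝒜 x j).2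
  let F : Finset M := (DirectSum.decompose ℬ b).support
  let v : F → A := fun k => φ ((DirectSum.decompose ℬ b (k : M) : ℬ (k : M)) : B)
  let Mat : Matrix F F A := Matrix.of fun j k : F => ((DirectSum.decompose 𝒜 s ((j : M) - (k : M)) : 𝒜 ((j : M) - (k : M))) : A)
  have hb' : b = ∑ k : F, ((DirectSum.decompose ℬ b (k : M) : ℬ (k : M)) : B) := by
    rw [← Finset.attach_eq_univ, Finset.sum_attach F (fun k => ((DirectSum.decompose ℬ b k : ℬ k) : B))]
    exact (DirectSum.sum_support_decompose ℬ b).symm
  have hMv : Matrix.mulVec Mat v = 0 := by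
    funext j
    have h1 : ((DirectSum.decompose 𝒜 (s * φ b) (j : M) : 𝒜 (j : M)) : A) = 0 := by
      rw [hsb, DirectSum.decompose_zero]; rfl
    rw [hb', map_sum, Finset.mul_sum] at h1
    rw [Matrix.mulVec, dotProduct, Pi.zero_apply]
    conv_rhs => rw [← h1]
    rw [DirectSum.decompose_sum, DFinsupp.finsetSum_apply, AddSubmonoidClass.coe_finsetSum]
    refine Finset.sum_congr rfl fun k _ => ?_
    have hv : v k ∈ 𝒜 (k : M) := hφ _ _ (DirectSum.decompose ℬ b (k : M)).2
    conv_rhs => rw [← sub_add_cancel (j : M) (k : M)]
    exact (DirectSum.coe_decompose_mul_add_of_right_mem 𝒜 hv).symm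
  have hs0 : ((DirectSum.decompose 𝒜 s 0 : 𝒜 0) : A) ∉ m := by
    intro h0
    apply hs
    rw [← DirectSum.sum_support_decompose 𝒜 s]
    refine sum_mem fun j _ => ?_
    by_cases hj : j = 0
    · subst hj; exact h0
    · exact hdec j hj
  have hdet : Matrix.det Mat ∉ m := by
    intro hd
    have hM : Matrix.map Mat (Ideal.Quotient.mk m) =
        Matrix.diagonal fun _ => Ideal.Quotient.mk m ((DirectSum.decompose 𝒜 s 0 : 𝒜 0) : A) := by
      ext j k
      by_cases hjk : j = k
      · subst hjk
        simp only [Mat, Matrix.map_apply, Matrix.of_apply, Matrix.diagonal_apply_eq]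
        rw [sub_self]
      · rw [Matrix.map_apply, Matrix.diagonal_apply_ne _ hjk, Ideal.Quotient.eq_zero_iff_mem]
        exact hdec _ (sub_ne_zero.mpr fun e => hjk (Subtype.ext e))
    have h2 := (Ideal.Quotient.mk m).map_det Mat
    rw [Ideal.Quotient.eq_zero_iff_mem.mpr hd, RingHom.mapMatrix_apply, hM, Matrix.det_diagonal,
      Finset.prod_const] at h2
    haveI : IsDomain (A ⧸ m) := Ideal.Quotient.isDomain m
    exact hs0 (Ideal.Quotient.eq_zero_iff_mem.mp (pow_eq_zero_iff'.mp h2.symm).1)
  rw [RingHom.mem_ker, RingHom.comp_apply, IsLocalization.map_eq_zero_iff m.primeCompl]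
  refine ⟨⟨Matrix.det Mat, hdet⟩, ?_⟩
  show Matrix.det Mat * φ ((DirectSum.decompose ℬ b i : ℬ i) : B) = 0
  by_cases hi : i ∈ F
  · have := congrFun (congrArg (Matrix.adjugate Mat).mulVec hMv) ⟨i, hi⟩
    rw [Matrix.mulVec_mulVec, Matrix.adjugate_mul, Matrix.smul_mulVec, Matrix.one_mulVec,
      Matrix.mulVec_zero] at this
    exact this
  · rw [DFinsupp.notMem_support_iff.mp hi]; simp

end Groth.Agent.S18791
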