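import Groth.Statements.S18792
import Groth.Prelude.Def_W4c2gerbepatchBitors
import Groth.Prelude.Def_W4c6defoisocp1TwistExt
import Mathlib.CategoryTheory.Monoidal.Rigid.Basic
import Mathlib.CategoryTheory.Monoidal.Preadditive
import Mathlib.CategoryTheory.Idempotents.Basic
import Mathlib.CategoryTheory.Preadditive.Biproducts
import Mathlib.CategoryTheory.Sites.CoversTop.Basic
import Mathlib.LinearAlgebra.FiniteDimensional.Lemmas
import Mathlib.GroupTheory.Index
import Mathlib.RingTheory.Nilpotent.Exp
import Mathlib.RingTheory.Nilpotent.Lemmas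
import Mathlib.Algebra.Algebra.Bilinear
import Mathlib.Algebra.Ring.GeomSum
import Mathlib.RingTheory.Polynomial.Cyclotomic.Eval
import Mathlib.RingTheory.RootsOfUnity.CyclotomicUnits

set_option autoImplicit false
universe u
open DefMod

namespace Groth.Agent.S18792
open CategoryTheory CategoryTheory.Limits MonoidalCategory Opposite

/-- Let A be an associative unital algebra over ℚ, let a ∈ A be nilpotent and let b ∈ A. Then the
commutator map x ↦ a x − x a is a nilpotent ℚ-linear endomorphism of A, and exp(a) b exp(−a) =
exp(ad a)(b), where exp is the finite exponential series of a nilpotent element and ad a is the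
commutator map. (The published statement takes A an algebra over an arbitrary commutative ring; the
factorials in the exponential series require the rationals to act, so A is taken to be a ℚ-algebra
here. The intermediate double-sum expansion printed between the two sides is not restated.) -/
theorem result {A : Type u} [Ring A] [Algebra ℚ A] (a b : A)
    (ha : IsNilpotent a) :
    IsNilpotent (LinearMap.mulLeft ℚ a - LinearMap.mulRight ℚ a) ∧
      IsNilpotent.exp a * b * IsNilpotent.exp (-a) =
        IsNilpotent.exp (LinearMap.mulLeft ℚ a - LinearMap.mulRight ℚ a) b := by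
  have hL : IsNilpotent (LinearMap.mulLeft ℚ a) := (LinearMap.isNilpotent_mulLeft_iff ℚ a).mpr ha
  have hR : IsNilpotent (LinearMap.mulRight ℚ (-a)) := (LinearMap.isNilpotent_mulRight_iff ℚ _).mpr ha.neg
  have hc : Commute (LinearMap.mulLeft ℚ a) (LinearMap.mulRight ℚ (-a)) := LinearMap.commute_mulLeft_right _ _
  have he : LinearMap.mulLeft ℚ a - LinearMap.mulRight ℚ a = LinearMap.mulLeft ℚ a + LinearMap.mulRight ℚ (-a) := by
    ext x; simp [sub_eq_add_neg]
  rw [he]
  refine ⟨hc.isNilpotent_add hL hR, ?_⟩
  obtain ⟨k, hk⟩ := ha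
  have hk' : (-a) ^ k = 0 := by rw [neg_pow, hk, mul_zero]
  have hkL : LinearMap.mulLeft ℚ a ^ k = 0 := by rw [LinearMap.pow_mulLeft, hk]; simp
  have hkR : LinearMap.mulRight ℚ (-a) ^ k = 0 := by rw [LinearMap.pow_mulRight, hk']; simp
  rw [IsNilpotent.exp_add_of_commute hc hL hR, IsNilpotent.exp_eq_sum hk, IsNilpotent.exp_eq_sum hk',
    IsNilpotent.exp_eq_sum hkL, IsNilpotent.exp_eq_sum hkR]
  simp [Finset.sum_mul, Finset.mul_sum, LinearMap.pow_mulLeft, LinearMap.pow_mulRight, mul_assoc]

end Groth.Agent.S18792
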