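import Groth.Statements.S1880
import Groth.Agent.L24.Quot.OfGroupoid
-- import your own Groth.Agent.* helpers here

set_option autoImplicit false
universe u
open CategoryTheory CategoryTheory.Limits AlgebraicGeometry
open Grpd

namespace Groth.Agent.S1880

/-- Let (U, R, s, t, c) be a groupoid scheme with U, R affine and s, t finite locally free. For f ∈
Γ(U), the norm along s♯ of t♯(f) is an R-invariant function. (Mathlib's norm is the determinant when
Γ(R) is free over Γ(U) via s♯ and 1 otherwise; the content is the free case, e.g. after localizing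
U.) (A groupoid scheme carries U, R, s, t, c, e, i over S with the groupoid axioms on T-points;
'finite locally free' is finite, flat and locally of finite presentation; C ⊂ Γ(U) is the ring of
functions a with s♯(a) = t♯(a) and M = Spec C.) -/
theorem result (S : Scheme.{u}) (G : Grpd.GroupoidScheme S) [IsAffine G.U] [IsAffine G.R] [IsFinite G.s] [Flat G.s] [LocallyOfFinitePresentation G.s] [IsFinite G.t] [Flat G.t] [LocallyOfFinitePresentation G.t] (f : Γ(G.U, ⊤)) : G.normST f ∈ G.invariants := by
  letI := L24.Quot.algR G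
  letI := L24.Quot.algD G
  obtain ⟨d, hs, ht, hfull⟩ := L24.Quot.exists_dat G
  letI := G.s.appTop.hom.toAlgebra
  show Algebra.norm Γ(G.U, ⊤) (G.t.appTop.hom f) ∈ G.invariants
  classical
  by_cases hb : ∃ s : Finset Γ(G.R, ⊤), Nonempty (Module.Basis s Γ(G.U, ⊤) Γ(G.R, ⊤))
  · obtain ⟨σ, ⟨b⟩⟩ := hb
    let b' := b.reindex σ.equivFin
    let P' : L24.Quot.Pres G.s.appTop.hom σ.card :=
      { b := b'
        φ := fun i => (b'.coord i).toAddMonoidHom
        φ_mul := fun i a x => (b'.coord i).map_smul a x
        sum := fun x => b'.sum_repr x }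
    have h1 : P'.mat 1 = 1 := by
      ext i j
      simp [L24.Quot.Pres.mat, P', Matrix.one_apply, Finsupp.single_apply, eq_comm]
    have h2 : Algebra.norm Γ(G.U, ⊤) (G.t.appTop.hom f) = P'.nrm (G.t.appTop.hom f) := by
      rw [Algebra.norm_eq_matrix_det b', L24.Quot.Pres.nrm, P'.mat_sub, h1, add_sub_cancel]
      congr 1
      ext i j
      rw [Algebra.leftMulMatrix_eq_repr_mul]
      rfl
    have hd : ∀ (n : ℕ) (P : L24.Quot.Pres G.s.appTop.hom n) (y : Γ(G.R, ⊤)),
        P'.nrm y = P.nrm y := fun n P y => P'.nrm_indep P y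
    have hs' : ∀ a, d.s a = G.s.appTop.hom a := fun a => by rw [hs]; rfl
    have ht' : ∀ a, d.t a = G.t.appTop.hom a := fun a => by rw [ht]; rfl
    let P0 : L24.Quot.Pres G.s.appTop.hom d.n :=
      ⟨d.P.b, d.P.φ,
        fun i a x => (congrArg (fun z => d.P.φ i (z * x)) (hs' a)).symm.trans (d.P.φ_mul i a x),
        fun x => (Finset.sum_congr rfl fun i _ => congrArg (· * d.P.b i) (hs' (d.P.φ i x)).symm).trans (d.P.sum x)⟩
    rw [h2, hd d.n P0, ← ht' f]
    exact ((hs' _).symm.trans ((d.nrm_inv f).trans (ht' _)))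
  · rw [Algebra.norm_eq_one_of_not_exists_basis _ hb]
    exact G.invariants.one_mem

end Groth.Agent.S1880
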