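import Groth.Statements.S18802
import Groth.Prelude.Def_W4c2gerbepatchBitors
import Groth.Prelude.Def_W4c6defoisocp1TwistExt
import Mathlib.CategoryTheory.Monoidal.Rigid.Basic
import Mathlib.CategoryTheory.Monoidal.Preadditive
import Mathlib.CategoryTheory.Idempotents.Basic
import Mathlib.CategoryTheory.Preadditive.Biproducts
import Mathlib.CategoryTheory.Sites.CoversTop.Basic
import Mathlib.LinearAlgebra.FiniteDimensional.Lemmas
import Mathlib.GroupTheory.Index
import Mathlib.RingTheory.Nilpotent.Exp
import Mathlib.RingTheory.Nilpotent.Lemmas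
import Mathlib.Algebra.Algebra.Bilinear
import Mathlib.Algebra.Ring.GeomSum
import Mathlib.RingTheory.Polynomial.Cyclotomic.Eval
import Mathlib.RingTheory.RootsOfUnity.CyclotomicUnits

set_option autoImplicit false
universe u v w w' w''
open DefMod

namespace Groth.Agent.S18802
open CategoryTheory CategoryTheory.Limits MonoidalCategory Opposite

/-- Let K be a field of characteristic zero, D an associative K-algebra and E, F left D-modules. A
K-linear map s : D → Hom_K(E, F) with s(ab)(e) = a s(b)(e) + s(a)(b e) (a derivation into the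
bimodule Hom_K(E, F), i.e. a Hochschild 1-cocycle) defines the twisted sum F ⊕_s E = F × E with a ·
(f, e) = (a f + s(a) e, a e), an extension of E by F. Every extension of left D-modules 0 → F → Q →
E → 0 arises this way: there are such an s and a D-linear isomorphism Q ≅ F ⊕_s E carrying the given
map F → Q to the inclusion f ↦ (f, 0) and compatible with the two projections onto E. (Together with
the splitting criterion this identifies derivations modulo principal derivations with Ext¹_D(E, F);
the compatibility of that identification with addition and scalars is not restated.) -/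
theorem result
    {K : Type u} [Field K] [CharZero K]
    {D : Type v} [Ring D] [Algebra K D]
    {E : Type w} [AddCommGroup E] [Module K E] [Module D E] [IsScalarTower K D E]
    {F : Type w'} [AddCommGroup F] [Module K F] [Module D F] [IsScalarTower K D F]
    {Q : Type w''} [AddCommGroup Q] [Module D Q]
    (i : F →ₗ[D] Q) (p : Q →ₗ[D] E) (hi : Function.Injective i) (hp : Function.Surjective p)
    (hex : Function.Exact i p) :
    ∃ (s : D →ₗ[K] E →ₗ[K] F) (hs : W4c6defoisocp1.IsHomDerivation s) (Φ : Q ≃ₗ[D] W4c6defoisocp1.TwistExt s hs),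
      (∀ f : F, Φ (i f) = W4c6defoisocp1.TwistExt.inl f) ∧ ∀ q : Q, W4c6defoisocp1.TwistExt.snd (Φ q) = p q := by
  let : Module K Q := Module.compHom Q (algebraMap K D)
  have : IsScalarTower K D Q := IsScalarTower.of_algebraMap_smul fun _ _ => rfl
  obtain ⟨σ, hσ⟩ := (p.restrictScalars K).exists_rightInverse_of_surjective (LinearMap.range_eq_top.mpr hp)
  have hσ' : ∀ e, p (σ e) = e := LinearMap.congr_fun hσ
  have hpi : ∀ f, p (i f) = 0 := fun f => (hex (i f)).mpr ⟨f, rfl⟩
  have hex' : ∀ q, p q = 0 → ∃ f, i f = q := fun q => (hex q).mp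
  have hmem : ∀ (a : D) (e : E), ∃ f, i f = a • σ e - σ (a • e) := fun a e => hex' _ (by simp [hσ'])
  choose s₀ hs₀ using hmem
  let s : D →ₗ[K] E →ₗ[K] F := LinearMap.mk₂ K s₀
    (fun a b e => hi (by simp only [map_add, hs₀, add_smul]; abel))
    (fun c a e => hi (by rw [LinearMap.map_smul_of_tower i, hs₀, hs₀, smul_assoc, smul_assoc, map_smul, smul_sub]))
    (fun a e e' => hi (by simp only [map_add, hs₀, smul_add]; abel))
    (fun c a e => hi (by rw [LinearMap.map_smul_of_tower i, hs₀, hs₀, map_smul, smul_comm a c, smul_comm a c, map_smul, smul_sub]))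
  have hs : W4c6defoisocp1.IsHomDerivation s := fun a b e => hi (by
    simp only [s, LinearMap.mk₂_apply, map_add, map_smul, hs₀, mul_smul, smul_sub]; abel)
  have hrest : ∀ q, ∃ f, i f = q - σ (p q) := fun q => hex' _ (by simp [hσ'])
  choose r hr using hrest
  refine ⟨s, hs, LinearEquiv.ofBijective
    { toFun := fun q => W4c6defoisocp1.TwistExt.mk (r q, p q)
      map_add' := fun x y => W4c6defoisocp1.TwistExt.ext (hi (by simp [map_add, hr]; abel)) (by simp)
      map_smul' := fun a x => W4c6defoisocp1.TwistExt.ext (hi (by simp [map_add, hr, s, hs₀, smul_sub])) (by simp) }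
    ⟨fun x y e => ?_, fun y => ?_⟩, fun f => W4c6defoisocp1.TwistExt.ext (hi ?_) ?_, fun q => rfl⟩
  · have e₁ : r x = r y := congrArg (fun z => (W4c6defoisocp1.TwistExt.val z).1) e
    have e₂ : p x = p y := congrArg (fun z => (W4c6defoisocp1.TwistExt.val z).2) e
    have := congrArg i e₁
    rw [hr, hr, e₂] at this
    exact sub_left_injective this
  · refine ⟨i (W4c6defoisocp1.TwistExt.val y).1 + σ (W4c6defoisocp1.TwistExt.val y).2,
      W4c6defoisocp1.TwistExt.ext (hi ?_) ?_⟩
    · simp [hr, hpi, hσ']
    · simp [hpi, hσ']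
  · simp [hr, hpi]
  · simp [hpi]

end Groth.Agent.S18802
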