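import Groth.Statements.S18803
import Groth.Prelude.Def_W4c2gerbepatchBitors
import Groth.Prelude.Def_W4c6defoisocp1TwistExt
import Mathlib.CategoryTheory.Monoidal.Rigid.Basic
import Mathlib.CategoryTheory.Monoidal.Preadditive
import Mathlib.CategoryTheory.Idempotents.Basic
import Mathlib.CategoryTheory.Preadditive.Biproducts
import Mathlib.CategoryTheory.Sites.CoversTop.Basic
import Mathlib.LinearAlgebra.FiniteDimensional.Lemmas
import Mathlib.GroupTheory.Index
import Mathlib.RingTheory.Nilpotent.Exp
import Mathlib.RingTheory.Nilpotent.Lemmas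
import Mathlib.Algebra.Algebra.Bilinear
import Mathlib.Algebra.Ring.GeomSum
import Mathlib.RingTheory.Polynomial.Cyclotomic.Eval
import Mathlib.RingTheory.RootsOfUnity.CyclotomicUnits

set_option autoImplicit false
universe u v w w'
open DefMod

namespace Groth.Agent.S18803
open CategoryTheory CategoryTheory.Limits MonoidalCategory Opposite

/-- Let K be a field of characteristic zero, D an associative K-algebra, E and F left D-modules, and s :
D → Hom_K(E, F) a K-linear map with s(ab)(e) = a s(b)(e) + s(a)(b e). The twisted sum F ⊕_s E (that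
is F × E with a · (f, e) = (a f + s(a) e, a e)) is a trivial extension of E by F — there is a
D-linear isomorphism F ⊕_s E ≅ F × E with the direct-sum module structure, carrying the inclusion f
↦ (f, 0) to itself and compatible with the second projections — if and only if s is principal:
s(a)(e) = a σ(e) − σ(a e) for some K-linear σ : E → F (a Hochschild 1-coboundary). -/
theorem result
    {K : Type u} [Field K] [CharZero K]
    {D : Type v} [Ring D] [Algebra K D]
    {E : Type w} [AddCommGroup E] [Module K E] [Module D E] [IsScalarTower K D E]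
    {F : Type w'} [AddCommGroup F] [Module K F] [Module D F] [IsScalarTower K D F]
    (s : D →ₗ[K] E →ₗ[K] F) (hs : W4c6defoisocp1.IsHomDerivation s) :
    (∃ Ψ : W4c6defoisocp1.TwistExt s hs ≃ₗ[D] F × E,
        (∀ f : F, Ψ (W4c6defoisocp1.TwistExt.inl f) = (f, 0)) ∧ ∀ x : W4c6defoisocp1.TwistExt s hs, (Ψ x).2 = W4c6defoisocp1.TwistExt.snd x) ↔
      W4c6defoisocp1.IsPrincipal s := by
  constructor
  · rintro ⟨Ψ, h1, h2⟩
    let z : E → W4c6defoisocp1.TwistExt s hs := fun e => W4c6defoisocp1.TwistExt.mk (0, e)
    have hz : ∀ (a : D) e, a • z e = W4c6defoisocp1.TwistExt.inl (s a e) + z (a • e) := fun a e =>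
      W4c6defoisocp1.TwistExt.ext (by simp [z]) (by simp [z])
    have key : ∀ (a : D) e, (Ψ (z (a • e))).1 = a • (Ψ (z e)).1 - s a e := fun a e => by
      have := congrArg Prod.fst (congrArg Ψ (hz a e))
      rw [map_smul, map_add, h1, Prod.smul_fst, Prod.fst_add] at this
      rw [this, add_sub_cancel_left]
    have hadd : ∀ e e', z (e + e') = z e + z e' := fun e e' =>
      W4c6defoisocp1.TwistExt.ext (by simp [z]) (by simp [z])
    refine ⟨{ toFun := fun e => (Ψ (z e)).1
              map_add' := fun e e' => by rw [hadd, map_add, Prod.fst_add]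
              map_smul' := fun c e => ?_ }, fun a e => ?_⟩
    · rw [RingHom.id_apply, ← algebraMap_smul D c e, key, algebraMap_smul,
        Algebra.algebraMap_eq_smul_one, map_smul, W4c6defoisocp1.TwistExt.map_one_eq_zero hs]
      simp
    · show s a e = a • (Ψ (z e)).1 - (Ψ (z (a • e))).1
      rw [key, sub_sub_cancel]
  · rintro ⟨σ, hσ⟩
    refine ⟨
      { toFun := fun x => ((W4c6defoisocp1.TwistExt.val x).1 + σ (W4c6defoisocp1.TwistExt.val x).2, (W4c6defoisocp1.TwistExt.val x).2)
        map_add' := fun x y => Prod.ext (by simp; abel) (by simp)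
        map_smul' := fun a x => Prod.ext (by simp [hσ, smul_add]; abel) (by simp)
        invFun := fun y => W4c6defoisocp1.TwistExt.mk (y.1 - σ y.2, y.2)
        left_inv := fun x => W4c6defoisocp1.TwistExt.ext (by simp) (by simp)
        right_inv := fun y => Prod.ext (by simp) (by simp) }, fun f => Prod.ext ?_ ?_, fun x => rfl⟩
    · simp
    · simp

end Groth.Agent.S18803
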