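import Groth.Statements.S18805
import Groth.Agent.L21.Duality.Secant

set_option autoImplicit false
set_option backward.isDefEq.respectTransparency false
universe u
open CategoryTheory CategoryTheory.Limits AlgebraicGeometry
open Curves

namespace Groth.Agent.S18805

/-- Let k be an algebraically closed field of characteristic zero and X a smooth proper integral curve
over k (integral, proper and smooth over k, of dimension one), with sheaf of differentials ω =
Ω_(X/k). Then ω is 3-very ample, meaning dim_k H^0(X, ω ⊗ I) + 4 = dim_k H^0(X, ω) for every
quasi-coherent ideal I of O_X with dim_k H^0(X, O_X/I) = 4, if and only if X carries no g^1_4,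
meaning that for every such I (the ideal of an effective divisor D of degree 4) every module M with
I ⊗ M ≅ O_X (so M plays the role of O_X(D)) has dim_k H^0(X, M) = 1. -/
theorem result
    (k : Type u) [Field k] [IsAlgClosed k] [CharZero k]
    (X : Scheme.{u}) [X.Over (Spec (CommRingCat.of k))] [IsIntegral X]
    [IsProper (X ↘ Spec (CommRingCat.of k))] [Smooth (X ↘ Spec (CommRingCat.of k))]
    (hdim : topologicalKrullDim X = 1) :
    (∀ (I : X.IdealSheafData), Module.finrank k (Coh.HH X (ClSub.quotMod I) 0) = 4 →
      Module.finrank k (Coh.HH X (CohB1.tensorMod (Omega.sheaf (X ↘ Spec (CommRingCat.of k))) (ClSub.idealMod I)) 0) + 4 =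
        Module.finrank k (Coh.HH X (Omega.sheaf (X ↘ Spec (CommRingCat.of k))) 0)) ↔
    (∀ (I : X.IdealSheafData), Module.finrank k (Coh.HH X (ClSub.quotMod I) 0) = 4 →
      ∀ (M : X.Modules), ClSub.IsInverseOf (ClSub.idealMod I) M →
        Module.finrank k (Coh.HH X M 0) = 1) := by
  exact Groth.L21.Duality.omega_three_veryAmple_iff (k := k) hdim

end Groth.Agent.S18805
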