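import Groth.Statements.S18808
import Groth.Agent.L08.Pullback

set_option autoImplicit false
universe u v v' w w' x
open TensorProduct
open HopfRep

namespace Groth.Agent.S18808

/-- Let k be a field, i : C → D an injective morphism of k-coalgebras and V a right D-comodule with
coaction ρ. Call a D-subcomodule K of V admissible when the induced coaction of V/K, namely ρ
followed by the projection V ⊗ D → (V/K) ⊗ D, takes all its values in the image of (V/K) ⊗ C → (V/K)
⊗ D (so that V/K comes from a C-comodule). Then there is a least admissible D-subcomodule of V: V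
has a largest quotient D-comodule coming from C, through which every D-comodule map from V to a
comodule coming from C factors. (The source states this for left comodules over the coordinate
bialgebras of an affine monoid scheme and its open schematically dense group of units, as the
existence of a universal map from a representation of the unit group to a representation of the
monoid; it uses that assumption only through the injectivity of the restriction map.) -/
theorem result (k : Type u) [Field k]
    (C : Type v) [AddCommGroup C] [Module k C] [Coalgebra k C]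
    (D : Type v') [AddCommGroup D] [Module k D] [Coalgebra k D]
    (i : C →ₗc[k] D) (hi : Function.Injective i)
    (V : Type w) [AddCommGroup V] [Module k V] [HopfRep.Comod k D V] :
    ∃ K : Submodule k V, HopfRep.IsSubcomod (k := k) (A := D) K ∧
      (∀ v : V, K.mkQ.rTensor D (HopfRep.Comod.coact (k := k) (A := D) v) ∈
        LinearMap.range ((i : C →ₗ[k] D).lTensor (V ⧸ K))) ∧
      ∀ K' : Submodule k V, HopfRep.IsSubcomod (k := k) (A := D) K' →
        (∀ v : V, K'.mkQ.rTensor D (HopfRep.Comod.coact (k := k) (A := D) v) ∈
          LinearMap.range ((i : C →ₗ[k] D).lTensor (V ⧸ K'))) → K ≤ K' := by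
  let K₀ : Submodule k V :=
    ⨆ φ : {φ : D →ₗ[k] k // φ ∘ₗ i.toLinearMap = 0}, LinearMap.range (L08.fAct V φ.1)
  refine ⟨K₀, ?_, ?_, fun K' _ h' => ?_⟩
  · refine L08.isSubcomod_iff.2 fun ψ v hv => ?_
    have : K₀ ≤ K₀.comap (L08.fAct V ψ) := by
      refine iSup_le fun φ => ?_
      rintro _ ⟨x, rfl⟩
      have hzero : (LinearMap.mul' k k ∘ₗ TensorProduct.map ψ φ.1 ∘ₗ Coalgebra.comul) ∘ₗ i.toLinearMap = 0 := by
        have hi2 : TensorProduct.map i.toLinearMap i.toLinearMap ∘ₗ Coalgebra.comul =
            Coalgebra.comul ∘ₗ i.toLinearMap := i.map_comp_comul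
        simp only [LinearMap.comp_assoc, ← hi2]
        rw [← LinearMap.comp_assoc (Coalgebra.comul (R := k)) (TensorProduct.map i.toLinearMap i.toLinearMap)
          (TensorProduct.map ψ φ.1), ← TensorProduct.map_comp, φ.2]
        simp
      refine Submodule.mem_iSup_of_mem
        ⟨LinearMap.mul' k k ∘ₗ TensorProduct.map ψ φ.1 ∘ₗ Coalgebra.comul, hzero⟩ ⟨x, ?_⟩
      rw [L08.fAct_comp]
      rfl
    exact this hv
  · exact (L08.rTensor_mkQ_mem_range_iff i K₀).2 fun φ hφ v =>
      Submodule.mem_iSup_of_mem ⟨φ, hφ⟩ ⟨v, rfl⟩
  · refine iSup_le fun φ => ?_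
    rintro _ ⟨x, rfl⟩
    exact (L08.rTensor_mkQ_mem_range_iff i K').1 h' φ.1 φ.2 x

end Groth.Agent.S18808
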