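import Groth.Statements.S18810
import Groth.Agent.L08.Isotypic

set_option autoImplicit false
universe u v v' w w' x
open TensorProduct
open HopfRep

namespace Groth.Agent.S18810
open Groth.L08 TensorProduct

/-- Let k be a field, C a k-coalgebra, V a right C-comodule and (S_j) a family of simple C-comodules
which are pairwise non-isomorphic (for j ≠ j' no k-linear isomorphism S_j ≃ S_j' commutes with the
coactions). For each j let V[j] be the isotypic component of type S_j: the sum of the images of all
comodule maps S_j → V (equivalently of all simple subcomodules of V isomorphic to S_j, a nonzero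
such map being injective). Then the family j ↦ V[j] is independent, so that the socle of V is the
direct sum of its isotypic components. (The source states this for representations of an affine
monoid scheme over k, i.e. left comodules over its coordinate bialgebra; the row is the
right-comodule form over any coalgebra.) -/
theorem result (k : Type u) [Field k]
    (C : Type v) [AddCommGroup C] [Module k C] [Coalgebra k C]
    (V : Type w) [AddCommGroup V] [Module k V] [HopfRep.Comod k C V]
    {ι : Type x} (S : ι → Type w') [∀ j, AddCommGroup (S j)] [∀ j, Module k (S j)]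
    [∀ j, HopfRep.Comod k C (S j)] (hS : ∀ j, HopfRep.IsSimpleComod k C (S j))
    (hne : ∀ j j', j ≠ j' → ∀ e : S j ≃ₗ[k] S j', ¬ Hoch.IsComodHom C (e : S j →ₗ[k] S j')) :
    iSupIndep (fun j => ⨆ f : {f : S j →ₗ[k] V // Hoch.IsComodHom C f}, LinearMap.range f.1) := by
  intro j
  rw [disjoint_iff]
  by_contra hne'
  have hsub : ∀ j, HopfRep.IsSubcomod (k := k) (A := C)
      (⨆ f : {f : S j →ₗ[k] V // Hoch.IsComodHom C f}, LinearMap.range f.1) :=
    fun j => isSubcomod_iSup fun f => isSubcomod_range f.2
  have hsub' : HopfRep.IsSubcomod (k := k) (A := C) (⨆ (i) (_ : i ≠ j),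
      ⨆ f : {f : S i →ₗ[k] V // Hoch.IsComodHom C f}, LinearMap.range f.1) :=
    isSubcomod_iSup fun i => isSubcomod_iSup fun _ => hsub i
  obtain ⟨m, hm, hms⟩ := exists_simple_subcomod (W := toSub (isSubcomod_inf (hsub j) hsub'))
    (fun e => hne' (by simpa using congrArg (Submodule.restrictScalars k) e))
  haveI : ∀ i, IsSimpleModule (Dl k C) (S i) := fun i => isSimpleComod_iff.1 (hS i)
  have key : ∀ (T : Set ι), ((toSub (isSubcomod_inf (hsub j) hsub')).restrictScalars k ≤ ⨆ i : T,
      ⨆ f : {f : S i →ₗ[k] V // Hoch.IsComodHom C f}, LinearMap.range f.1) →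
      ∃ i ∈ T, Nonempty (m ≃ₗ[Dl k C] S i) := by
    intro T hT
    haveI := hms
    obtain ⟨i, e⟩ := exists_equiv_of_le_iSup_range (S := fun i : T => S i) m (fun x hx => by
      have hx' := hT (hm hx)
      refine (iSup_le fun i => iSup_le fun f => ?_ : (⨆ i : T,
        ⨆ f : {f : S i →ₗ[k] V // Hoch.IsComodHom C f}, LinearMap.range f.1) ≤
        (⨆ (i : T) (f : S i →ₗ[Dl k C] V), LinearMap.range f).restrictScalars k) hx'
      rintro _ ⟨y, rfl⟩
      exact Submodule.mem_iSup_of_mem i (Submodule.mem_iSup_of_mem (homToMod f.2) ⟨y, rfl⟩))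
    exact ⟨i, i.2, e⟩
  obtain ⟨i, hi, ⟨e⟩⟩ := key {j} (fun x hx => Submodule.mem_iSup_of_mem (⟨j, rfl⟩ : ({j} : Set ι)) hx.1)
  obtain ⟨i', hi', ⟨e'⟩⟩ := key {i | i ≠ j} (fun x hx =>
    (iSup₂_le fun i hij => le_iSup_of_le (⟨i, hij⟩ : {i | i ≠ j}) le_rfl : (⨆ (i) (_ : i ≠ j),
      ⨆ f : {f : S i →ₗ[k] V // Hoch.IsComodHom C f}, LinearMap.range f.1) ≤ _) hx.2)
  obtain rfl : i = j := hi
  exact hne i i' (fun h => hi' h.symm) ((e.symm.trans e').restrictScalars k)
    (isComodHom_restrictScalars (e.symm.trans e').toLinearMap)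

end Groth.Agent.S18810
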