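
import Groth.Statements.S18811
import Mathlib.AlgebraicGeometry.Morphisms.Flat
import Mathlib.AlgebraicGeometry.Morphisms.QuasiSeparated

set_option autoImplicit false
universe u
open CategoryTheory CategoryTheory.Limits AlgebraicGeometry
open Variety

namespace Groth.Agent.S18811

/-- Let k be a field and X, Y quasi-compact k-schemes whose diagonal morphisms over k are affine
(semi-separated; for instance X and Y separated over k). Then the canonical map Γ(X, O_X) ⊗_k Γ(Y,
O_Y) → Γ(X ×_k Y, O) is an isomorphism: the commutative square of rings of global sections formed by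
Spec k, X, Y and X ×_k Y with the pullback maps along the structure morphisms and the two
projections is a pushout square of commutative rings. -/
theorem result (k : Type u) [Field k]
    (X : Scheme.{u}) [X.Over (Spec (CommRingCat.of k))] [CompactSpace ↥X]
    [IsAffineHom (pullback.diagonal (X ↘ (Spec (CommRingCat.of k))))]
    (Y : Scheme.{u}) [Y.Over (Spec (CommRingCat.of k))] [CompactSpace ↥Y]
    [IsAffineHom (pullback.diagonal (Y ↘ (Spec (CommRingCat.of k))))] :
    IsPushout (X ↘ (Spec (CommRingCat.of k))).appTop (Y ↘ (Spec (CommRingCat.of k))).appTop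
      (pullback.fst (X ↘ (Spec (CommRingCat.of k))) (Y ↘ (Spec (CommRingCat.of k)))).appTop
      (pullback.snd (X ↘ (Spec (CommRingCat.of k))) (Y ↘ (Spec (CommRingCat.of k)))).appTop := by
  haveI : QuasiSeparated (X ↘ (Spec (CommRingCat.of k))) := ⟨inferInstance⟩
  haveI : QuasiSeparated (Y ↘ (Spec (CommRingCat.of k))) := ⟨inferInstance⟩
  haveI : QuasiSeparatedSpace ↥X :=
    quasiSeparatedSpace_of_quasiSeparated (X ↘ (Spec (CommRingCat.of k)))
  haveI : QuasiSeparatedSpace ↥Y :=
    quasiSeparatedSpace_of_quasiSeparated (Y ↘ (Spec (CommRingCat.of k)))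
  let K := Spec (CommRingCat.of k)
  have hfield : ∀ {B : CommRingCat.{u}} (φ : Γ(K, ⊤) ⟶ B), φ.hom.Flat := by
    intro B φ
    haveI : IsField Γ(K, ⊤) := MulEquiv.isField (Field.toIsField k)
      (Scheme.ΓSpecIso (CommRingCat.of k)).commRingCatIsoToRingEquiv.toMulEquiv
    letI : Field Γ(K, ⊤) := IsField.toField this
    letI := φ.hom.toAlgebra
    exact Module.Flat.of_free
  haveI : Flat (Y ↘ K) := by
    refine IsZariskiLocalAtSource.of_openCover (P := @Flat) Y.affineCover fun i => ?_
    rw [HasRingHomProperty.iff_of_isAffine (P := @Flat)]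
    exact hfield _
  have h := (isIso_pushoutSection_iff (IsPullback.of_hasPullback (X ↘ K) (Y ↘ K)) (US := ⊤)
    (UT := ⊤) (UX := ⊤) (UY := ⊤) (by simp) (by simp) (by simp)).1
    (isIso_pushoutSection_of_isCompact_of_flat_right_of_ringHomFlat _ (by simp) (by simp) (by simp)
      (isAffineOpen_top _) isCompact_univ isQuasiSeparated_univ isCompact_univ
      isQuasiSeparated_univ (hfield _))
  simpa [Scheme.Hom.appTop, Scheme.Hom.appLE] using h

end Groth.Agent.S18811
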