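import Groth.Statements.S18814
import Groth.Agent.L08.Basic

set_option autoImplicit false
universe u v v' w w'
open TensorProduct
open HopfRep

namespace Groth.Agent.S18814
open Groth.L08 TensorProduct

/-- Let k be a field, C and D commutative bialgebras over k (coordinate rings of affine monoid schemes M
and N) and V a k-vector space carrying a right C-comodule structure with coaction ρ_C : V → V ⊗ C
and a right D-comodule structure with coaction ρ_D : V → V ⊗ D which commute: (ρ_C ⊗ id_D) ∘ ρ_D and
(ρ_D ⊗ id_C) ∘ ρ_C agree in V ⊗ C ⊗ D after reassociating and swapping the last two factors (the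
actions of M and N on V commute). Assume V is semisimple as a D-comodule. Then for every simple
D-comodule S the isotypic component of V of type S, the sum of the images of all D-comodule maps S →
V, is a C-subcomodule of V. (The source works with left comodules; this is the right-comodule form.) -/
theorem result (k : Type u) [Field k]
    (C : Type v) [CommRing C] [Bialgebra k C] (D : Type v') [CommRing D] [Bialgebra k D]
    (V : Type w) [AddCommGroup V] [Module k V] [HopfRep.Comod k C V] [HopfRep.Comod k D V]
    (hcomm : (TensorProduct.assoc k V C D).toLinearMap ∘ₗ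
        (HopfRep.Comod.coact (k := k) (A := C) (V := V)).rTensor D ∘ₗ HopfRep.Comod.coact (k := k) (A := D) =
      (TensorProduct.comm k D C).toLinearMap.lTensor V ∘ₗ (TensorProduct.assoc k V D C).toLinearMap ∘ₗ
        (HopfRep.Comod.coact (k := k) (A := D) (V := V)).rTensor C ∘ₗ HopfRep.Comod.coact (k := k) (A := C))
    (hV : HopfRep.IsSemisimpleComod k D V)
    (S : Type w') [AddCommGroup S] [Module k S] [HopfRep.Comod k D S] (hS : HopfRep.IsSimpleComod k D S) :
    HopfRep.IsSubcomod (k := k) (A := C)
      (⨆ f : {f : S →ₗ[k] V // Hoch.IsComodHom D f}, LinearMap.range f.1) := by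
  let X : Submodule k V := ⨆ f : {f : S →ₗ[k] V // Hoch.IsComodHom D f}, LinearMap.range f.1
  refine isSubcomod_iff.2 fun φ v hv => ?_
  have hcomm' : ∀ (ψ : D →ₗ[k] k) (x : V), fAct V φ (fAct V ψ x) = fAct V ψ (fAct V φ x) := by
    intro ψ x
    let T : V ⊗[k] (C ⊗[k] D) →ₗ[k] V :=
      (TensorProduct.rid k V).toLinearMap ∘ₗ (LinearMap.mul' k k ∘ₗ TensorProduct.map φ ψ).lTensor V
    have h1 : ∀ y : V ⊗[k] D, T (TensorProduct.assoc k V C D
        ((HopfRep.Comod.coact (k := k) (A := C) (V := V)).rTensor D y)) =
        fAct V φ (TensorProduct.rid k V (ψ.lTensor V y)) := by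
      intro y
      induction y with
      | zero => simp
      | add a b ha hb => simp only [map_add, ha, hb]
      | tmul w a =>
        simp only [LinearMap.rTensor_tmul, LinearMap.lTensor_tmul, TensorProduct.rid_tmul, map_smul,
          fAct_apply]
        induction (HopfRep.Comod.coact (k := k) (A := C) w) with
        | zero => simp
        | add a b ha hb => simp only [map_add, add_tmul, ha, hb, smul_add]
        | tmul u b => simp [T, smul_smul, mul_comm]
    have h2 : ∀ y : V ⊗[k] C, T ((TensorProduct.comm k D C).toLinearMap.lTensor V
        (TensorProduct.assoc k V D C ((HopfRep.Comod.coact (k := k) (A := D) (V := V)).rTensor C y))) =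
        fAct V ψ (TensorProduct.rid k V (φ.lTensor V y)) := by
      intro y
      induction y with
      | zero => simp
      | add a b ha hb => simp only [map_add, ha, hb]
      | tmul w a =>
        simp only [LinearMap.rTensor_tmul, LinearMap.lTensor_tmul, TensorProduct.rid_tmul, map_smul,
          fAct_apply]
        induction (HopfRep.Comod.coact (k := k) (A := D) w) with
        | zero => simp
        | add a b ha hb => simp only [map_add, add_tmul, ha, hb, smul_add]
        | tmul u b => simp [T, smul_smul, mul_comm]
    rw [fAct_apply ψ x, fAct_apply φ x, ← h1, ← h2]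
    exact congrArg T (LinearMap.congr_fun hcomm x)
  suffices X ≤ X.comap (fAct V φ) from this hv
  refine iSup_le fun f => ?_
  rintro _ ⟨y, rfl⟩
  have hg : Hoch.IsComodHom D (fAct V φ ∘ₗ f.1) := isComodHom_iff.2 fun ψ z => by
    rw [LinearMap.comp_apply, fAct_comm_of_isComodHom f.2, hcomm', LinearMap.comp_apply]
  exact Submodule.mem_iSup_of_mem (⟨_, hg⟩ : {f : S →ₗ[k] V // Hoch.IsComodHom D f}) ⟨y, rfl⟩

end Groth.Agent.S18814
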