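import Groth.Statements.S18816
import Groth.Agent.L08.FactorLocus

set_option autoImplicit false
universe u
open CategoryTheory MonoidalCategory CartesianMonoidalCategory AlgebraicGeometry
open AlgGrp

namespace Groth.Agent.S18816

/-- Let k be a field, X a separated k-scheme, Y an arbitrary k-scheme and a : Y ×_k X → X an arbitrary
k-morphism. Consider the subfunctor X^a of X whose T-valued points, for a k-scheme T, are the
k-morphisms x : T → X with a ∘ (id_Y × x) = x ∘ pr_T as morphisms Y ×_k T → X. Then X^a is
represented by a closed subscheme of X: there is a closed immersion j : Z → X over k lying in X^a(Z)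
through which every element of X^a(T) factors. In particular, when Y = G is a k-group scheme and a
is an action of G on the separated k-scheme X, the functor X^G of G-fixed points is representable by
some closed subscheme of X. No finiteness condition is imposed on X, Y or G. -/
theorem result (k : Type u) [Field k]
    (X Y : Over (Spec (CommRingCat.of k))) [IsSeparated X.hom] (a : Y ⊗ X ⟶ X) :
    ∃ (Z : Over (Spec (CommRingCat.of k))) (j : Z ⟶ X), IsClosedImmersion j.left ∧
      (Y ◁ j) ≫ a = CartesianMonoidalCategory.snd Y Z ≫ j ∧
      ∀ (T : Over (Spec (CommRingCat.of k))) (x : T ⟶ X),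
        (Y ◁ x) ≫ a = CartesianMonoidalCategory.snd Y T ≫ x → ∃ z : T ⟶ Z, z ≫ j = x := by
  obtain ⟨Z, j, hj, h⟩ := Groth.L08.FactorLocus.exists_closedImmersion_agree a (snd Y X)
  refine ⟨Z, j, hj, ?_, fun T x hx => (h T x).2 ?_⟩
  · rw [(h Z j).1 ⟨𝟙 Z, Category.id_comp j⟩, whiskerLeft_snd]
  · rw [hx, whiskerLeft_snd]

end Groth.Agent.S18816
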