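import Groth.Statements.S18830
import Groth.Agent.L19.AlgGrpBasic.Descent

set_option autoImplicit false
set_option backward.isDefEq.respectTransparency.types false
set_option backward.isDefEq.respectTransparency false
set_option linter.style.haveILetI false
universe u
open CategoryTheory MonoidalCategory CartesianMonoidalCategory MonObj AlgebraicGeometry
open AlgGrp

namespace Groth.Agent.S18830
open Groth.L19.AlgGrpBasic

/-- Let k be a field and M an algebraic monoid over k (a monoid k-scheme of finite type). Let i : G → M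
be its group of units: a monomorphism of k-schemes through which a T-valued point of M factors if
and only if it is invertible in the monoid M(T). Then G is of finite type over k, i.e. the unit
group is an algebraic group. -/
theorem result (k : Type u) [Field k]
    (M G : Over (Spec (CommRingCat.of k))) [MonObj M] [LocallyOfFiniteType M.hom] [QuasiCompact M.hom]
    (i : G ⟶ M) [Mono i]
    (hi : ∀ (T : Over (Spec (CommRingCat.of k))) (m : T ⟶ M), (∃ g : T ⟶ G, g ≫ i = m) ↔ IsUnit m) :
    LocallyOfFiniteType G.hom ∧ QuasiCompact G.hom := by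
  haveI : QuasiSeparated M.hom := quasiSeparated_of_lft M
  let ψ : M ⊗ M ⟶ M ⊗ M := lift (fst M M * snd M M) (snd M M * fst M M)
  let e : 𝟙_ (Over (Spec (CommRingCat.of k))) ⟶ M ⊗ M := lift η[M] η[M]
  let P : Over (Spec (CommRingCat.of k)) :=
    Over.mk (Limits.pullback.snd ψ.left e.left ≫ (𝟙_ (Over (Spec (CommRingCat.of k)))).hom)
  let pP : P ⟶ M ⊗ M := Over.homMk (Limits.pullback.fst ψ.left e.left) (by
    show Limits.pullback.fst ψ.left e.left ≫ (M ⊗ M).hom = Limits.pullback.snd ψ.left e.left ≫ _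
    rw [← Over.w ψ, ← Over.w e, Limits.pullback.condition_assoc])
  have hP : pP ≫ ψ = toUnit P ≫ e := by
    apply Over.OverMorphism.ext
    show Limits.pullback.fst ψ.left e.left ≫ ψ.left = (toUnit P).left ≫ e.left
    rw [Limits.pullback.condition]
    congr 1
  have hone : ∀ (T : Over (Spec (CommRingCat.of k))) (x : T ⟶ 𝟙_ _), x ≫ e = lift 1 1 := fun T x => by
    rw [comp_lift, MonObj.one_eq_one, MonObj.comp_one]
  -- points of `P` are invertible
  have hu : IsUnit (pP ≫ fst M M) := by
    have h := hP.trans (hone _ _)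
    rw [comp_lift] at h
    have h1 := congrArg (fun x => x ≫ fst M M) h
    have h2 := congrArg (fun x => x ≫ snd M M) h
    simp only [lift_fst, lift_snd, MonObj.comp_mul] at h1 h2
    exact ⟨⟨_, pP ≫ snd M M, h1, h2⟩, rfl⟩
  obtain ⟨φ, hφ⟩ := (hi P _).mpr hu
  obtain ⟨v, hv⟩ := (hi G i).mp ⟨𝟙 G, Category.id_comp i⟩
  have hg : lift (v : G ⟶ M) (↑v⁻¹ : G ⟶ M) ≫ ψ = toUnit G ≫ e := by
    rw [hone, comp_lift, MonObj.comp_mul, MonObj.comp_mul, lift_fst, lift_snd, Units.mul_inv, Units.inv_mul]
  let χ : G ⟶ P := Over.homMk (Limits.pullback.lift (lift (v : G ⟶ M) (↑v⁻¹ : G ⟶ M)).left (toUnit G).left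
    (congrArg (fun x => x.left) hg)) (by
    show Limits.pullback.lift _ _ _ ≫ Limits.pullback.snd ψ.left e.left ≫ _ = _
    rw [Limits.pullback.lift_snd_assoc, Over.w])
  have hχ : χ ≫ pP = lift (v : G ⟶ M) (↑v⁻¹ : G ⟶ M) := Over.OverMorphism.ext (Limits.pullback.lift_fst _ _ _)
  have h1 : χ ≫ φ = 𝟙 G := by
    rw [← cancel_mono i, Category.assoc, hφ, reassoc_of% hχ, lift_fst, hv, Category.id_comp]
  have hψ : QuasiCompact ψ.left ∧ LocallyOfFiniteType ψ.left := by
    haveI : LocallyOfFiniteType (M ⊗ M).hom := by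
      rw [← Over.w (fst M M)]
      haveI : LocallyOfFiniteType (fst M M).left :=
        MorphismProperty.of_isPullback (isPullback_left M M).flip ‹LocallyOfFiniteType M.hom›
      infer_instance
    haveI : QuasiCompact (M ⊗ M).hom := by
      rw [← Over.w (fst M M)]
      haveI : QuasiCompact (fst M M).left :=
        MorphismProperty.of_isPullback (isPullback_left M M).flip ‹QuasiCompact M.hom›
      infer_instance
    haveI : LocallyOfFiniteType (ψ.left ≫ (M ⊗ M).hom) := (Over.w ψ).symm ▸ inferInstance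
    exact ⟨qc_left_field ψ, locallyOfFiniteType_of_comp ψ.left (M ⊗ M).hom⟩
  obtain ⟨hψ1, hψ2⟩ := hψ
  haveI : IsIso (𝟙_ (Over (Spec (CommRingCat.of k)))).hom := inferInstanceAs (IsIso (𝟙 _))
  haveI : LocallyOfFiniteType P.hom :=
    inferInstanceAs (LocallyOfFiniteType (Limits.pullback.snd ψ.left e.left ≫ (𝟙_ (Over (Spec (CommRingCat.of k)))).hom))
  haveI : QuasiCompact P.hom :=
    inferInstanceAs (QuasiCompact (Limits.pullback.snd ψ.left e.left ≫ (𝟙_ (Over (Spec (CommRingCat.of k)))).hom))
  have h2 : φ ≫ χ = 𝟙 P := by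
    have hv2 : (φ ≫ (v : G ⟶ M)) = pP ≫ fst M M := by rw [hv, hφ]
    have h := hP.trans (hone _ _)
    rw [comp_lift] at h
    have h3 := congrArg (fun x => x ≫ snd M M) h
    simp only [lift_snd, MonObj.comp_mul] at h3
    have hsnd : φ ≫ (↑v⁻¹ : G ⟶ M) = pP ≫ snd M M := by
      refine left_inv_eq_right_inv (a := pP ≫ fst M M) ?_ ?_ |>.symm.symm
      · rw [← hv2, ← MonObj.comp_mul, Units.inv_mul, MonObj.comp_one]
      · have h4 := congrArg (fun x => x ≫ fst M M) h
        simpa only [lift_fst, MonObj.comp_mul] using h4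
    haveI : Mono e.left := mono_of_mono_fac (Over.w e)
    haveI : Mono (Limits.pullback.fst ψ.left e.left) := inferInstance
    haveI : Mono pP := Over.mono_of_mono_left pP
    rw [← cancel_mono pP, Category.assoc, hχ, comp_lift, hv2, hsnd, ← comp_lift, lift_fst_snd, Category.comp_id, Category.id_comp]
  haveI : IsIso χ := ⟨φ, h1, h2⟩
  haveI : IsIso χ.left := inferInstanceAs (IsIso ((Over.forget _).map χ))
  rw [← Over.w χ]
  exact ⟨inferInstance, inferInstance⟩

end Groth.Agent.S18830
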