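import Groth.Statements.S18817
import Groth.Agent.L19.AlgGrpBasic.UnitLift
import Groth.Agent.S1489
import Groth.Agent.S18830

set_option autoImplicit false
set_option backward.isDefEq.respectTransparency.types false
set_option backward.isDefEq.respectTransparency false
set_option linter.style.haveILetI false
universe u
open CategoryTheory MonoidalCategory CartesianMonoidalCategory MonObj AlgebraicGeometry
open AlgGrp

namespace Groth.Agent.S18817
open Groth.L19.AlgGrpBasic

/-- Let k be a field and M an algebraic monoid over k, i.e. a monoid object in k-schemes whose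
underlying scheme is of finite type over k, and assume M is geometrically integral. Let i : G → M be
the group of units of M: a monomorphism of k-schemes such that, for every k-scheme T, a T-valued
point of M factors through i if and only if it is invertible in the monoid M(T). Then i is an open
immersion. -/
theorem result (k : Type u) [Field k]
    (M G : Over (Spec (CommRingCat.of k))) [MonObj M] [LocallyOfFiniteType M.hom] [QuasiCompact M.hom]
    [GeometricallyIntegral M.hom] (i : G ⟶ M) [Mono i]
    (hi : ∀ (T : Over (Spec (CommRingCat.of k))) (m : T ⟶ M), (∃ g : T ⟶ G, g ≫ i = m) ↔ IsUnit m) :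
    IsOpenImmersion i.left := by
  haveI : LocallyOfFiniteType G.hom := (Groth.Agent.S18830.result k M G i hi).1
  haveI : Mono i.left := inferInstanceAs (Mono ((Over.forget _).map i))
  haveI : LocallyOfFiniteType (i.left ≫ M.hom) := by rw [Over.w]; infer_instance
  haveI : LocallyOfFiniteType i.left := locallyOfFiniteType_of_comp i.left M.hom
  haveI : IsLocallyNoetherian M.left := LocallyOfFiniteType.isLocallyNoetherian M.hom
  haveI : Etale i.left := by
    refine (Groth.Agent.S1489.result i.left).2 ⟨inferInstance, fun A _ I hI a b w => ?_⟩
    let T : Over (Spec (CommRingCat.of k)) := Over.mk (b ≫ M.hom)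
    let q := Spec.map (CommRingCat.ofHom (Ideal.Quotient.mk I))
    let T0 : Over (Spec (CommRingCat.of k)) := Over.mk (q ≫ b ≫ M.hom)
    let j : T0 ⟶ T := Over.homMk q rfl
    let m : T ⟶ M := Over.homMk b rfl
    let a0 : T0 ⟶ G := Over.homMk a (by
      show a ≫ G.hom = q ≫ b ≫ M.hom
      rw [← Over.w i, ← Category.assoc, ← w, Category.assoc])
    have ha : a0 ≫ i = j ≫ m := Over.OverMorphism.ext w.symm
    have hm : IsUnit m :=
      isUnit_of_thickening j (isFiniteOrderThickening_quotient hI) m ((hi T0 (j ≫ m)).1 ⟨a0, ha⟩)
    obtain ⟨g, hg⟩ := (hi T m).2 hm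
    have hgl : g.left ≫ i.left = b := congrArg (fun f => f.left) hg
    refine ⟨g.left, ⟨?_, hgl⟩, fun l hl => ?_⟩
    · rw [← cancel_mono i.left]
      exact (Category.assoc _ _ _).trans ((congrArg (q ≫ ·) hgl).trans w)
    · rw [← cancel_mono i.left, hl.2, hgl]
  exact IsOpenImmersion.of_flat_of_mono i.left

end Groth.Agent.S18817
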