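import Groth.Statements.S18821
import Groth.Agent.L25.Actions
import Mathlib.AlgebraicGeometry.Pullbacks

set_option autoImplicit false
universe u
open CategoryTheory MonoidalCategory CartesianMonoidalCategory MonObj AlgebraicGeometry
open AlgGrp

namespace Groth.Agent.S18821

/-- Let k be a commutative ring and M a monoid k-scheme (a monoid object in k-schemes). Then the group
k-functor of units T ↦ M(T)^× is representable by a k-scheme: there are a k-scheme G and a
monomorphism i : G → M such that, for every k-scheme T, a T-valued point of M factors through i if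
and only if it is invertible in the monoid M(T). If moreover M is affine then G is affine. -/
theorem result (k : Type u) [CommRing k]
    (M : Over (Spec (CommRingCat.of k))) [MonObj M] :
    ∃ (G : Over (Spec (CommRingCat.of k))) (i : G ⟶ M), Mono i ∧
      (∀ (T : Over (Spec (CommRingCat.of k))) (m : T ⟶ M), (∃ g : T ⟶ G, g ≫ i = m) ↔ IsUnit m) ∧
      (IsAffine M.left → IsAffine G.left) := by
  classical
  let p : M ⊗ M ⟶ M ⊗ M := lift μ[M] (lift (CartesianMonoidalCategory.snd M M) (CartesianMonoidalCategory.fst M M) ≫ μ[M])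
  let e : 𝟙_ (Over (Spec (CommRingCat.of k))) ⟶ M ⊗ M := lift η[M] η[M]
  let G : Over (Spec (CommRingCat.of k)) := Limits.pullback p e
  let j : G ⟶ M ⊗ M := Limits.pullback.fst p e
  have pts : ∀ {T : Over (Spec (CommRingCat.of k))} (w : T ⟶ M ⊗ M),
      (w ≫ p = toUnit T ≫ e) ↔ ((w ≫ CartesianMonoidalCategory.fst M M) * (w ≫ CartesianMonoidalCategory.snd M M) = 1 ∧
        (w ≫ CartesianMonoidalCategory.snd M M) * (w ≫ CartesianMonoidalCategory.fst M M) = 1) := by
    intro T w
    have h1 : (w ≫ CartesianMonoidalCategory.fst M M) * (w ≫ CartesianMonoidalCategory.snd M M) = w ≫ μ[M] := by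
      rw [Hom.mul_def, ← comp_lift, lift_fst_snd, Category.comp_id]
    have h2 : (w ≫ CartesianMonoidalCategory.snd M M) * (w ≫ CartesianMonoidalCategory.fst M M) =
        w ≫ lift (CartesianMonoidalCategory.snd M M) (CartesianMonoidalCategory.fst M M) ≫ μ[M] := by
      rw [Hom.mul_def, ← Category.assoc, comp_lift]
    rw [h1, h2, Hom.one_def]
    constructor
    · intro h
      exact ⟨by simpa [p, e] using congrArg (fun f => f ≫ CartesianMonoidalCategory.fst M M) h,
        by simpa [p, e] using congrArg (fun f => f ≫ CartesianMonoidalCategory.snd M M) h⟩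
    · rintro ⟨a, b⟩
      refine CartesianMonoidalCategory.hom_ext _ _ ?_ ?_
      · simpa [p, e] using a
      · simpa [p, e] using b
  have hG : ∀ {T : Over (Spec (CommRingCat.of k))} (g : T ⟶ G),
      (g ≫ j ≫ CartesianMonoidalCategory.fst M M) * (g ≫ j ≫ CartesianMonoidalCategory.snd M M) = 1 ∧
        (g ≫ j ≫ CartesianMonoidalCategory.snd M M) * (g ≫ j ≫ CartesianMonoidalCategory.fst M M) = 1 := by
    intro T g
    have := (pts (g ≫ j)).1 (by
      rw [Category.assoc, Limits.pullback.condition, ← Category.assoc]; congr 1; exact Subsingleton.elim _ _)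
    simpa only [Category.assoc] using this
  refine ⟨G, j ≫ CartesianMonoidalCategory.fst M M, ⟨fun {T} g g' h => ?_⟩, fun T m => ⟨?_, ?_⟩, fun hM => ?_⟩
  · refine Limits.pullback.hom_ext (CartesianMonoidalCategory.hom_ext _ _ ?_ ?_) (Subsingleton.elim _ _)
    · rw [Category.assoc, Category.assoc]; exact h
    · rw [Category.assoc, Category.assoc]
      exact left_inv_eq_right_inv (hG g).2 (h ▸ (hG g').1)
  · rintro ⟨g, rfl⟩
    exact ⟨⟨_, _, (hG g).1, (hG g).2⟩, rfl⟩
  · rintro ⟨v, rfl⟩
    refine ⟨Limits.pullback.lift (lift (v : T ⟶ M) (↑v⁻¹ : T ⟶ M)) (toUnit T) ((pts _).2 ⟨?_, ?_⟩), ?_⟩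
    · rw [lift_fst, lift_snd]; exact v.mul_inv
    · rw [lift_fst, lift_snd]; exact v.inv_mul
    · rw [← Category.assoc, Limits.pullback.lift_fst, lift_fst]
  · have hMM : IsAffine (M ⊗ M).left := Scheme.Pullback.isAffine_of_isAffine_isAffine_isAffine M.hom M.hom
    have h1 : IsAffine (𝟙_ (Over (Spec (CommRingCat.of k)))).left := inferInstanceAs (IsAffine (Spec _))
    have hp : IsPullback (Limits.pullback.fst p e).left (Limits.pullback.snd p e).left p.left e.left :=
      (IsPullback.of_hasPullback p e).map (Over.forget _)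
    exact IsAffine.of_isIso hp.isoPullback.hom
end Groth.Agent.S18821
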