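import Groth.Statements.S18823
import Groth.Agent.L08.FactorLocus
import Mathlib.AlgebraicGeometry.Morphisms.SchemeTheoreticallyDominant

set_option autoImplicit false
universe u
open CategoryTheory MonoidalCategory CartesianMonoidalCategory AlgebraicGeometry
open AlgGrp

namespace Groth.Agent.S18823

/-- Let k be a field, X a separated k-scheme, M a k-scheme (in the source a monoid k-scheme) acting on X
through a : M ×_k X → X, and i : G → M a morphism of k-schemes which is a scheme-theoretically
dominant open immersion: no nonzero quasi-coherent ideal of O_M restricts to zero on G (for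
quasi-compact i this is the usual schematic density, O_M → i_*O_G injective; in the source G is the
group of units of M, open and schematically dense). For a k-scheme T and a T-valued point x of X, x
is fixed under M, i.e. a ∘ (id_M × x) = x ∘ pr_T on M ×_k T, if and only if x is fixed under G, i.e.
a ∘ (i × x) = x ∘ pr_T on G ×_k T. Thus the fixed-point subpresheaves X^M and X^G of X are equal.
(The published statement has no separatedness assumption on X and reduces to points landing in an
affine open; the step asserting that the equalizer of the two maps M ×_k T → X is closed uses that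
the target is separated, so X is taken separated here, the case the printed argument establishes.
The monoid structure and the action axioms play no role in that argument and are not assumed.) -/
theorem result (k : Type u) [Field k]
    (M G X : Over (Spec (CommRingCat.of k))) [IsSeparated X.hom] (a : M ⊗ X ⟶ X) (i : G ⟶ M)
    [IsOpenImmersion i.left] [IsSchemeTheoreticallyDominant i.left]
    (T : Over (Spec (CommRingCat.of k))) (x : T ⟶ X) :
    (M ◁ x) ≫ a = CartesianMonoidalCategory.snd M T ≫ x ↔
      (G ◁ x) ≫ (i ▷ X) ≫ a = CartesianMonoidalCategory.snd G T ≫ x := by
  constructor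
  · intro h
    have hG := congrArg (fun e => (i ▷ T) ≫ e) h
    rw [← whisker_exchange_assoc, whiskerRight_snd_assoc] at hG
    exact hG
  · intro h
    obtain ⟨Z, j, hj, hZ⟩ := Groth.L08.FactorLocus.exists_closedImmersion_agree
      ((β_ T M).hom ≫ (M ◁ x) ≫ a) (CartesianMonoidalCategory.fst T M ≫ x)
    obtain ⟨z, hz⟩ := (hZ G i).2 (by
      rw [BraidedCategory.braiding_naturality_right_assoc, ← whisker_exchange_assoc, h,
        whiskerLeft_fst_assoc]
      simp)
    have : IsIso j.left := by
      rw [IsClosedImmersion.isIso_iff_ker_eq_bot, eq_bot_iff,
        ← Scheme.Hom.ker_eq_bot i.left, ← hz, Over.comp_left]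
      exact Scheme.Hom.le_ker_comp z.left j.left
    have : IsIso ((Over.forget _).map j) := this
    have : IsIso j := isIso_of_reflects_iso j (Over.forget _)
    have hall := (hZ M (𝟙 M)).1 ⟨inv j, IsIso.inv_hom_id j⟩
    rw [MonoidalCategory.whiskerLeft_id, Category.id_comp, Category.id_comp,
      ← Iso.eq_inv_comp] at hall
    rw [hall]
    simp

end Groth.Agent.S18823
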