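import Groth.Statements.S18825
import Groth.Agent.S3034
import Groth.Agent.Lead.FlatSTD
import Groth.Agent.L11.Magnet.Factor
-- import your own Groth.Agent.* helpers here

set_option autoImplicit false
universe u
open CategoryTheory MonoidalCategory CartesianMonoidalCategory MonObj AlgebraicGeometry
open AlgGrp

namespace Groth.Agent.S18825

/-- Let k be a field and f : H → G a homomorphism of locally algebraic groups over k (group k-schemes
locally of finite type) which is of finite type (equivalently quasi-compact). Let H → K → G be the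
factorization of f through its scheme-theoretic image: i : K → G a closed immersion and g : H → K
with g followed by i equal to f and O_K → g_*O_H injective. Then (1) K is a closed subgroup scheme
of G: the unit section of G factors through i and, for every k-scheme T and T-valued points k₁, k₂
of K, the T-valued point (i k₁)⁻¹ · (i k₂) of G factors through i; and (2) g : H → K is surjective.
(The source also records that g is a homomorphism for the group structure induced on K; this row
does not state it.) -/
theorem result (k : Type u) [Field k]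
    (H G K : Over (Spec (CommRingCat.of k))) [GrpObj H] [GrpObj G]
    [LocallyOfFiniteType H.hom] [LocallyOfFiniteType G.hom]
    (f : H ⟶ G) [IsMonHom f] [QuasiCompact f.left]
    (i : K ⟶ G) [IsClosedImmersion i.left] (g : H ⟶ K) (hgi : g ≫ i = f)
    [IsSchemeTheoreticallyDominant g.left] :
    ((∃ e : 𝟙_ (Over (Spec (CommRingCat.of k))) ⟶ K, e ≫ i = η[G]) ∧
      ∀ (T : Over (Spec (CommRingCat.of k))) (k₁ k₂ : T ⟶ K),
        ∃ k₃ : T ⟶ K, k₃ ≫ i = (k₁ ≫ i)⁻¹ * (k₂ ≫ i)) ∧
    Surjective g.left := by
  haveI : Flat H.hom := Groth.L11.Magnet.flat_of_field H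
  obtain ⟨C, _, p, j, _, _, hpj, hpf, hps, -, hj⟩ := Groth.Agent.S3034.result k H G f
    (Groth.L11.Magnet.flat_of_field (Over.mk (Limits.pullback.snd f.left
      (η[G] : 𝟙_ (Over (Spec (CommRingCat.of k))) ⟶ G).left)))
  haveI := hj
  haveI := hpf
  haveI := hps
  haveI : QuasiCompact p.left := by
    haveI : QuasiCompact (p.left ≫ j.left) := by rw [← Over.comp_left, hpj]; infer_instance
    exact QuasiCompact.of_comp p.left j.left
  haveI := Groth.Lead.FlatSTD.isSchemeTheoreticallyDominant p.left
  have e : g.left ≫ i.left = p.left ≫ j.left := by rw [← Over.comp_left, ← Over.comp_left, hgi, hpj]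
  obtain ⟨φ, hφ⟩ := Groth.L11.Magnet.exists_factor_closed p.left j.left i.left g.left e
  obtain ⟨ψ, hψ⟩ := Groth.L11.Magnet.exists_factor_closed g.left i.left j.left p.left e.symm
  let φo : C ⟶ K := Over.homMk φ (by rw [← Over.w i, ← Category.assoc, hφ, Over.w j])
  let ψo : K ⟶ C := Over.homMk ψ (by rw [← Over.w j, ← Category.assoc, hψ, Over.w i])
  have hφo : φo ≫ i = j := Over.OverMorphism.ext hφ
  have hψo : ψo ≫ j = i := Over.OverMorphism.ext hψ
  refine ⟨⟨⟨η[C] ≫ φo, by rw [Category.assoc, hφo]; exact IsMonHom.one_hom j⟩,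
    fun T k₁ k₂ => ⟨((k₁ ≫ ψo)⁻¹ * (k₂ ≫ ψo)) ≫ φo, ?_⟩⟩, ?_⟩
  · rw [Category.assoc, hφo, MonObj.mul_comp, GrpObj.inv_comp, Category.assoc, Category.assoc, hψo]
  · have hg : g.left = p.left ≫ φ := by
      rw [← cancel_mono i.left, Category.assoc, hφ, e]
    have hiso : Surjective φ := by
      have h1 : ψ ≫ φ = 𝟙 _ := by rw [← cancel_mono i.left, Category.assoc, hφ, hψ, Category.id_comp]
      exact ⟨fun x => ⟨ψ x, by rw [← Scheme.Hom.comp_apply, h1]; rfl⟩⟩
    rw [hg]
    infer_instance

end Groth.Agent.S18825
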