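import Groth.Statements.S18826
import Groth.Agent.L19.AlgGrpBasic.Descent
import Groth.Agent.L25.Actions

set_option autoImplicit false
set_option backward.isDefEq.respectTransparency.types false
set_option backward.isDefEq.respectTransparency false
set_option linter.style.haveILetI false
universe u
open CategoryTheory MonoidalCategory CartesianMonoidalCategory MonObj AlgebraicGeometry
open AlgGrp

namespace Groth.Agent.S18826
open Groth.L19.AlgGrpBasic

/-- Let k be a field, G a locally algebraic group over k (a group k-scheme locally of finite type)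
acting on k-schemes X and Y, and f : X → Y a G-equivariant k-morphism. Let P be a property of
morphisms of schemes which is local on the target for the Zariski topology, stable under base
change, and descends along flat surjective universally open morphisms (the published hypothesis is
descent along fpqc morphisms; the printed argument descends only along the restriction G ×_k U → G·U
of the action, which is flat, surjective and universally open). Then there is a largest open subset
V of Y such that the restriction f⁻¹(V) → V of f has P, and this V is G-stable: the action G ×_k Y →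
Y maps G ×_k V into V. -/
theorem result (k : Type u) [Field k]
    (G X Y : Over (Spec (CommRingCat.of k))) [GrpObj G] [LocallyOfFiniteType G.hom]
    (aX : AlgGrp.Action G X) (aY : AlgGrp.Action G Y) (f : X ⟶ Y) (hf : (G ◁ f) ≫ aY.act = aX.act ≫ f)
    (P : MorphismProperty Scheme.{u}) [IsZariskiLocalAtTarget P] [P.IsStableUnderBaseChange]
    [P.DescendsAlong (@Flat ⊓ @Surjective ⊓ @UniversallyOpen)] :
    ∃ V : Y.left.Opens, P (f.left ∣_ V) ∧ (∀ V' : Y.left.Opens, P (f.left ∣_ V') → V' ≤ V) ∧
      (CartesianMonoidalCategory.snd G Y).left ⁻¹ᵁ V ≤ aY.act.left ⁻¹ᵁ V := by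
  let S0 : Set Y.left.Opens := {V' | P (f.left ∣_ V')}
  have hfl : Flat G.hom := inferInstance
  haveI : UniversallyOpen G.hom := inferInstance
  have hV : P (f.left ∣_ sSup S0) := by
    refine IsZariskiLocalAtTarget.of_iSup_eq_top (fun V' : S0 => (sSup S0).ι ⁻¹ᵁ V'.1) ?_ fun V' => ?_
    · rw [← Scheme.Hom.preimage_iSup, ← sSup_eq_iSup', Scheme.Opens.ι_preimage_self]
    · have hle : V'.1 ≤ sSup S0 := le_sSup V'.2
      refine (MorphismProperty.arrow_mk_iso_iff P (morphismRestrictRestrict f.left (sSup S0) ((sSup S0).ι ⁻¹ᵁ V'.1))).2 ?_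
      rw [Scheme.Hom.image_preimage_eq_opensRange_inf, Scheme.Opens.opensRange_ι, inf_eq_right.2 hle]
      exact V'.2
  refine ⟨sSup S0, hV, fun V' hV' => le_sSup hV', ?_⟩
  let U : (G ⊗ Y).left.Opens := (snd G Y).left ⁻¹ᵁ sSup S0
  haveI : Flat aY.act.left := Groth.L25.Actions.act_of_hom aY @Flat ‹Flat G.hom›
  haveI : UniversallyOpen aY.act.left := Groth.L25.Actions.act_of_hom aY @UniversallyOpen ‹UniversallyOpen G.hom›
  let W : Y.left.Opens := ⟨aY.act.left '' (U : Set (G ⊗ Y).left), aY.act.left.isOpenMap _ U.2⟩
  have hUW : U ≤ aY.act.left ⁻¹ᵁ W := fun z hz => ⟨z, hz, rfl⟩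
  suffices hW : P (f.left ∣_ W) from hUW.trans (Scheme.Hom.preimage_mono _ (le_sSup hW))
  have sq1 : IsPullback (snd G X).left (G ◁ f).left f.left (snd G Y).left := (isPullback_whiskerLeft G f).flip
  have hsh : (G ◁ f) ≫ (Groth.L25.Actions.shear aY).hom = (Groth.L25.Actions.shear aX).hom ≫ (G ◁ f) := by
    apply CartesianMonoidalCategory.hom_ext
    · simp [Groth.L25.Actions.shear]
    · simp [Groth.L25.Actions.shear, hf]
  have sqs : IsPullback (Groth.L25.Actions.shear aX).hom.left (G ◁ f).left (G ◁ f).left
      (Groth.L25.Actions.shear aY).hom.left := by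
    haveI : IsIso (Groth.L25.Actions.shear aX).hom.left :=
      inferInstanceAs (IsIso ((Over.forget _).map (Groth.L25.Actions.shear aX).hom))
    haveI : IsIso (Groth.L25.Actions.shear aY).hom.left :=
      inferInstanceAs (IsIso ((Over.forget _).map (Groth.L25.Actions.shear aY).hom))
    exact IsPullback.of_horiz_isIso ⟨by rw [← Over.comp_left, ← Over.comp_left, hsh]⟩
  have sq2 : IsPullback aX.act.left (G ◁ f).left f.left aY.act.left := by
    have := sqs.paste_horiz sq1
    rwa [← Over.comp_left, ← Over.comp_left, Groth.L25.Actions.shear_hom_snd, Groth.L25.Actions.shear_hom_snd] at this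
  have hU : P ((G ◁ f).left ∣_ U) := by
    have big := ((isPullback_morphismRestrict (G ◁ f).left U).paste_vert sq1.flip).flip
    rw [show U.ι ≫ (snd G Y).left = (snd G Y).left ∣_ (sSup S0) ≫ (sSup S0).ι from (morphismRestrict_ι _ _).symm] at big
    exact MorphismProperty.of_isPullback (IsPullback.of_right' big (isPullback_morphismRestrict f.left (sSup S0)).flip) hV
  let h : U.toScheme ⟶ W.toScheme := aY.act.left.resLE W U hUW
  haveI : Flat h := inferInstanceAs (Flat (aY.act.left.resLE W U hUW))
  haveI : UniversallyOpen h :=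
    IsZariskiLocalAtSource.comp (P := @UniversallyOpen)
      (IsZariskiLocalAtTarget.restrict (P := @UniversallyOpen) ‹UniversallyOpen aY.act.left› W) _
  haveI : Surjective h := ⟨fun w => by
    obtain ⟨z, hz, hzw⟩ := (w.2 : w.1 ∈ aY.act.left '' (U : Set (G ⊗ Y).left))
    refine ⟨⟨z, hz⟩, W.ι.isOpenEmbedding.injective ?_⟩
    rw [← Scheme.Hom.comp_apply, Scheme.Hom.resLE_comp_ι]
    exact hzw⟩
  have big2 := ((isPullback_morphismRestrict (G ◁ f).left U).paste_vert sq2.flip).flip
  rw [show U.ι ≫ aY.act.left = h ≫ W.ι from (Scheme.Hom.resLE_comp_ι _ _).symm] at big2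
  exact MorphismProperty.of_isPullback_of_descendsAlong (P := P) (Q := @Flat ⊓ @Surjective ⊓ @UniversallyOpen)
    (IsPullback.of_right' big2 (isPullback_morphismRestrict f.left W).flip).flip ⟨⟨‹_›, ‹_›⟩, ‹_›⟩ hU

end Groth.Agent.S18826
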