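import Groth.Statements.S18828
import Groth.Agent.L02.An.Germ.FlatBij
import Groth.Agent.L11.Magnet.Factor
import Groth.Agent.S5336
import Mathlib.AlgebraicGeometry.Morphisms.FlatMono
-- import your own Groth.Agent.* helpers here

set_option autoImplicit false
universe u
open CategoryTheory MonoidalCategory CartesianMonoidalCategory MonObj AlgebraicGeometry
open AlgGrp

namespace Groth.Agent.S18828

/-- Let k be a field and f : H → G a homomorphism of locally algebraic groups over k (group k-schemes
locally of finite type). Write e_H for the unit point of H (the image under the unit section of the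
point pt of the base Spec k) and φ : O_{G,f(e_H)} → O_{H,e_H} for the induced local homomorphism of
local rings. Assume (1) φ induces an isomorphism of completed local rings, stated here as: for every
n, φ followed by reduction modulo the (n+1)-st power of the maximal ideal of O_{H,e_H} is
surjective, and an element of O_{G,f(e_H)} maps into that power exactly when it lies in the (n+1)-st
power of the maximal ideal of O_{G,f(e_H)}; and (2) f is a monomorphism of schemes. Then f is an
open immersion. -/
theorem result (k : Type u) [Field k]
    (H G : Over (Spec (CommRingCat.of k))) [GrpObj H] [GrpObj G]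
    [LocallyOfFiniteType H.hom] [LocallyOfFiniteType G.hom] (f : H ⟶ G) [IsMonHom f] [Mono f.left]
    (pt : ↥(𝟙_ (Over (Spec (CommRingCat.of k)))).left)
    (h : ∀ n : ℕ,
      Function.Surjective ((Ideal.Quotient.mk (IsLocalRing.maximalIdeal
          ↑(H.left.presheaf.stalk (η[H].left.base pt)) ^ (n + 1))).comp
        (f.left.stalkMap (η[H].left.base pt)).hom) ∧
      ∀ a : ↑(G.left.presheaf.stalk (f.left.base (η[H].left.base pt))),
        (f.left.stalkMap (η[H].left.base pt)).hom a ∈
            IsLocalRing.maximalIdeal ↑(H.left.presheaf.stalk (η[H].left.base pt)) ^ (n + 1) ↔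
          a ∈ IsLocalRing.maximalIdeal ↑(G.left.presheaf.stalk (f.left.base (η[H].left.base pt))) ^ (n + 1)) :
    IsOpenImmersion f.left := by
  haveI : Flat H.hom := Groth.L11.Magnet.flat_of_field H
  haveI : IsLocallyNoetherian H.left := LocallyOfFiniteType.isLocallyNoetherian H.hom
  haveI : IsLocallyNoetherian G.left := LocallyOfFiniteType.isLocallyNoetherian G.hom
  let x := η[H].left.base pt
  let φ := (f.left.stalkMap x).hom
  letI := φ.toAlgebra
  have hflat : φ.Flat := by
    rw [← φ.algebraMap_toAlgebra, RingHom.flat_algebraMap_iff]
    refine Groth.L02.An.flat_of_bijective_pow ?_ ?_ ?_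
    · haveI hloc : IsLocalHom φ := f.left.toLRSHom.prop x
      exact ((IsLocalRing.local_hom_TFAE φ).out 0 2).mp hloc
    · intro n b
      cases n with
      | zero => exact ⟨0, by simp⟩
      | succ n =>
        obtain ⟨a, ha⟩ := (h n).1 (Ideal.Quotient.mk _ b)
        exact ⟨a, Ideal.Quotient.eq.1 ha.symm⟩
    · intro n a ha
      cases n with
      | zero => simp
      | succ n => exact ((h n).2 a).1 ha
  haveI : Flat f.left := Groth.Agent.S5336.result k H G f ⟨x, hflat⟩
  haveI : LocallyOfFiniteType f.left := by
    haveI : LocallyOfFiniteType (f.left ≫ G.hom) := by rw [Over.w f]; infer_instance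
    exact locallyOfFiniteType_of_comp f.left G.hom
  haveI : LocallyOfFinitePresentation f.left :=
    LocallyOfFinitePresentation.iff_locallyOfFiniteType.2 inferInstance
  exact IsOpenImmersion.of_flat_of_mono f.left

end Groth.Agent.S18828
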