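import Groth.Statements.S18829
import Groth.Agent.L08.Retract
import Groth.Agent.S18813

set_option autoImplicit false
universe u
open scoped TensorProduct
open HopfRep

namespace Groth.Agent.S18829
open TensorProduct

/-- Let k be a field and A a finitely generated commutative Hopf algebra over k, the coordinate ring of
an affine algebraic group T. Suppose T is a torus: for some algebraically closed field extension K
of k the base change K ⊗_k A is isomorphic as a K-bialgebra to the group algebra over K of a free
abelian group ℤ^n (T_K is a split torus of rank n). Then T is linearly reductive in the sense that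
every finite-dimensional A-comodule is semisimple. (The source's definition of a torus asks for such
an isomorphism over every algebraically closed extension; one suffices for the printed argument. The
source's notion of a linearly reductive algebraic group also includes smoothness of T over k, which
this row does not assert.) -/
theorem result (k K A : Type u) [Field k] [Field K]
    [Algebra k K] [IsAlgClosed K] [CommRing A] [HopfAlgebra k A] [Algebra.FiniteType k A] (n : ℕ)
    (e : (K ⊗[k] A) ≃ₐc[K] MonoidAlgebra K (Multiplicative (Fin n → ℤ))) :
    HopfRep.IsLinearlyReductive k A := by
  rw [Groth.Agent.S18813.result k K A]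
  obtain ⟨α, hα⟩ := L08.exists_isIntegral_monoidAlgebra K (Multiplicative (Fin n → ℤ))
  let E : TensorProduct k K A →ₗ[K] MonoidAlgebra K (Multiplicative (Fin n → ℤ)) :=
    e.toBialgHom.toCoalgHom.toLinearMap
  have hinj : Function.Injective E := e.injective
  have h1 : E 1 = 1 := map_one e
  refine L08.isLinearlyReductive_of_isIntegral (α := α ∘ₗ E) ⟨fun x => ?_, by
    rw [LinearMap.comp_apply, h1, hα.2]⟩
  have hc : TensorProduct.map E E (Coalgebra.comul (R := K) x) = Coalgebra.comul (R := K) (E x) :=
    LinearMap.congr_fun e.toBialgHom.toCoalgHom.map_comp_comul x
  apply Module.Flat.lTensor_preserves_injective_linearMap E hinj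
  rw [LinearMap.lTensor_tmul, h1, LinearMap.comp_apply, ← hα.1 (E x), ← hc]
  induction Coalgebra.comul (R := K) x with
  | zero => simp
  | add p q hp hq => simp only [map_add, hp, hq]
  | tmul p q => simp

end Groth.Agent.S18829
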