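import Groth.Statements.S18831
import Groth.Agent.L21.Bundle.Sections

set_option autoImplicit false
set_option backward.isDefEq.respectTransparency false
universe u
open CategoryTheory CategoryTheory.Limits AlgebraicGeometry
open VBCurve

namespace Groth.Agent.S18831

/-- Let X be a smooth projective integral curve over an algebraically closed field k of characteristic
zero, and G a finite locally free O_X-module of rank r ≥ 1 which is slope-semistable, of slope μ =
deg G / r (deg G = χ(G) − r χ(O_X)). Then dim_k H^0(X, G) ≤ r · max(⌊μ⌋ + 1, 0); in particular a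
slope-semistable bundle of negative slope has no nonzero global section. -/
theorem result (k : Type u) [Field k] [IsAlgClosed k] [CharZero k]
    (X : Scheme.{u}) [X.Over (Spec (CommRingCat.of k))]
    [IsIntegral X] [IsProper (X ↘ Spec (CommRingCat.of k))] [Smooth (X ↘ Spec (CommRingCat.of k))]
    (hdim : topologicalKrullDim X = 1)
    (r : ℕ) (hr : 0 < r) (G : X.Modules) (hG : FlatMod.IsFinLocFreeOfRank r G)
    (hss : ModFun.IsSlopeSemistable k X G r) :
    (Module.finrank k (Coh.HH X G 0) : ℤ) ≤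
      (r : ℤ) * max (⌊(Curv2.deg k X G r : ℚ) / (r : ℚ)⌋ + 1) 0 := by
  haveI := Groth.L21.RR.isNoetherian_of_proper (X := X) k
  have hreg := Groth.L21.Smooth.regular_stalk (k := k) (X ↘ Spec (CommRingCat.of k))
  obtain ⟨z, -, hz, hzne, hp⟩ := Groth.L22.CurveDeg.exists_regular_point_mem k hdim ⊤ trivial
  obtain ⟨L, s, -, -, hL, hd1, hs, -⟩ := Groth.L21.RR.exists_deg_one_section k hdim.le hz hzne
    (Groth.L21.RR.isRat_of_isClosed k hz) hp
  have hb := Groth.L21.Bundle.bd_of_ss k hreg hdim.le hG hss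
  rw [← Groth.L21.Bundle.dg_eq k hG] at hb
  set m : ℤ := max (⌊(Curv2.deg k X G r : ℚ) / (r : ℚ)⌋ + 1) 0 with hm
  have hm0 : 0 ≤ m := le_max_right _ _
  have hlt : Curv2.deg k X G r < (m.toNat : ℤ) * (r : ℤ) := by
    rw [Int.toNat_of_nonneg hm0]
    have h1 : (Curv2.deg k X G r : ℚ) / (r : ℚ) < (m : ℚ) := by
      refine (Int.lt_floor_add_one _).trans_le ?_
      have h3 := (Int.cast_le (R := ℚ)).2 (le_max_left _ _ : (⌊(Curv2.deg k X G r : ℚ) / (r : ℚ)⌋ + 1) ≤ m)
      rw [Int.cast_add, Int.cast_one] at h3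
      exact h3
    rw [div_lt_iff₀ (by exact_mod_cast hr)] at h1
    exact_mod_cast h1
  have h2 : Groth.L21.RR.h k 0 G ≤ r * m.toNat := Groth.L21.Bundle.h0_le_of_bd k hreg hdim hL hd1 hs m.toNat hG hb hlt
  calc (Module.finrank k (Coh.HH X G 0) : ℤ) ≤ ((r * m.toNat : ℕ) : ℤ) := by exact_mod_cast h2
    _ = (r : ℤ) * m := by rw [Nat.cast_mul, Int.toNat_of_nonneg hm0]

end Groth.Agent.S18831
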