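import Groth.Statements.S18832
import Groth.Agent.L12.RegJets2


set_option autoImplicit false
universe u
open Polynomial
open DefT

namespace Groth.Agent.S18832

/-- Let k be an algebraically closed field of characteristic zero, A a finitely generated k-algebra and
m a maximal ideal of A. Then A_m is a regular local ring (the pointed scheme (Spec A, m) is smooth
at m) if and only if, for every l ≥ 1, every k-algebra homomorphism φ : A → k[X]/(X^l) mapping m
into the nilpotent elements extends to a k-algebra homomorphism ψ : A → k[X]/(X^(l+1)) reducing to φ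
modulo X^l. Only jets along Spec k[X]/(X^l) are tested, not all local Artinian algebras. -/
theorem result (k : Type u) [Field k] [IsAlgClosed k] [CharZero k]
    (A : Type u) [CommRing A] [Algebra k A] [Algebra.FiniteType k A]
    (m : Ideal A) [m.IsMaximal] :
    IsRegularLocalRing (Localization.AtPrime m) ↔
      ∀ (l : ℕ), 1 ≤ l →
        ∀ (φ : A →ₐ[k] (k[X] ⧸ Ideal.span {(X : k[X]) ^ l})),
          (∀ a ∈ m, IsNilpotent (φ a)) →
          ∃ ψ : A →ₐ[k] (k[X] ⧸ Ideal.span {(X : k[X]) ^ (l + 1)}),
            (Ideal.Quotient.factorₐ k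
                (Ideal.span_singleton_le_span_singleton.mpr (pow_dvd_pow (X : k[X]) (Nat.le_succ l)))).comp ψ = φ := by
  obtain ⟨res, -⟩ : ∃ res : Localization.AtPrime m →ₐ[k] k, True := by
    let e : k ≃ₐ[k] IsLocalRing.ResidueField (Localization.AtPrime m) :=
      AlgEquiv.ofBijective (Algebra.ofId k _)
        ⟨(algebraMap k _).injective, Groth.L12.RegJets.residue_surjective_atPrime A m⟩
    exact ⟨e.symm.toAlgHom.comp (IsScalarTower.toAlgHom k _ _), trivial⟩
  refine ⟨fun hreg l hl φ hφ => ?_, fun H => Groth.L12.RegJets.regular_of_jets A m res H⟩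
  obtain ⟨φ', hφ'ι, hφ'n⟩ := Groth.L12.RegJets.exists_extend A m res φ hφ
  obtain ⟨g, hg⟩ := Groth.L12.RegJets.exists_lift res
    (Ideal.Quotient.factorₐ k (Ideal.span_singleton_le_span_singleton.mpr
      (pow_dvd_pow (X : k[X]) (Nat.le_succ l)))) (fun z => by
        obtain ⟨z, rfl⟩ := Ideal.Quotient.mk_surjective z
        exact ⟨Ideal.Quotient.mk _ z, rfl⟩) (fun z hz => by
      obtain ⟨z, rfl⟩ := Ideal.Quotient.mk_surjective z
      refine Groth.L12.RegJets.mk_isNilpotent (Groth.L12.RegJets.X_dvd_of_isNilpotent_mk (n := l) ?_ (by omega))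
      exact ⟨1, (pow_one _).trans hz⟩) φ' hφ'n
  refine ⟨g.comp (IsScalarTower.toAlgHom k A _), ?_⟩
  rw [← AlgHom.comp_assoc, hg, hφ'ι]
end Groth.Agent.S18832
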