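import Groth.Statements.S18833
import Groth.Agent.L03.ShStab.Ell

set_option autoImplicit false
open CategoryTheory CategoryTheory.Limits AlgebraicGeometry Polynomial
universe u
open ShStab

open Groth.L03.ShStab Groth.L03.Euler Groth.L03.ShStab.Bridge

namespace Groth.Agent.S18833

/-- Let k be an algebraically closed field of characteristic zero, X a smooth projective integral
variety of dimension n ≥ 1 over k with an ample invertible sheaf L, and F a nonzero torsion-free
coherent O_X-module (pure of dimension n). Then F has exactly one increasing filtration by saturated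
subsheaves 0 ⊂ F_0 ⊂ ⋯ ⊂ F_s = F whose graded pieces are torsion-free and slope-semistable with
strictly decreasing slopes. Slopes are compared through the quantity α_(n−1)/α_n of the Hilbert
polynomials with respect to L, an increasing affine function of the slope det · L^(n−1)/rank used in
the source; the source takes L very ample, its argument using only that high twists of coherent
sheaves are globally generated, so L is taken ample here. -/
theorem result (k : Type u) [Field k] [IsAlgClosed k] [CharZero k]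
    (X : Scheme.{u}) [X.Over (Spec (CommRingCat.of k))] [IsIntegral X]
    [IsProper (X ↘ Spec (CommRingCat.of k))] [Smooth (X ↘ Spec (CommRingCat.of k))]
    (n : ℕ) (hn : 1 ≤ n) (hX : topologicalKrullDim X = (n : WithBot ℕ∞))
    (L : X.Modules) (hLi : PicF.IsInvertible L) (hL : CohB1.IsAmple L)
    (F : X.Modules) (hF : Coh.IsCoh F) (h0 : ¬ IsZero F) (htf : ShStab.IsPure X F n) :
    ∃! s : LTSeries (Subobject F),
      s.head = ⊥ ∧ s.last = ⊤ ∧
      (∀ i : Fin s.length,
        ShStab.IsPure X (StabCat.factor s i) n ∧ ShStab.IsMuSemistable k X L (StabCat.factor s i) n) ∧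
      ∀ (i j : Fin s.length), i.val + 1 = j.val →
        ∀ (p q : ℚ[X]), ShStab.IsHilbPoly k X L (StabCat.factor s i) p →
          ShStab.IsHilbPoly k X L (StabCat.factor s j) q →
          StabCat.hatSlope n q < StabCat.hatSlope n p := by
  haveI : IsLocallyNoetherian X := Groth.L03.ShStab.Basic.locallyNoetherian (k := k)
  haveI : CompactSpace X := QuasiCompact.compactSpace_of_compactSpace (X ↘ Spec (CommRingCat.of k))
  haveI : AlgebraicGeometry.IsNoetherian X := {}
  have hd := Basic.dim_le_of_isPure hF htf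
  obtain ⟨t, ht, huniq⟩ := StabData.existsUnique_isHN (D := (stabData (k := k) hL hF hd).trunc 1) ⊥
    ((StabData.trunc_iPure 1).2 (iPure_bot_top hL hF hd htf))
  have conv : ∀ t : LTSeries (cohLattice hF),
      ((Filt.ofLat t).head = ⊥ ∧ (Filt.ofLat t).last = ⊤ ∧
        (∀ i : Fin (Filt.ofLat t).length,
          ShStab.IsPure X (StabCat.factor (Filt.ofLat t) i) n ∧
            ShStab.IsMuSemistable k X L (StabCat.factor (Filt.ofLat t) i) n) ∧
        ∀ (i j : Fin (Filt.ofLat t).length), i.val + 1 = j.val →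
          ∀ (p q : ℚ[X]), ShStab.IsHilbPoly k X L (StabCat.factor (Filt.ofLat t) i) p →
            ShStab.IsHilbPoly k X L (StabCat.factor (Filt.ofLat t) j) q →
            StabCat.hatSlope n q < StabCat.hatSlope n p) ↔
        ((stabData (k := k) hL hF hd).trunc 1).IsHN ⊥ t := by
    intro t
    rw [← Filt.isEllHN_iff (k := k) hL hF hd 1 t]
    refine and_congr_right fun _ => and_congr_right fun _ => ?_
    constructor
    · rintro ⟨h1, h2⟩
      refine ⟨fun i => (Filt.isMuSemistable_iff hL hn).1 (h1 i), ?_⟩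
      rintro i j hij _ _ ⟨p, hp, rfl⟩ ⟨q, hq, rfl⟩
      exact (PolyOrd.redLT_topPart_one hn (Basic.alpha_pos_sub hL (h1 j).1 (𝟙 _) (h1 j).2.1 (h1 j).2.2.1 hq)
        (Basic.alpha_pos_sub hL (h1 i).1 (𝟙 _) (h1 i).2.1 (h1 i).2.2.1 hp)).2 (h2 i j hij p q hp hq)
    · rintro ⟨h1, h2⟩
      refine ⟨fun i => (Filt.isMuSemistable_iff hL hn).2 (h1 i), fun i j hij p q hp hq => ?_⟩
      exact (PolyOrd.redLT_topPart_one hn
        (Basic.alpha_pos_sub hL (h1 j).2.2.1 (𝟙 _) (h1 j).1 (h1 j).2.1 hq)
        (Basic.alpha_pos_sub hL (h1 i).2.2.1 (𝟙 _) (h1 i).1 (h1 i).2.1 hp)).1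
        (h2 i j hij _ _ ⟨p, hp, rfl⟩ ⟨q, hq, rfl⟩)
  refine ⟨Filt.ofLat t, (conv t).2 ht, fun s hs => ?_⟩
  obtain ⟨t', rfl⟩ := Filt.exists_lat hF hs.1 fun i => (hs.2.2.1 i).2.1
  rw [huniq t' ((conv t').1 hs)]

end Groth.Agent.S18833
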