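import Groth.Statements.S18834
import Groth.Agent.L08.GITSep

set_option autoImplicit false
universe u
open TensorProduct
open GIT

namespace Groth.Agent.S18834

/-- Let k be an algebraically closed field of characteristic zero, G = Spec A a linearly reductive
affine group over k (A a commutative Hopf algebra whose finite-dimensional comodules are semisimple)
acting on an affine k-scheme Spec R of finite type (a multiplicative coaction of A on R), and R^G
the ring of invariants. Then for every ideal I of R^G the ideal I·R of R generated by I satisfies
(I·R) ∩ R^G = I. (The section also assumes Spec R irreducible; that hypothesis plays no role here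
and is not carried.) -/
theorem result (k : Type u) [Field k] [IsAlgClosed k] [CharZero k]
    (A : Type u) [CommRing A] [HopfAlgebra k A] (hG : HopfRep.IsLinearlyReductive k A)
    (R : Type u) [CommRing R] [Algebra k R] [Algebra.FiniteType k R]
    [HopfRep.Comod k A R] [GLin.IsCoactAlg k A R]
    (I : Ideal (GLin.invariants k A R)) :
    Ideal.comap (GLin.invariants k A R).val.toRingHom
        (Ideal.map (GLin.invariants k A R).val.toRingHom I) = I := by
  exact Groth.L08.GITSep.comap_map_eq hG I

end Groth.Agent.S18834
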