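import Groth.Statements.S18835
import Groth.Agent.L04.Jump.Main

set_option autoImplicit false
universe u
open CategoryTheory CategoryTheory.Limits AlgebraicGeometry Polynomial
open VBCurve

namespace Groth.Agent.S18835

/-- Let k be an algebraically closed field of characteristic zero and i ≥ 0. On the projective line P
over the affine line Spec k[t] (that is A^1 × P^1 over k) there is a finite locally free module F of
rank 2 whose restriction to the fibre over t = 0 is isomorphic to O(i+1) ⊕ O(−i−1) and whose
restriction to the fibre over every k-point t = a with a ≠ 0 is isomorphic to O(i) ⊕ O(−i). Fibres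
are the copies of P^1_k mapped into P by the k-algebra maps k[t] → k, t ↦ a; in particular the
isomorphism type of the fibres of a vector bundle in a family can jump at a special point. -/
theorem result (k : Type u) [Field k] [IsAlgClosed k] [CharZero k]
    (i : ℕ) :
    ∃ F : (CohB1.ProjSpaceOver 1 (Spec (CommRingCat.of k[X]))).Modules,
      FlatMod.IsFinLocFreeOfRank 2 F ∧
      (∀ a : k,
        letI ι : CohB1.ProjSpaceOver 1 (Spec (CommRingCat.of k)) ⟶ CohB1.ProjSpaceOver 1 (Spec (CommRingCat.of k[X])) :=
          pullback.lift (pullback.fst _ _)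
            (pullback.snd _ _ ≫ Spec.map (CommRingCat.ofHom (Polynomial.evalRingHom a)))
            (specULiftZIsTerminal.hom_ext _ _)
        (a = 0 → Nonempty ((Scheme.Modules.pullback ι).obj F ≅
            Twist.twistOver 1 (Spec (CommRingCat.of k)) ((i : ℤ) + 1) ⊞
              Twist.twistOver 1 (Spec (CommRingCat.of k)) (-((i : ℤ) + 1)))) ∧
        (a ≠ 0 → Nonempty ((Scheme.Modules.pullback ι).obj F ≅
            Twist.twistOver 1 (Spec (CommRingCat.of k)) (i : ℤ) ⊞
              Twist.twistOver 1 (Spec (CommRingCat.of k)) (-(i : ℤ))))) := by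
  let S : Scheme.{u} := Spec (CommRingCat.of k[X])
  let r : Γ(CohB1.ProjSpaceOver 1 S, ⊤) :=
    (CohB1.ProjSpaceOver.toBase 1 S).appTop ((Scheme.ΓSpecIso (CommRingCat.of k[X])).inv Polynomial.X)
  refine ⟨Groth.L04.Jump.fam S i r, Groth.L04.Jump.isFinLocFreeOfRank_fam S i r, fun a => ?_⟩
  let ι : CohB1.ProjSpaceOver 1 (Spec (CommRingCat.of k)) ⟶ CohB1.ProjSpaceOver 1 S :=
    pullback.lift (pullback.fst _ _)
      (pullback.snd _ _ ≫ Spec.map (CommRingCat.ofHom (Polynomial.evalRingHom a)))
      (specULiftZIsTerminal.hom_ext _ _)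
  have hι : ι ≫ Groth.L04.Jump.pr S = Groth.L04.Jump.pr (Spec (CommRingCat.of k)) := pullback.lift_fst _ _ _
  have hr : ι.appTop r = (CohB1.ProjSpaceOver.toBase 1 (Spec (CommRingCat.of k))).appTop
      ((Scheme.ΓSpecIso (CommRingCat.of k)).inv a) := by
    have h2 : ι ≫ CohB1.ProjSpaceOver.toBase 1 S = CohB1.ProjSpaceOver.toBase 1 (Spec (CommRingCat.of k)) ≫
        Spec.map (CommRingCat.ofHom (Polynomial.evalRingHom a)) := pullback.lift_snd _ _ _
    calc ι.appTop r = (ι ≫ CohB1.ProjSpaceOver.toBase 1 S).appTop
          ((Scheme.ΓSpecIso (CommRingCat.of k[X])).inv Polynomial.X) := rfl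
      _ = (CohB1.ProjSpaceOver.toBase 1 (Spec (CommRingCat.of k))).appTop
          ((Spec.map (CommRingCat.ofHom (Polynomial.evalRingHom a))).appTop
            ((Scheme.ΓSpecIso (CommRingCat.of k[X])).inv Polynomial.X)) := by rw [h2]; rfl
      _ = _ := by
        congr 1
        refine (congr($(Scheme.ΓSpecIso_inv_naturality
          (CommRingCat.ofHom (Polynomial.evalRingHom a))) Polynomial.X)).symm.trans ?_
        exact congrArg ((Scheme.ΓSpecIso (CommRingCat.of k)).inv) (Polynomial.eval_X (x := a))
  refine ⟨fun ha => ?_, fun ha => ?_⟩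
  · exact Groth.L04.Jump.fibre_zero S i r ι hι (by rw [hr, ha, map_zero, map_zero])
  · exact Groth.L04.Jump.fibre_unit S i r ι hι (hr.symm ▸ (((Ne.isUnit ha).map _).map _))

end Groth.Agent.S18835
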