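import Groth.Prelude.Def_Coh
import Groth.Prelude.Def_CohB1
import Groth.Prelude.Def_Pic
import Groth.Prelude.Def_FlatMod2
import Mathlib.AlgebraicGeometry.Modules.Sheaf
import Mathlib.AlgebraicGeometry.Pullbacks
import Mathlib.AlgebraicGeometry.Morphisms.Proper
import Mathlib.RingTheory.DiscreteValuationRing.Basic
import Mathlib.RingTheory.Localization.FractionRing
import Mathlib.FieldTheory.IsAlgClosed.Basic
import Groth.Agent.L02.Quot.DvrExt
import Groth.Agent.L16.DevissageKilled
import Mathlib.AlgebraicGeometry.Morphisms.FiniteType

set_option autoImplicit false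
set_option linter.style.haveILetI false
namespace FGA
end FGA
universe u
open CategoryTheory CategoryTheory.Limits AlgebraicGeometry
open FGA

namespace Groth.Agent.S18836

/-- Let k be an algebraically closed field of characteristic zero, X a projective k-scheme (proper over
k, carrying an ample invertible sheaf), R a discrete valuation ring containing k with fraction field
K, X_R = X ×_k Spec R and X_K = X_R ×_(Spec R) Spec K with j : X_K → X_R the canonical open
immersion. If F is a coherent module on X_K which is a quotient of O^N, then there is a coherent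
module F' on X_R, flat over Spec R and again a quotient of O^N, whose restriction j^*F' to X_K is
isomorphic to F. (The Hilbert polynomial of the closed fibre of F' then equals that of F by
flatness; that clause is not restated.) The published statement is for a valuation ring R containing
k; its argument uses a uniformiser, and this row takes R a discrete valuation ring. The row asserts
only the existence of an isomorphism j^*F' ≅ F, not its compatibility with the two quotient maps. -/
theorem result (k : Type u) [Field k] [IsAlgClosed k] [CharZero k]
    (X : Scheme.{u}) [X.Over (Spec (CommRingCat.of k))] [IsProper (X ↘ Spec (CommRingCat.of k))]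
    (L : X.Modules) (hLi : PicF.IsInvertible L) (hL : CohB1.IsAmple L)
    (R : Type u) [CommRing R] [IsDomain R] [IsDiscreteValuationRing R] [Algebra k R]
    (N : ℕ)
    (F : (pullback (pullback.snd (X ↘ Spec (CommRingCat.of k))
              (Spec.map (CommRingCat.ofHom (algebraMap k R))))
            (Spec.map (CommRingCat.ofHom (algebraMap R (FractionRing R))))).Modules)
    (hF : Coh.IsCoh F)
    (q : FlatMod.freeMod _ N ⟶ F) (hq : Epi q) :
    ∃ (F' : (pullback (X ↘ Spec (CommRingCat.of k)) (Spec.map (CommRingCat.ofHom (algebraMap k R)))).Modules)
      (q' : FlatMod.freeMod _ N ⟶ F'),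
      Coh.IsCoh F' ∧ Epi q' ∧
      FlatMod.IsFlatOver (pullback.snd (X ↘ Spec (CommRingCat.of k))
          (Spec.map (CommRingCat.ofHom (algebraMap k R)))) F' ∧
      Nonempty ((Scheme.Modules.pullback
          (pullback.fst (pullback.snd (X ↘ Spec (CommRingCat.of k))
              (Spec.map (CommRingCat.ofHom (algebraMap k R))))
            (Spec.map (CommRingCat.ofHom (algebraMap R (FractionRing R)))))).obj F' ≅ F) := by
  let σ := Spec.map (CommRingCat.ofHom (algebraMap k R))
  let f := pullback.snd (X ↘ Spec (CommRingCat.of k)) σ
  haveI : IsLocallyNoetherian (pullback (X ↘ Spec (CommRingCat.of k)) σ) :=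
    LocallyOfFiniteType.isLocallyNoetherian f
  haveI := Groth.L02.Quot.DvrExt.isOpenImmersion_generic R
  let τ := Spec.map (CommRingCat.ofHom (algebraMap R (FractionRing R)))
  let j := pullback.fst f τ
  have hE : Coh.IsCoh (FlatMod.freeMod (pullback (X ↘ Spec (CommRingCat.of k)) σ) N) :=
    Groth.L16.Devissage.isCoh_sigma _ fun _ => Groth.L16.Rees.RelVanish.isCoh_structureModule _
  haveI := hq
  obtain ⟨F', q', e, h1, h2, h3, -⟩ := Groth.L02.Quot.DvrExt.exists_flat_extension f (IsPullback.of_hasPullback f τ)
    hE hF.1 ((Groth.L29.LocFree.pullbackFreeIso j N).hom ≫ q)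
  exact ⟨F', q', h1, h2, h3, ⟨e⟩⟩

end Groth.Agent.S18836
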