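import Groth.Statements.S18837
import Groth.Agent.L15.TruncDeform
import Mathlib.RingTheory.Kaehler.Basic
import Mathlib.Algebra.Module.Projective
import Mathlib.LinearAlgebra.TensorProduct.Tower

set_option autoImplicit false
universe u
open Polynomial TensorProduct
open Deform

namespace Groth.Agent.S18837

/-- Let k be an algebraically closed field of characteristic zero, n ≥ 1, D = k[X]/(X^(n+1)) (given with
a k-algebra isomorphism e identifying the class of X with τ ∈ D), and B a finitely generated
k-algebra which is a flat D-algebra such that B/tB is smooth over k, where t is the image of τ in B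
(an affine open of a flat deformation of a smooth k-scheme over Spec D); put B' = B/t^nB. Then
Ω_(B/D) is a projective B-module, B' ⊗_B Ω_(B/k) is a projective B'-module, and the sequence 0 → B'
→ B' ⊗_B Ω_(B/k) → B' ⊗_B Ω_(B/D) → 0 is exact, the first map being b ↦ b · (1 ⊗ dt) and the second
the base change of the canonical surjection Ω_(B/k) → Ω_(B/D). The source states this for a flat
proper family over Spec D with smooth central fibre; the statement is local and is given here on an
affine open. -/
theorem result (k : Type u) [Field k] [IsAlgClosed k] [CharZero k] (n : ℕ) (hn : 1 ≤ n)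
    (D : Type u) [CommRing D] [Algebra k D] (τ : D)
    (e : (k[X] ⧸ Ideal.span {(X : k[X]) ^ (n + 1)}) ≃ₐ[k] D)
    (he : e (Ideal.Quotient.mk (Ideal.span {(X : k[X]) ^ (n + 1)}) X) = τ)
    (B : Type u) [CommRing B] [Algebra k B] [Algebra D B] [IsScalarTower k D B]
    [Algebra.FiniteType k B] [Module.Flat D B]
    (t : B) (ht : t = algebraMap D B τ) (hsm : Algebra.Smooth k (B ⧸ Ideal.span {t})) :
    Module.Projective B (Ω[B⁄D]) ∧
    Module.Projective (B ⧸ Ideal.span {t ^ n}) ((B ⧸ Ideal.span {t ^ n}) ⊗[B] Ω[B⁄k]) ∧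
    Function.Injective
      (LinearMap.toSpanSingleton (B ⧸ Ideal.span {t ^ n}) ((B ⧸ Ideal.span {t ^ n}) ⊗[B] Ω[B⁄k])
        ((1 : (B ⧸ Ideal.span {t ^ n})) ⊗ₜ[B] KaehlerDifferential.D k B t)) ∧
    Function.Exact
      (LinearMap.toSpanSingleton (B ⧸ Ideal.span {t ^ n}) ((B ⧸ Ideal.span {t ^ n}) ⊗[B] Ω[B⁄k])
        ((1 : (B ⧸ Ideal.span {t ^ n})) ⊗ₜ[B] KaehlerDifferential.D k B t))
      (LinearMap.baseChange (B ⧸ Ideal.span {t ^ n}) (KaehlerDifferential.map k D B B)) ∧
    Function.Surjective (LinearMap.baseChange (B ⧸ Ideal.span {t ^ n}) (KaehlerDifferential.map k D B B)) := by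
  haveI := Groth.L15.TruncDeform.smooth e he ht hsm
  obtain ⟨L, hL⟩ := Groth.L15.TruncDeform.exists_functional n e he ht hsm
  obtain ⟨hex, hsj⟩ := Groth.L15.TruncDeform.exact_baseChange e he ht (B ⧸ Ideal.span {t ^ n})
  set v := (1 : B ⧸ Ideal.span {t ^ n}) ⊗ₜ[B] KaehlerDifferential.D k B t
  set g := LinearMap.baseChange (B ⧸ Ideal.span {t ^ n}) (KaehlerDifferential.map k D B B)
  haveI : Module.Projective (B ⧸ Ideal.span {t ^ n}) ((B ⧸ Ideal.span {t ^ n}) ⊗[B] Ω[B⁄D]) := inferInstance
  obtain ⟨σ, hσ⟩ := Module.projective_lifting_property g LinearMap.id hsj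
  refine ⟨inferInstance, ?_, fun a b h => ?_, hex, hsj⟩
  · let i := L.prod g
    let q := (LinearMap.toSpanSingleton (B ⧸ Ideal.span {t ^ n}) _ v).comp (LinearMap.fst _ _ _) +
      (σ - (LinearMap.toSpanSingleton (B ⧸ Ideal.span {t ^ n}) _ v).comp (L.comp σ)).comp (LinearMap.snd _ _ _)
    refine Module.Projective.of_split i q (LinearMap.ext fun x => ?_)
    have hx : g (x - σ (g x)) = 0 := by
      rw [map_sub, show g (σ (g x)) = g x from LinearMap.congr_fun hσ (g x), sub_self]
    obtain ⟨c, hc⟩ := (hex _).1 hx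
    have hLc : L x - L (σ (g x)) = c := by
      rw [← map_sub, ← hc, LinearMap.toSpanSingleton_apply, map_smul, hL, smul_eq_mul, mul_one]
    simp only [q, i, LinearMap.comp_apply, LinearMap.add_apply, LinearMap.sub_apply, LinearMap.prod_apply,
      Function.prod_apply, LinearMap.fst_apply, LinearMap.snd_apply, LinearMap.toSpanSingleton_apply, LinearMap.id_apply]
    rw [show x = c • v + σ (g x) by rw [← LinearMap.toSpanSingleton_apply (R := B ⧸ Ideal.span {t ^ n}), hc, sub_add_cancel]] at hLc ⊢
    simp only [map_add, map_smul, hL, smul_eq_mul, mul_one] at hLc ⊢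
    have h1 : g v = 0 := (hex v).2 ⟨1, by simp⟩
    simp only [h1, smul_zero, zero_add, show g (σ (g x)) = g x from LinearMap.congr_fun hσ (g x), add_smul]
    simp
  · have := congrArg L h
    simpa [LinearMap.toSpanSingleton_apply, map_smul, hL] using this

end Groth.Agent.S18837
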