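import Groth.Statements.S18838
import Groth.Agent.L15.TruncDeform
import Mathlib.RingTheory.Kaehler.Basic
import Mathlib.Algebra.Module.Projective
import Mathlib.LinearAlgebra.TensorProduct.Tower

set_option autoImplicit false
universe u
open Polynomial TensorProduct
open Deform

namespace Groth.Agent.S18838

/-- Let k be an algebraically closed field of characteristic zero, n ≥ 1, D = k[X]/(X^(n+1)) (given with
a k-algebra isomorphism e identifying the class of X with τ ∈ D), and B a finitely generated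
k-algebra which is a flat D-algebra such that B/tB is smooth over k, where t is the image of τ in B
(an affine open of a flat deformation of a smooth k-scheme over Spec D); put B' = B/t^nB. The map μ
: B → B' × (B' ⊗_B Ω_(B/k)) sending f to (f mod t^n, 1 ⊗ df) is injective, and its image consists
exactly of the pairs (g, α) with dg = r(α) in Ω_(B'/k), r being the canonical map B' ⊗_B Ω_(B/k) →
Ω_(B'/k). Injectivity uses that n is invertible in k. The source works with a flat proper family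
over Spec D with smooth central fibre; the statement is local and is given here on an affine open. -/
theorem result (k : Type u) [Field k] [IsAlgClosed k] [CharZero k] (n : ℕ) (hn : 1 ≤ n)
    (D : Type u) [CommRing D] [Algebra k D] (τ : D)
    (e : (k[X] ⧸ Ideal.span {(X : k[X]) ^ (n + 1)}) ≃ₐ[k] D)
    (he : e (Ideal.Quotient.mk (Ideal.span {(X : k[X]) ^ (n + 1)}) X) = τ)
    (B : Type u) [CommRing B] [Algebra k B] [Algebra D B] [IsScalarTower k D B]
    [Algebra.FiniteType k B] [Module.Flat D B]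
    (t : B) (ht : t = algebraMap D B τ) (hsm : Algebra.Smooth k (B ⧸ Ideal.span {t})) :
    Function.Injective (fun f : B =>
      ((Ideal.Quotient.mk (Ideal.span {t ^ n}) f,
        (1 : (B ⧸ Ideal.span {t ^ n})) ⊗ₜ[B] KaehlerDifferential.D k B f) : (B ⧸ Ideal.span {t ^ n}) × ((B ⧸ Ideal.span {t ^ n}) ⊗[B] Ω[B⁄k]))) ∧
    Set.range (fun f : B =>
      ((Ideal.Quotient.mk (Ideal.span {t ^ n}) f,
        (1 : (B ⧸ Ideal.span {t ^ n})) ⊗ₜ[B] KaehlerDifferential.D k B f) : (B ⧸ Ideal.span {t ^ n}) × ((B ⧸ Ideal.span {t ^ n}) ⊗[B] Ω[B⁄k]))) =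
      {p | KaehlerDifferential.D k (B ⧸ Ideal.span {t ^ n}) p.1 = KaehlerDifferential.mapBaseChange k B (B ⧸ Ideal.span {t ^ n}) p.2} := by
  obtain ⟨L, hL⟩ := Groth.L15.TruncDeform.exists_functional n e he ht hsm
  have hzero : t ^ (n + 1) = 0 := by
    rw [ht, ← map_pow, Groth.L15.TruncDeform.tau_pow e he, map_zero]
  have htn : Ideal.Quotient.mk (Ideal.span {t ^ n}) (t ^ n) = 0 :=
    Ideal.Quotient.eq_zero_iff_mem.2 (Ideal.mem_span_singleton_self _)
  have hdmul : ∀ g : B, (1 : (B ⧸ Ideal.span {t ^ n})) ⊗ₜ[B] KaehlerDifferential.D k B (t ^ n * g) =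
      Ideal.Quotient.mk (Ideal.span {t ^ n}) (g * (n * t ^ (n - 1))) • ((1 : (B ⧸ Ideal.span {t ^ n})) ⊗ₜ[B] KaehlerDifferential.D k B t) := by
    intro g
    rw [Derivation.leibniz, TensorProduct.tmul_add, TensorProduct.tmul_smul, TensorProduct.tmul_smul,
      Derivation.leibniz_pow, ← Nat.cast_smul_eq_nsmul B, TensorProduct.tmul_smul, TensorProduct.tmul_smul,
      smul_smul, smul_smul, ← algebraMap_smul (B ⧸ Ideal.span {t ^ n}) (t ^ n), Ideal.Quotient.algebraMap_eq, htn, zero_smul,
      zero_add, ← algebraMap_smul (B ⧸ Ideal.span {t ^ n}) (g * n * t ^ (n - 1)), Ideal.Quotient.algebraMap_eq, mul_assoc]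
  refine ⟨fun a b h => ?_, Set.ext fun p => ⟨?_, fun hp => ?_⟩⟩
  · obtain ⟨h1, h2⟩ := Prod.ext_iff.1 h
    obtain ⟨g, hg⟩ := Ideal.mem_span_singleton.1 (Ideal.Quotient.eq.1 h1)
    refine sub_eq_zero.1 ?_
    have h3 : L ((1 : (B ⧸ Ideal.span {t ^ n})) ⊗ₜ[B] KaehlerDifferential.D k B (t ^ n * g)) = 0 := by
      rw [← hg, map_sub, TensorProduct.tmul_sub, show (1 : (B ⧸ Ideal.span {t ^ n})) ⊗ₜ[B] KaehlerDifferential.D k B a =
        1 ⊗ₜ[B] KaehlerDifferential.D k B b from h2, sub_self, map_zero]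
    rw [hdmul, map_smul, hL, smul_eq_mul, mul_one, Ideal.Quotient.eq_zero_iff_mem, Ideal.mem_span_singleton] at h3
    obtain ⟨c, hc⟩ := h3
    have hn0 : IsUnit (n : B) := by
      rw [← map_natCast (algebraMap k B)]
      exact (Ne.isUnit (Nat.cast_ne_zero.2 (by omega))).map _
    rw [hg]
    refine hn0.mul_left_cancel ?_
    rw [mul_zero]
    calc (n : B) * (t ^ n * g) = g * (n * t ^ (n - 1)) * t := by
            rw [show t ^ n = t ^ (n - 1) * t by rw [← pow_succ]; congr 1; omega]; ring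
      _ = t ^ (n + 1) * c := by rw [hc, pow_succ]; ring
      _ = 0 := by rw [hzero, zero_mul]
  · rintro ⟨f, rfl⟩
    simp [KaehlerDifferential.mapBaseChange_tmul, KaehlerDifferential.map_D]
  · obtain ⟨a, w⟩ := p
    obtain ⟨f₀, rfl⟩ := Ideal.Quotient.mk_surjective a
    have hz : KaehlerDifferential.mapBaseChange k B (B ⧸ Ideal.span {t ^ n})
        (w - 1 ⊗ₜ[B] KaehlerDifferential.D k B f₀) = 0 := by
      rw [map_sub, ← hp, KaehlerDifferential.mapBaseChange_tmul, one_smul, KaehlerDifferential.map_D,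
        Ideal.Quotient.algebraMap_eq, sub_self]
    obtain ⟨z, hz⟩ := (KaehlerDifferential.exact_kerCotangentToTensor_mapBaseChange k B (B ⧸ Ideal.span {t ^ n})
      Ideal.Quotient.mk_surjective _).1 hz
    obtain ⟨⟨x, hx⟩, rfl⟩ := Ideal.toCotangent_surjective _ z
    rw [KaehlerDifferential.kerCotangentToTensor_toCotangent, eq_sub_iff_add_eq] at hz
    refine ⟨x + f₀, Prod.ext ?_ ?_⟩
    · change Ideal.Quotient.mk _ (x + f₀) = Ideal.Quotient.mk _ f₀
      rw [map_add, show Ideal.Quotient.mk (Ideal.span {t ^ n}) x = 0 from hx, zero_add]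
    · change (1 : (B ⧸ Ideal.span {t ^ n})) ⊗ₜ[B] KaehlerDifferential.D k B (x + f₀) = w
      rw [map_add, TensorProduct.tmul_add, hz]

end Groth.Agent.S18838
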