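import Groth.Statements.S18839
import Groth.Agent.L15.TruncDeform
import Mathlib.RingTheory.Kaehler.Basic
import Mathlib.Algebra.Module.Projective
import Mathlib.LinearAlgebra.TensorProduct.Tower

set_option autoImplicit false
universe u
open Polynomial TensorProduct
open Deform

namespace Groth.Agent.S18839

/-- Let k be an algebraically closed field of characteristic zero, n ≥ 1, D = k[X]/(X^(n+1)) (given with
a k-algebra isomorphism e identifying the class of X with τ ∈ D), and B a finitely generated
k-algebra which is a flat D-algebra such that B/tB is smooth over k, where t is the image of τ in B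
(an affine open of a flat deformation of a smooth k-scheme over Spec D); put B' = B/t^nB. The map ν
: Ω_(B/k) → Ω_(B/D) × (B' ⊗_B Ω_(B/k)), η ↦ (η relative to D, 1 ⊗ η), is injective, and its image
consists exactly of the pairs (α, β) with the same image in Ω_(B'/D) under the canonical maps
Ω_(B/D) → Ω_(B'/D) and B' ⊗_B Ω_(B/k) → Ω_(B'/k) → Ω_(B'/D). Injectivity uses that n + 1 is
invertible in k (so that t^n dt = 0 in Ω_(B/k)). The source works with a flat proper family over
Spec D with smooth central fibre; the statement is local and is given here on an affine open. -/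
theorem result (k : Type u) [Field k] [IsAlgClosed k] [CharZero k] (n : ℕ) (hn : 1 ≤ n)
    (D : Type u) [CommRing D] [Algebra k D] (τ : D)
    (e : (k[X] ⧸ Ideal.span {(X : k[X]) ^ (n + 1)}) ≃ₐ[k] D)
    (he : e (Ideal.Quotient.mk (Ideal.span {(X : k[X]) ^ (n + 1)}) X) = τ)
    (B : Type u) [CommRing B] [Algebra k B] [Algebra D B] [IsScalarTower k D B]
    [Algebra.FiniteType k B] [Module.Flat D B]
    (t : B) (ht : t = algebraMap D B τ) (hsm : Algebra.Smooth k (B ⧸ Ideal.span {t})) :
    Function.Injective (fun η : Ω[B⁄k] =>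
      ((KaehlerDifferential.map k D B B η, (1 : (B ⧸ Ideal.span {t ^ n})) ⊗ₜ[B] η) : Ω[B⁄D] × ((B ⧸ Ideal.span {t ^ n}) ⊗[B] Ω[B⁄k]))) ∧
    Set.range (fun η : Ω[B⁄k] =>
      ((KaehlerDifferential.map k D B B η, (1 : (B ⧸ Ideal.span {t ^ n})) ⊗ₜ[B] η) : Ω[B⁄D] × ((B ⧸ Ideal.span {t ^ n}) ⊗[B] Ω[B⁄k]))) =
      {p | KaehlerDifferential.map D D B (B ⧸ Ideal.span {t ^ n}) p.1 =
        KaehlerDifferential.map k D (B ⧸ Ideal.span {t ^ n}) (B ⧸ Ideal.span {t ^ n}) (KaehlerDifferential.mapBaseChange k B (B ⧸ Ideal.span {t ^ n}) p.2)} := by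
  haveI := Groth.L15.TruncDeform.smooth e he ht hsm
  obtain ⟨L, hL⟩ := Groth.L15.TruncDeform.exists_functional n e he ht hsm
  obtain ⟨hex, hsj⟩ := Groth.L15.TruncDeform.exact_baseChange e he ht (B ⧸ Ideal.span {t ^ n})
  have hzero : t ^ n * t = 0 := by
    rw [← pow_succ, ht, ← map_pow, Groth.L15.TruncDeform.tau_pow e he, map_zero]
  have hdt : t ^ n • KaehlerDifferential.D k B t = 0 := by
    have h := congrArg (KaehlerDifferential.D k B) hzero
    rw [← pow_succ, map_zero, Derivation.leibniz_pow, Nat.add_sub_cancel, ← Nat.cast_smul_eq_nsmul B] at h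
    have hu : IsUnit ((n + 1 : ℕ) : B) := by
      rw [← map_natCast (algebraMap k B)]
      exact (Ne.isUnit (Nat.cast_ne_zero.2 (by omega))).map _
    exact hu.smul_eq_zero.1 h
  refine ⟨fun a b h => ?_, Set.ext fun p => ⟨?_, fun hp => ?_⟩⟩
  · obtain ⟨h1, h2⟩ := Prod.ext_iff.1 h
    have hk : a - b ∈ LinearMap.ker (KaehlerDifferential.map k D B B) := by
      rw [LinearMap.mem_ker, map_sub]; exact sub_eq_zero.2 h1
    rw [Groth.L15.TruncDeform.ker_map e he ht] at hk
    obtain ⟨c, hc⟩ := Submodule.mem_span_singleton.1 hk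
    have h3 : L ((1 : (B ⧸ Ideal.span {t ^ n})) ⊗ₜ[B] (c • KaehlerDifferential.D k B t)) = 0 := by
      rw [hc, TensorProduct.tmul_sub, show (1 : (B ⧸ Ideal.span {t ^ n})) ⊗ₜ[B] a = 1 ⊗ₜ[B] b from h2, sub_self, map_zero]
    rw [TensorProduct.tmul_smul, ← algebraMap_smul (B ⧸ Ideal.span {t ^ n}) c, map_smul, hL, smul_eq_mul, mul_one,
      Ideal.Quotient.algebraMap_eq, Ideal.Quotient.eq_zero_iff_mem, Ideal.mem_span_singleton] at h3
    obtain ⟨c', rfl⟩ := h3
    rw [mul_comm, mul_smul, hdt, smul_zero] at hc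
    exact sub_eq_zero.1 hc.symm
  · rintro ⟨η, rfl⟩
    simp only [Set.mem_ofPred_eq, KaehlerDifferential.mapBaseChange_tmul, one_smul]
    induction (show η ∈ Submodule.span B (Set.range (KaehlerDifferential.D k B)) by
      rw [KaehlerDifferential.span_range_derivation]; trivial) using Submodule.span_induction with
    | mem x hx => obtain ⟨b, rfl⟩ := hx; simp [KaehlerDifferential.map_D]
    | zero => simp
    | add a b _ _ ha hb => simp only [map_add, ha, hb]
    | smul c a _ ha =>
      rw [map_smul (KaehlerDifferential.map k k B (B ⧸ Ideal.span {t ^ n})), map_smul (KaehlerDifferential.map k D B B),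
        map_smul (KaehlerDifferential.map D D B (B ⧸ Ideal.span {t ^ n})), ← algebraMap_smul (B ⧸ Ideal.span {t ^ n}) c
        (KaehlerDifferential.map k k B (B ⧸ Ideal.span {t ^ n}) a), map_smul, algebraMap_smul, ha]
  · obtain ⟨a, w⟩ := p
    simp only [Set.mem_ofPred_eq] at hp
    obtain ⟨η₀, rfl⟩ := KaehlerDifferential.map_surjective k D B a
    have key : ∀ z, KaehlerDifferential.map k D (B ⧸ Ideal.span {t ^ n}) (B ⧸ Ideal.span {t ^ n})
        (KaehlerDifferential.mapBaseChange k B (B ⧸ Ideal.span {t ^ n}) z) =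
        KaehlerDifferential.mapBaseChange D B (B ⧸ Ideal.span {t ^ n})
          (LinearMap.baseChange (B ⧸ Ideal.span {t ^ n}) (KaehlerDifferential.map k D B B) z) := by
      intro z
      induction z using TensorProduct.induction_on with
      | zero => simp
      | add a b ha hb => simp only [map_add, ha, hb]
      | tmul s x =>
        rw [LinearMap.baseChange_tmul, KaehlerDifferential.mapBaseChange_tmul, KaehlerDifferential.mapBaseChange_tmul, map_smul]
        congr 1
        induction (show x ∈ Submodule.span B (Set.range (KaehlerDifferential.D k B)) by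
          rw [KaehlerDifferential.span_range_derivation]; trivial) using Submodule.span_induction with
        | mem y hy => obtain ⟨b, rfl⟩ := hy; simp [KaehlerDifferential.map_D]
        | zero => simp
        | add a b _ _ ha hb => simp only [map_add, ha, hb]
        | smul c a _ ha =>
          rw [map_smul (KaehlerDifferential.map k k B (B ⧸ Ideal.span {t ^ n})), map_smul (KaehlerDifferential.map k D B B),
        map_smul (KaehlerDifferential.map D D B (B ⧸ Ideal.span {t ^ n})), ← algebraMap_smul (B ⧸ Ideal.span {t ^ n}) c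
            (KaehlerDifferential.map k k B (B ⧸ Ideal.span {t ^ n}) a), map_smul, algebraMap_smul, ha]
    let ω := w - (1 : (B ⧸ Ideal.span {t ^ n})) ⊗ₜ[B] η₀
    have hω : KaehlerDifferential.mapBaseChange D B (B ⧸ Ideal.span {t ^ n})
        (LinearMap.baseChange (B ⧸ Ideal.span {t ^ n}) (KaehlerDifferential.map k D B B) ω) = 0 := by
      rw [map_sub, map_sub, ← key, ← hp, LinearMap.baseChange_tmul, KaehlerDifferential.mapBaseChange_tmul, one_smul, sub_self]
    obtain ⟨z, hz⟩ := (KaehlerDifferential.exact_kerCotangentToTensor_mapBaseChange D B (B ⧸ Ideal.span {t ^ n})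
      Ideal.Quotient.mk_surjective _).1 hω
    have h0 : LinearMap.baseChange (B ⧸ Ideal.span {t ^ n}) (KaehlerDifferential.map k D B B) ω = 0 := by
      rw [← hz]
      obtain ⟨⟨x, hx⟩, rfl⟩ := Ideal.toCotangent_surjective _ z
      obtain ⟨g, rfl⟩ := Ideal.mem_span_singleton.1 (Ideal.Quotient.eq_zero_iff_mem.1 hx)
      rw [KaehlerDifferential.kerCotangentToTensor_toCotangent]
      change (1 : (B ⧸ Ideal.span {t ^ n})) ⊗ₜ[B] KaehlerDifferential.D D B (t ^ n * g) = 0
      rw [Derivation.leibniz, show KaehlerDifferential.D D B (t ^ n) = 0 by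
          rw [ht, ← map_pow, Derivation.map_algebraMap], smul_zero, add_zero, TensorProduct.tmul_smul,
        ← algebraMap_smul (B ⧸ Ideal.span {t ^ n}) (t ^ n), Ideal.Quotient.algebraMap_eq,
        Ideal.Quotient.eq_zero_iff_mem.2 (Ideal.mem_span_singleton_self _), zero_smul]
    obtain ⟨c, hc⟩ := (hex ω).1 h0
    obtain ⟨b, rfl⟩ := Ideal.Quotient.mk_surjective c
    refine ⟨η₀ + b • KaehlerDifferential.D k B t, Prod.ext ?_ ?_⟩
    · change KaehlerDifferential.map k D B B _ = _
      rw [map_add, map_smul, KaehlerDifferential.map_D, Algebra.algebraMap_self_apply,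
        show KaehlerDifferential.D D B t = 0 by rw [ht, Derivation.map_algebraMap], smul_zero, add_zero]
    · change (1 : (B ⧸ Ideal.span {t ^ n})) ⊗ₜ[B] (η₀ + b • KaehlerDifferential.D k B t) = w
      rw [TensorProduct.tmul_add, TensorProduct.tmul_smul, ← algebraMap_smul (B ⧸ Ideal.span {t ^ n}) b,
        Ideal.Quotient.algebraMap_eq]
      rw [LinearMap.toSpanSingleton_apply] at hc
      rw [hc, add_sub_cancel]

end Groth.Agent.S18839
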