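import Groth.Statements.S18840
import Groth.Agent.L21.Bundle.H0Twist

set_option autoImplicit false
set_option backward.isDefEq.respectTransparency false
set_option linter.style.haveILetI false
universe u
open CategoryTheory CategoryTheory.Limits AlgebraicGeometry Polynomial
open VBCurve

namespace Groth.Agent.S18840

/-- Let k be an algebraically closed field of characteristic zero, X a smooth projective integral curve
over k with an ample invertible sheaf L, N ≥ 0 and P a rational polynomial. There is an integer l,
depending only on X, L, N and P, such that for every vector bundle F of rank r ≥ 1 on X which is a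
quotient of O_X^N with Hilbert polynomial P (with respect to L), F is slope-semistable if and only
if dim H^0(X, F'(l)) / r' ≤ dim H^0(X, F(l)) / r for every sub-bundle (finite locally free
submodule) F' ⊂ F of rank r' ≥ 1; here G(l) = G ⊗ L^(⊗l). The source polarises X by a very ample
O_X(1); only the positivity of its degree enters, so an ample L is taken. -/
theorem result (k : Type u) [Field k] [IsAlgClosed k] [CharZero k]
    (X : Scheme.{u}) [X.Over (Spec (CommRingCat.of k))]
    [IsIntegral X] [IsProper (X ↘ Spec (CommRingCat.of k))] [Smooth (X ↘ Spec (CommRingCat.of k))]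
    (hdim : topologicalKrullDim X = 1)
    (L : X.Modules) (hLi : PicF.IsInvertible L) (hL : CohB1.IsAmple L)
    (N : ℕ) (P : ℚ[X]) :
    ∃ l : ℕ, ∀ (r : ℕ) (F : X.Modules) (q : FlatMod.freeMod X N ⟶ F),
      0 < r → FlatMod.IsFinLocFreeOfRank r F → Epi q → ShStab.IsHilbPoly k X L F P →
        (ModFun.IsSlopeSemistable k X F r ↔
          ∀ (F' : X.Modules) (r' : ℕ) (i : F' ⟶ F), Mono i → 0 < r' → FlatMod.IsFinLocFreeOfRank r' F' →
            (Module.finrank k (Coh.HH X (ShStab.twist X L F' l) 0) : ℚ) / (r' : ℚ) ≤
              (Module.finrank k (Coh.HH X (ShStab.twist X L F l) 0) : ℚ) / (r : ℚ)) := by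
  haveI := LocallyOfFiniteType.isLocallyNoetherian (X ↘ Spec (CommRingCat.of k))
  have h0 : Groth.L21.RR.h k 0 (Coh.structureModule X) = 1 := by
    haveI := Groth.L21.RR.isNoetherian_of_proper (X := X) k
    rw [Groth.L21.NormRed.h0_structure_eq_card_connectedComponents]
    exact Nat.card_unique
  obtain ⟨l₀, hl₀⟩ := Groth.L21.Bundle.exists_vanishing_quotient k hdim hLi hL N
  refine ⟨l₀ + 2 * Curv2.genus k X, fun r F q hr hF hq _ => ?_⟩
  haveI := hq
  exact Groth.L21.Bundle.h0_twist_iff k hdim h0 hLi ((Groth.Agent.S1530.result k X hdim L hLi).1 hL) hr hF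
    (fun m hm => hl₀ F q (Groth.L21.Bundle.isCoh_of_rank hF) m hm) rfl

end Groth.Agent.S18840
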