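import Groth.Statements.S18841
import Groth.Agent.L22.Reg.ClosedQuot
import Groth.Agent.L18.GlobGen
-- import your own Groth.Agent.* helpers here

set_option autoImplicit false
universe u
open CategoryTheory CategoryTheory.Limits AlgebraicGeometry Polynomial
open Variety

namespace Groth.Agent.S18841

/-- Let k be an algebraically closed field of characteristic zero, X a projective k-scheme embedded in
projective n-space by a closed immersion ι, with L ≅ ι^*O(1), and fix N ≥ 0 and a rational
polynomial P. There is an integer l_0 such that for every coherent O_X-module F which is a quotient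
q : O_X^N → F with Hilbert polynomial P with respect to L, writing G for the kernel of q, one has
for all l ≥ l_0: H^i(X, F(l)) = 0 and H^i(X, G(l)) = 0 for every i > 0, and G(l) is generated by its
global sections (twists M(l) = M ⊗ L^(⊗l)). -/
theorem result
    (k : Type u) [Field k] [IsAlgClosed k] [CharZero k]
    (X : Scheme.{u}) [X.Over (Spec (CommRingCat.of k))] [IsProper (X ↘ Spec (CommRingCat.of k))]
    (n : ℕ) (ι : X ⟶ CohB1.ProjSpace n k) [IsClosedImmersion ι]
    (hι : ι ≫ CohB1.ProjSpace.toSpec n k = X ↘ Spec (CommRingCat.of k))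
    (L : X.Modules) (hL : Nonempty (L ≅ (Scheme.Modules.pullback ι).obj (Twist.twistProjSpace n k 1)))
    (N : ℕ) (P : ℚ[X]) :
    ∃ l₀ : ℕ, ∀ (F : X.Modules) (q : FlatMod.freeMod X N ⟶ F),
      Coh.IsCoh F → Epi q → ShStab.IsHilbPoly k X L F P →
        ∀ l : ℕ, l₀ ≤ l →
          (∀ i : ℕ, 0 < i → Subsingleton (Coh.HH X (ShStab.twist X L F l) i)) ∧
          (∀ i : ℕ, 0 < i → Subsingleton (Coh.HH X (ShStab.twist X L (kernel q) l) i)) ∧
          Curv2.IsGloballyGenerated (ShStab.twist X L (kernel q) l) := by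
  obtain ⟨l₀, hl₀⟩ := Groth.L22.Reg.exists_uniform_regular.{u} ι hι N P
  refine ⟨l₀, fun F q hF hq hP l hl => ?_⟩
  haveI := Groth.L22.Reg.isLocallyNoetherian_closed ι
  have tw := fun M j => Groth.L22.Reg.nonempty_twist_twistOn (k := k) ι L hL M j
  obtain ⟨hG, hrF, hrG⟩ := hl₀ F q hF hq fun j => by
    obtain ⟨e⟩ := tw F j
    rw [← Groth.L03.Euler.euler_iso (k := k) e]
    exact hP j
  have hv : ∀ M : X.Modules, Coh.IsCoh M → Groth.L22.Reg.Regular ((Coh.push ι).obj M) (l₀ : ℤ) →
      ∀ i : ℕ, 0 < i → Subsingleton (Coh.HH X (ShStab.twist X L M l) i) := fun M hM hr i hi => by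
    obtain ⟨e⟩ := tw M l
    exact (Groth.L22.Reg.subsingleton_congr_iso e i).2
      ((Groth.L22.Reg.subsingleton_twist_iff ι hι hM (l : ℤ) i).2 (hr.subsingleton hi (by omega)))
  refine ⟨hv F hF hrF, hv _ hG hrG, ?_⟩
  obtain ⟨e⟩ := tw (kernel q) l
  obtain ⟨e'⟩ := Groth.L22.Reg.nonempty_push_twist ι (kernel q) (l : ℤ)
  refine Groth.L18.Ample.isGloballyGenerated_of_iso e.symm ?_
  haveI := (Groth.L22.Reg.isCoh_twistOn ι hG (l : ℤ)).1
  exact Groth.L22.Reg.isGloballyGenerated_of_push ι (Groth.L18.Ample.isGloballyGenerated_of_iso e'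
    (hrG.isGloballyGenerated (Groth.L22.Reg.isCoh_push_closed ι hG) (by omega)))

end Groth.Agent.S18841
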