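import Groth.Statements.S18842
import Groth.Agent.L15.TFCurve.Curve
import Groth.Agent.L03.Euler.Basic
import Groth.Agent.L21.RR.Coh
import Groth.Agent.L16.Devissage
import Groth.Agent.L16.CohKernel
import Mathlib.AlgebraicGeometry.Morphisms.FiniteType
-- import your own Groth.Agent.* helpers here

set_option autoImplicit false
universe u
open CategoryTheory AlgebraicGeometry
open TFOne

namespace Groth.Agent.S18842
open Groth.L15.TFCurve CategoryTheory.Limits
open Groth.L21.Mod (stalkF)

/-- Let X be a proper reduced scheme of pure dimension one over a field k and M a torsion-free rank-1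
sheaf on X. For closed subcurves Y and Z of X (non-empty unions of irreducible components) let W be
the union of the irreducible components of X contained in Y ∩ Z (W may be empty). Writing M_T for
the torsion-free quotient of M on a closed subset T (pinned by its defining property; M_W = 0 when W
is empty), one has χ(M_{Y ∪ Z}) + χ(M_W) ≤ χ(M_Y) + χ(M_Z). (The source states this for curves that
are moreover geometrically reduced with geometrically integral components and notes the equivalent
form with β in place of χ; neither is needed for the inequality as stated.) -/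
theorem result (k : Type u) [Field k] (X : Scheme.{u}) [X.Over (Spec (CommRingCat.of k))] [IsProper (X ↘ Spec (CommRingCat.of k))] [IsReduced X] (hpure : ∀ C ∈ irreducibleComponents (X : Type u), topologicalKrullDim C = 1) (M : X.Modules) (hM : TFOne.IsTF1 X M) (Y Z W : Set X) (hY : IsClosed Y) (hZ : IsClosed Z) (hYs : VecSt.IsSubcurve X Y) (hZs : VecSt.IsSubcurve X Z) (hW : W = ⋃₀ {C | C ∈ irreducibleComponents (X : Type u) ∧ C ⊆ Y ∩ Z}) (GY GZ GU GW : X.Modules) (πY : M ⟶ GY) (πZ : M ⟶ GZ) (πU : M ⟶ GU) (πW : M ⟶ GW) (hGY : TFOne.IsQuotOn X M Y GY πY) (hGZ : TFOne.IsQuotOn X M Z GZ πZ) (hGU : TFOne.IsQuotOn X M (Y ∪ Z) GU πU) (hGW : TFOne.IsQuotOn X M W GW πW) : Curv2.euler k X GU + Curv2.euler k X GW ≤ Curv2.euler k X GY + Curv2.euler k X GZ := by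
  haveI : IsLocallyNoetherian X := LocallyOfFiniteType.isLocallyNoetherian (X ↘ Spec (CommRingCat.of k))
  haveI : Coh.IsQCoh M := hM.1.1
  haveI : Coh.IsQCoh GY := hGY.2.1.1
  haveI : Coh.IsQCoh GZ := hGZ.2.1.1
  haveI : Coh.IsQCoh GU := hGU.2.1.1
  haveI : Coh.IsQCoh GW := hGW.2.1.1
  haveI := hGY.1
  haveI := hGZ.1
  haveI := hGU.1
  haveI := hGW.1
  have hWle : W ⊆ Y ∩ Z := hW ▸ Set.sUnion_subset fun C hC => hC.2
  have hWge : ∀ η ∈ genericPoints X, η ∈ Y → η ∈ Z → η ∈ W := fun η hη hy hz => by
    rw [hW]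
    exact ⟨closure {η}, ⟨hη, (hY.inter hZ).closure_subset_iff.2 (Set.singleton_subset_iff.2 ⟨hy, hz⟩)⟩, subset_closure rfl⟩
  have fac : ∀ {S T : Set X} {A B : X.Modules} {p : M ⟶ A} {q : M ⟶ B}, TFOne.IsQuotOn X M S A p →
      TFOne.IsQuotOn X M T B q → T ⊆ S → ∃ g : A ⟶ B, p ≫ g = q := fun {S T A B p q} hp hq hTS => by
    haveI := hp.1
    haveI : Coh.IsQCoh B := hq.2.1.1
    refine exists_desc hq.2.2.1 p q fun η hη m hm => ?_
    by_cases h : η ∈ T
    · exact (congrArg ((stalkF X η).map q) (quot_injective hM hp hη (hTS h) hm)).trans (map_zero _)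
    · exact map_eq_zero_of_notMem hq h q m
  obtain ⟨a, ha⟩ := fac hGU hGY Set.subset_union_left
  obtain ⟨b, hb⟩ := fac hGU hGZ Set.subset_union_right
  obtain ⟨p, hp⟩ := fac hGY hGW (hWle.trans Set.inter_subset_left)
  obtain ⟨q, hq⟩ := fac hGZ hGW (hWle.trans Set.inter_subset_right)
  let α : GU ⟶ GY ⊞ GZ := biprod.lift a b
  let β : GY ⊞ GZ ⟶ GW := biprod.desc p (-q)
  have hαβ : α ≫ β = 0 := by
    rw [← cancel_epi πU, comp_zero, biprod.lift_desc, Preadditive.comp_add, ← Category.assoc, ha, hp,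
      Preadditive.comp_neg, Preadditive.comp_neg, ← Category.assoc, hb, hq, add_neg_cancel]
  have surj : ∀ {S : Set X} {A : X.Modules} {π : M ⟶ A}, TFOne.IsQuotOn X M S A π → ∀ (η : X),
      Function.Surjective ((stalkF X η).map π) := fun h η => by
    haveI := h.1
    exact (Groth.L21.Mod.epi_iff_stalk_surjective _).1 inferInstance η
  haveI : Mono α := by
    refine Preadditive.mono_of_kernel_zero (hom_eq_zero hGU.2.2.1 _ fun η hη z => ?_)
    have h0 : (stalkF X η).map α ((stalkF X η).map (kernel.ι α) z) = 0 := by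
      rw [← stalkF_map_comp, kernel.condition]; exact stalkF_map_zero η z
    obtain ⟨m, hm⟩ := surj hGU η ((stalkF X η).map (kernel.ι α) z)
    rw [← hm] at h0 ⊢
    have hy : (stalkF X η).map πY m = 0 := by
      have := congrArg ((stalkF X η).map (biprod.fst : GY ⊞ GZ ⟶ GY)) h0
      rwa [map_zero, ← stalkF_map_comp, biprod.lift_fst, ← stalkF_map_comp, ha] at this
    have hz : (stalkF X η).map πZ m = 0 := by
      have := congrArg ((stalkF X η).map (biprod.snd : GY ⊞ GZ ⟶ GZ)) h0
      rwa [map_zero, ← stalkF_map_comp, biprod.lift_snd, ← stalkF_map_comp, hb] at this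
    by_cases h : η ∈ Y ∪ Z
    · rcases h with h | h
      · rw [quot_injective hM hGY hη h hy]; exact map_zero _
      · rw [quot_injective hM hGZ hη h hz]; exact map_zero _
    · exact map_eq_zero_of_notMem hGU h _ m
  haveI : Epi β := by
    haveI : Epi (biprod.inl ≫ β) := by
      rw [biprod.inl_desc]
      haveI : Epi (πY ≫ p) := by rw [hp]; infer_instance
      exact epi_of_epi πY p
    exact epi_of_epi biprod.inl β
  let γ : cokernel α ⟶ GW := cokernel.desc α β hαβ
  haveI : Epi γ := by
    haveI : Epi (cokernel.π α ≫ γ) := by rw [cokernel.π_desc]; infer_instance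
    exact epi_of_epi (cokernel.π α) γ
  have hexact : ∀ η ∈ genericPoints X, ∀ v, (stalkF X η).map β v = 0 →
      (stalkF X η).map (cokernel.π α) v = 0 := by
    intro η hη v hv
    suffices h : ∃ m, (stalkF X η).map α ((stalkF X η).map πU m) = v by
      obtain ⟨m, rfl⟩ := h
      rw [← stalkF_map_comp α, cokernel.condition]; exact stalkF_map_zero η _
    have hdec : v = (stalkF X η).map (biprod.inl : GY ⟶ GY ⊞ GZ) ((stalkF X η).map (biprod.fst : GY ⊞ GZ ⟶ GY) v) +
        (stalkF X η).map (biprod.inr : GZ ⟶ GY ⊞ GZ) ((stalkF X η).map (biprod.snd : GY ⊞ GZ ⟶ GZ) v) := by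
      rw [← stalkF_map_comp, ← stalkF_map_comp, ← stalkF_map_add, biprod.total]
      exact (stalkF_map_id η v).symm
    obtain ⟨m, hm⟩ := surj hGY η ((stalkF X η).map (biprod.fst : GY ⊞ GZ ⟶ GY) v)
    obtain ⟨m', hm'⟩ := surj hGZ η ((stalkF X η).map (biprod.snd : GY ⊞ GZ ⟶ GZ) v)
    rw [← hm, ← hm'] at hdec
    have hα : ∀ m, (stalkF X η).map α ((stalkF X η).map πU m) =
        (stalkF X η).map (biprod.inl : GY ⟶ GY ⊞ GZ) ((stalkF X η).map πY m) +
          (stalkF X η).map (biprod.inr : GZ ⟶ GY ⊞ GZ) ((stalkF X η).map πZ m) := fun m => by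
      rw [← stalkF_map_comp, ← stalkF_map_comp, ← stalkF_map_comp, ← stalkF_map_add]
      refine congrArg (fun t => (stalkF X η).map t m) ?_
      rw [← ha, ← hb, Category.assoc, Category.assoc, ← Preadditive.comp_add]
      congr 1
      exact biprod.lift_eq
    by_cases hy : η ∈ Y
    · by_cases hz : η ∈ Z
      · have h1 : (stalkF X η).map πW m - (stalkF X η).map πW m' = 0 := by
          rw [← hv, hdec, map_add, ← stalkF_map_comp, ← stalkF_map_comp, ← stalkF_map_comp, ← stalkF_map_comp,
            biprod.inl_desc, biprod.inr_desc, hp, Preadditive.comp_neg, hq,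
            Functor.map_neg, sub_eq_add_neg]
          rfl
        rw [← map_sub] at h1
        have h2 := quot_injective hM hGW hη (hWge η hη hy hz) h1
        refine ⟨m, ?_⟩
        rw [hα, hdec, sub_eq_zero.1 h2]
      · refine ⟨m, ?_⟩
        rw [hα, hdec]
        congr 1
        exact congrArg _ (@Subsingleton.elim _ (subsingleton_of_notMem hGZ hz) _ _)
    · refine ⟨m', ?_⟩
      rw [hα, hdec]
      congr 1
      exact congrArg _ (@Subsingleton.elim _ (subsingleton_of_notMem hGY hy) _ _)
  have hK : ∀ η ∈ genericPoints X, Subsingleton ((kernel γ).presheaf.stalk η) := fun η hη => by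
    refine subsingleton_of_forall_eq 0 fun z => ?_
    refine (Groth.L21.Mod.mono_iff_stalk_injective (kernel.ι γ)).1 inferInstance η (Eq.trans ?_ (map_zero _).symm)
    obtain ⟨v, hv⟩ := (Groth.L21.Mod.epi_iff_stalk_surjective (cokernel.π α)).1 inferInstance η ((stalkF X η).map (kernel.ι γ) z)
    rw [← hv]
    refine hexact η hη v ?_
    rw [show β = cokernel.π α ≫ γ from (cokernel.π_desc α β hαβ).symm, stalkF_map_comp, hv, ← stalkF_map_comp,
      kernel.condition]
    exact stalkF_map_zero η z
  have cB : Coh.IsCoh (GY ⊞ GZ) := Groth.L16.Devissage.isCoh_biprod hGY.2.1 hGZ.2.1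
  have cQ : Coh.IsCoh (cokernel α) := (Groth.L16.CohKernel.isCoh_kernel_cokernel hGU.2.1 cB α).2
  have cK : Coh.IsCoh (kernel γ) := (Groth.L16.CohKernel.isCoh_kernel_cokernel cQ hGW.2.1 γ).1
  have e1 := Groth.L03.Euler.euler_add (k := k) (ShortComplex.ShortExact.mk (ShortComplex.exact_cokernel α) :
    (ShortComplex.mk α (cokernel.π α) (cokernel.condition α)).ShortExact) hGU.2.1 cB cQ
  have e2 := Groth.L03.Euler.euler_add (k := k) (ShortComplex.ShortExact.mk (ShortComplex.exact_kernel γ) :
    (ShortComplex.mk (kernel.ι γ) γ (kernel.condition γ)).ShortExact) cK cQ hGW.2.1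
  have e3 := Groth.L03.Euler.euler_add (k := k) (ShortComplex.Splitting.ofHasBinaryBiproduct GY GZ).shortExact
    hGY.2.1 cB hGZ.2.1
  have e4 := Groth.L21.RR.euler_eq_h0_of_suppClosed (k := k) (M := kernel γ) fun x hx =>
    hK x (mem_genericPoints_of_not_isClosed hpure hx)
  dsimp only at e1 e2 e3
  omega

end Groth.Agent.S18842
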