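import Groth.Statements.S18843
import Groth.Agent.L15.TFCurve.Gen
import Mathlib.AlgebraicGeometry.Morphisms.FiniteType
-- import your own Groth.Agent.* helpers here

set_option autoImplicit false
universe u
open CategoryTheory AlgebraicGeometry
open TFOne

namespace Groth.Agent.S18843
open Groth.L15.TFCurve

/-- Let X be a proper, geometrically reduced scheme of pure dimension one over a field k whose
irreducible components (with their reduced structure) are geometrically integral over k, and let M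
be a torsion-free rank-1 sheaf on X. Let Y and Z be closed subcurves (non-empty unions of
irreducible components) with Y ∪ Z = X which have an irreducible component in common. If the
torsion-free quotients M_Y and M_Z of M on Y and on Z (pinned by their defining property) are both
simple over k, then M is simple over k. -/
theorem result (k : Type u) [Field k] (X : Scheme.{u}) [X.Over (Spec (CommRingCat.of k))] [IsProper (X ↘ Spec (CommRingCat.of k))] [IsReduced X] [GeometricallyReduced (X ↘ Spec (CommRingCat.of k))] (hpure : ∀ C ∈ irreducibleComponents (X : Type u), topologicalKrullDim C = 1) (hgi : ∀ (C : Set X) (hC : C ∈ irreducibleComponents (X : Type u)), GeometricallyIntegral (VecSt.subschι X C (isClosed_of_mem_irreducibleComponents C hC) ≫ (X ↘ Spec (CommRingCat.of k)))) (M : X.Modules) (hM : TFOne.IsTF1 X M) (Y Z : Set X) (hY : IsClosed Y) (hZ : IsClosed Z) (hYs : VecSt.IsSubcurve X Y) (hZs : VecSt.IsSubcurve X Z) (hcov : Y ∪ Z = Set.univ) (hmeet : ∃ C ∈ irreducibleComponents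 (X : Type u), C ⊆ Y ∩ Z) (GY GZ : X.Modules) (πY : M ⟶ GY) (πZ : M ⟶ GZ) (hGY : TFOne.IsQuotOn X M Y GY πY) (hGZ : TFOne.IsQuotOn X M Z GZ πZ) (hsY : TFOne.IsSimple X k (X ↘ Spec (CommRingCat.of k)) GY) (hsZ : TFOne.IsSimple X k (X ↘ Spec (CommRingCat.of k)) GZ) : TFOne.IsSimple X k (X ↘ Spec (CommRingCat.of k)) M := by
  haveI : IsLocallyNoetherian X := LocallyOfFiniteType.isLocallyNoetherian (X ↘ Spec (CommRingCat.of k))
  haveI : Coh.IsQCoh M := hM.1.1
  haveI : Coh.IsQCoh GY := hGY.2.1.1
  haveI : Coh.IsQCoh GZ := hGZ.2.1.1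
  obtain ⟨C, hC, hCYZ⟩ := hmeet
  obtain ⟨η₀, hη₀, hηC⟩ := exists_genericPoint_of_component hC
  have hη₀YZ : η₀ ∈ Y ∩ Z := hCYZ (hηC ▸ subset_closure rfl)
  refine ⟨not_isZero_of_genericPoint hM hη₀, fun φ => ?_⟩
  have key : ∀ (S : Set X) (G : X.Modules) (π : M ⟶ G), TFOne.IsQuotOn X M S G π →
      TFOne.IsSimple X k (X ↘ Spec (CommRingCat.of k)) G →
      ∃ c : k, ∀ η ∈ genericPoints X, η ∈ S → ∀ m : M.presheaf.stalk η,
        (Groth.L21.Mod.stalkF X η).map (φ - Formal.smulMod k M c) m = 0 := by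
    intro S G π hG hs
    haveI : Coh.IsQCoh G := hG.2.1.1
    haveI := hG.1
    obtain ⟨g, hg⟩ := exists_desc hG.2.2.1 π (φ ≫ π) fun η hη m hm => by
      by_cases hηS : η ∈ S
      · exact (congrArg ((Groth.L21.Mod.stalkF X η).map (φ ≫ π)) (quot_injective hM hG hη hηS hm)).trans (map_zero _)
      · exact map_eq_zero_of_notMem hG hηS _ m
    obtain ⟨c, hc⟩ : ∃ c : k, g = Formal.smulMod k G c := hs.2 g
    refine ⟨c, fun η hη hηS m => quot_injective hM hG hη hηS ?_⟩
    rw [← stalkF_map_comp, show (φ - Formal.smulMod k M c) ≫ π = 0 from by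
      rw [Preadditive.sub_comp, ← hg, hc, smulMod_comm, sub_self]]
    exact stalkF_map_zero η m
  obtain ⟨c, hc⟩ := key Y GY πY hGY hsY
  obtain ⟨d, hd⟩ := key Z GZ πZ hGZ hsZ
  have hcd : c = d := by
    refine genK_injective (X := X) η₀ (scalar_unique hM hη₀ fun m => ?_)
    have h1 := hc η₀ hη₀ hη₀YZ.1 m
    have h2 := hd η₀ hη₀ hη₀YZ.2 m
    rw [stalkF_map_sub, stalkF_map_smulMod, sub_eq_zero] at h1 h2
    exact h1.symm.trans h2
  subst hcd
  refine ⟨c, sub_eq_zero.1 (hom_eq_zero hM.2.1 _ fun η hη m => ?_)⟩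
  rcases (show η ∈ Y ∪ Z from hcov ▸ Set.mem_univ η) with h | h
  · exact hc η hη h m
  · exact hd η hη h m

end Groth.Agent.S18843
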