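import Groth.Statements.S18845
import Groth.Agent.L15.TFCurve.Push
import Mathlib.AlgebraicGeometry.Morphisms.FiniteType
import Mathlib.Algebra.Homology.ShortComplex.ShortExact
-- import your own Groth.Agent.* helpers here

set_option autoImplicit false
universe u
open CategoryTheory CategoryTheory.Limits AlgebraicGeometry
open TFOne

namespace Groth.Agent.S18845
open Groth.L15.TFCurve CategoryTheory.Limits
open Groth.L21.Mod (stalkF)

/-- Let X be a proper, geometrically reduced scheme of pure dimension one over a field k whose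
irreducible components (with their reduced structure) are geometrically integral over k, let Y and Z
be closed subcurves (non-empty unions of irreducible components) with Y ∪ Z = X, and let M be a
torsion-free sheaf of rank one on X. Suppose M sits in a short exact sequence 0 ⟶ i_{Y*} I ⟶ M ⟶
i_{Z*} J ⟶ 0 of modules on X, where I is a simple torsion-free sheaf of rank one on the reduced
closed subscheme Y, J is a simple torsion-free sheaf of rank one on the reduced closed subscheme Z,
and i_{Y*}, i_{Z*} are the direct images. Then M is simple over k exactly when the sequence does not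
split (the epimorphism M ⟶ i_{Z*} J has no section). -/
theorem result (k : Type u) [Field k] (X : Scheme.{u}) [X.Over (Spec (CommRingCat.of k))] [IsProper (X ↘ Spec (CommRingCat.of k))] [IsReduced X] [GeometricallyReduced (X ↘ Spec (CommRingCat.of k))] (hpure : ∀ C ∈ irreducibleComponents (X : Type u), topologicalKrullDim C = 1) (hgi : ∀ (C : Set X) (hC : C ∈ irreducibleComponents (X : Type u)), GeometricallyIntegral (VecSt.subschι X C (isClosed_of_mem_irreducibleComponents C hC) ≫ (X ↘ Spec (CommRingCat.of k)))) (Y Z : Set X) (hY : IsClosed Y) (hZ : IsClosed Z) (hYs : VecSt.IsSubcurve X Y) (hZs : VecSt.IsSubcurve X Z) (hcov : Y ∪ Z = Set.univ) (M : X.Modules) (hM : TFOne.IsTF1 X M) (I : (VecSt.subsch X Y hY).Modules) (hI : TFOne.IsTF1 (VecSt.subsch X Y hY) I) (hIs : TFOne.IsSimple (VecSt.subsch X Y hY) k (VecSt.subschι X Y hY ≫ (X ↘ Spec (CommRingCat.of k))) I) (J : (VecSt.subsch X Z hZ).Modules) (hJ : TFOne.IsTF1 (VecSt.subsch X Z hZ) J) (hJs : TFOne.IsSimple (VecSt.subsch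 X Z hZ) k (VecSt.subschι X Z hZ ≫ (X ↘ Spec (CommRingCat.of k))) J) (a : (Coh.push (VecSt.subschι X Y hY)).obj I ⟶ M) (b : M ⟶ (Coh.push (VecSt.subschι X Z hZ)).obj J) (w : a ≫ b = 0) (hex : (ShortComplex.mk a b w).ShortExact) : TFOne.IsSimple X k (X ↘ Spec (CommRingCat.of k)) M ↔ ¬ IsSplitEpi b := by
  haveI : IsLocallyNoetherian X := LocallyOfFiniteType.isLocallyNoetherian (X ↘ Spec (CommRingCat.of k))
  haveI := hex.mono_f
  haveI := hex.epi_g
  haveI : Coh.IsQCoh I := hI.1.1
  haveI : Coh.IsQCoh J := hJ.1.1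
  have ha : ∀ η, Function.Injective ((stalkF X η).map a) :=
    (Groth.L21.Mod.mono_iff_stalk_injective a).1 hex.mono_f
  have hb : ∀ η, Function.Surjective ((stalkF X η).map b) :=
    (Groth.L21.Mod.epi_iff_stalk_surjective b).1 hex.epi_g
  have excl : ∀ η ∈ genericPoints X, η ∈ Y → η ∉ Z := fun η hη hy hz => by
    obtain ⟨s, hs⟩ := exists_push_stalk_ne_zero hY I hI hη hy
    obtain ⟨t, ht⟩ := exists_push_stalk_ne_zero hZ J hJ hη hz
    obtain ⟨m, rfl⟩ := hb η t
    have h1 : (stalkF X η).map b ((stalkF X η).map a s) = 0 := by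
      rw [← stalkF_map_comp, w]; exact stalkF_map_zero η s
    exact hs (ha η ((eq_zero_of_map_eq_zero hM b hη ht h1).trans (map_zero _).symm))
  have hom0 : ∀ g : (Coh.push (VecSt.subschι X Y hY)).obj I ⟶ (Coh.push (VecSt.subschι X Z hZ)).obj J, g = 0 :=
    fun g => hom_push_eq_zero hZ hZs J hJ.2.1 g fun η hη hz m => by
      exact (congrArg ((stalkF X η).map g) (@Subsingleton.elim _ (subsingleton_push_stalk hY I fun hy => excl η hη hy hz) m 0)).trans (map_zero _)
  have hom0' : ∀ g : (Coh.push (VecSt.subschι X Z hZ)).obj J ⟶ (Coh.push (VecSt.subschι X Y hY)).obj I, g = 0 :=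
    fun g => hom_push_eq_zero hY hYs I hI.2.1 g fun η hη hy m => by
      exact (congrArg ((stalkF X η).map g) (@Subsingleton.elim _ (subsingleton_push_stalk hZ J (excl η hη hy)) m 0)).trans (map_zero _)
  obtain ⟨ηY, hηY, hηYY⟩ := Groth.L15.TFCurve.IsSubcurve.exists_genericPoint hYs
  obtain ⟨ηZ, hηZ, hηZZ⟩ := Groth.L15.TFCurve.IsSubcurve.exists_genericPoint hZs
  have ha0 : a ≠ 0 := fun h => by
    obtain ⟨s, hs⟩ := exists_push_stalk_ne_zero hY I hI hηY hηYY
    exact hs (ha ηY ((congrArg (fun t : (Coh.push (VecSt.subschι X Y hY)).obj I ⟶ M => (stalkF X ηY).map t s) h).trans ((stalkF_map_zero ηY s).trans (map_zero _).symm)))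
  have hb0 : b ≠ 0 := fun h => by
    obtain ⟨t, ht⟩ := exists_push_stalk_ne_zero hZ J hJ hηZ hηZZ
    obtain ⟨m, rfl⟩ := hb ηZ t
    exact ht ((congrArg (fun t => (stalkF X ηZ).map t m) h).trans (stalkF_map_zero ηZ m))
  constructor
  · intro hs hsplit
    obtain ⟨s, hsb⟩ : ∃ s, s ≫ b = 𝟙 _ := ⟨section_ b, IsSplitEpi.id b⟩
    obtain ⟨c, hc⟩ : ∃ c : k, b ≫ s = Formal.smulMod k M c := hs.2 (b ≫ s)
    by_cases hc0 : c = 0
    · rw [hc0, smulMod_zero] at hc
      have h1 := congrArg (· ≫ b) hc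
      simp only [Category.assoc, hsb, Category.comp_id, zero_comp] at h1
      exact hb0 h1
    · haveI := isIso_smulMod (k := k) M hc0
      haveI : Mono (b ≫ s) := by rw [hc]; infer_instance
      haveI : Mono b := mono_of_mono b s
      exact ha0 (zero_of_comp_mono b w)
  · intro hns
    refine ⟨not_isZero_of_genericPoint hM hηY, fun φ => ?_⟩
    haveI := hex.mono_f
    obtain ⟨ψI, hψI⟩ : ∃ ψI, ψI ≫ a = a ≫ φ :=
      ⟨hex.exact.lift (a ≫ φ) (hom0 _), hex.exact.lift_f _ _⟩
    obtain ⟨ψ, rfl⟩ := full_push (VecSt.subschι X Y hY) ψI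
    obtain ⟨c, hc⟩ := hIs.2 ψ
    rw [hc, push_map_smulMod, smulMod_comm] at hψI
    obtain ⟨g, hg⟩ : ∃ g, b ≫ g = φ - Formal.smulMod k M c :=
      ⟨hex.exact.desc (φ - Formal.smulMod k M c) (by
        show a ≫ (φ - Formal.smulMod k M c) = 0
        rw [Preadditive.comp_sub, hψI, sub_self]), hex.exact.g_desc _ _⟩
    obtain ⟨θ, hθ⟩ := full_push (VecSt.subschι X Z hZ) (g ≫ b)
    obtain ⟨e, he⟩ := hJs.2 θ
    rw [he, push_map_smulMod] at hθ
    have he0 : e = 0 := by
      by_contra hne
      haveI := isIso_smulMod (k := k) ((Coh.push (VecSt.subschι X Z hZ)).obj J) hne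
      exact hns (IsSplitEpi.mk' ⟨inv (Formal.smulMod k ((Coh.push (VecSt.subschι X Z hZ)).obj J) e) ≫ g, by
        rw [Category.assoc, ← hθ, IsIso.inv_hom_id]⟩)
    rw [he0, smulMod_zero] at hθ
    have hg0 : g = 0 := by
      rw [← hex.exact.lift_f g hθ.symm, hom0' (hex.exact.lift g hθ.symm)]
      exact zero_comp
    exact ⟨c, sub_eq_zero.1 (hg.symm.trans (by rw [hg0, comp_zero]))⟩

end Groth.Agent.S18845
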