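import Groth.Statements.S18848
import Groth.Agent.L15.TFCurve.Setup
-- import your own Groth.Agent.* helpers here

set_option autoImplicit false
universe u
open CategoryTheory CategoryTheory.Limits AlgebraicGeometry
open TFOne

namespace Groth.Agent.S18848
open Groth.L15.TFCurve CategoryTheory.Limits

/-- Let R be a discrete valuation ring with residue field κ, f : X ⟶ Spec R flat and proper, and X_s its
special fibre, assumed reduced of pure dimension one with geometrically integral irreducible
components over κ. Let I be a coherent R-flat module on X whose restriction I(s) to X_s is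
torsion-free rank-1, E a locally free module of rank r > 0 on X with restriction E(s), and d an
integer with χ(I(s)) = d and deg E(s) = -r·d. For a closed subset T of X_s write I(s)_T for the
torsion-free quotient of I(s) on T (pinned by its defining property) and β(T) := r·χ(I(s)_T) +
deg(E(s)|_T) (the source's β cleared of the denominator r). Let Y be a closed subcurve of X_s (a
non-empty union of irreducible components), and let I^Y be the kernel of the composite I ⟶ i_* I(s)
⟶ i_* I(s)_Y, with restriction I^Y(s) to X_s and quotients I^Y(s)_T and numbers β^Y(T) :=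
r·χ(I^Y(s)_T) + deg(E(s)|_T) defined likewise. Assume I(s) is semistable with respect to E(s). Then
I^Y(s) is semistable with respect to E(s) if and only if β(Y) = 0 and I(s)_Y, viewed on the reduced
closed subscheme Y, is semistable with respect to E(s)|_Y. (Here β(Y) = 0 says that E(s)|_Y is a
polarisation for I(s)_Y, the source's implicit requirement for semistability with respect to
E(s)|_Y. The source states the conclusion for semistability of I^Y over Spec R, which it reduces at
once to the special fibre since I^Y and I agree off Y; it also asserts that I^Y(s) and I(s) are then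
Jordan–Hölder equivalent, which is not stated here; it takes f projective.) -/
theorem result (R : Type u) [CommRing R] [IsDomain R] [IsDiscreteValuationRing R] (X : Scheme.{u}) (f : X ⟶ Spec (CommRingCat.of R)) [Flat f] [IsProper f] (Xs : Scheme.{u}) [Xs.Over (Spec (CommRingCat.of (IsLocalRing.ResidueField R)))] (i : Xs ⟶ X) (hsq : IsPullback i (Xs ↘ Spec (CommRingCat.of (IsLocalRing.ResidueField R))) f (Spec.map (CommRingCat.ofHom (IsLocalRing.residue R)))) [IsReduced Xs] (hpure : ∀ C ∈ irreducibleComponents (Xs : Type u), topologicalKrullDim C = 1) (hgi : ∀ (C : Set Xs) (hC : C ∈ irreducibleComponents (Xs : Type u)), GeometricallyIntegral (VecSt.subschι Xs C (isClosed_of_mem_irreducibleComponents C hC) ≫ (Xs ↘ Spec (CommRingCat.of (IsLocalRing.ResidueField R))))) (I : X.Modules) (hIc : Coh.IsCoh I) (hIf : FlatMod.IsFlatOver f I) (hIs : TFOne.IsTF1 Xs ((Scheme.Modules.pullback i).obj I)) (E : X.Modules) (r : ℕ) (hr : 0 < r) (hE : FlatMod.IsFinLocFreeOfRank r E) (d : ℤ) (hχ : Curv2.euler (IsLocalRing.ResidueField R) Xs ((Scheme.Modules.pullback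 i).obj I) = d) (hEd : Curv2.deg (IsLocalRing.ResidueField R) Xs ((Scheme.Modules.pullback i).obj E) r = -(r : ℤ) * d) (hss : TFOne.IsSemistable Xs (IsLocalRing.ResidueField R) (Xs ↘ Spec (CommRingCat.of (IsLocalRing.ResidueField R))) ((Scheme.Modules.pullback i).obj I) ((Scheme.Modules.pullback i).obj E) r) (Y : Set Xs) (hY : IsClosed Y) (hYs : VecSt.IsSubcurve Xs Y) (GY : Xs.Modules) (πY : ((Scheme.Modules.pullback i).obj I) ⟶ GY) (hGY : TFOne.IsQuotOn Xs ((Scheme.Modules.pullback i).obj I) Y GY πY) (IY : X.Modules) (hIY : IY = kernel ((Scheme.Modules.pullbackPushforwardAdjunction i).unit.app I ≫ (Scheme.Modules.pushforward i).map πY)) : TFOne.IsSemistable Xs (IsLocalRing.ResidueField R) (Xs ↘ Spec (CommRingCat.of (IsLocalRing.ResidueField R))) ((Scheme.Modules.pullback i).obj IY) ((Scheme.Modules.pullback i).obj E) r ↔ (TFOne.rBeta Xs (IsLocalRing.ResidueField R) (Xs ↘ Spec (CommRingCat.of (IsLocalRing.ResidueField R))) Y hY ((Scheme.Modules.pullback i).obj E) r GY = 0 ∧ TFOne.IsSemistable (VecSt.subsch Xs Y hY) (IsLocalRing.ResidueField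 R) (VecSt.subschι Xs Y hY ≫ (Xs ↘ Spec (CommRingCat.of (IsLocalRing.ResidueField R)))) ((Scheme.Modules.pullback (VecSt.subschι Xs Y hY)).obj GY) ((Scheme.Modules.pullback (VecSt.subschι Xs Y hY)).obj ((Scheme.Modules.pullback i).obj E)) r) := by
  haveI := isProper_special hsq
  haveI := Groth.L21.RR.isNoetherian_of_proper (X := Xs) (IsLocalRing.ResidueField R)
  obtain ⟨D⟩ := nonempty_modif' hsq hIc hIf hGY hIY
  have hM1 := D.isTF1 hIs hGY
  have hEs := isFinLocFreeOfRank_pullback' i hE
  have hM0 : beta (IsLocalRing.ResidueField R) ((Scheme.Modules.pullback i).obj E) ((Scheme.Modules.pullback i).obj I) = 0 := by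
    rw [beta_self (IsLocalRing.ResidueField R) hEs hpure hIs, hχ, hEd]; ring
  have hnn := fun (T : Set Xs) (hT : IsClosed T) (hTs : VecSt.IsSubcurve Xs T) (G : Xs.Modules) π
    (hG : TFOne.IsQuotOn Xs ((Scheme.Modules.pullback i).obj I) T G π) =>
      nonneg_of_isSemistable (k := IsLocalRing.ResidueField R) hpure hEs hss hM0 hT hTs hG
  rw [rBeta_eq (IsLocalRing.ResidueField R) hEs hpure hIs hY hGY]
  constructor
  · intro hs1
    refine ⟨?_, isSemistable_subsch hY (IsLocalRing.ResidueField R) hEs hpure hIs hGY hYs hnn (isFinLocFreeOfRank_pullback' _ hEs)⟩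
    refine le_antisymm ?_ (hnn Y hY hYs GY πY hGY)
    by_cases hYu : Y = Set.univ
    · subst hYu
      obtain ⟨e, -⟩ := quot_unique hIs hGY (isQuotOn_self hIs)
      rw [beta_iso (IsLocalRing.ResidueField R) _ e, hM0]
    let S := {C | C ∈ irreducibleComponents (Xs : Type u) ∧ ¬ C ⊆ Y}
    have hS : S ⊆ irreducibleComponents (Xs : Type u) := fun C hC => hC.1
    have hmem : ∀ η ∈ genericPoints Xs, η ∈ ⋃₀ S ↔ η ∉ Y := fun η hη => mem_compl_components hY hη
    have hK := D.isQuotOn_toKer hIs hGY (isClosed_sUnion_components hS) (isFullSet_sUnion hS) hmem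
    obtain ⟨η, hη, hηY⟩ := Groth.L15.TFCurve.IsSubcurve.exists_genericPoint hYs
    have hne : ⋃₀ S ≠ Set.univ := fun h => (hmem η hη).1 (h ▸ Set.mem_univ η) hηY
    have hne' : (⋃₀ S).Nonempty := by
      by_contra h
      rw [Set.not_nonempty_iff_eq_empty] at h
      refine hYu (Set.univ_subset_iff.1 (isFullSet_univ.subset_of_genericPoints hY fun a ha _ => ?_))
      by_contra hna
      exact (h ▸ (hmem a ha).2 hna : a ∈ (∅ : Set Xs))
    have h := hs1.2 _ (isClosed_sUnion_components hS) ((isFullSet_sUnion hS).isSubcurve (isClosed_sUnion_components hS) hne') hne _ _ hK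
    rw [rBeta_eq (IsLocalRing.ResidueField R) hEs hpure hM1 (isClosed_sUnion_components hS) hK] at h
    have hadd := (isAdditive_beta (X := Xs) (IsLocalRing.ResidueField R) hEs).add D.shortExact hGY.2.1 D.coh
      (D.isCoh_ker hIs hGY)
    have hb := beta_modif (IsLocalRing.ResidueField R) hEs D hIs hGY
    dsimp only at hadd
    omega
  · rintro ⟨hY0, -⟩
    refine ⟨hM1, fun Z hZ hZs _ G π hG => ?_⟩
    rw [rBeta_eq (IsLocalRing.ResidueField R) hEs hpure hM1 hZ hG]
    obtain ⟨W, hWc, hW, GW, GU, πW, πU, hGW, hGU, hUs, hWs, hW0, hineq⟩ :=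
      exists_inequality (IsLocalRing.ResidueField R) hEs hpure D hY hIs hGY hZ hZs hYs hG
    have hbU := hnn (Y ∪ Z) (hY.union hZ) hUs GU πU hGU
    by_cases hne : W.Nonempty
    · have := hnn W hWc (hWs hne) GW πW hGW; omega
    · have := hW0 hne; omega

end Groth.Agent.S18848
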