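import Groth.Statements.S18849
import Groth.Agent.L15.TFCurve.Red.Simple
import Groth.Agent.L15.TFCurve.Red.Fibres
-- import your own Groth.Agent.* helpers here

set_option autoImplicit false
universe u
open CategoryTheory CategoryTheory.Limits AlgebraicGeometry
open TFOne

namespace Groth.Agent.S18849
open Groth.L15.TFCurve CategoryTheory.Limits

/-- Let R be a discrete valuation ring with fraction field K and residue field κ, f : X ⟶ Spec R flat
and proper with generic fibre X_K (a cartesian square over Spec K ⟶ Spec R with top arrow j) and
special fibre X_s (a cartesian square over Spec κ ⟶ Spec R), the latter reduced of pure dimension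
one with geometrically integral irreducible components over κ. Let I be a relatively torsion-free
rank-1 module on X over Spec R (R-flat, finitely presented, torsion-free rank-1 on every geometric
fibre). If the restriction j^* I is simple on every geometric fibre of X_K over Spec K, then there
is a relatively torsion-free rank-1 module I' on X over Spec R with j^* I' ≅ j^* I which is simple
on every geometric fibre of f. (The source states: a simple torsion-free rank-1 sheaf on the generic
fibre has an extension that is simple over Spec R; its proof, as the remark printed after it points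
out, starts from an arbitrary extension, whose existence it quotes, and modifies it — the form
stated here. The source takes f projective.) -/
theorem result (R : Type u) [CommRing R] [IsDomain R] [IsDiscreteValuationRing R] (X : Scheme.{u}) (f : X ⟶ Spec (CommRingCat.of R)) [Flat f] [IsProper f] (Xs : Scheme.{u}) [Xs.Over (Spec (CommRingCat.of (IsLocalRing.ResidueField R)))] (i : Xs ⟶ X) (hsq : IsPullback i (Xs ↘ Spec (CommRingCat.of (IsLocalRing.ResidueField R))) f (Spec.map (CommRingCat.ofHom (IsLocalRing.residue R)))) [IsReduced Xs] (hpure : ∀ C ∈ irreducibleComponents (Xs : Type u), topologicalKrullDim C = 1) (hgi : ∀ (C : Set Xs) (hC : C ∈ irreducibleComponents (Xs : Type u)), GeometricallyIntegral (VecSt.subschι Xs C (isClosed_of_mem_irreducibleComponents C hC) ≫ (Xs ↘ Spec (CommRingCat.of (IsLocalRing.ResidueField R))))) (Xg : Scheme.{u}) [Xg.Over (Spec (CommRingCat.of (FractionRing R)))] (j : Xg ⟶ X) (hgen : IsPullback j (Xg ↘ Spec (CommRingCat.of (FractionRing R))) f (Spec.map (CommRingCat.ofHom (algebraMap R (FractionRing R))))) (I : X.Modules) (hI : TFOne.IsRelTF1 f I) (hIg : TFOne.FibSimple (Xg ↘ Spec (CommRingCat.of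 (FractionRing R))) ((Scheme.Modules.pullback j).obj I)) : ∃ I' : X.Modules, TFOne.IsRelTF1 f I' ∧ Nonempty ((Scheme.Modules.pullback j).obj I' ≅ ((Scheme.Modules.pullback j).obj I)) ∧ TFOne.FibSimple f I' := by
  haveI := nonempty_special hsq hgen hIg
  obtain ⟨N, L, hs⟩ := exists_simple (d := Curv2.euler (IsLocalRing.ResidueField R) Xs ((Scheme.Modules.pullback i).obj I))
    hsq hpure hgi hgen hIg (Lat f i j _ I) (fun N h => h) (fun N L Y _ _ G π hG => L.md hsq hgen hG)
    ⟨I, Lat.refl hsq hI rfl⟩
  exact ⟨N, L.isRelTF1 hsq hgen hI, L.gen, fibSimple hsq hpure hgi hgen L hs hIg⟩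

end Groth.Agent.S18849
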