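import Groth.Statements.S18857
import Groth.Agent.L15.TFCurve.LimitDec
-- import your own Groth.Agent.* helpers here

set_option autoImplicit false
universe u
open CategoryTheory CategoryTheory.Limits AlgebraicGeometry
open TFOne

namespace Groth.Agent.S18857

/-- Let R be a complete discrete valuation ring with residue field κ, f : X ⟶ Spec R flat and proper,
and X_s its special fibre (a cartesian square over Spec κ ⟶ Spec R with top arrow i), assumed
reduced of pure dimension one with geometrically integral irreducible components over κ. Let Y ≠ X_s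
be a closed subcurve of X_s (a non-empty union of irreducible components) and Y' the union of the
components not contained in Y. Let I^0 ⊇ I^1 ⊇ I^2 ⊇ ⋯ be modules on X, I^0 coherent and R-flat with
torsion-free rank-1 restriction to X_s, such that for every n the module I^{n+1} is the kernel of
the composite I^n ⟶ i_* I^n(s) ⟶ i_* I^n(s)_Y, where I^n(s) is the restriction of I^n to X_s and
I^n(s)_Y its torsion-free quotient on Y (pinned by its defining property). Suppose that every I^n(s)
decomposes at Y: the canonical map I^n(s) ⟶ I^n(s)_Y ⊞ I^n(s)_{Y'} is an isomorphism. Then there are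
a module F on X, flat over Spec R, and an epimorphism p : I^0 ⟶ F whose restriction to X_s
identifies F(s), as a quotient of I^0(s), with I^0(s)_Y. (The source takes f projective and allows Y
= X_s, a case excluded here; it is trivial with F = I^0.) -/
theorem result (R : Type u) [CommRing R] [IsDomain R] [IsDiscreteValuationRing R] (X : Scheme.{u}) (f : X ⟶ Spec (CommRingCat.of R)) [Flat f] [IsProper f] (Xs : Scheme.{u}) [Xs.Over (Spec (CommRingCat.of (IsLocalRing.ResidueField R)))] (i : Xs ⟶ X) (hsq : IsPullback i (Xs ↘ Spec (CommRingCat.of (IsLocalRing.ResidueField R))) f (Spec.map (CommRingCat.ofHom (IsLocalRing.residue R)))) [IsReduced Xs] (hpure : ∀ C ∈ irreducibleComponents (Xs : Type u), topologicalKrullDim C = 1) (hgi : ∀ (C : Set Xs) (hC : C ∈ irreducibleComponents (Xs : Type u)), GeometricallyIntegral (VecSt.subschι Xs C (isClosed_of_mem_irreducibleComponents C hC) ≫ (Xs ↘ Spec (CommRingCat.of (IsLocalRing.ResidueField R))))) [IsAdicComplete (IsLocalRing.maximalIdeal R) R] (In : ℕ → X.Modules) (hIc : Coh.IsCoh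 (In 0)) (hIf : FlatMod.IsFlatOver f (In 0)) (hIs : TFOne.IsTF1 Xs ((Scheme.Modules.pullback i).obj (In 0))) (Y : Set Xs) (hY : IsClosed Y) (hYs : VecSt.IsSubcurve Xs Y) (hYne : Y ≠ Set.univ) (Y' : Set Xs) (hY' : Y' = ⋃₀ {C | C ∈ irreducibleComponents (Xs : Type u) ∧ ¬ C ⊆ Y}) (hY'c : IsClosed Y') (G G' : ℕ → Xs.Modules) (π : ∀ n : ℕ, ((Scheme.Modules.pullback i).obj (In n)) ⟶ G n) (π' : ∀ n : ℕ, ((Scheme.Modules.pullback i).obj (In n)) ⟶ G' n) (hG : ∀ n : ℕ, TFOne.IsQuotOn Xs ((Scheme.Modules.pullback i).obj (In n)) Y (G n) (π n)) (hG' : ∀ n : ℕ, TFOne.IsQuotOn Xs ((Scheme.Modules.pullback i).obj (In n)) Y' (G' n) (π' n)) (hstep : ∀ n : ℕ, In (n + 1) = kernel ((Scheme.Modules.pullbackPushforwardAdjunction i).unit.app (In n) ≫ (Scheme.Modules.pushforward i).map (π n))) (hdec : ∀ n : ℕ, IsIso (biprod.lift (π n) (π' n))) : ∃ (F : X.Modules) (p : In 0 ⟶ F), Epi p ∧ FlatMod.IsFlatOver f F ∧ ∃ e : (Scheme.Modules.pullback i).obj F ≅ G 0, (Scheme.Modules.pullback i).map p ≫ e.hom = π 0 := by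
  haveI := Groth.L15.TFCurve.isClosedImmersion_special hsq
  exact Groth.L15.TFCurve.exists_flat_quotient_of_tower hsq In hIc hIf hIs Y Y' G G' π π' hG hG' hstep hdec

end Groth.Agent.S18857
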