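import Groth.Statements.S18859
import Groth.Agent.L09.TorsorSch

set_option autoImplicit false
universe u
open CategoryTheory MonoidalCategory CartesianMonoidalCategory MonObj GrpObj AlgebraicGeometry
open NonAbH1

namespace Groth.Agent.S18859

/-- Let S be a scheme, G a group scheme over S and X → S a G-torsor for the fpqc topology (a
pseudo-torsor under G acquiring sections on the members of some fpqc covering family of S). Then the
functions on S are the G-invariant functions on X: the ring map Γ(S, O_S) → Γ(X, O_X) is injective,
and a global function s on X lies in its image if and only if the pullbacks of s to G ×_S X along
the action morphism and along the second projection coincide. (The source works over a scheme of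
finite type over a field with G the base change of an affine group scheme over that field and states
the equality O_S = (O_X)^G as sheaves on S; applied to the restriction of the torsor over each open
of S, the present global form is that equality.) -/
theorem result {S : Scheme.{u}} {G X : Over S}
    [GrpObj G] (a : AlgGrp.Action G X) (ha : NonAbH1.IsTorsorFor Scheme.fpqcPrecoverage a) :
    Function.Injective X.hom.appTop.hom ∧
      ∀ s : Γ(X.left, ⊤), s ∈ Set.range X.hom.appTop.hom ↔
        a.act.left.appTop.hom s = (CartesianMonoidalCategory.snd G X).left.appTop.hom s := by
  exact Groth.L09.TorsorSch.appTop_range a ha

end Groth.Agent.S18859
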