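import Groth.Statements.S18863
import Groth.Agent.L19.Nori.Basic
import Groth.Agent.L19.AffineLimitFF
import Groth.Agent.L19.GrpLimitAffine

set_option autoImplicit false
set_option backward.isDefEq.respectTransparency.types false
set_option backward.isDefEq.respectTransparency false
set_option linter.style.haveILetI false
universe u
open CategoryTheory CategoryTheory.Limits MonoidalCategory CartesianMonoidalCategory MonObj GrpObj AlgebraicGeometry
open NonAbH1

namespace Groth.Agent.S18863

/-- Let k be a field and X a quasi-compact k-scheme. Let (G_i)_{i ∈ I} be a cofiltered inverse system of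
affine group schemes of finite type over k with limit G in the category of k-group schemes (a limit
cone of homomorphisms G → G_i), and (T_i)_{i ∈ I} an inverse system of X-schemes such that each T_i
is a torsor over X for the fpqc topology under the base change of G_i to X and each transition map
T_j → T_i is equivariant along G_j → G_i. Let T be a limit of the T_i over X, with an action of the
base change of G to X for which every projection T → T_i is equivariant along G → G_i. Then T is a
torsor over X under the base change of G for the fpqc topology. (The source indexes the system by a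
directed partially ordered set and also records that T is pointed over a rational point of X when
all the T_i are; the limit scheme, the limit group and the limit action, which exist and are unique,
are taken here as data.) -/
theorem result (k : Type u) [Field k]
    (X : Scheme.{u}) [X.Over (Spec (CommRingCat.of k))] [CompactSpace X]
    {I : Type u} [SmallCategory I] [IsCofiltered I]
    (DG : I ⥤ Grp (Over (Spec (CommRingCat.of k))))
    [∀ i, IsAffineHom (DG.obj i).X.hom] [∀ i, LocallyOfFiniteType (DG.obj i).X.hom]
    (cG : Cone DG) (hcG : IsLimit cG)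
    (DT : I ⥤ Over X)
    (aT : ∀ i, AlgGrp.Action (Red.bc (X ↘ Spec (CommRingCat.of k)) (DG.obj i).X) (DT.obj i))
    (hT : ∀ i, NonAbH1.IsTorsorFor Scheme.fpqcPrecoverage (aT i))
    (hDT : ∀ (i j : I) (φ : i ⟶ j), AlgGrp.Action.IsEquivariant (aT i)
      ((aT j).restrict ((Over.pullback (X ↘ Spec (CommRingCat.of k))).map (DG.map φ).hom.hom)) (DT.map φ))
    (cT : Cone DT) (hcT : IsLimit cT)
    (a : AlgGrp.Action (Red.bc (X ↘ Spec (CommRingCat.of k)) cG.pt.X) cT.pt)
    (ha : ∀ i, AlgGrp.Action.IsEquivariant a
      ((aT i).restrict ((Over.pullback (X ↘ Spec (CommRingCat.of k))).map (cG.π.app i).hom.hom)) (cT.π.app i)) :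
    NonAbH1.IsTorsorFor Scheme.fpqcPrecoverage a := by
  open Groth.L19.Nori in
  let B := X ↘ Spec (CommRingCat.of k)
  haveI : ∀ i, IsAffine ((DG ⋙ Grp.forget (Over (Spec (CommRingCat.of k)))).obj i).left := fun i =>
    isAffine_of_isAffineHom (DG.obj i).X.hom
  haveI := Groth.L19.GrpLimitAffine.hasLimit_of_affine (DG ⋙ Grp.forget (Over (Spec (CommRingCat.of k))))
  obtain ⟨hG⟩ := Groth.L19.GrpLimitAffine.isLimit_mapCone DG cG hcG
  have haT := fun i => (equivariant_iff (aT i) _ _).1 (ha i)
  have props : ∀ i, IsAffineHom (DT.obj i).hom ∧ Flat (DT.obj i).hom ∧ Surjective (DT.obj i).hom := fun i => by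
    obtain ⟨h1, h2, h3, -⟩ := torsor_props (hT i)
    exact ⟨h1, h2, h3⟩
  obtain ⟨haff, hflat, hsurj⟩ := Groth.L19.AffineLimitFF.affine_flat_surjective_of_isLimit DT
    (fun i => (props i).1) (fun i => (props i).2.1) (fun i => (props i).2.2) cT hcT
  refine ⟨pseudo_of_sm a (fun Z z z' => ?_) (fun Z g g' z e => ?_), ?_⟩
  · choose g hg using fun i => sm_exists (aT i) (hT i).1 (z ≫ cT.π.app i) (z' ≫ cT.π.app i)
    have hcomp : ∀ (i j : I) (φ : i ⟶ j), g i ≫ (DG.map φ).hom.hom = g j := fun i j φ => by
      have e := congrArg (· ≫ DT.map φ) (hg i)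
      simp only [(equivariant_iff (aT j) (DT.map φ) (DG.map φ).hom.hom).1 (hDT i j φ), Category.assoc, cT.w] at e
      exact sm_inj (aT j) (hT j).1 (e.trans (hg j).symm)
    let s : Cone (DG ⋙ Grp.forget (Over (Spec (CommRingCat.of k)))) :=
      { pt := mp B Z
        π := { app := g
               naturality := fun i j φ => (Category.id_comp _).trans (hcomp i j φ).symm } }
    refine ⟨hG.lift s, hcT.hom_ext fun i => ?_⟩
    rw [haT i]
    rw [show hG.lift s ≫ (cG.π.app i).hom.hom = g i from hG.fac s i, hg i]
  · refine hG.hom_ext fun i => ?_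
    have e' := congrArg (· ≫ cT.π.app i) e
    simp only [haT i] at e'
    exact sm_inj (aT i) (hT i).1 e'
  · haveI := haff
    haveI := hflat
    haveI := hsurj
    refine ⟨Presieve.singleton cT.pt.hom, Scheme.Hom.singleton_mem_fpqcPrecoverage _, ?_⟩
    rintro _ _ ⟨⟩
    exact ⟨𝟙 _, Category.id_comp _⟩

end Groth.Agent.S18863
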