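import Groth.Statements.S18864
import Mathlib.RingTheory.Flat.Basic
import Mathlib.RingTheory.Bialgebra.Hom
import Mathlib.LinearAlgebra.Basis.VectorSpace
import Mathlib.LinearAlgebra.Dimension.Free

set_option autoImplicit false
universe u v w
open HopfRep

namespace Groth.Agent.S18864
open TensorProduct

/-- Let k be a field and G = lim G_i a pro-algebraic group scheme over k, so that G = Spec A with A the
direct limit of the Hopf algebras A_i of the affine group schemes G_i of finite type; assume
moreover that the maps A_i → A are injective, so that A is the directed union of the A_i, here given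
as injective bialgebra maps A_i → A with directed, jointly covering images. Then every homomorphism
from G to an affine group scheme H = Spec B of finite type over k factors through some projection G
→ G_i: every bialgebra map f : B → A with B finitely generated as a k-algebra is the composite of
A_i → A with a bialgebra map B → A_i for some i. (The published statement allows arbitrary
transition maps in the system; this row assumes each A_i → A injective, the case the printed
argument treats. The source also states the pro-finite variant with H finite, which is the case of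
finite-dimensional A_i and B; finite generation of the A_i is not used.) -/
theorem result (k : Type u) [Field k]
    (A : Type v) [CommRing A] [HopfAlgebra k A] {ι : Type v} (Aι : ι → Type v)
    [∀ i, CommRing (Aι i)] [∀ i, HopfAlgebra k (Aι i)] (emb : ∀ i, Aι i →ₐc[k] A)
    (hinj : ∀ i, Function.Injective (emb i))
    (hdir : ∀ i j, ∃ l, Set.range (emb i) ⊆ Set.range (emb l) ∧ Set.range (emb j) ⊆ Set.range (emb l))
    (hcov : ∀ a : A, ∃ i, a ∈ Set.range (emb i))
    (B : Type w) [CommRing B] [HopfAlgebra k B] [Algebra.FiniteType k B] (f : B →ₐc[k] A) :
    ∃ (i : ι) (g : B →ₐc[k] Aι i), (emb i).comp g = f := by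
  classical
  obtain ⟨s, hs⟩ := (‹Algebra.FiniteType k B›).out
  have hbig : ∀ t : Finset B, ∃ l, ∀ b ∈ t, f b ∈ Set.range (emb l) := by
    intro t
    induction t using Finset.induction_on with
    | empty =>
      obtain ⟨i, -⟩ := hcov 0
      exact ⟨i, fun b hb => absurd hb (by simp)⟩
    | @insert b t hbt ih =>
      obtain ⟨l, hl⟩ := ih
      obtain ⟨i, hi⟩ := hcov (f b)
      obtain ⟨m, hm1, hm2⟩ := hdir l i
      refine ⟨m, fun c hc => ?_⟩
      rcases Finset.mem_insert.1 hc with rfl | h
      · exact hm2 hi
      · exact hm1 (hl c h)
  obtain ⟨l, hl⟩ := hbig s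
  let e : Aι l →ₐ[k] A := (emb l : Aι l →ₐ[k] A)
  have hrange : ∀ b, f b ∈ e.range := by
    intro b
    have hb : b ∈ Algebra.adjoin k (s : Set B) := hs ▸ Algebra.mem_top
    have hle : Algebra.adjoin k (s : Set B) ≤ e.range.comap (f : B →ₐ[k] A) :=
      Algebra.adjoin_le fun c hc => hl c hc
    exact hle hb
  let g : B →ₐ[k] Aι l :=
    (AlgEquiv.ofInjective e (hinj l)).symm.toAlgHom.comp ((f : B →ₐ[k] A).codRestrict e.range hrange)
  have hg : ∀ b, emb l (g b) = f b := fun b =>
    congrArg Subtype.val ((AlgEquiv.ofInjective e (hinj l)).apply_symm_apply ((f : B →ₐ[k] A).codRestrict e.range hrange b))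
  have hjj : Function.Injective (Algebra.TensorProduct.map e e) :=
    TensorProduct.map_injective_of_flat_flat e.toLinearMap e.toLinearMap (hinj l) (hinj l)
  refine ⟨l, BialgHom.ofAlgHom g (AlgHom.ext fun b => ?_) (AlgHom.ext fun b => hjj ?_), ?_⟩
  · show Coalgebra.counit (R := k) (g b) = Coalgebra.counit (R := k) b
    rw [← CoalgHomClass.counit_comp_apply (emb l) (g b), hg, CoalgHomClass.counit_comp_apply]
  · show Algebra.TensorProduct.map e e (Algebra.TensorProduct.map g g (Coalgebra.comul b)) =
      Algebra.TensorProduct.map e e (Coalgebra.comul (g b))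
    have h1 : ∀ z : B ⊗[k] B, Algebra.TensorProduct.map e e (Algebra.TensorProduct.map g g z) =
        TensorProduct.map (f : B →ₐ[k] A).toLinearMap (f : B →ₐ[k] A).toLinearMap z := by
      intro z
      induction z with
      | zero => simp
      | tmul x y => simp [e, hg]
      | add x y hx hy => simp only [map_add, hx, hy]
    refine (h1 _).trans ((CoalgHomClass.map_comp_comul_apply f b).trans ?_)
    rw [← hg b]
    exact (CoalgHomClass.map_comp_comul_apply (emb l) (g b)).symm
  · exact DFunLike.ext _ _ hg

end Groth.Agent.S18864
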