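import Groth.Statements.S18868
import Groth.Agent.L13.LiaisonAlmostCI

set_option autoImplicit false
universe u
open Liaison

namespace Groth.Agent.S18868

/-- Let K be a field, R = K[x_0, …, x_n] graded by degree, c ≥ 2, 𝔠 ⊂ R a homogeneous complete
intersection of codimension c, that is a homogeneous ideal of height c generated by c elements g_1,
…, g_c, and I ⊂ R a homogeneous ideal of height c with R/I Cohen–Macaulay which properly contains 𝔠
and has the form I = 𝔠 + fR for some f (so I is an almost complete intersection). Then the linked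
ideal J = 𝔠 : I has height c and R/J is a Gorenstein ring. (A Gorenstein ideal of the notes, one
whose quotient is Cohen–Macaulay with last graded Betti number 1, is rendered as: the quotient ring
is Gorenstein.) -/
theorem result (K : Type u) [Field K] (n c : ℕ) (hc : 2 ≤ c)
    (g : Fin c → MvPolynomial (Fin (n + 1)) K) (f : MvPolynomial (Fin (n + 1)) K) (𝔠 I : Ideal (MvPolynomial (Fin (n + 1)) K)) (h𝔠g : Ideal.span (Set.range g) = 𝔠)
    (h𝔠 : 𝔠.IsHomogeneous (GrSyz.stdGr K (Fin (n + 1)))) (hI : I.IsHomogeneous (GrSyz.stdGr K (Fin (n + 1))))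
    (h𝔠c : 𝔠.height = c) (hIc : I.height = c) [LocCoh.IsCohenMacaulayRing (MvPolynomial (Fin (n + 1)) K ⧸ I)]
    (hlt : 𝔠 < I) (hIf : I = 𝔠 ⊔ Ideal.span {f}) :
    (𝔠.colon (I : Set (MvPolynomial (Fin (n + 1)) K))).height = c ∧
      LocCoh.IsGorensteinRing (MvPolynomial (Fin (n + 1)) K ⧸ 𝔠.colon (I : Set (MvPolynomial (Fin (n + 1)) K))) := by
  haveI := Groth.L13.LiaisonACI.isGorensteinRing_quotient_ci g 𝔠 h𝔠g h𝔠c
  haveI := Groth.L13.Liaison.isCohenMacaulayRing_of_gorenstein (MvPolynomial (Fin (n + 1)) K ⧸ 𝔠)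
  set J := 𝔠.colon (I : Set (MvPolynomial (Fin (n + 1)) K)) with hJdef
  have hne : J ≠ ⊤ := fun h => hlt.not_ge fun i hi => by
    have h1 : (1 : MvPolynomial (Fin (n + 1)) K) ∈ J := h ▸ Submodule.mem_top
    simpa using Submodule.mem_colon.mp h1 i hi
  haveI : Nontrivial (MvPolynomial (Fin (n + 1)) K ⧸ J) := Ideal.Quotient.nontrivial_iff.mpr hne
  refine ⟨?_, Groth.L13.LiaisonACI.isGorensteinRing_of_linked hIf hJdef.symm fun p hp => ?_⟩
  · obtain ⟨p, hp⟩ := associatedPrimes.nonempty (MvPolynomial (Fin (n + 1)) K) (MvPolynomial (Fin (n + 1)) K ⧸ J)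
    refine le_antisymm ((Ideal.height_mono (J := p) ?_).trans ?_) (h𝔠c ▸ Ideal.height_mono ?_)
    · exact (Ideal.annihilator_quotient (I := J)).symm.trans_le
        (Submodule.annihilator_top.symm.trans_le (IsAssociatedPrime.annihilator_le hp))
    · rw [Groth.L13.Liaison.height_eq_of_mem_minimalPrimes h𝔠
        (Groth.L13.Liaison.minimalPrimes_of_mem_associatedPrimes_quotient
          (Groth.L13.Liaison.associatedPrimes_colon_subset 𝔠 I hp)), h𝔠c]
    · exact fun a ha => Submodule.mem_colon.mpr fun s _ => 𝔠.mul_mem_right s ha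
  · have h1 := Groth.L13.Liaison.minimalPrimes_of_mem_associatedPrimes_quotient (c := I) hp
    haveI := h1.1.1
    exact Groth.L13.Liaison.mem_minimalPrimes_of_height_eq (hlt.le.trans h1.1.2)
      ((Groth.L13.Liaison.height_eq_of_mem_minimalPrimes hI h1).trans (hIc.trans h𝔠c.symm)).le

end Groth.Agent.S18868
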