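import Groth.Statements.S18870
import Groth.Agent.L13.LiaisonDoubleLink
-- import your own Groth.Agent.* helpers here

set_option autoImplicit false
set_option maxHeartbeats 100000
universe u
open Liaison

namespace Groth.Agent.S18870

/-- Let K be a field, R = K[x_0, …, x_n] graded by degree, and J ⊆ I ⊂ R homogeneous ideals with J ≠ 0,
height I = height J + 1 = h + 1 and R/J Cohen–Macaulay; let f ∈ R be homogeneous of degree d with J
: f = J, and put Ĩ = J + fI (the basic double link). Then Ĩ has the same height h + 1 as I. -/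
theorem result (K : Type u) [Field K] (n h : ℕ)
    (J I : Ideal (MvPolynomial (Fin (n + 1)) K))
    (hJ : J.IsHomogeneous (GrSyz.stdGr K (Fin (n + 1)))) (hI : I.IsHomogeneous (GrSyz.stdGr K (Fin (n + 1))))
    (hJ0 : J ≠ ⊥) (hJI : J ≤ I) (hJh : J.height = h) (hIh : I.height = h + 1)
    [LocCoh.IsCohenMacaulayRing (MvPolynomial (Fin (n + 1)) K ⧸ J)]
    (f : MvPolynomial (Fin (n + 1)) K) (d : ℕ) (hf : f ∈ GrSyz.stdGr K (Fin (n + 1)) (d : ℤ)) (hJf : J.colon {f} = J) :
    (J ⊔ Ideal.span {f} * I).height = h + 1 := by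
  have hsub : J ⊔ Ideal.span {f} * I ≤ I := sup_le hJI (Ideal.mul_le.2 fun a _ b hb => I.mul_mem_left a hb)
  have hup : (J ⊔ Ideal.span {f} * I).height ≤ h + 1 := hIh ▸ Ideal.height_mono hsub
  refine le_antisymm hup ?_
  rw [Ideal.height_eq_inf_minimalPrimes]
  refine le_iInf₂ fun p hp => ?_
  haveI := hp.1.1
  have hle : J ⊔ Ideal.span {f} * I ≤ p := hp.1.2
  rcases (Ideal.IsPrime.mul_le hp.1.1).1 (le_sup_right.trans hle) with h | h
  · have hle' : J ⊔ Ideal.span {f} ≤ p := sup_le (le_sup_left.trans hle) h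
    obtain ⟨q, hq, hqp⟩ := Ideal.exists_minimalPrimes_le hle'
    have hq' : q ∈ associatedPrimes (MvPolynomial (Fin (n + 1)) K)
        (MvPolynomial (Fin (n + 1)) K ⧸ (J ⊔ Ideal.span {f})) :=
      Module.associatedPrimes.minimalPrimes_annihilator_subset_associatedPrimes _ _
        (by rwa [Ideal.annihilator_quotient])
    have h2 := Groth.L13.Liaison.height_of_mem_associatedPrimes_sup_span hJ hJf hq'
    rw [hJh] at h2
    exact h2.ge.trans (Ideal.height_mono hqp)
  · exact hIh.ge.trans (Ideal.height_mono h)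

end Groth.Agent.S18870
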