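import Groth.Statements.S18873
import Groth.Agent.L13.LiaisonHilb

set_option autoImplicit false
universe u
open Liaison

namespace Groth.Agent.S18873

open Groth.L13.Liaison Groth.L13.Liaison.Hilb Groth.L12.GrSyzLib


/-- Let K be a field, R = K[x_0, …, x_n] graded by degree, 2 ≤ c ≤ n, 𝔠 ⊂ R a homogeneous ideal of
height c such that R/𝔠 is a Gorenstein ring, I ⊂ R a homogeneous ideal of height c containing 𝔠, and
J = 𝔠 : I. Write h_𝔞(j) = dim_K [R/𝔞]_j for the Hilbert function of R/𝔞. If p_𝔠, p_I, p_J ∈ ℚ[t] are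
polynomials agreeing with h_𝔠, h_I, h_J in all sufficiently large degrees (Hilbert polynomials; R/𝔠
and R/I have dimension n + 1 − c ≥ 1, and so has R/J unless I = 𝔠, when J = R and p_J = 0), then the
coefficients of t^(n−c) satisfy p_J = p_𝔠 − p_I in that degree; multiplying by (n − c)! this says
deg J = deg 𝔠 − deg I. -/
theorem result (K : Type u) [Field K] (n c : ℕ) (hc : 2 ≤ c) (hcn : c ≤ n)
    (𝔠 I : Ideal (MvPolynomial (Fin (n + 1)) K))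
    (h𝔠 : 𝔠.IsHomogeneous (GrSyz.stdGr K (Fin (n + 1)))) (hI : I.IsHomogeneous (GrSyz.stdGr K (Fin (n + 1))))
    [LocCoh.IsGorensteinRing (MvPolynomial (Fin (n + 1)) K ⧸ 𝔠)] (h𝔠c : 𝔠.height = c) (hIc : I.height = c) (h𝔠I : 𝔠 ≤ I)
    (p𝔠 pI pJ : Polynomial ℚ)
    (hp𝔠 : ∃ j₀ : ℕ, ∀ j : ℕ, j₀ ≤ j → (Module.finrank K ↥(Submodule.map (Ideal.Quotient.mkₐ K (𝔠)).toLinearMap (GrSyz.stdGr K (Fin (n + 1)) (j : ℤ))) : ℚ) = p𝔠.eval (j : ℚ))
    (hpI : ∃ j₀ : ℕ, ∀ j : ℕ, j₀ ≤ j → (Module.finrank K ↥(Submodule.map (Ideal.Quotient.mkₐ K (I)).toLinearMap (GrSyz.stdGr K (Fin (n + 1)) (j : ℤ))) : ℚ) = pI.eval (j : ℚ))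
    (hpJ : ∃ j₀ : ℕ, ∀ j : ℕ, j₀ ≤ j → (Module.finrank K ↥(Submodule.map (Ideal.Quotient.mkₐ K (𝔠.colon (I : Set (MvPolynomial (Fin (n + 1)) K)))).toLinearMap (GrSyz.stdGr K (Fin (n + 1)) (j : ℤ))) : ℚ) = pJ.eval (j : ℚ)) :
    pJ.coeff (n - c) = p𝔠.coeff (n - c) - pI.coeff (n - c) := by
  have hJeq : 𝔠.colon (I : Set (MvPolynomial (Fin (n + 1)) K)) =
      𝔠.colon {x | x ∈ I ∧ ∃ e, x ∈ GrSyz.stdGr K (Fin (n + 1)) e} := by
    refine le_antisymm (fun r hr => Submodule.mem_colon.2 fun x hx => Submodule.mem_colon.1 hr x hx.1)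
      fun r hr => Submodule.mem_colon.2 fun x hx => ?_
    obtain ⟨s, hs⟩ := exists_sum_prj (GrSyz.stdGr K (Fin (n + 1))) x
    rw [← hs, Finset.smul_sum]
    exact 𝔠.sum_mem fun i _ => Submodule.mem_colon.1 hr _ ⟨hI i hx, i, prj_mem _ _ _⟩
  set J := 𝔠.colon (I : Set (MvPolynomial (Fin (n + 1)) K)) with hJdef
  have hJh : J.IsHomogeneous (GrSyz.stdGr K (Fin (n + 1))) := by
    rw [hJeq]; exact colon_homogeneous h𝔠 fun x hx => hx.2
  have h𝔠J : 𝔠 ≤ J := fun r hr => Submodule.mem_colon.2 fun x _ => 𝔠.mul_mem_right x hr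
  obtain ⟨w, S, hS, hform⟩ := exists_coeff_formula 𝔠 (n - c) (by
    rw [h𝔠c, ← Nat.cast_add]
    exact Nat.cast_le.2 (by omega))
  obtain ⟨fc, Hc⟩ := hform 𝔠 h𝔠 le_rfl
  obtain ⟨fI, HI⟩ := hform I hI h𝔠I
  obtain ⟨fJ, HJ⟩ := hform J hJh h𝔠J
  obtain ⟨a1, e1⟩ := poly_of_nat (f := hq 𝔠) hp𝔠
  obtain ⟨a2, e2⟩ := poly_of_nat (f := hq I) hpI
  obtain ⟨a3, e3⟩ := poly_of_nat (f := hq J) hpJ
  rw [Hc _ a1 e1, HI _ a2 e2, HJ _ a3 e3, ← Finset.sum_sub_distrib]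
  refine Finset.sum_congr rfl fun Q hQ => ?_
  haveI := LocCoh.IsGorensteinRing.isGorensteinLocalRing_localization
    (A := MvPolynomial (Fin (n + 1)) K ⧸ 𝔠) Q.asIdeal
  haveI : Module.Injective (Localization.AtPrime Q.asIdeal) (Localization.AtPrime Q.asIdeal) :=
    injective_self_of_dim_zero (by
      rw [IsLocalization.AtPrime.ringKrullDim_eq_height Q.asIdeal (Localization.AtPrime Q.asIdeal), Ideal.height_eq_zero_iff.mpr (hS Q hQ)]
      rfl)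
  have hmap : J.map (Ideal.Quotient.mk 𝔠) = ann (I.map (Ideal.Quotient.mk 𝔠)) := by
    refine le_antisymm (Ideal.map_le_iff_le_comap.2 fun r hr => Submodule.mem_colon.2 fun y hy => ?_) fun z hz => ?_
    · obtain ⟨y, hy', rfl⟩ := (Ideal.mem_map_iff_of_surjective _ Ideal.Quotient.mk_surjective).1 hy
      rw [smul_eq_mul, ← map_mul, Submodule.mem_bot, Ideal.Quotient.eq_zero_iff_mem]
      exact Submodule.mem_colon.1 hr y hy'
    · obtain ⟨r, rfl⟩ := Ideal.Quotient.mk_surjective z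
      refine Ideal.mem_map_of_mem _ (Submodule.mem_colon.2 fun y hy => ?_)
      have h := (Submodule.mem_bot _).1 (Submodule.mem_colon.1 hz _ (Ideal.mem_map_of_mem _ hy))
      rw [smul_eq_mul, ← map_mul] at h
      exact Ideal.Quotient.eq_zero_iff_mem.1 h
  have hlen : len Q.asIdeal (J.map (Ideal.Quotient.mk 𝔠)) + len Q.asIdeal (I.map (Ideal.Quotient.mk 𝔠)) =
      len Q.asIdeal (𝔠.map (Ideal.Quotient.mk 𝔠)) := by
    rw [hmap, Ideal.map_quotient_self]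
    exact len_linked Q.asIdeal _
  rw [← hlen, ENat.toNat_add (fJ Q hQ) (fI Q hQ)]
  push_cast
  ring

end Groth.Agent.S18873
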