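import Groth.Statements.S18877
import Groth.Agent.L19.Limit.Cons
import Groth.Agent.L07.Count.Field
import Groth.Agent.S1339

set_option autoImplicit false
set_option backward.isDefEq.respectTransparency.types false
set_option backward.isDefEq.respectTransparency false
set_option linter.style.haveILetI false
universe u
open Lim

namespace Groth.Agent.S18877

open CategoryTheory AlgebraicGeometry in
/-- Let S = lim S_i be a cofiltered limit of Noetherian schemes with affine transition morphisms, let X₀
→ S_{i₀} be a scheme of finite type over one stage and X → S its base change to the limit. If all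
geometric fibres of X → S are connected, then for some stage S_i → S_{i₀} all geometric fibres of
the base change X₀ ×_{S_{i₀}} S_i → S_i are connected. (Connected is read so as to allow the empty
fibre: the underlying space of each geometric fibre is preconnected; the geometric fibre of X₀
×_{S_{i₀}} S_i over Spec Ω → S_i is written as the pullback of X₀ → S_{i₀} along Spec Ω → S_i →
S_{i₀}.) -/
theorem result {I : Type u} [SmallCategory I] [IsCofiltered I]
    (D : I ⥤ Scheme.{u}) (c : Limits.Cone D) (hc : Limits.IsLimit c)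
    [∀ (i j : I) (a : i ⟶ j), IsAffineHom (D.map a)] [∀ i : I, AlgebraicGeometry.IsNoetherian (D.obj i)]
    (i₀ : I) {X₀ : Scheme.{u}} (f₀ : X₀ ⟶ D.obj i₀) [QuasiCompact f₀] [LocallyOfFiniteType f₀]
    {X : Scheme.{u}} (f : X ⟶ c.pt) (q : X ⟶ X₀) (hX : IsPullback q f f₀ (c.π.app i₀))
    (hconn : ∀ (Ω : Type u) [Field Ω] [IsAlgClosed Ω] (t : Spec (CommRingCat.of Ω) ⟶ c.pt),
      PreconnectedSpace ↥(Limits.pullback f t)) :
    ∃ (i : I) (a : i ⟶ i₀), ∀ (Ω : Type u) [Field Ω] [IsAlgClosed Ω] (t : Spec (CommRingCat.of Ω) ⟶ D.obj i),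
      PreconnectedSpace ↥(Limits.pullback f₀ (t ≫ D.map a)) := by
  open Groth.L07.Count in
  have key : ∀ (Z : Scheme.{u}), PreconnectedSpace ↥Z ↔ nConn Z ≤ 1 := fun Z => by
    show _ ↔ ENat.card (ConnectedComponents Z) ≤ 1
    rw [ENat.card_le_one_iff_subsingleton]
    refine ⟨fun h => ⟨fun a b => ?_⟩, fun h => ⟨?_⟩⟩
    · obtain ⟨x, rfl⟩ := ConnectedComponents.surjective_coe a
      obtain ⟨y, rfl⟩ := ConnectedComponents.surjective_coe b
      rw [ConnectedComponents.coe_eq_coe, PreconnectedSpace.connectedComponent_eq_univ,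
        PreconnectedSpace.connectedComponent_eq_univ]
    · rcases isEmpty_or_nonempty Z with he | ⟨⟨z⟩⟩
      · rw [Set.univ_eq_empty_iff.mpr he]; exact isPreconnected_empty
      · have : connectedComponent z = Set.univ := Set.eq_univ_of_forall fun w => by
          have := ConnectedComponents.coe_eq_coe.mp (Subsingleton.elim (ConnectedComponents.mk w) (ConnectedComponents.mk z))
          exact this ▸ mem_connectedComponent
        rw [← this]; exact isPreconnected_connectedComponent
  let B : Set (D.obj i₀) := {y | MoreMor.nGeomConnComp f₀ y = 0} ∪ {y | MoreMor.nGeomConnComp f₀ y = 1}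
  have hB : ∀ y, y ∈ B ↔ MoreMor.nGeomConnComp f₀ y ≤ 1 := fun y => by
    simp only [B, Set.mem_union, Set.mem_ofPred_eq]
    exact (ENat.le_one_iff_eq_zero_or_eq_one).symm
  haveI : LocallyOfFinitePresentation f₀ := inferInstance
  haveI : QuasiSeparatedSpace X₀ := by
    haveI := LocallyOfFiniteType.isLocallyNoetherian f₀
    infer_instance
  haveI : QuasiSeparated f₀ := inferInstance
  have hBc := (Groth.Agent.S1339.result f₀ 0).union (Groth.Agent.S1339.result f₀ 1)
  obtain ⟨j, φ, hφ⟩ := Groth.L19.Limit.exists_preimage_subset hc (i := i₀) (A := Set.univ) (B := B)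
    Groth.L19.Limit.cc_univ (Groth.L19.Limit.cc_compl_of_isLocallyConstructible hBc) (fun s _ => by
      let K := AlgebraicClosure (c.pt.residueField s)
      let t : Spec (CommRingCat.of K) ⟶ c.pt :=
        Spec.map (CommRingCat.ofHom (algebraMap (c.pt.residueField s) K)) ≫ c.pt.fromSpecResidueField s
      have ht : ∀ z, t z = s := fun z => by
        rw [Scheme.Hom.comp_apply]
        exact Scheme.fromSpecResidueField_apply _ _
      refine (hB _).2 ?_
      refine (Groth.L07.Count.nGeomConnComp_of_isPullback f₀ hX s).symm.trans_le ?_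
      rw [nGeomConnComp_eq f K t s ht, ← key]
      exact hconn K t)
  refine ⟨j, φ, fun Ω _ _ t => ?_⟩
  let p : ↥(Spec (CommRingCat.of Ω)) := (⟨⊥, Ideal.isPrime_bot⟩ : PrimeSpectrum Ω)
  rw [key, ← nGeomConnComp_eq f₀ Ω (t ≫ D.map φ) ((t ≫ D.map φ) p)
    (fun z => congrArg (fun w => (t ≫ D.map φ) w) (Subsingleton.elim z p)), ← hB, Scheme.Hom.comp_apply]
  exact hφ (Set.mem_univ (t p))

end Groth.Agent.S18877
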