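import Groth.Statements.S18878
import Groth.Agent.L19.SubgroupStage

set_option autoImplicit false
set_option backward.isDefEq.respectTransparency.types false
set_option backward.isDefEq.respectTransparency false
set_option linter.style.haveILetI false
universe u
open Lim

namespace Groth.Agent.S18878

open CategoryTheory MonoidalCategory

open CategoryTheory AlgebraicGeometry in
/-- Let S = lim S_i be a cofiltered limit of schemes with affine transition morphisms over a
quasi-compact quasi-separated stage S_{i₀}, let G₀ be a group scheme separated and of finite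
presentation over S_{i₀} and H₀ ⊆ G₀ a closed subscheme whose immersion is of finite presentation,
and write G, H (resp. G_i, H_i) for the base changes to S (resp. to a stage S_i). If H is a closed
subgroup scheme of G, that is H carries a group structure over S for which H → G is a homomorphism,
then H_i is a closed subgroup scheme of G_i for some stage i → i₀; if moreover H is normal in G, the
stage can be chosen so that H_i is normal in G_i. (The published statement is for separated finitely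
presented group algebraic spaces and an arbitrary closed subspace H₀; this row is the case of
schemes and assumes H₀ → G₀ of finite presentation: over the limit Spec k of the spectra of k[x_1,
x_2, …]/(x_1, …, x_n), k of characteristic zero, the closed subscheme of the additive group cut out
by all x_m t^m becomes the whole additive group over Spec k but is a subgroup over no stage, so a
finiteness condition on H₀ is needed, and finite presentation is what the published limit argument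
uses.) -/
theorem result
    {I : Type u} [SmallCategory I] [IsCofiltered I]
    (D : I ⥤ Scheme.{u}) (c : Limits.Cone D) (hc : Limits.IsLimit c)
    [∀ (i j : I) (a : i ⟶ j), IsAffineHom (D.map a)] (i₀ : I)
    [CompactSpace (D.obj i₀)] [QuasiSeparatedSpace (D.obj i₀)]
    (G₀ : Over (D.obj i₀)) [GrpObj G₀] [IsSeparated G₀.hom] [QuasiCompact G₀.hom]
    [LocallyOfFinitePresentation G₀.hom]
    (H₀ : Over (D.obj i₀)) (ι₀ : H₀ ⟶ G₀) [IsClosedImmersion ι₀.left]
    [LocallyOfFinitePresentation ι₀.left]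
    (hH : ∃ _ : GrpObj (Red.bc (c.π.app i₀) H₀), IsMonHom ((Over.pullback (c.π.app i₀)).map ι₀)) :
    (∃ (i : I) (a : i ⟶ i₀) (_ : GrpObj (Red.bc (D.map a) H₀)),
        IsMonHom ((Over.pullback (D.map a)).map ι₀)) ∧
    ((∃ (_ : GrpObj (Red.bc (c.π.app i₀) H₀)) (_ : IsMonHom ((Over.pullback (c.π.app i₀)).map ι₀)),
        AlgGrp.IsNormalHom ((Over.pullback (c.π.app i₀)).map ι₀)) →
      ∃ (i : I) (a : i ⟶ i₀) (_ : GrpObj (Red.bc (D.map a) H₀))
        (_ : IsMonHom ((Over.pullback (D.map a)).map ι₀)),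
        AlgGrp.IsNormalHom ((Over.pullback (D.map a)).map ι₀)) := by
  have hqc : QuasiCompact H₀.hom := by rw [← Over.w ι₀]; infer_instance
  have hqs : QuasiSeparated H₀.hom := by rw [← Over.w ι₀]; infer_instance
  have hfp : LocallyOfFinitePresentation H₀.hom := by rw [← Over.w ι₀]; infer_instance
  haveI : QuasiCompact (𝟙_ (Over (D.obj i₀))).hom := inferInstanceAs (QuasiCompact (𝟙 _))
  haveI : QuasiSeparated (𝟙_ (Over (D.obj i₀))).hom := inferInstanceAs (QuasiSeparated (𝟙 _))
  haveI : QuasiCompact (H₀ ⊗ H₀).hom :=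
    inferInstanceAs (QuasiCompact (Limits.pullback.fst H₀.hom H₀.hom ≫ H₀.hom))
  haveI : QuasiSeparated (H₀ ⊗ H₀).hom :=
    inferInstanceAs (QuasiSeparated (Limits.pullback.fst H₀.hom H₀.hom ≫ H₀.hom))
  haveI : QuasiCompact (G₀ ⊗ H₀).hom :=
    inferInstanceAs (QuasiCompact (Limits.pullback.fst G₀.hom H₀.hom ≫ G₀.hom))
  haveI : QuasiSeparated (G₀ ⊗ H₀).hom :=
    inferInstanceAs (QuasiSeparated (Limits.pullback.fst G₀.hom H₀.hom ≫ G₀.hom))
  haveI : Mono ι₀ := Over.mono_of_mono_left ι₀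
  haveI : ∀ {B : Scheme.{u}} (a : B ⟶ D.obj i₀), Mono ((Over.pullback a).map ι₀) := fun a => inferInstance
  have comb : ∀ {i i' : I} (a : i ⟶ i₀) (a' : i' ⟶ i₀), ∃ (k : I) (b : k ⟶ i₀),
      (∀ {T : Over (D.obj i₀)} (m : T ⟶ G₀), Groth.L19.SubgroupStage.Fac (D.map a) ι₀ m →
        Groth.L19.SubgroupStage.Fac (D.map b) ι₀ m) ∧
      (∀ {T : Over (D.obj i₀)} (m : T ⟶ G₀), Groth.L19.SubgroupStage.Fac (D.map a') ι₀ m →
        Groth.L19.SubgroupStage.Fac (D.map b) ι₀ m) := fun a a' => by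
    obtain ⟨k, p, q, h⟩ := IsCofiltered.cospan a a'
    refine ⟨k, p ≫ a, fun m hm => Groth.L19.SubgroupStage.fac_mono (D.map_comp p a).symm hm,
      fun m hm => ?_⟩
    rw [h]
    exact Groth.L19.SubgroupStage.fac_mono (D.map_comp q a').symm hm
  obtain ⟨inst, hMon⟩ := hH
  obtain ⟨f₁, f₂, f₃⟩ := @Groth.L19.SubgroupStage.fac_of_isMonHom _ _ (c.π.app i₀) _ _ _ ι₀ inst hMon
  obtain ⟨i₁, a₁, g₁⟩ := Groth.L19.SubgroupStage.exists_fac D c hc i₀ ι₀ _ f₁
  obtain ⟨i₂, a₂, g₂⟩ := Groth.L19.SubgroupStage.exists_fac D c hc i₀ ι₀ _ f₂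
  obtain ⟨i₃, a₃, g₃⟩ := Groth.L19.SubgroupStage.exists_fac D c hc i₀ ι₀ _ f₃
  obtain ⟨k, b, l₁, l₂⟩ := comb a₁ a₂
  obtain ⟨i, a, m₁, m₂⟩ := comb b a₃
  obtain ⟨instI, hI⟩ := Groth.L19.SubgroupStage.exists_grpObj_of_fac (D.map a) ι₀ (m₁ _ (l₁ _ g₁))
    (m₁ _ (l₂ _ g₂)) (m₂ _ g₃)
  refine ⟨⟨i, a, instI, hI⟩, ?_⟩
  rintro ⟨inst', hMon', hn⟩
  obtain ⟨i₄, a₄, g₄⟩ := Groth.L19.SubgroupStage.exists_fac D c hc i₀ ι₀ _
    (@Groth.L19.SubgroupStage.fac_conjMap _ _ (c.π.app i₀) _ _ _ ι₀ inst' hMon' hn)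
  obtain ⟨k', b', n₁, n₂⟩ := comb a a₄
  obtain ⟨instK, hK⟩ := Groth.L19.SubgroupStage.exists_grpObj_of_fac (D.map b') ι₀
    (n₁ _ (m₁ _ (l₁ _ g₁))) (n₁ _ (m₁ _ (l₂ _ g₂))) (n₁ _ (m₂ _ g₃))
  exact ⟨k', b', instK, hK, @Groth.L19.SubgroupStage.isNormalHom_of_fac _ _ (D.map b') _ _ _ ι₀ instK hK
    (n₂ _ g₄)⟩

end Groth.Agent.S18878
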