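import Groth.Prelude.Def_Grpd
import Mathlib.AlgebraicGeometry.Morphisms.Finite
import Mathlib.AlgebraicGeometry.Morphisms.Flat
import Mathlib.AlgebraicGeometry.Morphisms.FinitePresentation
import Mathlib.AlgebraicGeometry.AffineScheme
import Groth.Agent.L02.Grpd.Translate

set_option autoImplicit false
namespace CAlg
end CAlg
universe u
open CategoryTheory CategoryTheory.Limits AlgebraicGeometry
open Grpd

namespace Groth.Agent.S1888

/-- Let (U, R, s, t, c) be a groupoid scheme over S with U the spectrum of a field k, and r a point of R
such that both s and t induce isomorphisms from k to κ(r). Then there is an automorphism of the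
scheme R carrying the identity point e to r. (The source's automorphism is x ↦ c(r, x); only the
existence of an automorphism moving e to r is stated here.) (A groupoid scheme carries U, R, s, t,
c, e, i over S with the groupoid axioms on T-points; 'finite locally free' is finite, flat and
locally of finite presentation; C ⊂ Γ(U) is the ring of functions a with s♯(a) = t♯(a) and M = Spec
C.) -/
theorem result (S : Scheme.{u}) (G : Grpd.GroupoidScheme S) (k : Type u) [Field k] (eU : G.U ≅ Spec (CommRingCat.of k)) (r : G.R) (hs : IsIso (G.s.residueFieldMap r)) (ht : IsIso (G.t.residueFieldMap r)) : ∃ φ : G.R ≅ G.R, φ.hom (G.e (eU.inv (IsLocalRing.closedPoint k))) = r := by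
  exact L02.Grpd.exists_auto_moving_identity G eU r hs ht

end Groth.Agent.S1888
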