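import Groth.Statements.S18884
import Mathlib.Algebra.Group.Subgroup.Basic

set_option autoImplicit false
set_option backward.isDefEq.respectTransparency.types false
set_option backward.isDefEq.respectTransparency false
set_option linter.style.haveILetI false
universe v u w
open CategoryTheory CategoryTheory.Limits
open Desc

namespace Groth.Agent.S18884

/-- Let C be a category with pullbacks equipped with a class W of morphisms, the covers, stable under
base change and under composition. An abelian cosheaf is a functor F : C ⥤ Ab such that for every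
cover π : Y ⟶ X the map F(π) is surjective and its kernel is the image of F(p₁) − F(p₂), where p₁,
p₂ : Y ×_X Y ⟶ Y are the two projections. If D is a full subcategory of C such that every object of
C is the target of a cover whose source lies in D, then the restriction functor from the full
subcategory of abelian cosheaves in C ⥤ Ab to D ⥤ Ab is full and faithful. -/
theorem result {C : Type u} [Category.{v} C]
    [HasPullbacks C] (W : MorphismProperty C) [W.IsStableUnderBaseChange] [W.IsStableUnderComposition]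
    (D : ObjectProperty C) (hD : ∀ X : C, ∃ (Y : C) (π : Y ⟶ X), W π ∧ D Y) :
    (ObjectProperty.ι (fun F : C ⥤ AddCommGrpCat.{w} =>
        ∀ ⦃Y X : C⦄ (π : Y ⟶ X), W π → Function.Surjective (F.map π).hom ∧
          (F.map π).hom.ker = ((F.map (pullback.fst π π)).hom - (F.map (pullback.snd π π)).hom).range) ⋙
      (Functor.whiskeringLeft D.FullSubcategory C AddCommGrpCat.{w}).obj D.ι).Full ∧
    (ObjectProperty.ι (fun F : C ⥤ AddCommGrpCat.{w} =>
        ∀ ⦃Y X : C⦄ (π : Y ⟶ X), W π → Function.Surjective (F.map π).hom ∧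
          (F.map π).hom.ker = ((F.map (pullback.fst π π)).hom - (F.map (pullback.snd π π)).hom).range) ⋙
      (Functor.whiskeringLeft D.FullSubcategory C AddCommGrpCat.{w}).obj D.ι).Faithful := by
  refine ⟨⟨fun {F G} η => ?_⟩, ⟨fun {F G} α β h => ?_⟩⟩
  · -- fullness
    have hc : ∀ (H : C ⥤ AddCommGrpCat.{w}) {A B E : C} (f : A ⟶ B) (g : B ⟶ E) (x : H.obj A),
        (H.map g).hom ((H.map f).hom x) = (H.map (f ≫ g)).hom x := fun H A B E f g x => by
      rw [H.map_comp]; rfl
    choose Y π hπ hY using hD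
    have hF : ∀ {Y X : C} (p : Y ⟶ X), W p → Function.Surjective (F.obj.map p).hom := fun p hp => (F.property p hp).1
    have hker : ∀ X x, (F.obj.map (π X)).hom x = 0 →
        (G.obj.map (π X)).hom ((η.app ⟨Y X, hY X⟩).hom x) = 0 := by
      intro X x hx
      have hx' : x ∈ (F.obj.map (π X)).hom.ker := hx
      rw [(F.property (π X) (hπ X)).2] at hx'
      obtain ⟨z, rfl⟩ := hx'
      obtain ⟨t, rfl⟩ := hF (π _) (hπ (Limits.pullback (π X) (π X))) z
      have key : ∀ p : Limits.pullback (π X) (π X) ⟶ Y X,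
          (G.obj.map (π X)).hom ((η.app ⟨Y X, hY X⟩).hom ((F.obj.map p).hom ((F.obj.map (π _)).hom t))) =
            (G.obj.map (π (Limits.pullback (π X) (π X)) ≫ p ≫ π X)).hom ((η.app ⟨Y _, hY _⟩).hom t) := fun p => by
        have hn := ConcreteCategory.congr_hom (η.naturality
          (ObjectProperty.homMk (π (Limits.pullback (π X) (π X)) ≫ p) :
            (⟨Y _, hY _⟩ : D.FullSubcategory) ⟶ ⟨Y X, hY X⟩)) t
        change (η.app ⟨Y X, hY X⟩).hom ((F.obj.map (π (Limits.pullback (π X) (π X)) ≫ p)).hom t) =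
          (G.obj.map (π (Limits.pullback (π X) (π X)) ≫ p)).hom ((η.app ⟨Y _, hY _⟩).hom t) at hn
        rw [← Category.assoc, G.obj.map_comp _ (π X), AddCommGrpCat.hom_comp, AddMonoidHom.comp_apply, ← hn,
          F.obj.map_comp, AddCommGrpCat.hom_comp, AddMonoidHom.comp_apply]
      rw [AddMonoidHom.sub_apply, map_sub, map_sub, key, key, Limits.pullback.condition, sub_self]
    let φ : ∀ X, F.obj.obj X →+ G.obj.obj X := fun X =>
      (F.obj.map (π X)).hom.liftOfSurjective (hF _ (hπ X))
        ⟨(G.obj.map (π X)).hom.comp (η.app ⟨Y X, hY X⟩).hom, fun x hx => hker X x hx⟩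
    have hφ : ∀ X x, φ X ((F.obj.map (π X)).hom x) =
        (G.obj.map (π X)).hom ((η.app ⟨Y X, hY X⟩).hom x) := fun X x =>
      AddMonoidHom.liftOfRightInverse_comp_apply _ _ _ _ x
    have hind : ∀ (X Z : C) (hZ : D Z) (a : Z ⟶ X) (z : F.obj.obj Z),
        φ X ((F.obj.map a).hom z) = (G.obj.map a).hom ((η.app ⟨Z, hZ⟩).hom z) := by
      intro X Z hZ a z
      let P := Limits.pullback a (π X)
      let s : Y P ⟶ Z := π P ≫ Limits.pullback.fst a (π X)
      let r : Y P ⟶ Y X := π P ≫ Limits.pullback.snd a (π X)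
      have hs : W s := W.comp_mem _ _ (hπ P) (MorphismProperty.pullback_fst a (π X) (hπ X))
      have hsr : s ≫ a = r ≫ π X := by simp [s, r, Limits.pullback.condition]
      obtain ⟨t, rfl⟩ := hF s hs z
      have hns := ConcreteCategory.congr_hom (η.naturality
        (ObjectProperty.homMk s : (⟨Y P, hY P⟩ : D.FullSubcategory) ⟶ ⟨Z, hZ⟩)) t
      have hnr := ConcreteCategory.congr_hom (η.naturality
        (ObjectProperty.homMk r : (⟨Y P, hY P⟩ : D.FullSubcategory) ⟶ ⟨Y X, hY X⟩)) t
      change (η.app ⟨Z, hZ⟩).hom ((F.obj.map s).hom t) = (G.obj.map s).hom ((η.app ⟨Y P, hY P⟩).hom t) at hns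
      change (η.app ⟨Y X, hY X⟩).hom ((F.obj.map r).hom t) = (G.obj.map r).hom ((η.app ⟨Y P, hY P⟩).hom t) at hnr
      rw [hns, hc F.obj s a, hsr, ← hc F.obj r (π X), hφ, hnr, hc G.obj r (π X), ← hsr, ← hc G.obj s a]
    let ψ : F.obj ⟶ G.obj :=
      { app := fun X => AddCommGrpCat.ofHom (φ X)
        naturality := fun X X' a => by
          refine AddCommGrpCat.hom_ext (AddMonoidHom.ext fun x => ?_)
          obtain ⟨y, rfl⟩ := hF _ (hπ X) x
          show φ X' ((F.obj.map a).hom ((F.obj.map (π X)).hom y)) = (G.obj.map a).hom (φ X _)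
          rw [hφ, hc F.obj (π X) a, hind X' _ (hY X), hc G.obj (π X) a] }
    refine ⟨ObjectProperty.homMk ψ, NatTrans.ext (funext fun Z => AddCommGrpCat.hom_ext (AddMonoidHom.ext fun z => ?_))⟩
    show φ Z.obj z = (η.app Z).hom z
    have := hind Z.obj Z.obj Z.property (𝟙 _) z
    simpa using this
  · -- faithfulness
    refine ObjectProperty.hom_ext _ (NatTrans.ext (funext fun X => AddCommGrpCat.hom_ext (AddMonoidHom.ext fun x => ?_)))
    obtain ⟨Y, p, hp, hY⟩ := hD X
    obtain ⟨y, rfl⟩ := (F.property p hp).1 x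
    have h' := ConcreteCategory.congr_hom (NatTrans.congr_app h ⟨Y, hY⟩) y
    change (α.hom.app Y).hom y = (β.hom.app Y).hom y at h'
    have ha := ConcreteCategory.congr_hom (α.hom.naturality p) y
    have hb := ConcreteCategory.congr_hom (β.hom.naturality p) y
    change (α.hom.app X).hom ((F.obj.map p).hom y) = (G.obj.map p).hom ((α.hom.app Y).hom y) at ha
    change (β.hom.app X).hom ((F.obj.map p).hom y) = (G.obj.map p).hom ((β.hom.app Y).hom y) at hb
    rw [ha, hb, h']

end Groth.Agent.S18884
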