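import Groth.Statements.S18886
import Groth.Agent.L05.PtChain.Geo.ResolvePts
import Groth.Agent.L05.PtChain.Geo.QExc

set_option autoImplicit false
universe u
open CategoryTheory AlgebraicGeometry
open Resolve

namespace Groth.Agent.S18886
set_option backward.isDefEq.respectTransparency false
set_option backward.isDefEq.respectTransparency.types false
set_option linter.style.haveILetI false

/-- Let X be a Noetherian separated scheme which is normal (every local ring is an integrally closed
domain) and quasi-excellent (every affine open has a quasi-excellent coordinate ring: a Noetherian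
G-ring with the J-2 property). Then there is a quasi-coherent ideal sheaf 𝓘 on X, with support
contained in the closure of the set of singular points of codimension 2 (points whose local ring is
not regular and has Krull dimension 2), such that for every blowing up b : X' ⟶ X of X in 𝓘 (in the
sense of the universal property), b restricts to an isomorphism over every open subset of X all of
whose points have regular local rings, and the local ring of X' at x' is regular whenever the local
ring of X at b x' has Krull dimension at most 2. So for normal X the desingularisation up to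
codimension two may be taken to be a single blow-up along a closed subscheme of codimension two. -/
theorem result {X : Scheme.{u}}
    [IsNoetherian X] [X.IsSeparated]
    (hnor : ∀ x : X, IsDomain (X.presheaf.stalk x) ∧ IsIntegrallyClosed (X.presheaf.stalk x))
    (hqe : ∀ U : X.affineOpens, EGA4.IsQuasiExcellent Γ(X, U)) :
    ∃ 𝓘 : X.IdealSheafData,
      (𝓘.support : Set X) ⊆ closure {x : X | ¬ IsRegularLocalRing (X.presheaf.stalk x) ∧
        ringKrullDim (X.presheaf.stalk x) = 2} ∧
      ∀ (X' : Scheme.{u}) (b : X' ⟶ X), BlowUp.IsBlowUp b 𝓘 →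
        (∀ U : X.Opens, (∀ x : X, x ∈ U → IsRegularLocalRing (X.presheaf.stalk x)) → IsIso (b ∣_ U)) ∧
        ∀ x' : X', ringKrullDim (X.presheaf.stalk (b.base x')) ≤ 2 →
          IsRegularLocalRing (X'.presheaf.stalk x') := by
  have hnormal : ∀ x : X, IsDomain (X.presheaf.stalk x) ∧ IsIntegrallyClosed (X.presheaf.stalk x) := hnor
  have hopen := Groth.L05.PtChain.isOpen_regular_of_j2 fun U => (hqe U).2.2
  let T : Set X := {x : X | ¬ IsRegularLocalRing (X.presheaf.stalk x) ∧ ringKrullDim (X.presheaf.stalk x) = 2}
  have hmax : ∀ t ∈ T, ∀ η : X, ¬ IsRegularLocalRing (X.presheaf.stalk η) → η ⤳ t → η = t := by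
    intro t ht η hη hspec
    by_contra hne
    have h1 := Groth.L06.FibTrdeg.ringKrullDim_stalk_lt hspec hne
    rw [ht.2] at h1
    haveI := (hnormal η).1
    haveI := (hnormal η).2
    haveI : IsNoetherianRing (X.presheaf.stalk η) := Groth.L14.RegImmStalk.isNoetherianRing_stalk' (X := X) η
    exact hη (Groth.L06.NormalAscent.regular_of_normal_dim_le_one (Groth.L05.PtChain.dim_le_one_of_lt_two h1.not_ge))
  have hTf : T.Finite := by
    obtain ⟨S, hSf, hSc, hSi, hS⟩ := TopologicalSpace.NoetherianSpace.exists_finite_set_isClosed_irreducible hopen.isClosed_compl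
    have hsub : T ⊆ {t : X | ∃ C ∈ S, IsGenericPoint t C} := by
      intro t ht
      obtain ⟨C, hC, htC⟩ : t ∈ ⋃₀ S := hS ▸ (ht.1 : t ∈ {x : X | IsRegularLocalRing (X.presheaf.stalk x)}ᶜ)
      obtain ⟨η, hη⟩ := QuasiSober.sober (hSi C hC) (hSc C hC)
      have hηZ : η ∈ {x : X | IsRegularLocalRing (X.presheaf.stalk x)}ᶜ := hS.symm ▸ ⟨C, hC, hη.mem⟩
      rw [← hmax t ht η hηZ (hη.specializes htC)]
      exact ⟨C, hC, hη⟩
    refine Set.Finite.subset ?_ hsub
    rw [show {t : X | ∃ C ∈ S, IsGenericPoint t C} = ⋃ C ∈ S, {t : X | IsGenericPoint t C} by ext; simp]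
    exact hSf.biUnion fun C _ => Set.Subsingleton.finite fun a ha b hb => ha.eq hb
  obtain ⟨𝓘, hsupp, hres⟩ := Groth.L05.PtChain.exists_resolve_points T hTf (fun t ht => ht.2) fun t ht => by
    haveI := (hnormal t).1
    haveI := (hnormal t).2
    haveI : IsNoetherianRing (X.presheaf.stalk t) := Groth.L14.RegImmStalk.isNoetherianRing_stalk' (X := X) t
    exact Groth.L05.PtChain.completion_normal_of_gRing _ (Groth.L05.PtChain.gRing_stalk (fun U => (hqe U).2.1) t)
  refine ⟨𝓘, hsupp, fun X' b hb => ?_⟩
  have hsing : (𝓘.support : Set X) ⊆ {x : X | IsRegularLocalRing (X.presheaf.stalk x)}ᶜ :=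
    hsupp.trans (closure_minimal (fun t ht => ht.1) hopen.isClosed_compl)
  have hiso : ∀ U : X.Opens, (∀ x : X, x ∈ U → IsRegularLocalRing (X.presheaf.stalk x)) → IsIso (b ∣_ U) := fun U hU =>
    Groth.L05.PtChain.isIso_restrict_of_disjoint hb U (Set.disjoint_left.2 fun z hz hzU => hsing hz (hU z hzU))
  refine ⟨hiso, fun x' hd => ?_⟩
  by_cases hr : IsRegularLocalRing (X.presheaf.stalk (b x'))
  · let U : X.Opens := ⟨_, hopen⟩
    haveI := hiso U fun x hx => hx
    haveI : IsIso (b.stalkMap x') := by
      have h := morphismRestrictStalkMap b U ⟨x', hr⟩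
      exact ((MorphismProperty.isomorphisms CommRingCat).arrow_mk_iso_iff h).1 inferInstance
    haveI := hr
    exact IsRegularLocalRing.of_ringEquiv (asIso (b.stalkMap x')).commRingCatIsoToRingEquiv
  · refine hres X' b hb x' ⟨hr, le_antisymm hd ?_⟩
    by_contra hlt
    haveI := (hnormal (b x')).1
    haveI := (hnormal (b x')).2
    haveI : IsNoetherianRing (X.presheaf.stalk (b x')) := Groth.L14.RegImmStalk.isNoetherianRing_stalk' (X := X) (b x')
    exact hr (Groth.L06.NormalAscent.regular_of_normal_dim_le_one (Groth.L05.PtChain.dim_le_one_of_lt_two hlt))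

end Groth.Agent.S18886
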