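import Groth.Statements.S18887
import Mathlib.Tactic.Ring
import Mathlib.Tactic.LinearCombination
import Mathlib.Tactic.Linarith
import Mathlib.Tactic.FieldSimp
import Mathlib.Tactic.Abel
import Mathlib.RingTheory.Trace.Basic
import Mathlib.LinearAlgebra.Dimension.Free

set_option autoImplicit false
universe u v
open DblCov

namespace Groth.Agent.S18887

/-- Let A be a commutative ring in which 2 is invertible and B a commutative A-algebra which is free of
rank 2 as an A-module and whose trace form tr : B → A has kernel free of rank 1 over A. Then σ(b) =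
tr(b) − b defines an A-algebra endomorphism σ of B with σ ≠ id and σ ∘ σ = id, and the elements
fixed by σ are exactly the image of A in B. -/
theorem result {A : Type u} {B : Type v} [CommRing A] [CommRing B]
    [Algebra A B] (h2 : IsUnit (2 : A)) [Module.Free A B] [Module.Finite A B]
    (hrk : Module.finrank A B = 2)
    [Module.Free A (LinearMap.ker (Algebra.trace A B))]
    (hker : Module.finrank A (LinearMap.ker (Algebra.trace A B)) = 1) :
    ∃ σ : B →ₐ[A] B, (∀ b : B, σ b = algebraMap A B (Algebra.trace A B b) - b) ∧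
      σ ≠ AlgHom.id A B ∧ σ.comp σ = AlgHom.id A B ∧
      ∀ b : B, σ b = b ↔ b ∈ Set.range (algebraMap A B) := by
  classical
  have hA : Nontrivial A := by
    by_contra hc
    rw [not_nontrivial_iff_subsingleton] at hc
    have := Module.finrank_subsingleton (R := A) (M := B)
    omega
  let T := Algebra.trace A B
  have hT1 : T 1 = 2 := by
    rw [← map_one (algebraMap A B), Algebra.trace_algebraMap, hrk, nsmul_eq_mul, mul_one, Nat.cast_ofNat]
  have hTalg : ∀ a : A, T (algebraMap A B a) = 2 * a := fun a => by
    rw [Algebra.trace_algebraMap, hrk, nsmul_eq_mul, Nat.cast_ofNat]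
  obtain ⟨i2, hi2⟩ := h2.exists_left_inv
  have : Module.Finite A (LinearMap.ker T) := Module.finite_of_finrank_eq_succ hker
  let bk := Module.finBasisOfFinrankEq A (LinearMap.ker T) hker
  let w : B := (bk 0 : B)
  have hw : T w = 0 := (bk 0).2
  let e : A × A →ₗ[A] B :=
    (LinearMap.toSpanSingleton A B 1).coprod (LinearMap.toSpanSingleton A B w)
  have he : ∀ a c, e (a, c) = algebraMap A B a + c • w := fun a c => by
    simp [e, Algebra.algebraMap_eq_smul_one]
  have heT : ∀ a c, T (e (a, c)) = 2 * a := fun a c => by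
    rw [he, map_add, map_smul, hw, smul_zero, add_zero, hTalg]
  have heinj : Function.Injective e := by
    rw [injective_iff_map_eq_zero]
    rintro ⟨a, c⟩ h
    have ha : a = 0 := by
      have := congr_arg T h
      rw [heT, map_zero] at this
      calc a = i2 * 2 * a := by rw [hi2, one_mul]
        _ = 0 := by rw [mul_assoc, this, mul_zero]
    subst ha
    rw [he, map_zero, zero_add] at h
    have := congr_arg (fun v => bk.repr v 0) (show c • bk 0 = 0 from Subtype.ext h)
    simp at this
    rw [this]; rfl
  have hesurj : Function.Surjective e := by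
    intro b
    let u : LinearMap.ker T := ⟨b - algebraMap A B (i2 * T b), by
      rw [LinearMap.mem_ker, map_sub, hTalg, ← mul_assoc, mul_comm 2 i2, hi2, one_mul, sub_self]⟩
    refine ⟨(i2 * T b, bk.repr u 0), ?_⟩
    rw [he]
    have := congr_arg Subtype.val (bk.sum_repr u)
    simp only [Fin.sum_univ_one, Submodule.coe_smul] at this
    rw [this]
    show _ + (b - _) = b
    abel
  let E := LinearEquiv.ofBijective e ⟨heinj, hesurj⟩
  obtain ⟨⟨α, β⟩, hαβ⟩ := hesurj (w * w)
  have hβ : β = 0 := by
    let bb : Module.Basis (Fin 1 ⊕ Fin 1) A B :=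
      (((Module.Basis.singleton (Fin 1) A).prod (Module.Basis.singleton (Fin 1) A))).map E
    have h := Algebra.trace_eq_matrix_trace bb w
    rw [show Algebra.trace A B w = T w from rfl, hw, Matrix.trace, Fintype.sum_sum_type] at h
    simp only [Fin.sum_univ_one, Matrix.diag_apply, Algebra.leftMulMatrix_eq_repr_mul] at h
    have hb0 : bb (Sum.inl 0) = 1 := by simp [bb, E, he]
    have hb1 : bb (Sum.inr 0) = w := by simp [bb, E, he]
    have hrep : ∀ a c, bb.repr (e (a, c)) (Sum.inl 0) = a ∧ bb.repr (e (a, c)) (Sum.inr 0) = c := by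
      intro a c
      have hs : E.symm (e (a, c)) = (a, c) := E.symm_apply_apply (a, c)
      simp [bb, hs]
    rw [hb0, hb1, mul_one, show w = e (0, 1) by simp [he]] at h
    rw [show e (0, 1) * e (0, 1) = e (α, β) by rw [hαβ]; simp [he], (hrep 0 1).1, (hrep α β).2, zero_add] at h
    exact h.symm
  subst hβ
  rw [he, zero_smul, add_zero] at hαβ
  let σ' : B → B := fun b => algebraMap A B (T b) - b
  have hσ' : ∀ a c, σ' (e (a, c)) = e (a, -c) := fun a c => by
    show algebraMap A B (T (e (a, c))) - e (a, c) = e (a, -c)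
    rw [heT, he, he, neg_smul, map_mul, map_ofNat]; ring
  have hmul : ∀ x y, σ' (x * y) = σ' x * σ' y := by
    intro x y
    obtain ⟨⟨a, c⟩, rfl⟩ := hesurj x
    obtain ⟨⟨a', c'⟩, rfl⟩ := hesurj y
    have hprod : ∀ a c a' c' : A, e (a, c) * e (a', c') = e (a * a' + c * c' * α, a * c' + c * a') := by
      intro a c a' c'
      simp only [he, Algebra.smul_def, map_add, map_mul]
      rw [← sub_eq_zero]
      linear_combination (algebraMap A B c * algebraMap A B c') * hαβ.symm
    rw [hprod, hσ', hσ', hσ', hprod]
    congr 2 <;> ring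
  let σ : B →ₐ[A] B :=
    { toFun := σ'
      map_one' := by show algebraMap A B (T 1) - 1 = 1; rw [hT1, map_ofNat]; ring
      map_mul' := hmul
      map_zero' := by simp [σ']
      map_add' := fun x y => by simp only [σ', map_add]; abel
      commutes' := fun a => by show algebraMap A B (T (algebraMap A B a)) - _ = _; rw [hTalg, map_mul, map_ofNat]; ring }
  have hfix : ∀ b, σ b = b → b ∈ Set.range (algebraMap A B) := by
    intro b hb
    obtain ⟨⟨a, c⟩, rfl⟩ := hesurj b
    have := heinj ((hσ' a c).symm.trans hb)
    have hc : -c = c := congr_arg Prod.snd this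
    have hc0 : c = 0 := by
      calc c = i2 * 2 * c := by rw [hi2, one_mul]
        _ = i2 * (c - -c) := by ring
        _ = 0 := by rw [hc, sub_self, mul_zero]
    exact ⟨a, by rw [he, hc0, zero_smul, add_zero]⟩
  refine ⟨σ, fun b => rfl, fun hid => ?_, AlgHom.ext fun b => ?_, fun b => ⟨hfix b, ?_⟩⟩
  · obtain ⟨a, ha⟩ := hfix (e (0, 1)) (by rw [hid]; rfl)
    have := heinj (a₁ := (a, 0)) (a₂ := (0, 1)) (by rw [← ha, he, zero_smul, add_zero])
    exact zero_ne_one (congr_arg Prod.snd this)
  · obtain ⟨⟨a, c⟩, rfl⟩ := hesurj b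
    show σ' (σ' (e (a, c))) = e (a, c)
    rw [hσ', hσ', neg_neg]
  · rintro ⟨a, rfl⟩
    exact σ.commutes a

end Groth.Agent.S18887
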