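import Groth.Statements.S18888
import Mathlib.FieldTheory.Minpoly.IsIntegrallyClosed
import Mathlib.RingTheory.UniqueFactorizationDomain.GCDMonoid
import Mathlib.RingTheory.Localization.NumDen
import Mathlib.LinearAlgebra.Dimension.Free
import Mathlib.RingTheory.Polynomial.RationalRoot
import Mathlib.Algebra.Squarefree.Basic
import Mathlib.Tactic.LinearCombination
import Mathlib.LinearAlgebra.FiniteDimensional.Basic
import Mathlib.LinearAlgebra.Dimension.Finrank
import Mathlib.LinearAlgebra.FiniteDimensional.Lemmas

set_option autoImplicit false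
universe u v w
open CAlg

namespace Groth.Agent.S18888

/-- Let A be a unique factorisation domain in which 2 is invertible, with fraction field K, and let L ⊇
K be a quadratic extension field (of degree 2 over K) containing an element y ∉ K whose square is a
squarefree element d of A. Then the integral closure of A in L equals the A-subalgebra A[y]
generated by y. -/
theorem result {A : Type u} {K : Type v} {L : Type w}
    [CommRing A] [IsDomain A] [UniqueFactorizationMonoid A] [Field K] [Algebra A K] [IsFractionRing A K]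
    [Field L] [Algebra K L] [Algebra A L] [IsScalarTower A K L]
    (h2 : IsUnit (2 : A)) (hL : Module.finrank K L = 2)
    (d : A) (hd : Squarefree d) (y : L) (hy : y * y = algebraMap A L d)
    (hyK : y ∉ Set.range (algebraMap K L)) :
    integralClosure A L = Algebra.adjoin A {y} := by
  classical
  refine le_antisymm (fun z hz => ?_) (Algebra.adjoin_le (Set.singleton_subset_iff.mpr ?_))
  swap
  · exact ⟨Polynomial.X ^ 2 - Polynomial.C d, Polynomial.monic_X_pow_sub_C d two_ne_zero, by simp [pow_two, hy]⟩
  have hzint : IsIntegral A z := hz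
  haveI : FiniteDimensional K L := FiniteDimensional.of_finrank_eq_succ hL
  have hli : LinearIndependent K ![(1 : L), y] := by
    rw [linearIndependent_fin2]
    refine ⟨fun h => hyK ⟨0, by simpa using h.symm⟩, fun a h => ?_⟩
    simp at h
    rcases eq_or_ne a 0 with rfl | ha
    · simp at h
    · exact hyK ⟨a⁻¹, by rw [Algebra.algebraMap_eq_smul_one, ← h, inv_smul_smul₀ ha]⟩
  have hspan : z ∈ Submodule.span K (Set.range ![(1 : L), y]) := by
    rw [LinearIndependent.span_eq_top_of_card_eq_finrank hli (by simp [hL])]; trivial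
  obtain ⟨c, hc⟩ := (Submodule.mem_span_range_iff_exists_fun K).mp hspan
  simp [Fin.sum_univ_two] at hc
  obtain ⟨a, b, hab⟩ : ∃ a b : K, z = algebraMap K L a + algebraMap K L b * y :=
    ⟨c 0, c 1, by rw [← hc, Algebra.smul_def, Algebra.smul_def, mul_one]⟩
  clear hc c
  suffices h : (∃ a₀, algebraMap A K a₀ = a) ∧ ∃ b₀, algebraMap A K b₀ = b by
    obtain ⟨⟨a₀, rfl⟩, b₀, rfl⟩ := h
    rw [hab, ← IsScalarTower.algebraMap_apply, ← IsScalarTower.algebraMap_apply]
    exact add_mem (Subalgebra.algebraMap_mem _ _) (mul_mem (Subalgebra.algebraMap_mem _ _) (Algebra.self_mem_adjoin_singleton A y))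
  by_cases hb : b = 0
  · subst hb
    refine ⟨IsIntegrallyClosed.isIntegral_iff.mp ((isIntegral_algebraMap_iff (algebraMap K L).injective).mp ?_), 0, map_zero _⟩
    simpa [hab] using hzint
  let D : K := algebraMap A K d
  let P : Polynomial K := Polynomial.X ^ 2 + Polynomial.C (-2 * a) * Polynomial.X + Polynomial.C (a ^ 2 - b ^ 2 * D)
  have hP0 : Polynomial.aeval z P = 0 := by
    have hD : algebraMap K L D = y * y := by rw [hy, ← IsScalarTower.algebraMap_apply]
    simp only [P, map_add, map_mul, map_pow, Polynomial.aeval_X, Polynomial.aeval_C, map_sub, map_neg, map_ofNat, hab, hD]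
    ring
  have hPm : P.Monic := by simp only [P]; monicity!
  have hPd : P.natDegree = 2 := by simp only [P]; compute_degree!
  have hnotK : z ∉ (algebraMap K L).range := by
    rintro ⟨r, hr⟩
    exact hyK ⟨(r - a) / b, by rw [map_div₀, map_sub, hr, hab, add_sub_cancel_left, mul_div_cancel_left₀]; simpa using hb⟩
  have hzK : IsIntegral K z := IsIntegral.of_finite K z
  have hmin : minpoly K z = P := by
    refine (Polynomial.eq_of_monic_of_dvd_of_natDegree_le (minpoly.monic hzK) hPm (minpoly.dvd K z hP0) ?_).symm
    rw [hPd]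
    exact (minpoly.two_le_natDegree_iff hzK).mpr hnotK
  have hmap := minpoly.isIntegrallyClosed_eq_field_fractions K L hzint
  rw [Algebra.algebraMap_self_apply, hmin] at hmap
  have h1 := congrArg (fun p => Polynomial.coeff p 1) hmap
  have h0 := congrArg (fun p => Polynomial.coeff p 0) hmap
  simp [P, Polynomial.coeff_map, -map_sub, -map_pow, -map_mul, -map_neg] at h1 h0
  obtain ⟨u, hu⟩ := h2.exists_right_inv
  have hu' : (2 : K) * algebraMap A K u = 1 := by rw [← map_ofNat (algebraMap A K) 2, ← map_mul, hu, map_one]
  have ha : algebraMap A K (-u * (minpoly A z).coeff 1) = a := by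
    rw [map_mul, map_neg, ← h1]
    linear_combination a * hu'
  refine ⟨⟨_, ha⟩, ?_⟩
  obtain ⟨w, hw⟩ : ∃ w, algebraMap A K w = b ^ 2 * algebraMap A K d := ⟨(-u * (minpoly A z).coeff 1) ^ 2 - (minpoly A z).coeff 0, by
    rw [map_sub, map_pow, ha, ← h0]; simp only [D]; ring⟩
  let p := IsFractionRing.num A b
  let q := IsFractionRing.den A b
  have hpq : b * algebraMap A K q = algebraMap A K p := by
    have hq0 : algebraMap A K (q : A) ≠ 0 := IsFractionRing.to_map_ne_zero_of_mem_nonZeroDivisors q.2
    rw [← eq_div_iff hq0]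
    simp [p, q, ← IsFractionRing.mk'_eq_div, IsFractionRing.mk'_num_den]
  have heq : w * (q : A) ^ 2 = p ^ 2 * d := IsFractionRing.injective A K (by
    rw [map_mul, map_pow, map_mul, map_pow, hw, ← hpq]; ring)
  have hdvd : (q : A) * q ∣ d := by
    have hrel : IsRelPrime ((q : A) * q) (p ^ 2) := by
      have h := (IsFractionRing.num_den_reduced A b).symm
      rw [pow_two]
      exact (h.mul_left h).mul_right (h.mul_left h)
    exact hrel.dvd_of_dvd_mul_left ⟨w, by rw [← heq]; ring⟩
  obtain ⟨v, hv⟩ := (hd _ hdvd).exists_right_inv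
  exact ⟨p * v, by rw [map_mul, ← hpq, mul_assoc, ← map_mul, hv, map_one, mul_one]⟩

end Groth.Agent.S18888
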