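import Mathlib.RingTheory.FinitePresentation
import Mathlib.Algebra.Algebra.Subalgebra.Operations
import Mathlib.SetTheory.Cardinal.Finite
import Mathlib.RingTheory.Invariant.Basic
import Mathlib.RingTheory.Finiteness.ModuleFinitePresentation
import Mathlib.RingTheory.IntegralClosure.IsIntegralClosure.Basic
import Mathlib.RingTheory.FiniteType
import Mathlib.Algebra.Algebra.Subalgebra.Operations
import Mathlib.Algebra.Module.FinitePresentation

set_option autoImplicit false
namespace CAlg
end CAlg
universe u v w
open CAlg

namespace Groth.Agent.S18889

/-- Let R be a commutative ring, A a commutative R-algebra of finite presentation, and G a finite group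
acting on A by R-algebra automorphisms such that the order of G is invertible in R. Then the ring of
invariants A^G is an R-algebra of finite presentation. (The source takes G to be a group of
automorphisms of A; here G acts through a possibly non-faithful action, which changes nothing since
the invariants and the invertibility of the order only depend on the image of G.) -/
theorem result {R : Type u} {A : Type v} [CommRing R] [CommRing A]
    [Algebra R A] [Algebra.FinitePresentation R A]
    {G : Type w} [Group G] [Finite G] [MulSemiringAction G A] [SMulCommClass G R A]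
    (hG : IsUnit ((Nat.card G : ℕ) : R)) :
    Algebra.FinitePresentation R (FixedPoints.subalgebra R A G) := by
  classical
  haveI := Fintype.ofFinite G
  obtain ⟨s, hs⟩ := Algebra.FiniteType.out (R := R) (A := A)
  -- coefficients of the characteristic polynomials of the generators
  let T : Finset A := s.biUnion fun x => (MulSemiringAction.charpoly G x).coeffs
  have hT : ∀ a ∈ T, a ∈ FixedPoints.subalgebra R A G := by
    intro a ha g
    obtain ⟨x, -, hx⟩ := Finset.mem_biUnion.1 ha
    obtain ⟨j, -, rfl⟩ := Polynomial.mem_coeffs_iff.1 hx
    exact MulSemiringAction.smul_coeff_charpoly x j g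
  let ev : MvPolynomial (Fin T.card) R →ₐ[R] FixedPoints.subalgebra R A G :=
    MvPolynomial.aeval fun i => ⟨(T.equivFin.symm i).1, hT _ (T.equivFin.symm i).2⟩
  letI : Algebra (MvPolynomial (Fin T.card) R) (FixedPoints.subalgebra R A G) := ev.toRingHom.toAlgebra
  haveI : IsScalarTower R (MvPolynomial (Fin T.card) R) (FixedPoints.subalgebra R A G) :=
    .of_algebraMap_eq fun r => (ev.commutes r).symm
  letI : Algebra (MvPolynomial (Fin T.card) R) A :=
    ((FixedPoints.subalgebra R A G).val.comp ev).toRingHom.toAlgebra
  haveI : IsScalarTower R (MvPolynomial (Fin T.card) R) A :=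
    .of_algebraMap_eq fun r => (((FixedPoints.subalgebra R A G).val.comp ev).commutes r).symm
  haveI : Algebra.IsIntegral (MvPolynomial (Fin T.card) R) A := by
    refine ⟨fun a => ?_⟩
    suffices hle : ⊤ ≤ (integralClosure (MvPolynomial (Fin T.card) R) A).restrictScalars R from hle (Algebra.mem_top (x := a))
    rw [← hs, Algebra.adjoin_le_iff]
    intro x hx
    rcases subsingleton_or_nontrivial A with hA | hA
    · rw [Subsingleton.elim x 0]; exact zero_mem _
    obtain ⟨q, hq, -, hmon⟩ := Polynomial.lifts_and_degree_eq_and_monic
      (f := algebraMap (MvPolynomial (Fin T.card) R) A) (p := MulSemiringAction.charpoly G x) (by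
        rw [Polynomial.lifts_iff_coeff_lifts]
        intro j
        by_cases hj : (MulSemiringAction.charpoly G x).coeff j = 0
        · exact ⟨0, by rw [map_zero, hj]⟩
        · have hmem : (MulSemiringAction.charpoly G x).coeff j ∈ T :=
            Finset.mem_biUnion.2 ⟨x, hx, Polynomial.coeff_mem_coeffs hj⟩
          refine ⟨MvPolynomial.X (T.equivFin ⟨_, hmem⟩), ?_⟩
          show ((ev (MvPolynomial.X _) : FixedPoints.subalgebra R A G) : A) = _
          simp [ev])
      (MulSemiringAction.monic_charpoly G x)
    refine ⟨q, hmon, ?_⟩
    rw [← Polynomial.eval_map, hq]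
    exact MulSemiringAction.eval_charpoly G x
  haveI : Algebra.FiniteType (MvPolynomial (Fin T.card) R) A := Algebra.FiniteType.of_restrictScalars_finiteType R _ _
  haveI : Module.Finite (MvPolynomial (Fin T.card) R) A := Algebra.IsIntegral.finite
  haveI : Algebra.FinitePresentation (MvPolynomial (Fin T.card) R) A :=
    Algebra.FinitePresentation.of_restrict_scalars_finitePresentation R _ _
  haveI : Module.FinitePresentation (MvPolynomial (Fin T.card) R) A :=
    Module.FinitePresentation.of_finite_of_finitePresentation _ _
  -- the Reynolds operator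
  obtain ⟨c, hc⟩ := hG.exists_left_inv
  have hc' : c * (Fintype.card G : R) = 1 := by rw [← Nat.card_eq_fintype_card]; exact hc
  have hfix : ∀ (z : MvPolynomial (Fin T.card) R) (g : G),
      g • algebraMap (MvPolynomial (Fin T.card) R) A z = algebraMap (MvPolynomial (Fin T.card) R) A z :=
    fun z g => (ev z).2 g
  let π : A →ₗ[MvPolynomial (Fin T.card) R] FixedPoints.subalgebra R A G :=
    { toFun := fun a => ⟨c • ∑ g : G, g • a, fun h => by
        rw [smul_comm, Finset.smul_sum]
        congr 1
        exact Fintype.sum_equiv (Equiv.mulLeft h) _ _ fun g => by simp [mul_smul]⟩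
      map_add' := fun a b => Subtype.ext (by simp [Finset.sum_add_distrib, smul_add])
      map_smul' := fun z a => Subtype.ext (by
        show c • ∑ g : G, g • (z • a) = algebraMap (MvPolynomial (Fin T.card) R) A z * (c • ∑ g : G, g • a)
        simp only [Algebra.smul_def z a, smul_mul', hfix, ← Finset.mul_sum, mul_smul_comm]) }
  have hπ : ∀ y : FixedPoints.subalgebra R A G, π y.1 = y := fun y => Subtype.ext (by
    show c • ∑ g : G, g • y.1 = y.1
    rw [Finset.sum_congr rfl fun g _ => y.2 g, Finset.sum_const, Finset.card_univ, ← Nat.cast_smul_eq_nsmul R, smul_smul, hc', one_smul])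
  let ι : FixedPoints.subalgebra R A G →ₗ[MvPolynomial (Fin T.card) R] A :=
    { toFun := Subtype.val
      map_add' := fun _ _ => rfl
      map_smul' := fun _ _ => rfl }
  haveI : Module.FinitePresentation (MvPolynomial (Fin T.card) R) (FixedPoints.subalgebra R A G) := by
    refine Module.finitePresentation_of_surjective π (fun y => ⟨y.1, hπ y⟩) ?_
    have : LinearMap.ker π = LinearMap.range (LinearMap.id - ι ∘ₗ π) := by
      refine le_antisymm ?_ ?_
      · intro a ha
        exact ⟨a, by simp [LinearMap.mem_ker.1 ha]⟩
      · rintro _ ⟨a, rfl⟩
        rw [LinearMap.mem_ker, LinearMap.sub_apply, map_sub, LinearMap.id_apply, LinearMap.comp_apply, sub_eq_zero]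
        exact (hπ (π a)).symm
    rw [this, ← Submodule.map_top]
    exact Module.Finite.fg_top.map _
  exact Algebra.FinitePresentation.trans R (MvPolynomial (Fin T.card) R) _

end Groth.Agent.S18889
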