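import Groth.Statements.S18890
import Mathlib.RepresentationTheory.Invariants
import Mathlib.LinearAlgebra.TensorProduct.Basic

set_option autoImplicit false
universe u v w w'
open CAlg

namespace Groth.Agent.S18890

/-- Let R be a commutative ring, G a finite group whose order is invertible in R, M an R-module with an
R-linear action ρ of G and N an arbitrary R-module. Then the natural map M^G ⊗_R N → M ⊗_R N induced
by the inclusion of the invariants is injective, and its image is the submodule of invariants of M
⊗_R N under the action ρ ⊗ 1 (G acting on the first factor). (The source lets G be a group of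
R-automorphisms of M; a possibly non-faithful linear action changes nothing.) -/
theorem result {R : Type u} [CommRing R]
    {G : Type v} [Group G] [Finite G] (hG : IsUnit ((Nat.card G : ℕ) : R))
    {M : Type w} {N : Type w'} [AddCommGroup M] [Module R M] [AddCommGroup N] [Module R N]
    (ρ : Representation R G M) :
    Function.Injective (LinearMap.rTensor N ρ.invariants.subtype) ∧
      LinearMap.range (LinearMap.rTensor N ρ.invariants.subtype) =
        (ρ.tprod (Representation.trivial R G N)).invariants := by
  classical
  haveI := Fintype.ofFinite G
  rw [Nat.card_eq_fintype_card] at hG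
  letI := hG.invertible
  let P : M →ₗ[R] ρ.invariants := ρ.averageMap.codRestrict _ ρ.averageMap_invariant
  have hP : P ∘ₗ ρ.invariants.subtype = LinearMap.id := LinearMap.ext fun v => Subtype.ext (ρ.averageMap_id v.1 v.2)
  refine ⟨Function.LeftInverse.injective (g := LinearMap.rTensor N P) fun z => ?_, le_antisymm ?_ fun z hz => ?_⟩
  · rw [← LinearMap.comp_apply, ← LinearMap.rTensor_comp, hP, LinearMap.rTensor_id, LinearMap.id_apply]
  · rintro _ ⟨z, rfl⟩ g
    induction z using TensorProduct.induction_on with
    | zero => simp
    | tmul v w => simp [Representation.tprod_apply, v.2 g]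
    | add a b ha hb => simp only [map_add, ha, hb]
  · refine ⟨LinearMap.rTensor N P z, ?_⟩
    rw [← LinearMap.comp_apply, ← LinearMap.rTensor_comp]
    have hc : ρ.invariants.subtype ∘ₗ P = ⅟(Fintype.card G : R) • ∑ g : G, ρ g := by
      refine LinearMap.ext fun v => ?_
      show ρ.averageMap v = _
      simp [GroupAlgebra.average, map_sum]
    rw [hc, LinearMap.rTensor_smul, show LinearMap.rTensor N (∑ g : G, ρ g) = ∑ g : G, LinearMap.rTensor N (ρ g) from map_sum (LinearMap.rTensorHom N) _ _]
    rw [LinearMap.smul_apply, LinearMap.sum_apply]
    have hfix : ∀ g : G, LinearMap.rTensor N (ρ g) z = z := fun g => by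
      have := hz g
      rwa [Representation.tprod_apply, show (Representation.trivial R G N) g = LinearMap.id from LinearMap.ext fun w => by simp] at this
    rw [Finset.sum_congr rfl fun g _ => hfix g, Finset.sum_const, Finset.card_univ, ← Nat.cast_smul_eq_nsmul R, smul_smul, invOf_mul_self, one_smul]

end Groth.Agent.S18890
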