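import Groth.Statements.S18891
import Mathlib.AlgebraicGeometry.ZariskisMainTheorem
import Groth.Agent.L19.ClosedImmNhd
import Mathlib.AlgebraicGeometry.Morphisms.FormallyUnramified
import Mathlib.FieldTheory.IsAlgClosed.AlgebraicClosure

set_option autoImplicit false
set_option backward.isDefEq.respectTransparency.types false
set_option backward.isDefEq.respectTransparency false
set_option linter.style.haveILetI false
universe u
open CategoryTheory CategoryTheory.Limits AlgebraicGeometry
open Mor

namespace Groth.Agent.S18891

/-- Let f : X → Y be a morphism of schemes which is proper and formally unramified, and such that for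
every algebraically closed field Ω the map X(Ω) → Y(Ω), g ↦ g ≫ f, is injective. Then f is a closed
immersion. -/
theorem result {X Y : Scheme.{u}} (f : X ⟶ Y)
    [IsProper f] [FormallyUnramified f]
    (hinj : ∀ (Ω : Type u) [Field Ω] [IsAlgClosed Ω],
      Function.Injective (fun g : Spec (CommRingCat.of Ω) ⟶ X => g ≫ f)) :
    IsClosedImmersion f := by
  haveI : UniversallyInjective f := by
    rw [UniversallyInjective.iff_diagonal]
    have aux : ∀ (K : Type u) [Field K], ∃ (Ω : Type u) (_ : Field Ω) (_ : IsAlgClosed Ω),
        Nonempty (K →+* Ω) := fun K _ =>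
      ⟨AlgebraicClosure K, inferInstance, inferInstance, ⟨algebraMap K (AlgebraicClosure K)⟩⟩
    refine ⟨fun z => ?_⟩
    obtain ⟨Ω, _, _, ⟨e⟩⟩ := aux ((pullback f f).residueField z)
    obtain ⟨φ, hφ⟩ : ∃ φ : Spec (CommRingCat.of Ω) ⟶ pullback f f,
        φ = Spec.map (CommRingCat.ofHom e) ≫ (pullback f f).fromSpecResidueField z := ⟨_, rfl⟩
    have hφ₁ : φ ≫ pullback.fst f f = φ ≫ pullback.snd f f :=
      hinj Ω (show (φ ≫ pullback.fst f f) ≫ f = (φ ≫ pullback.snd f f) ≫ f by rw [Category.assoc, Category.assoc, pullback.condition])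
    have hφ₂ : φ = (φ ≫ pullback.fst f f) ≫ pullback.diagonal f :=
      pullback.hom_ext (by rw [Category.assoc, pullback.diagonal_fst, Category.comp_id]) (by rw [Category.assoc, pullback.diagonal_snd, Category.comp_id, hφ₁])
    refine ⟨(φ ≫ pullback.fst f f) (IsLocalRing.closedPoint _), ?_⟩
    rw [← Scheme.Hom.comp_apply, ← hφ₂, hφ, Scheme.Hom.comp_apply]
    exact Scheme.fromSpecResidueField_apply _ _
  haveI : IsIso (pullback.diagonal f) :=
    (isIso_iff_isOpenImmersion_and_surjective _).mpr
      ⟨inferInstance, (UniversallyInjective.iff_diagonal f).mp inferInstance⟩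
  exact (IsClosedImmersion.iff_isProper_and_mono f).mpr
    ⟨inferInstance, (pullback.isIso_diagonal_iff f).mp inferInstance⟩

end Groth.Agent.S18891
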