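import Groth.Statements.S18893
import Groth.Agent.L12.HypInvol.Unique

set_option autoImplicit false
universe u
open CategoryTheory CategoryTheory.Limits AlgebraicGeometry
open Curves

namespace Groth.Agent.S18893

/-- Let k be an algebraically closed field of characteristic different from 2 and X a hyperelliptic
curve over k (p : X → Spec k smooth and proper, X connected of dimension one, genus dim_k H¹(X, O_X)
≥ 2, with a double cover h : X → P¹_k, finite and flat of rank 2 everywhere) with hyperelliptic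
involution σ (σ ≫ h = h, σ ≠ id). Then σ lies in the centre of the automorphism group of X over k:
it commutes with every k-automorphism τ of X. -/
theorem result (k : Type u) [Field k] [IsAlgClosed k] (h2 : (2 : k) ≠ 0)
    {X : Scheme.{u}} (p : X ⟶ Spec (CommRingCat.of k)) [IsProper p] [Smooth p] [ConnectedSpace ↥X]
    (hX : topologicalKrullDim ↥X = 1) (hg : 2 ≤ @Curv2.genus k _ X ⟨p⟩)
    (h : X ⟶ CohB1.ProjSpace 1 k) (hh : h ≫ CohB1.ProjSpace.toSpec 1 k = p)
    [IsFinite h] [Flat h] (hr : ∀ y : ↥(CohB1.ProjSpace 1 k), h.finrank y = 2)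
    (σ : X ⟶ X) (hσ : σ ≫ h = h) (hσ₁ : σ ≠ 𝟙 X)
    (τ : X ≅ X) (hτ : τ.hom ≫ p = p) :
    τ.hom ≫ σ = σ ≫ τ.hom := by
  letI : X.Over (Spec (CommRingCat.of k)) := ⟨p⟩
  haveI : IsProper (X ↘ Spec (CommRingCat.of k)) := inferInstanceAs (IsProper p)
  haveI : Smooth (X ↘ Spec (CommRingCat.of k)) := inferInstanceAs (Smooth p)
  have e : τ.hom ≫ σ ≫ τ.inv = σ := by
    refine (Groth.L12.HypInvol.eq_of_doubleCovers hX hg (κ₁ := h) (κ₂ := τ.hom ≫ h) (σ := σ) hh hr ?_
      (fun y => by rw [Scheme.Hom.finrank_comp_left_of_isIso]; exact hr y) hσ hσ₁ (τ := τ.hom ≫ σ ≫ τ.inv) ?_ ?_).symm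
    · rw [Category.assoc, hh]
      exact hτ
    · simp [hσ]
    · intro e
      exact hσ₁ (by simpa using congrArg (fun a => τ.inv ≫ a ≫ τ.hom) e)
  have := congrArg (· ≫ τ.hom) e
  simpa using this

end Groth.Agent.S18893
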