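import Groth.Statements.S18895
import Groth.Agent.L21.Duality.Corollaries
import Groth.Agent.L21.RR.GeomGenusZero
import Groth.Agent.L21.Curve.NormalConnected

set_option autoImplicit false
set_option backward.isDefEq.respectTransparency false
universe u
open CategoryTheory CategoryTheory.Limits AlgebraicGeometry
open Curves

namespace Groth.Agent.S18895

/-- Let k be an algebraically closed field of characteristic different from 2 (the standing convention
of the section; it plays no role here) and X a connected smooth proper curve over k of genus dim_k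
H¹(X, O_X) ≥ 1. For every invertible O_X-module L of positive degree one has dim_k H⁰(X, L) ≤ deg L. -/
theorem result (k : Type u) [Field k] [IsAlgClosed k] (h2 : (2 : k) ≠ 0)
    (X : Scheme.{u}) [X.Over (Spec (CommRingCat.of k))]
    [IsProper (X ↘ Spec (CommRingCat.of k))] [Smooth (X ↘ Spec (CommRingCat.of k))] [ConnectedSpace ↥X]
    (hX : topologicalKrullDim ↥X = 1) (hg : 1 ≤ Curv2.genus k X)
    (L : X.Modules) (hL : PicF.IsInvertible L) (hdeg : 0 < Curv2.deg k X L 1) :
    (Module.finrank k (Coh.HH X L 0) : ℤ) ≤ Curv2.deg k X L 1 := by
  haveI := Groth.L21.RR.isNoetherian_of_proper (X := X) k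
  haveI : IsIntegral X := Groth.L21.NormalTotal.isIntegral_of_connected fun x =>
    Groth.L21.Smooth.isDomain_stalk (X ↘ Spec (CommRingCat.of k)) x
  exact Groth.L21.Duality.h0_le_deg hX.le (Groth.L21.RR.h0_eq_one_of_isAlgClosed k) hg hL hdeg

end Groth.Agent.S18895
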