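import Groth.Statements.S18897
import Groth.Agent.L22.CurveQuot

set_option autoImplicit false
universe u
open CategoryTheory CategoryTheory.Limits AlgebraicGeometry
open Curves

namespace Groth.Agent.S18897

set_option backward.isDefEq.respectTransparency false
set_option linter.style.haveILetI false

/-- Let k be a field, p : X → Spec k a smooth, proper, geometrically connected curve (X of dimension
one), and G a finite group acting faithfully on X by k-automorphisms, with the order of G invertible
in k. Let π : X → Y be a k-morphism which is a quotient of X by G: π is affine and G-invariant and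
over every open of Y the sections of O_Y are exactly the G-invariant sections of O_X. Then Y is a
smooth, proper, geometrically connected curve over k and π is a cover of degree |G|: finite, flat,
of rank |G| at every point. (The source says projective where this row says proper; for curves over
a field the two agree.) -/
theorem result (k : Type u) [Field k]
    {X Y : Scheme.{u}} (p : X ⟶ Spec (CommRingCat.of k)) [IsProper p] [Smooth p] [GeometricallyConnected p]
    (hX : topologicalKrullDim ↥X = 1)
    {G : Type u} [Group G] [Finite G] (hG : ((Nat.card G : ℕ) : k) ≠ 0)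
    (ρ : G →* Aut X) (hρ : Function.Injective ρ) (hρk : ∀ g : G, (ρ g).hom ≫ p = p)
    (π : X ⟶ Y) (q : Y ⟶ Spec (CommRingCat.of k)) (hπ : π ≫ q = p) (hquot : SGA1.IsQuot ρ π) :
    IsProper q ∧ Smooth q ∧ GeometricallyConnected q ∧ topologicalKrullDim ↥Y = 1 ∧
      IsFinite π ∧ Flat π ∧ ∀ y : Y, π.finrank y = Nat.card G := by
  haveI : IsIntegral X := Groth.L22.CurveQuot.isIntegral_of_smooth p
  have hN : ∀ U : X.Opens, Nonempty U → IsIntegrallyClosed Γ(X, U) := Groth.L22.CurveQuot.isIntegrallyClosed_of_smooth p
  haveI : LocallyOfFiniteType (π ≫ q) := hπ ▸ inferInstance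
  haveI : QuasiCompact (π ≫ q) := hπ ▸ inferInstance
  haveI : IsSeparated (π ≫ q) := hπ ▸ inferInstance
  haveI : UniversallyClosed (π ≫ q) := hπ ▸ inferInstance
  haveI := Groth.L27.Quot.locallyOfFiniteType_desc hquot q
  haveI := Groth.L27.Quot.quasiCompact_desc hquot q
  haveI := Groth.L27.Quot.isSeparated_of_comp hquot q
  haveI : Surjective π := ⟨Groth.L27.Quot.surjective hquot⟩
  haveI : UniversallyClosed q := UniversallyClosed.of_comp_surjective π q
  haveI : IsProper q := ⟨⟩
  refine ⟨inferInstance, ?_, Groth.L22.CurveQuot.geometricallyConnected_quot hπ hquot, ?_,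
    Groth.L27.Quot.isFinite_of_comp hquot q, Groth.L22.CurveQuot.flat_quot hπ hquot hN hX, fun y =>
    Groth.L22.CurveQuot.finrank_quot hπ hquot hN hρ hρk hX y⟩
  swap
  · rw [Groth.L22.CurveQuot.topologicalKrullDim_quot hπ hquot, hX]
  -- smoothness over an algebraic closure
  let K := AlgebraicClosure k
  let s : Spec (CommRingCat.of K) ⟶ Spec (CommRingCat.of k) := Spec.map (CommRingCat.ofHom (algebraMap k K))
  haveI : Flat s := by
    rw [Flat.SpecMap_iff]; exact RingHom.flat_algebraMap_iff.mpr inferInstance
  haveI : Surjective s := ⟨fun x => ⟨IsLocalRing.closedPoint K, Subsingleton.elim (α := PrimeSpectrum k) _ x⟩⟩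
  refine MorphismProperty.of_pullback_snd_of_descendsAlong (P := @Smooth)
    (Q := @Surjective ⊓ @Flat ⊓ @QuasiCompact) (g := s) ⟨⟨inferInstance, inferInstance⟩, inferInstance⟩ ?_
  haveI : IsIntegral (pullback p s) := Groth.L22.CurveQuot.isIntegral_of_smooth (pullback.snd p s)
  let π' : pullback p s ⟶ pullback q s :=
    pullback.map p s q s π (𝟙 _) (𝟙 _) ((Category.comp_id _).trans hπ.symm) (by simp)
  let hh : ∀ g : G, pullback p s ⟶ pullback p s := fun g =>
    pullback.map p s p s (ρ g).hom (𝟙 _) (𝟙 _) (by rw [Category.comp_id, hρk]) (by simp)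
  have hh_mul : ∀ a b, hh a ≫ hh b = hh (b * a) := fun a b => by
    apply pullback.hom_ext <;> simp [hh, Aut.Aut_mul_def]
  have hh_one : hh 1 = 𝟙 _ := by
    apply pullback.hom_ext <;> simp [hh]
    all_goals (rw [show (1 : Aut X).hom = 𝟙 X from rfl, Category.comp_id])
  let ρ' : G →* Aut (pullback p s) :=
    { toFun := fun g => ⟨hh g, hh g⁻¹, by rw [hh_mul, inv_mul_cancel, hh_one],
        by rw [hh_mul, mul_inv_cancel, hh_one]⟩
      map_one' := Iso.ext hh_one
      map_mul' := fun a b => Iso.ext (hh_mul b a).symm }
  have hsq : IsPullback (pullback.fst p s) π' π (pullback.fst q s) := by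
    refine IsPullback.of_bot ?_ (pullback.lift_fst _ _ _).symm (IsPullback.of_hasPullback q s)
    rw [hπ, show π' ≫ pullback.snd q s = pullback.snd p s by simp [π']]
    exact IsPullback.of_hasPullback p s
  have hcard : IsUnit ((Nat.card G : ℕ) : Γ(pullback q s, ⊤)) := by
    have h := (hG.isUnit.map (Scheme.ΓSpecIso (CommRingCat.of k)).inv.hom).map
      (pullback.fst q s ≫ q).appTop.hom
    rwa [map_natCast, map_natCast] at h
  have hquot' : SGA1.IsQuot ρ' π' := by
    refine Groth.L22.SymQuot.isQuot_baseChange_of_isUnit hquot _ hcard _ π' hsq ρ'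
      (fun g => pullback.lift_fst _ _ _) fun g => ?_
    apply pullback.hom_ext
    · show (hh g ≫ π') ≫ _ = _
      simp only [hh, π', Category.assoc, pullback.lift_fst, pullback.lift_fst_assoc, hquot.inv g]
    · show (hh g ≫ π') ≫ _ = _
      simp [hh, π']
  exact Groth.L22.CurveQuot.smooth_quot (p := pullback.snd p s) (q := pullback.snd q s)
    (by simp [π']) hquot' (Groth.L22.CurveQuot.isIntegrallyClosed_of_smooth (pullback.snd p s))
    ((Groth.L21.CurvFib.topologicalKrullDim_eq_of_isPullback k K p s _ _ (IsPullback.of_hasPullback p s)).trans hX)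

end Groth.Agent.S18897
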