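import Groth.Statements.S18898
import Groth.Agent.L21.CurveDesc.IntModel
import Groth.Agent.L06.DescendFiniteTypeInt

set_option autoImplicit false
set_option backward.isDefEq.respectTransparency false
set_option backward.isDefEq.respectTransparency false
set_option linter.style.haveILetI false
universe u
open CategoryTheory CategoryTheory.Limits AlgebraicGeometry
open Curves

namespace Groth.Agent.S18898

/-- Take an affine base S and a smooth genus-g curve f : X → S over it (proper and smooth, with
geometrically connected fibres of dimension one and genus g). Then there exist an affine scheme S₀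
whose ring of global sections is of finite type over ℤ (in particular S₀ is Noetherian), a morphism
u : S → S₀ which is injective on global sections (so that S₀ is the spectrum of a subring of
O_S(S)), and a smooth curve of genus g, f₀ : X₀ → S₀, together with a cartesian square making f the
base change of f₀ along u. -/
theorem result {X S : Scheme.{u}} (f : X ⟶ S) [IsAffine S]
    [IsProper f] [Smooth f] [GeometricallyConnected f]
    (hdim : ∀ s : S, topologicalKrullDim ↥(f.fiber s) = 1) (g : ℕ)
    (hgen : ∀ s : S, letI : (f.fiber s).Over (Spec (S.residueField s)) := ⟨f.fiberToSpecResidueField s⟩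
      Curv2.genus (S.residueField s) (f.fiber s) = g) :
    ∃ (S₀ X₀ : Scheme.{u}) (f₀ : X₀ ⟶ S₀) (u : S ⟶ S₀) (v : X ⟶ X₀),
      IsAffine S₀ ∧ Algebra.FiniteType ℤ Γ(S₀, ⊤) ∧ Function.Injective (u.appTop).hom ∧
      IsPullback v f f₀ u ∧ IsProper f₀ ∧ Smooth f₀ ∧ GeometricallyConnected f₀ ∧
      (∀ s : S₀, topologicalKrullDim ↥(f₀.fiber s) = 1) ∧
      ∀ s : S₀, letI : (f₀.fiber s).Over (Spec (S₀.residueField s)) := ⟨f₀.fiberToSpecResidueField s⟩
        Curv2.genus (S₀.residueField s) (f₀.fiber s) = g := by
  have hF : Groth.L21.CurveDesc.CurveFam g f := ⟨inferInstance, inferInstance, inferInstance, hdim, hgen⟩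
  have hF' : Groth.L21.CurveDesc.CurveFam g (f ≫ S.isoSpec.hom) :=
    hF.of_isPullback (i := 𝟙 X) (s := S.isoSpec.inv) (IsPullback.of_horiz_isIso ⟨by simp⟩)
  obtain ⟨A₂, hA₂, X₂, f₂, v, sq, hp, hs, hc, hd, hg⟩ :=
    Groth.L21.CurveDesc.exists_model_curveFam (A := Γ(S, ⊤)) (f ≫ S.isoSpec.hom) hF'
  haveI : Algebra.FiniteType ℤ A₂ := A₂.fg_iff_finiteType.mp hA₂
  refine ⟨_, X₂, f₂, S.isoSpec.hom ≫ Spec.map (CommRingCat.ofHom (algebraMap A₂ Γ(S, ⊤))), v, inferInstance,
    Groth.L06.DescendFiniteTypeInt.finiteType_gamma_spec _, ?_, ?_, hp, hs, hc, hd, hg⟩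
  · rw [Scheme.Hom.comp_appTop, CommRingCat.hom_comp, RingHom.coe_comp]
    refine (ConcreteCategory.bijective_of_isIso S.isoSpec.hom.appTop).1.comp ?_
    have h := congrArg CommRingCat.Hom.hom
      (Scheme.ΓSpecIso_naturality (CommRingCat.ofHom (algebraMap A₂ Γ(S, ⊤))))
    intro x y hxy
    refine (ConcreteCategory.bijective_of_isIso (Scheme.ΓSpecIso (CommRingCat.of A₂)).hom).1
      (Subtype.val_injective ?_)
    have hx := RingHom.congr_fun h x
    have hy := RingHom.congr_fun h y
    exact hx.symm.trans ((congrArg _ hxy).trans hy)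
  · exact (sq.of_iso (Iso.refl X) (Iso.refl X₂) S.isoSpec.symm (Iso.refl _) (by simp) (by simp) (by simp)
      (by simp))

end Groth.Agent.S18898
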