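import Groth.Statements.S18899
import Mathlib.Algebra.MvPolynomial.Eval
import Mathlib.Algebra.Polynomial.BigOperators
import Mathlib.RingTheory.MvPolynomial.Basic
import Mathlib.Algebra.Ring.Action.Basic
import Mathlib.Algebra.MvPolynomial.Equiv

set_option autoImplicit false
universe u v w
open CAlg

namespace Groth.Agent.S18899

/-- Let A be a commutative ring on which a finite group G acts by ring automorphisms, with ring of
invariants A^G, and let K be a field. If two ring homomorphisms f₁, f₂ : A → K have the same
restriction to A^G, then f₂ = f₁ ∘ γ for some γ ∈ G. -/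
theorem result {A : Type u} [CommRing A] {G : Type v} [Group G] [Finite G]
    [MulSemiringAction G A] {K : Type w} [Field K] (f₁ f₂ : A →+* K)
    (h : ∀ a : A, (∀ g : G, g • a = a) → f₁ a = f₂ a) :
    ∃ γ : G, ∀ a : A, f₂ a = f₁ (γ • a) := by
  classical
  by_contra hcon
  push Not at hcon
  choose a ha using hcon
  haveI := Fintype.ofFinite G
  let act : G → A →+* A := fun g => MulSemiringAction.toRingHom G A g
  let F : MvPolynomial G A := ∑ x : G, MvPolynomial.C (a x) * MvPolynomial.X x
  let Q : Polynomial (MvPolynomial G A) := ∏ g : G, (Polynomial.X - Polynomial.C (MvPolynomial.map (act g) F))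
  have hinv : ∀ c : G, Q.map (MvPolynomial.map (act c)) = Q := by
    intro c
    simp only [Q, Polynomial.map_prod, Polynomial.map_sub, Polynomial.map_X, Polynomial.map_C, MvPolynomial.map_map]
    refine Fintype.prod_equiv (Equiv.mulLeft c) _ _ fun g => ?_
    rw [show (act c).comp (act g) = act (c * g) from RingHom.ext fun x => smul_smul c g x]
    rfl
  have hQ : Q.map (MvPolynomial.map f₁) = Q.map (MvPolynomial.map f₂) := by
    refine Polynomial.ext fun n => MvPolynomial.ext _ _ fun m => ?_
    simp only [Polynomial.coeff_map, MvPolynomial.coeff_map]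
    refine h _ fun c => ?_
    have := congrArg (fun P => ((Polynomial.coeff P n).coeff m)) (hinv c)
    simp only [Polynomial.coeff_map, MvPolynomial.coeff_map] at this
    exact this
  have h0 := congrArg (Polynomial.eval (MvPolynomial.map f₂ F)) hQ
  simp only [Q, Polynomial.map_prod, Polynomial.map_sub, Polynomial.map_X, Polynomial.map_C, Polynomial.eval_prod,
    Polynomial.eval_sub, Polynomial.eval_X, Polynomial.eval_C, MvPolynomial.map_map] at h0
  rw [Finset.prod_eq_zero (Finset.mem_univ (1 : G)) (f := fun g => MvPolynomial.map f₂ F - MvPolynomial.map (f₂.comp (act g)) F)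
    (by rw [show f₂.comp (act 1) = f₂ from RingHom.ext fun x => congrArg f₂ (one_smul G x), sub_self]),
    Finset.prod_eq_zero_iff] at h0
  obtain ⟨g, -, hg⟩ := h0
  rw [sub_eq_zero] at hg
  have := congrArg (MvPolynomial.coeff (Finsupp.single g 1)) hg
  simp [F, MvPolynomial.coeff_sum, MvPolynomial.coeff_C_mul, MvPolynomial.coeff_X', Finsupp.single_left_inj, act, eq_comm] at this
  exact ha g this.symm

end Groth.Agent.S18899
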