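import Groth.Statements.S1890
import Mathlib.AlgebraicGeometry.Morphisms.Affine
import Mathlib.AlgebraicGeometry.Morphisms.Immersion
import Mathlib.AlgebraicGeometry.Morphisms.ClosedImmersion

set_option autoImplicit false
universe u
open CategoryTheory CategoryTheory.Limits AlgebraicGeometry
open Grpd

namespace Groth.Agent.S1890

/-- Take a quasi-compact immersion j : V → Spec A and an element f ∈ A such that j⁻¹(D(f)) is affine and
j(V) ∩ V(f) is closed in Spec A. Then V is affine. -/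
theorem result (A : Type u) [CommRing A] (V : Scheme.{u}) (j : V ⟶ Spec (CommRingCat.of A)) [IsImmersion j] [QuasiCompact j] (f : A) (haff : IsAffineOpen (j ⁻¹ᵁ PrimeSpectrum.basicOpen f)) (hcl : IsClosed (Set.range ⇑j ∩ PrimeSpectrum.zeroLocus {f})) : IsAffine V := by
  let s : Set A := {g | IsAffineOpen (j ⁻¹ᵁ PrimeSpectrum.basicOpen g)}
  have hf : f ∈ s := haff
  have key : ∀ g : A, j ⁻¹ᵁ PrimeSpectrum.basicOpen g =
      V.basicOpen (j.appTop ((Scheme.ΓSpecIso (CommRingCat.of A)).inv g)) := fun g => by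
    rw [← Scheme.preimage_basicOpen_top]
    congr 1
    exact (basicOpen_eq_of_affine (R := CommRingCat.of A) g).symm
  have hspan : Ideal.span s = ⊤ := by
    by_contra hne
    obtain ⟨P, hP, hsP⟩ := Ideal.exists_le_maximal _ hne
    let p : PrimeSpectrum A := ⟨P, hP.isPrime⟩
    have hfP : f ∈ P := hsP (Ideal.subset_span hf)
    suffices h : ∃ g ∈ s, g ∉ P by
      obtain ⟨g, hg, hgP⟩ := h
      exact hgP (hsP (Ideal.subset_span hg))
    by_cases hp : p ∈ Set.range ⇑j
    · have hW : p ∈ j.coborderRange := subset_coborder hp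
      obtain ⟨_, ⟨g, rfl⟩, hpg, hgW⟩ := PrimeSpectrum.isTopologicalBasis_basic_opens.exists_subset_of_mem_open
        hW j.coborderRange.isOpen
      refine ⟨g, ?_, hpg⟩
      have h1 : IsAffineOpen (X := Spec (CommRingCat.of A)) (PrimeSpectrum.basicOpen g) :=
        IsAffineOpen.Spec_basicOpen g
      have h2 := h1.preimage_of_isOpenImmersion j.coborderRange.ι (by rw [Scheme.Opens.opensRange_ι]; exact hgW)
      have h3 := h2.preimage j.liftCoborder
      show IsAffineOpen (j ⁻¹ᵁ PrimeSpectrum.basicOpen g)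
      rwa [← Scheme.Hom.comp_preimage, j.liftCoborder_ι] at h3
    · have hC : p ∈ (Set.range ⇑j ∩ PrimeSpectrum.zeroLocus {f})ᶜ := fun h => hp h.1
      obtain ⟨_, ⟨g, rfl⟩, hpg, hgC⟩ := PrimeSpectrum.isTopologicalBasis_basic_opens.exists_subset_of_mem_open
        hC hcl.isOpen_compl
      refine ⟨g, ?_, hpg⟩
      show IsAffineOpen (j ⁻¹ᵁ PrimeSpectrum.basicOpen g)
      have heq : j ⁻¹ᵁ PrimeSpectrum.basicOpen g =
          j ⁻¹ᵁ PrimeSpectrum.basicOpen f ⊓ j ⁻¹ᵁ PrimeSpectrum.basicOpen g := by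
        refine le_antisymm (fun x hx => ⟨?_, hx⟩) inf_le_right
        by_contra hxf
        refine hgC hx ⟨⟨x, rfl⟩, ?_⟩
        exact Set.singleton_subset_iff.2 (not_not.1 hxf)
      rw [key g, key f] at heq
      rw [key g, heq]
      rw [key f] at haff
      rw [← Scheme.basicOpen_res _ _ (homOfLE (V.basicOpen_le _)).op]
      exact haff.basicOpen _
  let φ : A →+* Γ(V, ⊤) := j.appTop.hom.comp (Scheme.ΓSpecIso (CommRingCat.of A)).inv.hom
  refine isAffine_of_isAffineOpen_basicOpen (φ '' s) ?_ ?_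
  · rw [← Ideal.map_span, hspan, Ideal.map_top]
  · rintro _ ⟨g, hg, rfl⟩
    have hg' : IsAffineOpen (j ⁻¹ᵁ PrimeSpectrum.basicOpen g) := hg
    rw [key g] at hg'
    exact hg'

end Groth.Agent.S1890
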