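import Groth.Statements.S18900
import Groth.Agent.L13.DblCovScheme

set_option autoImplicit false
universe u
open CategoryTheory CategoryTheory.Limits AlgebraicGeometry
open DblCov

namespace Groth.Agent.S18900

/-- Let f : X → Y be a double cover, i.e. a finite, flat, locally finitely presented morphism of rank 2
at every point, and assume 2 is invertible in O_Y(Y). Then X carries a Y-automorphism σ with σ ∘ σ =
id such that f is the quotient of X by the group generated by σ: f is affine and σ-invariant, and
over every open subset of Y the sections of O_Y are exactly the σ-invariant sections of O_X. (The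
source adds that σ has order exactly 2, which holds as soon as X is non-empty.) -/
theorem result {X Y : Scheme.{u}} (f : X ⟶ Y)
    [IsFinite f] [Flat f] [LocallyOfFinitePresentation f] (hrk : ∀ y : Y, f.finrank y = 2)
    (h2 : IsUnit (2 : Γ(Y, ⊤))) :
    ∃ σ : Aut X, σ.hom ≫ f = f ∧ σ * σ = 1 ∧ SGA1.IsQuot (Subgroup.zpowers σ).subtype f := by
  exact Groth.Agent.L13.DblCov.exists_involution f hrk h2

end Groth.Agent.S18900
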