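import Groth.Statements.S18901
import Groth.Agent.L21.CurveRD.Char

set_option autoImplicit false
set_option backward.isDefEq.respectTransparency false
set_option linter.style.haveILetI false
universe u
open CategoryTheory CategoryTheory.Limits AlgebraicGeometry
open Curves

namespace Groth.Agent.S18901

/-- Let f : X → S be a smooth curve of genus g (proper and smooth, with geometrically connected fibres
of dimension one and genus g) and L an invertible O_X-module. Then L is isomorphic to ω_f = Ω_{X/S}
if and only if (i) R¹f_*L is isomorphic to O_S and (ii) for every point s of S the restriction of L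
to the fibre X_s has degree 2g − 2. (Existence of isomorphisms only, on both sides, as in the
source.) -/
theorem result {X S : Scheme.{u}} (f : X ⟶ S)
    [IsProper f] [Smooth f] [GeometricallyConnected f]
    (hdim : ∀ s : S, topologicalKrullDim ↥(f.fiber s) = 1) (g : ℕ)
    (hgen : ∀ s : S, letI : (f.fiber s).Over (Spec (S.residueField s)) := ⟨f.fiberToSpecResidueField s⟩
      Curv2.genus (S.residueField s) (f.fiber s) = g)
    [HasInjectiveResolutions X.Modules] (L : X.Modules) (hL : PicF.IsInvertible L) :
    Nonempty (L ≅ Omega.sheaf f) ↔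
      (Nonempty ((Coh.Rpush f 1).obj L ≅ Coh.structureModule S) ∧
        ∀ s : S, letI : (f.fiber s).Over (Spec (S.residueField s)) := ⟨f.fiberToSpecResidueField s⟩
          Curv2.deg (S.residueField s) (f.fiber s) ((Scheme.Modules.pullback (f.fiberι s)).obj L) 1 =
            2 * (g : ℤ) - 2) := by
  haveI := Groth.L21.OmegaFam.smoothOfRelativeDimension_one f hdim
  constructor
  · rintro ⟨e⟩
    obtain ⟨t⟩ := Groth.L21.CurveRD.nonempty_Rpush_one_iso f
    refine ⟨⟨(Coh.Rpush f 1).mapIso e ≪≫ t⟩, fun s => ?_⟩
    obtain ⟨hp, hsm, hgi, hint⟩ := Groth.L21.OmegaFam.fibre_facts f s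
    haveI := hp
    letI : (f.fiber s).Over (Spec (CommRingCat.of (S.residueField s))) := ⟨f.fiberToSpecResidueField s⟩
    haveI : IsProper (f.fiber s ↘ Spec (CommRingCat.of (S.residueField s))) := hp
    haveI : Smooth (f.fiber s ↘ Spec (CommRingCat.of (S.residueField s))) := hsm
    haveI : GeometricallyIntegral (f.fiber s ↘ Spec (CommRingCat.of (S.residueField s))) := hgi
    haveI := hint
    haveI := Groth.L21.RR.isNoetherian_of_proper (X := f.fiber s) (S.residueField s)
    have hd := Groth.L21.CurveRD.fibre_dim f s
    have h := (Groth.L21.Duality.omega_invariants (k := S.residueField s) (X := f.fiber s) hd).2.2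
      (Groth.L21.RR.h0_eq_one_of_geometricallyIntegral (X := f.fiber s) (S.residueField s) hd)
    obtain ⟨j⟩ := Groth.L21.OmegaFam.nonempty_pullback_omega
      (IsPullback.of_hasPullback f (S.fromSpecResidueField s))
    rw [← hgen s]
    exact (Groth.L21.RR.deg_congr (S.residueField s) ((Scheme.Modules.pullback (f.fiberι s)).mapIso e ≪≫ j) 1).trans h
  · rintro ⟨⟨e⟩, hdeg⟩
    exact Groth.L21.CurveRD.nonempty_iso_omega_of_Rpush f hL e fun s => by rw [hgen s]; exact hdeg s

end Groth.Agent.S18901
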