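import Groth.Statements.S18902
import Groth.Agent.L20.DescLocus.AppIsoH0
import Groth.Agent.L20.DescLocus.Unit
import Groth.Agent.L08.Cube.FibreFun
import Groth.Agent.L26.AV.SmoothField

set_option autoImplicit false
universe u
open CategoryTheory CategoryTheory.Limits AlgebraicGeometry
open Curves

open TopologicalSpace

namespace Groth.Agent.S18902

/-- Let q : P → S be a conic bundle, i.e. a smooth curve of genus 0 over S (q proper and smooth, with
geometrically connected fibres of dimension one and genus dim H¹(P_s, O) = 0). Then the canonical
map O_S → q_*O_P is an isomorphism. -/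
theorem result {P S : Scheme.{u}} (q : P ⟶ S)
    [IsProper q] [Smooth q] [GeometricallyConnected q]
    (hPdim : ∀ s : S, topologicalKrullDim ↥(q.fiber s) = 1)
    (hPgen : ∀ s : S, letI : (q.fiber s).Over (Spec (S.residueField s)) := ⟨q.fiberToSpecResidueField s⟩
      Curv2.genus (S.residueField s) (q.fiber s) = 0) :
    IsIso (ClSub.unitToPush q) := by
  haveI : Flat q := inferInstance
  haveI : LocallyOfFinitePresentation q := inferInstance
  refine Groth.L20.DescLocus.isIso_unitToPush q fun U =>
    Groth.L20.DescLocus.isIso_app_universally q (fun s => ?_) (𝟙 P) q (𝟙 S) IsPullback.of_id_fst U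
  refine Groth.L20.DescLocus.isIso_app_of_appTop (k := S.residueField s) (q.fiberToSpecResidueField s) ?_
  let j : q.fiber s ⟶ Spec (CommRingCat.of (S.residueField s)) := q.fiberToSpecResidueField s
  haveI : IsProper j := inferInstanceAs (IsProper (pullback.snd q _))
  haveI : Smooth j := inferInstanceAs (Smooth (pullback.snd q _))
  haveI : GeometricallyConnected j := inferInstanceAs (GeometricallyConnected (pullback.snd q _))
  haveI := Groth.Agent.AV.geometricallyReduced_of_smooth j
  haveI : ConnectedSpace ↥(q.fiber s) := GeometricallyConnected.connectedSpace_of_subsingleton j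
  have hb := Groth.L08.Cube.bijective_toGlobal_of_geometric j
  have e : (Coh.toGlobal j : S.residueField s → Γ(q.fiber s, ⊤)) =
      (fun a => j.appTop a) ∘ (fun a => (Scheme.ΓSpecIso (S.residueField s)).inv a) := rfl
  rw [e] at hb
  exact (Function.Bijective.of_comp_iff _
    (ConcreteCategory.bijective_of_isIso (Scheme.ΓSpecIso (S.residueField s)).inv)).1 hb

end Groth.Agent.S18902
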