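import Groth.Statements.S18903
import Groth.Agent.L21.Conic.Family
import Groth.Agent.L13.DblCovScheme

set_option autoImplicit false
set_option backward.isDefEq.respectTransparency false
set_option linter.style.haveILetI false
universe u
open CategoryTheory CategoryTheory.Limits AlgebraicGeometry
open Curves

namespace Groth.Agent.S18903

/-- Let S be a scheme on which 2 is invertible and f : X → S a smooth curve of genus g ≥ 2 (proper and
smooth, geometrically connected fibres of dimension one and genus g). The following are equivalent: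
(a) f = h ≫ q for a conic bundle q : P → S (a smooth curve of genus 0) and a double cover h : X → P
(finite, flat, locally of finite presentation, of rank 2 at every point); (b) there are an
S-automorphism σ of X with σ ∘ σ = id and a quotient π : X → P of X by the group generated by σ (π
affine and σ-invariant, with O_P the σ-invariant sections of O_X over every open) such that the
induced morphism P → S is a conic bundle. -/
theorem result {X S : Scheme.{u}} (f : X ⟶ S)
    (h2 : IsUnit (2 : Γ(S, ⊤)))
    [IsProper f] [Smooth f] [GeometricallyConnected f]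
    (hdim : ∀ s : S, topologicalKrullDim ↥(f.fiber s) = 1) (g : ℕ) (hg : 2 ≤ g)
    (hgen : ∀ s : S, letI : (f.fiber s).Over (Spec (S.residueField s)) := ⟨f.fiberToSpecResidueField s⟩
      Curv2.genus (S.residueField s) (f.fiber s) = g) :
    (∃ (P : Scheme.{u}) (q : P ⟶ S) (h : X ⟶ P), h ≫ q = f ∧
        IsProper q ∧ Smooth q ∧ GeometricallyConnected q ∧
        (∀ s : S, topologicalKrullDim ↥(q.fiber s) = 1) ∧
        (∀ s : S, letI : (q.fiber s).Over (Spec (S.residueField s)) := ⟨q.fiberToSpecResidueField s⟩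
          Curv2.genus (S.residueField s) (q.fiber s) = 0) ∧
        IsFinite h ∧ Flat h ∧ LocallyOfFinitePresentation h ∧ ∀ y : P, h.finrank y = 2) ↔
      ∃ (σ : Aut X) (P : Scheme.{u}) (π : X ⟶ P) (q : P ⟶ S), σ.hom ≫ f = f ∧ σ * σ = 1 ∧ π ≫ q = f ∧
        SGA1.IsQuot (Subgroup.zpowers σ).subtype π ∧
        IsProper q ∧ Smooth q ∧ GeometricallyConnected q ∧
        (∀ s : S, topologicalKrullDim ↥(q.fiber s) = 1) ∧
        ∀ s : S, letI : (q.fiber s).Over (Spec (S.residueField s)) := ⟨q.fiberToSpecResidueField s⟩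
          Curv2.genus (S.residueField s) (q.fiber s) = 0 := by
  have hX : Groth.L21.CurveDesc.CurveFam g f := ⟨inferInstance, inferInstance, inferInstance, hdim, hgen⟩
  constructor
  · rintro ⟨P, q, h, hhq, hqp, hqs, hqc, hqd, hqg, hhf, hhfl, hhlfp, hrk⟩
    have h2P : IsUnit (2 : Γ(P, ⊤)) := by
      have := h2.map q.appTop.hom
      rwa [map_ofNat] at this
    obtain ⟨σ, hσh, hσ, hQ⟩ := Groth.Agent.L13.DblCov.exists_involution h hrk h2P
    refine ⟨σ, P, h, q, ?_, hσ, hhq, hQ, hqp, hqs, hqc, hqd, hqg⟩
    rw [← hhq, ← Category.assoc, hσh]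
  · rintro ⟨σ, P, π, q, -, hσ, hπq, hQ, hqp, hqs, hqc, hqd, hqg⟩
    obtain ⟨h1, h3, h4, h5⟩ := Groth.L21.Conic.doubleCover_of_isQuot hX
      (⟨hqp, hqs, hqc, hqd, hqg⟩ : Groth.L21.CurveDesc.CurveFam 0 q) (by omega) h2 hσ hπq hQ
    exact ⟨P, q, π, hπq, hqp, hqs, hqc, hqd, hqg, h1, h3, h4, h5⟩

end Groth.Agent.S18903
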