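import Groth.Statements.S18904
import Groth.Agent.L12.CurveFam.Omega
import Groth.Agent.L12.CurveFam.FibProj

set_option autoImplicit false
universe u
open CategoryTheory CategoryTheory.Limits AlgebraicGeometry
open Curves

namespace Groth.Agent.S18904

/-- A smooth curve of genus g ≥ 2, i.e. a proper smooth morphism f : X → S whose fibres are
geometrically connected of dimension one and genus g, is a projective morphism: X is isomorphic over
S to the homogeneous spectrum of a quasi-coherent graded O_S-algebra generated by its degree-one
part, the latter of finite type. -/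
theorem result {X S : Scheme.{u}} (f : X ⟶ S)
    [IsProper f] [Smooth f] [GeometricallyConnected f]
    (hdim : ∀ s : S, topologicalKrullDim ↥(f.fiber s) = 1) (g : ℕ) (hg : 2 ≤ g)
    (hgen : ∀ s : S, letI : (f.fiber s).Over (Spec (S.residueField s)) := ⟨f.fiberToSpecResidueField s⟩
      Curv2.genus (S.residueField s) (f.fiber s) = g) :
    RelProj.IsProjective f := by
  have hconn : ∀ s : S, ConnectedSpace ↥(f.fiber s) := fun s => by
    haveI : GeometricallyConnected (f.fiberToSpecResidueField s) :=
      inferInstanceAs (GeometricallyConnected (pullback.snd f _))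
    exact GeometricallyConnected.connectedSpace_of_subsingleton (f.fiberToSpecResidueField s)
  haveI : Flat f := inferInstance
  haveI : LocallyOfFinitePresentation f := inferInstance
  have hΩ := Groth.L12.CurveFam.isInvertible_omega_of_dim f hconn hdim
  exact Groth.L12.CurveFam.isProjective_of_fibres f _ (Groth.L18.Ample.isInvertible_tensorPow hΩ 3)
    (fun s => (Groth.L12.CurveFam.omegaPow_fiber f s (hdim s) hΩ hg (le_refl 3) (hgen s)).1)
    (fun s => (Groth.L12.CurveFam.omegaPow_fiber f s (hdim s) hΩ hg (le_refl 3) (hgen s)).2)

end Groth.Agent.S18904
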