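import Groth.Statements.S18908
import Mathlib.FieldTheory.SeparableDegree
import Mathlib.FieldTheory.PrimitiveElement
import Mathlib.LinearAlgebra.Dual.Lemmas
import Mathlib.RingTheory.TensorProduct.Free
import Mathlib.LinearAlgebra.LinearIndependent.Defs
import Mathlib.RingTheory.Algebraic.Integral

set_option autoImplicit false
universe u v w
open scoped TensorProduct
open CAlg

namespace Groth.Agent.S18908

/-- Let K ⊇ k be a finite field extension of degree n and Ω ⊇ k an algebraically closed extension. Then
K is separable over k if and only if Ω ⊗_k K is isomorphic, as an Ω-algebra, to the product of n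
copies of Ω. (The source says 'for every (some) algebraically closed extension Ω'; the equivalence
is stated for each fixed Ω, which gives both readings.) -/
theorem result (k : Type u) (K : Type v) (Ω : Type w)
    [Field k] [Field K] [Algebra k K] [FiniteDimensional k K]
    [Field Ω] [Algebra k Ω] [IsAlgClosed Ω] :
    Algebra.IsSeparable k K ↔ Nonempty ((Ω ⊗[k] K) ≃ₐ[Ω] (Fin (Module.finrank k K) → Ω)) := by
  classical
  constructor
  · intro hsep
    let n := Module.finrank k K
    have hc : Fintype.card (K →ₐ[k] Ω) = n := AlgHom.card k K Ω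
    let σ : Fin n ≃ (K →ₐ[k] Ω) := (Fintype.equivFinOfCardEq hc).symm
    let φ : (Ω ⊗[k] K) →ₐ[Ω] (Fin n → Ω) := Pi.algHom Ω (fun _ => Ω) fun i =>
      Algebra.TensorProduct.lift (AlgHom.id Ω Ω) (σ i) fun _ _ => Commute.all _ _
    have hli : LinearIndependent Ω fun i => ((σ i : K →ₐ[k] Ω) : K → Ω) :=
      (linearIndependent_monoidHom K Ω).comp (fun i => ((σ i : K →ₐ[k] Ω) : K →* Ω)) fun i j h => σ.injective (AlgHom.ext fun x => DFunLike.congr_fun h x)
    have hsurj : Function.Surjective φ.toLinearMap := by
      rw [← LinearMap.range_eq_top]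
      by_contra hne
      obtain ⟨g, hg, hg0⟩ := Submodule.exists_le_ker_of_lt_top _ (lt_top_iff_ne_top.mpr hne)
      apply hg
      have hzero : (fun i => g (Pi.single i 1)) = 0 := by
        have h1 : ∑ i, g (Pi.single i 1) • ((σ i : K →ₐ[k] Ω) : K → Ω) = 0 := funext fun x => by
          have h2 : g (φ ((1 : Ω) ⊗ₜ[k] x)) = 0 := hg0 ⟨(1 : Ω) ⊗ₜ[k] x, rfl⟩
          rw [← Finset.univ_sum_single (φ ((1 : Ω) ⊗ₜ[k] x)), map_sum] at h2
          simp only [Finset.sum_apply, Pi.smul_apply, smul_eq_mul, Pi.zero_apply]
          rw [← h2]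
          refine Finset.sum_congr rfl fun i _ => ?_
          rw [show (Pi.single i (φ ((1 : Ω) ⊗ₜ[k] x) i) : Fin n → Ω) = (φ ((1 : Ω) ⊗ₜ[k] x) i) • Pi.single i 1 by
            ext j; by_cases h : j = i <;> simp [Pi.single_apply, h], map_smul, smul_eq_mul, mul_comm]
          simp [φ]
        exact funext (Fintype.linearIndependent_iff.mp hli _ h1)
      refine LinearMap.pi_ext fun i x => ?_
      rw [show (Pi.single i x : Fin n → Ω) = x • Pi.single i 1 by ext j; by_cases h : j = i <;> simp [Pi.single_apply, h],
        map_smul, congrFun hzero i, Pi.zero_apply, smul_zero, LinearMap.zero_apply]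
    have hdim : Module.finrank Ω (Ω ⊗[k] K) = Module.finrank Ω (Fin n → Ω) := by
      rw [Module.finrank_baseChange, Module.finrank_fin_fun]
    exact ⟨AlgEquiv.ofBijective φ ⟨(LinearMap.injective_iff_surjective_of_finrank_eq_finrank hdim).mpr hsurj, hsurj⟩⟩
  · rintro ⟨e⟩
    haveI : Algebra.IsAlgebraic k K := Algebra.IsAlgebraic.of_finite k K
    rw [← Field.finSepDegree_eq_finrank_iff]
    refine le_antisymm (Field.finSepDegree_le_finrank k K) ?_
    rw [Field.finSepDegree_eq_of_isAlgClosed k K Ω]
    haveI : Finite (K →ₐ[k] Ω) := Finite.of_fintype _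
    refine le_of_eq_of_le (Nat.card_fin _).symm (Nat.card_le_card_of_injective
      (fun i => ((Pi.evalAlgHom Ω (fun _ : Fin (Module.finrank k K) => Ω) i).comp e.toAlgHom).restrictScalars k |>.comp
        Algebra.TensorProduct.includeRight) fun i j hij => ?_)
    by_contra hne
    have hall : ∀ z : Ω ⊗[k] K, e z i = e z j := by
      intro z
      induction z using TensorProduct.induction_on with
      | zero => simp
      | tmul ω x =>
        have h1 : e ((1 : Ω) ⊗ₜ[k] x) i = e ((1 : Ω) ⊗ₜ[k] x) j := AlgHom.congr_fun hij x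
        rw [show ω ⊗ₜ[k] x = ω • ((1 : Ω) ⊗ₜ[k] x) by rw [TensorProduct.smul_tmul', smul_eq_mul, mul_one], map_smul]
        simp [h1]
      | add a b ha hb => simp [ha, hb]
    have := hall (e.symm (Pi.single i 1))
    simp [Pi.single_apply, Ne.symm hne] at this

end Groth.Agent.S18908
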