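import Groth.Statements.S18909
import Groth.Agent.S18897
import Groth.Agent.S12442
import Groth.Agent.L05.Point.FibreGlobal
import Groth.Agent.L07.SmoothFibre
import Groth.Agent.L27.Quot.Reynolds

set_option autoImplicit false
universe u
open CategoryTheory CategoryTheory.Limits AlgebraicGeometry
open Curves

namespace Groth.Agent.S18909

set_option backward.isDefEq.respectTransparency false
set_option linter.style.haveILetI false

/-- Let f : X → S be a smooth curve of genus g ≠ 1 (proper and smooth, geometrically connected fibres of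
dimension one and genus g) and G a finite group acting on X by S-automorphisms, faithfully on every
fibre (rendered: every g ≠ 1 moves some point of each fibre), with the order of G invertible in
O_S(S). Let π : X → Y be a quotient of X by G over S (π affine and G-invariant, O_Y the G-invariant
sections of O_X; the source shows such a quotient exists). Then Y → S is proper and smooth with
geometrically connected fibres of dimension one, and π is a cover of degree |G|: finite, flat,
locally of finite presentation and of rank |G| at every point of Y. -/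
theorem result {X Y S : Scheme.{u}} (f : X ⟶ S)
    [IsProper f] [Smooth f] [GeometricallyConnected f]
    (hdim : ∀ s : S, topologicalKrullDim ↥(f.fiber s) = 1) (g : ℕ) (hg : g ≠ 1)
    (hgen : ∀ s : S, letI : (f.fiber s).Over (Spec (S.residueField s)) := ⟨f.fiberToSpecResidueField s⟩
      Curv2.genus (S.residueField s) (f.fiber s) = g)
    {G : Type u} [Group G] [Finite G] (hG : IsUnit ((Nat.card G : ℕ) : Γ(S, ⊤)))
    (ρ : G →* Aut X) (hρ : ∀ a : G, (ρ a).hom ≫ f = f)
    (hfaith : ∀ (s : S) (a : G), a ≠ 1 → ∃ x : X, f x = s ∧ (ρ a).hom x ≠ x)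
    (π : X ⟶ Y) (q : Y ⟶ S) (hπ : π ≫ q = f) (hquot : SGA1.IsQuot ρ π) :
    IsProper q ∧ Smooth q ∧ GeometricallyConnected q ∧ (∀ s : S, topologicalKrullDim ↥(q.fiber s) = 1) ∧
      IsFinite π ∧ Flat π ∧ LocallyOfFinitePresentation π ∧ ∀ y : Y, π.finrank y = Nat.card G := by
  haveI : LocallyOfFiniteType (π ≫ q) := hπ ▸ inferInstance
  haveI : LocallyOfFinitePresentation (π ≫ q) := hπ ▸ inferInstance
  haveI : QuasiCompact (π ≫ q) := hπ ▸ inferInstance
  haveI : IsSeparated (π ≫ q) := hπ ▸ inferInstance
  haveI : UniversallyClosed (π ≫ q) := hπ ▸ inferInstance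
  haveI : Flat (π ≫ q) := hπ ▸ inferInstance
  haveI := hquot.affine
  haveI := Groth.L27.Quot.locallyOfFinitePresentation_desc hquot q hG
  haveI := Groth.L27.Quot.quasiCompact_desc hquot q
  haveI := Groth.L27.Quot.isSeparated_of_comp hquot q
  haveI := Groth.L27.Quot.flat_desc hquot q hG
  haveI := Groth.L27.Quot.isFinite_of_comp hquot q
  haveI : Surjective π := ⟨Groth.L27.Quot.surjective hquot⟩
  haveI : UniversallyClosed q := UniversallyClosed.of_comp_surjective π q
  haveI : IsProper q := ⟨⟩
  -- the quotient on each fibre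
  have hfib : ∀ s : S, ∃ (π' : f.fiber s ⟶ q.fiber s), IsPullback (f.fiberι s) π' π (q.fiberι s) ∧
      IsProper (q.fiberToSpecResidueField s) ∧ Smooth (q.fiberToSpecResidueField s) ∧
      GeometricallyConnected (q.fiberToSpecResidueField s) ∧ topologicalKrullDim ↥(q.fiber s) = 1 ∧
      IsFinite π' ∧ Flat π' ∧ ∀ y, π'.finrank y = Nat.card G := by
    intro s
    let ι := S.fromSpecResidueField s
    let π' : pullback f ι ⟶ pullback q ι :=
      pullback.map f ι q ι π (𝟙 _) (𝟙 _) ((Category.comp_id _).trans hπ.symm) (by simp)
    let hh : ∀ a : G, pullback f ι ⟶ pullback f ι := fun a =>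
      pullback.map f ι f ι (ρ a).hom (𝟙 _) (𝟙 _) (by rw [Category.comp_id, hρ]) (by simp)
    have hh_mul : ∀ a b, hh a ≫ hh b = hh (b * a) := fun a b => by
      apply pullback.hom_ext <;> simp [hh, Aut.Aut_mul_def]
    have hh_one : hh 1 = 𝟙 _ := by
      apply pullback.hom_ext <;> simp [hh]
      all_goals (rw [show (1 : Aut X).hom = 𝟙 X from rfl, Category.comp_id])
    let ρ' : G →* Aut (pullback f ι) :=
      { toFun := fun a => ⟨hh a, hh a⁻¹, by rw [hh_mul, inv_mul_cancel, hh_one],
          by rw [hh_mul, mul_inv_cancel, hh_one]⟩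
        map_one' := Iso.ext hh_one
        map_mul' := fun a b => Iso.ext (hh_mul b a).symm }
    have hsq : IsPullback (pullback.fst f ι) π' π (pullback.fst q ι) := by
      refine IsPullback.of_bot ?_ (pullback.lift_fst _ _ _).symm (IsPullback.of_hasPullback q ι)
      rw [hπ, show π' ≫ pullback.snd q ι = pullback.snd f ι by simp [π']]
      exact IsPullback.of_hasPullback f ι
    have hcard : IsUnit ((Nat.card G : ℕ) : Γ(pullback q ι, ⊤)) := by
      have h := hG.map (pullback.fst q ι ≫ q).appTop.hom
      rwa [map_natCast] at h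
    have hquot' : SGA1.IsQuot ρ' π' := by
      refine Groth.L22.SymQuot.isQuot_baseChange_of_isUnit hquot _ hcard _ π' hsq ρ'
        (fun a => pullback.lift_fst _ _ _) fun a => ?_
      apply pullback.hom_ext
      · show (hh a ≫ π') ≫ _ = _
        simp only [hh, π', Category.assoc, pullback.lift_fst, pullback.lift_fst_assoc, hquot.inv a]
      · show (hh a ≫ π') ≫ _ = _
        simp [hh, π']
    have hne : ((Nat.card G : ℕ) : S.residueField s) ≠ 0 := by
      have h := hG.map (S.evaluation ⊤ s trivial).hom
      rw [map_natCast] at h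
      exact h.ne_zero
    have hinj : Function.Injective ρ' := by
      refine (injective_iff_map_eq_one ρ').2 fun a ha => ?_
      by_contra h1
      obtain ⟨x, hx, hne⟩ := hfaith s a h1
      obtain ⟨z, rfl⟩ : x ∈ Set.range (f.fiberι s) := (f.range_fiberι s).ge hx
      apply hne
      have e : hh a ≫ pullback.fst f ι = pullback.fst f ι := by
        rw [show hh a = 𝟙 _ from congrArg Iso.hom ha, Category.id_comp]
      have e2 : pullback.fst f ι ≫ (ρ a).hom = pullback.fst f ι := by
        rwa [pullback.lift_fst] at e
      show (ρ a).hom ((pullback.fst f ι) z) = (pullback.fst f ι) z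
      rw [← Scheme.Hom.comp_apply, e2]
    haveI : GeometricallyConnected (pullback.snd f ι) := inferInstance
    exact ⟨π', hsq, Groth.Agent.S18897.result (S.residueField s) (pullback.snd f ι) (hdim s) hne ρ' hinj
      (fun a => (pullback.lift_snd _ _ _).trans (Category.comp_id _)) π' (pullback.snd q ι) (by simp [π']) hquot'⟩
  have hflat : Flat π := Groth.L05.Point.flat_of_fibres_flat q f π hπ fun s => by
    obtain ⟨π', H, -, -, -, -, -, hF, -⟩ := hfib s
    haveI := hF
    rw [← H.isoPullback_inv_snd]
    infer_instance
  refine ⟨inferInstance, ?_, ?_, fun s => ?_, inferInstance, hflat, Groth.Agent.S12442.result π q, fun y => ?_⟩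
  · refine Groth.L07.SmoothFibre.smooth_of_fibres q fun s => ?_
    obtain ⟨π', -, -, h, -⟩ := hfib s
    exact h
  · refine ⟨fun K _ y Z fst snd h => ?_⟩
    let e : pullback f y ⟶ Z := h.lift (pullback.fst f y ≫ π) (pullback.snd f y)
      (by rw [Category.assoc, hπ, pullback.condition])
    haveI : ConnectedSpace ↥(pullback f y) :=
      GeometricallyConnected.geometrically_connectedSpace y _ _ (IsPullback.of_hasPullback f y)
    have H : IsPullback (pullback.fst f y) e π fst := by
      refine IsPullback.of_bot ?_ (h.lift_fst _ _ _).symm h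
      rw [h.lift_snd, hπ]
      exact IsPullback.of_hasPullback f y
    haveI : Surjective e := MorphismProperty.of_isPullback H ‹Surjective π›
    exact e.surjective.connectedSpace e.continuous
  · obtain ⟨π', -, -, -, -, h, -⟩ := hfib s
    exact h
  · obtain ⟨π', H, -, -, -, -, -, -, h⟩ := hfib (q y)
    rw [← q.fiberι_asFiber y, ← Scheme.Hom.finrank_of_isPullback _ _ _ _ H (q.asFiber y), h]

end Groth.Agent.S18909
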