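import Groth.Statements.S18911
import Groth.Agent.L12.CurveFam.FibVA.FieldForm

set_option autoImplicit false
universe u
open CategoryTheory CategoryTheory.Limits AlgebraicGeometry
open Coherent

namespace Groth.Agent.S18911

/-- Let Y be a locally Noetherian scheme, f : X → Y a proper flat morphism and L an invertible
O_X-module such that, at each point y ∈ Y, the pull-back L_y of L to X_y (the fibre over y) is very
ample over Spec k(y) and has vanishing H¹(X_y, L_y). In that case L is relatively very ample for f:
there are a quasi-coherent O_Y-module E and a Y-immersion i of X into the projective bundle P(E)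
with L isomorphic to i^*O_{P(E)}(1). (Fibrewise very ampleness is stated in the projective-space
form, an immersion of X_y into some P^N_{k(y)} over k(y) pulling O(1) back to L_y; for the
finite-type k(y)-scheme X_y this is equivalent to the projective-bundle form.) -/
theorem result {X Y : Scheme.{u}} (f : X ⟶ Y)
    [IsLocallyNoetherian Y] [IsProper f] [Flat f]
    (L : X.Modules) (hL : PicF.IsInvertible L)
    (hva : ∀ y : Y, RelAmple.IsRelVeryAmplePn (f.fiberToSpecResidueField y) ((Scheme.Modules.pullback (f.fiberι y)).obj L))
    (hH1 : ∀ y : Y, Subsingleton (Coh.HH (f.fiber y) ((Scheme.Modules.pullback (f.fiberι y)).obj L) 1)) :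
    RelProj.IsRelVeryAmple f L := by
  haveI : LocallyOfFinitePresentation f := inferInstance
  exact Groth.L12.CurveFam.isRelVeryAmple_of_fibres f L hL
    (fun s => Groth.L12.CurveFam.exists_pup_of_isRelVeryAmplePn (R := Y.residueField s)
      (f.fiberToSpecResidueField s) (hva s)) hH1

end Groth.Agent.S18911
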