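import Groth.Statements.S18912
import Groth.Agent.L21.TFNodal.Basic
import Groth.Agent.L21.RR.Coh

set_option autoImplicit false
set_option backward.isDefEq.respectTransparency false
universe u
open CategoryTheory CategoryTheory.Limits AlgebraicGeometry
open TFNodal

namespace Groth.Agent.S18912

/-- Let k be an algebraically closed field of characteristic zero, X a reduced scheme locally of finite
type over k, F an O_X-module, d ≥ 1 an integer and τ, τ' : F → O_X two O_X-linear maps whose d-th
symmetric powers agree, in the sense that for every open U and all sections a_1, …, a_d of F over U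
the products τ(a_1)⋯τ(a_d) and τ'(a_1)⋯τ'(a_d) coincide in Γ(U, O_X). Then for every point η of X
whose local ring is a field (a generic point of an irreducible component) there is a d-th root of
unity ξ in k such that, for every section a of F over an open containing η, the germ of τ'(a) at η
is ξ times the germ of τ(a). The published statement is for a coherent module on a projective nodal
curve and concludes that τ' = ξ τ with one root of unity ξ on each connected component; that form
fails for the union of two lines meeting at a node, F the ideal of the node, τ the inclusion and τ'
equal to τ on one line and to −τ on the other (d = 2), so the conclusion is stated here at each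
generic point, i.e. per irreducible component, which is what the stalkwise argument yields. -/
theorem result
    (k : Type u) [Field k] [IsAlgClosed k] [CharZero k]
    (X : Scheme.{u}) [X.Over (Spec (CommRingCat.of k))]
    [LocallyOfFiniteType (X ↘ Spec (CommRingCat.of k))] [AlgebraicGeometry.IsReduced X]
    (F : X.Modules) (τ τ' : F ⟶ Coh.structureModule X) (d : ℕ) (hd : 1 ≤ d)
    (hS : ∀ (U : X.Opens) (a : Fin d → Γ(F, U)),
      (∏ i, (τ.app U (a i) : Γ(X, U)) : Γ(X, U)) = (∏ i, (τ'.app U (a i) : Γ(X, U)) : Γ(X, U)))
    (η : X) (hη : IsField (X.presheaf.stalk η)) :
    ∃ ξ : k, ξ ^ d = 1 ∧ ∀ (U : X.Opens) (hU : η ∈ U) (a : Γ(F, U)),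
      (X.presheaf.germ U η hU (τ'.app U a : Γ(X, U)) : X.presheaf.stalk η) =
        Curv2.stalkMap k X η ξ * X.presheaf.germ U η hU (τ.app U a : Γ(X, U)) := by
  exact Groth.L21.TFNodal.exists_rootOfUnity k F τ τ' d hd hS η hη

end Groth.Agent.S18912
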