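import Groth.Statements.S18913
import Groth.Agent.L21.TFNodal.Embed
import Groth.Agent.L03.VBPn.Isotyp.Main
import Groth.Agent.L21.Bundle.Results
import Groth.Agent.L21.RR.Finite
import Groth.Agent.L12.KRes.Basic

set_option autoImplicit false
set_option backward.isDefEq.respectTransparency false
set_option linter.style.haveILetI false
universe u
open CategoryTheory CategoryTheory.Limits AlgebraicGeometry
open TFNodal

namespace Groth.Agent.S18913

open CategoryTheory CategoryTheory.Limits AlgebraicGeometry
open Groth.L10.RelCan (stk)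
open Groth.L21.TFNodal

variable {k : Type u} [Field k] {X : Scheme.{u}}

/-- The sum of copies of a twist has free stalks of rank `r`. -/
theorem exists_basis_copies {L : X.Modules} (hL : PicF.IsInvertible L) (m r : ℕ) (x : X) :
    Nonempty (Module.Basis (Fin r) (X.presheaf.stalk x)
      ((∐ fun _ : Fin r => CohB1.tensorPow L m).presheaf.stalk x)) := by
  have h := Groth.L03.VBPn.Isotyp.isFinLocFreeOfRank_copies
    (Groth.L21.Bundle.locFree_one (Groth.L18.Ample.isInvertible_tensorPow hL m)) r
  rw [mul_one] at h
  obtain ⟨U, hx, ⟨e⟩⟩ := h x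
  exact Groth.L15.Ref.exists_basis_stalk_of_iso U.ι e ⟨x, hx⟩

theorem not_isOpen_of_isClosed [ConnectedSpace X] (hdim : topologicalKrullDim X = 1) {x : X}
    (hx : IsClosed ({x} : Set X)) : ¬ IsOpen ({x} : Set X) := by
  intro ho
  haveI : Subsingleton X := ⟨fun a b => by
    have hu := IsClopen.eq_univ ⟨hx, ho⟩ (Set.singleton_nonempty x)
    have ha : a ∈ ({x} : Set X) := hu ▸ Set.mem_univ a
    have hb : b ∈ ({x} : Set X) := hu ▸ Set.mem_univ b
    exact (Set.mem_singleton_iff.1 ha).trans (Set.mem_singleton_iff.1 hb).symm⟩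
  have hle : topologicalKrullDim X ≤ 0 := by
    haveI : Subsingleton (TopologicalSpace.IrreducibleCloseds X) := ⟨fun A B => by
      refine TopologicalSpace.IrreducibleCloseds.ext (Set.ext fun z => ?_)
      obtain ⟨a, ha⟩ := A.isIrreducible.nonempty
      obtain ⟨b, hb⟩ := B.isIrreducible.nonempty
      exact ⟨fun _ => by rw [Subsingleton.elim z b]; exact hb, fun _ => by rw [Subsingleton.elim z a]; exact ha⟩⟩
    exact Order.krullDim_nonpos_of_subsingleton
  rw [hdim] at hle
  exact absurd hle (not_le.2 zero_lt_one)

theorem exists_nonZeroDivisor_mem [IsLocallyNoetherian X] [IsReduced X] {x : X} (hx : IsClosed ({x} : Set X))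
    (hno : ¬ IsOpen ({x} : Set X)) :
    ∃ r ∈ IsLocalRing.maximalIdeal (X.presheaf.stalk x), r ∈ nonZeroDivisors (X.presheaf.stalk x) := by
  refine exists_nonZeroDivisor_of_not_le_minimal _ fun p hp hle => hno ?_
  refine Groth.L20.QfCurve.isOpen_singleton hx fun y hy => ?_
  obtain ⟨q, rfl⟩ : y ∈ Set.range (X.fromSpecStalk x) := X.range_fromSpecStalk ▸ hy
  have hqm : q = IsLocalRing.closedPoint (X.presheaf.stalk x) := PrimeSpectrum.ext
    (le_antisymm (IsLocalRing.le_maximalIdeal q.2.ne_top)
      (hle.trans (hp.2 ⟨q.2, bot_le⟩ ((IsLocalRing.le_maximalIdeal q.2.ne_top).trans hle))))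
  rw [hqm]
  exact Scheme.fromSpecStalk_closedPoint

theorem not_isAssPoint_of_basis [IsLocallyNoetherian X] [IsReduced X] {E : X.Modules} {x : X}
    (hx : IsClosed ({x} : Set X)) (hno : ¬ IsOpen ({x} : Set X)) {r : ℕ}
    (b : Module.Basis (Fin r) (X.presheaf.stalk x) (E.presheaf.stalk x)) : ¬ Curv2.IsAssPoint E x := by
  intro h
  obtain ⟨a, ham, ha⟩ := exists_nonZeroDivisor_mem hx hno
  have h1 : a ∈ ⋃ p ∈ associatedPrimes (X.presheaf.stalk x) (E.presheaf.stalk x),
      (p : Set (X.presheaf.stalk x)) := Set.mem_biUnion h ham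
  rw [biUnion_associatedPrimes_eq_zero_divisors] at h1
  obtain ⟨v, hv, hav⟩ := h1
  refine hv (b.repr.map_eq_zero_iff.1 (Finsupp.ext fun i => ha.1 _ ?_))
  have h2 := congrArg (fun w => b.repr w i) hav
  simpa using h2

theorem isAssPoint_structure_of_isField {η : X} (h : IsField (X.presheaf.stalk η)) :
    Curv2.IsAssPoint (Coh.structureModule X) η := by
  letI := h.toField
  haveI : Nontrivial ((Coh.structureModule X).presheaf.stalk η) :=
    (Groth.L15.Ref.strE η).toEquiv.symm.nontrivial
  obtain ⟨P, hP⟩ := associatedPrimes.nonempty (X.presheaf.stalk η) ((Coh.structureModule X).presheaf.stalk η)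
  have hbot := (IsLocalRing.isField_iff_maximalIdeal_eq).1 h
  show _ ∈ associatedPrimes _ _
  have : P = IsLocalRing.maximalIdeal (X.presheaf.stalk η) :=
    le_antisymm (IsLocalRing.le_maximalIdeal hP.1.ne_top) (hbot ▸ bot_le)
  exact this ▸ hP


/-- Let k be an algebraically closed field of characteristic zero, X a connected reduced proper curve
over k (a proper k-scheme of dimension one), L an ample invertible O_X-module, F a coherent
O_X-module and r a natural number. Then F is of depth one at every closed point (no closed point of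
X is an associated point of F) with stalk free of rank r at every generic point (uniform multirank
r) if and only if there are a natural number m and a monomorphism F → (L^{⊗m})^{⊕r} whose cokernel
has zero stalk at every generic point of X (a torsion cokernel). -/
theorem result
    (k : Type u) [Field k] [IsAlgClosed k] [CharZero k]
    (X : Scheme.{u}) [X.Over (Spec (CommRingCat.of k))] [IsProper (X ↘ Spec (CommRingCat.of k))]
    [AlgebraicGeometry.IsReduced X] [ConnectedSpace X] (hdim : topologicalKrullDim X = 1)
    (L : X.Modules) (hL : CohB1.IsAmple L)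
    (F : X.Modules) (hF : Coh.IsCoh F) (r : ℕ) :
    ((∀ x : X, IsClosed ({x} : Set X) → ¬ Curv2.IsAssPoint F x) ∧
      (∀ η : X, IsField (X.presheaf.stalk η) →
        Nonempty (F.presheaf.stalk η ≃ₗ[X.presheaf.stalk η] (Fin r → X.presheaf.stalk η)))) ↔
    (∃ (m : ℕ) (ι : F ⟶ ∐ fun _ : Fin r => CohB1.tensorPow L m), Mono ι ∧
      ∀ η : X, IsField (X.presheaf.stalk η) → Subsingleton ((cokernel ι).presheaf.stalk η)) := by
  classical
  haveI := Groth.L21.RR.isNoetherian_of_proper (X := X) k
  haveI : Coh.IsQCoh F := hF.1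
  have hbasis := exists_basis_copies hL.1
  refine ⟨fun ⟨hass, hfree⟩ => ?_, fun ⟨m, ι, hι, hcoker⟩ => ⟨fun x hx h => ?_, fun η hη => ?_⟩⟩
  · obtain ⟨m, N, φ, hφ⟩ := exists_maps hL hF
    haveI : Coh.IsQCoh (Coh.structureModule X) := (Groth.L16.CohClosedPush.isCoh_structure (X := X)).1
    haveI : Finite {η : X // IsField (X.presheaf.stalk η)} :=
      ((Groth.L22.EnrSev.finite_setOf_isAssPoint (Groth.L16.CohClosedPush.isCoh_structure (X := X)).2).subset
        fun η h => isAssPoint_structure_of_isField h).to_subtype
    letI : ∀ η : {η : X // IsField (X.presheaf.stalk η)}, Field (X.presheaf.stalk η.1) := fun η => η.2.toField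
    have hLm := Groth.L18.Ample.isInvertible_tensorPow hL.1 m
    choose q hq using fun η : {η : X // IsField (X.presheaf.stalk η)} =>
      Groth.L21.RR.exists_frame_stalk hLm η.1
    let g := fun η : {η : X // IsField (X.presheaf.stalk η)} =>
      (LinearEquiv.ofBijective (LinearMap.toSpanSingleton _ _ (q η)) (hq η)).symm
    let e := fun η : {η : X // IsField (X.presheaf.stalk η)} => (hfree η.1 η.2).some
    haveI : ∀ η : {η : X // IsField (X.presheaf.stalk η)},
        Module.Finite (X.presheaf.stalk η.1) (F.presheaf.stalk η.1) := fun η => Module.Finite.equiv (e η).symm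
    have hrank : ∀ η : {η : X // IsField (X.presheaf.stalk η)},
        Module.finrank (X.presheaf.stalk η.1) (F.presheaf.stalk η.1) = r := fun η => by
      rw [(e η).finrank_eq, Module.finrank_fin_fun]
    let f := fun (η : {η : X // IsField (X.presheaf.stalk η)}) (j : Fin N) =>
      ((g η).toLinearMap ∘ₗ stk (φ j) η.1 : Module.Dual (X.presheaf.stalk η.1) (F.presheaf.stalk η.1))
    have hspan : ∀ η, Submodule.span (X.presheaf.stalk η.1) (Set.range (f η)) = ⊤ := fun η => by
      apply Submodule.eq_top_of_finrank_eq
      have hcoann : (Submodule.span (X.presheaf.stalk η.1) (Set.range (f η))).dualCoannihilator = ⊥ := by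
        refine (Submodule.eq_bot_iff _).2 fun v hv => hφ η.1 η.2 v fun j => (g η).injective ?_
        rw [map_zero]
        exact (Submodule.mem_dualCoannihilator v).1 hv _ (Submodule.subset_span ⟨j, rfl⟩)
      have := Subspace.finrank_add_finrank_dualCoannihilator_eq
        (Submodule.span (X.presheaf.stalk η.1) (Set.range (f η)))
      rw [hcoann, finrank_bot, add_zero] at this
      rw [this, Subspace.dual_finrank_eq]
    obtain ⟨c, hc⟩ := exists_combination
      (fun η : {η : X // IsField (X.presheaf.stalk η)} => Groth.L15.TFCurve.genK k η.1) f hspan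
      (fun η => (Subspace.dual_finrank_eq).trans (hrank η))
    let ψ : Fin r → (F ⟶ CohB1.tensorPow L m) := fun a => ∑ j, φ j ≫ Formal.smulMod k _ (c a j)
    let cc := biproduct.isoCoproduct fun _ : Fin r => CohB1.tensorPow L m
    let ι := biproduct.lift ψ ≫ cc.hom
    have hψ : ∀ a, ψ a = ι ≫ cc.inv ≫ biproduct.π _ a := fun a => by simp [ι]
    have hinj : ∀ η, IsField (X.presheaf.stalk η) → Function.Injective (stk ι η) := fun η hη => by
      refine (injective_iff_map_eq_zero _).2 fun v hv => ?_
      let ηη : {η : X // IsField (X.presheaf.stalk η)} := ⟨η, hη⟩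
      have hsp : Submodule.span (X.presheaf.stalk η)
          (Set.range fun a => ∑ j, Groth.L15.TFCurve.genK k η (c a j) • f ηη j) = ⊤ :=
        (hc ηη).span_eq_top_of_card_eq_finrank'
          (by rw [Fintype.card_fin, Subspace.dual_finrank_eq, hrank ηη])
      haveI : Module.Free (X.presheaf.stalk η) (F.presheaf.stalk η) := Module.Free.of_equiv (e ηη).symm
      refine (Module.forall_dual_apply_eq_zero_iff (X.presheaf.stalk η) v).1 fun d => ?_
      have hd : d ∈ Submodule.span (X.presheaf.stalk η)
          (Set.range fun a => ∑ j, Groth.L15.TFCurve.genK k η (c a j) • f ηη j) := hsp ▸ Submodule.mem_top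
      induction hd using Submodule.span_induction with
      | mem d hd =>
        obtain ⟨a, rfl⟩ := hd
        have h0 : stk (ψ a) η v = 0 := by rw [hψ a, stk_comp_apply, hv, map_zero]
        have h1 : stk (ψ a) η v = ∑ j, Groth.L15.TFCurve.genK k η (c a j) • stk (φ j) η v := by
          rw [stk_sum_apply]
          refine Finset.sum_congr rfl fun j _ => ?_
          rw [stk_comp_apply]
          exact Groth.L15.TFCurve.stalkF_map_smulMod _ _ _ _
        have h2 := congrArg (g ηη) (h1.symm.trans h0)
        rw [map_sum, map_zero] at h2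
        refine Eq.trans ?_ h2
        exact (LinearMap.sum_apply _ _ _).trans (Finset.sum_congr rfl fun j _ => (map_smul (g ηη) _ _).symm)
      | zero => rfl
      | add a b _ _ ha hb => rw [LinearMap.add_apply, ha, hb, add_zero]
      | smul s a _ ha => rw [LinearMap.smul_apply, ha, smul_zero]
    haveI hmono : Mono ι := Groth.L22.EnrSev.mono_of_injective_ass ι fun x hx => hinj x
      (Groth.L21.TFNodal.isField_stalk_of_nonclosed
        (fun a b c' h1 h2 => Groth.L21.RR.Top.spec_of_dim_le_one (X := X.toTopCat) hdim.le a b c' h1 h2)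
        fun h => hass x h hx)
    refine ⟨m, ι, hmono, fun η hη => ?_⟩
    letI := hη.toField
    obtain ⟨b⟩ := hbasis m r η
    haveI : Module.Finite (X.presheaf.stalk η) ((∐ fun _ : Fin r => CohB1.tensorPow L m).presheaf.stalk η) :=
      Module.Finite.of_basis b
    haveI : Module.Finite (X.presheaf.stalk η) (F.presheaf.stalk η) := Module.Finite.equiv (e ⟨η, hη⟩).symm
    have hsurj : Function.Surjective (stk ι η) :=
      (LinearMap.injective_iff_surjective_of_finrank_eq_finrank (f := stk ι η)
        ((hrank ⟨η, hη⟩).trans (by rw [Module.finrank_eq_card_basis b, Fintype.card_fin]))).1 (hinj η hη)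
    refine ⟨fun z z' => ?_⟩
    have hz : ∀ z : (cokernel ι).presheaf.stalk η, z = 0 := fun z => by
      obtain ⟨w, rfl⟩ := stk_surjective (cokernel.π ι) η z
      obtain ⟨v, rfl⟩ := hsurj w
      rw [← stk_comp_apply, cokernel.condition]
      show ((Groth.L00.Stk.F X η).map (0 : F ⟶ cokernel ι)).hom v = 0
      rw [Functor.map_zero]
      rfl
    rw [hz z, hz z']
  · obtain ⟨b⟩ := hbasis m r x
    exact not_isAssPoint_of_basis hx (not_isOpen_of_isClosed hdim hx) b
      (Groth.L11.Lemma179.sub_isAssPoint ι h)
  · obtain ⟨b⟩ := hbasis m r η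
    let S := ShortComplex.mk ι (cokernel.π ι) (cokernel.condition ι)
    have hS : S.ShortExact := { exact := ShortComplex.exact_cokernel _, mono_f := hι }
    have hx := Groth.L12.KRes.shortExact_stalk hS η
    have hinj : Function.Injective (stk ι η) := hx.moduleCat_injective_f
    have hsurj : Function.Surjective (stk ι η) := fun z => by
      haveI := hcoker η hη
      exact ((ShortComplex.ShortExact.moduleCat_exact_iff_function_exact _).1 hx.exact z).1
        (@Subsingleton.elim ((cokernel ι).presheaf.stalk η) _ _ _)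
    exact ⟨(LinearEquiv.ofBijective (stk ι η) ⟨hinj, hsurj⟩).trans b.equivFun⟩

end Groth.Agent.S18913
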