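import Groth.Statements.S18914
import Groth.Agent.L21.TFNodal.Dense
import Groth.Agent.L21.RR.Coh

set_option autoImplicit false
set_option backward.isDefEq.respectTransparency false
set_option backward.isDefEq.respectTransparency.types false
universe u
open CategoryTheory CategoryTheory.Limits AlgebraicGeometry
open TFNodal

namespace Groth.Agent.S18914

/-- Let k be an algebraically closed field of characteristic zero, X a reduced proper curve over k (a
proper k-scheme of dimension one), and E, F₁, F₂ coherent O_X-modules that are torsion free (every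
stalk is a torsion free module over the local ring: no nonzero element is killed by a
non-zero-divisor). Let q₁ : E → F₁ and q₂ : E → F₂ be epimorphisms, U a dense open subset of X and φ
: F₁|_U ≅ F₂|_U an isomorphism of the restricted quotients, q₁|_U ≫ φ = q₂|_U. Then there is an
isomorphism of quotients ψ : F₁ ≅ F₂, q₁ ≫ ψ = q₂, whose restriction to U is φ. -/
theorem result
    (k : Type u) [Field k] [IsAlgClosed k] [CharZero k]
    (X : Scheme.{u}) [X.Over (Spec (CommRingCat.of k))] [IsProper (X ↘ Spec (CommRingCat.of k))]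
    [AlgebraicGeometry.IsReduced X] (hdim : topologicalKrullDim X = 1)
    (E F₁ F₂ : X.Modules) (hE : Coh.IsCoh E) (hF₁ : Coh.IsCoh F₁) (hF₂ : Coh.IsCoh F₂)
    (htE : TorSh.IsTorsionFree E) (ht₁ : TorSh.IsTorsionFree F₁) (ht₂ : TorSh.IsTorsionFree F₂)
    (q₁ : E ⟶ F₁) (q₂ : E ⟶ F₂) [Epi q₁] [Epi q₂]
    (U : X.Opens) (hU : Dense (U : Set X))
    (φ : F₁.restrict U.ι ≅ F₂.restrict U.ι)
    (hφ : (Scheme.Modules.restrictFunctor U.ι).map q₁ ≫ φ.hom = (Scheme.Modules.restrictFunctor U.ι).map q₂) :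
    ∃ ψ : F₁ ≅ F₂, q₁ ≫ ψ.hom = q₂ ∧ (Scheme.Modules.restrictFunctor U.ι).map ψ.hom = φ.hom := by
  haveI := Groth.L21.RR.isNoetherian_of_proper (X := X) k
  haveI := hF₁.1
  haveI := hF₂.1
  let R := Scheme.Modules.restrictFunctor U.ι
  haveI : R.IsLeftAdjoint := (Scheme.Modules.restrictAdjunction U.ι).isLeftAdjoint
  haveI : R.IsRightAdjoint := by infer_instance
  have hk₁ : kernel.ι q₁ ≫ q₂ = 0 := by
    refine Groth.L21.TFNodal.hom_eq_zero_of_dense ht₂ _ U hU ?_
    rw [Functor.map_comp, ← hφ, ← Category.assoc, ← Functor.map_comp, kernel.condition, Functor.map_zero, zero_comp]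
  have hk₂ : kernel.ι q₂ ≫ q₁ = 0 := by
    refine Groth.L21.TFNodal.hom_eq_zero_of_dense ht₁ _ U hU ?_
    have hφ' : R.map q₂ ≫ φ.inv = R.map q₁ := by rw [← hφ, Category.assoc, Iso.hom_inv_id, Category.comp_id]
    rw [Functor.map_comp, ← hφ', ← Category.assoc, ← Functor.map_comp, kernel.condition, Functor.map_zero, zero_comp]
  let a := (Abelian.epiIsCokernelOfKernel _ (kernelIsKernel q₁)).desc (CokernelCofork.ofπ q₂ hk₁)
  let b := (Abelian.epiIsCokernelOfKernel _ (kernelIsKernel q₂)).desc (CokernelCofork.ofπ q₁ hk₂)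
  have ha : q₁ ≫ a = q₂ := (Abelian.epiIsCokernelOfKernel _ (kernelIsKernel q₁)).fac (CokernelCofork.ofπ q₂ hk₁) WalkingParallelPair.one
  have hb : q₂ ≫ b = q₁ := (Abelian.epiIsCokernelOfKernel _ (kernelIsKernel q₂)).fac (CokernelCofork.ofπ q₁ hk₂) WalkingParallelPair.one
  refine ⟨⟨a, b, by rw [← cancel_epi q₁, ← Category.assoc, ha, hb, Category.comp_id],
    by rw [← cancel_epi q₂, ← Category.assoc, hb, ha, Category.comp_id]⟩, ha, ?_⟩
  haveI : Epi (R.map q₁) := R.map_epi q₁
  rw [← cancel_epi (R.map q₁), ← R.map_comp, hφ]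
  exact congrArg R.map ha

end Groth.Agent.S18914
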