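import Groth.Statements.S18915
import Groth.Agent.L11.ProdDepth.Basic
import Groth.Agent.L16.AffineBC.Pullback

set_option autoImplicit false
set_option maxSynthPendingDepth 3
universe u
open CategoryTheory CategoryTheory.Limits AlgebraicGeometry
open TFNodal

namespace Groth.Agent.S18915

/-- Let k be an algebraically closed field of characteristic zero, X a reduced proper curve over k (a
proper k-scheme of dimension one) without isolated points (no closed point is open, i.e. X is
one-dimensional at every point), C a smooth irreducible k-scheme of dimension one and c a closed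
point of C. Put Z = X ×_k C with projections p_X and p_C, let Y be a nonempty finite set of closed
points of Z lying over c, and let j : U → Z be the inclusion of the open complement of Y. Then for
every coherent torsion free O_X-module F (every stalk a torsion free module over the local ring),
the unit map p_X^* F → j_* j^* (p_X^* F) is an isomorphism. -/
theorem result
    (k : Type u) [Field k] [IsAlgClosed k] [CharZero k]
    (X : Scheme.{u}) [X.Over (Spec (CommRingCat.of k))] [IsProper (X ↘ Spec (CommRingCat.of k))]
    [AlgebraicGeometry.IsReduced X] (hdim : topologicalKrullDim X = 1)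
    (hpure : ∀ x : X, IsClosed ({x} : Set X) → ¬ IsOpen ({x} : Set X))
    (C : Scheme.{u}) [C.Over (Spec (CommRingCat.of k))] [Smooth (C ↘ Spec (CommRingCat.of k))]
    [IrreducibleSpace C] (hdimC : topologicalKrullDim C = 1)
    (c : C) (hc : IsClosed ({c} : Set C))
    (Y : Set ↑(pullback (X ↘ Spec (CommRingCat.of k)) (C ↘ Spec (CommRingCat.of k))))
    (hYfin : Y.Finite) (hYne : Y.Nonempty) (hYcl : ∀ z ∈ Y, IsClosed ({z} : Set _))
    (hYc : ∀ z ∈ Y, (pullback.snd (X ↘ Spec (CommRingCat.of k)) (C ↘ Spec (CommRingCat.of k))).base z = c)
    (U : (pullback (X ↘ Spec (CommRingCat.of k)) (C ↘ Spec (CommRingCat.of k))).Opens)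
    (hU : (U : Set _) = Yᶜ)
    (F : X.Modules) (hF : Coh.IsCoh F) (htF : TorSh.IsTorsionFree F) :
    IsIso ((Scheme.Modules.restrictAdjunction U.ι).unit.app
      ((Scheme.Modules.pullback (pullback.fst (X ↘ Spec (CommRingCat.of k)) (C ↘ Spec (CommRingCat.of k)))).obj F)) := by
  let p := X ↘ Spec (CommRingCat.of k)
  let q := C ↘ Spec (CommRingCat.of k)
  let g := pullback.fst p q
  haveI : IsLocallyNoetherian X := LocallyOfFiniteType.isLocallyNoetherian p
  haveI : CompactSpace X := QuasiCompact.compactSpace_of_compactSpace p
  haveI : IsNoetherian X := {}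
  haveI : JacobsonSpace X := LocallyOfFiniteType.jacobsonSpace p
  haveI : Flat q := inferInstance
  haveI : Flat g := inferInstance
  haveI : IsLocallyNoetherian ↑(pullback p q) := LocallyOfFiniteType.isLocallyNoetherian g
  haveI : Coh.IsQCoh F := hF.1
  haveI : Coh.IsQCoh ((Scheme.Modules.pullback g).obj F) :=
    Groth.L16.AffineBC.isQCoh_pullback g F
  refine Groth.L10.RelCan.isIso_unit_of_pairs U _ fun z hz => ?_
  have hzY : z ∈ Y := by
    by_contra h
    exact hz (show z ∈ (U : Set _) by rw [hU]; exact h)
  obtain ⟨u, hu, hune⟩ := Groth.L11.ProdDepth.exists_generization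
    (g.closePoints_subset_preimage_closedPoints (hYcl z hzY)) (hpure _ (g.closePoints_subset_preimage_closedPoints (hYcl z hzY)))
  have hcz : pullback.snd p q z = c := hYc z hzY
  have hne : genericPoint C ≠ c := fun he => by
    have huniv : ({c} : Set C) = Set.univ := by
      rw [← hc.closure_eq, ← he]; exact genericPoint_closure C
    haveI : Subsingleton C := ⟨fun a b => by
      have ha : a ∈ ({c} : Set C) := huniv ▸ trivial
      have hb : b ∈ ({c} : Set C) := huniv ▸ trivial
      exact ha.trans hb.symm⟩
    have h0 := topologicalKrullDim_zero_of_discreteTopology C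
    rw [hdimC] at h0
    exact absurd h0 (by norm_num)
  obtain ⟨v, hv, hvne⟩ := Groth.L11.ProdDepth.exists_fibre_generization p q z (η := genericPoint C)
    (genericPoint_specializes _) (hcz ▸ hne)
  haveI : Smooth (g.fiberToSpecResidueField (g z)) :=
    MorphismProperty.pullback_snd g (X.fromSpecResidueField (g z)) inferInstance
  haveI : AlgebraicGeometry.IsReduced (g.fiber (g z)) :=
    Groth.L16.SecComp.isReduced_of_smooth (k := X.residueField (g z)) (g.fiberToSpecResidueField (g z))
  haveI : IsLocallyNoetherian (g.fiber (g z)) :=
    LocallyOfFiniteType.isLocallyNoetherian (g.fiberToSpecResidueField (g z))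
  obtain ⟨r, hr, hreg⟩ := Groth.L11.ProdDepth.exists_regular hv hvne
  exact Groth.L11.ProdDepth.exists_pair_pullback g F hF z
    (Groth.L11.ProdDepth.one_le_depth_stalk F htF hu hune) (Groth.L11.ProdDepth.one_le_depth_fibMod g z hr hreg)

end Groth.Agent.S18915
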