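import Groth.Statements.S18917
import Groth.Agent.L21.DisjSS.Semistable
import Groth.Agent.L16.NegPow.Gen

set_option autoImplicit false
set_option linter.style.haveILetI false
set_option backward.isDefEq.respectTransparency false
universe u
open CategoryTheory CategoryTheory.Limits AlgebraicGeometry
open VBCurve

namespace Groth.Agent.S18917

/-- Let k be an algebraically closed field of characteristic zero, Y a smooth proper k-scheme of
dimension one, possibly disconnected, L an ample invertible O_Y-module (the polarization) and E a
nonzero finite locally free O_Y-module. For an open and closed U ⊆ Y with inclusion j write E_U =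
j_*(E|_U), the part of E supported on U (a direct summand of E), χ for the Euler characteristic over
k and α(M) = χ(M ⊗ L) − χ(M) for the multiplicity. Then E is semistable of dimension one with
respect to L if and only if, for every connected component U of Y with E_U ≠ 0, the module E_U is
semistable of dimension one with respect to L and has the same reduced Hilbert polynomial as E, that
is χ(E_U) · α(E) = χ(E) · α(E_U). (Equality of reduced Hilbert polynomials is the source's condition
that the slope of E equals the slope of E|_U plus the correction term attached to the component.) -/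
theorem result
    (k : Type u) [Field k] [IsAlgClosed k] [CharZero k]
    (Y : Scheme.{u}) [Y.Over (Spec (CommRingCat.of k))] [IsProper (Y ↘ Spec (CommRingCat.of k))]
    [Smooth (Y ↘ Spec (CommRingCat.of k))] (hdim : topologicalKrullDim Y = 1)
    (L : Y.Modules) (hL : CohB1.IsAmple L)
    (E : Y.Modules) (hE : FlatMod.IsFinLocFree E) (hE0 : ¬ IsZero E) :
    ShStab.IsSemistable k Y L E 1 ↔
      ∀ U : Y.Opens, IsClopen (U : Set Y) → _root_.IsConnected (U : Set Y) →
        ¬ IsZero ((Scheme.Modules.pushforward U.ι).obj (E.restrict U.ι)) →
        ShStab.IsSemistable k Y L ((Scheme.Modules.pushforward U.ι).obj (E.restrict U.ι)) 1 ∧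
          Curv2.euler k Y ((Scheme.Modules.pushforward U.ι).obj (E.restrict U.ι)) *
              (Curv2.euler k Y (CohB1.tensorMod E L) - Curv2.euler k Y E) =
            Curv2.euler k Y E *
              (Curv2.euler k Y (CohB1.tensorMod ((Scheme.Modules.pushforward U.ι).obj (E.restrict U.ι)) L) -
                Curv2.euler k Y ((Scheme.Modules.pushforward U.ι).obj (E.restrict U.ι))) := by
  haveI := Groth.L03.ShStab.Basic.locallyNoetherian (k := k) (X := Y)
  haveI := Groth.L21.RR.isNoetherian_of_proper (X := Y) k
  haveI := Groth.L21.NormRed.finite_connectedComponents (X := Y)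
  have hEc : Coh.IsCoh E := Groth.L16.NegPow.isCoh_of_isFinLocFree hE
  open Groth.L21.DisjSS in
  show ShStab.IsSemistable k Y L E 1 ↔
      ∀ U : Y.Opens, IsClopen (U : Set Y) → _root_.IsConnected (U : Set Y) → ¬ IsZero ((part U).obj E) →
        ShStab.IsSemistable k Y L ((part U).obj E) 1 ∧
          Curv2.euler k Y ((part U).obj E) * al k L E = Curv2.euler k Y E * al k L ((part U).obj E)
  open Groth.L21.DisjSS in
  constructor
  · intro hss U hU _ hUne
    have hα : 0 < al k L E := al_pos k hdim.le hL hEc hss.2.2.1 hE0
    obtain ⟨ι, hι⟩ := exists_inclusion U hU E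
    haveI := hι
    have hcU := isCoh_part U hU hEc
    let V : Y.Opens := ⟨(U : Set Y)ᶜ, hU.compl.2⟩
    have hV : IsClopen (V : Set Y) := hU.compl
    obtain ⟨κ, hκ⟩ := exists_inclusion V hV E
    haveI := hκ
    obtain ⟨e⟩ := part_univ (M := E) (U ⊔ V) (by rw [TopologicalSpace.Opens.coe_sup]; exact Set.union_compl_self _)
    have e1 := euler_parts k U V hU hV disjoint_compl_right hEc
    have e2 := al_parts k U V hU hV disjoint_compl_right hL.1 hEc
    rw [← Groth.L21.RR.euler_congr k e] at e1
    rw [al, ← Groth.L21.RR.euler_congr k e,
      ← Groth.L21.RR.euler_congr k (Groth.L00.Tensor.tensorIso e (Iso.refl L))] at e2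
    change al k L E = _ at e2
    have i1 := ss_ineq k hdim.le hL hss ι hcU
    have i2 := ss_ineq k hdim.le hL hss κ (isCoh_part V hV hEc)
    have i3 := congrArg (al k L E * ·) e1
    have i4 := congrArg (· * Curv2.euler k Y E) e2
    simp only [mul_add, add_mul] at i3 i4
    have heq : al k L E * Curv2.euler k Y ((part U).obj E) = al k L ((part U).obj E) * Curv2.euler k Y E := by
      linarith
    refine ⟨ss_of_ineq k hdim.le hL hcU hUne (Groth.L03.ShStab.Basic.isPure_sub hss.2.2.1 ι) fun F j hj hF => ?_,
      by linarith⟩
    have hpU := al_pos k hdim.le hL hcU (Groth.L03.ShStab.Basic.isPure_sub hss.2.2.1 ι) hUne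
    haveI := hj
    have i5 := mul_le_mul_of_nonneg_left (ss_ineq k hdim.le hL hss (j ≫ ι) hF) hpU.le
    refine le_of_mul_le_mul_left ?_ hα
    have i6 := congrArg (al k L F * ·) heq
    linarith
  · intro h
    have hp : ShStab.IsPure Y E 1 := by
      intro F j hj hF hF0
      haveI := hj
      refine le_antisymm (dim_support_le hdim.le F) ?_
      obtain ⟨x, hx⟩ : ∃ x : Y, ¬ Subsingleton (F.presheaf.stalk x) := by
        by_contra hc
        push Not at hc
        exact hF0 ((Groth.L21.Mod.isZero_iff_stalk_subsingleton _).2 hc)
      let U : Y.Opens := ⟨connectedComponent x, (isClopen_connectedComponent x).2⟩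
      have hU : IsClopen (U : Set Y) := isClopen_connectedComponent x
      have hFU : ¬ IsZero ((part U).obj F) := fun hz => hx <| by
        have hb := bijective_proj U F (x := x) mem_connectedComponent
        haveI := (Groth.L21.Mod.isZero_iff_stalk_subsingleton _).1 hz x
        exact ⟨fun a b => hb.1 (Subsingleton.elim (α := ((part U).obj F).presheaf.stalk x) _ _)⟩
      have hEU : ¬ IsZero ((part U).obj E) := fun hz => hFU (hz.of_mono ((part U).map j))
      have h1 := (h U hU isConnected_connectedComponent hEU).1.2.2.1 _ ((part U).map j) inferInstance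
        (isCoh_part U hU hF) hFU
      rw [← h1]
      obtain ⟨κ, hκ⟩ := exists_inclusion U hU F
      haveI := hκ
      exact Groth.L03.Euler.topologicalKrullDim_set_mono (Groth.L21.Mod.support_mono κ)
    have hα : 0 < al k L E := al_pos k hdim.le hL hEc hp hE0
    refine ss_of_ineq k hdim.le hL hEc hE0 hp fun F j hj hF => ?_
    haveI := hj
    refine linear_of_components k hL.1 hF fun U hU hUc => ?_
    by_cases hz : IsZero ((part U).obj E)
    · have hzF : IsZero ((part U).obj F) := hz.of_mono ((part U).map j)
      rw [Groth.L03.Euler.euler_of_isZero hzF, al_isZero k hzF]; simp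
    obtain ⟨hssU, heq⟩ := h U hU hUc hz
    have hpU := al_pos k hdim.le hL (isCoh_part U hU hEc) hssU.2.2.1 hz
    have i1 := mul_le_mul_of_nonneg_left (ss_ineq k hdim.le hL hssU ((part U).map j) (isCoh_part U hU hF)) hα.le
    refine le_of_mul_le_mul_left ?_ hpU
    have i2 := congrArg (al k L ((part U).obj F) * ·) heq
    linarith

end Groth.Agent.S18917
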