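import Groth.Statements.S18918
import Groth.Agent.L27.Deg.SymCover
import Groth.Agent.L27.Deg.PushRank

set_option autoImplicit false
universe u
open CategoryTheory CategoryTheory.Limits AlgebraicGeometry
open FEt

set_option backward.isDefEq.respectTransparency.types false
set_option linter.style.haveILetI false

namespace Groth.Agent.S18918

open Groth.L27 Groth.L27.FEtGal

theorem hom_eq_of_fiber {A : Scheme.{u}} [ConnectedSpace A] {T Z : FEt.Cat A} (a b : T ⟶ Z) {Ω : Type u} [Field Ω]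
    [IsAlgClosed Ω] (ξ : Spec (CommRingCat.of Ω) ⟶ A) (h : (FEt.fiber ξ).map a = (FEt.fiber ξ).map b) : a = b := by
  haveI := FEtGal.hasFiniteLimits (X := A)
  haveI := preservesFiniteLimits_fiber ξ
  haveI : IsIso (equalizer.ι a b) := by
    refine isIso_of_fiber _ fun C hC hne => ⟨Ω, inferInstance, inferInstance, ξ, ?_, ?_⟩
    · rcases isClopen_iff.mp hC with rfl | rfl
      · exact absurd hne Set.not_nonempty_empty
      · exact Set.mem_univ _
    · haveI : IsIso (equalizer.ι ((FEt.fiber ξ).map a) ((FEt.fiber ξ).map b)) :=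
        equalizer.ι_of_eq h
      exact equalizerComparison_comp_π a b (FEt.fiber ξ) ▸ inferInstance
  exact (cancel_epi (equalizer.ι a b)).1 (equalizer.condition a b)

theorem pt_sigma {A : Scheme.{u}} {ι : Type u} (Ω : Type u) [Field Ω] (ξ : Spec (CommRingCat.of Ω) ⟶ A)
    (w : Spec (CommRingCat.of Ω) ⟶ ∐ fun _ : ι => A) (hw : w ≫ Sigma.desc (fun _ : ι => 𝟙 A) = ξ) :
    ∃ i, w = ξ ≫ Sigma.ι (fun _ : ι => A) i := by
  obtain ⟨i, y, hy⟩ := (sigmaOpenCover fun _ : ι => A).exists_eq (w default)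
  have hy' : Sigma.ι (fun _ : ι => A) i y = w default := hy
  have hsub : Set.range w ⊆ Set.range (Sigma.ι (fun _ : ι => A) i) := by
    rintro _ ⟨a, rfl⟩
    obtain rfl : a = default := Subsingleton.elim _ _
    exact ⟨y, hy'⟩
  refine ⟨i, ?_⟩
  have hl := IsOpenImmersion.lift_fac (Sigma.ι (fun _ : ι => A) i) w hsub
  have hl1 : IsOpenImmersion.lift (Sigma.ι (fun _ : ι => A) i) w hsub = ξ := by
    refine Eq.trans ?_ hw
    exact (Category.comp_id _).symm.trans ((congrArg (_ ≫ ·) (Sigma.ι_desc (fun _ => 𝟙 A) i).symm).trans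
      ((Category.assoc _ _ _).symm.trans (congrArg (· ≫ _) hl)))
  rw [hl1] at hl
  exact hl.symm

theorem ι_ne {A : Scheme.{u}} {ι : Type*} [Small.{u} ι] (x : A) {i j : ι}
    (h : Sigma.ι (fun _ : ι => A) i x = Sigma.ι (fun _ : ι => A) j x) : i = j := by
  by_contra hij
  exact (disjoint_opensRange_sigmaι (fun _ : ι => A) i j hij).le_bot
    (show Sigma.ι (fun _ : ι => A) i x ∈ _ from ⟨⟨x, rfl⟩, ⟨x, h.symm⟩⟩)


/-- Let f : X → Y be a finite étale morphism of degree n (f_*O_X locally free of rank n) and φ : X' → Y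
a morphism from a nonempty connected scheme X'. Then the Y-morphisms X' → X (equivalently, the
sections of X ×_Y X' → X') form a finite set with at most n elements, and there are exactly n of
them if and only if the covering X ×_Y X' → X' is trivial, i.e. X ×_Y X' is isomorphic over X' to
the disjoint union of n copies of X'. The source works with separated Noetherian schemes over an
algebraically closed field of characteristic zero; that setting is not needed for the statement. -/
theorem result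
    {X Y X' : Scheme.{u}} (f : X ⟶ Y) [IsFinite f] [Etale f] (n : ℕ)
    (hdeg : FlatMod.IsFinLocFreeOfRank n ((Scheme.Modules.pushforward f).obj (Coh.structureModule X)))
    (φ : X' ⟶ Y) [Nonempty X'] [ConnectedSpace X'] :
    Finite (Over.mk φ ⟶ Over.mk f) ∧ Nat.card (Over.mk φ ⟶ Over.mk f) ≤ n ∧
      (Nat.card (Over.mk φ ⟶ Over.mk f) = n ↔
        ∃ e : pullback f φ ≅ ∐ fun _ : Fin n => X',
          e.hom ≫ Sigma.desc (fun _ : Fin n => 𝟙 X') = pullback.snd f φ) := by
  classical
  let p : pullback f φ ⟶ X' := pullback.snd f φ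
  let Z : FEt.Cat X' := MorphismProperty.Over.mk ⊤ p ⟨inferInstance, inferInstance⟩
  let T : FEt.Cat X' := MorphismProperty.Over.mk ⊤ (𝟙 X') ⟨inferInstance, inferInstance⟩
  have hn : ∀ x, p.finrank x = n := fun x => (Scheme.Hom.finrank_pullback_snd f φ x).trans (Deg.finrank_eq_of_push f hdeg _)
  let sec : (Over.mk φ ⟶ Over.mk f) → (X' ⟶ pullback f φ) := fun a =>
    pullback.lift a.left (𝟙 X') ((Over.w a).trans (Category.id_comp φ).symm)
  have hsec : ∀ a, sec a ≫ p = 𝟙 X' := fun a => pullback.lift_snd _ _ _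
  have sec_inj : Function.Injective sec := fun a b h => Over.OverMorphism.ext
    ((pullback.lift_fst _ _ _).symm.trans ((congrArg (· ≫ pullback.fst f φ) h).trans (pullback.lift_fst _ _ _)))
  have hfib : ∀ (Ω : Type u) [Field Ω] [IsAlgClosed Ω] (ξ : Spec (CommRingCat.of Ω) ⟶ X'),
      Finite (FEt.fiberObj ξ Z) ∧ Nat.card (FEt.fiberObj ξ Z) = n ∧ ∀ a b, ξ ≫ sec a = ξ ≫ sec b → a = b := by
    intro Ω _ _ ξ
    refine ⟨fiber_finite ξ Z, (Deg.card_fiber ξ Z).trans (hn _), fun a b h => sec_inj ?_⟩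
    let m : (Over.mk φ ⟶ Over.mk f) → (T ⟶ Z) := fun c => MorphismProperty.Over.homMk (sec c) (hsec c)
    refine congrArg (fun k : T ⟶ Z => k.left) (hom_eq_of_fiber (m a) (m b) ξ ?_)
    ext t
    have ht : t.1 = ξ := (Category.comp_id _).symm.trans t.2
    refine Subtype.ext ?_
    show t.1 ≫ sec a = t.1 ≫ sec b
    rw [ht]; exact h
  let ev : ∀ (Ω : Type u) [Field Ω] (ξ : Spec (CommRingCat.of Ω) ⟶ X'),
      (Over.mk φ ⟶ Over.mk f) → FEt.fiberObj ξ Z := fun Ω _ ξ a =>
    ⟨ξ ≫ sec a, (Category.assoc _ _ _).trans ((congrArg (ξ ≫ ·) (hsec a)).trans (Category.comp_id ξ))⟩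
  obtain ⟨Ω, _, _, ξ, -⟩ := exists_geometric (Classical.arbitrary X')
  obtain ⟨hf, hc, hi⟩ := hfib Ω ξ
  have hev : Function.Injective (ev Ω ξ) := fun a b h => hi a b (congrArg Subtype.val h)
  have hfin : Finite (Over.mk φ ⟶ Over.mk f) := Finite.of_injective _ hev
  have hle : Nat.card (Over.mk φ ⟶ Over.mk f) ≤ n := (Nat.card_le_card_of_injective _ hev).trans hc.le
  refine ⟨hfin, hle, fun hcard => ?_, ?_⟩
  · let eF : Fin n ≃ (Over.mk φ ⟶ Over.mk f) := (finCongr hcard.symm).trans (Finite.equivFin _).symm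
    have hbij : ∀ (Ω' : Type u) [Field Ω'] [IsAlgClosed Ω'] (ξ' : Spec (CommRingCat.of Ω') ⟶ X'),
        (∀ i j, ξ' ≫ sec (eF i) = ξ' ≫ sec (eF j) → i = j) ∧ ∀ t : FEt.fiberObj ξ' Z, ∃ i, ξ' ≫ sec (eF i) = t.1 := by
      intro Ω' _ _ ξ'
      obtain ⟨hf', hc', hi'⟩ := hfib Ω' ξ'
      have hb : Function.Bijective (ev Ω' ξ') := (Nat.bijective_iff_injective_and_card _).2
        ⟨fun a b h => hi' a b (congrArg Subtype.val h), hcard.trans hc'.symm⟩
      exact ⟨fun i j h => eF.injective (hi' _ _ h), fun t => ⟨eF.symm (hb.2 t).choose,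
        (congrArg (fun a => ξ' ≫ sec a) (eF.apply_symm_apply _)).trans (congrArg Subtype.val (hb.2 t).choose_spec)⟩⟩
    obtain ⟨ι, _, e, he⟩ := Deg.split_of_fibre_bijection Z (fun i => sec (eF i)) (fun i => hsec _) hbij
    have hd : e.hom ≫ Sigma.desc (fun _ : ι => 𝟙 X') = p := by
      refine (cancel_epi e.inv).1 (Sigma.hom_ext _ _ fun i => ?_)
      rw [Iso.inv_hom_id_assoc, Sigma.ι_desc]
      exact (he i).symm
    let g : ι → FEt.fiberObj ξ Z := fun i => ⟨(ξ ≫ Sigma.ι (fun _ : ι => X') i) ≫ e.inv, by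
      refine (Category.assoc _ _ _).trans ((Category.assoc _ _ _).trans ?_)
      exact (congrArg (ξ ≫ ·) (he i)).trans (Category.comp_id ξ)⟩
    have hg : Function.Bijective g := by
      refine ⟨fun i j h => ι_ne (ξ default) ?_, fun t => ?_⟩
      · have h' : ξ ≫ Sigma.ι (fun _ : ι => X') i = ξ ≫ Sigma.ι (fun _ : ι => X') j :=
          (cancel_mono e.inv).1 (congrArg Subtype.val h)
        exact congrArg (fun m : Spec (CommRingCat.of Ω) ⟶ ∐ fun _ : ι => X' => m default) h'
      · obtain ⟨i, hi⟩ := pt_sigma Ω ξ (t.1 ≫ e.hom) ((Category.assoc _ _ _).trans ((congrArg (t.1 ≫ ·) hd).trans t.2))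
        exact ⟨i, Subtype.ext ((congrArg (· ≫ e.inv) hi).symm.trans
          ((Category.assoc _ _ _).trans ((congrArg (t.1 ≫ ·) e.hom_inv_id).trans (Category.comp_id _))))⟩
    let q : ι ≃ Fin n := (Equiv.ofBijective g hg).trans ((Finite.equivFin _).trans (finCongr hc))
    refine ⟨e ≪≫ Sigma.whiskerEquiv q (fun _ => Iso.refl X'), ?_⟩
    rw [Iso.trans_hom, Category.assoc]
    refine Eq.trans (congrArg (e.hom ≫ ·) (Sigma.hom_ext _ _ fun i => ?_)) hd
    simp [Sigma.whiskerEquiv]
  · rintro ⟨e, he⟩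
    refine le_antisymm hle ?_
    let s : Fin n → (X' ⟶ pullback f φ) := fun i => Sigma.ι (fun _ : Fin n => X') i ≫ e.inv
    have hs : ∀ i, s i ≫ pullback.snd f φ = 𝟙 X' := fun i => by
      rw [← he]; simp [s]
    let a : Fin n → (Over.mk φ ⟶ Over.mk f) := fun i => Over.homMk (s i ≫ pullback.fst f φ)
      (show (s i ≫ pullback.fst f φ) ≫ f = φ by rw [Category.assoc, pullback.condition, ← Category.assoc, hs, Category.id_comp])
    have ha : ∀ i, sec (a i) = s i := fun i => pullback.hom_ext (pullback.lift_fst _ _ _)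
      ((pullback.lift_snd _ _ _).trans (hs i).symm)
    have hinj : Function.Injective a := fun i j h => by
      have h' : Sigma.ι (fun _ : Fin n => X') i = Sigma.ι (fun _ : Fin n => X') j :=
        (cancel_mono e.inv).1 ((ha i).symm.trans ((congrArg sec h).trans (ha j)))
      exact ι_ne (Classical.arbitrary X') (congrArg (fun m : X' ⟶ ∐ fun _ : Fin n => X' => m _) h')
    simpa using Nat.card_le_card_of_injective a hinj

end Groth.Agent.S18918
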