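import Groth.Statements.S18919
import Groth.Agent.L21.Mod.SpreadIso
import Groth.Agent.L21.PointIdeal
import Groth.Agent.L21.TFNodal.Lattice
import Groth.Agent.L21.Nodal.NodeRegular
import Groth.Agent.L21.NormRed.Nodal
import Groth.Agent.L21.TFNodal.NormIso
import Groth.Agent.L29.LocFree
import Groth.Agent.L16.Devissage
import Groth.Agent.L21.NormRed.RatTree
import Groth.Agent.L21.RR.Twist
import Groth.Agent.L00.StalkFunctor
import Groth.Agent.L16.CohClosedPush
import Groth.Agent.S12460
import Groth.Agent.S2618
import Groth.Agent.L15.Ref.Stalk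

set_option autoImplicit false
set_option backward.isDefEq.respectTransparency false
set_option linter.style.haveILetI false
universe u
open CategoryTheory CategoryTheory.Limits AlgebraicGeometry
open TFNodal

namespace Groth.Agent.S18919

open CategoryTheory CategoryTheory.Limits AlgebraicGeometry TopologicalSpace

variable (k : Type u) [Field k] {X : Scheme.{u}} [X.Over (Spec (CommRingCat.of k))]
  [IsProper (X ↘ Spec (CommRingCat.of k))]

include k in
theorem isOpen_regular : IsOpen {x : X | IsRegularLocalRing (X.presheaf.stalk x)} := by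
  haveI : IsNoetherianRing (CommRingCat.of k) := inferInstanceAs (IsNoetherianRing k)
  refine (Groth.Agent.S12460.result (Spec (CommRingCat.of k))).2.2 (fun x => ?_) X (X ↘ _) inferInstance
  refine ⟨⟨⊤, isAffineOpen_top _⟩, trivial, fun S _ _ hS => ?_⟩
  have hf : IsField Γ(Spec (CommRingCat.of k), ⊤) :=
    (Scheme.ΓSpecIso (CommRingCat.of k)).commRingCatIsoToRingEquiv.toMulEquiv.isField (Field.toIsField k)
  letI := hf.toField
  exact Groth.Agent.S2618.result Γ(Spec (CommRingCat.of k), ⊤) S

theorem finite_nodes [AlgebraicGeometry.IsReduced X] (hdim : topologicalKrullDim X = 1) :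
    {x : X | Curv2.IsNode k X x}.Finite := by
  haveI := Groth.L21.RR.isNoetherian_of_proper (X := X) k
  refine (Groth.L21.TFNodal.Lat.finite_of_closed_points (isOpen_regular k (X := X)).isClosed_compl
    fun z hz => ?_).subset fun x hx => Groth.L21.Nodal.not_isRegularLocalRing_of_isNode x hx
  by_contra hne
  refine hz ?_
  have hf := Groth.L21.TFNodal.isField_stalk_of_nonclosed (Y := X)
    (fun a b c h1 h2 => Groth.L21.RR.Top.spec_of_dim_le_one (X := X.toTopCat) hdim.le a b c h1 h2) hne
  letI := hf.toField
  show IsRegularLocalRing (X.presheaf.stalk z)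
  infer_instance

/-- The stalk of a finite sum. -/
noncomputable def stalkPi {n : ℕ} (M : X.Modules) (x : X) :
    ((⨁ fun _ : Fin n => M : X.Modules).presheaf.stalk x) ≃ₗ[X.presheaf.stalk x] (Fin n → M.presheaf.stalk x) :=
  ((Groth.L00.Stk.F X x).mapBiproduct (fun _ : Fin n => M) ≪≫
    ModuleCat.biproductIsoPi (fun _ : Fin n => (Groth.L00.Stk.F X x).obj M)).toLinearEquiv

/-- The stalk of a sum of two. -/
noncomputable def stalkProd (M N : X.Modules) (x : X) :
    ((M ⊞ N : X.Modules).presheaf.stalk x) ≃ₗ[X.presheaf.stalk x] (M.presheaf.stalk x × N.presheaf.stalk x) :=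
  haveI := preservesBinaryBiproducts_of_preservesBiproducts (Groth.L00.Stk.F X x)
  ((Groth.L00.Stk.F X x).mapBiprod M N ≪≫
    ModuleCat.biprodIsoProd ((Groth.L00.Stk.F X x).obj M) ((Groth.L00.Stk.F X x).obj N)).toLinearEquiv


/-- Let k be an algebraically closed field of characteristic zero, X a connected proper curve over k (a
proper k-scheme of dimension one) whose closed points are smooth points or nodes, and F a coherent
torsion free O_X-module (every stalk a torsion free module over the local ring). Let x be a node at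
which the stalk F_x is isomorphic, as an O_{X,x}-module, to m_x^{⊕a} ⊕ O_{X,x}^{⊕b} (F of type given
by a and b at x). Then there is an open neighbourhood U of x containing no other node such that F|_U
is isomorphic to I|_U^{⊕a} ⊕ O_U^{⊕b}, where I ⊆ O_X is the ideal sheaf of the reduced closed point
x (existence of an isomorphism; the source produces one whose stalk at x is the given one). The
published statement assumes F of uniform multirank r with b = r − a; this row allows any a and b,
the argument being local at x. -/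
theorem result
    (k : Type u) [Field k] [IsAlgClosed k] [CharZero k]
    (X : Scheme.{u}) [X.Over (Spec (CommRingCat.of k))] [IsProper (X ↘ Spec (CommRingCat.of k))]
    [ConnectedSpace X] (hdim : topologicalKrullDim X = 1) (hnod : Curv2.AtWorstNodal k X)
    (F : X.Modules) (hF : Coh.IsCoh F) (htF : TorSh.IsTorsionFree F)
    (x : X) (hx : Curv2.IsNode k X x) (a b : ℕ)
    (hΦ : Nonempty (F.presheaf.stalk x ≃ₗ[X.presheaf.stalk x]
      ((Fin a → IsLocalRing.maximalIdeal (X.presheaf.stalk x)) × (Fin b → X.presheaf.stalk x)))) :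
    ∃ U : X.Opens, x ∈ U ∧ (∀ y ∈ U, Curv2.IsNode k X y → y = x) ∧
      Nonempty (F.restrict U.ι ≅
        (∐ fun _ : Fin a =>
            (ClSub.idealMod (Scheme.IdealSheafData.vanishingIdeal (⟨{x}, hx.1⟩ : TopologicalSpace.Closeds X))).restrict U.ι) ⨿
          (∐ fun _ : Fin b => Coh.structureModule (↑U : Scheme.{u}))) := by
  classical
  haveI := Groth.L21.RR.isNoetherian_of_proper (X := X) k
  haveI := Groth.L21.NormRed.isReduced_of_atWorstNodal k (Groth.L21.NormRed.dim_components k hdim) hnod
  obtain ⟨e⟩ := hΦ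
  let I := ClSub.idealMod (Scheme.IdealSheafData.vanishingIdeal (⟨{x}, hx.1⟩ : TopologicalSpace.Closeds X))
  have hO := Groth.L16.CohClosedPush.isCoh_structure (X := X)
  have hI : Coh.IsCoh I := Groth.L21.RR.isCoh_idealMod _
  let c₁ := biproduct.isoCoproduct fun _ : Fin a => I
  let c₂ := biproduct.isoCoproduct fun _ : Fin b => Coh.structureModule X
  let B : X.Modules := (⨁ fun _ : Fin a => I) ⊞ (⨁ fun _ : Fin b => Coh.structureModule X)
  have hB : Coh.IsCoh B := Groth.L16.Devissage.isCoh_biprod
    (Groth.L16.CohSupport.isCoh_of_iso c₁.symm (Groth.L16.Existence.isCoh_sigma _ fun _ => hI))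
    (Groth.L16.CohSupport.isCoh_of_iso c₂.symm (Groth.L16.Existence.isCoh_sigma _ fun _ => hO))
  let θ : B.presheaf.stalk x ≃ₗ[X.presheaf.stalk x] F.presheaf.stalk x :=
    ((stalkProd _ _ x).trans ((stalkPi I x).prodCongr (stalkPi (Coh.structureModule X) x))).trans
      (((LinearEquiv.piCongrRight fun _ : Fin a => Groth.L21.PointIdeal.equivSelf hx.1).prodCongr
        (LinearEquiv.piCongrRight fun _ : Fin b => (Groth.L15.Ref.strE x).symm)).trans e.symm)
  let S := {y : X | Curv2.IsNode k X y ∧ y ≠ x}
  have hS : IsClosed S := by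
    rw [← Set.biUnion_of_singleton S]
    exact ((finite_nodes k hdim).subset fun y hy => hy.1).isClosed_biUnion fun y hy => hy.1.1
  obtain ⟨U, hxU, hU, ⟨i⟩⟩ := Groth.L21.Mod.exists_iso_restrict_of_stalk hB hF θ
    (U₀ := ⟨Sᶜ, hS.isOpen_compl⟩) (x := x) fun h => h.2 rfl
  refine ⟨U, hxU, fun y hy hn => ?_, ⟨i.symm ≪≫ ?_⟩⟩
  · by_contra hne
    exact hU hy ⟨hn, hne⟩
  · let R := Scheme.Modules.restrictFunctor U.ι
    let eO : (Coh.structureModule X).restrict U.ι ≅ Coh.structureModule (↑U : Scheme.{u}) :=
      (Scheme.Modules.restrictFunctorIsoPullback U.ι).app _ ≪≫ Groth.L29.LocFree.pullbackUnitIso U.ι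
    haveI := preservesBinaryBiproducts_of_preservesBiproducts R
    exact R.mapBiprod _ _ ≪≫ biprod.mapIso
      (R.mapBiproduct (fun _ : Fin a => I) ≪≫ biproduct.isoCoproduct _)
      (R.mapBiproduct (fun _ : Fin b => Coh.structureModule X) ≪≫ biproduct.mapIso (fun _ => eO) ≪≫
        biproduct.isoCoproduct _) ≪≫ biprod.isoCoprod _ _

end Groth.Agent.S18919
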