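import Groth.Statements.S18921
import Groth.Agent.L21.DisjSS.Lines
import Groth.Agent.S18917

set_option autoImplicit false
set_option backward.isDefEq.respectTransparency false
set_option linter.style.haveILetI false
universe u
open CategoryTheory CategoryTheory.Limits AlgebraicGeometry
open VBCurve

namespace Groth.Agent.S18921

/-- Let k be an algebraically closed field of characteristic zero, Y a smooth proper k-scheme of
dimension one, possibly disconnected but with no isolated points (every connected component is a
curve), and L an ample invertible O_Y-module. Say (Y, L) has property P when for any two finite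
locally free O_Y-modules E, F with nowhere-zero stalks (support equal to Y) that are semistable of
dimension one with respect to L, the tensor product E ⊗ F is again semistable. If (Y, L) has
property P then for every connected component U of Y, with j : U → Y the inclusion, O_U =
j_*(O_Y|_U) and L_U = j_*(L|_U), the Euler characteristics over k satisfy χ(O_U) · (χ(L) − χ(O_Y)) =
χ(O_Y) · (χ(L_U) − χ(O_U)); in words, χ(O_U)/deg(L|_U) is the same for all components and equals
χ(O_Y)/deg L. -/
theorem result
    (k : Type u) [Field k] [IsAlgClosed k] [CharZero k]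
    (Y : Scheme.{u}) [Y.Over (Spec (CommRingCat.of k))] [IsProper (Y ↘ Spec (CommRingCat.of k))]
    [Smooth (Y ↘ Spec (CommRingCat.of k))] (hdim : topologicalKrullDim Y = 1)
    (hpure : ∀ y : Y, ¬ IsOpen ({y} : Set Y))
    (L : Y.Modules) (hL : CohB1.IsAmple L)
    (hP : ∀ E F : Y.Modules, FlatMod.IsFinLocFree E → FlatMod.IsFinLocFree F →
      (∀ y : Y, ¬ Subsingleton (E.presheaf.stalk y)) → (∀ y : Y, ¬ Subsingleton (F.presheaf.stalk y)) →
      ShStab.IsSemistable k Y L E 1 → ShStab.IsSemistable k Y L F 1 →
      ShStab.IsSemistable k Y L (CohB1.tensorMod E F) 1)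
    (U : Y.Opens) (hUc : IsClopen (U : Set Y)) (hUconn : _root_.IsConnected (U : Set Y)) :
    Curv2.euler k Y ((Scheme.Modules.pushforward U.ι).obj ((Coh.structureModule Y).restrict U.ι)) *
        (Curv2.euler k Y L - Curv2.euler k Y (Coh.structureModule Y)) =
      Curv2.euler k Y (Coh.structureModule Y) *
        (Curv2.euler k Y ((Scheme.Modules.pushforward U.ι).obj (L.restrict U.ι)) -
          Curv2.euler k Y ((Scheme.Modules.pushforward U.ι).obj ((Coh.structureModule Y).restrict U.ι))) := by
  haveI := Groth.L03.ShStab.Basic.locallyNoetherian (k := k) (X := Y)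
  haveI := Groth.L21.RR.isNoetherian_of_proper (X := Y) k
  haveI := Groth.L21.NormRed.finite_connectedComponents (X := Y)
  haveI : Nonempty Y := ⟨hUconn.nonempty.some⟩
  obtain ⟨D, hD, hD0⟩ := Groth.L21.DisjSS.exists_line_euler_zero k hdim.le hpure
  have hss := Groth.L21.DisjSS.ss_of_euler_zero k hdim.le hpure hL hD hD0
  have hD1 := Groth.L12.FinCov.isFinLocFreeOfRank_one_of_isInvertible hD
  have hDf : FlatMod.IsFinLocFree D := Groth.L22.CurveDeg.isFinLocFree_of_rank hD1
  have hnz : ∀ {M : Y.Modules}, PicF.IsInvertible M → ∀ y, ¬ Subsingleton (M.presheaf.stalk y) := by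
    intro M hM y hs
    obtain ⟨θ⟩ := Groth.L22.CurveDeg.nonempty_stalk_equiv (Groth.L12.FinCov.isFinLocFreeOfRank_one_of_isInvertible hM) y
    haveI := hs
    haveI : Subsingleton (Fin 1 → Y.presheaf.stalk y) := θ.toEquiv.subsingleton
    exact zero_ne_one (congrFun (Subsingleton.elim (fun _ : Fin 1 => (0 : Y.presheaf.stalk y)) 1) 0)
  have hDD := Groth.L18.GenLoc.isInvertible_tensor hD hD
  have hsDD := hP D D hDf hDf (hnz hD) (hnz hD) hss hss
  have hDDf : FlatMod.IsFinLocFree (CohB1.tensorMod D D) :=
    Groth.L22.CurveDeg.isFinLocFree_of_rank (Groth.L12.FinCov.isFinLocFreeOfRank_one_of_isInvertible hDD)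
  have heq := (Groth.Agent.S18917.result k Y hdim L hL _ hDDf hsDD.2.1).1 hsDD
  open Groth.L21.DisjSS in
  have hα : 0 < al k L (CohB1.tensorMod D D) := al_pos k hdim.le hL hsDD.1 hsDD.2.2.1 hsDD.2.1
  open Groth.L21.DisjSS in
  have hO : al k L (Coh.structureModule Y) = Curv2.euler k Y L - Curv2.euler k Y (Coh.structureModule Y) := by
    rw [al, Groth.L21.RR.euler_congr k (Groth.L00.Tensor.tensorUnitLeft L)]
  open Groth.L21.DisjSS in
  have hcomp : ∀ W : Y.Opens, IsClopen (W : Set Y) → _root_.IsConnected (W : Set Y) →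
      Curv2.euler k Y ((part W).obj (Coh.structureModule Y)) * al k L (CohB1.tensorMod D D) =
        - Curv2.euler k Y (CohB1.tensorMod D D) * al k L ((part W).obj (Coh.structureModule Y)) ∧
      al k L ((part W).obj (Coh.structureModule Y)) =
        Curv2.euler k Y ((part W).obj L) - Curv2.euler k Y ((part W).obj (Coh.structureModule Y)) := by
    intro W hW hWc
    have hne : ¬ IsZero ((part W).obj (CohB1.tensorMod D D)) := fun hz => by
      obtain ⟨x, hx⟩ := hWc.nonempty
      haveI := (Groth.L21.Mod.isZero_iff_stalk_subsingleton _).1 hz x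
      exact hnz hDD x ⟨fun a b => (bijective_proj W (CohB1.tensorMod D D) hx).1
        (Subsingleton.elim (α := ((part W).obj (CohB1.tensorMod D D)).presheaf.stalk x) _ _)⟩
    have e := (heq W hW hWc hne).2
    change Curv2.euler k Y ((part W).obj (CohB1.tensorMod D D)) * al k L (CohB1.tensorMod D D) =
      Curv2.euler k Y (CohB1.tensorMod D D) * al k L ((part W).obj (CohB1.tensorMod D D)) at e
    obtain ⟨a, b, -, -, ha, hb, -, -, h3, h4⟩ := tensor_numbers k hdim.le W hW hWc hL.1 hDf hDf (hnz hD) (hnz hD)
    obtain ⟨x, hx⟩ := hWc.nonempty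
    obtain ⟨θ₁⟩ := Groth.L22.CurveDeg.nonempty_stalk_equiv
      (Groth.L12.FinCov.isFinLocFreeOfRank_one_of_isInvertible (Groth.L18.Ample.isInvertible_restrict hD W)) ⟨x, hx⟩
    obtain ⟨θa⟩ := Groth.L22.CurveDeg.nonempty_stalk_equiv ha ⟨x, hx⟩
    obtain ⟨θb⟩ := Groth.L22.CurveDeg.nonempty_stalk_equiv hb ⟨x, hx⟩
    obtain rfl : a = 1 := by simpa using (θa.trans θ₁.symm).finrank_eq
    obtain rfl : b = 1 := by simpa using (θb.trans θ₁.symm).finrank_eq
    have hl : al k L ((part W).obj (Coh.structureModule Y)) =
        Curv2.euler k Y ((part W).obj L) - Curv2.euler k Y ((part W).obj (Coh.structureModule Y)) := by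
      rw [al_part k W hW L (Coh.structureModule Y),
        euler_part_congr W k (Groth.L00.Tensor.tensorUnitLeft L).hom fun y _ =>
          (Groth.L21.Mod.isIso_iff_stalk_bijective _).1 inferInstance y]
    refine ⟨?_, hl⟩
    rw [h4, hD0 W hW hWc, h3, ← hl] at e
    push_cast at e
    linarith
  open Groth.L21.DisjSS in
  have htot : al k L (CohB1.tensorMod D D) * Curv2.euler k Y (Coh.structureModule Y) =
      al k L (Coh.structureModule Y) * (- Curv2.euler k Y (CohB1.tensorMod D D)) := by
    refine le_antisymm (linear_of_components k hL.1 Groth.L16.CohClosedPush.isCoh_structure fun W hW hWc => ?_) ?_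
    · have := (hcomp W hW hWc).1; linarith
    · have h := linear_of_components k (a := - al k L (CohB1.tensorMod D D))
        (b := Curv2.euler k Y (CohB1.tensorMod D D)) hL.1 Groth.L16.CohClosedPush.isCoh_structure fun W hW hWc => by
          have := (hcomp W hW hWc).1; linarith
      linarith
  obtain ⟨e1, e2⟩ := hcomp U hUc hUconn
  rw [hO] at htot
  refine mul_left_cancel₀ hα.ne' ?_
  show Groth.L21.DisjSS.al k L (CohB1.tensorMod D D) *
      (Curv2.euler k Y ((Groth.L21.DisjSS.part U).obj (Coh.structureModule Y)) *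
        (Curv2.euler k Y L - Curv2.euler k Y (Coh.structureModule Y))) =
    Groth.L21.DisjSS.al k L (CohB1.tensorMod D D) *
      (Curv2.euler k Y (Coh.structureModule Y) *
        (Curv2.euler k Y ((Groth.L21.DisjSS.part U).obj L) -
          Curv2.euler k Y ((Groth.L21.DisjSS.part U).obj (Coh.structureModule Y))))
  rw [← e2]
  linear_combination (Curv2.euler k Y L - Curv2.euler k Y (Coh.structureModule Y)) * e1 -
    Groth.L21.DisjSS.al k L ((Groth.L21.DisjSS.part U).obj (Coh.structureModule Y)) * htot

end Groth.Agent.S18921
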