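import Groth.Statements.S18922
import Groth.Agent.L21.TFNodal.Basic
import Groth.Agent.L21.RR.Coh

set_option autoImplicit false
set_option backward.isDefEq.respectTransparency false
universe u
open CategoryTheory CategoryTheory.Limits AlgebraicGeometry
open TFNodal

namespace Groth.Agent.S18922

/-- Let k be an algebraically closed field of characteristic zero, X a reduced proper curve over k (a
proper k-scheme of dimension one) and F a coherent torsion free O_X-module (every stalk a torsion
free module over the local ring). Let x be a point of X and U an open subset containing x such that
every irreducible component of U passes through x, that is, every point of U whose local ring is a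
field specializes to x. Then the map from the sections of F over U to the stalk F_x is injective.
(The source states this for x a node of a connected nodal curve and U inside the union of the
irreducible components through x, meeting no other node.) -/
theorem result
    (k : Type u) [Field k] [IsAlgClosed k] [CharZero k]
    (X : Scheme.{u}) [X.Over (Spec (CommRingCat.of k))] [IsProper (X ↘ Spec (CommRingCat.of k))]
    [AlgebraicGeometry.IsReduced X] (hdim : topologicalKrullDim X = 1)
    (F : X.Modules) (hF : Coh.IsCoh F) (htF : TorSh.IsTorsionFree F)
    (x : X) (U : X.Opens) (hxU : x ∈ U)
    (hU : ∀ y : X, y ∈ U → IsField (X.presheaf.stalk y) → x ∈ closure ({y} : Set X)) :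
    Function.Injective (F.presheaf.germ U x hxU) := by
  haveI := Groth.L21.RR.isNoetherian_of_proper (X := X) k
  haveI : Coh.IsQCoh F := hF.1
  exact Groth.L21.TFNodal.germ_injective F htF x U hxU hU

end Groth.Agent.S18922
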