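import Groth.Statements.S18923
import Groth.Agent.L21.DisjSS.Tensor
import Groth.Agent.S18917

set_option autoImplicit false
set_option backward.isDefEq.respectTransparency false
set_option linter.style.haveILetI false
universe u
open CategoryTheory CategoryTheory.Limits AlgebraicGeometry
open VBCurve

namespace Groth.Agent.S18923

/-- Let k be an algebraically closed field of characteristic zero, Y a smooth proper k-scheme of
dimension one, possibly disconnected but with no isolated points, and L an ample invertible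
O_Y-module such that for every connected component U of Y, with j : U → Y, O_U = j_*(O_Y|_U) and L_U
= j_*(L|_U), one has χ(O_U) · (χ(L) − χ(O_Y)) = χ(O_Y) · (χ(L_U) − χ(O_U)) (all correction terms of
the components vanish). Let E and F be finite locally free O_Y-modules with nowhere-zero stalks,
both semistable of dimension one with respect to L, and write α(M) = χ(M ⊗ L) − χ(M). Then χ(E ⊗
F)/α(E ⊗ F) = χ(E)/α(E) + χ(F)/α(F) − χ(O_Y)/(χ(L) − χ(O_Y)) as rational numbers; equivalently the
slope of E ⊗ F is the sum of the slopes of E and F. The published statement speaks of any two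
semistable locally free sheaves; this row takes E and F with nowhere-zero stalks (support all of Y),
without which E ⊗ F can be zero and the slopes undefined. -/
theorem result
    (k : Type u) [Field k] [IsAlgClosed k] [CharZero k]
    (Y : Scheme.{u}) [Y.Over (Spec (CommRingCat.of k))] [IsProper (Y ↘ Spec (CommRingCat.of k))]
    [Smooth (Y ↘ Spec (CommRingCat.of k))] (hdim : topologicalKrullDim Y = 1)
    (hpure : ∀ y : Y, ¬ IsOpen ({y} : Set Y))
    (L : Y.Modules) (hL : CohB1.IsAmple L)
    (hB : ∀ U : Y.Opens, IsClopen (U : Set Y) → _root_.IsConnected (U : Set Y) →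
      Curv2.euler k Y ((Scheme.Modules.pushforward U.ι).obj ((Coh.structureModule Y).restrict U.ι)) * (Curv2.euler k Y L - Curv2.euler k Y (Coh.structureModule Y)) =
        Curv2.euler k Y (Coh.structureModule Y) * (Curv2.euler k Y ((Scheme.Modules.pushforward U.ι).obj (L.restrict U.ι)) - Curv2.euler k Y ((Scheme.Modules.pushforward U.ι).obj ((Coh.structureModule Y).restrict U.ι))))
    (E F : Y.Modules) (hE : FlatMod.IsFinLocFree E) (hF : FlatMod.IsFinLocFree F)
    (hE0 : ∀ y : Y, ¬ Subsingleton (E.presheaf.stalk y)) (hF0 : ∀ y : Y, ¬ Subsingleton (F.presheaf.stalk y))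
    (hEs : ShStab.IsSemistable k Y L E 1) (hFs : ShStab.IsSemistable k Y L F 1) :
    ((Curv2.euler k Y (CohB1.tensorMod E F) : ℚ) /
        ((Curv2.euler k Y (CohB1.tensorMod (CohB1.tensorMod E F) L) - Curv2.euler k Y (CohB1.tensorMod E F) : ℤ) : ℚ)) =
      (Curv2.euler k Y E : ℚ) / ((Curv2.euler k Y (CohB1.tensorMod E L) - Curv2.euler k Y E : ℤ) : ℚ) +
        (Curv2.euler k Y F : ℚ) / ((Curv2.euler k Y (CohB1.tensorMod F L) - Curv2.euler k Y F : ℤ) : ℚ) -
        (Curv2.euler k Y (Coh.structureModule Y) : ℚ) /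
          ((Curv2.euler k Y L - Curv2.euler k Y (Coh.structureModule Y) : ℤ) : ℚ) := by
  haveI := Groth.L03.ShStab.Basic.locallyNoetherian (k := k) (X := Y)
  haveI := Groth.L21.RR.isNoetherian_of_proper (X := Y) k
  haveI := Groth.L21.NormRed.finite_connectedComponents (X := Y)
  have hne : ∀ {G : Y.Modules}, ShStab.IsSemistable k Y L G 1 → ¬ IsZero G := fun h => h.2.1
  have hEc : Coh.IsCoh E := Groth.L16.NegPow.isCoh_of_isFinLocFree hE
  have hFc : Coh.IsCoh F := Groth.L16.NegPow.isCoh_of_isFinLocFree hF
  have hEFc : Coh.IsCoh (CohB1.tensorMod E F) := by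
    haveI := hEc.1
    haveI := hFc.1
    exact ⟨Groth.L00.Tensor.isQCoh_tensorMod _ _, Groth.L00.Tensor.isFT_tensorMod _ _ hEc.2 hFc.2⟩
  open Groth.L21.DisjSS in
  have hO : al k L (Coh.structureModule Y) = Curv2.euler k Y L - Curv2.euler k Y (Coh.structureModule Y) := by
    rw [al, Groth.L21.RR.euler_congr k (Groth.L00.Tensor.tensorUnitLeft L)]
  open Groth.L21.DisjSS in
  have hpart : ∀ U : Y.Opens, IsClopen (U : Set Y) → _root_.IsConnected (U : Set Y) →
      ¬ IsZero ((part U).obj E) ∧ ¬ IsZero ((part U).obj F) := by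
    intro U hU hUc
    obtain ⟨x, hx⟩ := hUc.nonempty
    have : ∀ G : Y.Modules, (∀ y, ¬ Subsingleton (G.presheaf.stalk y)) → ¬ IsZero ((part U).obj G) := fun G hG hz => by
      haveI := (Groth.L21.Mod.isZero_iff_stalk_subsingleton _).1 hz x
      exact hG x ⟨fun a b => (bijective_proj U G hx).1 (Subsingleton.elim (α := ((part U).obj G).presheaf.stalk x) _ _)⟩
    exact ⟨this E hE0, this F hF0⟩
  open Groth.L21.DisjSS in
  have hαE : 0 < al k L E := al_pos k hdim.le hL hEc hEs.2.2.1 hEs.2.1
  open Groth.L21.DisjSS in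
  have hαF : 0 < al k L F := al_pos k hdim.le hL hFc hFs.2.2.1 hFs.2.1
  have hEU := (Groth.Agent.S18917.result k Y hdim L hL E hE hEs.2.1).1 hEs
  have hFU := (Groth.Agent.S18917.result k Y hdim L hL F hF hFs.2.1).1 hFs
  open Groth.L21.DisjSS in
  have hnum : ∀ U : Y.Opens, IsClopen (U : Set Y) → _root_.IsConnected (U : Set Y) →
      0 < al k L ((part U).obj (CohB1.tensorMod E F)) ∧ 0 < al k L ((part U).obj (Coh.structureModule Y)) ∧
      al k L E * al k L F * al k L (Coh.structureModule Y) * Curv2.euler k Y ((part U).obj (CohB1.tensorMod E F)) =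
        al k L ((part U).obj (CohB1.tensorMod E F)) *
          (Curv2.euler k Y E * al k L F * al k L (Coh.structureModule Y) +
            al k L E * Curv2.euler k Y F * al k L (Coh.structureModule Y) -
            al k L E * al k L F * Curv2.euler k Y (Coh.structureModule Y)) := by
    intro U hU hUc
    obtain ⟨nE, nF⟩ := hpart U hU hUc
    obtain ⟨hssE, eE⟩ := hEU U hU hUc nE
    obtain ⟨hssF, eF⟩ := hFU U hU hUc nF
    have pE := al_pos k hdim.le hL (isCoh_part U hU hEc) hssE.2.2.1 nE
    obtain ⟨a, b, ha, hb, -, -, aE, aF, aEF, cEF⟩ := tensor_numbers k hdim.le U hU hUc hL.1 hE hF hE0 hF0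
    change Curv2.euler k Y ((part U).obj E) * al k L E = Curv2.euler k Y E * al k L ((part U).obj E) at eE
    change Curv2.euler k Y ((part U).obj F) * al k L F = Curv2.euler k Y F * al k L ((part U).obj F) at eF
    have eO : Curv2.euler k Y ((part U).obj (Coh.structureModule Y)) * al k L (Coh.structureModule Y) =
        Curv2.euler k Y (Coh.structureModule Y) *
          (Curv2.euler k Y ((part U).obj L) - Curv2.euler k Y ((part U).obj (Coh.structureModule Y))) := by
      rw [hO]
      exact hB U hU hUc
    rw [aE] at eE pE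
    rw [aF] at eF
    have hl := (pos_iff_pos_of_mul_pos pE).1 (by exact_mod_cast ha)
    rw [aEF, cEF, al_part k U hU L (Coh.structureModule Y),
      euler_part_congr U k (Groth.L00.Tensor.tensorUnitLeft L).hom fun x _ =>
        (Groth.L21.Mod.isIso_iff_stalk_bijective _).1 inferInstance x]
    refine ⟨mul_pos (by exact_mod_cast Nat.mul_pos ha hb) hl, hl, ?_⟩
    push_cast
    linear_combination (b : ℤ) * al k L F * al k L (Coh.structureModule Y) * eE +
      (a : ℤ) * al k L E * al k L (Coh.structureModule Y) * eF - (a : ℤ) * b * al k L E * al k L F * eO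
  open Groth.L21.DisjSS in
  have hposs : 0 < al k L (CohB1.tensorMod E F) ∧ 0 < al k L (Coh.structureModule Y) := by
    obtain ⟨x⟩ : Nonempty Y := by
      by_contra h
      exact hEs.2.1 ((Groth.L21.Mod.isZero_iff_stalk_subsingleton _).2 fun y => absurd ⟨y⟩ h)
    let U : Y.Opens := ⟨connectedComponent x, (isClopen_connectedComponent x).2⟩
    have hU : IsClopen (U : Set Y) := isClopen_connectedComponent x
    obtain ⟨h1, h2, -⟩ := hnum U hU isConnected_connectedComponent
    exact ⟨al_pos_of_part k hdim.le hL hEFc U hU h1,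
      al_pos_of_part k hdim.le hL Groth.L16.CohClosedPush.isCoh_structure U hU h2⟩
  open Groth.L21.DisjSS in
  have hsum : al k L E * al k L F * al k L (Coh.structureModule Y) * Curv2.euler k Y (CohB1.tensorMod E F) =
      al k L (CohB1.tensorMod E F) * (Curv2.euler k Y E * al k L F * al k L (Coh.structureModule Y) +
        al k L E * Curv2.euler k Y F * al k L (Coh.structureModule Y) -
        al k L E * al k L F * Curv2.euler k Y (Coh.structureModule Y)) := by
    refine le_antisymm (linear_of_components k hL.1 hEFc fun U hU hUc => (hnum U hU hUc).2.2.le) ?_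
    have h := linear_of_components k (a := -(al k L E * al k L F * al k L (Coh.structureModule Y)))
      (b := -(Curv2.euler k Y E * al k L F * al k L (Coh.structureModule Y) +
        al k L E * Curv2.euler k Y F * al k L (Coh.structureModule Y) -
        al k L E * al k L F * Curv2.euler k Y (Coh.structureModule Y))) hL.1 hEFc fun U hU hUc => by
      rw [neg_mul, mul_neg, (hnum U hU hUc).2.2]
    rw [neg_mul, mul_neg] at h
    exact neg_le_neg_iff.1 h
  open Groth.L21.DisjSS in
  show (Curv2.euler k Y (CohB1.tensorMod E F) : ℚ) / (al k L (CohB1.tensorMod E F) : ℚ) =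
      (Curv2.euler k Y E : ℚ) / (al k L E : ℚ) + (Curv2.euler k Y F : ℚ) / (al k L F : ℚ) -
        (Curv2.euler k Y (Coh.structureModule Y) : ℚ) / ((Curv2.euler k Y L - Curv2.euler k Y (Coh.structureModule Y) : ℤ) : ℚ)
  rw [← hO]
  have q := congrArg (fun z : ℤ => (z : ℚ)) hsum
  push_cast at q
  have q1 : (Groth.L21.DisjSS.al k L E : ℚ) ≠ 0 := by exact_mod_cast hαE.ne'
  have q2 : (Groth.L21.DisjSS.al k L F : ℚ) ≠ 0 := by exact_mod_cast hαF.ne'
  have q3 : (Groth.L21.DisjSS.al k L (Coh.structureModule Y) : ℚ) ≠ 0 := by exact_mod_cast hposs.2.ne'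
  have q4 : (Groth.L21.DisjSS.al k L (CohB1.tensorMod E F) : ℚ) ≠ 0 := by exact_mod_cast hposs.1.ne'
  field_simp
  linear_combination q

end Groth.Agent.S18923
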