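import Groth.Statements.S18924
import Groth.Agent.L14.ResHyp.Count

set_option autoImplicit false
universe u
open ResHyp

namespace Groth.Agent.S18924

/-- Let F be a finite field with q elements and let n ≥ 3 be odd. Count the pairs (f, g) where f is a
binary quadratic form and g a binary form of degree n over F, recorded by their coefficient vectors
of lengths 3 and n + 1 (leading coefficients may vanish), whose resultant — the Sylvester
determinant of the two coefficient vectors with size parameters 2 and n — equals 1. The number of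
such pairs is q ^ (n + 3) - q ^ (n + 1). (The published statement gives q ^ (n + 3) + q ^ (n + 1);
for q = 3 and n = 3 the count is 648, not 810.) -/
theorem result (F : Type u) [Field F] [Fintype F] (n : ℕ)
    (hn : Odd n) (h3 : 3 ≤ n) :
    Nat.card {p : (Fin 3 → F) × (Fin (n + 1) → F) //
      Polynomial.resultant (∑ i : Fin 3, Polynomial.C (p.1 i) * Polynomial.X ^ (i : ℕ))
        (∑ j : Fin (n + 1), Polynomial.C (p.2 j) * Polynomial.X ^ (j : ℕ)) 2 n = 1} =
      Fintype.card F ^ (n + 3) - Fintype.card F ^ (n + 1) := by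
  classical
  refine (Groth.L14.ResHyp.count n (by omega) (fun x : F => x = 1) zero_ne_one).trans ?_
  have hq := Fintype.one_lt_card (α := F)
  have ht : ∑ x : F, Groth.L14.ResHyp.ind (fun x : F => x = 1) x = (1 : ℕ) := by
    simp [Groth.L14.ResHyp.ind, Finset.sum_ite_eq']
  obtain ⟨j, rfl⟩ := hn
  have hM : ∑ c : F, ∑ s, Groth.L14.ResHyp.ind (fun x : F => x = 1) (c ^ (2 * j + 1) * s ^ 2) = Fintype.card F - 1 := by
    have h1 : ∀ c : F, ∑ s, Groth.L14.ResHyp.ind (fun x : F => x = 1) (c ^ (2 * j + 1) * s ^ 2) = ∑ w, Groth.L14.ResHyp.ind (fun x : F => x = 1) (c * w ^ 2) := by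
      intro c
      by_cases hc : c = 0
      · simp [hc]
      · exact Fintype.sum_equiv (Equiv.mulLeft₀ (c ^ j) (pow_ne_zero _ hc)) _ _ fun s => congrArg _ (show _ = c * (c ^ j * s) ^ 2 by ring)
    rw [Finset.sum_congr rfl fun c _ => h1 c, Finset.sum_comm]
    have h2 : ∀ w : F, ∑ c, Groth.L14.ResHyp.ind (fun x : F => x = 1) (c * w ^ 2) = if w = 0 then 0 else 1 := by
      intro w
      by_cases hw : w = 0
      · simp [hw, Groth.L14.ResHyp.ind]
      · rw [if_neg hw, ← ht]
        exact Fintype.sum_equiv (Equiv.mulRight₀ (w ^ 2) (pow_ne_zero _ hw)) _ _ fun c => rfl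
    rw [Finset.sum_congr rfl fun w _ => h2 w, Groth.L14.ResHyp.sum_ne_zero, mul_one]
  rw [ht, hM]
  obtain ⟨r, hr⟩ : ∃ r, Fintype.card F = r + 1 := ⟨Fintype.card F - 1, by omega⟩
  rw [hr, Nat.add_sub_cancel, pow_add _ (2 * j + 1) 3, pow_succ _ (2 * j + 1), ← Nat.mul_sub, mul_assoc]
  congr 1
  rw [eq_comm, Nat.sub_eq_iff_eq_add (Nat.le_self_pow (by norm_num) _)]
  ring

end Groth.Agent.S18924
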