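import Groth.Statements.S18925
import Groth.Agent.L14.ResHyp.Count

set_option autoImplicit false
universe u
open ResHyp

namespace Groth.Agent.S18925

/-- Let F be a finite field with q elements and let n ≥ 2. Count the pairs (f, g) where f is a binary
quadratic form and g a binary form of degree n over F, recorded by their coefficient vectors of
lengths 3 and n + 1 (leading coefficients may vanish), whose resultant — the Sylvester determinant
of the two coefficient vectors with size parameters 2 and n — is nonzero, i.e. f and g have no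
common zero on the projective line. The number of such pairs is q ^ (n + 4) - q ^ (n + 3) - q ^ (n +
2) + q ^ (n + 1). (The source's result is the compactly supported ℓ-adic cohomology of this locus:
one-dimensional of Tate weights n + 4, n + 3, n + 2, n + 1 in degrees 2n + 8, 2n + 7, 2n + 5, 2n + 4
and zero elsewhere; this row keeps only the resulting point count.) -/
theorem result (F : Type u) [Field F] [Fintype F] (n : ℕ) (h2 : 2 ≤ n) :
    Nat.card {p : (Fin 3 → F) × (Fin (n + 1) → F) //
      Polynomial.resultant (∑ i : Fin 3, Polynomial.C (p.1 i) * Polynomial.X ^ (i : ℕ))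
        (∑ j : Fin (n + 1), Polynomial.C (p.2 j) * Polynomial.X ^ (j : ℕ)) 2 n ≠ 0} =
      Fintype.card F ^ (n + 4) - Fintype.card F ^ (n + 3) - Fintype.card F ^ (n + 2) + Fintype.card F ^ (n + 1) := by
  classical
  refine (Groth.L14.ResHyp.count n (by omega) (fun x : F => x ≠ 0) (fun h => h rfl)).trans ?_
  have hq := Fintype.one_lt_card (α := F)
  have hi : ∀ x : F, Groth.L14.ResHyp.ind (fun x : F => x ≠ 0) x = if x = 0 then 0 else 1 := fun x => by
    by_cases h : x = 0 <;> simp [Groth.L14.ResHyp.ind, h]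
  have hM : ∀ c s : F, Groth.L14.ResHyp.ind (fun x : F => x ≠ 0) (c ^ n * s ^ 2) = if c = 0 then 0 else if s = 0 then 0 else 1 := by
    intro c s
    rw [hi]
    by_cases hc : c = 0 <;> by_cases hs : s = 0 <;> simp [hc, hs, show n ≠ 0 by omega]
  have hMc : ∀ c : F, ∑ s, Groth.L14.ResHyp.ind (fun x : F => x ≠ 0) (c ^ n * s ^ 2) = if c = 0 then 0 else (Fintype.card F - 1) := by
    intro c
    simp only [hM]
    by_cases hc : c = 0
    · simp [hc]
    · simp only [hc, if_false, Groth.L14.ResHyp.sum_ne_zero, mul_one]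
  rw [Finset.sum_congr rfl fun c _ => hMc c]
  simp only [hi, Groth.L14.ResHyp.sum_ne_zero, mul_one]
  obtain ⟨r, hr⟩ : ∃ r, Fintype.card F = r + 1 := ⟨Fintype.card F - 1, by omega⟩
  rw [hr, Nat.add_sub_cancel]
  have h1 : (r + 1) ^ (n + 4) = (r + 1) ^ n * (r + 1) ^ 4 := pow_add _ _ _
  have h2 : (r + 1) ^ (n + 3) = (r + 1) ^ n * (r + 1) ^ 3 := pow_add _ _ _
  have h3 : (r + 1) ^ (n + 2) = (r + 1) ^ n * (r + 1) ^ 2 := pow_add _ _ _
  have h4 : (r + 1) ^ (n + 1) = (r + 1) ^ n * (r + 1) := pow_succ _ _
  rw [h1, h2, h3, h4, ← Nat.mul_sub, ← Nat.mul_sub, ← Nat.mul_add, mul_assoc]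
  congr 1
  have : (r + 1) ^ 4 = (r + 1) ^ 3 + (r + 1) ^ 2 + ((r + 1 + 1) * (r ^ 2 * r + r * r) - (r + 1)) := by
    have h : (r + 1) ≤ (r + 1 + 1) * (r ^ 2 * r + r * r) := by
      have : 1 ≤ r := by omega
      nlinarith
    zify [h]; ring
  have h : (r + 1) ≤ (r + 1 + 1) * (r ^ 2 * r + r * r) := by
    have : 1 ≤ r := by omega
    nlinarith
  omega

end Groth.Agent.S18925
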