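import Groth.Statements.S18926
import Groth.Agent.L02.PicUnion.ConstFun
import Groth.Agent.L16.Connected.Fibre
import Groth.Agent.L23.SchDense
import Groth.Agent.L19.ZClos.Criteria
import Groth.Agent.L16.SectCmp.Basic
import Groth.Agent.L21.RR.Sections
import Groth.Agent.L20.DescLocus.AppIsoH0

set_option autoImplicit false
universe u
open FinCov

set_option backward.isDefEq.respectTransparency.types false
set_option linter.style.haveILetI false
set_option backward.isDefEq.respectTransparency false
namespace Groth.Agent.S18926

open CategoryTheory CategoryTheory.Limits AlgebraicGeometry in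
/-- Let k be a field, Y a proper, geometrically connected and geometrically reduced scheme over k, and ρ
: X ⟶ Y a finite, flat and surjective morphism. If the zeroth cohomology group of the cokernel of
the O_Y-module map O_Y ⟶ ρ_* O_X has at most one element, then X is geometrically connected over k.
(The published statement assumes Y projective and takes for X one of the finite locally free
Gorenstein covers of degree 3, 4 or 5 that it constructs, with the cokernel identified with a dual
vector bundle; this row assumes only that ρ is finite, flat and surjective and that Y is proper.) -/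
theorem result
    (k : Type u) [Field k] (X Y : Scheme.{u}) (g : Y ⟶ Spec (CommRingCat.of k)) (ρ : X ⟶ Y)
    [IsProper g] [GeometricallyConnected g] [GeometricallyReduced g]
    [IsFinite ρ] [Flat ρ] [Surjective ρ]
    (h0 : Subsingleton (Coh.HH Y (cokernel (ClSub.unitToPush ρ)) 0)) :
    GeometricallyConnected (ρ ≫ g) := by
  haveI : IsProper (ρ ≫ g) := inferInstance
  haveI : Flat g := inferInstance
  haveI : LocallyOfFinitePresentation g := inferInstance
  have hg : Function.Bijective g.appTop := Groth.L02.PicUnion.bijective_appTop_of_geometric g g.surjective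
  haveI : Mono (ClSub.unitToPush ρ) := Groth.L19.ZClos.mono_of_app_injective _ fun V =>
    Groth.L23.app_injective_of_flat_surjective ρ V
  let S : ShortComplex Y.Modules :=
    ShortComplex.mk (ClSub.unitToPush ρ) (Limits.cokernel.π _) (Limits.cokernel.condition _)
  have hS : S.ShortExact :=
    { exact := ShortComplex.exact_of_g_is_cokernel _ (Limits.cokernelIsCokernel _) }
  haveI : Subsingleton Γ(Limits.cokernel (ClSub.unitToPush ρ), ⊤) :=
    (Groth.L21.RR.e0 (Limits.cokernel (ClSub.unitToPush ρ))).symm.toEquiv.subsingleton
  have hρ : Function.Bijective (ρ.app ⊤) := ⟨Groth.L23.app_injective_of_flat_surjective ρ ⊤, fun t => by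
    obtain ⟨s, hs⟩ := Groth.L16.SectCmp.exists_of_app_eq_zero hS ⊤ t (Subsingleton.elim _ _)
    exact ⟨s, hs⟩⟩
  refine Groth.L16.Connected.geometricallyConnected (ρ ≫ g) fun U =>
    Groth.L20.DescLocus.isIso_app_of_appTop (ρ ≫ g) ?_ U
  show Function.Bijective ((ρ.app ⊤) ∘ g.appTop)
  exact hρ.comp hg

end Groth.Agent.S18926
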