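import Groth.Statements.S18927
import Mathlib.LinearAlgebra.CliffordAlgebra.Contraction
import Mathlib.LinearAlgebra.StdBasis

set_option autoImplicit false
universe u v
open W4c6secantcecovers

namespace Groth.Agent.S18927

open TensorProduct in
/-- Let R be a commutative ring, E = R^r the free module with its coordinate basis, S = R[X_1, …, X_r]
(the symmetric algebra of E), and N an R-module carrying R-linear operators φ_j (the action of the
j-th basis vector of E) and an R-bilinear form β with β(φ_j n, m) = β(n, φ_j m) for every j. On (ΛE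
⊗ S) ⊗ N — all terms Λ^k(S ⊗ E) ⊗ N of the Scheja–Storch complex at once — let δ be the differential
sending (e_1 ∧ ⋯ ∧ e_k) ⊗ s ⊗ n to Σ_i (-1)^(i-1) (e_1 ∧ ⋯ ê_i ⋯ ∧ e_k) ⊗ x(e_i) s ⊗ n + Σ_i (-1)^i
(e_1 ∧ ⋯ ê_i ⋯ ∧ e_k) ⊗ s ⊗ e_i · n, and pair a term u = ω ⊗ s ⊗ n of degree k with v = η ⊗ t ⊗ m by
⟨u, v⟩_k = (-1)^(k choose 2) β(n, m) · (ω ∧ η) ⊗ s t. Then the differential is adjoint to itself for
this pairing in complementary degrees: for u = (e_0 ∧ ⋯ ∧ e_k) ⊗ s ⊗ n of degree k + 1 ≤ r and v =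
(f_1 ∧ ⋯ ∧ f_(r-k)) ⊗ t ⊗ m of degree r - k, ⟨δ u, v⟩_k = ⟨u, δ v⟩_(k+1). (The source takes E
finitely generated projective and N a module over the ambient algebra with a pairing satisfying ⟨f,
g h⟩ = ⟨g f, h⟩; the proof runs on a basis, which is the form stated here, with the action of E
recorded by the operators φ_j.) -/
theorem result
    (R : Type u) [CommRing R] (r : ℕ) (N : Type v) [AddCommGroup N] [Module R N]
    (φ : Fin r → (N →ₗ[R] N)) (β : N →ₗ[R] N →ₗ[R] R)
    (hβ : ∀ (j : Fin r) (n m : N), β (φ j n) m = β n (φ j m))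
    (k : ℕ) (hk : k < r)
    (e : Fin (k + 1) → (Fin r → R)) (f : Fin (r - k) → (Fin r → R))
    (s t : MvPolynomial (Fin r) R) (n m : N) :
    W4c6secantcecovers.ssPair R r N β k
        (W4c6secantcecovers.ssDelta R r N φ ((ExteriorAlgebra.ιMulti R (k + 1) e ⊗ₜ[R] s) ⊗ₜ[R] n))
        ((ExteriorAlgebra.ιMulti R (r - k) f ⊗ₜ[R] t) ⊗ₜ[R] m) =
      W4c6secantcecovers.ssPair R r N β (k + 1)
        ((ExteriorAlgebra.ιMulti R (k + 1) e ⊗ₜ[R] s) ⊗ₜ[R] n)
        (W4c6secantcecovers.ssDelta R r N φ ((ExteriorAlgebra.ιMulti R (r - k) f ⊗ₜ[R] t) ⊗ₜ[R] m)) := by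
  have hmul : ∀ (j : Fin r) (l : ℕ) (w : Fin l → (Fin r → R)) (η : W4c6secantcecovers.SSLam R r),
      W4c6secantcecovers.ssContr R r j (ExteriorAlgebra.ιMulti R l w * η) =
        W4c6secantcecovers.ssContr R r j (ExteriorAlgebra.ιMulti R l w) * η +
          (-1 : R) ^ l • (ExteriorAlgebra.ιMulti R l w * W4c6secantcecovers.ssContr R r j η) := by
    intro j l
    induction l with
    | zero =>
      intro w η
      rw [ExteriorAlgebra.ιMulti_zero_apply, one_mul, one_mul, pow_zero, one_smul]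
      unfold W4c6secantcecovers.ssContr
      erw [CliffordAlgebra.contractLeft_one, zero_mul, zero_add]
    | succ l ih =>
      intro w η
      rw [ExteriorAlgebra.ιMulti_succ_apply, mul_assoc]
      have hc : ∀ b : W4c6secantcecovers.SSLam R r, W4c6secantcecovers.ssContr R r j (ExteriorAlgebra.ι R (w 0) * b) =
          w 0 j • b - ExteriorAlgebra.ι R (w 0) * W4c6secantcecovers.ssContr R r j b :=
        fun b => CliffordAlgebra.contractLeft_ι_mul (Q := (0 : QuadraticForm R (Fin r → R))) (d := LinearMap.proj j) (w 0) b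
      rw [hc, hc, ih]
      rw [sub_mul, smul_mul_assoc, mul_add, mul_assoc, mul_assoc, mul_smul_comm, pow_succ, mul_neg_one, neg_smul]
      abel
  have hzero : ∀ (a b : ℕ) (w : Fin a → (Fin r → R)) (w' : Fin b → (Fin r → R)), r < a + b →
      ExteriorAlgebra.ιMulti R a w * ExteriorAlgebra.ιMulti R b w' = 0 := by
    intro a b w w' hab
    have h0 : (ExteriorAlgebra.ιMulti R (a + b) : (Fin r → R) [⋀^Fin (a + b)]→ₗ[R] _) = 0 :=
      (Pi.basisFun R (Fin r)).ext_alternating fun v hv =>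
        absurd (Fintype.card_le_of_injective v hv) (by simp; omega)
    have := DFunLike.congr_fun h0 (Fin.append w w')
    rw [AlternatingMap.zero_apply, ExteriorAlgebra.ιMulti_apply] at this
    rw [ExteriorAlgebra.ιMulti_apply, ExteriorAlgebra.ιMulti_apply, ← List.prod_append, ← List.ofFn_fin_append, ← this]
    congr 2
    funext i
    refine Fin.addCases (fun i => ?_) (fun i => ?_) i <;> simp
  have hswap : ∀ j : Fin r,
      W4c6secantcecovers.ssContr R r j (ExteriorAlgebra.ιMulti R (k + 1) e) * ExteriorAlgebra.ιMulti R (r - k) f =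
        (-1 : R) ^ k • (ExteriorAlgebra.ιMulti R (k + 1) e * W4c6secantcecovers.ssContr R r j (ExteriorAlgebra.ιMulti R (r - k) f)) := by
    intro j
    have h := hmul j (k + 1) e (ExteriorAlgebra.ιMulti R (r - k) f)
    rw [hzero _ _ e f (by omega), map_zero] at h
    rw [eq_comm, add_eq_zero_iff_eq_neg, pow_succ, mul_neg_one, neg_smul, neg_neg] at h
    exact h
  have hpair : ∀ (l : ℕ) (ω η : W4c6secantcecovers.SSLam R r) (p q : MvPolynomial (Fin r) R) (a b : N),
      W4c6secantcecovers.ssPair R r N β l ((ω ⊗ₜ[R] p) ⊗ₜ[R] a) ((η ⊗ₜ[R] q) ⊗ₜ[R] b) =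
        (-1 : R) ^ (l.choose 2) • β a b • ((ω * η) ⊗ₜ[R] (p * q)) := by
    intro l ω η p q a b
    simp [W4c6secantcecovers.ssPair, W4c6secantcecovers.ssPairAux, Algebra.TensorProduct.tmul_mul_tmul]
  have hδ : ∀ (ω : W4c6secantcecovers.SSLam R r) (p : MvPolynomial (Fin r) R) (a : N),
      W4c6secantcecovers.ssDelta R r N φ ((ω ⊗ₜ[R] p) ⊗ₜ[R] a) =
        ∑ j : Fin r, ((W4c6secantcecovers.ssContr R r j ω ⊗ₜ[R] (MvPolynomial.X j * p)) ⊗ₜ[R] a +
          (-1 : R) • ((W4c6secantcecovers.ssContr R r j ω ⊗ₜ[R] p) ⊗ₜ[R] φ j a)) := by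
    intro ω p a
    simp [W4c6secantcecovers.ssDelta, W4c6secantcecovers.ssDKoszul, W4c6secantcecovers.ssDAct]
  rw [hδ, hδ, map_sum, LinearMap.sum_apply, map_sum]
  refine Finset.sum_congr rfl fun j _ => ?_
  simp only [map_add, map_smul, LinearMap.add_apply, LinearMap.smul_apply, hpair, hswap, hβ]
  have hch : (-1 : R) ^ ((k + 1).choose 2) = (-1 : R) ^ (k.choose 2) * (-1 : R) ^ k := by
    rw [← pow_add, Nat.choose_succ_succ' k 1, Nat.choose_one_right, add_comm]
  rw [hch, show s * (MvPolynomial.X j * t) = MvPolynomial.X j * s * t by ring]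
  simp only [← TensorProduct.smul_tmul', smul_smul]
  congr 1 <;> congr 1 <;> ring

end Groth.Agent.S18927
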