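import Groth.Statements.S18929
import Mathlib.RingTheory.WittVector.Truncated
import Mathlib.RingTheory.DividedPowers.Basic
import Mathlib.RingTheory.Ideal.Maps
import Mathlib.Tactic

set_option autoImplicit false
universe u
open DPow

namespace Groth.Agent.S18929

/-- Let p be a prime, n a natural number, B a commutative ring in which p^n = 0, and I an ideal of B
equipped with divided powers. There is a ring homomorphism θ from the truncated Witt vectors
W_n(B/I) to B such that, for every Witt vector x over B, θ applied to the truncation of the image of
x in W_n(B/I) equals Σ_{i<n} p^i x_i^(p^(n−i)); in particular this sum depends only on the residues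
of x_0, …, x_{n−1} modulo I. (The source works with a divided power thickening of an algebra over a
perfect field and also checks linearity over the Witt vectors of that field; only the ring
homomorphism is asserted here. θ is unique, the truncation-of-reduction map being surjective.) -/
theorem result (p : ℕ) [Fact p.Prime] (n : ℕ)
    {B : Type u} [CommRing B] (hp : (p : B) ^ n = 0) {I : Ideal B} (hI : DividedPowers I) :
    ∃ θ : TruncatedWittVector p n (B ⧸ I) →+* B, ∀ x : WittVector p B, θ (WittVector.truncate n (WittVector.map (Ideal.Quotient.mk I) x)) =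
        ∑ i : Fin n, (p : B) ^ (i : ℕ) * (x.coeff i) ^ (p ^ (n - i)) := by
  classical
  set t := (WittVector.truncate n).comp (WittVector.map (p := p) (Ideal.Quotient.mk I)) with ht
  have hts : Function.Surjective t := (WittVector.truncate_surjective p n (B ⧸ I)).comp
    (WittVector.map_surjective _ Ideal.Quotient.mk_surjective)
  have hghost : ∀ x : WittVector p B, WittVector.ghostComponent n x =
      ∑ i : Fin n, (p : B) ^ (i : ℕ) * (x.coeff i) ^ (p ^ (n - i)) := by
    intro x
    rw [WittVector.ghostComponent_apply, wittPolynomial_eq_sum_C_mul_X_pow, map_sum,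
      Finset.sum_range_succ, ← Fin.sum_univ_eq_sum_range]
    simp [hp]
  have hker : RingHom.ker t ≤ RingHom.ker (WittVector.ghostComponent n : WittVector p B →+* B) := by
    intro x hx
    rw [RingHom.mem_ker, hghost]
    refine Finset.sum_eq_zero fun i _ => ?_
    have hxi : x.coeff i ∈ I := by
      rw [← Ideal.Quotient.eq_zero_iff_mem]
      have h1 := congrArg (fun z => TruncatedWittVector.coeff i z) (RingHom.mem_ker.mp hx)
      simpa [ht, WittVector.coeff_truncate, WittVector.map_coeff] using h1
    have hdvd : p ^ (n - i) ∣ (p ^ (n - i)).factorial :=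
      Nat.dvd_factorial (pow_pos (Fact.out : p.Prime).pos _) le_rfl
    obtain ⟨c, hc⟩ := hdvd
    rw [← hI.factorial_mul_dpow_eq_pow hxi, hc, Nat.cast_mul, Nat.cast_pow, ← mul_assoc, ← mul_assoc,
      ← pow_add, Nat.add_sub_cancel' i.2.le, hp, zero_mul, zero_mul]
  refine ⟨RingHom.liftOfSurjective t hts ⟨_, hker⟩, fun x => ?_⟩
  rw [← hghost]
  exact RingHom.liftOfRightInverse_comp_apply _ _ _ _ x


end Groth.Agent.S18929
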