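import Groth.Statements.S18930
import Mathlib.RingTheory.Ideal.Quotient.Operations
import Mathlib.Algebra.CharP.Basic
import Mathlib.RingTheory.WittVector.Truncated
import Mathlib.RingTheory.WittVector.Frobenius
import Mathlib.Algebra.BigOperators.Group.Finset.Piecewise

set_option autoImplicit false
universe u
open DPow

namespace Groth.Agent.S18930

/-- Let p be a prime, n ≥ 1, B a commutative ring with p^n = 0 and A = B/pB. Let θ : W_n(A) → B be the
ring homomorphism which sends the reduction of a Witt vector (x_0, …, x_{n−1}) over B to Σ_{i<n} p^i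
x_i^(p^(n−i)), let J_n be its kernel and let I_n be the set of a in W_n(A) whose zeroth component
satisfies a_0^(p^n) = 0. Then J_n + (p) ⊆ I_n. (In the source B is the ring of global sections of a
scheme over the Witt vectors of length n of a perfect field.) -/
theorem result (p : ℕ) [Fact p.Prime] (n : ℕ) (hn : 0 < n)
    {B : Type u} [CommRing B] (hp : (p : B) ^ n = 0)
    (θ : TruncatedWittVector p n (B ⧸ (Ideal.span {(p : B)})) →+* B)
    (hθ : ∀ x : WittVector p B, θ (WittVector.truncate n (WittVector.map (Ideal.Quotient.mk (Ideal.span {(p : B)})) x)) =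
        ∑ i : Fin n, (p : B) ^ (i : ℕ) * (x.coeff i) ^ (p ^ (n - i)))
    (a : TruncatedWittVector p n (B ⧸ (Ideal.span {(p : B)})))
    (ha : a ∈ RingHom.ker θ ⊔ Ideal.span {(p : TruncatedWittVector p n (B ⧸ (Ideal.span {(p : B)})))}) :
    (TruncatedWittVector.coeff ⟨0, hn⟩ a) ^ (p ^ n) = 0 := by
  set q := Ideal.Quotient.mk (Ideal.span {(p : B)}) with hq
  obtain ⟨j, hj, z, hz, rfl⟩ := Submodule.mem_sup.1 ha
  obtain ⟨w, rfl⟩ := Ideal.mem_span_singleton'.1 hz
  have hc0 : ∀ (x y : WittVector p (B ⧸ Ideal.span {(p : B)})), (x + y * (p : WittVector p (B ⧸ Ideal.span {(p : B)}))).coeff 0 = x.coeff 0 := by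
    intro x y
    have hp0 : ((p : B ⧸ Ideal.span {(p : B)})) = 0 := by
      rw [← map_natCast q p, hq, Ideal.Quotient.eq_zero_iff_mem]; exact Ideal.mem_span_singleton_self _
    rw [← WittVector.constantCoeff_apply, map_add, map_mul, map_natCast, hp0, mul_zero, add_zero, WittVector.constantCoeff_apply]
  obtain ⟨X, rfl⟩ := WittVector.truncate_surjective p n _ j
  obtain ⟨W, rfl⟩ := WittVector.truncate_surjective p n _ w
  rw [← map_natCast (WittVector.truncate (p := p) (R := B ⧸ Ideal.span {(p : B)}) n) p, ← map_mul, ← map_add,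
    WittVector.coeff_truncate, hc0]
  obtain ⟨Y, rfl⟩ := WittVector.map_surjective q Ideal.Quotient.mk_surjective X
  rw [RingHom.mem_ker, hθ] at hj
  rw [WittVector.map_coeff]
  have h := congrArg q hj
  rw [map_sum, map_zero, Finset.sum_eq_single (⟨0, hn⟩ : Fin n)] at h
  · simpa using h
  · intro i _ hi
    have hi0 : (i : ℕ) ≠ 0 := fun h0 => hi (Fin.ext h0)
    rw [map_mul, map_pow, hq, map_natCast, ← map_natCast q p, hq,
      Ideal.Quotient.eq_zero_iff_mem.2 (Ideal.mem_span_singleton_self (p : B)), zero_pow hi0, zero_mul]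
  · simp

end Groth.Agent.S18930
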