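import Groth.Statements.S18931
import Mathlib.Algebra.CharP.Quotient
import Mathlib.RingTheory.WittVector.Truncated
import Mathlib.RingTheory.WittVector.Identities
import Mathlib.RingTheory.WittVector.Frobenius
import Mathlib.RingTheory.WittVector.Domain
import Mathlib.Tactic.LinearCombination

set_option linter.style.haveILetI false

set_option autoImplicit false
universe u
open DPow

namespace Groth.Agent.S18931

/-- Let p be a prime, n ≥ 1, B a commutative ring with p^n = 0 and A = B/pB, and assume that the p-th
power map of A is surjective. Let θ : W_n(A) → B be the ring homomorphism which sends the reduction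
of a Witt vector (x_0, …, x_{n−1}) over B to Σ_{i<n} p^i x_i^(p^(n−i)). Then every a in W_n(A) with
a_0^(p^n) = 0 lies in ker θ + (p); together with the reverse inclusion, ker θ + (p) is exactly the
set of such a. (In the source B is the ring of global sections of a scheme over the Witt vectors of
length n of a perfect field. The printed argument subtracts a single correction term, which suffices
for n ≤ 2; in general one corrects the components one at a time.) -/
theorem result (p : ℕ) [Fact p.Prime]
    (n : ℕ) (hn : 0 < n) {B : Type u} [CommRing B] (hp : (p : B) ^ n = 0)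
    (hF : Function.Surjective (fun y : B ⧸ (Ideal.span {(p : B)}) => y ^ p))
    (θ : TruncatedWittVector p n (B ⧸ (Ideal.span {(p : B)})) →+* B)
    (hθ : ∀ x : WittVector p B, θ (WittVector.truncate n (WittVector.map (Ideal.Quotient.mk (Ideal.span {(p : B)})) x)) =
        ∑ i : Fin n, (p : B) ^ (i : ℕ) * (x.coeff i) ^ (p ^ (n - i)))
    (a : TruncatedWittVector p n (B ⧸ (Ideal.span {(p : B)}))) (ha : (TruncatedWittVector.coeff ⟨0, hn⟩ a) ^ (p ^ n) = 0) :
    a ∈ RingHom.ker θ ⊔ Ideal.span {(p : TruncatedWittVector p n (B ⧸ (Ideal.span {(p : B)})))} := by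
  rcases subsingleton_or_nontrivial B with hB | hB
  · haveI : Subsingleton (TruncatedWittVector p n (B ⧸ Ideal.span {(p : B)})) := by
      refine ⟨fun x y => TruncatedWittVector.ext fun i => ?_⟩
      exact Subsingleton.elim _ _
    rw [Subsingleton.elim a 0]
    exact Submodule.zero_mem _
  haveI hch : CharP (B ⧸ Ideal.span {(p : B)}) p := CharP.quotient B p fun hu => by
    exact (zero_ne_one (α := B)) ((hu.pow n).mul_left_cancel (by rw [hp, zero_mul, zero_mul]))
  set q := Ideal.Quotient.mk (Ideal.span {(p : B)}) with hq
  have hF' : ∀ (k : ℕ) (z : B ⧸ Ideal.span {(p : B)}), ∃ y : B, q y ^ p ^ k = z := by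
    intro k
    induction k with
    | zero => intro z; obtain ⟨y, rfl⟩ := Ideal.Quotient.mk_surjective z; exact ⟨y, by simp [hq]⟩
    | succ k ih =>
      intro z
      obtain ⟨w, rfl⟩ := hF z
      obtain ⟨y, rfl⟩ := ih w
      exact ⟨y, by rw [pow_succ, pow_mul]⟩
  obtain ⟨x₀, hx₀⟩ := Ideal.Quotient.mk_surjective (TruncatedWittVector.coeff ⟨0, hn⟩ a)
  -- correct the components one at a time
  have key : ∀ m, 1 ≤ m → ∃ x : ℕ → B, x 0 = x₀ ∧
      ∃ c, ∑ i ∈ Finset.range m, (p : B) ^ i * x i ^ p ^ (n - i) = (p : B) ^ m * c := by
    intro m hm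
    induction m, hm using Nat.le_induction with
    | base =>
      rw [← hx₀, ← map_pow, Ideal.Quotient.eq_zero_iff_mem, Ideal.mem_span_singleton'] at ha
      obtain ⟨c, hc⟩ := ha
      exact ⟨fun _ => x₀, rfl, c, by simp [← hc, mul_comm]⟩
    | succ m hm ih =>
      obtain ⟨x, hx, c, hc⟩ := ih
      obtain ⟨y, hy⟩ := hF' (n - m) (q (-c))
      rw [← map_pow, hq, Ideal.Quotient.eq, Ideal.mem_span_singleton'] at hy
      obtain ⟨d, hd⟩ := hy
      refine ⟨Function.update x m y, by rw [Function.update_of_ne (by omega), hx], d, ?_⟩
      rw [Finset.sum_range_succ, Finset.sum_congr rfl (g := fun i => (p : B) ^ i * x i ^ p ^ (n - i))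
        (fun i hi => by rw [Function.update_of_ne (by have := Finset.mem_range.1 hi; omega)]), hc,
        Function.update_self]
      linear_combination -(p : B) ^ m * hd
  obtain ⟨x, hx, c, hc⟩ := key n hn
  let b := WittVector.truncate n (WittVector.map q (WittVector.mk p x))
  have hb : θ b = 0 := by
    rw [hθ]
    simp only [WittVector.coeff_mk]
    rw [← Finset.sum_range (fun i => (p : B) ^ i * x i ^ p ^ (n - i)), hc, hp, zero_mul]
  refine Submodule.mem_sup.2 ⟨b, hb, a - b, ?_, add_sub_cancel _ _⟩
  obtain ⟨A, rfl⟩ := WittVector.truncate_surjective p n _ a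
  rw [← map_sub]
  let D := A - WittVector.map q (WittVector.mk p x)
  have hD : D.coeff 0 = 0 := by
    rw [← WittVector.constantCoeff_apply, map_sub, WittVector.constantCoeff_apply,
      WittVector.constantCoeff_apply, WittVector.map_coeff, WittVector.coeff_mk, hx, hx₀,
      WittVector.coeff_truncate, sub_self]
  obtain ⟨z, hz⟩ : ∃ z, D = WittVector.verschiebung z := ⟨D.shift 1, by
    simpa using WittVector.eq_iterate_verschiebung (x := D) (n := 1) fun i hi => by
      obtain rfl : i = 0 := by omega
      exact hD⟩
  choose w hw using hF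
  have hzw : WittVector.frobenius (WittVector.mk p fun i => w (z.coeff i)) = z := by
    ext i
    rw [WittVector.coeff_frobenius_charP, WittVector.coeff_mk]
    exact hw _
  change WittVector.truncate n D ∈ _
  rw [hz, ← hzw, WittVector.verschiebung_frobenius, map_mul, map_natCast]
  exact Ideal.mul_mem_left _ _ (Ideal.mem_span_singleton_self _)


end Groth.Agent.S18931
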