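import Groth.Statements.S18932
import Mathlib.RingTheory.WittVector.Teichmuller
import Mathlib.RingTheory.WittVector.Identities
-- import your own Groth.Agent.* helpers here

set_option autoImplicit false
universe u
open DPow

namespace Groth.Agent.S18932

/-- Let p be a prime, k a perfect field of characteristic p, n a natural number and A a commutative
W_n(k)-algebra, W_n(k) the truncated Witt vectors, which is flat over W_n(k) and whose reduction
A/pA has surjective p-th power map. Let θ : W_n(A/pA) → A be the ring homomorphism which sends the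
reduction of a Witt vector (x_0, …, x_{n−1}) over A to Σ_{i<n} p^i x_i^(p^(n−i)). Then θ is
surjective, so A is the quotient of W_n(A/pA) by the kernel of θ. (This is the step of the source's
proposition establishing that Spec of the divided power envelope of that kernel is a thickening of
Spec A; the assertion that it is a final object of the crystalline site is not stated here.) -/
theorem result (p : ℕ) [Fact p.Prime]
    (k : Type u) [Field k] [CharP k p] [PerfectRing k p] (n : ℕ)
    (A : Type u) [CommRing A] [Algebra (TruncatedWittVector p n k) A] [Module.Flat (TruncatedWittVector p n k) A]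
    (hF : Function.Surjective (fun y : A ⧸ (Ideal.span {(p : A)}) => y ^ p))
    (θ : TruncatedWittVector p n (A ⧸ (Ideal.span {(p : A)})) →+* A)
    (hθ : ∀ x : WittVector p A, θ (WittVector.truncate n (WittVector.map (Ideal.Quotient.mk (Ideal.span {(p : A)})) x)) =
        ∑ i : Fin n, (p : A) ^ (i : ℕ) * (x.coeff i) ^ (p ^ (n - i))) :
    Function.Surjective θ := by
  have hzero : ((p : TruncatedWittVector p n k)) ^ n = 0 := by
    rw [← map_natCast (WittVector.truncate n (p := p) (R := k)), ← map_pow]
    ext i
    rw [WittVector.coeff_truncate, WittVector.coeff_p_pow_eq_zero (p := p) (R := k) i.2.ne, TruncatedWittVector.coeff_zero]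
  have hpn : (p : A) ^ n = 0 := by
    have := congrArg (algebraMap (TruncatedWittVector p n k) A) hzero
    rwa [map_pow, map_natCast, map_zero] at this
  have hsur : ∀ (m : ℕ) (y : A ⧸ (Ideal.span {(p : A)})), ∃ x, x ^ p ^ m = y := by
    intro m
    induction m with
    | zero => exact fun y => ⟨y, by simp⟩
    | succ m ih =>
      intro y
      obtain ⟨z, hz⟩ := hF y
      obtain ⟨x, hx⟩ := ih z
      exact ⟨x, by rw [pow_succ, pow_mul, hx]; exact hz⟩
  have hstep : ∀ a : A, ∃ w x, a = θ w + (p : A) * x := by
    intro a
    obtain ⟨y, hy⟩ := hsur n (Ideal.Quotient.mk _ a)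
    obtain ⟨y, rfl⟩ := Ideal.Quotient.mk_surjective y
    rw [← map_pow, Ideal.Quotient.eq, Ideal.mem_span_singleton'] at hy
    obtain ⟨c, hc⟩ := hy
    refine ⟨WittVector.truncate n (WittVector.map (Ideal.Quotient.mk _) (WittVector.teichmuller p y)), -c, ?_⟩
    rw [hθ]
    cases n with
    | zero =>
      haveI : Subsingleton A := subsingleton_of_zero_eq_one (by rw [← hpn, pow_zero])
      exact Subsingleton.elim _ _
    | succ n =>
      rw [Fin.sum_univ_succ, Finset.sum_eq_zero (fun i _ => by
        rw [WittVector.teichmuller_coeff_pos p y _ (by simp), zero_pow (pow_ne_zero _ (Fact.out : p.Prime).ne_zero), mul_zero])]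
      rw [Fin.val_zero, WittVector.teichmuller_coeff_zero, pow_zero, one_mul, Nat.sub_zero, add_zero]
      linear_combination hc
  have hm : ∀ (m : ℕ) (a : A), ∃ w x, a = θ w + (p : A) ^ m * x := by
    intro m
    induction m with
    | zero => exact fun a => ⟨0, a, by simp⟩
    | succ m ih =>
      intro a
      obtain ⟨w, x, rfl⟩ := ih a
      obtain ⟨w', x', rfl⟩ := hstep x
      exact ⟨w + (p : TruncatedWittVector p n (A ⧸ (Ideal.span {(p : A)}))) ^ m * w', x', by rw [map_add, map_mul, map_pow, map_natCast]; ring⟩
  intro a
  obtain ⟨w, x, rfl⟩ := hm n a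
  exact ⟨w, by rw [hpn, zero_mul, add_zero]⟩

end Groth.Agent.S18932
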