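import Groth.Statements.S18935
import Groth.Agent.L07.KoszulRel

set_option autoImplicit false
set_option linter.style.haveILetI false
universe u
open LCI

namespace Groth.Agent.S18935

/-- Let R be a commutative ring and I a proper ideal of R which is generated by some Koszul-regular
sequence. A finite sequence f of generators of I is Koszul-regular if and only if f has the smallest
possible length among all finite generating sequences of I. (Properness of I is needed: the
sequences (1) and (1, 1) are both Koszul-regular and generate the unit ideal.) -/
theorem result {R : Type u} [CommRing R] {I : Ideal R} (hI : I ≠ ⊤)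
    (g : List R) (hg : LCI.IsKoszulRegularSeq R g) (hgI : Ideal.ofList g = I)
    (f : List R) (hfI : Ideal.ofList f = I) :
    LCI.IsKoszulRegularSeq R f ↔ ∀ h : List R, Ideal.ofList h = I → f.length ≤ h.length := by
  refine ⟨fun hfreg h hh => Groth.L07.KoszulRel.length_le_of_ofList_eq hI hfreg hfI hh, fun hmin => ?_⟩
  refine Groth.L07.KoszulPerm.isKoszulRegularSeq_of_ofList_eq (hgI.trans hfI.symm) ?_ hg
  exact le_antisymm (Groth.L07.KoszulRel.length_le_of_ofList_eq hI hg hgI hfI) (hmin g hgI)

end Groth.Agent.S18935
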