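import Groth.Statements.S18936
import Mathlib.Tactic
import Mathlib.RingTheory.Spectrum.Prime.Module
import Mathlib.RingTheory.LocalRing.Module
import Mathlib.RingTheory.Localization.AtPrime.Basic
import Mathlib.RingTheory.Ideal.KrullsHeightTheorem
import Mathlib.LinearAlgebra.Matrix.NonsingularInverse
import Mathlib.RingTheory.TensorProduct.Quotient
import Mathlib.RingTheory.Flat.FaithfullyFlat.Basic
import Mathlib.LinearAlgebra.TensorProduct.Prod
import Mathlib.RingTheory.LocalProperties.Reduced

set_option autoImplicit false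
universe u
open CAlg

namespace Groth.Agent.S18936

/-- Let A be a Noetherian commutative ring, q a prime ideal of A and f an element of A whose image in
the localization A_q is a non-zero-divisor. Then there is an element b of A not in q such that the
image of f in A[1/b] is a non-zero-divisor. -/
theorem result {A : Type u} [CommRing A] [IsNoetherianRing A]
    (q : Ideal A) [q.IsPrime] (f : A)
    (hf : algebraMap A (Localization.AtPrime q) f ∈ nonZeroDivisors (Localization.AtPrime q)) :
    ∃ b : A, b ∉ q ∧ algebraMap A (Localization.Away b) f ∈ nonZeroDivisors (Localization.Away b) := by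
  classical
  obtain ⟨s, hs⟩ := IsNoetherian.noetherian (LinearMap.ker (LinearMap.mulLeft A f))
  have h : ∀ x ∈ s, ∃ c : A, c ∉ q ∧ c * x = 0 := fun x hx => by
    have hx0 : f * x = 0 := by
      have : x ∈ LinearMap.ker (LinearMap.mulLeft A f) := hs ▸ Submodule.subset_span hx
      simpa using this
    have h0 : algebraMap A (Localization.AtPrime q) x = 0 := by
      refine (mem_nonZeroDivisors_iff_right.mp hf) _ ?_
      rw [← map_mul, mul_comm, hx0, map_zero]
    obtain ⟨⟨c, hc⟩, hc'⟩ := (IsLocalization.map_eq_zero_iff q.primeCompl _ x).mp h0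
    exact ⟨c, hc, hc'⟩
  choose! c hc₁ hc₂ using h
  refine ⟨∏ x ∈ s, c x, ?_, ?_⟩
  · intro hm
    obtain ⟨j, hj, hj'⟩ := (Ideal.IsPrime.prod_mem_iff (hp := inferInstance)).mp hm
    exact hc₁ j hj hj'
  · set b := ∏ x ∈ s, c x with hb
    rw [mem_nonZeroDivisors_iff_right]
    intro z hz
    obtain ⟨a, t, rfl⟩ := IsLocalization.exists_mk'_eq (Submonoid.powers b) z
    rw [IsLocalization.mk'_eq_mul_mk'_one, mul_right_comm, ← map_mul] at hz
    have h0 : algebraMap A (Localization.Away b) (a * f) = 0 := by
      have hu : IsUnit (IsLocalization.mk' (Localization.Away b) (1 : A) t) :=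
        IsUnit.of_mul_eq_one (algebraMap A _ t) (by rw [IsLocalization.mk'_spec, map_one])
      exact hu.mul_left_eq_zero.mp hz
    obtain ⟨⟨w, hw⟩, hw'⟩ := (IsLocalization.map_eq_zero_iff (Submonoid.powers b) _ _).mp h0
    have hmem : w * a ∈ Submodule.span A (s : Set A) := by
      rw [hs, LinearMap.mem_ker, LinearMap.mulLeft_apply]
      rw [← hw']; ring
    have hkill : ∀ y ∈ Submodule.span A (s : Set A), b * y = 0 := fun y hy => by
      induction hy using Submodule.span_induction with
      | mem y hy => rw [hb, ← Finset.prod_erase_mul _ _ hy, mul_assoc, hc₂ y hy, mul_zero]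
      | zero => simp
      | add a b' _ _ ha hb' => rw [mul_add, ha, hb', add_zero]
      | smul a b' _ hb' => rw [smul_eq_mul, mul_left_comm, hb', mul_zero]
    rw [IsLocalization.mk'_eq_zero_iff]
    obtain ⟨k, rfl⟩ := hw
    exact ⟨⟨b * b ^ k, ⟨k + 1, by ring⟩⟩, by rw [mul_assoc]; exact hkill _ hmem⟩

end Groth.Agent.S18936
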