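import Groth.Statements.S18938
import Groth.Agent.L07.SyntAlg

set_option autoImplicit false
set_option linter.style.haveILetI false
universe u
open Synt

open scoped Pointwise

namespace Groth.Agent.S18938

/-- Let A be a Noetherian commutative ring and B a syntomic A-algebra. Then Spec B is covered by basic
opens D(g) with B[1/g] isomorphic, as an A-algebra, to A[T_1, …, T_n]/(P_1, …, P_d) for a regular
sequence P_1, …, P_d (successive non-zero-divisors with nonzero last quotient) in the polynomial
ring A[T_1, …, T_n]. (The source states this for a syntomic scheme over Spec A, syntomic meaning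
flat, locally of finite presentation and locally a Koszul-regular immersion into a smooth scheme;
here syntomic is the ring-map notion with local complete intersection fibres, which agrees with it.) -/
theorem result
    (A : Type u) [CommRing A] [IsNoetherianRing A] (B : Type u) [CommRing B] [Algebra A B]
    (h : Synt.IsSyntomic A B) (q : PrimeSpectrum B) :
    ∃ g : B, g ∉ q.asIdeal ∧
      ∃ (n d : ℕ) (P : Fin d → MvPolynomial (Fin n) A),
        RingTheory.Sequence.IsRegular (MvPolynomial (Fin n) A) (List.ofFn P) ∧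
        Nonempty (Localization.Away g ≃ₐ[A] (MvPolynomial (Fin n) A ⧸ Ideal.ofList (List.ofFn P))) := by
  classical
  haveI := h.2.1
  haveI := h.1
  haveI : Module.Flat A (Localization.AtPrime q.asIdeal) := Module.Flat.trans A B _
  obtain ⟨g, hg, m, c, G, hG, ⟨e⟩⟩ := Groth.L07.SyntAlg.exists_relGCI_nhd' q
    ((Groth.L07.SyntAlg.isSyntomic_iff.mp h).2 q)
  obtain ⟨Pg, hPg⟩ : q ∈ Set.range (PrimeSpectrum.comap (algebraMap B (Localization.Away g))) := by
    rw [PrimeSpectrum.localization_away_comap_range (Localization.Away g) g]; exact hg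
  let I := Ideal.span (Set.range G)
  let P₀ := PrimeSpectrum.comap (e.symm : Synt.RelGCIRing A m c G →ₐ[A] Localization.Away g).toRingHom Pg
  let w := P₀.asIdeal.comap (Ideal.Quotient.mk I)
  have hIw : I ≤ w := fun y hy => by
    rw [Ideal.mem_comap, Ideal.Quotient.eq_zero_iff_mem.mpr hy]; exact zero_mem _
  obtain ⟨a, ha, hT⟩ := Groth.L07.RegSeq.exists_away_isWeaklyRegular (List.ofFn G) w (Localization.AtPrime w)
    (Groth.L07.SyntRel.transversal_of_isRelGCI hG w hIw).1.toIsWeaklyRegular
  let T := Localization.Away a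
  have hreg := hT T a inferInstance dvd_rfl
  let Q := MvPolynomial (Fin (m + 1)) A
  let ren : MvPolynomial (Fin m) A →ₐ[A] Q := MvPolynomial.rename Fin.castSucc
  let v : Fin (m + 1) → T := Fin.snoc (α := fun _ => T)
    (fun i : Fin m => algebraMap (MvPolynomial (Fin m) A) T (MvPolynomial.X i))
    (IsLocalization.Away.invSelf (S := T) a)
  let ev : Q →ₐ[A] T := MvPolynomial.aeval v
  have hv : ∀ y, ev (ren y) = algebraMap _ T y := fun y => by
    show MvPolynomial.aeval v (MvPolynomial.rename Fin.castSucc y) = _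
    rw [MvPolynomial.aeval_rename]
    exact AlgHom.congr_fun (φ₂ := IsScalarTower.toAlgHom A _ T) (MvPolynomial.algHom_ext fun i => by simp [v]) y
  let u : Q := ren a * MvPolynomial.X (Fin.last m) - 1
  have hevu : ev u = 0 := by
    show ev (ren a * MvPolynomial.X (Fin.last m) - 1) = 0
    rw [map_sub, map_mul, hv, map_one, MvPolynomial.aeval_X]
    simp [v, IsLocalization.Away.mul_invSelf]
  let K := Ideal.span {u}
  let π := Ideal.Quotient.mkₐ A K
  have hunit : π (ren a) * π (MvPolynomial.X (Fin.last m)) = 1 := by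
    rw [← map_mul, ← map_one π]
    exact Ideal.Quotient.eq.mpr (Ideal.subset_span rfl)
  let back : T →+* Q ⧸ K := IsLocalization.Away.lift a (g := (π.comp ren).toRingHom) (IsUnit.of_mul_eq_one _ hunit)
  have hback : ∀ y, back (algebraMap _ T y) = π (ren y) := fun y => IsLocalization.Away.lift_eq a _ y
  have hbe : ∀ z : Q, back (ev z) = π z := fun z => by
    refine RingHom.congr_fun (f := back.comp ev.toRingHom) (g := π.toRingHom)
      (MvPolynomial.ringHom_ext (fun r => ?_) fun i => ?_) z
    · show back (ev (MvPolynomial.C r)) = π (MvPolynomial.C r)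
      rw [← show ren (MvPolynomial.C r) = MvPolynomial.C r from MvPolynomial.rename_C _ r, hv, hback]
    · show back (ev (MvPolynomial.X i)) = π (MvPolynomial.X i)
      rw [MvPolynomial.aeval_X]
      induction i using Fin.lastCases with
      | last =>
        simp only [v, Fin.snoc_last]
        refine (IsUnit.of_mul_eq_one _ hunit).mul_left_cancel ?_
        rw [hunit, ← hback, ← map_mul, IsLocalization.Away.mul_invSelf, map_one]
      | cast i =>
        simp only [v, Fin.snoc_castSucc]
        rw [hback, show ren (MvPolynomial.X i) = MvPolynomial.X i.castSucc from MvPolynomial.rename_X _ _]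
  have hker : RingHom.ker ev.toRingHom = K := by
    refine le_antisymm (fun z hz => Ideal.Quotient.eq_zero_iff_mem.mp ?_)
      (Ideal.span_le.mpr fun z hz => by rw [Set.mem_singleton_iff.mp hz]; exact hevu)
    show π z = 0
    rw [← hbe, show ev z = 0 from hz, map_zero]
  have hsur : Function.Surjective ev := fun t => by
    obtain ⟨z, hz⟩ := Ideal.Quotient.mk_surjective (back t)
    have h' := RingHom.congr_fun (f := (Ideal.Quotient.lift K ev.toRingHom hker.ge).comp back)
      (g := RingHom.id T) (IsLocalization.ringHom_ext (Submonoid.powers a) (RingHom.ext fun y => by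
        show Ideal.Quotient.lift K ev.toRingHom hker.ge (back (algebraMap _ T y)) = algebraMap _ T y
        rw [hback]
        exact hv y)) t
    rw [RingHom.comp_apply, ← hz] at h'
    exact ⟨z, h'⟩
  have hureg : IsSMulRegular Q u := by
    refine IsSMulRegular.of_right_eq_zero_of_smul fun z hz => ?_
    have hz' : z = MvPolynomial.X (Fin.last m) * (ren a * z) := by
      have : (ren a * MvPolynomial.X (Fin.last m) - 1) * z = 0 := hz
      linear_combination -this
    have hk : ∀ k : ℕ, ∃ z', z = MvPolynomial.X (Fin.last m) ^ k * z' := fun k => by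
      induction k with
      | zero => exact ⟨z, by simp⟩
      | succ k ih =>
        obtain ⟨z', hz''⟩ := ih
        exact ⟨ren a * z', hz'.trans (by rw [hz'']; ring)⟩
    ext d
    obtain ⟨z', rfl⟩ := hk (d (Fin.last m) + 1)
    rw [MvPolynomial.X_pow_eq_monomial, MvPolynomial.coeff_monomial_mul', if_neg, MvPolynomial.coeff_zero]
    intro hle
    have := hle (Fin.last m)
    simp at this
  let e₁ : (Q ⧸ (u • ⊤ : Submodule Q Q)) ≃+ T :=
    ((Submodule.quotEquivOfEq _ _ (show (u • ⊤ : Submodule Q Q) = K by
      rw [← Submodule.ideal_span_singleton_smul, smul_eq_mul, Ideal.mul_top])).toAddEquiv.trans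
      (Ideal.quotientKerAlgEquivOfSurjective (f := ev) hsur |> fun E => ((Ideal.quotEquivOfEq hker.symm).toAddEquiv.trans
        E.toRingEquiv.toAddEquiv)))
  have he₁ : ∀ z : Q, e₁ (Submodule.Quotient.mk z) = ev z := fun z => rfl
  have hlist : RingTheory.Sequence.IsWeaklyRegular Q (u :: (List.ofFn G).map ren) := by
    rw [RingTheory.Sequence.isWeaklyRegular_cons_iff]
    refine ⟨hureg, (e₁.isWeaklyRegular_congr ?_).mpr hreg⟩
    rw [List.forall₂_map_left_iff, List.forall₂_map_right_iff]
    refine List.forall₂_same.mpr fun y _ z => ?_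
    obtain ⟨z, rfl⟩ := Submodule.Quotient.mk_surjective _ z
    show e₁ (Submodule.Quotient.mk (ren y * z)) = algebraMap _ T y * e₁ (Submodule.Quotient.mk z)
    rw [he₁, he₁, map_mul, hv]
  let Pn : Fin (c + 1) → Q := Fin.cons u (fun i => ren (G i))
  have hPn : List.ofFn Pn = u :: (List.ofFn G).map ren := by
    rw [List.ofFn_succ, List.map_ofFn]
    simp [Pn, Function.comp_def]
  have hspan : Ideal.ofList (List.ofFn Pn) = Ideal.span (Set.range (Groth.L07.Synt.awayRel G a)) := by
    rw [Groth.L07.QReg.ofList_ofFn]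
    refine congrArg Ideal.span (Set.ext fun z => ⟨?_, ?_⟩)
    · rintro ⟨i, rfl⟩
      induction i using Fin.cases with
      | zero => exact ⟨Fin.last c, Groth.L07.Synt.awayRel_last G a⟩
      | succ i => exact ⟨i.castSucc, Groth.L07.Synt.awayRel_castSucc G a i⟩
    · rintro ⟨i, rfl⟩
      induction i using Fin.lastCases with
      | last => exact ⟨0, (Groth.L07.Synt.awayRel_last G a).symm⟩
      | cast i => exact ⟨i.succ, (Groth.L07.Synt.awayRel_castSucc G a i).symm⟩
  obtain ⟨E⟩ := Groth.L07.Synt.exists_away_equiv G a I (fun i => Ideal.subset_span ⟨i, rfl⟩)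
    (fun z hz => Ideal.mul_mem_left _ _ hz)
  have hg' : e.symm (Ideal.Quotient.mk I a) ∉ Pg.asIdeal := ha
  obtain ⟨g₂, hg₂, ⟨e₂⟩⟩ := Groth.L07.SyntAlg.exists_away_away (R := A) g Pg _ hg'
  obtain ⟨e₃⟩ := Groth.L07.SyntAlg.nonempty_awayCongr e.symm (Ideal.Quotient.mk I a)
  let Efin := (e₂.trans (e₃.symm.trans E)).trans (Ideal.quotientEquivAlgOfEq A hspan.symm)
  subst hPg
  refine ⟨g₂, hg₂, m + 1, c + 1, Pn, ⟨hPn ▸ hlist, fun htop => ?_⟩, ⟨Efin⟩⟩
  rw [smul_eq_mul, Ideal.mul_top] at htop
  haveI : Subsingleton (Q ⧸ Ideal.ofList (List.ofFn Pn)) := Ideal.Quotient.subsingleton_iff.mpr htop.symm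
  have h0 : (1 : Localization.Away g₂) = 0 := Efin.injective (Subsingleton.elim _ _)
  obtain ⟨z, hz⟩ := (IsLocalization.map_eq_zero_iff (Submonoid.powers g₂) (Localization.Away g₂) 1).mp
    (by rw [map_one, h0])
  rw [mul_one] at hz
  obtain ⟨k, hk⟩ := z.2
  exact hg₂ ((inferInstance : (PrimeSpectrum.comap (algebraMap B (Localization.Away g)) Pg).asIdeal.IsPrime).mem_of_pow_mem k
    (by rw [show g₂ ^ k = (0 : B) from hk.trans hz]; exact zero_mem _))

end Groth.Agent.S18938
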