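import Groth.Statements.S18942
import Mathlib.RingTheory.WittVector.TeichmullerSeries
import Mathlib.NumberTheory.Basic
-- import your own Groth.Agent.* helpers here

set_option autoImplicit false
universe u
open DPow

namespace Groth.Agent.S18942

theorem symm_pow_apply {R : Type u} [CommRing R] (p : ℕ) [Fact p.Prime] [CharP R p] [PerfectRing R p] (a : R) :
    ∀ i j : ℕ, ((frobeniusEquiv R p).symm ^ i) (a ^ p ^ (i + j)) = a ^ p ^ j := by
  intro i
  induction i with
  | zero => intro j; simp
  | succ i ih =>
    intro j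
    rw [pow_succ', RingAut.mul_apply, show i + 1 + j = i + (j + 1) by omega, ih (j + 1), RingEquiv.symm_apply_eq,
      frobeniusEquiv_apply, frobenius_def, ← pow_mul, ← pow_succ]

/-- Let p be a prime, k a perfect field of characteristic p, n a natural number and x an element of
W_n(k), written here as the truncation of a Witt vector x over k. For any Witt vectors y_0, …,
y_{n−1} over k lifting the components of x under the map y ↦ (y_0)^(p^n) (that is, (y_i)_0^(p^n) =
x_i), one has x = Σ_{i<n} p^i y_i^(p^(n−i)) in W_n(k). -/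
theorem result (p : ℕ) [Fact p.Prime]
    (k : Type u) [Field k] [CharP k p] [PerfectRing k p] (n : ℕ) (x : WittVector p k)
    (y : Fin n → WittVector p k) (hy : ∀ i : Fin n, ((y i).coeff 0) ^ (p ^ n) = x.coeff i) :
    WittVector.truncate n x =
      WittVector.truncate n (∑ i : Fin n, (p : WittVector p k) ^ (i : ℕ) * (y i) ^ (p ^ (n - i))) := by
  classical
  cases n with
  | zero =>
    refine TruncatedWittVector.ext fun i => ?_
    exact i.elim0
  | succ m =>
    have hker : ∀ w : WittVector p k, (p : WittVector p k) ^ (m + 1) ∣ w → WittVector.truncate (m + 1) w = 0 := by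
      intro w hw
      rw [← RingHom.mem_ker, WittVector.mem_ker_truncate]
      exact (WittVector.mem_span_p_pow_iff_le_coeff_eq_zero w (m + 1)).1 (Ideal.mem_span_singleton.2 hw)
    have h1 := hker _ (WittVector.dvd_sub_sum_teichmuller_iterateFrobeniusEquiv_coeff x m)
    rw [map_sub, sub_eq_zero] at h1
    rw [h1, map_sum, map_sum, show Finset.Iic m = Finset.range (m + 1) by ext; simp, ← Fin.sum_univ_eq_sum_range]
    refine Finset.sum_congr rfl fun i _ => ?_
    obtain ⟨j, hj⟩ : ∃ j, m + 1 = (i : ℕ) + j := ⟨m + 1 - i, by omega⟩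
    have hc : ((frobeniusEquiv k p).symm ^ (i : ℕ)) (x.coeff i) = (y i).coeff 0 ^ p ^ (m + 1 - (i : ℕ)) := by
      rw [← hy i, show m + 1 - (i : ℕ) = j by omega]
      refine Eq.trans ?_ (symm_pow_apply p ((y i).coeff 0) (i : ℕ) j)
      exact congrArg (fun e => ((frobeniusEquiv k p).symm ^ (i : ℕ)) ((y i).coeff 0 ^ p ^ e)) hj
    have hd : (p : WittVector p k) ∣ y i - WittVector.teichmuller p ((y i).coeff 0) := by
      rw [← Ideal.mem_span_singleton, WittVector.mem_span_p_iff_coeff_zero_eq_zero, ← WittVector.constantCoeff_apply,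
        map_sub, WittVector.constantCoeff_apply, WittVector.constantCoeff_apply, WittVector.teichmuller_coeff_zero,
        sub_self]
    have h2 := dvd_sub_pow_of_dvd_sub hd (m + 1 - (i : ℕ))
    have h3 : (p : WittVector p k) ^ (m + 1) ∣ (p : WittVector p k) ^ (i : ℕ) * y i ^ p ^ (m + 1 - (i : ℕ)) -
        WittVector.teichmuller p (((frobeniusEquiv k p).symm ^ (i : ℕ)) (x.coeff i)) * (p : WittVector p k) ^ (i : ℕ) := by
      rw [hc, map_pow, mul_comm _ ((p : WittVector p k) ^ (i : ℕ)), ← mul_sub]
      refine dvd_trans (pow_dvd_pow _ (show m + 1 ≤ (i : ℕ) + (m + 1 - i + 1) by omega)) ?_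
      rw [pow_add]
      exact mul_dvd_mul_left _ (by exact_mod_cast h2)
    have h4 := hker _ h3
    rw [map_sub, sub_eq_zero] at h4
    exact h4.symm

end Groth.Agent.S18942
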