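import Groth.Statements.S18943
import Groth.Agent.L14.Hadamard

set_option autoImplicit false
open scoped ContDiff
open CInfGerm

namespace Groth.Agent.S18943

/-- Let f be an infinitely differentiable real-valued function on the real line with f(0) = 0. Then f(x)
= x·g(x) for an infinitely differentiable function g. (The source phrases this for germs at 0: the
maximal ideal of the local ring of germs of smooth functions at the origin is generated by the
coordinate t; the global form stated here is what its argument, smooth extension of f(x)/x across 0,
gives.) -/
theorem result (f : ℝ → ℝ) (hf : ContDiff ℝ ∞ f) (h0 : f 0 = 0) :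
    ∃ g : ℝ → ℝ, ContDiff ℝ ∞ g ∧ ∀ x : ℝ, f x = x * g x :=
  Groth.L14.Hadamard.main f hf h0

end Groth.Agent.S18943
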