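import Groth.Statements.S18944
import Groth.Agent.L14.RegImmStalk.Stalk
import Mathlib.RingTheory.Regular.Flat

set_option autoImplicit false
set_option linter.style.haveILetI false
universe u
open CategoryTheory AlgebraicGeometry
open RegImm

namespace Groth.Agent.S18944

/-- Let i : Z → X be a regular immersion of schemes (kind: successive non-zero-divisors). Then for every
point z of Z the kernel of the induced map of local rings O_{X, i(z)} → O_{Z, z} is generated by a
regular sequence of O_{X, i(z)}. (No Noetherian hypothesis; over a locally Noetherian X the converse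
also holds.) -/
theorem result {Z X : Scheme.{u}} (i : Z ⟶ X)
    (h : RegImm.IsRegularImmersion RegImm.Kind.regular i) (z : Z) :
    ∃ rs : List (X.presheaf.stalk (i z)),
      RingTheory.Sequence.IsRegular (X.presheaf.stalk (i z)) rs ∧
        RingHom.ker (i.stalkMap z).hom = Ideal.ofList rs := by
  obtain ⟨⟨W, hW⟩, hz, hcl, rs, hrs, hker⟩ := h.2 z
  haveI := h.1
  have hk := Groth.L14.RegImmStalk.ker_stalkMap i hW hcl z hz
  rw [hker, Ideal.map_ofList] at hk
  letI : Algebra Γ(X, W) (X.presheaf.stalk (i z)) := (X.presheaf.germ W (i z) hz).hom.toAlgebra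
  haveI := hW.isLocalization_stalk ⟨i z, hz⟩
  refine ⟨rs.map (X.presheaf.germ W (i z) hz).hom,
    ⟨hrs.toIsWeaklyRegular.of_isLocalization _ (hW.primeIdealOf ⟨i z, hz⟩).asIdeal.primeCompl, fun htop => ?_⟩, hk⟩
  rw [smul_eq_mul, Ideal.mul_top, ← hk] at htop
  exact RingHom.ker_ne_top _ htop.symm

end Groth.Agent.S18944
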