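import Groth.Statements.S18945
import Groth.Agent.L19.RootSynt
import Groth.Agent.L07.SyntBase

set_option autoImplicit false
set_option backward.isDefEq.respectTransparency.types false
set_option backward.isDefEq.respectTransparency false
set_option linter.style.haveILetI false
universe u
open CategoryTheory AlgebraicGeometry
open Synt

namespace Groth.Agent.S18945

/-- Let p be a prime, X a scheme and a a global section of the structure sheaf of X. There is a covering
of X for the syntomic topology, that is a jointly surjective family of syntomic morphisms X_i → X,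
such that the restriction of a to each X_i is a p-th power. (The source states the surjectivity of
the p-th power map of the structure sheaf on the small syntomic site of a syntomic scheme over a
perfect field of characteristic p; the covering it uses elsewhere, adjoining a p-th root T^p = a
over affine pieces, gives the statement for every scheme, which is the form given here.) -/
theorem result (p : ℕ) [Fact p.Prime] (X : Scheme.{u}) (a : Γ(X, ⊤)) :
    ∃ 𝒰 : Scheme.Cover.{u} (Scheme.precoverage @Synt.IsSyntomicMor) X,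
      ∀ i : 𝒰.I₀, ∃ b : Γ(𝒰.X i, ⊤), b ^ p = (𝒰.f i).appTop a := by
  have hp : p ≠ 0 := (Fact.out : p.Prime).ne_zero
  -- the piece over an affine open
  have key : ∀ U : X.affineOpens, ∃ (B : CommRingCat.{u}) (q : Spec B ⟶ X),
      Synt.IsSyntomicMor q ∧ (U.1 : Set X) ⊆ Set.range q ∧ ∃ b : Γ(Spec B, ⊤), b ^ p = q.appTop a := by
    rintro ⟨U, hU⟩
    set c := X.presheaf.map (homOfLE (le_top : U ≤ ⊤)).op a
    by_cases hA : Nontrivial Γ(X, U)
    swap
    · rw [not_nontrivial_iff_subsingleton] at hA
      haveI := hA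
      have hempty : (U : Set X) = ∅ := by
        rw [← hU.range_fromSpec, Set.range_eq_empty_iff]
        exact inferInstanceAs (IsEmpty (PrimeSpectrum Γ(X, U)))
      haveI hE : IsEmpty (Spec Γ(X, U)) := inferInstanceAs (IsEmpty (PrimeSpectrum Γ(X, U)))
      refine ⟨Γ(X, U), hU.fromSpec, fun z => (hE.false z).elim, by simp [hempty], ?_⟩
      haveI : Subsingleton Γ(Spec Γ(X, U), ⊤) :=
        (Scheme.ΓSpecIso Γ(X, U)).commRingCatIsoToRingEquiv.toEquiv.subsingleton
      exact ⟨0, Subsingleton.elim _ _⟩
    let P : Polynomial Γ(X, U) := Polynomial.X ^ p - Polynomial.C c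
    have hm : P.Monic := Polynomial.monic_X_pow_sub_C c hp
    have hd : 0 < P.natDegree := by
      rw [Polynomial.natDegree_X_pow_sub_C]; exact Nat.pos_of_ne_zero hp
    let B : CommRingCat.{u} := CommRingCat.of (AdjoinRoot P)
    let φ : Γ(X, U) ⟶ B := CommRingCat.ofHom (algebraMap Γ(X, U) (AdjoinRoot P))
    let q : Spec B ⟶ X := Spec.map φ ≫ hU.fromSpec
    have hle : (⊤ : (Spec B).Opens) ≤ q ⁻¹ᵁ U := fun z _ =>
      hU.range_fromSpec.le ⟨Spec.map φ z, rfl⟩
    have happ : q.appLE U ⊤ hle = φ ≫ (Scheme.ΓSpecIso B).inv := by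
      have h1 : hU.fromSpec.appLE U ⊤ (by rw [hU.fromSpec_preimage_self]) = (Scheme.ΓSpecIso Γ(X, U)).inv := by
        rw [Scheme.Hom.appLE, hU.fromSpec_app_self, Category.assoc, ← Functor.map_comp]
        erw [CategoryTheory.Functor.map_id, Category.comp_id]
      rw [← Scheme.Hom.appLE_comp_appLE (Spec.map φ) hU.fromSpec U ⊤ ⊤
        (by rw [hU.fromSpec_preimage_self]) le_top, h1]
      exact (Scheme.ΓSpecIso_inv_naturality φ).symm
    refine ⟨B, q, fun z => ⟨⟨⊤, isAffineOpen_top _⟩, ⟨U, hU⟩, hle, trivial, ?_⟩, ?_, ?_⟩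
    · letI := (q.appLE U ⊤ hle).hom.toAlgebra
      refine Groth.L07.SyntBase.isSyntomic_ringEquiv (RingEquiv.refl _)
        (Scheme.ΓSpecIso B).commRingCatIsoToRingEquiv.symm (fun r => ?_)
        (Groth.L19.RootSynt.isSyntomic_adjoinRoot _ P hm)
      exact (ConcreteCategory.congr_hom happ r).symm
    · intro x hx
      haveI := Groth.L19.RootSynt.faithfullyFlat_adjoinRoot _ P hm hd
      obtain ⟨w, rfl⟩ := hU.range_fromSpec.ge hx
      obtain ⟨v, hv⟩ := PrimeSpectrum.comap_surjective_of_faithfullyFlat (A := Γ(X, U)) (B := AdjoinRoot P) w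
      exact ⟨v, congrArg hU.fromSpec hv⟩
    · refine ⟨(Scheme.ΓSpecIso B).inv (AdjoinRoot.root P), ?_⟩
      have h2 : (AdjoinRoot.root P) ^ p = φ c := by
        have h3 := AdjoinRoot.eval₂_root P
        simp only [P, Polynomial.eval₂_sub, Polynomial.eval₂_pow, Polynomial.eval₂_X, Polynomial.eval₂_C,
          sub_eq_zero] at h3
        exact h3
      rw [← map_pow]
      refine (congrArg (Scheme.ΓSpecIso B).inv h2).trans ?_
      rw [← CommRingCat.comp_apply, ← happ, ← CommRingCat.comp_apply, Scheme.Hom.map_appLE]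
      simp [Scheme.Hom.appLE]
  choose B q hq hsurj hroot using key
  refine ⟨{ I₀ := X.affineOpens, X := fun U => Spec (B U), f := q, mem₀ := ?_ }, hroot⟩
  rw [Scheme.ofArrows_mem_precoverage_iff]
  refine ⟨fun x => ?_, hq⟩
  obtain ⟨U, hU, hxU, -⟩ := exists_isAffineOpen_mem_and_subset (x := x) (U := (⊤ : X.Opens)) trivial
  exact ⟨⟨U, hU⟩, hsurj _ hxU⟩

end Groth.Agent.S18945
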