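import Groth.Statements.S18946


set_option autoImplicit false
universe u
open scoped BigOperators
open InvQ

namespace Groth.Agent.S18946

/-- Let k be an algebraically closed field of characteristic zero and n a natural number, and let the
torus of (n+1)-tuples of units of k with product 1 act on the polynomial ring k[t_0, ..., t_n] by
rescaling each variable t_i by the i-th unit. A polynomial is fixed by every such rescaling if and
only if it lies in the k-subalgebra generated by the product t_0 t_1 ... t_n. (This is the
computation of the ring of functions on affine (n+1)-space invariant under the maximal diagonal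
torus of the special linear group, identified with the polynomial ring in the single coordinate t =
t_0 ... t_n of the line it maps to by the product map; invariance is tested on k-valued points of
the torus, which over an infinite field is the same as invariance under the group scheme.) -/
theorem result
    (k : Type u) [Field k] [IsAlgClosed k] [CharZero k] (n : ℕ)
    (f : MvPolynomial (Fin (n + 1)) k) :
    (∀ σ : Fin (n + 1) → kˣ, ∏ i, (σ i : k) = 1 →
        MvPolynomial.aeval (fun i => MvPolynomial.C (σ i : k) * MvPolynomial.X i) f = f) ↔
      f ∈ Algebra.adjoin k ({∏ i : Fin (n + 1), MvPolynomial.X i} : Set (MvPolynomial (Fin (n + 1)) k)) := by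
  classical
  have hmon : ∀ (c : Fin (n + 1) → k) (m : Fin (n + 1) →₀ ℕ) (r : k),
      MvPolynomial.aeval (fun i => MvPolynomial.C (c i) * MvPolynomial.X i) (MvPolynomial.monomial m r) =
        MvPolynomial.C (∏ i, c i ^ m i) * MvPolynomial.monomial m r := by
    intro c m r
    rw [MvPolynomial.aeval_monomial, Finsupp.prod_fintype _ _ (fun i => by simp)]
    simp only [mul_pow, Finset.prod_mul_distrib, ← map_pow, ← map_prod]
    rw [MvPolynomial.monomial_eq (a := r), Finsupp.prod_fintype _ _ (fun i => by simp),
      MvPolynomial.algebraMap_eq]
    ring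
  constructor
  · intro h
    rw [← MvPolynomial.support_sum_monomial_coeff f]
    refine Subalgebra.sum_mem _ fun m hm => ?_
    have hcoeff : ∀ (c : Fin (n + 1) → k), MvPolynomial.coeff m
        (MvPolynomial.aeval (fun i => MvPolynomial.C (c i) * MvPolynomial.X i) f) =
          (∏ i, c i ^ m i) * MvPolynomial.coeff m f := by
      intro c
      conv_lhs => rw [← MvPolynomial.support_sum_monomial_coeff f]
      rw [map_sum, MvPolynomial.coeff_sum, Finset.sum_eq_single m]
      · rw [hmon, MvPolynomial.coeff_C_mul, MvPolynomial.coeff_monomial, if_pos rfl]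
      · intro b _ hb; rw [hmon, MvPolynomial.coeff_C_mul, MvPolynomial.coeff_monomial, if_neg hb, mul_zero]
      · intro h; exact absurd hm h
    have heq : ∀ i j, m i = m j := by
      intro i j
      rcases eq_or_ne i j with rfl | hij
      · rfl
      let t : kˣ := Units.mk0 (2 : k) two_ne_zero
      let σ : Fin (n + 1) → kˣ := Function.update (Function.update 1 i t) j t⁻¹
      have hσ : ∀ e : Fin (n + 1) → ℕ, ∏ l, ((σ l : k)) ^ e l = (2 : k) ^ e i * ((2 : k)⁻¹) ^ e j := by
        intro e
        rw [← Finset.mul_prod_erase Finset.univ _ (Finset.mem_univ i),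
          ← Finset.mul_prod_erase (Finset.univ.erase i) _ (Finset.mem_erase.2 ⟨hij.symm, Finset.mem_univ j⟩),
          Finset.prod_eq_one (fun l hl => ?_)]
        · simp [σ, t, hij]
        · simp only [Finset.mem_erase] at hl
          simp [σ, hl.1, hl.2.1]
      have h1 : ∏ l, ((σ l : k)) = 1 := by
        have := hσ 1
        simpa using this
      have := hcoeff fun l => (σ l : k)
      rw [h σ h1, hσ] at this
      have h2 : (2 : k) ^ m i * ((2 : k)⁻¹) ^ m j = 1 := by
        have h3 := MvPolynomial.mem_support_iff.1 hm
        exact mul_right_cancel₀ h3 (by rw [one_mul]; exact this.symm)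
      rw [inv_pow, mul_inv_eq_one₀ (pow_ne_zero _ two_ne_zero)] at h2
      exact Nat.pow_right_injective (le_refl 2) (by exact_mod_cast h2)
    have hm' : MvPolynomial.monomial m (MvPolynomial.coeff m f) =
        MvPolynomial.C (MvPolynomial.coeff m f) * (∏ i : Fin (n + 1), MvPolynomial.X i) ^ (m 0) := by
      rw [MvPolynomial.monomial_eq, Finsupp.prod_fintype _ _ (fun i => by simp), ← Finset.prod_pow]
      congr 1
      exact Finset.prod_congr rfl fun i _ => by rw [heq i 0]
    rw [hm']
    exact Subalgebra.mul_mem _ (Subalgebra.algebraMap_mem _ _)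
      (Subalgebra.pow_mem _ (Algebra.subset_adjoin (Set.mem_singleton _)) _)
  · intro hf σ hσ
    let φ : MvPolynomial (Fin (n + 1)) k →ₐ[k] MvPolynomial (Fin (n + 1)) k :=
      MvPolynomial.aeval fun i => MvPolynomial.C (σ i : k) * MvPolynomial.X i
    refine (Algebra.adjoin_le (S := AlgHom.equalizer φ (AlgHom.id k _)) ?_ hf :)
    rintro _ rfl
    show φ _ = _
    simp only [φ, AlgHom.id_apply, map_prod, MvPolynomial.aeval_X, Finset.prod_mul_distrib]
    rw [← map_prod, hσ, map_one, one_mul]

end Groth.Agent.S18946
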