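import Groth.Statements.S18948
import Mathlib.Tactic.Group

set_option autoImplicit false
universe u v
open CExt

namespace Groth.Agent.S18948

theorem ho.{w} {H : Type w} [Group H] (a b : H) :
    b ∈ MulAction.orbit (ConjAct H) a ↔ ∃ h : H, h * a * h⁻¹ = b := by
  constructor
  · rintro ⟨c, rfl⟩; exact ⟨ConjAct.ofConjAct c, (ConjAct.smul_def c a).symm⟩
  · rintro ⟨h, rfl⟩; exact ⟨ConjAct.toConjAct h, by simp [ConjAct.smul_def]⟩

/-- Let f : E → G be a surjective homomorphism of groups whose kernel is central in E, and let x ∈ E.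
Then f maps the conjugacy class of x bijectively onto the conjugacy class of f(x) if and only if
every element of G commuting with f(x) is the image of some element of E commuting with x. (In the
source E → G is the central extension, with kernel the roots of unity, attached to a Brauer class of
the classifying stack of a finite tame étale group scheme, and a conjugacy class of E mapping
bijectively onto a given class of G is a marking; the equivalence is stated here for an arbitrary
central extension of abstract groups.) -/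
theorem result {E : Type u} {G : Type v} [Group E] [Group G]
    (f : E →* G) (hf : Function.Surjective f) (hker : f.ker ≤ Subgroup.center E) (x : E) :
    Set.BijOn f (MulAction.orbit (ConjAct E) x) (MulAction.orbit (ConjAct G) (f x)) ↔
      ∀ g : G, g * f x = f x * g → ∃ e : E, f e = g ∧ e * x = x * e := by
  constructor
  · intro hb g hg
    obtain ⟨e, rfl⟩ := hf g
    refine ⟨e, rfl, ?_⟩
    have h1 : e * x * e⁻¹ = x := by
      apply hb.injOn ((ho _ _).2 ⟨e, rfl⟩) ((ho _ _).2 ⟨1, by simp⟩)
      rw [map_mul, map_mul, map_inv, hg]; group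
    exact mul_inv_eq_iff_eq_mul.1 h1
  · intro h
    refine ⟨?_, ?_, ?_⟩
    · rintro _ hy
      obtain ⟨e, rfl⟩ := (ho _ _).1 hy
      exact (ho _ _).2 ⟨f e, by simp⟩
    · rintro _ hy _ hz hyz
      obtain ⟨d, rfl⟩ := (ho _ _).1 hy
      obtain ⟨e, rfl⟩ := (ho _ _).1 hz
      simp only [map_mul, map_inv] at hyz
      have h1 : f (e⁻¹ * d) * f x = f x * f (e⁻¹ * d) := by
        rw [mul_inv_eq_iff_eq_mul] at hyz
        calc f (e⁻¹ * d) * f x = (f e)⁻¹ * (f d * f x) := by rw [map_mul, map_inv]; group
          _ = (f e)⁻¹ * (f e * f x * (f e)⁻¹ * f d) := by rw [hyz]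
          _ = f x * f (e⁻¹ * d) := by rw [map_mul, map_inv]; group
      obtain ⟨c, hc, hcx⟩ := h _ h1
      set a := c⁻¹ * (e⁻¹ * d) with ha'
      have ha : a * x = x * a := by
        have : a ∈ f.ker := by rw [MonoidHom.mem_ker, ha', map_mul, map_inv, hc, inv_mul_cancel]
        exact (Subgroup.mem_center_iff.1 (hker this) x).symm
      have h2 : (c * a) * x = x * (c * a) := by rw [mul_assoc, ha, ← mul_assoc, hcx, mul_assoc]
      calc d * x * d⁻¹ = e * ((c * a) * x) * (c * a)⁻¹ * e⁻¹ := by rw [ha']; group
        _ = e * x * e⁻¹ := by rw [h2]; group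
    · rintro _ hy
      obtain ⟨g, rfl⟩ := (ho _ _).1 hy
      obtain ⟨e, rfl⟩ := hf g
      exact ⟨e * x * e⁻¹, (ho _ _).2 ⟨e, rfl⟩, by simp⟩

end Groth.Agent.S18948
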