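import Groth.Statements.S18949
import Mathlib.Tactic.Group

set_option autoImplicit false
universe u v
open CExt

namespace Groth.Agent.S18949

/-- Automorphisms over the base: let f : E → G be a surjective homomorphism of groups with central
kernel A. For every homomorphism χ : G → A the map e ↦ χ(f(e)) · e is an endomorphism of E over G
which is the identity on A; and every endomorphism α of E with f ∘ α = f and α equal to the identity
on A is of this form for exactly one χ. (In the source this identifies the automorphisms of a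
central extension fixing its kernel with Hom(G, A), for extensions of profinite étale group schemes
over a field; stated here for abstract groups.) -/
theorem result {E : Type u} {G : Type v} [Group E] [Group G]
    (f : E →* G) (hf : Function.Surjective f) (hker : f.ker ≤ Subgroup.center E) :
    (∀ χ : G →* f.ker, ∃ α : E →* E, f.comp α = f ∧ (∀ a ∈ f.ker, α a = a) ∧
        ∀ e : E, α e = (χ (f e) : E) * e) ∧
      ∀ α : E →* E, f.comp α = f → (∀ a ∈ f.ker, α a = a) →
        ∃! χ : G →* f.ker, ∀ e : E, α e = (χ (f e) : E) * e := by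
  have hc : ∀ a : f.ker, ∀ e : E, (a : E) * e = e * a := fun a e =>
    (Subgroup.mem_center_iff.1 (hker a.2) e).symm
  have hk : ∀ a : f.ker, f a = 1 := fun a => a.2
  constructor
  · intro χ
    refine ⟨MonoidHom.mk' (fun e => (χ (f e) : E) * e) (fun a b => ?_), ?_, ?_, fun e => rfl⟩
    · simp only [map_mul, Subgroup.coe_mul]
      rw [mul_assoc, ← mul_assoc (χ (f b) : E) a b, hc (χ (f b)) a]; simp [mul_assoc]
    · ext e; simp [hk]
    · intro a ha; simp [MonoidHom.mem_ker.1 ha]
  · intro α hα hαA
    choose s hs using hf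
    have hfe : ∀ e, f (α e) = f e := fun e => DFunLike.congr_fun hα e
    have hd : ∀ e, α e * e⁻¹ ∈ f.ker := fun e => by simp [MonoidHom.mem_ker, hfe]
    have hwd : ∀ e e', f e = f e' → α e * e⁻¹ = α e' * e'⁻¹ := by
      intro e e' h
      have hk' : e'⁻¹ * e ∈ f.ker := by simp [MonoidHom.mem_ker, h]
      have := hαA _ hk'
      rw [map_mul, map_inv, inv_mul_eq_iff_eq_mul] at this
      rw [this]; group
    have hmul : ∀ g h, (⟨_, hd (s (g * h))⟩ : f.ker) = ⟨_, hd (s g)⟩ * ⟨_, hd (s h)⟩ := by
      intro g h
      apply Subtype.ext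
      show α (s (g * h)) * (s (g * h))⁻¹ = (α (s g) * (s g)⁻¹) * (α (s h) * (s h)⁻¹)
      rw [hwd _ (s g * s h) (by simp [hs]), map_mul, mul_inv_rev]
      have := hc ⟨_, hd (s h)⟩ ((s g)⁻¹)
      simp only at this
      rw [mul_assoc (α (s g)) (s g)⁻¹, ← this]; group
    refine ⟨MonoidHom.mk' (fun g => ⟨_, hd (s g)⟩) hmul, fun e => ?_, fun χ hχ => ?_⟩
    · show α e = α (s (f e)) * (s (f e))⁻¹ * e
      rw [hwd _ e (hs _)]; group
    · ext g
      show (χ g : E) = α (s g) * (s g)⁻¹
      rw [hχ (s g), hs]; group

end Groth.Agent.S18949
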