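import Groth.Statements.S1895
import Groth.Agent.L24.AffQuot.EtaleStab.Cover
import Groth.Agent.L24.AffQuot.EtaleStab.Target
import Groth.Agent.L24.Quot.OfGroupoid
import Groth.Agent.L23.SourceDescent
-- import your own Groth.Agent.* helpers here

set_option autoImplicit false
set_option backward.isDefEq.respectTransparency.types false
universe u
open CategoryTheory CategoryTheory.Limits AlgebraicGeometry
open Grpd

namespace Groth.Agent.S1895

/-- Let f : (U', R', s', t', c') → (U, R, s, t, c) be a morphism of groupoid schemes over S with U, R,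
U', R' affine, s, t, s', t' finite locally free, the squares for s and for t cartesian, the induced
square of stabilizer group schemes cartesian, and f : U' → U étale. Then the induced morphism Spec
C' → Spec C on spectra of invariant rings (the unique one compatible with U' → U) is étale. (The
source's second conclusion, U' = Spec C' ×_{Spec C} U, is not stated.) (A groupoid scheme carries U,
R, s, t, c, e, i over S with the groupoid axioms on T-points; 'finite locally free' is finite, flat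
and locally of finite presentation; C ⊂ Γ(U) is the ring of functions a with s♯(a) = t♯(a) and M =
Spec C.) -/
theorem result (S : Scheme.{u}) (G' G : Grpd.GroupoidScheme S) (f : Grpd.GroupoidScheme.Hom G' G) [IsAffine G.U] [IsAffine G.R] [IsAffine G'.U] [IsAffine G'.R] [IsFinite G.s] [Flat G.s] [LocallyOfFinitePresentation G.s] [IsFinite G.t] [Flat G.t] [LocallyOfFinitePresentation G.t] [IsFinite G'.s] [Flat G'.s] [LocallyOfFinitePresentation G'.s] [IsFinite G'.t] [Flat G'.t] [LocallyOfFinitePresentation G'.t] (hs : IsPullback f.fR G'.s G.s f.fU) (ht : IsPullback f.fR G'.t G.t f.fU) (hstab : ∃ g : G'.stabilizer ⟶ G.stabilizer, g ≫ pullback.fst G.j G.diag = pullback.fst G'.j G'.diag ≫ f.fR ∧ IsPullback g G'.stabilizerToU G.stabilizerToU f.fU) [Etale f.fU] : ∃ g : Spec (CommRingCat.of G'.invariants) ⟶ Spec (CommRingCat.of G.invariants), G'.toQuot ≫ g = f.fU ≫ G.toQuot ∧ Etale g := by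
  classical
  letI := Groth.Agent.L24.Quot.algR G
  letI := Groth.Agent.L24.Quot.algD G
  obtain ⟨d, hds, hdt, hdfull⟩ := Groth.Agent.L24.Quot.exists_dat G
  haveI := d.isIntegral (d.lifts_of_full hdfull)
  have hA : ∀ (x : Γ(G.U, ⊤)), G'.s.appTop.hom (f.fU.appTop.hom x) = f.fR.appTop.hom (G.s.appTop.hom x) :=
    fun x => by
      have h := Groth.Agent.L24.Quot.appTop_congr f.comm_s x
      simp only [Scheme.Hom.comp_appTop, CommRingCat.hom_comp, RingHom.comp_apply] at h
      exact h.symm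
  have hA' : ∀ (x : Γ(G.U, ⊤)), G'.t.appTop.hom (f.fU.appTop.hom x) = f.fR.appTop.hom (G.t.appTop.hom x) :=
    fun x => by
      have h := Groth.Agent.L24.Quot.appTop_congr f.comm_t x
      simp only [Scheme.Hom.comp_appTop, CommRingCat.hom_comp, RingHom.comp_apply] at h
      exact h.symm
  have hinv : ∀ c : G.invariants, f.fU.appTop.hom (c : Γ(G.U, ⊤)) ∈ G'.invariants := fun c => by
    show G'.s.appTop.hom _ = G'.t.appTop.hom _
    rw [hA, hA', Groth.Agent.L24.Quot.inv_st]
  let r₀ : G.invariants →+* G'.invariants :=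
    (f.fU.appTop.hom.comp G.invariants.subtype).codRestrict _ hinv
  -- the algebra structures
  letI : Algebra Γ(G.U, ⊤) Γ(G'.U, ⊤) := f.fU.appTop.hom.toAlgebra
  haveI : Algebra.Etale Γ(G.U, ⊤) Γ(G'.U, ⊤) :=
    RingHom.etale_algebraMap.1 (HasRingHomProperty.appTop @Etale f.fU inferInstance)
  letI : Algebra G.invariants G'.invariants := r₀.toAlgebra
  letI : Algebra G.invariants Γ(G'.U, ⊤) := (f.fU.appTop.hom.comp G.invariants.subtype).toAlgebra
  haveI : IsScalarTower G.invariants Γ(G.U, ⊤) Γ(G'.U, ⊤) := IsScalarTower.of_algebraMap_eq' rfl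
  letI : Algebra G.invariants Γ(G'.R, ⊤) :=
    (f.fR.appTop.hom.comp (G.s.appTop.hom.comp G.invariants.subtype)).toAlgebra
  let s' : Γ(G'.U, ⊤) →ₐ[G.invariants] Γ(G'.R, ⊤) :=
    { toRingHom := G'.s.appTop.hom, commutes' := fun c => hA c }
  let t' : Γ(G'.U, ⊤) →ₐ[G.invariants] Γ(G'.R, ⊤) :=
    { toRingHom := G'.t.appTop.hom
      commutes' := fun c => (hA' c).trans (congrArg _ (Groth.Agent.L24.Quot.inv_st G c).symm) }
  let fB : Γ(G.R, ⊤) →ₐ[G.invariants] Γ(G'.R, ⊤) :=
    { toRingHom := f.fR.appTop.hom, commutes' := fun c => rfl }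
  let ι : G'.invariants →ₐ[G.invariants] Γ(G'.U, ⊤) :=
    { toRingHom := G'.invariants.subtype, commutes' := fun c => rfl }
  have hint : ι.toRingHom.IsIntegral := by
    letI := Groth.Agent.L24.Quot.algR G'
    letI := Groth.Agent.L24.Quot.algD G'
    obtain ⟨d', -, -, hdfull'⟩ := Groth.Agent.L24.Quot.exists_dat G'
    exact (d'.isIntegral (d'.lifts_of_full hdfull')).1
  have hPs := isPushout_appTop_of_isPullback hs
  have hPt := isPushout_appTop_of_isPullback ht
  have key : ∀ {X Y : Scheme.{u}} [IsAffine X] [IsAffine Y] {T : CommRingCat.{u}} (p : X ⟶ Y) (g : Γ(X, ⊤) ⟶ T),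
      (Spec.map g ≫ inv X.toSpecΓ) ≫ p = Spec.map (p.appTop ≫ g) ≫ inv Y.toSpecΓ := fun {X Y} _ _ {T} p g => by
    rw [← cancel_mono Y.toSpecΓ, Category.assoc, Category.assoc, Scheme.toSpecΓ_naturality,
      IsIso.inv_hom_id_assoc, Category.assoc, IsIso.inv_hom_id, Category.comp_id, Spec.map_comp]
  have loc := fun q => Groth.L24.AffQuot.EtaleStab.exists_etale_nbhd (Groth.Agent.L24.Quot.sAlg G)
    (Groth.Agent.L24.Quot.tAlg G) s' t' fB ι Subtype.val_injective hint (fun c => c.2)
    (fun a ha => ⟨⟨a, ha⟩, rfl⟩) Subtype.val_injective (fun a ha => ⟨⟨a, ha⟩, rfl⟩) hA hA'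
    (fun {T} _ φ ψ h => ?_) (fun {T} _ φ ψ h₁ h₂ => ?_) (fun {T} _ φ ψ h₁ h₂ => ?_)
    G.t.finite_appTop (fun K _ _ _ z₀ z₁ => ?_) G'.e.appTop.hom (fun a => ?_) (fun a => ?_)
    (fun {K} _ ra ρ rb h₁ h₂ h₃ a => ?_) q
  rotate_left
  · -- pushout descent
    have w : G.s.appTop ≫ CommRingCat.ofHom ψ = f.fU.appTop ≫ CommRingCat.ofHom φ :=
      CommRingCat.hom_ext (RingHom.ext fun a => (h a).symm)
    exact ⟨(hPs.desc (CommRingCat.ofHom ψ) (CommRingCat.ofHom φ) w).hom,
      fun a => congr(($(hPs.inr_desc (CommRingCat.ofHom ψ) (CommRingCat.ofHom φ) w)).hom a),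
      fun b => congr(($(hPs.inl_desc (CommRingCat.ofHom ψ) (CommRingCat.ofHom φ) w)).hom b)⟩
  · refine congrArg CommRingCat.Hom.hom (show CommRingCat.ofHom φ = CommRingCat.ofHom ψ from ?_)
    exact hPs.hom_ext (CommRingCat.hom_ext (RingHom.ext h₁)) (CommRingCat.hom_ext (RingHom.ext h₂))
  · refine congrArg CommRingCat.Hom.hom (show CommRingCat.ofHom φ = CommRingCat.ofHom ψ from ?_)
    exact hPt.hom_ext (CommRingCat.hom_ext (RingHom.ext h₁)) (CommRingCat.hom_ext (RingHom.ext h₂))
  · obtain ⟨r, h0, h1⟩ := d.exists_arrow hdfull K z₀ z₁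
    exact ⟨r, hdt ▸ h0, hds ▸ h1⟩
  · have h := Groth.Agent.L24.Quot.appTop_congr G'.e_s a
    simp only [Scheme.Hom.comp_appTop, CommRingCat.hom_comp, RingHom.comp_apply, Scheme.Hom.id_appTop, CommRingCat.hom_id, RingHom.id_apply] at h
    exact h
  · have h := Groth.Agent.L24.Quot.appTop_congr G'.e_t a
    simp only [Scheme.Hom.comp_appTop, CommRingCat.hom_comp, RingHom.comp_apply, Scheme.Hom.id_appTop, CommRingCat.hom_id, RingHom.id_apply] at h
    exact h
  · let pt : (Γ(G'.R, ⊤) →+* K) → (Spec (CommRingCat.of K) ⟶ G'.R) := fun φ =>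
      Spec.map (CommRingCat.ofHom φ) ≫ inv G'.R.toSpecΓ
    have e := Groth.L24.AffQuot.EtaleStab.target_eq_mul f hs hstab (pt ra) (pt ρ) (pt rb)
      (by
        rw [key, key]
        congr 2
        exact CommRingCat.hom_ext (RingHom.ext h₁))
      (by
        rw [key, key]
        congr 2
        exact CommRingCat.hom_ext (RingHom.ext h₂))
      (by
        rw [key, key]
        congr 2
        refine CommRingCat.hom_ext (RingHom.ext fun a => ?_)
        simp only [Scheme.Hom.comp_appTop, CommRingCat.hom_comp, RingHom.comp_apply, CommRingCat.hom_ofHom]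
        exact h₃ a)
    rw [key, key, cancel_mono] at e
    exact congr(($(Spec.map_injective e)).hom a)
  choose D i₁ i₂ i₃ φ hφ hq using loc
  let g : Spec (CommRingCat.of G'.invariants) ⟶ Spec (CommRingCat.of G.invariants) :=
    Spec.map (CommRingCat.ofHom r₀)
  refine ⟨g, ?_, ?_⟩
  · rw [Grpd.GroupoidScheme.toQuot, Grpd.GroupoidScheme.toQuot, Category.assoc,
      Scheme.toSpecΓ_naturality_assoc, ← Spec.map_comp, ← Spec.map_comp]
    rfl
  let χ : (∐ fun q => Spec (CommRingCat.of (D q))) ⟶ Spec (CommRingCat.of G'.invariants) :=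
    Sigma.desc fun q => Spec.map (CommRingCat.ofHom (φ q).toRingHom)
  haveI : Etale χ := IsZariskiLocalAtSource.sigmaDesc (P := @Etale.{u}) fun q =>
    (HasRingHomProperty.Spec_iff (P := @Etale.{u})).2 (hφ q)
  haveI : Surjective χ := ⟨fun (q : PrimeSpectrum G'.invariants) => by
    obtain ⟨y, hy⟩ := hq q
    refine ⟨Sigma.ι (fun q => Spec (CommRingCat.of (D q))) q y, ?_⟩
    show (Sigma.ι (fun q => Spec (CommRingCat.of (D q))) q ≫ χ) y = _
    rw [Sigma.ι_desc]
    exact hy⟩
  refine Groth.L23.etale_of_etale_comp' χ g ?_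
  have he : χ ≫ g = Sigma.desc fun q => Spec.map (CommRingCat.ofHom (algebraMap G.invariants (D q))) := by
    refine Sigma.hom_ext _ _ fun q => ?_
    simp only [χ, g, Sigma.ι_desc_assoc, Sigma.ι_desc, ← Spec.map_comp, ← CommRingCat.ofHom_comp]
    congr 2
    exact (φ q).comp_algebraMap
  rw [he]
  exact IsZariskiLocalAtSource.sigmaDesc (P := @Etale.{u}) fun q =>
    (HasRingHomProperty.Spec_iff (P := @Etale.{u})).2 (RingHom.etale_algebraMap.2 (i₃ q))

end Groth.Agent.S1895
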