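import Groth.Statements.S18951

set_option autoImplicit false
universe u
open OrbPic

namespace Groth.Agent.S18951

open W4c6brauerbgmalle

/-- Let G be a group and C ⊆ G a subset that generates G. Then the projection (χ, w) ↦ w from the group
of geometric partial orbifold line bundles with respect to C to functions G → ℚ is injective, its
image contains every conjugation-invariant integer-valued function vanishing at 1 and outside C, and
the group is torsion-free. (The source works with the geometric points of a tame finite étale group
scheme, characters with values in roots of unity and weights on conjugacy classes of the Tate twist;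
here these are identified with a group, homomorphisms to ℚ/ℤ and class functions as the source does
after choosing roots of unity. The case C = G ∖ {1} is the statement for full orbifold line
bundles.) -/
theorem result (G : Type u) [Group G] (C : Set G)
    (hC : Subgroup.closure C = ⊤) :
    Set.InjOn (fun p : (Additive G →+ W4c6brauerbgmalle.QmodZ) × (G → ℚ) => p.2) (W4c6brauerbgmalle.picOrb G C) ∧
      (∀ w ∈ W4c6brauerbgmalle.intWeights G C, ((0 : Additive G →+ W4c6brauerbgmalle.QmodZ), w) ∈ W4c6brauerbgmalle.picOrb G C) ∧
      ∀ (n : ℕ) (p : (Additive G →+ W4c6brauerbgmalle.QmodZ) × (G → ℚ)), p ∈ W4c6brauerbgmalle.picOrb G C → n ≠ 0 →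
        n • p = 0 → p = 0 := by
  have key : ∀ p : (Additive G →+ QmodZ) × (G → ℚ), p ∈ picOrb G C → p.2 = 0 → p = 0 := by
    rintro ⟨χ, w⟩ ⟨-, -, -, h4⟩ (hw : w = 0)
    subst hw
    refine Prod.ext (AddMonoidHom.ext fun a => ?_) rfl
    have hle : Subgroup.closure C ≤ (AddMonoidHom.toMultiplicativeRight χ).ker :=
      (Subgroup.closure_le _).mpr fun g hg => by
        have := h4 g hg
        simp only [Pi.zero_apply, map_zero] at this
        show Multiplicative.ofAdd (χ (Additive.ofMul g)) = 1
        rw [← this]
        rfl
    exact hle (hC ▸ Subgroup.mem_top a.toMul)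
  refine ⟨fun p hp q hq h => sub_eq_zero.mp (key _ (sub_mem hp hq) (sub_eq_zero.mpr h)), ?_, ?_⟩
  · rintro w ⟨h1, h2, h3, h4⟩
    refine ⟨h1, h2, h3, fun g _ => ?_⟩
    obtain ⟨n, hn⟩ := h4 g
    show toQmodZ (w g) = 0
    rw [hn]
    exact (QuotientAddGroup.eq_zero_iff _).mpr (AddSubgroup.mem_zmultiples_iff.mpr ⟨n, by simp⟩)
  · intro n p hp hn h
    refine key p hp (funext fun g => ?_)
    have := congr_fun (congr_arg Prod.snd h) g
    simpa [hn] using this

end Groth.Agent.S18951
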