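import Groth.Statements.S18952

set_option autoImplicit false
universe u
open OrbPic

namespace Groth.Agent.S18952

open W4c6brauerbgmalle

/-- Let G be a group and C ⊆ G a subset stable under conjugation. Then (χ, w) ↦ χ maps the group of
geometric partial orbifold line bundles with respect to C onto all characters G → ℚ/ℤ, and a pair in
its kernel (χ trivial) has w a conjugation-invariant integer-valued function vanishing at 1 and
outside C: with the inclusion of such functions this is the exact sequence 0 → Hom(C/conj, ℤ) → Pic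
→ Hom(G, ℚ/ℤ) → 0 over a separably closed field. (As in the source after a choice of roots of unity,
the group G stands for the geometric points of a tame finite étale group scheme, characters are
homomorphisms to ℚ/ℤ and weights are class functions on G.) -/
theorem result (G : Type u) [Group G] (C : Set G)
    (hC : ∀ g h : G, g ∈ C → h * g * h⁻¹ ∈ C) :
    (∀ χ : Additive G →+ W4c6brauerbgmalle.QmodZ, ∃ w : G → ℚ, (χ, w) ∈ W4c6brauerbgmalle.picOrb G C) ∧
      (∀ p : (Additive G →+ W4c6brauerbgmalle.QmodZ) × (G → ℚ), p ∈ W4c6brauerbgmalle.picOrb G C → p.1 = 0 →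
        p.2 ∈ W4c6brauerbgmalle.intWeights G C) := by
  classical
  constructor
  · intro χ
    have hs : Function.Surjective toQmodZ := QuotientAddGroup.mk'_surjective _
    let w : G → ℚ := fun g =>
      if g ∈ C ∧ g ≠ 1 then Function.surjInv hs (χ (Additive.ofMul g)) else 0
    refine ⟨w, ?_, ?_, fun g h => ?_, fun g hg => ?_⟩
    · simp [w]
    · intro g hg
      simp [w, hg]
    · have h1 : h * g * h⁻¹ ∈ C ↔ g ∈ C :=
        ⟨fun hm => by simpa [mul_assoc] using hC _ h⁻¹ hm, hC g h⟩
      have h2 : h * g * h⁻¹ ≠ 1 ↔ g ≠ 1 := by simp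
      have h3 : χ (Additive.ofMul (h * g * h⁻¹)) = χ (Additive.ofMul g) := by
        rw [ofMul_mul, ofMul_mul, ofMul_inv, map_add, map_add, map_neg]
        exact add_neg_cancel_comm _ _
      show (if _ then _ else _) = (if _ then _ else _)
      simp only [h1, h2, h3]
    · by_cases h1 : g = 1
      · subst h1
        simp [w]
      · simp only [w, hg, h1, ne_eq, not_false_eq_true, and_self, if_true]
        exact Function.surjInv_eq hs _
  · rintro ⟨χ, w⟩ ⟨h1, h2, h3, h4⟩ (hχ : χ = 0)
    subst hχ
    refine ⟨h1, h2, h3, fun g => ?_⟩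
    by_cases hg : g ∈ C
    · obtain ⟨n, hn⟩ := AddSubgroup.mem_zmultiples_iff.mp
        ((QuotientAddGroup.eq_zero_iff (w g)).mp (h4 g hg))
      exact ⟨n, by simpa using hn.symm⟩
    · exact ⟨0, by simpa using h2 g hg⟩

end Groth.Agent.S18952
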