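import Groth.Statements.S18953

set_option autoImplicit false
universe u v
open OrbPic

namespace Groth.Agent.S18953

open W4c6brauerbgmalle

/-- Let G₁ and G₂ be groups with subsets C₁ ⊆ G₁ and C₂ ⊆ G₂, and let C ⊆ G₁ × G₂ be the union of C₁ ×
{1} and {1} × C₂. Restricting the character and the weight along the two inclusions G₁ → G₁ × G₂ and
G₂ → G₁ × G₂ is a bijection from the geometric partial orbifold line bundles of G₁ × G₂ with respect
to C onto pairs of geometric partial orbifold line bundles of G₁ with respect to C₁ and of G₂ with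
respect to C₂. (As in the source after a choice of roots of unity, each group stands for the
geometric points of a tame finite étale group scheme, characters are homomorphisms to ℚ/ℤ and
weights are class functions; the source states the Galois-equivariant version, which follows by
taking invariants.) -/
theorem result (G₁ : Type u) (G₂ : Type v) [Group G₁] [Group G₂] (C₁ : Set G₁) (C₂ : Set G₂) :
    Set.BijOn
      (fun p : (Additive (G₁ × G₂) →+ W4c6brauerbgmalle.QmodZ) × (G₁ × G₂ → ℚ) =>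
        ((p.1.comp (MonoidHom.toAdditive (MonoidHom.inl G₁ G₂)), fun g => p.2 (g, 1)),
          (p.1.comp (MonoidHom.toAdditive (MonoidHom.inr G₁ G₂)), fun g => p.2 (1, g))))
      (W4c6brauerbgmalle.picOrb (G₁ × G₂) ((fun g => (g, (1 : G₂))) '' C₁ ∪ (fun g => ((1 : G₁), g)) '' C₂))
      ((W4c6brauerbgmalle.picOrb G₁ C₁ : Set _) ×ˢ (W4c6brauerbgmalle.picOrb G₂ C₂ : Set _)) := by
  classical
  refine ⟨?_, ?_, ?_⟩
  · rintro ⟨χ, w⟩ ⟨h1, h2, h3, h4⟩
    have h1' : w (1, 1) = 0 := h1
    refine ⟨⟨h1, fun g hg => ?_, fun g h => ?_, fun g hg => h4 (g, 1) (Or.inl ⟨g, hg, rfl⟩)⟩,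
      ⟨h1, fun g hg => ?_, fun g h => ?_, fun g hg => h4 (1, g) (Or.inr ⟨g, hg, rfl⟩)⟩⟩
    · by_cases hg1 : g = 1
      · subst hg1; exact h1'
      · refine h2 (g, 1) ?_
        rintro (⟨a, ha, he⟩ | ⟨a, ha, he⟩)
        · exact hg ((show a = g from congr_arg Prod.fst he) ▸ ha)
        · exact hg1 (congr_arg Prod.fst he).symm
    · simpa using h3 (g, 1) (h, 1)
    · by_cases hg1 : g = 1
      · subst hg1; exact h1'
      · refine h2 (1, g) ?_
        rintro (⟨a, ha, he⟩ | ⟨a, ha, he⟩)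
        · exact hg1 (congr_arg Prod.snd he).symm
        · exact hg ((show a = g from congr_arg Prod.snd he) ▸ ha)
    · simpa using h3 (1, g) (1, h)
  · rintro ⟨χ, w⟩ ⟨h1, h2, -, -⟩ ⟨χ', w'⟩ ⟨h1', h2', -, -⟩ h
    simp only [Prod.mk.injEq] at h
    obtain ⟨⟨hχ1, hw1⟩, hχ2, hw2⟩ := h
    refine Prod.ext (AddMonoidHom.ext fun a => ?_) (funext fun g => ?_)
    · have he : a = Additive.ofMul (a.toMul.1, (1 : G₂)) + Additive.ofMul ((1 : G₁), a.toMul.2) := by
        show a.toMul = (a.toMul.1, (1 : G₂)) * ((1 : G₁), a.toMul.2)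
        simp
      show χ a = χ' a
      rw [he, map_add, map_add]
      exact congr_arg₂ (· + ·) (DFunLike.congr_fun hχ1 (Additive.ofMul a.toMul.1))
        (DFunLike.congr_fun hχ2 (Additive.ofMul a.toMul.2))
    · by_cases hg : g ∈ ((fun g => (g, (1 : G₂))) '' C₁ ∪ (fun g => ((1 : G₁), g)) '' C₂)
      · rcases hg with ⟨a, -, rfl⟩ | ⟨a, -, rfl⟩
        · exact congr_fun hw1 a
        · exact congr_fun hw2 a
      · exact (h2 g hg).trans (h2' g hg).symm
  · rintro ⟨⟨χ₁, w₁⟩, χ₂, w₂⟩ ⟨⟨a1, a2, a3, a4⟩, b1, b2, b3, b4⟩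
    dsimp only at a1 a2 a3 a4 b1 b2 b3 b4
    let χ : Additive (G₁ × G₂) →+ QmodZ :=
      χ₁.comp (MonoidHom.toAdditive (MonoidHom.fst G₁ G₂)) +
        χ₂.comp (MonoidHom.toAdditive (MonoidHom.snd G₁ G₂))
    let w : G₁ × G₂ → ℚ := fun g => if g.2 = 1 then w₁ g.1 else if g.1 = 1 then w₂ g.2 else 0
    refine ⟨(χ, w), ⟨?_, ?_, ?_, ?_⟩, ?_⟩
    · simpa [w] using a1
    · intro g hg
      show (if _ then _ else _) = (0 : ℚ)
      split_ifs with h h'
      · exact a2 _ fun hm => hg (Or.inl ⟨g.1, hm, Prod.ext rfl h.symm⟩)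
      · exact b2 _ fun hm => hg (Or.inr ⟨g.2, hm, Prod.ext h'.symm rfl⟩)
      · rfl
    · intro g h
      have e1 : h.2 * g.2 * h.2⁻¹ = 1 ↔ g.2 = 1 := by simp
      have e2 : h.1 * g.1 * h.1⁻¹ = 1 ↔ g.1 = 1 := by simp
      show (if _ then _ else _) = (if _ then _ else _)
      simp only [Prod.fst_mul, Prod.snd_mul, Prod.fst_inv, Prod.snd_inv, e1, e2, a3, b3]
    · rintro _ (⟨a, ha, rfl⟩ | ⟨a, ha, rfl⟩)
      · show toQmodZ (if (1 : G₂) = 1 then w₁ a else _) = χ₁ (Additive.ofMul a) + χ₂ (Additive.ofMul 1)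
        rw [if_pos rfl, ofMul_one, map_zero, add_zero]
        exact a4 a ha
      · show toQmodZ (if a = 1 then w₁ 1 else if (1 : G₁) = 1 then w₂ a else 0) =
          χ₁ (Additive.ofMul 1) + χ₂ (Additive.ofMul a)
        rw [ofMul_one, map_zero, zero_add, if_pos rfl]
        by_cases h : a = 1
        · subst h
          rw [if_pos rfl, show w₁ 1 = 0 from a1]
          simp
        · rw [if_neg h]
          exact b4 a ha
    · refine Prod.ext (Prod.ext (AddMonoidHom.ext fun a => ?_) (funext fun g => ?_))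
        (Prod.ext (AddMonoidHom.ext fun a => ?_) (funext fun g => ?_))
      · show χ₁ a + χ₂ (Additive.ofMul 1) = χ₁ a
        simp
      · simp [w]
      · show χ₁ (Additive.ofMul 1) + χ₂ a = χ₂ a
        simp
      · show (if g = 1 then w₁ 1 else if (1 : G₁) = 1 then w₂ g else 0) = w₂ g
        by_cases h : g = 1
        · subst h
          rw [if_pos rfl]
          exact (show w₁ 1 = 0 from a1).trans (show w₂ 1 = 0 from b1).symm
        · rw [if_neg h, if_pos rfl]

end Groth.Agent.S18953
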