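import Groth.Statements.S18958
import Groth.Agent.L11.Magnet.OpenStable

set_option autoImplicit false
universe u
open CategoryTheory MonoidalCategory CartesianMonoidalCategory MonObj AlgebraicGeometry Opposite
open Magnet

namespace Groth.Agent.S18958

/-- Let k be a field, G a group k-scheme and M a monoid k-scheme with a homomorphism of monoids i : G →
M and a zero o : Spec k → M (m·o = o = o·m for every point m of M). Assume that for every k-scheme T
whose underlying scheme is the spectrum of a field K, every open subset of M ×_k T which is stable
under G acting by left multiplication through i on the first factor and which contains the zero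
section T → M ×_k T is the whole of M ×_k T. Let X be a k-scheme with an action aX of G and j : U →
X an open immersion, G-equivariant for an action aU of G on U (an open G-stable subscheme). For a
G-scheme W write D_W for the functor on k-schemes whose value at Y is the set of k-morphisms M ×_k Y
→ W that are G-equivariant for G acting on M ×_k Y by left multiplication through i on the first
factor. Then the square of presheaves formed by D_U → D_X (composition with j), the restrictions D_U
→ U and D_X → X to the zero section of M, and j is cartesian. (In the source M is a Kempf monoid
with G its group of units, and the restriction to the zero section is viewed as the retraction of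
D_X onto the fixed points X^G; the displayed property of the open G-stable subsets of M over field
extensions is what the argument uses about M, and the square over X^G is cartesian exactly when the
one over X is, U^G being X^G ×_X U.) -/
theorem result (k : Type u) [Field k]
    (M G X U : Over (Spec (CommRingCat.of k))) [MonObj M] [GrpObj G] (i : G ⟶ M) [IsMonHom i]
    (o : 𝟙_ (Over (Spec (CommRingCat.of k))) ⟶ M)
    (ho : ∀ (T : Over (Spec (CommRingCat.of k))) (m : T ⟶ M), m * (toUnit T ≫ o) = toUnit T ≫ o ∧ (toUnit T ≫ o) * m = toUnit T ≫ o)
    (hM : ∀ (T : Over (Spec (CommRingCat.of k))) (K : Type u) [Field K] (eT : T.left ≅ Spec (CommRingCat.of K))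
      (W : (M ⊗ T).left.Opens),
      (CartesianMonoidalCategory.snd G (M ⊗ T)).left ⁻¹ᵁ W ≤
          ((((Magnet.MonAct.regular M).restrict i).prod (Magnet.MonAct.trivial G T)).act).left ⁻¹ᵁ W →
      (CartesianMonoidalCategory.lift (toUnit T ≫ o) (𝟙 T)).left ⁻¹ᵁ W = ⊤ → W = ⊤)
    (aX : AlgGrp.Action G X) (aU : AlgGrp.Action G U) (j : U ⟶ X) [IsOpenImmersion j.left]
    (hj : Magnet.MonAct.IsEquivariant (Magnet.MonAct.ofAction aU) (Magnet.MonAct.ofAction aX) j) :
    IsPullback
      (Magnet.MonAct.eqvHom.postcomp ((Magnet.MonAct.regular M).restrict i) j hj)
      (Magnet.MonAct.eqvHom.evalAt ((Magnet.MonAct.regular M).restrict i) (Magnet.MonAct.ofAction aU) o)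
      (Magnet.MonAct.eqvHom.evalAt ((Magnet.MonAct.regular M).restrict i) (Magnet.MonAct.ofAction aX) o)
      (yoneda.map j) := by
  exact Groth.L11.Magnet.isPullback_evalAt_open _ j hj o fun T K _ e W => hM T K e W

end Groth.Agent.S18958
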