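
import Groth.Statements.S1896
import Groth.Agent.L16.CohSupport

set_option autoImplicit false
universe u
open CategoryTheory AlgebraicGeometry
open Cyc

namespace Groth.Agent.S1896

/-- For a short exact sequence 0 → F → G → H → 0 of coherent O_X-modules (X locally Noetherian with
dimension function δ) whose supports have δ-dimension at most k, one has [G]_k = [F]_k + [H]_k
coefficientwise. Here (X, δ) satisfies Cyc.IsSetup (X locally Noetherian with universally catenary
local rings, δ a dimension function). -/
theorem result (X : Scheme.{u}) (δ : X → ℤ) (hX : Cyc.IsSetup X δ) (k : ℤ) (T : ShortComplex X.Modules) (hT : T.ShortExact) (h₁ : Coh.IsCoh T.X₁) (h₂ : Coh.IsCoh T.X₂) (h₃ : Coh.IsCoh T.X₃) (hdim : ∀ x : X, Nontrivial (T.X₂.presheaf.stalk x) → δ x ≤ k) : Cyc.sheafFun δ k T.X₂ = Cyc.sheafFun δ k T.X₁ + Cyc.sheafFun δ k T.X₃ := by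
  haveI := hX.1
  funext x
  simp only [Cyc.sheafFun, Pi.add_apply]
  split_ifs with hk
  · have hadd := Groth.L16.CohSupport.len_add hT x
    have htop : Groth.L16.CohSupport.len x T.X₂ ≠ ⊤ :=
      Groth.L16.CohSupport.len_ne_top h₂ fun z hz hzx => by
        by_contra hne
        have := hdim z (not_subsingleton_iff_nontrivial.1 hz)
        have := (hX.2.2 z x hzx hne).1
        omega
    rw [hadd] at htop
    have hadd' : Module.length (X.presheaf.stalk x) (T.X₂.presheaf.stalk x) = _ := hadd
    rw [hadd', ENat.toNat_add (fun h => htop (by rw [h, top_add])) (fun h => htop (by rw [h, add_top]))]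
    simp [Groth.L16.CohSupport.len]
  · simp

end Groth.Agent.S1896
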