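import Groth.Statements.S18960
import Groth.Agent.L09.CatLimLib
import Groth.Prelude.Def_W4stkcategoriessitesEss
import Mathlib.CategoryTheory.ConnectedComponents
import Mathlib.CategoryTheory.Endofunctor.Algebra
import Mathlib.CategoryTheory.Limits.Types.Filtered
import Mathlib.CategoryTheory.Limits.Types.Products
import Mathlib.Algebra.Category.Grp.Colimits
import Mathlib.Algebra.Category.Grp.EpiMono
import Mathlib.CategoryTheory.Limits.Creates
import Mathlib.CategoryTheory.FiberedCategory.Fiber
import Mathlib.CategoryTheory.Abelian.SerreClass.Localization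
import Mathlib.CategoryTheory.Limits.FunctorCategory.Basic

set_option autoImplicit false
universe w' w v u
open CategoryTheory Limits
open CatLim

namespace Groth.Agent.S18960
open CategoryTheory Category Functor Limits Opposite

/-- Let C be a category and T an endofunctor of C; let C(T) be the category whose objects are pairs (X,
u) with u : T X → X an isomorphism and whose morphisms (X, u) → (Y, w) are the morphisms X → Y
compatible with u and w — the full subcategory of T-algebras with invertible structure map — and let
π : C(T) → C be the forgetful functor. If T preserves colimits of shape J then π creates colimits of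
shape J. (The source assumes T preserves all small colimits and concludes for all small shapes; the
argument is shape by shape.) -/
theorem result {C : Type u} [Category.{v} C] (T : C ⥤ C)
    (J : Type w) [Category.{w'} J] [PreservesColimitsOfShape J T] :
    Nonempty (CreatesColimitsOfShape J
      ((ObjectProperty.ι (fun A : Endofunctor.Algebra T => IsIso A.str)) ⋙ Endofunctor.Algebra.forget T)) := by
  refine ⟨⟨fun {K} => createsColimitOfReflectsIso fun c t => ?_⟩⟩
  let α : (K ⋙ ObjectProperty.ι _ ⋙ Endofunctor.Algebra.forget T) ⋙ T ≅
      K ⋙ ObjectProperty.ι _ ⋙ Endofunctor.Algebra.forget T :=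
    NatIso.ofComponents (fun j => @asIso _ _ _ _ (K.obj j).obj.str (K.obj j).property)
      (fun {i j} f => (K.map f).hom.h)
  let tT := isColimitOfPreserves T t
  let e : T.obj c.pt ≅ c.pt := IsColimit.coconePointsIsoOfNatIso tT t α
  have he : ∀ j, T.map (c.ι.app j) ≫ e.hom = (K.obj j).obj.str ≫ c.ι.app j := fun j =>
    IsColimit.comp_coconePointsIsoOfNatIso_hom tT t α j
  let A : ObjectProperty.FullSubcategory (fun A : Endofunctor.Algebra T => IsIso A.str) :=
    ⟨⟨c.pt, e.hom⟩, inferInstanceAs (IsIso e.hom)⟩
  let d : Cocone K :=
    { pt := A
      ι :=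
        { app := fun j => ObjectProperty.homMk ⟨c.ι.app j, he j⟩
          naturality := fun i j f => by
            apply ObjectProperty.hom_ext
            apply Endofunctor.Algebra.Hom.ext
            exact c.ι.naturality f } }
  refine { liftedCocone := d, validLift := Cocone.ext (Iso.refl _) (fun j => comp_id _), makesColimit := ?_ }
  refine
    { desc := fun s => ObjectProperty.homMk ⟨t.desc ((ObjectProperty.ι _ ⋙ Endofunctor.Algebra.forget T).mapCocone s), ?_⟩
      fac := fun s j => ?_
      uniq := fun s m hm => ?_ }
  · refine tT.hom_ext fun j => ?_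
    show T.map (c.ι.app j) ≫ T.map _ ≫ s.pt.obj.str = T.map (c.ι.app j) ≫ e.hom ≫ _
    rw [← assoc, ← T.map_comp]
    exact ((congrArg (fun k => T.map k ≫ s.pt.obj.str) (t.fac _ j)).trans ((s.ι.app j).hom.h)).trans
      (((congrArg ((K.obj j).obj.str ≫ ·) (t.fac ((ObjectProperty.ι _ ⋙ Endofunctor.Algebra.forget T).mapCocone s) j).symm).trans (assoc _ _ _).symm).trans
        ((congrArg (· ≫ _) (he j).symm).trans (assoc _ _ _)))
  · apply ObjectProperty.hom_ext
    apply Endofunctor.Algebra.Hom.ext
    exact t.fac _ j
  · apply ObjectProperty.hom_ext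
    apply Endofunctor.Algebra.Hom.ext
    exact t.uniq ((ObjectProperty.ι _ ⋙ Endofunctor.Algebra.forget T).mapCocone s) m.hom.f
      (fun j => congrArg (fun k => k.hom.f) (hm j))

end Groth.Agent.S18960
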