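import Groth.Statements.S18965
import Groth.Agent.L03.ShStab.Mu

set_option autoImplicit false
open CategoryTheory CategoryTheory.Limits AlgebraicGeometry Polynomial
universe u
open ShStab

open Groth.L03.ShStab Groth.L03.Euler Groth.L03.ShStab.Bridge

namespace Groth.Agent.S18965

/-- Let k be an algebraically closed field of characteristic zero, X a smooth projective integral
variety of dimension n ≥ 1 over k polarised by an ample invertible sheaf L, and F, G torsion-free
coherent O_X-modules (pure of dimension n) which are slope-semistable with respect to L. If μ_L(G) <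
μ_L(F) then Hom(F, G) = 0. Slopes are compared through the quantity α_(n−1)/α_n of the Hilbert
polynomials with respect to L, which on a fixed polarised X is an increasing affine function of the
slope det · L^(n−1)/rank. -/
theorem result (k : Type u) [Field k] [IsAlgClosed k] [CharZero k]
    (X : Scheme.{u}) [X.Over (Spec (CommRingCat.of k))] [IsIntegral X]
    [IsProper (X ↘ Spec (CommRingCat.of k))] [Smooth (X ↘ Spec (CommRingCat.of k))]
    (n : ℕ) (hn : 1 ≤ n) (hX : topologicalKrullDim X = (n : WithBot ℕ∞))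
    (L : X.Modules) (hLi : PicF.IsInvertible L) (hL : CohB1.IsAmple L)
    (F G : X.Modules) (hFt : ShStab.IsPure X F n) (hGt : ShStab.IsPure X G n)
    (hF : ShStab.IsMuSemistable k X L F n) (hG : ShStab.IsMuSemistable k X L G n)
    (pF pG : ℚ[X]) (hpF : ShStab.IsHilbPoly k X L F pF) (hpG : ShStab.IsHilbPoly k X L G pG)
    (hlt : StabCat.hatSlope n pG < StabCat.hatSlope n pF) (φ : F ⟶ G) : φ = 0 := by
  obtain ⟨hFc, hF0, hFss⟩ := And.intro hF.1 (And.intro hF.2.1 hF.2.2.2.2)
  obtain ⟨hGc, hG0, hGss⟩ := And.intro hG.1 (And.intro hG.2.1 hG.2.2.2.2)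
  by_contra hφ
  obtain ⟨hK, hI, -⟩ := Basic.coh_parts k hFc hGc φ
  have dF := Basic.dim_le_of_isPure hFc hFt
  have dG := Basic.dim_le_of_isPure hGc hGt
  obtain ⟨pI, hpI⟩ := Basic.exists_hilb (k := k) hL.1 hI (Basic.dim_sub_le (Abelian.image.ι φ) dG)
  obtain ⟨pK, hpK⟩ := Basic.exists_hilb (k := k) hL.1 hK (Basic.dim_sub_le (kernel.ι φ) dF)
  have hI0 : ¬ IsZero (Abelian.image φ) := fun h =>
    hφ (by rw [← Abelian.image.fac φ, h.eq_of_tgt (Abelian.factorThruImage φ) 0, Limits.zero_comp])
  have h1 := Mu.hatSlope_le_of_mono hL hn hGt hG (Abelian.image.ι φ) hI hI0 hpI hpG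
  have hsum := Basic.hilb_kernel_image hL hFc hGc φ hpF hpK hpI
  have h2 := Mu.hatSlope_rest_ge hL hn hFt hF (kernel.ι φ) hK hpK hpF (pI := pI)
    (Basic.alpha_pos_sub hL hGt (Abelian.image.ι φ) hI hI0 hpI) hsum
  linarith

end Groth.Agent.S18965
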