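import Groth.Statements.S18966
import Groth.Agent.L03.ShStab.StableHom

set_option autoImplicit false
open CategoryTheory CategoryTheory.Limits AlgebraicGeometry Polynomial
universe u
open ShStab

namespace Groth.Agent.S18966

/-- Let k be an algebraically closed field of characteristic zero, X a smooth projective integral
variety of dimension n ≥ 1 over k polarised by an ample invertible sheaf L, and F, G reflexive
coherent O_X-modules which are slope-stable with respect to L. If μ_L(G) ≤ μ_L(F) then every nonzero
morphism F → G is an isomorphism. Slopes are compared through the quantity α_(n−1)/α_n of the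
Hilbert polynomials with respect to L, an increasing affine function of the slope det ·
L^(n−1)/rank; reflexive means that the canonical map to the double dual is an isomorphism. -/
theorem result (k : Type u) [Field k] [IsAlgClosed k] [CharZero k]
    (X : Scheme.{u}) [X.Over (Spec (CommRingCat.of k))] [IsIntegral X]
    [IsProper (X ↘ Spec (CommRingCat.of k))] [Smooth (X ↘ Spec (CommRingCat.of k))]
    (n : ℕ) (hn : 1 ≤ n) (hX : topologicalKrullDim X = (n : WithBot ℕ∞))
    (L : X.Modules) (hLi : PicF.IsInvertible L) (hL : CohB1.IsAmple L)
    (F G : X.Modules) (hFr : RefHull.IsReflexive F) (hGr : RefHull.IsReflexive G)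
    (hF : ShStab.IsMuStable k X L F n) (hG : ShStab.IsMuStable k X L G n)
    (pF pG : ℚ[X]) (hpF : ShStab.IsHilbPoly k X L F pF) (hpG : ShStab.IsHilbPoly k X L G pG)
    (hle : StabCat.hatSlope n pG ≤ StabCat.hatSlope n pF) (φ : F ⟶ G) (hφ : φ ≠ 0) : IsIso φ := by
  exact Groth.L03.ShStab.StableHom.isIso_of_hatSlope_le
    (fun x => Groth.L08.Cube.isRegularLocalRing_of_smooth (X ↘ Spec (CommRingCat.of k)) x)
    hL hn hX hFr hGr hF hG hpF hpG hle φ hφ

end Groth.Agent.S18966
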