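import Groth.Statements.S18967
import Groth.Agent.L03.ShStab.Mu
import Groth.Agent.L17.CohClass

set_option autoImplicit false
open CategoryTheory CategoryTheory.Limits AlgebraicGeometry Polynomial
universe u
open ShStab

open Groth.L03.ShStab Groth.L03.Euler

namespace Groth.Agent.S18967

/-- Let k be an algebraically closed field of characteristic zero, X a smooth projective integral
variety of dimension n ≥ 1 over k polarised by an ample invertible sheaf L, and 0 → F → H → G → 0 a
short exact sequence of O_X-modules with F and G torsion-free coherent (pure of dimension n) and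
slope-semistable with respect to L of the same slope μ. Then H is slope-semistable of slope μ; in
particular this applies to H = F ⊕ G. Slopes are compared through the quantity α_(n−1)/α_n of the
Hilbert polynomials with respect to L, an increasing affine function of the slope det ·
L^(n−1)/rank. -/
theorem result (k : Type u) [Field k] [IsAlgClosed k] [CharZero k]
    (X : Scheme.{u}) [X.Over (Spec (CommRingCat.of k))] [IsIntegral X]
    [IsProper (X ↘ Spec (CommRingCat.of k))] [Smooth (X ↘ Spec (CommRingCat.of k))]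
    (n : ℕ) (hn : 1 ≤ n) (hX : topologicalKrullDim X = (n : WithBot ℕ∞))
    (L : X.Modules) (hLi : PicF.IsInvertible L) (hL : CohB1.IsAmple L)
    (T : ShortComplex X.Modules) (hT : T.ShortExact)
    (hFt : ShStab.IsPure X T.X₁ n) (hGt : ShStab.IsPure X T.X₃ n)
    (hF : ShStab.IsMuSemistable k X L T.X₁ n) (hG : ShStab.IsMuSemistable k X L T.X₃ n)
    (pF pG : ℚ[X]) (hpF : ShStab.IsHilbPoly k X L T.X₁ pF) (hpG : ShStab.IsHilbPoly k X L T.X₃ pG)
    (hμ : StabCat.hatSlope n pF = StabCat.hatSlope n pG) :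
    ShStab.IsMuSemistable k X L T.X₂ n ∧
      ∀ pH : ℚ[X], ShStab.IsHilbPoly k X L T.X₂ pH → StabCat.hatSlope n pH = StabCat.hatSlope n pF := by
  haveI : IsLocallyNoetherian X := Basic.locallyNoetherian (k := k)
  have h1 := hF.1
  have h3 := hG.1
  have h2 : Coh.IsCoh T.X₂ := Groth.L17.CohClass.isCoh_of_shortExact T hT h1 h3
  have d2 : topologicalKrullDim (CohB1.support T.X₂) ≤ n :=
    (topologicalKrullDim_subspace_le X _).trans hX.le
  haveI := hT.mono_f
  have hp : ShStab.IsPure X T.X₂ n := Mu.isPure_ext hT h2 h3 hFt hGt d2 k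
  have h20 : ¬ IsZero T.X₂ := fun h => hF.2.1 (IsZero.of_mono T.f h)
  have hαF := Basic.alpha_pos_sub hL hFt (𝟙 _) h1 hF.2.1 hpF
  have hαG := Basic.alpha_pos_sub hL hGt (𝟙 _) h3 hG.2.1 hpG
  have hslope : ∀ pH, ShStab.IsHilbPoly k X L T.X₂ pH → StabCat.hatSlope n pH = StabCat.hatSlope n pF := by
    intro pH hpH
    rw [isHilbPoly_unique hpH (isHilbPoly_add hL.1 hT h1 h2 h3 hpF hpG)]
    simp only [StabCat.hatSlope, PolyOrd.alpha_add] at hμ ⊢
    rw [div_eq_div_iff hαF.ne' hαG.ne'] at hμ
    rw [div_eq_div_iff (by positivity) hαF.ne']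
    linarith
  refine ⟨⟨h2, h20, hp T.X₂ (𝟙 _) inferInstance h2 h20, fun F ι hι hF' h => ?_,
    fun F ι hι hF' pS pH hpS hpH hα _ => ?_⟩, hslope⟩
  · by_cases hF0 : IsZero F
    · rw [topologicalKrullDim_of_empty ((Groth.L21.Mod.isZero_iff_support_eq_empty F).1 hF0)] at h
      simp at h
    · rw [hp F ι hι hF' hF0] at h
      norm_cast at h
      omega
  · rw [hslope pH hpH]
    haveI := hι
    obtain ⟨hK, hI, -⟩ := Basic.coh_parts k hF' h3 (ι ≫ T.g)
    have dF := Basic.dim_sub_le ι d2
    obtain ⟨pK, hpK⟩ := Basic.exists_hilb (k := k) hL.1 hK (Basic.dim_sub_le (kernel.ι (ι ≫ T.g)) dF)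
    obtain ⟨pI, hpI⟩ := Basic.exists_hilb (k := k) hL.1 hI
      (Basic.dim_sub_le (Abelian.image.ι (ι ≫ T.g)) ((topologicalKrullDim_subspace_le X _).trans hX.le))
    have hsum := Basic.hilb_kernel_image hL hF' h3 (ι ≫ T.g) hpS hpK hpI
    let l : kernel (ι ≫ T.g) ⟶ T.X₁ :=
      hT.exact.lift (kernel.ι (ι ≫ T.g) ≫ ι) (by rw [Category.assoc, kernel.condition])
    haveI : Mono (l ≫ T.f) := by rw [ShortComplex.Exact.lift_f]; exact mono_comp _ _
    haveI : Mono l := mono_of_mono l T.f
    have bound : ∀ {A M : X.Modules} (hMp : ShStab.IsPure X M n) (hM : ShStab.IsMuSemistable k X L M n)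
        (κ : A ⟶ M) (_ : Mono κ) (_ : Coh.IsCoh A) {p pM : ℚ[X]} (_ : ShStab.IsHilbPoly k X L A p)
        (_ : ShStab.IsHilbPoly k X L M pM), StabCat.alpha (n - 1) p ≤ StabCat.hatSlope n pM * StabCat.alpha n p := by
      intro A M hMp hM κ _ hA p pM hp' hpM
      by_cases hA0 : IsZero A
      · rw [isHilbPoly_unique hp' (isHilbPoly_zero (k := k) hL.1 hA0)]
        simp [StabCat.alpha]
      · have := Mu.hatSlope_le_of_mono hL hn hMp hM κ hA hA0 hp' hpM
        exact (div_le_iff₀ (Basic.alpha_pos_sub hL hMp κ hA hA0 hp')).1 this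
    have b1 := bound hFt hF l inferInstance hK hpK hpF
    have b2 := bound hGt hG (Abelian.image.ι (ι ≫ T.g)) inferInstance hI hpI hpG
    rw [← hμ] at b2
    rw [show StabCat.hatSlope n pS = StabCat.alpha (n - 1) pS / StabCat.alpha n pS from rfl, div_le_iff₀ hα]
    simp only [hsum, PolyOrd.alpha_add]
    linarith

end Groth.Agent.S18967
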