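import Groth.Prelude.Def_ShStab
import Groth.Prelude.Def_StabCat
import Groth.Prelude.Def_CohB1
import Groth.Prelude.Def_Twist2
import Groth.Prelude.Def_FlatMod2
import Groth.Prelude.Def_ega3
import Mathlib.AlgebraicGeometry.Morphisms.Proper
import Mathlib.AlgebraicGeometry.Morphisms.Smooth
import Mathlib.AlgebraicGeometry.Morphisms.ClosedImmersion
import Mathlib.AlgebraicGeometry.Morphisms.FiniteType
import Mathlib.AlgebraicGeometry.Fiber
import Mathlib.Order.RelSeries
import Mathlib.Topology.KrullDimension
import Groth.Agent.L11.Lemma179.Base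
-- import your own Groth.Agent.* helpers here

set_option autoImplicit false
set_option backward.isDefEq.respectTransparency false
set_option backward.isDefEq.respectTransparency.types false
open CategoryTheory CategoryTheory.Limits AlgebraicGeometry Polynomial
universe u
open ShStab

namespace Groth.Agent.S18969

/-- Let k be a field and X an integral scheme, smooth and proper over k, with a closed immersion ι into
projective N-space over k compatible with the structure maps, polarised by the ample O_X(1) =
ι^*O(1); let 1 ≤ ℓ ≤ d. Let S be a k-scheme of finite type and F a coherent sheaf on X ×_k S, flat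
over S, whose fibres F_s on X_s = (X ×_k S) ×_S Spec κ(s) have d-dimensional support and a fixed
Hilbert polynomial P with respect to O_X(1)|_{X_s}. Then the set of points s of S for which F_s is
ℓ-semistable of dimension d over κ(s) is open. Here a sheaf G on X_s is ℓ-semistable of dimension d
when it is coherent, nonzero, pure of dimension d, and p_ℓ(G') ≤ p_ℓ(G) for every coherent submodule
G' with 0 < α_d(G') < α_d(G), p_ℓ denoting the reduced truncation of the Hilbert polynomial to the
degrees d − ℓ, …, d. -/
theorem result (k : Type u) [Field k]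
    (X : Scheme.{u}) [X.Over (Spec (CommRingCat.of k))] [IsIntegral X]
    [Smooth (X ↘ Spec (CommRingCat.of k))] [IsProper (X ↘ Spec (CommRingCat.of k))]
    (N : ℕ) (ι : X ⟶ CohB1.ProjSpace N k) [IsClosedImmersion ι]
    (hι : ι ≫ CohB1.ProjSpace.toSpec N k = X ↘ Spec (CommRingCat.of k))
    (hL : CohB1.IsAmple ((Scheme.Modules.pullback ι).obj (Twist.twistProjSpace N k 1)))
    (S : Scheme.{u}) (q : S ⟶ Spec (CommRingCat.of k)) [LocallyOfFiniteType q] [CompactSpace S]
    (d ℓ : ℕ) (hℓ : 1 ≤ ℓ) (hℓd : ℓ ≤ d)
    (F : (pullback (X ↘ Spec (CommRingCat.of k)) q).Modules) (hF : Coh.IsCoh F)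
    (hfl : FlatMod.IsFlatOver (pullback.snd (X ↘ Spec (CommRingCat.of k)) q) F) (P : ℚ[X])
    (hP : ∀ s : S, ShStab.IsHilbPoly (S.residueField s) (Over.mk ((pullback.snd (X ↘ Spec (CommRingCat.of k)) q).fiberToSpecResidueField s)).left (CohIII.fiberMod (pullback.snd (X ↘ Spec (CommRingCat.of k)) q) ((Scheme.Modules.pullback (pullback.fst (X ↘ Spec (CommRingCat.of k)) q)).obj ((Scheme.Modules.pullback ι).obj (Twist.twistProjSpace N k 1))) s) (CohIII.fiberMod (pullback.snd (X ↘ Spec (CommRingCat.of k)) q) F s) P)
    (hd : ∀ s : S, topologicalKrullDim (CohB1.support (CohIII.fiberMod (pullback.snd (X ↘ Spec (CommRingCat.of k)) q) F s)) = (d : WithBot ℕ∞)) :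
    IsOpen {s : S | ShStab.IsEllSemistable (S.residueField s) (Over.mk ((pullback.snd (X ↘ Spec (CommRingCat.of k)) q).fiberToSpecResidueField s)).left (CohIII.fiberMod (pullback.snd (X ↘ Spec (CommRingCat.of k)) q) ((Scheme.Modules.pullback (pullback.fst (X ↘ Spec (CommRingCat.of k)) q)).obj ((Scheme.Modules.pullback ι).obj (Twist.twistProjSpace N k 1))) s) (CohIII.fiberMod (pullback.snd (X ↘ Spec (CommRingCat.of k)) q) F s) d ℓ} := by
  haveI : IsLocallyNoetherian S := LocallyOfFiniteType.isLocallyNoetherian q
  haveI : AlgebraicGeometry.IsNoetherian S := {}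
  obtain ⟨i, hi, hfi, ⟨eL⟩⟩ := Groth.L11.Lemma179.exists_proj_prod ι hι q
  haveI := hi
  obtain ⟨W, hW, hiff⟩ := Groth.L11.Lemma179.exists_open_locus i hfi false d ℓ (fun _ => hℓ) F hF hfl
  convert hW using 1
  ext s
  exact Groth.L11.Lemma179.ellX_fibS_iff i hfi eL hiff rfl hF s
end Groth.Agent.S18969
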