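import Groth.Statements.S18973
import Groth.Agent.L03.ShStab.Ell

set_option autoImplicit false
open CategoryTheory CategoryTheory.Limits AlgebraicGeometry Polynomial
universe u
open ShStab

open Groth.L03.ShStab Groth.L03.Euler Groth.L03.ShStab.Bridge

namespace Groth.Agent.S18973

/-- Let k be a field and X an integral scheme, smooth and proper over k, with a closed immersion ι into
projective N-space over k compatible with the structure maps, polarised by the ample O_X(1) =
ι^*O(1); let 1 ≤ ℓ ≤ d. Let E be a nonzero coherent O_X-module, pure of dimension d, with an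
ℓ-Harder–Narasimhan filtration 0 = E_0 ⊂ E_1 ⊂ ⋯ ⊂ E_m = E (factors ℓ-semistable of dimension d,
reduced ℓ-truncated Hilbert polynomials of consecutive factors strictly decreasing), and let F =
E/E_(m−1) be its last factor, the minimal ℓ-destabilising quotient of E. If E → G is another
quotient with G nonzero, coherent and pure of dimension d, such that the Hilbert polynomials of F
and G have the same multiplicity α_d and the same reduced ℓ-truncation p_ℓ, then G and F are
isomorphic as quotients of E: there is an isomorphism F ≅ G carrying the quotient map of F to that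
of G. Here a sheaf is ℓ-semistable of dimension d when it is coherent, nonzero, pure of dimension d,
and p_ℓ(F') ≤ p_ℓ for every coherent submodule F' of multiplicity strictly between 0 and its own,
p_ℓ denoting the reduced truncation of the Hilbert polynomial (with respect to O_X(1)) to the
degrees d − ℓ, …, d. -/
theorem result (k : Type u) [Field k]
    (X : Scheme.{u}) [X.Over (Spec (CommRingCat.of k))] [IsIntegral X]
    [Smooth (X ↘ Spec (CommRingCat.of k))] [IsProper (X ↘ Spec (CommRingCat.of k))]
    (N : ℕ) (ι : X ⟶ CohB1.ProjSpace N k) [IsClosedImmersion ι]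
    (hι : ι ≫ CohB1.ProjSpace.toSpec N k = X ↘ Spec (CommRingCat.of k))
    (hL : CohB1.IsAmple ((Scheme.Modules.pullback ι).obj (Twist.twistProjSpace N k 1)))
    (d ℓ : ℕ) (hℓ : 1 ≤ ℓ) (hℓd : ℓ ≤ d)
    (E : X.Modules) (hE : Coh.IsCoh E) (h0 : ¬ IsZero E) (hp : ShStab.IsPure X E d)
    (s : LTSeries (Subobject E))
    (hs : StabCat.IsHNWith (fun G => ShStab.IsEllSemistable k X ((Scheme.Modules.pullback ι).obj (Twist.twistProjSpace N k 1)) G d ℓ)
      (fun G P => ∃ Q : Polynomial ℚ, ShStab.IsHilbPoly k X ((Scheme.Modules.pullback ι).obj (Twist.twistProjSpace N k 1)) G Q ∧ P = StabCat.topPart ℓ d Q) d E s)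
    (G : X.Modules) (q : E ⟶ G) [Epi q] (hG : Coh.IsCoh G) (hG0 : ¬ IsZero G) (hGp : ShStab.IsPure X G d)
    (pF pG : ℚ[X]) (hpF : ShStab.IsHilbPoly k X ((Scheme.Modules.pullback ι).obj (Twist.twistProjSpace N k 1)) (cokernel s.eraseLast.last.arrow) pF)
    (hpG : ShStab.IsHilbPoly k X ((Scheme.Modules.pullback ι).obj (Twist.twistProjSpace N k 1)) G pG)
    (hα : StabCat.alpha d pF = StabCat.alpha d pG)
    (hred : StabCat.RedEq d (StabCat.topPart ℓ d pF) (StabCat.topPart ℓ d pG)) :
    ∃ φ : (cokernel s.eraseLast.last.arrow) ≅ G, cokernel.π s.eraseLast.last.arrow ≫ φ.hom = q := by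
  haveI : IsLocallyNoetherian X := Groth.L03.ShStab.Basic.locallyNoetherian (k := k)
  haveI : CompactSpace X := QuasiCompact.compactSpace_of_compactSpace (X ↘ Spec (CommRingCat.of k))
  haveI : AlgebraicGeometry.IsNoetherian X := {}
  have hd := Basic.dim_le_of_isPure hE hp
  obtain ⟨t, rfl⟩ := Filt.exists_lat hE hs.1 fun i => (hs.2.2.1 i).1
  let D := stabData (k := k) hL hE hd
  have ht : (D.trunc ℓ).IsHN ⊥ t := (Filt.isEllHN_iff (k := k) hL hE hd ℓ t).1 hs
  have hlen : 0 < t.length := by
    by_contra h'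
    have he : (⊥ : cohLattice hE) = ⊤ := ht.1.symm.trans
      ((congrArg t (Fin.ext (by simp; omega))).trans ht.2.1)
    refine h0 (IsZero.of_iso (IsZero.of_iso (isZero_zero _) Subobject.botCoeIsoZero)
      ((asIso (⊤ : Subobject E).arrow).symm ≪≫ eqToIso (congrArg (fun a : Subobject E => (a : X.Modules)) (congrArg Subtype.val he.symm))))
  let l : Fin t.length := ⟨t.length - 1, by omega⟩
  have hlast : t l.succ = ⊤ :=
    (congrArg t (Fin.ext (show t.length - 1 + 1 = t.length by omega) : l.succ = Fin.last _)).trans ht.2.1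
  obtain ⟨hK, -, -⟩ := Basic.coh_parts k hE hG q
  obtain ⟨pK, hpK⟩ := Basic.exists_hilb (k := k) hL.1 hK (Basic.dim_sub_le (kernel.ι q) hd)
  obtain ⟨pE, hpE⟩ := Basic.exists_hilb (k := k) hL.1 hE hd
  obtain ⟨c, hc1, hqc, -, -⟩ := Filt.exists_mem hL hE hd _ (kernel.ι q) hK hpK
  have hsum : pE = pK + pG := isHilbPoly_unique hpE (isHilbPoly_add hL.1
    (ShortComplex.ShortExact.mk (ShortComplex.exact_kernel q) :
      (ShortComplex.mk (kernel.ι q) q (kernel.condition _)).ShortExact) hK hE hG hpK hpG)
  have hqc' : D.q c ⊤ = pG := by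
    have := D.q_add ⊥ c ⊤
    rw [hqc, q_bot_top hL hE hd hpE, hsum] at this
    exact add_left_cancel this
  have main : ∀ a : Subobject E, a = Subobject.mk (kernel.ι q) →
      ∃ φ : cokernel a.arrow ≅ G, cokernel.π a.arrow ≫ φ.hom = q := by
    rintro a rfl
    have w : (Subobject.mk (kernel.ι q)).arrow ≫ q = 0 := by
      rw [← Subobject.underlyingIso_hom_comp_eq_mk (kernel.ι q), Category.assoc, kernel.condition, Limits.comp_zero]
    let S := ShortComplex.mk _ q w
    haveI : Epi S.g := inferInstanceAs (Epi q)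
    have hS : S.Exact := (ShortComplex.exact_iff_of_iso (ShortComplex.isoMk (S₁ := S)
      (S₂ := ShortComplex.mk (kernel.ι q) q (kernel.condition q))
      (Subobject.underlyingIso (kernel.ι q)) (Iso.refl _) (Iso.refl _)
      (by simp [S]) (by simp [S]))).2 (ShortComplex.exact_kernel q)
    exact ⟨IsColimit.coconePointUniqueUpToIso (cokernelIsCokernel _) hS.gIsCokernel,
      IsColimit.comp_coconePointUniqueUpToIso_hom (cokernelIsCokernel S.f) hS.gIsCokernel WalkingParallelPair.one⟩
  obtain ⟨e₁, -⟩ := main _ hc1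
  obtain ⟨e₂⟩ := Filt.nonempty_qt_top (E := E) c.1
  have hcp : (D.trunc ℓ).IPure c ⊤ := (StabData.trunc_iPure ℓ).2
    ((isPure_qt_iff (k := k) hL hE hd (a := c) (b := ⊤) le_top).1 (Basic.isPure_sub hGp (e₂ ≪≫ e₁).hom))
  obtain ⟨e₃⟩ := Filt.nonempty_qt_top (E := E) (t l.castSucc).1
  have hpF' : pF = D.q (t l.castSucc) ⊤ := isHilbPoly_unique
    (isHilbPoly_iso e₃.symm hpF) (hilb_q hL hE hd (a := t l.castSucc) (b := ⊤) le_top)
  have hαF : 0 < StabCat.alpha d pF := by
    have h := (ht.2.2.1 l).av_pos
    rw [hlast, StabData.trunc_av] at h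
    rw [hpF']; exact h
  have hceq : c = t l.castSucc := by
    refine ht.eq_of_last l (by simp [l]; omega) bot_le hcp ?_ ?_
    · rw [StabData.trunc_av, StabData.trunc_av, hlast, StabData.av, StabData.av, hqc', ← hpF', hα]
    · rw [StabData.trunc_r, StabData.trunc_r, hlast, hqc', ← hpF']
      exact ((PolyOrd.redEq_iff (by rwa [PolyOrd.alpha_topPart])
        (by rw [PolyOrd.alpha_topPart, ← hα]; exact hαF)).1 hred).symm
  have ha : (Filt.ofLat t).eraseLast.last = Subobject.mk (kernel.ι q) := by
    rw [← hc1, hceq]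
    exact congrArg (fun i => (t i).1) (Fin.ext rfl)
  exact main _ ha

end Groth.Agent.S18973
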