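import Groth.Statements.S18974
import Mathlib.RingTheory.Derivation.Basic
import Mathlib.Algebra.Polynomial.Derivative
import Mathlib.RingTheory.Ideal.Quotient.Operations
import Mathlib.Data.Nat.Factorial.Basic
import Mathlib.Tactic.FieldSimp
import Mathlib.Tactic.LinearCombination

set_option autoImplicit false
universe u
open CAlg

namespace Groth.Agent.S18974

/-- Let A be a commutative algebra over the rationals, D a locally nilpotent derivation of A and a an
element with D a = 1; write A' for the quotient of A by the ideal generated by a. Then there is a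
ring isomorphism from A onto the polynomial ring A'[Y] which sends every x to the (finite) sum over
n of (1/n!) (class of D^n x) Y^n; its inverse sends Y to a and the constant polynomial on the class
of x to the sum over n of ((-1)^n/n!) (D^n x) a^n, and under it D corresponds to the derivative
d/dY. (The source says only that A is a ring, in a setting over a field of characteristic zero; the
rational coefficients 1/n! require an algebra over the rationals, which is the hypothesis taken
here. Both sums are written over any range beyond which the iterates of D vanish at x.) -/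
theorem result
    (A : Type u) [CommRing A] [Algebra ℚ A] (D : Derivation ℚ A A)
    (hnil : ∀ x : A, ∃ n : ℕ, ((D : A →ₗ[ℚ] A) ^ n) x = 0) (a : A) (ha : D a = 1) :
    ∃ χ : A ≃+* Polynomial (A ⧸ Ideal.span ({a} : Set A)),
      (∀ (x : A) (N : ℕ), ((D : A →ₗ[ℚ] A) ^ N) x = 0 →
        χ x = ∑ n ∈ Finset.range N,
          ((n.factorial : ℚ)⁻¹ • Polynomial.C (Ideal.Quotient.mk (Ideal.span ({a} : Set A)) (((D : A →ₗ[ℚ] A) ^ n) x))) *
            Polynomial.X ^ n) ∧
      χ.symm Polynomial.X = a ∧
      (∀ (x : A) (N : ℕ), ((D : A →ₗ[ℚ] A) ^ N) x = 0 →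
        χ.symm (Polynomial.C (Ideal.Quotient.mk (Ideal.span ({a} : Set A)) x)) =
          ∑ n ∈ Finset.range N, (((-1 : ℚ) ^ n * (n.factorial : ℚ)⁻¹) • ((((D : A →ₗ[ℚ] A) ^ n) x) * a ^ n))) ∧
      ∀ p : Polynomial (A ⧸ Ideal.span ({a} : Set A)), χ (D (χ.symm p)) = Polynomial.derivative p := by
  classical
  set I := Ideal.span ({a} : Set A)
  set π := Ideal.Quotient.mk I
  have hDD : ∀ (n : ℕ) (x : A), ((D : A →ₗ[ℚ] A) ^ (n + 1)) x = ((D : A →ₗ[ℚ] A) ^ n) (D x) := fun n x => by
    rw [pow_succ]; rfl
  have hD0 : ∀ (x : A) (N n : ℕ), N ≤ n → ((D : A →ₗ[ℚ] A) ^ N) x = 0 → ((D : A →ₗ[ℚ] A) ^ n) x = 0 := fun x N n h h0 => by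
    obtain ⟨r, rfl⟩ := Nat.exists_eq_add_of_le h
    rw [add_comm, pow_add, Module.End.mul_apply, h0, map_zero]
  choose N hN using hnil
  -- the Taylor polynomial
  let T : A → Polynomial (A ⧸ I) := fun x => ∑ n ∈ Finset.range (N x),
    Polynomial.monomial n ((n.factorial : ℚ)⁻¹ • π (((D : A →ₗ[ℚ] A) ^ n) x))
  have hcoef : ∀ (x : A) (n : ℕ), (T x).coeff n = (n.factorial : ℚ)⁻¹ • π (((D : A →ₗ[ℚ] A) ^ n) x) := fun x n => by
    simp only [T, Polynomial.finsetSum_coeff, Polynomial.coeff_monomial, Finset.sum_ite_eq', Finset.mem_range]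
    split_ifs with h
    · rfl
    · rw [hD0 x (N x) n (not_lt.mp h) (hN x), map_zero, smul_zero]
  have hder : ∀ x, Polynomial.derivative (T x) = T (D x) := fun x => Polynomial.ext fun n => by
    rw [Polynomial.coeff_derivative, hcoef, hcoef, hDD]
    rw [show ((n : A ⧸ I) + 1) = ((n + 1 : ℕ) : A ⧸ I) by push_cast; rfl, ← nsmul_eq_mul', ← Nat.cast_smul_eq_nsmul ℚ, smul_smul]
    congr 1
    rw [Nat.factorial_succ]; push_cast; field_simp
  have hcancel : ∀ (n : ℕ) (u v : A ⧸ I), u * ((n : A ⧸ I) + 1) = v * ((n : A ⧸ I) + 1) → u = v := by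
    intro n u v h
    have hu : IsUnit ((n : A ⧸ I) + 1) := by
      have := (isUnit_iff_ne_zero.mpr (show ((n : ℚ) + 1) ≠ 0 by positivity)).map (algebraMap ℚ (A ⧸ I))
      simpa using this
    exact hu.mul_right_cancel h
  have hadd : ∀ x y, T (x + y) = T x + T y := fun x y => Polynomial.ext fun n => by
    rw [Polynomial.coeff_add, hcoef, hcoef, hcoef, map_add, map_add, smul_add]
  have hmul : ∀ x y, T (x * y) = T x * T y := by
    suffices h : ∀ (n : ℕ) (x y : A), (T (x * y)).coeff n = (T x * T y).coeff n from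
      fun x y => Polynomial.ext fun n => h n x y
    intro n
    induction n with
    | zero => intro x y; simp [hcoef, Polynomial.mul_coeff_zero]
    | succ n ih =>
      intro x y
      apply hcancel n
      rw [← Polynomial.coeff_derivative, ← Polynomial.coeff_derivative, Polynomial.derivative_mul, hder, hder, hder,
        D.leibniz, smul_eq_mul, smul_eq_mul, hadd, Polynomial.coeff_add, Polynomial.coeff_add, ih, ih, add_comm, mul_comm (T y)]
  have hT1 : T 1 = 1 := Polynomial.ext fun n => by
    rw [hcoef, Polynomial.coeff_one]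
    rcases n with _ | n
    · simp
    · rw [hDD, D.map_one_eq_zero]; simp
  let χ₀ : A →+* Polynomial (A ⧸ I) :=
    { toFun := T, map_one' := hT1, map_mul' := hmul, map_add' := hadd,
      map_zero' := Polynomial.ext fun n => by simp [hcoef] }
  have hπa : π a = 0 := Ideal.Quotient.eq_zero_iff_mem.mpr (Ideal.mem_span_singleton_self a)
  have hTa : T a = Polynomial.X := Polynomial.ext fun n => by
    rw [hcoef, Polynomial.coeff_X]
    rcases n with _ | _ | n
    · simp [hπa]
    · simp [ha]
    · rw [hDD, ha, hDD, D.map_one_eq_zero]; simp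
  have hπs : ∀ (q : ℚ) (z : A), π (q • z) = q • π z := fun q z => map_smul (Ideal.Quotient.mkₐ ℚ I) q z
  let c : ℕ → ℚ := fun n => (-1) ^ n * (n.factorial : ℚ)⁻¹
  let σ : A → ℕ → A := fun x M => ∑ n ∈ Finset.range M, c n • ((((D : A →ₗ[ℚ] A) ^ n) x) * a ^ n)
  have hDσ : ∀ (x : A) (M : ℕ), D (σ x (M + 1)) = c M • ((((D : A →ₗ[ℚ] A) ^ (M + 1)) x) * a ^ M) := by
    intro x M
    induction M with
    | zero => simp [σ, c]
    | succ M ih =>
      have e1 : D (((D : A →ₗ[ℚ] A) ^ (M + 1)) x) = ((D : A →ₗ[ℚ] A) ^ (M + 2)) x := by rw [pow_succ' _ (M + 1)]; rfl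
      have e2 : D (a ^ (M + 1)) = ((M + 1 : ℕ) : A) * a ^ M := by rw [D.leibniz_pow, ha]; simp
      have e3 : c (M + 1) * ((M + 1 : ℕ) : ℚ) = - c M := by
        simp only [c, Nat.factorial_succ]; push_cast; field_simp; ring
      rw [show σ x (M + 1 + 1) = σ x (M + 1) + c (M + 1) • ((((D : A →ₗ[ℚ] A) ^ (M + 1)) x) * a ^ (M + 1)) from
        Finset.sum_range_succ _ _, map_add, ih, D.map_smul, D.leibniz, e1, e2, smul_eq_mul, smul_eq_mul,
        smul_add, ← mul_assoc, ← nsmul_eq_mul', smul_mul_assoc, ← Nat.cast_smul_eq_nsmul ℚ (M + 1), smul_smul, e3]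
      rw [neg_smul, mul_comm (a ^ (M + 1))]
      abel
  have hTσ : ∀ (x : A) (M : ℕ), ((D : A →ₗ[ℚ] A) ^ M) x = 0 → T (σ x M) = Polynomial.C (π x) := by
    intro x M hM
    rcases M with _ | M
    · have hx : x = 0 := by simpa using hM
      rw [hx, map_zero, map_zero]
      exact χ₀.map_zero
    refine Polynomial.ext fun n => ?_
    rcases n with _ | n
    · rw [hcoef, Polynomial.coeff_C_zero]
      simp only [σ, Finset.sum_range_succ', pow_zero, Module.End.one_apply, map_add, map_sum]
      rw [Finset.sum_eq_zero fun i _ => ?_]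
      · simp [c]
      · rw [hπs, map_mul, map_pow, hπa, zero_pow (Nat.succ_ne_zero i), mul_zero, smul_zero]
    · apply hcancel n
      rw [← Polynomial.coeff_derivative, ← Polynomial.coeff_derivative, hder, hDσ, hM, zero_mul, smul_zero,
        Polynomial.derivative_C]
      exact congrArg (Polynomial.coeff · n) χ₀.map_zero
  have hinj : Function.Injective χ₀ := by
    rw [injective_iff_map_eq_zero]
    suffices h : ∀ (M : ℕ) (x : A), ((D : A →ₗ[ℚ] A) ^ M) x = 0 → T x = 0 → x = 0 from
      fun x hx => h _ x (hN x) hx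
    intro M
    induction M with
    | zero => intro x h _; simpa using h
    | succ M ih =>
      intro x h hx
      have hDx : D x = 0 := ih (D x) (by rw [← hDD]; exact h) (by rw [← hder, hx, map_zero])
      have hx0 : π x = 0 := by simpa [hcoef] using congrArg (Polynomial.coeff · 0) hx
      obtain ⟨y, rfl⟩ := Ideal.mem_span_singleton'.mp (Ideal.Quotient.eq_zero_iff_mem.mp hx0)
      have hrec : ∀ m : ℕ, ((m + 1 : ℕ) : A) * ((D : A →ₗ[ℚ] A) ^ m) y + a * ((D : A →ₗ[ℚ] A) ^ (m + 1)) y = 0 := by
        intro m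
        induction m with
        | zero => simpa [D.leibniz, ha, add_comm] using hDx
        | succ m hm =>
          have := congrArg D hm
          have e1 : ∀ j, D (((D : A →ₗ[ℚ] A) ^ j) y) = ((D : A →ₗ[ℚ] A) ^ (j + 1)) y := fun j => by rw [pow_succ' _ j]; rfl
          rw [map_add, D.leibniz, D.leibniz, D.map_natCast, map_zero, ha, e1, e1, smul_eq_mul, smul_eq_mul, smul_eq_mul, smul_eq_mul] at this
          push_cast at this ⊢
          linear_combination this
      have hzero : ∀ j m, m + j = N y → ((D : A →ₗ[ℚ] A) ^ m) y = 0 := by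
        intro j
        induction j with
        | zero => intro m hm; rw [add_zero] at hm; rw [hm]; exact hN y
        | succ j hj =>
          intro m hm
          have h1 := hrec m
          rw [hj (m + 1) (by omega), mul_zero, add_zero] at h1
          have hu : IsUnit ((m + 1 : ℕ) : A) := by
            have := (isUnit_iff_ne_zero.mpr (show ((m + 1 : ℕ) : ℚ) ≠ 0 by positivity)).map (algebraMap ℚ A)
            rwa [map_natCast] at this
          exact (hu.mul_right_eq_zero).mp h1
      have : y = 0 := by simpa using hzero (N y) 0 (zero_add _)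
      rw [this, zero_mul]
  have hsurj : Function.Surjective χ₀ := by
    intro p
    induction p using Polynomial.induction_on' with
    | add p q hp hq =>
      obtain ⟨u, rfl⟩ := hp; obtain ⟨v, rfl⟩ := hq
      exact ⟨u + v, map_add _ _ _⟩
    | monomial n r =>
      obtain ⟨x, rfl⟩ := Ideal.Quotient.mk_surjective r
      refine ⟨σ x (N x) * a ^ n, ?_⟩
      rw [map_mul, map_pow, ← Polynomial.C_mul_X_pow_eq_monomial]
      show T _ * T a ^ n = _
      rw [hTσ x _ (hN x), hTa]
  refine ⟨RingEquiv.ofBijective χ₀ ⟨hinj, hsurj⟩, fun x M hM => ?_, ?_, fun x M hM => ?_, fun p => ?_⟩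
  · show T x = _
    refine Polynomial.ext fun n => ?_
    rw [hcoef]
    simp only [Polynomial.finsetSum_coeff, Polynomial.smul_C, Polynomial.coeff_C_mul, Polynomial.coeff_X_pow, mul_ite, mul_one, mul_zero, Finset.sum_ite_eq, Finset.mem_range]
    split_ifs with h
    · rfl
    · rw [hD0 x M n (not_lt.mp h) hM, map_zero, smul_zero]
  · rw [RingEquiv.symm_apply_eq]; exact hTa.symm
  · rw [RingEquiv.symm_apply_eq]; exact (hTσ x M hM).symm
  · show T (D _) = _
    rw [← hder]
    exact congrArg Polynomial.derivative (RingEquiv.apply_symm_apply (RingEquiv.ofBijective χ₀ ⟨hinj, hsurj⟩) p)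

end Groth.Agent.S18974
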