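import Groth.Agent.L18.GIT.Fppf
import Groth.Agent.L24.Quot.QuotSh
import Groth.Agent.L25.Actions
import Groth.Agent.L19.FpqcCover
import Groth.Agent.L23.AffineMor
import Groth.Statements.S18975
-- import your own Groth.Agent.* helpers here

set_option autoImplicit false
universe u
open CategoryTheory MonoidalCategory CartesianMonoidalCategory MonObj AlgebraicGeometry
open GIT

namespace Groth.Agent.S18975

/-- Over an algebraically closed field k of characteristic zero, let G be an affine group scheme of
finite type over k acting on a k-scheme X, and let φ : X → Y be a morphism of k-schemes which is a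
G-torsor over Y: the square formed by the action G ×_k X → X, the second projection and φ (twice) is
cartesian, and φ acquires sections on the members of some fpqc covering family of Y. Then φ is
affine and (Y, φ) is a geometric quotient: φ is invariant and surjective, G ×_k X → X ×_Y X is
surjective, φ is universally submersive, and over every open of Y the functions on Y are exactly the
invariant functions on its preimage. (The source defines a torsor by the existence of one fpqc
morphism to Y trivialising it and defines geometric quotients with φ affine and submersive;
universal submersiveness follows because every base change of a torsor is a torsor.) -/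
theorem result
    (k : Type u) [Field k] [IsAlgClosed k] [CharZero k]
    (G X Y : Over (Spec (CommRingCat.of k))) [GrpObj G] [IsAffine G.left] [LocallyOfFiniteType G.hom]
    (a : AlgGrp.Action G X) (φ : X ⟶ Y)
    (hcart : IsPullback a.act (snd G X) φ φ)
    (hloc : NonAbH1.IsLocallyTrivialFor Scheme.fpqcPrecoverage (Over.mk φ.left : Over Y.left)) :
    IsAffineHom φ.left ∧ GIT.IsGeomQuot a φ := by
  haveI : LocallyOfFinitePresentation G.hom := inferInstance
  haveI : Flat G.hom := inferInstance
  haveI : IsAffineHom G.hom := inferInstance
  haveI hGs : Surjective G.hom := Groth.L25.Actions.surjective_grp G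
  have hcl : IsPullback a.act.left (snd G X).left φ.left φ.left := hcart.map (Over.forget _)
  obtain ⟨R, hR, hs⟩ := hloc
  obtain ⟨κ, Z, g, rfl⟩ := R.exists_eq_ofArrows
  have key : ∀ (P : MorphismProperty Scheme.{u}) [P.IsStableUnderBaseChange] [IsZariskiLocalAtTarget P]
      [P.DescendsAlong (@Surjective ⊓ @Flat ⊓ @QuasiCompact : MorphismProperty Scheme.{u})],
      P G.hom → P φ.left := by
    intro P _ _ _ hG
    refine Groth.L19.of_fpqc P inferInstance φ.left hR fun i => ?_
    obtain ⟨s, hsf⟩ := hs (g i) (Presieve.ofArrows.mk i)
    replace hsf : s ≫ φ.left = g i := hsf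
    have h1 : P (snd G X).left :=
      MorphismProperty.of_isPullback (IsPullback.of_hasPullback G.hom X.hom) hG
    have h2 : P (Limits.pullback.snd (snd G X).left s) := MorphismProperty.pullback_snd _ _ h1
    have hpb : IsPullback (Limits.pullback.fst (snd G X).left s ≫ a.act.left) (Limits.pullback.snd (snd G X).left s)
        φ.left (s ≫ φ.left) :=
      (IsPullback.of_hasPullback (snd G X).left s).paste_horiz hcl |>.flip |>.flip
    rw [← hsf, ← P.cancel_left_of_respectsIso hpb.isoPullback.hom, hpb.isoPullback_hom_snd]
    exact h2
  haveI : IsAffineHom φ.left := key @IsAffineHom ‹_›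
  haveI := Groth.L25.Actions.descendsAlong_flat_fpqc.{u}
  haveI : Flat φ.left := key @Flat ‹_›
  haveI : LocallyOfFinitePresentation φ.left := key @LocallyOfFinitePresentation ‹_›
  haveI : Surjective φ.left := key @Surjective hGs
  exact ⟨‹IsAffineHom φ.left›, Groth.L18.GITFppf.isGeomQuot a φ (Groth.Agent.L24.Quot.isQuotient_of_isPullback hcart)⟩

end Groth.Agent.S18975
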