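import Groth.Statements.S18976
import Groth.Agent.L16.AssocBundle.Props
import Groth.Agent.L19.AlgGrpBasic.AssocBundle
import Groth.Agent.L18.GIT.Fppf
import Groth.Agent.L18.GIT.UnivQuot
import Groth.Agent.L24.Quot.QuotSh
import Groth.Agent.S0082

set_option autoImplicit false
universe u
open CategoryTheory MonoidalCategory CartesianMonoidalCategory MonObj AlgebraicGeometry
open GIT

namespace Groth.Agent.S18976

/-- The associated fibre bundle exists. Over an algebraically closed field k of characteristic zero, let
G be an affine group scheme of finite type over k acting on a k-scheme X, let φ : X → Y be a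
G-torsor over Y (the square formed by the action, the second projection and φ twice is cartesian,
and φ acquires sections on the members of some fpqc covering family of Y), and let G act on an
affine k-scheme F. Give X ×_k F the diagonal action. Then there are a k-scheme Q with a morphism to
Y and a morphism q : X ×_k F → Q compatible with the projection to Y such that q is a G-torsor over
Q in the same sense; moreover q is affine and a geometric quotient. (The source writes the torsor
with a right action and lets g act on X × F by (x g⁻¹, g f); with the left action g x := x g⁻¹ this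
is the diagonal action used here. The last assertion of the source, on the case where F is a larger
affine group containing G, is not part of this row.) -/
theorem result
    (k : Type u) [Field k] [IsAlgClosed k] [CharZero k]
    (G X Y F : Over (Spec (CommRingCat.of k))) [GrpObj G] [IsAffine G.left] [LocallyOfFiniteType G.hom]
    (a : AlgGrp.Action G X) (φ : X ⟶ Y)
    (hcart : IsPullback a.act (snd G X) φ φ)
    (hloc : NonAbH1.IsLocallyTrivialFor Scheme.fpqcPrecoverage (Over.mk φ.left : Over Y.left))
    [IsAffine F.left] (b : AlgGrp.Action G F) :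
    ∃ (Q : Over (Spec (CommRingCat.of k))) (q : X ⊗ F ⟶ Q) (r : Q ⟶ Y),
      q ≫ r = fst X F ≫ φ ∧
      IsPullback (a.prod b).act (snd G (X ⊗ F)) q q ∧
      NonAbH1.IsLocallyTrivialFor Scheme.fpqcPrecoverage (Over.mk q.left : Over Q.left) ∧
      IsAffineHom q.left ∧ GIT.IsGeomQuot (a.prod b) q := by
  haveI := Groth.L25.Actions.descendsAlong_flat_fpqc.{u}
  haveI := Groth.Agent.S0082.result.{u}
  haveI : IsAffineHom G.hom := isAffineHom_of_isAffine _
  haveI : IsAffineHom F.hom := isAffineHom_of_isAffine _
  haveI : IsLocallyNoetherian (Spec (CommRingCat.of k)) := inferInstance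
  haveI : LocallyOfFinitePresentation G.hom := inferInstance
  have hsq : IsPullback a.act.left (snd G X).left φ.left φ.left := hcart.map (Over.forget _)
  have esnd : (snd G X).left = Limits.pullback.snd G.hom X.hom := by simp
  haveI : IsAffineHom φ.left := Groth.L16.AssocBundle.of_kernelPair @IsAffineHom hsq hloc
    (by rw [esnd]; exact MorphismProperty.pullback_snd _ _ inferInstance)
  haveI : Flat φ.left := Groth.L16.AssocBundle.of_kernelPair @Flat hsq hloc
    (by rw [esnd]; exact MorphismProperty.pullback_snd _ _ inferInstance)
  haveI : LocallyOfFinitePresentation φ.left :=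
    Groth.L16.AssocBundle.of_kernelPair @LocallyOfFinitePresentation hsq hloc
      (by rw [esnd]; exact MorphismProperty.pullback_snd _ _ inferInstance)
  haveI : Surjective φ.left := Groth.L16.AssocBundle.of_kernelPair @Surjective hsq hloc
    (by rw [esnd]; exact MorphismProperty.pullback_snd _ _ (Groth.L25.Actions.surjective_grp G))
  obtain ⟨Q, q, r, hinv, hpb⟩ := Groth.L19.AlgGrpBasic.Assoc.exists_bundle a b hsq
  haveI : IsAffineHom q.left := MorphismProperty.of_isPullback (P := @IsAffineHom) hpb inferInstance
  haveI : Flat q.left := MorphismProperty.of_isPullback (P := @Flat) hpb inferInstance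
  haveI : Surjective q.left := MorphismProperty.of_isPullback (P := @Surjective) hpb inferInstance
  haveI : LocallyOfFinitePresentation q.left :=
    MorphismProperty.of_isPullback (P := @LocallyOfFinitePresentation) hpb inferInstance
  have hO : IsPullback (fst X F) q φ r :=
    Groth.L18.GITQ.isPullback_over (Over.OverMorphism.ext hpb.w) hpb
  have hinv' : (a.prod b).act ≫ q = snd G (X ⊗ F) ≫ q := hinv
  have key : ∀ {T : Over (Spec (CommRingCat.of k))} (g : T ⟶ G) (v : T ⟶ X ⊗ F),
      (lift g v ≫ (a.prod b).act) ≫ fst X F = lift g (v ≫ fst X F) ≫ a.act ∧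
      (lift g v ≫ (a.prod b).act) ≫ q = v ≫ q := by
    intro T g v
    refine ⟨?_, ?_⟩
    · show (lift g v ≫ Groth.L19.AlgGrpBasic.Assoc.diag a b) ≫ fst X F = _
      rw [Groth.L19.AlgGrpBasic.Assoc.lift_diag, lift_fst]
    · rw [Category.assoc, hinv', lift_snd_assoc]
  have hc : ∀ {T : Over (Spec (CommRingCat.of k))} (u v : T ⟶ X ⊗ F), u ≫ q = v ≫ q →
      (u ≫ fst X F) ≫ φ = (v ≫ fst X F) ≫ φ := by
    intro T u v h
    rw [Category.assoc, Category.assoc, hO.w, ← Category.assoc, h, Category.assoc]
  have hQ : IsPullback (a.prod b).act (snd G (X ⊗ F)) q q := by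
    refine IsPullback.of_isLimit' ⟨hinv'⟩ (Limits.PullbackCone.IsLimit.mk _
      (fun s => lift (Groth.L19.AlgGrpBasic.Assoc.existsUnique_translator a hsq (s.fst ≫ fst X F) (s.snd ≫ fst X F)
        (hc _ _ s.condition)).exists.choose s.snd) (fun s => ?_) (fun s => lift_snd _ _) (fun s m h1 h2 => ?_))
    · refine hO.hom_ext ?_ ?_
      · exact (key _ _).1.trans (Groth.L19.AlgGrpBasic.Assoc.existsUnique_translator a hsq _ _
          (hc _ _ s.condition)).exists.choose_spec
      · exact (key _ _).2.trans s.condition.symm
    · refine CartesianMonoidalCategory.hom_ext _ _ ?_ (h2.trans (lift_snd _ _).symm)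
      rw [lift_fst]
      refine (Groth.L19.AlgGrpBasic.Assoc.existsUnique_translator a hsq _ _ (hc _ _ s.condition)).unique ?_
        (Groth.L19.AlgGrpBasic.Assoc.existsUnique_translator a hsq _ _ (hc _ _ s.condition)).exists.choose_spec
      rw [← h2, ← (key (m ≫ fst G (X ⊗ F)) (m ≫ snd G (X ⊗ F))).1, ← comp_lift, lift_fst_snd,
        Category.comp_id, h1]
  refine ⟨Q, q, r, hO.w.symm, hQ, ?_, inferInstance, ?_⟩
  · refine ⟨Presieve.singleton q.left, Scheme.Hom.singleton_mem_fpqcPrecoverage _, ?_⟩
    intro S' f hf
    cases hf
    exact ⟨𝟙 _, Category.id_comp _⟩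
  · exact Groth.L18.GITFppf.isGeomQuot (a.prod b) q (Groth.Agent.L24.Quot.isQuotient_of_isPullback hQ)
end Groth.Agent.S18976
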