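import Groth.Statements.S18977
import Groth.Agent.L16.TorsComp

set_option autoImplicit false
universe u
open CategoryTheory MonoidalCategory CartesianMonoidalCategory MonObj AlgebraicGeometry
open GIT

namespace Groth.Agent.S18977

/-- Composition of torsors. Over an algebraically closed field k of characteristic zero, let G be an
affine group scheme of finite type over k, N a closed normal subgroup scheme which is the kernel of
a homomorphism q : G → Q, and H a closed subgroup scheme of G which q maps isomorphically onto Q (so
G is the inner semidirect product N H). Let G act on a k-scheme X and let φ₁ : X → Y be a torsor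
over Y under the restricted action of N (the square formed by the N-action, the second projection
and φ₁ twice is cartesian, and φ₁ acquires sections on the members of some fpqc covering family of
Y); let Q act on Y so that φ₁ is equivariant along q, and let φ₂ : Y → Z be a Q-torsor over Z in the
same sense. Then φ₂ ∘ φ₁ is a G-torsor over Z: the square formed by the G-action, the second
projection and φ₂ ∘ φ₁ twice is cartesian, and φ₂ ∘ φ₁ acquires sections fpqc-locally on Z. (The
induced action of the factor group on Y is taken as a datum together with the equivariance of φ₁;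
the source's second assertion, that the composite of trivial torsors is trivial, amounts to
composing sections and is not restated.) -/
theorem result
    (k : Type u) [Field k] [IsAlgClosed k] [CharZero k]
    (G N Q H X Y Z : Over (Spec (CommRingCat.of k))) [GrpObj G] [GrpObj N] [GrpObj Q] [GrpObj H]
    [IsAffine G.left] [LocallyOfFiniteType G.hom]
    (iN : N ⟶ G) [IsMonHom iN] [IsClosedImmersion iN.left] (hnorm : AlgGrp.IsNormalHom iN)
    (q : G ⟶ Q) [IsMonHom q] (hker : AlgGrp.IsKernel iN q)
    (iH : H ⟶ G) [IsMonHom iH] [IsClosedImmersion iH.left] [IsIso (iH ≫ q)]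
    (a : AlgGrp.Action G X) (φ₁ : X ⟶ Y)
    (h₁ : IsPullback (a.restrict iN).act (snd N X) φ₁ φ₁)
    (h₁loc : NonAbH1.IsLocallyTrivialFor Scheme.fpqcPrecoverage (Over.mk φ₁.left : Over Y.left))
    (aY : AlgGrp.Action Q Y) (hequiv : (q ⊗ₘ φ₁) ≫ aY.act = a.act ≫ φ₁)
    (φ₂ : Y ⟶ Z) (h₂ : IsPullback aY.act (snd Q Y) φ₂ φ₂)
    (h₂loc : NonAbH1.IsLocallyTrivialFor Scheme.fpqcPrecoverage (Over.mk φ₂.left : Over Z.left)) :
    IsPullback a.act (snd G X) (φ₁ ≫ φ₂) (φ₁ ≫ φ₂) ∧
      NonAbH1.IsLocallyTrivialFor Scheme.fpqcPrecoverage (Over.mk (φ₁ ≫ φ₂).left : Over Z.left) := by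
  exact ⟨Groth.L16.TorsComp.isPullback_comp iN q hker iH a φ₁ h₁ aY hequiv φ₂ h₂,
    Groth.L16.TorsComp.isLocallyTrivialFor_comp φ₁.left φ₂.left Scheme.fpqcPrecoverage h₁loc h₂loc⟩
end Groth.Agent.S18977
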