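import Groth.Statements.S18978
import Groth.Agent.L14.NRQuot.Closed
import Groth.Agent.S18975
import Groth.Agent.L14.GITProper.Lemmas

set_option autoImplicit false
universe u
open CategoryTheory MonoidalCategory CartesianMonoidalCategory MonObj AlgebraicGeometry
open GIT

namespace Groth.Agent.S18978

/-- Over an algebraically closed field k of characteristic zero, let G be an affine group scheme of
finite type over k with a closed normal subgroup scheme N, the kernel of a surjective homomorphism q
: G → H onto an affine group scheme H of finite type over k (the factor group G/N). Let G act on a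
separated k-scheme X of finite type, let φ : X → Y be a torsor over Y under the restricted action of
N (cartesian action square, sections on the members of some fpqc covering family of Y), and let H
act on Y so that φ is equivariant along q. Then for every geometric point x of X (a point with
values in an algebraically closed field Ω) with image y in Y: the G-orbit of x is closed in X_Ω and
the stabiliser of x in G is finite if and only if the H-orbit of y is closed in Y_Ω and the
stabiliser of y in H is finite. (The induced action of the factor group on Y is taken as a datum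
together with the equivariance of φ; the points of the published statement are rendered as geometric
points.) -/
theorem result
    (k : Type u) [Field k] [IsAlgClosed k] [CharZero k]
    (G N H X Y : Over (Spec (CommRingCat.of k))) [GrpObj G] [GrpObj N] [GrpObj H]
    [IsAffine G.left] [LocallyOfFiniteType G.hom]
    (iN : N ⟶ G) [IsMonHom iN] [IsClosedImmersion iN.left] (hnorm : AlgGrp.IsNormalHom iN)
    (q : G ⟶ H) [IsMonHom q] [Surjective q.left] [IsAffine H.left] [LocallyOfFiniteType H.hom]
    (hker : AlgGrp.IsKernel iN q)
    [LocallyOfFiniteType X.hom] [QuasiCompact X.hom] [IsSeparated X.hom]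
    (a : AlgGrp.Action G X) (φ : X ⟶ Y)
    (hcart : IsPullback (a.restrict iN).act (snd N X) φ φ)
    (hloc : NonAbH1.IsLocallyTrivialFor Scheme.fpqcPrecoverage (Over.mk φ.left : Over Y.left))
    (aY : AlgGrp.Action H Y) (hequiv : (q ⊗ₘ φ) ≫ aY.act = a.act ≫ φ)
    (Ω : Type u) [Field Ω] [IsAlgClosed Ω] (P : Over (Spec (CommRingCat.of k)))
    (e : P.left ≅ Spec (CommRingCat.of Ω)) (x : P ⟶ X) :
    (IsClosed (Set.range (GIT.psi a x).left.base) ∧ IsFinite (GLinSh.stabTo a x)) ↔
      (IsClosed (Set.range (GIT.psi aY (x ≫ φ)).left.base) ∧ IsFinite (GLinSh.stabTo aY (x ≫ φ))) := by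
  haveI : IsAffine N.left := isAffine_of_isAffineHom iN.left
  haveI : LocallyOfFiniteType N.hom := by rw [← Over.w iN]; infer_instance
  obtain ⟨-, hgeo⟩ := Groth.Agent.S18975.result k N X Y (a.restrict iN) φ hcart hloc
  have haN : (a.restrict iN).act = (iN ▷ X) ≫ a.act := rfl
  have hclosed : IsClosed (Set.range (GIT.psi a x).left.base) ↔
      IsClosed (Set.range (GIT.psi aY (x ≫ φ)).left.base) := by
    rw [Groth.L14.NRQuot.range_psi_eq_preimage iN haN hgeo.inv hgeo.orbit hequiv x]
    exact (hgeo.subm (fst X P).left (fst Y P).left (φ ▷ P).left
      (Groth.L14.GITLin.isPullback_whiskerRight φ P)).isClosed_preimage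
  obtain ⟨hlftY, hY'⟩ := Groth.L14.NRQuot.isFinite_stabTo_iff aY P e (x ≫ φ)
  obtain ⟨-, hX'⟩ := Groth.L14.NRQuot.isFinite_stabTo_iff a P e x
  haveI : Mono (GIT.psi (a.restrict iN) (𝟙 X)) := ⟨fun {Z} u v huv => by
    have h1 := congrArg (· ≫ fst X X) huv
    have h2 := congrArg (· ≫ snd X X) huv
    simp only [GIT.psi, Category.assoc, lift_fst, lift_snd, whiskerLeft_id, Category.id_comp] at h1 h2
    exact hcart.hom_ext h1 h2⟩
  haveI : Mono (GIT.psi (a.restrict iN) x).left := by
    haveI : Mono (GIT.psi (a.restrict iN) (𝟙 X)).left := inferInstance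
    exact MorphismProperty.of_isPullback (P := MorphismProperty.monomorphisms Scheme.{u})
      (Groth.L14.GITProper.isPullback_psi (a.restrict iN) x) (MorphismProperty.monomorphisms.infer_property _)
  have hN : Finite (GLinSh.stab (a.restrict iN) x) := by
    haveI : Subsingleton P.left := e.hom.homeomorph.injective.subsingleton (β := PrimeSpectrum Ω)
    haveI : Mono (GLinSh.stabTo (a.restrict iN) x) := inferInstanceAs (Mono (Limits.pullback.snd _ _))
    haveI : Subsingleton (GLinSh.stab (a.restrict iN) x) :=
      (GLinSh.stabTo (a.restrict iN) x).injective.subsingleton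
    infer_instance
  rw [hX', hY', hclosed,
    Groth.L14.NRQuot.finite_stab_iff iN q hker a (a.restrict iN) haN φ hgeo.inv hgeo.orbit aY hequiv P e x hN hlftY]

end Groth.Agent.S18978
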