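import Groth.Statements.S18983
import Mathlib.LinearAlgebra.FiniteDimensional.Basic
import Mathlib.LinearAlgebra.Dual.Lemmas
import Mathlib.RingTheory.Nilpotent.Basic
import Mathlib.Algebra.DirectSum.Module
import Mathlib.LinearAlgebra.Basis.Basic

set_option autoImplicit false
universe u v w
open CAlg

namespace Groth.Agent.S18983

/-- Let k be a field, Λ an additive commutative group, V a finite-dimensional k-vector space which is
the internal direct sum of subspaces V_μ indexed by Λ (a representation of a torus with character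
group Λ), and A a nilpotent endomorphism of V mapping each V_μ into V_{μ+χ} for a fixed χ (the
infinitesimal generator of an action of the additive group on which the torus acts through the
character χ). Then V has a basis consisting of homogeneous vectors e_{i,l}, 0 ≤ l ≤ n_i, with A
e_{i,0} = 0 and A e_{i,l+1} = e_{i,l}: a weight basis bringing A into Jordan normal form. (The
source states this, over an algebraically closed field of characteristic zero, as a decomposition of
every representation of the semidirect product of the additive group with a torus into twists of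
symmetric powers of the standard two-dimensional representation by characters; the first line of its
proof reduces that to the present statement, which is what is proved, and which holds over any
field.) -/
theorem result
    (k : Type u) [Field k] (Λ : Type v) [AddCommGroup Λ] [DecidableEq Λ]
    (V : Type w) [AddCommGroup V] [Module k V] [FiniteDimensional k V]
    (𝒱 : Λ → Submodule k V) (h𝒱 : DirectSum.IsInternal 𝒱)
    (A : Module.End k V) (hA : IsNilpotent A) (χ : Λ)
    (hhom : ∀ (μ : Λ) (v : V), v ∈ 𝒱 μ → A v ∈ 𝒱 (μ + χ)) :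
    ∃ (ι : Type w) (_ : Finite ι) (n : ι → ℕ) (b : Module.Basis (Σ i : ι, Fin (n i + 1)) k V),
      (∀ (i : ι) (l : Fin (n i + 1)), ∃ μ : Λ, b ⟨i, l⟩ ∈ 𝒱 μ) ∧
      (∀ i : ι, A (b ⟨i, 0⟩) = 0) ∧
      ∀ (i : ι) (l : Fin (n i)), A (b ⟨i, l.succ⟩) = b ⟨i, l.castSucc⟩ := by
  classical
  suffices key : ∀ (d : ℕ) (W : Submodule k V), Module.finrank k W ≤ d → (∀ w ∈ W, A w ∈ W) →
      W ≤ ⨆ μ, W ⊓ 𝒱 μ →
      ∃ (ι : Type w) (_ : Finite ι) (n : ι → ℕ) (e : (i : ι) → Fin (n i + 1) → V),
        (∀ i l, ∃ μ, e i l ∈ 𝒱 μ) ∧ (∀ i, A (e i 0) = 0) ∧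
        (∀ i (l : Fin (n i)), A (e i l.succ) = e i l.castSucc) ∧
        LinearIndependent k (fun q : Σ i, Fin (n i + 1) => e q.1 q.2) ∧
        Submodule.span k (Set.range fun q : Σ i, Fin (n i + 1) => e q.1 q.2) = W by
    obtain ⟨ι, hι, n, e, he, he0, hes, hli, hsp⟩ := key _ ⊤ le_rfl (fun _ _ => trivial)
      (by simp [h𝒱.submodule_iSup_eq_top])
    refine ⟨ι, hι, n, Module.Basis.mk hli hsp.ge, fun i l => ?_, fun i => ?_, fun i l => ?_⟩
    · rw [Module.Basis.mk_apply]; exact he i l
    · rw [Module.Basis.mk_apply]; exact he0 i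
    · rw [Module.Basis.mk_apply, Module.Basis.mk_apply]; exact hes i l
  intro d
  induction d with
  | zero =>
    intro W hd _ _
    have hW : W = ⊥ := Submodule.finrank_eq_zero.mp (Nat.le_zero.mp hd)
    exact ⟨PEmpty, inferInstance, PEmpty.elim, fun i => i.elim, fun i => i.elim, fun i => i.elim,
      fun i => i.elim, linearIndependent_empty_type, by simp [hW, Set.range_eq_empty]⟩
  | succ d ih =>
    intro W hd hst hgr
    by_cases hW : W = ⊥
    · exact ih W (by rw [hW, finrank_bot]; exact Nat.zero_le d) hst hgr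
    obtain ⟨N, hN⟩ := hA
    let P : ℕ → Prop := fun j => ∃ μ, ∃ v ∈ W ⊓ 𝒱 μ, (A ^ j) v ≠ 0
    have hP0 : P 0 := by
      by_contra h
      simp only [P, not_exists, not_and, not_not] at h
      exact hW (le_bot_iff.mp (hgr.trans (iSup_le fun μ v hv => by simpa using h μ v hv)))
    have hPN : ∀ j, P j → j < N := by
      rintro j ⟨μ, v, -, hv⟩
      by_contra hj
      exact hv (by rw [pow_eq_zero_of_le (not_lt.mp hj) hN, LinearMap.zero_apply])
    set m := Nat.findGreatest P N with hm
    have hPm : P m := Nat.findGreatest_spec (P := P) (Nat.zero_le N) hP0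
    have hkill : ∀ i, m < i → ∀ w ∈ W, (A ^ i) w = 0 := by
      intro i hi w hw
      refine (hgr.trans (iSup_le fun μ v hv => ?_) hw : w ∈ LinearMap.ker (A ^ i))
      by_contra hne
      have hP : P i := ⟨μ, v, hv, hne⟩
      exact absurd (Nat.le_findGreatest (hPN i hP).le hP) (not_le.mpr hi)
    obtain ⟨μ₀, v, hv, hvm⟩ := hPm
    have hpow : ∀ (i : ℕ) (μ : Λ) (w : V), w ∈ 𝒱 μ → (A ^ i) w ∈ 𝒱 (μ + i • χ) := by
      intro i μ w hw
      induction i with
      | zero => simpa using hw
      | succ i hi => rw [pow_succ', succ_nsmul, ← add_assoc]; exact hhom _ _ hi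
    have hWpow : ∀ (i : ℕ), ∀ w ∈ W, (A ^ i) w ∈ W := by
      intro i w hw
      induction i with
      | zero => simpa using hw
      | succ i hi => rw [pow_succ']; exact hst _ hi
    set ρ := μ₀ + m • χ with hρ
    have hu : (A ^ m) v ∉ ⨆ (μ) (_ : μ ≠ ρ), 𝒱 μ := fun h =>
      hvm (Submodule.disjoint_def.mp (h𝒱.submodule_iSupIndep ρ) _ (hpow m μ₀ v hv.2) h)
    obtain ⟨φ, hφu, hφ⟩ := Submodule.exists_dual_map_eq_bot_of_notMem hu inferInstance
    have hφ0 : ∀ μ, μ ≠ ρ → ∀ w ∈ 𝒱 μ, φ w = 0 := fun μ hμ w hw => by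
      have : φ w ∈ (⨆ (μ) (_ : μ ≠ ρ), 𝒱 μ).map φ :=
        Submodule.mem_map_of_mem (le_iSup₂ (f := fun μ (_ : μ ≠ ρ) => 𝒱 μ) μ hμ hw)
      rwa [hφ, Submodule.mem_bot] at this
    let T : V →ₗ[k] (Fin (m + 1) → k) := LinearMap.pi fun i => φ ∘ₗ (A ^ (i : ℕ))
    let L : (Fin (m + 1) → k) →ₗ[k] V := Fintype.linearCombination k fun l => (A ^ (m - (l : ℕ))) v
    have hTL : Function.Injective (T ∘ₗ L) := by
      rw [← LinearMap.ker_eq_bot, LinearMap.ker_eq_bot']
      intro c hc
      by_contra hne
      obtain ⟨l₀, hl₀⟩ : ∃ l, c l ≠ 0 := Function.ne_iff.mp hne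
      let s := Finset.univ.filter fun l => c l ≠ 0
      have hs : s.Nonempty := ⟨l₀, by simp [s, hl₀]⟩
      set l := s.max' hs with hl
      have hcl : c l ≠ 0 := (Finset.mem_filter.mp (s.max'_mem hs)).2
      have := congrFun hc l
      simp only [LinearMap.comp_apply, T, L, LinearMap.pi_apply, Fintype.linearCombination_apply, map_sum, map_smul, Pi.zero_apply] at this
      rw [Finset.sum_eq_single l] at this
      · rw [← Module.End.mul_apply, ← pow_add, Nat.add_sub_cancel' (Nat.le_of_lt_succ l.2), smul_eq_mul] at this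
        exact mul_ne_zero hcl hφu this
      · intro b _ hb
        by_cases hcb : c b = 0
        · simp [hcb]
        have hlt : (b : ℕ) < l := lt_of_le_of_ne (s.le_max' b (by simp [s, hcb])) (fun h => hb (Fin.ext h))
        rw [← Module.End.mul_apply, ← pow_add, hkill _ (by omega) v hv.1]
        simp
      · simp
    have hTLs : Function.Surjective (T ∘ₗ L) := LinearMap.injective_iff_surjective.mp hTL
    let C := W ⊓ ⨅ i : ℕ, LinearMap.ker (φ ∘ₗ (A ^ i))
    have hCmem : ∀ w, w ∈ C ↔ w ∈ W ∧ ∀ i : ℕ, φ ((A ^ i) w) = 0 := by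
      intro w; simp [C, Submodule.mem_inf, Submodule.mem_iInf]
    have hCst : ∀ w ∈ C, A w ∈ C := fun w hw => by
      rw [hCmem] at hw ⊢
      exact ⟨hst w hw.1, fun i => by rw [← Module.End.mul_apply, ← pow_succ]; exact hw.2 _⟩
    have hCgr : C ≤ ⨆ μ, C ⊓ 𝒱 μ := by
      intro w hw
      rw [hCmem] at hw
      obtain ⟨f, hf, hsum⟩ := (Submodule.mem_iSup_iff_exists_finsupp _ _).mp (hgr hw.1)
      have hfC : ∀ μ, f μ ∈ C := by
        intro μ
        rw [hCmem]
        refine ⟨(hf μ).1, fun i => ?_⟩
        by_cases hμ : μ + i • χ = ρ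
        · have h0 := hw.2 i
          rw [← hsum, Finsupp.sum, map_sum, map_sum, Finset.sum_eq_single μ] at h0
          · exact h0
          · intro b _ hb
            exact hφ0 (b + i • χ) (fun h => hb (add_right_cancel (h.trans hμ.symm))) _ (hpow i b _ (hf b).2)
          · intro h; rw [Finsupp.notMem_support_iff.mp h]; simp
        · exact hφ0 _ hμ _ (hpow i μ _ (hf μ).2)
      rw [← hsum]
      exact Submodule.sum_mem _ fun μ _ => le_iSup (fun μ => C ⊓ 𝒱 μ) μ ⟨hfC μ, (hf μ).2⟩
    have hvC : v ∉ C := fun h => hφu (((hCmem v).mp h).2 m)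
    have hlt : C < W := lt_of_le_of_ne inf_le_left fun h => hvC (h ▸ hv.1)
    obtain ⟨ι, hι, n, e, he, he0, hes, hli, hsp⟩ := ih C
      (by have := Submodule.finrank_lt_finrank_of_lt hlt; omega) hCst hCgr
    let n' : Option ι → ℕ := fun o => o.elim m n
    let e' : (o : Option ι) → Fin (n' o + 1) → V := fun o => match o with
      | none => fun l => (A ^ (m - (l : ℕ))) v
      | some i => fun l => e i l
    have hrange : Set.range (fun q : Σ o, Fin (n' o + 1) => e' q.1 q.2) =
        Set.range (fun l : Fin (m + 1) => (A ^ (m - (l : ℕ))) v) ∪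
          Set.range (fun q : Σ i, Fin (n i + 1) => e q.1 q.2) := by
      ext x
      constructor
      · rintro ⟨⟨_ | i, l⟩, rfl⟩
        · exact Or.inl ⟨l, rfl⟩
        · exact Or.inr ⟨⟨i, l⟩, rfl⟩
      · rintro (⟨l, rfl⟩ | ⟨⟨i, l⟩, rfl⟩)
        · exact ⟨⟨none, l⟩, rfl⟩
        · exact ⟨⟨some i, l⟩, rfl⟩
    refine ⟨Option ι, inferInstance, n', e', ?_, ?_, ?_, ?_, ?_⟩
    · rintro (_ | i) l
      · exact ⟨_, hpow _ μ₀ v hv.2⟩
      · exact he i l
    · rintro (_ | i)
      · show A ((A ^ (m - 0)) v) = 0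
        rw [← Module.End.mul_apply, ← pow_succ', Nat.sub_zero]
        exact hkill _ (Nat.lt_succ_self m) v hv.1
      · exact he0 i
    · rintro (_ | i) l
      · have hl : (l : ℕ) < m := l.2
        show A ((A ^ (m - ((l : ℕ) + 1))) v) = (A ^ (m - (l : ℕ))) v
        rw [← Module.End.mul_apply, ← pow_succ']
        congr 2
        omega
      · exact hes i l
    · let E : Fin (m + 1) ⊕ (Σ i, Fin (n i + 1)) ≃ Σ o, Fin (n' o + 1) :=
        { toFun := Sum.elim (fun l => ⟨none, l⟩) (fun q => ⟨some q.1, q.2⟩)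
          invFun := fun q => match q with
            | ⟨none, l⟩ => Sum.inl l
            | ⟨some i, l⟩ => Sum.inr ⟨i, l⟩
          left_inv := by rintro (l | ⟨i, l⟩) <;> rfl
          right_inv := by rintro ⟨_ | i, l⟩ <;> rfl }
      rw [← linearIndependent_equiv E]
      have hfun : (fun q : Σ o, Fin (n' o + 1) => e' q.1 q.2) ∘ E =
          Sum.elim (fun l : Fin (m + 1) => (A ^ (m - (l : ℕ))) v) (fun q => e q.1 q.2) := by
        funext x; rcases x with l | q <;> rfl
      rw [hfun]
      refine LinearIndependent.sum_type ?_ hli ?_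
      · exact Fintype.linearIndependent_iff.mpr fun c hc => congrFun (hTL (a₁ := c) (a₂ := 0) (by
          simp only [LinearMap.comp_apply, L, Fintype.linearCombination_apply, hc, map_zero]))
      · rw [hsp, Submodule.disjoint_def]
        intro x hx hxC
        rw [← Fintype.range_linearCombination] at hx
        obtain ⟨c, rfl⟩ := hx
        have hc : c = 0 := hTL (funext fun i => by simpa [T, L] using ((hCmem _).mp hxC).2 i)
        rw [hc, map_zero]
    · rw [hrange, Submodule.span_union, hsp, ← Fintype.range_linearCombination]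
      refine le_antisymm (sup_le ?_ inf_le_left) fun w hw => ?_
      · rw [Fintype.range_linearCombination, Submodule.span_le]
        rintro _ ⟨l, rfl⟩
        exact hWpow _ v hv.1
      · obtain ⟨c, hc⟩ := hTLs (T w)
        refine Submodule.mem_sup.mpr ⟨L c, ⟨c, rfl⟩, w - L c, (hCmem _).mpr ⟨?_, fun i => ?_⟩, add_sub_cancel _ _⟩
        · refine W.sub_mem hw ?_
          simp only [L, Fintype.linearCombination_apply]
          exact W.sum_mem fun l _ => W.smul_mem _ (hWpow _ v hv.1)
        · by_cases hi : i < m + 1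
          · rw [map_sub, map_sub, sub_eq_zero]
            exact (congrFun hc ⟨i, hi⟩).symm
          · rw [hkill i (by omega) _ (W.sub_mem hw ?_), map_zero]
            simp only [L, Fintype.linearCombination_apply]
            exact W.sum_mem fun l _ => W.smul_mem _ (hWpow _ v hv.1)

end Groth.Agent.S18983
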