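import Groth.Statements.S18991
import Groth.Agent.L08.P1Hom.LargeGrp
-- import your own Groth.Agent.* helpers here

set_option autoImplicit false
set_option backward.isDefEq.respectTransparency.types false
set_option linter.style.haveILetI false
universe u
open CategoryTheory MonoidalCategory CartesianMonoidalCategory MonObj GrpObj AlgebraicGeometry CategoryTheory.Limits
open AbVar

namespace Groth.Agent.S18991

/-- In the form of the factorization it amounts to, let k be a perfect field, X a reduced separated
k-scheme of finite type, n ≥ 0 and G a large group over k, that is a commutative separated k-group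
scheme locally of finite type together with a connected open subgroup scheme G⁰ (its neutral
component) which is semiabelian: G⁰ has a closed subgroup scheme T that is a torus and is the kernel
of a flat surjective homomorphism from G⁰ onto an abelian variety A (a proper smooth connected
k-group scheme). Then every k-morphism X ×_k 𝔸ⁿ_k → G factors through the first projection X ×_k
𝔸ⁿ_k → X. (So a k-morphism X → A_X that is universal for morphisms from X to large groups remains
universal after composing with the projection: the Albanese scheme of X ×_k 𝔸ⁿ_k is that of X via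
the projection.) -/
theorem result (k : Type u) [Field k] [PerfectField k]
    (X : Over (Spec (CommRingCat.of k))) [IsReduced X.left] [IsSeparated X.hom] [QuasiCompact X.hom]
    [LocallyOfFiniteType X.hom] (n : ℕ)
    (G : Over (Spec (CommRingCat.of k))) [GrpObj G] [IsCommMonObj G] [IsSeparated G.hom] [LocallyOfFiniteType G.hom]
    (G0 : Over (Spec (CommRingCat.of k))) [GrpObj G0] (e : G0 ⟶ G) [IsMonHom e] [IsOpenImmersion e.left]
    [ConnectedSpace ↥G0.left]
    (T : Over (Spec (CommRingCat.of k))) [GrpObj T] (i : T ⟶ G0) [IsMonHom i] [IsClosedImmersion i.left]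
    (hT : Red.IsTorus T)
    (A : Over (Spec (CommRingCat.of k))) [GrpObj A] [IsProper A.hom] [Smooth A.hom] [ConnectedSpace ↥A.left]
    (q : G0 ⟶ A) [IsMonHom q] [Surjective q.left] [Flat q.left] (hker : AlgGrp.IsKernel i q)
    (φ : X ⊗ Over.mk (Spec.map (CommRingCat.ofHom (algebraMap k (MvPolynomial (Fin n) k)))) ⟶ G) :
    ∃ ψ : X ⟶ G, φ = fst X (Over.mk (Spec.map (CommRingCat.ofHom (algebraMap k (MvPolynomial (Fin n) k))))) ≫ ψ := by
  let R := MvPolynomial (Fin n) k
  let An : Over (Spec (CommRingCat.of k)) := Over.mk (Spec.map (CommRingCat.ofHom (algebraMap k R)))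
  let K := AlgebraicClosure k
  have ho : (MvPolynomial.aeval (R := k) (fun _ : Fin n => (0 : k))).toRingHom.comp (algebraMap k R) = RingHom.id k :=
    RingHom.ext fun r => by simp [R, MvPolynomial.algebraMap_eq]
  let o : 𝟙_ (Over (Spec (CommRingCat.of k))) ⟶ An :=
    Over.homMk (Spec.map (CommRingCat.ofHom (MvPolynomial.aeval (R := k) (fun _ : Fin n => (0 : k))).toRingHom)) (by
      show Spec.map _ ≫ Spec.map _ = 𝟙 _
      rw [← Spec.map_comp, ← CommRingCat.ofHom_comp, ho, CommRingCat.ofHom_id, Spec.map_id])
  refine ⟨lift (𝟙 X) (toUnit X ≫ o) ≫ φ, ?_⟩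
  haveI : IsReduced An.left := inferInstanceAs (IsReduced (Spec (CommRingCat.of R)))
  haveI : IsReduced (X ⊗ An).left := Groth.L25.GeomRed.isReduced_pullback X.hom An.hom
  haveI : LocallyOfFiniteType An.hom := by
    show LocallyOfFiniteType (Spec.map (CommRingCat.ofHom (algebraMap k R)))
    rw [HasRingHomProperty.Spec_iff (P := @LocallyOfFiniteType)]
    exact RingHom.finiteType_algebraMap.2 inferInstance
  haveI : LocallyOfFiniteType (X ⊗ An).hom :=
    inferInstanceAs (LocallyOfFiniteType (pullback.fst X.hom An.hom ≫ X.hom))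
  refine Groth.Agent.AV.Isogeny.ext_of_points K φ (fst X An ≫ lift (𝟙 X) (toUnit X ≫ o) ≫ φ) fun P => ?_
  obtain ⟨α, hα⟩ := Spec.map_surjective (R := CommRingCat.of R) (S := CommRingCat.of K) (P ≫ snd X An).left
  have hαk : α.hom.comp (algebraMap k R) = algebraMap k K := by
    have h := Over.w (P ≫ snd X An)
    rw [← hα] at h
    exact congrArg CommRingCat.Hom.hom (Spec.map_injective ((Spec.map_comp _ _).trans h))
  let θ : R →+* Polynomial K :=
    MvPolynomial.eval₂Hom ((Polynomial.C : K →+* Polynomial K).comp (algebraMap k K))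
      (fun i => Polynomial.C (α.hom (MvPolynomial.X i)) * Polynomial.X)
  let l₂ : Groth.L08.P1Hom.lineOver k K ⟶ An := Over.homMk (Spec.map (CommRingCat.ofHom θ)) (by
    show Spec.map _ ≫ Spec.map _ = Spec.map _ ≫ Spec.map _
    rw [← Spec.map_comp, ← Spec.map_comp, ← CommRingCat.ofHom_comp, ← CommRingCat.ofHom_comp]
    congr 2
    exact RingHom.ext fun r => by simp [θ, R, MvPolynomial.algebraMap_eq])
  let line : Groth.L08.P1Hom.lineOver k K ⟶ X ⊗ An :=
    lift (Groth.L08.P1Hom.linePr ≫ P ≫ fst X An) l₂
  have h1 : Groth.L08.P1Hom.lineSec 1 ≫ line = P := by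
    apply CartesianMonoidalCategory.hom_ext
    · simp only [line, Category.assoc, lift_fst]
      rw [← Category.assoc, Groth.L08.P1Hom.lineSec_pr, Category.id_comp]
    · simp only [line, Category.assoc, lift_snd]
      apply Over.OverMorphism.ext
      rw [← hα]
      show Spec.map _ ≫ Spec.map _ = Spec.map α
      rw [← Spec.map_comp]
      congr 1
      ext : 1
      refine MvPolynomial.ringHom_ext (fun r => ?_) fun i => ?_
      · rw [show α.hom (MvPolynomial.C r) = algebraMap k K r from RingHom.congr_fun hαk r]
        simp [θ]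
      · simp [θ]
  have h0 : Groth.L08.P1Hom.lineSec 0 ≫ line = P ≫ fst X An ≫ lift (𝟙 X) (toUnit X ≫ o) := by
    apply CartesianMonoidalCategory.hom_ext
    · simp only [line, Category.assoc, lift_fst, Category.comp_id]
      rw [← Category.assoc, Groth.L08.P1Hom.lineSec_pr, Category.id_comp]
    · simp only [line, Category.assoc, lift_snd]
      rw [← Category.assoc (fst X An), ← Category.assoc P, toUnit_unique (P ≫ fst X An ≫ toUnit X) (toUnit _)]
      apply Over.OverMorphism.ext
      show Spec.map _ ≫ Spec.map _ = Spec.map (CommRingCat.ofHom (algebraMap k K)) ≫ Spec.map _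
      rw [← Spec.map_comp, ← Spec.map_comp]
      congr 1
      ext : 1
      refine MvPolynomial.ringHom_ext (fun r => ?_) fun i => ?_
      · simp [θ]
      · simp [θ]
  have key := Groth.L08.P1Hom.rel_const_largeGrp (K := K) e i hT q hker (line ≫ φ)
  have h : Groth.L08.P1Hom.lineSec 1 ≫ line ≫ φ =
      Groth.L08.P1Hom.lineSec 1 ≫ Groth.L08.P1Hom.linePr ≫ Groth.L08.P1Hom.lineSec 0 ≫ line ≫ φ :=
    congrArg _ key
  rw [← Category.assoc, h1, ← Category.assoc (Groth.L08.P1Hom.lineSec 1),
    Groth.L08.P1Hom.lineSec_pr, Category.id_comp, ← Category.assoc, h0] at h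
  rw [h]
  simp only [Category.assoc]

end Groth.Agent.S18991
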