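import Groth.Statements.S18994
import Mathlib.RingTheory.MvPolynomial.Homogeneous
import Mathlib.LinearAlgebra.LinearIndependent.Basic
import Mathlib.LinearAlgebra.Finsupp.LinearCombination

set_option autoImplicit false
universe u
open TernForm

namespace Groth.Agent.S18994

/-- Let R be a commutative ring, j ∈ {0, 1, 2}, q a homogeneous polynomial of degree 2 in R[X_0, X_1,
X_2] whose coefficient of X_j^2 is a unit, and n a natural number. Then the family consisting of the
monomials of degree n not divisible by X_j^2 (exponent of X_j at most 1) together with the products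
q · m, m running over the monomials of degree n − 2 (indexed by exponents m with |m| + 2 = n), is
linearly independent over R and spans exactly the homogeneous polynomials of degree n; in particular
it is a basis of that module and the two parts are disjoint. (The published lemma is stated over a
field with the coefficient nonzero, the special case of a field R here; the version over a ring with
the coefficient invertible is what its change-of-basis argument gives — ordering monomials by
decreasing exponent of X_j makes the matrix triangular with diagonal entries 1 and that coefficient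
— and is the form used to trivialise the bundle of degree-n forms modulo multiples of q over the
locus where the coefficient is invertible. The published lemma also allows an arbitrary monomial of
degree 2 in place of X_j^2; for the mixed monomial X_1X_2, the form q = X_1^2 + X_1X_2 + X_2^2 and n
= 3 give the linear relation q·X_1 − q·X_2 = X_1^3 − X_2^3 among members of the family, so the claim
fails there and is stated here for the square of a variable.) -/
theorem result
    (R : Type u) [CommRing R] (j : Fin 3) (q : MvPolynomial (Fin 3) R)
    (hq : q.IsHomogeneous 2) (hqj : IsUnit (q.coeff (Finsupp.single j 2))) (n : ℕ) :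
    LinearIndependent R (Sum.elim (fun m : {m : Fin 3 →₀ ℕ // m.degree = n ∧ m j < 2} => MvPolynomial.monomial m.1 (1 : R)) (fun m : {m : Fin 3 →₀ ℕ // m.degree + 2 = n} => q * MvPolynomial.monomial m.1 (1 : R))) ∧
      Submodule.span R (Set.range (Sum.elim (fun m : {m : Fin 3 →₀ ℕ // m.degree = n ∧ m j < 2} => MvPolynomial.monomial m.1 (1 : R)) (fun m : {m : Fin 3 →₀ ℕ // m.degree + 2 = n} => q * MvPolynomial.monomial m.1 (1 : R)))) = MvPolynomial.homogeneousSubmodule (Fin 3) R n := by
  classical
  have hdeg : ∀ e : Fin 3 →₀ ℕ, e.degree = 2 → 2 ≤ e j → e = Finsupp.single j 2 := by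
    intro e he hej
    have hle : Finsupp.single j 2 ≤ e := Finsupp.single_le_iff.2 hej
    have h0 : (e - Finsupp.single j 2).degree = 0 := by
      have h := congrArg Finsupp.degree (tsub_add_cancel_of_le hle)
      rw [map_add, Finsupp.degree_single, he] at h
      omega
    rw [Finsupp.degree_eq_zero_iff] at h0
    conv_lhs => rw [← tsub_add_cancel_of_le hle, h0, zero_add]
  have hq2 : ∀ e ∈ q.support, e.degree = 2 := by
    intro e he
    by_contra h
    exact MvPolynomial.mem_support_iff.1 he (hq.coeff_eq_zero h)
  have key : ∀ g : MvPolynomial (Fin 3) R, (∀ d : Fin 3 →₀ ℕ, 2 ≤ d j → (q * g).coeff d = 0) → g = 0 := by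
    intro g hg
    by_contra hne
    obtain ⟨d, hd, hmax⟩ := g.support.exists_max_image (fun d => d j)
      (Finset.nonempty_iff_ne_empty.2 fun h => hne (MvPolynomial.support_eq_empty.1 h))
    have h := hg (Finsupp.single j 2 + d) (by simp)
    rw [MvPolynomial.coeff_mul, Finset.sum_eq_single_of_mem (Finsupp.single j 2, d)
      (by simp [Finset.mem_antidiagonal])] at h
    · exact MvPolynomial.mem_support_iff.1 hd (hqj.mul_right_eq_zero.1 h)
    · rintro ⟨e, d'⟩ hmem hne'
      rw [Finset.mem_antidiagonal] at hmem
      by_contra hc
      obtain ⟨h1, h2⟩ : q.coeff e ≠ 0 ∧ g.coeff d' ≠ 0 :=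
        ⟨fun h0 => hc (by simp only [h0, zero_mul]), fun h0 => hc (by simp only [h0, mul_zero])⟩
      have hej : 2 ≤ e j := by
        have h3 := DFunLike.congr_fun hmem j
        have h4 := hmax d' (MvPolynomial.mem_support_iff.2 h2)
        simp at h3
        omega
      have he := hdeg e (hq2 e (MvPolynomial.mem_support_iff.2 h1)) hej
      subst he
      exact hne' (Prod.ext rfl (add_left_cancel hmem))
  set F := Sum.elim (fun m : {m : Fin 3 →₀ ℕ // m.degree = n ∧ m j < 2} => MvPolynomial.monomial m.1 (1 : R))
    (fun m : {m : Fin 3 →₀ ℕ // m.degree + 2 = n} => q * MvPolynomial.monomial m.1 (1 : R)) with hF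
  constructor
  · rw [hF, linearIndependent_sum, Sum.elim_comp_inl, Sum.elim_comp_inr]
    have hli : ∀ P : (Fin 3 →₀ ℕ) → Prop, LinearIndependent R
        (fun m : {m : Fin 3 →₀ ℕ // P m} => MvPolynomial.monomial m.1 (1 : R)) := fun P => by
      have := (MvPolynomial.basisMonomials (Fin 3) R).linearIndependent.comp
        (fun m : {m : Fin 3 →₀ ℕ // P m} => m.1) Subtype.val_injective
      simpa [Function.comp_def] using this
    refine ⟨hli _, ?_, ?_⟩
    · exact (hli fun m => m.degree + 2 = n).map' (LinearMap.mulLeft R q)
        (LinearMap.ker_eq_bot'.2 fun g hg => key g fun d _ => by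
          rw [LinearMap.mulLeft_apply] at hg
          rw [hg, MvPolynomial.coeff_zero])
    · rw [Submodule.disjoint_def]
      intro x hx hx'
      have hlow : ∀ d : Fin 3 →₀ ℕ, 2 ≤ d j → x.coeff d = 0 := by
        intro d hd
        clear hx'
        induction hx using Submodule.span_induction with
        | mem y hy =>
          obtain ⟨m, rfl⟩ := hy
          rw [MvPolynomial.coeff_monomial, if_neg]
          intro h; have := m.2.2; rw [h] at this; omega
        | zero => exact MvPolynomial.coeff_zero d
        | add a b _ _ ha hb => rw [MvPolynomial.coeff_add, ha, hb, add_zero]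
        | smul a b _ hb => rw [MvPolynomial.coeff_smul, hb, smul_zero]
      obtain ⟨g, rfl⟩ : ∃ g, q * g = x := by
        clear hlow hx
        induction hx' using Submodule.span_induction with
        | mem y hy => obtain ⟨m, rfl⟩ := hy; exact ⟨_, rfl⟩
        | zero => exact ⟨0, mul_zero q⟩
        | add a b _ _ ha hb =>
          obtain ⟨u, rfl⟩ := ha; obtain ⟨v, rfl⟩ := hb; exact ⟨u + v, mul_add q u v⟩
        | smul a b _ hb => obtain ⟨u, rfl⟩ := hb; exact ⟨a • u, mul_smul_comm a q u⟩
      rw [key g hlow, mul_zero]
  · refine le_antisymm (Submodule.span_le.2 ?_) fun p hp => ?_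
    · rintro _ ⟨(⟨m, hm⟩ | ⟨m, hm⟩), rfl⟩ <;>
        simp only [hF, Sum.elim_inl, Sum.elim_inr, SetLike.mem_coe, MvPolynomial.mem_homogeneousSubmodule]
      · exact MvPolynomial.isHomogeneous_monomial _ hm.1
      · have := hq.mul (MvPolynomial.isHomogeneous_monomial (1 : R) (rfl : m.degree = m.degree))
        rwa [show 2 + m.degree = n by omega] at this
    have hmon : ∀ (k : ℕ) (d : Fin 3 →₀ ℕ), d j = k → d.degree = n →
        MvPolynomial.monomial d (1 : R) ∈ Submodule.span R (Set.range F) := by
      intro k
      induction k using Nat.strong_induction_on with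
      | _ k ih =>
        intro d hdk hdn
        by_cases hk : k < 2
        · exact Submodule.subset_span ⟨Sum.inl ⟨d, hdn, hdk ▸ hk⟩, rfl⟩
        have hle : Finsupp.single j 2 ≤ d := Finsupp.single_le_iff.2 (by omega)
        set m := d - Finsupp.single j 2 with hm
        have hd : Finsupp.single j 2 + m = d := add_tsub_cancel_of_le hle
        have hmn : m.degree + 2 = n := by rw [← hdn, ← hd, map_add, Finsupp.degree_single]; omega
        have hsum : q * MvPolynomial.monomial m 1 =
            ∑ e ∈ q.support, q.coeff e • MvPolynomial.monomial (e + m) (1 : R) := by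
          conv_lhs => rw [q.as_sum, Finset.sum_mul]
          refine Finset.sum_congr rfl fun e _ => ?_
          rw [MvPolynomial.monomial_mul, MvPolynomial.smul_monomial, smul_eq_mul]
        have hsupp : Finsupp.single j 2 ∈ q.support ∨ (Subsingleton R) := by
          by_cases h : q.coeff (Finsupp.single j 2) = 0
          · rw [h, isUnit_zero_iff] at hqj
            exact Or.inr (subsingleton_of_zero_eq_one hqj)
          · exact Or.inl (MvPolynomial.mem_support_iff.2 h)
        rcases hsupp with hsupp | hsub
        · rw [← Finset.add_sum_erase _ _ hsupp, hd] at hsum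
          rw [← Submodule.smul_mem_iff_of_isUnit _ hqj, ← eq_sub_of_add_eq hsum.symm |>.symm]
          refine Submodule.sub_mem _ (Submodule.subset_span ⟨Sum.inr ⟨m, hmn⟩, rfl⟩)
            (Submodule.sum_mem _ fun e he => Submodule.smul_mem _ _ ?_)
          rw [Finset.mem_erase] at he
          have he2 := hq2 e he.2
          have hej : e j < 2 := by
            by_contra h
            exact he.1 (hdeg e he2 (by omega))
          have hmj : d j = 2 + m j := by rw [← hd]; simp
          refine ih ((e + m) j) ?_ (e + m) rfl ?_
          · simp; omega
          · rw [map_add, he2]; omega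
        · rw [Subsingleton.elim (MvPolynomial.monomial d (1 : R)) 0]; exact zero_mem _
    rw [p.as_sum]
    refine Submodule.sum_mem _ fun d hd => ?_
    rw [show MvPolynomial.monomial d (p.coeff d) = p.coeff d • MvPolynomial.monomial d (1 : R) by
      rw [MvPolynomial.smul_monomial, smul_eq_mul, mul_one]]
    refine Submodule.smul_mem _ _ (hmon (d j) d rfl ?_)
    by_contra h
    exact MvPolynomial.mem_support_iff.1 hd ((MvPolynomial.mem_homogeneousSubmodule n p).1 hp |>.coeff_eq_zero h)

end Groth.Agent.S18994
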