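import Groth.Statements.S18997
import Groth.Agent.L18.ConicFam

set_option autoImplicit false
set_option backward.isDefEq.respectTransparency.types false
set_option backward.isDefEq.respectTransparency false
universe u
open CategoryTheory AlgebraicGeometry Limits
open ProjBd

namespace Groth.Agent.S18997

/-- Let π : C → S be a smooth proper morphism of schemes, S locally Noetherian, all of whose geometric
fibres are integral of dimension 1 and of genus 0 (smooth conics), and let T be an O_C-module
inverse to the module of relative differentials of π, i.e. the relative anticanonical sheaf. Then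
(i) π_*T is finite locally free of rank 3; (ii) the adjunction map π^*π_*T → T is an epimorphism;
(iii) for every cartesian square C' = C ×_S S' with projections π' : C' → S' and g' : C' → C over g
: S' → S, the base-change map g^*π_*T → π'_*g'^*T (adjoint to π'^*g^*π_*T ≅ g'^*π^*π_*T → g'^*T) is
an isomorphism; (iv) if (p : P → S, O(1), q) is the projective bundle of rank-one quotients of π_*T,
given through its universal property, and h : C → P over S with h^*O(1) ≅ T identifies h^*q with the
adjunction map of (ii), then h is a closed immersion (the relative anticanonical embedding as a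
conic). (The published statement is made for schemes of finite type over a field and is given with a
pointer to cohomology and base change instead of a proof; the row takes S locally Noetherian, the
setting of that classical input.) -/
theorem result
    {C S : Scheme.{u}} (π : C ⟶ S) [Smooth π] [IsProper π] [IsLocallyNoetherian S]
    (hfib : ∀ (K : Type u) [Field K] [IsAlgClosed K] (x : Spec (CommRingCat.of K) ⟶ S),
      IsIntegral (pullback π x) ∧ topologicalKrullDim ↥(pullback π x) = 1 ∧
        @Curv2.genus K _ (pullback π x) ⟨pullback.snd π x⟩ = 0)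
    (T : C.Modules) (hT : ClSub.IsInverseOf T (Omega.sheaf π)) :
    FlatMod.IsFinLocFreeOfRank 3 ((Scheme.Modules.pushforward π).obj T) ∧
    Epi ((Scheme.Modules.pullbackPushforwardAdjunction π).counit.app T) ∧
    (∀ (S' C' : Scheme.{u}) (g : S' ⟶ S) (π' : C' ⟶ S') (g' : C' ⟶ C) (hsq : IsPullback g' π' π g),
      IsIso (((Scheme.Modules.pullbackPushforwardAdjunction π').homEquiv _ _)
        ((Scheme.Modules.pullbackComp π' g).hom.app _ ≫
          (Scheme.Modules.pullbackCongr hsq.w.symm).hom.app _ ≫
          (Scheme.Modules.pullbackComp g' π).inv.app _ ≫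
          (Scheme.Modules.pullback g').map ((Scheme.Modules.pullbackPushforwardAdjunction π).counit.app T)))) ∧
    (∀ (P : Scheme.{u}) (p : P ⟶ S) (O1 : P.Modules)
      (q : (Scheme.Modules.pullback p).obj ((Scheme.Modules.pushforward π).obj T) ⟶ O1),
      KRR.IsProjBundle p ((Scheme.Modules.pushforward π).obj T) O1 q →
      ∀ (h : C ⟶ P) (hg : h ≫ p = π) (e : (Scheme.Modules.pullback h).obj O1 ≅ T),
        (Scheme.Modules.pullbackCongr hg).inv.app _ ≫ (Scheme.Modules.pullbackComp h p).inv.app _ ≫
          (Scheme.Modules.pullback h).map q ≫ e.hom = (Scheme.Modules.pullbackPushforwardAdjunction π).counit.app T →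
        IsClosedImmersion h) := by
  haveI hc : GeometricallyConnected π := Groth.L21.P1Fam.geometricallyConnected_of_geom π fun s => by
    haveI := (hfib _ (Groth.L21.P1Fam.geomPt s)).1
    infer_instance
  have hg : Groth.L21.P1Fam.Genus0 π :=
    Groth.L21.P1Fam.genus0_of_geom π fun s => (hfib _ (Groth.L21.P1Fam.geomPt s)).2.2
  haveI := Groth.L21.P1Fam.smoothOfRelativeDimension_of_geom π fun s => (hfib _ (Groth.L21.P1Fam.geomPt s)).2.1
  have hconn : ∀ s : S, ConnectedSpace ↥(π.fiber s) := fun s => by
    haveI := Groth.Agent.Elliptic.isIntegral_fibre π s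
    infer_instance
  have hΩ := Groth.L12.CurveFam.isInvertible_omega_of_dim π hconn (Groth.Agent.Elliptic.dim_fibre π)
  have hL : PicF.IsInvertible T := Groth.L13.PointBlow.isInvertible_of_isInverseOf hΩ hT
  have hd : Groth.L18.ConicFam.DegN π T 2 := fun s => by
    letI := Groth.Agent.Elliptic.fibOver π s
    haveI := Groth.Agent.Elliptic.isProper_fibre π s
    haveI := Groth.Agent.Elliptic.isIntegral_fibre π s
    haveI := Groth.L21.RR.isNoetherian_of_proper (X := π.fiber s) (S.residueField s)
    haveI := hconn s
    obtain ⟨θ⟩ := hT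
    let t : CohB1.tensorMod ((Scheme.Modules.pullback (π.fiberι s)).obj (Omega.sheaf π))
        ((Scheme.Modules.pullback (π.fiberι s)).obj T) ≅ Coh.structureModule (π.fiber s) :=
      Groth.L00.Tensor.tensorComm _ _ ≪≫ Groth.L29.DC.PullTensor.pullTensor (π.fiberι s) T (Omega.sheaf π) ≪≫
        (Scheme.Modules.pullback (π.fiberι s)).mapIso θ ≪≫ Groth.L29.LocFree.pullbackUnitIso _
    have h1 : Curv2.deg (S.residueField s) (π.fiber s)
        ((Scheme.Modules.pullback (π.fiberι s)).obj (Omega.sheaf π)) 1 = -2 := by
      rw [← Groth.L21.RR.deg_congr (S.residueField s)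
        ((Scheme.Modules.pullback (π.fiberι s)).mapIso (Groth.L00.Tensor.tensorPowOne (Omega.sheaf π))) 1]
      refine (Groth.L12.CurveFam.deg_fiber_omegaPow π s (Groth.Agent.Elliptic.dim_fibre π s) 1
        (Groth.Agent.Elliptic.h0_fibre π s)).trans ?_
      rw [hg s]
      norm_num
    rw [Groth.L21.Bundle.deg_inverse (S.residueField s) (Groth.Agent.Elliptic.dim_fibre π s)
      (Groth.L18.Ample.isInvertible_pullback _ hΩ) (Groth.L18.Ample.isInvertible_pullback _ hL) t, h1]
    norm_num
  have hE : FlatMod.IsFinLocFreeOfRank 3 ((Scheme.Modules.pushforward π).obj T) :=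
    Groth.L18.ConicFam.isFinLocFreeOfRank_push hg hL hd
  refine ⟨hE, Groth.L18.ConicFam.epi_counit hg hL hd,
    fun S' C' g π' g' hsq => Groth.L18.ConicFam.isIso_homEquiv hg hL hd hsq,
    fun P p O1 q hP h hh e he => ?_⟩
  obtain ⟨A⟩ := Groth.L12.KBun.exists_atlas hP (r := 2) hE
  haveI := A.isProper
  haveI : IsProper (h ≫ p) := by rw [hh]; infer_instance
  haveI : IsProper h := IsProper.of_comp h p
  haveI := Groth.L18.ConicFam.mono_of_isRelVeryAmple
    (Groth.L18.ConicFam.isRelVeryAmple hg hL hd (by norm_num)) q h hh e
    (by simp only [Grass.quotBC, Category.assoc]; exact he)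
  exact (IsClosedImmersion.iff_isProper_and_mono h).2 ⟨inferInstance, inferInstance⟩

end Groth.Agent.S18997
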