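import Groth.Statements.S18999
import Groth.Agent.S15517
import Groth.Agent.L22.PDual.LocFreeLow
import Groth.Agent.L22.Big.SurfaceBasic
import Groth.Agent.L00.SheafHom
import Groth.Agent.L03.InterLen.Cartier
import Groth.Agent.L08.GrpGorenstein
import Groth.Agent.S0341
-- import your own Groth.Agent.* helpers here

set_option autoImplicit false
universe u
open CategoryTheory CategoryTheory.Limits AlgebraicGeometry
open Surf

namespace Groth.Agent.S18999

open Groth.L22.Inter Groth.L22.Big Groth.L03.Euler
open Groth.L00.Tensor (tensorIso tensorComm tensorUnitLeft tensorUnitRight)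

/-- Let k be a field and X an integral scheme of dimension two admitting a closed immersion into some
P^n_k over k, such that X → Spec k is a local complete intersection morphism. Let (ω, t) be a
dualizing sheaf for X — ω coherent, t a k-linear form on H^2(X, ω), such that for every coherent F
and every k-linear form ψ on H^2(X, F) there is exactly one φ : F → ω with ψ = t ∘ H^2(φ) — and
assume ω invertible (as it is, X being Gorenstein). Then for every invertible O_X-module L one has
2χ(L) = (L·L) − (L·ω) + 2χ(O_X), where (A·B) = χ(O_X) − χ(A) − χ(B) + χ(A ⊗ B) is the intersection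
number (packaged as FGA.intNum) and all dimensions are over k. (The published statement is for a
proper two-dimensional variety of local complete intersection over k, with Euler characteristics
over the field of global functions; this row assumes X projective over k and counts dimensions over
k, which multiplies both sides by the same degree.) -/
theorem result (k : Type u) [Field k] (X : Scheme.{u}) [X.Over (Spec (CommRingCat.of k))]
    [IsIntegral X] (hdim : topologicalKrullDim X = 2)
    (hproj : ∃ (n : ℕ) (ι : X ⟶ CohB1.ProjSpace n k), IsClosedImmersion ι ∧ ι ≫ CohB1.ProjSpace.toSpec n k = (X ↘ (Spec (CommRingCat.of k))))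
    (hlci : Dual3.IsLCIMor (X ↘ (Spec (CommRingCat.of k))))
    (ω : X.Modules) (hωcoh : Coh.IsCoh ω) (hωinv : PicF.IsInvertible ω) (t : Coh.HH X ω 2 →ₗ[k] k)
    (hdual : ∀ F : X.Modules, Coh.IsCoh F → ∀ ψ : Coh.HH X F 2 →ₗ[k] k,
        ∃! φ : F ⟶ ω, ∀ x : Coh.HH X F 2,
          ψ x = t (Sheaf.H.map ((SheafOfModules.toSheaf X.ringCatSheaf).map φ) 2 x))
    (L : X.Modules) (hL : PicF.IsInvertible L) :
    2 * Curv2.euler k X L = FGA.intNum k X 2 ![L, L] (Coh.structureModule X) - FGA.intNum k X 2 ![L, ω] (Coh.structureModule X) + 2 * Curv2.euler k X (Coh.structureModule X) := by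
  have hCM : ∀ x : X, LocCoh.IsCohenMacaulayLocalRing (X.presheaf.stalk x) := fun x =>
    haveI := (Groth.L21.GorensteinLCI.isGorenstein_of_isLCIMor _ hlci (Groth.L08.GrpGorenstein.isGorenstein_spec k
      (Groth.L08.GrpGorenstein.isGorensteinRing_field k))).2 x
    Groth.Agent.S0341.result _
  obtain ⟨N, ι, hι, hιk⟩ := hproj
  haveI : IsProper (X ↘ (Spec (CommRingCat.of k))) := by
    rw [← hιk]
    haveI := Groth.L16.ProjSpace.isProper_toSpec N k
    infer_instance
  haveI := Groth.L21.RR.isNoetherian_of_proper (X := X) k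
  have hd2 : topologicalKrullDim X = (2 : ℕ) := hdim.trans Nat.cast_ofNat.symm
  have hd := hd2.le
  haveI := Groth.L00.Tensor.grothendieckAbelian_modules X
  haveI : HasExt.{u} X.Modules := inferInstance
  have hclosed : ∀ x : X, IsClosed ({x} : Set X) →
      LocCoh.IsCohenMacaulayLocalRing (X.presheaf.stalk x) ∧ ringKrullDim (X.presheaf.stalk x) = (2 : ℕ) := by
    refine fun x hx => ⟨hCM x, Groth.L03.InterLen.ringKrullDim_stalk_closed k (fun Z hZ => ?_) hx⟩
    rw [irreducibleComponents_eq_singleton, Set.mem_singleton_iff] at hZ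
    subst hZ
    rw [IsHomeomorph.topologicalKrullDim_eq _ (Homeomorph.Set.univ X).isHomeomorph]
    exact hd2
  obtain ⟨L', hL', ⟨e⟩⟩ := Groth.L08.Cube.exists_inverse hL
  -- duality for the cohomology of `L`
  have hflip : ∀ i : ℕ, i ≤ 2 → Module.finrank k (Coh.HH X (CohB1.tensorMod ω L') i) =
      Module.finrank k (Coh.HH X L (2 - i)) := by
    intro i hi
    obtain ⟨h1, -⟩ := Groth.Agent.S15517.result k N 2 X ι hιk hd2 hclosed ω hωcoh t hdual L
      (Groth.L18.Ample.isCoh_of_isInvertible hL)
    obtain ⟨e1⟩ := h1 i hi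
    have hLf := Groth.L20.ResDescent.isFinLocFree_of_isInvertible hL
    haveI := Groth.L00.Tensor.dcoh_hasSheafHom L
    haveI := Groth.L17.Duality.hasSheafHom L
    obtain ⟨e2⟩ := Groth.L22.PDual.nonempty_ext_linearEquiv (k := k) L hLf i ω
    obtain ⟨c⟩ := Groth.L22.PDual.nonempty_homMod_invertible e
    let j : (DCoh.sheafHom L).obj ω ≅ CohB1.tensorMod ω L' := (Groth.L22.PDual.homIso L).app ω ≪≫ c.app ω
    rw [← finrank_HH_of_iso j, ← e2.finrank_eq, e1.finrank_eq, Subspace.dual_finrank_eq]
  have hωL' : PicF.IsInvertible (CohB1.tensorMod ω L') := Groth.L18.GenLoc.isInvertible_tensor hωinv hL'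
  have hvan : ∀ M : X.Modules, Coh.IsQCoh M → ∀ n, 3 ≤ n → Subsingleton (Coh.HH X M n) :=
    fun M hM n hn => subsingleton_HH_of_dim hd M (by omega)
  have hser : ∀ A B : X.Modules, Coh.IsQCoh A → Coh.IsQCoh B →
      (∀ i : ℕ, i ≤ 2 → Module.finrank k (Coh.HH X A i) = Module.finrank k (Coh.HH X B (2 - i))) →
      Curv2.euler k X A = Curv2.euler k X B := by
    intro A B hA hB h
    rw [euler_eq_sum (hvan A hA), euler_eq_sum (hvan B hB)]
    simp only [Finset.sum_range_succ, Finset.sum_range_zero]
    rw [h 0 (by omega), h 1 (by omega), h 2 le_rfl]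
    ring
  have hqL := (Groth.L18.Ample.isCoh_of_isInvertible hL).1
  have key := hser (CohB1.tensorMod ω L') L (Groth.L18.Ample.isCoh_of_isInvertible hωL').1 hqL hflip
  -- the same at the structure sheaf
  have key0 : Curv2.euler k X ω = Curv2.euler k X (Coh.structureModule X) := by
    have hO := Groth.L18.Ample.isInvertible_structureModule X
    have hflip0 : ∀ i : ℕ, i ≤ 2 → Module.finrank k (Coh.HH X ω i) =
        Module.finrank k (Coh.HH X (Coh.structureModule X) (2 - i)) := by
      intro i hi
      obtain ⟨h1, -⟩ := Groth.Agent.S15517.result k N 2 X ι hιk hd2 hclosed ω hωcoh t hdual _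
        (Groth.L18.Ample.isCoh_of_isInvertible hO)
      obtain ⟨e1⟩ := h1 i hi
      have hLf := Groth.L20.ResDescent.isFinLocFree_of_isInvertible hO
      haveI := Groth.L00.Tensor.dcoh_hasSheafHom (Coh.structureModule X)
      haveI := Groth.L17.Duality.hasSheafHom (Coh.structureModule X)
      obtain ⟨e2⟩ := Groth.L22.PDual.nonempty_ext_linearEquiv (k := k) (Coh.structureModule X) hLf i ω
      obtain ⟨c⟩ := Groth.L22.PDual.nonempty_homMod_invertible (tensorUnitLeft (Coh.structureModule X))
      let j : (DCoh.sheafHom (Coh.structureModule X)).obj ω ≅ ω :=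
        (Groth.L22.PDual.homIso _).app ω ≪≫ c.app ω ≪≫ tensorUnitRight ω
      rw [← finrank_HH_of_iso j, ← e2.finrank_eq, e1.finrank_eq, Subspace.dual_finrank_eq]
    exact hser ω _ hωcoh.1 (Groth.L18.Ample.isCoh_of_isInvertible hO).1 hflip0
  -- bilinearity
  have expand : ∀ A B : X.Modules, ii k A B = (Curv2.euler k X (CohB1.tensorMod A B) : ℚ) - Curv2.euler k X A -
      Curv2.euler k X B + Curv2.euler k X (Coh.structureModule X) := by
    intro A B
    rw [ii_eq_sub, Groth.L22.Nef.altT_one, Groth.L22.Nef.altT_one, euler_iso (tensorUnitLeft B)]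
    push_cast
    ring
  have hneg : ∀ B : X.Modules, PicF.IsInvertible B → ii k L B = - ii k L' B := fun B hB => by
    have h0 : ii k (CohB1.tensorMod L L') B = 0 := (ii_congr k e B).trans (altT_unit k _)
    rw [ii_tensor k hd hL hL' hB] at h0
    linarith
  have h : (2 * Curv2.euler k X L : ℚ) = ii k L L - ii k L ω + 2 * Curv2.euler k X (Coh.structureModule X) := by
    rw [hneg L hL, hneg ω hωinv, expand L' L, expand L' ω, euler_iso (tensorComm L' L ≪≫ e),
      euler_iso (tensorComm L' ω), key, key0]
    ring
  rw [← intNum_eq_ii k hd L L, ← intNum_eq_ii k hd L ω] at h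
  exact_mod_cast h

end Groth.Agent.S18999
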