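import Groth.Statements.S1900
import Groth.Agent.S1902
import Groth.Agent.S9684
-- import your own Groth.Agent.* helpers here

set_option autoImplicit false
universe u
open CategoryTheory AlgebraicGeometry
open CategoryTheory.Limits
open Cyc

namespace Groth.Agent.S1900

/-- Let W → P^1_X be a closed immersion with W integral of δ-dimension k + 1 (for the dimension function
on P^1_X induced from δ on X), whose generic point lies neither over the zero section nor over the
section at infinity. Let W_0, W_∞ → X be the pullbacks of W along the two sections X → P^1_X (closed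
subschemes of X). Then [W_0]_k ∼_rat [W_∞]_k on X. A pair (X, δ) with Cyc.IsSetup plays the role of
a scheme locally of finite type over a fixed base with a dimension function (X locally Noetherian
with universally catenary local rings, δ a dimension function), and Cyc.DeltaCompat records that the
dimension function upstairs is the induced one. -/
theorem result (X : Scheme.{u}) (δ : X → ℤ) (hX : Cyc.IsSetup X δ) (δP : ↥(CohB1.ProjSpaceOver 1 X) → ℤ) (hP : Cyc.DeltaCompat (CohB1.ProjSpaceOver.toBase 1 X) δP δ) (k : ℤ) (W : Scheme.{u}) [IsIntegral W] (ι : W ⟶ CohB1.ProjSpaceOver 1 X) [IsClosedImmersion ι] (hW : δP (ι (genericPoint W)) = k + 1) (h0 : ι (genericPoint W) ∉ Set.range ⇑(P1.sect X 0)) (h1 : ι (genericPoint W) ∉ Set.range ⇑(P1.sect X 1)) (α β : AlgebraicCycle X ℤ) (hα : ⇑α = Cyc.subschemeFun δ k (pullback.snd ι (P1.sect X 0))) (hβ : ⇑β = Cyc.subschemeFun δ k (pullback.snd ι (P1.sect X 1))) : Cyc.RatEquiv δ k α β := by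
  haveI := hX.1
  haveI : IsProper (CohB1.ProjSpaceOver.toBase 1 X) := Groth.L16.ProjSpace.isProper_toBase 1 X
  have hd : Cyc.IsDimFun _ δP := Groth.Agent.S9684.result (CohB1.ProjSpaceOver.toBase 1 X) δ hX δP hP
  have hsp : ∀ z : W, ι (genericPoint W) ⤳ ι z := fun z => (genericPoint_specializes z).map ι.continuous
  have hη : ι (genericPoint W) ∉ Set.range ⇑(P1.sect X 0) ∪ Set.range ⇑(P1.sect X 1) :=
    fun h => h.elim h0 h1
  refine Groth.Agent.S1902.result X δ hX δP hP k W ι (fun z => ?_) (fun z hz => ?_) (fun z hz => ?_) α β hα hβ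
  · rcases eq_or_ne (ι (genericPoint W)) (ι z) with h | h
    · rw [← h, hW]
    · have := (hd _ _ (hsp z) h).1
      omega
  · rcases eq_or_ne (ι (genericPoint W)) (ι z) with h | h
    · exact absurd (h ▸ hz) hη
    · have := (hd _ _ (hsp z) h).1
      omega
  · left
    obtain ⟨hp, m, hm⟩ := hz
    have hm0 : m ≠ 0 := fun h => hp.ne_top (by
      subst h
      rw [hm]
      simp)
    have hbot : IsLocalRing.maximalIdeal (W.presheaf.stalk z) = ⊥ := by
      rw [hm]
      refine eq_bot_iff.2 fun a ha => ?_
      obtain ⟨n, hn⟩ := ha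
      have ha0 : a ^ n * m = 0 := by simpa [Submodule.mem_colon_singleton] using hn
      exact IsReduced.eq_zero a ⟨n, (mul_eq_zero.1 ha0).resolve_right hm0⟩
    have hzη : z = genericPoint W := by
      obtain ⟨_, ⟨U, hU, rfl⟩, hzU, -⟩ :=
        W.isBasis_affineOpens.exists_subset_of_mem_open (Set.mem_univ z) isOpen_univ
      haveI : Nonempty U := ⟨⟨z, hzU⟩⟩
      haveI := hU.isLocalization_stalk ⟨z, hzU⟩
      have hq : (hU.primeIdealOf ⟨z, hzU⟩).asIdeal = ⊥ := by
        refine eq_bot_iff.2 fun a ha => ?_
        letI := W.presheaf.algebra_section_stalk (⟨z, hzU⟩ : U)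
        have h2 := (IsLocalization.AtPrime.to_map_mem_maximal_iff (W.presheaf.stalk z)
          (hU.primeIdealOf ⟨z, hzU⟩).asIdeal a).2 ha
        rw [hbot, Ideal.mem_bot] at h2
        exact (Ideal.mem_bot).2 (germ_injective_of_isIntegral W z hzU (h2.trans (map_zero _).symm))
      have hηU : genericPoint W ∈ U := (genericPoint_specializes z).mem_open U.2 hzU
      have e : hU.primeIdealOf ⟨z, hzU⟩ = hU.primeIdealOf ⟨genericPoint W, hηU⟩ := by
        refine PrimeSpectrum.ext (hq.trans ?_)
        rw [hU.primeIdealOf_genericPoint, genericPoint_eq_bot_of_affine]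
        rfl
      exact
        (hU.fromSpec_primeIdealOf ⟨z, hzU⟩).symm.trans ((congrArg (fun p => hU.fromSpec p) e).trans (hU.fromSpec_primeIdealOf _))
    exact hzη ▸ hη

end Groth.Agent.S1900
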