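import Groth.Statements.S19001
import Groth.Agent.L12.ConstDeg
import Groth.Agent.L05.PtSeq.Trans
import Mathlib.AlgebraicGeometry.Morphisms.Proper
import Mathlib.RingTheory.Flat.Basic
-- import your own Groth.Agent.* helpers here

set_option autoImplicit false
universe u
open CategoryTheory CategoryTheory.Limits AlgebraicGeometry
open FBase

namespace Groth.Agent.S19001

open scoped TensorProduct in
/-- Geometric reducedness of `X` over its constants, on the function field. -/
theorem isReduced_tensor (X : Scheme.{u}) [IsIntegral X] (E : Type u) [Field E] (i : Γ(X, ⊤) →+* E)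
    (hF : IsField Γ(X, ⊤)) (h : AlgebraicGeometry.IsReduced (pullback X.toSpecΓ (Spec.map (CommRingCat.ofHom i)))) :
    letI := i.toAlgebra
    letI := ((X.residue (genericPoint X)).hom.comp (X.presheaf.germ ⊤ (genericPoint X) trivial).hom).toAlgebra
    _root_.IsReduced (X.residueField (genericPoint X) ⊗[Γ(X, ⊤)] E) := by
  letI := i.toAlgebra
  let η := genericPoint X
  letI algK : Algebra Γ(X, ⊤) (X.residueField η) :=
    ((X.residue η).hom.comp (X.presheaf.germ ⊤ η trivial).hom).toAlgebra
  obtain ⟨_, ⟨U, hU, rfl⟩, hηU, -⟩ :=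
    X.isBasis_affineOpens.exists_subset_of_mem_open (Set.mem_univ η) isOpen_univ
  haveI : Nonempty U := ⟨⟨η, hηU⟩⟩
  let res : Γ(X, ⊤) →+* Γ(X, U) := (X.presheaf.map (homOfLE le_top).op).hom
  letI : Algebra Γ(X, ⊤) Γ(X, U) := res.toAlgebra
  have hres : Function.Injective (X.residue η).hom :=
    RingHom.injective (R := X.functionField) (X.residue η).hom
  let χ : Γ(X, U) →ₐ[Γ(X, ⊤)] X.residueField η :=
    { (X.residue η).hom.comp (X.presheaf.germ U η hηU).hom with
      commutes' := fun a => by
        show (X.residue η).hom ((X.presheaf.germ U η hηU).hom (res a)) =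
          (X.residue η).hom ((X.presheaf.germ ⊤ η trivial).hom a)
        exact congrArg (X.residue η).hom
          (TopCat.Presheaf.germ_res_apply X.presheaf (homOfLE le_top) η hηU a) }
  have hχ : Function.Injective χ := hres.comp (germ_injective_of_isIntegral X η hηU)
  -- the affine piece of the base change is reduced
  let r : Spec Γ(X, U) ⟶ Spec Γ(X, ⊤) := Spec.map (CommRingCat.ofHom (algebraMap Γ(X, ⊤) Γ(X, U)))
  let e := Spec.map (CommRingCat.ofHom (algebraMap Γ(X, ⊤) E))
  let c : pullback r e ⟶ pullback X.toSpecΓ (Spec.map (CommRingCat.ofHom i)) :=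
    pullback.map r e _ _ hU.fromSpec (𝟙 _) (𝟙 _) (by rw [Category.comp_id, hU.fromSpec_toSpecΓ]; rfl)
      (by rw [Category.comp_id, Category.id_comp])
  haveI : IsOpenImmersion c :=
    MorphismProperty.pullbackMap (P := @IsOpenImmersion) inferInstance inferInstance
      (by rw [hU.fromSpec_toSpecΓ]; rfl) (Category.id_comp _).symm
  haveI := isReduced_of_isOpenImmersion c
  haveI : AlgebraicGeometry.IsReduced (Spec (CommRingCat.of (Γ(X, U) ⊗[Γ(X, ⊤)] E))) :=
    isReduced_of_isOpenImmersion (pullbackSpecIso Γ(X, ⊤) Γ(X, U) E).inv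
  haveI := (affine_isReduced_iff _).1 this
  let m : Γ(X, U) ⊗[Γ(X, ⊤)] E →ₐ[Γ(X, ⊤)] X.residueField η ⊗[Γ(X, ⊤)] E :=
    Algebra.TensorProduct.map χ (AlgHom.id _ E)
  have hm : Function.Injective m := by
    letI := hF.toField
    exact Module.Flat.rTensor_preserves_injective_linearMap (M := E) χ.toLinearMap hχ
  haveI : IsFractionRing Γ(X, U) X.functionField := functionField_isFractionRing_of_isAffineOpen X U hU
  have key : ∀ w : X.residueField η ⊗[Γ(X, ⊤)] E, ∃ b : Γ(X, U), b ≠ 0 ∧ ∃ v, m v = (χ b) ⊗ₜ 1 * w := fun w => by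
    induction w using TensorProduct.induction_on with
    | zero => exact ⟨1, one_ne_zero, 0, by rw [map_zero, mul_zero]⟩
    | tmul z y =>
      obtain ⟨z, rfl⟩ := Scheme.residue_surjective X η z
      obtain ⟨⟨a, b⟩, hab⟩ := IsLocalization.surj (nonZeroDivisors Γ(X, U)) (S := X.functionField) z
      refine ⟨b, nonZeroDivisors.coe_ne_zero b, a ⊗ₜ y, ?_⟩
      rw [Algebra.TensorProduct.map_tmul, Algebra.TensorProduct.tmul_mul_tmul, one_mul, AlgHom.id_apply]
      congr 1
      exact (congrArg (X.residue η).hom hab).symm.trans ((map_mul _ _ _).trans (mul_comm _ _))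
    | add w w' hw hw' =>
      obtain ⟨b, hb, v, hv⟩ := hw
      obtain ⟨b', hb', v', hv'⟩ := hw'
      refine ⟨b * b', mul_ne_zero hb hb', (b' ⊗ₜ 1) * v + (b ⊗ₜ 1) * v', ?_⟩
      have e : χ (b * b') ⊗ₜ[Γ(X, ⊤)] (1 : E) = (χ b ⊗ₜ 1) * (χ b' ⊗ₜ 1) := by
        rw [Algebra.TensorProduct.tmul_mul_tmul, map_mul, one_mul]
      rw [map_add, map_mul, map_mul, hv, hv', e, Algebra.TensorProduct.map_tmul,
        Algebra.TensorProduct.map_tmul, map_one]
      ring
  refine ⟨fun w ⟨n, hn⟩ => ?_⟩
  obtain ⟨b, hb, v, hv⟩ := key w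
  have hv0 : v = 0 := IsReduced.eq_zero v ⟨n, hm (by rw [map_pow, hv, mul_pow, hn, mul_zero, map_zero])⟩
  have hu : IsUnit ((χ b) ⊗ₜ[Γ(X, ⊤)] (1 : E)) :=
    (isUnit_iff_ne_zero.2 fun h0 => hb (hχ (h0.trans (map_zero χ).symm))).map
      (Algebra.TensorProduct.includeLeft : X.residueField η →ₐ[Γ(X, ⊤)] _)
  exact hu.mul_right_eq_zero.1 (by rw [← hv, hv0, map_zero])

/-- The constants of a normal integral scheme are algebraically closed in the function field. -/
theorem mem_range_of_isIntegral (X : Scheme.{u}) [IsIntegral X]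
    (hX : ∀ x : X, IsIntegrallyClosed (X.presheaf.stalk x)) :
    letI := ((X.residue (genericPoint X)).hom.comp (X.presheaf.germ ⊤ (genericPoint X) trivial).hom).toAlgebra
    ∀ a : X.residueField (genericPoint X), IsIntegral Γ(X, ⊤) a →
      a ∈ Set.range (algebraMap Γ(X, ⊤) (X.residueField (genericPoint X))) := by
  letI algK : Algebra Γ(X, ⊤) (X.residueField (genericPoint X)) :=
    ((X.residue (genericPoint X)).hom.comp (X.presheaf.germ ⊤ (genericPoint X) trivial).hom).toAlgebra
  intro a ⟨P, hP, hP0⟩
  obtain ⟨z, rfl⟩ := Scheme.residue_surjective X (genericPoint X) a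
  have hres : Function.Injective (X.residue (genericPoint X)).hom :=
    RingHom.injective (R := X.functionField) (X.residue (genericPoint X)).hom
  have hz : P.eval₂ (X.presheaf.germ ⊤ (genericPoint X) trivial).hom z = 0 := hres (by
    rw [Polynomial.hom_eval₂, map_zero]; exact hP0)
  obtain ⟨t, ht⟩ := Groth.L05.PtSeq.exists_section_of_mem_stalks ⊤ trivial z fun p _ => by
    haveI := hX p
    have hcomp : (algebraMap (X.presheaf.stalk p) X.functionField).comp (X.presheaf.germ ⊤ p trivial).hom =
        (X.presheaf.germ ⊤ (genericPoint X) trivial).hom :=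
      RingHom.ext fun t => TopCat.Presheaf.germ_stalkSpecializes_apply X.presheaf (U := (⊤ : X.Opens))
        (TopologicalSpace.Opens.mem_top p) ((genericPoint_spec X).specializes trivial) _
    refine IsIntegrallyClosed.isIntegral_iff.1 ⟨P.map (X.presheaf.germ ⊤ p trivial).hom, hP.map _, ?_⟩
    rw [Polynomial.eval₂_map, hcomp]
    exact hz
  exact ⟨t, congrArg (X.residue (genericPoint X)).hom ht⟩

theorem main (X Z : Scheme.{u}) [IsIntegral X] [IsIntegral Z]
    (hX : ∀ x : X, IsIntegrallyClosed (X.presheaf.stalk x)) (f : Z ⟶ X)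
    (hFX : IsField Γ(X, ⊤)) (hFZ : IsField Γ(Z, ⊤)) (hfin : f.appTop.hom.Finite)
    (x : X) (hx : f.base (genericPoint Z) = x) (hgen : x = genericPoint X)
    (hgr : ∀ (E : Type u) [Field E] (i : Γ(X, ⊤) →+* E),
      AlgebraicGeometry.IsReduced (pullback X.toSpecΓ (Spec.map (CommRingCat.ofHom i)))) :
    letI := f.appTop.hom.toAlgebra;
    letI := (f.residueFieldMap (genericPoint Z)).hom.toAlgebra;
    Module.finrank Γ(X, ⊤) Γ(Z, ⊤) ∣ Module.finrank (X.residueField (f.base (genericPoint Z))) (Z.residueField (genericPoint Z)) := by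
  letI := f.appTop.hom.toAlgebra
  letI := (f.residueFieldMap (genericPoint Z)).hom.toAlgebra
  letI := hFX.toField
  letI := hFZ.toField
  haveI : FiniteDimensional Γ(X, ⊤) Γ(Z, ⊤) := hfin
  let y := f.base (genericPoint Z)
  letI algK : Algebra Γ(X, ⊤) (X.residueField y) :=
    ((X.residue y).hom.comp (X.presheaf.germ ⊤ y trivial).hom).toAlgebra
  have hy : y = genericPoint X := hx.trans hgen
  have h1 : (∀ a : X.residueField y, IsIntegral Γ(X, ⊤) a → a ∈ Set.range (algebraMap Γ(X, ⊤) (X.residueField y))) ∧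
      _root_.IsReduced (TensorProduct Γ(X, ⊤) (X.residueField y) Γ(Z, ⊤)) := by
    have h2 := And.intro (mem_range_of_isIntegral X hX)
      (isReduced_tensor X Γ(Z, ⊤) f.appTop.hom hFX (hgr _ f.appTop.hom))
    rw [← hy] at h2
    exact h2
  haveI := h1.2
  refine Groth.L12.ConstDeg.finrank_dvd h1.1 Γ(Z, ⊤) (Z.residueField (genericPoint Z))
    ((Z.residue (genericPoint Z)).hom.comp (Z.presheaf.germ ⊤ (genericPoint Z) trivial).hom) fun a => ?_
  show (Z.residue (genericPoint Z)).hom ((Z.presheaf.germ ⊤ (genericPoint Z) trivial).hom (f.appTop.hom a)) =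
    (f.residueFieldMap (genericPoint Z)).hom ((X.residue y).hom ((X.presheaf.germ ⊤ y trivial).hom a))
  have e2 := congr($(Scheme.residue_residueFieldMap f (genericPoint Z)).hom ((X.presheaf.germ ⊤ y trivial).hom a))
  refine Eq.trans ?_ e2.symm
  exact congrArg (Z.residue (genericPoint Z)).hom
    (Scheme.Hom.germ_stalkMap_apply f ⊤ (genericPoint Z) trivial a).symm

/-- Let f : Z → X be a finite surjective morphism of integral schemes proper over a field k, with X
normal, and let d = [k(Z) : k(X)] be its degree on function fields (the residue fields at the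
generic point of Z and at its image, the generic point of X). Write k_X = H^0(X, O_X) and k_Z =
H^0(Z, O_Z) (fields, finite over k). If X is geometrically reduced over k_X — X ×_{k_X} E is reduced
for every field E over k_X, i.e. k(X) is separable over k_X — then [k_Z : k_X] divides d. (The
published statement does not assume that X is geometrically reduced over k_X; without that
hypothesis the divisibility fails: for k_0 = F_p(s, t), X the normal proper curve with function
field k_0(x, y), y^p = s + t x^p, and Z the projective line over k_0(s^{1/p}, t^{1/p}) mapping to X,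
one has d = p but [k_Z : k_X] = p^2.) -/
theorem result (k : Type u) [Field k]
    (X Z : Scheme.{u}) [X.Over (Spec (CommRingCat.of k))] [Z.Over (Spec (CommRingCat.of k))]
    [IsIntegral X] [IsIntegral Z]
    [IsProper (X ↘ Spec (CommRingCat.of k))] [IsProper (Z ↘ Spec (CommRingCat.of k))]
    (hXn : ∀ x : X, IsIntegrallyClosed (X.presheaf.stalk x))
    (f : Z ⟶ X) (hf : f ≫ (X ↘ Spec (CommRingCat.of k)) = Z ↘ Spec (CommRingCat.of k))
    [IsFinite f] [Surjective f]
    (hgr : ∀ (E : Type u) [Field E] (i : Γ(X, ⊤) →+* E),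
      AlgebraicGeometry.IsReduced (pullback X.toSpecΓ (Spec.map (CommRingCat.ofHom i)))) :
    letI := f.appTop.hom.toAlgebra;
    letI := (f.residueFieldMap (genericPoint Z)).hom.toAlgebra;
    Module.finrank Γ(X, ⊤) Γ(Z, ⊤) ∣ Module.finrank (X.residueField (f.base (genericPoint Z))) (Z.residueField (genericPoint Z)) := by
  have hgen : f.base (genericPoint Z) = genericPoint X := by
    refine (Specializes.antisymm ?_ ((genericPoint_spec X).specializes trivial)).eq
    obtain ⟨z, hz⟩ := f.surjective (genericPoint X)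
    rw [← hz]
    exact ((genericPoint_spec Z).specializes trivial).map f.continuous
  refine main X Z hXn f (isField_of_universallyClosed k (X ↘ Spec (CommRingCat.of k)))
    (isField_of_universallyClosed k (Z ↘ Spec (CommRingCat.of k))) ?_ _ rfl hgen hgr
  refine RingHom.Finite.of_comp_finite (f := (X ↘ Spec (CommRingCat.of k)).appTop.hom) ?_
  rw [← CommRingCat.hom_comp, ← Scheme.Hom.comp_appTop, hf]
  exact finite_appTop_of_universallyClosed k (Z ↘ Spec (CommRingCat.of k))

end Groth.Agent.S19001
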