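import Groth.Statements.S19003
import Groth.Agent.L05.CanonBC.GenericFibre

set_option autoImplicit false
universe u
open CategoryTheory CategoryTheory.Limits AlgebraicGeometry
open Canon

namespace Groth.Agent.S19003
set_option backward.isDefEq.respectTransparency false
set_option backward.isDefEq.respectTransparency.types false
set_option linter.style.haveILetI false

/-- Let π : X → B be a local complete intersection morphism between integral schemes of finite type over
a field F whose structure morphisms to Spec F are local complete intersection morphisms, and let k =
F(B) be the function field of B. If ω is a canonical sheaf of X over F — for some factorisation of X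
→ Spec F into a quasi-compact regular immersion of constant codimension followed by a
quasi-separated smooth morphism of constant relative dimension, ω is isomorphic to the dual of the
top exterior power of the conormal sheaf tensor the pulled-back top differentials — then the
restriction of ω to the generic fibre X_η = X ×_B Spec k is a canonical sheaf of X_η over k in the
same sense. (Canonical sheaves are pinned only up to isomorphism here, so the statement is the
existence of a suitable factorisation of X_η → Spec k and of an isomorphism.) -/
theorem result (F : Type u) [Field F] (X B : Scheme.{u})
    [IsIntegral X] [IsIntegral B]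
    (pX : X ⟶ Spec (CommRingCat.of F)) (pB : B ⟶ Spec (CommRingCat.of F))
    [LocallyOfFiniteType pX] [QuasiCompact pX] [LocallyOfFiniteType pB] [QuasiCompact pB]
    (π : X ⟶ B) (hπ : π ≫ pB = pX)
    (hπlci : Dual3.IsLCIMor π) (hXlci : Dual3.IsLCIMor pX) (hBlci : Dual3.IsLCIMor pB)
    (ω : X.Modules) (hω : Canon.IsCanonical pX ω) :
    Canon.IsCanonical (pullback.snd π (B.fromSpecStalk (genericPoint B)))
      ((Scheme.Modules.pullback (pullback.fst π (B.fromSpecStalk (genericPoint B)))).obj ω) := by
  exact Groth.L05.CanonBC.isCanonical_genericFibre pX pB π hπ hπlci hBlci ω hω

end Groth.Agent.S19003
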