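import Groth.Statements.S19004
import Mathlib.LinearAlgebra.Vandermonde
import Mathlib.Algebra.MvPolynomial.CommRing
import Mathlib.Data.Fintype.Perm
import Mathlib.Algebra.BigOperators.Fin

set_option autoImplicit false
open GIT

namespace Groth.Agent.S19004

variable {n : ℕ}

open MvPolynomial

lemma det_vand_eq (v : Fin n → MvPolynomial (Fin n) ℤ) :
    (Matrix.vandermonde v).det = ∑ σ : Equiv.Perm (Fin n), Equiv.Perm.sign σ • ∏ i, v i ^ ((σ i : Fin n) : ℕ) := by
  rw [← Matrix.det_transpose, Matrix.det_apply]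
  rfl

lemma prod_X_pow (f : Fin n → Fin n) :
    ∏ i, (X i : MvPolynomial (Fin n) ℤ) ^ ((f i : Fin n) : ℕ) =
      monomial (Finsupp.equivFunOnFinite.symm fun i => ((f i : Fin n) : ℕ)) 1 := by
  rw [monomial_eq, map_one, one_mul, Finsupp.prod_fintype _ _ (fun i => pow_zero _)]
  rfl

lemma coeff_det_mul :
    coeff (Finsupp.equivFunOnFinite.symm (fun _ : Fin n => n - 1))
      ((Matrix.vandermonde fun i => (X i.rev : MvPolynomial (Fin n) ℤ)).det *
        (Matrix.vandermonde fun i => (X i : MvPolynomial (Fin n) ℤ)).det) = (n.factorial : ℤ) := by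
  classical
  have hrev : ∀ σ : Equiv.Perm (Fin n), ∏ i, (X i.rev : MvPolynomial (Fin n) ℤ) ^ ((σ i : Fin n) : ℕ) =
      monomial (Finsupp.equivFunOnFinite.symm fun i => ((σ i.rev : Fin n) : ℕ)) 1 := by
    intro σ
    rw [← prod_X_pow, ← Equiv.prod_comp Fin.revPerm]
    exact Finset.prod_congr rfl fun i _ => by simp
  simp only [det_vand_eq, hrev, prod_X_pow, Finset.sum_mul, Finset.mul_sum, coeff_sum, smul_mul_smul_comm,
    monomial_mul, mul_one]
  let ρ := fun σ : Equiv.Perm (Fin n) => Fin.revPerm * σ * Fin.revPerm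
  have hcond : ∀ σ τ : Equiv.Perm (Fin n), ((Finsupp.equivFunOnFinite.symm fun i => ((σ i.rev : Fin n) : ℕ)) +
      Finsupp.equivFunOnFinite.symm fun i => ((τ i : Fin n) : ℕ)) =
      Finsupp.equivFunOnFinite.symm (fun _ : Fin n => n - 1) ↔ τ = ρ σ := by
    intro σ τ
    rw [Finsupp.ext_iff, Equiv.ext_iff]
    refine forall_congr' fun i => ?_
    simp only [ρ, Finsupp.add_apply, Finsupp.equivFunOnFinite_symm_apply_apply, Equiv.Perm.mul_apply,
      Fin.revPerm_apply, Fin.ext_iff, Fin.val_rev]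
    have := (σ i.rev).isLt
    have := (τ i).isLt
    omega
  have hterm : ∀ σ τ : Equiv.Perm (Fin n),
      coeff (Finsupp.equivFunOnFinite.symm (fun _ : Fin n => n - 1))
        ((Equiv.Perm.sign σ * Equiv.Perm.sign τ) • monomial ((Finsupp.equivFunOnFinite.symm fun i => ((σ i.rev : Fin n) : ℕ)) +
          Finsupp.equivFunOnFinite.symm fun i => ((τ i : Fin n) : ℕ)) (1 : ℤ)) = if τ = ρ σ then 1 else 0 := by
    intro σ τ
    rw [Units.smul_def, coeff_smul, coeff_monomial]
    by_cases h : τ = ρ σ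
    · rw [if_pos ((hcond σ τ).2 h), if_pos h, h, smul_eq_mul, mul_one]
      simp only [ρ, map_mul]
      rcases Int.units_eq_one_or (Equiv.Perm.sign σ) with e | e <;>
        rcases Int.units_eq_one_or (Equiv.Perm.sign (Fin.revPerm : Equiv.Perm (Fin n))) with e' | e' <;>
        simp [e, e']
    · rw [if_neg (fun h' => h ((hcond σ τ).1 h')), if_neg h, smul_zero]
  simp only [hterm]
  first
    | (rw [Finset.sum_comm]; simp [Finset.card_univ, Fintype.card_perm]; done)
    | (simp [Finset.card_univ, Fintype.card_perm])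

open GIT in


/-- For the group PGL(n) acting on the space of n × n matrices the T-quotient is (P^{n−1})^n with Chow
ring ℚ[t_1,…,t_n]/(t_1^n,…,t_n^n), the class c_top(g/t) is the product of all roots t_i − t_j (i ≠
j), and the computation in the proof shows that this product equals n!·t_1^{n−1}⋯t_n^{n−1} in that
ring. Stated here as the equivalent coefficient identity in ℤ[t_1,…,t_n]: the coefficient of
t_1^{n−1}⋯t_n^{n−1} in the product over ordered pairs i ≠ j of (t_i − t_j) is n!. -/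
theorem result (n : ℕ) :
    MvPolynomial.coeff (Finsupp.equivFunOnFinite.symm (fun _ : Fin n => n - 1))
      (∏ i : Fin n, ∏ j ∈ Finset.univ.erase i, (MvPolynomial.X i - MvPolynomial.X j : MvPolynomial (Fin n) ℤ)) = (n.factorial : ℤ) := by
  have hsplit : ∀ i : Fin n, Finset.univ.erase i = Finset.Iio i ∪ Finset.Ioi i := by
    intro i; ext j; simp [lt_or_lt_iff_ne]
  have hP : (∏ i : Fin n, ∏ j ∈ Finset.univ.erase i, (MvPolynomial.X i - MvPolynomial.X j : MvPolynomial (Fin n) ℤ)) =
      (∏ i : Fin n, ∏ j ∈ Finset.Ioi i, (MvPolynomial.X i - MvPolynomial.X j)) *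
      (∏ i : Fin n, ∏ j ∈ Finset.Ioi i, (MvPolynomial.X j - MvPolynomial.X i)) := by
    rw [← Finset.prod_mul_distrib]
    have h2 : (∏ i : Fin n, ∏ j ∈ Finset.Iio i, (MvPolynomial.X i - MvPolynomial.X j : MvPolynomial (Fin n) ℤ)) =
        ∏ i : Fin n, ∏ j ∈ Finset.Ioi i, (MvPolynomial.X j - MvPolynomial.X i) :=
      Finset.prod_comm' (by simp)
    rw [Finset.prod_mul_distrib, ← h2, mul_comm, ← Finset.prod_mul_distrib]
    refine Finset.prod_congr rfl fun i _ => ?_
    rw [hsplit, Finset.prod_union (Finset.disjoint_left.2 fun j h1 h2 => by simp at h1 h2; omega)]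
  have h3 : (∏ i : Fin n, ∏ j ∈ Finset.Ioi i, (MvPolynomial.X i - MvPolynomial.X j : MvPolynomial (Fin n) ℤ)) =
      (Matrix.vandermonde fun i => (MvPolynomial.X i.rev : MvPolynomial (Fin n) ℤ)).det := by
    rw [Matrix.det_vandermonde, ← Equiv.prod_comp Fin.revPerm (fun i : Fin n => ∏ j ∈ Finset.Ioi i, (MvPolynomial.X j.rev - MvPolynomial.X i.rev : MvPolynomial (Fin n) ℤ))]
    calc (∏ i : Fin n, ∏ j ∈ Finset.Ioi i, (MvPolynomial.X i - MvPolynomial.X j : MvPolynomial (Fin n) ℤ))
        = ∏ i : Fin n, ∏ j ∈ Finset.Iio i, (MvPolynomial.X j - MvPolynomial.X i) :=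
          Finset.prod_comm' (by simp)
      _ = _ := by
        refine Finset.prod_congr rfl fun i _ => ?_
        refine Finset.prod_nbij' Fin.rev Fin.rev ?_ ?_ ?_ ?_ ?_ <;> intro j <;>
          simp [Fin.rev_lt_iff, Fin.lt_rev_iff, Fin.rev_lt_rev]
  rw [hP, h3, ← Matrix.det_vandermonde (fun i : Fin n => (MvPolynomial.X i : MvPolynomial (Fin n) ℤ))]
  exact coeff_det_mul


end Groth.Agent.S19004
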