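import Groth.Statements.S19005
import Mathlib.LinearAlgebra.QuadraticForm.Basic
import Mathlib.Algebra.Group.Even

set_option autoImplicit false
open scoped TensorProduct
open K2Cent

namespace Groth.Agent.S19005

/-- For abelian groups X and M and ε in M with 2ε = 0 (in the source X is the character group of a split
torus and ε is the class of −1 among the units), the map x ↦ (x ⊗ x, −(x ⊗ ε)) into (X ⊗ X) × (X ⊗
M) is quadratic over ℤ, i.e. it underlies an integer quadratic map with exactly these values. -/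
theorem result (X M : Type*) [AddCommGroup X]
    [AddCommGroup M] (ε : M) (hε : 2 • ε = 0) :
    ∃ R : QuadraticMap ℤ X (TensorProduct ℤ X X × TensorProduct ℤ X M),
      ∀ x : X, R x = (x ⊗ₜ[ℤ] x, -(x ⊗ₜ[ℤ] ε)) := by
  refine ⟨{ toFun := fun x => (x ⊗ₜ[ℤ] x, -(x ⊗ₜ[ℤ] ε))
            toFun_smul := fun a x => ?_
            exists_companion' := ?_ }, fun x => rfl⟩
  · refine Prod.ext ?_ ?_
    · simp [TensorProduct.smul_tmul', TensorProduct.tmul_smul, smul_smul]
    · obtain ⟨b, hb⟩ : (2 : ℤ) ∣ a * a - a := by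
        rcases Int.even_or_odd' a with ⟨c, rfl | rfl⟩
        · exact ⟨2 * c * c - c, by ring⟩
        · exact ⟨2 * c * c + c, by ring⟩
      have h0 : ((a * a - a) : ℤ) • (x ⊗ₜ[ℤ] ε) = 0 := by
        rw [hb, mul_comm, mul_smul, ← TensorProduct.tmul_smul, show (2 : ℤ) • ε = 0 from by
          rw [← hε]; exact natCast_zsmul ε 2, TensorProduct.tmul_zero, smul_zero]
      rw [sub_smul, sub_eq_zero] at h0
      simp only [Prod.smul_snd, smul_neg, neg_inj, ← TensorProduct.smul_tmul', h0]
  · refine ⟨LinearMap.mk₂ ℤ (fun x y => (x ⊗ₜ[ℤ] y + y ⊗ₜ[ℤ] x, 0)) ?_ ?_ ?_ ?_, fun x y => ?_⟩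
    all_goals intros; refine Prod.ext ?_ ?_ <;>
      simp [TensorProduct.add_tmul, TensorProduct.tmul_add, TensorProduct.smul_tmul',
        TensorProduct.tmul_smul] <;> abel

end Groth.Agent.S19005
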