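import Groth.Statements.S19006
import Mathlib.Tactic.LinearCombination

set_option autoImplicit false
universe u v w x
open RootD

namespace Groth.Agent.S19006

/-- For a root pairing over an integral domain of characteristic zero, a quadratic form Q on the
coweight module N with polar form B, and a root α with coroot α^∨, the form Q is invariant under the
reflection attached to α acting on N if and only if B(y, α^∨) = ⟨α, y⟩ Q(α^∨) for all y in N. (The
source states this for integer-valued forms on the cocharacter lattice of a split reductive group;
here the form takes values in the base ring of the pairing.) -/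
theorem result {ι : Type u} {R : Type v} {M : Type w} {N : Type x} [CommRing R] [IsDomain R] [CharZero R]
    [AddCommGroup M] [Module R M] [AddCommGroup N] [Module R N] (P : RootPairing ι R M N)
    (Q : QuadraticMap R N R) (j : ι) :
    (∀ y : N, Q (P.coreflection j y) = Q y) ↔
      ∀ y : N, QuadraticMap.polar Q y (P.coroot j) = P.root' j y * Q (P.coroot j) := by
  set r : N → R := fun y => P.root' j y with hr
  set c := P.coroot j with hc
  have key : ∀ y, Q (P.coreflection j y) - Q y = r y * r y * Q c - r y * QuadraticMap.polar Q y c := by
    intro y
    rw [RootPairing.coreflection_apply, show y - (P.root' j) y • P.coroot j = y + (-(r y)) • c by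
      rw [neg_smul, ← sub_eq_add_neg], QuadraticMap.map_add (⇑Q),
      QuadraticMap.polar_smul_right, QuadraticMap.map_smul, smul_eq_mul, smul_eq_mul]
    simp only [hr]
    ring
  constructor
  · intro h
    have h0 : ∀ y, r y ≠ 0 → QuadraticMap.polar Q y c = r y * Q c := by
      intro y hy
      have := key y
      rw [h, sub_self] at this
      exact mul_left_cancel₀ hy (by linear_combination this)
    intro y
    by_cases hy : r y = 0
    · have h2 : r c = 2 := by simp only [hr, hc, RootPairing.root'_coroot_eq_pairing, RootPairing.pairing_same]
      have h3 : r (y + c) = 2 := by simp only [hr, map_add] at hy h2 ⊢; rw [hy, h2, zero_add]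
      have h4 := h0 (y + c) (by rw [h3]; exact two_ne_zero)
      rw [QuadraticMap.polar_add_left, h3, QuadraticMap.polar_self, two_nsmul] at h4
      change _ = r y * _
      rw [hy, zero_mul]
      linear_combination h4
    · exact h0 y hy
  · intro h y
    have := key y
    rw [h y] at this
    linear_combination this

end Groth.Agent.S19006
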