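import Groth.Statements.S19007
import Groth.Agent.L24.RootD.Quad

set_option autoImplicit false
universe u v w x
open RootD

namespace Groth.Agent.S19007

/-- Let P be a finite reduced crystallographic root pairing over an integral domain of characteristic
zero, b a base of P (a system of simple roots) and Q a quadratic form on the coweight module with
polar form B. Then Q is invariant under all root reflections (equivalently under the Weyl group) on
the span of the coroots if and only if for all pairs of distinct simple roots α_i ≠ α_j one has
B(α_i^∨, α_j^∨) = ⟨α_j, α_i^∨⟩ Q(α_j^∨). (In the source the form is integer-valued on the lattice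
spanned by the coroots and the condition says that the bilinear form lies in the kernel of the last
map of a three-term complex built from the Bruhat cells of codimension at most two; here the form
takes values in the base ring.) -/
theorem result {ι : Type u} {R : Type v} {M : Type w} {N : Type x} [CommRing R] [IsDomain R] [CharZero R]
    [AddCommGroup M] [Module R M] [AddCommGroup N] [Module R N] (P : RootPairing ι R M N)
    [Finite ι] [P.IsCrystallographic] [P.IsReduced] (b : P.Base) (Q : QuadraticMap R N R) :
    (∀ i : ι, ∀ y ∈ Submodule.span R (Set.range P.coroot), Q (P.coreflection i y) = Q y) ↔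
      ∀ i ∈ b.support, ∀ j ∈ b.support, i ≠ j →
        QuadraticMap.polar Q (P.coroot i) (P.coroot j) = P.pairing j i * Q (P.coroot j) := by
  classical
  constructor
  · intro h i hi j hj hij
    have := (Groth.L24.RootD.inv_iff Q j (Submodule.span R (Set.range P.coroot))
      (Submodule.subset_span (Set.mem_range_self j))).1 (h j) (P.coroot i)
      (Submodule.subset_span (Set.mem_range_self i))
    rwa [RootPairing.root'_coroot_eq_pairing] at this
  · intro h k
    have stab : ∀ (l : ι), ∀ y ∈ Submodule.span R (Set.range P.coroot),
        P.coreflection l y ∈ Submodule.span R (Set.range P.coroot) := fun l y hy =>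
      P.corootSpan_mem_invtSubmodule_coreflection l hy
    have conj : ∀ i j : ι, ∀ y, P.coreflection (P.reflectionPerm j i) y =
        P.coreflection j (P.coreflection i (P.coreflection j y)) := fun i j y =>
      LinearEquiv.congr_fun (P.flip.reflection_reflectionPerm (i := i) (j := j)) y
    let p : ι → Prop := fun l =>
      ∀ y ∈ Submodule.span R (Set.range P.coroot), Q (P.coreflection l y) = Q y
    have simple : ∀ j ∈ b.support, ∀ y ∈ Submodule.span R (Set.range P.coroot),
        QuadraticMap.polar Q y (P.coroot j) = P.root' j y * Q (P.coroot j) := by
      intro j hj y hy
      rw [show Submodule.span R (Set.range P.coroot) = Submodule.span R (P.coroot '' b.support) from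
        b.span_coroot_support.symm] at hy
      induction hy using Submodule.span_induction with
      | mem z hz =>
        obtain ⟨i, hi, rfl⟩ := hz
        rw [RootPairing.root'_coroot_eq_pairing]
        rcases eq_or_ne i j with rfl | hij
        · rw [QuadraticMap.polar_self, RootPairing.pairing_same, two_smul, two_mul]
        · exact h i hi j hj hij
      | zero => simp
      | add a c _ _ ha hc => rw [QuadraticMap.polar_add_left, ha, hc, map_add, add_mul]
      | smul r a _ ha => rw [QuadraticMap.polar_smul_left, ha, map_smul, smul_eq_mul, smul_eq_mul, mul_assoc]
    refine b.induction_reflect (p := p) k ?_ ?_ ?_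
    · intro i hi y hy
      rw [conj i i y, P.coreflection_same]
      exact hi y hy
    · intro j hj
      exact (Groth.L24.RootD.inv_iff Q j _ (Submodule.subset_span (Set.mem_range_self j))).2 (simple j hj)
    · intro i j hi hj y hy
      have hj' : p j :=
        (Groth.L24.RootD.inv_iff Q j _ (Submodule.subset_span (Set.mem_range_self j))).2 (simple j hj)
      rw [conj i j y, hj' _ (stab i _ (stab j _ hy)), hi _ (stab j _ hy), hj' y hy]

end Groth.Agent.S19007
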