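import Groth.Statements.S19009
import Groth.Agent.L24.RootD.Quad

set_option autoImplicit false
universe u v w x
open RootD

namespace Groth.Agent.S19009

/-- Let P be a root pairing over an integral domain R of characteristic zero (roots α acting on the
coweight module N through reflections y ↦ y − ⟨α, y⟩ α^∨), D ⊆ N a submodule containing every coroot
and such that every element of D has a positive integer multiple in the span of the coroots (the
derived part), and Y₀ a complement of D in N. Let Q_d be a quadratic form on N whose restriction to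
D is invariant under all root reflections. Then there is a quadratic form on N, invariant under all
root reflections and agreeing with Q_d on D, if and only if there is an R-bilinear form Φ on N with
Φ(y₀, α^∨) = ⟨α, y₀⟩ Q_d(α^∨) for all y₀ in Y₀ and all roots α. (In the source R = ℤ, N = Y₀ ⊕ Y_der
is the cocharacter lattice of a split reductive group, and the condition is phrased as integrality
on Y₀ × Y_der of the pairing y₀, y ↦ B(q(y₀), y) deduced from the polar form B of Q_d; that pairing
is characterised by the displayed values on coroots, only the values of Φ on Y₀ × D matter, and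
forms take values in R here.) -/
theorem result {ι : Type u} {R : Type v} {M : Type w} {N : Type x} [CommRing R] [IsDomain R] [CharZero R]
    [AddCommGroup M] [Module R M] [AddCommGroup N] [Module R N] (P : RootPairing ι R M N)
    (D Y₀ : Submodule R N) (hD : ∀ i : ι, P.coroot i ∈ D)
    (hDsat : ∀ y ∈ D, ∃ n : ℕ, 0 < n ∧ n • y ∈ Submodule.span R (Set.range P.coroot))
    (hc : IsCompl Y₀ D)
    (Qd : QuadraticMap R N R) (hQd : ∀ i : ι, ∀ y ∈ D, Qd (P.coreflection i y) = Qd y) :
    (∃ Q : QuadraticMap R N R, (∀ (i : ι) (y : N), Q (P.coreflection i y) = Q y) ∧ ∀ y ∈ D, Q y = Qd y) ↔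
      ∃ Φ : N →ₗ[R] N →ₗ[R] R, ∀ y₀ ∈ Y₀, ∀ i : ι,
        Φ y₀ (P.coroot i) = P.root' i y₀ * Qd (P.coroot i) := by
  constructor
  · rintro ⟨Q, hQ, hagree⟩
    refine ⟨QuadraticMap.polarBilin Q, fun y₀ _ i => ?_⟩
    rw [QuadraticMap.polarBilin_apply_apply, (Groth.L24.RootD.inv_iff' Q i).1 (hQ i) y₀,
      hagree _ (hD i)]
  · rintro ⟨Φ, hΦ⟩
    let π₀ : N →ₗ[R] N := Y₀.projection D hc
    let πD : N →ₗ[R] N := D.projection Y₀ hc.symm
    have h0 : ∀ y, π₀ y ∈ Y₀ := fun y => Submodule.IsCompl.projection_apply_mem hc y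
    have hD' : ∀ y, πD y ∈ D := fun y => Submodule.IsCompl.projection_apply_mem hc.symm y
    have hsum : ∀ y, π₀ y + πD y = y := fun y => Submodule.IsCompl.projection_add_projection_eq_self hc y
    have hπ₀ : ∀ y ∈ D, π₀ y = 0 := fun y hy => (Submodule.IsCompl.projection_apply_eq_zero_iff hc).2 hy
    have hπD : ∀ y ∈ D, πD y = y := fun y hy => by
      have := hsum y; rwa [hπ₀ y hy, zero_add] at this
    let Q : QuadraticMap R N R :=
      LinearMap.BilinMap.toQuadraticMap (Φ.compl₁₂ π₀ πD) + Qd.comp πD
    have hQ : ∀ y, Q y = Φ (π₀ y) (πD y) + Qd (πD y) := fun y => rfl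
    refine ⟨Q, fun i => (Groth.L24.RootD.inv_iff' Q i).2 fun y => ?_, fun y hy => ?_⟩
    · have hd := (Groth.L24.RootD.inv_iff Qd i D (hD i)).1 (hQd i) (πD y) (hD' y)
      have ha : Q (P.coroot i) = Qd (P.coroot i) := by
        rw [hQ, hπ₀ _ (hD i), hπD _ (hD i)]; simp
      have hy' : P.root' i y = P.root' i (π₀ y) + P.root' i (πD y) := by rw [← map_add, hsum]
      rw [ha, hy', add_mul, ← hΦ (π₀ y) (h0 y) i, ← hd]
      simp only [QuadraticMap.polar, hQ, map_add, LinearMap.add_apply, hπ₀ _ (hD i), hπD _ (hD i)]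
      simp only [map_zero, LinearMap.zero_apply]
      ring
    · rw [hQ, hπ₀ _ hy, hπD _ hy]; simp

end Groth.Agent.S19009
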