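import Groth.Statements.S19010
import Groth.Agent.L24.RootD.Quad

set_option autoImplicit false
universe u v w x
open RootD

namespace Groth.Agent.S19010

/-- Let P be a root pairing over an integral domain R of characteristic zero (roots α acting on the
coweight module N through reflections y ↦ y − ⟨α, y⟩ α^∨), D ⊆ N a submodule containing every coroot
and such that every element of D has a positive integer multiple in the span of the coroots (the
derived part), and Y₀ a complement of D in N. Let Q' be a quadratic form on N invariant under all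
root reflections. Then restriction to Y₀ is a bijection from the set of quadratic forms on N that
are invariant under all root reflections and agree with Q' on D onto the set of all quadratic forms
on Y₀. (In the source R = ℤ and N = Y₀ ⊕ Y_der is the cocharacter lattice of a split reductive
group; forms take values in R here.) -/
theorem result {ι : Type u} {R : Type v} {M : Type w} {N : Type x} [CommRing R] [IsDomain R] [CharZero R]
    [AddCommGroup M] [Module R M] [AddCommGroup N] [Module R N] (P : RootPairing ι R M N)
    (D Y₀ : Submodule R N) (hD : ∀ i : ι, P.coroot i ∈ D)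
    (hDsat : ∀ y ∈ D, ∃ n : ℕ, 0 < n ∧ n • y ∈ Submodule.span R (Set.range P.coroot))
    (hc : IsCompl Y₀ D)
    (Q' : QuadraticMap R N R) (hQ' : ∀ (i : ι) (y : N), Q' (P.coreflection i y) = Q' y) :
    Set.BijOn (fun Q : QuadraticMap R N R => Q.comp Y₀.subtype)
      {Q | (∀ (i : ι) (y : N), Q (P.coreflection i y) = Q y) ∧ ∀ y ∈ D, Q y = Q' y} Set.univ := by
  let π₀ : N →ₗ[R] Y₀ := Submodule.linearProjOfIsCompl Y₀ D hc
  let π₀' : N →ₗ[R] N := Y₀.projection D hc
  let πD : N →ₗ[R] N := D.projection Y₀ hc.symm
  refine ⟨fun Q _ => Set.mem_univ _, ?_, ?_⟩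
  · intro Q hQ Q'' hQ'' hres
    have hpolar : ∀ y₀, ∀ d ∈ D, QuadraticMap.polar Q y₀ d = QuadraticMap.polar Q'' y₀ d := by
      intro y₀ d hd
      have hs : ∀ z ∈ Submodule.span R (Set.range P.coroot),
          QuadraticMap.polar Q y₀ z = QuadraticMap.polar Q'' y₀ z := by
        intro z hz
        induction hz using Submodule.span_induction with
        | mem a ha =>
          obtain ⟨i, rfl⟩ := ha
          rw [(Groth.L24.RootD.inv_iff' Q i).1 (hQ.1 i), (Groth.L24.RootD.inv_iff' Q'' i).1 (hQ''.1 i),
            hQ.2 _ (hD i), hQ''.2 _ (hD i)]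
        | zero => simp
        | add a c _ _ ha hb => simp only [QuadraticMap.polar_add_right, ha, hb]
        | smul r a _ ha => simp only [QuadraticMap.polar_smul_right, ha]
      obtain ⟨n, hn, hnd⟩ := hDsat d hd
      have h1 := hs _ hnd
      rw [← Nat.cast_smul_eq_nsmul R, QuadraticMap.polar_smul_right, QuadraticMap.polar_smul_right] at h1
      exact mul_left_cancel₀ (Nat.cast_ne_zero.2 hn.ne') h1
    ext y
    have h : π₀' y + πD y = y := Submodule.IsCompl.projection_add_projection_eq_self hc y
    have hd : πD y ∈ D := Submodule.IsCompl.projection_apply_mem hc.symm y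
    have h0 : π₀' y ∈ Y₀ := Submodule.IsCompl.projection_apply_mem hc y
    rw [← h, QuadraticMap.map_add Q, QuadraticMap.map_add Q'', hpolar _ _ hd, hQ.2 _ hd, hQ''.2 _ hd]
    have : Q (π₀' y) = Q'' (π₀' y) := congrArg (fun q : QuadraticMap R Y₀ R => q ⟨π₀' y, h0⟩) hres
    rw [this]
  · intro q _
    have hπ : ∀ y ∈ D, π₀ y = 0 := fun y hy =>
      Submodule.linearProjOfIsCompl_apply_right hc ⟨y, hy⟩
    let Q : QuadraticMap R N R := Q' + (q - Q'.comp Y₀.subtype).comp π₀
    have hQ : ∀ y, Q y = Q' y + (q (π₀ y) - Q' (π₀ y : N)) := fun y => rfl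
    refine ⟨Q, ⟨fun i y => ?_, fun y hy => ?_⟩, ?_⟩
    · have : π₀ (P.coreflection i y) = π₀ y := by
        rw [RootPairing.coreflection_apply, map_sub, map_smul, hπ _ (hD i), smul_zero, sub_zero]
      rw [hQ, hQ, this, hQ' i y]
    · rw [hQ, hπ y hy]; simp
    · ext y
      show Q (y : N) = q y
      rw [hQ, show π₀ (y : N) = y from Submodule.linearProjOfIsCompl_apply_left hc y]
      ring

end Groth.Agent.S19010
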