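import Groth.Statements.S19011
import Groth.Agent.L24.RootD.Present
-- import your own Groth.Agent.* helpers here

set_option autoImplicit false
universe u v w x
open RootD

namespace Groth.Agent.S19011

/-- For a finite reduced crystallographic root pairing over an integral domain of characteristic zero,
the additive group generated by the coroots admits the presentation with one generator [β] for each
root β and the relations [s_α(β)] = [β] − ⟨α, β^∨⟩ [α] for all roots α, β, where ⟨α, β^∨⟩ is the
Cartan integer. Concretely: the kernel of the ℤ-linear map from the free abelian group on the index
type of the roots to the coweight module sending the generator of index β to the coroot β^∨ is the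
subgroup generated by the elements [s_α(β)] − [β] + ⟨α, β^∨⟩ [α]. (The source states this for the
cocharacter lattice of a split semi-simple simply connected group, which is the group generated by
the coroots.) -/
theorem result {ι : Type u} {R : Type v} {M : Type w} {N : Type x} [CommRing R] [IsDomain R] [CharZero R]
    [AddCommGroup M] [Module R M] [AddCommGroup N] [Module R N] (P : RootPairing ι R M N)
    [Finite ι] [P.IsCrystallographic] [P.IsReduced] :
    LinearMap.ker (Finsupp.linearCombination ℤ (fun i : ι => (P.coroot i : N))) =
      Submodule.span ℤ (Set.range fun p : ι × ι =>
        Finsupp.single (P.reflectionPerm p.1 p.2) (1 : ℤ) - Finsupp.single p.2 1 +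
          P.pairingIn ℤ p.1 p.2 • Finsupp.single p.1 1) := by
  have h : ∀ i j : ι, P.flip.pairingIn ℤ j i = P.pairingIn ℤ i j := fun i j => by
    apply FaithfulSMul.algebraMap_injective ℤ R
    rw [P.flip.algebraMap_pairingIn, P.algebraMap_pairingIn]; rfl
  haveI : Module.IsReflexive R N := .of_isPerfPair P.flip.toLinearMap
  haveI : Module.IsTorsionFree R N := Module.IsReflexive.to_isTorsionFree R N
  haveI : Module.IsReflexive R M := .of_isPerfPair P.toLinearMap
  haveI : Module.IsTorsionFree R M := Module.IsReflexive.to_isTorsionFree R M
  haveI : P.flip.IsReduced := inferInstance
  have := Groth.L24.RootD.ker_comb (P := P.flip)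
  simp only [h] at this
  exact this

end Groth.Agent.S19011
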