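import Groth.Statements.S19012
import Groth.Agent.L24.RootD.Quad

set_option autoImplicit false
universe u v w x
open RootD

namespace Groth.Agent.S19012

/-- Let P be a finite reduced crystallographic root pairing over a field of characteristic zero which is
irreducible, and b a base. A quadratic form on the coweight module that is invariant under all root
reflections and vanishes on some simple coroot is zero; in other words an invariant form is
determined by its value on a single simple coroot. (The source proves, component by component of the
Dynkin diagram, that an invariant integer-valued form on the coroot lattice with prescribed value on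
the first simple coroot of each component is unique; here the system is irreducible, the coroots
span the coweight module, and forms take values in the base field.) -/
theorem result {ι : Type u} {K : Type v} {M : Type w} {N : Type x} [Field K] [CharZero K]
    [AddCommGroup M] [Module K M] [AddCommGroup N] [Module K N] (P : RootPairing ι K M N)
    [Finite ι] [P.IsCrystallographic] [P.IsReduced] [P.IsIrreducible] (b : P.Base)
    (Q : QuadraticMap K N K) (hQ : ∀ (i : ι) (y : N), Q (P.coreflection i y) = Q y)
    (i₀ : ι) (hi₀ : i₀ ∈ b.support) (h0 : Q (P.coroot i₀) = 0) : Q = 0 := by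
  have key : ∀ i j, Q (P.coroot i) = 0 → P.pairing i j ≠ 0 → Q (P.coroot j) = 0 := by
    intro i j hi hij
    have h1 := (Groth.L24.RootD.inv_iff' Q i).1 (hQ i) (P.coroot j)
    have h2 := (Groth.L24.RootD.inv_iff' Q j).1 (hQ j) (P.coroot i)
    rw [hi, mul_zero] at h1
    rw [QuadraticMap.polar_comm, h1, RootPairing.root'_coroot_eq_pairing] at h2
    have hji : P.pairing j i ≠ 0 := fun h => hij (P.pairing_eq_zero_iff.1 h)
    exact (mul_eq_zero.1 h2.symm).resolve_left hji
  let s : Set ι := {i | Q (P.coroot i) = 0}
  have : P.flip.IsIrreducible := inferInstance
  have hs : Submodule.span K (P.coroot '' s) = ⊤ := by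
    refine P.flip.span_root_image_eq_top_of_forall_orthogonal s ⟨i₀, h0⟩ fun j hj i hi => ?_
    by_contra hcon
    refine hj (Submodule.subset_span ⟨j, key i j hi ?_, rfl⟩)
    intro h
    exact hcon ⟨h, P.pairing_eq_zero_iff.1 h⟩
  have hpol : ∀ y z, QuadraticMap.polar Q y z = 0 := by
    intro y z
    have hz : z ∈ Submodule.span K (P.coroot '' s) := hs ▸ trivial
    induction hz using Submodule.span_induction with
    | mem a ha =>
      obtain ⟨i, hi, rfl⟩ := ha
      rw [(Groth.L24.RootD.inv_iff' Q i).1 (hQ i) y, show Q (P.coroot i) = 0 from hi, mul_zero]
    | zero => simp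
    | add a c _ _ ha hb => rw [QuadraticMap.polar_add_right, ha, hb, add_zero]
    | smul r a _ ha => rw [QuadraticMap.polar_smul_right, ha, smul_zero]
  ext y
  have h := hpol y y
  rw [QuadraticMap.polar_self, two_smul, ← two_mul, mul_eq_zero] at h
  simpa using h

end Groth.Agent.S19012
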