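import Groth.Statements.S19013
import Groth.Agent.L11.MilK.Tame
import Mathlib.RingTheory.LocalRing.ResidueField.Basic
import Mathlib.Algebra.Algebra.Tower

set_option autoImplicit false
universe u v
open MilnorK

namespace Groth.Agent.S19013

/-- Let A ⊆ B be discrete valuation rings, the inclusion being a local homomorphism, with fraction
fields E ⊆ F compatibly, with the induced homomorphism of residue fields κ(A) → κ(B), and with
ramification index e, the natural number such that the maximal ideal of A generates the e-th power
of the maximal ideal of B. Let ∂_A : K_{n+1}(E) → K_n(κ(A)) and ∂_B : K_{n+1}(F) → K_n(κ(B)) be the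
residue maps (tame symbols) on Milnor K-groups. Then for every x in K_{n+1}(E) one has ∂_B(x_F) = e
· (∂_A x)_{κ(B)}, where the subscripts denote the change-of-fields maps along E → F and κ(A) → κ(B).
(The published statement concerns discrete valuations of geometric type on fields finitely generated
over a base field; it is stated here for an arbitrary pair of discrete valuation rings, which is all
the printed computation uses.) -/
theorem result
    (A B : Type u) [CommRing A] [IsDomain A] [IsDiscreteValuationRing A]
    [CommRing B] [IsDomain B] [IsDiscreteValuationRing B] [Algebra A B] [IsLocalHom (algebraMap A B)]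
    (E F : Type v) [Field E] [Field F] [Algebra A E] [IsFractionRing A E] [Algebra B F] [IsFractionRing B F]
    [Algebra E F] [Algebra A F] [IsScalarTower A E F] [IsScalarTower A B F]
    (e : ℕ) (he : Ideal.map (algebraMap A B) (IsLocalRing.maximalIdeal A) = IsLocalRing.maximalIdeal B ^ e)
    (n : ℕ) (dA : MilK.K E (n + 1) →+ MilK.K (IsLocalRing.ResidueField A) n) (hdA : MilK.IsTameSymbol A E n dA)
    (dB : MilK.K F (n + 1) →+ MilK.K (IsLocalRing.ResidueField B) n) (hdB : MilK.IsTameSymbol B F n dB)
    (x : MilK.K E (n + 1)) :
    dB (MilK.map (algebraMap E F) (n + 1) x) =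
      e • MilK.map (IsLocalRing.ResidueField.map (algebraMap A B)) n (dA x) := by
  obtain ⟨a, ha⟩ := IsDiscreteValuationRing.exists_irreducible A
  obtain ⟨b, hb⟩ := IsDiscreteValuationRing.exists_irreducible B
  have hcomp : ∀ w : Aˣ, Units.map ((algebraMap E F : E →+* F) : E →* F) (MilK.unitToFrac A E w) =
      MilK.unitToFrac B F (Units.map ((algebraMap A B : A →+* B) : A →* B) w) := fun w => Units.ext (by
    simp [MilK.unitToFrac, ← IsScalarTower.algebraMap_apply])
  have hspan : Associated (algebraMap A B a) (b ^ e) := by
    rw [← Ideal.span_singleton_eq_span_singleton, ← Ideal.span_singleton_pow, ← hb.maximalIdeal_eq, ← he,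
      ha.maximalIdeal_eq, Ideal.map_span, Set.image_singleton]
  obtain ⟨w, hw⟩ := hspan.symm
  suffices key : dB.comp (MilK.map (algebraMap E F) (n + 1)) =
      e • (MilK.map (IsLocalRing.ResidueField.map (algebraMap A B)) n).comp dA from DFunLike.congr_fun key x
  refine Groth.L11.MilK.hom_ext_dvr ha (fun v => ?_) fun v => ?_
  · simp only [AddMonoidHom.comp_apply, AddMonoidHom.smul_apply]
    rw [Groth.L11.MilK.tame_pre ha hdA, Groth.L11.MilK.map_pre, MilK.map_symbol]
    have hu : Units.map ((algebraMap E F : E →+* F) : E →* F) (Groth.L11.MilK.un E a ha) = Groth.L11.MilK.un F b hb ^ (e : ℤ) * MilK.unitToFrac B F w :=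
      Units.ext (by simp [MilK.unitToFrac, ← IsScalarTower.algebraMap_apply, IsScalarTower.algebraMap_apply A B F a, ← hw])
    simp only [hcomp, hu, Groth.L11.MilK.pre_mul, Groth.L11.MilK.pre_zpow, map_add, map_zsmul, Groth.L11.MilK.tame_pre hb hdB,
      Groth.L11.MilK.tame_U hb hdB (Groth.L11.MilK.pre_mem_U w (AddSubgroup.subset_closure ⟨_, rfl⟩)), add_zero, natCast_zsmul, map_nsmul, MilK.map_symbol]
    refine congrArg (e • ·) (congrArg MilK.symbol (funext fun i => Units.ext ?_))
    rfl
  · simp only [AddMonoidHom.comp_apply, AddMonoidHom.smul_apply]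
    rw [Groth.L11.MilK.tame_U ha hdA (AddSubgroup.subset_closure ⟨v, rfl⟩), map_zero, smul_zero, MilK.map_symbol]
    simp only [hcomp]
    exact Groth.L11.MilK.tame_U hb hdB (AddSubgroup.subset_closure ⟨_, rfl⟩)

end Groth.Agent.S19013
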