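import Groth.Statements.S19016
import Groth.Agent.L11.MilK.Tame

set_option autoImplicit false
universe u v
open MilnorK

namespace Groth.Agent.S19016

/-- Let B be a discrete valuation ring with fraction field F and residue field κ, let u be a unit of B
with residue class ū, and let ∂ denote the residue maps (tame symbols) K_{n+1}(F) → K_n(κ) and
K_{n+2}(F) → K_{n+1}(κ) on Milnor K-groups. Then ∂({u} · ρ) = −{ū} · ∂(ρ) for every ρ in K_{n+1}(F),
the products {u} · ρ in K_{1+(n+1)}(F) and {ū} · ∂ρ in K_{1+n}(κ) being regarded in K_{n+2}(F) and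
K_{n+1}(κ). (The published statement concerns discrete valuations of geometric type on fields
finitely generated over a base field; it is stated here for an arbitrary discrete valuation ring,
which is all the printed computation uses.) -/
theorem result
    (B : Type u) [CommRing B] [IsDomain B] [IsDiscreteValuationRing B]
    (F : Type v) [Field F] [Algebra B F] [IsFractionRing B F] (n : ℕ)
    (d : MilK.K F (n + 1) →+ MilK.K (IsLocalRing.ResidueField B) n) (hd : MilK.IsTameSymbol B F n d)
    (d' : MilK.K F (n + 1 + 1) →+ MilK.K (IsLocalRing.ResidueField B) (n + 1))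
    (hd' : MilK.IsTameSymbol B F (n + 1) d')
    (u : Bˣ) (ρ : MilK.K F (n + 1)) :
    d' (MilK.cast F (Nat.add_comm 1 (n + 1)) (MilK.mul F 1 (n + 1) (MilK.symbol ![MilK.unitToFrac B F u]) ρ)) =
      -(MilK.cast (IsLocalRing.ResidueField B) (Nat.add_comm 1 n)
          (MilK.mul (IsLocalRing.ResidueField B) 1 n (MilK.symbol ![MilK.unitResidue B u]) (d ρ))) := by
  obtain ⟨ϖ, hϖ⟩ := IsDiscreteValuationRing.exists_irreducible B
  change d' (Groth.L11.MilK.pre (MilK.unitToFrac B F u) ρ) = -(Groth.L11.MilK.pre (MilK.unitResidue B u) (d ρ))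
  suffices key : d'.comp (Groth.L11.MilK.pre (MilK.unitToFrac B F u)) = -((Groth.L11.MilK.pre (MilK.unitResidue B u)).comp d) from
    DFunLike.congr_fun key ρ
  refine Groth.L11.MilK.hom_ext_dvr hϖ (fun v => ?_) fun v => ?_
  · simp only [AddMonoidHom.neg_apply, AddMonoidHom.comp_apply]
    rw [Groth.L11.MilK.tame_pre hϖ hd, Groth.L11.MilK.pre_pre_comm, map_neg, Groth.L11.MilK.pre_symbol, Groth.L11.MilK.pre_symbol (F := IsLocalRing.ResidueField B)]
    rw [show (Fin.cons (MilK.unitToFrac B F u) fun i => MilK.unitToFrac B F (v i)) =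
      fun i => MilK.unitToFrac B F ((Fin.cons u v : Fin (n + 1) → Bˣ) i) from funext fun k => Fin.cases rfl (fun _ => rfl) k,
      Groth.L11.MilK.tame_pre hϖ hd']
    exact congrArg (fun t => -MilK.symbol t) (funext fun k => Fin.cases rfl (fun _ => rfl) k)
  · simp only [AddMonoidHom.neg_apply, AddMonoidHom.comp_apply]
    rw [Groth.L11.MilK.tame_U hϖ hd (AddSubgroup.subset_closure ⟨v, rfl⟩),
      Groth.L11.MilK.tame_U hϖ hd' (Groth.L11.MilK.pre_mem_U u (AddSubgroup.subset_closure ⟨v, rfl⟩)), map_zero, neg_zero]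

end Groth.Agent.S19016
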