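import Groth.Statements.S19017
import Groth.Agent.L22.C1.Local
import Groth.Agent.L22.SubBundle.Ops
import Groth.Agent.L22.Cyc.DivSupport
import Groth.Agent.L22.Cyc.Setup
import Groth.Agent.L22.Bundle.Sub
import Groth.Agent.L21.RefK.Chi
-- import your own Groth.Agent.* helpers here

set_option autoImplicit false
universe u
open CategoryTheory AlgebraicGeometry
open IntTh

namespace Groth.Agent.S19017

/-- Let k be an arbitrary field and X a scheme separated and of finite type over k, with the dimension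
function δ induced from Spec k. Let i_1 : X_1 → X and i_2 : X_2 → X be closed subschemes whose
images cover X, and let Y be their intersection: closed immersions j_1 : Y → X_1, j_2 : Y → X_2 with
i_1 ∘ j_1 = i_2 ∘ j_2 whose image in X is the intersection of the images of X_1 and X_2. Then the
sequence CH_n(Y) → CH_n(X_1) ⊕ CH_n(X_2) → CH_n(X) → 0, with first map γ ↦ (j_{1*}γ, −j_{2*}γ) and
second map the sum of the push-forwards, is exact for every integer n: every n-cycle on X is a sum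
i_{1*}α_1 + i_{2*}α_2 of n-cycles on X_1 and X_2, and whenever such a sum is rationally equivalent
to zero on X there is an n-cycle γ on Y with α_1 rationally equivalent to j_{1*}γ on X_1 and α_2
rationally equivalent to −j_{2*}γ on X_2. (The published statement does not require the two closed
subschemes to cover X; without that requirement the surjectivity fails already for two empty closed
subschemes of a point, and the printed argument uses the covering, so it is assumed here. The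
published statement also calls the sequence one of rings graded by codimension; stated here is the
additive sequence graded by dimension, which is what the printed argument gives.) -/
theorem result (k : Type u) [Field k]
    (X : Scheme.{u}) [X.Over (Spec (CommRingCat.of k))]
    [IsSeparated (X ↘ Spec (CommRingCat.of k))] [LocallyOfFiniteType (X ↘ Spec (CommRingCat.of k))]
    [QuasiCompact (X ↘ Spec (CommRingCat.of k))]
    (δ : X → ℤ) (hδ : Cyc.DeltaCompat (X ↘ Spec (CommRingCat.of k)) δ (fun _ => 0))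
    {X₁ X₂ Y : Scheme.{u}} (i₁ : X₁ ⟶ X) (i₂ : X₂ ⟶ X) [IsClosedImmersion i₁] [IsClosedImmersion i₂]
    (hcov : Set.range i₁ ∪ Set.range i₂ = Set.univ)
    (j₁ : Y ⟶ X₁) (j₂ : Y ⟶ X₂) [IsClosedImmersion j₁] [IsClosedImmersion j₂]
    (hcomm : j₁ ≫ i₁ = j₂ ≫ i₂) (hY : Set.range (j₁ ≫ i₁) = Set.range i₁ ∩ Set.range i₂) (n : ℤ) :
    (∀ α : AlgebraicCycle X ℤ, α ∈ Cyc.Zk X δ n →
      ∃ (α₁ : AlgebraicCycle X₁ ℤ) (α₂ : AlgebraicCycle X₂ ℤ),
        α₁ ∈ Cyc.Zk X₁ (fun x => δ (i₁ x)) n ∧ α₂ ∈ Cyc.Zk X₂ (fun x => δ (i₂ x)) n ∧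
        α = AlgebraicCycle.map i₁ (fun x => δ (i₁ x)) δ α₁ + AlgebraicCycle.map i₂ (fun x => δ (i₂ x)) δ α₂) ∧
    (∀ (α₁ : AlgebraicCycle X₁ ℤ) (α₂ : AlgebraicCycle X₂ ℤ),
      α₁ ∈ Cyc.Zk X₁ (fun x => δ (i₁ x)) n → α₂ ∈ Cyc.Zk X₂ (fun x => δ (i₂ x)) n →
      Cyc.RatEquivZero δ n
        (AlgebraicCycle.map i₁ (fun x => δ (i₁ x)) δ α₁ + AlgebraicCycle.map i₂ (fun x => δ (i₂ x)) δ α₂) →
      ∃ γ : AlgebraicCycle Y ℤ, γ ∈ Cyc.Zk Y (fun y => δ (i₁ (j₁ y))) n ∧
        Cyc.RatEquiv (fun x => δ (i₁ x)) n α₁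
          (AlgebraicCycle.map j₁ (fun y => δ (i₁ (j₁ y))) (fun x => δ (i₁ x)) γ) ∧
        Cyc.RatEquiv (fun x => δ (i₂ x)) n α₂
          (-AlgebraicCycle.map j₂ (fun y => δ (i₁ (j₁ y))) (fun x => δ (i₂ x)) γ)) := by
  classical
  obtain ⟨δ', hXs, hc⟩ := Groth.L22.Cyc.exists_setup (X ↘ Spec (CommRingCat.of k)) (Groth.L21.RefK.isSetup_spec_field k)
  obtain rfl := Groth.L22.Bundle.delta_unique hc hδ
  haveI := hXs.1
  have hd := hXs.2.2
  haveI : IsLocallyNoetherian X₁ := LocallyOfFiniteType.isLocallyNoetherian i₁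
  haveI : IsLocallyNoetherian X₂ := LocallyOfFiniteType.isLocallyNoetherian i₂
  haveI : IsLocallyNoetherian Y := LocallyOfFiniteType.isLocallyNoetherian j₁
  refine ⟨fun α hα => ?_, fun α₁ α₂ h1 h2 h0 => ?_⟩
  · obtain ⟨A, hA1, hA2⟩ := Groth.L22.C1.exists_cycle_restrict α (fun x => x ∈ Set.range i₁)
    have hfin : ∀ {Z : Scheme.{u}} (i : Z ⟶ X) [IsClosedImmersion i] (B : AlgebraicCycle X ℤ),
        ∃ C : AlgebraicCycle Z ℤ, ⇑C = fun z => B (i z) := fun {Z} i _ B => Groth.L22.C1.exists_cycle _ fun z => by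
      obtain ⟨V, hV, hzV, -⟩ := exists_isAffineOpen_mem_and_subset (x := i z) (U := ⊤) trivial
      refine ⟨i ⁻¹ᵁ V, hzV, ((B.locallyFiniteSupport.finite_inter_support_of_isCompact hV.isCompact).preimage
        i.isClosedEmbedding.injective.injOn).subset fun w hw => ⟨hw.2, hw.1⟩⟩
    obtain ⟨a₁, ha₁⟩ := hfin i₁ A
    obtain ⟨a₂, ha₂⟩ := hfin i₂ (α - A)
    refine ⟨a₁, a₂, fun z hz => ?_, fun z hz => ?_, ?_⟩
    · rw [ha₁]
      show A (i₁ z) = 0
      rw [hA1 _ ⟨z, rfl⟩]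
      exact hα _ hz
    · rw [ha₂]
      show (α - A) (i₂ z) = 0
      rw [Function.locallyFinsuppWithin.coe_sub, Pi.sub_apply]
      by_cases h : i₂ z ∈ Set.range i₁
      · rw [hA1 _ h, sub_self]
      · rw [hA2 _ h, hα _ hz, sub_zero]
    · ext x
      show α x = (Groth.L22.Chern.pushC i₁ _ δ' a₁ + Groth.L22.Chern.pushC i₂ (fun x => δ' (i₂ x)) δ' a₂) x
      rw [Function.locallyFinsuppWithin.coe_add, Pi.add_apply]
      by_cases h : x ∈ Set.range i₁
      · obtain ⟨z, rfl⟩ := h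
        rw [Groth.L22.SubBundle.pushC_apply_closed, ha₁]
        by_cases h' : i₁ z ∈ Set.range i₂
        · obtain ⟨w, hw⟩ := h'
          rw [← hw, Groth.L22.SubBundle.pushC_apply_closed, ha₂]
          simp [hw]
        · rw [Groth.L22.SubBundle.pushC_outside i₂ δ' a₂ h', add_zero]
          exact (hA1 _ ⟨z, rfl⟩).symm
      · obtain ⟨w, rfl⟩ : x ∈ Set.range i₂ := ((Set.ext_iff.1 hcov x).2 trivial).resolve_left h
        rw [Groth.L22.SubBundle.pushC_apply_closed, ha₂, Groth.L22.SubBundle.pushC_outside i₁ δ' a₁ h, zero_add]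
        simp [hA2 _ h]
  obtain ⟨ι, ξ, f, q1, q2, q4, q5⟩ := h0
  have hGc : ∀ P : ι → Prop, ∃ G : AlgebraicCycle X ℤ,
      ⇑G = fun x => ∑ᶠ j : {j // P j}, Cyc.divFun δ' (ξ j.1) (f j.1) x := fun P =>
    Groth.L22.C1.exists_cycle _ fun x => by
      obtain ⟨U, hU, hxU, hfin⟩ := q4 x
      obtain ⟨V, hV, hxV, hVU⟩ := exists_isAffineOpen_mem_and_subset (x := x) (U := ⟨U, hU⟩) hxU
      refine ⟨V, hxV, (hfin.biUnion fun j _ => Groth.L22.Cyc.finite_support_divFun_inter hd (ξ j) (f j) (q2 j) hV).subset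
        fun z hz => ?_⟩
      obtain ⟨j, hj⟩ := exists_ne_zero_of_finsum_mem_ne_zero (s := Set.univ)
        (f := fun j : {j // P j} => Cyc.divFun δ' (ξ j.1) (f j.1) z) (by rw [finsum_mem_univ]; exact hz.1)
      exact Set.mem_biUnion (show j.1 ∈ {j | (closure {ξ j} ∩ U).Nonempty} from
        ⟨z, specializes_iff_mem_closure.1 (Groth.L22.C1.divFun_ne_zero hj.2).1, hVU hz.2⟩) ⟨hj.2, hz.2⟩
  let R₁ : ι → Prop := fun j => ξ j ∈ Set.range i₁
  obtain ⟨G₁, hG₁⟩ := hGc R₁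
  obtain ⟨G₂, hG₂⟩ := hGc (fun j => ¬ R₁ j)
  have hrat : ∀ (P : ι → Prop) (G : AlgebraicCycle X ℤ),
      (⇑G = fun x => ∑ᶠ j : {j // P j}, Cyc.divFun δ' (ξ j.1) (f j.1) x) → ∀ S : Set X, (∀ j, P j → ξ j ∈ S) →
      Groth.L22.C1.RatOn δ' n S ⇑G := fun P G hG S hS =>
    ⟨{j // P j}, fun j => ξ j.1, fun j => f j.1, fun j => q1 j.1, fun j => q2 j.1, fun j => hS _ j.2, fun x => by
      obtain ⟨U, hU, hxU, hfin⟩ := q4 x
      exact ⟨U, hU, hxU, (hfin.preimage Subtype.val_injective.injOn :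
        ((fun j : {j // P j} => j.1) ⁻¹' {i | (closure {ξ i} ∩ U).Nonempty}).Finite)⟩, fun x => congrFun hG x⟩
  have r₁ := hrat R₁ G₁ hG₁ (Set.range i₁) fun j h => h
  have r₂ := hrat _ G₂ hG₂ (Set.range i₂) fun j h => ((Set.ext_iff.1 hcov (ξ j)).2 trivial).resolve_left h
  let A₁ := Groth.L22.Chern.pushC i₁ (fun x => δ' (i₁ x)) δ' α₁
  let A₂ := Groth.L22.Chern.pushC i₂ (fun x => δ' (i₂ x)) δ' α₂
  have key : ∀ x, A₁ x + A₂ x = G₁ x + G₂ x := fun x => by
    refine (q5 x).trans ?_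
    have hf := Groth.L22.C1.finite_support_family (δ := δ') ξ f x q4
    rw [hG₁, hG₂]
    show (∑ᶠ j, Cyc.divFun δ' (ξ j) (f j) x) = (∑ᶠ j : {j // R₁ j}, Cyc.divFun δ' (ξ j.1) (f j.1) x) +
      ∑ᶠ j : {j // ¬ R₁ j}, Cyc.divFun δ' (ξ j.1) (f j.1) x
    rw [finsum_subtype_eq_finsum_cond (f := fun j => Cyc.divFun δ' (ξ j) (f j) x) R₁,
      finsum_subtype_eq_finsum_cond (f := fun j => Cyc.divFun δ' (ξ j) (f j) x) (fun j => ¬ R₁ j)]
    simp only [finsum_eq_if]
    rw [← finsum_add_distrib (hf.subset fun j hj => ?_) (hf.subset fun j hj => ?_)]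
    · exact finsum_congr fun j => by by_cases h : R₁ j <;> simp [h]
    · simp only [Function.mem_support, ne_eq] at hj ⊢
      exact fun h => hj (by simp [h])
    · simp only [Function.mem_support, ne_eq] at hj ⊢
      exact fun h => hj (by simp [h])
  have hc1 : IsClosed (Set.range i₁) := i₁.isClosedEmbedding.isClosed_range
  have hc2 : IsClosed (Set.range i₂) := i₂.isClosedEmbedding.isClosed_range
  obtain ⟨γ, hγ⟩ : ∃ γ : AlgebraicCycle Y ℤ, ⇑γ = fun y => (A₁ - G₁) (i₁ (j₁ y)) :=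
    Groth.L22.C1.exists_cycle _ fun y => by
      obtain ⟨V, hV, hzV, -⟩ := exists_isAffineOpen_mem_and_subset (x := i₁ (j₁ y)) (U := ⊤) trivial
      refine ⟨(j₁ ≫ i₁) ⁻¹ᵁ V, hzV, (((A₁ - G₁).locallyFiniteSupport.finite_inter_support_of_isCompact hV.isCompact).preimage
        (j₁ ≫ i₁).isClosedEmbedding.injective.injOn).subset fun w hw => ⟨hw.2, hw.1⟩⟩
  have hYr : ∀ x, (A₁ - G₁) x ≠ 0 → x ∈ Set.range i₁ ∩ Set.range i₂ := fun x hx => by
    rw [Function.locallyFinsuppWithin.coe_sub, Pi.sub_apply] at hx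
    refine ⟨by_contra fun h => hx ?_, by_contra fun h => hx ?_⟩
    · rw [r₁.eq_zero_of_notMem hc1 h, Groth.L22.SubBundle.pushC_outside i₁ δ' α₁ h, sub_zero]
    · have := key x
      rw [r₂.eq_zero_of_notMem hc2 h, Groth.L22.SubBundle.pushC_outside i₂ δ' α₂ h] at this
      linarith
  have hG₁Z : ∀ x, δ' x ≠ n → G₁ x = 0 :=
    Groth.L22.C1.ratEquivZero_mem_Zk (r₁.ratEquivZero G₁ rfl)
  refine ⟨γ, fun y hy => ?_, ?_, ?_⟩
  · rw [hγ]
    show (A₁ - G₁) (i₁ (j₁ y)) = 0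
    rw [Function.locallyFinsuppWithin.coe_sub, Pi.sub_apply, hG₁Z _ hy, sub_zero,
      Groth.L22.SubBundle.pushC_apply_closed]
    exact h1 _ hy
  · refine Groth.L22.C1.RatOn.comap i₁ hd r₁ le_rfl _ fun w => ?_
    show (α₁ - Groth.L22.Chern.pushC j₁ (fun y => δ' (i₁ (j₁ y))) (fun x => δ' (i₁ x)) γ) w = G₁ (i₁ w)
    rw [Function.locallyFinsuppWithin.coe_sub, Pi.sub_apply]
    by_cases hw : w ∈ Set.range j₁
    · obtain ⟨y, rfl⟩ := hw
      rw [Groth.L22.SubBundle.pushC_apply_closed j₁ (fun x => δ' (i₁ x)) γ y, hγ]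
      show α₁ (j₁ y) - (A₁ - G₁) (i₁ (j₁ y)) = _
      rw [Function.locallyFinsuppWithin.coe_sub, Pi.sub_apply, Groth.L22.SubBundle.pushC_apply_closed]
      ring
    · rw [Groth.L22.SubBundle.pushC_outside j₁ (fun x => δ' (i₁ x)) γ hw, sub_zero]
      have h' : (A₁ - G₁) (i₁ w) = 0 := by_contra fun h => hw (by
        obtain ⟨y, hy⟩ : i₁ w ∈ Set.range (j₁ ≫ i₁) := hY ▸ hYr _ h
        exact ⟨y, i₁.isClosedEmbedding.injective hy⟩)
      rw [Function.locallyFinsuppWithin.coe_sub, Pi.sub_apply, Groth.L22.SubBundle.pushC_apply_closed] at h'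
      exact sub_eq_zero.1 h'
  · have hji : ∀ y, i₁ (j₁ y) = i₂ (j₂ y) := fun y => congrArg (fun q : Y ⟶ X => q y) hcomm
    have hδ2 : (fun y => δ' (i₁ (j₁ y))) = fun y => δ' (i₂ (j₂ y)) := funext fun y => congrArg δ' (hji y)
    rw [hδ2]
    refine Groth.L22.C1.RatOn.comap i₂ hd r₂ le_rfl _ fun w => ?_
    show (α₂ - -Groth.L22.Chern.pushC j₂ (fun y => δ' (i₂ (j₂ y))) (fun x => δ' (i₂ x)) γ) w = G₂ (i₂ w)
    rw [sub_neg_eq_add, Function.locallyFinsuppWithin.coe_add, Pi.add_apply]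
    have hk := key (i₂ w)
    simp only [A₂, Groth.L22.SubBundle.pushC_apply_closed] at hk
    by_cases hw : w ∈ Set.range j₂
    · obtain ⟨y, rfl⟩ := hw
      rw [Groth.L22.SubBundle.pushC_apply_closed j₂ (fun x => δ' (i₂ x)) γ y, hγ]
      show α₂ (j₂ y) + (A₁ - G₁) (i₁ (j₁ y)) = _
      rw [hji, Function.locallyFinsuppWithin.coe_sub, Pi.sub_apply]
      linarith
    · rw [Groth.L22.SubBundle.pushC_outside j₂ (fun x => δ' (i₂ x)) γ hw, add_zero]
      have h' : (A₁ - G₁) (i₂ w) = 0 := by_contra fun h => hw (by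
        obtain ⟨y, hy⟩ : i₂ w ∈ Set.range (j₁ ≫ i₁) := hY ▸ hYr _ h
        exact ⟨y, i₂.isClosedEmbedding.injective ((hji y).symm.trans hy)⟩)
      rw [Function.locallyFinsuppWithin.coe_sub, Pi.sub_apply] at h'
      linarith


end Groth.Agent.S19017
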