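import Groth.Statements.S19018
import Mathlib.RingTheory.Kaehler.Basic
import Mathlib.Tactic.LinearCombination
import Mathlib.Tactic.Ring

set_option autoImplicit false
universe u
open TensorProduct
open SymTen

namespace Groth.Agent.S19018

/-- Suppose k is a field in which 2 ≠ 0 and R is a commutative k-algebra. Write I for the ideal of the
diagonal, i.e. the kernel of multiplication R ⊗_k R → R, and write S for the subalgebra of R ⊗_k R
consisting of elements invariant under interchanging the two tensor factors. Then, viewed as ideals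
of S, the swap-invariant elements of I^4 form precisely the square of the ideal of swap-invariant
elements of I^2. (The source is stated over the complex numbers; the proof needs only that 2 is
invertible.) -/
theorem result
    (k R : Type u) [Field k] [NeZero (2 : k)] [CommRing R] [Algebra k R] :
    Ideal.comap
        (AlgHom.equalizer ((Algebra.TensorProduct.comm k R R : R ⊗[k] R ≃ₐ[k] R ⊗[k] R) : R ⊗[k] R →ₐ[k] R ⊗[k] R)
          (AlgHom.id k (R ⊗[k] R))).val
        (KaehlerDifferential.ideal k R ^ 4) =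
      (Ideal.comap
        (AlgHom.equalizer ((Algebra.TensorProduct.comm k R R : R ⊗[k] R ≃ₐ[k] R ⊗[k] R) : R ⊗[k] R →ₐ[k] R ⊗[k] R)
          (AlgHom.id k (R ⊗[k] R))).val
        (KaehlerDifferential.ideal k R ^ 2)) ^ 2 := by
  set σ : R ⊗[k] R →ₐ[k] R ⊗[k] R :=
    ((Algebra.TensorProduct.comm k R R : R ⊗[k] R ≃ₐ[k] R ⊗[k] R) : R ⊗[k] R →ₐ[k] R ⊗[k] R)
    with hσdef
  have hσσ : ∀ z, σ (σ z) = z := fun z => by
    induction z using TensorProduct.induction_on with
    | zero => simp
    | tmul a b => simp [hσdef]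
    | add z w hz hw => rw [map_add, map_add, hz, hw]
  set S := AlgHom.equalizer σ (AlgHom.id k (R ⊗[k] R)) with hS
  set I := KaehlerDifferential.ideal k R
  have hh : algebraMap k (R ⊗[k] R) 2⁻¹ * 2 = 1 := by
    rw [← map_ofNat (algebraMap k (R ⊗[k] R)) 2, ← map_mul, inv_mul_cancel₀ (NeZero.ne (2 : k)),
      map_one]
  refine le_antisymm ?_ ?_
  swap
  · rw [pow_two, Ideal.mul_le]
    intro a ha b hb
    rw [Ideal.mem_comap, map_mul, show (4 : ℕ) = 2 + 2 from rfl, pow_add]
    exact Ideal.mul_mem_mul ha hb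
  have hI2 : I ^ 2 ≤ Ideal.map S.val (Ideal.comap S.val (I ^ 2)) := by
    rw [pow_two]
    conv_lhs => rw [show I = Ideal.span (Set.range fun s : R => (1 : R) ⊗ₜ[k] s - s ⊗ₜ[k] (1 : R)) from
      (KaehlerDifferential.span_range_eq_ideal k R).symm, Ideal.span_mul_span']
    rw [Ideal.span_le]
    rintro _ ⟨_, ⟨a, rfl⟩, _, ⟨b, rfl⟩, rfl⟩
    have hfix : σ ((1 ⊗ₜ a - a ⊗ₜ 1) * (1 ⊗ₜ b - b ⊗ₜ 1)) =
        (1 ⊗ₜ a - a ⊗ₜ 1) * (1 ⊗ₜ b - b ⊗ₜ 1) := by
      simp [hσdef, mul_sub, sub_mul]; abel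
    exact Ideal.mem_map_of_mem S.val (x := (⟨_, hfix⟩ : S))
      (Ideal.mul_mem_mul (KaehlerDifferential.one_smul_sub_smul_one_mem_ideal k a)
        (KaehlerDifferential.one_smul_sub_smul_one_mem_ideal k b))
  intro x hx
  rw [Ideal.mem_comap] at hx
  have hx' : S.val x ∈ Ideal.map S.val ((Ideal.comap S.val (I ^ 2)) ^ 2) := by
    rw [show (4 : ℕ) = 2 * 2 from rfl, pow_mul] at hx
    rw [Ideal.map_pow]
    exact Ideal.pow_right_mono hI2 2 hx
  let K := (Ideal.comap S.val (I ^ 2)) ^ 2
  have key : ∀ z, z ∈ Ideal.map S.val K → ∃ y ∈ K, S.val y = z + σ z := by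
    intro z hz
    suffices h : ∀ c, ∃ y ∈ K, S.val y = c * z + σ (c * z) by simpa using h 1
    induction hz using Submodule.span_induction with
    | mem w hw =>
      obtain ⟨s, hs, rfl⟩ := hw
      intro c
      have hfix : σ (c + σ c) = c + σ c := by rw [map_add, hσσ, add_comm]
      refine ⟨⟨c + σ c, hfix⟩ * s, Ideal.mul_mem_left _ _ hs, ?_⟩
      have hs' : σ (S.val s) = S.val s := s.2
      rw [map_mul, map_mul σ, hs']
      exact add_mul _ _ _
    | zero => intro c; exact ⟨0, zero_mem _, by simp⟩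
    | add a b _ _ ha hb =>
      intro c
      obtain ⟨ya, hya, ea⟩ := ha c
      obtain ⟨yb, hyb, eb⟩ := hb c
      exact ⟨ya + yb, add_mem hya hyb, by rw [map_add, ea, eb, mul_add, map_add σ]; abel⟩
    | smul r a _ ha =>
      intro c
      obtain ⟨y, hy, e⟩ := ha (c * r)
      exact ⟨y, hy, by rw [e, smul_eq_mul, mul_assoc]⟩
  obtain ⟨y, hy, e⟩ := key _ hx'
  have hfix : σ (S.val x) = S.val x := x.2
  have hx2 : x = (algebraMap k S 2⁻¹) * y := Subtype.ext (by
    change S.val x = algebraMap k (R ⊗[k] R) 2⁻¹ * S.val y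
    rw [e, hfix]
    linear_combination -S.val x * hh)
  rw [hx2]
  exact Ideal.mul_mem_left _ _ hy

end Groth.Agent.S19018
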