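import Groth.Statements.S19019
import Groth.Agent.L14.ToeplitzSymbol

set_option autoImplicit false
open scoped ComplexOrder
open Toeplitz

namespace Groth.Agent.S19019

/-- Let A be an m × m complex Hermitian Toeplitz matrix, with entries A i j = t (j - i) constant along
diagonals, and let f(y) = Σ_{-m < k < m} t k · exp(i k y) be the trigonometric polynomial attached
to it. If f has positive real part at every real y outside a countable set, then A is positive
definite (hence nondegenerate). (The source also states the mirror case: f negative off a countable
set gives A negative definite, which is this statement for -A.) -/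
theorem result
    (m : ℕ) (t : ℤ → ℂ) (A : Matrix (Fin m) (Fin m) ℂ)
    (hA : ∀ i j : Fin m, A i j = t ((j : ℤ) - (i : ℤ))) (hH : A.IsHermitian)
    (hpos : Set.Countable {y : ℝ | ¬ 0 < (∑ k ∈ Finset.Ioo (-(m : ℤ)) (m : ℤ),
        t k * Complex.exp (Complex.I * (k : ℂ) * (y : ℂ))).re}) :
    A.PosDef :=
  Groth.L14.Toep.posDef_symbol m t A hA hH hpos

end Groth.Agent.S19019
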