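import Groth.Statements.S19022
import Groth.Agent.L21.Extend.Semilocal

set_option autoImplicit false
universe u
open CategoryTheory AlgebraicGeometry
open PicF

namespace Groth.Agent.S19022

/-- Let X be a scheme, L an invertible O_X-module and T a finite set of closed points of X that lies in
some affine open of X. Then T lies in an affine open U of X on which L is trivial (L restricted to U
is isomorphic to the structure sheaf). (The source states this for a smooth quasi-projective complex
surface, where every finite set of points lies in an affine open, and phrases it as: X^n and the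
symmetric product S^n X are covered by the opens U^n and S^n U with U affine and L trivial on U; the
printed argument uses only that the finitely many points lie in one affine open, which is taken as
the hypothesis here.) -/
theorem result
    (X : Scheme.{u}) (L : X.Modules) (hL : PicF.IsInvertible L)
    (T : Finset X) (hT : ∀ x ∈ T, IsClosed ({x} : Set X))
    (hU : ∃ U : X.Opens, IsAffineOpen U ∧ ∀ x ∈ T, x ∈ U) :
    ∃ U : X.Opens, IsAffineOpen U ∧ (∀ x ∈ T, x ∈ U) ∧
      Nonempty (L.restrict U.ι ≅ Coh.structureModule (↑U : Scheme.{u})) := by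
  classical
  open Groth.L21.Extend TopologicalSpace in
  obtain ⟨W, hW, hTW⟩ := hU
  let j := hW.fromSpec
  have hinv : PicF.IsInvertible (L.restrict j) := fun z => by
    obtain ⟨O, hzO, ⟨φ⟩⟩ := hL (j z)
    obtain ⟨e, he⟩ := exists_gen_of_iso L φ
    refine ⟨j ⁻¹ᵁ O, hzO, exists_iso_of_isGen _ (e := rs L (Scheme.Hom.image_preimage_le j O) e) fun V hV => ?_⟩
    have h1 : j ''ᵁ V ≤ O := (j.image_mono hV).trans (Scheme.Hom.image_preimage_le j O)
    have h2 := (he (j ''ᵁ V) h1).comp (ConcreteCategory.bijective_of_isIso (j.appIso V).inv)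
    refine ⟨fun a b hab => h2.1 ?_, fun s => (h2.2 s).imp fun a ha => ?_⟩
    · show (j.appIso V).inv a • rs L h1 e = (j.appIso V).inv b • rs L h1 e
      rw [← rs_rs L (j.image_mono hV) (Scheme.Hom.image_preimage_le j O)]
      exact hab
    · show (j.appIso V).inv a • rs L (j.image_mono hV) (rs L (Scheme.Hom.image_preimage_le j O) e) = s
      rw [rs_rs]
      exact ha
  set S : Set ↥(Spec Γ(X, W)) := j ⁻¹' (↑T : Set X)
  have hS : S.Finite := T.finite_toSet.preimage j.isOpenEmbedding.injective.injOn
  obtain ⟨G, g, hSG, hg⟩ := exists_isGen_near (L.restrict j) hinv S hS (fun p hp q _ hpq => by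
    apply j.isOpenEmbedding.injective
    exact ((hT _ hp).closure_eq ▸ specializes_iff_mem_closure.1 (hpq.map j.continuous) : j q ∈ ({j p} : Set X)).symm)
  obtain ⟨I, hI⟩ := (PrimeSpectrum.isClosed_iff_zeroLocus_ideal _).1 G.isOpen.isClosed_compl
  obtain ⟨f, hfI, hf⟩ : ∃ f ∈ I, ∀ p ∈ S, f ∉ (p : PrimeSpectrum Γ(X, W)).asIdeal := by
    by_contra hc
    push Not at hc
    let F : Finset (PrimeSpectrum Γ(X, W)) := hS.toFinset
    have hsub : (I : Set Γ(X, W)) ⊆ ⋃ p ∈ (↑F : Set (PrimeSpectrum Γ(X, W))), (p.asIdeal : Set Γ(X, W)) := fun f hf => by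
      obtain ⟨p, hp, hfp⟩ := hc f hf
      exact Set.mem_biUnion (hS.mem_toFinset.2 hp) hfp
    rcases F.eq_empty_or_nonempty with h | h
    · simpa [h] using hsub I.zero_mem
    obtain ⟨p, hp, hle⟩ := (Ideal.subset_union_prime h.choose h.choose fun q _ _ _ => q.2).1 hsub
    have hmem : p ∈ PrimeSpectrum.zeroLocus (I : Set Γ(X, W)) := hle
    rw [← hI] at hmem
    exact hmem (hSG (hS.mem_toFinset.1 hp))
  have hfG : PrimeSpectrum.basicOpen f ≤ G := fun p hp => by
    by_contra hpG
    have : p ∈ PrimeSpectrum.zeroLocus (I : Set Γ(X, W)) := hI ▸ hpG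
    exact hp (this hfI)
  refine ⟨j ''ᵁ PrimeSpectrum.basicOpen f, (IsAffineOpen.Spec_basicOpen f).image_of_isOpenImmersion j, fun x hx => ?_, ?_⟩
  · obtain ⟨z, rfl⟩ := hW.range_fromSpec.ge (hTW x hx)
    exact ⟨z, hf z hx, rfl⟩
  · exact exists_iso_of_isGen L ((exists_isGen_image j hg).restrict L (j.image_mono hfG))

end Groth.Agent.S19022
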