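import Groth.Statements.S19025
import Mathlib.Algebra.Group.ForwardDiff
import Mathlib.Tactic.Ring

set_option autoImplicit false
universe u
open HigherRestr

namespace Groth.Agent.S19025

variable {_unused : Unit}

section Twist

open Finset

variable {S : Type u} [CommRing S] (g₀ g₁ : S)

/-- The finite difference of the twisted sequence. -/
def T (N : ℕ) (y : ℕ → S) : S :=
  (fwdDiff (1 : ℕ))^[N] (fun j : ℕ => g₀ ^ (N - j) * g₁ ^ j * y j) 0

theorem iter_sub (N : ℕ) (f g : ℕ → S) (i : ℕ) :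
    (fwdDiff (1 : ℕ))^[N] (fun j => f j - g j) i =
      (fwdDiff (1 : ℕ))^[N] f i - (fwdDiff (1 : ℕ))^[N] g i := by
  rw [fwdDiff_iter_eq_sum_shift, fwdDiff_iter_eq_sum_shift, fwdDiff_iter_eq_sum_shift,
    ← Finset.sum_sub_distrib]
  exact Finset.sum_congr rfl fun k _ => smul_sub _ _ _

theorem iter_congr (N : ℕ) {f g : ℕ → S} (i : ℕ) (h : ∀ j ≤ N, f (i + j) = g (i + j)) :
    (fwdDiff (1 : ℕ))^[N] f i = (fwdDiff (1 : ℕ))^[N] g i := by
  rw [fwdDiff_iter_eq_sum_shift, fwdDiff_iter_eq_sum_shift]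
  refine Finset.sum_congr rfl fun k hk => ?_
  rw [Finset.mem_range] at hk
  rw [smul_eq_mul, mul_one, h k (by omega)]

theorem iter_mul (N : ℕ) (c : S) (f : ℕ → S) (i : ℕ) :
    (fwdDiff (1 : ℕ))^[N] (fun j => c * f j) i = c * (fwdDiff (1 : ℕ))^[N] f i := by
  rw [fwdDiff_iter_eq_sum_shift, fwdDiff_iter_eq_sum_shift, Finset.mul_sum]
  exact Finset.sum_congr rfl fun k _ => (mul_smul_comm _ _ _).symm

theorem T_succ (N : ℕ) (y : ℕ → S) :
    T g₀ g₁ (N + 1) y =
      (g₁ - g₀) * T g₀ g₁ N (fun j => y (j + 1)) + g₀ * T g₀ g₁ N (fwdDiff (1 : ℕ) y) := by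
  have h1 : T g₀ g₁ N (fwdDiff (1 : ℕ) y) = T g₀ g₁ N (fun j => y (j + 1)) - T g₀ g₁ N y := by
    rw [T, T, T, ← iter_sub]
    exact iter_congr N 0 fun j _ => by simp only [fwdDiff]; ring
  have h2 : T g₀ g₁ (N + 1) y = g₁ * T g₀ g₁ N (fun j => y (j + 1)) - g₀ * T g₀ g₁ N y := by
    rw [T, Function.iterate_succ_apply, T, T, ← iter_mul, ← iter_mul, ← iter_sub]
    refine iter_congr N 0 fun j hj => ?_
    simp only [fwdDiff, zero_add]
    rw [show N + 1 - (j + 1) = N - j by omega, show N + 1 - j = (N - j) + 1 by omega, pow_succ,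
      pow_succ]
    ring
  rw [h2, h1]
  ring

theorem T_main (I : Ideal S) (hg : g₁ - g₀ ∈ I) : ∀ (N m : ℕ) (y : ℕ → S),
    (∀ i : ℕ, 1 ≤ i → i ≤ N → (fwdDiff (1 : ℕ))^[N - i] y i ∈ I ^ (N - i + m)) →
    g₀ ^ N * (fwdDiff (1 : ℕ))^[N] y 0 - T g₀ g₁ N y ∈ I ^ (N + m) := by
  intro N
  induction N with
  | zero => intro m y _; simp [T]
  | succ N ih =>
    intro m y hy
    have hE : ∀ (n i : ℕ), (fwdDiff (1 : ℕ))^[n] (fun j => y (j + 1)) i =
        (fwdDiff (1 : ℕ))^[n] y (i + 1) := fun n i => fwdDiff_iter_comp_add _ y 1 n i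
    have h1 := ih m (fun j => y (j + 1)) fun i hi hiN => by
      rw [hE]
      have := hy (i + 1) (by omega) (by omega)
      rwa [show N + 1 - (i + 1) = N - i by omega] at this
    have h2 : (fwdDiff (1 : ℕ))^[N] (fun j => y (j + 1)) 0 ∈ I ^ (N + m) := by
      rw [hE]
      have := hy 1 le_rfl (by omega)
      rwa [show N + 1 - 1 = N by omega] at this
    have h3 : T g₀ g₁ N (fun j => y (j + 1)) ∈ I ^ (N + m) := by
      have := sub_mem (Ideal.mul_mem_left _ (g₀ ^ N) h2) h1
      rwa [sub_sub_cancel] at this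
    have h4 := ih (m + 1) (fwdDiff (1 : ℕ) y) fun i hi hiN => by
      rw [← Function.iterate_succ_apply]
      have := hy i hi (by omega)
      rwa [show N + 1 - i = (N - i).succ by omega, show (N - i).succ + m = N - i + (m + 1) by omega] at this
    rw [← Function.iterate_succ_apply] at h4
    have h5 : (g₁ - g₀) * T g₀ g₁ N (fun j => y (j + 1)) ∈ I ^ (N + 1 + m) := by
      rw [show N + 1 + m = (N + m) + 1 by omega, pow_succ']
      exact Ideal.mul_mem_mul hg h3
    rw [show N + (m + 1) = N + 1 + m by omega] at h4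
    have h6 := sub_mem (Ideal.mul_mem_left _ g₀ h4) h5
    convert h6 using 1
    rw [T_succ, pow_succ']
    ring

end Twist



/-- In abstract form, the estimate its proof establishes. Let S be a commutative ring, I an ideal of S,
g₀ and g₁ elements with g₁ - g₀ ∈ I, N a natural number and y a sequence in S such that, for 1 ≤ i ≤
N, the (N-i)-fold unit-step forward difference of y taken at i lies in I^(N-i). Then g₀^N times the
N-fold forward difference of y at 0, minus the N-fold forward difference at 0 of the twisted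
sequence j ↦ g₀^(N-j) g₁^j y_j, lies in I^N. (In the source S is the ring of functions on an affine
chart of X^n, I the ideal of a pairwise diagonal, g₀ and g₁ the two pullbacks of a transition unit
of L, and y_j the components x_λ along the compositions a₀^(N-j) a₁^j μ; the estimate is what makes
the higher order restrictions D^l_L well defined on ker D^(l-1)_L independently of the
trivialisation.) -/
theorem result
    (S : Type u) [CommRing S] (I : Ideal S) (g₀ g₁ : S) (hg : g₁ - g₀ ∈ I)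
    (N : ℕ) (y : ℕ → S)
    (hy : ∀ i : ℕ, 1 ≤ i → i ≤ N → (fwdDiff (1 : ℕ))^[N - i] y i ∈ I ^ (N - i)) :
    g₀ ^ N * (fwdDiff (1 : ℕ))^[N] y 0 -
        (fwdDiff (1 : ℕ))^[N] (fun j : ℕ => g₀ ^ (N - j) * g₁ ^ j * y j) 0 ∈ I ^ N := by
  have h := T_main g₀ g₁ I hg N 0 y (fun i h1 h2 => by simpa using hy i h1 h2)
  simpa [T] using h


end Groth.Agent.S19025
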