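import Groth.Statements.S19027
import Groth.Agent.L21.CurveAdj.Balanced
import Groth.Agent.L21.CurveAdj.BalancedNum

set_option autoImplicit false
set_option backward.isDefEq.respectTransparency false
universe u
open CategoryTheory CategoryTheory.Limits AlgebraicGeometry
attribute [local instance] HasDerivedCategory.standard
open Curves

namespace Groth.Agent.S19027

/-- Let k be an algebraically closed field and X a connected reduced Gorenstein curve over k of genus g
≥ 2: X is proper over k, reduced, connected, of dimension one, and its dualizing module ω_X (the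
degree −1 cohomology sheaf of f^! O for the structure morphism f, for any choice of the data Rf_* on
D_QCoh with its right adjoint) is invertible; g = dim_k H^1(X, O_X). A connected subcurve Z of X is
a reduced connected closed subscheme of dimension one, deg_Z of a module means the degree of its
pullback to Z, g_Z = dim_k H^1(Z, O_Z), and k_Z is the length (k-dimension of global sections of the
structure sheaf) of the scheme-theoretic intersection of Z with the reduced closed subscheme
supported on the closure of X ∖ Z. Let L be an invertible module of degree d which is balanced: for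
every connected subcurve Z, |deg_Z L − (d/(2g−2)) deg_Z ω_X| ≤ k_Z/2 (written cleared of
denominators). Assume d > 3(g − 1). Under this bound, ampleness of L is equivalent to X being
G-quasistable together with deg_Z L = 1 on each exceptional subcurve Z; here G-quasistable means
that deg_Z ω_X ≥ 0 for every connected subcurve Z and that every exceptional subcurve Z (connected,
with deg_Z ω_X = 0) is irreducible (for an exceptional subcurve, irreducibility is equivalent to
being a projective line, since such a subcurve has genus zero and meets the rest of X in a scheme of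
length two). -/
theorem result (k : Type u) [Field k] [IsAlgClosed k] (X : Scheme.{u}) [X.Over (Spec (CommRingCat.of k))]
    [IsProper (X ↘ (Spec (CommRingCat.of k)))] [AlgebraicGeometry.IsReduced X] [ConnectedSpace X] (hdim : topologicalKrullDim X = 1)
    [DCoh.HasRpush (X ↘ (Spec (CommRingCat.of k)))] (h : DCoh.RpushPreservesQCoh (X ↘ (Spec (CommRingCat.of k)))) [DCoh.HasShriek (X ↘ (Spec (CommRingCat.of k))) h]
    (OY : DCoh.DQCoh (Spec (CommRingCat.of k)))
    (hOY : Nonempty (OY.obj ≅ DCoh.inD (Spec (CommRingCat.of k)) (Coh.structureModule (Spec (CommRingCat.of k)))))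
    (hGor : PicF.IsInvertible (DCoh.dualizingMod (X ↘ (Spec (CommRingCat.of k))) h OY 1)) (hg : 2 ≤ Curv2.genus k X)
    (L : X.Modules) (hL : PicF.IsInvertible L)
    (hbal : ∀ J : X.IdealSheafData, AlgebraicGeometry.IsReduced J.subscheme → ConnectedSpace J.subscheme →
      topologicalKrullDim J.subscheme = 1 →
      |2 * (2 * (Curv2.genus k X : ℤ) - 2) * @Curv2.deg k _ J.subscheme ⟨J.subschemeι ≫ (X ↘ (Spec (CommRingCat.of k)))⟩ ((Scheme.Modules.pullback J.subschemeι).obj L) 1
          - 2 * Curv2.deg k X L 1 * @Curv2.deg k _ J.subscheme ⟨J.subschemeι ≫ (X ↘ (Spec (CommRingCat.of k)))⟩ ((Scheme.Modules.pullback J.subschemeι).obj (DCoh.dualizingMod (X ↘ (Spec (CommRingCat.of k))) h OY 1)) 1|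
        ≤ (2 * (Curv2.genus k X : ℤ) - 2) * (Module.finrank k (Coh.HH X (ClSub.quotMod (J ⊔ (Scheme.IdealSheafData.vanishingIdeal ⟨closure ((J.support : Set X)ᶜ), isClosed_closure⟩))) 0) : ℤ))
    (hd : 3 * ((Curv2.genus k X : ℤ) - 1) < Curv2.deg k X L 1) :
    CohB1.IsAmple L ↔
      ((∀ J : X.IdealSheafData, AlgebraicGeometry.IsReduced J.subscheme → ConnectedSpace J.subscheme →
      topologicalKrullDim J.subscheme = 1 →
        0 ≤ @Curv2.deg k _ J.subscheme ⟨J.subschemeι ≫ (X ↘ (Spec (CommRingCat.of k)))⟩ ((Scheme.Modules.pullback J.subschemeι).obj (DCoh.dualizingMod (X ↘ (Spec (CommRingCat.of k))) h OY 1)) 1) ∧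
      (∀ J : X.IdealSheafData, AlgebraicGeometry.IsReduced J.subscheme → ConnectedSpace J.subscheme →
      topologicalKrullDim J.subscheme = 1 →
        @Curv2.deg k _ J.subscheme ⟨J.subschemeι ≫ (X ↘ (Spec (CommRingCat.of k)))⟩ ((Scheme.Modules.pullback J.subschemeι).obj (DCoh.dualizingMod (X ↘ (Spec (CommRingCat.of k))) h OY 1)) 1 = 0 → IrreducibleSpace J.subscheme) ∧
      (∀ J : X.IdealSheafData, AlgebraicGeometry.IsReduced J.subscheme → ConnectedSpace J.subscheme →
      topologicalKrullDim J.subscheme = 1 →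
        @Curv2.deg k _ J.subscheme ⟨J.subschemeι ≫ (X ↘ (Spec (CommRingCat.of k)))⟩ ((Scheme.Modules.pullback J.subschemeι).obj (DCoh.dualizingMod (X ↘ (Spec (CommRingCat.of k))) h OY 1)) 1 = 0 → @Curv2.deg k _ J.subscheme ⟨J.subschemeι ≫ (X ↘ (Spec (CommRingCat.of k)))⟩ ((Scheme.Modules.pullback J.subschemeι).obj L) 1 = 1)) := by
  haveI : IsProper (X ↘ Spec (CommRingCat.of k)) := inferInstance
  haveI := Groth.L21.RR.isNoetherian_of_proper (X := X) k
  obtain ⟨t, ht⟩ := Groth.L21.CurveDual.exists_isRDual k hdim.le h OY hOY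
  obtain ⟨hgen, S⟩ := Groth.L21.CurveAdj.setup_of_reduced (k := k) hdim ht
  have hd0 := hd
  have key : ∀ J : X.IdealSheafData, AlgebraicGeometry.IsReduced J.subscheme → ConnectedSpace J.subscheme →
      topologicalKrullDim J.subscheme = 1 → ∃ a m : ℤ,
        (@Curv2.genus k _ J.subscheme ⟨J.subschemeι ≫ (X ↘ (Spec (CommRingCat.of k)))⟩ : ℤ) = a ∧
        @Curv2.euler k _ J.subscheme ⟨J.subschemeι ≫ (X ↘ (Spec (CommRingCat.of k)))⟩ (Coh.structureModule J.subscheme) = 1 - a ∧
        (Module.finrank k (Coh.HH X (ClSub.quotMod (J ⊔ Groth.L21.CurveAdj.complV J)) 0) : ℤ) = m ∧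
        (Groth.L21.CurveAdj.Num.Bal (2 * (Curv2.genus k X : ℤ) - 2) (Curv2.deg k X L 1)
            (Groth.L21.CurveAdj.degOn k L J)
            (Groth.L21.CurveAdj.degOn k (DCoh.dualizingMod (X ↘ (Spec (CommRingCat.of k))) h OY 1) J) m a ∨
          (m = 0 ∧ a = Curv2.genus k X ∧ Groth.L21.CurveAdj.degOn k L J = Curv2.deg k X L 1 ∧
            Groth.L21.CurveAdj.degOn k (DCoh.dualizingMod (X ↘ (Spec (CommRingCat.of k))) h OY 1) J =
              2 * (Curv2.genus k X : ℤ) - 2)) := by
    intro J h1 h2 h3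
    haveI := h1
    haveI := h2
    obtain ⟨a, m, ha, he, hm, hw, hc⟩ := Groth.L21.CurveAdj.subcurve_data S hgen hGor J h3
    refine ⟨a, m, congrArg Nat.cast ha, he, congrArg Nat.cast hm, ?_⟩
    rcases hc with hc | ⟨hm0, hag, hall⟩
    · have hb := hbal J h1 h2 h3
      rw [hm] at hb
      exact Or.inl ⟨by omega, hb, hw, by omega, by exact_mod_cast hc⟩
    · refine Or.inr ⟨by omega, by omega, hall L hL, ?_⟩
      rw [hw]; omega
  have qs : CohB1.IsAmple L → ∀ J : X.IdealSheafData, AlgebraicGeometry.IsReduced J.subscheme →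
      ConnectedSpace J.subscheme → topologicalKrullDim J.subscheme = 1 →
      0 ≤ Groth.L21.CurveAdj.degOn k (DCoh.dualizingMod (X ↘ (Spec (CommRingCat.of k))) h OY 1) J ∧
      (Groth.L21.CurveAdj.degOn k (DCoh.dualizingMod (X ↘ (Spec (CommRingCat.of k))) h OY 1) J = 0 →
        IrreducibleSpace J.subscheme ∧ Groth.L21.CurveAdj.degOn k L J = 1) := by
    intro hA J h1 h2 h3
    haveI := h1
    haveI := h2
    obtain ⟨hpos, hirr⟩ := Groth.L21.CurveAdj.degOn_of_ample (k := k) hdim.le hgen hL hA J h3
    obtain ⟨a, m, -, -, -, B | ⟨-, -, hl, hw⟩⟩ := key J h1 h2 h3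
    · refine ⟨B.w_nonneg (Or.inr ⟨by omega, hpos⟩) hpos.le, fun h0 => ?_⟩
      have := B.exceptional h0
      exact ⟨hirr (by omega), by omega⟩
    · exact ⟨by omega, fun h0 => absurd h0 (by omega)⟩
  refine ⟨fun hA => ⟨fun J h1 h2 h3 => (qs hA J h1 h2 h3).1, fun J h1 h2 h3 h4 => ((qs hA J h1 h2 h3).2 h4).1,
    fun J h1 h2 h3 h4 => ((qs hA J h1 h2 h3).2 h4).2⟩, fun hh => ?_⟩
  obtain ⟨hss, -, hex⟩ := hh
  refine (Groth.L21.CurveAdj.isAmple_iff_degOn (k := k) hdim.le hgen hL).2 fun C hC => ?_
  obtain ⟨h1, h2, -⟩ := Groth.L21.CurveAdj.component hgen C hC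
  have h3 := (Groth.L21.CurveAdj.dim_component hdim.le hgen C hC).1
  obtain ⟨a, m, -, -, -, B | ⟨-, -, hl, hw⟩⟩ := key _ h1 h2 h3
  · exact B.amp (by omega) (hss _ h1 h2 h3) (hex _ h1 h2 h3)
  · rw [hl]; omega

end Groth.Agent.S19027
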