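import Groth.Statements.S19033
import Groth.Agent.L15.BI
import Mathlib.Tactic.Ring
import Mathlib.Tactic.LinearCombination
import Mathlib.Tactic.FieldSimp
import Mathlib.Algebra.BigOperators.Ring.Finset

set_option autoImplicit false
universe u
open LabGraph

namespace Groth.Agent.S19033

open LabGraph in
/-- Let X be a quasi-wp-stable curve of genus g ≥ 2 over an algebraically closed field, encoded by a
weighted multigraph: vertices are the irreducible components C_v, with the weight w v and the loops
at v chosen so that w v plus the number of loops at v is the arithmetic genus of C_v; two distinct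
components are joined by one edge for each node and by two edges for each tacnode at which they
meet. For a set Y of vertices (a subcurve) canDeg Y is then deg_Y ω_X = 2 g_Y − 2 + k_Y and cut Y is
k_Y, the length of the intersection of Y with its complementary subcurve; a vertex is exceptional
(weight zero, loopless, exactly two edges to other vertices) exactly when C_v is an exceptional
component; the twist of the indicator function of Y is the multidegree Σ_{C ⊆ Y} C of the degree
class group construction; and the graph is a connected quasistable graph. Let d, d' be properly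
balanced multidegrees of the same total degree D (each satisfies the Basic Inequality 2·|K·d_Y −
D·canDeg Y| ≤ cut Y·K for every Y, where K = 2g − 2 = canDeg of the whole graph, and takes the value
1 on every exceptional vertex), with d strictly balanced: for every nonempty proper Y with d_Y equal
to the upper extreme, i.e. 2(K·d_Y − D·canDeg Y) = K·cut Y, every edge with exactly one endpoint in
Y has an exceptional endpoint. Suppose d' = d + Σ_i twist(1_{Z_i}) for nested vertex sets Z_1 ⊆ ⋯ ⊆
Z_m, each with d at its upper extreme, such that for j < i no edge joins a vertex of Z_j to a vertex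
outside Z_i. Then d = d'. (The source assumes only that d − d' lies in the lattice generated by the
multidegrees of the components and takes the existence of such a nested family from an earlier paper
it cites without proof; this row carries that description as its hypothesis.) -/
theorem result {V E : Type u} [Fintype V] [Fintype E]
    [DecidableEq V] [DecidableEq E] (ends : E → V × V) (w : V → ℕ) (hX : IsQuasistableGraph ends w)
    (hg : 2 ≤ genus ends w) (d d' : V → ℤ) (hD : ∑ v, d v = ∑ v, d' v)
    (hBI : SatisfiesBI ends w d) (hBI' : SatisfiesBI ends w d')
    (hone : ∀ v : V, IsExceptional ends w v → d v = 1) (hone' : ∀ v : V, IsExceptional ends w v → d' v = 1)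
    (hstrict : ∀ Y : Finset V, Y.Nonempty → Y ≠ Finset.univ →
      2 * (canDeg ends w Finset.univ * (∑ v ∈ Y, d v) - (∑ v, d v) * canDeg ends w Y)
          = (cut ends Y : ℤ) * canDeg ends w Finset.univ →
      ∀ e : E, (((ends e).1 ∈ Y ∧ (ends e).2 ∉ Y) ∨ ((ends e).1 ∉ Y ∧ (ends e).2 ∈ Y)) →
        (IsExceptional ends w (ends e).1 ∨ IsExceptional ends w (ends e).2))
    (m : ℕ) (Z : Fin m → Finset V) (hmono : ∀ i j : Fin m, i ≤ j → Z i ⊆ Z j)
    (hext : ∀ i : Fin m, 2 * (canDeg ends w Finset.univ * (∑ v ∈ Z i, d v) - (∑ v, d v) * canDeg ends w (Z i))
          = (cut ends (Z i) : ℤ) * canDeg ends w Finset.univ)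
    (hsep : ∀ i j : Fin m, j < i → ∀ e : E,
      ¬ (((ends e).1 ∈ Z j ∧ (ends e).2 ∉ Z i) ∨ ((ends e).2 ∈ Z j ∧ (ends e).1 ∉ Z i)))
    (hsum : ∀ v : V, d' v = d v + ∑ i : Fin m, twist ends (fun u => if u ∈ Z i then (1 : ℤ) else 0) v) :
    d = d' := by
  exact Groth.L15.BI.eq_of_nested (by rw [Groth.L15.BI.canDeg_univ]; omega) hBI hone hone' hstrict Z hmono hext hsep hsum

end Groth.Agent.S19033
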