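import Groth.Statements.S19035
import Mathlib.RingTheory.WittVector.Basic
import Mathlib.RingTheory.FiniteType
import Mathlib.RingTheory.Polynomial.Basic
import Mathlib.Order.Directed

set_option autoImplicit false
universe u v w x
open CAlg

namespace Groth.Agent.S19035

/-- Let p be a prime and k a perfect field of characteristic p. Let (A_i) be a directed system of
finitely generated commutative k-algebras, indexed by a nonempty directed preorder, with compatible
k-algebra transition maps, and let B be a finitely generated k-algebra with compatible k-algebra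
maps A_i → B which present B as the direct limit of the system (every element of B is the image of
an element of some A_i, and two elements of some A_i with the same image in B have the same image in
some A_j). Then the p-typical Witt vectors commute with this direct limit: every Witt vector over B
is the image of a Witt vector over some A_i, and two Witt vectors over some A_i with the same image
over B already have the same image over some A_j. (Both finiteness hypotheses matter: for an
arbitrary filtered direct limit of commutative rings either assertion can fail.) -/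
theorem result
    (p : ℕ) [Fact p.Prime] (k : Type u) [Field k] [CharP k p] [PerfectRing k p]
    {ι : Type v} [Preorder ι] [IsDirected ι (· ≤ ·)] [Nonempty ι]
    (A : ι → Type w) [∀ i, CommRing (A i)] [∀ i, Algebra k (A i)]
    [∀ i, Algebra.FiniteType k (A i)]
    (f : ∀ i j, i ≤ j → (A i →ₐ[k] A j))
    (hf : ∀ i j l (hij : i ≤ j) (hjl : j ≤ l) (x : A i),
      f j l hjl (f i j hij x) = f i l (hij.trans hjl) x)
    (B : Type x) [CommRing B] [Algebra k B] [Algebra.FiniteType k B]
    (g : ∀ i, A i →ₐ[k] B)
    (hfg : ∀ i j (hij : i ≤ j) (x : A i), g j (f i j hij x) = g i x)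
    (hsurj : ∀ b : B, ∃ i, ∃ x : A i, g i x = b)
    (hinj : ∀ i (x y : A i), g i x = g i y → ∃ j, ∃ hij : i ≤ j, f i j hij x = f i j hij y) :
    (∀ w : WittVector p B, ∃ i, ∃ v : WittVector p (A i),
        WittVector.map (g i).toRingHom v = w) ∧
    (∀ i (v v' : WittVector p (A i)),
        WittVector.map (g i).toRingHom v = WittVector.map (g i).toRingHom v' →
        ∃ j, ∃ hij : i ≤ j,
          WittVector.map (f i j hij).toRingHom v = WittVector.map (f i j hij).toRingHom v') := by
  classical
  refine ⟨fun w => ?_, fun i v v' h => ?_⟩
  · obtain ⟨s, hs⟩ := Algebra.FiniteType.out (R := k) (A := B)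
    choose I a ha using hsurj
    obtain ⟨i, hi⟩ := Finset.exists_le (s.image I)
    have hsg : (g i).range = ⊤ := top_unique (hs ▸ Algebra.adjoin_le fun b hb =>
      ⟨f _ i (hi _ (Finset.mem_image_of_mem I hb)) (a b), (hfg _ _ _ _).trans (ha b)⟩)
    obtain ⟨v, hv⟩ := WittVector.map_surjective (g i).toRingHom (AlgHom.range_eq_top _ |>.mp hsg) w
    exact ⟨i, v, hv⟩
  · have : IsNoetherianRing (A i) := Algebra.FiniteType.isNoetherianRing k (A i)
    obtain ⟨s, hs⟩ := IsNoetherian.noetherian (RingHom.ker (g i).toRingHom)
    have hk : ∀ a ∈ s, ∃ j, ∃ hij : i ≤ j, f i j hij a = 0 := fun a ha => by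
      have : a ∈ RingHom.ker (g i).toRingHom := hs ▸ Submodule.subset_span ha
      obtain ⟨j, hij, e⟩ := hinj i a 0 (by simpa using this)
      exact ⟨j, hij, by simpa using e⟩
    choose! J hJ hJ0 using hk
    obtain ⟨j, hj⟩ := Finset.exists_le (insert i (s.image J))
    have hij : i ≤ j := hj i (Finset.mem_insert_self _ _)
    have hker : RingHom.ker (g i).toRingHom ≤ RingHom.ker (f i j hij).toRingHom := hs ▸
      Ideal.span_le.mpr fun a ha => by
        have hJj : J a ≤ j := hj _ (Finset.mem_insert_of_mem (Finset.mem_image_of_mem J ha))
        show f i j hij a = 0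
        rw [← hf i (J a) j (hJ a ha) hJj, hJ0 a ha, map_zero]
    refine ⟨j, hij, WittVector.ext fun n => ?_⟩
    rw [WittVector.map_coeff, WittVector.map_coeff, ← sub_eq_zero, ← map_sub]
    refine hker ?_
    rw [RingHom.mem_ker, map_sub, sub_eq_zero, ← WittVector.map_coeff, ← WittVector.map_coeff, h]

end Groth.Agent.S19035
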