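import Groth.Statements.S19036
import Groth.Agent.L13.QCValuative

set_option autoImplicit false
universe u
open Instab

namespace Groth.Agent.S19036

open CategoryTheory AlgebraicGeometry in
/-- Let f : X → Y be a morphism of schemes which is locally of finite presentation, and for which the
valuative criterion holds (every valuative square over a valuation ring has exactly one lift). When
X has only finitely many irreducible components, the morphism f is quasi-compact. (The source states
this for algebraic spaces and adds that f is then proper; universal closedness follows from
quasi-compactness and the existence part by the standard criterion, and separatedness from the
uniqueness part once f is quasi-separated. Only the scheme case and the quasi-compactness conclusion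
are stated here.) -/
theorem result
    {X Y : Scheme.{u}} (f : X ⟶ Y) [LocallyOfFinitePresentation f]
    (hf : ValuativeCriterion f) (hX : (irreducibleComponents ↥X).Finite) :
    QuasiCompact f := by
  exact Groth.L13.QCValuative.quasiCompact f hf hX

end Groth.Agent.S19036
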