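import Groth.Statements.S19037

set_option autoImplicit false
universe u v
open scoped Polynomial LaurentPolynomial
open Instab

namespace Groth.Agent.S19037

/-- Affine form over a ring R. Let A be a commutative ℤ-graded R-algebra and t an element of degree −1
(so A is a graded algebra over R[t] with t in degree −1), and let ψ : A[1/t] → R[T, T⁻¹] be an
R-algebra map sending t to T which is graded, in the sense that each homogeneous element of degree n
of A goes to an element of R times T^(−n). Then ψ is obtained by inverting t from an R-algebra map χ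
: A → R[T] (compared through the inclusion of R[T] in R[T, T⁻¹]) if and only if ψ kills t·a for
every homogeneous a of degree 1; such a χ is unique. (The source states this for quasi-coherent
graded algebras over an arbitrary base scheme; the statement is local on the base and is given here
over an affine base.) -/
theorem result
    {R : Type u} {A : Type v} [CommRing R] [CommRing A] [Algebra R A]
    (𝒜 : ℤ → Submodule R A) [GradedAlgebra 𝒜] (t : A) (ht : t ∈ 𝒜 (-1))
    (ψ : Localization.Away t →ₐ[R] R[T;T⁻¹])
    (hψt : ψ (algebraMap A (Localization.Away t) t) = LaurentPolynomial.T 1)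
    (hψ : ∀ (n : ℤ) (a : A), a ∈ 𝒜 n →
      ∃ r : R, ψ (algebraMap A (Localization.Away t) a) = LaurentPolynomial.C r * LaurentPolynomial.T (-n)) :
    (∃! χ : A →ₐ[R] R[X], ∀ a : A,
        ψ (algebraMap A (Localization.Away t) a) = Polynomial.toLaurentAlg (χ a)) ↔
      ∀ a ∈ 𝒜 1, ψ (algebraMap A (Localization.Away t) (t * a)) = 0 := by
  classical
  let φ : A →ₐ[R] R[T;T⁻¹] := ψ.comp (IsScalarTower.toAlgHom R A (Localization.Away t))
  have hφ : ∀ a, φ a = ψ (algebraMap A (Localization.Away t) a) := fun a => rfl
  have hφt : φ t = LaurentPolynomial.T 1 := hψt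
  have hTcancel : ∀ (m : ℤ) (z : R[T;T⁻¹]), LaurentPolynomial.T m * z = 0 → z = 0 := fun m z h => by
    have := congrArg (fun w => LaurentPolynomial.T (-m) * w) h
    simpa [← mul_assoc, ← LaurentPolynomial.T_add] using this
  constructor
  · rintro ⟨χ, hχ, -⟩ a ha
    obtain ⟨r, hr⟩ := hψ 1 a ha
    have h1 : φ a = 0 := by
      have h2 : Polynomial.toLaurent (χ a) = LaurentPolynomial.C r * LaurentPolynomial.T (-1) :=
        (Polynomial.toLaurentAlg_apply (χ a)).symm.trans ((hχ a).symm.trans hr)
      have h3 : r = 0 := by
        have h4 : Polynomial.toLaurent (χ a * Polynomial.X) = Polynomial.toLaurent (Polynomial.C r) := by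
          rw [map_mul, h2, Polynomial.toLaurent_X, Polynomial.toLaurent_C, mul_assoc, ← LaurentPolynomial.T_add]
          simp
        have h5 := congrArg (fun p => Polynomial.coeff p 0) (Polynomial.toLaurent_injective h4)
        simpa using h5.symm
      rw [hφ, hr, h3, map_zero, zero_mul]
    rw [map_mul, map_mul, ← hφ a, h1, mul_zero]
  · intro h
    have hpow : ∀ k : ℕ, t ^ k ∈ 𝒜 (-(k : ℤ)) := fun k => by
      simpa using SetLike.pow_mem_graded k ht
    have hrange : ∀ a : A, φ a ∈ (Polynomial.toLaurentAlg (R := R)).range := by
      intro a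
      induction a using DirectSum.Decomposition.inductionOn 𝒜 with
      | zero => rw [map_zero]; exact zero_mem _
      | add a b ha hb => rw [map_add]; exact add_mem ha hb
      | @homogeneous n a =>
        obtain ⟨r, hr⟩ := hψ n a a.2
        rcases le_or_gt n 0 with hn | hn
        · obtain ⟨k, hk⟩ := Int.eq_ofNat_of_zero_le (neg_nonneg.2 hn)
          refine ⟨Polynomial.C r * Polynomial.X ^ k, ?_⟩
          show Polynomial.toLaurentAlg (Polynomial.C r * Polynomial.X ^ k) = φ a
          rw [hφ, hr, hk, Polynomial.toLaurentAlg_apply, Polynomial.toLaurent_C_mul_X_pow]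
        · obtain ⟨k, rfl⟩ : ∃ k : ℕ, n = (k : ℤ) + 1 := ⟨(n - 1).toNat, by omega⟩
          have h1 : t ^ k * (a : A) ∈ 𝒜 1 := by
            simpa using SetLike.mul_mem_graded (hpow k) a.2
          have h2 : φ (t * (t ^ k * (a : A))) = 0 := h _ h1
          rw [map_mul, map_mul, map_pow, hφt] at h2
          have h3 := hTcancel 1 _ h2
          rw [LaurentPolynomial.T_pow] at h3
          rw [hTcancel _ _ h3]
          exact zero_mem _
    have hinj : Function.Injective (Polynomial.toLaurentAlg (R := R)) := Polynomial.toLaurent_injective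
    refine ⟨((AlgEquiv.ofInjective _ hinj).symm.toAlgHom).comp (φ.codRestrict _ hrange), fun a => ?_,
      fun χ' hχ' => ?_⟩
    · exact (congrArg Subtype.val ((AlgEquiv.ofInjective _ hinj).apply_symm_apply ⟨φ a, hrange a⟩)).symm
    · refine AlgHom.ext fun a => hinj ?_
      exact (hχ' a).symm.trans
        (congrArg Subtype.val ((AlgEquiv.ofInjective _ hinj).apply_symm_apply ⟨φ a, hrange a⟩)).symm

end Groth.Agent.S19037
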