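import Groth.Statements.S19039
import Groth.Agent.L13.LineExt
import Mathlib.Algebra.Polynomial.Basis

set_option autoImplicit false
universe u
open Instab

namespace Groth.Agent.S19039

open CategoryTheory MonoidalCategory CartesianMonoidalCategory MonObj GrpObj AlgebraicGeometry in
/-- The case n = 1 for a scheme X separated over an affine base Spec R, stated as the two facts that
identify equivariant families with maps whose orbit map extends. Let G_m act on X (a left action a :
G_m × X → X over Spec R) and on A¹ × T through the scaling action on A¹, for an R-scheme T; write j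
: G_m → A¹ for the inclusion t ↦ t. (a) If u, v : A¹ × T → X are G_m-equivariant R-morphisms with
the same restriction to the section {1} × T, then u = v. (b) If x : T → X is an R-morphism and u :
A¹ × T → X is an R-morphism whose restriction along j × T is the orbit family (g, t) ↦ g · x(t),
then u is G_m-equivariant. (The source works with an algebraic space X quasi-separated and locally
of finite presentation over a base B with an action of G_mⁿ and deduces that X⁺ → X is a locally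
finitely presented unramified monomorphism; only the elementary identification for n = 1 is stated
here, which uses separatedness alone.) -/
theorem result
    (R : Type u) [CommRing R] (X : Over (Spec (CommRingCat.of R))) [IsSeparated X.hom]
    (a : AlgGrp.Action (ThetaS.Gm R) X) (T : Over (Spec (CommRingCat.of R))) :
    (∀ u v : ThetaS.Line R ⊗ T ⟶ X,
        (α_ (ThetaS.Gm R) (ThetaS.Line R) T).inv ≫ ((ThetaS.lineAction R).act ▷ T) ≫ u = (ThetaS.Gm R ◁ u) ≫ a.act →
        (α_ (ThetaS.Gm R) (ThetaS.Line R) T).inv ≫ ((ThetaS.lineAction R).act ▷ T) ≫ v = (ThetaS.Gm R ◁ v) ≫ a.act →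
        lift ((1 : T ⟶ ThetaS.Gm R) ≫ (CoactBr.pt (ThetaS.linePt (ThetaS.zPow R 1)) : ThetaS.Gm R ⟶ ThetaS.Line R)) (𝟙 T) ≫ u =
          lift ((1 : T ⟶ ThetaS.Gm R) ≫ (CoactBr.pt (ThetaS.linePt (ThetaS.zPow R 1)) : ThetaS.Gm R ⟶ ThetaS.Line R)) (𝟙 T) ≫ v →
        u = v) ∧
    (∀ (x : T ⟶ X) (u : ThetaS.Line R ⊗ T ⟶ X),
        ((CoactBr.pt (ThetaS.linePt (ThetaS.zPow R 1)) : ThetaS.Gm R ⟶ ThetaS.Line R) ▷ T) ≫ u = (ThetaS.Gm R ◁ x) ≫ a.act →
        (α_ (ThetaS.Gm R) (ThetaS.Line R) T).inv ≫ ((ThetaS.lineAction R).act ▷ T) ≫ u =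
          (ThetaS.Gm R ◁ u) ≫ a.act) := by
  let jA : (Polynomial R) →ₐ[R] ThetaS.Lau R := ThetaS.linePt (ThetaS.zPow R 1)
  let r : ThetaS.Lau R →ₗ[R] (Polynomial R) :=
    (MonoidAlgebra.basis (Multiplicative ℤ) R).constr R fun n => if 0 ≤ n.toAdd then Polynomial.X ^ n.toAdd.toNat else 0
  have hr : ∀ b, r (jA b) = b := by
    suffices r.comp jA.toLinearMap = LinearMap.id from fun b => LinearMap.congr_fun this b
    refine (Polynomial.basisMonomials R).ext fun i => ?_
    have hi : jA (Polynomial.X ^ i) = MonoidAlgebra.basis (Multiplicative ℤ) R (Multiplicative.ofAdd (i : ℤ)) := by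
      simp [jA, ThetaS.zPow, ← ofAdd_nsmul]
    rw [Polynomial.coe_basisMonomials]
    simp only [LinearMap.comp_apply, AlgHom.toLinearMap_apply, LinearMap.id_apply, ← Polynomial.X_pow_eq_monomial, hi, r,
      Module.Basis.constr_basis]
    simp
  have hext : ∀ (T' : Over (Spec (CommRingCat.of R))) (u v : ThetaS.Line R ⊗ T' ⟶ X),
      (CoactBr.pt jA ▷ T') ≫ u = (CoactBr.pt jA ▷ T') ≫ v → u = v :=
    fun T' u v h => Groth.Agent.L13.LineExt.whiskerRight_ext jA r hr T' h
  have hact := fun (T' : Over (Spec (CommRingCat.of R))) (g h : T' ⟶ ThetaS.Gm R) =>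
    Groth.Agent.L13.LineExt.act_line T' g h
  refine ⟨fun u v hu hv huv => hext T u v ?_, fun x u hu => ?_⟩
  · set σ : T ⟶ ThetaS.Line R ⊗ T :=
      lift ((1 : T ⟶ ThetaS.Gm R) ≫ CoactBr.pt jA) (𝟙 T) with hσ
    have e : (ThetaS.Gm R ◁ σ) ≫ (α_ (ThetaS.Gm R) (ThetaS.Line R) T).inv ≫ ((ThetaS.lineAction R).act ▷ T) =
        CoactBr.pt jA ▷ T := by
      refine CartesianMonoidalCategory.hom_ext _ _ ?_ ?_
      · simp only [Category.assoc, whiskerRight_fst]
        have : (ThetaS.Gm R ◁ σ) ≫ (α_ (ThetaS.Gm R) (ThetaS.Line R) T).inv ≫ fst _ _ =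
            lift (fst _ _) ((1 : _ ⟶ ThetaS.Gm R) ≫ CoactBr.pt jA) := by
          refine CartesianMonoidalCategory.hom_ext _ _ ?_ ?_
          · simp [hσ]
          · simp [hσ, MonObj.comp_one_assoc]
        rw [reassoc_of% this, hact, _root_.mul_one]
      · simp [hσ]
    calc (CoactBr.pt jA ▷ T) ≫ u = (ThetaS.Gm R ◁ σ) ≫ ((ThetaS.Gm R ◁ u) ≫ a.act) := by
          rw [← hu, ← e]; simp only [Category.assoc]
      _ = (ThetaS.Gm R ◁ σ) ≫ ((ThetaS.Gm R ◁ v) ≫ a.act) := by
          rw [← Category.assoc, ← Category.assoc, ← MonoidalCategory.whiskerLeft_comp,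
            ← MonoidalCategory.whiskerLeft_comp, huv]
      _ = (CoactBr.pt jA ▷ T) ≫ v := by
          rw [← hv, ← e]; simp only [Category.assoc]
  · let G := ThetaS.Gm R
    let s : ThetaS.Line R ⊗ (G ⊗ T) ⟶ G ⊗ (ThetaS.Line R ⊗ T) :=
      lift (snd _ _ ≫ fst _ _) (lift (fst _ _) (snd _ _ ≫ snd _ _))
    let sG : G ⊗ (G ⊗ T) ⟶ G ⊗ (G ⊗ T) := lift (snd _ _ ≫ fst _ _) (lift (fst _ _) (snd _ _ ≫ snd _ _))
    let s' : G ⊗ (ThetaS.Line R ⊗ T) ⟶ ThetaS.Line R ⊗ (G ⊗ T) :=
      lift (snd _ _ ≫ fst _ _) (lift (fst _ _) (snd _ _ ≫ snd _ _))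
    have hss : s' ≫ s = 𝟙 _ := by
      refine CartesianMonoidalCategory.hom_ext _ _ ?_ ?_
      · simp [s, s']
      · refine CartesianMonoidalCategory.hom_ext _ _ ?_ ?_ <;> simp [s, s']
    have hsw : (CoactBr.pt jA ▷ (G ⊗ T)) ≫ s = sG ≫ (G ◁ (CoactBr.pt jA ▷ T)) := by
      refine CartesianMonoidalCategory.hom_ext _ _ ?_ ?_
      · simp [s, sG]; rfl
      · refine CartesianMonoidalCategory.hom_ext _ _ ?_ ?_ <;> simp [s, sG] <;> rfl
    rw [← Category.id_comp ((α_ _ _ _).inv ≫ _), ← Category.id_comp ((_ ◁ u) ≫ a.act), ← hss, Category.assoc, Category.assoc]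
    congr 1
    refine hext _ _ _ ?_
    rw [reassoc_of% hsw, reassoc_of% hsw]
    congr 1
    set p1 : G ⊗ (G ⊗ T) ⟶ G := fst _ _
    set p2 : G ⊗ (G ⊗ T) ⟶ G := snd _ _ ≫ fst _ _
    set p3 : G ⊗ (G ⊗ T) ⟶ T := snd _ _ ≫ snd _ _
    have hl : (G ◁ (CoactBr.pt jA ▷ T)) ≫ (α_ G (ThetaS.Line R) T).inv ≫ ((ThetaS.lineAction R).act ▷ T) =
        lift (p1 * p2) p3 ≫ (CoactBr.pt jA ▷ T) := by
      refine CartesianMonoidalCategory.hom_ext _ _ ?_ ?_
      · simp only [Category.assoc, whiskerRight_fst]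
        have : (G ◁ (CoactBr.pt jA ▷ T)) ≫ (α_ G (ThetaS.Line R) T).inv ≫ fst _ _ =
            lift p1 (p2 ≫ CoactBr.pt jA) := by
          refine CartesianMonoidalCategory.hom_ext _ _ ?_ ?_ <;> simp [p1, p2] <;> rfl
        rw [reassoc_of% this, hact, lift_fst_assoc]
      · simp [p3]; erw [associator_inv_snd]; simp; rfl
    have hmul : ∀ (g h : G ⊗ (G ⊗ T) ⟶ G) (y : G ⊗ (G ⊗ T) ⟶ X),
        lift (g * h) y ≫ a.act = lift g (lift h y ≫ a.act) ≫ a.act := by
      intro g h y
      have := congrArg (fun w => lift (lift g h) y ≫ w) a.mul_act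
      simp only [lift_whiskerRight_assoc, ← Hom.mul_def] at this
      erw [lift_lift_associator_hom_assoc, lift_whiskerLeft_assoc] at this
      exact this
    rw [reassoc_of% hl, hu, ← Category.assoc (lift _ _), lift_whiskerLeft, hmul, ← Category.assoc (G ◁ _),
      ← MonoidalCategory.whiskerLeft_comp, hu, MonoidalCategory.whiskerLeft_comp, Category.assoc]
    have : (G ◁ (G ◁ x)) ≫ (G ◁ a.act) = lift p1 (lift p2 (p3 ≫ x) ≫ a.act) := by
      refine CartesianMonoidalCategory.hom_ext _ _ ?_ ?_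
      · simp [p1]
      · simp only [Category.assoc, whiskerLeft_snd, whiskerLeft_snd_assoc, lift_snd]
        rw [← Category.assoc]
        congr 1
        refine CartesianMonoidalCategory.hom_ext _ _ ?_ ?_ <;> simp [p2, p3]
    simp only [p3, Category.assoc] at this
    exact (congrArg (· ≫ a.act) this).symm

end Groth.Agent.S19039
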