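import Groth.Statements.S1904
import Groth.Agent.L22.Cyc.P1Graph
-- import your own Groth.Agent.* helpers here

set_option autoImplicit false
universe u
open CategoryTheory AlgebraicGeometry
open CategoryTheory.Limits
open Cyc

namespace Groth.Agent.S1904

/-- Let X be integral with δ(η) = n, U ⊆ X a nonempty open and f an invertible function on U, viewed as
a rational function on X. Let Y ⊆ P^1_X be the scheme-theoretic closure of the graph of f and Y_0,
Y_∞ → X its pullbacks along the sections at 0 and ∞. Then div_X(f) = [Y_0]_{n−1} − [Y_∞]_{n−1}
coefficientwise. A pair (X, δ) with Cyc.IsSetup plays the role of a scheme locally of finite type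
over a fixed base with a dimension function (X locally Noetherian with universally catenary local
rings, δ a dimension function), and Cyc.DeltaCompat records that the dimension function upstairs is
the induced one. The published statement has further parts, which are not stated here. -/
theorem result (X : Scheme.{u}) [IsIntegral X] (δ : X → ℤ) (hX : Cyc.IsSetup X δ) (n : ℤ) (hn : δ (genericPoint X) = n) (U : X.Opens) (hη : genericPoint X ∈ U) (f : Γ(X, U)) (hf : IsUnit f) : Cyc.divFun δ (genericPoint X) (X.evaluation U (genericPoint X) hη f) = fun x => Cyc.subschemeFun δ (n - 1) (pullback.snd (P1.graphClosureι X U f) (P1.sect X 0)) x - Cyc.subschemeFun δ (n - 1) (pullback.snd (P1.graphClosureι X U f) (P1.sect X 1)) x := by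
  funext x
  exact Groth.L22.P1Graph.divFun_eq U f δ hX n hn hη hf x

end Groth.Agent.S1904
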