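import Groth.Statements.S19043
import Groth.Agent.L13.Dieu.Gc

set_option autoImplicit false
universe u
open Dieu

namespace Groth.Agent.S19043

/-- Let `k` be a perfect field of characteristic `2` and `c` a natural number, and let `M` be the
explicit `2c`-dimensional `k`-space on `X_1, …, X_c, Y_1, …, Y_c` with its operators `F` and `V` (`F
Y_j = 0`; `F X_j = X_{j/2}` for `j` even and `Y_{c-(j-1)/2}` for `j` odd; `V Y_j = Y_{2j}` when `2j
≤ c`, else `0`; `V X_j = Y_{2c-2j+1}` when `2j > c`, else `0`). The classes of the `X_j` with `c <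
2j ≤ 2c` in the quotient of `M` by the `k`-span of `F(M) ∪ V(M)` are linearly independent and span
that quotient. (Stated over any perfect field of characteristic `2`; the source works over an
algebraically closed one.) -/
theorem result (c : ℕ) (k : Type u) [Field k] [CharP k 2] [PerfectRing k 2] :
    LinearIndependent k (fun j : {j : ℕ // c < 2 * j ∧ j ≤ c} =>
        Submodule.mkQ (Submodule.span k (Set.range (W4c6eohyperellchar2.F c k) ∪ Set.range (W4c6eohyperellchar2.V c k))) (W4c6eohyperellchar2.X c k j.1)) ∧
      Submodule.span k (Set.range (fun j : {j : ℕ // c < 2 * j ∧ j ≤ c} =>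
        Submodule.mkQ (Submodule.span k (Set.range (W4c6eohyperellchar2.F c k) ∪ Set.range (W4c6eohyperellchar2.V c k))) (W4c6eohyperellchar2.X c k j.1))) = ⊤ := by
  set W := Submodule.span k (Set.range (W4c6eohyperellchar2.F c k) ∪ Set.range (W4c6eohyperellchar2.V c k)) with hW
  have hhigh : ∀ w ∈ W, ∀ j, c < 2 * j → W4c6eohyperellchar2.coefX w j = 0 := by
    intro w hw j hj
    unfold W4c6eohyperellchar2.coefX
    split_ifs with h
    · induction hw using Submodule.span_induction with
      | mem x hx =>
        rcases hx with ⟨v, rfl⟩ | ⟨v, rfl⟩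
        · show W4c6eohyperellchar2.coefX v _ ^ 2 = 0
          unfold W4c6eohyperellchar2.coefX
          rw [dif_neg (fun h' => by simp only at h'; omega)]
          simp
        · rfl
      | zero => rfl
      | add x y _ _ hx hy => show x.1 _ + y.1 _ = 0; rw [hx, hy, add_zero]
      | smul a x _ hx => show a • x.1 _ = 0; rw [hx, smul_zero]
    · rfl
  refine ⟨linearIndependent_iff'.mpr fun s g hg j hj => ?_, ?_⟩
  · have hmem : ∑ i ∈ s, g i • W4c6eohyperellchar2.X c k i.1 ∈ W := by
      rw [← Submodule.Quotient.mk_eq_zero, ← Submodule.mkQ_apply, map_sum]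
      simpa only [map_smul] using hg
    have h := hhigh _ hmem j.1 j.2.1
    unfold W4c6eohyperellchar2.coefX at h
    rw [dif_pos ⟨by have := j.2.1; omega, j.2.2⟩, Prod.fst_sum, Finset.sum_apply,
      Finset.sum_eq_single j] at h
    · simpa [W4c6eohyperellchar2.X, show j.1 - 1 + 1 = j.1 by have := j.2.1; omega] using h
    · intro b _ hb
      have := j.2.1
      simp only [W4c6eohyperellchar2.X, Prod.smul_fst, Pi.smul_apply, smul_eq_mul]
      rw [if_neg, mul_zero]
      exact fun h' => hb (Subtype.ext (by omega))
    · exact fun h' => absurd hj h'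
  · set S := Submodule.span k (Set.range fun j : {j : ℕ // c < 2 * j ∧ j ≤ c} =>
        Submodule.mkQ W (W4c6eohyperellchar2.X c k j.1))
    have hN : Submodule.comap W.mkQ S = ⊤ := by
      refine L13.Dieu.eq_top_of_basis _ (fun n h1 h2 => ?_) (fun m h1 h2 => ?_)
      · rw [Submodule.mem_comap]
        by_cases h : c < 2 * n
        · exact Submodule.subset_span ⟨⟨n, h, h2⟩, rfl⟩
        · rw [Submodule.mkQ_apply, (Submodule.Quotient.mk_eq_zero W).mpr]
          · exact zero_mem _
          · refine Submodule.subset_span (Or.inl ⟨W4c6eohyperellchar2.X c k (2 * n), ?_⟩)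
            rw [L13.Dieu.F_X_even (by omega) (by omega)]
            congr 1; omega
      · rw [Submodule.mem_comap, Submodule.mkQ_apply, (Submodule.Quotient.mk_eq_zero W).mpr]
        · exact zero_mem _
        · obtain ⟨n, ⟨_, _, hv⟩ | ⟨_, _, hv⟩⟩ := L13.Dieu.exists_V_eq_Y (c := c) (k := k) h1 h2
          · exact Submodule.subset_span (Or.inr ⟨_, hv⟩)
          · exact Submodule.subset_span (Or.inr ⟨_, hv⟩)
    refine Submodule.eq_top_iff'.mpr fun q => ?_
    obtain ⟨v, rfl⟩ := Submodule.mkQ_surjective W q
    have : v ∈ Submodule.comap W.mkQ S := hN ▸ Submodule.mem_top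
    exact this

end Groth.Agent.S19043
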