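import Groth.Statements.S19044
import Groth.Agent.L26.FF.ASDiff

set_option autoImplicit false
universe u v w
open FunFld

namespace Groth.Agent.S19044

open Groth.Agent.FF

section
open Polynomial
variable {k : Type*} [Field k]

theorem card_odd_half (n : ℕ) (hn : Odd n) :
    Nat.card {j : ℕ // 1 ≤ j ∧ 2 * j + 1 ≤ n} = (n - 1) / 2 := by
  rw [Nat.card_congr (Equiv.subtypeEquivRight (q := fun j => j ∈ Finset.Icc 1 ((n - 1) / 2)) fun j => by
    obtain ⟨r, rfl⟩ := hn
    rw [Finset.mem_Icc]; omega), Nat.card_eq_fintype_card, Fintype.card_coe, Nat.card_Icc]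
  omega

theorem exists_place_at (β : k) :
    ∃ p : FunFld.Place k (RatFunc k), p.1 ((RatFunc.X : RatFunc k) - RatFunc.C β) < 1 := by
  obtain ⟨p, hp⟩ := exists_zero (isFF_ratFunc (k := k))
    (transcendental_algebraMap_poly (p := Polynomial.X - Polynomial.C β) (by simp))
  exact ⟨p, by rwa [map_sub, RatFunc.algebraMap_X, RatFunc.algebraMap_C] at hp⟩

theorem place_at_unique {β : k} {p p' : FunFld.Place k (RatFunc k)}
    (hp : p.1 ((RatFunc.X : RatFunc k) - RatFunc.C β) < 1) (hp' : p'.1 ((RatFunc.X : RatFunc k) - RatFunc.C β) < 1) :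
    p = p' := by
  rw [← RatFunc.algebraMap_X, ← RatFunc.algebraMap_C, ← map_sub] at hp hp'
  obtain ⟨a1, a2⟩ := val_fin_poly (irreducible_X_sub_C β) hp
  obtain ⟨b1, b2⟩ := val_fin_poly (irreducible_X_sub_C β) hp'
  refine eq_of_le fun z hz => ?_
  have hv : ∀ g : k[X], p.1 (algebraMap k[X] (RatFunc k) g) = p'.1 (algebraMap k[X] (RatFunc k) g) := by
    intro g
    rcases eq_or_ne g 0 with rfl | hg
    · simp
    obtain ⟨n, a, ha, rfl⟩ := WfDvdMonoid.max_power_factor hg (irreducible_X_sub_C β)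
    rw [map_mul, map_pow, map_mul, map_pow, map_mul, map_pow, a1, b1, a2 a ha, b2 a ha]
  rwa [← RatFunc.num_div_denom z, map_div₀, hv, hv, ← map_div₀, RatFunc.num_div_denom] at hz

end

/-- Let `k` be algebraically closed of characteristic `2` and `K = k(x, y)` with `y² + y = f(x)`, `K`
separable of degree `2` over `k(x)`; let `B ⊆ k` be a finite set containing `0` such that `f` has a
pole of odd order `d_α` at `x = α` for every `α ∈ B` and is integral at all other places of `k(x)`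
(so also at infinity), and put `c_α = (d_α - 1)/2`. Then the differentials `z dx` with `z = (x -
α)^{-(j+1)}` (`α ∈ B`, `1 ≤ j ≤ c_α`) and `z = α/(x(x-α))` (`α ∈ B`, `α ≠ 0`) are regular, this
family of `z` is linearly independent over `k`, and every `z` with `z dx` regular is a `k`-linear
combination of them; regularity is read through Laurent expansions over `k` at every place of `K`.
(Up to sign these are the forms `x_α^{j-1} dx_α` and `x_α^{-1} dx_α - x_0^{-1} dx_0` with `x_α = (x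
- α)^{-1}`.) -/
theorem result (k : Type u) (K : Type v)
    [Field k] [IsAlgClosed k] [CharP k 2] [Field K] [Algebra k K] [Algebra (RatFunc k) K] [IsScalarTower k (RatFunc k) K]
    (hK : FunFld.IsFunctionField k K) (hdeg : Module.finrank (RatFunc k) K = 2) [Algebra.IsSeparable (RatFunc k) K]
    (y : K) (hy : y ∉ Set.range (algebraMap (RatFunc k) K)) (f : RatFunc k)
    (heq : y ^ 2 + y = algebraMap (RatFunc k) K f)
    (B : Finset k) (h0 : (0 : k) ∈ B) (d : k → ℕ) (hd : ∀ α ∈ B, Odd (d α))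
    (hpole : ∀ (p : FunFld.Place k (RatFunc k)) (α : k), α ∈ B →
      p.1 ((RatFunc.X : RatFunc k) - RatFunc.C α) < 1 → p.ord f = -(d α : ℤ))
    (hint : ∀ p : FunFld.Place k (RatFunc k), (∀ α ∈ B, 1 ≤ p.1 ((RatFunc.X : RatFunc k) - RatFunc.C α)) → p.1 f ≤ 1)
    (F : FunFld.Place k K → Type w) [∀ P, Field (F P)] [∀ P, Algebra k (F P)] [∀ P, FiniteDimensional k (F P)]
    (φ : ∀ P, K →ₐ[k] LaurentSeries (F P)) (hφ : ∀ P, LocRes.IsExpansionAt P.1 (φ P)) :
    (∀ i P, LocRes.vDiff (φ P) ((Sum.elim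
        (fun a : {a : ↥B × ℕ // 1 ≤ a.2 ∧ 2 * a.2 + 1 ≤ d (a.1 : k)} => algebraMap (RatFunc k) K (((RatFunc.X : RatFunc k) - RatFunc.C (a.1.1 : k))⁻¹ ^ (a.1.2 + 1)))
        (fun b : {b : ↥B // (b : k) ≠ 0} => algebraMap (RatFunc k) K (RatFunc.C (b.1 : k) / ((RatFunc.X : RatFunc k) * ((RatFunc.X : RatFunc k) - RatFunc.C (b.1 : k)))))) i) (algebraMap (RatFunc k) K RatFunc.X) ≤ 1) ∧
    LinearIndependent k (Sum.elim
        (fun a : {a : ↥B × ℕ // 1 ≤ a.2 ∧ 2 * a.2 + 1 ≤ d (a.1 : k)} => algebraMap (RatFunc k) K (((RatFunc.X : RatFunc k) - RatFunc.C (a.1.1 : k))⁻¹ ^ (a.1.2 + 1)))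
        (fun b : {b : ↥B // (b : k) ≠ 0} => algebraMap (RatFunc k) K (RatFunc.C (b.1 : k) / ((RatFunc.X : RatFunc k) * ((RatFunc.X : RatFunc k) - RatFunc.C (b.1 : k)))))) ∧
    ∀ z : K, (∀ P, LocRes.vDiff (φ P) z (algebraMap (RatFunc k) K RatFunc.X) ≤ 1) →
      z ∈ Submodule.span k (Set.range (Sum.elim
        (fun a : {a : ↥B × ℕ // 1 ≤ a.2 ∧ 2 * a.2 + 1 ≤ d (a.1 : k)} => algebraMap (RatFunc k) K (((RatFunc.X : RatFunc k) - RatFunc.C (a.1.1 : k))⁻¹ ^ (a.1.2 + 1)))
        (fun b : {b : ↥B // (b : k) ≠ 0} => algebraMap (RatFunc k) K (RatFunc.C (b.1 : k) / ((RatFunc.X : RatFunc k) * ((RatFunc.X : RatFunc k) - RatFunc.C (b.1 : k))))))) := by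
  classical
  have hR : FunFld.IsFunctionField k (RatFunc k) := isFunctionField_ratFunc
  choose pl hpl using fun β : k => exists_place_at (k := k) β
  have hford : ∀ β ∈ B, (pl β).ord f = -(d β : ℤ) := fun β hβ => hpole _ β hβ (hpl β)
  have hother : ∀ α β : k, α ≠ β → (pl α).1 ((RatFunc.X : RatFunc k) - RatFunc.C β) = 1 := fun α β hne => by
    have hc : (pl α).1 (RatFunc.C (α - β)) = 1 := by
      rw [← RatFunc.algebraMap_eq_C]; exact val_const _ (sub_ne_zero.2 hne)
    rw [show (RatFunc.X : RatFunc k) - RatFunc.C β = (RatFunc.X - RatFunc.C α) + RatFunc.C (α - β) by rw [map_sub]; ring,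
      Valuation.map_add_eq_of_lt_right _ (by rw [hc]; exact hpl α), hc]
  have hpl_inj : Function.Injective pl := fun α β h => by
    by_contra hne
    exact (hother α β hne).not_lt (by rw [h]; exact hpl β)
  have hexp : ∀ β : k, (pl β).1 ((RatFunc.X : RatFunc k) - RatFunc.C β) = WithZero.exp (-1 : ℤ) := fun β => by
    rw [val_eq_exp _ (AS2.X_sub_C_ne β), AS2.ord_X_sub_C (hpl β)]
  obtain ⟨pinf, hinf⟩ := AS2.exists_inf (k := k)
  have hXinf : pinf.1 (RatFunc.X : RatFunc k) = WithZero.exp (1 : ℤ) := by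
    rw [val_eq_exp _ RatFunc.X_ne_zero, (inf_place hinf).1, neg_neg]
  have hinfC : ∀ β : k, pinf.1 ((RatFunc.X : RatFunc k) - RatFunc.C β) = WithZero.exp (1 : ℤ) := fun β => by
    rw [Valuation.map_sub_eq_of_lt_left _ ?_, hXinf]
    rw [← RatFunc.algebraMap_eq_C, hXinf]
    exact (pinf.2.1 β).trans_lt (by rw [← WithZero.exp_zero, WithZero.exp_lt_exp]; norm_num)
  have hpl_fin : ∀ β, pl β ≠ pinf := fun β h => by
    have := hpl β; rw [h, hinfC, exp_lt_one'] at this; omega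
  have hpl_all : ∀ p : FunFld.Place k (RatFunc k), p.ord f < 0 → ∃ β ∈ B, p = pl β := by
    intro p hp
    by_contra hc
    push Not at hc
    have hle : p.1 f ≤ 1 := hint p fun β hβ => not_lt.1 fun h => hc β hβ (place_at_unique h (hpl β))
    rcases eq_or_ne f 0 with rfl | hf0
    · rw [ord_zero] at hp; omega
    · exact absurd ((val_le_one_iff p hf0).1 hle) (by omega)
  have hodd : ∀ p : FunFld.Place k (RatFunc k), p.ord f < 0 → Odd (p.ord f) := fun p hp => by
    obtain ⟨β, hβ, rfl⟩ := hpl_all p hp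
    rw [hford β hβ]; exact ((hd β hβ).natCast).neg
  let E : FunFld.Divisor k (RatFunc k) := ∑ β ∈ B, Finsupp.single (pl β) ((((d β + 1) / 2 : ℕ) : ℤ))
  have hE : ∀ p, E p = if p.ord f < 0 then (1 - p.ord f) / 2 else 0 := fun p => by
    rw [Finsupp.finsetSum_apply]
    split_ifs with hp
    · obtain ⟨β, hβ, rfl⟩ := hpl_all p hp
      rw [Finset.sum_eq_single_of_mem β hβ fun γ _ hne => Finsupp.single_eq_of_ne
        (fun h => hne (hpl_inj h.symm)), Finsupp.single_eq_same, hford β hβ]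
      obtain ⟨r, hr⟩ := hd β hβ
      rw [hr]; push_cast; omega
    · refine Finset.sum_eq_zero fun β hβ => Finsupp.single_eq_of_ne ?_
      rintro rfl
      exact hp (by rw [hford β hβ]; have := (hd β hβ).pos; omega)
  obtain ⟨hreg, hell, hdegE⟩ := AS2.regular_iff hK hdeg hy heq hodd hE hinf F φ hφ
  have hEB : ∀ β ∈ B, E (pl β) = (((d β + 1) / 2 : ℕ) : ℤ) := fun β hβ => by
    rw [Finsupp.finsetSum_apply, Finset.sum_eq_single_of_mem β hβ fun γ _ hne => Finsupp.single_eq_of_ne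
      (fun h => hne (hpl_inj h.symm)), Finsupp.single_eq_same]
  have hE0 : (0 : FunFld.Divisor k (RatFunc k)) ≤ E := fun p => by
    rw [hE]; split_ifs with h <;> simp; omega
  -- the family
  let I := {a : ↥B × ℕ // 1 ≤ a.2 ∧ 2 * a.2 + 1 ≤ d (a.1 : k)} ⊕ {b : ↥B // (b : k) ≠ 0}
  let bp : I → k := Sum.elim (fun a => (a.1.1 : k)) (fun b => (b.1 : k))
  let ex : I → ℕ := Sum.elim (fun a => a.1.2 + 1) (fun _ => 1)
  let r : I → RatFunc k := Sum.elim
    (fun a => ((RatFunc.X : RatFunc k) - RatFunc.C (a.1.1 : k))⁻¹ ^ (a.1.2 + 1))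
    (fun b => RatFunc.C (b.1 : k) / ((RatFunc.X : RatFunc k) * ((RatFunc.X : RatFunc k) - RatFunc.C (b.1 : k))))
  have hrv : (Sum.elim
      (fun a : {a : ↥B × ℕ // 1 ≤ a.2 ∧ 2 * a.2 + 1 ≤ d (a.1 : k)} => algebraMap (RatFunc k) K (((RatFunc.X : RatFunc k) - RatFunc.C (a.1.1 : k))⁻¹ ^ (a.1.2 + 1)))
      (fun b : {b : ↥B // (b : k) ≠ 0} => algebraMap (RatFunc k) K (RatFunc.C (b.1 : k) / ((RatFunc.X : RatFunc k) * ((RatFunc.X : RatFunc k) - RatFunc.C (b.1 : k)))))) =
      algebraMap (RatFunc k) K ∘ r := (Sum.comp_elim _ _ _).symm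
  rw [hrv]
  have hX : (RatFunc.X : RatFunc k) = RatFunc.X - RatFunc.C 0 := by rw [map_zero, sub_zero]
  -- values at the places of `B`
  have hself : ∀ i, (pl (bp i)).1 (r i) = WithZero.exp ((ex i : ℤ)) := by
    rintro (a | ⟨b, hb⟩)
    · show (pl (a.1.1 : k)).1 (((RatFunc.X : RatFunc k) - RatFunc.C (a.1.1 : k))⁻¹ ^ (a.1.2 + 1)) = _
      rw [map_pow, map_inv₀, hexp, ← WithZero.exp_neg, ← WithZero.exp_nsmul]; simp [ex]
    · show (pl (b : k)).1 (RatFunc.C (b : k) / (RatFunc.X * (RatFunc.X - RatFunc.C (b : k)))) = _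
      have hcb : (pl (b : k)).1 (RatFunc.C (b : k)) = 1 := by rw [← RatFunc.algebraMap_eq_C]; exact val_const _ hb
      rw [map_div₀, map_mul, hexp, hX, hother _ _ hb, one_mul, hcb, one_div, ← WithZero.exp_neg]
      rfl
  have hoff : ∀ i (p : FunFld.Place k (RatFunc k)), p ≠ pinf → p ≠ pl (bp i) →
      p.1 (r i) ≤ WithZero.exp (if p = pl 0 then (1 : ℤ) else 0) ∧ (∀ a, i = Sum.inl a → p.1 (r i) ≤ 1) := by
    intro i p hpi hp
    have hX1 : p.1 (RatFunc.X : RatFunc k) ≤ 1 := by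
      by_contra hc
      exact hpi (AS2.inf_unique (not_le.1 fun h => hc ((val_le_one_iff p RatFunc.X_ne_zero).2 h)) hinf)
    have hC : ∀ c : k, p.1 (RatFunc.C c) ≤ 1 := fun c => by rw [← RatFunc.algebraMap_eq_C]; exact p.2.1 c
    have hone : p.1 ((RatFunc.X : RatFunc k) - RatFunc.C (bp i)) = 1 :=
      le_antisymm (p.1.map_sub_le hX1 (hC _)) (not_lt.1 fun h => hp (place_at_unique h (hpl _)))
    rcases i with a | ⟨b, hb⟩
    · have h1 : p.1 (r (Sum.inl a)) ≤ 1 := by
        show p.1 (((RatFunc.X : RatFunc k) - RatFunc.C (a.1.1 : k))⁻¹ ^ (a.1.2 + 1)) ≤ 1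
        rw [map_pow, map_inv₀, show p.1 ((RatFunc.X : RatFunc k) - RatFunc.C (a.1.1 : k)) = 1 from hone, inv_one, one_pow]
      refine ⟨h1.trans ?_, fun _ _ => h1⟩
      rw [← WithZero.exp_zero, WithZero.exp_le_exp]; split_ifs <;> norm_num
    · refine ⟨?_, fun _ h => by cases h⟩
      show p.1 (RatFunc.C (b : k) / (RatFunc.X * (RatFunc.X - RatFunc.C (b : k)))) ≤ _
      rw [map_div₀, map_mul, show p.1 ((RatFunc.X : RatFunc k) - RatFunc.C (b : k)) = 1 from hone, mul_one]
      refine (div_le_div_of_nonneg_right (hC _) zero_le).trans ?_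
      split_ifs with h0p
      · subst h0p
        rw [hX, hexp, one_div, ← WithZero.exp_neg]
        rfl
      · have : p.1 (RatFunc.X : RatFunc k) = 1 := le_antisymm hX1 (not_lt.1 fun h => h0p (place_at_unique (by rwa [hX] at h) (hpl 0)))
        rw [this, div_one, WithZero.exp_zero]
  have hexd : ∀ i, 2 * ex i ≤ d (bp i) + 1 := by
    rintro (a | b)
    · have := a.2.2; simp only [ex, bp, Sum.elim_inl]; omega
    · have := (hd _ b.1.2).pos; simp only [ex, bp, Sum.elim_inr]; omega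
  have hbB : ∀ i, bp i ∈ B := by rintro (a | b) <;> simp [bp]
  have hmem : ∀ i, r i ∈ FunFld.L (E - Finsupp.single pinf 2) := fun i p => by
    rw [Finsupp.sub_apply, Finsupp.single_apply]
    rcases eq_or_ne p pinf with rfl | hpi
    · rw [if_pos rfl]
      refine le_trans ?_ (WithZero.exp_le_exp.2 (show (-2 : ℤ) ≤ E p - 2 by have := hE0 p; simp only [Finsupp.zero_apply] at this; omega))
      rcases i with a | b
      · show p.1 (((RatFunc.X : RatFunc k) - RatFunc.C (a.1.1 : k))⁻¹ ^ (a.1.2 + 1)) ≤ _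
        rw [map_pow, map_inv₀, hinfC, ← WithZero.exp_neg, ← WithZero.exp_nsmul, WithZero.exp_le_exp]
        have := a.2.1; simp; omega
      · show p.1 (RatFunc.C (b.1 : k) / (RatFunc.X * (RatFunc.X - RatFunc.C (b.1 : k)))) ≤ _
        rw [map_div₀, map_mul, hinfC, hXinf]
        refine (div_le_div_of_nonneg_right (show p.1 (RatFunc.C (b.1 : k)) ≤ 1 by
          rw [← RatFunc.algebraMap_eq_C]; exact p.2.1 _) zero_le).trans_eq ?_
        rw [one_div, ← WithZero.exp_add, ← WithZero.exp_neg]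
        rfl
    rw [if_neg (Ne.symm hpi), sub_zero]
    by_cases hp : p = pl (bp i)
    · subst hp
      rw [hself, hEB _ (hbB i), WithZero.exp_le_exp]
      have := hexd i; omega
    · refine (hoff i p hpi hp).1.trans (WithZero.exp_le_exp.2 ?_)
      split_ifs with h
      · rw [h, hEB 0 h0]; have := (hd 0 h0).pos; omega
      · exact hE0 p
  -- independence
  have hbe : Function.Injective fun i => (bp i, ex i) := by
    rintro (⟨⟨⟨a, ha⟩, j⟩, hj⟩ | ⟨⟨b, hb⟩, hb'⟩) (⟨⟨⟨a', ha'⟩, j'⟩, hj'⟩ | ⟨⟨b', hb''⟩, hb'''⟩) h <;>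
      simp only [bp, ex, Sum.elim_inl, Sum.elim_inr, Prod.mk.injEq] at h
    · obtain ⟨rfl, h'⟩ := h
      obtain rfl : j = j' := by omega
      rfl
    · have := hj.1; simp only at this; omega
    · have := hj'.1; simp only at this; omega
    · obtain ⟨rfl, -⟩ := h; rfl
  have hli : LinearIndependent k r := by
    rw [linearIndependent_iff']
    intro s c hc i₁ hi₁
    by_contra hne
    obtain ⟨i₀, hi₀, hmax⟩ := Finset.exists_max_image (s.filter fun i => c i ≠ 0 ∧ bp i = bp i₁) ex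
      ⟨i₁, by simp [hi₁, hne]⟩
    simp only [Finset.mem_filter] at hi₀
    obtain ⟨hi₀s, hc₀, hb₀⟩ := hi₀
    have hval : ∀ i, (pl (bp i₁)).1 (c i • r i) ≤ (pl (bp i₁)).1 (r i) := fun i => by
      rw [Algebra.smul_def, map_mul]; exact mul_le_of_le_one_left' ((pl (bp i₁)).2.1 _)
    have htop : (pl (bp i₁)).1 (c i₀ • r i₀) = WithZero.exp ((ex i₀ : ℤ)) := by
      rw [Algebra.smul_def, map_mul, val_const _ hc₀, one_mul, ← hb₀, hself]
    have hsum : (pl (bp i₁)).1 (∑ i ∈ s, c i • r i) = WithZero.exp ((ex i₀ : ℤ)) := by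
      rw [← htop]
      refine Valuation.map_sum_eq_of_lt _ hi₀s fun i hi => ?_
      rw [Finset.mem_sdiff, Finset.mem_singleton] at hi
      rw [htop]
      rcases eq_or_ne (c i) 0 with hci | hci
      · rw [hci, zero_smul, map_zero]; exact WithZero.exp_pos
      refine (hval i).trans_lt ?_
      by_cases hb : bp i = bp i₁
      · rw [← hb, hself, WithZero.exp_lt_exp]
        have h1 := hmax i (by simp [hi.1, hci, hb])
        have h2 : ex i ≠ ex i₀ := fun h => hi.2 (hbe (Prod.ext (hb.trans hb₀.symm) h))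
        omega
      · obtain ⟨h1, h2⟩ := hoff i (pl (bp i₁)) (hpl_fin _) (fun h => hb (hpl_inj h.symm))
        have he1 : 1 ≤ ex i₀ := by rcases i₀ with a | b <;> simp [ex]
        rcases eq_or_ne (bp i₁) 0 with hz | hz
        · have h3 : 2 ≤ ex i₀ := by
            rcases i₀ with a | b
            · have := a.2.1; simp only [ex, Sum.elim_inl]; omega
            · exact absurd (hb₀.trans hz) b.2
          refine h1.trans_lt (WithZero.exp_lt_exp.2 ?_)
          split_ifs <;> omega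
        · refine h1.trans_lt (WithZero.exp_lt_exp.2 ?_)
          rw [if_neg (fun h => hz (hpl_inj h))]; omega
    rw [hc, map_zero] at hsum
    exact WithZero.exp_ne_zero hsum.symm
  let η : RatFunc k →ₗ[k] K := (IsScalarTower.toAlgHom k (RatFunc k) K).toLinearMap
  refine ⟨fun i P => (hreg _).2 ⟨r i, hmem i, rfl⟩ P,
    hli.map' η (LinearMap.ker_eq_bot.2 (algebraMap (RatFunc k) K).injective), fun z hz => ?_⟩
  obtain ⟨s, hs, rfl⟩ := (hreg z).1 hz
  -- counting
  let e1 : {a : ↥B × ℕ // 1 ≤ a.2 ∧ 2 * a.2 + 1 ≤ d (a.1 : k)} ≃ Σ β : ↥B, {j : ℕ // 1 ≤ j ∧ 2 * j + 1 ≤ d (β : k)} :=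
    { toFun := fun a => ⟨a.1.1, a.1.2, a.2⟩
      invFun := fun b => ⟨(b.1, b.2.1), b.2.2⟩
      left_inv := fun a => rfl
      right_inv := fun b => rfl }
  have hfinA : ∀ β : ↥B, Finite {j : ℕ // 1 ≤ j ∧ 2 * j + 1 ≤ d (β : k)} := fun β =>
    Set.Finite.to_subtype ((Set.finite_Iic (d (β : k))).subset fun j hj => by simp only [Set.mem_Iic]; have := hj.2; omega)
  have : Finite {a : ↥B × ℕ // 1 ≤ a.2 ∧ 2 * a.2 + 1 ≤ d (a.1 : k)} := Finite.of_equiv _ e1.symm
  let _ : Fintype I := Fintype.ofFinite I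
  have hEdeg : E.deg = ∑ β ∈ B, (((d β + 1) / 2 : ℕ) : ℤ) := by
    rw [deg_sum]
    exact Finset.sum_congr rfl fun β _ => by rw [deg_single, deg_eq_one hR]; simp
  have hcard : (Fintype.card I : ℤ) = (FunFld.ell (E - Finsupp.single pinf 2) : ℤ) := by
    rw [hell, ← add_right_cancel_iff (a := (1 : ℤ)), ← hdegE, hEdeg, ← Nat.card_eq_fintype_card, Nat.card_sum,
      Nat.card_congr e1, Nat.card_sigma,
      Nat.card_eq_fintype_card (α := {b : ↥B // (b : k) ≠ 0}), Fintype.card_subtype_compl,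
      show Fintype.card {b : ↥B // (b : k) = 0} = 1 from Fintype.card_eq_one_iff.2
        ⟨⟨⟨0, h0⟩, rfl⟩, fun b => Subtype.ext (Subtype.ext b.2)⟩, Fintype.card_coe,
      Finset.sum_congr rfl fun (β : ↥B) _ => card_odd_half (d (β : k)) (hd _ β.2),
      Finset.univ_eq_attach, Finset.sum_attach B (fun β => (d β - 1) / 2)]
    have h1 : ∑ β ∈ B, (d β + 1) / 2 = ∑ β ∈ B, ((d β - 1) / 2 + 1) :=
      Finset.sum_congr rfl fun β hβ => by obtain ⟨r, hr⟩ := hd β hβ; omega
    rw [Finset.sum_add_distrib, Finset.sum_const, smul_eq_mul, mul_one] at h1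
    have := Finset.card_pos.2 ⟨0, h0⟩
    rw [← Nat.cast_sum, h1]
    push_cast
    omega
  have := finite_L hR.1 (E - Finsupp.single pinf 2)
  have hspan : Submodule.span k (Set.range r) = FunFld.L (E - Finsupp.single pinf 2) := by
    refine Submodule.eq_of_le_of_finrank_eq (Submodule.span_le.2 (by rintro _ ⟨i, rfl⟩; exact hmem i)) ?_
    rw [finrank_span_eq_card hli]
    exact_mod_cast hcard
  rw [Set.range_comp]
  show η s ∈ Submodule.span k (η '' Set.range r)
  rw [← Submodule.map_span, hspan]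
  exact Submodule.mem_map_of_mem hs

end Groth.Agent.S19044
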