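import Groth.Statements.S19045
import Groth.Agent.L26.FF.ASChar2Rat

set_option autoImplicit false
universe u v
open FunFld

namespace Groth.Agent.S19045

open Groth.Agent.FF

/-- Let `k` be algebraically closed of characteristic `2` and `K = k(x, y)` with `y² + y = f(x)`, `K`
separable of degree `2` over `k(x)`; let `B ⊆ k` be a finite set containing `0` such that `f` has a
pole of odd order `d_β` at `x = β` for every `β ∈ B` and is integral at all other places of `k(x)`.
Then `y` is integral at the places of `K` above `x = ∞` and has order `0` at one of them, and for `α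
∈ B` and `j ∈ ℤ` the divisor of poles of `y (x - α)^j` consists of: order `max(d_α - 2j, 0)` at the
place above `α`, order exactly `d_β` above every other `β ∈ B`, order `max(j - ord_P y, 0)` at each
place `P` above `∞`, and nothing elsewhere. -/
theorem result (k : Type u) (K : Type v)
    [Field k] [IsAlgClosed k] [CharP k 2] [Field K] [Algebra k K] [Algebra (RatFunc k) K] [IsScalarTower k (RatFunc k) K]
    (hK : FunFld.IsFunctionField k K) (hdeg : Module.finrank (RatFunc k) K = 2) [Algebra.IsSeparable (RatFunc k) K]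
    (y : K) (hy : y ∉ Set.range (algebraMap (RatFunc k) K)) (f : RatFunc k)
    (heq : y ^ 2 + y = algebraMap (RatFunc k) K f)
    (B : Finset k) (h0 : (0 : k) ∈ B) (d : k → ℕ) (hd : ∀ β ∈ B, Odd (d β))
    (hpole : ∀ (p : FunFld.Place k (RatFunc k)) (β : k), β ∈ B →
      p.1 ((RatFunc.X : RatFunc k) - RatFunc.C β) < 1 → p.ord f = -(d β : ℤ))
    (hint : ∀ p : FunFld.Place k (RatFunc k), (∀ β ∈ B, 1 ≤ p.1 ((RatFunc.X : RatFunc k) - RatFunc.C β)) → p.1 f ≤ 1) :
    (∀ P : FunFld.Place k K, 1 < P.1 (algebraMap (RatFunc k) K RatFunc.X) → 0 ≤ P.ord y) ∧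
    (∃ P : FunFld.Place k K, 1 < P.1 (algebraMap (RatFunc k) K RatFunc.X) ∧ P.ord y = 0) ∧
    ∀ (α : k), α ∈ B → ∀ (j : ℤ) (P : FunFld.Place k K),
      (P.1 ((algebraMap (RatFunc k) K RatFunc.X) - (algebraMap k K α)) < 1 →
        max (-(P.ord (y * ((algebraMap (RatFunc k) K RatFunc.X) - (algebraMap k K α)) ^ j))) 0 = max ((d α : ℤ) - 2 * j) 0) ∧
      (∀ β : k, β ∈ B → β ≠ α → P.1 ((algebraMap (RatFunc k) K RatFunc.X) - (algebraMap k K β)) < 1 →
        P.ord (y * ((algebraMap (RatFunc k) K RatFunc.X) - (algebraMap k K α)) ^ j) = -(d β : ℤ)) ∧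
      (1 < P.1 (algebraMap (RatFunc k) K RatFunc.X) → max (-(P.ord (y * ((algebraMap (RatFunc k) K RatFunc.X) - (algebraMap k K α)) ^ j))) 0 = max (j - P.ord y) 0) ∧
      (P.1 (algebraMap (RatFunc k) K RatFunc.X) ≤ 1 → (∀ β : k, β ∈ B → 1 ≤ P.1 ((algebraMap (RatFunc k) K RatFunc.X) - (algebraMap k K β))) → 0 ≤ P.ord (y * ((algebraMap (RatFunc k) K RatFunc.X) - (algebraMap k K α)) ^ j)) := by
  have := AS2.finite_of_deg (F := RatFunc k) (K := K) hdeg
  have hy0 : y ≠ 0 := fun h => hy ⟨0, by rw [map_zero, h]⟩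
  have hinf : ∀ P : FunFld.Place k K, 1 < P.1 (algebraMap (RatFunc k) K RatFunc.X) → 0 ≤ P.ord y :=
    fun P hP => (val_le_one_iff P hy0).1 (AS2.at_inf hK hdeg hy heq hint hP).1
  refine ⟨hinf, ?_, fun α hα j P => ?_⟩
  · obtain ⟨Q, hQ⟩ := exists_pole hK.1 (transcendental_map (K' := K) (transcendental_ratFunc_X (k := k)))
    obtain ⟨hyle, -, Q', hQ', hv⟩ := AS2.at_inf hK hdeg hy heq hint hQ
    rcases hyle.lt_or_eq with h | h
    · refine ⟨Q', hQ', (val_eq_one_iff Q' hy0).1 ?_⟩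
      have := hv 0
      rwa [map_zero, add_zero, add_zero, Valuation.map_add_eq_of_lt_right _ (by rwa [map_one]), map_one] at this
    · exact ⟨Q, hQ, (val_eq_one_iff Q hy0).1 h⟩
  have hxα := AS2.x_sub_ne (K := K) α
  rw [AS2.ord_mul_zpow P hxα hy0]
  refine ⟨fun h => ?_, fun β hβ hne h => ?_, fun h => ?_, fun h hB => ?_⟩
  · obtain ⟨h1, h2, -⟩ := AS2.at_pole hdeg heq hd hpole hα h
    rw [h1, h2]; omega
  · obtain ⟨h1, -, -⟩ := AS2.at_pole hdeg heq hd hpole hβ h
    rw [h1, (val_eq_one_iff P hxα).1 (AS2.val_x_sub_other hne h)]; omega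
  · obtain ⟨-, h1, -⟩ := AS2.at_inf hK hdeg hy heq hint h
    rw [show P.ord (algebraMap (RatFunc k) K RatFunc.X - algebraMap k K α) = -1 by
      rw [← h1]; simp only [FunFld.Place.ord, AS2.val_x_sub_inf h α]]
    omega
  · have h1 := (val_le_one_iff P hy0).1 (AS2.val_y_off hK heq hint hdeg hB)
    rw [(val_eq_one_iff P hxα).1 (le_antisymm (P.1.map_sub_le h (P.2.1 α)) (hB α hα))]
    omega

end Groth.Agent.S19045
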