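import Groth.Statements.S19046
import Groth.Agent.L26.FF.ASChar2Rat

set_option autoImplicit false
universe u v
open Classical
open FunFld

namespace Groth.Agent.S19046

open Groth.Agent.FF

section
open Polynomial
variable {k K : Type*} [Field k] [Field K] [Algebra k K] [Algebra (RatFunc k) K] [IsScalarTower k (RatFunc k) K]

theorem ord_poly_le {p : FunFld.Place k (RatFunc k)} {α : k}
    (hp : p.1 ((RatFunc.X : RatFunc k) - RatFunc.C α) < 1) {g : k[X]} (hg : g ≠ 0) :
    p.ord (algebraMap k[X] (RatFunc k) g) ≤ g.natDegree := by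
  rw [← RatFunc.algebraMap_X, ← RatFunc.algebraMap_C, ← map_sub] at hp
  obtain ⟨h1, h2⟩ := val_fin_poly (irreducible_X_sub_C α) hp
  obtain ⟨n, a, ha, rfl⟩ := WfDvdMonoid.max_power_factor hg (irreducible_X_sub_C α)
  have hv : p.1 (algebraMap k[X] (RatFunc k) ((Polynomial.X - Polynomial.C α) ^ n * a)) = WithZero.exp (-(n : ℤ)) := by
    rw [map_mul, map_pow, map_mul, map_pow, h1, h2 a ha, mul_one, ← WithZero.exp_nsmul]; simp
  have ha0 : a ≠ 0 := fun h => ha (h ▸ dvd_zero _)
  rw [ord_eq_of_val p hv, neg_neg, Polynomial.natDegree_mul (pow_ne_zero _ (X_sub_C_ne_zero α)) ha0,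
    natDegree_pow, natDegree_X_sub_C]
  omega

theorem card_odd_half (n : ℕ) (hn : Odd n) :
    Nat.card {j : ℕ // 1 ≤ j ∧ 2 * j + 1 ≤ n} = (n - 1) / 2 := by
  rw [Nat.card_congr (Equiv.subtypeEquivRight (q := fun j => j ∈ Finset.Icc 1 ((n - 1) / 2)) fun j => by
    obtain ⟨r, rfl⟩ := hn
    rw [Finset.mem_Icc]; omega), Nat.card_eq_fintype_card, Fintype.card_coe, Nat.card_Icc]
  omega

end

/-- Let `k` be algebraically closed of characteristic `2`, `K = k(x, y)` with `y² + y = f(x)` separable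
of degree `2` over `k(x)`, `B ⊆ k` a finite set containing `0` with `f` having a pole of odd order
`d_β` at `x = β` for `β ∈ B` and integral elsewhere, `c_β = (d_β - 1)/2`, and `P_β` a place of `K`
above `x = β`. Identify `H¹(X, O)` of the smooth projective model with the repartitions (adeles with
components in `K`) modulo `W = A(0) + K` (everywhere-integral repartitions plus constants), a Čech
class with defining component `h` at `β` corresponding to the repartition with component `h` at
`P_β` and `0` elsewhere. Then the repartitions supported at `P_α` with value `y (x - α)^j` (`α ∈ B`,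
`1 ≤ j ≤ c_α`) and with value `y` (`α ∈ B`, `α ≠ 0`) are adeles whose classes modulo `W` are
linearly independent over `k` and, together with `W`, span the adeles: they give a basis of `H¹(X,
O)`. -/
theorem result (k : Type u) (K : Type v)
    [Field k] [IsAlgClosed k] [CharP k 2] [Field K] [Algebra k K] [Algebra (RatFunc k) K] [IsScalarTower k (RatFunc k) K]
    (hK : FunFld.IsFunctionField k K) (hdeg : Module.finrank (RatFunc k) K = 2) [Algebra.IsSeparable (RatFunc k) K]
    (y : K) (hy : y ∉ Set.range (algebraMap (RatFunc k) K)) (f : RatFunc k)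
    (heq : y ^ 2 + y = algebraMap (RatFunc k) K f)
    (B : Finset k) (h0 : (0 : k) ∈ B) (d : k → ℕ) (hd : ∀ β ∈ B, Odd (d β))
    (hpole : ∀ (p : FunFld.Place k (RatFunc k)) (β : k), β ∈ B →
      p.1 ((RatFunc.X : RatFunc k) - RatFunc.C β) < 1 → p.ord f = -(d β : ℤ))
    (hint : ∀ p : FunFld.Place k (RatFunc k), (∀ β ∈ B, 1 ≤ p.1 ((RatFunc.X : RatFunc k) - RatFunc.C β)) → p.1 f ≤ 1)
    (Pl : k → FunFld.Place k K) (hPl : ∀ β ∈ B, (Pl β).1 ((algebraMap (RatFunc k) K RatFunc.X) - (algebraMap k K β)) < 1) :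
    (∀ i, (Sum.elim
        (fun a : {a : ↥B × ℕ // 1 ≤ a.2 ∧ 2 * a.2 + 1 ≤ d (a.1 : k)} =>
          (Pi.single (Pl (a.1.1 : k)) (y * ((algebraMap (RatFunc k) K RatFunc.X) - (algebraMap k K (a.1.1 : k))) ^ a.1.2) : FunFld.Place k K → K))
        (fun b : {b : ↥B // (b : k) ≠ 0} => (Pi.single (Pl (b.1 : k)) y : FunFld.Place k K → K))) i ∈ FunFld.adele k K) ∧
    LinearIndependent k (fun i => Submodule.mkQ (FunFld.AD (0 : FunFld.Divisor k K) ⊔ LinearMap.range (FunFld.diag k K)) ((Sum.elim
        (fun a : {a : ↥B × ℕ // 1 ≤ a.2 ∧ 2 * a.2 + 1 ≤ d (a.1 : k)} =>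
          (Pi.single (Pl (a.1.1 : k)) (y * ((algebraMap (RatFunc k) K RatFunc.X) - (algebraMap k K (a.1.1 : k))) ^ a.1.2) : FunFld.Place k K → K))
        (fun b : {b : ↥B // (b : k) ≠ 0} => (Pi.single (Pl (b.1 : k)) y : FunFld.Place k K → K))) i)) ∧
    ∀ a : FunFld.Place k K → K, a ∈ FunFld.adele k K →
      a ∈ (FunFld.AD (0 : FunFld.Divisor k K) ⊔ LinearMap.range (FunFld.diag k K)) ⊔ Submodule.span k (Set.range (Sum.elim
        (fun a : {a : ↥B × ℕ // 1 ≤ a.2 ∧ 2 * a.2 + 1 ≤ d (a.1 : k)} =>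
          (Pi.single (Pl (a.1.1 : k)) (y * ((algebraMap (RatFunc k) K RatFunc.X) - (algebraMap k K (a.1.1 : k))) ^ a.1.2) : FunFld.Place k K → K))
        (fun b : {b : ↥B // (b : k) ≠ 0} => (Pi.single (Pl (b.1 : k)) y : FunFld.Place k K → K)))) := by
  classical
  have := AS2.finite_of_deg (F := RatFunc k) (K := K) hdeg
  have : CharP K 2 := charP_of_injective_algebraMap (algebraMap k K).injective 2
  have hR : FunFld.IsFunctionField k (RatFunc k) := isFunctionField_ratFunc
  have hy0 : y ≠ 0 := fun h => hy ⟨0, by rw [map_zero, h]⟩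
  have hat := fun β (hβ : β ∈ B) => AS2.at_pole hdeg heq hd hpole hβ (hPl β hβ)
  let x : K := algebraMap (RatFunc k) K RatFunc.X
  -- the places of `k(x)` below the `Pl β`
  choose pl el hel using fun β => exists_below hR.1 (Pl β)
  have hplX : ∀ β ∈ B, (pl β).1 ((RatFunc.X : RatFunc k) - RatFunc.C β) < 1 := fun β hβ =>
    ((hel β).lt_one_iff _).1 (by rw [AS2.algebraMap_X_sub_C]; exact hPl β hβ)
  have hPinj : ∀ α ∈ B, ∀ β ∈ B, Pl α = Pl β → α = β := fun α hα β hβ h => by
    by_contra hne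
    exact (AS2.val_x_sub_other hne (hPl α hα)).not_lt (by rw [h]; exact hPl β hβ)
  have hpl_inj : ∀ α ∈ B, ∀ β ∈ B, pl α = pl β → α = β := fun α hα β hβ h => by
    refine hPinj α hα β hβ ((hat β hβ).2.2 (Pl α) ?_)
    rw [← AS2.algebraMap_X_sub_C]
    exact ((hel α).lt_one_iff _).2 (h ▸ hplX β hβ)
  have hpl_all : ∀ p : FunFld.Place k (RatFunc k), p.ord f < 0 → ∃ β ∈ B, p = pl β := by
    intro p hp
    by_contra hc
    push Not at hc
    have hle : p.1 f ≤ 1 := hint p fun β hβ => not_lt.1 fun h => by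
      obtain ⟨Q, e, he⟩ := AS2.exists_over (K := K) hR p
      have hQ : Q = Pl β := (hat β hβ).2.2 Q (by rw [← AS2.algebraMap_X_sub_C]; exact (he.lt_one_iff _).2 h)
      exact hc β hβ ((hQ ▸ he).unique (hel β)).1
    rcases eq_or_ne f 0 with rfl | hf0
    · rw [ord_zero] at hp; omega
    · exact absurd ((val_le_one_iff p hf0).1 hle) (by omega)
  have hford : ∀ β ∈ B, (pl β).ord f = -(d β : ℤ) := fun β hβ => hpole _ β hβ (hplX β hβ)
  have hodd : ∀ p : FunFld.Place k (RatFunc k), p.ord f < 0 → Odd (p.ord f) := fun p hp => by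
    obtain ⟨β, hβ, rfl⟩ := hpl_all p hp
    rw [hford β hβ]; exact ((hd β hβ).natCast).neg
  let E : FunFld.Divisor k (RatFunc k) := ∑ β ∈ B, Finsupp.single (pl β) ((((d β + 1) / 2 : ℕ) : ℤ))
  have hE : ∀ p, E p = if p.ord f < 0 then (1 - p.ord f) / 2 else 0 := fun p => by
    rw [Finsupp.finsetSum_apply]
    split_ifs with hp
    · obtain ⟨β, hβ, rfl⟩ := hpl_all p hp
      rw [Finset.sum_eq_single_of_mem β hβ fun γ hγ hne => Finsupp.single_eq_of_ne
        (fun h => hne ((hpl_inj γ hγ β hβ h.symm))), Finsupp.single_eq_same, hford β hβ]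
      obtain ⟨r, hr⟩ := hd β hβ
      rw [hr]; push_cast; omega
    · refine Finset.sum_eq_zero fun β hβ => Finsupp.single_eq_of_ne ?_
      rintro rfl
      exact hp (by rw [hford β hβ]; have := (hd β hβ).pos; omega)
  have hEdeg : E.deg = ∑ β ∈ B, (((d β + 1) / 2 : ℕ) : ℤ) := by
    rw [deg_sum]
    exact Finset.sum_congr rfl fun β _ => by rw [deg_single, deg_eq_one hR]; simp
  have hgenus : (FunFld.genus k K : ℤ) = E.deg - 1 := by
    rw [AS2.genus_eq hR hK hdeg hy heq hodd hE, genus_eq_zero_of_adjoin_eq_top hR RatFunc.adjoin_X]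
    simp
  -- the family
  let I := {a : ↥B × ℕ // 1 ≤ a.2 ∧ 2 * a.2 + 1 ≤ d (a.1 : k)} ⊕ {b : ↥B // (b : k) ≠ 0}
  let bp : I → k := Sum.elim (fun a => (a.1.1 : k)) (fun b => (b.1 : k))
  let ex : I → ℕ := Sum.elim (fun a => a.1.2) (fun _ => 0)
  set v : I → FunFld.Place k K → K := Sum.elim
    (fun a : {a : ↥B × ℕ // 1 ≤ a.2 ∧ 2 * a.2 + 1 ≤ d (a.1 : k)} =>
      (Pi.single (Pl (a.1.1 : k)) (y * (x - (algebraMap k K (a.1.1 : k))) ^ a.1.2) : FunFld.Place k K → K))
    (fun b : {b : ↥B // (b : k) ≠ 0} => (Pi.single (Pl (b.1 : k)) y : FunFld.Place k K → K)) with hv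
  have hveq : ∀ i, v i = Pi.single (Pl (bp i)) (y * (x - algebraMap k K (bp i)) ^ ex i) := by
    rintro (a | b)
    · rfl
    · simp [hv, bp, ex]
  have hbB : ∀ i, bp i ∈ B := by rintro (a | b) <;> simp [bp]
  have hexd : ∀ i, 2 * ex i + 1 ≤ d (bp i) := by
    rintro (a | b)
    · exact a.2.2
    · have := (hd _ b.1.2).pos; simp only [ex, bp, Sum.elim_inr]; omega
  have hbe : Function.Injective fun i => (bp i, ex i) := by
    rintro (⟨⟨⟨a, ha⟩, j⟩, hj⟩ | ⟨⟨b, hb⟩, hb'⟩) (⟨⟨⟨a', ha'⟩, j'⟩, hj'⟩ | ⟨⟨b', hb''⟩, hb'''⟩) h <;>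
      simp only [bp, ex, Sum.elim_inl, Sum.elim_inr, Prod.mk.injEq] at h
    · obtain ⟨rfl, rfl⟩ := h; rfl
    · have := hj.1; simp only at this; omega
    · have := hj'.1; simp only at this; omega
    · obtain ⟨rfl, -⟩ := h; rfl
  have hex0 : ∀ i, bp i = 0 → ex i ≠ 0 := by
    rintro (a | b) h
    · have := a.2.1; simp only [ex, Sum.elim_inl]; omega
    · exact absurd h b.2
  have hadele : ∀ i, v i ∈ FunFld.adele k K := fun i => by
    show ∀ᶠ P : FunFld.Place k K in Filter.cofinite, P.1 (v i P) ≤ 1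
    rw [Filter.eventually_cofinite]
    refine (Set.finite_singleton (Pl (bp i))).subset fun P hP => ?_
    by_contra hne
    exact hP (by rw [hveq, Pi.single_eq_of_ne hne, map_zero]; exact zero_le)
  set W := FunFld.AD (0 : FunFld.Divisor k K) ⊔ LinearMap.range (FunFld.diag k K) with hW
  have hli : LinearIndependent k (fun i => Submodule.mkQ W (v i)) := by
    rw [linearIndependent_iff']
    intro s c hc i₀ hi₀
    rw [show (∑ i ∈ s, c i • Submodule.mkQ W (v i)) = Submodule.mkQ W (∑ i ∈ s, c i • v i) by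
      simp [map_sum], Submodule.mkQ_apply, Submodule.Quotient.mk_eq_zero, Submodule.mem_sup] at hc
    obtain ⟨a, ha, -, ⟨z, rfl⟩, hsum⟩ := hc
    let R : k → Polynomial k := fun α =>
      ∑ i ∈ s.filter (fun i => bp i = α), Polynomial.C (c i) * (Polynomial.X - Polynomial.C α) ^ ex i
    have hval : ∀ α ∈ B, (∑ i ∈ s, c i • v i) (Pl α) =
        algebraMap (RatFunc k) K (algebraMap (Polynomial k) (RatFunc k) (R α)) * y := fun α hα => by
      rw [Finset.sum_apply, map_sum, map_sum, Finset.sum_mul, Finset.sum_filter]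
      refine Finset.sum_congr rfl fun i _ => ?_
      rw [Pi.smul_apply, hveq]
      split_ifs with h
      · simp only [h, Pi.single_eq_same, map_mul, map_pow, map_sub, RatFunc.algebraMap_X, RatFunc.algebraMap_C,
          ← RatFunc.algebraMap_eq_C, ← IsScalarTower.algebraMap_apply, Algebra.smul_def, x]
        ring
      · rw [Pi.single_eq_of_ne (fun h' => h (hPinj _ hα _ (hbB i) h').symm), smul_zero]
    have hzero : ∀ Q : FunFld.Place k K, (∀ α ∈ B, Q ≠ Pl α) → Q.1 z ≤ 1 := fun Q hQ => by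
      have h1 := congrFun hsum Q
      rw [Pi.add_apply, diag_apply, Finset.sum_apply, Finset.sum_eq_zero fun i _ => by
        rw [Pi.smul_apply, hveq, Pi.single_eq_of_ne (hQ _ (hbB i)), smul_zero]] at h1
      rw [eq_neg_of_add_eq_zero_right h1, Valuation.map_neg]
      simpa using ha Q
    have hRdeg : ∀ α ∈ B, 2 * (R α).natDegree + 1 ≤ d α := fun α hα => by
      have : (R α).natDegree ≤ (d α - 1) / 2 := by
        refine Polynomial.natDegree_sum_le_of_forall_le _ _ fun i hi => ?_
        rw [Finset.mem_filter] at hi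
        refine (Polynomial.natDegree_C_mul_le _ _).trans ?_
        rw [Polynomial.natDegree_pow, Polynomial.natDegree_X_sub_C]
        have := hexd i; rw [hi.2] at this; omega
      have := (hd α hα).pos
      omega
    have hzP : ∀ α ∈ B, (Pl α).1 (algebraMap (RatFunc k) K (algebraMap (Polynomial k) (RatFunc k) (R α)) * y - z) ≤ 1 :=
      fun α hα => by
      have h1 := congrFun hsum (Pl α)
      rw [hval α hα, Pi.add_apply, diag_apply] at h1
      rw [← h1, add_sub_cancel_right]
      simpa using ha (Pl α)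
    have hconE : ∀ β ∈ B, FunFld.conorm K E (Pl β) = (d β : ℤ) + 1 := fun β hβ => by
      have hneg : (pl β).ord f < 0 := by rw [hford β hβ]; have := (hd β hβ).pos; omega
      obtain ⟨he, -, -⟩ := (AS2.odd_ram (K := K) hR hdeg heq hneg (hodd _ hneg)).2 _ _ (hel β)
      rw [conorm_apply hR.1 E (hel β), hE, if_pos hneg, hford β hβ, he]
      obtain ⟨r, hr⟩ := hd β hβ
      rw [hr]; push_cast; omega
    have hzL : z ∈ FunFld.L (FunFld.conorm K E) := fun Q => by
      by_cases hQ : ∃ α ∈ B, Q = Pl α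
      · obtain ⟨α, hα, rfl⟩ := hQ
        rw [hconE α hα]
        have h1 : (Pl α).1 (algebraMap (RatFunc k) K (algebraMap (Polynomial k) (RatFunc k) (R α)) * y) ≤
            WithZero.exp ((d α : ℤ) + 1) := by
          have hle : (Pl α).1 (algebraMap (RatFunc k) K (algebraMap (Polynomial k) (RatFunc k) (R α))) ≤ 1 := by
            refine (AS2.val_poly_le (Pl α) le_rfl).trans ?_
            rw [max_eq_left, one_pow]
            by_contra hc'
            rw [not_le] at hc'
            have h2 := hPl α hα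
            rw [AS2.val_x_sub_inf hc'] at h2
            exact not_lt.2 h2.le hc'
          rw [map_mul]
          refine (mul_le_of_le_one_left zero_le hle).trans ((val_le_exp_iff _ hy0).2 ?_)
          rw [(hat α hα).1]; omega
        have h2 := (Pl α).1.map_sub_le h1 ((hzP α hα).trans (by rw [← WithZero.exp_zero, WithZero.exp_le_exp]; omega))
        rwa [sub_sub_cancel] at h2
      · push Not at hQ
        refine (hzero Q hQ).trans ?_
        obtain ⟨p, e, he⟩ := exists_below hR.1 Q
        rw [conorm_apply hR.1 E he, ← WithZero.exp_zero, WithZero.exp_le_exp, hE]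
        split_ifs with h
        · exact mul_nonneg (by positivity) (by omega)
        · simp
    obtain ⟨u, w, hz⟩ := AS2.decomp hdeg hy z
    obtain ⟨-, hw⟩ := (AS2.mem_L_conorm hR hdeg hy heq hodd hE E u w).1 (hz ▸ hzL)
    rw [sub_self, L_zero hR, Submodule.mem_one] at hw
    obtain ⟨v0, rfl⟩ := hw
    have hRv : ∀ α ∈ B, R α = Polynomial.C v0 := fun α hα => by
      by_contra hne
      set g := R α - Polynomial.C v0 with hg
      have hg0 : g ≠ 0 := sub_ne_zero.2 hne
      have hgK : algebraMap (RatFunc k) K (algebraMap (Polynomial k) (RatFunc k) g) ≠ 0 :=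
        (_root_.map_ne_zero _).2 ((map_ne_zero_iff _ (RatFunc.algebraMap_injective k)).2 hg0)
      have h1 := hzP α hα
      rw [hz, show algebraMap (RatFunc k) K (algebraMap (Polynomial k) (RatFunc k) (R α)) * y -
          (algebraMap (RatFunc k) K u + algebraMap (RatFunc k) K (algebraMap k (RatFunc k) v0) * y) =
          algebraMap (RatFunc k) K (algebraMap (Polynomial k) (RatFunc k) g) * y - algebraMap (RatFunc k) K u by
        rw [hg, map_sub, map_sub, RatFunc.algebraMap_C, ← RatFunc.algebraMap_eq_C]; ring] at h1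
      have hneg : (pl α).ord f < 0 := by rw [hford α hα]; have := (hd α hα).pos; omega
      obtain ⟨he, hoy, -⟩ := (AS2.odd_ram (K := K) hR hdeg heq hneg (hodd _ hneg)).2 _ _ (hel α)
      have hord : (Pl α).ord (algebraMap (RatFunc k) K (algebraMap (Polynomial k) (RatFunc k) g) * y) =
          2 * (pl α).ord (algebraMap (Polynomial k) (RatFunc k) g) - (d α : ℤ) := by
        rw [ord_mul _ hgK hy0, (hel α).ord, hoy, hford α hα, he]; rfl
      have hdist : (Pl α).1 (algebraMap (RatFunc k) K (algebraMap (Polynomial k) (RatFunc k) g) * y) ≠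
          (Pl α).1 (algebraMap (RatFunc k) K u) := by
        intro h
        rcases eq_or_ne u 0 with rfl | hu
        · rw [map_zero, map_zero] at h; exact val_ne_zero _ (mul_ne_zero hgK hy0) h
        have h' : (Pl α).ord (algebraMap (RatFunc k) K (algebraMap (Polynomial k) (RatFunc k) g) * y) =
            (Pl α).ord (algebraMap (RatFunc k) K u) := by simp only [FunFld.Place.ord, h]
        rw [hord, (hel α).ord, he] at h'
        obtain ⟨r, hr⟩ := hd α hα
        rw [hr] at h'; push_cast at h'; omega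
      rw [sub_eq_add_neg, Valuation.map_add_of_distinct_val _ (by rwa [Valuation.map_neg]), max_le_iff] at h1
      have h2 := (val_le_one_iff _ (mul_ne_zero hgK hy0)).1 h1.1
      rw [hord] at h2
      have h3 := ord_poly_le (hplX α hα) hg0
      have h4 : g.natDegree = (R α).natDegree := Polynomial.natDegree_sub_C
      have := hRdeg α hα
      omega
    have hcoeff : ∀ α : k, ∀ n : ℕ, ((R α).comp (Polynomial.X + Polynomial.C α)).coeff n =
        ∑ i ∈ s.filter (fun i => bp i = α), if ex i = n then c i else 0 := fun α n => by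
      rw [Polynomial.sum_comp, Polynomial.finsetSum_coeff]
      refine Finset.sum_congr rfl fun i _ => ?_
      simp [Polynomial.coeff_X_pow, eq_comm]
    have hv0 : v0 = 0 := by
      have h1 := hcoeff 0 0
      rw [hRv 0 h0, Finset.sum_eq_zero] at h1
      · simpa using h1
      · intro i hi
        rw [if_neg (hex0 i (Finset.mem_filter.1 hi).2)]
    have h1 := hcoeff (bp i₀) (ex i₀)
    rw [hRv _ (hbB i₀), hv0, Finset.sum_eq_single_of_mem i₀ (by simp [hi₀])] at h1
    · simpa using h1.symm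
    · intro i hi hne
      rw [if_neg fun h => hne (hbe (Prod.ext (Finset.mem_filter.1 hi).2 h))]
  refine ⟨hadele, hli, fun a ha => ?_⟩
  -- counting
  let e1 : {a : ↥B × ℕ // 1 ≤ a.2 ∧ 2 * a.2 + 1 ≤ d (a.1 : k)} ≃ Σ β : ↥B, {j : ℕ // 1 ≤ j ∧ 2 * j + 1 ≤ d (β : k)} :=
    { toFun := fun a => ⟨a.1.1, a.1.2, a.2⟩
      invFun := fun b => ⟨(b.1, b.2.1), b.2.2⟩
      left_inv := fun a => rfl
      right_inv := fun b => rfl }
  have hfinA : ∀ β : ↥B, Finite {j : ℕ // 1 ≤ j ∧ 2 * j + 1 ≤ d (β : k)} := fun β =>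
    Set.Finite.to_subtype ((Set.finite_Iic (d (β : k))).subset fun j hj => by simp only [Set.mem_Iic]; have := hj.2; omega)
  have : Finite {a : ↥B × ℕ // 1 ≤ a.2 ∧ 2 * a.2 + 1 ≤ d (a.1 : k)} := Finite.of_equiv _ e1.symm
  let _ : Fintype I := Fintype.ofFinite I
  have hcard : (Fintype.card I : ℤ) = FunFld.genus k K := by
    rw [hgenus, hEdeg, ← Nat.card_eq_fintype_card, Nat.card_sum, Nat.card_congr e1, Nat.card_sigma,
      Nat.card_eq_fintype_card (α := {b : ↥B // (b : k) ≠ 0}), Fintype.card_subtype_compl,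
      show Fintype.card {b : ↥B // (b : k) = 0} = 1 from Fintype.card_eq_one_iff.2
        ⟨⟨⟨0, h0⟩, rfl⟩, fun b => Subtype.ext (Subtype.ext b.2)⟩, Fintype.card_coe,
      Finset.sum_congr rfl fun (β : ↥B) _ => card_odd_half (d (β : k)) (hd _ β.2),
      Finset.univ_eq_attach, Finset.sum_attach B (fun β => (d β - 1) / 2)]
    have h1 : ∑ β ∈ B, (d β + 1) / 2 = ∑ β ∈ B, ((d β - 1) / 2 + 1) :=
      Finset.sum_congr rfl fun β hβ => by obtain ⟨r, hr⟩ := hd β hβ; omega
    rw [Finset.sum_add_distrib, Finset.sum_const, smul_eq_mul, mul_one] at h1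
    have := Finset.card_pos.2 ⟨0, h0⟩
    rw [← Nat.cast_sum, h1]
    push_cast
    omega
  obtain ⟨hfin, hq⟩ := adele_quotient hK (0 : FunFld.Divisor k K)
  rw [delta_zero hK, sub_zero] at hq
  let w : I → ↥(FunFld.adele k K) := fun i => ⟨v i, hadele i⟩
  have hliq : LinearIndependent k (fun i => (FunFld.ADK (0 : FunFld.Divisor k K)).mkQ (w i)) := by
    refine LinearIndependent.of_comp (Submodule.mapQ (FunFld.ADK (0 : FunFld.Divisor k K)) W
      (FunFld.adele k K).subtype le_rfl) ?_
    exact hli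
  have hspan := hliq.span_eq_top_of_card_eq_finrank' (by exact_mod_cast hcard.trans hq.symm)
  have hmem : (FunFld.ADK (0 : FunFld.Divisor k K)).mkQ ⟨a, ha⟩ ∈
      Submodule.map (FunFld.ADK (0 : FunFld.Divisor k K)).mkQ (Submodule.span k (Set.range w)) := by
    rw [Submodule.map_span, ← Set.range_comp]
    exact hspan ▸ Submodule.mem_top
  obtain ⟨b, hb, hba⟩ := hmem
  rw [Submodule.mkQ_apply, Submodule.mkQ_apply, Submodule.Quotient.eq] at hba
  have hb' : (b : FunFld.Place k K → K) ∈ Submodule.span k (Set.range v) := by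
    have := Submodule.mem_map_of_mem (f := (FunFld.adele k K).subtype) hb
    rwa [Submodule.map_span, ← Set.range_comp] at this
  have := sub_mem (Submodule.mem_sup_right hb' : (b : FunFld.Place k K → K) ∈ W ⊔ Submodule.span k (Set.range v))
    (Submodule.mem_sup_left hba)
  simpa using this

end Groth.Agent.S19046
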