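import Groth.Statements.S19047
import Groth.Agent.L26.FF.ASChar2Rat

set_option autoImplicit false
universe u v
open Classical
open FunFld

namespace Groth.Agent.S19047

open Groth.Agent.FF

/-- Let `k` be algebraically closed of characteristic `2`, `K = k(x, y)` with `y² + y = f(x)` separable
of degree `2` over `k(x)`, `B ⊆ k` a finite set containing `0` with `f` having a pole of odd order
`d_β` at `x = β` for `β ∈ B` and integral elsewhere, `c_β = (d_β - 1)/2`, and `P_β` a place of `K`
above `x = β`. With `H¹(X, O)` of the smooth projective model written as repartitions modulo `W =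
A(0) + K` (everywhere-integral repartitions plus constants) and its Frobenius induced by
componentwise squaring, for `α ∈ B` and `j ≥ 0`: the Frobenius of the class of the repartition
supported at `P_α` with value `y (x - α)^j` is the class of the one with value `y (x - α)^{2j}` when
`2j ≤ c_α`, and is `0` when `2j > c_α`. -/
theorem result (k : Type u) (K : Type v)
    [Field k] [IsAlgClosed k] [CharP k 2] [Field K] [Algebra k K] [Algebra (RatFunc k) K] [IsScalarTower k (RatFunc k) K]
    (hK : FunFld.IsFunctionField k K) (hdeg : Module.finrank (RatFunc k) K = 2) [Algebra.IsSeparable (RatFunc k) K]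
    (y : K) (hy : y ∉ Set.range (algebraMap (RatFunc k) K)) (f : RatFunc k)
    (heq : y ^ 2 + y = algebraMap (RatFunc k) K f)
    (B : Finset k) (h0 : (0 : k) ∈ B) (d : k → ℕ) (hd : ∀ β ∈ B, Odd (d β))
    (hpole : ∀ (p : FunFld.Place k (RatFunc k)) (β : k), β ∈ B →
      p.1 ((RatFunc.X : RatFunc k) - RatFunc.C β) < 1 → p.ord f = -(d β : ℤ))
    (hint : ∀ p : FunFld.Place k (RatFunc k), (∀ β ∈ B, 1 ≤ p.1 ((RatFunc.X : RatFunc k) - RatFunc.C β)) → p.1 f ≤ 1)
    (Pl : k → FunFld.Place k K) (hPl : ∀ β ∈ B, (Pl β).1 ((algebraMap (RatFunc k) K RatFunc.X) - (algebraMap k K β)) < 1)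
    (α : k) (hα : α ∈ B) (j : ℕ) :
    (4 * j + 1 ≤ d α → (Pi.single (Pl α) ((y * ((algebraMap (RatFunc k) K RatFunc.X) - (algebraMap k K α)) ^ j) ^ 2) : FunFld.Place k K → K) - (Pi.single (Pl α) (y * ((algebraMap (RatFunc k) K RatFunc.X) - (algebraMap k K α)) ^ (2 * j)) : FunFld.Place k K → K) ∈ (FunFld.AD (0 : FunFld.Divisor k K) ⊔ LinearMap.range (FunFld.diag k K))) ∧
    (d α < 4 * j + 1 → (Pi.single (Pl α) ((y * ((algebraMap (RatFunc k) K RatFunc.X) - (algebraMap k K α)) ^ j) ^ 2) : FunFld.Place k K → K) ∈ (FunFld.AD (0 : FunFld.Divisor k K) ⊔ LinearMap.range (FunFld.diag k K))) := by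
  have := AS2.finite_of_deg (F := RatFunc k) (K := K) hdeg
  have : CharP K 2 := charP_of_injective_algebraMap (algebraMap k K).injective 2
  obtain ⟨h1, h2, hu⟩ := AS2.at_pole hdeg heq hd hpole hα (hPl α hα)
  have hy0 : y ≠ 0 := fun h => hy ⟨0, by rw [map_zero, h]⟩
  set c := algebraMap (RatFunc k) K RatFunc.X - algebraMap k K α with hc
  have hsq : (y * c ^ j) ^ 2 - y * c ^ (2 * j) =
      algebraMap (RatFunc k) K (f * ((RatFunc.X : RatFunc k) - RatFunc.C α) ^ (2 * j)) := by
    rw [map_mul, map_pow, AS2.algebraMap_X_sub_C, ← hc, ← heq]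
    linear_combination (-(y * c ^ (2 * j))) * (CharTwo.two_eq_zero : (2 : K) = 0)
  have hmem := AS2.single_mem (K := K) (f * ((RatFunc.X : RatFunc k) - RatFunc.C α) ^ (2 * j)) α (hPl α hα) hu
  rw [← hsq, Pi.single_sub] at hmem
  refine ⟨fun _ => hmem, fun hj => ?_⟩
  have h3 : (Pi.single (Pl α) (y * c ^ (2 * j)) : FunFld.Place k K → K) ∈
      FunFld.AD (0 : FunFld.Divisor k K) ⊔ LinearMap.range (FunFld.diag k K) := by
    refine Submodule.mem_sup_left fun Q => ?_
    rw [Finsupp.zero_apply, WithZero.exp_zero]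
    rcases eq_or_ne Q (Pl α) with rfl | hne
    · rw [Pi.single_eq_same, val_le_one_iff _ (mul_ne_zero hy0 (pow_ne_zero _ (AS2.x_sub_ne α))),
        ← zpow_natCast, AS2.ord_mul_zpow _ (AS2.x_sub_ne α) hy0, h1, h2]
      omega
    · rw [Pi.single_eq_of_ne hne, map_zero]; exact zero_le
  simpa using add_mem hmem h3

end Groth.Agent.S19047
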