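import Groth.Statements.S19048
import Mathlib.LinearAlgebra.Dimension.Constructions
import Mathlib.Data.Finset.Sum

set_option autoImplicit false
universe u
open Dieu

namespace Groth.Agent.S19048

/-- Let `k` be a perfect field of characteristic `2`, `c` a natural number and `a_1, …, a_c ∈ k` with
`a_c ≠ 0`. On the `2c`-dimensional `k`-space with basis `λ_1, …, λ_c, σ_1, …, σ_c` let `F` be
Frobenius-semilinear with `F λ_j = 0`, `F σ_j = σ_{2j}` for `2j ≤ c`, `F σ_j = Σ_{i=j}^{c} a_i
λ_{2i-2j+1}` for `2j > c`, and `V` inverse-Frobenius-semilinear with `V λ_j = λ_{j/2}` (`j` even),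
`0` (`j` odd), `V σ_j = 0` (`j` even), `V σ_j = Σ_{i=(j+1)/2}^{c} a_i^{1/2} λ_{i-(j-1)/2}` (`j` odd)
— the shape of `F` and `V` on the block of the first de Rham cohomology of `y² − y = f(x)` belonging
to a branch point with invariant `d = 2c + 1`, `a_i` the coefficients of the odd polynomial `f_α`.
Put `N_i = ⟨λ_1, …, λ_i⟩` for `i ≤ c` and `N_i = ⟨λ_1, …, λ_c, σ_{2c-i+1}, …, σ_c⟩` for `c ≤ i ≤
2c`. Then for `0 ≤ i ≤ 2c`: `dim N_i = i`, `V(N_i) = N_{⌊i/2⌋}` and `F⁻¹(N_i) = N_{c+⌈i/2⌉}`; so
`(N_i)` is a final filtration with `dim V(N_i) = ⌊i/2⌋`. (The published statement adjoins the `σ_j`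
starting from `σ_1`; then `V(N_{c+1})` contains `V σ_1`, whose `λ_c`-coefficient is a square root of
`a_c ≠ 0`, so it is not `N_{⌊(c+1)/2⌋}` once `c ≥ 2`; adjoining them from `σ_c` downward, as here,
makes both identities hold.) -/
theorem result (c : ℕ) (k : Type u) [Field k] [CharP k 2] [PerfectRing k 2]
    (a : ℕ → k) (ha : a c ≠ 0) (i : ℕ) (hi : i ≤ 2 * c) :
    Module.finrank k (W4c6eohyperellchar2.Nfil c k i) = i ∧
      W4c6eohyperellchar2.NV c k a '' (W4c6eohyperellchar2.Nfil c k i : Set (W4c6eohyperellchar2.GcMod c k)) = (W4c6eohyperellchar2.Nfil c k (i / 2) : Set (W4c6eohyperellchar2.GcMod c k)) ∧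
      W4c6eohyperellchar2.NF c k a ⁻¹' (W4c6eohyperellchar2.Nfil c k i : Set (W4c6eohyperellchar2.GcMod c k)) = (W4c6eohyperellchar2.Nfil c k (c + (i + 1) / 2) : Set (W4c6eohyperellchar2.GcMod c k)) := by
  classical
  let s : k ≃+* k := (frobeniusEquiv k 2).symm
  have hs : ∀ x : k, s (x ^ 2) = x := fun x => by
    show (frobeniusEquiv k 2).symm (x ^ 2) = x
    exact (frobeniusEquiv k 2).injective (by simp [frobeniusEquiv_apply])
  have hmem : ∀ (i : ℕ) (v : W4c6eohyperellchar2.GcMod c k), v ∈ W4c6eohyperellchar2.Nfil c k i ↔
      (∀ j : Fin c, j.val + 1 ≤ 2 * c - i → v.1 j = 0) ∧ (∀ j : Fin c, i < j.val + 1 → v.2 j = 0) := by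
    intro i v
    constructor
    · intro hv
      refine Submodule.span_induction ?_ ⟨fun _ _ => rfl, fun _ _ => rfl⟩ ?_ ?_ hv
      · rintro _ (⟨n, hn, rfl⟩ | ⟨n, hn, rfl⟩)
        · rw [Set.mem_Icc] at hn
          refine ⟨fun _ _ => rfl, fun j hj => ?_⟩
          simp [W4c6eohyperellchar2.Y]
          omega
        · rw [Set.mem_Ioc] at hn
          refine ⟨fun j hj => ?_, fun _ _ => rfl⟩
          simp [W4c6eohyperellchar2.X]
          omega
      · intro x y _ _ hx hy
        exact ⟨fun j hj => by simp [hx.1 j hj, hy.1 j hj], fun j hj => by simp [hx.2 j hj, hy.2 j hj]⟩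
      · intro r x _ hx
        exact ⟨fun j hj => by simp [hx.1 j hj], fun j hj => by simp [hx.2 j hj]⟩
    · rintro ⟨h1, h2⟩
      have hv : v = (∑ j : Fin c, v.2 j • W4c6eohyperellchar2.Y c k (j.val + 1)) +
          ∑ j : Fin c, v.1 j • W4c6eohyperellchar2.X c k (j.val + 1) := by
        ext m <;> simp [W4c6eohyperellchar2.X, W4c6eohyperellchar2.Y, Prod.fst_sum, Prod.snd_sum,
          Finset.sum_apply, Fin.val_inj]
      rw [hv]
      refine add_mem (Submodule.sum_mem _ fun j _ => ?_) (Submodule.sum_mem _ fun j _ => ?_)
      · by_cases h : i < j.val + 1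
        · simp [h2 j h]
        · exact Submodule.smul_mem _ _ (Submodule.subset_span
            (Or.inl ⟨j.val + 1, Set.mem_Icc.2 ⟨by omega, by omega⟩, rfl⟩))
      · by_cases h : j.val + 1 ≤ 2 * c - i
        · simp [h1 j h]
        · exact Submodule.smul_mem _ _ (Submodule.subset_span
            (Or.inr ⟨j.val + 1, Set.mem_Ioc.2 ⟨by omega, by omega⟩, rfl⟩))
  refine ⟨?_, ?_, ?_⟩
  · -- the dimension, through the coordinates
    let T : Finset (Fin c ⊕ Fin c) := Finset.univ.filter
      (Sum.elim (fun j => ¬ j.val + 1 ≤ 2 * c - i) (fun j => ¬ i < j.val + 1))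
    let e : W4c6eohyperellchar2.Nfil c k i ≃ₗ[k] (T → k) :=
      { toFun := fun v t => Sum.elim v.1.1 v.1.2 t.1
        map_add' := fun x y => by funext t; rcases t with ⟨j | j, hj⟩ <;> simp
        map_smul' := fun r x => by funext t; rcases t with ⟨j | j, hj⟩ <;> simp
        invFun := fun g => ⟨(fun j => if h : Sum.inl j ∈ T then g ⟨_, h⟩ else 0,
            fun j => if h : Sum.inr j ∈ T then g ⟨_, h⟩ else 0), (hmem i _).2
            ⟨fun j hj => dif_neg (by simp [T]; omega), fun j hj => dif_neg (by simp [T]; omega)⟩⟩
        left_inv := fun v => by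
          obtain ⟨h1, h2⟩ := (hmem i v.1).1 v.2
          apply Subtype.ext
          ext j
          · by_cases h : Sum.inl j ∈ T
            · simp [h]
            · simp only [dif_neg h]
              exact (h1 j (by simp [T] at h; omega)).symm
          · by_cases h : Sum.inr j ∈ T
            · simp [h]
            · simp only [dif_neg h]
              exact (h2 j (by simp [T] at h; omega)).symm
        right_inv := fun g => by funext t; rcases t with ⟨j | j, hj⟩ <;> simp [hj] }
    rw [e.finrank_eq, Module.finrank_fintype_fun_eq_card, Fintype.card_coe,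
      show T = (Finset.univ.filter fun j : Fin c => ¬ j.val + 1 ≤ 2 * c - i).disjSum
        (Finset.univ.filter fun j : Fin c => ¬ i < j.val + 1) by
          ext (j | j) <;> simp [T], Finset.card_disjSum]
    have c1 : (Finset.univ.filter fun j : Fin c => ¬ j.val + 1 ≤ 2 * c - i).card = c - (2 * c - i) := by
      rw [← Finset.card_map Fin.valEmbedding, ← Nat.card_Ico (2 * c - i) c]
      congr 1
      ext m
      simp only [Finset.mem_map, Finset.mem_filter, Finset.mem_univ, true_and, Fin.valEmbedding_apply,
        Finset.mem_Ico]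
      exact ⟨by rintro ⟨j, hj, rfl⟩; omega, fun hm => ⟨⟨m, hm.2⟩, by simp only []; omega, rfl⟩⟩
    have c2 : (Finset.univ.filter fun j : Fin c => ¬ i < j.val + 1).card = min i c := by
      rw [← Finset.card_map Fin.valEmbedding, ← Finset.card_range (min i c)]
      congr 1
      ext m
      simp only [Finset.mem_map, Finset.mem_filter, Finset.mem_univ, true_and, Fin.valEmbedding_apply,
        Finset.mem_range]
      exact ⟨by rintro ⟨j, hj, rfl⟩; omega, fun hm => ⟨⟨m, by omega⟩, by simp only []; omega, rfl⟩⟩
    rw [c1, c2]
    omega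
  · -- the image under `V`
    let V := W4c6eohyperellchar2.NV c k a
    let N := W4c6eohyperellchar2.Nfil c k i
    have hVadd : ∀ u v, V (u + v) = V u + V v := by
      intro u v
      refine Prod.ext (by simp [V, W4c6eohyperellchar2.NV]) (funext fun m => ?_)
      have hY : ∀ n, W4c6eohyperellchar2.coefY (u + v) n =
          W4c6eohyperellchar2.coefY u n + W4c6eohyperellchar2.coefY v n := fun n => by
        unfold W4c6eohyperellchar2.coefY; split <;> simp
      simp only [V, W4c6eohyperellchar2.NV, Prod.snd_add, Pi.add_apply, Prod.fst_add, hY, map_add]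
      rw [add_add_add_comm, ← Finset.sum_add_distrib]
      congr 1
      refine Finset.sum_congr rfl fun j _ => ?_
      split <;> simp [add_mul]
    have hVsmul : ∀ (r : k) v, V (r ^ 2 • v) = r • V v := by
      intro r v
      refine Prod.ext (by simp [V, W4c6eohyperellchar2.NV]) (funext fun m => ?_)
      have hY : ∀ n, W4c6eohyperellchar2.coefY (r ^ 2 • v) n =
          r ^ 2 * W4c6eohyperellchar2.coefY v n := fun n => by
        unfold W4c6eohyperellchar2.coefY; split <;> simp
      have hsq : (frobeniusEquiv k 2).symm (r ^ 2) = r := hs r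
      simp only [V, W4c6eohyperellchar2.NV, Prod.smul_snd, Prod.smul_fst, Pi.smul_apply, hY, smul_eq_mul,
        map_mul, hsq, mul_add, Finset.mul_sum]
      congr 1
      refine Finset.sum_congr rfl fun j _ => ?_
      split
      · rw [mul_assoc]
      · rw [mul_zero]
    let Im : Submodule k (W4c6eohyperellchar2.GcMod c k) :=
      { carrier := V '' (N : Set _)
        add_mem' := by
          rintro _ _ ⟨u, hu, rfl⟩ ⟨v, hv, rfl⟩
          exact ⟨u + v, add_mem hu hv, hVadd u v⟩
        zero_mem' := ⟨0, zero_mem _, by simpa using hVsmul 0 0⟩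
        smul_mem' := by
          rintro r _ ⟨u, hu, rfl⟩
          exact ⟨r ^ 2 • u, N.smul_mem _ hu, hVsmul r u⟩ }
    refine congrArg SetLike.coe (show Im = W4c6eohyperellchar2.Nfil c k (i / 2) from le_antisymm ?_ ?_)
    · rintro _ ⟨v, hv, rfl⟩
      obtain ⟨h1, h2⟩ := (hmem i v).1 hv
      refine (hmem _ _).2 ⟨fun _ _ => rfl, fun m hm => ?_⟩
      have e1 : W4c6eohyperellchar2.coefY v (2 * (m.val + 1)) = 0 := by
        unfold W4c6eohyperellchar2.coefY
        split
        · exact h2 _ (by simp only []; omega)
        · rfl
      simp only [V, W4c6eohyperellchar2.NV, e1, map_zero, zero_add]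
      refine Finset.sum_eq_zero fun j _ => ?_
      split
      · rw [h1 j (by omega), zero_mul, map_zero]
      · rfl
    · have key : ∀ n, 1 ≤ n → n ≤ i / 2 → W4c6eohyperellchar2.Y c k n ∈ Im := by
        intro n
        induction n using Nat.strong_induction_on with
        | _ n ih =>
          intro hn1 hn2
          by_cases hc : 2 * n ≤ c
          · refine ⟨W4c6eohyperellchar2.Y c k (2 * n), (hmem i _).2 ⟨fun _ _ => rfl, fun j hj => ?_⟩, ?_⟩
            · simp [W4c6eohyperellchar2.Y]; omega
            · refine Prod.ext rfl (funext fun m => ?_)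
              simp only [V, W4c6eohyperellchar2.NV, W4c6eohyperellchar2.Y, W4c6eohyperellchar2.coefY,
                Pi.zero_apply, zero_mul, map_zero, ite_self, Finset.sum_const_zero, add_zero]
              by_cases hm : m.val + 1 = n
              · rw [dif_pos (by omega), if_pos (by omega), if_pos hm, map_one]
              · rw [if_neg hm]
                split
                · rw [if_neg (by omega), map_zero]
                · exact map_zero _
          · obtain ⟨j, hjn⟩ : ∃ j : Fin c, j.val = 2 * (c - n) := ⟨⟨2 * (c - n), by omega⟩, rfl⟩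
            let x := W4c6eohyperellchar2.X c k (j.val + 1)
            have hx : x ∈ N := (hmem i _).2 ⟨fun l hl => by
              simp [x, W4c6eohyperellchar2.X]; omega, fun _ _ => rfl⟩
            have hVx : V x = ∑ m : Fin c, (if m.val + 1 ≤ n then
                s (a (m.val + 1 + (c - n))) else 0) • W4c6eohyperellchar2.Y c k (m.val + 1) := by
              refine Prod.ext ?_ (funext fun m => ?_)
              · rw [Prod.fst_sum]
                refine (Finset.sum_eq_zero fun m _ => ?_).symm
                split <;> simp [W4c6eohyperellchar2.Y]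
              · simp only [Prod.snd_sum, Finset.sum_apply, Prod.smul_snd, Pi.smul_apply,
                  W4c6eohyperellchar2.Y, smul_eq_mul, mul_ite, mul_one, mul_zero, add_left_inj,
                  Fin.val_inj, Finset.sum_ite_eq, Finset.mem_univ, if_true]
                simp only [V, W4c6eohyperellchar2.NV, x, W4c6eohyperellchar2.X,
                  W4c6eohyperellchar2.coefY, Pi.zero_apply, dite_eq_ite, ite_self, map_zero, zero_add]
                rw [Finset.sum_eq_single j]
                · by_cases hm : m.val + 1 ≤ n
                  · rw [if_pos ⟨by omega, by omega⟩, if_pos rfl, if_pos hm, one_mul,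
                      show j.val / 2 = c - n by omega]
                  · rw [if_neg (by omega), if_neg hm]
                · intro l _ hl
                  rw [if_neg (fun h => hl (Fin.ext (show l.val = j.val by omega)) :
                    ¬ (l.val + 1 = j.val + 1)), zero_mul, map_zero, ite_self]
                · exact fun h => absurd (Finset.mem_univ j) h
            have hsplit : V x ∈ Im := ⟨x, hx, rfl⟩
            rw [hVx, ← Finset.sum_erase_add _ _ (Finset.mem_univ (⟨n - 1, by omega⟩ : Fin c)),
              if_pos (by simp only []; omega), show n - 1 + 1 + (c - n) = c by omega,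
              show n - 1 + 1 = n by omega] at hsplit
            have hlow : (∑ m ∈ Finset.univ.erase (⟨n - 1, by omega⟩ : Fin c),
                (if m.val + 1 ≤ n then s (a (m.val + 1 + (c - n))) else 0) •
                  W4c6eohyperellchar2.Y c k (m.val + 1)) ∈ Im := by
              refine Im.sum_mem fun m hm => ?_
              have hne : m.val ≠ n - 1 := fun h => Finset.ne_of_mem_erase hm (Fin.ext h)
              by_cases hmn : m.val + 1 ≤ n
              · exact Im.smul_mem _ (ih _ (by omega) (by omega) (by omega))
              · rw [if_neg hmn, zero_smul]; exact Im.zero_mem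
            have := Im.smul_mem (s (a c))⁻¹ ((Im.add_mem_iff_right hlow).1 hsplit)
            rwa [smul_smul, inv_mul_cancel₀ ((map_ne_zero_iff s s.injective).2 ha), one_smul] at this
      refine Submodule.span_le.2 ?_
      rintro _ (⟨n, hn, rfl⟩ | ⟨n, hn, rfl⟩)
      · rw [Set.mem_Icc] at hn
        exact key n hn.1 (by omega)
      · rw [Set.mem_Ioc] at hn
        omega
  · -- the preimage under `F`
    ext v
    rw [Set.mem_preimage, SetLike.mem_coe, SetLike.mem_coe, hmem, hmem]
    constructor
    · rintro ⟨h1, h2⟩
      refine ⟨?_, fun j hj => by omega⟩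
      suffices h : ∀ n, ∀ j : Fin c, j.val = n → j.val + 1 ≤ 2 * c - (c + (i + 1) / 2) → v.1 j = 0 from
        fun j => h _ j rfl
      intro n
      induction n using Nat.strong_induction_on with
      | _ n ih =>
        intro j hjn hj
        by_cases hc : 2 * (j.val + 1) ≤ c
        · have h := h1 ⟨2 * (j.val + 1) - 1, by omega⟩ (by simp only []; omega)
          simp only [W4c6eohyperellchar2.NF, W4c6eohyperellchar2.coefX] at h
          rw [if_pos (by omega), dif_pos (by omega)] at h
          have he : (⟨(2 * (j.val + 1) - 1 + 1) / 2 - 1, by omega⟩ : Fin c) = j := Fin.ext (by simp only []; omega)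
          rw [he] at h
          exact pow_eq_zero_iff two_ne_zero |>.1 h
        · have h := h2 ⟨2 * (c - (j.val + 1)), by omega⟩ (by simp only []; omega)
          simp only [W4c6eohyperellchar2.NF] at h
          rw [if_pos (by omega), Finset.sum_eq_single j] at h
          · rw [if_pos ⟨by omega, by omega⟩, show j.val + 1 + 2 * (c - (j.val + 1)) / 2 = c by omega] at h
            exact (pow_eq_zero_iff two_ne_zero).1 ((mul_eq_zero.1 h).resolve_right ha)
          · intro l _ hl
            split
            · have hne : l.val ≠ j.val := fun h => hl (Fin.ext h)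
              rw [ih l.val (by omega) l rfl (by omega), zero_pow two_ne_zero, zero_mul]
            · rfl
          · exact fun h' => absurd (Finset.mem_univ j) h'
    · rintro ⟨h1, -⟩
      refine ⟨fun j hj => ?_, fun j hj => ?_⟩
      · simp only [W4c6eohyperellchar2.NF, W4c6eohyperellchar2.coefX]
        split_ifs with hp hq
        · rw [h1 _ (by simp only []; omega), zero_pow two_ne_zero]
        · exact zero_pow two_ne_zero
        · rfl
      · simp only [W4c6eohyperellchar2.NF]
        split
        · refine Finset.sum_eq_zero fun l _ => ?_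
          split
          · rw [h1 l (by omega), zero_pow two_ne_zero, zero_mul]
          · rfl
        · rfl

end Groth.Agent.S19048
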