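
import Groth.Statements.S1905
import Groth.Agent.L22.Cyc.Ord
import Groth.Agent.L22.Cyc.RelDim

set_option autoImplicit false
universe u
open CategoryTheory AlgebraicGeometry
open Cyc

namespace Groth.Agent.S1905

/-- Let f : X → Y be a flat morphism, locally of finite type, of relative dimension r between integral
schemes, and g a nonzero rational function on Y, taken in the residue field at f(η_X) (the generic
point of Y). Then f^*(div_Y g) = div_X(g ∘ f) coefficientwise, where g ∘ f is the image of g in
κ(η_X). A pair (X, δ) with Cyc.IsSetup plays the role of a scheme locally of finite type over a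
fixed base with a dimension function (X locally Noetherian with universally catenary local rings, δ
a dimension function), and Cyc.DeltaCompat records that the dimension function upstairs is the
induced one. -/
theorem result (X Y : Scheme.{u}) [IsIntegral X] [IsIntegral Y] (δX : X → ℤ) (δY : Y → ℤ) (hX : Cyc.IsSetup X δX) (hY : Cyc.IsSetup Y δY) (f : X ⟶ Y) [Flat f] [LocallyOfFiniteType f] (r : ℕ) (hr : Cyc.HasRelDim f r) (hδ : Cyc.DeltaCompat f δX δY) (g : Y.residueField (f (genericPoint X))) (hg : g ≠ 0) : Cyc.pullFun f δX δY r (Cyc.divFun δY (f (genericPoint X)) g) = Cyc.divFun δX (genericPoint X) (f.residueFieldMap (genericPoint X) g) := by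
  haveI := hX.1
  haveI := hY.1
  have hη : f (genericPoint X) = genericPoint Y := by
    obtain ⟨z, hz, hfz⟩ := Flat.generalizingMap f
      (Groth.L22.Cyc.genericPoint_specializes' (f (genericPoint X)))
    rw [← (hz.antisymm (Groth.L22.Cyc.genericPoint_specializes' z)).eq]
    exact hfz
  have hshift : ∀ x, Groth.L22.Cyc.FibGen f x → δX x = δY (f x) + (r : ℤ) :=
    fun x h => Groth.L22.Cyc.shift_of_deltaCompat f hr hδ x h
  have hgenη : Groth.L22.Cyc.FibGen f (genericPoint X) := fun v _ hv =>
    (hv.antisymm (Groth.L22.Cyc.genericPoint_specializes' v)).eq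
  have hδη := hshift _ hgenη
  have hle : ∀ x : X, δX x ≤ δY (f x) + (r : ℤ) ∧
      (¬ Groth.L22.Cyc.FibGen f x → δX x < δY (f x) + (r : ℤ)) := fun x => by
    obtain ⟨v, hv, hvx, hg'⟩ := Groth.L22.Cyc.exists_fibGen f x
    have h2 := hshift v hg'
    rw [hv] at h2
    by_cases hne : v = x
    · subst hne; exact ⟨h2.le, fun h => absurd hg' h⟩
    · have := (hX.2.2 v x hvx hne).1
      exact ⟨by omega, fun _ => by omega⟩
  have hY1 : ∀ y : Y, y ≠ genericPoint Y → δY y + 1 ≤ δY (genericPoint Y) := fun y hy => by
    have := (hY.2.2 _ y (Groth.L22.Cyc.genericPoint_specializes' y) (Ne.symm hy)).1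
    omega
  rw [Groth.L22.Cyc.pullFun_eq f hX.2.2 hshift]
  funext x
  have hsx : genericPoint X ⤳ x := Groth.L22.Cyc.genericPoint_specializes' x
  have hsy : f (genericPoint X) ⤳ f x := hsx.map f.continuous
  simp only [Cyc.divFun]
  by_cases hY0 : δY (f x) + 1 = δY (f (genericPoint X))
  · rw [dif_pos ⟨hsy, hY0⟩]
    by_cases hgx : Groth.L22.Cyc.FibGen f x
    · have hX0 : δX x + 1 = δX (genericPoint X) := by rw [hshift x hgx, hδη]; omega
      rw [dif_pos ⟨hsx, hX0⟩]
      haveI := Groth.L22.Cyc.krullDimLE_one_stalk hX.2.2 x hX0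
      haveI := Groth.L22.Cyc.krullDimLE_one_stalk hY.2.2 (f x) (by rw [← hη]; exact hY0)
      exact Groth.L22.Cyc.ordAt_pullback f x hsx hη hsy hgx g hg
    · have := (hle x).2 hgx
      rw [Groth.L22.Cyc.mult_eq_top hgx, dif_neg (by rintro ⟨-, h⟩; omega)]
      simp
  · rw [dif_neg (by rintro ⟨-, h⟩; exact hY0 h), zero_mul]
    split_ifs with h
    · have hfx : f x = genericPoint Y := by
        by_contra hne
        have h1 := hY1 _ hne
        have h2 := (hle x).1
        have h3 := h.2
        rw [hη] at hY0 hδη
        omega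
      haveI := Groth.L22.Cyc.krullDimLE_one_stalk hX.2.2 x h.2
      exact (Groth.L22.Cyc.ordAt_pullback_of_generic f x hsx hfx hη hsy g hg).symm
    · rfl

end Groth.Agent.S1905
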