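import Groth.Statements.S19060
import Groth.Agent.L12.CurveFam.ProjH0
import Groth.Agent.L17.BC.Fibre

set_option autoImplicit false
universe u
open CategoryTheory CategoryTheory.Limits AlgebraicGeometry Opposite
open Curves

namespace Groth.Agent.S19060

/-- Let R be a Noetherian ring and X a relative curve over Spec R (proper and smooth, with geometrically
connected fibres of dimension one, and projective: X carries an ample invertible module). Let F be a
coherent O_X-module which is flat over Spec R (every stalk is a flat module over the local ring of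
the base). If H^1(X, F) is a projective R-module, then H^0(X, F) is a projective R-module. (The
source says only that F is an O_X-module flat over the base; F is taken coherent here, as the
finiteness of its cohomology over R used there requires.) -/
theorem result (R : Type u) [CommRing R] [IsNoetherianRing R]
    (X : Scheme.{u}) [X.Over (Spec (CommRingCat.of R))] [IsProper (X ↘ Spec (CommRingCat.of R))]
    [Smooth (X ↘ Spec (CommRingCat.of R))] [GeometricallyConnected (X ↘ Spec (CommRingCat.of R))]
    (hdim : ∀ s : Spec (CommRingCat.of R), topologicalKrullDim ↥((X ↘ Spec (CommRingCat.of R)).fiber s) = 1)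
    (hproj : ∃ M : X.Modules, CohB1.IsAmple M)
    (F : X.Modules) (hF : Coh.IsCoh F) (hfl : FlatMod.IsFlatOver (X ↘ Spec (CommRingCat.of R)) F)
    (h1 : Module.Projective R (Coh.HH X F 1)) :
    Module.Projective R (Coh.HH X F 0) := by
  haveI : Coh.IsQCoh F := hF.1
  let f := X ↘ Spec (CommRingCat.of R)
  haveI : IsProper f := inferInstanceAs (IsProper (X ↘ Spec (CommRingCat.of R)))
  have hflat : ∀ W : X.Opens, IsAffineOpen W →
      Module.Flat R (Groth.L17.BC.Sec (Coh.toGlobal f) F W) := fun W hW => by
    haveI : IsNoetherianRing (CommRingCat.of R) := ‹IsNoetherianRing R›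
    exact Groth.L17.BC.flat_sec f F hfl hW
  obtain ⟨m⟩ := Groth.L17.BC.nonempty_model f F hF hflat
  have hH : ∀ i : ℤ, 0 < i → Module.Flat R (m.L.homology i : Type u) := by
    intro i hi
    obtain ⟨n, rfl⟩ : ∃ n : ℕ, i = (n : ℤ) := ⟨i.toNat, by omega⟩
    obtain ⟨e⟩ := m.exists_equiv_self n
    letI : Module R (Coh.HH X F n) := Module.compHom _ (Coh.toGlobal f)
    rcases (show n = 1 ∨ 1 < n by omega) with rfl | hn
    · haveI : Module.Projective R (Coh.HH X F 1) := h1
      haveI : Module.Flat R (Coh.HH X F 1) := Module.Flat.of_projective
      exact Module.Flat.of_linearEquiv e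
    · haveI : IsNoetherianRing (CommRingCat.of R) := ‹IsNoetherianRing R›
      haveI := Groth.L19.VanishFibre.subsingleton_HH_of_fibre_dim_le f (d := 1) (fun y => by rw [hdim y]; rfl) F hn
      haveI : Subsingleton (m.L.homology (n : ℤ) : Type u) := e.toEquiv.subsingleton
      infer_instance
  obtain ⟨e0⟩ := m.exists_equiv_self 0
  haveI := Groth.L12.CurveFam.projective_homology_zero
    (fun i => ⟨(m.finiteFree i).1, m.flat_X i⟩) m.top m.isZero_above (fun M i hi => m.isZero_T_of_neg M hi) hH
  exact Module.Projective.of_equiv e0

end Groth.Agent.S19060
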