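import Groth.Statements.S19061
import Groth.Agent.L12.CurveFam.Omega
import Groth.Agent.L12.CurveFam.FibVA.Main
import Groth.Agent.L12.CurveFam.FibVA.AffineBase

set_option autoImplicit false
universe u
open CategoryTheory CategoryTheory.Limits AlgebraicGeometry Opposite
open Curves

namespace Groth.Agent.S19061

/-- Let R be a Noetherian ring and f : X ⟶ Spec R a relative curve of genus g (proper and smooth, with
geometrically connected fibres of dimension one and genus g, and projective: X carries an ample
invertible module). Let L be an invertible O_X-module such that for every point s of Spec R the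
restriction L_s of L to the fibre X_s has degree at least 2g + 1. Then L is very ample relative to
f: there is an immersion i : X ⟶ P^N over Spec R with L ≅ i^*O(1). -/
theorem result (R : Type u) [CommRing R] [IsNoetherianRing R]
    {X : Scheme.{u}} (f : X ⟶ Spec (CommRingCat.of R)) [IsProper f] [Smooth f] [GeometricallyConnected f]
    (hdim : ∀ s : Spec (CommRingCat.of R), topologicalKrullDim ↥(f.fiber s) = 1)
    (hproj : ∃ M : X.Modules, CohB1.IsAmple M)
    (g : ℕ) (hgen : ∀ s : Spec (CommRingCat.of R), letI : (f.fiber s).Over (Spec ((Spec (CommRingCat.of R)).residueField s)) := ⟨f.fiberToSpecResidueField s⟩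
      Curv2.genus ((Spec (CommRingCat.of R)).residueField s) (f.fiber s) = g)
    (L : X.Modules) (hL : PicF.IsInvertible L)
    (hdeg : ∀ s : Spec (CommRingCat.of R), letI : (f.fiber s).Over (Spec ((Spec (CommRingCat.of R)).residueField s)) := ⟨f.fiberToSpecResidueField s⟩
      2 * (g : ℤ) + 1 ≤ Curv2.deg ((Spec (CommRingCat.of R)).residueField s) (f.fiber s) (CohIII.fiberMod f L s) 1) :
    RelAmple.IsRelVeryAmplePn f L := by
  haveI : Flat f := inferInstance
  haveI : LocallyOfFinitePresentation f := inferInstance
  have h : RelProj.IsRelVeryAmple f L := Groth.L12.CurveFam.isRelVeryAmple_of_fibres f L hL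
    (fun s => (Groth.L12.CurveFam.fiber_va_of_deg_ge f s (hdim s) hL (by
      have h := hdeg s; rw [← hgen s] at h; exact h)).1)
    (fun s => (Groth.L12.CurveFam.fiber_va_of_deg_ge f s (hdim s) hL (by
      have h := hdeg s; rw [← hgen s] at h; exact h)).2)
  exact Groth.L12.CurveFam.isRelVeryAmplePn_of_isRelVeryAmple f L hL h

end Groth.Agent.S19061
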