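
import Groth.Statements.S1907
import Groth.Agent.L22.Cyc.FlatRat
import Groth.Agent.L22.Cyc.RelDim

set_option autoImplicit false
universe u
open CategoryTheory AlgebraicGeometry
open Cyc

namespace Groth.Agent.S1907

/-- Let Y be integral with δY(η_Y) = k, f : X → Y flat, locally of finite type, of relative dimension r,
and g a nonzero rational function on Y. Then f^*(div_Y g) = Σ_j n_j · div_{X_j}(g|_{X_j}) as (k + r
− 1)-cycles on X, the sum over the irreducible components X_j of X (generic points ξ_j, which map to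
η_Y) with n_j the length of O_{X,ξ_j}, and g|_{X_j} the image of g in κ(ξ_j). A pair (X, δ) with
Cyc.IsSetup plays the role of a scheme locally of finite type over a fixed base with a dimension
function (X locally Noetherian with universally catenary local rings, δ a dimension function), and
Cyc.DeltaCompat records that the dimension function upstairs is the induced one. -/
theorem result (X Y : Scheme.{u}) [IsIntegral Y] (δX : X → ℤ) (δY : Y → ℤ) (hX : Cyc.IsSetup X δX) (hY : Cyc.IsSetup Y δY) (f : X ⟶ Y) [Flat f] [LocallyOfFiniteType f] (r : ℕ) (hr : Cyc.HasRelDim f r) (hδ : Cyc.DeltaCompat f δX δY) (k : ℤ) (hk : δY (genericPoint Y) = k) (g : Y.residueField (genericPoint Y)) (hg : g ≠ 0) (x : X) : Cyc.pullFun f δX δY r (Cyc.divFun δY (genericPoint Y) g) x = ∑ᶠ ξ : {ξ : X // (∀ x' : X, x' ⤳ ξ → x' = ξ) ∧ f ξ = genericPoint Y}, ((Module.length (X.presheaf.stalk ξ.1) (X.presheaf.stalk ξ.1)).toNat : ℤ) * Cyc.divFun δX ξ.1 (f.residueFieldMap ξ.1 ((Y.residueFieldCongr ξ.2.2.symm).hom g)) x :=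 by
  haveI := hX.1
  haveI := hY.1
  have hc := fun x h => Groth.L22.Cyc.shift_of_deltaCompat f hr hδ x h
  rw [Groth.L22.Cyc.pullFun_divFun f hY.2.2 hX.2.2 hc _ g hg x]
  have hiff : ∀ ξ : X, ((Groth.L22.Cyc.FibGen f ξ ∧ f ξ = genericPoint Y) ↔
      ((∀ x' : X, x' ⤳ ξ → x' = ξ) ∧ f ξ = genericPoint Y)) := by
    intro ξ
    refine ⟨fun h => ⟨fun x' hx' => h.1 x' ?_ hx', h.2⟩, fun h => ⟨fun y _ hy => h.1 y hy, h.2⟩⟩
    refine ((hx'.map f.continuous).antisymm ?_).eq
    rw [h.2]
    exact Groth.L22.Cyc.genericPoint_specializes' _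
  refine finsum_eq_of_bijective (Equiv.subtypeEquivRight hiff) (Equiv.bijective _) fun t => ?_
  show _ = ((Module.length (X.presheaf.stalk t.1) (X.presheaf.stalk t.1)).toNat : ℤ) * _
  congr 3
  have hf : IsField (Y.presheaf.stalk (f t.1)) := by
    rw [t.2.2]
    exact Field.toIsField (Y.functionField)
  have hm := IsLocalRing.isField_iff_maximalIdeal_eq.1 hf
  rw [Groth.L22.Cyc.mult, Groth.L22.Cyc.fibIdeal, hm, Ideal.map_bot]
  exact (Submodule.quotEquivOfEqBot _ rfl).length_eq

end Groth.Agent.S1907
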