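import Groth.Statements.S19073
import Groth.Agent.L03.SurfDual.Duality
-- import your own Groth.Agent.* helpers here

set_option autoImplicit false
universe u
open CategoryTheory CategoryTheory.Limits AlgebraicGeometry
open Surf

namespace Groth.Agent.S19073

open Groth.L22.Inter Groth.L22.Nef Groth.L22.Big Groth.L03.Euler

/-- Let X be a surface over an algebraically closed field k (an integral scheme of dimension two all of
whose local rings are regular, with a closed immersion into some P^n_k over k), and let L₁, L₂ be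
invertible O_X-modules which are numerically equivalent: (L₁·M) = (L₂·M) for every invertible
O_X-module M, where (L·M) = χ(O_X) − χ(L) − χ(M) + χ(L ⊗ M) is the intersection number. Then χ(X,
L₁) = χ(X, L₂). -/
theorem result (k : Type u) [Field k] [IsAlgClosed k] (X : Scheme.{u}) [X.Over (Spec (CommRingCat.of k))]
    [AlgebraicGeometry.IsIntegral X] (hdim : topologicalKrullDim X = 2) (hreg : ∀ x : X, IsRegularLocalRing (X.presheaf.stalk x))
    (hproj : ∃ (n : ℕ) (ι : X ⟶ CohB1.ProjSpace n k), IsClosedImmersion ι ∧ ι ≫ CohB1.ProjSpace.toSpec n k = (X ↘ (Spec (CommRingCat.of k))))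
    (L₁ L₂ : X.Modules) (hL₁ : PicF.IsInvertible L₁) (hL₂ : PicF.IsInvertible L₂)
    (hnum : ∀ M : X.Modules, PicF.IsInvertible M →
      FGA.intNum k X 2 ![L₁, M] (Coh.structureModule X) = FGA.intNum k X 2 ![L₂, M] (Coh.structureModule X)) :
    Curv2.euler k X L₁ = Curv2.euler k X L₂ := by
  obtain ⟨n, ι, hι, hιk⟩ := hproj
  haveI := hι
  obtain ⟨hp, -⟩ := proj_facts k hdim ι hιk
  haveI := hp
  have hd2 : topologicalKrullDim X = (2 : ℕ) := hdim.trans Nat.cast_ofNat.symm
  obtain ⟨ω, hω, hflip, hflip0, hRR⟩ := Groth.L03.SurfDual.exists_canonical k hdim hreg ⟨n, ι, hι, hιk⟩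
  have h : ∀ M : X.Modules, PicF.IsInvertible M → ii k L₁ M = ii k L₂ M := fun M hM => by
    rw [← intNum_eq_ii k hd2.le, ← intNum_eq_ii k hd2.le, hnum M hM]
  have h1 := hRR L₁ hL₁
  have h2 := hRR L₂ hL₂
  rw [h L₁ hL₁, ii_comm k L₂ L₁, h L₂ hL₂, h ω hω] at h1
  have h3 : (Curv2.euler k X L₁ : ℚ) = Curv2.euler k X L₂ := by linarith
  exact_mod_cast h3

end Groth.Agent.S19073
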