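import Groth.Statements.S19083
import Groth.Agent.L12.HypSq.Inter

set_option autoImplicit false
universe u
open CategoryTheory CategoryTheory.Limits AlgebraicGeometry Opposite
open HypSq

namespace Groth.Agent.S19083

/-- Let k be an algebraically closed field of characteristic ≠ 2 and C a hyperelliptic curve of genus g
≥ 2 over k: C ⟶ Spec k proper and smooth, C connected of dimension one with dim_k H^1(C, O_C) = g,
with a double cover κ : C ⟶ P^1_k over k (finite, flat, of rank 2 everywhere) and hyperelliptic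
involution σ (σ ≫ κ = κ, σ ≠ id). On X = C ×_k C let N be an invertible O_X-module inverse to the
ideal sheaf of the graph Γ_σ = (id, σ) : C ⟶ X, x : Spec k ⟶ C a k-point with A = O_C(x) an
invertible O_C-module inverse to the ideal sheaf of x. Then for all m, n, r ≥ 0 the module p_1^*A^m
⊗ p_2^*A^n ⊗ N^r (the divisor mV_x + nH_x + rΓ_σ) has Euler characteristic χ = (m − γ)(n − γ) + r(m
+ n) − γ r (r + 2), γ = g − 1. (The source takes x to be a Weierstrass point; the formula is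
numerical and holds for any k-point.) -/
theorem result (k : Type u) [Field k] [IsAlgClosed k] (h2 : (2 : k) ≠ 0)
    (C : Scheme.{u}) [C.Over (Spec (CommRingCat.of k))] [IsProper (C ↘ Spec (CommRingCat.of k))] [Smooth (C ↘ Spec (CommRingCat.of k))] [ConnectedSpace ↥C]
    (hdim : topologicalKrullDim ↥C = 1) (g : ℕ) (hg : 2 ≤ g) (hgen : Curv2.genus k C = g)
    (κ : C ⟶ CohB1.ProjSpace 1 k) (hκ : κ ≫ CohB1.ProjSpace.toSpec 1 k = (C ↘ Spec (CommRingCat.of k)))
    [IsFinite κ] [Flat κ] (hκ2 : ∀ y : ↥(CohB1.ProjSpace 1 k), κ.finrank y = 2)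
    (σ : C ⟶ C) (hσ : σ ≫ κ = κ) (hσ1 : σ ≠ 𝟙 C) (hσp : σ ≫ (C ↘ Spec (CommRingCat.of k)) = (C ↘ Spec (CommRingCat.of k)))
    (N : (pullback (C ↘ Spec (CommRingCat.of k)) (C ↘ Spec (CommRingCat.of k))).Modules) (hN : PicF.IsInvertible N)
    (hNinv : ClSub.IsInverseOf N (ClSub.idealMod (pullback.lift (𝟙 C) σ ((Category.id_comp (C ↘ Spec (CommRingCat.of k))).trans hσp.symm)).ker))
    (x : Spec (CommRingCat.of k) ⟶ C) (hx : x ≫ (C ↘ Spec (CommRingCat.of k)) = 𝟙 (Spec (CommRingCat.of k)))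
    (A : C.Modules) (hA : PicF.IsInvertible A) (hAinv : ClSub.IsInverseOf A (ClSub.idealMod x.ker))
    (m n r : ℕ) :
    letI : (pullback (C ↘ Spec (CommRingCat.of k)) (C ↘ Spec (CommRingCat.of k))).Over (Spec (CommRingCat.of k)) := ⟨pullback.fst (C ↘ Spec (CommRingCat.of k)) (C ↘ Spec (CommRingCat.of k)) ≫ (C ↘ Spec (CommRingCat.of k))⟩
    Curv2.euler k (pullback (C ↘ Spec (CommRingCat.of k)) (C ↘ Spec (CommRingCat.of k))) (CohB1.tensorMod (CohB1.tensorMod ((Scheme.Modules.pullback (pullback.fst (C ↘ Spec (CommRingCat.of k)) (C ↘ Spec (CommRingCat.of k)))).obj (CohB1.tensorPow A m)) ((Scheme.Modules.pullback (pullback.snd (C ↘ Spec (CommRingCat.of k)) (C ↘ Spec (CommRingCat.of k)))).obj (CohB1.tensorPow A n))) (CohB1.tensorPow N r)) =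
      ((m : ℤ) - ((g : ℤ) - 1)) * ((n : ℤ) - ((g : ℤ) - 1)) + (r : ℤ) * (m + n) - ((g : ℤ) - 1) * r * (r + 2) := by
  subst hgen
  haveI := Groth.L12.HypSq.isIso_of_comp_eq hdim hκ hκ2 hσ hσp
  haveI := Groth.L12.HypSq.isIntegral (k := k) (C := C)
  have hm := Groth.L18.Ample.isInvertible_tensorPow hA m
  have hn := Groth.L18.Ample.isInvertible_tensorPow hA n
  have hd := Groth.L12.HypSq.deg_point hdim x hx hA hAinv
  refine (Groth.L12.HypSq.euler_tw hσp hN hNinv hdim hm hn r).trans ?_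
  rw [Groth.L12.HypSq.deg_pullback_eq hdim hκ hκ2 hσ hσp hn, Groth.L12.HypSq.euler_eq_deg hdim,
    Groth.L12.HypSq.euler_eq_deg hdim, Groth.L21.Duality.deg_tensorPow hdim hA,
    Groth.L21.Duality.deg_tensorPow hdim hA, hd]
  ring

end Groth.Agent.S19083
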