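import Groth.Statements.S19085
import Groth.Agent.L12.SymSq.Main

set_option autoImplicit false
universe u
open CategoryTheory CategoryTheory.Limits AlgebraicGeometry Opposite
open SymSq

namespace Groth.Agent.S19085

/-- Let k be an algebraically closed field of characteristic ≠ 2 and C a hyperelliptic curve of genus g
≥ 2 over k: C ⟶ Spec k proper and smooth, C connected of dimension one with dim_k H^1(C, O_C) = g,
with a double cover κ : C ⟶ P^1_k over k (finite, flat, of rank 2 everywhere) and hyperelliptic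
involution σ (σ ≫ κ = κ, σ ≠ id). On X = C ×_k C let L = κ^*O(1), F_m = p_1^*L^m ⊗ p_2^*L^m and N an
invertible O_X-module inverse to the ideal sheaf of the graph Γ_σ = (id, σ) : C ⟶ X. Let S = Sym²(C)
be the symmetric square: π : X ⟶ S is a quotient (affine, invariant, sections of S = invariant
sections) for the action of the symmetric group on two letters in which the transposition acts by
the swap of the two factors, and q : S ⟶ Spec k its structure morphism with π over Spec k. If M is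
an invertible O_S-module with π^*M ≅ F_m ⊗ N^r (the divisor class 2mΘ_S + r∇_S, ∇_S the image of the
graph of σ), m ≥ g and 2m − γ r > 0 (γ = g − 1), then h^0(S, M) = C(2m − γ + 1, 2) + r(2m + 1) − γ
C(r + 1, 2); stated as 2 · dim_k H^0(S, M) = (2m − γ + 1)(2m − γ) + 2r(2m + 1) − γ r (r + 1). (The
published statement also covers 2m − γ r ≤ 0; only the range 2m − γ r > 0, in which no index i ≤ r
has 2m = γ i, is stated here.) -/
theorem result (k : Type u) [Field k] [IsAlgClosed k] (h2 : (2 : k) ≠ 0)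
    (C : Scheme.{u}) [C.Over (Spec (CommRingCat.of k))] [IsProper (C ↘ Spec (CommRingCat.of k))] [Smooth (C ↘ Spec (CommRingCat.of k))] [ConnectedSpace ↥C]
    (hdim : topologicalKrullDim ↥C = 1) (g : ℕ) (hg : 2 ≤ g) (hgen : Curv2.genus k C = g)
    (κ : C ⟶ CohB1.ProjSpace 1 k) (hκ : κ ≫ CohB1.ProjSpace.toSpec 1 k = (C ↘ Spec (CommRingCat.of k)))
    [IsFinite κ] [Flat κ] (hκ2 : ∀ y : ↥(CohB1.ProjSpace 1 k), κ.finrank y = 2)
    (σ : C ⟶ C) (hσ : σ ≫ κ = κ) (hσ1 : σ ≠ 𝟙 C) (hσp : σ ≫ (C ↘ Spec (CommRingCat.of k)) = (C ↘ Spec (CommRingCat.of k)))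
    (N : (pullback (C ↘ Spec (CommRingCat.of k)) (C ↘ Spec (CommRingCat.of k))).Modules) (hN : PicF.IsInvertible N)
    (hNinv : ClSub.IsInverseOf N (ClSub.idealMod (pullback.lift (𝟙 C) σ ((Category.id_comp (C ↘ Spec (CommRingCat.of k))).trans hσp.symm)).ker))
    (ρ : ULift.{u} (Equiv.Perm (Fin 2)) →* Aut (pullback (C ↘ Spec (CommRingCat.of k)) (C ↘ Spec (CommRingCat.of k)))) (hρ : (ρ (ULift.up (Equiv.swap 0 1))).hom = (pullbackSymmetry (C ↘ Spec (CommRingCat.of k)) (C ↘ Spec (CommRingCat.of k))).hom)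
    (Sq : Scheme.{u}) (π : (pullback (C ↘ Spec (CommRingCat.of k)) (C ↘ Spec (CommRingCat.of k))) ⟶ Sq) (hπ : SGA1.IsQuot ρ π) (q : Sq ⟶ Spec (CommRingCat.of k)) (hq : π ≫ q = pullback.fst (C ↘ Spec (CommRingCat.of k)) (C ↘ Spec (CommRingCat.of k)) ≫ (C ↘ Spec (CommRingCat.of k)))
    (M : Sq.Modules) (hM : PicF.IsInvertible M) (m r : ℕ) (hm : g ≤ m) (hpos : ((g : ℤ) - 1) * r < 2 * m)
    (hMpull : Nonempty ((Scheme.Modules.pullback π).obj M ≅ (CohB1.tensorMod (CohB1.tensorMod ((Scheme.Modules.pullback (pullback.fst (C ↘ Spec (CommRingCat.of k)) (C ↘ Spec (CommRingCat.of k)))).obj (CohB1.tensorPow ((Scheme.Modules.pullback κ).obj (Twist.twistProjSpace 1 k 1)) m)) ((Scheme.Modules.pullback (pullback.snd (C ↘ Spec (CommRingCat.of k)) (C ↘ Spec (CommRingCat.of k)))).obj (CohB1.tensorPow ((Scheme.Modules.pullback κ).obj (Twist.twistProjSpace 1 k 1)) m))) (CohB1.tensorPow N r)))) :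
    letI : Sq.Over (Spec (CommRingCat.of k)) := ⟨q⟩
    2 * (Module.finrank k (Coh.HH Sq M 0) : ℤ) =
      (2 * (m : ℤ) - ((g : ℤ) - 1) + 1) * (2 * (m : ℤ) - ((g : ℤ) - 1)) + 2 * (r : ℤ) * (2 * m + 1) - ((g : ℤ) - 1) * r * (r + 1) := by
  haveI := Groth.L12.HypSq.isIntegral_sq (k := k) (C := C)
  letI : Sq.Over (Spec (CommRingCat.of k)) := ⟨q⟩
  haveI := Groth.L12.SymSq.isIntegral_quot hπ
  haveI := Groth.L12.SymSq.isProper_quot hπ hq h2
  haveI := Groth.L12.HypSq.isIso_of_comp_eq hdim hκ hκ2 hσ hσp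
  obtain ⟨ND, hND, hNDinv⟩ := Groth.L12.SymSq.exists_diag_inverse hσp hN hNinv
  obtain ⟨e⟩ := hMpull
  exact Groth.L12.SymSq.h0_class hdim hκ hκ2 hσ hσ1 hσp hN hNinv hND hNDinv hρ hπ hq h2 (by omega) hgen hM hm hpos e

end Groth.Agent.S19085
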