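import Groth.Statements.S19088
import Groth.Agent.L12.SymSq.Inter

set_option autoImplicit false
universe u
open CategoryTheory CategoryTheory.Limits AlgebraicGeometry Opposite
open SymSq

namespace Groth.Agent.S19088

/-- Let k be an algebraically closed field of characteristic ≠ 2 and C a hyperelliptic curve of genus g
≥ 2 over k: C ⟶ Spec k proper and smooth, C connected of dimension one with dim_k H^1(C, O_C) = g,
with a double cover κ : C ⟶ P^1_k over k (finite, flat, of rank 2 everywhere) and hyperelliptic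
involution σ (σ ≫ κ = κ, σ ≠ id). On X = C ×_k C let L = κ^*O(1), F_m = p_1^*L^m ⊗ p_2^*L^m and N an
invertible O_X-module inverse to the ideal sheaf of the graph Γ_σ = (id, σ) : C ⟶ X. Let S = Sym²(C)
be the symmetric square: π : X ⟶ S is a quotient (affine, invariant, sections of S = invariant
sections) for the action of the symmetric group on two letters in which the transposition acts by
the swap of the two factors, and q : S ⟶ Spec k its structure morphism with π over Spec k; let N_Δ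
be an invertible module on X inverse to the ideal sheaf of the diagonal, x : Spec k ⟶ C a k-point
with A = O_C(x), and MΘ, MΔ, M∇ invertible O_S-modules with π^*MΘ ≅ p_1^*A ⊗ p_2^*A, π^*MΔ ≅ N_Δ ⊗
N_Δ and π^*M∇ ≅ N (the classes Θ_S = π({x} × C), Δ_S = π(Δ) with π^*Δ_S = 2Δ, and ∇_S = π(Γ_σ)).
Then (Θ_S·Θ_S) = 1, (Θ_S·Δ_S) = 2, (Θ_S·∇_S) = 1, (Δ_S·Δ_S) = 4 − 4g, (∇_S·∇_S) = 1 − g and
(Δ_S·∇_S) = 2g + 2, intersection numbers being (M·M') = χ(O_S) − χ(M) − χ(M') + χ(M ⊗ M'). -/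
theorem result (k : Type u) [Field k] [IsAlgClosed k] (h2 : (2 : k) ≠ 0)
    (C : Scheme.{u}) [C.Over (Spec (CommRingCat.of k))] [IsProper (C ↘ Spec (CommRingCat.of k))] [Smooth (C ↘ Spec (CommRingCat.of k))] [ConnectedSpace ↥C]
    (hdim : topologicalKrullDim ↥C = 1) (g : ℕ) (hg : 2 ≤ g) (hgen : Curv2.genus k C = g)
    (κ : C ⟶ CohB1.ProjSpace 1 k) (hκ : κ ≫ CohB1.ProjSpace.toSpec 1 k = (C ↘ Spec (CommRingCat.of k)))
    [IsFinite κ] [Flat κ] (hκ2 : ∀ y : ↥(CohB1.ProjSpace 1 k), κ.finrank y = 2)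
    (σ : C ⟶ C) (hσ : σ ≫ κ = κ) (hσ1 : σ ≠ 𝟙 C) (hσp : σ ≫ (C ↘ Spec (CommRingCat.of k)) = (C ↘ Spec (CommRingCat.of k)))
    (N : (pullback (C ↘ Spec (CommRingCat.of k)) (C ↘ Spec (CommRingCat.of k))).Modules) (hN : PicF.IsInvertible N)
    (hNinv : ClSub.IsInverseOf N (ClSub.idealMod (pullback.lift (𝟙 C) σ ((Category.id_comp (C ↘ Spec (CommRingCat.of k))).trans hσp.symm)).ker))
    (ND : (pullback (C ↘ Spec (CommRingCat.of k)) (C ↘ Spec (CommRingCat.of k))).Modules) (hND : PicF.IsInvertible ND)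
    (hNDinv : ClSub.IsInverseOf ND (ClSub.idealMod (pullback.diagonal (C ↘ Spec (CommRingCat.of k))).ker))
    (x : Spec (CommRingCat.of k) ⟶ C) (hx : x ≫ (C ↘ Spec (CommRingCat.of k)) = 𝟙 (Spec (CommRingCat.of k)))
    (A : C.Modules) (hA : PicF.IsInvertible A) (hAinv : ClSub.IsInverseOf A (ClSub.idealMod x.ker))
    (ρ : ULift.{u} (Equiv.Perm (Fin 2)) →* Aut (pullback (C ↘ Spec (CommRingCat.of k)) (C ↘ Spec (CommRingCat.of k)))) (hρ : (ρ (ULift.up (Equiv.swap 0 1))).hom = (pullbackSymmetry (C ↘ Spec (CommRingCat.of k)) (C ↘ Spec (CommRingCat.of k))).hom)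
    (Sq : Scheme.{u}) (π : (pullback (C ↘ Spec (CommRingCat.of k)) (C ↘ Spec (CommRingCat.of k))) ⟶ Sq) (hπ : SGA1.IsQuot ρ π) (q : Sq ⟶ Spec (CommRingCat.of k)) (hq : π ≫ q = pullback.fst (C ↘ Spec (CommRingCat.of k)) (C ↘ Spec (CommRingCat.of k)) ≫ (C ↘ Spec (CommRingCat.of k)))
    (MΘ MΔ MV : Sq.Modules) (hMΘ : PicF.IsInvertible MΘ) (hMΔ : PicF.IsInvertible MΔ) (hMV : PicF.IsInvertible MV)
    (hΘ : Nonempty ((Scheme.Modules.pullback π).obj MΘ ≅ CohB1.tensorMod ((Scheme.Modules.pullback (pullback.fst (C ↘ Spec (CommRingCat.of k)) (C ↘ Spec (CommRingCat.of k)))).obj A) ((Scheme.Modules.pullback (pullback.snd (C ↘ Spec (CommRingCat.of k)) (C ↘ Spec (CommRingCat.of k)))).obj A)))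
    (hΔ : Nonempty ((Scheme.Modules.pullback π).obj MΔ ≅ CohB1.tensorMod ND ND))
    (hV : Nonempty ((Scheme.Modules.pullback π).obj MV ≅ N)) :
    letI : Sq.Over (Spec (CommRingCat.of k)) := ⟨q⟩
    FGA.intNum k Sq 2 ![MΘ, MΘ] (Coh.structureModule Sq) = 1 ∧ FGA.intNum k Sq 2 ![MΘ, MΔ] (Coh.structureModule Sq) = 2 ∧ FGA.intNum k Sq 2 ![MΘ, MV] (Coh.structureModule Sq) = 1 ∧
      FGA.intNum k Sq 2 ![MΔ, MΔ] (Coh.structureModule Sq) = 4 - 4 * (g : ℤ) ∧ FGA.intNum k Sq 2 ![MV, MV] (Coh.structureModule Sq) = 1 - (g : ℤ) ∧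
      FGA.intNum k Sq 2 ![MΔ, MV] (Coh.structureModule Sq) = 2 * (g : ℤ) + 2 := by
  haveI := Groth.L12.HypSq.isIntegral_sq (k := k) (C := C)
  letI : Sq.Over (Spec (CommRingCat.of k)) := ⟨q⟩
  haveI := Groth.L12.SymSq.isIntegral_quot hπ
  haveI := Groth.L12.SymSq.isProper_quot hπ hq h2
  obtain ⟨eΘ⟩ := hΘ
  obtain ⟨eΔ⟩ := hΔ
  obtain ⟨eV⟩ := hV
  have h := Groth.L12.SymSq.table hdim hND hNDinv hρ hπ hq h2 hκ hκ2 hσ hσ1 hσp hN hNinv hA
    (Groth.L12.HypSq.deg_point hdim x hx hA hAinv) hMΘ hMΔ hMV eΘ eΔ eV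
  rwa [hgen] at h

end Groth.Agent.S19088
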