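import Groth.Statements.S19092
import Mathlib.RingTheory.Finiteness.Basic
import Mathlib.RingTheory.FiniteType
import Mathlib.RingTheory.Localization.Basic
-- import your own Groth.Agent.* helpers here

set_option autoImplicit false
universe u
open FrobAlg

namespace Groth.Agent.S19092

lemma exists_gens {A B : Type u} [CommRing A] [CommRing B] {f : A →+* B} (hf : f.Finite) :
    ∃ (k : ℕ) (g : Fin k → B), ∀ b, ∃ c : Fin k → A, b = ∑ i, f (c i) * g i := by
  let := f.toAlgebra
  obtain ⟨k, g, hg⟩ := @Module.Finite.exists_fin A B _ _ _ hf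
  refine ⟨k, g, fun b => ?_⟩
  obtain ⟨c, hc⟩ := (Submodule.mem_span_range_iff_exists_fun A).1 (hg ▸ Submodule.mem_top : b ∈ Submodule.span A (Set.range g))
  exact ⟨c, hc.symm⟩

lemma finite_of_gens {A B : Type u} [CommRing A] [CommRing B] {f : A →+* B} {k : ℕ} (g : Fin k → B)
    (h : ∀ b, ∃ c : Fin k → A, b = ∑ i, f (c i) * g i) : f.Finite := by
  let := f.toAlgebra
  refine (⟨Submodule.fg_iff_exists_fin_generating_family.2 ⟨k, g, ?_⟩⟩ : Module.Finite A B)
  rw [Submodule.eq_top_iff']
  intro b
  obtain ⟨c, hc⟩ := h b
  exact (Submodule.mem_span_range_iff_exists_fun A).2 ⟨c, hc.symm⟩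

/-- Let p be a prime and A a commutative ring of characteristic p whose absolute Frobenius a ↦ a^p is a
finite ring homomorphism. Then the same holds for every quotient and every localization of A: for
every ideal I of A such that A ⧸ I has characteristic p (every proper ideal) the absolute Frobenius
of A ⧸ I is finite, and for every submonoid S of A and every localization B of A at S of
characteristic p (every nonzero localization) the absolute Frobenius of B is finite. -/
theorem result (p : ℕ) [Fact p.Prime]
    (A : Type u) [CommRing A] [CharP A p] (hF : (frobenius A p).Finite) :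
    (∀ (I : Ideal A) [CharP (A ⧸ I) p], (frobenius (A ⧸ I) p).Finite) ∧
      ∀ (S : Submonoid A) (B : Type u) [CommRing B] [Algebra A B] [IsLocalization S B] [CharP B p],
        (frobenius B p).Finite := by
  obtain ⟨k, g, hg⟩ := exists_gens hF
  refine ⟨fun I _ => finite_of_gens (fun i => Ideal.Quotient.mk I (g i)) fun b => ?_,
    fun S B _ _ _ _ => finite_of_gens (fun i => algebraMap A B (g i)) fun b => ?_⟩
  · obtain ⟨a, rfl⟩ := Ideal.Quotient.mk_surjective b
    obtain ⟨c, hc⟩ := hg a
    refine ⟨fun i => Ideal.Quotient.mk I (c i), ?_⟩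
    conv_lhs => rw [hc]
    rw [map_sum]; exact Finset.sum_congr rfl fun i _ => by rw [map_mul]; congr 1
  · obtain ⟨a, s, rfl⟩ := IsLocalization.exists_mk'_eq S b
    obtain ⟨c, hc⟩ := hg (a * (s : A) ^ (p - 1))
    refine ⟨fun i => IsLocalization.mk' B (c i) s, ?_⟩
    have hu : IsUnit (algebraMap A B s ^ p) := (IsLocalization.map_units B s).pow p
    apply hu.mul_left_cancel
    rw [Finset.mul_sum]
    have hp : (s : A) * (s : A) ^ (p - 1) = (s : A) ^ p := mul_pow_sub_one (Fact.out : p.Prime).ne_zero _
    calc algebraMap A B s ^ p * IsLocalization.mk' B a s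
        = algebraMap A B (a * (s : A) ^ (p - 1)) := by
          rw [← map_pow, ← hp, map_mul, map_mul,
            mul_right_comm, IsLocalization.mk'_spec' B a s]
      _ = _ := by
          rw [hc, map_sum]
          refine Finset.sum_congr rfl fun i _ => ?_
          rw [show frobenius B p (IsLocalization.mk' B (c i) s) = IsLocalization.mk' B (c i) s ^ p from rfl,
            show frobenius A p (c i) = c i ^ p from rfl, map_mul, map_pow, ← mul_assoc, ← mul_pow,
            IsLocalization.mk'_spec']

end Groth.Agent.S19092
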