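import Groth.Statements.S19093
import Groth.Agent.S19092
import Mathlib.RingTheory.PowerSeries.Expand
import Mathlib.RingTheory.MvPowerSeries.Expand
import Mathlib.RingTheory.PowerSeries.Inverse
import Mathlib.RingTheory.IntegralClosure.IsIntegralClosure.Basic
import Mathlib.Algebra.CharP.Algebra

set_option autoImplicit false
universe u
open FrobAlg

namespace Groth.Agent.S19093

theorem map_frob_expand (p : ℕ) [Fact p.Prime] (k : Type u) [CommRing k] [CharP k p] (g : PowerSeries k) :
    (PowerSeries.expand p (Fact.out : p.Prime).ne_zero g).map (frobenius k p) = g ^ p :=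
  MvPowerSeries.map_frobenius_expand _ _

theorem powerSeries_finite (p : ℕ) [Fact p.Prime] (k : Type u) [Field k] [Finite k] [CharP k p]
    [CharP (PowerSeries k) p] : (frobenius (PowerSeries k) p).Finite := by
  classical
  have hp : p.Prime := Fact.out
  have hs : Function.Surjective (frobenius k p) := Finite.injective_iff_surjective.1 (frobenius k p).injective
  choose r hr using hs
  refine Groth.Agent.S19092.finite_of_gens (fun a : Fin p => (PowerSeries.X : PowerSeries k) ^ (a : ℕ)) fun f => ?_
  refine ⟨fun a => PowerSeries.mk fun n => r (PowerSeries.coeff (p * n + a) f), ?_⟩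
  ext m
  rw [map_sum]
  rw [Finset.sum_eq_single ⟨m % p, Nat.mod_lt _ hp.pos⟩]
  · rw [PowerSeries.coeff_mul_X_pow', if_pos (Nat.mod_le m p)]
    have h1 : m - m % p = p * (m / p) := by have := Nat.div_add_mod m p; omega
    simp only
    rw [h1, frobenius_def, ← map_frob_expand p k, PowerSeries.coeff_map,
      mul_comm p (m / p), mul_comm (m / p) p, PowerSeries.coeff_expand_mul, PowerSeries.coeff_mk, hr, Nat.div_add_mod]
  · intro a _ ha
    rw [PowerSeries.coeff_mul_X_pow']
    split_ifs with h
    · rw [frobenius_def, ← map_frob_expand p k, PowerSeries.coeff_map,
        PowerSeries.coeff_expand_of_not_dvd, map_zero]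
      intro hd
      apply ha
      refine Fin.ext ?_
      show (a : ℕ) = m % p
      obtain ⟨c, hc⟩ := hd
      rw [show m = (a : ℕ) + p * c by omega, Nat.add_mul_mod_self_left, Nat.mod_eq_of_lt a.isLt]
    · rfl
  · intro h; exact absurd (Finset.mem_univ _) h


/-- Let p be a prime, k a finite field of characteristic p, A a commutative k[[t]]-algebra of finite
type over the power series ring k[[t]], and P a prime ideal of A. Then the absolute Frobenius a ↦
a^p of the local ring A_P is a finite ring homomorphism. In particular every local ring of a scheme
of finite type over k[[t]] has finite absolute Frobenius. (The instance hypothesis that A_P has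
characteristic p always holds, A_P being a nonzero algebra over k.) The published statement is for
the local rings of a projective strictly semistable scheme over k[[t]] and adds that such a scheme
is regular with F-finite local rings; its proof uses only that the scheme is of finite type over
k[[t]], which is the form stated here. -/
theorem result (p : ℕ) [Fact p.Prime]
    (k : Type u) [Field k] [Finite k] [CharP k p]
    (A : Type u) [CommRing A] [Algebra (PowerSeries k) A] [Algebra.FiniteType (PowerSeries k) A]
    (P : Ideal A) [P.IsPrime] [CharP (Localization.AtPrime P) p] :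
    (frobenius (Localization.AtPrime P) p).Finite := by
  classical
  haveI : Nontrivial A := ⟨⟨0, 1, fun h => ‹P.IsPrime›.ne_top ((Ideal.eq_top_iff_one P).2 (h ▸ P.zero_mem))⟩⟩
  haveI : CharP (PowerSeries k) p := charP_of_injective_ringHom (f := PowerSeries.C) PowerSeries.C_injective p
  haveI : CharP A p :=
    charP_of_injective_ringHom ((algebraMap (PowerSeries k) A).comp PowerSeries.C).injective p
  have hR := powerSeries_finite p k
  have hft : ((frobenius A p).comp (algebraMap (PowerSeries k) A)).FiniteType := by
    rw [← RingHom.frobenius_comm (algebraMap (PowerSeries k) A) p]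
    exact RingHom.FiniteType.comp (RingHom.finiteType_algebraMap.2 inferInstance) hR.to_finiteType
  have hA : (frobenius A p).Finite := RingHom.IsIntegral.to_finite (fun b =>
    ⟨Polynomial.X ^ p - Polynomial.C b, Polynomial.monic_X_pow_sub_C b (Fact.out : p.Prime).ne_zero, by
      simp [frobenius_def]⟩) hft.of_comp_finiteType
  exact (Groth.Agent.S19092.result p A hA).2 P.primeCompl (Localization.AtPrime P)

end Groth.Agent.S19093
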