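import Groth.Statements.S19094
import Mathlib.RingTheory.PowerSeries.Expand
import Mathlib.RingTheory.MvPowerSeries.Expand
import Mathlib.Algebra.Polynomial.Expand
import Mathlib.RingTheory.AlgebraicIndependent.TranscendenceBasis
import Mathlib.RingTheory.AlgebraicIndependent.Adjoin
import Mathlib.FieldTheory.Relrank
import Mathlib.RingTheory.LaurentSeries
import Mathlib.FieldTheory.Perfect
import Mathlib.Algebra.MvPolynomial.Equiv
import Mathlib.Tactic

set_option autoImplicit false
universe u
open FrobAlg

namespace Groth.Agent.S19094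

/-- Every element is uniquely a combination of the `v i` with coefficients `p`-th powers. -/
def Decomp (p : ℕ) (P : Type u) [CommRing P] (σ : Type) [Fintype σ] (v : σ → P) : Prop :=
  Function.Bijective fun a : σ → P => ∑ i, a i ^ p * v i

theorem decomp_of_ringEquiv (p : ℕ) {P Q : Type u} [CommRing P] [CommRing Q] (e : P ≃+* Q) {σ : Type}
    [Fintype σ] (h : ∃ v : σ → P, Decomp p P σ v) : ∃ v : σ → Q, Decomp p Q σ v := by
  obtain ⟨v, hv⟩ := h
  refine ⟨fun i => e (v i), ?_⟩
  have : (fun a : σ → Q => ∑ i, a i ^ p * e (v i)) =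
      e ∘ (fun a : σ → P => ∑ i, a i ^ p * v i) ∘ (fun a i => e.symm (a i)) := by
    funext a
    simp [map_sum]
  rw [Decomp, this]
  exact e.bijective.comp (hv.comp (Equiv.piCongrRight fun _ => e.symm.toEquiv).bijective)

theorem decomp_polynomial (p : ℕ) [Fact p.Prime] (P : Type u) [CommRing P] [CharP P p] {σ : Type}
    [Fintype σ] (h : ∃ v : σ → P, Decomp p P σ v) :
    ∃ v : Fin p × σ → Polynomial P, Decomp p (Polynomial P) (Fin p × σ) v := by
  obtain ⟨v, hv⟩ := h
  have hp : 0 < p := (Fact.out : p.Prime).pos
  refine ⟨fun q => Polynomial.C (v q.2) * Polynomial.X ^ (q.1 : ℕ), ?_⟩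
  have key : ∀ (a : Fin p × σ → Polynomial P) (m : ℕ) (i : Fin p),
      (∑ q, a q ^ p * (Polynomial.C (v q.2) * Polynomial.X ^ (q.1 : ℕ))).coeff (m * p + i) =
        ∑ j, (a (i, j)).coeff m ^ p * v j := by
    intro a m i
    rw [Polynomial.finsetSum_coeff, Fintype.sum_prod_type, Finset.sum_eq_single i]
    · refine Finset.sum_congr rfl fun j _ => ?_
      rw [← mul_assoc, Polynomial.coeff_mul_X_pow, Polynomial.coeff_mul_C,
        ← Polynomial.map_frobenius_expand, Polynomial.coeff_map, Polynomial.coeff_expand_mul hp,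
        frobenius_def]
    · intro b _ hb
      refine Finset.sum_eq_zero fun j _ => ?_
      rw [← mul_assoc, Polynomial.coeff_mul_X_pow']
      split_ifs with hle
      · rw [Polynomial.coeff_mul_C, ← Polynomial.map_frobenius_expand, Polynomial.coeff_map,
          Polynomial.coeff_expand hp, if_neg, map_zero, zero_mul]
        intro hdvd
        have h3 : (m * p + i) % p = (b : ℕ) % p :=
          ((Nat.modEq_iff_dvd' hle).mpr hdvd).symm
        rw [Nat.mul_add_mod_self_right, Nat.mod_eq_of_lt i.2, Nat.mod_eq_of_lt b.2] at h3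
        exact hb (Fin.ext h3.symm)
      · rfl
    · simp
  constructor
  · intro a b hab
    funext q
    refine Polynomial.ext fun m => ?_
    have := congrFun (hv.1 (a₁ := fun j => (a (q.1, j)).coeff m) (a₂ := fun j => (b (q.1, j)).coeff m)
      ((key a m q.1).symm.trans ((congrArg (fun f : Polynomial P => f.coeff (m * p + q.1)) hab).trans
        (key b m q.1)))) q.2
    exact this
  · intro y
    choose c hc using fun n : ℕ => hv.2 (y.coeff n)
    let a : Fin p × σ → Polynomial P := fun q =>
      ∑ m ∈ Finset.range (y.natDegree + 1), Polynomial.monomial m (c (m * p + q.1) q.2)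
    refine ⟨a, Polynomial.ext fun n => ?_⟩
    obtain ⟨m, i, rfl⟩ : ∃ (m : ℕ) (i : Fin p), n = m * p + i :=
      ⟨n / p, ⟨n % p, Nat.mod_lt _ hp⟩, (Nat.div_add_mod' n p).symm⟩
    refine (key a m i).trans ?_
    by_cases hm : m ≤ y.natDegree
    · refine (Finset.sum_congr rfl fun j _ => ?_).trans (hc _)
      simp [a, Polynomial.finsetSum_coeff, Polynomial.coeff_monomial, Nat.lt_succ_iff, hm]
    · rw [Polynomial.coeff_eq_zero_of_natDegree_lt (by
        have : m ≤ m * p := Nat.le_mul_of_pos_right m hp
        omega)]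
      refine Finset.sum_eq_zero fun j _ => ?_
      simp [a, Polynomial.finsetSum_coeff, Polynomial.coeff_monomial, Nat.lt_succ_iff, hm, hp.ne']

theorem decomp_fractionRing (p : ℕ) [Fact p.Prime] (P L : Type u) [CommRing P] [IsDomain P] [Field L]
    [Algebra P L] [IsFractionRing P L] {σ : Type} [Fintype σ] (h : ∃ v : σ → P, Decomp p P σ v) :
    ∃ v : σ → L, Decomp p L σ v := by
  obtain ⟨v, hv⟩ := h
  have hp : p ≠ 0 := (Fact.out : p.Prime).ne_zero
  refine ⟨fun i => algebraMap P L (v i), fun a b hab => ?_, fun y => ?_⟩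
  · classical
    obtain ⟨d, hd⟩ := IsLocalization.exist_integer_multiples (nonZeroDivisors P) Finset.univ (Sum.elim a b)
    choose f hf using fun s => hd s (Finset.mem_univ s)
    have hab' : ∑ i, f (Sum.inl i) ^ p * v i = ∑ i, f (Sum.inr i) ^ p * v i := by
      apply IsFractionRing.injective P L
      simp only [map_sum, map_mul, map_pow, hf, Sum.elim_inl, Sum.elim_inr, Algebra.smul_def, mul_pow,
        mul_assoc, ← Finset.mul_sum]
      exact congrArg _ hab
    funext i
    have h1 := congrArg (algebraMap P L) (congrFun (hv.1 hab') i)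
    simp only [hf, Sum.elim_inl, Sum.elim_inr, Algebra.smul_def] at h1
    exact mul_left_cancel₀ (IsFractionRing.to_map_ne_zero_of_mem_nonZeroDivisors d.2) h1
  · obtain ⟨a, b, hb, rfl⟩ := IsFractionRing.div_surjective (A := P) y
    obtain ⟨c, hc⟩ := hv.2 (a * b ^ (p - 1))
    have hb0 : algebraMap P L b ≠ 0 := IsFractionRing.to_map_ne_zero_of_mem_nonZeroDivisors hb
    refine ⟨fun i => algebraMap P L (c i) / algebraMap P L b, ?_⟩
    have h1 : algebraMap P L (∑ i, c i ^ p * v i) = algebraMap P L (a * b ^ (p - 1)) := congrArg _ hc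
    simp only [map_sum, map_mul, map_pow] at h1
    simp only [div_pow, div_mul_eq_mul_div, ← Finset.sum_div, h1]
    rw [div_eq_div_iff (pow_ne_zero _ hb0) hb0, mul_assoc, ← pow_succ, Nat.sub_add_cancel (Nat.pos_of_ne_zero hp)]

theorem decomp_laurent (p : ℕ) [Fact p.Prime] (k : Type u) [Field k] [Finite k] [CharP k p] :
    ∃ v : Fin p → LaurentSeries k, Decomp p (LaurentSeries k) (Fin p) v := by
  have hp : 0 < p := (Fact.out : p.Prime).pos
  refine decomp_fractionRing p (PowerSeries k) (LaurentSeries k)
    ⟨fun i => PowerSeries.X ^ (i : ℕ), ?_⟩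
  have key : ∀ (a : Fin p → PowerSeries k) (m : ℕ) (i : Fin p),
      PowerSeries.coeff (m * p + i) (∑ q, a q ^ p * PowerSeries.X ^ (q : ℕ)) =
        PowerSeries.coeff m (a i) ^ p := by
    intro a m i
    have hpow : ∀ (f : PowerSeries k) (n : ℕ), PowerSeries.coeff n (f ^ p) =
        if p ∣ n then PowerSeries.coeff (n / p) f ^ p else 0 := fun f n => by
      have h1 : f ^ p = PowerSeries.map (frobenius k p) (PowerSeries.expand p hp.ne' f) :=
        (MvPowerSeries.map_frobenius_expand p hp.ne' (f := f)).symm
      rw [h1, PowerSeries.coeff_map, PowerSeries.coeff_expand, frobenius_def]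
      split_ifs with hdvd
      · rfl
      · rw [zero_pow hp.ne']
    rw [map_sum, Finset.sum_eq_single i]
    · rw [PowerSeries.coeff_mul_X_pow, hpow, if_pos (dvd_mul_left p m), Nat.mul_div_cancel _ hp]
    · intro b _ hb
      rw [PowerSeries.coeff_mul_X_pow']
      split_ifs with hle
      · rw [hpow, if_neg]
        intro hdvd
        have h3 : (m * p + i) % p = (b : ℕ) % p :=
          ((Nat.modEq_iff_dvd' hle).mpr hdvd).symm
        rw [Nat.mul_add_mod_self_right, Nat.mod_eq_of_lt i.2, Nat.mod_eq_of_lt b.2] at h3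
        exact hb (Fin.ext h3.symm)
      · rfl
    · simp
  constructor
  · intro a b hab
    funext i
    refine PowerSeries.ext fun m => frobenius_inj k p ?_
    exact (key a m i).symm.trans ((congrArg (PowerSeries.coeff (m * p + i)) hab).trans (key b m i))
  · intro y
    haveI : PerfectRing k p := inferInstance
    choose c hc using fun n : ℕ => (bijective_frobenius k p).2 (PowerSeries.coeff n y)
    refine ⟨fun i => PowerSeries.mk fun m => c (m * p + i), PowerSeries.ext fun n => ?_⟩
    obtain ⟨m, i, rfl⟩ : ∃ (m : ℕ) (i : Fin p), n = m * p + i :=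
      ⟨n / p, ⟨n % p, Nat.mod_lt _ hp⟩, (Nat.div_add_mod' n p).symm⟩
    refine (key _ m i).trans ?_
    rw [PowerSeries.coeff_mk]
    exact hc _

theorem decomp_reindex (p : ℕ) {P : Type u} [CommRing P] {σ τ : Type} [Fintype σ] [Fintype τ] (e : σ ≃ τ)
    (h : ∃ v : σ → P, Decomp p P σ v) : ∃ v : τ → P, Decomp p P τ v := by
  obtain ⟨v, hv⟩ := h
  refine ⟨fun j => v (e.symm j), ?_⟩
  have : (fun a : τ → P => ∑ j, a j ^ p * v (e.symm j)) =
      (fun a : σ → P => ∑ i, a i ^ p * v i) ∘ fun a i => a (e i) := by
    funext a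
    show _ = ∑ i, a (e i) ^ p * v i
    exact (Fintype.sum_equiv e _ _ (fun i => by simp)).symm
  rw [Decomp, this]
  exact hv.comp (Equiv.arrowCongr e.symm (Equiv.refl P)).bijective

theorem decomp_mvPolynomial (p : ℕ) [Fact p.Prime] (F : Type u) [CommRing F] [CharP F p] :
    ∀ d : ℕ, (∃ v : Fin p → F, Decomp p F (Fin p) v) →
      ∃ v : Fin (p ^ (d + 1)) → MvPolynomial (Fin d) F, Decomp p (MvPolynomial (Fin d) F) (Fin (p ^ (d + 1))) v
  | 0, h => decomp_reindex p (finCongr (by simp))
      (decomp_of_ringEquiv p (MvPolynomial.isEmptyAlgEquiv F (Fin 0)).symm.toRingEquiv h)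
  | d + 1, h => by
    refine decomp_reindex p (finProdFinEquiv.trans (finCongr (pow_succ' p (d + 1)).symm)) ?_
    exact decomp_of_ringEquiv p (MvPolynomial.finSuccEquiv F d).symm.toRingEquiv
      (decomp_polynomial p _ (decomp_mvPolynomial p F d h))

theorem finrank_of_decomp (p : ℕ) [Fact p.Prime] (L : Type u) [Field L] [CharP L p] {σ : Type} [Fintype σ]
    (v : σ → L) (h : Decomp p L σ v) :
    Module.finrank (↥(frobenius L p).fieldRange) L = Fintype.card σ := by
  refine Module.finrank_eq_card_basis (Module.Basis.mk (v := v) (Fintype.linearIndependent_iff.mpr ?_) ?_)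
  · intro g hg i
    choose r hr using fun i => (g i).2
    have := congrFun (h.1 (a₁ := r) (a₂ := 0) (by
      simp only [frobenius_def] at hr
      simpa [hr, zero_pow (Fact.out : p.Prime).ne_zero, Subfield.smul_def] using hg)) i
    apply Subtype.ext
    show (g i : L) = 0
    rw [← hr i, this]
    simp [frobenius_def, zero_pow (Fact.out : p.Prime).ne_zero]
  · rintro y -
    obtain ⟨a, rfl⟩ := h.2 y
    refine Submodule.sum_mem _ fun i _ => ?_
    exact Submodule.smul_mem _ (⟨a i ^ p, ⟨a i, rfl⟩⟩ : (frobenius L p).fieldRange)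
      (Submodule.subset_span ⟨i, rfl⟩)

theorem finrank_frobenius_finite_ext (p : ℕ) [Fact p.Prime] (M K : Type u) [Field M] [Field K] [CharP M p]
    [CharP K p] [Algebra M K] [FiniteDimensional M K] :
    Module.finrank (↥(frobenius K p).fieldRange) K = Module.finrank (↥(frobenius M p).fieldRange) M := by
  let L : Subfield K := (algebraMap M K).fieldRange
  rw [← Subfield.relfinrank_top_right, ← Subfield.relfinrank_top_right, RingHom.fieldRange_eq_map,
    RingHom.fieldRange_eq_map]
  rw [← Subfield.relfinrank_map_map (Subfield.map (frobenius M p) ⊤) ⊤ (algebraMap M K),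
    Subfield.map_map, RingHom.frobenius_comm, ← Subfield.map_map, ← RingHom.fieldRange_eq_map (algebraMap M K)]
  have hle : Subfield.map (frobenius K p) L ≤ L := by
    rintro _ ⟨_, ⟨z, rfl⟩, rfl⟩
    exact ⟨z ^ p, by simp [frobenius_def]⟩
  have e1 := Subfield.relfinrank_mul_relfinrank hle (le_top : L ≤ ⊤)
  have e2 := Subfield.relfinrank_mul_relfinrank
    ((Subfield.gc_map_comap (frobenius K p)).monotone_l (le_top : L ≤ ⊤)) (le_top : Subfield.map (frobenius K p) ⊤ ≤ ⊤)
  rw [Subfield.relfinrank_map_map, ← e1] at e2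
  have hne : L.relfinrank ⊤ ≠ 0 := by
    rw [Subfield.relfinrank_top_right]
    haveI : Module.Finite L K := Module.Finite.of_surjective
      (σ := (algebraMap M K).rangeRestrictField)
      { toFun := fun x => x, map_add' := fun _ _ => rfl, map_smul' := fun c x => by
          rw [Algebra.smul_def]; rfl } Function.surjective_id
    exact Module.finrank_pos.ne'
  rw [mul_comm] at e2
  exact Nat.eq_of_mul_eq_mul_right (Nat.pos_of_ne_zero hne) (by linarith)



/-- Let p be a prime, k a finite field of characteristic p and K a finitely generated field extension of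
the Laurent series field k((t)) of finite transcendence degree d. Then [K : K^p] = p^(d+1), where
K^p ⊆ K is the subfield of p-th powers (the image of the Frobenius). The case of interest is the
residue field of a generic point of a projective strictly semistable scheme of relative dimension d
over k[[t]], which is such an extension. -/
theorem result (p : ℕ) [Fact p.Prime]
    (k : Type u) [Field k] [Finite k] [CharP k p]
    (K : Type u) [Field K] [Algebra (LaurentSeries k) K] [CharP K p]
    (hfg : (⊤ : IntermediateField (LaurentSeries k) K).FG)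
    (d : ℕ) (hd : Algebra.trdeg (LaurentSeries k) K = d) :
    Module.finrank (↥(frobenius K p).fieldRange) K = p ^ (d + 1) := by
  haveI : CharP (LaurentSeries k) p :=
    (RingHom.charP_iff (algebraMap (LaurentSeries k) K) (algebraMap (LaurentSeries k) K).injective p).mpr inferInstance
  obtain ⟨ι, x, hx⟩ := exists_isTranscendenceBasis' (LaurentSeries k) K
  have hcard : Cardinal.mk ι = d := by rw [hx.cardinalMk_eq_trdeg, hd]
  obtain ⟨e⟩ : Nonempty (ι ≃ Fin d) := Cardinal.eq.mp (by rw [hcard]; simp) |>.map fun e => e.trans Equiv.ulift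
  let M := IntermediateField.adjoin (LaurentSeries k) (Set.range x)
  haveI : Algebra.IsAlgebraic M K := hx.isAlgebraic_field
  haveI : CharP M p := (RingHom.charP_iff (algebraMap M K) (algebraMap M K).injective p).mpr inferInstance
  haveI : FiniteDimensional M K := by
    obtain ⟨s, hs⟩ := hfg
    have h1 : IntermediateField.adjoin M (s : Set K) = ⊤ := by
      apply IntermediateField.restrictScalars_injective (LaurentSeries k)
      rw [IntermediateField.restrictScalars_top, eq_top_iff, ← hs]
      exact IntermediateField.adjoin_le_iff.mpr (IntermediateField.subset_adjoin M (s : Set K))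
    haveI : FiniteDimensional M (IntermediateField.adjoin M (s : Set K)) :=
      IntermediateField.finiteDimensional_adjoin fun y _ => Algebra.IsIntegral.isIntegral y
    rw [h1] at this
    exact IntermediateField.topEquiv.toLinearEquiv.finiteDimensional
  rw [finrank_frobenius_finite_ext p M K]
  have hind : AlgebraicIndependent (LaurentSeries k) x := hx.1
  have hdec := decomp_mvPolynomial p (LaurentSeries k) d (decomp_laurent p k)
  obtain ⟨v, hv⟩ := decomp_of_ringEquiv p
    (MvPolynomial.renameEquiv (LaurentSeries k) e.symm).toRingEquiv hdec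
  haveI : CharP (FractionRing (MvPolynomial ι (LaurentSeries k))) p :=
    charP_of_injective_algebraMap (IsFractionRing.injective (MvPolynomial ι (LaurentSeries k)) _) p
  obtain ⟨w, hw⟩ := decomp_of_ringEquiv p hind.aevalEquivField.toRingEquiv
    (decomp_fractionRing p _ (FractionRing (MvPolynomial ι (LaurentSeries k))) ⟨v, hv⟩)
  rw [finrank_of_decomp p M w hw]
  simp


end Groth.Agent.S19094
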