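import Groth.Statements.S19098
import Groth.Agent.L19.BalancedStab

set_option autoImplicit false
set_option backward.isDefEq.respectTransparency.types false
set_option backward.isDefEq.respectTransparency false
set_option linter.style.haveILetI false
universe u
open CategoryTheory MonoidalCategory CartesianMonoidalCategory MonObj AlgebraicGeometry
open ChGrp

namespace Groth.Agent.S19098

/-- Let S be a scheme, G an S-group scheme acting on an S-scheme X through a, and h an S-point of G. Let
i : Z → G be a homomorphism and ψ : Ψ → G a monomorphism with a G-action on Ψ under which ψ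
intertwines with conjugation, and o an S-point of Ψ over h, such that (Ψ, o) is the homogeneous
space G/Z for the fppf topology through the orbit map g ↦ g h g⁻¹ (so Z is the centralizer of h and
Ψ its conjugacy class). Let incl : X^h → X be a monomorphism whose points are the points of X fixed
by h, with the Z-action restricted from a; let σ : S_Ψ → G ×_S X be a monomorphism whose points are
the pairs (g, x) with g a point of Ψ and g x = x (the part of the global stabilizer over Ψ), with
the G-action by conjugation on the first entry and by a on the second; and let Φ : G ×_S X^h → S_Ψ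
be the morphism (g, x) ↦ (g h g⁻¹, g x). Then Φ makes S_Ψ, with its G-action, the balanced product G
×^Z X^h for the fppf topology: Φ is G-equivariant, it is a Z-torsor for the action z (g, x) = (g
z⁻¹, z x), and it has sections fppf-locally on S_Ψ. (The source works with algebraic spaces of
finite type over the complex numbers and a semisimple conjugacy class Ψ, where the identification of
Ψ with G/Z comes from the theory of algebraic groups; here that identification is the hypothesis
hhom, the base is arbitrary and X is a scheme.) -/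
theorem result
    {S : Scheme.{u}} {G X Z Ψ Xh SΨ : Over S} [GrpObj G] [GrpObj Z]
    (a : AlgGrp.Action G X) (h : 𝟙_ (Over S) ⟶ G)
    (i : Z ⟶ G) [IsMonHom i]
    (ψ : Ψ ⟶ G) [Mono ψ] (aΨ : AlgGrp.Action G Ψ)
    (hψ : aΨ.act ≫ ψ = fst G Ψ * (snd G Ψ ≫ ψ) * (fst G Ψ)⁻¹)
    (o : 𝟙_ (Over S) ⟶ Ψ) (ho : o ≫ ψ = h)
    (hhom : ChGrp.IsHomog Scheme.fppfPrecoverage i aΨ o)
    (incl : Xh ⟶ X) [Mono incl]
    (hXh : ∀ (T : Over S) (x : T ⟶ X), (∃ y : T ⟶ Xh, y ≫ incl = x) ↔ lift (toUnit T ≫ h) x ≫ a.act = x)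
    (aXh : AlgGrp.Action Z Xh) (hincl : AlgGrp.Action.IsEquivariant aXh (a.restrict i) incl)
    (σ : SΨ ⟶ G ⊗ X) [Mono σ]
    (hSΨ : ∀ (T : Over S) (g : T ⟶ G) (x : T ⟶ X),
      (∃ q : T ⟶ SΨ, q ≫ σ = lift g x) ↔ ((∃ y : T ⟶ Ψ, y ≫ ψ = g) ∧ lift g x ≫ a.act = x))
    (aS : AlgGrp.Action G SΨ)
    (hσ : aS.act ≫ σ = lift (fst G SΨ * (snd G SΨ ≫ σ ≫ fst G X) * (fst G SΨ)⁻¹)
      (lift (fst G SΨ) (snd G SΨ ≫ σ ≫ snd G X) ≫ a.act))
    (Φ : G ⊗ Xh ⟶ SΨ)
    (hΦ : Φ ≫ σ = lift (fst G Xh * (toUnit (G ⊗ Xh) ≫ h) * (fst G Xh)⁻¹)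
      (lift (fst G Xh) (snd G Xh ≫ incl) ≫ a.act)) :
    ChGrp.IsBalProd Scheme.fppfPrecoverage i aXh aS Φ := by
  exact Groth.L19.BalancedStab.isBalProd a h i ψ aΨ hψ o ho hhom incl hXh aXh hincl σ hSΨ aS hσ Φ hΦ

end Groth.Agent.S19098
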