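import Groth.Statements.S1910
import Groth.Agent.L22.Sp.Subscheme
import Groth.Agent.L02.Quot.HilbQuot
import Groth.Agent.L22.Cyc.P1Rat
import Groth.Agent.L16.CohClosedPush
-- import your own Groth.Agent.* helpers here

set_option autoImplicit false
set_option backward.isDefEq.respectTransparency.types false
set_option backward.isDefEq.respectTransparency false
universe u
open CategoryTheory AlgebraicGeometry
open CategoryTheory.Limits
open Cyc

namespace Groth.Agent.S1910

/-- Let W → X be a closed immersion with W flat over R and dim W_η ≤ r. Then dim W_s ≤ r and sp([W_η]_r)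
= [W_s]_r. Here R is a discrete valuation ring, a : X → Spec R is locally of finite type, X_η and
X_s are the fibres over the generic and closed points (Mathlib's Scheme.Hom.fiber) with their
dimension functions δη, δs (transcendence degree of residue fields), r-cycles on X_η are cycles
supported at points with δη = r, and sp is the specialization map Z_r(X_η) → Z_r(X_s) on coefficient
functions (Cyc.spFun). -/
theorem result (R : Type u) [CommRing R] [IsDomain R] [IsDiscreteValuationRing R] (X : Scheme.{u}) (a : X ⟶ Spec (CommRingCat.of R)) [LocallyOfFiniteType a] (δη : ↥(a.fiber (genericPoint ↥(Spec (CommRingCat.of R)))) → ℤ) (δs : ↥(a.fiber (IsLocalRing.closedPoint R)) → ℤ) (hδη : Cyc.DeltaCompat (a.fiberToSpecResidueField (genericPoint ↥(Spec (CommRingCat.of R)))) δη (fun _ => 0)) (hδs : Cyc.DeltaCompat (a.fiberToSpecResidueField (IsLocalRing.closedPoint R)) δs (fun _ => 0)) (r : ℤ) (W : Scheme.{u}) (ι : W ⟶ X) [IsClosedImmersion ι] [Flat (ι ≫ a)] (hdim : ∀ ζ : ↥(a.fiber (genericPoint ↥(Spec (CommRingCat.of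 R)))), a.fiberι (genericPoint ↥(Spec (CommRingCat.of R))) ζ ∈ Set.range ⇑ι → δη ζ ≤ r) : (∀ x : ↥(a.fiber (IsLocalRing.closedPoint R)), a.fiberι (IsLocalRing.closedPoint R) x ∈ Set.range ⇑ι → δs x ≤ r) ∧ Cyc.spFun a (genericPoint ↥(Spec (CommRingCat.of R))) (IsLocalRing.closedPoint R) δη δs r (Cyc.subschemeFun δη r (pullback.snd ι (a.fiberι (genericPoint ↥(Spec (CommRingCat.of R)))))) = Cyc.subschemeFun δs r (pullback.snd ι (a.fiberι (IsLocalRing.closedPoint R))) := by
  haveI : IsLocallyNoetherian X := LocallyOfFiniteType.isLocallyNoetherian a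
  haveI : IsLocallyNoetherian W := LocallyOfFiniteType.isLocallyNoetherian ι
  let F := (Coh.push ι).obj (Coh.structureModule W)
  have hF : Coh.IsCoh F :=
    Groth.L16.CohClosedPush.isCoh_push ι Groth.L16.CohClosedPush.isCoh_structure
  have hflat : FlatMod.IsFlatOver a F := fun p => by
    by_cases hp : p ∈ Set.range ι
    · obtain ⟨z, rfl⟩ := hp
      exact (Groth.L02.Quot.HilbQ.isFlatOverAt_push_iff ι a z).2 ((Flat.iff_flat_stalkMap _).1 inferInstance z)
    · letI := FlatMod.moduleStalkOver a F p
      haveI : Subsingleton (F.presheaf.stalk p) :=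
        Groth.L17.ClosedPush.subsingleton_stalk_push ι (Coh.structureModule W) hp
      exact (inferInstance : Module.Flat ((Spec (CommRingCat.of R)).presheaf.stalk (a p)) (F.presheaf.stalk p))
  have hgen : Cyc.subschemeFun δη r (pullback.snd ι (a.fiberι (genericPoint ↥(Spec (CommRingCat.of R))))) =
      Cyc.sheafFun δη r ((Scheme.Modules.pullback (a.fiberι (Groth.L22.Sp.eta R))).obj F) :=
    Groth.L22.Sp.subschemeFun_eta a ι δη r
  haveI := Groth.L22.Sp.isClosedImmersion_fiberι a
  have hsp : Cyc.subschemeFun δs r (pullback.snd ι (a.fiberι (IsLocalRing.closedPoint R))) =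
      Cyc.sheafFun δs r ((Scheme.Modules.pullback (a.fiberι (Groth.L22.Sp.sp R))).obj F) :=
    Groth.L22.P1Sub.subschemeFun_snd ι (a.fiberι (Groth.L22.Sp.sp R))
      (Groth.L18.Ample.isInvertible_structureModule X) (Groth.L22.Sp.isZeroSchemeOf a) δs r
  have hdim' : ∀ ζ, Nontrivial (((Scheme.Modules.pullback (a.fiberι (Groth.L22.Sp.eta R))).obj F).presheaf.stalk ζ) →
      δη ζ ≤ r := fun ζ h => hdim ζ (Groth.L22.P1Sub.mem_range_of_nontrivial_push ι
        (Groth.L22.Sp.nontrivial_of_pullback _ h))
  refine ⟨fun x hx => ?_, ?_⟩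
  · obtain ⟨z, hz⟩ := hx
    haveI hntF : Nontrivial (F.presheaf.stalk (ι z)) :=
      Groth.L22.Sp.nontrivial_push ι z
    refine (Groth.L22.Sp.spFun_sheafFun a hδη hδs hF hflat hdim').1 x ?_
    exact Groth.L22.P1Rat.nontrivial_stalk_pullback (a.fiberι (Groth.L22.Sp.sp R)) hF
      (Groth.L22.Sp.isZeroSchemeOf a) x (hz ▸ hntF)
  · rw [hgen, hsp]
    exact (Groth.L22.Sp.spFun_sheafFun a hδη hδs hF hflat hdim').2

end Groth.Agent.S1910
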