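import Groth.Statements.S19101
import Groth.Agent.S9371
import Groth.Agent.S9372

set_option autoImplicit false
set_option backward.isDefEq.respectTransparency.types false
set_option backward.isDefEq.respectTransparency false
set_option linter.style.haveILetI false
open CategoryTheory MonoidalCategory CartesianMonoidalCategory MonObj AlgebraicGeometry Limits
open Omega

namespace Groth.Agent.S19101

/-- Over S = Spec ℂ let G be an affine group scheme of finite type, Y a scheme over ℂ, and X a scheme
over Y carrying an action, over Y, of the base change G_Y of G to Y which makes X an fppf torsor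
under G over Y. Let g : X ×_Y X → G be the morphism determined by g(h x, x) = h, i.e. the composite
of the inverse of the isomorphism G_Y ×_Y X → X ×_Y X, (h, x) ↦ (h x, x), with the projection to G;
the diagonal X → X ×_Y X and the unit section Spec ℂ → G then form a commutative (indeed cartesian)
square with g and X → Spec ℂ. Then there is a map of conormal sheaves for this square, from the
pullback to X of the conormal sheaf m_e/m_e² of the unit section (the trivial bundle with fibre the
dual of the Lie algebra 𝔤) to the conormal sheaf of the diagonal, which is the sheaf of relative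
differentials Ω_{X/Y}, characterised by sending the class of a local equation of the unit section to
the class of its pullback under g, and this map is an isomorphism: Ω_{X/Y} ≅ O_X ⊗ 𝔤^∨ canonically.
(The source states the dual form T_f = X × 𝔤 for algebraic spaces and moreover as G-equivariant
bundles for the adjoint action; the equivariance is not expressed here, and X, Y are schemes.) -/
theorem result
    {G Y : Over (Spec (CommRingCat.of ℂ))} [GrpObj G] [IsAffine G.left] [LocallyOfFiniteType G.hom]
    {X : Over Y.left} (a : AlgGrp.Action (Red.bc Y.hom G) X)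
    (hX : NonAbH1.IsTorsorFor Scheme.fppfPrecoverage a)
    (g : pullback X.hom X.hom ⟶ G.left)
    (hg : (lift a.act (snd (Red.bc Y.hom G) X)).left ≫ g =
      (fst (Red.bc Y.hom G) X).left ≫ pullback.fst G.hom Y.hom) :
    ∃ φ : (Scheme.Modules.pullback (toUnit (Over.mk (X.hom ≫ Y.hom) : Over (Spec (CommRingCat.of ℂ)))).left).obj
        (Omega.conormal (η[G]).left) ⟶ Omega.conormal (pullback.diagonal X.hom),
      OmegaSh.IsConormalMap (pullback.diagonal X.hom) (η[G]).left g
        (toUnit (Over.mk (X.hom ≫ Y.hom) : Over (Spec (CommRingCat.of ℂ)))).left φ ∧ IsIso φ := by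
  have hiso : IsIso (lift a.act (snd (Red.bc Y.hom G) X)) := hX.1
  let sO : Red.bc Y.hom G ⊗ X ≅ X ⊗ X := @asIso _ _ _ _ _ hiso
  let s : pullback (Red.bc Y.hom G).hom X.hom ≅ pullback X.hom X.hom := (Over.forget _).mapIso sO
  let p : pullback (Red.bc Y.hom G).hom X.hom ⟶ G.left :=
    pullback.fst (Red.bc Y.hom G).hom X.hom ≫ pullback.fst G.hom Y.hom
  have hP : IsPullback p (pullback.snd (Red.bc Y.hom G).hom X.hom) G.hom (X.hom ≫ Y.hom) :=
    ((IsPullback.of_hasPullback (Red.bc Y.hom G).hom X.hom).flip.paste_vert
      (IsPullback.of_hasPullback G.hom Y.hom).flip).flip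
  let eU : X ⟶ Red.bc Y.hom G ⊗ X := lift (toUnit X ≫ η[Red.bc Y.hom G]) (𝟙 X)
  let u : X.left ⟶ pullback (Red.bc Y.hom G).hom X.hom := eU.left
  let q : X.left ⟶ Spec (CommRingCat.of ℂ) := (toUnit (Over.mk (X.hom ≫ Y.hom) : Over (Spec (CommRingCat.of ℂ)))).left
  have hq : q = X.hom ≫ Y.hom := by
    have := Over.w (toUnit (Over.mk (X.hom ≫ Y.hom) : Over (Spec (CommRingCat.of ℂ))))
    simpa [q] using this
  have huy : u ≫ pullback.snd (Red.bc Y.hom G).hom X.hom = 𝟙 X.left :=
    congrArg CommaMorphism.left (lift_snd (toUnit X ≫ η[Red.bc Y.hom G]) (𝟙 X))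
  have hη : (η[G]).left ≫ G.hom = 𝟙 _ := Over.w η[G]
  have hup : u ≫ p = q ≫ (η[G]).left := by
    have h1 : u ≫ pullback.fst (Red.bc Y.hom G).hom X.hom = (toUnit X ≫ η[Red.bc Y.hom G]).left :=
      congrArg CommaMorphism.left (lift_fst (toUnit X ≫ η[Red.bc Y.hom G]) (𝟙 X))
    have hy : (η[Red.bc Y.hom G]).left ≫ pullback.fst G.hom Y.hom = Y.hom ≫ (η[G]).left := by
      simp [Red.bc, Functor.obj.η_def]
    have ht : (toUnit X).left = X.hom := by simpa using Over.w (toUnit X)
    rw [hq, ← Category.assoc, h1, Over.comp_left, ht, Category.assoc]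
    exact (congrArg (X.hom ≫ ·) hy).trans (Category.assoc _ _ _).symm
  have hsq₀ : IsPullback u q p (η[G]).left := by
    refine (IsPullback.of_bot (h₁₁ := q) (v₁₁ := u) (v₁₂ := (η[G]).left) ?_ hup.symm hP).flip
    rw [huy, hη]
    exact (IsPullback.of_vert_isIso ⟨by rw [hq, Category.id_comp, Category.comp_id]⟩ : IsPullback q (𝟙 X.left) (𝟙 _) (X.hom ≫ Y.hom))
  have hu : u ≫ s.hom = pullback.diagonal X.hom := by
    have h1 : eU ≫ sO.hom = lift (𝟙 X) (𝟙 X) := by
      show eU ≫ lift a.act (snd (Red.bc Y.hom G) X) = _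
      refine CartesianMonoidalCategory.hom_ext _ _ ?_ ?_
      · rw [Category.assoc, lift_fst, lift_fst]
        have h2 : eU = (λ_ X).inv ≫ η[Red.bc Y.hom G] ▷ X := by
          refine CartesianMonoidalCategory.hom_ext _ _ ?_ ?_ <;> simp [eU]
        rw [h2, Category.assoc, a.one_act, Iso.inv_hom_id]
      · rw [Category.assoc, lift_snd, lift_snd]
        exact (lift_snd (𝟙 X) (𝟙 X)).symm
    have h3 := congrArg CommaMorphism.left h1
    refine Eq.trans (show u ≫ s.hom = (eU ≫ sO.hom).left from rfl) (h3.trans (pullback.hom_ext ?_ ?_))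
    · rw [pullback.diagonal_fst]
      exact congrArg CommaMorphism.left (lift_fst (𝟙 X) (𝟙 X))
    · rw [pullback.diagonal_snd]
      exact congrArg CommaMorphism.left (lift_snd (𝟙 X) (𝟙 X))
  have hsg : s.hom ≫ g = p := hg
  have hg' : s.inv ≫ p = g := by rw [← hsg, Iso.inv_hom_id_assoc]
  have hsq : IsPullback (pullback.diagonal X.hom) q g (η[G]).left := by
    refine hsq₀.of_iso (Iso.refl _) s (Iso.refl _) (Iso.refl _) ?_ ?_ ?_ ?_
    · rw [hu, Iso.refl_hom, Category.id_comp]
    · simp
    · rw [hsg, Iso.refl_hom, Category.comp_id]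
    · simp
  haveI : Flat (X.hom ≫ Y.hom) := inferInstance
  haveI : Flat p := MorphismProperty.of_isPullback hP.flip inferInstance
  haveI : Flat g := hg' ▸ inferInstance
  haveI : IsSeparated G.hom := inferInstance
  haveI : IsClosedImmersion (η[G]).left := by
    haveI : IsClosedImmersion ((η[G]).left ≫ G.hom) := by rw [hη]; infer_instance
    exact IsClosedImmersion.of_comp _ G.hom
  haveI : QuasiCompact (pullback.diagonal X.hom) := MorphismProperty.of_isPullback hsq.flip inferInstance
  obtain ⟨φ, hφ, -⟩ := Groth.Agent.S9371.result (pullback.diagonal X.hom) (η[G]).left g q hsq.w.symm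
  exact ⟨φ, hφ, (Groth.Agent.S9372.result (pullback.diagonal X.hom) (η[G]).left g q hsq φ hφ).2 inferInstance⟩

end Groth.Agent.S19101
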