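import Groth.Statements.S19102
import Groth.Agent.L08.PeterWeylClass
import Mathlib.Analysis.Complex.Polynomial.Basic
-- import your own Groth.Agent.* helpers here

set_option autoImplicit false
set_option backward.isDefEq.respectTransparency.types false
set_option linter.style.haveILetI false
open CategoryTheory MonoidalCategory CartesianMonoidalCategory MonObj AlgebraicGeometry
open scoped TensorProduct
open HopfRep

namespace Groth.Agent.S19102

/-- Let A be a finitely generated commutative Hopf algebra over the complex numbers all of whose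
finite-dimensional comodules are semisimple (a linearly reductive complex linear algebraic group G =
Spec A, connected or not; over the complex numbers these are the groups whose identity component has
a torus as radical, the reductive groups of the source). For a comodule structure on the coordinate
space ℂ^d with coaction e_i ↦ Σ_j e_j ⊗ a_ji, its character is the element Σ_i a_ii of A. Then (1)
an element f of A is a class function, meaning f(x g x⁻¹) = f(g) for all points x, g of G with
values in any ℂ-scheme, if and only if f is a ℂ-linear combination of characters; and (2) the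
characters of finitely many simple comodule structures on coordinate spaces, pairwise non-isomorphic
(no linear isomorphism intertwines the coactions), are linearly independent over ℂ. In other words
the character map from the complexified representation ring of G to the ring of class functions on G
is bijective. (The source's further assertion that R(G) is a finitely generated algebra for every G
is not restated.) -/
theorem result
    (A : Type) [CommRing A] [HopfAlgebra ℂ A] [Algebra.FiniteType ℂ A]
    (hred : HopfRep.IsLinearlyReductive ℂ A) :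
    (∀ f : A,
      (∀ (T : Over (Spec (CommRingCat.of ℂ))) (x g : T ⟶ CoactBr.sp ℂ A),
          (x * g * x⁻¹).left.appTop ((Scheme.ΓSpecIso (CommRingCat.of A)).inv f) =
            g.left.appTop ((Scheme.ΓSpecIso (CommRingCat.of A)).inv f)) ↔
        f ∈ Submodule.span ℂ (Set.range fun p : (Σ d : ℕ, HopfRep.Comod ℂ A (Fin d → ℂ)) =>
          ∑ i : Fin p.1, TensorProduct.lid ℂ A (LinearMap.rTensor A (LinearMap.proj i)
            (@HopfRep.Comod.coact ℂ A _ _ _ _ (Fin p.1 → ℂ) _ _ p.2 (Pi.single i 1))))) ∧
    (∀ (n : ℕ) (d : Fin n → ℕ) (c : (i : Fin n) → HopfRep.Comod ℂ A (Fin (d i) → ℂ)),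
      (∀ i, @HopfRep.IsSimpleComod ℂ A _ _ _ _ (Fin (d i) → ℂ) _ _ (c i)) →
      (∀ i j, i ≠ j → ∀ P : (Fin (d i) → ℂ) ≃ₗ[ℂ] (Fin (d j) → ℂ),
          LinearMap.rTensor A P.toLinearMap ∘ₗ @HopfRep.Comod.coact ℂ A _ _ _ _ (Fin (d i) → ℂ) _ _ (c i) ≠
            (@HopfRep.Comod.coact ℂ A _ _ _ _ (Fin (d j) → ℂ) _ _ (c j)) ∘ₗ P.toLinearMap) →
      LinearIndependent ℂ (fun i : Fin n => ∑ t : Fin (d i), TensorProduct.lid ℂ A (LinearMap.rTensor A (LinearMap.proj t)
            (@HopfRep.Comod.coact ℂ A _ _ _ _ (Fin (d i) → ℂ) _ _ (c i) (Pi.single t 1))))) := by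
  open Groth.L08.PeterWeyl in
  refine ⟨fun f => ⟨fun hf => ?_, fun hf => ?_⟩, fun n d c hs hne => linearIndependent_chr hred n d c hs hne⟩
  · refine mem_span_of_class hred f ?_
    let L : A →ₐ[ℂ] A ⊗[ℂ] A := Algebra.TensorProduct.includeLeft
    let R : A →ₐ[ℂ] A ⊗[ℂ] A := Algebra.TensorProduct.includeRight
    have h := hf (CoactBr.sp ℂ (A ⊗[ℂ] A)) (CoactBr.pt R) (CoactBr.pt L)
    have h2 : CoactBr.pt R * CoactBr.pt L * (CoactBr.pt R)⁻¹ = CoactBr.pt (conjPt R L) := by
      have := et_conj (𝟙 (CoactBr.sp ℂ (A ⊗[ℂ] A))) R L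
      simpa only [Category.id_comp] using this
    rw [h2] at h
    have hval : ∀ φ : A →ₐ[ℂ] A ⊗[ℂ] A, (CoactBr.pt φ).left.appTop ((Scheme.ΓSpecIso (CommRingCat.of A)).inv f) =
        (Scheme.ΓSpecIso (CommRingCat.of (A ⊗[ℂ] A))).inv (φ f) := fun φ =>
      (congrArg (fun z => z.hom f) (Scheme.ΓSpecIso_inv_naturality (CommRingCat.ofHom φ.toRingHom))).symm
    rw [hval, hval] at h
    exact (Scheme.ΓSpecIso (CommRingCat.of (A ⊗[ℂ] A))).symm.commRingCatIsoToRingEquiv.injective h
  · intro T x g
    obtain ⟨O, _, _, et, θ, hsur, hθ⟩ := exists_val (A := A) T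
    obtain ⟨φ, rfl⟩ := hsur x
    obtain ⟨ψ, rfl⟩ := hsur g
    show val _ f = val _ f
    rw [et_conj, hθ, hθ]
    congr 1
    induction hf using Submodule.span_induction with
    | mem z hz =>
      obtain ⟨⟨d, c⟩, rfl⟩ := hz
      exact chr_conj c φ ψ
    | zero => simp
    | add a b _ _ ha hb => simp [ha, hb]
    | smul r a _ ha => simp [ha]

end Groth.Agent.S19102
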