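import Groth.Prelude.Def_W4c6dblnestedhilbptsFlags
import Mathlib.AlgebraicGeometry.Morphisms.Smooth
import Groth.Agent.L11.DnFlag.Basic
-- import your own Groth.Agent.* helpers here

set_option autoImplicit false
open CategoryTheory CategoryTheory.Limits AlgebraicGeometry
universe u
open HilbD

namespace Groth.Agent.S19104

/-- Let f : X ⟶ S be smooth of relative dimension 1, μ a non-empty Young diagram and n a reversed plane
partition of shape μ (a labelling of the cells by naturals, non-decreasing along rows and columns).
Call relative divisor of degree d a closed subscheme of X, given by a quasi-coherent ideal sheaf,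
whose projection to S is finite locally free of degree d; sums of divisors are products of ideal
sheaves. Then every flag (Z_c)_{c ∈ μ} of relative divisors of degrees n_c which grows along rows
and columns has exactly one system of edge data of type n — the corner divisor Z_00, for each cell
(i,j) with i ≥ 1 a divisor X_ij of degree n_ij − n_{i−1,j} with Z_ij = Z_{i−1,j} + X_ij, and for
each cell with j ≥ 1 a divisor Y_ij of degree n_ij − n_{i,j−1} with Z_ij = Z_{i,j−1} + Y_ij — and
this edge data satisfies X_ij + Y_{i−1,j} = Y_ij + X_{i,j−1} for every cell with i, j ≥ 1. (The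
published statement is for X = C × T ⟶ T with C a smooth irreducible quasi-projective complex curve
and T a complex scheme, and identifies, through T-points, the scheme of such flags with the zero
scheme of a section of a vector bundle on the product of symmetric powers that carries the edge
data; the vanishing of the pulled-back section at a T-point amounts to the containment of Y_ij +
X_{i,j−1} in X_ij + Y_{i−1,j}, which for divisors of equal degree is the equality stated last. Here
f is any smooth morphism of relative dimension 1, and neither the bundle nor its section is formed.) -/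
theorem result {X S : Scheme.{u}} (f : X ⟶ S) [SmoothOfRelativeDimension 1 f]
    (μ : YoungDiagram) (h00 : ((0, 0) : ℕ × ℕ) ∈ μ) (n : ℕ × ℕ → ℕ) (hn : HilbD.IsRevPlanePartition μ n)
    (Z : ∀ c : ℕ × ℕ, c ∈ μ → X.IdealSheafData) (hZ : HilbD.IsDnFlag f μ n Z) :
    (∃! E : HilbD.DnEdgeData μ X, E.IsOfType f n ∧ E.IsEdgesOf h00 Z) ∧
      ∀ E : HilbD.DnEdgeData μ X, E.IsOfType f n → E.IsEdgesOf h00 Z →
        ∀ (c : ℕ × ℕ) (hc : c ∈ μ) (hi : 1 ≤ c.1) (hj : 1 ≤ c.2), E.gammaOne c hc hi hj = E.gammaTwo c hc hi hj := by
  exact ⟨Groth.L11.DnFlag.existsUnique_edges f μ n h00 Z hZ,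
    fun E _ hE c hc hi hj => Groth.L11.DnFlag.gamma_eq f μ n h00 Z hZ hE c hc hi hj⟩

end Groth.Agent.S19104
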