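import Groth.Statements.S19106
import Mathlib.Combinatorics.Young.YoungDiagram

set_option autoImplicit false
open HilbD

namespace Groth.Agent.S19106

/-- Let μ be a non-empty Young diagram, V the number of its cells, E the number of unordered pairs of
cells sharing a side (a cell together with the cell immediately below it, or immediately to its
right, both in μ) and Q the number of 2 × 2 blocks of cells of μ (cells c such that the cell
diagonally below-right of c is in μ, the other two corners being in μ automatically). Then V − E + Q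
− 1 = 0, stated as V + Q = E + 1 in the naturals. (The empty diagram, for which the count reads 0 −
0 + 0 − 1, is excluded.) -/
theorem result (μ : YoungDiagram) (hμ : μ ≠ ⊥) :
    μ.cells.card + (μ.cells.filter (fun c => (c.1 + 1, c.2 + 1) ∈ μ)).card =
      (μ.cells.filter (fun c => (c.1 + 1, c.2) ∈ μ)).card + (μ.cells.filter (fun c => (c.1, c.2 + 1) ∈ μ)).card + 1 := by
  classical
  obtain ⟨c₀, hc₀⟩ : μ.cells.Nonempty := by
    rw [Finset.nonempty_iff_ne_empty]
    intro h
    exact hμ (YoungDiagram.ext (by simpa using h))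
  have h00 : ((0, 0) : ℕ × ℕ) ∈ μ.cells := μ.up_left_mem (Nat.zero_le _) (Nat.zero_le _) hc₀
  have e : ∀ (d : ℕ × ℕ), (μ.cells.filter (fun c => (c.1 + d.1, c.2 + d.2) ∈ μ)).card =
      (μ.cells.filter (fun c => d.1 ≤ c.1 ∧ d.2 ≤ c.2)).card := by
    intro d
    refine Finset.card_bij' (fun c _ => (c.1 + d.1, c.2 + d.2)) (fun c _ => (c.1 - d.1, c.2 - d.2)) ?_ ?_ ?_ ?_
    · intro c hc
      simp only [Finset.mem_filter, YoungDiagram.mem_cells] at hc ⊢
      exact ⟨hc.2, Nat.le_add_left _ _, Nat.le_add_left _ _⟩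
    · intro c hc
      simp only [Finset.mem_filter, YoungDiagram.mem_cells] at hc ⊢
      refine ⟨μ.up_left_mem (Nat.sub_le _ _) (Nat.sub_le _ _) hc.1, ?_⟩
      rw [Nat.sub_add_cancel hc.2.1, Nat.sub_add_cancel hc.2.2]
      exact hc.1
    · intro c _; simp
    · intro c hc
      simp only [Finset.mem_filter] at hc
      exact Prod.ext (Nat.sub_add_cancel hc.2.1) (Nat.sub_add_cancel hc.2.2)
  have e1 := e (1, 0)
  have e2 := e (0, 1)
  have e3 := e (1, 1)
  simp only [Nat.add_zero, Nat.zero_le, and_true, true_and] at e1 e2 e3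
  rw [e1, e2, e3]
  have h := Finset.card_union_add_card_inter (μ.cells.filter fun c => 1 ≤ c.1) (μ.cells.filter fun c => 1 ≤ c.2)
  rw [← Finset.filter_or, ← Finset.filter_and] at h
  have hu : μ.cells.filter (fun c => 1 ≤ c.1 ∨ 1 ≤ c.2) = μ.cells.erase (0, 0) := by
    ext c
    simp only [Finset.mem_filter, Finset.mem_erase, ne_eq, Prod.ext_iff]
    constructor
    · rintro ⟨h1, h2⟩; exact ⟨by omega, h1⟩
    · rintro ⟨h1, h2⟩; exact ⟨h2, by omega⟩
  have := Finset.card_erase_add_one h00
  rw [hu] at h
  omega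

end Groth.Agent.S19106
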