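import Groth.Statements.S19108
import Groth.Agent.L09.GoodTop.Closed
-- import your own Groth.Agent.* helpers here

set_option autoImplicit false
universe u
open CategoryTheory AlgebraicGeometry
open StMod

namespace Groth.Agent.S19108

/-- Let `S` be a quasi-separated scheme, `𝒳` a locally Noetherian algebraic stack over `(Sch/S)` for the
fppf topology (every scheme smooth over `𝒳` is locally Noetherian), `M` an algebraic space over `S`
that is quasi-separated over `S`, and `π : 𝒳 ⟶ M` a quasi-compact quasi-separated good moduli space.
Then two closed points of the space of points `|𝒳|` with the same image under `|π|` coincide: over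
every point of `M` there is at most one closed point of `𝒳`. (This is the uniqueness half of the
printed assertion that over a closed point of `M` there is exactly one closed point; the existence
half is not stated here.) Here a good moduli space is a quasi-compact quasi-separated morphism to an
algebraic space along which pushforward takes surjections of quasi-coherent modules to maps
surjective on sections over every affine scheme etale over the target (cohomological affineness),
and for which the canonical map from the functions on any scheme etale over the target to the
sections of the pushforward of the structure sheaf is bijective. (Standing conventions of the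
source: all schemes and algebraic spaces are quasi-separated and all stacks have quasi-compact
separated diagonal; this row carries instead the quasi-separatedness of `M` over a quasi-separated
base scheme and of `π`, which is what the arguments use.) -/
theorem result
    (S : Scheme.{u}) [QuasiSeparatedSpace S]
    (𝒳 : AlgSt.Cat S) (h𝒳 : AlgSt.IsAlgStack Scheme.fppfPrecoverage 𝒳)
    (M : AlgSp.Space S) (hM : AlgSp.IsQuasiSeparatedSp M.obj) (π : 𝒳 ⥤ᵇ AlgSt.ofSp M.obj)
    (hqc : AlgSt.IsQuasiCompactMor Scheme.fppfPrecoverage π) (hqs : AlgSt.IsQuasiSeparatedMor π)
    (h : StMod.IsGoodModuli π)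
    (hN : AlgSt.SmoothLocally (fun T => IsLocallyNoetherian T) 𝒳)
    (x₁ x₂ : AlgSt.Points 𝒳) (h₁ : IsClosed ({x₁} : Set (AlgSt.Points 𝒳)))
    (h₂ : IsClosed ({x₂} : Set (AlgSt.Points 𝒳)))
    (he : AlgSt.Points.map π x₁ = AlgSt.Points.map π x₂) : x₁ = x₂ := by
  obtain ⟨Q, ⟨hQ₁, hQ₂⟩, -⟩ := Groth.L09.GoodTop.exists_mem_inter π h𝒳
    (Groth.L09.CohAffBC.compactFibres_of_qsSp hM) hqc hqs h h₁ h₂ rfl rfl he
  exact hQ₁.symm.trans hQ₂

end Groth.Agent.S19108
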