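import Groth.Statements.S19109
import Groth.Agent.L09.GoodTop.Flat

set_option autoImplicit false
universe u
open CategoryTheory AlgebraicGeometry
open StMod

namespace Groth.Agent.S19109

/-- Let `S` be a quasi-separated scheme, `𝒳` an algebraic stack over `(Sch/S)` for the fppf topology
whose structure morphism to `S` is flat (read on one smooth surjective scheme chart), `M` an
algebraic space over `S` that is quasi-separated over `S`, and `π : 𝒳 ⟶ M` a quasi-compact
quasi-separated good moduli space. Then the structure morphism `M ⟶ S` is flat (on etale scheme
charts). (The printed item also says: if `𝒳 ⟶ S` is faithfully flat then so is `M ⟶ S`; that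
surjectivity clause is not stated here.) Here a good moduli space is a quasi-compact quasi-separated
morphism to an algebraic space along which pushforward takes surjections of quasi-coherent modules
to maps surjective on sections over every affine scheme etale over the target (cohomological
affineness), and for which the canonical map from the functions on any scheme etale over the target
to the sections of the pushforward of the structure sheaf is bijective. (Standing conventions of the
source: all schemes and algebraic spaces are quasi-separated and all stacks have quasi-compact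
separated diagonal; this row carries instead the quasi-separatedness of `M` over a quasi-separated
base scheme and of `π`, which is what the arguments use.) -/
theorem result
    (S : Scheme.{u}) [QuasiSeparatedSpace S]
    (𝒳 : AlgSt.Cat S) (h𝒳 : AlgSt.IsAlgStack Scheme.fppfPrecoverage 𝒳)
    (M : AlgSp.Space S) (hM : AlgSp.IsQuasiSeparatedSp M.obj) (π : 𝒳 ⥤ᵇ AlgSt.ofSp M.obj)
    (hqc : AlgSt.IsQuasiCompactMor Scheme.fppfPrecoverage π) (hqs : AlgSt.IsQuasiSeparatedMor π)
    (h : StMod.IsGoodModuli π)
    (hfl : AlgSt.LocQ (AlgSp.LocP @Flat) (FibCat.toSelf 𝒳))
    (q : M.obj ⟶ (AlgSp.yon S).obj (Over.mk (𝟙 S))) : AlgSp.LocP @Flat q := by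
  obtain ⟨R, p, hp, hps⟩ := M.property.atlas
  obtain ⟨r, hr⟩ := (AlgSp.yon S).map_surjective (p ≫ q)
  refine Groth.L23.locP_of_chart Groth.L23.etLocal_flat (h := r) hp hps
    (b := 𝟙 _) (AlgSp.repWith_id @Etale _) (by rw [Category.comp_id, hr]) ?_
  rw [show r.left = R.hom from (Category.comp_id _).symm.trans (Over.w r)]
  exact Groth.L09.GoodTop.flat_hom_of_etale h𝒳 (Groth.L09.CohAffBC.compactFibres_of_qsSp hM) π hqc hqs h hfl p hp

end Groth.Agent.S19109
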