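import Groth.Statements.S19110
import Groth.Agent.L09.GoodTop.Top
-- import your own Groth.Agent.* helpers here

set_option autoImplicit false
universe u
open CategoryTheory AlgebraicGeometry
open StMod

namespace Groth.Agent.S19110

/-- Let `S` be a quasi-separated scheme, `𝒳` an algebraic stack over `(Sch/S)` for the fppf topology,
`M` an algebraic space over `S` that is quasi-separated over `S`, and `π : 𝒳 ⟶ M` a quasi-compact
quasi-separated good moduli space. Then the fibres of `π` are geometrically connected; precisely,
for every field `K` and every `K`-point `y` of `M` over `S`, the space of points of the 2-fibre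
product `(Sch/Spec K) ×_M 𝒳` is connected and non-empty. (The printed item says geometrically
connected fibres, i.e. the case of algebraically closed `K`; the argument applies to every field, so
`K` is an arbitrary field here.) Here a good moduli space is a quasi-compact quasi-separated
morphism to an algebraic space along which pushforward takes surjections of quasi-coherent modules
to maps surjective on sections over every affine scheme etale over the target (cohomological
affineness), and for which the canonical map from the functions on any scheme etale over the target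
to the sections of the pushforward of the structure sheaf is bijective. (Standing conventions of the
source: all schemes and algebraic spaces are quasi-separated and all stacks have quasi-compact
separated diagonal; this row carries instead the quasi-separatedness of `M` over a quasi-separated
base scheme and of `π`, which is what the arguments use.) -/
theorem result
    (S : Scheme.{u}) [QuasiSeparatedSpace S]
    (𝒳 : AlgSt.Cat S) (h𝒳 : AlgSt.IsAlgStack Scheme.fppfPrecoverage 𝒳)
    (M : AlgSp.Space S) (hM : AlgSp.IsQuasiSeparatedSp M.obj) (π : 𝒳 ⥤ᵇ AlgSt.ofSp M.obj)
    (hqc : AlgSt.IsQuasiCompactMor Scheme.fppfPrecoverage π) (hqs : AlgSt.IsQuasiSeparatedMor π)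
    (h : StMod.IsGoodModuli π)
    (K : Type u) [Field K] (t : Spec (CommRingCat.of K) ⟶ S)
    (y : (AlgSp.yon S).obj (Over.mk t) ⟶ M.obj) :
    ConnectedSpace (AlgSt.Points (FibCat.fp (AlgSt.ofSpMap y) π)) := by
  have H := Groth.L09.GoodTop.affGood_fp h𝒳 (Groth.L09.CohAffBC.compactFibres_of_qsSp hM) π hqc hqs h
    (U := Over.mk t) (isAffine_Spec _) y
  have hs : Subsingleton (Over.mk t).left := inferInstanceAs (Subsingleton (Spec (CommRingCat.of K)))
  have : Nonempty (Over.mk t).left := ⟨IsLocalRing.closedPoint K⟩
  have := H.nonempty_points
  have : PreconnectedSpace (AlgSt.Points (FibCat.fp (AlgSt.ofSpMap y) π)) :=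
    preconnectedSpace_iff_clopen.2 fun A hA => by
      by_contra hne
      push Not at hne
      obtain ⟨P₁, hP₁⟩ := hne.1
      obtain ⟨P₂, hP₂⟩ := (Set.ne_univ_iff_exists_notMem A).1 hne.2
      obtain ⟨f, hf₁, hf₂⟩ := H.exists_sep hA.1 hA.compl.1 disjoint_compl_right
      have e : Groth.L09.GoodTop.img (Groth.L09.GoodTop.bcMap π y) P₂ =
          Groth.L09.GoodTop.img (Groth.L09.GoodTop.bcMap π y) P₁ :=
        @Subsingleton.elim _ hs _ _
      exact hf₁ P₁ hP₁ (e ▸ hf₂ P₂ hP₂)
  exact ⟨inferInstance⟩

end Groth.Agent.S19110
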