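import Groth.Statements.S19114
import Groth.Agent.L09.GoodTop.KPointLift

set_option autoImplicit false
universe u
open CategoryTheory AlgebraicGeometry
open StMod

namespace Groth.Agent.S19114

/-- Let `S` be a quasi-separated scheme, `𝒳` a locally Noetherian algebraic stack over `(Sch/S)` for the
fppf topology, `M` an algebraic space over `S` that is quasi-separated over `S`, `π : 𝒳 ⟶ M` a
quasi-compact quasi-separated good moduli space, `K` a field, `t : Spec K ⟶ S` and `y : h_{Spec K} ⟶
M` a `K`-point of `M` over `S` that is locally of finite type as a morphism of algebraic spaces.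
Then there are a field `K'`, a finite ring map `i : K ⟶ K'` and an object `x` of `𝒳` lying over
`Spec K'` (viewed over `S` through `Spec i` and `t`) such that the section of `M` that `π` attaches
to `x` is the restriction of `y` along `Spec i`: the point `y` lifts to `𝒳` after a finite extension
of `K`. Here a good moduli space is a quasi-compact quasi-separated morphism to an algebraic space
along which pushforward takes surjections of quasi-coherent modules to maps surjective on sections
over every affine scheme etale over the target (cohomological affineness), and for which the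
canonical map from the functions on any scheme etale over the target to the sections of the
pushforward of the structure sheaf is bijective. (Standing conventions of the source: all schemes
and algebraic spaces are quasi-separated and all stacks have quasi-compact separated diagonal; this
row carries instead the quasi-separatedness of `M` over a quasi-separated base scheme and of `π`,
which is what the arguments use.) -/
theorem result
    (S : Scheme.{u}) [QuasiSeparatedSpace S]
    (𝒳 : AlgSt.Cat S) (h𝒳 : AlgSt.IsAlgStack Scheme.fppfPrecoverage 𝒳)
    (M : AlgSp.Space S) (hM : AlgSp.IsQuasiSeparatedSp M.obj) (π : 𝒳 ⥤ᵇ AlgSt.ofSp M.obj)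
    (hqc : AlgSt.IsQuasiCompactMor Scheme.fppfPrecoverage π) (hqs : AlgSt.IsQuasiSeparatedMor π)
    (h : StMod.IsGoodModuli π)
    (hN : AlgSt.SmoothLocally (fun T => IsLocallyNoetherian T) 𝒳)
    (K : Type u) [Field K] (t : Spec (CommRingCat.of K) ⟶ S)
    (y : (AlgSp.yon S).obj (Over.mk t) ⟶ M.obj) (hy : AlgSp.LocP @LocallyOfFiniteType y) :
    ∃ (K' : Type u) (_ : Field K') (i : K →+* K'), i.Finite ∧
      ∃ x : 𝒳.p.Fiber (Over.mk (Spec.map (CommRingCat.ofHom i) ≫ t)),
        AlgSt.fibSec π x =
          (AlgSp.J S).uliftYonedaEquiv
            ((AlgSp.yon S).map (Over.homMk (Spec.map (CommRingCat.ofHom i)) rfl :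
                Over.mk (Spec.map (CommRingCat.ofHom i) ≫ t) ⟶ Over.mk t) ≫ y) := by
  exact Groth.L09.GoodTop.exists_lift_finite h𝒳 (Groth.L09.CohAffBC.compactFibres_of_qsSp hM) π hqc hqs h hN y hy

end Groth.Agent.S19114
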