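import Groth.Statements.S1912
import Groth.Agent.L22.Sp.Functorial
-- import your own Groth.Agent.* helpers here

set_option autoImplicit false
set_option maxSynthPendingDepth 3
set_option backward.isDefEq.respectTransparency.types false
set_option backward.isDefEq.respectTransparency false
universe u
open CategoryTheory AlgebraicGeometry
open CategoryTheory.Limits
open Cyc

namespace Groth.Agent.S1912

/-- Over a discrete valuation ring R, let f : X → Y be proper with Y (hence X) locally of finite type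
over R, and let f_η : X_η → Y_η, f_s : X_s → Y_s be the induced morphisms of generic and closed
fibres. Then for every r-cycle α on X_η, sp_Y(f_{η,*} α) = f_{s,*}(sp_X α) coefficientwise (for any
cycle on X_s with the coefficients of sp_X α). Here sp is Cyc.spFun for X → Spec R and for Y → Spec
R, fibres are Mathlib's Scheme.Hom.fiber with dimension functions given by transcendence degree, and
the maps of fibres are the base changes of f. -/
theorem result (R : Type u) [CommRing R] [IsDomain R] [IsDiscreteValuationRing R] (X Y : Scheme.{u}) (b : Y ⟶ Spec (CommRingCat.of R)) [LocallyOfFiniteType b] (f : X ⟶ Y) [IsProper f] (δXη : ↥((f ≫ b).fiber (genericPoint ↥(Spec (CommRingCat.of R)))) → ℤ) (δXs : ↥((f ≫ b).fiber (IsLocalRing.closedPoint R)) → ℤ) (δYη : ↥(b.fiber (genericPoint ↥(Spec (CommRingCat.of R)))) → ℤ) (δYs : ↥(b.fiber (IsLocalRing.closedPoint R)) → ℤ) (hXη : Cyc.DeltaCompat ((f ≫ b).fiberToSpecResidueField (genericPoint ↥(Spec (CommRingCat.of R)))) δXη (fun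 _ => 0)) (hXs : Cyc.DeltaCompat ((f ≫ b).fiberToSpecResidueField (IsLocalRing.closedPoint R)) δXs (fun _ => 0)) (hYη : Cyc.DeltaCompat (b.fiberToSpecResidueField (genericPoint ↥(Spec (CommRingCat.of R)))) δYη (fun _ => 0)) (hYs : Cyc.DeltaCompat (b.fiberToSpecResidueField (IsLocalRing.closedPoint R)) δYs (fun _ => 0)) [QuasiCompact (pullback.map (f ≫ b) ((Spec (CommRingCat.of R)).fromSpecResidueField (genericPoint ↥(Spec (CommRingCat.of R)))) b ((Spec (CommRingCat.of R)).fromSpecResidueField (genericPoint ↥(Spec (CommRingCat.of R)))) f (𝟙 _) (𝟙 _) (Category.comp_id _) ((Category.comp_id _).trans (Category.id_comp _).symm))] [QuasiCompact (pullback.map (f ≫ b) ((Spec (CommRingCat.of R)).fromSpecResidueField (IsLocalRing.closedPoint R)) b ((Spec (CommRingCat.of R)).fromSpecResidueField (IsLocalRing.closedPoint R)) f (𝟙 _) (𝟙 _) (Category.comp_id _) ((Category.comp_id _).trans (Category.id_comp _).symm))] (r : ℤ) (α : AlgebraicCycle ((f ≫ b).fiber (genericPoint ↥(Spec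 (CommRingCat.of R)))) ℤ) (hα : α ∈ Cyc.Zk ((f ≫ b).fiber (genericPoint ↥(Spec (CommRingCat.of R)))) δXη r) (β : AlgebraicCycle ((f ≫ b).fiber (IsLocalRing.closedPoint R)) ℤ) (hβ : ⇑β = Cyc.spFun (f ≫ b) (genericPoint ↥(Spec (CommRingCat.of R))) (IsLocalRing.closedPoint R) δXη δXs r ⇑α) : Cyc.spFun b (genericPoint ↥(Spec (CommRingCat.of R))) (IsLocalRing.closedPoint R) δYη δYs r ⇑(AlgebraicCycle.map (pullback.map (f ≫ b) ((Spec (CommRingCat.of R)).fromSpecResidueField (genericPoint ↥(Spec (CommRingCat.of R)))) b ((Spec (CommRingCat.of R)).fromSpecResidueField (genericPoint ↥(Spec (CommRingCat.of R)))) f (𝟙 _) (𝟙 _) (Category.comp_id _) ((Category.comp_id _).trans (Category.id_comp _).symm)) δXη δYη α) = ⇑(AlgebraicCycle.map (pullback.map (f ≫ b) ((Spec (CommRingCat.of R)).fromSpecResidueField (IsLocalRing.closedPoint R)) b ((Spec (CommRingCat.of R)).fromSpecResidueField (IsLocalRing.closedPoint R)) f (𝟙 _) (𝟙 _) (Category.comp_id _) ((Category.comp_id _).trans (Category.id_comp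 _).symm)) δXs δYs β) := by
  classical
  have hβ' := hβ
  obtain ⟨δY, hsetY, hδb⟩ := Groth.L22.Cyc.exists_setup b (Groth.L22.Sp.isSetup_base R)
  obtain ⟨δX, hsetX, hδf⟩ := Groth.L22.Cyc.exists_setup f hsetY
  haveI := hsetY.1
  haveI := hsetX.1
  have hδa : Cyc.DeltaCompat (f ≫ b) δX (Groth.L22.Sp.dR R) := Groth.L22.Sp.deltaCompat_trans f b hδf hδb
  haveI : IsProper (pullback.map (f ≫ b) ((Spec (CommRingCat.of R)).fromSpecResidueField (genericPoint ↥(Spec (CommRingCat.of R)))) b ((Spec (CommRingCat.of R)).fromSpecResidueField (genericPoint ↥(Spec (CommRingCat.of R)))) f (𝟙 _) (𝟙 _) (Category.comp_id _) ((Category.comp_id _).trans (Category.id_comp _).symm)) :=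
    MorphismProperty.pullbackMap (P := @IsProper) ‹IsProper f› (inferInstanceAs (IsProper (𝟙 (Spec ((Spec (CommRingCat.of R)).residueField (genericPoint ↥(Spec (CommRingCat.of R)))))))) rfl (Category.id_comp _).symm
  haveI : IsProper (pullback.map (f ≫ b) ((Spec (CommRingCat.of R)).fromSpecResidueField (IsLocalRing.closedPoint R)) b ((Spec (CommRingCat.of R)).fromSpecResidueField (IsLocalRing.closedPoint R)) f (𝟙 _) (𝟙 _) (Category.comp_id _) ((Category.comp_id _).trans (Category.id_comp _).symm)) :=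
    MorphismProperty.pullbackMap (P := @IsProper) ‹IsProper f› (inferInstanceAs (IsProper (𝟙 (Spec ((Spec (CommRingCat.of R)).residueField (IsLocalRing.closedPoint R)))))) rfl (Category.id_comp _).symm
  set gη := pullback.map (f ≫ b) ((Spec (CommRingCat.of R)).fromSpecResidueField (genericPoint ↥(Spec (CommRingCat.of R)))) b ((Spec (CommRingCat.of R)).fromSpecResidueField (genericPoint ↥(Spec (CommRingCat.of R)))) f (𝟙 _) (𝟙 _) (Category.comp_id _) ((Category.comp_id _).trans (Category.id_comp _).symm) with hgη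
  set gs := pullback.map (f ≫ b) ((Spec (CommRingCat.of R)).fromSpecResidueField (IsLocalRing.closedPoint R)) b ((Spec (CommRingCat.of R)).fromSpecResidueField (IsLocalRing.closedPoint R)) f (𝟙 _) (𝟙 _) (Category.comp_id _) ((Category.comp_id _).trans (Category.id_comp _).symm) with hgs
  have sqη : gη ≫ b.fiberι (Groth.L22.Sp.eta R) = (f ≫ b).fiberι (Groth.L22.Sp.eta R) ≫ f :=
    pullback.lift_fst _ _ _
  have sqs : gs ≫ b.fiberι (Groth.L22.Sp.sp R) = (f ≫ b).fiberι (Groth.L22.Sp.sp R) ≫ f :=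
    pullback.lift_fst _ _ _
  have hδgη : Cyc.DeltaCompat gη δXη δYη := by
    refine Groth.L22.Bundle.deltaCompat_cancel gη (b.fiberToSpecResidueField _) ?_ hYη
    rw [show gη ≫ b.fiberToSpecResidueField _ = (f ≫ b).fiberToSpecResidueField _ from
      (pullback.lift_snd _ _ _).trans (Category.comp_id _)]
    exact hXη
  have hδgs : Cyc.DeltaCompat gs δXs δYs := by
    refine Groth.L22.Bundle.deltaCompat_cancel gs (b.fiberToSpecResidueField _) ?_ hYs
    rw [show gs ≫ b.fiberToSpecResidueField _ = (f ≫ b).fiberToSpecResidueField _ from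
      (pullback.lift_snd _ _ _).trans (Category.comp_id _)]
    exact hXs
  obtain ⟨βX, hβ, hβ0⟩ := Groth.L22.Sp.exists_extend (f ≫ b) α
  have hk : ∀ ξ, βX ξ ≠ 0 → δX ξ = r + 1 ∧ (f ≫ b) ξ = Groth.L22.Sp.eta R := fun ξ h => by
    obtain ⟨h1, ζ, rfl, h2⟩ := hβ0 ξ h
    refine ⟨?_, h1⟩
    rw [Groth.L22.Sp.delta_fiber (f ≫ b) hδa _ hXη, Groth.L22.Sp.dR_eta,
      show δXη ζ = r from by_contra fun hne => h2 (hα ζ hne)]
  have hO := Groth.L18.Ample.isInvertible_structureModule Y
  obtain ⟨γ₀, hγ₀⟩ := Groth.L22.C1.exists_cycle_c1Cap hsetX.2.2 (Groth.L18.Ample.isInvertible_pullback f hO) βX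
    (Groth.L22.C1.pullSec f (Groth.L22.Sp.choice b)) fun t => Groth.L22.C1.pullSec_ne_zero f hO
      (Groth.L18.Ample.isInvertible_pullback f hO) _ t (Groth.L22.Sp.choice_ne_zero b _)
  have hmap := Groth.L22.C1.map_c1Cap_exact f hsetX.2.2 hsetY.2.2 hO hδf βX (Groth.L22.Sp.choice b)
    (Groth.L22.Sp.choice_ne_zero b) γ₀ hγ₀
  funext y
  rw [Groth.L22.Sp.spFun_eq b hδb hsetY.2.2 hYη hYs r _ ⇑(AlgebraicCycle.map f δX δY βX)
    (fun ζ _ => ?_) (fun ξ hξ => ?_) y]
  · rw [← hmap]
    refine Groth.L22.Sp.map_fibre f hδf gs _ _ sqs hδgs γ₀ β (fun z => ?_) y fun x hx => ?_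
    · rw [hγ₀, Groth.L22.Sp.c1Cap_pull f b hsetX.2.2 _ fun t ht => (hk t ht).2]
      exact (congrFun hβ' z).trans (Groth.L22.Sp.spFun_eq (f ≫ b) hδa hsetX.2.2 hXη hXs r _ _ (fun ζ _ => hβ ζ) hk z)
    · refine ((f ≫ b).range_fiberι _).ge ?_
      show b (f x) = _
      rw [hx]
      exact Groth.L22.Cyc.fromSpec_fiber_apply b _ y
  · refine Groth.L22.Sp.map_fibre f hδf gη _ _ sqη hδgη βX α (fun z => (hβ z).symm) ζ fun x hx => ?_
    refine ((f ≫ b).range_fiberι _).ge ?_
    show b (f x) = _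
    rw [hx]
    exact Groth.L22.Cyc.fromSpec_fiber_apply b _ ζ
  · obtain ⟨x, hx, h⟩ := exists_ne_zero_of_finsum_mem_ne_zero (s := f ⁻¹' {ξ})
      (show (∑ᶠ x ∈ f ⁻¹' {ξ}, βX x * ((AlgebraicCycle.mapCoeff f δX δY x : ℕ) : ℤ)) ≠ 0 from hξ)
    obtain ⟨h1, h2⟩ := mul_ne_zero_iff.1 h
    have hx' : f x = ξ := hx
    subst hx'
    refine ⟨?_, (hk x h1).2⟩
    have h3 : δX x = δY (f x) := by
      by_contra h4
      rw [AlgebraicCycle.mapCoeff, if_neg h4] at h2
      exact h2 Nat.cast_zero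
    rw [← h3]
    exact (hk x h1).1

end Groth.Agent.S1912
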