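import Groth.Statements.S19120
import Groth.Agent.L09.GoodTop.Sep
import Groth.Agent.L09.GoodTop.Top

set_option autoImplicit false
universe u
open CategoryTheory AlgebraicGeometry
open StMod

namespace Groth.Agent.S19120

/-- Let `S` be a quasi-separated scheme, `𝒳` an algebraic stack over `(Sch/S)` for the fppf topology,
`M` an algebraic space over `S` that is quasi-separated and locally separated over `S` (diagonal an
immersion), and `π : 𝒳 ⟶ M` a quasi-compact quasi-separated tame moduli space: a good moduli space
such that for every algebraically closed field `Ω` and every `Spec Ω ⟶ S`, `π` induces a bijection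
between isomorphism classes of objects of `𝒳` over `Spec Ω` and sections of `M` over `Spec Ω`. Then
`M` is separated over `S` if and only if the image of the diagonal `|𝒳| → |𝒳 ×_S 𝒳|` (on spaces of
points, the 2-fibre product taken over `(Sch/S)`) is closed. Here a good moduli space is a
quasi-compact quasi-separated morphism to an algebraic space along which pushforward takes
surjections of quasi-coherent modules to maps surjective on sections over every affine scheme etale
over the target (cohomological affineness), and for which the canonical map from the functions on
any scheme etale over the target to the sections of the pushforward of the structure sheaf is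
bijective. (Standing conventions of the source: all schemes and algebraic spaces are quasi-separated
and all stacks have quasi-compact separated diagonal; this row carries instead the
quasi-separatedness of `M` over a quasi-separated base scheme and of `π`, which is what the
arguments use.) -/
theorem result
    (S : Scheme.{u}) [QuasiSeparatedSpace S]
    (𝒳 : AlgSt.Cat S) (h𝒳 : AlgSt.IsAlgStack Scheme.fppfPrecoverage 𝒳)
    (M : AlgSp.Space S) (hM : AlgSp.IsQuasiSeparatedSp M.obj) (π : 𝒳 ⥤ᵇ AlgSt.ofSp M.obj)
    (hqc : AlgSt.IsQuasiCompactMor Scheme.fppfPrecoverage π) (hqs : AlgSt.IsQuasiSeparatedMor π)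
    (h : StMod.IsGoodModuli π)
    (ht : AlgSt.GeomPtBij π) (hls : AlgSp.IsLocallySeparatedSp M.obj) :
    AlgSp.IsSeparatedSp M.obj ↔
      IsClosed (Set.range (AlgSt.Points.map (FibCat.diag (FibCat.toSelf 𝒳)))) := by
  have hc := Groth.L09.CohAffBC.compactFibres_of_qsSp hM
  exact Groth.L09.GoodTop.isSeparatedSp_iff_of_tame h𝒳 hls
    (Groth.L09.GoodTop.isSurjective_of_good π h𝒳 hc hqc hqs h)
    (Groth.L09.GoodTop.isUnivClosed_of_good π h𝒳 hc hqc hqs h)
    (Groth.L09.GoodTop.isUnivInjective_of_geomPtBij h𝒳.isStack.1 ht)

end Groth.Agent.S19120
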