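import Groth.Statements.S19127
import Groth.Agent.L04.FrobNilp

set_option autoImplicit false
universe u v
open FrobAlg

namespace Groth.Agent.S19127

/-- Let p be a prime, A a Noetherian local ring of characteristic p with maximal ideal m, and M an
A-module which is cofinite, meaning that every element of M is annihilated by some power of m and
that the socle of M (the elements annihilated by m) is a finitely generated A-module. Let φ : M → M
be an additive map that is semilinear for the Frobenius of A, φ(a x) = a^p φ(x). If φ is locally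
nilpotent, i.e. every element of M is annihilated by some iterate of φ, then φ is nilpotent: one
iterate of φ is zero on all of M. -/
theorem result
    (p : ℕ) [Fact p.Prime] (A : Type u) [CommRing A] [IsNoetherianRing A] [IsLocalRing A] [CharP A p]
    (M : Type v) [AddCommGroup M] [Module A M]
    (htors : LocCoh.IsPowerTorsion (IsLocalRing.maximalIdeal A) M)
    (hsoc : Module.Finite A ↥(LocCoh.torsionBy (IsLocalRing.maximalIdeal A) M))
    (φ : M →ₛₗ[frobenius A p] M)
    (hloc : ∀ x : M, ∃ n : ℕ, (⇑φ)^[n] x = 0) :
    ∃ n : ℕ, ∀ x : M, (⇑φ)^[n] x = 0 := by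
  classical
  haveI : Module.Finite (A ⧸ IsLocalRing.maximalIdeal A)
      ↥(LocCoh.torsionBy (IsLocalRing.maximalIdeal A) M) :=
    Module.Finite.of_restrictScalars_finite A _ _
  obtain ⟨E, _, _, f, hf⟩ := Groth.L04.exists_injectiveHull (R := A) (IsLocalRing.ResidueField A)
  obtain ⟨n, g, hg⟩ := Groth.L04.FrobNilp.exists_embedding_pi' hf htors
  let e : M ≃ₗ[A] LinearMap.range g := LinearEquiv.ofInjective g hg
  let φ' : LinearMap.range g →+ LinearMap.range g :=
    e.toLinearMap.toAddMonoidHom.comp (φ.toAddMonoidHom.comp e.symm.toLinearMap.toAddMonoidHom)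
  have hφ' : ∀ (a : A) (x : LinearMap.range g), φ' (a • x) = a ^ p • φ' x := by
    intro a x
    show e (φ (e.symm (a • x))) = a ^ p • e (φ (e.symm x))
    rw [map_smul, LinearMap.map_smulₛₗ, map_smul, frobenius_def]
  have hit : ∀ (k : ℕ) (x : M), (⇑φ')^[k] (e x) = e ((⇑φ)^[k] x) := by
    intro k x
    induction k with
    | zero => rfl
    | succ k ih =>
      rw [Function.iterate_succ_apply', Function.iterate_succ_apply', ih]
      show e (φ (e.symm (e _))) = _
      rw [LinearEquiv.symm_apply_apply]
  have hT' : LocCoh.IsPowerTorsion (IsLocalRing.maximalIdeal A) (LinearMap.range g) := by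
    intro y
    obtain ⟨k, hk⟩ := htors (e.symm y)
    exact ⟨k, fun a ha => e.symm.injective (by rw [map_smul, map_zero]; exact hk a ha)⟩
  haveI : Module.Finite (A ⧸ IsLocalRing.maximalIdeal A)
      ↥(LocCoh.torsionBy (IsLocalRing.maximalIdeal A) (LinearMap.range g)) := by
    let j : ↥(LocCoh.torsionBy (IsLocalRing.maximalIdeal A) M) →ₗ[A]
        ↥(LocCoh.torsionBy (IsLocalRing.maximalIdeal A) (LinearMap.range g)) :=
      (e.toLinearMap ∘ₗ (LocCoh.torsionBy (IsLocalRing.maximalIdeal A) M).subtype).codRestrict _
        fun x => by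
          rw [Submodule.mem_torsionBySet_iff]
          intro a
          show (a : A) • e (x : M) = 0
          rw [← map_smul, (Submodule.mem_torsionBySet_iff _ _).1 x.2 a, map_zero]
    have hj : Function.Surjective j := fun y => by
      refine ⟨⟨e.symm y, ?_⟩, Subtype.ext (e.apply_symm_apply y)⟩
      rw [Submodule.mem_torsionBySet_iff]
      intro a
      rw [← map_smul, (Submodule.mem_torsionBySet_iff _ _).1 y.2 a, map_zero]
    haveI := Module.Finite.of_surjective j hj
    exact Module.Finite.of_restrictScalars_finite A _ _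
  obtain ⟨m, hm⟩ := Groth.L04.FrobNilp.nilpotent_of_cofinite hT' (Fact.out : p.Prime).two_le hφ'
    (fun y => by
      obtain ⟨k, hk⟩ := hloc (e.symm y)
      exact ⟨k, by rw [← e.apply_symm_apply y, hit, hk, map_zero]⟩)
  exact ⟨m, fun x => e.injective (by rw [← hit, hm, map_zero])⟩


end Groth.Agent.S19127
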