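import Groth.Statements.S19128
import Groth.Agent.L28.SuppCharP.Punctured

set_option autoImplicit false
universe u
open CategoryTheory CategoryTheory.Limits AlgebraicGeometry Opposite
open EtDual

namespace Groth.Agent.S19128

/-- Let p be a prime and R a Noetherian local ring of characteristic p which is strictly henselian
(henselian with separably closed residue field) and Cohen–Macaulay, of Krull dimension d; let Y =
Spec R with closed point y and punctured spectrum U = Y - {y}. Then the local cohomology groups
H^i_y(Y_et, Z/p) of the constant étale sheaf Z/p with support in the closed point (right derived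
functors of sections vanishing on U) are zero for every i < d. -/
theorem result
    (p : ℕ) [Fact p.Prime] (R : Type u) [CommRing R] [LocCoh.IsCohenMacaulayLocalRing R]
    [HenselianLocalRing R] [IsSepClosed (IsLocalRing.ResidueField R)] [CharP R p]
    (i : ℕ) (hi : (i : WithBot ℕ∞) < ringKrullDim R) :
    IsZero ((EtDual.HY (FEt.puncturedSpec R).ι i).obj (EtCoh.const (Spec (CommRingCat.of R)) (ZMod p))) := by
  have hH : ∀ k, k ≤ i → Subsingleton (LocCoh.H (IsLocalRing.maximalIdeal R) k R) := fun k hk =>
    Groth.L28.SuppCharP.subsingleton_H_of_lt_depth R (Groth.L28.SuppCharP.lt_depth R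
      (lt_of_le_of_lt (by exact_mod_cast hk) hi))
  refine Groth.L28.SuppCharP.isZero_HY_punctured R p i (hH 0 (Nat.zero_le i)) (fun h c hc => ?_)
    (fun k hk => hH k hk.le) (fun m hm h0 => ?_)
  · have hb := Groth.L28.SuppCharP.bijective_appTop R (fun k hk => hH k (by omega))
    obtain ⟨a, rfl⟩ := hb.2 c
    refine ⟨a, hb.1 ?_, rfl⟩
    rw [map_sub, map_pow, map_zero]
    exact hc
  · obtain ⟨e⟩ := Groth.L28.SuppCharP.nonempty_HH_equiv R (m + 1) (by omega)
    have h1 := Groth.L28.SuppCharP.subsingleton_H_Ga_of_HH (Y := (FEt.puncturedSpec R : Scheme.{u})) (m + 1)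
      (e.toEquiv.subsingleton_congr.2 (hH _ (by omega)))
    exact fun a b _ => @Subsingleton.elim _ h1 a b

end Groth.Agent.S19128
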