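import Groth.Statements.S19129
import Groth.Agent.L28.SuppCharP.TopDeg
import Groth.Agent.L04.CMLoc

set_option autoImplicit false
universe u
open CategoryTheory CategoryTheory.Limits AlgebraicGeometry Opposite
open EtDual

namespace Groth.Agent.S19129

example : True := trivial

theorem exists_castHom_eq (p : ℕ) [hp : Fact p.Prime] {A : Type u} [CommRing A] [IsDomain A] [CharP A p] {c : A}
    (hc : c ^ p - c = 0) : ∃ k : ZMod p, ZMod.castHom (dvd_refl p) A k = c := by
  classical
  let S : Finset A := Finset.univ.image (ZMod.castHom (dvd_refl p) A)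
  have hS : S.card = p := by
    rw [Finset.card_image_of_injective _ (RingHom.injective _), Finset.card_univ, ZMod.card]
  have hmem : c ∈ S := by
    by_contra hnot
    have hne : (Polynomial.X ^ p - Polynomial.X : Polynomial A) ≠ 0 := fun h => by
      have h1 := congrArg (fun q : Polynomial A => q.coeff p) h
      simp [Polynomial.coeff_X, hp.out.one_lt.ne] at h1
    have hle := Polynomial.card_le_degree_of_subset_roots (p := (Polynomial.X ^ p - Polynomial.X : Polynomial A))
      (Z := insert c S) (fun z hz => by
        have hz' : z = c ∨ z ∈ S := by simpa using hz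
        rw [Polynomial.mem_roots hne, Polynomial.IsRoot]
        rcases hz' with rfl | hz'
        · simpa using hc
        · obtain ⟨k, -, rfl⟩ := Finset.mem_image.1 hz'
          rw [Polynomial.eval_sub, Polynomial.eval_pow, Polynomial.eval_X, ← map_pow, ZMod.pow_card, sub_self])
    have hdeg : (Polynomial.X ^ p - Polynomial.X : Polynomial A).natDegree = p := by
      rw [Polynomial.natDegree_sub_eq_left_of_natDegree_lt] <;> simp [hp.out.one_lt]
    rw [hdeg, Finset.card_insert_of_notMem hnot, hS] at hle
    omega
  obtain ⟨k, -, h⟩ := Finset.mem_image.1 hmem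
  exact ⟨k, h⟩

theorem map_castHom (p : ℕ) {A B : Type u} [CommRing A] [CommRing B] [CharP A p] [CharP B p] (f : A →+* B)
    (k : ZMod p) : f (ZMod.castHom (dvd_refl p) A k) = ZMod.castHom (dvd_refl p) B k :=
  RingHom.congr_fun (Subsingleton.elim (f.comp (ZMod.castHom (dvd_refl p) A)) (ZMod.castHom (dvd_refl p) B)) k



/-- Let p be a prime and R a regular local ring of characteristic p which is strictly henselian
(henselian with separably closed residue field), of Krull dimension d > 0; let Y = Spec R with
closed point y and punctured spectrum U. Then the local cohomology groups H^i_y(Y_et, Z/p) of the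
constant étale sheaf Z/p with support in the closed point vanish for every i ≤ d; in particular
H^d_y(Y_et, Z/p) = 0. -/
theorem result
    (p : ℕ) [Fact p.Prime] (R : Type u) [CommRing R] [IsRegularLocalRing R]
    [HenselianLocalRing R] [IsSepClosed (IsLocalRing.ResidueField R)] [CharP R p]
    (d : ℕ) (hd : ringKrullDim R = d) (hd0 : 0 < d) (i : ℕ) (hi : i ≤ d) :
    IsZero ((EtDual.HY (FEt.puncturedSpec R).ι i).obj (EtCoh.const (Spec (CommRingCat.of R)) (ZMod p))) := by
  haveI := Groth.L04.isCohenMacaulayLocalRing_of_regular R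
  have hH : ∀ k, k < d → Subsingleton (LocCoh.H (IsLocalRing.maximalIdeal R) k R) := fun k hk =>
    Groth.L28.SuppCharP.subsingleton_H_of_lt_depth R (Groth.L28.SuppCharP.lt_depth R
      (by rw [hd]; exact_mod_cast hk))
  refine Groth.L28.SuppCharP.isZero_HY_punctured R p i (hH 0 hd0) (fun hi0 c hc => ?_)
    (fun k hk => hH k (by omega)) (fun m hm h0 => ?_)
  · by_cases h2 : 2 ≤ d
    · have hb := Groth.L28.SuppCharP.bijective_appTop R (fun k hk => hH k (by omega))
      obtain ⟨a, rfl⟩ := hb.2 c
      refine ⟨a, hb.1 ?_, rfl⟩
      rw [map_sub, map_pow, map_zero]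
      exact hc
    · haveI := Groth.L01.isDomain_of_regular R
      haveI : Nonempty ↥(FEt.puncturedSpec R : Scheme.{u}) := by
        by_contra hemp
        rw [not_nonempty_iff] at hemp
        have hall : ∀ q : PrimeSpectrum R, q = IsLocalRing.closedPoint R := fun q => by
          by_contra hq
          exact hemp.elim ⟨q, hq⟩
        have hbot : (⊥ : Ideal R) = IsLocalRing.maximalIdeal R :=
          congrArg PrimeSpectrum.asIdeal (hall ⟨⊥, Ideal.isPrime_bot⟩)
        letI := (IsLocalRing.isField_iff_maximalIdeal_eq.2 hbot.symm).toField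
        rw [ringKrullDim_eq_zero_of_field] at hd
        have : (0 : ℕ) = d := by exact_mod_cast hd
        omega
      haveI : IsIntegral (FEt.puncturedSpec R : Scheme.{u}) :=
        isIntegral_of_isOpenImmersion (FEt.puncturedSpec R).ι
      haveI : CharP Γ(FEt.puncturedSpec R, ⊤) p := (CharP.charP_iff_prime_eq_zero Fact.out).2 (by
        haveI := Groth.L28.SuppCharP.charP_top R p
        rw [← map_natCast (FEt.puncturedSpec R).ι.appTop.hom, CharP.cast_eq_zero, map_zero])
      obtain ⟨k, rfl⟩ := exists_castHom_eq p hc
      haveI := Groth.L28.SuppCharP.charP_top R p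
      refine ⟨ZMod.castHom (dvd_refl p) _ k, ?_, ?_⟩
      · rw [← map_pow, ZMod.pow_card, sub_self]
      · exact map_castHom p (FEt.puncturedSpec R).ι.appTop.hom k
  · rcases Nat.lt_or_ge i d with hlt | hge
    · obtain ⟨e⟩ := Groth.L28.SuppCharP.nonempty_HH_equiv R (m + 1) (by omega)
      have h1 := Groth.L28.SuppCharP.subsingleton_H_Ga_of_HH (Y := (FEt.puncturedSpec R : Scheme.{u})) (m + 1)
        (e.toEquiv.subsingleton_congr.2 (hH _ (by omega)))
      exact fun a b _ => @Subsingleton.elim _ h1 a b
    · exact Groth.L28.SuppCharP.injective_as R p m (by rw [hd]; exact_mod_cast (show d = m + 1 + 1 by omega))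
        (fun k hk => hH k (by omega)) h0

end Groth.Agent.S19129
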