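import Groth.Statements.S19131
import Groth.Agent.L10.Tri.QuotientT

set_option autoImplicit false
set_option backward.defeqAttrib.useBackward true
set_option backward.isDefEq.respectTransparency false
universe v u v' u'
open CategoryTheory CategoryTheory.Limits CategoryTheory.Pretriangulated CategoryTheory.Triangulated
open PervT

namespace Groth.Agent.S19131

/-- Let C be a triangulated category (octahedron axiom included) carrying a bounded t-structure t (every
object is ≥ a and ≤ b for some integers a, b), and let D be a strictly full triangulated subcategory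
of C (a property of objects containing zero, stable under shifts, extensions and isomorphisms) such
that (1) for X in D and every integer n the n-th cohomology object of X for t, realised as τ^{≥ n}
τ^{≤ n} X, lies in D, and (2) the objects of D in the heart of t are closed under subobjects and
quotients in the heart: for every distinguished triangle X → Y → Z → X[1] whose three vertices lie
in the heart, if Y is in D then so are X and Z. Let q : C ⥤ E be a triangulated functor to a
pretriangulated category E which exhibits E as the localization of C at the class of morphisms whose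
cone lies in D (the Verdier quotient of C by D). Then E carries exactly one t-structure for which q
is t-exact (q sends objects ≤ n to objects ≤ n and objects ≥ n to objects ≥ n), and for this
t-structure an object of E is ≤ n, respectively ≥ n, if and only if it is isomorphic to q X for some
X ≤ n, respectively X ≥ n, in C. (The source also identifies the heart of this t-structure with the
quotient of the heart of t by its intersection with D; that identification is not asserted here.) -/
theorem result
    {C : Type u} [Category.{v} C] [Preadditive C] [HasZeroObject C] [HasShift C ℤ]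
    [∀ n : ℤ, (shiftFunctor C n).Additive] [Pretriangulated C] [IsTriangulated C]
    (t : TStructure C) (hb : ∀ X : C, t.bounded X)
    (D : ObjectProperty C) [D.IsTriangulated] [D.IsClosedUnderIsomorphisms]
    (h1 : ∀ X : C, D X → ∀ n : ℤ, D ((t.truncGELE n n).obj X))
    (h2 : ∀ (X Y Z : C) (f : X ⟶ Y) (g : Y ⟶ Z) (h : Z ⟶ X⟦(1 : ℤ)⟧),
      Triangle.mk f g h ∈ distTriang C → t.heart X → t.heart Y → t.heart Z → D Y → D X ∧ D Z)
    {E : Type u'} [Category.{v'} E] [Preadditive E] [HasZeroObject E] [HasShift E ℤ]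
    [∀ n : ℤ, (shiftFunctor E n).Additive] [Pretriangulated E]
    (q : C ⥤ E) [q.CommShift ℤ] [q.IsTriangulated] [q.IsLocalization D.trW] :
    ∃ t' : TStructure E,
      (∀ (X : C) (n : ℤ), t.IsLE X n → t'.IsLE (q.obj X) n) ∧
      (∀ (X : C) (n : ℤ), t.IsGE X n → t'.IsGE (q.obj X) n) ∧
      (∀ (Y : E) (n : ℤ), t'.IsLE Y n ↔ ∃ X : C, t.IsLE X n ∧ Nonempty (q.obj X ≅ Y)) ∧
      (∀ (Y : E) (n : ℤ), t'.IsGE Y n ↔ ∃ X : C, t.IsGE X n ∧ Nonempty (q.obj X ≅ Y)) ∧
      ∀ t'' : TStructure E,
        (∀ (X : C) (n : ℤ), t.IsLE X n → t''.IsLE (q.obj X) n) →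
        (∀ (X : C) (n : ℤ), t.IsGE X n → t''.IsGE (q.obj X) n) → t'' = t' := by
  refine ⟨Groth.L10.QuotientT.tQ t D h1 hb h2 q,
    fun X n hX => (Groth.L10.QuotientT.isLE_tQ_iff t D h1 hb h2 q _ n).2 ⟨X, hX, ⟨Iso.refl _⟩⟩,
    fun X n hX => (Groth.L10.QuotientT.isGE_tQ_iff t D h1 hb h2 q _ n).2 ⟨X, hX, ⟨Iso.refl _⟩⟩,
    Groth.L10.QuotientT.isLE_tQ_iff t D h1 hb h2 q, Groth.L10.QuotientT.isGE_tQ_iff t D h1 hb h2 q,
    fun t'' hle hge => ?_⟩
  let t' := Groth.L10.QuotientT.tQ t D h1 hb h2 q
  have hle' : ∀ (Y : E) (n : ℤ), t'.IsLE Y n → t''.IsLE Y n := fun Y n hY => by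
    obtain ⟨X, hX, ⟨e⟩⟩ := (Groth.L10.QuotientT.isLE_tQ_iff t D h1 hb h2 q Y n).1 hY
    have := hle X n hX
    exact t''.isLE_of_iso e n
  have hge' : ∀ (Y : E) (n : ℤ), t'.IsGE Y n → t''.IsGE Y n := fun Y n hY => by
    obtain ⟨X, hX, ⟨e⟩⟩ := (Groth.L10.QuotientT.isGE_tQ_iff t D h1 hb h2 q Y n).1 hY
    have := hge X n hX
    exact t''.isGE_of_iso e n
  have hL : t''.le = t'.le := by
    funext n Y
    rw [t''.le_iff_isLE, t'.le_iff_isLE]
    refine propext ⟨fun hY => ?_, hle' Y n⟩
    rw [t'.isLE_iff_orthogonal n (n + 1) rfl]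
    exact fun Z f hZ => t''.zero_of_isLE_of_isGE f n (n + 1) (by omega) hY (hge' Z _ hZ)
  have hG : t''.ge = t'.ge := by
    funext n Y
    rw [t''.ge_iff_isGE, t'.ge_iff_isGE]
    refine propext ⟨fun hY => ?_, hge' Y n⟩
    rw [t'.isGE_iff_orthogonal (n - 1) n (by omega)]
    exact fun Z f hZ => t''.zero_of_isLE_of_isGE f (n - 1) n (by omega) (hle' Z _ hZ) hY
  change t'' = t'
  cases t''
  rcases ht : t' with ⟨le', ge'⟩
  rw [ht] at hL hG
  subst hL
  subst hG
  rfl

end Groth.Agent.S19131
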