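import Groth.Statements.S19132
import Groth.Agent.L29.Dual.Devissage

set_option autoImplicit false
universe u
open CategoryTheory
attribute [local instance] HasDerivedCategory.standard
open Dual

namespace Groth.Agent.S19132

/-- In the case of a local ring whose dualizing complex is normalized, let A be a Noetherian local ring
with residue field k and ω a normalized dualizing complex over A (Hom(k, ω[i]) = 0 in D(A) for i ≠
0), and let N be an object of D(A) which is bounded with finitely generated cohomology modules and
concentrated in nonnegative degrees (H^i(N) = 0 for i < 0). Then RHom_A(N, ω) is concentrated in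
nonpositive degrees: the group of morphisms N → ω[i] in D(A) vanishes for every i > 0. (For the
local ring at a point x of a scheme of finite type over the base, whose dualizing complex is
normalized only up to the shift by the integer d(x), the corresponding bound is degree −d(x); that
case is this statement applied to the shifted complex.) -/
theorem result
    (A : Type u) [CommRing A] [IsLocalRing A] [IsNoetherianRing A]
    (ω : Dual.D A) (hω : Dual.IsDualizing A ω) (hn : Dual.IsNormalized A ω)
    (N : Dual.D A) (hfin : ∀ i : ℤ, Module.Finite A (Dual.HD A N i))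
    (b : ℤ) (hb : ∀ i : ℤ, b < i → Subsingleton (Dual.HD A N i))
    (hge : ∀ i : ℤ, i < 0 → Subsingleton (Dual.HD A N i))
    (i : ℤ) (hi : 0 < i) :
    Subsingleton (N ⟶ ω⟦i⟧) := by
  haveI : N.IsGE 0 := (DerivedCategory.isGE_iff N 0).2 fun j hj => by
    haveI := hge j hj; exact ModuleCat.isZero_of_subsingleton _
  haveI : N.IsLE b := (DerivedCategory.isLE_iff N b).2 fun j hj => by
    haveI := hb j hj; exact ModuleCat.isZero_of_subsingleton _
  refine Groth.L29.HomD.bounded_induction (fun Y => ∀ i : ℤ, 0 < i → Subsingleton (Y ⟶ ω⟦i⟧))
    ?_ ?_ ?_ N 0 b ?_ i hi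
  · intro X Y e hX j hj
    haveI := hX j hj
    exact ((CategoryTheory.Linear.homCongr A e (CategoryTheory.Iso.refl _)).symm.toEquiv).subsingleton
  · intro T hT h1 h3 j hj
    exact Groth.L29.HomD.subsingleton_of_triangle T hT _ (h1 j hj) (h3 j hj)
  · intro X hX j _
    exact ⟨fun a b => hX.eq_of_src a b⟩
  · intro n hn0 _ j hj
    haveI := hfin n
    haveI := Groth.L29.HomD.subsingleton_of_pos ω (Groth.L29.HomD.good_of_isDualizing hω) hn
      (Dual.HD A N n) (j + n) (by lia)
    exact (Groth.L29.HomD.singleHomEquiv ω _ n j).toEquiv.subsingleton

end Groth.Agent.S19132
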