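import Groth.Statements.S19134
import Groth.Agent.L10.MatlisEquiv.Cofinite

set_option autoImplicit false
set_option linter.style.haveILetI false
set_option backward.defeqAttrib.useBackward true
set_option backward.isDefEq.respectTransparency false
universe u
open CategoryTheory
attribute [local instance] HasDerivedCategory.standard
open Dual

namespace Groth.Agent.S19134

/-- Let A be a Noetherian local ring with maximal ideal m which is m-adically complete, and ω a
normalized dualizing complex over A (Hom(k, ω[i]) = 0 in D(A) for i ≠ 0); assume the total right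
derived functor RΓ_m of the m-power-torsion functor and the derived m-adic completion functor (left
adjoint to the inclusion of derived complete objects, with unit K → K^) exist on D(A). Call an
A-module N cofinite when every element of N is killed by a power of m and the socle of N (the
elements killed by m) is finitely generated. Then RΓ_m and derived completion are mutually inverse
equivalences between the bounded complexes with finitely generated cohomology modules and the
bounded complexes with cofinite cohomology modules, the comparison maps being the canonical ones: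
(a) for M bounded with finitely generated cohomology, RΓ_m M is bounded, every H^i(RΓ_m M) is
cofinite, the derived completion of the canonical map RΓ_m M → M is an isomorphism, and the unit M →
M^ is an isomorphism; (b) for K bounded with cofinite cohomology modules, the derived completion K^
is bounded with finitely generated cohomology, RΓ_m applied to the unit K → K^ is an isomorphism,
and the canonical map RΓ_m K → K is an isomorphism; (c) for a cofinite module N, the derived
completion of N placed in degree 0 is perverse coherent: Hom(N[0]^, ω[i]) = 0 for every i ≠ 0. (The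
published proposition also asserts that these equivalences exchange the perverse t-structure,
defined by RHom(−, ω), with the standard one; that exactness is not part of this statement.) -/
theorem result
    (A : Type u) [CommRing A] [IsLocalRing A] [IsNoetherianRing A]
    [IsAdicComplete (IsLocalRing.maximalIdeal A) A]
    (ω : Dual.D A) (hω : Dual.IsDualizing A ω) (hn : Dual.IsNormalized A ω)
    [DRing.HasRgammaI (IsLocalRing.maximalIdeal A)] [DRing.HasDerivedCompletion (IsLocalRing.maximalIdeal A)] :
    (∀ M : Dual.D A, (∀ i : ℤ, Module.Finite A (Dual.HD A M i)) →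
      (∃ a b : ℤ, ∀ i : ℤ, (i < a ∨ b < i) → Subsingleton (Dual.HD A M i)) →
        (∃ a b : ℤ, ∀ i : ℤ, (i < a ∨ b < i) →
          Subsingleton (Dual.HD A ((DRing.RgammaI (IsLocalRing.maximalIdeal A)).obj M) i)) ∧
        (∀ i : ℤ, LocCoh.IsPowerTorsion (IsLocalRing.maximalIdeal A)
            (Dual.HD A ((DRing.RgammaI (IsLocalRing.maximalIdeal A)).obj M) i) ∧
          Module.Finite A ↥(LocCoh.torsionBy (IsLocalRing.maximalIdeal A)
            (Dual.HD A ((DRing.RgammaI (IsLocalRing.maximalIdeal A)).obj M) i))) ∧
        IsIso ((DRing.derivedCompletion (IsLocalRing.maximalIdeal A)).map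
          ((DRing.RgammaIε (IsLocalRing.maximalIdeal A)).app M)) ∧
        IsIso (DRing.toDerivedCompletion (IsLocalRing.maximalIdeal A) M)) ∧
    (∀ K : Dual.D A, (∃ a b : ℤ, ∀ i : ℤ, (i < a ∨ b < i) → Subsingleton (Dual.HD A K i)) →
      (∀ i : ℤ, LocCoh.IsPowerTorsion (IsLocalRing.maximalIdeal A) (Dual.HD A K i) ∧
        Module.Finite A ↥(LocCoh.torsionBy (IsLocalRing.maximalIdeal A) (Dual.HD A K i))) →
        (∀ i : ℤ, Module.Finite A
          (Dual.HD A ((DRing.derivedCompletion (IsLocalRing.maximalIdeal A)).obj K).obj i)) ∧
        (∃ a b : ℤ, ∀ i : ℤ, (i < a ∨ b < i) → Subsingleton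
          (Dual.HD A ((DRing.derivedCompletion (IsLocalRing.maximalIdeal A)).obj K).obj i)) ∧
        IsIso ((DRing.RgammaI (IsLocalRing.maximalIdeal A)).map
          (DRing.toDerivedCompletion (IsLocalRing.maximalIdeal A) K)) ∧
        IsIso ((DRing.RgammaIε (IsLocalRing.maximalIdeal A)).app K)) ∧
    (∀ (N : Type u) [AddCommGroup N] [Module A N],
      LocCoh.IsPowerTorsion (IsLocalRing.maximalIdeal A) N →
      Module.Finite A ↥(LocCoh.torsionBy (IsLocalRing.maximalIdeal A) N) →
        ∀ i : ℤ, i ≠ 0 → Subsingleton
          (((DRing.derivedCompletion (IsLocalRing.maximalIdeal A)).obj (Dual.inD A N)).obj ⟶ ω⟦i⟧)) := by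
  obtain ⟨fs, hfs⟩ := Groth.L10.MatlisEquiv.exists_generators (A := A)
  refine ⟨fun M hM ⟨a, b, hab⟩ => ?_, fun K ⟨a, b, hab⟩ hK => ?_, fun N _ _ hN _ i hi => ?_⟩
  · haveI hge : DerivedCategory.IsGE M a := (DerivedCategory.isGE_iff _ _).2 fun i hi =>
      @ModuleCat.isZero_of_subsingleton _ _ _ (hab i (Or.inl hi))
    haveI hle : DerivedCategory.IsLE M b := (DerivedCategory.isLE_iff _ _).2 fun i hi =>
      @ModuleCat.isZero_of_subsingleton _ _ _ (hab i (Or.inr hi))
    haveI := Groth.L10.MatlisEquiv.isGE_RΓ (IsLocalRing.maximalIdeal A) M a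
    refine ⟨⟨a, b + fs.length, fun i hi => ?_⟩, fun i => (Groth.L10.MatlisEquiv.isArtinian_iff_cofinite _).1
      (Groth.L10.MatlisEquiv.cofΓ_of_finite M a b hge hle hM i),
      Groth.L10.MatlisEquiv.isIso_completion_map _ _ (Groth.L10.MatlisEquiv.cbij_ε _ M),
      Groth.L10.MatlisEquiv.isIso_unit_of_finite _ M hM⟩
    rcases hi with hi | hi
    · exact ModuleCat.subsingleton_of_isZero (DerivedCategory.isZero_of_isGE _ a i hi)
    · exact Groth.L10.DualUnbounded.isZero_gamma (IsLocalRing.maximalIdeal A) fs hfs M b i hi
  · haveI hge : DerivedCategory.IsGE K a := (DerivedCategory.isGE_iff _ _).2 fun i hi =>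
      @ModuleCat.isZero_of_subsingleton _ _ _ (hab i (Or.inl hi))
    haveI hle : DerivedCategory.IsLE K b := (DerivedCategory.isLE_iff _ _).2 fun i hi =>
      @ModuleCat.isZero_of_subsingleton _ _ _ (hab i (Or.inr hi))
    have hA : ∀ i : ℤ, IsArtinian A (Dual.HD A K i) := fun i =>
      (Groth.L10.MatlisEquiv.isArtinian_iff_cofinite _).2 (hK i)
    refine ⟨Groth.L10.MatlisEquiv.finC_of_artinian hω hn K a b hge hle hA,
      ⟨a - fs.length, b, fun i hi => ?_⟩,
      Groth.L10.MatlisEquiv.isIso_RΓ_map _ _ (Groth.L10.MatlisEquiv.tbij_unit _ K),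
      Groth.L04.RGamma.isIso_ε_of_torsion _ K fun i => (hK i).1⟩
    refine ModuleCat.subsingleton_of_isZero
      (Groth.L10.CompletionBound.isZero_completion (IsLocalRing.maximalIdeal A) fs hfs K i ?_)
    rcases hi with hi | hi
    · exact Or.inr fun j hj => DerivedCategory.isZero_of_isGE K a j (by omega)
    · exact Or.inl fun j hj => DerivedCategory.isZero_of_isLE K b j (by omega)
  · exact Groth.L10.MatlisEquiv.subsingleton_completion_hom hω hn N hN i hi

end Groth.Agent.S19134
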