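import Groth.Statements.S19136
import Mathlib.Tactic.Ring
import Mathlib.Tactic.LinearCombination
import Mathlib.Tactic.Linarith
import Mathlib.Tactic.FieldSimp
import Mathlib.Tactic.GCongr
import Mathlib.Analysis.Seminorm

set_option autoImplicit false
universe u
open Instab

namespace Groth.Agent.S19136

/-- Let p be a seminorm and ℓ a linear form on a real vector space, let y₀ and y₁ be vectors at which p
is positive and ℓ is non-negative, and let y = t y₀ + (1 - t) y₁ with 0 < t < 1 be a point of the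
open segment at which p is positive. Then ℓ(y)/p(y) is at least the smaller of ℓ(y₀)/p(y₀) and
ℓ(y₁)/p(y₁), and if it equals that smaller value then ℓ(y₀)/p(y₀) = ℓ(y₁)/p(y₁). (The published
lemma concerns the numerical invariant attached to a degree-two cohomology class and a semi-norm on
graded points of a stack; restricted to one rational simplex that invariant is the quotient of a
linear form by a semi-norm on the non-negative orthant of a real coordinate space, and local
quasi-concavity there amounts to this inequality with its equality clause, the set where the linear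
form is non-negative being automatically convex; the lemma's further assertion, that the invariant
is positive at no pair of antipodal points, is not stated here. The vector space is arbitrary here.) -/
theorem result {E : Type u} [AddCommGroup E] [Module ℝ E]
    (p : Seminorm ℝ E) (ℓ : E →ₗ[ℝ] ℝ) (y₀ y₁ : E) (h₀ : 0 < p y₀) (h₁ : 0 < p y₁)
    (hℓ₀ : 0 ≤ ℓ y₀) (hℓ₁ : 0 ≤ ℓ y₁) (t : ℝ) (ht₀ : 0 < t) (ht₁ : t < 1)
    (hy : 0 < p (t • y₀ + (1 - t) • y₁)) :
    min (ℓ y₀ / p y₀) (ℓ y₁ / p y₁) ≤ ℓ (t • y₀ + (1 - t) • y₁) / p (t • y₀ + (1 - t) • y₁) ∧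
      (ℓ (t • y₀ + (1 - t) • y₁) / p (t • y₀ + (1 - t) • y₁) = min (ℓ y₀ / p y₀) (ℓ y₁ / p y₁) →
        ℓ y₀ / p y₀ = ℓ y₁ / p y₁) := by
  set m₀ := ℓ y₀ / p y₀ with hm₀
  set m₁ := ℓ y₁ / p y₁ with hm₁
  have e₀ : ℓ y₀ = m₀ * p y₀ := (div_mul_cancel₀ _ h₀.ne').symm
  have e₁ : ℓ y₁ = m₁ * p y₁ := (div_mul_cancel₀ _ h₁.ne').symm
  have hlin : ℓ (t • y₀ + (1 - t) • y₁) = t * (m₀ * p y₀) + (1 - t) * (m₁ * p y₁) := by
    simp [map_add, map_smul, e₀, e₁]
  have hp' : p (t • y₀ + (1 - t) • y₁) ≤ t * p y₀ + (1 - t) * p y₁ := by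
    refine (map_add_le_add p _ _).trans (le_of_eq ?_)
    rw [map_smul_eq_mul, map_smul_eq_mul, Real.norm_eq_abs, Real.norm_eq_abs, abs_of_pos ht₀,
      abs_of_pos (sub_pos.mpr ht₁)]
  have hm : 0 ≤ min m₀ m₁ := le_min (div_nonneg hℓ₀ h₀.le) (div_nonneg hℓ₁ h₁.le)
  have a₀ : min m₀ m₁ * p y₀ * t ≤ m₀ * p y₀ * t := by gcongr; exact min_le_left _ _
  have a₁ : min m₀ m₁ * p y₁ * (1 - t) ≤ m₁ * p y₁ * (1 - t) := by
    have : 0 ≤ 1 - t := by linarith
    gcongr; exact min_le_right _ _
  have hmp := mul_le_mul_of_nonneg_left hp' hm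
  refine ⟨?_, fun heq => ?_⟩
  · rw [le_div_iff₀ hy, hlin]
    linarith
  · rw [div_eq_iff hy.ne', hlin] at heq
    by_contra hne
    rcases lt_or_gt_of_ne hne with h | h
    · rw [min_eq_left h.le] at *
      linarith [mul_lt_mul_of_pos_right (mul_lt_mul_of_pos_right h h₁) (sub_pos.mpr ht₁)]
    · rw [min_eq_right h.le] at *
      linarith [mul_lt_mul_of_pos_right (mul_lt_mul_of_pos_right h h₀) ht₀]

end Groth.Agent.S19136
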