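import Groth.Statements.S19137
import Mathlib.Tactic.Ring
import Mathlib.Tactic.LinearCombination
import Mathlib.Tactic.Linarith
import Mathlib.Tactic.FieldSimp
import Mathlib.Tactic.GCongr
import Mathlib.Analysis.Seminorm

set_option autoImplicit false
universe u
open Instab

namespace Groth.Agent.S19137

/-- Let p be a seminorm on a real vector space whose unit ball is strictly convex in the sense that p(a
+ b) < p(a) + p(b) whenever p(a) and p(b) are non-zero and b is not a positive multiple of a; let ℓ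
be a linear form, y₀ and y₁ vectors with p and ℓ positive at both and y₁ not a positive multiple of
y₀, and y = t y₀ + (1 - t) y₁ with 0 < t < 1 a point at which p is positive. Then ℓ(y)/p(y) is
strictly greater than the smaller of ℓ(y₀)/p(y₀) and ℓ(y₁)/p(y₁). (The published lemma says that
when the norm on graded points is locally a norm with strictly convex unit balls, the numerical
invariant attached to a degree-two class and that norm is strictly quasi-concave on each cone and is
positive at no pair of antipodal points; on one rational simplex the first property is this strict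
form of the quasi-concavity inequality for the quotient of a linear form by the norm, at points
where the linear form is positive, and the second property is not stated here. The vector space is
arbitrary here.) -/
theorem result {E : Type u} [AddCommGroup E] [Module ℝ E]
    (p : Seminorm ℝ E)
    (hp : ∀ a b : E, p a ≠ 0 → p b ≠ 0 → (¬ ∃ c : ℝ, 0 < c ∧ b = c • a) → p (a + b) < p a + p b)
    (ℓ : E →ₗ[ℝ] ℝ) (y₀ y₁ : E) (h₀ : 0 < p y₀) (h₁ : 0 < p y₁)
    (hℓ₀ : 0 < ℓ y₀) (hℓ₁ : 0 < ℓ y₁) (hne : ¬ ∃ c : ℝ, 0 < c ∧ y₁ = c • y₀)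
    (t : ℝ) (ht₀ : 0 < t) (ht₁ : t < 1) (hy : 0 < p (t • y₀ + (1 - t) • y₁)) :
    min (ℓ y₀ / p y₀) (ℓ y₁ / p y₁) < ℓ (t • y₀ + (1 - t) • y₁) / p (t • y₀ + (1 - t) • y₁) := by
  set m₀ := ℓ y₀ / p y₀ with hm₀
  set m₁ := ℓ y₁ / p y₁ with hm₁
  have e₀ : ℓ y₀ = m₀ * p y₀ := (div_mul_cancel₀ _ h₀.ne').symm
  have e₁ : ℓ y₁ = m₁ * p y₁ := (div_mul_cancel₀ _ h₁.ne').symm
  have hlin : ℓ (t • y₀ + (1 - t) • y₁) = t * (m₀ * p y₀) + (1 - t) * (m₁ * p y₁) := by
    simp [map_add, map_smul, e₀, e₁]
  have hs : 0 < 1 - t := by linarith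
  have hp' : p (t • y₀ + (1 - t) • y₁) < t * p y₀ + (1 - t) * p y₁ := by
    refine (hp (t • y₀) ((1 - t) • y₁) ?_ ?_ ?_).trans_le (le_of_eq ?_)
    · rw [map_smul_eq_mul, Real.norm_eq_abs, abs_of_pos ht₀]; exact (mul_pos ht₀ h₀).ne'
    · rw [map_smul_eq_mul, Real.norm_eq_abs, abs_of_pos hs]; exact (mul_pos hs h₁).ne'
    · rintro ⟨c, hc, he⟩
      refine hne ⟨c * t / (1 - t), div_pos (mul_pos hc ht₀) hs, ?_⟩
      have := congr_arg (fun v : E => (1 - t)⁻¹ • v) he
      simp only [smul_smul, inv_mul_cancel₀ hs.ne', one_smul] at this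
      rw [this]; congr 1; field_simp
    · rw [map_smul_eq_mul, map_smul_eq_mul, Real.norm_eq_abs, Real.norm_eq_abs, abs_of_pos ht₀,
        abs_of_pos hs]
  have hm : 0 < min m₀ m₁ := lt_min (div_pos hℓ₀ h₀) (div_pos hℓ₁ h₁)
  have a₀ : min m₀ m₁ * p y₀ * t ≤ m₀ * p y₀ * t := by gcongr; exact min_le_left _ _
  have a₁ : min m₀ m₁ * p y₁ * (1 - t) ≤ m₁ * p y₁ * (1 - t) := by gcongr; exact min_le_right _ _
  rw [lt_div_iff₀ hy, hlin]
  linarith [mul_lt_mul_of_pos_left hp' hm]

end Groth.Agent.S19137
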