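import Groth.Statements.S19138
import Mathlib.Algebra.BigOperators.Field
import Mathlib.Analysis.Convex.StdSimplex
import Mathlib.Topology.Instances.Matrix
import Mathlib.LinearAlgebra.FiniteDimensional.Basic
import Mathlib.Topology.Instances.Rat

set_option autoImplicit false
open Instab

namespace Groth.Agent.S19138

open Matrix in
/-- Let ℓ ∈ ℚⁿ and let B be a rational n × n matrix whose real quadratic form q(y) = y · (B y) is
non-negative on ℝⁿ and positive at every non-zero point of the non-negative orthant. If ℓ · y > 0 at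
some point of the orthant, then the function ℓ · y / √q(y) on the non-zero points of the orthant
attains its maximum at a point with rational coordinates. (The published lemma says that the
numerical invariant attached to a rational degree-two class and such a norm on graded points attains
its maximum on each rational simplex at a rational point whenever it is positive somewhere on that
simplex; on one rational simplex that invariant is this function, so this is what is asked there.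
The case of a piecewise rational linear norm is not stated here.) -/
theorem result (n : ℕ) (ℓ : Fin n → ℚ)
    (B : Matrix (Fin n) (Fin n) ℚ)
    (hnn : ∀ y : Fin n → ℝ, 0 ≤ y ⬝ᵥ (B.map (fun r : ℚ => (r : ℝ))) *ᵥ y)
    (hpos : ∀ y : Fin n → ℝ, (∀ i, 0 ≤ y i) → y ≠ 0 → 0 < y ⬝ᵥ (B.map (fun r : ℚ => (r : ℝ))) *ᵥ y)
    (hℓ : ∃ y : Fin n → ℝ, (∀ i, 0 ≤ y i) ∧ 0 < (fun i => (ℓ i : ℝ)) ⬝ᵥ y) :
    ∃ x : Fin n → ℚ, (∀ i, 0 ≤ x i) ∧ x ≠ 0 ∧
      ∀ y : Fin n → ℝ, (∀ i, 0 ≤ y i) → y ≠ 0 →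
        (fun i => (ℓ i : ℝ)) ⬝ᵥ y / Real.sqrt (y ⬝ᵥ (B.map (fun r : ℚ => (r : ℝ))) *ᵥ y) ≤
          (fun i => (ℓ i : ℝ)) ⬝ᵥ (fun i => (x i : ℝ)) /
            Real.sqrt ((fun i => (x i : ℝ)) ⬝ᵥ (B.map (fun r : ℚ => (r : ℝ))) *ᵥ (fun i => (x i : ℝ))) := by
  classical
  set Br : Matrix (Fin n) (Fin n) ℝ := B.map (fun r : ℚ => (r : ℝ)) with hBr
  set L : Fin n → ℝ := fun i => (ℓ i : ℝ) with hL
  obtain ⟨yp, hyp, hLyp⟩ := hℓ
  have hyp0 : yp ≠ 0 := fun e => by simp [e] at hLyp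
  set f : (Fin n → ℝ) → ℝ := fun y => L ⬝ᵥ y / Real.sqrt (y ⬝ᵥ Br *ᵥ y) with hf
  set K : Set (Fin n → ℝ) := stdSimplex ℝ (Fin n) with hK
  have hK0 : ∀ y ∈ K, y ≠ 0 := fun y hy e => by simpa [e] using hy.2
  have hcont : ContinuousOn f K := by
    refine ContinuousOn.div ?_ ?_ fun y hy => (Real.sqrt_pos.2 (hpos y hy.1 (hK0 y hy))).ne'
    · exact (continuous_const.dotProduct continuous_id).continuousOn
    · exact (Real.continuous_sqrt.comp (continuous_id.dotProduct (continuous_const.matrix_mulVec continuous_id))).continuousOn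
  have hscale : ∀ (c : ℝ) (y : Fin n → ℝ), 0 < c → f (c • y) = f y := by
    intro c y hc
    simp only [hf, dotProduct_smul, smul_dotProduct, Matrix.mulVec_smul, smul_eq_mul]
    rw [← mul_assoc, Real.sqrt_mul (mul_self_nonneg c), Real.sqrt_mul_self hc.le, mul_div_mul_left _ _ hc.ne']
  have hnorm : ∀ y : Fin n → ℝ, (∀ i, 0 ≤ y i) → y ≠ 0 → (∑ i, y i)⁻¹ • y ∈ K ∧ f ((∑ i, y i)⁻¹ • y) = f y := by
    intro y hy hy0
    have hs : 0 < ∑ i, y i := by
      obtain ⟨i, hi⟩ := Function.ne_iff.1 hy0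
      exact Finset.sum_pos' (fun j _ => hy j) ⟨i, Finset.mem_univ i, (hy i).lt_of_ne (Ne.symm hi)⟩
    refine ⟨⟨fun i => ?_, ?_⟩, hscale _ _ (inv_pos.2 hs)⟩
    · exact mul_nonneg (inv_nonneg.2 hs.le) (hy i)
    · simp only [Pi.smul_apply, smul_eq_mul, ← Finset.mul_sum]
      exact inv_mul_cancel₀ hs.ne'
  obtain ⟨y, hyK, hymax⟩ := (isCompact_stdSimplex (𝕜 := ℝ) (ι := Fin n)).exists_isMaxOn ⟨_, (hnorm yp hyp hyp0).1⟩ hcont
  have hmax : ∀ z : Fin n → ℝ, (∀ i, 0 ≤ z i) → z ≠ 0 → f z ≤ f y := fun z hz hz0 =>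
    (hnorm z hz hz0).2 ▸ hymax (hnorm z hz hz0).1
  have hq : 0 < y ⬝ᵥ Br *ᵥ y := hpos y hyK.1 (hK0 y hyK)
  set v := f y with hv
  have hv0 : 0 < v := lt_of_lt_of_le (div_pos hLyp (Real.sqrt_pos.2 (hpos yp hyp hyp0))) (hmax yp hyp hyp0)
  set a := L ⬝ᵥ y with ha
  have hva : a = v * Real.sqrt (y ⬝ᵥ Br *ᵥ y) := by
    rw [hv, hf]; simp only; rw [div_mul_cancel₀ _ (Real.sqrt_pos.2 hq).ne']
  have ha0 : 0 < a := hva ▸ mul_pos hv0 (Real.sqrt_pos.2 hq)
  set S : Matrix (Fin n) (Fin n) ℝ := Br + Br.transpose with hS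
  have hcrit : ∀ i, 0 < y i → v ^ 2 * (S *ᵥ y) i = 2 * a * L i := by
    intro i hi
    set β := v ^ 2 * (S *ᵥ y) i - 2 * a * L i with hβ
    set γ := v ^ 2 * Br i i - L i ^ 2 with hγ
    have hexp : ∀ t : ℝ, v ^ 2 * ((y + Pi.single i t) ⬝ᵥ Br *ᵥ (y + Pi.single i t)) -
        (L ⬝ᵥ (y + Pi.single i t)) ^ 2 = β * t + γ * t ^ 2 := by
      intro t
      have h1 : (L ⬝ᵥ (y + Pi.single i t)) = a + L i * t := by rw [dotProduct_add, dotProduct_single]
      have h2 : (y + Pi.single i t) ⬝ᵥ Br *ᵥ (y + Pi.single i t) =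
          y ⬝ᵥ Br *ᵥ y + t * (S *ᵥ y) i + t ^ 2 * Br i i := by
        rw [Matrix.mulVec_add, dotProduct_add, add_dotProduct, add_dotProduct, single_dotProduct, single_dotProduct,
          Matrix.dotProduct_mulVec y Br (Pi.single i t), dotProduct_single, Matrix.mulVec_single, hS, Matrix.add_mulVec,
          Pi.add_apply, Matrix.mulVec_transpose]
        simp [Matrix.col]
        ring
      have h3 : a ^ 2 = v ^ 2 * (y ⬝ᵥ Br *ᵥ y) := by rw [hva, mul_pow, Real.sq_sqrt hq.le]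
      rw [h1, h2, hβ, hγ]
      linear_combination -h3
    have hloc : ∀ᶠ t in nhds (0 : ℝ), 0 ≤ β * t + γ * t ^ 2 := by
      have e1 : ∀ᶠ t in nhds (0 : ℝ), 0 < y i + t :=
        (continuous_const.add continuous_id).tendsto' 0 (y i) (by simp) |>.eventually_const_lt hi
      have e2 : ∀ᶠ t in nhds (0 : ℝ), 0 < a + L i * t :=
        (continuous_const.add (continuous_const.mul continuous_id)).tendsto' 0 a (by simp [ha]) |>.eventually_const_lt ha0
      filter_upwards [e1, e2] with t h1 h2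
      set z := y + Pi.single i t with hz
      have hz0 : ∀ j, 0 ≤ z j := fun j => by
        rcases eq_or_ne j i with rfl | hj
        · simpa [hz] using h1.le
        · simpa [hz, hj] using hyK.1 j
      have hzne : z ≠ 0 := fun e => h1.ne' (by simpa [hz] using congrFun e i)
      have hqz := hpos z hz0 hzne
      have hLz : L ⬝ᵥ z = a + L i * t := by rw [hz, dotProduct_add, dotProduct_single]
      have hle := hmax z hz0 hzne
      rw [hf] at hle; simp only at hle
      rw [div_le_iff₀ (Real.sqrt_pos.2 hqz)] at hle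
      have := pow_le_pow_left₀ (by rw [hLz]; exact h2.le) hle 2
      rw [mul_pow, Real.sq_sqrt hqz.le] at this
      rw [← hexp t]
      linarith
    suffices β = 0 by rw [hβ] at this; linarith
    by_contra hβ0
    obtain ⟨ε, hε, hε'⟩ := Metric.eventually_nhds_iff.1 hloc
    set d := min (ε / 2) (|β| / (2 * (|γ| + 1))) with hd
    have hd0 : 0 < d := lt_min (half_pos hε) (div_pos (abs_pos.2 hβ0) (by positivity))
    have hdγ : |γ| * d < |β| := by
      have h1 : d * (2 * (|γ| + 1)) ≤ |β| := (le_div_iff₀ (by positivity)).1 (min_le_right _ _)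
      nlinarith [abs_nonneg γ]
    have hp := hε' (y := d) (by rw [dist_zero_right, Real.norm_eq_abs, abs_of_pos hd0]; linarith [min_le_left (ε / 2) (|β| / (2 * (|γ| + 1)))])
    have hn := hε' (y := -d) (by rw [dist_zero_right, Real.norm_eq_abs, abs_neg, abs_of_pos hd0]; linarith [min_le_left (ε / 2) (|β| / (2 * (|γ| + 1)))])
    have h3 : 0 ≤ β + γ * d := nonneg_of_mul_nonneg_left (by nlinarith) hd0
    have h4 : 0 ≤ -β + γ * d := nonneg_of_mul_nonneg_left (by nlinarith) hd0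
    have h5 : γ * d ≤ |γ| * d := by nlinarith [le_abs_self γ]
    rcases abs_cases β with ⟨hb, -⟩ | ⟨hb, -⟩ <;> linarith
  set y0 := (v ^ 2 / (2 * a)) • y with hy0
  have hy00 : ∀ i, 0 < y i → (S *ᵥ y0) i = L i := fun i hi => by
    rw [hy0, Matrix.mulVec_smul, Pi.smul_apply, smul_eq_mul]
    field_simp
    linear_combination hcrit i hi
  -- rational approximation
  let W : Submodule ℚ ℝ := Submodule.span ℚ (Set.range (Fin.cons (1 : ℝ) y0 : Fin (n + 1) → ℝ))
  haveI : Module.Finite ℚ W := Module.Finite.span_of_finite ℚ (Set.finite_range _)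
  let b := Module.finBasis ℚ W
  set d := Module.finrank ℚ W
  let t : Fin d → ℝ := fun k => (b k : ℝ)
  have hmem : ∀ j, (Fin.cons (1 : ℝ) y0 : Fin (n + 1) → ℝ) j ∈ W := fun j => Submodule.subset_span ⟨j, rfl⟩
  have hrepr : ∀ (r : ℝ) (hr : r ∈ W), r = ∑ k, (b.repr ⟨r, hr⟩ k : ℝ) * t k := by
    intro r hr
    conv_lhs => rw [show r = ((⟨r, hr⟩ : W) : ℝ) from rfl, ← b.sum_repr ⟨r, hr⟩]
    rw [Submodule.coe_sum]
    exact Finset.sum_congr rfl fun k _ => Rat.smul_def _ _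
  let e : Fin d → ℚ := fun k => b.repr ⟨1, hmem 0⟩ k
  let c : Fin n → Fin d → ℚ := fun i k => b.repr ⟨y0 i, hmem i.succ⟩ k
  have he : (1 : ℝ) = ∑ k, (e k : ℝ) * t k := hrepr 1 (hmem 0)
  have hc : ∀ i, y0 i = ∑ k, (c i k : ℝ) * t k := fun i => hrepr _ (hmem i.succ)
  have hindep : ∀ q : Fin d → ℚ, ∑ k, (q k : ℝ) * t k = 0 → ∀ k, q k = 0 := by
    intro q hq
    refine Fintype.linearIndependent_iff.1 b.linearIndependent q ?_
    apply Subtype.ext
    rw [Submodule.coe_sum, ZeroMemClass.coe_zero, ← hq]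
    exact Finset.sum_congr rfl fun k _ => Rat.smul_def _ _
  let Sq : Matrix (Fin n) (Fin n) ℚ := B + B.transpose
  have hSq : ∀ i j, S i j = (Sq i j : ℝ) := fun i j => by simp [hS, hBr, Sq]
  have hsys : ∀ i, 0 < y i → ∀ k, ∑ j, Sq i j * c j k = ℓ i * e k := by
    intro i hi k
    refine sub_eq_zero.1 (hindep (fun k => ∑ j, Sq i j * c j k - ℓ i * e k) ?_ k)
    have h := hy00 i hi
    simp only [Matrix.mulVec, dotProduct, hSq] at h
    simp only [hc] at h
    push_cast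
    simp only [sub_mul, Finset.sum_sub_distrib, Finset.sum_mul]
    rw [Finset.sum_comm]
    simp only [mul_assoc, ← Finset.mul_sum, ← he, mul_one]
    rw [h]
    simp [hL]
  let U : Set (Fin d → ℝ) := {s | 0 < ∑ k, (e k : ℝ) * s k} ∩ ⋂ i ∈ {i : Fin n | 0 < y i}, {s | 0 < ∑ k, (c i k : ℝ) * s k}
  have hU : IsOpen U := by
    refine (isOpen_lt continuous_const (by fun_prop)).inter ?_
    exact Set.Finite.isOpen_biInter (Set.toFinite _) fun i _ => isOpen_lt continuous_const (by fun_prop)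
  have hv2a : 0 < v ^ 2 / (2 * a) := by positivity
  have htU : t ∈ U := by
    refine ⟨by simp only [Set.mem_setOf_eq, ← he]; exact one_pos, Set.mem_iInter₂.2 fun i hi => ?_⟩
    simp only [Set.mem_setOf_eq] at hi ⊢
    rw [← hc, hy0, Pi.smul_apply, smul_eq_mul]
    exact mul_pos hv2a hi
  obtain ⟨s, hs⟩ := (DenseRange.piMap fun _ : Fin d => (Rat.denseRange_cast (𝕜 := ℝ))).exists_mem_open hU ⟨t, htU⟩
  simp only [U, Set.mem_inter_iff, Set.mem_iInter, Set.mem_setOf_eq, Pi.map_apply] at hs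
  set σ := ∑ k, e k * s k with hσ
  have hσ0 : (0 : ℝ) < (σ : ℝ) := by rw [hσ]; push_cast; exact hs.1
  have hc0 : ∀ i, ¬ 0 < y i → ∀ k, c i k = 0 := fun i hi => hindep _ (by
    rw [← hc, hy0, Pi.smul_apply, show y i = 0 from le_antisymm (not_lt.1 hi) (hyK.1 i), smul_zero])
  let x : Fin n → ℚ := fun i => (∑ k, c i k * s k) / σ
  let xr : Fin n → ℝ := fun i => (x i : ℝ)
  have hxpos : ∀ i, 0 < y i → 0 < xr i := fun i hi => by
    simp only [xr, x]; push_cast; exact div_pos (hs.2 i hi) hσ0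
  have hxz : ∀ i, ¬ 0 < y i → xr i = 0 := fun i hi => by simp [xr, x, hc0 i hi]
  have hσ' : σ ≠ 0 := fun e => by simp [e] at hσ0
  have hxsys : ∀ i, 0 < y i → (S *ᵥ xr) i = L i := fun i hi => by
    have : ∑ j, Sq i j * x j = ℓ i := by
      simp only [x, ← mul_div_assoc, ← Finset.sum_div, Finset.mul_sum]
      rw [Finset.sum_comm]
      simp only [← mul_assoc, ← Finset.sum_mul, hsys i hi]
      simp only [mul_assoc, ← Finset.mul_sum, ← hσ]
      exact mul_div_cancel_right₀ _ hσ'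
    simp only [Matrix.mulVec, dotProduct, hSq, xr, hL]
    exact_mod_cast this
  have hy0pos : ∀ i, ¬ 0 < y i → y0 i = 0 := fun i hi => by
    rw [hy0, Pi.smul_apply, show y i = 0 from le_antisymm (not_lt.1 hi) (hyK.1 i), smul_zero]
  have hpair : ∀ (z w : Fin n → ℝ), (∀ i, ¬ 0 < y i → z i = 0) → (∀ i, 0 < y i → w i = L i) → z ⬝ᵥ w = L ⬝ᵥ z := by
    intro z w hz hw
    refine Finset.sum_congr rfl fun i _ => ?_
    by_cases hi : 0 < y i
    · rw [hw i hi, mul_comm]
    · rw [hz i hi, zero_mul, mul_zero]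
  have hsymm : ∀ z w : Fin n → ℝ, z ⬝ᵥ S *ᵥ w = w ⬝ᵥ S *ᵥ z := by
    intro z w
    rw [Matrix.dotProduct_mulVec, dotProduct_comm, ← Matrix.mulVec_transpose]
    congr 1
    rw [hS]; simp [Matrix.transpose_add, add_comm]
  have hquad : ∀ z : Fin n → ℝ, z ⬝ᵥ S *ᵥ z = 2 * (z ⬝ᵥ Br *ᵥ z) := by
    intro z
    rw [hS, Matrix.add_mulVec, dotProduct_add, Matrix.mulVec_transpose, dotProduct_comm z (z ᵥ* Br), ← Matrix.dotProduct_mulVec]
    ring
  have hEq : L ⬝ᵥ xr = L ⬝ᵥ y0 := by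
    rw [← hpair xr _ hxz hy00, hsymm, hpair y0 _ hy0pos hxsys]
  have hfx : f xr = f y0 := by
    have h1 : xr ⬝ᵥ Br *ᵥ xr = (L ⬝ᵥ xr) / 2 := by
      rw [← hpair xr _ hxz hxsys, hquad]; ring
    have h2 : y0 ⬝ᵥ Br *ᵥ y0 = (L ⬝ᵥ y0) / 2 := by
      rw [← hpair y0 _ hy0pos hy00, hquad]; ring
    simp only [hf, h1, h2, hEq]
  obtain ⟨i0, hi0⟩ : ∃ i, 0 < y i := by
    by_contra h
    push_neg at h
    exact hK0 y hyK (funext fun i => le_antisymm (h i) (hyK.1 i))
  refine ⟨x, fun i => ?_, fun e => (hxpos i0 hi0).ne' (by simp [xr, e]), fun z hz hz0 => ?_⟩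
  · have : (0 : ℝ) ≤ xr i := by
      by_cases hi : 0 < y i
      · exact (hxpos i hi).le
      · exact (hxz i hi).ge
    simpa [xr] using this
  · show f z ≤ f xr
    rw [hfx, hy0, hscale _ _ hv2a]
    exact hmax z hz hz0

end Groth.Agent.S19138
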