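import Groth.Statements.S1914
import Groth.Agent.L05.Kosz.Tor

set_option autoImplicit false
universe u
open CategoryTheory
attribute [local instance] HasDerivedCategory.standard
open IntMult

namespace Groth.Agent.S1914

/-- Let A be a Noetherian local ring, I = (g₁, …, g_c) an ideal generated by a regular sequence and M a
finite A-module with Supp(M/IM) of dimension ≤ 0. Then c! · length_A(M/I^t M)/t^c tends, as t → ∞,
to Σ_i (−1)^i length_A Tor_i^A(A/I, M); that is, e_I(M, c) equals this alternating sum. -/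
theorem result (A : Type u) [CommRing A] [IsNoetherianRing A] [IsLocalRing A] (c : ℕ) (g : Fin c → A) (hreg : RingTheory.Sequence.IsRegular A (List.ofFn g)) (M : Type u) [AddCommGroup M] [Module A M] [Module.Finite A M] (h0 : Module.supportDim A (M ⧸ (Ideal.span (Set.range g) • (⊤ : Submodule A M))) ≤ 0) : Filter.Tendsto (fun t : ℕ => (c.factorial : ℝ) * ((Module.length A (M ⧸ (Ideal.span (Set.range g) ^ t • (⊤ : Submodule A M)))).toNat : ℝ) / (t : ℝ) ^ c) Filter.atTop (nhds (IntMult.chi A (A ⧸ Ideal.span (Set.range g)) M : ℝ)) := by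
  have hI : Ideal.span (Set.range g) = Ideal.ofList (List.ofFn g) := by
    rw [Ideal.ofList]
    exact congrArg Ideal.span (Set.ext fun x => by simp)
  have key : ∀ I : Ideal A, I = Ideal.ofList (List.ofFn g) →
      IntMult.chi A (A ⧸ I) M = Groth.L05.Kosz.chi (List.ofFn g) M := by
    rintro I rfl
    show (∑ᶠ i : ℕ, (-1 : ℤ) ^ i * ((Module.length A (DRing.Tor A i (A ⧸ Ideal.ofList (List.ofFn g)) M)).toNat : ℤ)) = _
    simp_rw [Groth.L05.Kosz.length_tor_koszul M (List.ofFn g) hreg.toIsWeaklyRegular]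
    refine finsum_eq_sum_of_support_subset _ fun i hi => ?_
    rw [Finset.coe_range, Set.mem_Iio]
    by_contra h
    refine hi ?_
    show (-1 : ℤ) ^ i * _ = 0
    rw [Groth.L05.Kosz.length_H_eq_zero _ _ (Or.inr (by omega))]
    simp
  rw [key _ hI]
  have hfin : Groth.L05.Kosz.Good (List.ofFn g) M := by
    refine Groth.L05.Kosz.good_of_length_ne_top (Groth.L05.Kosz.length_ne_top_of_forall _ fun p hp hle => ?_)
    rw [hI] at h0
    obtain ⟨m, hm, hpm⟩ := Ideal.exists_le_maximal p hp.ne_top
    rcases eq_or_lt_of_le hpm with rfl | hlt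
    · exact hm
    exfalso
    rw [Module.supportDim, Order.krullDim_nonpos_iff_forall_isMax] at h0
    have hsp : ∀ q : PrimeSpectrum A, p ≤ q.asIdeal →
        q ∈ Module.support A (M ⧸ (Ideal.ofList (List.ofFn g) • ⊤ : Submodule A M)) := fun q hq => by
      rw [Module.support_eq_zeroLocus]
      exact hle.trans hq
    exact (h0 ⟨⟨p, hp⟩, hsp _ le_rfl⟩).not_lt (b := ⟨⟨m, hm.isPrime⟩, hsp _ hpm⟩) hlt
  have := Groth.L05.Kosz.tendsto_samuel (List.ofFn g) hfin
  rw [List.length_ofFn, ← hI] at this
  exact this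

end Groth.Agent.S1914
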