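import Groth.Statements.S19143
import Groth.Agent.L25.SplitHom.Main
import Groth.Agent.L25.SplitHom.Smooth

set_option autoImplicit false
open CategoryTheory MonoidalCategory CartesianMonoidalCategory MonObj GrpObj AlgebraicGeometry
universe u
open SGA3x

namespace Groth.Agent.S19143

/-- Let H be an S-group of multiplicative type which is quasi-isotrivial (etale-locally on S
diagonalisable, of arbitrary type) and G an S-group smooth and affine over S. Then the functor T ↦
Hom_{T-gr}(H_T, G_T) is representable by an S-scheme A which is smooth and separated over S: there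
is a family of homomorphisms H ⟶ G parametrised by A through which every family parametrised by an
S-scheme T factors through exactly one S-morphism T ⟶ A. -/
theorem result {S : Scheme.{u}} (H G : Over S) [GrpObj H] [GrpObj G]
    (hH : TwC.Locally S TwC.Topology.etale (fun S' g => ∃ (M : Type) (_ : AddCommGroup M), Nonempty (Grp.mk (Red.bc g H) ≅ Grp.mk (Red.DS S' M))))
    (hG : Smooth G.hom) (hGa : IsAffineHom G.hom) :
    ∃ (A : Over S) (υ : H ⊗ A ⟶ G), AutFam.RepresentsHom H G A υ ∧ Smooth A.hom ∧ IsSeparated A.hom := by
  haveI := hG
  haveI := hGa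
  have hH' := Groth.L25.HomScheme.fpqc_of_etale hH
  haveI : Flat G.hom := inferInstance
  haveI : LocallyOfFinitePresentation G.hom := inferInstance
  obtain ⟨A, υ, hA, hsep, hlfp⟩ := Groth.L25.SplitHom.exists_representsHom H G hH'
  exact ⟨A, υ, hA, Groth.L25.SplitHom.smooth_of_representsHom hH' hA, hsep⟩

end Groth.Agent.S19143
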