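import Groth.Statements.S19147
import Groth.Agent.L25.SplitSub.ImageMult
import Groth.Agent.L25.SplitSub.QuotLocal

set_option autoImplicit false
open CategoryTheory MonoidalCategory CartesianMonoidalCategory MonObj GrpObj AlgebraicGeometry
universe u
open SGA3x

namespace Groth.Agent.S19147

open CategoryTheory.Limits Groth.L25 in
set_option backward.isDefEq.respectTransparency.types false in
theorem split_of_iso {U : Scheme.{u}} {M : Type} [AddCommGroup M] [Module.Finite ℤ M] [IsAddTorsionFree M]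
    {Q : Over U} [GrpObj Q] (ε : Q ≅ Red.DS U M) (hε : IsMonHom ε.hom) :
    ∃ r : ℕ, Red.IsSplitTorusWith (Fin r → ℤ) Q := by
  haveI := hε
  haveI : Module.IsTorsionFree ℤ M := inferInstance
  let b := (Module.finBasis ℤ M).equivFun.toAddEquiv
  haveI : IsMonHom (SplitSub.mapIso (S := U) b.symm).hom := TorusTorsion.isMonHom_DSmap U _
  exact ⟨_, ⟨Grp.mkIso' ε ≪≫ Grp.mkIso' (SplitSub.mapIso b.symm)⟩⟩

/-- Let Γ be a torsion-free commutative group, G an S-group separated and of finite presentation over S,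
and f : D_S(Γ) ⟶ G a homomorphism. Then the image of f (the closed subgroup of G through which f
factors by a faithfully flat homomorphism) is a locally trivial subtorus of G: f = f' ≫ j with f'
flat and surjective, j the inclusion of a closed subgroup scheme Q, and Q Zariski-locally on S
isomorphic as a group to D(ℤ^r) for some r (depending on the open). -/
theorem result {S : Scheme.{u}} (Γ : Type) [AddCommGroup Γ] [IsAddTorsionFree Γ]
    (G : Over S) [GrpObj G] [IsSeparated G.hom] [QuasiCompact G.hom] [LocallyOfFinitePresentation G.hom]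
    (f : Red.DS S Γ ⟶ G) [IsMonHom f] :
    ∃ (Q : Over S) (_ : GrpObj Q) (j : Q ⟶ G) (_ : IsMonHom j) (f' : Red.DS S Γ ⟶ Q) (_ : IsMonHom f'),
      IsClosedImmersion j.left ∧ Flat f'.left ∧ Surjective f'.left ∧ f' ≫ j = f ∧
      TwC.Locally S TwC.Topology.zariski (fun S' g => ∃ r : ℕ, Red.IsSplitTorusWith (Fin r → ℤ) (Red.bc g Q)) := by
  haveI : IsAffineHom (Red.DS S Γ).hom := Groth.L25.HomSmooth.isAffineHom_of_locally
    ⟨S, 𝟙 S, inferInstance, inferInstance, fun V hV => ⟨V, hV.isCompact, Set.image_id _⟩,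
      fun s => ⟨⊤, trivial, Γ, inferInstance, ⟨Grp.mkIso' (Groth.L25.SplitSub.bcDS _)⟩⟩⟩
  haveI : QuasiCompact f.left := by
    have : QuasiCompact (f.left ≫ G.hom) := by rw [Over.w f]; infer_instance
    exact QuasiCompact.of_comp f.left G.hom
  have hloc : ∀ z : S, ∃ U : S.Opens, z ∈ U ∧ ∃ (A : AddSubgroup Γ), AddGroup.FG A ∧
      ∃ (π : Red.bc (U.ι ≫ 𝟙 S) (Red.DS S Γ) ⟶ Red.DS U.toScheme A)
        (v : Red.DS U.toScheme A ⟶ Red.bc (U.ι ≫ 𝟙 S) G),
        IsMonHom π ∧ IsMonHom v ∧ Flat π.left ∧ Surjective π.left ∧ IsClosedImmersion v.left ∧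
        π ≫ v = (Over.pullback (U.ι ≫ 𝟙 S)).map f := fun z =>
    Groth.L25.SplitSub.exists_local_image f (𝟙 S) (U := ⊤) (Grp.mkIso' (Groth.L25.SplitSub.bcDS _)) (z := z) trivial
  obtain ⟨Q, hQ, j, hjm, q, hqm, hjc, -, hqf, hqs, hqj, hε⟩ := Groth.L25.SchImage.exists_image f (𝟙 S)
    inferInstance (fun V hV => ⟨V, hV.isCompact, Set.image_id _⟩) fun z => by
      obtain ⟨U, hzU, A, hA, π, v, hπ, hv, hπf, hπs, hvc, hfac⟩ := hloc z
      exact ⟨U, hzU, Red.DS U.toScheme A, inferInstance, Groth.L25.SplitSub.isMultTypeFT_DS _ A hA, π, v, hπ, hv,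
        hπf, hπs, hvc, hfac⟩
  letI := hQ
  haveI := hjm
  refine ⟨Q, hQ, j, hjm, q, hqm, hjc, hqf, hqs, hqj, fun z => ?_⟩
  obtain ⟨U, hzU, A, hA, π, v, hπ, hv, hπf, hπs, hvc, hfac⟩ := hloc z
  obtain ⟨ε, hεj, -⟩ := hε z U (Red.DS U.toScheme A) π v hzU hπf hπs hvc hfac
  haveI : Module.Finite ℤ A := Module.Finite.iff_addGroup_fg.2 hA
  haveI : Mono v := Over.mono_of_mono_left v
  haveI : IsAddTorsionFree A := inferInstance
  have hεm : IsMonHom ε.hom := by
    have hjm' : IsMonHom ((Over.pullback (U.ι ≫ 𝟙 S)).map j) := Groth.L25.MonoClosed.isMonHom_pullbackMap _ _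
    haveI := hv
    refine Groth.L25.Bridge.isMonHom_of_mul ε.hom fun Y a b => ?_
    rw [← cancel_mono v, Category.assoc, hεj, MonObj.mul_comp (a ≫ ε.hom) (b ≫ ε.hom) v, Category.assoc,
      Category.assoc, hεj, @MonObj.mul_comp _ _ _ _ _ _ _ _ a b _ hjm']
  obtain ⟨r, hr⟩ := split_of_iso ε hεm
  refine ⟨U, hzU, r, ?_⟩
  rwa [Category.comp_id] at hr

end Groth.Agent.S19147
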