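import Mathlib.Tactic
import Mathlib.LinearAlgebra.PiTensorProduct
import Mathlib.RingTheory.Finiteness.Projective
import Mathlib.LinearAlgebra.Projection
import Groth.Statements.S19148


set_option autoImplicit false
open scoped TensorProduct
universe u v
open FiltMod

namespace Groth.Agent.S19148

/-- In affine form, let R be a commutative ring, M a finitely generated projective R-module (a finite
locally free sheaf on Spec R), F₁ and F₂ direct summands of M and k ≥ 1. Then the images of F₁^{⊗k}
and F₂^{⊗k} in the k-th tensor power M^{⊗k} are equal if and only if F₁ = F₂. (The source states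
this for local direct factors of a finite locally free sheaf on a scheme; equality of subsheaves
being local, this is the affine case with global direct summands, to which it reduces.) -/
theorem result {R : Type u} [CommRing R] {M : Type v} [AddCommGroup M] [Module R M]
    [Module.Finite R M] [Module.Projective R M] (F₁ F₂ : Submodule R M)
    (h₁ : ∃ C : Submodule R M, IsCompl F₁ C) (h₂ : ∃ C : Submodule R M, IsCompl F₂ C) (k : ℕ) (hk : 1 ≤ k) :
    LinearMap.range (PiTensorProduct.map (R := R) (fun _ : Fin k => F₁.subtype)) =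
      LinearMap.range (PiTensorProduct.map (R := R) (fun _ : Fin k => F₂.subtype)) ↔ F₁ = F₂ := by
  classical
  refine ⟨fun h => ?_, fun h => h ▸ rfl⟩
  suffices H : ∀ F F' : Submodule R M, (∃ C : Submodule R M, IsCompl F C) → (∃ C : Submodule R M, IsCompl F' C) →
      LinearMap.range (PiTensorProduct.map (R := R) (fun _ : Fin k => F.subtype)) ≤
        LinearMap.range (PiTensorProduct.map (R := R) (fun _ : Fin k => F'.subtype)) → F ≤ F' from
    le_antisymm (H F₁ F₂ h₁ h₂ h.le) (H F₂ F₁ h₂ h₁ h.ge)
  rintro F F' ⟨D, hD⟩ ⟨C, hC⟩ hle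
  obtain ⟨n, k', rfl⟩ : ∃ n, ∃ _ : Unit, k = n + 1 := ⟨k - 1, (), by omega⟩
  obtain ⟨N, e, g, he⟩ : ∃ (N : ℕ) (e : Fin N → M) (g : Fin N → Module.Dual R M),
      (∀ i, e i ∈ F) ∧ ∀ x ∈ F, x = ∑ i, g i x • e i := by
    obtain ⟨N, f, g, hf, -, hfg⟩ := Module.Finite.exists_comp_eq_id_of_projective R M
    let P := F.projectionOnto D hD
    refine ⟨N, fun i => (P (f (Pi.single i 1)) : M), fun i => (LinearMap.proj i).comp g, fun i => SetLike.coe_mem _, fun x hx => ?_⟩
    have h1 : x = (P (f (g x)) : M) := by
      rw [← LinearMap.comp_apply f g, hfg, LinearMap.id_apply]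
      exact (congrArg Subtype.val (Submodule.projectionOnto_apply_left hD ⟨x, hx⟩)).symm
    conv_lhs => rw [h1, pi_eq_sum_univ' (g x)]
    simp only [map_sum, map_smul, Submodule.coe_sum, Submodule.coe_smul, LinearMap.comp_apply, LinearMap.proj_apply]
  let π : M →ₗ[R] M := C.subtype.comp (C.projectionOnto F' hC.symm)
  have hπ : ∀ y ∈ F', π y = 0 := fun y hy => by
    change ((C.projectionOnto F' hC.symm y : C) : M) = 0
    rw [(Submodule.projectionOnto_apply_eq_zero_iff hC.symm).2 hy]
    rfl
  have key : ∀ (φ : Module.Dual R M), (∀ y ∈ F', φ y = 0) → ∀ x ∈ F, φ x = 0 := by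
    intro φ hφ
    have hn : ∀ (x : M), x ∈ F → ∀ (y : Fin n → M), (∀ j, y j ∈ F) → ∀ G : Fin n → Module.Dual R M,
        φ x * ∏ j, G j (y j) = 0 := by
      intro x hx y hy G
      let Φ : (⨂[R] _ : Fin (n + 1), M) →ₗ[R] R :=
        PiTensorProduct.lift ((MultilinearMap.mkPiAlgebra R (Fin (n + 1)) R).compLinearMap (Fin.cons φ G))
      have h0 : ∀ z ∈ LinearMap.range (PiTensorProduct.map (R := R) (fun _ : Fin (n + 1) => F'.subtype)), Φ z = 0 := by
        rintro - ⟨z, rfl⟩
        induction z using PiTensorProduct.induction_on with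
        | smul_tprod r w =>
          simp only [map_smul, PiTensorProduct.map_tprod, Φ, PiTensorProduct.lift.tprod,
            MultilinearMap.compLinearMap_apply, MultilinearMap.mkPiAlgebra_apply, Fin.prod_univ_succ, Fin.cons_zero]
          rw [hφ _ (show F'.subtype (w 0) ∈ F' from (w 0).2), zero_mul, smul_zero]
        | add a b ha hb => rw [map_add, map_add, ha, hb, add_zero]
      have h1 := h0 _ (hle ⟨PiTensorProduct.tprod R (Fin.cons (⟨x, hx⟩ : F) fun j => ⟨y j, hy j⟩), rfl⟩)
      simpa [Φ, Fin.prod_univ_succ] using h1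
    have hdesc : ∀ j ≤ n, ∀ (x : M), x ∈ F → ∀ (y : Fin j → M), (∀ l, y l ∈ F) → ∀ G : Fin j → Module.Dual R M,
        φ x * ∏ l, G l (y l) = 0 := by
      intro j hj
      induction hd : n - j generalizing j with
      | zero =>
        obtain rfl : j = n := by omega
        exact hn
      | succ d ih =>
        intro x hx y hy G
        conv_lhs => rw [he.2 x hx]
        rw [map_sum, Finset.sum_mul]
        refine Finset.sum_eq_zero fun i _ => ?_
        have h2 := ih (j + 1) (by omega) (by omega) (e i) (he.1 i) (Fin.cons x y)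
          (fun l => Fin.cases hx hy l) (Fin.cons (g i) G)
        rw [Fin.prod_univ_succ] at h2
        simp only [Fin.cons_zero, Fin.cons_succ] at h2
        rw [map_smul, smul_eq_mul, mul_comm (g i x), mul_assoc]
        exact h2
    intro x hx
    simpa using hdesc 0 (Nat.zero_le n) x hx Fin.elim0 (fun l => l.elim0) Fin.elim0
  intro x hx
  have hπx : π x = 0 := by
    obtain ⟨N', f, g', -, -, hfg⟩ := Module.Finite.exists_comp_eq_id_of_projective R M
    rw [← LinearMap.id_apply (R := R) (π x), ← hfg, LinearMap.comp_apply]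
    refine (congrArg f (funext fun i => ?_)).trans (map_zero f)
    exact key ((LinearMap.proj i).comp (g'.comp π)) (fun y hy => by simp [hπ y hy]) x hx
  have h3 : C.projectionOnto F' hC.symm x = 0 := Subtype.ext hπx
  exact (Submodule.projectionOnto_apply_eq_zero_iff hC.symm).1 h3
end Groth.Agent.S19148
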