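import Groth.Statements.S19149
import Groth.Agent.L15.SmoothCrit
import Mathlib.RingTheory.Kaehler.Basic
import Mathlib.RingTheory.LocalRing.Module
import Mathlib.Algebra.Module.Projective
-- import your own Groth.Agent.* helpers here

set_option autoImplicit false
universe u
open GrpSch
open scoped TensorProduct

namespace Groth.Agent.S19149

/-- In affine form, let R be a commutative ring, A a smooth R-algebra with an augmentation ε : A → R
(the unit section of G = Spec A over S = Spec R), I = ker ε its augmentation ideal, and J ⊆ I an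
ideal (defining a closed subscheme H of G through the unit section) such that (1) J is finitely
generated, (2) J ∩ I² = I·J in A, and (3) I/(J + I²) is a finitely generated projective R-module
(finite locally free on S). Then H = Spec (A/J) is smooth over S at every point of the unit section:
for every prime P of A/J containing the image of I, the localization (A/J)_P is formally smooth over
R. (The source states this for G an affine smooth group scheme over a scheme S and H a closed
subgroup, concluding that the neutral component H° is a smooth open subgroup scheme; that conclusion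
is smoothness of H along the unit section, which is the statement here in affine form; the group
structure is not used.) -/
theorem result (R A : Type u) [CommRing R] [CommRing A] [Algebra R A]
    [Algebra.Smooth R A] (ε : A →ₐ[R] R) (J : Ideal A) (hJI : J ≤ RingHom.ker ε)
    (h1 : J.FG)
    (h2 : J ⊓ RingHom.ker ε ^ 2 = RingHom.ker ε * J)
    (h3 : Module.Finite R (↥(RingHom.ker ε) ⧸ Submodule.comap (RingHom.ker ε).subtype (J ⊔ RingHom.ker ε ^ 2)) ∧
      Module.Projective R (↥(RingHom.ker ε) ⧸ Submodule.comap (RingHom.ker ε).subtype (J ⊔ RingHom.ker ε ^ 2)))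
    (P : Ideal (A ⧸ J)) [P.IsPrime] (hP : (RingHom.ker ε).map (Ideal.Quotient.mk J) ≤ P) :
    Algebra.IsSmoothAt R P := by
  classical
  set I := RingHom.ker ε with hI
  set q := P.comap (Ideal.Quotient.mk J) with hq
  have hker : RingHom.ker (algebraMap A (A ⧸ J)) = J := Ideal.mk_ker
  refine (Groth.L15.SmoothCrit.smoothAt_iff (A := R) (B := A) (R := A ⧸ J) Ideal.Quotient.mk_surjective
    (hker.symm ▸ h1) P q rfl).2 ?_
  rw [hker]
  have hIq : I ≤ q := fun x hx => hP (Ideal.mem_map_of_mem _ hx)
  set K := q.ResidueField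
  let Aq := Localization.AtPrime q
  -- `ψ j = 1 ⊗ j`
  have hK : ∀ (i : A) (v : (K ⊗[A] J)), i ∈ I → i • v = 0 := fun i v hi => by
    rw [algebra_compatible_smul K, Ideal.algebraMap_residueField_eq_zero.2 (hIq hi), zero_smul]
  let ψ : J →ₗ[A] (K ⊗[A] J) := TensorProduct.mk A K J 1
  have hψIJ : ∀ z (hz : z ∈ J), z ∈ I * J → ψ ⟨z, hz⟩ = 0 := by
    have hle : I * J ≤ Submodule.map J.subtype (LinearMap.ker ψ) := Ideal.mul_le.2 fun i hi j hj =>
      ⟨⟨i * j, J.mul_mem_left i hj⟩, by
        show ψ (i • (⟨j, hj⟩ : J)) = 0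
        rw [map_smul, hK i _ hi], rfl⟩
    intro z hz hmem
    obtain ⟨w, hw, hwz⟩ := hle hmem
    have : w = ⟨z, hz⟩ := Subtype.ext hwz
    exact this ▸ hw
  -- `φ (j + i₂) = 1 ⊗ j`
  have hdec : ∀ z ∈ J ⊔ I ^ 2, ∃ j : J, z - j ∈ I ^ 2 := fun z hz => by
    obtain ⟨j, hj, i, hi, rfl⟩ := Submodule.mem_sup.1 hz
    exact ⟨⟨j, hj⟩, by simpa using hi⟩
  choose dec hdec using hdec
  let φ : ↥(J ⊔ I ^ 2) → (K ⊗[A] J) := fun z => ψ (dec z.1 z.2)
  have hφ : ∀ (z : ↥(J ⊔ I ^ 2)) (j : J), (z : A) - j ∈ I ^ 2 → φ z = ψ j := fun z j hj => by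
    rw [← sub_eq_zero]
    show ψ _ - ψ j = 0
    rw [← map_sub]
    have h := hψIJ _ (dec z.1 z.2 - j).2 (h2.le ⟨(dec z.1 z.2 - j).2, ?_⟩)
    · exact h
    have := (I ^ 2).sub_mem hj (hdec z.1 z.2)
    simpa using this
  -- an `R`-linear projection of `I` onto `J + I²`
  let M' := Submodule.comap I.subtype (J ⊔ I ^ 2)
  haveI : Module.Projective R (↥I ⧸ M') := h3.2
  obtain ⟨σ, hσ⟩ := Module.projective_lifting_property ((M'.mkQ).restrictScalars R) LinearMap.id M'.mkQ_surjective
  let π : ↥I → ↥(J ⊔ I ^ 2) := fun x => ⟨(x - σ (M'.mkQ x) : ↥I), by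
    have : x - σ (M'.mkQ x) ∈ M' := by
      rw [← Submodule.Quotient.mk_eq_zero, Submodule.Quotient.mk_sub, sub_eq_zero]
      exact (LinearMap.congr_fun hσ (M'.mkQ x)).symm
    exact this⟩
  let δ₀ : A → ↥I := fun a => ⟨a - algebraMap R A (ε a), by
    rw [hI, RingHom.mem_ker, map_sub, AlgHom.commutes, Algebra.algebraMap_self, RingHom.id_apply, sub_self]⟩
  have hφadd : ∀ z w : ↥(J ⊔ I ^ 2), φ (z + w) = φ z + φ w := fun z w => by
    refine (hφ (z + w) (dec z.1 z.2 + dec w.1 w.2) ?_).trans (map_add ψ _ _)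
    have := (I ^ 2).add_mem (hdec z.1 z.2) (hdec w.1 w.2)
    convert this using 1
    push_cast; ring
  have hφsmul : ∀ (a : A) (z : ↥(J ⊔ I ^ 2)), φ (a • z) = a • φ z := fun a z => by
    refine (hφ (a • z) (a • dec z.1 z.2) ?_).trans (map_smul ψ _ _)
    have := (I ^ 2).mul_mem_left a (hdec z.1 z.2)
    convert this using 1
    simp [mul_sub]
  have hπadd : ∀ x y, π (x + y) = π x + π y := fun x y => Subtype.ext (by
    simp [π, map_add]; ring)
  have hπsmul : ∀ (r : R) (x : ↥I), π (algebraMap R A r • x) = algebraMap R A r • π x := fun r x => Subtype.ext (by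
    have : M'.mkQ (algebraMap R A r • x) = r • M'.mkQ x := by rw [map_smul, algebraMap_smul]
    simp [π, this, map_smul, Algebra.smul_def, mul_sub])
  have hπ2 : ∀ x : ↥I, (x : A) ∈ J ⊔ I ^ 2 → (π x : A) = x := fun x hx => by
    have : M'.mkQ x = 0 := (Submodule.Quotient.mk_eq_zero M').2 hx
    simp [π, this]
  let D₀ : A → (K ⊗[A] J) := fun a => φ (π (δ₀ a))
  have hD₀add : ∀ a b, D₀ (a + b) = D₀ a + D₀ b := fun a b => by
    have : δ₀ (a + b) = δ₀ a + δ₀ b := Subtype.ext (by simp [δ₀]; ring)
    show φ (π (δ₀ (a + b))) = _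
    rw [this, hπadd, hφadd]
  have hεV : ∀ (a : A) (v : (K ⊗[A] J)), algebraMap R A (ε a) • v = a • v := fun a v => by
    have h : a - algebraMap R A (ε a) ∈ I := (δ₀ a).2
    have h' := hK _ v h
    calc algebraMap R A (ε a) • v = algebraMap R A (ε a) • v + (a - algebraMap R A (ε a)) • v := by rw [h', add_zero]
      _ = (algebraMap R A (ε a) + (a - algebraMap R A (ε a))) • v := (add_smul _ _ _).symm
      _ = a • v := by rw [add_sub_cancel]
  have hD₀mul : ∀ a b, D₀ (a * b) = a • D₀ b + b • D₀ a := fun a b => by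
    let w : ↥I := ⟨(δ₀ a : A) * δ₀ b, I.mul_mem_left _ (δ₀ b).2⟩
    have hw2 : (w : A) ∈ I ^ 2 := by rw [pow_two]; exact Ideal.mul_mem_mul (δ₀ a).2 (δ₀ b).2
    have : δ₀ (a * b) = algebraMap R A (ε a) • δ₀ b + algebraMap R A (ε b) • δ₀ a + w := Subtype.ext (by
      simp [δ₀, w, Algebra.smul_def]; ring)
    show φ (π (δ₀ (a * b))) = _
    rw [this, hπadd, hπadd, hπsmul, hπsmul, hφadd, hφadd, hφsmul, hφsmul, hεV, hεV]
    have hw0 : φ (π w) = 0 := by
      refine (hφ (π w) 0 ?_).trans (map_zero ψ)
      rw [hπ2 w (Submodule.mem_sup_right hw2)]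
      simpa using hw2
    rw [hw0, add_zero]
  let δ : Derivation R A (K ⊗[A] J) := Derivation.mk'
    { toFun := D₀
      map_add' := hD₀add
      map_smul' := fun r a => by
        have : δ₀ (r • a) = algebraMap R A r • δ₀ a := Subtype.ext (by simp [δ₀, Algebra.smul_def, mul_sub])
        show φ (π (δ₀ (r • a))) = r • D₀ a
        rw [this, hπsmul, hφsmul, algebraMap_smul] } hD₀mul
  have hδJ : ∀ j : J, δ (j : A) = ψ j := fun j => by
    show φ (π (δ₀ (j : A))) = ψ j
    have hj : δ₀ (j : A) = ⟨j, hJI j.2⟩ := Subtype.ext (by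
      simp [δ₀, show ε (j : A) = 0 from hJI j.2])
    rw [hj]
    refine hφ _ j ?_
    rw [hπ2 _ (Submodule.mem_sup_left j.2)]
    simp
  let Θ : K ⊗[A] Ω[A⁄R] →ₗ[K] (K ⊗[A] J) := δ.liftKaehlerDifferential.liftBaseChange K
  have hΘ : ∀ j : J, Θ (Groth.L15.SmoothCrit.dFib (A := R) q (j : A)) = ψ j := fun j => by
    simp [Θ, Groth.L15.SmoothCrit.dFib, hδJ]
  -- a basis of the fibre of `J`
  haveI : Module.Finite A J := Module.Finite.of_fg h1
  have hspan : Submodule.span K (Set.range ψ) = ⊤ := by
    refine Submodule.eq_top_iff'.2 fun z => ?_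
    induction z using TensorProduct.induction_on with
    | zero => exact zero_mem _
    | add a b ha hb => exact add_mem ha hb
    | tmul a m =>
      have : a ⊗ₜ[A] m = a • ψ m := by simp [ψ, TensorProduct.smul_tmul']
      exact this ▸ Submodule.smul_mem _ a (Submodule.subset_span ⟨m, rfl⟩)
  obtain ⟨t, ht, htspan, hli⟩ := exists_linearIndependent K (Set.range ψ)
  rw [hspan] at htspan
  haveI : Fintype t := (hli.set_finite_of_isNoetherian).fintype
  choose g hg using fun z : t => ht z.2
  refine ⟨Finset.univ.image (fun z => (g z : A)), fun x hx => ?_, ?_, ?_⟩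
  · simp only [Finset.coe_image, Finset.coe_univ, Set.image_univ, Set.mem_range] at hx
    obtain ⟨z, rfl⟩ := hx
    exact (g z).2
  · -- Nakayama at `q`
    set N : Submodule A J := Submodule.span A (Set.range g) with hN
    have hQ : (⟨q, inferInstance⟩ : PrimeSpectrum A) ∉ Module.support A (J ⧸ N) := by
      rw [Module.mem_support_iff_nontrivial_residueField_tensorProduct, not_nontrivial_iff_subsingleton]
      let ρ := TensorProduct.AlgebraTensorModule.map (LinearMap.id : K →ₗ[K] K) N.mkQ
      have hρ : Function.Surjective ρ := LinearMap.lTensor_surjective _ N.mkQ_surjective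
      have hρ0 : ∀ z, ρ z = 0 := fun z => by
        have hz : z ∈ Submodule.span K t := htspan ▸ Submodule.mem_top
        induction hz using Submodule.span_induction with
        | mem z hz =>
          rw [show z = ψ (g ⟨z, hz⟩) from (hg ⟨z, hz⟩).symm]
          show (1 : K) ⊗ₜ[A] N.mkQ (g ⟨z, hz⟩) = 0
          rw [Submodule.mkQ_apply, (Submodule.Quotient.mk_eq_zero N).2 (Submodule.subset_span ⟨_, rfl⟩), TensorProduct.tmul_zero]
        | zero => exact map_zero _
        | add a b _ _ ha hb => rw [map_add, ha, hb, add_zero]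
        | smul r a _ ha => rw [map_smul, ha, smul_zero]
      exact ⟨fun a b => by
        obtain ⟨a, rfl⟩ := hρ a
        obtain ⟨b, rfl⟩ := hρ b
        rw [hρ0 a, hρ0 b]⟩
    obtain ⟨c, hc, hcq⟩ : ∃ c, c ∈ Module.annihilator A (J ⧸ N) ∧ c ∉ q := by
      rw [Module.support_eq_zeroLocus] at hQ
      exact SetLike.not_le_iff_exists.1 hQ
    refine le_antisymm (Ideal.map_le_iff_le_comap.2 fun x hx => ?_) (Ideal.span_le.2 ?_)
    · have hx' : c • (⟨x, hx⟩ : J) ∈ N := (Submodule.Quotient.mk_eq_zero N).1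
        (by rw [Submodule.Quotient.mk_smul]; exact Module.mem_annihilator.1 hc _)
      have hu : IsUnit (algebraMap A Aq c) := IsLocalization.map_units Aq (⟨c, hcq⟩ : q.primeCompl)
      have hle : N ≤ Submodule.comap J.subtype
          (Ideal.comap (algebraMap A Aq) (Ideal.span (algebraMap A Aq '' ↑(Finset.univ.image fun z => (g z : A))))) := by
        refine Submodule.span_le.2 ?_
        rintro _ ⟨z, rfl⟩
        exact Ideal.subset_span ⟨_, by simp, rfl⟩
      have h := hle hx'
      simp only [Submodule.mem_comap, Submodule.coe_subtype, SetLike.val_smul, smul_eq_mul, Ideal.mem_comap, map_mul] at h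
      rw [Ideal.mem_comap]
      exact (Ideal.unit_mul_mem_iff_mem _ hu).1 h
    · rintro _ ⟨x, hx, rfl⟩
      simp only [Finset.coe_image, Finset.coe_univ, Set.image_univ, Set.mem_range] at hx
      obtain ⟨z, rfl⟩ := hx
      exact Ideal.mem_map_of_mem _ (g z).2
  · have hli' : LinearIndependent K (fun z : t => Groth.L15.SmoothCrit.dFib (A := R) q (g z : A)) := by
      refine LinearIndependent.of_comp Θ ?_
      rw [show (Θ ∘ fun z : t => Groth.L15.SmoothCrit.dFib (A := R) q (g z : A)) = fun z : t => (z : (K ⊗[A] J)) from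
        funext fun z => (hΘ (g z)).trans (hg z)]
      exact hli
    let e : t ≃ ↥(Finset.univ.image fun z => (g z : A)) := Equiv.ofBijective
      (fun z => ⟨(g z : A), Finset.mem_image_of_mem _ (Finset.mem_univ z)⟩)
      ⟨fun a b hab => Subtype.ext (by
        have h : (g a : A) = (g b : A) := by have h := congr_arg Subtype.val hab; exact h
        rw [← hg a, ← hg b, Subtype.ext h]), fun ⟨x, hx⟩ => by
          obtain ⟨z, -, rfl⟩ := Finset.mem_image.1 hx; exact ⟨z, rfl⟩⟩
    exact (linearIndependent_equiv' e rfl).1 hli'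


end Groth.Agent.S19149
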