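import Groth.Statements.S1915
import Groth.Agent.L22.Sp.Functorial
-- import your own Groth.Agent.* helpers here

set_option autoImplicit false
set_option maxSynthPendingDepth 3
set_option backward.isDefEq.respectTransparency.types false
set_option backward.isDefEq.respectTransparency false
universe u
open CategoryTheory AlgebraicGeometry
open CategoryTheory.Limits
open Cyc

namespace Groth.Agent.S1915

/-- Let f : X' → X be flat, locally of finite type, of relative dimension e, between schemes locally of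
finite type over a discrete valuation ring R, with induced morphisms f_η, f_s of fibres. Then for
every r-cycle α on X_η, sp_{X'}(f_η^* α) = f_s^*(sp_X α) coefficientwise. Here sp is Cyc.spFun,
fibres are Mathlib's Scheme.Hom.fiber with dimension functions given by transcendence degree, flat
pullback is Cyc.pullFun, and the maps of fibres are the base changes of f. -/
theorem result (R : Type u) [CommRing R] [IsDomain R] [IsDiscreteValuationRing R] (X' X : Scheme.{u}) (b : X ⟶ Spec (CommRingCat.of R)) [LocallyOfFiniteType b] (f : X' ⟶ X) [Flat f] [LocallyOfFiniteType f] (e : ℕ) (he : Cyc.HasRelDim f e) (δX'η : ↥((f ≫ b).fiber (genericPoint ↥(Spec (CommRingCat.of R)))) → ℤ) (δX's : ↥((f ≫ b).fiber (IsLocalRing.closedPoint R)) → ℤ) (δXη : ↥(b.fiber (genericPoint ↥(Spec (CommRingCat.of R)))) → ℤ) (δXs : ↥(b.fiber (IsLocalRing.closedPoint R)) → ℤ) (h1 : Cyc.DeltaCompat ((f ≫ b).fiberToSpecResidueField (genericPoint ↥(Spec (CommRingCat.of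 R)))) δX'η (fun _ => 0)) (h2 : Cyc.DeltaCompat ((f ≫ b).fiberToSpecResidueField (IsLocalRing.closedPoint R)) δX's (fun _ => 0)) (h3 : Cyc.DeltaCompat (b.fiberToSpecResidueField (genericPoint ↥(Spec (CommRingCat.of R)))) δXη (fun _ => 0)) (h4 : Cyc.DeltaCompat (b.fiberToSpecResidueField (IsLocalRing.closedPoint R)) δXs (fun _ => 0)) (r : ℤ) (α : AlgebraicCycle (b.fiber (genericPoint ↥(Spec (CommRingCat.of R)))) ℤ) (hα : α ∈ Cyc.Zk (b.fiber (genericPoint ↥(Spec (CommRingCat.of R)))) δXη r) : Cyc.spFun (f ≫ b) (genericPoint ↥(Spec (CommRingCat.of R))) (IsLocalRing.closedPoint R) δX'η δX's (r + e) (Cyc.pullFun (pullback.map (f ≫ b) ((Spec (CommRingCat.of R)).fromSpecResidueField (genericPoint ↥(Spec (CommRingCat.of R)))) b ((Spec (CommRingCat.of R)).fromSpecResidueField (genericPoint ↥(Spec (CommRingCat.of R)))) f (𝟙 _) (𝟙 _) (Category.comp_id _) ((Category.comp_id _).trans (Category.id_comp _).symm)) δX'η δXη e ⇑α) = Cyc.pullFun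 (pullback.map (f ≫ b) ((Spec (CommRingCat.of R)).fromSpecResidueField (IsLocalRing.closedPoint R)) b ((Spec (CommRingCat.of R)).fromSpecResidueField (IsLocalRing.closedPoint R)) f (𝟙 _) (𝟙 _) (Category.comp_id _) ((Category.comp_id _).trans (Category.id_comp _).symm)) δX's δXs e (Cyc.spFun b (genericPoint ↥(Spec (CommRingCat.of R))) (IsLocalRing.closedPoint R) δXη δXs r ⇑α) := by
  classical
  obtain ⟨δY, hsetY, hδb⟩ := Groth.L22.Cyc.exists_setup b (Groth.L22.Sp.isSetup_base R)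
  obtain ⟨δX', hsetX, hδf⟩ := Groth.L22.Cyc.exists_setup f hsetY
  haveI := hsetY.1
  haveI := hsetX.1
  have hδa : Cyc.DeltaCompat (f ≫ b) δX' (Groth.L22.Sp.dR R) := Groth.L22.Sp.deltaCompat_trans f b hδf hδb
  set gη := pullback.map (f ≫ b) ((Spec (CommRingCat.of R)).fromSpecResidueField (genericPoint ↥(Spec (CommRingCat.of R)))) b ((Spec (CommRingCat.of R)).fromSpecResidueField (genericPoint ↥(Spec (CommRingCat.of R)))) f (𝟙 _) (𝟙 _) (Category.comp_id _) ((Category.comp_id _).trans (Category.id_comp _).symm) with hgη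
  set gs := pullback.map (f ≫ b) ((Spec (CommRingCat.of R)).fromSpecResidueField (IsLocalRing.closedPoint R)) b ((Spec (CommRingCat.of R)).fromSpecResidueField (IsLocalRing.closedPoint R)) f (𝟙 _) (𝟙 _) (Category.comp_id _) ((Category.comp_id _).trans (Category.id_comp _).symm) with hgs
  have sqη : gη ≫ b.fiberι (Groth.L22.Sp.eta R) = (f ≫ b).fiberι (Groth.L22.Sp.eta R) ≫ f :=
    pullback.lift_fst _ _ _
  have sqs : gs ≫ b.fiberι (Groth.L22.Sp.sp R) = (f ≫ b).fiberι (Groth.L22.Sp.sp R) ≫ f :=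
    pullback.lift_fst _ _ _
  have hpη : ∀ ζ, b.fiberι (Groth.L22.Sp.eta R) (gη ζ) = f ((f ≫ b).fiberι (Groth.L22.Sp.eta R) ζ) := fun ζ => by
    exact (Scheme.Hom.comp_apply gη _ ζ).symm.trans ((congrArg (fun φ => φ ζ) (congrArg (fun q : _ ⟶ X => (⇑q : _ → X)) sqη)).trans (Scheme.Hom.comp_apply _ f ζ))
  have hps : ∀ z, b.fiberι (Groth.L22.Sp.sp R) (gs z) = f ((f ≫ b).fiberι (Groth.L22.Sp.sp R) z) := fun z => by
    exact (Scheme.Hom.comp_apply gs _ z).symm.trans ((congrArg (fun φ => φ z) (congrArg (fun q : _ ⟶ X => (⇑q : _ → X)) sqs)).trans (Scheme.Hom.comp_apply _ f z))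
  have hdη : ∀ ζ, (δX'η ζ = δXη (gη ζ) + (e : ℤ)) =
      (δX' ((f ≫ b).fiberι (Groth.L22.Sp.eta R) ζ) = δY (f ((f ≫ b).fiberι (Groth.L22.Sp.eta R) ζ)) + (e : ℤ)) :=
    fun ζ => by
    rw [← hpη, Groth.L22.Sp.delta_fiber (f ≫ b) hδa _ h1, Groth.L22.Sp.delta_fiber b hδb _ h3,
      Groth.L22.Sp.dR_eta]
    exact propext ⟨fun h => by omega, fun h => by omega⟩
  have hds : ∀ z, (δX's z = δXs (gs z) + (e : ℤ)) =
      (δX' ((f ≫ b).fiberι (Groth.L22.Sp.sp R) z) = δY (f ((f ≫ b).fiberι (Groth.L22.Sp.sp R) z)) + (e : ℤ)) :=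
    fun z => by
    rw [← hps, Groth.L22.Sp.delta_fiber (f ≫ b) hδa _ h2, Groth.L22.Sp.delta_fiber b hδb _ h4,
      Groth.L22.Sp.dR_sp, add_zero, add_zero]
  obtain ⟨βX, hβ, hβ0⟩ := Groth.L22.Sp.exists_extend b α
  have hk : ∀ ξ, βX ξ ≠ 0 → δY ξ = r + 1 ∧ b ξ = Groth.L22.Sp.eta R := fun ξ h => by
    obtain ⟨hb, ζ, rfl, h'⟩ := hβ0 ξ h
    refine ⟨?_, hb⟩
    rw [Groth.L22.Sp.delta_fiber b hδb _ h3, Groth.L22.Sp.dR_eta,
      show δXη ζ = r from by_contra fun hne => h' (hα ζ hne)]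
  have hc : ∀ x, Groth.L22.Cyc.FibGen f x → δX' x = δY (f x) + (e : ℤ) :=
    Groth.L22.Cyc.shift_of_deltaCompat f he hδf
  have hex := Groth.L22.C1.pullFun_c1Cap_exact f hsetX.2.2 hsetY.2.2
    (Groth.L18.Ample.isInvertible_structureModule X) (e : ℤ) hc βX (Groth.L22.Sp.choice b)
    (Groth.L22.Sp.choice_ne_zero b)
  have hk' : ∀ ξ, Cyc.pullFun f δX' δY e ⇑βX ξ ≠ 0 → δX' ξ = r + e + 1 ∧ (f ≫ b) ξ = Groth.L22.Sp.eta R :=
    fun ξ h => by
    unfold Cyc.pullFun at h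
    split_ifs at h with hcond
    · obtain ⟨hd, hb⟩ := hk (f ξ) (left_ne_zero_of_mul h)
      exact ⟨by omega, hb⟩
    · exact absurd rfl h
  rw [Groth.L22.Sp.c1Cap_pull f b hsetX.2.2 _ fun t ht => (hk' t ht).2] at hex
  funext z
  rw [Groth.L22.Sp.spFun_eq (f ≫ b) hδa hsetX.2.2 h1 h2 (r + e) _ (Cyc.pullFun f δX' δY e ⇑βX)
    (fun ζ _ => ?_) hk' z, ← hex]
  · have hm : Groth.L22.Cyc.mult gs z = Groth.L22.Cyc.mult f ((f ≫ b).fiberι (Groth.L22.Sp.sp R) z) := by
      refine Groth.L22.Sp.mult_fibre f gs _ _ sqs z ?_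
      have hz := Groth.L22.Cyc.fromSpec_fiber_apply (f ≫ b) (Groth.L22.Sp.sp R) z
      rw [(Groth.L18.stalkMap_fiberι (f ≫ b) _ z).2]
      refine (Groth.L22.Sp.map_maximal (f ≫ b) hz).trans_le ?_
      rw [Ideal.span_singleton_le_iff_mem, Groth.L22.Sp.pi_comp]
      exact Ideal.mem_map_of_mem _ ((Groth.L22.Sp.pi_mem_iff b _).2 hz)
    unfold Cyc.pullFun
    refine if_congr (Iff.of_eq (hds z).symm) ?_ rfl
    exact congrArg₂ (· * ·) ((congrArg (Cyc.c1CapFun δY (Coh.structureModule X) ⇑βX (Groth.L22.Sp.choice b)) (hps z).symm).trans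
      (Groth.L22.Sp.spFun_eq b hδb hsetY.2.2 h3 h4 r _ ⇑βX (fun ζ _ => hβ ζ) hk (gs z)).symm)
      (congrArg (fun n : ℕ∞ => (n.toNat : ℤ)) hm.symm)
  · have hm : Groth.L22.Cyc.mult gη ζ = Groth.L22.Cyc.mult f ((f ≫ b).fiberι (Groth.L22.Sp.eta R) ζ) := by
      refine Groth.L22.Sp.mult_fibre f gη _ _ sqη ζ ?_
      rw [Groth.L22.Sp.ker_stalkMap_eta]
      exact bot_le
    unfold Cyc.pullFun
    refine if_congr (Iff.of_eq (hdη ζ).symm) ?_ rfl
    exact congrArg₂ (· * ·) ((congrArg ⇑βX (hpη ζ).symm).trans (hβ (gη ζ))) (congrArg (fun n : ℕ∞ => (n.toNat : ℤ)) hm.symm)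

end Groth.Agent.S1915
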