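import Groth.Statements.S19155
import Groth.Agent.L24.RootD.Dominant
-- import your own Groth.Agent.* helpers here

set_option autoImplicit false
open RootPairing
open RootD

namespace Groth.Agent.S19155

/-- Let P be a root datum (root pairing over ℤ with finitely many roots, roots in M), S a system of
positive roots, Γ a non-trivial totally ordered commutative group and f : M → Γ additive. Call f
dominant when f(α) ≥ 0 for every positive root α. Then the dominant maps form a fundamental domain
for the Weyl group W acting on Hom(M, Γ) through M: there is w ∈ W with f ∘ w dominant, and if f and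
f ∘ w are both dominant (w ∈ W) then f ∘ w = f. -/
theorem result {ι M N : Type*} [AddCommGroup M] [AddCommGroup N]
    (P : RootPairing ι ℤ M N) [Finite ι] (S : Set ι) (hS : RootD.IsPosSys P S)
    {Γ : Type*} [AddCommGroup Γ] [LinearOrder Γ] [IsOrderedAddMonoid Γ] [Nontrivial Γ] (f : M →+ Γ) :
    (∃ g : P.Aut, g ∈ P.weylGroup ∧ ∀ i ∈ S, 0 ≤ f (RootPairing.Equiv.weightHom P g (P.root i))) ∧
    (∀ g : P.Aut, g ∈ P.weylGroup → (∀ i ∈ S, 0 ≤ f (P.root i)) →
      (∀ i ∈ S, 0 ≤ f (RootPairing.Equiv.weightHom P g (P.root i))) →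
      ∀ m : M, f (RootPairing.Equiv.weightHom P g m) = f m) := by
  have e : ∀ (g : P.Aut) (m : M), RootPairing.Equiv.weightHom P g m = g • m := fun _ _ => rfl
  simp only [e]
  refine ⟨?_, fun g hg hf hfg m => ?_⟩
  · obtain ⟨g, hg, hd⟩ := Groth.L24.RootD.exists_pos_sys_dom hS f
    exact ⟨g, hg, hd⟩
  · obtain ⟨l, hl, hlg⟩ := Groth.L24.RootD.exists_minWord_simples hS hg
    exact Groth.L24.RootD.eq_of_dom_dom hS hf l.length g hg
      (fun l' hl' e' => hl'.2 l hl.1 (hlg.trans e'.symm)) hfg m

end Groth.Agent.S19155
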