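import Groth.Statements.S19159
import Groth.Agent.L25.SplitSub.KernelLocal
import Groth.Agent.L25.MonoClosed.Main
-- import your own Groth.Agent.* helpers here

set_option autoImplicit false
set_option backward.isDefEq.respectTransparency.types false
open CategoryTheory CategoryTheory.Limits MonoidalCategory CartesianMonoidalCategory MonObj GrpObj AlgebraicGeometry
universe u
open SGA3x

namespace Groth.Agent.S19159

/-- Let Γ be a commutative group, G an S-group separated and of finite presentation over S, and f :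
D_S(Γ) ⟶ G a homomorphism. Then S is covered by open and closed subsets U on each of which there is
a finitely generated subgroup Λ ⊆ Γ (Λ is then the group of those γ ∈ Γ which, as characters of
D(Γ), are trivial on the kernel of the fibre homomorphism f_{s'}, one and the same group for every
point s' of U) such that f|_U factors as the canonical map D_U(Γ) ⟶ D_U(Λ) (restriction of
characters, faithfully flat with kernel D_U(Γ/Λ)) followed by a homomorphism D_U(Λ) ⟶ G_U which is a
closed immersion: over U, ker f = D(Γ/Λ) and im f ≅ D(Λ). -/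
theorem result {S : Scheme.{u}} (Γ : Type) [AddCommGroup Γ]
    (G : Over S) [GrpObj G] [IsSeparated G.hom] [QuasiCompact G.hom] [LocallyOfFinitePresentation G.hom]
    (f : Red.DS S Γ ⟶ G) [IsMonHom f] (s : S) :
    ∃ U : S.Opens, s ∈ U ∧ IsClosed (U : Set S) ∧ ∃ Λ : AddSubgroup Γ, Λ.FG ∧
      ∃ j : Red.bc U.ι (Red.DS S Λ) ⟶ Red.bc U.ι G, IsMonHom j ∧ IsClosedImmersion j.left ∧
        (Over.pullback U.ι).map f = (Over.pullback U.ι).map (Red.DSmap S Λ.subtype) ≫ j := by
  obtain ⟨U, hs, hcl, Λ, hfg, hgood⟩ := Groth.L25.SplitSub.exists_good_clopen f s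
  refine ⟨U, hs, hcl, Λ, hfg, ?_⟩
  have := Groth.L25.SplitSub.isMonHom_bcHom U.ι f
  have hU : Groth.L25.SplitSub.Good (Groth.L25.SplitSub.bcHom U.ι f) Set.univ Λ := fun T _ t =>
    hgood.bc f U.ι T (fun y => (T.hom y).2) t
  obtain ⟨v, hvm, hvmono, hv⟩ := Groth.L25.SplitSub.exists_factor (Groth.L25.SplitSub.bcHom U.ι f) hU
  let e := Groth.L25.SplitSub.bcDS (S := S) (N := Λ) U.ι
  have hem : IsMonHom e.hom := Groth.L25.SplitSub.isMonHom_bcDS U.ι
  have : IsSeparated (Red.bc U.ι G).hom := MorphismProperty.pullback_snd _ _ ‹IsSeparated G.hom›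
  have : LocallyOfFiniteType (Red.bc U.ι G).hom :=
    MorphismProperty.pullback_snd _ _ (inferInstance : LocallyOfFiniteType G.hom)
  have : QuasiCompact (Red.bc U.ι G).hom := MorphismProperty.pullback_snd _ _ ‹QuasiCompact G.hom›
  have hΛ : Module.Finite ℤ Λ := Module.Finite.iff_addGroup_fg.2 ((AddGroup.fg_iff_addSubgroup_fg Λ).2 hfg)
  have hcv : IsClosedImmersion v.left := Groth.L25.MonoClosed.isClosedImmersion_DS v
  refine ⟨e.hom ≫ v, Groth.L25.MonoClosed.isMonHom_comp' hem hvm, ?_, ?_⟩
  · have : IsIso e.hom.left := inferInstanceAs (IsIso ((Over.forget _).map e.hom))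
    rw [Over.comp_left]
    infer_instance
  · rw [← Groth.L25.SplitSub.bcDS_hom_bcHom U.ι f, ← hv, ← Category.assoc, ← Category.assoc]
    congr 1
    refine Groth.L25.DSPts.char_injective ?_
    rw [Groth.L25.SplitSub.incl, Groth.L25.SplitSub.char_DSmap]
    conv_lhs => rw [← Category.id_comp (Groth.L25.SplitSub.bcDS U.ι).hom]
    rw [Groth.L25.SplitSub.char_bcDS, show e = Groth.L25.SplitSub.bcDS U.ι from rfl,
      Groth.L25.SplitSub.char_bcDS]
    have key : Groth.L25.NilAction.toBase U.ι ((Over.pullback U.ι).map (Red.DSmap S Λ.subtype)) =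
        Groth.L25.NilAction.toBase U.ι (𝟙 (Red.bc U.ι (Red.DS S Γ))) ≫ Red.DSmap S Λ.subtype :=
      Over.OverMorphism.ext (by
        simp [Groth.L25.NilAction.toBase, Over.pullback_map_left, pullback.lift_fst])
    rw [key, Groth.L25.SplitSub.char_DSmap]

end Groth.Agent.S19159
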