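import Groth.Statements.S19160
import Mathlib.Algebra.TrivSqZeroExt.Basic

set_option autoImplicit false
open scoped TensorProduct
universe u
open PureMod

namespace Groth.Agent.S19160

/-- (2) ⇒ (3): in affine form, let R be a commutative ring and i : A → B an R-linear map such that for
every commutative R-algebra R' the base change R' ⊗ A → R' ⊗ B is injective (the pull-back of i to
every affine scheme over Spec R is a monomorphism). Then F ⊗ A → F ⊗ B is injective for every
R-module F, i.e. i is universally injective (pure). (Modules and algebras are taken in the universe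
of R.) -/
theorem result (R : Type u) [CommRing R]
    (A B : Type u) [AddCommGroup A] [Module R A] [AddCommGroup B] [Module R B] (i : A →ₗ[R] B)
    (h : ∀ (R' : Type u) [CommRing R'] [Algebra R R'], Function.Injective (i.baseChange R'))
    (F : Type u) [AddCommGroup F] [Module R F] :
    Function.Injective (i.lTensor F) := by
  let R' := TrivSqZeroExt R F
  letI : Module Rᵐᵒᵖ F := Module.compHom F ((RingHom.id R).fromOpposite mul_comm)
  haveI : IsCentralScalar R F := ⟨fun _ _ => rfl⟩
  have h1 : Function.Injective (i.baseChange (TrivSqZeroExt R F)) := h _
  let inr : F →ₗ[R] TrivSqZeroExt R F := TrivSqZeroExt.inrHom R F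
  let snd : TrivSqZeroExt R F →ₗ[R] F := TrivSqZeroExt.sndHom R F
  have hinj : Function.Injective (inr.rTensor A) := by
    have : Function.LeftInverse (snd.rTensor A) (inr.rTensor A) := by
      intro x
      rw [← LinearMap.comp_apply, ← LinearMap.rTensor_comp]
      have : snd ∘ₗ inr = LinearMap.id := by ext m; simp [snd, inr]
      rw [this]; simp
    exact this.injective
  have hcomm : (inr.rTensor B).comp (i.lTensor F) = ((i.baseChange (TrivSqZeroExt R F)).restrictScalars R).comp (inr.rTensor A) := by
    ext x y; simp
  intro x y hxy
  apply hinj
  apply h1
  have h2 := congrArg (inr.rTensor B) hxy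
  rw [← LinearMap.comp_apply, ← LinearMap.comp_apply, hcomm] at h2
  exact h2

end Groth.Agent.S19160
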