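import Groth.Statements.S19163
import Groth.Agent.L25.SplitSub.SchImage
import Groth.Agent.L25.Locus.Main
import Groth.Agent.L20.SchDesc.Cov

set_option autoImplicit false
open CategoryTheory MonoidalCategory CartesianMonoidalCategory MonObj GrpObj AlgebraicGeometry
universe u
open SGA3x

namespace Groth.Agent.S19163
open CategoryTheory.Limits

/-- Let Γ be a non-trivial totally ordered commutative group and H ⟶ G a closed immersion of reductive
S-groups (a homomorphism which is a closed immersion). Let A_H with υ_H, resp. A_G with υ_G,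
represent the functor of group homomorphisms D_S(Γ) ⟶ H, resp. D_S(Γ) ⟶ G, and let φ : A_H ⟶ A_G be
the S-morphism induced by composing with H ⟶ G (the universal family over A_H followed by H ⟶ G is
the pull-back of υ_G along φ). Then φ is a closed immersion, locally of finite presentation. -/
theorem result {S : Scheme.{u}}
    (Γ : Type) [AddCommGroup Γ] [LinearOrder Γ] [IsOrderedAddMonoid Γ] [Nontrivial Γ]
    (H G : Over S) [GrpObj H] [GrpObj G] (hH : Red.IsReductive H) (hG : Red.IsReductive G)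
    (k : H ⟶ G) [IsMonHom k] (hk : IsClosedImmersion k.left)
    (AH : Over S) (υH : Red.DS S Γ ⊗ AH ⟶ H) (hAH : AutFam.RepresentsHom (Red.DS S Γ) H AH υH)
    (AG : Over S) (υG : Red.DS S Γ ⊗ AG ⟶ G) (hAG : AutFam.RepresentsHom (Red.DS S Γ) G AG υG)
    (φ : AH ⟶ AG) (hφ : (Red.DS S Γ ◁ φ) ≫ υG = υH ≫ k) :
    IsClosedImmersion φ.left ∧ LocallyOfFinitePresentation φ.left := by
  haveI := hk
  haveI := hH.1
  haveI := hH.2.1
  haveI := hG.1
  haveI := hG.2.1
  haveI : LocallyOfFinitePresentation (k.left ≫ G.hom) := by rw [Over.w k]; infer_instance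
  haveI hkfp : LocallyOfFinitePresentation k.left :=
    Groth.L20.locallyOfFinitePresentation_of_comp k.left G.hom
  have hloc : TwC.Locally S TwC.Topology.fpqc (fun S' f => ∃ (M : Type) (_ : AddCommGroup M),
      Nonempty (Grp.mk (Red.bc f (Red.DS S Γ)) ≅ Grp.mk (Red.DS S' M))) := by
    refine ⟨S, 𝟙 S, inferInstance, inferInstance, fun V hV => ⟨V, hV.isCompact, ?_⟩,
      fun s => ⟨⊤, trivial, Γ, inferInstance, ?_⟩⟩
    · simp
    · haveI := Groth.L25.SplitSub.isMonHom_bcDS (N := Γ) ((⊤ : S.Opens).ι ≫ 𝟙 S)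
      exact ⟨Grp.mkIso' (Groth.L25.SplitSub.bcDS ((⊤ : S.Opens).ι ≫ 𝟙 S))⟩
  haveI : Mono k := (Over.forget S).mono_of_mono_map (inferInstanceAs (Mono k.left))
  let a : AG ⊗ Red.DS S Γ ⟶ G := lift (snd _ _) (fst _ _) ≫ υG
  obtain ⟨W, i, hi, hfp, hW⟩ := Groth.L25.Locus.exists_representable hloc a k
  haveI := hi
  haveI := hfp hkfp
  haveI : Mono i := (Over.forget S).mono_of_mono_map (inferInstanceAs (Mono i.left))
  have hfac : Groth.L25.Locus.Fac a k AH φ := fun X' t h => by
    refine ⟨lift h t ≫ υH, ?_⟩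
    rw [Category.assoc, ← hφ, lift_whiskerLeft_assoc]
    show _ = lift (t ≫ φ) h ≫ lift (snd _ _) (fst _ _) ≫ υG
    rw [← Category.assoc (lift (t ≫ φ) h), comp_lift, lift_fst, lift_snd]
  obtain ⟨w, hw⟩ := (hW AH φ).1 hfac
  obtain ⟨y, hy⟩ := (hW W i).2 ⟨𝟙 W, Category.id_comp i⟩ (Red.DS S Γ ⊗ W) (snd _ _) (fst _ _)
  have hy' : y ≫ k = Red.DS S Γ ◁ i ≫ υG := by
    rw [hy]
    show lift (snd _ _ ≫ i) (fst _ _) ≫ lift (snd _ _) (fst _ _) ≫ υG = _
    rw [← Category.assoc (lift (snd _ _ ≫ i) (fst _ _)), comp_lift, lift_fst, lift_snd]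
    congr 1
  have hyF : AutFam.IsHomFamily (Red.DS S Γ) H y := fun X g₁ g₂ t => by
    rw [← cancel_mono k, MonObj.mul_comp]
    simp only [Category.assoc, hy', lift_whiskerLeft_assoc]
    exact hAG.1 X g₁ g₂ _
  obtain ⟨s, hs, -⟩ := hAH.2 W y hyF
  have h1 : s ≫ φ = i := (hAG.2 W (Red.DS S Γ ◁ i ≫ υG) (fun X g₁ g₂ t => by
    simp only [lift_whiskerLeft_assoc]; exact hAG.1 X g₁ g₂ _)).unique
      (by rw [whiskerLeft_comp, Category.assoc, hφ, ← Category.assoc, hs, hy']) rfl
  have h2 : s ≫ w = 𝟙 W := by rw [← cancel_mono i, Category.assoc, hw, h1, Category.id_comp]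
  have h3 : w ≫ s = 𝟙 AH := by
    refine (hAH.2 AH υH hAH.1).unique ?_ (by rw [whiskerLeft_id, Category.id_comp])
    rw [← cancel_mono k, whiskerLeft_comp, Category.assoc, Category.assoc, ← Category.assoc (_ ◁ s), hs, hy',
      ← Category.assoc, ← whiskerLeft_comp, hw, hφ]
  haveI : IsIso w := ⟨s, h3, h2⟩
  haveI : IsIso w.left := inferInstanceAs (IsIso ((Over.forget S).map w))
  rw [← hw, Over.comp_left]
  exact ⟨inferInstance, inferInstance⟩

end Groth.Agent.S19163
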