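import Groth.Statements.S19169
import Groth.Agent.L05.ProCompl.Basic

set_option autoImplicit false
universe u
open ProCompl

namespace Groth.Agent.S19169

/-- Let B be a Hausdorff, locally compact, totally disconnected topological abelian group which is
compactly generated, i.e. generated as a group by a compact subset. Then the open subgroups of
finite index of B have trivial intersection: every nonzero b lies outside some open subgroup of
finite index. Equivalently, the natural map from B to its completion with respect to open subgroups
of finite index is injective. -/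
theorem result
    {B : Type u} [AddCommGroup B] [TopologicalSpace B] [IsTopologicalAddGroup B]
    [T2Space B] [LocallyCompactSpace B] [TotallyDisconnectedSpace B]
    (hcg : ∃ K : Set B, IsCompact K ∧ AddSubgroup.closure K = ⊤) (b : B) (hb : b ≠ 0) :
    ∃ B' : AddSubgroup B, IsOpen (B' : Set B) ∧ B'.FiniteIndex ∧ b ∉ B' := by
  haveI := Groth.L05.ProCompl.nonarchimedean_of_locallyCompact (B := B)
  obtain ⟨W, hW⟩ := NonarchimedeanAddGroup.is_nonarchimedean ({b}ᶜ : Set B)
    (isOpen_compl_singleton.mem_nhds hb.symm)
  obtain ⟨χ, hχ, hχb⟩ := Groth.L05.ProCompl.exists_char_ne_zero W.toAddSubgroup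
    (a := b) (fun h => hW h rfl)
  have ho : IsOpen (χ.ker : Set B) := AddSubgroup.isOpen_mono hχ W.isOpen
  exact ⟨χ.ker, ho, Groth.L05.ProCompl.finiteIndex_ker_of_compactlyGenerated hcg χ ho, hχb⟩

end Groth.Agent.S19169
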