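import Groth.Statements.S19171
import Groth.Agent.L05.ProCompl.Basic

set_option autoImplicit false
universe u v
open ProCompl

namespace Groth.Agent.S19171

open Topology in
/-- Let B be a Hausdorff, locally compact, totally disconnected topological abelian group generated as a
group by a compact subset, and let i : A → B be an injective continuous homomorphism inducing the
topology of A from that of B (a strict injection) whose image is closed. Then every character χ : A
→ ℚ/ℤ with open kernel extends along i to a character ψ : B → ℚ/ℤ with open kernel; with ℚ/ℤ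
discrete this says that restriction B^D → A^D of continuous characters is surjective, i.e. the dual
of a topological exact sequence 0 → A → B → C → 0 with such B, strict closed i and open p is a short
exact sequence 0 → C^D → B^D → A^D → 0. -/
theorem result
    {A : Type u} {B : Type v} [AddCommGroup A] [TopologicalSpace A] [IsTopologicalAddGroup A]
    [AddCommGroup B] [TopologicalSpace B] [IsTopologicalAddGroup B]
    [T2Space B] [LocallyCompactSpace B] [TotallyDisconnectedSpace B]
    (hcg : ∃ K : Set B, IsCompact K ∧ AddSubgroup.closure K = ⊤)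
    (i : A →+ B) (hi : Continuous i) (hinj : Function.Injective i) (hind : IsInducing i)
    (hcl : IsClosed (Set.range i))
    (χ : A →+ ℚ ⧸ AddSubgroup.zmultiples (1 : ℚ)) (hχ : IsOpen (χ.ker : Set A)) :
    ∃ ψ : B →+ ℚ ⧸ AddSubgroup.zmultiples (1 : ℚ), IsOpen (ψ.ker : Set B) ∧ ψ.comp i = χ := by
  haveI := Groth.L05.ProCompl.nonarchimedean_of_locallyCompact (B := B)
  obtain ⟨O, hO, hOeq⟩ := hind.isOpen_iff.mp hχ
  obtain ⟨W, hW⟩ := NonarchimedeanAddGroup.is_nonarchimedean O (hO.mem_nhds (by
    rw [← map_zero i, ← Set.mem_preimage, hOeq]
    exact zero_mem χ.ker))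
  obtain ⟨ψ, hψW, hψ⟩ := Groth.L05.ProCompl.exists_extension_of_comap_le i χ W.toAddSubgroup
    (fun a ha => by have : a ∈ i ⁻¹' O := hW ha; rwa [hOeq] at this)
  exact ⟨ψ, AddSubgroup.isOpen_mono hψW W.isOpen, hψ⟩

end Groth.Agent.S19171
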