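import Groth.Statements.S19175
import Groth.Agent.L03.SurfFib.FibreTriv
import Groth.Agent.L03.SurfNum.CurveDegree
import Groth.Agent.L03.SurfAdj.Vertical
-- import your own Groth.Agent.* helpers here

set_option autoImplicit false
universe u
open CategoryTheory CategoryTheory.Limits AlgebraicGeometry
open Surf

namespace Groth.Agent.S19175

open Groth.L22.Inter Groth.L22.Nef Groth.L22.Big Groth.L03.SurfNum
open Groth.L00.Tensor (tensorIso tensorComm)
set_option backward.isDefEq.respectTransparency false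
set_option linter.style.haveILetI false
set_option maxHeartbeats 600000

/-- Let k be an algebraically closed field of characteristic zero, X a smooth proper integral surface
over k and B a smooth proper integral curve over k, and f : X → B a k-morphism each of whose fibres
over a closed point is an integral one-dimensional scheme with at-worst-nodal singularities and
arithmetic genus one (an elliptic fibration all of whose fibres are smooth elliptic or irreducible
nodal). Let s be a section of f and L_S an invertible O_X-module inverse to the ideal of the closed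
immersion s (the class of the curve S = s(B)); let L_F be the pullback along f of an invertible
O_B-module inverse to the ideal of a closed point (the class of a fibre); and let L_C be an
invertible O_X-module whose restriction to the fibre over every closed point of some nonempty open
subset of B is isomorphic to the restriction of L_S (a class agreeing with S on the general fibre).
Then there is an integer m with 2m = (L_S·L_S) − (L_C·L_C) and (L_S·N) = (L_C·N) + m·(L_F·N) for
every invertible O_X-module N: numerically S ≡ C + ((S² − C²)/2)·F. Here (L·N) = χ(O_X) − χ(L) −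
χ(N) + χ(L ⊗ N) is the intersection number of invertible modules on the proper surface X. -/
theorem result (k : Type u) [Field k] [IsAlgClosed k] [CharZero k]
    (X B : Scheme.{u}) [X.Over (Spec (CommRingCat.of k))] [B.Over (Spec (CommRingCat.of k))]
    [IsProper (X ↘ (Spec (CommRingCat.of k)))] [Smooth (X ↘ (Spec (CommRingCat.of k)))] [AlgebraicGeometry.IsIntegral X] (hX2 : topologicalKrullDim X = 2)
    [IsProper (B ↘ (Spec (CommRingCat.of k)))] [Smooth (B ↘ (Spec (CommRingCat.of k)))] [AlgebraicGeometry.IsIntegral B] (hB1 : topologicalKrullDim B = 1)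
    (f : X ⟶ B) (hf : f ≫ (B ↘ (Spec (CommRingCat.of k))) = X ↘ (Spec (CommRingCat.of k)))
    (hfib : ∀ b : B, IsClosed ({b} : Set B) →
      AlgebraicGeometry.IsIntegral (f.fiber b) ∧ topologicalKrullDim (f.fiber b) = 1 ∧
        @Curv2.AtWorstNodal (B.residueField b) _ (f.fiber b) ⟨f.fiberToSpecResidueField b⟩ ∧
        @Curv2.genus (B.residueField b) _ (f.fiber b) ⟨f.fiberToSpecResidueField b⟩ = 1)
    (s : B ⟶ X) (hs : s ≫ f = 𝟙 B)
    (LS : X.Modules) (hLS : PicF.IsInvertible LS) (hLSinv : ClSub.IsInverseOf LS (ClSub.idealMod s.ker))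
    (b₀ : B) (hb₀ : IsClosed ({b₀} : Set B)) (M : B.Modules) (hM : PicF.IsInvertible M)
    (hMinv : ClSub.IsInverseOf M (ClSub.idealMod (Scheme.IdealSheafData.vanishingIdeal ⟨{b₀}, hb₀⟩)))
    (LC : X.Modules) (hLC : PicF.IsInvertible LC)
    (hgen : ∃ U : B.Opens, (U : Set B).Nonempty ∧ ∀ b ∈ U, IsClosed ({b} : Set B) →
      Nonempty ((Scheme.Modules.pullback (f.fiberι b)).obj LC ≅ (Scheme.Modules.pullback (f.fiberι b)).obj LS)) :
    ∃ m : ℤ, 2 * m = FGA.intNum k X 2 ![LS, LS] (Coh.structureModule X) - FGA.intNum k X 2 ![LC, LC] (Coh.structureModule X) ∧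
      ∀ N : X.Modules, PicF.IsInvertible N →
        FGA.intNum k X 2 ![LS, N] (Coh.structureModule X) =
          FGA.intNum k X 2 ![LC, N] (Coh.structureModule X) +
            m * FGA.intNum k X 2 ![(Scheme.Modules.pullback f).obj M, N] (Coh.structureModule X) := by
  classical
  haveI : f.IsOver (Spec (CommRingCat.of k)) := ⟨hf⟩
  haveI := Groth.L21.RR.isNoetherian_of_proper (X := X) k
  haveI := Groth.L21.RR.isNoetherian_of_proper (X := B) k
  haveI : B.IsSeparated := ⟨by rw [← terminal.comp_from (B ↘ Spec (CommRingCat.of k))]; infer_instance⟩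
  haveI : IsProper f := by
    haveI : IsProper (f ≫ (B ↘ Spec (CommRingCat.of k))) := by rw [hf]; infer_instance
    exact IsProper.of_comp f (B ↘ Spec (CommRingCat.of k))
  haveI : Surjective f := ⟨fun y => ⟨s y, by rw [← Scheme.Hom.comp_apply, hs]; rfl⟩⟩
  have hd2 : topologicalKrullDim X = (2 : ℕ) := hX2.trans Nat.cast_ofNat.symm
  have hd := hd2.le
  have hreg := Groth.L03.SurfAdj.reg_of_smooth k (X := X)
  haveI : X.IsSeparated := ⟨by rw [← terminal.comp_from (X ↘ Spec (CommRingCat.of k))]; infer_instance⟩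
  haveI : JacobsonSpace B := LocallyOfFiniteType.jacobsonSpace (B ↘ Spec (CommRingCat.of k))
  have hcl : ∀ y : B, IsClosed ({y} : Set B) → IsClosedImmersion (f.fiberι y) := fun y hy => by
    haveI : IsClosedImmersion (B.fromSpecResidueField y) := isClosed_singleton_iff_isClosedImmersion.mp hy
    exact inferInstanceAs (IsClosedImmersion (pullback.fst f (B.fromSpecResidueField y)))
  have hF : ∀ y : B, IsClosed ({y} : Set B) → ∃ z : X, topologicalKrullDim (closure ({z} : Set X)) = (1 : ℕ) ∧
      (f.fiberι y).ker = pt z := fun y hy => by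
    obtain ⟨hi, hd1, -, -⟩ := hfib y hy
    haveI := hi; haveI := hcl y hy
    exact ⟨f.fiberι y (genericPoint (f.fiber y)), (dim_closure_image (f.fiberι y)).trans (hd1.trans Nat.cast_one.symm),
      (CurveDegree.invertible_ker k (f.fiberι y) hd2 hreg (hd1.trans Nat.cast_one.symm)).2⟩
  obtain ⟨hI, hIdeg⟩ := Groth.L03.SurfFib.deg_point (k := k) hB1 hb₀
  let P := (Scheme.Modules.pullback f).obj (ClSub.idealMod (B.fromSpecResidueField b₀).ker)
  have hP : PicF.IsInvertible P := Groth.L18.Ample.isInvertible_pullback f hI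
  -- the section meets a fibre once
  haveI : IsClosedImmersion s := by
    haveI : IsClosedImmersion (s ≫ f) := by rw [hs]; infer_instance
    exact IsClosedImmersion.of_comp s f
  have hsk : s ≫ (X ↘ Spec (CommRingCat.of k)) = B ↘ Spec (CommRingCat.of k) := by
    rw [← hf, ← Category.assoc, hs, Category.id_comp]
  have hB1' : topologicalKrullDim B = (1 : ℕ) := hB1.trans Nat.cast_one.symm
  obtain ⟨hIs, -⟩ := CurveDegree.invertible_ker k s hd2 hreg hB1'
  have hsP : ii k (ClSub.idealMod s.ker) P = 1 := by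
    have h := CurveDegree.deg_pullback k s hd2 hreg hB1' hP
    have hov : (⟨s ≫ (X ↘ (Spec (CommRingCat.of k)))⟩ : B.Over (Spec (CommRingCat.of k))) =
        ‹B.Over (Spec (CommRingCat.of k))› := by
      obtain ⟨g⟩ := ‹B.Over (Spec (CommRingCat.of k))›
      exact congrArg (fun z => (⟨z⟩ : B.Over (Spec (CommRingCat.of k)))) hsk
    rw [hov] at h
    let e : (Scheme.Modules.pullback s).obj P ≅ ClSub.idealMod (B.fromSpecResidueField b₀).ker :=
      (Scheme.Modules.pullbackComp s f).app _ ≪≫ (Scheme.Modules.pullbackCongr hs).app _ ≪≫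
        (Scheme.Modules.pullbackId B).app _
    have he : Curv2.deg k B ((Scheme.Modules.pullback s).obj P) 1 =
        Curv2.deg k B (ClSub.idealMod (B.fromSpecResidueField b₀).ker) 1 := by
      rw [Curv2.deg, Curv2.deg, Groth.L03.Euler.euler_iso e]
    rw [he, hIdeg] at h
    push_cast at h
    linarith
  obtain ⟨eS⟩ := hLSinv
  have hLSP : ∀ Z : X.Modules, PicF.IsInvertible Z → ii k LS Z = - ii k (ClSub.idealMod s.ker) Z := fun Z hZ =>
    Gram.ii_inverse k hd hIs hLS hZ (tensorComm _ _ ≪≫ eS)
  -- the difference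
  obtain ⟨LC', hLC', ⟨eC⟩⟩ := Groth.L08.Cube.exists_inverse hLC
  let D := CohB1.tensorMod LS LC'
  have hD : PicF.IsInvertible D := Groth.L18.GenLoc.isInvertible_tensor hLS hLC'
  have hDii : ∀ Z : X.Modules, PicF.IsInvertible Z → ii k D Z = ii k LS Z - ii k LC Z := fun Z hZ => by
    rw [ii_tensor k hd hLS hLC' hZ, Gram.ii_inverse k hd hLC hLC' hZ eC]
    ring
  obtain ⟨U, hUne, hU⟩ := hgen
  have htriv : ∀ y ∈ U, IsClosed ({y} : Set B) →
      Nonempty ((Scheme.Modules.pullback (f.fiberι y)).obj D ≅ Coh.structureModule (f.fiber y)) := fun y hy hyc => by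
    obtain ⟨e⟩ := hU y hy hyc
    exact ⟨(Groth.L29.DC.PullTensor.pullTensor (f.fiberι y) LS LC').symm ≪≫ tensorIso e.symm (Iso.refl _) ≪≫
      Groth.L29.DC.PullTensor.pullTensor (f.fiberι y) LC LC' ≪≫ (Scheme.Modules.pullback (f.fiberι y)).mapIso eC ≪≫
      Groth.L29.LocFree.pullbackUnitIso _⟩
  obtain ⟨u, huU, huc⟩ := nonempty_inter_closedPoints hUne U.2.isLocallyClosed
  rw [mem_closedPoints_iff] at huc
  have hDP : ii k D P = 0 := by
    obtain ⟨hi, hd1, -, -⟩ := hfib u huc
    haveI := hi; haveI := hcl u huc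
    obtain ⟨hIu, hIuB, -, ⟨α⟩⟩ := Groth.L03.SurfNum.fibre_ideal k hB1 f huc
    have h := CurveDegree.deg_pullback k (f.fiberι u) hd2 hreg (hd1.trans Nat.cast_one.symm) hD
    letI : (f.fiber u).Over (Spec (CommRingCat.of k)) := ⟨f.fiberι u ≫ (X ↘ (Spec (CommRingCat.of k)))⟩
    obtain ⟨e⟩ := htriv u huU huc
    have h0 : Curv2.deg k (f.fiber u) ((Scheme.Modules.pullback (f.fiberι u)).obj D) 1 = 0 := by
      rw [Curv2.deg, Groth.L03.Euler.euler_iso e]; simp
    rw [h0, ← ii_congr k α, Groth.L03.SurfFib.ii_pullback_base hd2 hB1 f hb₀ hIuB hD,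
      (Groth.L03.SurfFib.deg_point (k := k) hB1 huc).2] at h
    rw [ii_comm]
    push_cast at h
    linarith
  have hDF : ∀ y : B, IsClosed ({y} : Set B) → ii k D (ClSub.idealMod (f.fiberι y).ker) = 0 := fun y hy => by
    obtain ⟨-, hIyB, -, ⟨α⟩⟩ := Groth.L03.SurfNum.fibre_ideal k hB1 f hy
    rw [ii_comm, ← ii_congr k α, Groth.L03.SurfFib.ii_pullback_base hd2 hB1 f hb₀ hIyB hD, ii_comm, hDP, mul_zero]
  obtain ⟨A, hA, hsec⟩ := Groth.L03.SurfFib.exists_twist_section (k := k) hB1 f U hUne hD fun y hy hyc =>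
    Groth.L03.SurfFib.fiberRank_eq_one (k := k) f hyc (hfib y hyc).1 (htriv y hy hyc)
  have hfA := Groth.L18.Ample.isInvertible_pullback f hA
  have hE := Groth.L18.GenLoc.isInvertible_tensor hD hfA
  obtain ⟨c, hc⟩ := Groth.L03.SurfFib.ii_eq_of_vertical hd2 hB1 f hb₀ hF hE hsec fun y hy => by
    obtain ⟨hIy, -, hsupp, -⟩ := Groth.L03.SurfNum.fibre_ideal k hB1 f hy
    obtain ⟨z, hz, hzp⟩ := hF y hy
    haveI : IsIntegral (f.fiberι y).ker.subscheme := by rw [hzp]; exact isIntegral_pt z
    have hdI : topologicalKrullDim ((f.fiberι y).ker.support : Set X) = 1 := by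
      rw [hzp, Groth.L18.support_vanishingIdeal]; exact hz.trans Nat.cast_one
    rw [ii_tensor k hd hD hfA hIy, hDF y hy, zero_add]
    exact Groth.L03.SurfAdj.ii_pullback_vertical k f hA _ hdI hIy (c := y) fun x hx => hsupp.le hx
  set m : ℤ := (c : ℤ) - Curv2.deg k B A 1
  have hnum : ∀ Z : X.Modules, PicF.IsInvertible Z → ii k D Z = -(m : ℚ) * ii k P Z := fun Z hZ => by
    have h := hc Z hZ
    rw [ii_tensor k hd hD hfA hZ, Groth.L03.SurfFib.ii_pullback_base hd2 hB1 f hb₀ hA hZ] at h
    simp only [m]; push_cast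
    linarith
  have hMdeg : Curv2.deg k B M 1 = 1 := by
    haveI : IsClosedImmersion (B.fromSpecResidueField b₀) := isClosed_singleton_iff_isClosedImmersion.mp hb₀
    have hker : (B.fromSpecResidueField b₀).ker = Scheme.IdealSheafData.vanishingIdeal ⟨{b₀}, hb₀⟩ := by
      rw [Groth.L23.SchKer.ker_eq_vanishingIdeal]
      congr 1
      refine TopologicalSpace.Closeds.ext ?_
      show closure (Set.range (B.fromSpecResidueField b₀)) = {b₀}
      rw [Scheme.range_fromSpecResidueField, hb₀.closure_eq]
    rw [← hker] at hMinv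
    obtain ⟨e⟩ := hMinv
    have h := Groth.L21.Duality.deg_tensor (k := k) hB1 hI hM
    rw [hIdeg, Curv2.deg, Groth.L03.Euler.euler_iso (tensorComm _ _ ≪≫ e)] at h
    push_cast at h
    linarith
  have hΦS : ii k P LS = -1 := by rw [ii_comm, hLSP P hP, hsP]
  have hΦC : ii k P LC = -1 := by
    have h := hDii P hP
    rw [hDP, ii_comm k LC, ii_comm k LS, hΦS] at h
    linarith
  refine ⟨m, ?_, fun Z hZ => ?_⟩
  · have h1 := hnum LS hLS
    have h2 := hnum LC hLC
    rw [hDii LS hLS, hΦS] at h1
    rw [hDii LC hLC, hΦC, ii_comm k LS LC] at h2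
    have h3 : (((2 * m : ℤ)) : ℚ) = ((FGA.intNum k X 2 ![LS, LS] (Coh.structureModule X) -
        FGA.intNum k X 2 ![LC, LC] (Coh.structureModule X) : ℤ) : ℚ) := by
      push_cast
      rw [intNum_eq_ii k hd, intNum_eq_ii k hd]
      linarith
    exact_mod_cast h3
  · have h1 := hnum Z hZ
    rw [hDii Z hZ] at h1
    have h3 : ((FGA.intNum k X 2 ![LS, Z] (Coh.structureModule X) : ℤ) : ℚ) =
        ((FGA.intNum k X 2 ![LC, Z] (Coh.structureModule X) +
          m * FGA.intNum k X 2 ![(Scheme.Modules.pullback f).obj M, Z] (Coh.structureModule X) : ℤ) : ℚ) := by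
      push_cast
      rw [intNum_eq_ii k hd, intNum_eq_ii k hd, intNum_eq_ii k hd,
        Groth.L03.SurfFib.ii_pullback_base hd2 hB1 f hb₀ hM hZ, hMdeg]
      push_cast
      linarith
    exact_mod_cast h3

end Groth.Agent.S19175
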