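import Groth.Statements.S19177
import Mathlib.RingTheory.Spectrum.Prime.FreeLocus
import Mathlib.RingTheory.Nakayama
import Mathlib.Algebra.Module.Projective
import Mathlib.RingTheory.Ideal.Maps

set_option autoImplicit false
universe u
open CAlg

namespace Groth.Agent.S19177

/-- Let S → R be a homomorphism of commutative rings making R a finitely generated projective S-module
of rank 2 at every prime of S (the affine form of a finite locally free morphism of degree 2). Then
the cokernel of the (injective) structure map S → R, the S-module R/S, is a projective S-module of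
rank 1 at every prime of S (locally free of rank 1). -/
theorem result
    (S R : Type u) [CommRing S] [CommRing R] [Algebra S R] [Module.Finite S R] [Module.Projective S R]
    (h2 : ∀ p : PrimeSpectrum S, Module.rankAtStalk (R := S) R p = 2) :
    Module.Projective S (R ⧸ LinearMap.range (Algebra.linearMap S R)) ∧
      ∀ p : PrimeSpectrum S,
        Module.rankAtStalk (R := S) (R ⧸ LinearMap.range (Algebra.linearMap S R)) p = 1 := by
  classical
  -- a retraction of the structure map
  obtain ⟨n, f, g, hf, -, hfg⟩ := Module.Finite.exists_comp_eq_id_of_projective S R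
  let J : Ideal S := Ideal.span (Set.range fun i => g 1 i)
  have hJ : J = ⊤ := by
    by_contra hne
    obtain ⟨m, hm, hle⟩ := Ideal.exists_le_maximal J hne
    haveI := hm
    have h1 : (1 : R) ∈ m • (⊤ : Submodule S R) := by
      rw [show (1 : R) = f (g 1) from (LinearMap.congr_fun hfg 1).symm, ← (Pi.basisFun S (Fin n)).sum_repr (g 1), map_sum]
      refine Submodule.sum_mem _ fun i _ => ?_
      rw [map_smul]
      exact Submodule.smul_mem_smul (hle (Ideal.subset_span ⟨i, by simp⟩)) Submodule.mem_top
    have htop : m • (⊤ : Submodule S R) = ⊤ := by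
      rw [Ideal.smul_top_eq_map] at h1 ⊢
      rw [(Ideal.eq_top_iff_one _).mpr (show (1 : R) ∈ m.map (algebraMap S R) from h1)]
      rfl
    obtain ⟨r, hr, hrR⟩ := Submodule.exists_sub_one_mem_and_smul_eq_zero_of_fg_of_le_smul m (⊤ : Submodule S R) Module.Finite.fg_top htop.ge
    have hsupp : (⟨m, hm.isPrime⟩ : PrimeSpectrum S) ∈ Module.support S R :=
      (Module.rankAtStalk_pos_iff_mem_support _).mp (by rw [h2]; norm_num)
    obtain ⟨x, hx⟩ := Module.mem_support_iff'.mp hsupp
    refine hx r (fun hrm => hm.ne_top ((Ideal.eq_top_iff_one _).mpr ?_)) (hrR x Submodule.mem_top)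
    simpa using m.sub_mem hrm hr
  obtain ⟨c, hc⟩ := Ideal.mem_span_range_iff_exists_fun.mp (hJ ▸ Submodule.mem_top : (1 : S) ∈ J)
  let ρ : R →ₗ[S] S := (Fintype.linearCombination S c) ∘ₗ g
  have hρ : ρ ∘ₗ Algebra.linearMap S R = LinearMap.id := by
    refine LinearMap.ext_ring ?_
    simp only [ρ, LinearMap.comp_apply, Algebra.linearMap_apply, map_one, LinearMap.id_apply, Fintype.linearCombination_apply]
    rw [← hc]
    exact Finset.sum_congr rfl fun i _ => by rw [smul_eq_mul, mul_comm]
  have hker : IsCompl (LinearMap.range (Algebra.linearMap S R)) (LinearMap.ker ρ) := by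
    refine ⟨Submodule.disjoint_def.mpr fun x hx hx' => ?_, codisjoint_iff.mpr (eq_top_iff.mpr fun x _ => ?_)⟩
    · obtain ⟨s, rfl⟩ := hx
      have := LinearMap.congr_fun hρ s
      rw [LinearMap.comp_apply, LinearMap.mem_ker.mp hx'] at this
      simp at this
      simp [← this]
    · refine Submodule.mem_sup.mpr ⟨Algebra.linearMap S R (ρ x), ⟨_, rfl⟩, x - Algebra.linearMap S R (ρ x), ?_, by abel⟩
      rw [LinearMap.mem_ker, map_sub, ← LinearMap.comp_apply ρ, hρ, LinearMap.id_apply, sub_self]
  let e : (R ⧸ LinearMap.range (Algebra.linearMap S R)) ≃ₗ[S] LinearMap.ker ρ := Submodule.quotientEquivOfIsCompl _ _ hker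
  have hinj : Function.Injective (Algebra.linearMap S R) := Function.LeftInverse.injective (g := ρ) fun x => LinearMap.congr_fun hρ x
  let eR : (S × LinearMap.ker ρ) ≃ₗ[S] R :=
    ((LinearEquiv.ofInjective _ hinj).prodCongr (LinearEquiv.refl S _)).trans (Submodule.prodEquivOfIsCompl _ _ hker)
  haveI : Module.Projective S (LinearMap.ker ρ) :=
    Module.Projective.of_split (eR.toLinearMap ∘ₗ LinearMap.inr S S _) (LinearMap.snd S S _ ∘ₗ eR.symm.toLinearMap)
      (by ext x; simp)
  haveI : Module.Finite S (LinearMap.ker ρ) := Module.Finite.of_surjective (LinearMap.snd S S _ ∘ₗ eR.symm.toLinearMap)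
    (Prod.snd_surjective.comp eR.symm.surjective)
  refine ⟨Module.Projective.of_equiv e.symm, fun p => ?_⟩
  haveI : Nontrivial S := p.nontrivial
  have h := congrFun (Module.rankAtStalk_prod (R := S) S (LinearMap.ker ρ)) p
  rw [Module.rankAtStalk_eq_of_equiv eR, h2, Pi.add_apply, Module.rankAtStalk_self, Pi.one_apply, ← Module.rankAtStalk_eq_of_equiv e] at h
  omega

end Groth.Agent.S19177
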