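import Groth.Statements.S19178
import Groth.Agent.L21.Quadratic
import Mathlib.Algebra.MvPolynomial.Equiv
import Mathlib.Algebra.MvPolynomial.Division
import Mathlib.RingTheory.Polynomial.Basic
import Mathlib.Tactic.LinearCombination

set_option autoImplicit false
universe u
open Curves

namespace Groth.Agent.S19178

/-- For every field k and every choice of coefficients a₁, a₂, a₃, a₄, a₆ in k, the homogeneous
Weierstrass cubic Y²Z + a₁XYZ + a₃YZ² − (X³ + a₂X²Z + a₄XZ² + a₆Z³) is an irreducible polynomial in
k[X, Y, Z]. Applied to all fields, this says every fibre of the Weierstrass family over the affine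
space of coefficients is geometrically integral. -/
theorem result (k : Type u) [Field k]
    (W : WeierstrassCurve k) :
    Irreducible (WeierstrassCurve.Projective.polynomial W) := by
  let e : MvPolynomial (Fin 3) k ≃ₐ[k] Polynomial (MvPolynomial (Fin 2) k) :=
    (MvPolynomial.renameEquiv k (Equiv.swap (0 : Fin 3) 1)).trans (MvPolynomial.finSuccEquiv k 2)
  have eX : e (MvPolynomial.X 0) = Polynomial.C (MvPolynomial.X 0) := by
    simp only [e, AlgEquiv.trans_apply, MvPolynomial.renameEquiv_apply, MvPolynomial.rename_X,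
      Equiv.swap_apply_left]
    exact MvPolynomial.finSuccEquiv_X_succ (j := 0)
  have eY : e (MvPolynomial.X 1) = Polynomial.X := by
    simp [e, MvPolynomial.finSuccEquiv_X_zero]
  have eZ : e (MvPolynomial.X 2) = Polynomial.C (MvPolynomial.X 1) := by
    simp only [e, AlgEquiv.trans_apply, MvPolynomial.renameEquiv_apply, MvPolynomial.rename_X]
    rw [Equiv.swap_apply_of_ne_of_ne (by decide) (by decide)]
    exact MvPolynomial.finSuccEquiv_X_succ (j := 1)
  have eC : ∀ a : k, e (MvPolynomial.C a) = Polynomial.C (MvPolynomial.C a) := fun a => by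
    rw [← MvPolynomial.algebraMap_eq, AlgEquiv.commutes]; rfl
  rw [← MulEquiv.irreducible_iff e]
  have himg : e (WeierstrassCurve.Projective.polynomial W) =
      Polynomial.C (MvPolynomial.X 1) * Polynomial.X ^ 2 +
        Polynomial.C (MvPolynomial.C W.a₁ * MvPolynomial.X 0 * MvPolynomial.X 1 +
          MvPolynomial.C W.a₃ * MvPolynomial.X 1 ^ 2) * Polynomial.X +
        Polynomial.C (-(MvPolynomial.X 0 ^ 3 + MvPolynomial.C W.a₂ * MvPolynomial.X 0 ^ 2 * MvPolynomial.X 1 +
          MvPolynomial.C W.a₄ * MvPolynomial.X 0 * MvPolynomial.X 1 ^ 2 +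
          MvPolynomial.C W.a₆ * MvPolynomial.X 1 ^ 3)) := by
    simp only [WeierstrassCurve.Projective.polynomial, map_add, map_sub, map_mul, map_pow, map_neg,
      eX, eY, eZ, eC]
    ring
  rw [himg]
  refine Groth.L21.irreducible_quadratic_of_prime _ _ _ (MvPolynomial.X_prime (i := 1))
    ⟨MvPolynomial.C W.a₁ * MvPolynomial.X 0 + MvPolynomial.C W.a₃ * MvPolynomial.X 1, by ring⟩ ?_
  intro h
  have := map_dvd (MvPolynomial.eval ![(1 : k), 0]) h
  simp at this

end Groth.Agent.S19178
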