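import Groth.Statements.S19181
import Mathlib.RingTheory.Ideal.Span
import Mathlib.Algebra.MvPolynomial.Division
import Mathlib.Algebra.MvPolynomial.CommRing
import Mathlib.Algebra.MvPolynomial.Eval
import Mathlib.Algebra.MvPolynomial.Equiv
import Mathlib.RingTheory.Polynomial.Nilpotent
import Mathlib.Tactic.Ring
import Mathlib.Tactic.LinearCombination

set_option autoImplicit false
universe u
open CAlg

namespace Groth.Agent.S19181

open MvPolynomial in
/-- Let R be a commutative ring, a₁, a₂ ∈ R, and C ⊂ A²_R the curve y² + a₁xy = x³ + a₂x², blown up at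
the section x = y = 0. In the chart where x = yα (variables y = X 0, α = X 1) the equation of C
becomes y²·g₁ with g₁ = 1 + a₁α − yα³ − a₂α², and the y-saturation of the ideal (y²g₁) is (g₁): for
s ∈ R[y, α], some yⁿs lies in (y²g₁) if and only if s ∈ (g₁). In the chart where y = xβ (variables x
= X 0, β = X 1) the equation becomes x²·g₂ with g₂ = β² + a₁β − x − a₂, and some xⁿs lies in (x²g₂)
if and only if s ∈ (g₂). In other words the strict transform of C is cut out by g₁, resp. g₂, in the
two charts. -/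
theorem result (R : Type u) [CommRing R] (a₁ a₂ : R) :
    (∀ s : MvPolynomial (Fin 2) R,
      (∃ n : ℕ, X 0 ^ n * s ∈ Ideal.span ({X 0 ^ 2 * (1 + C a₁ * X 1 - X 0 * X 1 ^ 3 - C a₂ * X 1 ^ 2)} :
        Set (MvPolynomial (Fin 2) R))) ↔
      s ∈ Ideal.span ({1 + C a₁ * X 1 - X 0 * X 1 ^ 3 - C a₂ * X 1 ^ 2} : Set (MvPolynomial (Fin 2) R))) ∧
    (∀ s : MvPolynomial (Fin 2) R,
      (∃ n : ℕ, X 0 ^ n * s ∈ Ideal.span ({X 0 ^ 2 * (X 1 ^ 2 + C a₁ * X 1 - X 0 - C a₂)} :
        Set (MvPolynomial (Fin 2) R))) ↔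
      s ∈ Ideal.span ({X 1 ^ 2 + C a₁ * X 1 - X 0 - C a₂} : Set (MvPolynomial (Fin 2) R))) := by
  -- the general saturation criterion
  have hsub : ∀ p : MvPolynomial (Fin 2) R, p - rename (fun _ : Fin 1 => (1 : Fin 2)) (aeval ![(0 : MvPolynomial (Fin 1) R), X 0] p) ∈ Ideal.span {(X 0 : MvPolynomial (Fin 2) R)} := by
    intro p
    induction p using MvPolynomial.induction_on with
    | C a => simp
    | add a b ha hb =>
      rw [map_add, map_add, add_sub_add_comm]
      exact Ideal.add_mem _ ha hb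
    | mul_X a i ha =>
      fin_cases i
      · simp only [map_mul, aeval_X]
        simpa using Ideal.mem_span_singleton.mpr (dvd_mul_left (X 0 : MvPolynomial (Fin 2) R) a)
      · simp only [map_mul, aeval_X]
        have := Ideal.mul_mem_right (X 1) _ ha
        simpa [sub_mul] using this
  have hreg : ∀ p : MvPolynomial (Fin 2) R, X 0 * p = 0 → p = 0 := fun p hp => (isRegular_X (n := (0 : Fin 2))).left (by simpa using hp)
  have gen : ∀ g : MvPolynomial (Fin 2) R,
      (∀ q : MvPolynomial (Fin 1) R, aeval ![(0 : MvPolynomial (Fin 1) R), X 0] g * q = 0 → q = 0) →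
      ∀ s, (∃ n : ℕ, X 0 ^ n * s ∈ Ideal.span {X 0 ^ 2 * g}) ↔ s ∈ Ideal.span {g} := by
    intro g hg s
    simp only [Ideal.mem_span_singleton]
    refine ⟨?_, fun h => ⟨2, mul_dvd_mul_left _ h⟩⟩
    rintro ⟨n, hn⟩
    replace hn : g ∣ X 0 ^ n * s := (dvd_mul_left g _).trans hn
    induction n with
    | zero => simpa using hn
    | succ n ih =>
      apply ih
      obtain ⟨u, hu⟩ := hn
      have h0 := congrArg (aeval ![(0 : MvPolynomial (Fin 1) R), X 0]) hu
      simp only [map_mul, map_pow, aeval_X, Matrix.cons_val_zero, zero_pow (Nat.succ_ne_zero n), zero_mul] at h0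
      have hu0 := hg _ h0.symm
      have := hsub u
      rw [hu0, map_zero, sub_zero, Ideal.mem_span_singleton] at this
      obtain ⟨w, rfl⟩ := this
      refine ⟨w, sub_eq_zero.mp (hreg _ ?_)⟩
      linear_combination hu
  have hcoef : ∀ (h : MvPolynomial (Fin 1) R) (d : ℕ), (finSuccEquiv R 0 h).coeff d = 1 →
      ∀ q, h * q = 0 → q = 0 := fun h d hc q hq => by
    have hm : finSuccEquiv R 0 h ∈ nonZeroDivisors _ := by
      by_contra hcon
      obtain ⟨a, ha, ha0⟩ := Polynomial.notMem_nonZeroDivisors_iff.mp hcon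
      have := congrArg (Polynomial.coeff · d) ha0
      rw [Polynomial.coeff_smul, hc, Polynomial.coeff_zero, smul_eq_mul, mul_one] at this
      exact ha this
    have h2 := congrArg (finSuccEquiv R 0) hq
    rw [map_mul, map_zero, mul_comm] at h2
    exact (finSuccEquiv R 0).injective (by rw [map_zero]; exact mul_right_mem_nonZeroDivisors_eq_zero_iff hm |>.mp h2)
  have hC : ∀ a : R, finSuccEquiv R 0 (C a) = Polynomial.C (C a) := fun a => by simp [finSuccEquiv_apply]
  refine ⟨gen _ fun q hq => hcoef _ 0 ?_ q hq, gen _ fun q hq => hcoef _ 2 ?_ q hq⟩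
  all_goals
    simp only [map_sub, map_add, map_mul, map_pow, map_one, aeval_X, aeval_C, Matrix.cons_val_zero, Matrix.cons_val_one,
      MvPolynomial.algebraMap_eq, finSuccEquiv_X_zero, hC, map_zero, zero_mul, sub_zero]
    simp [Polynomial.coeff_one, Polynomial.coeff_X, Polynomial.coeff_C]

end Groth.Agent.S19181
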