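import Groth.Statements.S19182
import Mathlib.RingTheory.Smooth.Basic
import Mathlib.RingTheory.Smooth.Kaehler
import Mathlib.RingTheory.Kaehler.Polynomial
import Mathlib.RingTheory.FinitePresentation
import Mathlib.Tactic.LinearCombination

set_option autoImplicit false
universe u
open CAlg

namespace Groth.Agent.S19182

open MvPolynomial in
variable {_unused : Unit}
open MvPolynomial KaehlerDifferential
/-- A hypersurface whose partial derivative in the variable `0` is invertible on it is smooth. -/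
lemma smooth_of_pderiv {R : Type u} [CommRing R] (g w : MvPolynomial (Fin 2) R)
    (hw : Ideal.Quotient.mk (Ideal.span {g}) (w * pderiv 0 g) = 1) :
    Algebra.Smooth R (MvPolynomial (Fin 2) R ⧸ Ideal.span {g}) := by
  refine ⟨?_, Algebra.FinitePresentation.quotient (Submodule.fg_span (Set.finite_singleton g))⟩
  rw [Algebra.FormallySmooth.iff_split_injection (P := MvPolynomial (Fin 2) R) Ideal.Quotient.mk_surjective]
  set J := RingHom.ker (algebraMap (MvPolynomial (Fin 2) R) ((MvPolynomial (Fin 2) R) ⧸ (Ideal.span {g})))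
  have hJ : J = (Ideal.span {g}) := Ideal.mk_ker
  let g' : J := ⟨g, hJ ▸ Ideal.mem_span_singleton_self g⟩
  let φ : Ω[MvPolynomial (Fin 2) R⁄R] →ₗ[(MvPolynomial (Fin 2) R)] (MvPolynomial (Fin 2) R) ⧸ (Ideal.span {g}) :=
    (Algebra.linearMap (MvPolynomial (Fin 2) R) ((MvPolynomial (Fin 2) R) ⧸ (Ideal.span {g}))).comp (w • (mvPolynomialBasis R (Fin 2)).coord 0)
  let ξ : ((MvPolynomial (Fin 2) R) ⧸ (Ideal.span {g})) →ₗ[(MvPolynomial (Fin 2) R)] J.Cotangent := (Ideal.span {g}).liftQ (LinearMap.toSpanSingleton (MvPolynomial (Fin 2) R) _ (J.toCotangent g')) (fun i hi => by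
    rw [LinearMap.mem_ker, LinearMap.toSpanSingleton_apply, ← map_smul, Ideal.toCotangent_eq_zero, sq]
    exact Ideal.mul_mem_mul (hJ ▸ hi) g'.2)
  refine ⟨ξ ∘ₗ TensorProduct.lift ((LinearMap.mul (MvPolynomial (Fin 2) R) ((MvPolynomial (Fin 2) R) ⧸ (Ideal.span {g}))).compl₂ φ), LinearMap.ext fun x => ?_⟩
  obtain ⟨⟨x, hx⟩, rfl⟩ := J.toCotangent_surjective x
  obtain ⟨c, rfl⟩ := Ideal.mem_span_singleton'.mp (hJ ▸ hx)
  have hφ : φ (D R (MvPolynomial (Fin 2) R) (c * g)) = Ideal.Quotient.mk (Ideal.span {g}) c := by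
    show Ideal.Quotient.mk (Ideal.span {g}) (w * (mvPolynomialBasis R (Fin 2)).repr (D R (MvPolynomial (Fin 2) R) (c * g)) 0) = _
    rw [mvPolynomialBasis_repr_apply, pderiv_mul, mul_add, map_add, mul_left_comm, map_mul,
      mul_left_comm w c, map_mul _ c, hw, mul_one]
    simp [Ideal.Quotient.eq_zero_iff_mem.mpr (Ideal.mem_span_singleton_self g : g ∈ (Ideal.span {g}))]
  rw [LinearMap.comp_apply, LinearMap.comp_apply, kerCotangentToTensor_toCotangent, TensorProduct.lift.tmul,
    LinearMap.compl₂_apply, LinearMap.mul_apply', one_mul, hφ, LinearMap.id_apply]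
  show c • J.toCotangent g' = _
  rw [← map_smul]
  rfl


/-- Let R be a commutative ring and a₁, a₂ ∈ R. The two affine charts of the blow-up of the plane curve
y² + a₁xy = x³ + a₂x² at the section x = y = 0, with coordinate rings R[y, α]/(1 + a₁α − yα³ − a₂α²)
and R[x, β]/(β² + a₁β − x − a₂) (variables indexed 0 and 1 in this order), are smooth R-algebras
(formally smooth of finite presentation). This is the local computation behind the statement that
the blow-up of a Weierstrass curve along a section through its singular locus is a smooth proper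
curve of genus 0. -/
theorem result (R : Type u) [CommRing R] (a₁ a₂ : R) :
    Algebra.Smooth R (MvPolynomial (Fin 2) R ⧸
      Ideal.span ({1 + C a₁ * X 1 - X 0 * X 1 ^ 3 - C a₂ * X 1 ^ 2} : Set (MvPolynomial (Fin 2) R))) ∧
    Algebra.Smooth R (MvPolynomial (Fin 2) R ⧸
      Ideal.span ({X 1 ^ 2 + C a₁ * X 1 - X 0 - C a₂} : Set (MvPolynomial (Fin 2) R))) := by
  refine ⟨smooth_of_pderiv _ (-(X 0 * X 1 ^ 2 + C a₂ * X 1 - C a₁) ^ 3) ?_, smooth_of_pderiv _ (-1) ?_⟩
  · rw [← map_one (Ideal.Quotient.mk _), Ideal.Quotient.mk_eq_mk_iff_sub_mem, Ideal.mem_span_singleton]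
    simp only [map_sub, map_add, Derivation.map_one_eq_zero, pderiv_C_mul, pderiv_pow, pderiv_mul, pderiv_X_self,
      pderiv_X_of_ne (show (1 : Fin 2) ≠ 0 by decide), pderiv_one]
    refine ⟨-(1 + (X 1 * (X 0 * X 1 ^ 2 + C a₂ * X 1 - C a₁)) + (X 1 * (X 0 * X 1 ^ 2 + C a₂ * X 1 - C a₁)) ^ 2), ?_⟩
    simp
    ring
  · simp [pderiv_X_of_ne (show (1 : Fin 2) ≠ 0 by decide)]

end Groth.Agent.S19182
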