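import Groth.Statements.S19183
import Mathlib.RingTheory.Ideal.Span
import Mathlib.LinearAlgebra.Dimension.StrongRankCondition
import Mathlib.LinearAlgebra.Dimension.Constructions
import Mathlib.LinearAlgebra.Dimension.Finrank
import Mathlib.LinearAlgebra.FreeModule.StrongRankCondition

set_option autoImplicit false
universe u
open CAlg

namespace Groth.Agent.S19183

/-- Let A be a non-zero commutative ring and f ∈ A a non-zero-divisor. The fibre product A ×_{A/(f)} A
of two copies of A over A/(f) — the A-submodule of A × A of pairs (x, y) with x − y ∈ (f), which is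
the coordinate ring of two copies of Spec A glued along the Cartier divisor f = 0 — is a free
A-module of rank 2. (This is what makes the gluing of two copies of a curve along an effective
Cartier divisor finite locally free of degree 2 over the curve.) -/
theorem result (A : Type u) [CommRing A] [Nontrivial A]
    (f : A) (hf : f ∈ nonZeroDivisors A) :
    Module.Free A (Submodule.comap (LinearMap.fst A A A - LinearMap.snd A A A) (Ideal.span ({f} : Set A))) ∧
      Module.finrank A (Submodule.comap (LinearMap.fst A A A - LinearMap.snd A A A) (Ideal.span ({f} : Set A))) = 2 := by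
  let L : A × A →ₗ[A] A × A := (LinearMap.fst A A A + f • LinearMap.snd A A A).prod (LinearMap.fst A A A)
  have hmem : ∀ z, L z ∈ Submodule.comap (LinearMap.fst A A A - LinearMap.snd A A A) (Ideal.span ({f} : Set A)) := by
    intro z
    show z.1 + f * z.2 - z.1 ∈ Ideal.span ({f} : Set A)
    rw [add_sub_cancel_left, Ideal.mem_span_singleton]
    exact dvd_mul_right _ _
  let e := L.codRestrict _ hmem
  have hbij : Function.Bijective e := by
    constructor
    · intro a b hab
      have h := congrArg Subtype.val hab
      have h2 : a.1 = b.1 := congrArg Prod.snd h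
      have h1 : a.1 + f * a.2 = b.1 + f * b.2 := congrArg Prod.fst h
      rw [h2] at h1
      exact Prod.ext h2 ((mul_cancel_left_mem_nonZeroDivisors hf).mp (add_left_cancel h1))
    · rintro ⟨⟨x, y⟩, hxy⟩
      obtain ⟨c, hc⟩ := Ideal.mem_span_singleton.mp (hxy : x - y ∈ Ideal.span ({f} : Set A))
      exact ⟨(y, c), Subtype.ext (Prod.ext (show y + f * c = x by rw [← (show x - y = f * c from hc), add_sub_cancel]) rfl)⟩
  let E := LinearEquiv.ofBijective e hbij
  refine ⟨Module.Free.of_equiv E, ?_⟩
  rw [← E.finrank_eq, Module.finrank_prod, Module.finrank_self]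

end Groth.Agent.S19183
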