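import Groth.Statements.S19184
import Mathlib.Algebra.Polynomial.Div
import Mathlib.RingTheory.IntegralClosure.IsIntegralClosure.Basic
import Mathlib.RingTheory.Adjoin.Polynomial.Basic
import Mathlib.LinearAlgebra.FreeModule.Basic
import Mathlib.RingTheory.Ideal.Quotient.Operations

set_option autoImplicit false
universe u
open CAlg

namespace Groth.Agent.S19184

open Polynomial in
/-- Let S be a commutative ring, a, b ∈ S, f = x² + ax + b ∈ S[x] and R = S[x]/(f), a free S-algebra of
rank 2. Let A ⊂ S[x] be the S-subalgebra of polynomials whose class in R lies in the image of S → R;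
it is the fibre product S[x] ×_R S, the coordinate ring of the affine line over S with the degree-2
subscheme Spec R collapsed onto Spec S. Then A is a free S-module and S[x] is a finitely generated
A-module. -/
theorem result (S : Type u) [CommRing S] (a b : S) :
    Module.Free S ((⊥ : Subalgebra S (S[X] ⧸ Ideal.span ({X ^ 2 + C a * X + C b} : Set S[X]))).comap
        (Ideal.Quotient.mkₐ S (Ideal.span ({X ^ 2 + C a * X + C b} : Set S[X])))) ∧
      Module.Finite ((⊥ : Subalgebra S (S[X] ⧸ Ideal.span ({X ^ 2 + C a * X + C b} : Set S[X]))).comap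
        (Ideal.Quotient.mkₐ S (Ideal.span ({X ^ 2 + C a * X + C b} : Set S[X])))) S[X] := by
  classical
  set f : S[X] := X ^ 2 + C a * X + C b
  set A := (⊥ : Subalgebra S (S[X] ⧸ Ideal.span ({f} : Set S[X]))).comap (Ideal.Quotient.mkₐ S (Ideal.span ({f} : Set S[X])))
  rcases subsingleton_or_nontrivial S with hS | hS
  · haveI : Subsingleton A := Subtype.val_injective.subsingleton
    exact ⟨Module.Free.of_subsingleton S A, inferInstance⟩
  have hfm : f.Monic := by simp only [f]; monicity!
  have hfd : f.natDegree = 2 := by simp only [f]; compute_degree!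
  have hmem : ∀ p : S[X], p ∈ A ↔ ∃ (s : S) (q : S[X]), p = C s + f * q := by
    intro p
    rw [Subalgebra.mem_comap, Algebra.mem_bot]
    constructor
    · rintro ⟨s, hs⟩
      obtain ⟨q, hq⟩ := Ideal.mem_span_singleton.mp (Ideal.Quotient.eq.mp (hs.symm : Ideal.Quotient.mk _ p = Ideal.Quotient.mk _ (C s)))
      exact ⟨s, q, by rw [← hq, algebraMap_eq]; ring⟩
    · rintro ⟨s, q, rfl⟩
      exact ⟨s, (Ideal.Quotient.eq.mpr (Ideal.mem_span_singleton.mpr ⟨q, by ring⟩) : Ideal.Quotient.mk _ (C s + f * q) = Ideal.Quotient.mk _ (C s)).symm⟩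
  let L : S × S[X] →ₗ[S] A :=
    ((Algebra.linearMap S S[X] ∘ₗ LinearMap.fst S S S[X]) + (LinearMap.mulLeft S f ∘ₗ LinearMap.snd S S S[X])).codRestrict
      (Subalgebra.toSubmodule A) fun x => (hmem _).mpr ⟨x.1, x.2, by simp⟩
  have hLval : ∀ x, (L x : S[X]) = C x.1 + f * x.2 := fun x => rfl
  have hL : Function.Bijective L := by
    refine ⟨(injective_iff_map_eq_zero L).mpr fun x hx => ?_, fun p => ?_⟩
    · have h : C x.1 + f * x.2 = 0 := (hLval x).symm.trans (congrArg Subtype.val hx)
      have hq : x.2 = 0 := by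
        by_contra hne
        have h2 : (f * x.2).natDegree = 0 := by rw [eq_neg_of_add_eq_zero_right h, natDegree_neg, natDegree_C]
        rw [hfm.natDegree_mul' hne, hfd] at h2
        omega
      rw [hq, mul_zero, add_zero, C_eq_zero] at h
      exact Prod.ext h hq
    · obtain ⟨s, q, hp⟩ := (hmem _).mp p.2
      exact ⟨(s, q), Subtype.ext ((hLval _).trans hp.symm)⟩
  refine ⟨Module.Free.of_equiv (LinearEquiv.ofBijective L hL), ?_⟩
  have hCA : ∀ s : S, C s ∈ A := fun s => A.algebraMap_mem s
  have hint : IsIntegral A (X : S[X]) := by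
    let cf : A := ⟨C b - f, (hmem _).mpr ⟨b, -1, by ring⟩⟩
    refine ⟨X ^ 2 + C (⟨C a, hCA a⟩ : A) * X + C cf, by monicity!, ?_⟩
    simp only [eval₂_add, eval₂_mul, eval₂_pow, eval₂_X, eval₂_C]
    show X ^ 2 + C a * X + (C b - f) = 0
    simp only [f]; ring
  have htop : Algebra.adjoin A {(X : S[X])} = ⊤ := by
    rw [eq_top_iff]
    rintro p -
    induction p using Polynomial.induction_on' with
    | add p q hp hq => exact add_mem hp hq
    | monomial n r =>
      rw [← C_mul_X_pow_eq_monomial]
      exact mul_mem (Subalgebra.algebraMap_mem _ (⟨C r, hCA r⟩ : A)) (pow_mem (Algebra.self_mem_adjoin_singleton A X) n)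
  exact ⟨by
    have := hint.fg_adjoin_singleton
    rwa [htop, Algebra.top_toSubmodule] at this⟩

end Groth.Agent.S19184
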