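import Groth.Statements.S19185
import Groth.Agent.L21.SmoothChart

set_option autoImplicit false
universe u
open Curves

namespace Groth.Agent.S19185

/-- Let k be a field, n ≥ 3, q a binary quadratic form and ξ a binary form of degree n over k, given by
coefficient vectors (q_i the coefficient of x^i y^(2−i), ξ_j that of x^j y^(n−j)), not both zero.
The pair (q, ξ) is a global section of O(2) ⊕ O(n) on P¹_k, i.e. of the line bundle of class e + nf
on the Hirzebruch surface F_{n−2} = P(O ⊕ O(n−2)) → P¹_k, and cuts out the curve W : q·u + ξ·v = 0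
there ([u : v] the fibre coordinates). Over the two standard opens of P¹ (t = x/y, s = y/x) and the
two opens u ≠ 0, v ≠ 0 of the fibres, W is covered by four affine charts with coordinate rings k[t,
w]/(q(t,1) + ξ(t,1)·w), k[t, w]/(q(t,1)·w + ξ(t,1)), k[s, w]/(q(1,s) + ξ(1,s)·w) and k[s,
w]/(q(1,s)·w + ξ(1,s)) (variables indexed 0 for t or s and 1 for w). Then W is smooth over k — all
four chart algebras are smooth k-algebras — if and only if the resultant of q and ξ (the Sylvester
determinant of the two coefficient vectors with size parameters 2 and n) is nonzero. (The published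
statement is over a general base scheme B, for a section (q, ξ) vanishing on no fibre, with 'the
resultant is a unit on B' in place of 'nonzero'; its proof reduces at once to the statement over a
field given here, which is the case B = Spec k.) -/
theorem result (k : Type u) [Field k] (n : ℕ) (hn : 3 ≤ n)
    (q : Fin 3 → k) (ξ : Fin (n + 1) → k) (hqξ : q ≠ 0 ∨ ξ ≠ 0) :
    (Algebra.Smooth k (MvPolynomial (Fin 2) k ⧸ Ideal.span ({(∑ i : Fin 3, MvPolynomial.C (q i) * MvPolynomial.X 0 ^ (i : ℕ)) + (∑ j : Fin (n + 1), MvPolynomial.C (ξ j) * MvPolynomial.X 0 ^ (j : ℕ)) * MvPolynomial.X 1} : Set (MvPolynomial (Fin 2) k))) ∧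
      Algebra.Smooth k (MvPolynomial (Fin 2) k ⧸ Ideal.span ({(∑ i : Fin 3, MvPolynomial.C (q i) * MvPolynomial.X 0 ^ (i : ℕ)) * MvPolynomial.X 1 + (∑ j : Fin (n + 1), MvPolynomial.C (ξ j) * MvPolynomial.X 0 ^ (j : ℕ))} : Set (MvPolynomial (Fin 2) k))) ∧
      Algebra.Smooth k (MvPolynomial (Fin 2) k ⧸ Ideal.span ({(∑ i : Fin 3, MvPolynomial.C (q i) * MvPolynomial.X 0 ^ (2 - (i : ℕ))) + (∑ j : Fin (n + 1), MvPolynomial.C (ξ j) * MvPolynomial.X 0 ^ (n - (j : ℕ))) * MvPolynomial.X 1} : Set (MvPolynomial (Fin 2) k))) ∧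
      Algebra.Smooth k (MvPolynomial (Fin 2) k ⧸ Ideal.span ({(∑ i : Fin 3, MvPolynomial.C (q i) * MvPolynomial.X 0 ^ (2 - (i : ℕ))) * MvPolynomial.X 1 + (∑ j : Fin (n + 1), MvPolynomial.C (ξ j) * MvPolynomial.X 0 ^ (n - (j : ℕ)))} : Set (MvPolynomial (Fin 2) k)))) ↔
    Polynomial.resultant (∑ i : Fin 3, Polynomial.C (q i) * Polynomial.X ^ (i : ℕ))
      (∑ j : Fin (n + 1), Polynomial.C (ξ j) * Polynomial.X ^ (j : ℕ)) 2 n ≠ 0 := by
  open Groth.L21.SmoothChart in
  classical
  let F (d : ℕ) (c : Fin (d + 1) → k) : Polynomial k := ∑ i, Polynomial.C (c i) * Polynomial.X ^ (i : ℕ)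
  let G (d : ℕ) (c : Fin (d + 1) → k) : Polynomial k := ∑ i, Polynomial.C (c i) * Polynomial.X ^ (d - (i : ℕ))
  have hF : ∀ d c, Polynomial.aeval (MvPolynomial.X 0 : MvPolynomial (Fin 2) k) (F d c) =
      ∑ i, MvPolynomial.C (c i) * MvPolynomial.X 0 ^ (i : ℕ) := fun d c => by simp [F, MvPolynomial.algebraMap_eq]
  have hG : ∀ d c, Polynomial.aeval (MvPolynomial.X 0 : MvPolynomial (Fin 2) k) (G d c) =
      ∑ i, MvPolynomial.C (c i) * MvPolynomial.X 0 ^ (d - (i : ℕ)) := fun d c => by simp [G, MvPolynomial.algebraMap_eq]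
  have hdegF : ∀ d c, (F d c).natDegree ≤ d := fun d c =>
    Polynomial.natDegree_sum_le_of_forall_le _ _ fun i _ =>
      (Polynomial.natDegree_C_mul_X_pow_le _ _).trans (Nat.lt_succ_iff.1 i.2)
  have htop : ∀ d c, (F d c).coeff d = c (Fin.last d) := fun d c => by
    simp only [F, Polynomial.finsetSum_coeff, Polynomial.coeff_C_mul_X_pow]
    rw [Finset.sum_eq_single (Fin.last d)]
    · simp
    · intro b _ hb
      rw [if_neg]
      intro h
      exact hb (Fin.ext h.symm)
    · simp
  have hne : ∀ d c, F d c = 0 → c = 0 := fun d c h => funext fun j => by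
    have := congrArg (fun P => Polynomial.coeff P (j : ℕ)) h
    simp only [F, Polynomial.finsetSum_coeff, Polynomial.coeff_C_mul_X_pow, Polynomial.coeff_zero] at this
    rw [Finset.sum_eq_single j (fun b _ hb => if_neg fun h => hb (Fin.ext h.symm)) (by simp), if_pos rfl] at this
    exact this
  have hneG : ∀ d c, G d c = 0 → c = 0 := fun d c h => funext fun j => by
    have := congrArg (fun P => Polynomial.coeff P (d - (j : ℕ))) h
    simp only [G, Polynomial.finsetSum_coeff, Polynomial.coeff_C_mul_X_pow, Polynomial.coeff_zero] at this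
    rw [Finset.sum_eq_single j (fun b _ hb => if_neg fun h => hb (Fin.ext (by omega))) (by simp), if_pos rfl] at this
    exact this
  have e1 := hF 2 q; have e2 := hF n ξ; have e3 := hG 2 q; have e4 := hG n ξ
  rw [resultant_ne_zero_iff two_ne_zero (by omega) (hdegF 2 q) (hdegF n ξ), htop, htop]
  rw [← e1, ← e2, ← e3, ← e4, add_comm (_ * MvPolynomial.X 1) (Polynomial.aeval _ (F n ξ)),
    add_comm (_ * MvPolynomial.X 1) (Polynomial.aeval _ (G n ξ))]
  change (_ ∧ _ ∧ _ ∧ _) ↔ _
  constructor
  · rintro ⟨s1, s2, s3, s4⟩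
    refine ⟨isCoprime_of_smooth (hqξ.imp (mt (hne _ _)) (mt (hne _ _))) s1 s2, ?_⟩
    by_contra hc
    push Not at hc
    have hco := isCoprime_of_smooth (hqξ.imp (mt (hneG _ _)) (mt (hneG _ _))) s3 s4
    have hev : ∀ d (c : Fin (d + 1) → k), c (Fin.last d) = 0 → Polynomial.aeval (0 : k) (G d c) = 0 := by
      intro d c hc
      simp only [G, map_sum, map_mul, map_pow, Polynomial.aeval_X, Polynomial.aeval_C, Algebra.algebraMap_self, RingHom.id_apply]
      refine Finset.sum_eq_zero fun i _ => ?_
      by_cases hi : (i : ℕ) = d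
      · rw [show i = Fin.last d from Fin.ext hi, hc, zero_mul]
      · rw [zero_pow (by omega), mul_zero]
    rcases Polynomial.aeval_ne_zero_of_isCoprime hco (0 : k) with h | h
    · exact h (hev 2 q hc.1)
    · exact h (hev n ξ hc.2)
  · rintro ⟨hco, ht⟩
    have hco' : IsCoprime (G 2 q) (G n ξ) := by
      by_contra hc
      obtain ⟨a, ha, hb⟩ := exists_root_of_not_isCoprime hc
      have haux : ∀ d (c : Fin (d + 1) → k), Polynomial.aeval a (G d c) = 0 →
          (a = 0 → c (Fin.last d) = 0) ∧ (a ≠ 0 → Polynomial.aeval a⁻¹ (F d c) = 0) := by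
        intro d c h
        simp only [G, F, map_sum, map_mul, map_pow, Polynomial.aeval_X, Polynomial.aeval_C] at h ⊢
        refine ⟨fun ha0 => ?_, fun ha0 => ?_⟩
        · rw [Finset.sum_eq_single (Fin.last d)] at h
          · simpa using h
          · intro b _ hb'
            have : (b : ℕ) < d := Fin.val_lt_last hb'
            rw [ha0, zero_pow (by omega), mul_zero]
          · simp
        · refine (mul_eq_zero.1 ?_).resolve_left (pow_ne_zero d ha0)
          rw [Finset.mul_sum, ← h]
          refine Finset.sum_congr rfl fun i _ => ?_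
          have hi : (i : ℕ) ≤ d := Nat.lt_succ_iff.1 i.2
          have hp : a ^ d * a⁻¹ ^ (i : ℕ) = a ^ (d - (i : ℕ)) := by
            rw [inv_pow, pow_sub₀ a ha0 hi]
          rw [mul_left_comm, hp]
      by_cases ha0 : a = 0
      · exact ht.elim (· ((haux 2 q ha).1 ha0)) (· ((haux n ξ hb).1 ha0))
      · rcases Polynomial.aeval_ne_zero_of_isCoprime hco a⁻¹ with h | h
        · exact h ((haux 2 q ha).2 ha0)
        · exact h ((haux n ξ hb).2 ha0)
    exact ⟨smooth_chart hco, smooth_chart hco.symm, smooth_chart hco', smooth_chart hco'.symm⟩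

end Groth.Agent.S19185
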