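import Groth.Statements.S19186
import Mathlib.RingTheory.Artinian.Ring
import Mathlib.RingTheory.Artinian.Module
import Mathlib.LinearAlgebra.FiniteDimensional.Basic
import Mathlib.LinearAlgebra.Dimension.RankNullity
import Mathlib.LinearAlgebra.FiniteDimensional.Lemmas
import Mathlib.Algebra.Order.Chebyshev
import Mathlib.Tactic.Linarith
import Mathlib.Tactic.Positivity
import Mathlib.Tactic.IntervalCases

set_option autoImplicit false
universe u
open OneMot

namespace Groth.Agent.S19186

/-- Let p and ℓ be distinct prime numbers, r and n natural numbers, and f : A → B a homomorphism of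
abelian groups whose kernel and cokernel are annihilated by p^r (f a = 0 implies p^r • a = 0, and
every p^r • b lies in the image of f). Then f induces a bijection between the ℓ^n-torsion subgroups
of A and B and a bijection A/ℓ^n A → B/ℓ^n B. Spelled out without quotients: every ℓ^n-torsion
element of B has exactly one ℓ^n-torsion preimage; an element of A whose image is an ℓ^n-multiple is
itself an ℓ^n-multiple; and every element of B is the sum of an image and an ℓ^n-multiple. -/
theorem result {A B : Type u} [AddCommGroup A] [AddCommGroup B] (f : A →+ B) (p ℓ r n : ℕ) (hp : p.Prime) (hl : ℓ.Prime) (hne : ℓ ≠ p) (hker : ∀ a : A, f a = 0 → p ^ r • a = 0) (hcoker : ∀ b : B, ∃ a : A, f a = p ^ r • b) : (∀ b : B, ℓ ^ n • b = 0 → ∃! a : A, ℓ ^ n • a = 0 ∧ f a = b) ∧ (∀ a : A, (∃ b' : B, f a = ℓ ^ n • b') → ∃ a' : A, a = ℓ ^ n • a') ∧ (∀ b : B, ∃ (a : A) (b' : B), b = f a + ℓ ^ n • b') := by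
  set L : ℕ := ℓ ^ n
  set P : ℕ := p ^ r
  have hco : ((L:ℤ).gcd (P * P : ℕ)) = 1 := by
    have hc : Nat.Coprime ℓ p := (Nat.coprime_primes hl hp).mpr hne
    rw [Int.gcd_natCast_natCast]
    exact Nat.Coprime.mul_right (Nat.Coprime.pow n r hc) (Nat.Coprime.pow n r hc)
  obtain ⟨u, v, huv⟩ : ∃ u v : ℤ, u * L + v * ((P:ℤ) * P) = 1 := by
    refine ⟨Int.gcdA L (P * P : ℕ), Int.gcdB L (P * P : ℕ), ?_⟩
    have := Int.gcd_eq_gcd_ab (L:ℤ) (P * P : ℕ)
    rw [hco] at this; push_cast at this ⊢; linarith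
  have dA : ∀ a : A, a = u • (L • a) + v • (P • (P • a)) := fun a => by
    rw [← natCast_zsmul a L, ← natCast_zsmul (P • a) P, ← natCast_zsmul a P, ← mul_zsmul', ← mul_zsmul', ← mul_zsmul',
      ← add_zsmul, show ((L : ℤ) * u + P * (P * v)) = 1 by linarith, one_zsmul]
  have dB : ∀ b : B, b = u • (L • b) + v • (P • (P • b)) := fun b => by
    rw [← natCast_zsmul b L, ← natCast_zsmul (P • b) P, ← natCast_zsmul b P, ← mul_zsmul', ← mul_zsmul', ← mul_zsmul',
      ← add_zsmul, show ((L : ℤ) * u + P * (P * v)) = 1 by linarith, one_zsmul]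
  refine ⟨fun b hb => ?_, fun a ⟨b', hb'⟩ => ?_, fun b => ?_⟩
  · obtain ⟨a, ha⟩ := hcoker b
    have h1 : P • (L • a) = 0 := hker _ (by rw [map_nsmul, ha, smul_comm, hb, smul_zero])
    refine ⟨v • (P • a), ⟨by rw [smul_comm L v, smul_comm L P, h1, smul_zero], ?_⟩, ?_⟩
    · rw [map_zsmul, map_nsmul, ha]
      conv_rhs => rw [dB b]
      rw [hb, smul_zero, zero_add]
    · rintro a' ⟨hLa', hfa'⟩
      have h2 : P • (P • a' - a) = 0 := hker _ (by rw [map_sub, map_nsmul, hfa', ha, sub_self])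
      rw [smul_sub, sub_eq_zero] at h2
      conv_lhs => rw [dA a']
      rw [hLa', smul_zero, zero_add, h2]
  · obtain ⟨a1, ha1⟩ := hcoker b'
    have h2 : P • (P • a - L • a1) = 0 := hker _ (by rw [map_sub, map_nsmul, map_nsmul, hb', ha1, smul_comm, sub_self])
    rw [smul_sub, sub_eq_zero] at h2
    refine ⟨u • a + v • (P • a1), ?_⟩
    conv_lhs => rw [dA a, h2]
    rw [smul_add, smul_comm L u, smul_comm L v, smul_comm L P]
  · obtain ⟨a, ha⟩ := hcoker b
    refine ⟨v • (P • a), u • b, ?_⟩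
    conv_lhs => rw [dB b]
    rw [map_zsmul, map_nsmul, ha, smul_comm L u, add_comm]

end Groth.Agent.S19186
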