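import Groth.Statements.S19187
import Mathlib.AlgebraicGeometry.Morphisms.Proper
import Mathlib.AlgebraicGeometry.Morphisms.UniversallyClosed

set_option autoImplicit false
set_option maxSynthPendingDepth 3
set_option linter.style.haveILetI false
universe u
open Cpct

namespace Groth.Agent.S19187

open CategoryTheory AlgebraicGeometry in
/-- Let k be a field, X̄ and Ȳ schemes proper over Spec k, j : X → X̄ an open immersion with dense image
and v : Y → Ȳ an open immersion (compactifications of X and Y), f : X → Y a proper morphism and f̄ :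
X̄ → Ȳ a morphism over Spec k with f̄ ∘ j = v ∘ f. Then the preimage under f̄ of the open v(Y) is
the open j(X); equivalently, the complement of X in X̄ is the preimage of the complement of Y in Ȳ.
(The base field k is arbitrary: no perfectness assumption is needed.) -/
theorem result {k : Type u} [Field k] {X Y Xb Yb : Scheme.{u}} (a : Xb ⟶ Spec (CommRingCat.of k)) (b : Yb ⟶ Spec (CommRingCat.of k)) [IsProper a] [IsProper b] (j : X ⟶ Xb) [IsOpenImmersion j] (hj : Dense (Set.range j.base)) (v : Y ⟶ Yb) [IsOpenImmersion v] (f : X ⟶ Y) [IsProper f] (fb : Xb ⟶ Yb) (hfb : fb ≫ b = a) (hsq : j ≫ fb = f ≫ v) : fb ⁻¹ᵁ v.opensRange = j.opensRange := by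
  haveI : IsProper fb := by
    haveI : IsProper (fb ≫ b) := hfb ▸ inferInstance
    exact IsProper.of_comp fb b
  let U := fb ⁻¹ᵁ v.opensRange
  have hr : Set.range j ⊆ (U : Set Xb) := by
    rintro _ ⟨x, rfl⟩
    refine ⟨f x, ?_⟩
    rw [← Scheme.Hom.comp_apply, ← hsq]
    rfl
  let j' : X ⟶ (U : Scheme) := IsOpenImmersion.lift U.ι j (by rw [Scheme.Opens.range_ι]; exact hr)
  have hj' : j' ≫ U.ι = j := IsOpenImmersion.lift_fac _ _ _
  have hru : Set.range (U.ι ≫ fb) ⊆ Set.range v := by
    rintro _ ⟨z, rfl⟩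
    exact z.2
  let g : (U : Scheme) ⟶ Y := IsOpenImmersion.lift v (U.ι ≫ fb) hru
  have hg : g ≫ v = U.ι ≫ fb := IsOpenImmersion.lift_fac _ _ _
  have hfg : j' ≫ g = f := by rw [← cancel_mono v, Category.assoc, hg, ← Category.assoc, hj', hsq]
  haveI : IsSeparated g := by
    haveI : IsSeparated (g ≫ v) := by rw [hg]; infer_instance
    exact IsSeparated.of_comp g v
  haveI : IsProper j' := by
    haveI : IsProper (j' ≫ g) := by rw [hfg]; infer_instance
    exact IsProper.of_comp j' g
  have hcl : IsClosed (Set.range j') := j'.isClosedMap.isClosed_range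
  have hd : DenseRange j' := by
    have h1 : Dense (U.ι ⁻¹' Set.range j) := hj.preimage U.ι.isOpenEmbedding.isOpenMap
    refine h1.mono ?_
    rintro z ⟨x, hx⟩
    refine ⟨x, U.ι.isOpenEmbedding.injective ?_⟩
    rw [← hx, ← hj']
    rfl
  refine TopologicalSpace.Opens.ext (Set.Subset.antisymm (fun z hz => ?_) hr)
  obtain ⟨x, hx⟩ : (⟨z, hz⟩ : U) ∈ Set.range j' := by rw [← hcl.closure_eq, hd.closure_eq]; trivial
  exact ⟨x, by rw [← hj']; exact congrArg U.ι hx⟩

end Groth.Agent.S19187
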