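import Groth.Statements.S19188
import Groth.Agent.L15.PushGmTorus.Main

set_option autoImplicit false
universe u
open CGrpSh3

namespace Groth.Agent.S19188

open CategoryTheory AlgebraicGeometry MonObj in
/-- Let k be a field and f : X → Spec k a proper smooth morphism of schemes. Then the direct image f_*
𝔾_{m,X} on the big fppf site of Spec k, the abelian sheaf whose sections over a k-scheme T are the
invertible functions on X ×_k T, is representable by a torus: there is a commutative k-group scheme
which is a torus and whose sheaf of points is isomorphic to f_* 𝔾_{m,X} (representability is an
existence statement; no particular isomorphism is singled out). -/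
theorem result (k : Type u) [Field k] (X : Scheme.{u}) (f : X ⟶ Spec (CommRingCat.of k)) [IsProper f] [Smooth f] : ∃ (T : Over (Spec (CommRingCat.of k))) (_ : GrpObj T) (_ : IsCommMonObj T), Red.IsTorus T ∧ Nonempty (CGrpSh.pts Scheme.fppfPrecoverage T ≅ CGrpSh3.pushGm Scheme.fppfPrecoverage f) := by
  exact Groth.L15.PushGmTorus.exists_isTorus f

end Groth.Agent.S19188
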