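import Groth.Statements.S19190
import Groth.Agent.L10.Tri.Torsion

set_option autoImplicit false
universe w v u v' u'
open CategoryTheory CategoryTheory.Limits CategoryTheory.Pretriangulated CategoryTheory.Triangulated
open CohDer

namespace Groth.Agent.S19190

/-- Let `A` be a commutative ring, `S` a multiplicative subset of `A` and `T` an `A`-linear triangulated
category (octahedron axiom included; the shift functors are `A`-linear). Call an object of `T`
`S`-torsion when it lies in the smallest thick subcategory `U` of `T` (a property of objects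
containing zero, stable under shifts, extensions, isomorphisms and direct factors) containing every
cone of an endomorphism `f • 𝟙 X` with `f ∈ S`. Let `Q : T ⥤ E` exhibit `E` as the localization of
`T` at the morphisms whose cone lies in `U` (the Verdier quotient `T/U`), where `E` is preadditive
and `A`-linear and `Q` is `A`-linear. Then for all objects `X`, `Y` of `T` the `A`-linear map
`Hom_T(X, Y) → Hom_E(Q X, Q Y)` given by `Q` exhibits its target as the localization of `Hom_T(X,
Y)` at `S`. Since `Q` is essentially surjective, this says that the comparison functor from `T/U` to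
the category having the objects of `T` and morphism modules `Hom_T(X, Y) ⊗_A S⁻¹A` is an
equivalence. -/
theorem result
    {A : Type w} [CommRing A] (S : Submonoid A)
    {T : Type u} [Category.{v} T] [Preadditive T] [Linear A T] [HasZeroObject T] [HasShift T ℤ]
    [∀ n : ℤ, (shiftFunctor T n).Additive] [∀ n : ℤ, (shiftFunctor T n).Linear A]
    [Pretriangulated T] [IsTriangulated T]
    (U : ObjectProperty T) [U.IsTriangulated] [U.IsClosedUnderIsomorphisms] [U.IsStableUnderRetracts]
    (hU : ∀ (X : T) (f : A), f ∈ S → ∀ (Z : T) (g : X ⟶ Z) (h : Z ⟶ X⟦(1 : ℤ)⟧),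
      Triangle.mk (f • 𝟙 X) g h ∈ distTriang T → U Z)
    (hmin : ∀ (U' : ObjectProperty T) [U'.IsTriangulated] [U'.IsClosedUnderIsomorphisms]
      [U'.IsStableUnderRetracts],
      (∀ (X : T) (f : A), f ∈ S → ∀ (Z : T) (g : X ⟶ Z) (h : Z ⟶ X⟦(1 : ℤ)⟧),
        Triangle.mk (f • 𝟙 X) g h ∈ distTriang T → U' Z) → U ≤ U')
    {E : Type u'} [Category.{v'} E] [Preadditive E] [Linear A E]
    (Q : T ⥤ E) [Q.Additive] [Q.Linear A] [Q.IsLocalization U.trW] (X Y : T) :
    IsLocalizedModule S (Q.mapLinearMap A : (X ⟶ Y) →ₗ[A] (Q.obj X ⟶ Q.obj Y)) := by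
  have hK : U ≤ Groth.L10.Tri.Killed S :=
    hmin _ (fun X f hf Z g h hT => Groth.L10.Tri.killed_cone S hf hT)
  refine Groth.L10.Tri.isLocalizedModule hK Q (fun X f hf => ?_) X Y
  obtain ⟨Z, g, h, hT⟩ := distinguished_cocone_triangle (f • 𝟙 X)
  exact ⟨Z, g, h, hT, hU X f hf Z g h hT⟩

end Groth.Agent.S19190
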