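import Groth.Statements.S19191
import Mathlib.CategoryTheory.Triangulated.Subcategory
import Mathlib.RingTheory.Ideal.Maximal
-- import your own Groth.Agent.* helpers here

set_option autoImplicit false
universe w v u v' u'
open CategoryTheory CategoryTheory.Limits CategoryTheory.Pretriangulated CategoryTheory.Triangulated
open CohDer

namespace Groth.Agent.S19191

/-- Let `A` be a commutative ring, `T` an `A`-linear triangulated category (octahedron axiom included;
shift functors `A`-linear), `U` a thick subcategory of `T` (a property of objects containing zero,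
stable under shifts, extensions, isomorphisms and direct factors), and `Q : T ⥤ E` a localization of
`T` at the morphisms whose cone lies in `U` (the Verdier quotient `T/U`), where `E` is preadditive
and `A`-linear and `Q` is `A`-linear. For an object `X` of `T` the following two conditions are
equivalent: (i) `X` lies in `U`; (ii) for every maximal ideal `m` of `A` the image of `X` in the
category obtained from `T/U` by tensoring the morphism modules with `A_m` is zero, i.e. some element
of `A` outside `m` annihilates the identity of `Q X`. (The published statement also lists a third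
equivalent condition, phrased with idempotent completions of the localized categories; it is not
asserted here.) -/
theorem result
    {A : Type w} [CommRing A]
    {T : Type u} [Category.{v} T] [Preadditive T] [Linear A T] [HasZeroObject T] [HasShift T ℤ]
    [∀ n : ℤ, (shiftFunctor T n).Additive] [∀ n : ℤ, (shiftFunctor T n).Linear A]
    [Pretriangulated T] [IsTriangulated T]
    (U : ObjectProperty T) [U.IsTriangulated] [U.IsClosedUnderIsomorphisms] [U.IsStableUnderRetracts]
    {E : Type u'} [Category.{v'} E] [Preadditive E] [Linear A E]
    (Q : T ⥤ E) [Q.Additive] [Q.Linear A] [Q.IsLocalization U.trW] (X : T) :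
    U X ↔ ∀ m : Ideal A, m.IsMaximal → ∃ s : A, s ∉ m ∧ s • 𝟙 (Q.obj X) = 0 := by
  constructor
  · intro hX m hm
    refine ⟨1, m.ne_top_iff_one.1 hm.ne_top, ?_⟩
    have hW := ObjectProperty.trW.mk U (rot_of_distTriang _ (contractible_distinguished X)) (U.le_shift (1 : ℤ) _ hX)
    have hi := Localization.inverts Q U.trW _ hW
    have h0 := hi.out
    obtain ⟨j, hj, -⟩ := h0
    have hz : Q.map (Triangle.rotate (contractibleTriangle X)).mor₁ = 0 := by
      exact Q.map_zero _ _
    rw [one_smul]
    exact hj.symm.trans ((congrArg (· ≫ j) hz).trans zero_comp)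
  · intro h
    have h1 : (𝟙 (Q.obj X)) = 0 := by
      by_contra hne
      let I : Ideal A :=
        { carrier := {s | s • 𝟙 (Q.obj X) = 0}
          add_mem' := fun {a b} (ha : a • _ = 0) (hb : b • _ = 0) => by
            show (a + b) • 𝟙 (Q.obj X) = 0
            rw [add_smul, ha, hb, add_zero]
          zero_mem' := zero_smul _ _
          smul_mem' := fun c a (ha : a • _ = 0) => by
            show (c • a) • 𝟙 (Q.obj X) = 0
            rw [smul_assoc, ha, smul_zero] }
      obtain ⟨m, hm, hle⟩ := I.exists_le_maximal (fun htop => hne (by
        have : (1 : A) ∈ I := htop ▸ Submodule.mem_top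
        simpa [I] using this))
      obtain ⟨s, hs, hs0⟩ := h m hm
      exact hs (hle hs0)
    have h2 : Q.map (𝟙 X) = Q.map 0 := by rw [CategoryTheory.Functor.map_id, CategoryTheory.Functor.map_zero, h1]
    obtain ⟨Z, s, hs, hs'⟩ := (MorphismProperty.map_eq_iff_postcomp Q U.trW _ _).1 h2
    rw [Category.id_comp, zero_comp] at hs'
    subst hs'
    obtain ⟨W, g, k, hd, hW⟩ := hs
    obtain ⟨j, hj⟩ := Triangle.coyoneda_exact₁ _ hd (𝟙 (X⟦(1 : ℤ)⟧))
      ((Category.id_comp _).trans (Functor.map_zero _ _ _))
    have hr : Retract (X⟦(1 : ℤ)⟧) W := { i := j, r := k, retract := hj.symm }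
    exact (U.prop_shift_iff_of_isStableUnderShift X (1 : ℤ)).1 (U.prop_of_retract hr hW)

end Groth.Agent.S19191
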