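import Groth.Statements.S19196
import Mathlib.RingTheory.Ideal.MinimalPrime.Noetherian
import Mathlib.RingTheory.Ideal.AssociatedPrime.Finiteness
import Mathlib.Tactic.Ring
import Mathlib.Tactic.LinearCombination
import Mathlib.Tactic.FieldSimp
import Mathlib.Algebra.BigOperators.Ring.Finset

set_option autoImplicit false
universe u
open RelS1

namespace Groth.Agent.S19196

/-- Let R be a Noetherian commutative ring and N a finitely generated R-module which fails Serre's
condition (S_1), in the sense that some associated prime of N is not a minimal prime of the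
annihilator of N. Then there exist an element a of R lying in no minimal prime of the annihilator of
N and a nonzero element b of N with a • b = 0; thus the basic open set D(a) meets the support of N
densely while restriction to it is not injective on N. -/
theorem result (R N : Type u) [CommRing R] [IsNoetherianRing R]
    [AddCommGroup N] [Module R N] [Module.Finite R N]
    (h : ¬ associatedPrimes R N ⊆ (Module.annihilator R N).minimalPrimes) :
    ∃ (a : R) (b : N), (∀ P ∈ (Module.annihilator R N).minimalPrimes, a ∉ P) ∧ b ≠ 0 ∧ a • b = 0 := by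
  obtain ⟨P, hP, hPm⟩ := Set.not_subset.1 h
  obtain ⟨hprime, b, hb⟩ := Submodule.isAssociatedPrime_iff.1 hP
  set S := (Module.annihilator R N).minimalPrimes with hS
  have hfin : S.Finite := Ideal.finite_minimalPrimes_of_isNoetherianRing R _
  have hann : Module.annihilator R N ≤ P := by
    intro r hr
    rw [hb, Submodule.mem_colon_singleton, Submodule.mem_bot]
    exact Module.mem_annihilator.1 hr b
  have : ¬ (P : Set R) ⊆ ⋃ Q ∈ (hfin.toFinset : Set (Ideal R)), (Q : Set R) := by
    rw [Ideal.subset_union_prime P P (fun Q hQ _ _ => (hfin.mem_toFinset.1 hQ).1.1)]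
    rintro ⟨Q, hQ, hPQ⟩
    have hQ' := hfin.mem_toFinset.1 hQ
    exact hPm (by rw [← le_antisymm hPQ (hQ'.2 ⟨hprime, hann⟩ hPQ)] at hQ'; exact hQ')
  obtain ⟨a, ha, ha'⟩ := Set.not_subset.1 this
  refine ⟨a, b, fun Q hQ haQ => ha' (Set.mem_iUnion₂.2 ⟨Q, hfin.mem_toFinset.2 hQ, haQ⟩), ?_, ?_⟩
  · rintro rfl
    exact hprime.ne_top ((Ideal.eq_top_iff_one _).2 (by rw [hb, Submodule.mem_colon_singleton]; simp))
  · rw [SetLike.mem_coe, hb, Submodule.mem_colon_singleton, Submodule.mem_bot] at ha
    exact ha

end Groth.Agent.S19196
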