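import Groth.Statements.S19197
import Groth.Agent.L15.FibrePdSemi
import Mathlib.Tactic.Ring
import Mathlib.Tactic.LinearCombination
import Mathlib.Tactic.FieldSimp
import Mathlib.Algebra.BigOperators.Ring.Finset

set_option autoImplicit false
universe u
open TensorProduct CategoryTheory
open RelS1

namespace Groth.Agent.S19197

/-- In affine form, let A be a commutative ring, B a finitely presented A-algebra which is flat over A,
and M a finitely presented B-module which is flat over A. For a prime P of B lying over the prime p
of A, let B_P/pB_P be the local ring of the fibre at P and M_P/pM_P = (B_P/pB_P) ⊗_B M the fibre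
stalk module. Then the function sending P to the projective dimension of M_P/pM_P over B_P/pB_P
(valued in WithBot ℕ∞, the zero module having dimension ⊥) is upper semicontinuous on Spec B: for
every bound, the set of P where the fibre projective dimension is below the bound is open. -/
theorem result (A B M : Type u) [CommRing A] [CommRing B] [Algebra A B]
    [Algebra.FinitePresentation A B] [Module.Flat A B] [AddCommGroup M] [Module B M] [Module A M]
    [IsScalarTower A B M] [Module.FinitePresentation B M] [Module.Flat A M] :
    UpperSemicontinuous fun P : PrimeSpectrum B => projectiveDimension (ModuleCat.of
      (Localization.AtPrime P.asIdeal ⧸ (P.asIdeal.under A).map (algebraMap A (Localization.AtPrime P.asIdeal)))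
      ((Localization.AtPrime P.asIdeal ⧸ (P.asIdeal.under A).map (algebraMap A (Localization.AtPrime P.asIdeal))) ⊗[B] M)) := by
  exact Groth.L15.FibrePdSemi.main M

end Groth.Agent.S19197
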