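import Groth.Statements.S19198
import Groth.Agent.L05.Birat.FlatSection
import Groth.Agent.L05.Point.UnramFlat
import Groth.Agent.L19.SpreadLfp
import Mathlib.AlgebraicGeometry.ValuativeCriterion
import Mathlib.RingTheory.DiscreteValuationRing.TFAE
-- import your own Groth.Agent.* helpers here

set_option autoImplicit false
universe u
open CategoryTheory AlgebraicGeometry
open Models

namespace Groth.Agent.S19198

theorem isSchematicallyDense_of_isReduced {Y : Scheme.{u}} [IsReduced Y] (U : Y.Opens)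
    (hU : Dense (U : Set Y)) : CInt.IsSchematicallyDense U := by
  intro V
  rw [injective_iff_map_eq_zero]
  intro s hs
  rw [← basicOpen_eq_bot_iff]
  have h : Y.basicOpen s ⊓ U = ⊥ := by
    have h2 := Scheme.basicOpen_res Y s (homOfLE (inf_le_left : V ⊓ U ≤ V)).op
    erw [hs, Scheme.basicOpen_zero] at h2
    rw [eq_bot_iff]
    refine le_trans ?_ h2.ge
    exact le_inf (inf_le_inf_right _ (Y.basicOpen_le s)) inf_le_left
  by_contra hne
  obtain ⟨y, hy⟩ : (Y.basicOpen s : Set Y).Nonempty := by
    rw [Set.nonempty_iff_ne_empty]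
    exact fun e => hne (SetLike.coe_injective e)
  obtain ⟨z, hz⟩ := hU.inter_open_nonempty _ (Y.basicOpen s).isOpen ⟨y, hy⟩
  exact (h.le ⟨hz.1, hz.2⟩ :)

/-- Form over the valuation ring: let R be a discrete valuation ring with a uniformizer ϖ, let C → Spec
R be flat and locally of finite type, f : X → C proper, and Z → X a closed immersion with Z flat
over R such that the composite Z → C restricts to an isomorphism over the generic fibre, the
preimage of the open set D(ϖ) of Spec R. Then for every point c of C whose local ring is an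
integrally closed domain of Krull dimension one (a codimension-one point at which C is normal, for
instance a generic point of the closed fibre lying in the smooth locus), there is an open
neighbourhood V of c over which Z → C is an isomorphism. (The published statement, that the closed
fibre of such a Z maps isomorphically onto the closed fibre of C over every generic point of its
smooth locus, also after a finite extension of R, follows by restriction to the closed fibre and
flat descent.) -/
theorem result (R : Type u) [CommRing R] [IsDomain R]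
    [IsDiscreteValuationRing R] {C X Z : Scheme.{u}} (πC : C ⟶ Spec (CommRingCat.of R)) [Flat πC]
    [LocallyOfFiniteType πC] (f : X ⟶ C) [IsProper f] (i : Z ⟶ X) [IsClosedImmersion i]
    [Flat ((i ≫ f) ≫ πC)] (ϖ : R) (hϖ : Irreducible ϖ)
    (hgen : IsIso ((i ≫ f) ∣_ (πC ⁻¹ᵁ (PrimeSpectrum.basicOpen ϖ))))
    (c : C) (hdom : IsDomain (C.presheaf.stalk c)) (hnorm : IsIntegrallyClosed (C.presheaf.stalk c))
    (hdim : ringKrullDim (C.presheaf.stalk c) = 1) :
    ∃ V : C.Opens, c ∈ V ∧ IsIso ((i ≫ f) ∣_ V) := by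
  let g : Z ⟶ C := i ≫ f
  let D : (Spec (CommRingCat.of R)).Opens := PrimeSpectrum.basicOpen ϖ
  let C₀ : C.Opens := πC ⁻¹ᵁ D
  haveI : IsIso (g ∣_ C₀) := hgen
  haveI : IsProper g := inferInstanceAs (IsProper (i ≫ f))
  haveI : IsNoetherianRing R := inferInstance
  haveI : IsLocallyNoetherian C := LocallyOfFiniteType.isLocallyNoetherian πC
  haveI : LocallyOfFinitePresentation g := LocallyOfFinitePresentation.iff_locallyOfFiniteType.mpr inferInstance
  haveI : LocallyOfFiniteType (g ≫ πC) := inferInstance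
  haveI : Flat (g ≫ πC) := inferInstanceAs (Flat ((i ≫ f) ≫ πC))
  haveI : IsReduced (Spec (CommRingCat.of R)) := inferInstance
  haveI : PreirreducibleSpace ↥(Spec (CommRingCat.of R)) := inferInstanceAs (PreirreducibleSpace (PrimeSpectrum R))
  have hD : CInt.IsSchematicallyDense D := by
    refine isSchematicallyDense_of_isReduced D (D.2.dense ⟨(⟨⊥, Ideal.isPrime_bot⟩ : PrimeSpectrum R), ?_⟩)
    exact fun h => hϖ.ne_zero (Ideal.mem_bot.mp h)
  haveI := hdom
  haveI := hnorm
  let O := C.presheaf.stalk c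
  let K := FractionRing O
  haveI : Ring.KrullDimLE 1 O := Ring.krullDimLE_iff.mpr hdim.le
  haveI hval : ValuationRing O :=
    ((tfae_of_isNoetherianRing_of_isLocalRing_of_isDomain (R := O)).out 3 1
      (a := IsIntegrallyClosed O ∧ ∀ P : Ideal O, P ≠ ⊥ → P.IsPrime → P = IsLocalRing.maximalIdeal O)
      (b := ValuationRing O)).mp
      ⟨hnorm, fun P hP0 hPp => IsLocalRing.eq_maximalIdeal (Ring.krullDimLE_one_iff_of_noZeroDivisors.mp inferInstance P hP0 hPp)⟩
  obtain ⟨ψ, hψ⟩ := Spec.map_surjective (C.fromSpecStalk c ≫ πC)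
  haveI : Flat (C.fromSpecStalk c) := Groth.L05.Point.flat_fromSpecStalk c
  haveI : Flat (Spec.map ψ) := hψ ▸ inferInstance
  have hψflat : ψ.hom.Flat := (HasRingHomProperty.Spec_iff (P := @Flat)).mp inferInstance
  have hψϖ : ψ.hom ϖ ≠ 0 := by
    letI := ψ.hom.toAlgebra
    haveI : Module.Flat R O := hψflat
    haveI : Module.IsTorsionFree R O := inferInstance
    intro h
    have h1 : ϖ • (1 : O) = 0 := by
      rw [Algebra.smul_def, mul_one]; exact h
    exact one_ne_zero ((smul_eq_zero_iff_right hϖ.ne_zero).mp h1)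
  let ξ : Spec (CommRingCat.of K) ⟶ C :=
    Spec.map (CommRingCat.ofHom (algebraMap O K)) ≫ C.fromSpecStalk c
  have hξ : ∀ t, ξ t ∈ C₀ := by
    intro t h
    change ϖ ∈ (πC (C.fromSpecStalk c _)).asIdeal at h
    rw [← Scheme.Hom.comp_apply, ← hψ] at h
    change algebraMap O K (ψ.hom ϖ) ∈ (t : PrimeSpectrum K).asIdeal at h
    haveI := (t : PrimeSpectrum K).isPrime
    rw [Ideal.eq_bot_of_prime (t : PrimeSpectrum K).asIdeal, Ideal.mem_bot] at h
    exact hψϖ (IsFractionRing.injective O K (h.trans (map_zero _).symm))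
  let ξ' : Spec (CommRingCat.of K) ⟶ (C₀ : Scheme.{u}) := IsOpenImmersion.lift C₀.ι ξ (by
    rintro _ ⟨t, rfl⟩
    rw [Scheme.Opens.range_ι]
    exact hξ t)
  have hξ' : ξ' ≫ C₀.ι = ξ := IsOpenImmersion.lift_fac _ _ _
  let z : Spec (CommRingCat.of K) ⟶ Z := ξ' ≫ inv (g ∣_ C₀) ≫ (g ⁻¹ᵁ C₀).ι
  have hz : z ≫ g = ξ := by
    simp only [z, Category.assoc, ← morphismRestrict_ι, IsIso.inv_hom_id_assoc, hξ']
  let sq : ValuativeCommSq g :=
    { R := O, K := K, domain := hdom, valuationRing := hval, i₁ := z, i₂ := C.fromSpecStalk c, commSq := ⟨hz⟩ }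
  have hex : ValuativeCriterion.Existence g := by
    have : (@UniversallyClosed) g := inferInstance
    rw [UniversallyClosed.eq_valuativeCriterion] at this
    exact this.1
  obtain ⟨⟨l, -, hl⟩⟩ := (hex sq).exists_lift
  obtain ⟨V, hcV, σ, -, hσ⟩ := Groth.L19.SpreadLfp.spread_out' (𝟙 C) g (x := c) l (by rw [Category.comp_id]; exact hl)
  rw [Category.comp_id] at hσ
  refine ⟨V, hcV, ?_⟩
  let E : Z.Opens := g ⁻¹ᵁ V
  let σ' : (V : Scheme.{u}) ⟶ E := IsOpenImmersion.lift E.ι σ (by
    rintro _ ⟨v, rfl⟩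
    rw [Scheme.Opens.range_ι]
    change g (σ v) ∈ V
    rw [← Scheme.Hom.comp_apply, hσ]
    exact v.2)
  have hσ' : σ' ≫ E.ι = σ := IsOpenImmersion.lift_fac _ _ _
  have hsec : σ' ≫ (g ∣_ V) = 𝟙 _ := by
    rw [← cancel_mono V.ι, Category.assoc, morphismRestrict_ι, reassoc_of% hσ', hσ, Category.id_comp]
  haveI : IsSeparated (g ∣_ V) := MorphismProperty.of_isPullback (P := @IsSeparated)
    (isPullback_morphismRestrict g V).flip inferInstance
  have hd : CInt.IsSchematicallyDense (g ⁻¹ᵁ C₀) := by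
    haveI : IsLocallyNoetherian (Spec (CommRingCat.of R)) := inferInstance
    have := Groth.Agent.L19.SchDense.isSchematicallyDense_preimage (g ≫ πC) D hD
    exact this
  have hdE := Groth.Agent.NeronL.schDense_restrict hd E
  have hret : (g ∣_ V) ≫ σ' = 𝟙 _ := by
    refine Groth.Agent.NeronL.eq_of_fac (E.ι ⁻¹ᵁ (g ⁻¹ᵁ C₀)).ι
      (fun c _ l hl => Groth.Agent.NeronL.ker_eq_bot_of_schDense hdE c l hl) _ _ (g ∣_ V) ?_ ?_
    · rw [Category.assoc, hsec, Category.comp_id, Category.id_comp]
    · rw [← cancel_mono E.ι, Category.comp_id, Category.assoc, Category.assoc, hσ']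
      refine (Groth.L05.Birat.ext_of_isIso_restrict g C₀ ((E.ι ⁻¹ᵁ (g ⁻¹ᵁ C₀)).ι ≫ E.ι) _ (fun t => t.2) ?_).symm
      simp only [Category.assoc, hσ, morphismRestrict_ι]
      rfl
  exact ⟨σ', hret, hsec⟩

end Groth.Agent.S19198
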