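import Groth.Statements.S19202
import Mathlib.RingTheory.Flat.TorsionFree
import Mathlib.AlgebraicGeometry.IdealSheaf.Subscheme
import Mathlib.AlgebraicGeometry.Morphisms.Flat
import Mathlib.AlgebraicGeometry.Morphisms.ClosedImmersion

set_option autoImplicit false
universe u
open CategoryTheory AlgebraicGeometry
open FlatMor

set_option backward.isDefEq.respectTransparency.types false
open AlgebraicGeometry CategoryTheory

namespace Groth.Agent.S19202.Aux

/-- Restriction of a global section. -/
noncomputable abbrev res {Y : Scheme.{u}} (c : Γ(Y, ⊤)) (U : Y.Opens) : Γ(Y, U) :=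
  Y.presheaf.map (homOfLE le_top).op c

theorem res_res {Y : Scheme.{u}} (c : Γ(Y, ⊤)) {U V : Y.Opens} (h : U ≤ V) :
    Y.presheaf.map (homOfLE h).op (res c V) = res c U := by
  rw [res, res, ← CommRingCat.comp_apply, ← Functor.map_comp]
  rfl

/-- The colon ideal sheaf. -/
noncomputable def colon {Y : Scheme.{u}} (K : Y.IdealSheafData) (c : Γ(Y, ⊤)) :
    Y.IdealSheafData where
  ideal U := Submodule.comap (LinearMap.mulLeft Γ(Y, U.1) (res c U.1)) (K.ideal U)
  map_ideal_basicOpen U g := by
    set ρ := (Y.presheaf.map (homOfLE <| Y.basicOpen_le g).op).hom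
    have hres : ρ (res c U.1) = res c (Y.basicOpen g) := res_res c _
    apply le_antisymm
    · rw [Ideal.map_le_iff_le_comap]
      intro a ha
      show res c (Y.basicOpen g) * ρ a ∈ K.ideal (Y.affineBasicOpen g)
      rw [← hres, ← map_mul, ← K.map_ideal_basicOpen U g]
      exact Ideal.mem_map_of_mem _ ha
    · intro b hb
      replace hb : res c (Y.basicOpen g) * b ∈ K.ideal (Y.affineBasicOpen g) := hb
      letI := ρ.toAlgebra
      haveI : IsLocalization.Away g Γ(Y, Y.basicOpen g) := U.2.isLocalization_basicOpen g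
      obtain ⟨⟨a, ⟨_, n, rfl⟩⟩, hab⟩ := IsLocalization.surj (Submonoid.powers g) b
      replace hab : b * ρ (g ^ n) = ρ a := hab
      have hu : IsUnit (ρ (g ^ n)) := by
        exact IsLocalization.map_units Γ(Y, Y.basicOpen g)
          (⟨g ^ n, n, rfl⟩ : Submonoid.powers g)
      have hca : ρ (res c U.1 * a) ∈ (K.ideal U).map ρ := by
        rw [K.map_ideal_basicOpen U g, map_mul, hres, ← hab, ← mul_assoc]
        exact Ideal.mul_mem_right _ _ hb
      obtain ⟨_, ⟨m, rfl⟩, hm⟩ :=
        (IsLocalization.algebraMap_mem_map_algebraMap_iff (Submonoid.powers g)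
          Γ(Y, Y.basicOpen g) (K.ideal U) _).1 hca
      rw [← (Ideal.unit_mul_mem_iff_mem _ hu), mul_comm, hab]
      have hu' : IsUnit (ρ (g ^ m)) := by
        exact IsLocalization.map_units Γ(Y, Y.basicOpen g)
          (⟨g ^ m, m, rfl⟩ : Submonoid.powers g)
      rw [← (Ideal.unit_mul_mem_iff_mem _ hu'), ← map_mul]
      refine Ideal.mem_map_of_mem _ ?_
      show res c U.1 * (g ^ m * a) ∈ K.ideal U
      rw [mul_left_comm]
      exact hm

variable (R : Type u) [CommRing R] [IsDedekindDomain R]

theorem eq_zero_of_smul {X : Scheme.{u}} (p : X ⟶ Spec (CommRingCat.of R)) [Flat p] (r : R)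
    (hr : r ≠ 0) (W : X.Opens) (s : Γ(X, W))
    (hs : res (p.appTop ((Scheme.ΓSpecIso (CommRingCat.of R)).inv r)) W * s = 0) : s = 0 := by
  refine X.sheaf.eq_of_locally_eq' (fun V : {V : X.affineOpens // V.1 ≤ W} => V.1.1) W
    (fun V => homOfLE V.2) ?_ _ _ fun V => ?_
  · intro x hx
    obtain ⟨_, ⟨V, hV, rfl⟩, hxV, hVW⟩ :=
      X.isBasis_affineOpens.exists_subset_of_mem_open hx W.2
    exact TopologicalSpace.Opens.mem_iSup.2 ⟨⟨⟨V, hV⟩, hVW⟩, hxV⟩
  · refine Eq.trans ?_ (map_zero _).symm
    let φ : R →+* Γ(X, V.1.1) :=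
      (p.appLE ⊤ V.1.1 le_top).hom.comp (Scheme.ΓSpecIso (CommRingCat.of R)).inv.hom
    have hφ : φ.Flat :=
      (RingHom.Flat.of_bijective (ConcreteCategory.bijective_of_isIso
        (Scheme.ΓSpecIso (CommRingCat.of R)).inv)).comp
        (HasRingHomProperty.appLE @Flat p inferInstance ⟨⊤, isAffineOpen_top _⟩ V.1 le_top)
    algebraize [φ]
    haveI : Module.IsTorsionFree R Γ(X, V.1.1) := inferInstance
    have h : φ r * X.presheaf.map (homOfLE V.2).op s = 0 := by
      have := congrArg (X.presheaf.map (homOfLE V.2).op) hs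
      rw [map_mul, map_zero, res_res] at this
      exact this
    have h' : r • (X.presheaf.map (homOfLE V.2).op s) = 0 := by
      rw [Algebra.smul_def]; exact h
    exact (smul_eq_zero.1 h').resolve_left hr

theorem flat_imageι {X Y : Scheme.{u}} (p : X ⟶ Spec (CommRingCat.of R))
    (q : Y ⟶ Spec (CommRingCat.of R)) (f : X ⟶ Y) (w : f ≫ q = p) [Flat p] :
    Flat (f.imageι ≫ q) := by
  have hsat : ∀ (r : R), r ≠ 0 →
      colon f.ker (q.appTop ((Scheme.ΓSpecIso (CommRingCat.of R)).inv r)) ≤ f.ker := by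
    intro r hr
    refine Scheme.IdealSheafData.le_ofIdeals_iff.2 fun U a ha => ?_
    replace ha := f.ideal_ker_le U ha
    rw [RingHom.mem_ker] at ha ⊢
    refine eq_zero_of_smul R p r hr _ _ ?_
    rw [← ha]
    show res (p.appTop _) _ * f.app U.1 a = f.app U.1 (res (q.appTop _) U.1 * a)
    rw [map_mul]
    congr 1
    subst w
    rw [res, res, ← CommRingCat.comp_apply (g := f.app U.1), f.naturality]
    rfl
  let ι := f.imageι
  rw [IsZariskiLocalAtSource.iff_of_iSup_eq_top (P := @Flat)
    (fun U : Y.affineOpens => ι ⁻¹ᵁ U.1)]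
  · intro U
    haveI : IsAffine (ι ⁻¹ᵁ U.1 : Scheme) := U.2.preimage (f.ker.subschemeι)
    rw [HasRingHomProperty.iff_of_isAffine (P := @Flat)]
    let φ : R →+* Γ(f.image, ι ⁻¹ᵁ U.1) :=
      ((ι ≫ q).appLE ⊤ (ι ⁻¹ᵁ U.1) le_top).hom.comp (Scheme.ΓSpecIso (CommRingCat.of R)).inv.hom
    have hφ : φ.Flat := by
      algebraize [φ]
      show Module.Flat R Γ(f.image, ι ⁻¹ᵁ U.1)
      rw [IsDedekindDomain.flat_iff_torsion_eq_bot, ← Submodule.isTorsionFree_iff_torsion_eq_bot]
      refine Module.IsTorsionFree.of_smul_eq_zero fun r s hrs => ?_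
      by_cases hr : r = 0
      · exact Or.inl hr
      right
      obtain ⟨a, rfl⟩ := f.ker.subschemeι_app_surjective U s
      rw [Algebra.smul_def] at hrs
      have hkey : ι.app U.1 (res (q.appTop ((Scheme.ΓSpecIso (CommRingCat.of R)).inv r)) U.1 * a) = 0 := by
        rw [map_mul]
        refine Eq.trans ?_ hrs
        congr 1
        rw [res, ← CommRingCat.comp_apply (g := ι.app U.1), ι.naturality]
        simp [φ, RingHom.algebraMap_toAlgebra, Scheme.Hom.appLE, Scheme.Hom.comp_app]
      have hmem : a ∈ (colon f.ker (q.appTop ((Scheme.ΓSpecIso (CommRingCat.of R)).inv r))).ideal U := by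
        show _ ∈ f.ker.ideal U
        rw [← f.ker.ker_subschemeι_app U]
        exact hkey
      have := hsat r hr U hmem
      rw [← f.ker.ker_subschemeι_app U] at this
      exact this
    have h2 := (RingHom.Flat.of_bijective (ConcreteCategory.bijective_of_isIso
        (Scheme.ΓSpecIso (CommRingCat.of R)).hom)).comp hφ
    have h3 : φ.comp (Scheme.ΓSpecIso (CommRingCat.of R)).hom.hom =
        ((ι ≫ q).appLE ⊤ (ι ⁻¹ᵁ U.1) le_top).hom := by
      rw [RingHom.comp_assoc, ← CommRingCat.hom_comp, Iso.hom_inv_id, CommRingCat.hom_id,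
        RingHom.comp_id]
    rw [h3] at h2
    have hR := (RingHom.toMorphismProperty_respectsIso_iff (P := fun f => RingHom.Flat f)).mp
      RingHom.Flat.respectsIso
    rw [Scheme.Hom.comp_appTop, Scheme.Opens.ι_appTop]
    have h4 := ((RingHom.toMorphismProperty fun f => RingHom.Flat f).cancel_right_of_respectsIso
      _ (f.image.presheaf.map (eqToHom (ι ⁻¹ᵁ U.1).ι_image_top).op)).2 h2
    simp only [Scheme.Hom.appLE, Category.assoc, ← Functor.map_comp] at h4
    exact h4
  · rw [← top_le_iff]
    intro x _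
    obtain ⟨_, ⟨U, hU, rfl⟩, hxU, -⟩ :=
      Y.isBasis_affineOpens.exists_subset_of_mem_open (Set.mem_univ (ι x)) isOpen_univ
    exact TopologicalSpace.Opens.mem_iSup.2 ⟨⟨U, hU⟩, hxU⟩

end Groth.Agent.S19202.Aux

namespace Groth.Agent.S19202

/-- Let R be a Dedekind domain, X and Y schemes over Spec R with X flat over Spec R, and f : X → Y a
morphism over Spec R. Then the scheme-theoretic image of f, i.e. the closed subscheme of Y cut out
by the kernel ideal sheaf of f, is flat over Spec R. (The published statement takes the base to be a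
non-singular curve and f proper; this row takes the spectrum of any Dedekind domain and any morphism
f over it.) -/
theorem result (R : Type u) [CommRing R] [IsDedekindDomain R]
    {X Y : Scheme.{u}} (p : X ⟶ Spec (CommRingCat.of R)) (q : Y ⟶ Spec (CommRingCat.of R))
    (f : X ⟶ Y) (w : f ≫ q = p) [Flat p] : Flat (f.imageι ≫ q) := by
  exact Aux.flat_imageι R p q f w

end Groth.Agent.S19202
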