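import Groth.Statements.S19203
import Groth.Agent.L13.NefGrowth.Main
-- import your own Groth.Agent.* helpers here

set_option autoImplicit false
universe u
open CategoryTheory AlgebraicGeometry
open Coh

namespace Groth.Agent.S19203

/-- Let X be a scheme proper over a field k with dim X = r, and L an invertible O_X-module generated by
its global sections. Then for each i ≥ 1 the dimensions dim_k H^i(X, L^{⊗n}) are O(n^{r-1}): there
is a real constant C with dim_k H^i(X, L^{⊗n}) ≤ C·n^{r-1} for every n ≥ 1. (For r = 0 the exponent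
r − 1 is read as 0; k is any field.) -/
theorem result (k : Type u) [Field k] (X : Scheme.{u})
    [X.Over (Spec (CommRingCat.of k))] [IsProper (X ↘ (Spec (CommRingCat.of k)))]
    (r : ℕ) (hdim : topologicalKrullDim X = r)
    (L : X.Modules) (hL : PicF.IsInvertible L) (hgen : Curv2.IsGloballyGenerated L)
    (i : ℕ) (hi : 1 ≤ i) :
    ∃ C : ℝ, ∀ n : ℕ, 1 ≤ n →
      (Module.finrank k (Coh.HH X (CohB1.tensorPow L n) i) : ℝ) ≤ C * (n : ℝ) ^ (r - 1) := by
  haveI := Groth.L21.RR.isNoetherian_of_proper (X := X) k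
  have hO : Coh.IsCoh (Coh.structureModule X) := Groth.L16.CohClosedPush.isCoh_structure
  obtain ⟨C, hC⟩ := Groth.L13.NefGrowth.bounded_dim (k := k) r X hdim.le L hL hgen _ hO i hi
  refine ⟨((C * 2 ^ (r - 1) : ℕ) : ℝ), fun n hn => ?_⟩
  have h : Module.finrank k (Coh.HH X (CohB1.tensorPow L n) i) ≤ C * Groth.L13.NefGrowth.bnd r n :=
    (Groth.L03.Euler.finrank_HH_of_iso (k := k) (Groth.L00.Tensor.tensorUnitLeft (CohB1.tensorPow L n)).symm i).trans_le (hC n)
  have hb : Groth.L13.NefGrowth.bnd r n ≤ 2 ^ (r - 1) * n ^ (r - 1) := by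
    cases r with
    | zero => exact Nat.zero_le _
    | succ s =>
      rw [← Nat.mul_pow]
      exact Nat.pow_le_pow_left (by omega) s
  have h2 := h.trans (Nat.mul_le_mul_left C hb)
  rw [← Nat.mul_assoc] at h2
  calc (Module.finrank k (Coh.HH X (CohB1.tensorPow L n) i) : ℝ)
      ≤ ((C * 2 ^ (r - 1) * n ^ (r - 1) : ℕ) : ℝ) := Nat.cast_le.2 h2
    _ = ((C * 2 ^ (r - 1) : ℕ) : ℝ) * (n : ℝ) ^ (r - 1) := by push_cast; ring

end Groth.Agent.S19203
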