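import Groth.Statements.S19204
import Groth.Agent.L21.Duality.SpecialApps
import Groth.Agent.L26.Weil.Axes

set_option autoImplicit false
set_option backward.isDefEq.respectTransparency false
universe u
open CategoryTheory AlgebraicGeometry
open Curves

namespace Groth.Agent.S19204

/-- Let C be a smooth projective curve of genus g ≥ 1 over an algebraically closed field k (an integral
scheme, proper over k, of dimension one, all local rings regular) and d an integer with d > 2g. For
every invertible O_C-module M of degree d' ≤ d having at least m + 1 linearly independent global
sections with m ≥ 1, and with d' < d or m < d − g, one has d·m < d'·(d − g). Linear stability of C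
mapped to P^{d−g} by all sections of a line bundle of degree d, which is what the published
statement asserts, follows from this inequality: a projection of that image to P^m has image cycle
of degree d' = deg M for such an M, so its reduced degree d'/m exceeds d/(d − g); linear stability
itself (reduced degrees of projections of an embedded variety) is not formalized here. -/
theorem result (k : Type u) [Field k] [IsAlgClosed k] (X : Scheme.{u})
    [X.Over (Spec (CommRingCat.of k))] [IsIntegral X] [IsProper (X ↘ (Spec (CommRingCat.of k)))]
    (hdim : topologicalKrullDim X = 1) (hreg : ∀ x : X, IsRegularLocalRing (X.presheaf.stalk x))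
    (hg : 1 ≤ Curv2.genus k X) (d : ℤ) (hd : 2 * (Curv2.genus k X : ℤ) < d)
    (M : X.Modules) (hM : PicF.IsInvertible M) (m : ℕ) (hm : 1 ≤ m)
    (hsec : m + 1 ≤ Module.finrank k (Coh.HH X M 0)) (hdeg : Curv2.deg k X M 1 ≤ d)
    (hlt : Curv2.deg k X M 1 < d ∨ (m : ℤ) < d - Curv2.genus k X) :
    d * (m : ℤ) < Curv2.deg k X M 1 * (d - Curv2.genus k X) := by
  haveI : Smooth (X ↘ Spec (CommRingCat.of k)) :=
    Groth.L26.Weil.smooth_of_regular_closed (X ↘ Spec (CommRingCat.of k)) fun x _ => hreg x
  exact (Groth.L21.Duality.linearly_semistable (k := k) hdim (Groth.L21.RR.h0_eq_one_of_isAlgClosed k) d (le_of_lt hd)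
    hM m hm hsec hdeg).2 hd hg hlt

end Groth.Agent.S19204
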