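import Groth.Statements.S19207
import Groth.Agent.L5.DoublePoint.Count
import Mathlib.Analysis.SpecificLimits.Basic

set_option autoImplicit false
universe u
open Filter
open LocAlg

namespace Groth.Agent.S19207

/-- Let k be a field and n ≥ 3, and let A = k[[x, y, t]]/(x^2 − y^n), the power-series ring in t over
the higher double point O = k[[x, y]]/(x^2 − y^n), a two-dimensional local ring. The ideal I = (x^2,
xy, y^2, xt, yt^2, t^4) of A has length(A/I) = 7 and Samuel multiplicity e(I) = 16, in the sense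
that 2·length(A/I^m)/m^2 tends to 16. Hence e(I)/(2!·length(A/I)) = 8/7, which gives the bound
e_1(O) ≥ 8/7 for the first flat multiplicity of a higher double point (the supremum of
e(I)/(2!·length(A/I)) over ideals of finite colength of A = O[[t]]). Here x, y, t are the
power-series variables indexed 0, 1, 2. -/
theorem result (k : Type u) [Field k] (n : ℕ) (hn : 3 ≤ n)
    (I : Ideal (MvPowerSeries (Fin 3) k ⧸ Ideal.span {(MvPowerSeries.X 0 ^ 2 - MvPowerSeries.X 1 ^ n : MvPowerSeries (Fin 3) k)}))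
    (hI : I = Ideal.map (Ideal.Quotient.mk (Ideal.span {(MvPowerSeries.X 0 ^ 2 - MvPowerSeries.X 1 ^ n : MvPowerSeries (Fin 3) k)}))
      (Ideal.span {(MvPowerSeries.X 0 ^ 2 : MvPowerSeries (Fin 3) k), MvPowerSeries.X 0 * MvPowerSeries.X 1,
        MvPowerSeries.X 1 ^ 2, MvPowerSeries.X 0 * MvPowerSeries.X 2,
        MvPowerSeries.X 1 * MvPowerSeries.X 2 ^ 2, MvPowerSeries.X 2 ^ 4})) :
    Module.length (MvPowerSeries (Fin 3) k ⧸ Ideal.span {(MvPowerSeries.X 0 ^ 2 - MvPowerSeries.X 1 ^ n : MvPowerSeries (Fin 3) k)}) ((MvPowerSeries (Fin 3) k ⧸ Ideal.span {(MvPowerSeries.X 0 ^ 2 - MvPowerSeries.X 1 ^ n : MvPowerSeries (Fin 3) k)}) ⧸ I) = 7 ∧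
      Tendsto (fun m : ℕ => (2 : ℝ) * ((Module.length (MvPowerSeries (Fin 3) k ⧸ Ideal.span {(MvPowerSeries.X 0 ^ 2 - MvPowerSeries.X 1 ^ n : MvPowerSeries (Fin 3) k)}) ((MvPowerSeries (Fin 3) k ⧸ Ideal.span {(MvPowerSeries.X 0 ^ 2 - MvPowerSeries.X 1 ^ n : MvPowerSeries (Fin 3) k)}) ⧸ I ^ m)).toNat : ℝ) / (m : ℝ) ^ 2)
        atTop (nhds 16) := by
  have key := Groth.L5.DoublePoint.length_quot hn I hI
  refine ⟨?_, ?_⟩
  · refine ((Submodule.quotEquivOfEq I (I ^ 1) (pow_one I).symm).length_eq).trans ((key 1).trans ?_)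
    rw [Groth.L5.DoublePoint.card_D]
    rfl
  · have hev : (fun m : ℕ => (16 : ℝ) - 4 * (m : ℝ)⁻¹ + 2 * (m : ℝ)⁻¹ ^ 2) =ᶠ[atTop]
        fun m : ℕ => (2 : ℝ) * ((Module.length (MvPowerSeries (Fin 3) k ⧸ Ideal.span {(MvPowerSeries.X 0 ^ 2 - MvPowerSeries.X 1 ^ n : MvPowerSeries (Fin 3) k)}) ((MvPowerSeries (Fin 3) k ⧸ Ideal.span {(MvPowerSeries.X 0 ^ 2 - MvPowerSeries.X 1 ^ n : MvPowerSeries (Fin 3) k)}) ⧸ I ^ m)).toNat : ℝ) / (m : ℝ) ^ 2 := by
      filter_upwards [eventually_gt_atTop 0] with m hm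
      have hl : Module.length (MvPowerSeries (Fin 3) k ⧸ Ideal.span {(MvPowerSeries.X 0 ^ 2 - MvPowerSeries.X 1 ^ n : MvPowerSeries (Fin 3) k)}) ((MvPowerSeries (Fin 3) k ⧸ Ideal.span {(MvPowerSeries.X 0 ^ 2 - MvPowerSeries.X 1 ^ n : MvPowerSeries (Fin 3) k)}) ⧸ I ^ m) = ((Groth.L5.DoublePoint.D m).card : ℕ∞) := key m
      rw [hl, ENat.toNat_natCast, Groth.L5.DoublePoint.card_D]
      have h1 : 1 ≤ 2 * m := by omega
      have hm' : (m : ℝ) ≠ 0 := by positivity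
      push_cast [Nat.cast_sub h1]
      field_simp
      ring
    refine Filter.Tendsto.congr' hev ?_
    have h0 : Tendsto (fun m : ℕ => (m : ℝ)⁻¹) atTop (nhds 0) := tendsto_natCast_atTop_atTop.inv_tendsto_atTop
    simpa using (tendsto_const_nhds.sub (h0.const_mul (4 : ℝ))).add ((h0.pow 2).const_mul (2 : ℝ))

end Groth.Agent.S19207
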