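import Groth.Statements.S19208
import Groth.Agent.L01.Samuel

set_option autoImplicit false
universe u
open Filter
open LocAlg

namespace Groth.Agent.S19208

/-- Let O be a Noetherian local ring of Krull dimension r containing a field, with maximal ideal m. The
zeroth flat multiplicity e_0(O), the supremum over m-primary ideals I of e(I)/(r!·length(O/I)) with
e(I) the Samuel multiplicity, is at least 1: for every ε > 0 there is an m-primary ideal I (I ⊆ m,
m^N ⊆ I for some N) whose multiplicity e(I), the limit of r!·length(O/I^n)/n^r, satisfies e(I) ≥ (1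
− ε)·r!·length(O/I). (The same statement for the power-series rings O[[t_1, …, t_k]] is the bound
e_k(O) ≥ 1 for the k-th flat multiplicity.) -/
theorem result (O : Type u) [CommRing O] [IsNoetherianRing O]
    [IsLocalRing O] (K : Type u) [Field K] [Algebra K O] (r : ℕ) (hr : ringKrullDim O = r)
    (ε : ℝ) (hε : 0 < ε) :
    ∃ (I : Ideal O) (e : ℝ), I ≤ IsLocalRing.maximalIdeal O ∧
      (∃ N : ℕ, IsLocalRing.maximalIdeal O ^ N ≤ I) ∧
      Tendsto (fun n : ℕ => (r.factorial : ℝ) * ((Module.length O (O ⧸ I ^ n)).toNat : ℝ) / (n : ℝ) ^ r)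
        atTop (nhds e) ∧
      (1 - ε) * ((r.factorial : ℝ) * ((Module.length O (O ⧸ I)).toNat : ℝ)) ≤ e := by
  obtain ⟨e, he0, -, hpos, he⟩ := Groth.L01.Samuel.exists_tendsto O (I := IsLocalRing.maximalIdeal O)
    ⟨le_rfl, 1, by rw [pow_one]⟩ (d := r) (by rw [Module.supportDim_self_eq_ringKrullDim, hr])
  have hepos : 0 < e := hpos (by rw [Module.supportDim_self_eq_ringKrullDim, hr])
  have hL : ∀ n, Groth.L06.HilbertSamuel.hs (IsLocalRing.maximalIdeal O) O n =
      (Module.length O (O ⧸ IsLocalRing.maximalIdeal O ^ n)).toNat := fun n => by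
    show (Module.length O (O ⧸ (IsLocalRing.maximalIdeal O ^ n • (⊤ : Submodule O O)))).toNat = _
    rw [(Submodule.quotEquivOfEq _ _ (by rw [smul_eq_mul, Ideal.mul_top])).length_eq]
  obtain ⟨N, hN⟩ : ∃ N : ℕ, 0 < N ∧ (1 - ε) * ((Groth.L06.HilbertSamuel.hs (IsLocalRing.maximalIdeal O) O N : ℝ) / (N : ℝ) ^ r) ≤ e := by
    have h : ∀ᶠ n : ℕ in atTop, (1 - ε) * ((Groth.L06.HilbertSamuel.hs (IsLocalRing.maximalIdeal O) O n : ℝ) / (n : ℝ) ^ r) ≤ e :=
      (he.const_mul (1 - ε)).eventually (Iic_mem_nhds (by nlinarith))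
    exact ((eventually_gt_atTop 0).and h).exists
  refine ⟨IsLocalRing.maximalIdeal O ^ N, (r.factorial : ℝ) * ((N : ℝ) ^ r * e), Ideal.pow_le_self (by omega),
    ⟨N, le_rfl⟩, ?_, ?_⟩
  · have hNt : Tendsto (fun n : ℕ => N * n) atTop atTop :=
      tendsto_atTop_mono (fun n => Nat.le_mul_of_pos_left n hN.1) tendsto_id
    refine ((((he.comp hNt).const_mul ((N : ℝ) ^ r)).const_mul (r.factorial : ℝ))).congr'
      ((eventually_ne_atTop 0).mono fun n hn => ?_)
    have : (N : ℝ) ^ r ≠ 0 := pow_ne_zero _ (Nat.cast_ne_zero.mpr (by omega))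
    have : (n : ℝ) ^ r ≠ 0 := pow_ne_zero _ (Nat.cast_ne_zero.mpr hn)
    simp only [Function.comp_apply]
    rw [hL, ← pow_mul, Nat.cast_mul, mul_pow]
    field_simp
  · rw [← hL, mul_left_comm]
    refine mul_le_mul_of_nonneg_left ?_ (Nat.cast_nonneg _)
    have hNp : (0 : ℝ) < (N : ℝ) ^ r := pow_pos (Nat.cast_pos.mpr hN.1) r
    have h2 := hN.2
    rw [← mul_div_assoc, div_le_iff₀ hNp] at h2
    linarith

end Groth.Agent.S19208
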