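import Groth.Statements.S19210
import Mathlib.Data.Real.Basic
import Mathlib.Algebra.BigOperators.Ring.Finset
import Mathlib.Analysis.SpecificLimits.Basic
import Mathlib.Tactic.FieldSimp
import Mathlib.Tactic.GCongr

set_option autoImplicit false
universe u
open LocAlg

namespace Groth.Agent.S19210

/-- For natural numbers j ≤ r, the sums Σ_{i=0}^{n−1} (n − i)^{r−j} i^j equal n^{r+1}·(r − j)!·j!/(r +
1)! up to O(n^r): there is a real constant C with |Σ_{i<n} (n − i)^{r−j} i^j − ((r − j)!·j!/(r +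
1)!)·n^{r+1}| ≤ C·n^r for all n ≥ 1. -/
theorem result (r j : ℕ) (hj : j ≤ r) :
    ∃ C : ℝ, ∀ n : ℕ, 1 ≤ n →
      |(∑ i ∈ Finset.range n, ((n : ℝ) - (i : ℝ)) ^ (r - j) * (i : ℝ) ^ j) -
          ((r - j).factorial : ℝ) * (j.factorial : ℝ) / ((r + 1).factorial : ℝ) * (n : ℝ) ^ (r + 1)| ≤
        C * (n : ℝ) ^ r := by
  have base : ∀ m : ℕ, ∃ C : ℝ, 0 ≤ C ∧ ∀ n : ℕ, |(∑ i ∈ Finset.range n, (i : ℝ) ^ m) - (n : ℝ) ^ (m + 1) / (m + 1)| ≤ C * (n : ℝ) ^ m := by
    intro m
    refine ⟨1, zero_le_one, fun n => ?_⟩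
    have hup : (m + 1 : ℝ) * ∑ i ∈ Finset.range n, (i : ℝ) ^ m ≤ (n : ℝ) ^ (m + 1) := by
      induction n with
      | zero => simp
      | succ n ih =>
        have h := one_add_mul_le_pow (a := (1 : ℝ) / (n : ℝ)) (by
          have : (0 : ℝ) ≤ 1 / n := by positivity
          linarith) (m + 1)
        rw [Finset.sum_range_succ, mul_add]
        rcases Nat.eq_zero_or_pos n with rfl | hn
        · cases m <;> simp
        have hn' : (0 : ℝ) < n := by exact_mod_cast hn
        have h2 := mul_le_mul_of_nonneg_left h (pow_nonneg hn'.le (m + 1))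
        rw [← mul_pow] at h2
        simp only [mul_add, mul_one, mul_one_div_cancel hn'.ne'] at h2
        push_cast at h2 ⊢
        have h3 : (n : ℝ) ^ (m + 1) * ((m + 1) * (1 / n)) = (m + 1) * (n : ℝ) ^ m := by
          field_simp
          ring
        linarith
    have hlow : (n : ℝ) ^ (m + 1) ≤ (m + 1 : ℝ) * ∑ i ∈ Finset.range (n + 1), (i : ℝ) ^ m := by
      clear hup
      induction n with
      | zero => simp; positivity
      | succ n ih =>
        have hn' : (0 : ℝ) < n + 1 := by positivity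
        have h := one_add_mul_le_pow (a := -(1 : ℝ) / ((n : ℝ) + 1)) (by
          have : (1 : ℝ) / ((n : ℝ) + 1) ≤ 1 := by rw [div_le_one hn']; linarith
          rw [neg_div]; linarith) (m + 1)
        have h2 := mul_le_mul_of_nonneg_left h (pow_nonneg hn'.le (m + 1))
        rw [← mul_pow] at h2
        simp only [mul_add, mul_one, mul_div_cancel₀ _ hn'.ne', add_neg_cancel_right] at h2
        rw [Finset.sum_range_succ, mul_add]
        push_cast at h2 ⊢
        have h3 : ((n : ℝ) + 1) ^ (m + 1) * ((m + 1) * (-1 / (n + 1))) = -((m + 1) * ((n : ℝ) + 1) ^ m) := by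
          field_simp
          ring
        linarith
    rw [Finset.sum_range_succ, mul_add] at hlow
    have hm : (0 : ℝ) < m + 1 := by positivity
    have hd : (m + 1 : ℝ) * ((n : ℝ) ^ (m + 1) / (m + 1)) = (n : ℝ) ^ (m + 1) := mul_div_cancel₀ _ hm.ne'
    have hn0 : (0 : ℝ) ≤ (n : ℝ) ^ m := by positivity
    rw [one_mul, abs_le]
    constructor <;> nlinarith
  have main : ∀ a j : ℕ, ∃ C : ℝ, 0 ≤ C ∧ ∀ n : ℕ,
      |(∑ i ∈ Finset.range n, ((n : ℝ) - (i : ℝ)) ^ a * (i : ℝ) ^ j) -
          (a.factorial : ℝ) * (j.factorial : ℝ) / ((a + j + 1).factorial : ℝ) * (n : ℝ) ^ (a + j + 1)| ≤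
        C * (n : ℝ) ^ (a + j) := by
    intro a
    induction a with
    | zero =>
      intro j
      obtain ⟨C, hC, h⟩ := base j
      refine ⟨C, hC, fun n => ?_⟩
      convert h n using 2
      · congr 1
        · simp
        · rw [Nat.zero_add, Nat.factorial_succ, Nat.factorial_zero]
          push_cast
          field_simp
      · rw [Nat.zero_add]
    | succ a ih =>
      intro j
      obtain ⟨C₁, hC₁, h₁⟩ := ih j
      obtain ⟨C₂, hC₂, h₂⟩ := ih (j + 1)
      refine ⟨C₁ + C₂, add_nonneg hC₁ hC₂, fun n => ?_⟩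
      have hs : (∑ i ∈ Finset.range n, ((n : ℝ) - i) ^ (a + 1) * (i : ℝ) ^ j) =
          (n : ℝ) * (∑ i ∈ Finset.range n, ((n : ℝ) - i) ^ a * (i : ℝ) ^ j) -
            ∑ i ∈ Finset.range n, ((n : ℝ) - i) ^ a * (i : ℝ) ^ (j + 1) := by
        rw [Finset.mul_sum, ← Finset.sum_sub_distrib]
        exact Finset.sum_congr rfl fun i _ => by ring
      have hL : ((a + 1).factorial : ℝ) * (j.factorial : ℝ) / ((a + 1 + j + 1).factorial : ℝ) * (n : ℝ) ^ (a + 1 + j + 1) =
          (n : ℝ) * ((a.factorial : ℝ) * (j.factorial : ℝ) / ((a + j + 1).factorial : ℝ) * (n : ℝ) ^ (a + j + 1)) -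
            (a.factorial : ℝ) * ((j + 1).factorial : ℝ) / ((a + (j + 1) + 1).factorial : ℝ) * (n : ℝ) ^ (a + (j + 1) + 1) := by
        rw [show a + 1 + j + 1 = (a + j + 1) + 1 by ring, show a + (j + 1) + 1 = (a + j + 1) + 1 by ring,
          Nat.factorial_succ a, Nat.factorial_succ j, Nat.factorial_succ (a + j + 1), pow_succ]
        push_cast
        field_simp
        ring
      rw [hs, hL]
      have e1 : (n : ℝ) ^ (a + 1 + j) = n * (n : ℝ) ^ (a + j) := by rw [show a + 1 + j = a + j + 1 by ring, pow_succ']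
      have e2 : (n : ℝ) ^ (a + (j + 1)) = n * (n : ℝ) ^ (a + j) := by rw [← Nat.add_assoc, pow_succ']
      have h₁' := mul_le_mul_of_nonneg_left (h₁ n) (Nat.cast_nonneg (α := ℝ) n)
      have h₂' := h₂ n
      rw [e2] at h₂'
      rw [e1]
      calc _ = |(n : ℝ) * ((∑ i ∈ Finset.range n, ((n : ℝ) - i) ^ a * (i : ℝ) ^ j) -
              (a.factorial : ℝ) * (j.factorial : ℝ) / ((a + j + 1).factorial : ℝ) * (n : ℝ) ^ (a + j + 1)) -
            ((∑ i ∈ Finset.range n, ((n : ℝ) - i) ^ a * (i : ℝ) ^ (j + 1)) -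
              (a.factorial : ℝ) * ((j + 1).factorial : ℝ) / ((a + (j + 1) + 1).factorial : ℝ) * (n : ℝ) ^ (a + (j + 1) + 1))| :=
            congrArg abs (by ring)
        _ ≤ _ := by
          refine (abs_sub _ _).trans ?_
          rw [abs_mul, Nat.abs_cast]
          nlinarith
  obtain ⟨C, -, hC⟩ := main (r - j) j
  rw [Nat.sub_add_cancel hj] at hC
  exact ⟨C, fun n _ => hC n⟩

end Groth.Agent.S19210
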