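import Groth.Statements.S19212
import Groth.Agent.L08.Diag.Forms
import Mathlib.LinearAlgebra.TensorProduct.Associator
import Mathlib.Tactic.Module
import Mathlib.Tactic.LinearCombination

set_option autoImplicit false
universe u v
open TensorProduct
open DiagIdeal

namespace Groth.Agent.S19212

/-- Let k be an algebraically closed field of characteristic zero and A a smooth k-algebra which is a
domain. Let the symmetric group on three letters permute the factors of A ⊗ A ⊗ A (it is generated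
by the swap of the first two factors and the swap of the last two), let r : A ⊗ (A ⊗ A) → A ⊗ A be
the k-linear map a ⊗ b ⊗ c ↦ ab ⊗ c, and let D : A ⊗ A → Ω_{A/k} be the k-linear map a ⊗ b ↦ 2a·db −
b·da. Then an element y of A ⊗ A satisfies D y = 0 if and only if y = r x for some x fixed by both
swaps, and D is surjective. (This is exactness at the last two places of the four-term right
resolution of the invariants of the ideal of the big diagonal on the symmetric cube of X = Spec A,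
namely invariant functions on X³, then functions on X × X through restriction to a diagonal, then
one-forms on X; exactness at the first two places is immediate. The published statement is the sheaf
version on the symmetric cube of a smooth complex variety of any dimension; an algebraically closed
field of characteristic zero is used here.) -/
theorem result (k : Type u) [Field k] [IsAlgClosed k] [CharZero k]
    (A : Type v) [CommRing A] [Algebra k A] [Algebra.Smooth k A] [IsDomain A]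
    (r : A ⊗[k] (A ⊗[k] A) →ₗ[k] A ⊗[k] A)
    (hr : ∀ a b c : A, r (a ⊗ₜ[k] (b ⊗ₜ[k] c)) = (a * b) ⊗ₜ[k] c)
    (D : A ⊗[k] A →ₗ[k] Ω[A⁄k])
    (hD : ∀ a b : A, D (a ⊗ₜ[k] b) = (2 : A) • (a • KaehlerDifferential.D k A b) - b • KaehlerDifferential.D k A a) :
    (∀ y : A ⊗[k] A, D y = 0 ↔ ∃ x : A ⊗[k] (A ⊗[k] A),
        TensorProduct.leftComm k A A A x = x ∧
        LinearMap.lTensor A (TensorProduct.comm k A A).toLinearMap x = x ∧ r x = y) ∧
    Function.Surjective D := by
  have h3 : (3 : k) ≠ 0 := by norm_num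
  set τ₁ : A ⊗[k] (A ⊗[k] A) →ₗ[k] A ⊗[k] (A ⊗[k] A) :=
    (TensorProduct.leftComm k A A A).toLinearMap with hτ₁
  set τ₂ : A ⊗[k] (A ⊗[k] A) →ₗ[k] A ⊗[k] (A ⊗[k] A) :=
    LinearMap.lTensor A (TensorProduct.comm k A A).toLinearMap with hτ₂
  let S : Submodule k (A ⊗[k] A) :=
    (LinearMap.eqLocus τ₁ LinearMap.id ⊓ LinearMap.eqLocus τ₂ LinearMap.id).map r
  refine ⟨fun y => ⟨fun hy => ?_, ?_⟩, fun ω => ?_⟩
  · have hG : ∀ a b c : A, (a * b) ⊗ₜ[k] c + (b * c) ⊗ₜ[k] a + (c * a) ⊗ₜ[k] b ∈ S := by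
      intro a b c
      refine ⟨(2⁻¹ : k) • (a ⊗ₜ (b ⊗ₜ c) + a ⊗ₜ (c ⊗ₜ b) + b ⊗ₜ (a ⊗ₜ c) + b ⊗ₜ (c ⊗ₜ a)
        + c ⊗ₜ (a ⊗ₜ b) + c ⊗ₜ (b ⊗ₜ a)), ⟨?_, ?_⟩, ?_⟩
      · simp [hτ₁]; module
      · simp [hτ₂]; module
      · simp [hr]
        rw [mul_comm b a, mul_comm a c, mul_comm c b]
        module
    let q : A ⊗[k] A →ₗ[k] (A ⊗[k] A) ⧸ S := S.mkQ
    let m1 : A ⊗[k] A →ₗ[k] A ⊗[k] A := ((TensorProduct.mk k A A).flip 1) ∘ₗ LinearMap.mul' k A
    let φ : A ⊗[k] A →ₗ[k] (A ⊗[k] A) ⧸ S := (3⁻¹ : k) • (q ∘ₗ (LinearMap.id - m1))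
    have hφ : ∀ a b : A, φ (a ⊗ₜ b) = (3⁻¹ : k) • (q (a ⊗ₜ b) - q ((a * b) ⊗ₜ 1)) := fun a b => by
      simp [φ, m1, smul_sub]
    have hswap : ∀ a b : A, q (b ⊗ₜ a) = -q (a ⊗ₜ b) - q ((a * b) ⊗ₜ 1) := fun a b => by
      have := (Submodule.Quotient.mk_eq_zero S).2 (hG a b 1)
      simp only [mul_one, one_mul, Submodule.Quotient.mk_add] at this
      change (Submodule.Quotient.mk (b ⊗ₜ[k] a) : _ ⧸ S) = -Submodule.Quotient.mk (a ⊗ₜ[k] b)
        - Submodule.Quotient.mk ((a * b) ⊗ₜ[k] 1)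
      linear_combination (norm := module) this
    obtain ⟨Φ, hΦ⟩ := Groth.L08.Diag.exists_lift φ (fun a b c => by
      have := (Submodule.Quotient.mk_eq_zero S).2 (hG a b c)
      simp only [Submodule.Quotient.mk_add] at this
      have h2 := hswap a (b * c)
      rw [hφ, hφ, hφ, ← smul_add]
      congr 1
      simp only [q, Submodule.mkQ_apply, ← mul_assoc, mul_comm c a, mul_right_comm a c b] at this h2 ⊢
      linear_combination (norm := module) h2 - this)
    have key : Φ ∘ₗ D = q := TensorProduct.ext' fun a b => by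
      rw [LinearMap.comp_apply, hD, two_smul, map_sub, map_add, hΦ, hΦ, hφ, hφ, hswap a b,
        mul_comm b a]
      have e : q (a ⊗ₜ[k] b) = ((3⁻¹ : k) * 3) • q (a ⊗ₜ[k] b) := by
        rw [inv_mul_cancel₀ h3, one_smul]
      linear_combination (norm := module) -e
    have hy0 : q y = 0 := by rw [← key, LinearMap.comp_apply, hy, map_zero]
    obtain ⟨x, ⟨hx1, hx2⟩, hx⟩ := (Submodule.Quotient.mk_eq_zero S).1 hy0
    exact ⟨x, hx1, hx2, hx⟩
  · rintro ⟨x, hx1, hx2, rfl⟩
    have h0 : D ∘ₗ r + D ∘ₗ r ∘ₗ (τ₁ ∘ₗ τ₂) + D ∘ₗ r ∘ₗ (τ₁ ∘ₗ τ₂) ∘ₗ (τ₁ ∘ₗ τ₂) = 0 := by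
      refine TensorProduct.ext' fun a z => ?_
      induction z using TensorProduct.induction_on with
      | zero => simp
      | add z w hz hw => rw [tmul_add, map_add, hz, hw, map_add]
      | tmul b c =>
        simp [hτ₁, hτ₂, hr, hD, Derivation.leibniz, smul_smul, smul_add]
        match_scalars <;> ring
    have h1 := LinearMap.congr_fun h0 x
    simp only [LinearMap.add_apply, LinearMap.comp_apply, hx2, LinearMap.zero_apply] at h1
    rw [show τ₁ x = x from hx1] at h1
    simp only [hx2, show τ₁ x = x from hx1] at h1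
    have h2 : (3 : k) • D (r x) = 0 := by linear_combination (norm := module) h1
    exact (smul_eq_zero.1 h2).resolve_left h3
  · have : (⊤ : Submodule k Ω[A⁄k]) ≤ LinearMap.range D := by
      rw [← Groth.L08.Diag.span_smul_D, Submodule.span_le]
      rintro _ ⟨⟨a, b⟩, rfl⟩
      refine ⟨(3⁻¹ : k) • ((2 : k) • a ⊗ₜ b + b ⊗ₜ a), ?_⟩
      rw [map_smul, map_add, map_smul, hD, hD, two_smul A, two_smul A]
      have e : a • KaehlerDifferential.D k A b = ((3⁻¹ : k) * 3) • a • KaehlerDifferential.D k A b := by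
        rw [inv_mul_cancel₀ h3, one_smul]
      linear_combination (norm := (match_scalars <;> simp [map_ofNat] <;> ring)) -e
    exact this trivial

end Groth.Agent.S19212
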