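import Groth.Statements.S19213
import Groth.Agent.L08.Diag.Forms
import Mathlib.LinearAlgebra.TensorProduct.Associator
import Mathlib.Tactic.Module
import Mathlib.Tactic.LinearCombination

set_option autoImplicit false
universe u v
open TensorProduct
open DiagIdeal

namespace Groth.Agent.S19213

/-- Let k be an algebraically closed field of characteristic zero and A a smooth k-algebra which is a
domain. Let r₁₂, r₂₃ : A ⊗ (A ⊗ A) → A ⊗ A be the k-linear maps a ⊗ u ⊗ v ↦ au ⊗ v and a ⊗ u ⊗ v ↦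
uv ⊗ a (restriction to the diagonal of factors 1, 2, resp. 2, 3, the repeated coordinate written
first), let m : A ⊗ A → A be multiplication, and let ψ : (A ⊗ A) × (A ⊗ A) → Ω_{A/k} be the k-linear
map with ψ(a ⊗ u, b ⊗ v) = 2a·du − v·db. Then for p, q in A ⊗ A with m p = m q one has ψ(p, q) = 0
if and only if (p, q) = (r₁₂ x, r₂₃ x) for some x fixed by the swap of the last two tensor factors;
and every element of Ω_{A/k} is ψ(p, q) for some pair with m p = m q. (This is exactness at the last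
two places of the right resolution, on the symmetric cube of X = Spec A, of the invariants of the
ideal of the big diagonal under the transposition of the last two factors; exactness at the first
two places is immediate. The published statement is the sheaf version for a smooth complex variety
of any dimension; an algebraically closed field of characteristic zero is used here.) -/
theorem result (k : Type u) [Field k] [IsAlgClosed k] [CharZero k]
    (A : Type v) [CommRing A] [Algebra k A] [Algebra.Smooth k A] [IsDomain A]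
    (r₁₂ r₂₃ : A ⊗[k] (A ⊗[k] A) →ₗ[k] A ⊗[k] A)
    (h₁₂ : ∀ a u v : A, r₁₂ (a ⊗ₜ[k] (u ⊗ₜ[k] v)) = (a * u) ⊗ₜ[k] v)
    (h₂₃ : ∀ a u v : A, r₂₃ (a ⊗ₜ[k] (u ⊗ₜ[k] v)) = (u * v) ⊗ₜ[k] a)
    (ψ : (A ⊗[k] A) × (A ⊗[k] A) →ₗ[k] Ω[A⁄k])
    (hψ : ∀ a u b v : A, ψ (a ⊗ₜ[k] u, b ⊗ₜ[k] v) =
      (2 : A) • (a • KaehlerDifferential.D k A u) - v • KaehlerDifferential.D k A b) :
    (∀ p q : A ⊗[k] A, LinearMap.mul' k A p = LinearMap.mul' k A q →
      (ψ (p, q) = 0 ↔ ∃ x : A ⊗[k] (A ⊗[k] A),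
        LinearMap.lTensor A (TensorProduct.comm k A A).toLinearMap x = x ∧ r₁₂ x = p ∧ r₂₃ x = q)) ∧
    (∀ ω : Ω[A⁄k], ∃ p q : A ⊗[k] A, LinearMap.mul' k A p = LinearMap.mul' k A q ∧ ψ (p, q) = ω) := by
  have h2 : (2 : k) ≠ 0 := by norm_num
  set τ : A ⊗[k] (A ⊗[k] A) →ₗ[k] A ⊗[k] (A ⊗[k] A) :=
    LinearMap.lTensor A (TensorProduct.comm k A A).toLinearMap with hτ
  let S : Submodule k ((A ⊗[k] A) × (A ⊗[k] A)) :=
    (LinearMap.eqLocus τ LinearMap.id).map (r₁₂.prod r₂₃)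
  refine ⟨fun p q hpq => ⟨fun hψ0 => ?_, ?_⟩, fun ω => ?_⟩
  · have hG : ∀ a u v : A, ((a * u) ⊗ₜ[k] v + (a * v) ⊗ₜ[k] u,
        (u * v) ⊗ₜ[k] a + (u * v) ⊗ₜ[k] a) ∈ S := by
      intro a u v
      refine ⟨a ⊗ₜ (u ⊗ₜ v) + a ⊗ₜ (v ⊗ₜ u), ?_, ?_⟩
      · simp [hτ]; abel
      · simp [h₁₂, h₂₃, mul_comm v u]
    let Qm := S.mkQ
    let m1 : A ⊗[k] A →ₗ[k] A ⊗[k] A := ((TensorProduct.mk k A A).flip 1) ∘ₗ LinearMap.mul' k A
    let i1 := LinearMap.inl k (A ⊗[k] A) (A ⊗[k] A)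
    let i2 := LinearMap.inr k (A ⊗[k] A) (A ⊗[k] A)
    let φ : A ⊗[k] A →ₗ[k] _ ⧸ S := (2⁻¹ : k) • (Qm ∘ₗ i1 ∘ₗ (LinearMap.id - m1))
    have hφ : ∀ a b : A, φ (a ⊗ₜ b) = (2⁻¹ : k) •
        (Qm (i1 (a ⊗ₜ b)) - Qm (i1 ((a * b) ⊗ₜ 1))) := fun a b => by
      simp [φ, m1, smul_sub]
    have hG' : ∀ a u v : A, Qm (i1 ((a * u) ⊗ₜ[k] v)) + Qm (i1 ((a * v) ⊗ₜ[k] u))
        + (Qm (i2 ((u * v) ⊗ₜ[k] a)) + Qm (i2 ((u * v) ⊗ₜ[k] a))) = 0 := fun a u v => by
      simp only [← map_add]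
      refine (Submodule.Quotient.mk_eq_zero S).2 ?_
      convert hG a u v using 1
      simp [i1, i2]
    obtain ⟨Φ, hΦ⟩ := Groth.L08.Diag.exists_lift φ (fun a b c => by
      have e1 := hG' a b c
      have e2 := hG' a (b * c) 1
      simp only [mul_one] at e2
      rw [hφ, hφ, hφ, ← smul_add]
      congr 1
      simp only [← mul_assoc, mul_right_comm a c b] at e1 e2 ⊢
      linear_combination (norm := module) e2 - e1)
    have key : Φ ∘ₗ ψ + Qm ∘ₗ i1 ∘ₗ m1 ∘ₗ (LinearMap.fst k _ _ - LinearMap.snd k _ _) = Qm := by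
      refine LinearMap.prod_ext (TensorProduct.ext' fun a u => ?_) (TensorProduct.ext' fun b v => ?_)
      · have e := hψ a u 0 0
        simp only [zero_tmul, zero_smul, map_zero, sub_zero] at e
        simp only [LinearMap.add_apply, LinearMap.comp_apply, LinearMap.inl_apply, e, two_smul,
          map_add, hΦ, hφ, LinearMap.sub_apply, LinearMap.fst_apply, LinearMap.snd_apply, sub_zero]
        simp only [m1, LinearMap.comp_apply, LinearMap.mul'_apply, LinearMap.flip_apply,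
          TensorProduct.mk_apply]
        have e : Qm (i1 (a ⊗ₜ[k] u)) = ((2⁻¹ : k) * 2) • Qm (i1 (a ⊗ₜ[k] u)) := by
          rw [inv_mul_cancel₀ h2, one_smul]
        have e' : Qm (i1 ((a * u) ⊗ₜ[k] 1)) = ((2⁻¹ : k) * 2) • Qm (i1 ((a * u) ⊗ₜ[k] 1)) := by
          rw [inv_mul_cancel₀ h2, one_smul]
        change _ = Qm (i1 (a ⊗ₜ[k] u))
        linear_combination (norm := module) e' - e
      · have e := hψ 0 0 b v
        simp only [zero_tmul, zero_smul, smul_zero, zero_sub] at e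
        simp only [LinearMap.add_apply, LinearMap.comp_apply, LinearMap.inr_apply, e,
          map_neg, hΦ, hφ, LinearMap.sub_apply, LinearMap.fst_apply, LinearMap.snd_apply, zero_sub]
        simp only [m1, LinearMap.comp_apply, LinearMap.mul'_apply, LinearMap.flip_apply,
          TensorProduct.mk_apply]
        have e1 := hG' v b 1
        simp only [mul_one, mul_comm v b] at e1
        have e2 : Qm (i2 (b ⊗ₜ[k] v)) = ((2⁻¹ : k) * 2) • Qm (i2 (b ⊗ₜ[k] v)) := by
          rw [inv_mul_cancel₀ h2, one_smul]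
        have e3 : Qm (i1 ((b * v) ⊗ₜ[k] 1)) = ((2⁻¹ : k) * 2) • Qm (i1 ((b * v) ⊗ₜ[k] 1)) := by
          rw [inv_mul_cancel₀ h2, one_smul]
        rw [mul_comm v b]
        change _ = Qm (i2 (b ⊗ₜ[k] v))
        linear_combination (norm := module) -(2⁻¹ : k) • e1 - e2 - e3
    have h := LinearMap.congr_fun key (p, q)
    have hm : m1 (p - q) = 0 := by simp [m1, hpq]
    simp only [LinearMap.add_apply, LinearMap.comp_apply, hψ0, map_zero, LinearMap.sub_apply,
      LinearMap.fst_apply, LinearMap.snd_apply, hm, add_zero] at h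
    obtain ⟨x, hx1, hx2⟩ := (Submodule.Quotient.mk_eq_zero S).1 h.symm
    exact ⟨x, hx1, (Prod.ext_iff.1 hx2).1, (Prod.ext_iff.1 hx2).2⟩
  · rintro ⟨x, hx, rfl, rfl⟩
    have h0 : ψ ∘ₗ r₁₂.prod r₂₃ + ψ ∘ₗ r₁₂.prod r₂₃ ∘ₗ τ = 0 := by
      refine TensorProduct.ext' fun a z => ?_
      induction z using TensorProduct.induction_on with
      | zero => simp only [tmul_zero, map_zero, LinearMap.zero_apply]
      | add z w hz hw => rw [tmul_add, map_add, hz, hw, map_add]
      | tmul b c =>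
        simp [hτ, h₁₂, h₂₃, hψ, Derivation.leibniz, smul_smul, smul_add]
        match_scalars <;> ring
    have h1 := LinearMap.congr_fun h0 x
    simp only [LinearMap.add_apply, LinearMap.comp_apply, show τ x = x from hx,
      LinearMap.zero_apply, LinearMap.prod_apply, Function.prod_apply] at h1
    have h3 : (2 : k) • ψ (r₁₂ x, r₂₃ x) = 0 := by linear_combination (norm := module) h1
    exact (smul_eq_zero.1 h3).resolve_left h2
  · let P : Submodule k ((A ⊗[k] A) × (A ⊗[k] A)) := LinearMap.ker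
      (LinearMap.mul' k A ∘ₗ (LinearMap.fst k _ _ - LinearMap.snd k _ _))
    have : (⊤ : Submodule k Ω[A⁄k]) ≤ P.map ψ := by
      rw [← Groth.L08.Diag.span_smul_D, Submodule.span_le]
      rintro _ ⟨⟨a, b⟩, rfl⟩
      refine ⟨(2⁻¹ : k) • (a ⊗ₜ b - (a * b) ⊗ₜ 1, 0), ?_, ?_⟩
      · simp [P]
      · rw [map_smul]
        have e := hψ a b 0 0
        have e' := hψ (a * b) 1 0 0
        simp only [zero_tmul, zero_smul, map_zero, sub_zero, Derivation.map_one_eq_zero,
          smul_zero] at e e'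
        have : ((a ⊗ₜ[k] b - (a * b) ⊗ₜ[k] (1:A)), (0 : A ⊗[k] A))
            = (a ⊗ₜ[k] b, 0) - ((a * b) ⊗ₜ[k] (1:A), 0) := by simp
        rw [this, map_sub, e, e', sub_zero, two_smul, ← two_smul k, smul_smul,
          inv_mul_cancel₀ h2, one_smul]
    obtain ⟨⟨p, q⟩, hpq, rfl⟩ := this (trivial : ω ∈ ⊤)
    exact ⟨p, q, sub_eq_zero.1 (by simpa [P] using hpq), rfl⟩

end Groth.Agent.S19213
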