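import Groth.Statements.S19214
import Groth.Agent.L08.Diag.Inter
import Mathlib.RingTheory.FiniteType
import Mathlib.RingTheory.Smooth.Basic
import Mathlib.RingTheory.TensorProduct.Finite

set_option autoImplicit false
universe u v
open TensorProduct
open DiagIdeal

namespace Groth.Agent.S19214

/-- n = 3, affine form: let k be an algebraically closed field of characteristic zero and A a smooth
k-algebra which is a domain. In the triple tensor power of A over k, indexed by Fin 3, let I_{ij} be
the ideal generated by the elements a_i − a_j (a ∈ A put in factor i, resp. j, and 1 elsewhere), the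
ideal of the diagonal of factors i and j. Then every element fixed by all permutations of the three
factors and lying in I₁₂ ∩ I₁₃ ∩ I₂₃ lies in the product I₁₂ I₁₃ I₂₃: on the symmetric cube of Spec
A the invariants of the product of the three diagonal ideals and of their intersection coincide.
(The published statement is the sheaf version for a smooth complex variety; an algebraically closed
field of characteristic zero is used here.) -/
theorem result (k : Type u) [Field k] [IsAlgClosed k] [CharZero k]
    (A : Type v) [CommRing A] [Algebra k A] [Algebra.Smooth k A] [IsDomain A]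
    (x : ⨂[k] _ : Fin 3, A)
    (hx : ∀ σ : Equiv.Perm (Fin 3), PiTensorProduct.reindex k (fun _ : Fin 3 => A) σ x = x)
    (hmem : ∀ p : Fin 3 × Fin 3, p.1 < p.2 → x ∈ Ideal.span (Set.range fun a : A =>
        PiTensorProduct.singleAlgHom (R := k) (A := fun _ : Fin 3 => A) p.1 a -
        PiTensorProduct.singleAlgHom (R := k) (A := fun _ : Fin 3 => A) p.2 a)) :
    x ∈ ∏ p ∈ Finset.univ.filter (fun p : Fin 3 × Fin 3 => p.1 < p.2), Ideal.span (Set.range fun a : A =>
        PiTensorProduct.singleAlgHom (R := k) (A := fun _ : Fin 3 => A) p.1 a -
        PiTensorProduct.singleAlgHom (R := k) (A := fun _ : Fin 3 => A) p.2 a) := by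
  have hset : Finset.univ.filter (fun p : Fin 3 × Fin 3 => p.1 < p.2) = {(0, 1), (1, 2), (0, 2)} := by
    decide
  have h01 := hmem (0, 1) (by decide)
  have h02 := hmem (0, 2) (by decide)
  have h12 := hmem (1, 2) (by decide)
  have : Algebra.FiniteType k (A ⊗[k] A) := Algebra.FiniteType.trans (S := A) inferInstance inferInstance
  have : IsNoetherianRing (A ⊗[k] A) := Algebra.FiniteType.isNoetherianRing k (A ⊗[k] A)
  have hchar : ∀ m : ℕ, 0 < m → IsUnit (m : k) := fun m hm =>
    isUnit_iff_ne_zero.2 (Nat.cast_ne_zero.2 hm.ne')
  have key := Groth.L08.Diag.mem_P3 (k := k) (A := A) hchar (hx (Equiv.swap 0 2)) h01 h02 h12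
  rw [hset, Finset.prod_insert (by decide), Finset.prod_insert (by decide), Finset.prod_singleton,
    ← mul_assoc]
  exact key

end Groth.Agent.S19214
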