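import Groth.Statements.S19216
import Mathlib.Tactic.Ring
import Mathlib.Tactic.LinearCombination
import Mathlib.Tactic.Linarith
import Mathlib.Tactic.FieldSimp
import Mathlib.Tactic.Abel
import Mathlib.Algebra.BigOperators.Ring.Finset
import Mathlib.LinearAlgebra.Prod

set_option autoImplicit false
universe u
open SymRep

namespace Groth.Agent.S19216

/-- Let k be a field of characteristic zero and r, s ≥ 1. Realise the standard representation of the
symmetric group on a finite set T as the hyperplane of functions T → k with sum zero, the group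
acting by precomposition with the inverse. Then the standard representation of the symmetric group
of Fin r ⊕ Fin s, restricted to the subgroup S_r × S_s, is isomorphic to the direct sum of the
standard representations of S_r and of S_s and of a one-dimensional trivial representation: there is
a k-linear map E from functions on Fin r ⊕ Fin s to triples (function on Fin r, function on Fin s,
scalar), compatible with the actions of S_r × S_s (trivial on the scalar), which maps the sum-zero
hyperplane bijectively onto the product of the two sum-zero hyperplanes and k. (The published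
statement is over the complex numbers; a field of characteristic zero is used here. The published
statement also gives the analogous decomposition for any number of blocks, which follows by
induction; only the two-block case is stated here.) -/
theorem result (k : Type u) [Field k] [CharZero k]
    (r s : ℕ) (hr : 1 ≤ r) (hs : 1 ≤ s) :
    ∃ E : (Fin r ⊕ Fin s → k) →ₗ[k] (Fin r → k) × (Fin s → k) × k,
      (∀ (σ : Equiv.Perm (Fin r)) (τ : Equiv.Perm (Fin s)) (f : Fin r ⊕ Fin s → k),
        E (f ∘ ⇑(Equiv.sumCongr σ τ).symm) = ((E f).1 ∘ ⇑σ.symm, (E f).2.1 ∘ ⇑τ.symm, (E f).2.2)) ∧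
      Set.BijOn E {f | ∑ i, f i = 0}
        ({g : Fin r → k | ∑ i, g i = 0} ×ˢ ({h : Fin s → k | ∑ i, h i = 0} ×ˢ Set.univ)) := by
  let A : (Fin r ⊕ Fin s → k) →ₗ[k] (Fin r → k) :=
    { toFun := fun f i => f (Sum.inl i) - (∑ l, f (Sum.inl l)) / (r : k)
      map_add' := fun f g => by
        funext i; simp only [Pi.add_apply, Finset.sum_add_distrib, add_div]; abel
      map_smul' := fun a f => by
        funext i; simp only [Pi.smul_apply, smul_eq_mul, ← Finset.mul_sum, RingHom.id_apply]; ring }
  let B : (Fin r ⊕ Fin s → k) →ₗ[k] (Fin s → k) :=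
    { toFun := fun f i => f (Sum.inr i) - (∑ l, f (Sum.inr l)) / (s : k)
      map_add' := fun f g => by
        funext i; simp only [Pi.add_apply, Finset.sum_add_distrib, add_div]; abel
      map_smul' := fun a f => by
        funext i; simp only [Pi.smul_apply, smul_eq_mul, ← Finset.mul_sum, RingHom.id_apply]; ring }
  let C : (Fin r ⊕ Fin s → k) →ₗ[k] k :=
    { toFun := fun f => ∑ l, f (Sum.inl l)
      map_add' := fun f g => by simp only [Pi.add_apply, Finset.sum_add_distrib]
      map_smul' := fun a f => by simp only [Pi.smul_apply, smul_eq_mul, ← Finset.mul_sum, RingHom.id_apply] }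
  have hr0 : (r : k) ≠ 0 := Nat.cast_ne_zero.mpr (by omega)
  have hs0 : (s : k) ≠ 0 := Nat.cast_ne_zero.mpr (by omega)
  refine ⟨A.prod (B.prod C), fun σ τ f => ?_, ?_, ?_, ?_⟩
  · have e1 : ∑ l, f (Sum.inl (σ.symm l)) = ∑ l, f (Sum.inl l) := Equiv.sum_comp σ.symm (fun l => f (Sum.inl l))
    have e2 : ∑ l, f (Sum.inr (τ.symm l)) = ∑ l, f (Sum.inr l) := Equiv.sum_comp τ.symm (fun l => f (Sum.inr l))
    refine Prod.ext (funext fun i => ?_) (Prod.ext (funext fun i => ?_) ?_)
    · show f (Sum.inl (σ.symm i)) - (∑ l, f (Sum.inl (σ.symm l))) / (r : k) = _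
      rw [e1]; rfl
    · show f (Sum.inr (τ.symm i)) - (∑ l, f (Sum.inr (τ.symm l))) / (s : k) = _
      rw [e2]; rfl
    · exact e1
  · intro f _
    refine ⟨?_, ?_, trivial⟩
    · show ∑ i, (f (Sum.inl i) - (∑ l, f (Sum.inl l)) / (r : k)) = 0
      rw [Finset.sum_sub_distrib, Finset.sum_const, Finset.card_univ, Fintype.card_fin, nsmul_eq_mul]
      field_simp; ring
    · show ∑ i, (f (Sum.inr i) - (∑ l, f (Sum.inr l)) / (s : k)) = 0
      rw [Finset.sum_sub_distrib, Finset.sum_const, Finset.card_univ, Fintype.card_fin, nsmul_eq_mul]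
      field_simp; ring
  · intro f hf g hg h
    have h1 : A f = A g := congr_arg Prod.fst h
    have h2 : B f = B g := congr_arg (fun x => x.2.1) h
    have h3 : C f = C g := congr_arg (fun x => x.2.2) h
    have hfs : ∑ l, f (Sum.inl l) + ∑ l, f (Sum.inr l) = 0 := (Fintype.sum_sum_type f).symm.trans hf
    have hgs : ∑ l, g (Sum.inl l) + ∑ l, g (Sum.inr l) = 0 := (Fintype.sum_sum_type g).symm.trans hg
    change ∑ l, f (Sum.inl l) = ∑ l, g (Sum.inl l) at h3
    funext i
    rcases i with i | i
    · have := congr_fun h1 i
      change f (Sum.inl i) - _ = g (Sum.inl i) - _ at this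
      rwa [h3, sub_left_inj] at this
    · have := congr_fun h2 i
      change f (Sum.inr i) - _ = g (Sum.inr i) - _ at this
      rwa [show ∑ l, f (Sum.inr l) = ∑ l, g (Sum.inr l) by linear_combination hfs - hgs - h3, sub_left_inj] at this
  · rintro ⟨g, h, c⟩ ⟨hg, hh, -⟩
    change ∑ i, g i = 0 at hg
    change ∑ i, h i = 0 at hh
    let f : Fin r ⊕ Fin s → k := Sum.elim (fun i => g i + c / r) (fun i => h i - c / s)
    have e1 : ∑ l, f (Sum.inl l) = c := by
      show ∑ l, (g l + c / (r : k)) = c
      rw [Finset.sum_add_distrib, hg, zero_add, Finset.sum_const, Finset.card_univ, Fintype.card_fin, nsmul_eq_mul]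
      field_simp
    have e2 : ∑ l, f (Sum.inr l) = -c := by
      show ∑ l, (h l - c / (s : k)) = -c
      rw [Finset.sum_sub_distrib, hh, zero_sub, Finset.sum_const, Finset.card_univ, Fintype.card_fin, nsmul_eq_mul]
      field_simp
    refine ⟨f, ?_, Prod.ext (funext fun i => ?_) (Prod.ext (funext fun i => ?_) e1)⟩
    · show ∑ i, f i = 0
      rw [Fintype.sum_sum_type, e1, e2, add_neg_cancel]
    · show f (Sum.inl i) - _ / (r : k) = g i
      rw [e1]; simp [f]
    · show f (Sum.inr i) - _ / (s : k) = h i
      rw [e2]; simp [f, neg_div]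

end Groth.Agent.S19216
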