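import Groth.Statements.S19217
import Groth.Agent.L06.DiagPow.Power
import Groth.Agent.L01.NormalDomain
import Groth.Agent.L04.Depth2
import Groth.Agent.L04.LC.Torsion


set_option autoImplicit false
set_option maxSynthPendingDepth 3
set_option linter.style.haveILetI false
universe u
open TensorProduct CategoryTheory CategoryTheory.Limits
open DiagIdeal
open scoped Pointwise

namespace Groth.Agent.S19217

/-- Let k be an algebraically closed field of characteristic zero and A a smooth k-algebra which is a
domain of Krull dimension 2 (an affine piece of a smooth surface). In the n-fold tensor power R of A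
over k, indexed by Fin n, let I_p (p = (i, j), i < j) be the ideal generated by the a_i − a_j, a ∈
A, the ideal of the diagonal of factors i and j; let M be the intersection of the powers I_p ^ ℓ(p)
over all p with i < j, for arbitrary exponents ℓ; and let 𝔞 be the intersection, over all pairs of
distinct index pairs p ≠ q, of I_p + I_q (an ideal cutting out the locus W where two distinct
pairwise diagonals meet, of codimension 4). Then the local cohomology modules of M with support in 𝔞
vanish in degrees 0 and 1; equivalently M, as a sheaf on Spec R, coincides with the direct image of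
its restriction to the complement of W. (The source states this for the product of copies of a
smooth quasi-projective complex surface, as the equality of the direct image from the complement of
W of the restricted product of the powers of the diagonal ideals with the intersection of those
powers; the two sheaves agree away from W, where the diagonals are pairwise disjoint.) -/
theorem result (k : Type u) [Field k] [IsAlgClosed k] [CharZero k]
    (A : Type u) [CommRing A] [Algebra k A] [Algebra.Smooth k A] [IsDomain A]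
    (hdim : ringKrullDim A = 2) (n : ℕ) (ℓ : Fin n × Fin n → ℕ)
    (I : Fin n × Fin n → Ideal (⨂[k] _ : Fin n, A))
    (hI : ∀ p, I p = Ideal.span (Set.range fun a : A =>
        PiTensorProduct.singleAlgHom (R := k) (A := fun _ : Fin n => A) p.1 a -
        PiTensorProduct.singleAlgHom (R := k) (A := fun _ : Fin n => A) p.2 a))
    (𝔞 : Ideal (⨂[k] _ : Fin n, A))
    (h𝔞 : 𝔞 = ⨅ pq ∈ Finset.univ.filter (fun pq : (Fin n × Fin n) × (Fin n × Fin n) =>
        pq.1.1 < pq.1.2 ∧ pq.2.1 < pq.2.2 ∧ pq.1 ≠ pq.2), I pq.1 ⊔ I pq.2)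
    (M : Submodule (⨂[k] _ : Fin n, A) (⨂[k] _ : Fin n, A))
    (hM : M = ⨅ p ∈ Finset.univ.filter (fun p : Fin n × Fin n => p.1 < p.2), (I p) ^ (ℓ p)) :
    IsZero ((localCohomology 𝔞 0).obj (ModuleCat.of (⨂[k] _ : Fin n, A) M)) ∧
    IsZero ((localCohomology 𝔞 1).obj (ModuleCat.of (⨂[k] _ : Fin n, A) M)) := by
  classical
  haveI := Groth.L06.DiagPow.isDomain_pow k A n
  haveI := Groth.L06.DiagPow.isIntegrallyClosed_pow k A n
  haveI : IsNoetherianRing (⨂[k] _ : Fin n, A) := Algebra.FiniteType.isNoetherianRing k _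
  set R := ⨂[k] _ : Fin n, A
  set P := Finset.univ.filter (fun p : Fin n × Fin n => p.1 < p.2) with hP
  have hI' : ∀ p, I p = Groth.L08.Diag.diagI k A p.1 p.2 := hI
  obtain ⟨a, ha⟩ : ∃ a : A, a ∉ Set.range (algebraMap k A) := by
    by_contra hc
    push Not at hc
    have e : k ≃+* A := RingEquiv.ofBijective (algebraMap k A) ⟨(algebraMap k A).injective, hc⟩
    rw [← ringKrullDim_eq_of_ringEquiv e, ringKrullDim_eq_zero_of_field] at hdim
    norm_num at hdim
  have hne : ∀ p ∈ P, ∀ q ∈ P, p ≠ q → ¬ I q ≤ I p := by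
    intro p hp q hq hpq hle
    rw [hP, Finset.mem_filter] at hp hq
    rw [hI', hI'] at hle
    have h1 := hle (Groth.L08.Diag.sgl_sub_mem (k := k) q.1 q.2 a)
    have h2 : Groth.L08.Diag.collapse k A p.1 p.2
        (Groth.L08.Diag.sgl (k := k) q.1 a - Groth.L08.Diag.sgl q.2 a) = 0 := by
      refine RingHom.mem_ker.mp (Groth.L08.Diag.diagI_le_ker _ (fun b => ?_) h1)
      rw [Groth.L08.Diag.collapse_sgl, Groth.L08.Diag.collapse_sgl, if_pos rfl,
        if_neg hp.2.ne']
    rw [map_sub, sub_eq_zero, Groth.L08.Diag.collapse_sgl, Groth.L08.Diag.collapse_sgl] at h2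
    refine Groth.L06.DiagPow.sgl_ne k A ha ?_ h2
    intro e
    have hq2 := hq.2.ne
    split_ifs at e with e1 e2 e2
    · exact hq2 (e1.trans e2.symm)
    · exact hpq (Prod.ext e1.symm e)
    · exact absurd (e ▸ e2 ▸ hq.2) (asymm hp.2)
    · exact hq2 e
  have hbot : ∀ p ∈ P, I p ≠ ⊥ := by
    intro p hp h0
    rw [hP, Finset.mem_filter] at hp
    have h1 := Groth.L08.Diag.sgl_sub_mem (k := k) p.1 p.2 a
    rw [← hI', h0, Ideal.mem_bot, sub_eq_zero] at h1
    exact Groth.L06.DiagPow.sgl_ne k A ha hp.2.ne h1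
  have hprime : ∀ p, (I p).IsPrime := fun p => hI' p ▸ Groth.L06.DiagPow.isPrime_diag k A p.1 p.2
  have hbig : ∀ Q : Ideal R, Q.IsPrime → Q.height ≤ 1 → ¬ 𝔞 ≤ Q := by
    intro Q hQ hh hle
    rw [h𝔞, ← Finset.inf_eq_iInf, Ideal.IsPrime.inf_le' hQ] at hle
    obtain ⟨⟨p, q⟩, hpq, hle⟩ := hle
    simp only [Finset.mem_filter, Finset.mem_univ, true_and] at hpq
    have key : ∀ r ∈ P, I r ≤ Q → I r = Q := by
      intro r hr hrQ
      by_contra hne'
      haveI := hprime r
      haveI := hQ
      have h1 := Ideal.height_strict_mono_of_isPrime (I := I r) (lt_of_le_of_ne hrQ hne')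
      have h2 : (I r).height ≠ 0 := fun h0 => hbot r hr (Ideal.height_eq_zero_iff_eq_bot.mp h0)
      exact absurd (h1.trans_le hh) (by
        intro h3
        exact h2 (ENat.lt_one_iff_eq_zero.mp h3))
    have hp' : p ∈ P := by rw [hP]; simp [hpq.1]
    have hq' : q ∈ P := by rw [hP]; simp [hpq.2.1]
    refine hne p hp' q hq' hpq.2.2 ?_
    rw [key p hp' (le_sup_left.trans hle), key q hq' (le_sup_right.trans hle)]
  have hnle : ∀ p ∈ P, ¬ 𝔞 ≤ I p := by
    intro p hp hle
    rw [h𝔞, ← Finset.inf_eq_iInf, Ideal.IsPrime.inf_le' (hprime p)] at hle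
    obtain ⟨⟨q, r⟩, hqr, hle⟩ := hle
    simp only [Finset.mem_filter, Finset.mem_univ, true_and] at hqr
    have hq' : q ∈ P := by rw [hP]; simp [hqr.1]
    have hr' : r ∈ P := by rw [hP]; simp [hqr.2.1]
    rcases eq_or_ne p q with rfl | hpq
    · exact hne p hp r hr' hqr.2.2 (le_sup_right.trans hle)
    · exact hne p hp q hq' hpq (le_sup_left.trans hle)
  -- a regular sequence of length two in `𝔞`
  obtain ⟨x, hx, hx0⟩ : ∃ x ∈ 𝔞, x ≠ 0 := by
    by_contra hc
    push Not at hc
    exact hbig ⊥ Ideal.isPrime_bot (by simp) (fun y hy => by simp [hc y hy])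
  obtain ⟨y, hy, hyreg⟩ : ∃ y ∈ 𝔞, IsSMulRegular (R ⧸ Ideal.span {x}) y := by
    by_contra hc
    push Not at hc
    have hsub : (𝔞 : Set R) ⊆ ⋃ Q ∈ associatedPrimes R (R ⧸ Ideal.span {x}), (Q : Set R) := by
      rw [biUnion_associatedPrimes_eq_zero_divisors]
      intro y hy
      have := hc y hy
      rw [isSMulRegular_iff_right_eq_zero_of_smul] at this
      push Not at this
      obtain ⟨z, hz, hz0⟩ := this
      exact ⟨z, hz0, hz⟩
    have hfin := associatedPrimes.finite R (R ⧸ Ideal.span {x})
    obtain ⟨Q, hQ, hle⟩ := (Ideal.subset_union_prime_finite hfin ⊥ ⊥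
      (fun Q hQ _ _ => IsAssociatedPrime.isPrime hQ)).mp hsub
    haveI := IsAssociatedPrime.isPrime hQ
    exact hbig Q inferInstance (Groth.L01.height_eq_one_of_mem_associatedPrimes hx0 hQ).le hle
  have hreg : RingTheory.Sequence.IsWeaklyRegular R [x, y] := by
    rw [RingTheory.Sequence.isWeaklyRegular_cons_iff, RingTheory.Sequence.isWeaklyRegular_cons_iff]
    refine ⟨fun u v h => mul_left_cancel₀ hx0 h, ?_, RingTheory.Sequence.IsWeaklyRegular.nil _ _⟩
    have e : (x • (⊤ : Submodule R R)) = (Ideal.span {x} : Submodule R R) := by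
      rw [← Submodule.ideal_span_singleton_smul]
      exact Ideal.mul_top _
    exact ((Submodule.quotEquivOfEq _ _ e).isSMulRegular_congr y).mpr hyreg
  have hR : ∀ i, i < 2 → Subsingleton ((localCohomology 𝔞 i).obj (ModuleCat.of R R)) := fun i hi =>
    Groth.L04.LC.subsingleton_H_of_forall 𝔞 i _ fun m =>
      Groth.L04.subsingleton_ext_of_weaklyRegular (I := 𝔞) _ (k := m)
        (by
          refine le_antisymm (Submodule.smul_le.mpr fun r hr z _ => ?_) bot_le
          obtain ⟨z, rfl⟩ := Submodule.Quotient.mk_surjective _ z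
          rw [Submodule.mem_bot]
          exact (Submodule.Quotient.mk_eq_zero _).mpr (Ideal.mul_mem_right _ _ hr))
        [x, y] _ hreg (by simp [hx, hy]) i hi
  -- the sequence `0 → M → R → R/M → 0`
  have hS := Groth.L04.LC.quotient_shortExact M.subtype M.subtype_injective
  have h3 : Subsingleton ((localCohomology 𝔞 0).obj (ModuleCat.of R (R ⧸ LinearMap.range M.subtype))) := by
    refine subsingleton_of_forall_eq 0 fun z => Groth.L04.LC.evalZero_injective 𝔞 _ ?_
    rw [map_zero]
    obtain ⟨m, hm⟩ : Groth.L04.LC.evalZero 𝔞 _ z ∈ DRing.torsionSub 𝔞 _ :=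
      (Groth.L04.LC.range_evalZero 𝔞 _) ▸ LinearMap.mem_range_self _ z
    revert hm
    generalize Groth.L04.LC.evalZero 𝔞 _ z = w
    obtain ⟨r, rfl⟩ := Submodule.Quotient.mk_surjective _ w
    intro hm
    refine (Submodule.Quotient.mk_eq_zero _).mpr ?_
    rw [Submodule.range_subtype, hM, Submodule.mem_iInf]
    intro p
    rw [Submodule.mem_iInf]
    intro hp
    obtain ⟨s, hs, hsp⟩ := SetLike.not_le_iff_exists.mp (hnle p hp)
    have hsm : s ^ m * r ∈ I p ^ ℓ p := by
      have h1 := hm (s ^ m) (Ideal.pow_mem_pow hs m)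
      rw [← Submodule.Quotient.mk_smul, Submodule.Quotient.mk_eq_zero, Submodule.range_subtype, hM,
        Submodule.mem_iInf] at h1
      exact (Submodule.mem_iInf _).mp (h1 p) hp
    have hsm' : s ^ m ∉ I p := fun h => hsp ((hprime p).mem_of_pow_mem m h)
    rw [hI'] at hsm hsm' ⊢
    exact Groth.L06.DiagPow.mem_pow_of_mul_mem_diag k A (Finset.mem_filter.mp hp).2.ne hsm' hsm
  refine ⟨?_, ?_⟩
  · haveI : Subsingleton ((localCohomology 𝔞 0).obj (ModuleCat.of R M)) := by
      haveI := hR 0 (by norm_num)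
      exact (Groth.L04.LC.injective_H_map_f 𝔞 hS).subsingleton
    exact ModuleCat.isZero_of_subsingleton _
  · haveI : Subsingleton ((localCohomology 𝔞 1).obj (ModuleCat.of R M)) :=
      Groth.L04.LC.subsingleton_H_left 𝔞 hS 0 h3 (hR 1 (by norm_num))
    exact ModuleCat.isZero_of_subsingleton _

end Groth.Agent.S19217
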