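import Groth.Statements.S19221
import Mathlib.LinearAlgebra.Matrix.Determinant.Basic
import Mathlib.LinearAlgebra.ExteriorAlgebra.OfAlternating

set_option autoImplicit false
universe u
open SymRep

namespace Groth.Agent.S19221

/-- Let k be a field of characteristic zero and F the k-space of functions Fin 2 → Fin 4 → Fin 4 → k,
with the symmetric group of Fin 4 acting through P σ f c a b = f c (σ⁻¹ a) (σ⁻¹ b). The signed edge
vectors of the complete graph on four vertices live in F as the functions antisymmetric in the two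
vertex arguments, and for a colour c and an oriented 3-cycle i → j → l → i the cycle vector z c i j
l is the function equal, in colour c, to +1 at (i,j), (j,l), (l,i), to −1 at (j,i), (l,j), (i,l) and
to 0 elsewhere (and 0 in the other colour); these cycle vectors span k² ⊗ (cycle space), the
representation written C² ⊗ q in the published text. Let Γ be the graph with edges 01, 02, 03, 12,
23 (a 4-cycle with one chord), whose cycle space is spanned by the cycles (0,1,2) and (0,2,3), and
let ω be the product in the exterior algebra of F of the four vectors z 0 0 1 2, z 1 0 1 2, z 0 0 2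
3, z 1 0 2 3 (a generator of the top exterior power of k² ⊗ q_Γ). Then ω is fixed by the stabiliser
of Γ in the symmetric group (generated by the transpositions (0 2) and (1 3)), and the sum over all
24 permutations σ of the images of ω under the maps induced by P σ is nonzero: the projection of ω
to the invariants of the fourth exterior power of k² ⊗ q_{K₄} does not vanish. (The published
statement is over the complex numbers; a field of characteristic zero is used here. The published
statement also asserts that this map is an isomorphism onto the one-dimensional space of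
S₄-invariants of the fourth exterior power of k² ⊗ q_{K₄}; only its non-vanishing is stated here.) -/
theorem result (k : Type u) [Field k] [CharZero k]
    (P : Equiv.Perm (Fin 4) → ((Fin 2 → Fin 4 → Fin 4 → k) →ₗ[k] (Fin 2 → Fin 4 → Fin 4 → k)))
    (hP : ∀ (σ : Equiv.Perm (Fin 4)) (f : Fin 2 → Fin 4 → Fin 4 → k) (c : Fin 2) (a b : Fin 4),
      P σ f c a b = f c (σ.symm a) (σ.symm b))
    (z : Fin 2 → Fin 4 → Fin 4 → Fin 4 → (Fin 2 → Fin 4 → Fin 4 → k))
    (hz : ∀ (c : Fin 2) (i j l : Fin 4) (c' : Fin 2) (a b : Fin 4), z c i j l c' a b =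
      if c' = c then
        ((if a = i ∧ b = j then 1 else 0) + (if a = j ∧ b = l then 1 else 0) + (if a = l ∧ b = i then 1 else 0)
          - (if a = j ∧ b = i then 1 else 0) - (if a = l ∧ b = j then 1 else 0) - (if a = i ∧ b = l then 1 else 0))
      else 0)
    (ω : ExteriorAlgebra k (Fin 2 → Fin 4 → Fin 4 → k))
    (hω : ω = ExteriorAlgebra.ι k (z 0 0 1 2) * ExteriorAlgebra.ι k (z 1 0 1 2) *
      ExteriorAlgebra.ι k (z 0 0 2 3) * ExteriorAlgebra.ι k (z 1 0 2 3)) :
    ExteriorAlgebra.map (P (Equiv.swap 0 2)) ω = ω ∧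
    ExteriorAlgebra.map (P (Equiv.swap 1 3)) ω = ω ∧
    (∑ σ : Equiv.Perm (Fin 4), ExteriorAlgebra.map (P σ) ω) ≠ 0 := by
  classical
  have hPz : ∀ σ c i j l, P σ (z c i j l) = z c (σ i) (σ j) (σ l) := by
    intro σ c i j l
    funext c' a b
    rw [hP, hz, hz]
    simp only [Equiv.symm_apply_eq]
  have hrev : ∀ c i j l, z c l j i = -z c i j l := by
    intro c i j l
    funext c' a b
    simp only [hz, Pi.neg_apply]
    by_cases h : c' = c
    · rw [if_pos h, if_pos h]; ring
    · rw [if_neg h, if_neg h, neg_zero]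
  have hrot : ∀ c i j l, z c j l i = z c i j l := by
    intro c i j l
    funext c' a b
    simp only [hz]
    by_cases h : c' = c
    · rw [if_pos h, if_pos h]; ring
    · rw [if_neg h, if_neg h]
  let L : (Fin 2 → Fin 4 → Fin 4 → k) →ₗ[k] (Fin 4 → k) :=
    { toFun := fun f => ![f 0 0 1, f 1 0 1, f 0 2 3, f 1 2 3]
      map_add' := fun f g => by simp
      map_smul' := fun c f => by simp }
  let Φ : ExteriorAlgebra k (Fin 2 → Fin 4 → Fin 4 → k) →ₗ[k] k :=
    ExteriorAlgebra.liftAlternating (Pi.single 4 ((Matrix.detRowAlternating (n := Fin 4) (R := k)).compLinearMap L))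
  have hωm : ∀ g : (Fin 2 → Fin 4 → Fin 4 → k) →ₗ[k] (Fin 2 → Fin 4 → Fin 4 → k),
      ExteriorAlgebra.map g ω = ExteriorAlgebra.ιMulti k 4 ![g (z 0 0 1 2), g (z 1 0 1 2), g (z 0 0 2 3), g (z 1 0 2 3)] := by
    intro g
    simp [hω, ExteriorAlgebra.ιMulti_apply, mul_assoc]
  let zi : Fin 4 → Fin 4 → Fin 4 → Fin 4 → Fin 4 → ℤ := fun i j l a b =>
        ((if a = i ∧ b = j then 1 else 0) + (if a = j ∧ b = l then 1 else 0) + (if a = l ∧ b = i then 1 else 0)
          - (if a = j ∧ b = i then 1 else 0) - (if a = l ∧ b = j then 1 else 0) - (if a = i ∧ b = l then 1 else 0))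
  have hzi : ∀ c i j l c' a b, z c i j l c' a b = if c' = c then ((zi i j l a b : ℤ) : k) else 0 := by
    intro c i j l c' a b
    rw [hz]
    simp [zi, apply_ite (Int.cast : ℤ → k)]
  let D : Equiv.Perm (Fin 4) → ℤ := fun σ =>
    zi (σ 0) (σ 1) (σ 2) 0 1 * zi (σ 0) (σ 2) (σ 3) 2 3 - zi (σ 0) (σ 1) (σ 2) 2 3 * zi (σ 0) (σ 2) (σ 3) 0 1
  have hterm : ∀ σ, Φ (ExteriorAlgebra.map (P σ) ω) = ((D σ ^ 2 : ℤ) : k) := by
    intro σ
    rw [hωm]
    simp only [hPz, Φ, ExteriorAlgebra.liftAlternating_apply_ιMulti, Pi.single_eq_same]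
    rw [AlternatingMap.compLinearMap_apply]
    show Matrix.det _ = _
    simp [Matrix.det_succ_row_zero, Fin.sum_univ_succ, L, hzi, D, Fin.succAbove]
    ring
  refine ⟨?_, ?_, ?_⟩
  · rw [hω]
    simp only [map_mul, ExteriorAlgebra.map_apply_ι, hPz]
    rw [show (Equiv.swap (0 : Fin 4) 2) 0 = 2 by decide, show (Equiv.swap (0 : Fin 4) 2) 1 = 1 by decide,
      show (Equiv.swap (0 : Fin 4) 2) 2 = 0 by decide, show (Equiv.swap (0 : Fin 4) 2) 3 = 3 by decide,
      hrev 0 0 1 2, hrev 1 0 1 2, show z 0 2 0 3 = -z 0 0 2 3 from (hrot 0 2 0 3).symm.trans ((hrot 0 0 3 2).symm.trans (hrev 0 0 2 3)),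
      show z 1 2 0 3 = -z 1 0 2 3 from (hrot 1 2 0 3).symm.trans ((hrot 1 0 3 2).symm.trans (hrev 1 0 2 3))]
    simp [mul_assoc]
  · rw [hω]
    simp only [map_mul, ExteriorAlgebra.map_apply_ι, hPz]
    rw [show (Equiv.swap (1 : Fin 4) 3) 0 = 0 by decide, show (Equiv.swap (1 : Fin 4) 3) 1 = 3 by decide,
      show (Equiv.swap (1 : Fin 4) 3) 2 = 2 by decide, show (Equiv.swap (1 : Fin 4) 3) 3 = 1 by decide,
      show z 0 0 3 2 = -z 0 0 2 3 from (hrot 0 0 3 2).symm.trans (hrev 0 0 2 3),
      show z 1 0 3 2 = -z 1 0 2 3 from (hrot 1 0 3 2).symm.trans (hrev 1 0 2 3),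
      show z 0 0 2 1 = -z 0 0 1 2 from (hrot 0 0 2 1).symm.trans (hrev 0 0 1 2),
      show z 1 0 2 1 = -z 1 0 1 2 from (hrot 1 0 2 1).symm.trans (hrev 1 0 1 2)]
    have sw : ∀ a b, ExteriorAlgebra.ι k a * ExteriorAlgebra.ι k b = -(ExteriorAlgebra.ι k (M := Fin 2 → Fin 4 → Fin 4 → k) b * ExteriorAlgebra.ι k a) :=
      fun a b => eq_neg_of_add_eq_zero_left (ExteriorAlgebra.ι_add_mul_swap a b)
    generalize z 0 0 1 2 = a0, z 1 0 1 2 = a1, z 0 0 2 3 = b0, z 1 0 2 3 = b1
    simp only [map_neg, mul_neg, neg_mul, neg_neg]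
    generalize ha0 : ExteriorAlgebra.ι k a0 = A0, ha1 : ExteriorAlgebra.ι k a1 = A1, hb0 : ExteriorAlgebra.ι k b0 = B0, hb1 : ExteriorAlgebra.ι k b1 = B1
    have s00 : B0 * A0 = -(A0 * B0) := by rw [← ha0, ← hb0]; exact sw _ _
    have s01 : B0 * A1 = -(A1 * B0) := by rw [← ha1, ← hb0]; exact sw _ _
    have s10 : B1 * A0 = -(A0 * B1) := by rw [← ha0, ← hb1]; exact sw _ _
    have s11 : B1 * A1 = -(A1 * B1) := by rw [← ha1, ← hb1]; exact sw _ _
    calc B0 * B1 * A0 * A1 = B0 * (B1 * A0) * A1 := by simp only [mul_assoc]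
      _ = -((B0 * A0) * (B1 * A1)) := by rw [s10]; simp [mul_assoc]
      _ = -((A0 * B0) * (A1 * B1)) := by rw [s00, s11]; simp
      _ = -(A0 * (B0 * A1) * B1) := by simp only [mul_assoc]
      _ = A0 * A1 * B0 * B1 := by rw [s01]; simp [mul_assoc]
  · intro h
    have := congrArg Φ h
    rw [map_sum, map_zero] at this
    simp only [hterm] at this
    rw [← Int.cast_sum, Int.cast_eq_zero, Finset.sum_eq_zero_iff_of_nonneg (fun σ _ => sq_nonneg _)] at this
    have h1 := this 1 (Finset.mem_univ _)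
    simp [D, zi] at h1

end Groth.Agent.S19221
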