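import Groth.Statements.S19223
import Groth.Agent.L14.GalCoh.UnitKer

set_option autoImplicit false
attribute [local instance] Units.mulDistribMulActionRight
open GalCoh

namespace Groth.Agent.S19223

/-- For a strictly henselian local ring R whose residue field k has characteristic p ≥ 0, and a finite
group G of order prime to p acting on R by ring automorphisms (hence on the unit groups R^× and
k^×), consider the homomorphism H^n(G, R^×) → H^n(G, k^×) induced by the reduction map. It is
bijective for every n ≥ 2; it is also bijective for n = 1 provided that p = 0 or the only p-power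
root of unity in R is 1. (The reduction map on cohomology is pinned by its values on units; groups,
rings and modules are taken in the lowest universe, as integral coefficients in the group-cohomology
library require.) -/
theorem result (R : Type) [CommRing R]
    [HenselianLocalRing R] [IsSepClosed (IsLocalRing.ResidueField R)] (p : ℕ) [CharP (IsLocalRing.ResidueField R) p]
    (G : Type) [Group G] [Finite G] [MulSemiringAction G R] (hp : ¬ p ∣ Nat.card G)
    (φ : Rep.ofMulDistribMulAction G Rˣ ⟶ Rep.ofMulDistribMulAction G (IsLocalRing.ResidueField R)ˣ)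
    (hφ : ∀ x : Rˣ, Additive.toMul (φ.hom (Additive.ofMul x)) = Units.map (IsLocalRing.residue R).toMonoidHom x)
    (n : ℕ) (hn : 1 ≤ n) (h1 : n = 1 → p ≠ 0 → ∀ (ζ : Rˣ) (m : ℕ), ζ ^ p ^ m = 1 → ζ = 1) :
    Function.Bijective ((groupCohomology.functor ℤ G n).map φ).hom := by
  classical
  haveI : Fintype G := Fintype.ofFinite G
  obtain ⟨m, rfl⟩ : ∃ m, n = m + 1 := ⟨n - 1, by omega⟩
  have hN : ((Fintype.card G : ℕ) : IsLocalRing.ResidueField R) ≠ 0 := fun h =>
    hp (by rw [Nat.card_eq_fintype_card]; exact (CharP.cast_eq_zero_iff _ p _).1 h)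
  have hker : ∀ x : Rˣ, φ.hom (Additive.ofMul x) = 0 ↔ IsLocalRing.residue R x = 1 := fun x => by
    constructor
    · intro h
      exact congrArg Units.val ((hφ x).symm.trans (congrArg Additive.toMul h))
    · intro h
      refine Additive.toMul.injective ?_
      rw [hφ x]
      exact Units.ext h
  refine Groth.L14.GalCoh.map_bijective φ (fun b => ?_) (fun a ha => ?_) (fun a ha hz => ?_) m
  · obtain ⟨x, hx⟩ := IsLocalRing.surjective_units_map_of_local_ringHom (IsLocalRing.residue R)
      IsLocalRing.residue_surjective inferInstance (Additive.toMul b)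
    exact ⟨Additive.ofMul x, Additive.toMul.injective ((hφ x).trans hx)⟩
  · obtain ⟨w, ⟨hw1, hw⟩, -⟩ := Groth.L14.GalCoh.existsUnique_root (Fintype.card G) hN
      ((Additive.toMul a : Rˣ) : R) ((hker _).1 ha)
    have hu : IsUnit w := (IsLocalRing.residue_ne_zero_iff_isUnit _).1 (by rw [hw1]; exact one_ne_zero)
    refine ⟨Additive.ofMul hu.unit, (hker _).2 hw1, ?_⟩
    refine Additive.toMul.injective (Units.ext ?_)
    change ((hu.unit ^ ((Fintype.card G : ℕ) : ℤ) : Rˣ) : R) = _
    rw [zpow_natCast]
    rw [Units.val_pow_eq_pow_val, IsUnit.unit_spec]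
    exact hw
  · have hz' : (((Additive.toMul a : Rˣ) ^ ((Fintype.card G : ℕ) : ℤ) : Rˣ) : R) = 1 :=
      congrArg Units.val (congrArg Additive.toMul hz)
    rw [zpow_natCast, Units.val_pow_eq_pow_val] at hz'
    refine Additive.toMul.injective (Units.ext ?_)
    obtain ⟨w, -, huniq⟩ := Groth.L14.GalCoh.existsUnique_root (Fintype.card G) hN (1 : R) (map_one _)
    exact (huniq ((Additive.toMul a : Rˣ) : R) ⟨(hker _).1 ha, hz'⟩).trans
      (huniq 1 ⟨map_one _, one_pow _⟩).symm

end Groth.Agent.S19223
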