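import Groth.Statements.S19224
import Mathlib.RepresentationTheory.Homological.GroupCohomology.LowDegree
import Mathlib.FieldTheory.IsSepClosed
import Mathlib.RingTheory.RootsOfUnity.AlgebraicallyClosed
-- import your own Groth.Agent.* helpers here

set_option autoImplicit false
open GalCoh

namespace Groth.Agent.S19224

/-- Let Q be a finite group such that H^3(Q, ℤ) = 0 for the trivial action, and let k be a separably
closed field of characteristic p ≥ 0 with p not dividing the order of Q. Then H^2(Q, k^×) = 0, where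
Q acts trivially on the units of k. (Groups and fields are taken in the lowest universe, as integral
coefficients in the group-cohomology library require.) -/
theorem result (Q : Type) [Group Q] [Finite Q]
    (hQ : Subsingleton (groupCohomology (Rep.trivial ℤ Q ℤ) 3)) (k : Type) [Field k] [IsSepClosed k]
    (p : ℕ) [CharP k p] (hp : ¬ p ∣ Nat.card Q) :
    Subsingleton (groupCohomology (Rep.trivial ℤ Q (Additive kˣ)) 2) := by
  classical
  haveI : Fintype Q := Fintype.ofFinite Q
  set N := Nat.card Q with hNdef
  have hN0 : N ≠ 0 := Nat.card_pos.ne'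
  haveI : NeZero N := ⟨hN0⟩
  haveI : NeZero (N : k) := ⟨fun h => hp ((CharP.cast_eq_zero_iff k p N).1 h)⟩
  have hcard : Fintype.card Q = N := (Nat.card_eq_fintype_card).symm
  obtain ⟨ζ₀, hζ₀⟩ := HasEnoughRootsOfUnity.exists_primitiveRoot k N
  let ζ : kˣ := (hζ₀.isUnit hN0).unit
  have hζ : IsPrimitiveRoot ζ N := IsPrimitiveRoot.coe_units_iff.1 hζ₀
  have hroot : ∀ a : kˣ, ∃ b : kˣ, b ^ N = a := fun a => by
    obtain ⟨z, hz⟩ := IsSepClosed.exists_pow_nat_eq (a : k) N
    have hz0 : z ≠ 0 := fun h => a.ne_zero (by rw [← hz, h, zero_pow hN0])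
    exact ⟨Units.mk0 z hz0, Units.ext (by simpa using hz)⟩
  obtain ⟨η, hη⟩ := hroot ζ
  let A := Rep.trivial ℤ Q (Additive kˣ)
  let Z := Rep.trivial ℤ Q ℤ
  suffices h0 : ∀ z : groupCohomology A 2, z = 0 from ⟨fun a b => (h0 a).trans (h0 b).symm⟩
  intro z
  induction z using groupCohomology.H2_induction_on with | h f => ?_
  rw [groupCohomology.H2π_eq_zero_iff]
  let F : Q → Q → kˣ := fun g h => Additive.toMul (f.1 (g, h))
  have hF : ∀ g h j, F (g * h) j * F g h = F h j * F g (h * j) := fun g h j => by
    have h0 := (groupCohomology.mem_cocycles₂_iff f.1).1 f.2 g h j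
    simp only [A, Representation.trivial_apply] at h0
    exact congr_arg (Additive.toMul (α := kˣ)) h0
  let P : Q → kˣ := fun x => ∏ y, F x y
  have hP : ∀ g h, P (g * h) * F g h ^ N = P h * P g := fun g h => by
    have := Finset.prod_congr rfl (fun j (_ : j ∈ (Finset.univ : Finset Q)) => hF g h j)
    simp only [Finset.prod_mul_distrib, Finset.prod_const, Finset.card_univ, hcard] at this
    rw [show P g = ∏ j, F g (h * j) from (Equiv.prod_comp (Equiv.mulLeft h) (fun j => F g j)).symm]
    exact this
  choose r hr using fun x => hroot (P x)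
  let u : Q → Q → kˣ := fun g h => F g h * r (g * h) / (r g * r h)
  have huN : ∀ g h, u g h ^ N = 1 := fun g h => by
    simp only [u, div_pow, mul_pow, hr]
    rw [mul_comm (F g h ^ N), hP, mul_comm, div_self']
  have hpow : ∀ a : kˣ, a ^ N = 1 → ∃ i, i < N ∧ ζ ^ i = a := fun a ha => by
    obtain ⟨i, hi, h⟩ := hζ₀.eq_pow_of_pow_eq_one (ξ := (a : k)) (by rw [← Units.val_pow_eq_pow_val, ha, Units.val_one])
    exact ⟨i, hi, Units.ext (by simpa [ζ] using h)⟩
  choose c₀ _ hc using fun g h => hpow _ (huN g h)
  have hu : ∀ g h j, u (g * h) j * u g h = u h j * u g (h * j) := fun g h j => by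
    apply Additive.ofMul.injective
    simp only [u, ofMul_mul, ofMul_div, mul_assoc g h j]
    have := congr_arg Additive.ofMul (hF g h j)
    simp only [ofMul_mul] at this
    linear_combination (norm := abel) this
  let c : (Fin 2 → Q) → ℤ := fun v => c₀ (v 0) (v 1)
  have hd : ∀ (w : (Fin 2 → Q) → ℤ) (v : Fin 3 → Q), inhomogeneousCochains.d Z 2 w v =
      w ![v 1, v 2] - w ![v 0 * v 1, v 2] + w ![v 0, v 1 * v 2] - w ![v 0, v 1] := fun w v => by
    rw [inhomogeneousCochains.d_hom_apply]
    erw [Fin.sum_univ_three]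
    simp only [Z, Representation.trivial_apply]
    have e1 : (fun i => v i.succ : Fin 2 → Q) = ![v 1, v 2] := funext fun i => by fin_cases i <;> rfl
    have e2 : Fin.contractNth (0 : Fin 3) (· * ·) v = ![v 0 * v 1, v 2] := funext fun i => by
      fin_cases i <;> simp [Fin.contractNth]
    have e3 : Fin.contractNth (1 : Fin 3) (· * ·) v = ![v 0, v 1 * v 2] := funext fun i => by
      fin_cases i <;> simp [Fin.contractNth]
    have e4 : Fin.contractNth (2 : Fin 3) (· * ·) v = ![v 0, v 1] := funext fun i => by
      fin_cases i <;> simp [Fin.contractNth]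
    rw [e1, e2, e3, e4]
    simp
    ring
  have hdiv : ∀ v, (N : ℤ) ∣ inhomogeneousCochains.d Z 2 c v := fun v => by
    rw [hd, ← hζ.zpow_eq_one_iff_dvd]
    simp only [c, Matrix.cons_val_zero, Matrix.cons_val_one, zpow_add, zpow_sub, zpow_natCast, hc, Matrix.cons_val_fin_one]
    have := hu (v 0) (v 1) (v 2)
    apply Additive.ofMul.injective
    simp only [ofMul_mul, ofMul_inv, ofMul_div, ofMul_one]
    have := congr_arg Additive.ofMul this
    simp only [ofMul_mul] at this
    linear_combination (norm := abel) -this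
  choose e he using hdiv
  have hde : inhomogeneousCochains.d Z 3 e = 0 := by
    have h1 : inhomogeneousCochains.d Z 2 c = (N : ℤ) • e := funext fun v => by simpa using he v
    have h2 : inhomogeneousCochains.d Z 3 (inhomogeneousCochains.d Z 2 c) = 0 :=
      LinearMap.congr_fun (congr_arg ModuleCat.Hom.hom (groupCohomology.inhomogeneousCochains.d_comp_d 2 Z)) c
    rw [h1, map_smul] at h2
    funext v
    exact (mul_eq_zero.1 (congr_fun h2 v)).resolve_left (Int.natCast_ne_zero.2 hN0)
  have hex : ((groupCohomology.inhomogeneousCochains Z).sc' 2 3 4).Exact := by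
    rw [← HomologicalComplex.exactAt_iff' _ 2 3 4 (by simp) (by simp), HomologicalComplex.exactAt_iff_isZero_homology]
    haveI : Subsingleton (groupCohomology Z 3) := hQ
    exact ModuleCat.isZero_of_subsingleton (groupCohomology Z 3)
  obtain ⟨y, hy⟩ := (CategoryTheory.ShortComplex.moduleCat_exact_iff _).1 hex e (by
    rw [show (HomologicalComplex.sc' (groupCohomology.inhomogeneousCochains Z) 2 3 4).g = _ from
      groupCohomology.inhomogeneousCochains.d_def Z 3]
    exact hde)
  rw [show (HomologicalComplex.sc' (groupCohomology.inhomogeneousCochains Z) 2 3 4).f = _ from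
      groupCohomology.inhomogeneousCochains.d_def Z 2] at hy
  let a : Q → Q → ℤ := fun g h => c ![g, h] - N * y ![g, h]
  have ha : ∀ g h j, a h j - a (g * h) j + a g (h * j) - a g h = 0 := fun g h j => by
    have h1 := he ![g, h, j]
    have h2 := congr_fun hy ![g, h, j]
    rw [hd] at h1
    erw [hd] at h2
    simp only [Matrix.cons_val_zero, Matrix.cons_val_one, Matrix.cons_val] at h1 h2
    simp only [a]
    linear_combination h1 - (N : ℤ) * h2
  let G : Q → ℤ := fun x => ∑ y, a x y
  have hG : ∀ g h, (N : ℤ) * a g h = G g + G h - G (g * h) := fun g h => by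
    have := Finset.sum_eq_zero (fun j (_ : j ∈ (Finset.univ : Finset Q)) => ha g h j)
    simp only [Finset.sum_add_distrib, Finset.sum_sub_distrib, Finset.sum_const, Finset.card_univ, hcard, nsmul_eq_mul] at this
    rw [show G g = ∑ j, a g (h * j) from (Equiv.sum_comp (Equiv.mulLeft h) (fun j => a g j)).symm]
    simp only [G]
    linear_combination -this
  have hua : ∀ g h, u g h = η ^ G g * η ^ G h / η ^ G (g * h) := fun g h => by
    rw [← zpow_add, div_eq_mul_inv, ← zpow_sub, ← hG, zpow_mul, zpow_natCast, hη, ← hc g h]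
    simp only [a, c, Matrix.cons_val_zero, Matrix.cons_val_one, Matrix.cons_val_fin_one]
    rw [zpow_sub, zpow_mul, zpow_natCast, zpow_natCast, hζ.pow_eq_one, one_zpow, inv_one, mul_one]
  refine ⟨fun x => Additive.ofMul (r x * η ^ G x), funext fun ⟨g, h⟩ => ?_⟩
  show Additive.ofMul (r h * η ^ G h) - Additive.ofMul (r (g * h) * η ^ G (g * h)) +
    Additive.ofMul (r g * η ^ G g) = f.1 (g, h)
  have := congr_arg Additive.ofMul (hua g h)
  simp only [u, F, ofMul_mul, ofMul_div, ofMul_toMul] at this
  simp only [ofMul_mul]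
  linear_combination (norm := abel) -this


end Groth.Agent.S19224
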