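import Groth.Statements.S19227
import Groth.Agent.L09.NormEt
import Groth.Agent.L27.EtSite.HofPush
import Groth.Agent.S0071

set_option autoImplicit false
universe u
open CategoryTheory AlgebraicGeometry
open Dix

set_option backward.isDefEq.respectTransparency.types false

namespace Groth.Agent.S19227

/-- Let f : X → Y be a finite locally free morphism of schemes of constant degree d ≥ 1, so that f is
finite, flat, of finite presentation and surjective. If H²(X_et, G_m) is a torsion group, then
H²(Y_et, G_m) is a torsion group. (The source states this for a finite, flat, finitely presented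
surjection of algebraic stacks and argues with multiplication by the degree of f; the case of
schemes with f of constant degree is what is stated here.) -/
theorem result (X Y : Scheme.{u}) (f : X ⟶ Y) (d : ℕ) (hd : 1 ≤ d)
    (hf : Mor2.IsFinLocFreeOfDeg d f) (hX : IsAddTorsion (Dix.BrCoh X)) :
    IsAddTorsion (Dix.BrCoh Y) := by
  obtain ⟨⟨_, _, _⟩, hdeg⟩ := hf
  haveI := Groth.L27.EtSite.preservesFiniteLimits_pull f
  intro ξ
  let u := Groth.L09.NormEt.resEt f
  let N := Groth.L09.NormEt.normEt f
  let ζ := (EtCoh.HF Y 2).map u ξ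
  obtain ⟨m, hm, hz⟩ := isOfFinAddOrder_iff_nsmul_eq_zero.1
    (hX (EtLim.HofPush f (EtCoh.Gm X) 2 ζ))
  have hinj := (Groth.L27.EtSite.bijective_HofPush f (EtCoh.Gm X)
    (fun q hq => Groth.Agent.S0071.result f _ q hq) 2).1
  have hζ : m • ζ = 0 := hinj ((map_nsmul _ _ _).trans (hz.trans (map_zero _).symm))
  have he : (EtCoh.HF Y 2).map N ζ = d • ξ := by
    have h1 : (EtCoh.HF Y 2).map (u ≫ N) = d • 𝟙 ((EtCoh.HF Y 2).obj (EtCoh.Gm Y)) := by
      rw [Groth.L09.NormEt.resEt_normEt f d hdeg, Functor.map_nsmul, CategoryTheory.Functor.map_id]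
    rw [Functor.map_comp] at h1
    exact congr($h1 ξ)
  refine isOfFinAddOrder_iff_nsmul_eq_zero.2 ⟨m * d, Nat.mul_pos hm hd, ?_⟩
  rw [mul_nsmul', ← he]
  exact (map_nsmul ((EtCoh.HF Y 2).map N).hom m ζ).symm.trans
    ((congrArg _ hζ).trans (map_zero ((EtCoh.HF Y 2).map N).hom))

end Groth.Agent.S19227
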