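import Groth.Statements.S19232
import Groth.Agent.L13.SigmaFitting

set_option autoImplicit false
universe u v
open SigmaLin

namespace Groth.Agent.S19232

/-- Let k be a field with a ring endomorphism σ, and assume that for every n and every tuple (b_0, …,
b_n) of elements of k, not all zero, the equation x = Σ_{i=0}^{n} σ^{i+1}(x) σ^{i}(b_{n-i}) has a
nonzero solution x in k. Let V be a finite-dimensional k-vector space, T : V → V additive with T (c
• v) = σ c • T v, and e ∈ V a vector no iterate of T sends to 0. Then the k-span of the orbit e, T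
e, T² e, … contains a nonzero vector v with T v = v. -/
theorem result
    (k : Type u) [Field k] (σ : k →+* k)
    (V : Type v) [AddCommGroup V] [Module k V] [FiniteDimensional k V] (T : V →ₛₗ[σ] V)
    (h2 : ∀ (n : ℕ) (b : Fin (n + 1) → k), b ≠ 0 →
      ∃ x : k, x ≠ 0 ∧ x = ∑ i : Fin (n + 1), (⇑σ)^[i.val + 1] x * (⇑σ)^[i.val] (b (Fin.rev i)))
    (e : V) (he : ∀ m : ℕ, (⇑T)^[m] e ≠ 0) :
    ∃ v ∈ Submodule.span k (Set.range (fun m : ℕ => (⇑T)^[m] e)), v ≠ 0 ∧ T v = v := by
  exact Groth.L13.SigmaFitting.exists_fixed h2 T e he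

end Groth.Agent.S19232
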