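import Groth.Statements.S19233
import Groth.Agent.L13.SigmaFitting

set_option autoImplicit false
universe u v
open SigmaLin

namespace Groth.Agent.S19233

/-- Let k be a field with a ring endomorphism σ such that (i) for every n and every tuple (b_0, …, b_n)
in k, not all zero, the equation x = Σ_{i=0}^{n} σ^{i+1}(x) σ^{i}(b_{n-i}) has a nonzero solution x
in k, and (ii) for every c in k there is y in k with σ(y) − y + c = 0. Let V be a finite-dimensional
k-vector space and T : V → V additive with T (c • v) = σ c • T v, such that the image of T spans V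
over k. Then V admits a k-basis consisting of vectors fixed by T, and the map v ↦ v − T v is
surjective. -/
theorem result
    (k : Type u) [Field k] (σ : k →+* k)
    (V : Type v) [AddCommGroup V] [Module k V] [FiniteDimensional k V] (T : V →ₛₗ[σ] V)
    (h1 : Submodule.span k (Set.range ⇑T) = ⊤)
    (h2 : ∀ (n : ℕ) (b : Fin (n + 1) → k), b ≠ 0 →
      ∃ x : k, x ≠ 0 ∧ x = ∑ i : Fin (n + 1), (⇑σ)^[i.val + 1] x * (⇑σ)^[i.val] (b (Fin.rev i)))
    (h3 : ∀ c : k, ∃ y : k, σ y - y + c = 0) :
    (∃ b : Module.Basis (Fin (Module.finrank k V)) k V, ∀ i, T (b i) = b i) ∧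
    Function.Surjective (fun v : V => v - T v) := by
  exact Groth.L13.SigmaFitting.exists_fixed_basis_and_surjective h2 h3 T h1

end Groth.Agent.S19233
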