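import Groth.Statements.S19240
import Groth.Agent.L06.FrobFactor.Main

set_option autoImplicit false
set_option maxSynthPendingDepth 3
set_option linter.style.haveILetI false
universe u
open FrobSch

namespace Groth.Agent.S19240

open CategoryTheory CategoryTheory.Limits AlgebraicGeometry in
/-- Let k be a perfect field of characteristic p > 0 and let u : X ⟶ Y be a k-morphism between integral
k-schemes (separated, of finite type and quasi-projective over k) which is a universal
homeomorphism, and assume Y is normal. Then the degree of the function field of X over that of Y is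
p ^ n for some natural number n, and for this n there is a universal homeomorphism v : Y ⟶ X^{(n)},
where X^{(n)} is the base change of X along the n-th power of the Frobenius of Spec k, such that v
is a k-morphism, u followed by v is the n-th relative Frobenius of X over k (its composite with the
projection X^{(n)} ⟶ X is the n-th power of the absolute Frobenius of X) and v followed by the base
change of u is the n-th relative Frobenius of Y over k (the composite of v with the projection to X
and with u is the n-th power of the absolute Frobenius of Y). -/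
theorem result
    (p : ℕ) [Fact p.Prime] (k : Type u) [Field k] [CharP k p] [PerfectField k]
    {X Y : Scheme.{u}} (fX : X ⟶ Spec (CommRingCat.of k)) (fY : Y ⟶ Spec (CommRingCat.of k))
    [IsIntegral X] [IsIntegral Y] [FrobSch.IsCharP X p] [FrobSch.IsCharP Y p]
    [IsSeparated fX] [IsSeparated fY] [LocallyOfFiniteType fX] [LocallyOfFiniteType fY]
    (hqX : ∃ (N : ℕ) (i : X ⟶ CohB1.ProjSpace N k), IsImmersion i ∧ i ≫ CohB1.ProjSpace.toSpec N k = fX)
    (hqY : ∃ (N : ℕ) (i : Y ⟶ CohB1.ProjSpace N k), IsImmersion i ∧ i ≫ CohB1.ProjSpace.toSpec N k = fY)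
    (hY : Pi1.IsNormalScheme Y)
    (u : X ⟶ Y) (hu : u ≫ fY = fX) (huniv : FlatMor.IsUnivHomeo u)
    (e : u (genericPoint X) = genericPoint Y) :
    ∃ n : ℕ,
      @Module.finrank Y.functionField X.functionField _ _
          (Y.presheaf.stalkSpecializes (specializes_of_eq e) ≫ u.stalkMap (genericPoint X)).hom.toAlgebra.toModule = p ^ n ∧
      ∃ v : Y ⟶ pullback fX ((fun g : Spec (CommRingCat.of k) ⟶ Spec (CommRingCat.of k) => g ≫ FrobSch.frob (Spec (CommRingCat.of k)) p)^[n] (𝟙 (Spec (CommRingCat.of k)))),
        FlatMor.IsUnivHomeo v ∧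
        v ≫ pullback.snd fX ((fun g : Spec (CommRingCat.of k) ⟶ Spec (CommRingCat.of k) => g ≫ FrobSch.frob (Spec (CommRingCat.of k)) p)^[n] (𝟙 (Spec (CommRingCat.of k)))) = fY ∧
        u ≫ v ≫ pullback.fst fX ((fun g : Spec (CommRingCat.of k) ⟶ Spec (CommRingCat.of k) => g ≫ FrobSch.frob (Spec (CommRingCat.of k)) p)^[n] (𝟙 (Spec (CommRingCat.of k)))) =
          (fun g : X ⟶ X => g ≫ FrobSch.frob X p)^[n] (𝟙 X) ∧
        v ≫ pullback.fst fX ((fun g : Spec (CommRingCat.of k) ⟶ Spec (CommRingCat.of k) => g ≫ FrobSch.frob (Spec (CommRingCat.of k)) p)^[n] (𝟙 (Spec (CommRingCat.of k)))) ≫ u =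
          (fun g : Y ⟶ Y => g ≫ FrobSch.frob Y p)^[n] (𝟙 Y) := by
  haveI : LocallyOfFiniteType u := by
    haveI : LocallyOfFiniteType (u ≫ fY) := by rw [hu]; infer_instance
    exact locallyOfFiniteType_of_comp u fY
  obtain ⟨n, hd, hn⟩ := Groth.L06.FrobFactor.exists_degree p u e huniv
  obtain ⟨w, hw⟩ := Groth.L06.FrobFactor.exists_inverse p u e huniv hY n hn
  let Fk := Groth.L06.FrobFactor.Fn p (Spec (CommRingCat.of k)) n
  haveI : IsIso Fk := Groth.L06.FrobFactor.isIso_Fn_Spec p k n
  haveI : Surjective u := ((Groth.L20.isUnivHomeo_iff u).mp huniv).2.2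
  have hwk : w ≫ fX = fY ≫ Fk := by
    refine ext_of_isDominant u ?_
    rw [reassoc_of% hw, Groth.L06.FrobFactor.Fn_naturality, ← Category.assoc u fY, hu]
  have hwu : w ≫ u = Groth.L06.FrobFactor.Fn p Y n := by
    refine ext_of_isDominant_of_isSeparated fY ?_ u ?_
    · rw [Category.assoc, hu, hwk, Groth.L06.FrobFactor.Fn_naturality]
    · rw [reassoc_of% hw, Groth.L06.FrobFactor.Fn_naturality]
  refine ⟨n, hd, pullback.lift w fY hwk, ?_, pullback.lift_snd _ _ _, ?_, ?_⟩
  · have hv : FlatMor.IsUnivHomeo (pullback.lift w fY hwk ≫ pullback.fst fX Fk) := by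
      rw [pullback.lift_fst]
      exact Groth.L06.FrobFactor.isUnivHomeo_inverse p u huniv hw
    haveI : IsIso (pullback.fst fX Fk) := inferInstance
    exact Groth.L20.isUnivHomeo_of_comp_right hv
      ((Groth.L20.isUnivHomeo_iff _).mpr ⟨inferInstance, inferInstance, inferInstance⟩)
  · rw [pullback.lift_fst]
    exact hw
  · rw [pullback.lift_fst_assoc]
    exact hwu

end Groth.Agent.S19240
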