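import Groth.Statements.S19244
import Mathlib.CategoryTheory.Abelian.SerreClass.Localization
import Mathlib.CategoryTheory.Abelian.Basic
import Mathlib.CategoryTheory.Preadditive.AdditiveFunctor

set_option autoImplicit false
universe v v' u u'
open HomAlg3

namespace Groth.Agent.S19244

open CategoryTheory in
variable {_unused : Unit}

open CategoryTheory CategoryTheory.Limits in
theorem quasi_inverse {A : Type u} [Category.{v} A] [Abelian A] {X' X : A} (s : X' ⟶ X) (a b : ℤ)
    (ha : a • 𝟙 (kernel s) = 0) (hb : b • 𝟙 (cokernel s) = 0) : ∃ t : X ⟶ X', t ≫ s = (a * b) • 𝟙 X := by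
  have h1 : (b • 𝟙 X) ≫ cokernel.π s = 0 := by
    rw [Preadditive.zsmul_comp, Category.id_comp, ← Category.comp_id (cokernel.π s), ← Preadditive.comp_zsmul, hb, comp_zero]
  let l : X ⟶ Abelian.image s := kernel.lift (cokernel.π s) (b • 𝟙 X) h1
  have h2 : kernel.ι s ≫ (a • 𝟙 X') = 0 := by
    rw [Preadditive.comp_zsmul, Category.comp_id, ← Category.id_comp (kernel.ι s), ← Preadditive.zsmul_comp, ha, zero_comp]
  let m : Abelian.coimage s ⟶ X' := cokernel.desc (kernel.ι s) (a • 𝟙 X') h2
  refine ⟨l ≫ inv (Abelian.coimageImageComparison s) ≫ m, ?_⟩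
  have h3 : m ≫ s = a • (Abelian.coimageImageComparison s ≫ Abelian.image.ι s) := by
    apply (cancel_epi (Abelian.coimage.π s)).mp
    rw [← Category.assoc, show Abelian.coimage.π s ≫ m = a • 𝟙 X' from cokernel.π_desc _ _ _,
      Preadditive.zsmul_comp, Category.id_comp, Preadditive.comp_zsmul, Abelian.coimage_image_factorisation]
  simp only [Category.assoc]
  rw [h3, Preadditive.comp_zsmul, Preadditive.comp_zsmul, IsIso.inv_hom_id_assoc,
    show l ≫ Abelian.image.ι s = b • 𝟙 X from kernel.lift_ι _ _ _, smul_smul]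

open HomAlg3 in
open CategoryTheory in

/-- Let A be an abelian category and let P be the class of bounded-torsion objects of A, those X with n
• 𝟙_X = 0 for some nonzero integer n; assume P is a Serre class. Let L : A ⥤ D be an additive
functor to a preadditive category exhibiting D as the localization of A at the morphisms whose
kernel and cokernel are in P (so D is the quotient category A_ℚ = A ⧸ A_{b-tor}; the source assumes
A well-powered, which guarantees that this quotient exists). Then for all objects X, Y of A: (1) for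
every nonzero integer n, multiplication by n is bijective on Hom_D(L X, L Y), so that this group is
naturally a ℚ-vector space; (2) a morphism f : X ⟶ Y satisfies L f = 0 if and only if n • f = 0 for
some nonzero integer n; (3) for every g : L X ⟶ L Y there are a nonzero integer n and f : X ⟶ Y with
n • g = L f. Equivalently, the natural map Hom_A(X, Y) ⊗_ℤ ℚ → Hom_D(L X, L Y) is an isomorphism. -/
theorem result
    {A : Type u} [Category.{v} A] [Abelian A] {D : Type u'} [Category.{v'} D] [Preadditive D]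
    (P : ObjectProperty A) (hP : ∀ X : A, P X ↔ ∃ n : ℤ, n ≠ 0 ∧ n • (𝟙 X) = 0) [P.IsSerreClass]
    (L : A ⥤ D) [L.Additive] [L.IsLocalization P.isoModSerre] (X Y : A) :
    (∀ n : ℤ, n ≠ 0 → Function.Bijective (fun g : L.obj X ⟶ L.obj Y => n • g)) ∧
    (∀ f : X ⟶ Y, L.map f = 0 ↔ ∃ n : ℤ, n ≠ 0 ∧ n • f = 0) ∧
    (∀ g : L.obj X ⟶ L.obj Y, ∃ (n : ℤ) (f : X ⟶ Y), n ≠ 0 ∧ n • g = L.map f) := by
  classical
  have inv : ∀ n : ℤ, n ≠ 0 → IsIso (n • 𝟙 (L.obj X)) := by
    intro n hn
    have hW : P.isoModSerre (n • 𝟙 X) := by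
      refine ⟨(hP _).mpr ⟨n, hn, ?_⟩, (hP _).mpr ⟨n, hn, ?_⟩⟩
      · apply (cancel_mono (Limits.kernel.ι (n • 𝟙 X))).mp
        rw [Limits.zero_comp, Preadditive.zsmul_comp, Category.id_comp]
        have := Limits.kernel.condition (n • 𝟙 X)
        rwa [Preadditive.comp_zsmul, Category.comp_id] at this
      · apply (cancel_epi (Limits.cokernel.π (n • 𝟙 X))).mp
        rw [Limits.comp_zero, Preadditive.comp_zsmul, Category.comp_id]
        have := Limits.cokernel.condition (n • 𝟙 X)
        rwa [Preadditive.zsmul_comp, Category.id_comp] at this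
    have := Localization.inverts L P.isoModSerre _ hW
    rwa [Functor.map_zsmul, L.map_id] at this
  refine ⟨fun n hn => ?_, fun f => ⟨fun hf => ?_, fun ⟨n, hn, hf⟩ => ?_⟩, fun g => ?_⟩
  · haveI := inv n hn
    have e : ∀ g : L.obj X ⟶ L.obj Y, n • g = (n • 𝟙 (L.obj X)) ≫ g := fun g => by
      rw [Preadditive.zsmul_comp, Category.id_comp]
    refine ⟨fun g g' h => ?_, fun g => ⟨CategoryTheory.inv (n • 𝟙 (L.obj X)) ≫ g, ?_⟩⟩
    · simp only [e] at h
      exact (cancel_epi _).mp h
    · show n • _ = g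
      rw [e, IsIso.hom_inv_id_assoc]
  · rw [← L.map_zero, MorphismProperty.map_eq_iff_precomp L P.isoModSerre] at hf
    obtain ⟨Z, s, hs, heq⟩ := hf
    rw [Limits.comp_zero] at heq
    obtain ⟨a, ha0, ha⟩ := (hP _).mp hs.1
    obtain ⟨b, hb0, hb⟩ := (hP _).mp hs.2
    obtain ⟨t, ht⟩ := quasi_inverse s a b ha hb
    refine ⟨a * b, mul_ne_zero ha0 hb0, ?_⟩
    rw [← Category.id_comp f, ← Preadditive.zsmul_comp, ← ht, Category.assoc, heq, Limits.comp_zero]
  · haveI := inv n hn
    rw [← cancel_epi (n • 𝟙 (L.obj X)), Limits.comp_zero, Preadditive.zsmul_comp, Category.id_comp, ← Functor.map_zsmul, hf, L.map_zero]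
  · obtain ⟨φ, rfl⟩ := Localization.exists_rightFraction L P.isoModSerre g
    obtain ⟨a, ha0, ha⟩ := (hP _).mp φ.hs.1
    obtain ⟨b, hb0, hb⟩ := (hP _).mp φ.hs.2
    obtain ⟨t, ht⟩ := quasi_inverse φ.s a b ha hb
    refine ⟨a * b, t ≫ φ.f, mul_ne_zero ha0 hb0, ?_⟩
    rw [L.map_comp, ← MorphismProperty.RightFraction.map_s_comp_map φ L (Localization.inverts L _), ← Category.assoc,
      ← L.map_comp, ht, Functor.map_zsmul, L.map_id, Preadditive.zsmul_comp, Category.id_comp]

end Groth.Agent.S19244
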