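import Groth.Statements.S19246
import Groth.Agent.L04.SupportSh.FlasqueTower
-- import your own Groth.Agent.* helpers here

set_option autoImplicit false
universe u
open CohTop

namespace Groth.Agent.S19246

open CategoryTheory CategoryTheory.Limits TopologicalSpace Opposite in
/-- Let X be a topological space and (M_n)_{n ≥ 0} an inverse system of abelian sheaves on X indexed by
the natural numbers, such that every M_n is flasque and every transition map M_{n+1} ⟶ M_n is an
epimorphism of sheaves with flasque kernel. Then the limit sheaf lim_n M_n is flasque. (The source's
statement is about flasque de Rham–Witt systems on a scheme, whose definition is exactly this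
condition on the underlying tower of abelian sheaves; the additional structure plays no role in the
assertion or its proof, so the row is stated for towers of abelian sheaves on any space.) -/
theorem result {X : TopCat.{u}} (M : ℕᵒᵖ ⥤ CohTop.Ab X) :
    (∀ n : ℕ, TopCat.Sheaf.IsFlasque (M.obj (op n))) →
      (∀ n : ℕ, Epi (M.map (homOfLE (Nat.le_succ n)).op)) →
      (∀ n : ℕ, TopCat.Sheaf.IsFlasque (kernel (M.map (homOfLE (Nat.le_succ n)).op) : CohTop.Ab X)) →
      TopCat.Sheaf.IsFlasque (limit M : CohTop.Ab X) := by
  intro h1 h2 h3
  exact Groth.L04.FlasqueTower.isFlasque_limit M h1 h2 h3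

end Groth.Agent.S19246
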