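import Groth.Statements.S19250
import Groth.Agent.L27.SmoothLA.ModAffine

set_option autoImplicit false
set_option linter.style.haveILetI false
set_option backward.isDefEq.respectTransparency.types false
universe u
open CategoryTheory CategoryTheory.Limits AlgebraicGeometry Opposite
attribute [local instance] HasDerivedCategory.standard
open EtBC

namespace Groth.Agent.S19250

/-- For the affine line, let S be a locally Noetherian scheme, p : 𝔸¹_S ⟶ S the structure morphism of
the affine line over S, and Λ a commutative ring in which some positive integer n, invertible on S,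
vanishes. Assume that the unbounded derived direct image Rp_* on sheaves of Λ-modules preserves
small direct sums. Then the inverse image functor p^* : D(S_et, Λ) ⟶ D(𝔸¹_S,et, Λ) between unbounded
derived categories of sheaves of Λ-modules on the small etale sites is full and faithful. (The
statement for a vector bundle V ⟶ S reduces to this one Zariski-locally on S; the preservation of
direct sums by Rp_* holds over a locally Noetherian base by a cohomological-dimension bound and is
carried here as a hypothesis. Left exactness of p^* and existence of Rp_* are instance hypotheses.) -/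
theorem result (S : Scheme.{u}) [IsLocallyNoetherian S]
    (Λ : Type (u + 1)) [CommRing Λ] (n : ℕ) (hn : 0 < n) (hΛ : (n : Λ) = 0) (hS : IsUnit (n : Γ(S, ⊤)))
    [PreservesFiniteLimits (EtModW.pull Λ (𝔸(PUnit.{u + 1}; S) ↘ S))]
    [EtBC.HasRpushMod Λ (𝔸(PUnit.{u + 1}; S) ↘ S)]
    [∀ (ι : Type (u + 1)), PreservesColimitsOfShape (Discrete ι) (EtBC.RpushModD Λ (𝔸(PUnit.{u + 1}; S) ↘ S))] :
    (EtBC.pullModD Λ (𝔸(PUnit.{u + 1}; S) ↘ S)).Full ∧ (EtBC.pullModD Λ (𝔸(PUnit.{u + 1}; S) ↘ S)).Faithful := by
  haveI : PreservesColimitsOfShape (Discrete ℕ) (EtBC.RpushModD Λ (𝔸(PUnit.{u + 1}; S) ↘ S)) :=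
    preservesColimitsOfShape_of_equiv (Discrete.equivalence (Equiv.ulift.{u + 1} : ULift.{u + 1} ℕ ≃ ℕ)) _
  have h := fun M : EtModW.Mod Λ S => Groth.L27.SmoothLA.ModA.unit_acyc_of_ab (𝔸(PUnit.{u + 1}; S) ↘ S) M
    (Groth.L27.SmoothLA.ModA.acyclic_affineSpace' S PUnit.{u + 1} n hS _ (Groth.L27.SmoothLA.ModA.killedBy_forget hΛ M)).1
    (Groth.L27.SmoothLA.ModA.acyclic_affineSpace' S PUnit.{u + 1} n hS _ (Groth.L27.SmoothLA.ModA.killedBy_forget hΛ M)).2
  exact Groth.L27.SmoothLA.ModA.fullyFaithful_pullModD _ (fun M => (h M).1) (fun M => (h M).2)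

end Groth.Agent.S19250
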