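import Groth.Statements.S19254
import Groth.Agent.L10.EtCoprod.Rpush

set_option autoImplicit false
set_option backward.defeqAttrib.useBackward true
set_option backward.isDefEq.respectTransparency false
universe u
open CategoryTheory CategoryTheory.Limits AlgebraicGeometry Opposite
attribute [local instance] HasDerivedCategory.standard
open EtBC

namespace Groth.Agent.S19254

/-- Let f : X ⟶ S be a quasi-compact quasi-separated morphism of schemes. Assume that every
quasi-compact quasi-separated scheme etale over S, and every quasi-compact quasi-separated scheme
etale over X, has finite etale cohomological dimension for all abelian sheaves (for each such U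
there is d with Hq(U, F) = 0 for every abelian etale sheaf F and every q > d). Then the unbounded
derived direct image Rf_* : D(X_et) ⟶ D(S_et) of abelian etale sheaves (its existence is an instance
hypothesis) preserves small direct sums. (When S is strictly local and Noetherian and f is of finite
type, every such U has finite etale cohomological dimension, and the published corollary reduces to
that case; here the condition is carried as a hypothesis and f is only assumed quasi-compact and
quasi-separated.) -/
theorem result {X S : Scheme.{u}} (f : X ⟶ S) [QuasiCompact f] [QuasiSeparated f]
    [DCoh.HasRpushEt X f]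
    (hS : ∀ U : S.Etale, CompactSpace ↥(U.left) → QuasiSeparatedSpace ↥(U.left) →
      ∃ d : ℕ, ∀ (F : EtCoh.Ab U.left) (q : ℕ), d < q → Subsingleton (EtCoh.H U.left F q))
    (hX : ∀ U : X.Etale, CompactSpace ↥(U.left) → QuasiSeparatedSpace ↥(U.left) →
      ∃ d : ℕ, ∀ (F : EtCoh.Ab U.left) (q : ℕ), d < q → Subsingleton (EtCoh.H U.left F q))
    (ι : Type (u + 1)) : PreservesColimitsOfShape (Discrete ι) (DCoh.RpushEt X f) := by
  exact Groth.L10.EtCoprod.preservesCoproducts_RpushEt f hX ι

end Groth.Agent.S19254
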