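import Groth.Statements.S19255
import Groth.Agent.L28.CurveCd.UDDim
-- import your own Groth.Agent.* helpers here

set_option autoImplicit false
set_option backward.isDefEq.respectTransparency.types false
universe u
open CategoryTheory CategoryTheory.Limits AlgebraicGeometry Opposite
open EtCd

namespace Groth.Agent.S19255

/-- Let X be a Noetherian scheme of Krull dimension at most d and F an abelian sheaf on the small etale
site of X which is a sheaf of ℚ-vector spaces, i.e. multiplication by every positive integer is
bijective on the sections of F over every etale X-scheme. Then Hⁱ(X_et, F) = 0 for every i > d. -/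
theorem result (X : Scheme.{u}) [IsNoetherian X] (d : ℕ)
    (hd : topologicalKrullDim ↥X ≤ d) (F : EtCoh.Ab X)
    (hF : ∀ (U : X.Etale) (m : ℕ), 0 < m → Function.Bijective (fun s : EtCoh.sect F U => m • s))
    (i : ℕ) (hi : d < i) : Subsingleton (EtCoh.H X F i) := by
  refine Groth.L28.CurveCd.subsingleton_H_UD_height (d + 1) X (fun y => ?_) F (fun m hm => ?_) i (by omega)
  · have h : (Order.height (Groth.L28.CurveCd.cl y) : WithBot ℕ∞) ≤ (d : ℕ) :=
      (Order.height_le_krullDim (Groth.L28.CurveCd.cl y)).trans hd
    push_cast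
    exact (WithBot.coe_le_coe.1 h).trans_lt (by exact_mod_cast Nat.lt_succ_self d)
  · have happ : ∀ (U : X.Etale) (s : F.obj.obj (Opposite.op U)), (m • 𝟙 F : F ⟶ F).hom.app (Opposite.op U) s = m • s :=
      fun U s => by
        let e : (F ⟶ F) →+ F.obj.obj (Opposite.op U) :=
          AddMonoidHom.mk' (fun g => g.hom.app (Opposite.op U) s) fun _ _ => rfl
        exact map_nsmul e m (𝟙 F)
    haveI : IsIso ((sheafToPresheaf _ _).map (m • 𝟙 F : F ⟶ F)) := by
      refine @NatIso.isIso_of_isIso_app _ _ _ _ _ _ _ fun U => ?_
      refine (ConcreteCategory.isIso_iff_bijective _).2 ?_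
      have h' : (fun s : F.obj.obj U => (m • 𝟙 F : F ⟶ F).hom.app U s) = fun s => m • s := funext (happ U.unop)
      show Function.Bijective (fun s : F.obj.obj U => (m • 𝟙 F : F ⟶ F).hom.app U s)
      rw [h']
      exact hF U.unop m hm
    exact isIso_of_reflects_iso (m • 𝟙 F : F ⟶ F) (sheafToPresheaf _ _)

end Groth.Agent.S19255
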