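import Groth.Statements.S19258
import Mathlib.Topology.Instances.AddCircle.Defs
import Mathlib.GroupTheory.OrderOfElement
import Mathlib.Tactic.FieldSimp
import Mathlib.Tactic.Ring
import Mathlib.GroupTheory.Archimedean

set_option autoImplicit false
universe u
open PontDual

namespace Groth.Agent.S19258

private lemma torsion_form {N : ℕ} (hN : 0 < N) (y : AddCircle (1 : ℚ)) (hy : (N : ℤ) • y = 0) :
    ∃ m : ℤ, y = m • ((1 / N : ℚ) : AddCircle (1 : ℚ)) := by
  obtain ⟨q, rfl⟩ := QuotientAddGroup.mk_surjective y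
  change ((N : ℤ) • (q : AddCircle (1 : ℚ))) = 0 at hy
  rw [← AddCircle.coe_zsmul, AddCircle.coe_eq_zero_iff] at hy
  obtain ⟨m, hm⟩ := hy
  refine ⟨m, ?_⟩
  change (q : AddCircle (1 : ℚ)) = _
  rw [← AddCircle.coe_zsmul]
  congr 1
  simp only [zsmul_eq_mul, mul_one, Int.cast_natCast] at hm
  rw [zsmul_eq_mul, hm]
  field_simp

private lemma key {G G' : Type*} [AddCommGroup G] [AddCommGroup G'] (hG' : IsAddTorsion G')
    (β : G' →+ (G →+ AddCircle (1 : ℚ))) (F : Finset G') :
    ∀ χ : G →+ AddCircle (1 : ℚ), (∀ x : G, (∀ f ∈ F, β f x = 0) → χ x = 0) → ∃ f', β f' = χ := by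
  classical
  induction F using Finset.induction with
  | empty => exact fun χ hχ => ⟨0, by ext x; simp [hχ x (fun f hf => absurd hf (Finset.notMem_empty f))]⟩
  | insert a F ha ih =>
    intro χ hχ
    let K : AddSubgroup G :=
      { carrier := {x | ∀ f ∈ F, β f x = 0}
        zero_mem' := fun f _ => map_zero _
        add_mem' := fun hx hy f hf => by rw [map_add, hx f hf, hy f hf, add_zero]
        neg_mem' := fun hx f hf => by rw [map_neg, hx f hf, neg_zero] }
    let N := addOrderOf a
    have hN : 0 < N := (addOrderOf_pos_iff.mpr (hG' a))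
    have htor : ∀ x, (N : ℤ) • β a x = 0 := fun x => by
      rw [natCast_zsmul, ← AddMonoidHom.nsmul_apply, ← map_nsmul, addOrderOf_nsmul_eq_zero, map_zero]
      rfl
    let e : AddCircle (1 : ℚ) := ((1 / N : ℚ) : AddCircle (1 : ℚ))
    have he : (N : ℤ) • e = 0 := by
      rw [← AddCircle.coe_zsmul, AddCircle.coe_eq_zero_iff]
      refine ⟨1, ?_⟩
      have : (N : ℚ) ≠ 0 := by exact_mod_cast hN.ne'
      simp only [zsmul_eq_mul, Int.cast_natCast]
      field_simp
      simp
    let J : AddSubgroup ℤ := (K.map (β a)).comap (zmultiplesHom (AddCircle (1 : ℚ)) e)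
    obtain ⟨d, hd⟩ := Int.subgroup_cyclic J
    have hNJ : (N : ℤ) ∈ J := by
      change (N : ℤ) • e ∈ K.map (β a)
      rw [he]; exact zero_mem _
    have hdJ : d ∈ J := hd ▸ AddSubgroup.mem_closure_singleton_self d
    obtain ⟨x₀, hx₀, hx₀d⟩ := hdJ
    change β a x₀ = d • e at hx₀d
    rw [hd, AddSubgroup.mem_closure_singleton] at hNJ
    obtain ⟨k, hk⟩ := hNJ
    rw [smul_eq_mul] at hk
    have hdk : d ≠ 0 ∧ k ≠ 0 := by
      have : k * d ≠ 0 := hk ▸ (by exact_mod_cast hN.ne')
      exact ⟨right_ne_zero_of_mul this, left_ne_zero_of_mul this⟩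
    have ht : k • χ x₀ = 0 := by
      rw [← map_zsmul]
      refine hχ _ fun f hf => ?_
      rcases Finset.mem_insert.mp hf with rfl | hf
      · rw [map_zsmul, hx₀d, smul_smul, hk, he]
      · exact (K.zsmul_mem hx₀ k) f hf
    obtain ⟨c, hc⟩ : ∃ c : ℤ, χ x₀ = c • (d • e) := by
      obtain ⟨m, hm⟩ := torsion_form (N := k.natAbs) (Int.natAbs_pos.mpr hdk.2) (χ x₀) (by
        rcases Int.natAbs_eq k with h | h
        · rw [← h, ht]
        · rw [show (k.natAbs : ℤ) = -k by omega, neg_smul, ht, neg_zero])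
      refine ⟨m * k.sign, ?_⟩
      rw [hm, smul_smul, ← AddCircle.coe_zsmul, ← AddCircle.coe_zsmul]
      congr 1
      have hk' : (k : ℚ) * d = N := by exact_mod_cast hk
      have hs : ((k.sign : ℤ) : ℚ) * (k : ℚ) = (k.natAbs : ℚ) := by
        have := congrArg (Int.cast : ℤ → ℚ) (Int.sign_mul_self_eq_natAbs k)
        rw [Int.cast_mul, Int.cast_natCast] at this
        exact this
      have h0 : (k.natAbs : ℚ) ≠ 0 := by exact_mod_cast (Int.natAbs_pos.mpr hdk.2).ne'
      have hN' : (N : ℚ) ≠ 0 := by exact_mod_cast hN.ne'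
      simp only [zsmul_eq_mul, Int.cast_mul]
      field_simp
      rw [← hk', ← hs]
      rcases Int.lt_or_lt_of_ne hdk.2 with hlt | hlt
      · rw [Int.sign_eq_neg_one_of_neg hlt]; push_cast; ring
      · rw [Int.sign_eq_one_of_pos hlt]; push_cast; ring
    obtain ⟨f', hf'⟩ := ih (χ - c • β a) (fun x hx => by
      obtain ⟨m, hm⟩ := torsion_form hN (β a x) (htor x)
      have hmJ : m ∈ J := ⟨x, hx, hm⟩
      rw [hd, AddSubgroup.mem_closure_singleton] at hmJ
      obtain ⟨l, rfl⟩ := hmJ
      have hz : χ (x - l • x₀) = 0 := hχ _ fun f hf => by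
        rcases Finset.mem_insert.mp hf with rfl | hf
        · rw [map_sub, map_zsmul, hx₀d, hm, smul_assoc, sub_self]
        · exact (K.sub_mem hx (K.zsmul_mem hx₀ l)) f hf
      rw [map_sub, map_zsmul, sub_eq_zero] at hz
      show χ x - c • β a x = 0
      rw [hz, hm, hc, smul_assoc, smul_comm c l, sub_self])
    exact ⟨f' + c • a, by rw [map_add, map_zsmul, hf', sub_add_cancel]⟩


/-- Let G and G' be abelian groups such that every element of G' has finite order, and let β : G' →
Hom(G, ℚ/ℤ) be an injective homomorphism (equivalently a pairing G' × G → ℚ/ℤ with no left kernel).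
Endow G with the weak topology defined by G': the coarsest topology for which every character β(f),
f ∈ G', is continuous when ℚ/ℤ carries the discrete topology. Then every homomorphism χ : G → ℚ/ℤ
that is continuous for this topology on G and the discrete topology on ℚ/ℤ equals β(f) for some f ∈
G', so that β is a bijection from G' onto the group of continuous characters of G. -/
theorem result
    (G : Type u) (G' : Type u) [AddCommGroup G] [AddCommGroup G'] (hG' : IsAddTorsion G')
    (β : G' →+ (G →+ AddCircle (1 : ℚ))) (hβ : Function.Injective β)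
    (χ : G →+ AddCircle (1 : ℚ))
    (hχ : @Continuous G (AddCircle (1 : ℚ)) (⨅ f' : G', TopologicalSpace.induced (fun x : G => β f' x) ⊥) ⊥ χ) :
    ∃ f' : G', β f' = χ := by
  classical
  let τ : TopologicalSpace G := ⨅ f' : G', TopologicalSpace.induced (fun x : G => β f' x) ⊥
  have hopen : @IsOpen G τ (χ ⁻¹' {0}) := @IsOpen.preimage G (AddCircle (1 : ℚ)) τ ⊥ χ hχ {0} trivial
  have hmem : χ ⁻¹' {0} ∈ @nhds G τ 0 := @IsOpen.mem_nhds G τ 0 _ hopen (map_zero χ)
  rw [nhds_iInf] at hmem
  haveI hbot : @DiscreteTopology (AddCircle (1 : ℚ)) ⊥ := @DiscreteTopology.mk _ ⊥ rfl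
  simp only [nhds_induced, @nhds_discrete (AddCircle (1 : ℚ)) ⊥ hbot, Filter.comap_pure, map_zero] at hmem
  obtain ⟨F, hF⟩ := Filter.mem_iInf_finite _ |>.mp hmem
  refine key hG' β F χ fun x hx => ?_
  rw [← Finset.inf_eq_iInf] at hF
  have : x ∈ χ ⁻¹' {0} := by
    refine Filter.mem_principal.mp (?_ : χ ⁻¹' {0} ∈ Filter.principal (⋂ f ∈ F, (fun x : G => β f x) ⁻¹' {0}))
      (Set.mem_iInter₂.mpr fun f hf => hx f hf)
    rw [← Filter.iInf_principal_finset]
    rwa [Finset.inf_eq_iInf] at hF
  exact this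

end Groth.Agent.S19258
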