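import Groth.Statements.S19264
import Groth.Agent.L14.WittFil.Divis

set_option autoImplicit false
universe u
open WittFil

namespace Groth.Agent.S19264

/-- Let A be a unique factorisation domain of characteristic p, x_1, …, x_r pairwise non-associate prime
elements of A, B = A[1/(x_1⋯x_r)] with u_i the unit of B defined by x_i, n ∈ ℤ^r and m ≥ 0. The
restriction map from truncated p-typical Witt vectors of length m+1 to those of length m over B
(forgetting the last coordinate) maps the filtered piece cut out by ∏ u_i ^ n_i onto the filtered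
piece cut out by ∏ u_i ^ ⌊n_i / p⌋; that is, the image is exactly that piece. (The other parts of
the exact sequence, injectivity of the (m-fold) Verschiebung from the fractional ideal generated by
(∏ u_i ^ n_i)⁻¹ and exactness in the middle, are immediate from the definition and are not restated.
The published setting is a regular local ring; only unique factorisation is used.) -/
theorem result (p : ℕ) [Fact p.Prime] {A B : Type u} [CommRing A] [IsDomain A]
    [UniqueFactorizationMonoid A] [CharP A p] [CommRing B] [Algebra A B] {r : ℕ} (x : Fin r → A)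
    (hx : ∀ i, Prime (x i)) (hxa : ∀ i j, Associated (x i) (x j) → i = j)
    [IsLocalization.Away (∏ i, x i) B] (u : Fin r → Bˣ)
    (hu : ∀ i, (u i : B) = algebraMap A B (x i)) (n : Fin r → ℤ) (m : ℕ) :
    (TruncatedWittVector.truncate (Nat.le_succ m)) '' WittFil.fil p (m + 1) (A := A) (WittFil.zmon u n) =
      WittFil.fil p m (A := A) (WittFil.zmon u (fun i => n i / (p : ℤ))) := by
  have hp : p.Prime := Fact.out
  have hP : (0 : ℤ) < p := by exact_mod_cast hp.pos
  set R : Fin r → ℕ := fun i => (n i % (p : ℤ)).toNat with hR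
  have hRc : ∀ i, (R i : ℤ) = n i % (p : ℤ) := fun i => Int.toNat_of_nonneg (Int.emod_nonneg _ hP.ne')
  have hRlt : ∀ i, R i < p := fun i => by
    have h1 := hRc i; have h2 := Int.emod_lt_of_pos (n i) hP; omega
  have hsplit : WittFil.zmon u n =
      WittFil.zmon u (fun i => n i / (p : ℤ)) ^ p * algebraMap A B (∏ i, x i ^ R i) := by
    rw [Groth.L14.WittFil.zmon_pow, ← Groth.L14.WittFil.zmon_natCast x u hu, Groth.L14.WittFil.zmon_mul]
    congr 1
    funext i
    rw [hRc]
    exact (Int.ediv_mul_add_emod (n i) p).symm
  have hone : ∀ y : B, y ^ p ^ 1 = y ^ p := fun y => by rw [pow_one]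
  ext y
  constructor
  · rintro ⟨z, hz, rfl⟩ j
    rw [TruncatedWittVector.coeff_truncate]
    obtain ⟨a, ha⟩ := hz (Fin.castLE (Nat.le_succ m) j)
    rw [show m + 1 - 1 - ((Fin.castLE (Nat.le_succ m) j : Fin (m + 1)) : ℕ) = (m - 1 - (j : ℕ)) + 1 by
      have := j.2; simp only [Fin.val_castLE]; omega, pow_succ, pow_mul, hsplit, ← mul_assoc, ← mul_pow] at ha
    obtain ⟨b, hb⟩ := Groth.L14.WittFil.exists_eq_prod_mul p x hx hxa
      (TruncatedWittVector.coeff (Fin.castLE (Nat.le_succ m) j) z ^ p ^ (m - 1 - (j : ℕ)) *
        WittFil.zmon u (fun i => n i / (p : ℤ)) * algebraMap A B (∏ i, x i)) p hp.pos a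
      (fun i => p - R i) (fun i => by have := hRlt i; omega) (by
        rw [map_mul, ha, mul_assoc _ (algebraMap A B (∏ i, x i ^ R i)), ← map_mul, mul_pow, ← map_pow]
        congr 2
        rw [← Finset.prod_mul_distrib, ← Finset.prod_pow]
        refine Finset.prod_congr rfl fun i _ => ?_
        rw [← pow_add, show R i + (p - R i) = p by have := hRlt i; omega])
    refine ⟨b, ?_⟩
    rw [map_mul, mul_comm (algebraMap A B (∏ i, x i))] at hb
    exact (IsLocalization.Away.algebraMap_isUnit (∏ i, x i)).mul_left_injective hb.symm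
  · intro hy
    refine ⟨TruncatedWittVector.mk p (fun j : Fin (m + 1) => if h : (j : ℕ) < m then TruncatedWittVector.coeff ⟨j, h⟩ y else 0), ?_, ?_⟩
    · intro j
      rw [TruncatedWittVector.coeff_mk]
      split_ifs with h
      · obtain ⟨a, ha⟩ := hy ⟨j, h⟩
        refine ⟨a ^ p * ∏ i, x i ^ R i, ?_⟩
        rw [map_mul, map_pow, ha, mul_pow, hsplit, mul_assoc, ← pow_mul, ← pow_succ]
        congr 3
        simp only; omega
      · exact ⟨0, by rw [map_zero, zero_pow (pow_ne_zero _ hp.ne_zero), zero_mul]⟩
    · refine TruncatedWittVector.ext fun j => ?_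
      rw [TruncatedWittVector.coeff_truncate, TruncatedWittVector.coeff_mk, dif_pos (by simp)]
      rfl

end Groth.Agent.S19264
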