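import Groth.Statements.S19267
import Groth.Agent.L14.WittFil.Teich

set_option autoImplicit false
universe u
open WittFil

namespace Groth.Agent.S19267

/-- Let A → B be a homomorphism of commutative rings, u a unit of B, m ≥ 0 and n, l integers. For an
element c of B call the filtered piece cut out by c the set of truncated p-typical Witt vectors of
length m over B whose j-th coordinate y_j satisfies: y_j ^ (p ^ (m-1-j)) · c lies in the image of A,
for every j < m. Then the piece cut out by u ^ (n − p^(m−1)·l) is exactly the image of the piece cut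
out by u ^ n under multiplication by the truncated Teichmüller representative [u ^ l]. (The
published case is B = S[[π]][1/π] over A = S[[π]] with u = π; the computation is the same in
general.) -/
theorem result (p : ℕ) [Fact p.Prime] {A B : Type u}
    [CommRing A] [CommRing B] [Algebra A B] (m : ℕ) (u : Bˣ) (n l : ℤ) :
    WittFil.fil p m (A := A) ((u ^ (n - (p : ℤ) ^ (m - 1) * l) : Bˣ) : B) =
      (fun a => WittVector.truncate m (WittVector.teichmuller p ((u ^ l : Bˣ) : B)) * a) ''
        WittFil.fil p m (A := A) ((u ^ n : Bˣ) : B) := by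
  have hc : ∀ (w : ℤ) (a : TruncatedWittVector p m B) (j : Fin m),
      TruncatedWittVector.coeff j (WittVector.truncate m (WittVector.teichmuller p ((u ^ w : Bˣ) : B)) * a) =
        ((u ^ w : Bˣ) : B) ^ p ^ (j : ℕ) * TruncatedWittVector.coeff j a := by
    intro w a j
    obtain ⟨X, rfl⟩ := WittVector.truncate_surjective p m B a
    rw [← map_mul, WittVector.coeff_truncate, WittVector.coeff_truncate, Groth.L14.WittFilTeich.coeff_mul]
  have hexp : ∀ (w n' : ℤ) (j : Fin m) (z : B),
      (((u ^ w : Bˣ) : B) ^ p ^ (j : ℕ) * z) ^ p ^ (m - 1 - (j : ℕ)) * ((u ^ n' : Bˣ) : B) =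
        z ^ p ^ (m - 1 - (j : ℕ)) * ((u ^ (n' + (p : ℤ) ^ (m - 1) * w) : Bˣ) : B) := by
    intro w n' j z
    rw [mul_pow, ← pow_mul, ← pow_add, show (j : ℕ) + (m - 1 - (j : ℕ)) = m - 1 by have := j.2; omega,
      zpow_add, Units.val_mul, mul_comm ((p : ℤ) ^ (m - 1)) w, zpow_mul, ← Nat.cast_pow, zpow_natCast,
      Units.val_pow_eq_pow_val]
    ring
  ext y
  constructor
  · intro hy
    refine ⟨WittVector.truncate m (WittVector.teichmuller p ((u ^ (-l) : Bˣ) : B)) * y, fun j => ?_, ?_⟩
    · rw [hc, hexp, show n + (p : ℤ) ^ (m - 1) * -l = n - (p : ℤ) ^ (m - 1) * l by ring]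
      exact hy j
    · simp only
      rw [← mul_assoc, ← map_mul, ← map_mul, ← Units.val_mul, ← zpow_add, add_neg_cancel, zpow_zero, Units.val_one,
        map_one, map_one, one_mul]
  · rintro ⟨a, ha, rfl⟩ j
    rw [hc, hexp, sub_add_cancel]
    exact ha j

end Groth.Agent.S19267
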