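import Mathlib.RingTheory.AdicCompletion.Functoriality
import Mathlib.RingTheory.AdicCompletion.Algebra
import Mathlib.RingTheory.LocalRing.MaximalIdeal.Basic
import Mathlib.RingTheory.Noetherian.Defs
import Mathlib.RingTheory.Finiteness.Defs
import Mathlib.RingTheory.AdicCompletion.AsTensorProduct
import Mathlib.RingTheory.AdicCompletion.Exactness
import Mathlib.RingTheory.Filtration

set_option autoImplicit false
namespace CAlg
end CAlg
universe u
open CAlg

namespace Groth.Agent.S19269

open IsLocalRing in
/-- Let R be a Noetherian local ring with maximal ideal 𝔪, M a finitely generated R-module and M^ its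
𝔪-adic completion, a module over the 𝔪-adic completion R^ of R. Let N' be an R^-submodule of M^ and
N an R-submodule of M whose image in M^ is contained in N' and is dense in N' for the 𝔪-adic
topology, in the sense that for every y in N' and every k there is x in N with y ≡ x modulo the
kernel of M^ → M/𝔪^k M. Then N' equals the image of the completion of N under the map induced by the
inclusion N → M (so N' is the completion of N), and N is the set of elements of M whose image in M^
lies in N'. -/
theorem result {R : Type u} [CommRing R]
    [IsNoetherianRing R] [IsLocalRing R] {M : Type u} [AddCommGroup M] [Module R M]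
    [Module.Finite R M] (N : Submodule R M)
    (N' : Submodule (AdicCompletion (maximalIdeal R) R) (AdicCompletion (maximalIdeal R) M))
    (hle : ∀ x ∈ N, AdicCompletion.of (maximalIdeal R) M x ∈ N')
    (hdense : ∀ y ∈ N', ∀ k : ℕ, ∃ x ∈ N,
      AdicCompletion.eval (maximalIdeal R) M k y = Submodule.Quotient.mk x) :
    (N'.restrictScalars R =
        (LinearMap.range (AdicCompletion.map (maximalIdeal R) N.subtype)).restrictScalars R) ∧
      (∀ x : M, x ∈ N ↔ AdicCompletion.of (maximalIdeal R) M x ∈ N') := by
  have hK : ∀ x : M, AdicCompletion.of (maximalIdeal R) M x ∈ N' → x ∈ N := fun x hx => by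
    rw [← Submodule.Quotient.mk_eq_zero N, ← Submodule.mem_bot R,
      ← Ideal.iInf_pow_smul_eq_bot_of_le_jacobson (M := M ⧸ N) (maximalIdeal R) (maximalIdeal_le_jacobson _),
      Submodule.mem_iInf]
    intro k
    obtain ⟨z, hz, he⟩ := hdense _ hx k
    rw [AdicCompletion.eval_of, Submodule.mkQ_apply, Submodule.Quotient.eq] at he
    have := Submodule.mem_map_of_mem (f := N.mkQ) he
    rw [Submodule.map_smul'', Submodule.map_top, Submodule.range_mkQ, map_sub, Submodule.mkQ_apply,
      Submodule.mkQ_apply, (Submodule.Quotient.mk_eq_zero N).mpr hz, sub_zero] at this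
    exact this
  refine ⟨?_, fun x => ⟨hle x, hK x⟩⟩
  refine le_antisymm (fun y hy => ?_) ?_
  · refine (AdicCompletion.map_exact (I := maximalIdeal R) Subtype.val_injective
      (LinearMap.exact_subtype_mkQ N) N.mkQ_surjective y).mp (AdicCompletion.ext fun k => ?_)
    obtain ⟨z, hz, he⟩ := hdense y hy k
    rw [AdicCompletion.map_val_apply, show y.val k = Submodule.Quotient.mk z from he]
    show Submodule.Quotient.mk (N.mkQ z) = 0
    rw [Submodule.mkQ_apply, (Submodule.Quotient.mk_eq_zero N).mpr hz, Submodule.Quotient.mk_zero]
  · rintro _ ⟨w, rfl⟩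
    obtain ⟨t, rfl⟩ := AdicCompletion.ofTensorProduct_surjective_of_finite (maximalIdeal R) N w
    induction t with
    | zero => rw [map_zero, map_zero]; exact zero_mem _
    | tmul r x =>
      rw [AdicCompletion.ofTensorProduct_tmul, map_smul, AdicCompletion.map_of]
      exact N'.smul_mem r (hle _ x.2)
    | add a b ha hb => rw [map_add, map_add]; exact add_mem ha hb

end Groth.Agent.S19269
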