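import Mathlib.RingTheory.Kaehler.Basic
import Mathlib.RingTheory.RegularLocalRing.Defs
import Mathlib.Algebra.CharP.Defs
import Mathlib.LinearAlgebra.Basis.Defs
import Mathlib.LinearAlgebra.FreeModule.Basic
import Mathlib.RingTheory.Finiteness.Defs
import Mathlib.RingTheory.KrullDimension.Basic
import Mathlib.RingTheory.Smooth.Kaehler
import Mathlib.RingTheory.Smooth.Field
import Mathlib.RingTheory.LocalRing.Module
import Mathlib.RingTheory.RegularLocalRing.Defs
import Mathlib.Algebra.CharP.Algebra
import Mathlib.Algebra.Algebra.ZMod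
import Groth.Agent.L02.CharPSection

set_option autoImplicit false
namespace CAlg
end CAlg
universe u
open CAlg

namespace Groth.Agent.S19270

open IsLocalRing in
/-- Let A be a regular local ring of prime characteristic p, of Krull dimension N, with maximal ideal
generated by x_1, …, x_N, and assume that the module Ω_A of absolute Kähler differentials of A
(differentials relative to ℤ, equivalently relative to the prime field) is a free A-module of finite
rank. Then dx_1, …, dx_N are part of a basis of Ω_A: there exist a basis b of Ω_A and an injection e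
of the indices 1, …, N into the index type of b with b (e i) = d(x_i) for all i. (In the published
statement A is a regular local F-finite algebra over the prime field and the freeness and finiteness
of Ω_A form the first assertion, taken there from the literature; here they are hypotheses.) -/
theorem result (p : ℕ) [Fact p.Prime]
    {A : Type u} [CommRing A] [IsRegularLocalRing A] [CharP A p]
    [Module.Free A (KaehlerDifferential ℤ A)] [Module.Finite A (KaehlerDifferential ℤ A)]
    {N : ℕ} (x : Fin N → A) (hx : Ideal.span (Set.range x) = maximalIdeal A)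
    (hN : ringKrullDim A = (N : WithBot ℕ∞)) :
    ∃ (ι : Type u) (b : Module.Basis ι A (KaehlerDifferential ℤ A)) (e : Fin N ↪ ι),
      ∀ i : Fin N, b (e i) = KaehlerDifferential.D ℤ A (x i) := by
  classical
  have hp0 : (p : ResidueField A) = 0 := by rw [← map_natCast (residue A), CharP.cast_eq_zero, map_zero]
  haveI : CharP (ResidueField A) p := (CharP.charP_iff_prime_eq_zero Fact.out).mpr hp0
  have hker : RingHom.ker (algebraMap A (ResidueField A)) = maximalIdeal A := IsLocalRing.ker_residue
  have hsurj : Function.Surjective (algebraMap A (ResidueField A)) := residue_surjective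
  let π : (A ⧸ RingHom.ker (algebraMap A (ResidueField A)) ^ 2) →+* ResidueField A :=
    Ideal.Quotient.lift _ (algebraMap A (ResidueField A)) fun a ha => Ideal.pow_le_self two_ne_zero ha
  have hπ : Function.Surjective π := fun y => by
    obtain ⟨a, rfl⟩ := hsurj y
    exact ⟨Ideal.Quotient.mk _ a, rfl⟩
  have hsq : ∀ u v, π u = 0 → π v = 0 → u * v = 0 := by
    intro u v hu hv
    obtain ⟨u, rfl⟩ := Ideal.Quotient.mk_surjective u
    obtain ⟨v, rfl⟩ := Ideal.Quotient.mk_surjective v
    rw [← map_mul, Ideal.Quotient.eq_zero_iff_mem, sq]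
    exact Ideal.mul_mem_mul hu hv
  haveI : Nontrivial (A ⧸ RingHom.ker (algebraMap A (ResidueField A)) ^ 2) := π.domain_nontrivial
  haveI : CharP (A ⧸ RingHom.ker (algebraMap A (ResidueField A)) ^ 2) p :=
    (CharP.charP_iff_prime_eq_zero Fact.out).mpr (by
      rw [← map_natCast (Ideal.Quotient.mk (RingHom.ker (algebraMap A (ResidueField A)) ^ 2)), CharP.cast_eq_zero, map_zero])
  obtain ⟨g₀, hg₀⟩ := Groth.L02.CharPSection.exists_section p π hπ hsq
  obtain ⟨l, hl⟩ := (retractionKerCotangentToTensorEquivSection (R := ℤ) (P := A) (S := ResidueField A) hsurj).symm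
    ⟨g₀.toIntAlgHom, AlgHom.ext fun y => RingHom.congr_fun hg₀ y⟩
  have hxm : ∀ i, x i ∈ maximalIdeal A := fun i => hx ▸ Ideal.subset_span ⟨i, rfl⟩
  have hN' : (maximalIdeal A).spanFinrank = N := by
    have h := IsRegularLocalRing.spanFinrank_maximalIdeal (R := A)
    rw [hN] at h; exact_mod_cast h
  have hmin : ∀ a : Fin N → A, ∑ i, a i * x i ∈ maximalIdeal A ^ 2 → ∀ j, a j ∈ maximalIdeal A := by
    intro a ha j
    by_contra hj
    have hu : IsUnit (a j) := by rwa [mem_maximalIdeal, mem_nonunits_iff, not_not] at hj
    let S : Set A := x '' {i | i ≠ j}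
    have hle : maximalIdeal A ≤ Ideal.span S := by
      refine Submodule.le_of_le_smul_of_le_jacobson_bot (IsNoetherian.noetherian _)
        ((IsLocalRing.jacobson_eq_maximalIdeal ⊥ bot_ne_top).ge) ?_
      conv_lhs => rw [← hx]
      refine Ideal.span_le.mpr ?_
      rintro _ ⟨i, rfl⟩
      by_cases hij : i = j
      · subst hij
        have : x i = (↑hu.unit⁻¹ : A) * (∑ t, a t * x t) - (↑hu.unit⁻¹ : A) * ∑ t ∈ Finset.univ.erase i, a t * x t := by
          rw [← mul_sub, ← Finset.add_sum_erase _ _ (Finset.mem_univ i), add_sub_cancel_right, ← mul_assoc,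
            IsUnit.val_inv_mul, one_mul]
        rw [this]
        refine Submodule.sub_mem _ (Submodule.mem_sup_right ?_) (Submodule.mem_sup_left ?_)
        · rw [smul_eq_mul, ← sq]; exact Ideal.mul_mem_left _ _ ha
        · exact Ideal.mul_mem_left _ _ (sum_mem fun t ht => Ideal.mul_mem_left _ _
            (Ideal.subset_span ⟨t, Finset.ne_of_mem_erase ht, rfl⟩))
      · exact Submodule.mem_sup_left (Ideal.subset_span ⟨i, hij, rfl⟩)
    have heq : maximalIdeal A = Ideal.span S :=
      le_antisymm hle (Ideal.span_le.mpr (by rintro _ ⟨i, -, rfl⟩; exact hxm i))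
    have h1 : (maximalIdeal A).spanFinrank ≤ S.ncard :=
      heq ▸ Submodule.spanFinrank_span_le_ncard_of_finite (Set.toFinite _)
    have h2 : S.ncard ≤ ({i : Fin N | i ≠ j} : Set (Fin N)).ncard := Set.ncard_image_le
    have h3 : ({i : Fin N | i ≠ j} : Set (Fin N)).ncard = N - 1 := by
      rw [show ({i : Fin N | i ≠ j} : Set (Fin N)) = {j}ᶜ from rfl, Set.ncard_compl, Set.ncard_singleton]; simp
    have := j.pos
    omega
  let v : Fin N → TensorProduct A (ResidueField A) (KaehlerDifferential ℤ A) :=
    fun i => 1 ⊗ₜ KaehlerDifferential.D ℤ A (x i)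
  have hv : LinearIndependent (ResidueField A) v := by
    rw [Fintype.linearIndependent_iff]
    intro c hc
    choose a ha using fun i => hsurj (c i)
    let T : Fin N → (RingHom.ker (algebraMap A (ResidueField A))).Cotangent :=
      fun i => Ideal.toCotangent _ ⟨x i, hker.symm ▸ hxm i⟩
    have h0 : KaehlerDifferential.kerCotangentToTensor ℤ A (ResidueField A) (∑ i, a i • T i) = 0 := by
      rw [map_sum, ← hc]
      refine Finset.sum_congr rfl fun i _ => ?_
      rw [map_smul, KaehlerDifferential.kerCotangentToTensor_toCotangent, ← ha i, algebraMap_smul]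
    have h1 : ∑ i, a i • T i = 0 := by
      have := congrArg l h0
      rwa [map_zero, ← LinearMap.comp_apply, hl, LinearMap.id_apply] at this
    intro i
    rw [← ha i]
    have : ∑ i, a i * x i ∈ maximalIdeal A ^ 2 := by
      have h2 : Ideal.toCotangent _ (∑ i, a i • (⟨x i, hker.symm ▸ hxm i⟩ : RingHom.ker (algebraMap A (ResidueField A)))) = 0 := by
        rw [map_sum]; simpa only [map_smul] using h1
      rw [Ideal.toCotangent_eq_zero, Submodule.coe_sum] at h2
      simp only [Submodule.coe_smul, smul_eq_mul] at h2
      rwa [hker] at h2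
    exact (residue_eq_zero_iff _).mpr (hmin a this i)
  obtain ⟨ι, bκ, e, he⟩ : ∃ (ι : Type u) (bκ : Module.Basis ι (ResidueField A) (TensorProduct A (ResidueField A) (KaehlerDifferential ℤ A)))
      (e : Fin N ↪ ι), ∀ i, bκ (e i) = v i :=
    ⟨_, Module.Basis.sumExtend hv, ⟨Sum.inl, Sum.inl_injective⟩, fun i => by
      simp [Module.Basis.sumExtend]
      rfl⟩
  choose w hw using fun j : ι => TensorProduct.mk_surjective A (KaehlerDifferential ℤ A) (ResidueField A) hsurj (bκ j)
  let w' : ι → KaehlerDifferential ℤ A :=
    fun j => if h : ∃ i, e i = j then KaehlerDifferential.D ℤ A (x h.choose) else w j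
  have hw' : TensorProduct.mk A (ResidueField A) (KaehlerDifferential ℤ A) 1 ∘ w' = bκ := by
    funext j
    by_cases h : ∃ i, e i = j
    · simp only [Function.comp_apply, w', dif_pos h]
      exact (he h.choose).symm.trans (congrArg bκ h.choose_spec)
    · simp only [Function.comp_apply, w', dif_neg h]
      exact hw j
  haveI : Module.FinitePresentation A (KaehlerDifferential ℤ A) := Module.finitePresentation_of_finite A _
  obtain ⟨b, hb⟩ := Module.exists_basis_of_basis_baseChange w' (hw' ▸ bκ.linearIndependent) (hw' ▸ bκ.span_eq)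
    (Module.Flat.rTensor_preserves_injective_linearMap _ Subtype.val_injective)
  refine ⟨ι, b, e, fun i => ?_⟩
  rw [hb]
  have h : ∃ i', e i' = e i := ⟨i, rfl⟩
  simp only [w', dif_pos h, e.injective h.choose_spec]

end Groth.Agent.S19270
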