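import Groth.Statements.S19273
import Mathlib.RingTheory.Etale.Kaehler
import Mathlib.RingTheory.Localization.Module
import Mathlib.LinearAlgebra.Basis.SMul

set_option autoImplicit false
universe u
open CAlg

namespace Groth.Agent.S19273

open KaehlerDifferential in
/-- Let A be an integral domain of prime characteristic p, x_1, …, x_N elements of A, r ≤ N, B =
A[1/(x_1⋯x_r)] with u_i the unit of B defined by x_i for i ≤ r, and suppose that the module Ω_A of
absolute Kähler differentials of A is free with a basis b indexed by {1, …, N} ⊔ ι whose i-th vector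
is d(x_i) for i ≤ N. Then the module of logarithmic 1-forms — the A-submodule of Ω_B spanned by the
image of Ω_A and the forms u_i⁻¹ · d(x_i), i ≤ r — is a free A-module: it has a basis indexed by {1,
…, N} ⊔ ι whose vector at i ≤ r is u_i⁻¹ · d(x_i), at r < i ≤ N is d(x_i), and at k ∈ ι is the image
of b_k. (In the published statement A is a regular local F-finite algebra over the prime field with
maximal ideal (x_1, …, x_N), the basis of Ω_A comes from the preceding lemma, and the assertion
covers the logarithmic q-forms for all q together with their identification with the log de Rham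
complex of the log ring; only the degree-one freeness is stated here, from the properties of A
actually used.) -/
theorem result (p : ℕ) [Fact p.Prime]
    {A B : Type u} [CommRing A] [IsDomain A] [CharP A p] [CommRing B] [Algebra A B] {r N : ℕ}
    (hr : r ≤ N) (x : Fin N → A) [IsLocalization.Away (∏ i : Fin r, x (Fin.castLE hr i)) B]
    (u : Fin r → Bˣ) (hu : ∀ i, (u i : B) = algebraMap A B (x (Fin.castLE hr i)))
    {ι : Type u} (b : Module.Basis (Fin N ⊕ ι) A (Ω[A⁄ℤ])) (hb : ∀ i, b (Sum.inl i) = D ℤ A (x i)) :
    ∃ e : Module.Basis (Fin N ⊕ ι) A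
        (W4c6katofilta.logForms1 (fun i : Fin r => x (Fin.castLE hr i)) u),
      (∀ i : Fin r, (e (Sum.inl (Fin.castLE hr i)) : Ω[B⁄ℤ]) =
          ((u i)⁻¹ : Bˣ) • KaehlerDifferential.map ℤ ℤ A B (D ℤ A (x (Fin.castLE hr i)))) ∧
      (∀ i : Fin N, r ≤ (i : ℕ) →
          (e (Sum.inl i) : Ω[B⁄ℤ]) = KaehlerDifferential.map ℤ ℤ A B (D ℤ A (x i))) ∧
      (∀ k : ι, (e (Sum.inr k) : Ω[B⁄ℤ]) = KaehlerDifferential.map ℤ ℤ A B (b (Sum.inr k))) := by
  classical
  set f := ∏ i : Fin r, x (Fin.castLE hr i)
  have hx0 : ∀ i, x i ≠ 0 := fun i h => b.ne_zero (Sum.inl i) (by rw [hb, h, map_zero])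
  have hf : f ≠ 0 := Finset.prod_ne_zero_iff.mpr fun i _ => hx0 _
  have hinj : Function.Injective (algebraMap A B) :=
    IsLocalization.injective B (powers_le_nonZeroDivisors_of_noZeroDivisors hf)
  have : IsLocalizedModule (Submonoid.powers f) (KaehlerDifferential.map ℤ ℤ A B) :=
    KaehlerDifferential.isLocalizedModule_map ℤ A B (Submonoid.powers f)
  let b' := b.ofIsLocalizedModule B (Submonoid.powers f) (KaehlerDifferential.map ℤ ℤ A B)
  let w : Fin N ⊕ ι → Bˣ := Sum.elim (fun i => if h : (i : ℕ) < r then (u ⟨i, h⟩)⁻¹ else 1) (fun _ => 1)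
  let v : Fin N ⊕ ι → Ω[B⁄ℤ] := fun j => (w j : B) • KaehlerDifferential.map ℤ ℤ A B (b j)
  have hv : LinearIndependent A v := by
    refine LinearIndependent.restrict_scalars (K := B) ?_ ?_
    · intro a c h
      exact hinj (by simpa [Algebra.smul_def] using h)
    · have := (b'.unitsSMul w).linearIndependent
      convert this using 1
      funext j
      simp [v, b', Module.Basis.unitsSMul_apply, Units.smul_def]
  set L := W4c6katofilta.logForms1 (fun i : Fin r => x (Fin.castLE hr i)) u
  have hvL : ∀ j, v j ∈ L := by
    rintro (i | k)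
    · by_cases h : (i : ℕ) < r
      · refine Submodule.subset_span (Or.inr ⟨⟨i, h⟩, ?_⟩)
        simp [v, w, h, hb, Units.smul_def]
      · exact Submodule.subset_span (Or.inl ⟨b (Sum.inl i), by simp [v, w, h]⟩)
    · exact Submodule.subset_span (Or.inl ⟨b (Sum.inr k), by simp [v, w]⟩)
  have hsp : L ≤ Submodule.span A (Set.range v) := by
    refine Submodule.span_le.mpr ?_
    rintro z (⟨ω, rfl⟩ | ⟨i, rfl⟩)
    · rw [SetLike.mem_coe]
      induction b.mem_span ω using Submodule.span_induction with
      | mem y hy =>
        obtain ⟨j, rfl⟩ := hy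
        rcases j with i | k
        · by_cases h : (i : ℕ) < r
          · have he : x i • v (Sum.inl i) = KaehlerDifferential.map ℤ ℤ A B (b (Sum.inl i)) := by
              have hu' : algebraMap A B (x i) = (u ⟨i, h⟩ : B) := by rw [hu]; rfl
              simp only [v, w, Sum.elim_inl, dif_pos h]
              rw [← algebraMap_smul B (x i), ← mul_smul, hu', Units.mul_inv, one_smul]
            rw [← he]
            exact Submodule.smul_mem _ _ (Submodule.subset_span ⟨_, rfl⟩)
          · exact Submodule.subset_span ⟨Sum.inl i, by simp [v, w, h]⟩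
        · exact Submodule.subset_span ⟨Sum.inr k, by simp [v, w]⟩
      | zero => simp
      | add y z _ _ hy hz => rw [map_add]; exact add_mem hy hz
      | smul a y _ hy => rw [map_smul]; exact Submodule.smul_mem _ a hy
    · exact Submodule.subset_span ⟨Sum.inl (Fin.castLE hr i), by simp [v, w, hb, Units.smul_def]⟩
  let v' : Fin N ⊕ ι → L := fun j => ⟨v j, hvL j⟩
  have hv' : LinearIndependent A v' := LinearIndependent.of_comp L.subtype hv
  have hsp' : ⊤ ≤ Submodule.span A (Set.range v') := by
    rintro ⟨z, hz⟩ -
    apply (Submodule.injective_subtype L).mem_set_image.mp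
    rw [← Submodule.map_coe, Submodule.map_span, ← Set.range_comp]
    exact hsp hz
  refine ⟨Module.Basis.mk hv' hsp', fun i => ?_, fun i hi => ?_, fun k => ?_⟩ <;> rw [Module.Basis.mk_apply]
  · simp [v', v, w, hb, Units.smul_def]
  · simp [v', v, w, hb, not_lt.mpr hi]
  · simp [v', v, w]

end Groth.Agent.S19273
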