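import Groth.Statements.S19274
import Mathlib.RingTheory.WittVector.Verschiebung
import Mathlib.RingTheory.WittVector.Teichmuller
import Mathlib.RingTheory.WittVector.Identities
import Mathlib.RingTheory.Localization.Away.Basic
import Mathlib.Tactic.Ring
import Mathlib.RingTheory.UniqueFactorizationDomain.Basic
import Mathlib.Tactic.LinearCombination

set_option autoImplicit false
universe u
open WittFil

namespace Groth.Agent.S19274

variable {_unused : Unit}

theorem eq_exp {A : Type*} [CommRing A] [IsDomain A] {x : A} (hx : Prime x) (i j : ℕ) (c d : A)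
    (hc : ¬x ∣ c) (hd : ¬x ∣ d) (h : x ^ i * c = x ^ j * d) : i = j := by
  rcases lt_trichotomy i j with h' | h' | h'
  · exfalso
    obtain ⟨e, rfl⟩ : ∃ e, j = i + (e + 1) := ⟨j - i - 1, by omega⟩
    rw [pow_add, mul_assoc] at h
    exact hc (mul_left_cancel₀ (pow_ne_zero _ hx.ne_zero) h ▸ (dvd_pow_self x e.succ_ne_zero).mul_right d)
  · exact h'
  · exfalso
    obtain ⟨e, rfl⟩ : ∃ e, i = j + (e + 1) := ⟨i - j - 1, by omega⟩
    rw [pow_add, mul_assoc] at h
    exact hd ((mul_left_cancel₀ (pow_ne_zero _ hx.ne_zero) h).symm ▸ (dvd_pow_self x e.succ_ne_zero).mul_right c)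

theorem dvd_alpha {A B : Type*} [CommRing A] [IsDomain A] [UniqueFactorizationMonoid A] [CommRing B] [Algebra A B]
    (x : A) (hx : Prime x) [IsLocalization.Away x B] (u : Bˣ) (hu : (u : B) = algebraMap A B x) (P : ℕ) (hP : 0 < P)
    (n : ℤ) (hn : ¬ (P : ℤ) ∣ n) (z : B) (α : A) (h : z ^ P * ((u ^ n : Bˣ) : B) = algebraMap A B α) : x ∣ α := by
  by_contra hα
  have hinj : Function.Injective (algebraMap A B) :=
    IsLocalization.injective B (M := Submonoid.powers x) (powers_le_nonZeroDivisors_of_noZeroDivisors hx.ne_zero)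
  obtain ⟨N, b, hb⟩ : ∃ (N : ℕ) (b : A), z * algebraMap A B x ^ N = algebraMap A B b := by
    obtain ⟨N, b, hb⟩ := IsLocalization.Away.surj x z
    exact ⟨N, b, hb⟩
  obtain ⟨a₁, a₂, hn'⟩ : ∃ a₁ a₂ : ℕ, n = (a₁ : ℤ) - a₂ := ⟨n.toNat, (-n).toNat, by omega⟩
  have e : b ^ P * x ^ a₁ = x ^ (N * P + a₂) * α := by
    apply hinj
    simp only [map_mul, map_pow, ← hb, ← hu, ← h, mul_pow, ← pow_mul, pow_add]
    rw [hn']
    have e2 : ((u ^ ((a₁ : ℤ) - a₂) : Bˣ) : B) * (u : B) ^ a₂ = (u : B) ^ a₁ := by
      rw [← Units.val_pow_eq_pow_val, ← Units.val_pow_eq_pow_val, ← Units.val_mul, ← zpow_natCast, ← zpow_natCast,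
        ← zpow_add, sub_add_cancel]
    linear_combination -(z ^ P * (u : B) ^ (N * P)) * e2
  by_cases hb0 : b = 0
  · rw [hb0, zero_pow hP.ne', zero_mul, eq_comm] at e
    rcases mul_eq_zero.1 e with h0 | h0
    · exact pow_ne_zero _ hx.ne_zero h0
    · exact hα (h0 ▸ dvd_zero x)
  obtain ⟨k, b', hb', rfl⟩ := WfDvdMonoid.max_power_factor hb0 hx.irreducible
  have := eq_exp hx (k * P + a₁) (N * P + a₂) (b' ^ P) α (fun hd => hb' (hx.dvd_of_dvd_pow hd)) hα (by
    rw [← e, mul_pow, pow_add, pow_mul]; ring)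
  refine hn ⟨(N : ℤ) - k, ?_⟩
  have h2 : ((k * P + a₁ : ℕ) : ℤ) = ((N * P + a₂ : ℕ) : ℤ) := by rw [this]
  push_cast at h2
  linarith

open WittFil in

/-- Let A be a unique factorisation domain of characteristic p, x a prime element of A, B = A[1/x] with
u the unit of B defined by x, m ≥ 1, and n an integer NOT divisible by p^m. For e in B and k ≥ 0
write fil_k(e) for the set of truncated p-typical Witt vectors of length k over B whose j-th
coordinate y_j satisfies y_j ^ (p ^ (k−1−j)) · e ∈ A for all j < k (the filtered piece; fil_k(u^n)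
is the piece of index n). Then fil_{m+1}(u^n) is contained in fil_{m+1}(u^(n−1)) + V(fil_m(u^n))
(the reverse inclusion is immediate): every a in fil_{m+1}(u^n) can be written a = b + V(y) with b
in fil_{m+1}(u^(n−1)) and y a Witt vector over B whose length-m truncation lies in fil_m(u^n), V(y)
being truncated to length m+1. (In the source A is a henselian discrete valuation ring, n = p^r·l >
1 with p not dividing l, and the condition reads m ≥ r + 1.) -/
theorem result (p : ℕ) [Fact p.Prime]
    {A B : Type u} [CommRing A] [IsDomain A] [UniqueFactorizationMonoid A] [CharP A p]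
    [CommRing B] [Algebra A B] (x : A) (hx : Prime x) [IsLocalization.Away x B] (u : Bˣ)
    (hu : (u : B) = algebraMap A B x) (m : ℕ) (hm : 0 < m) (n : ℤ) (hn : ¬ ((p : ℤ) ^ m ∣ n)) :
    ∀ a ∈ WittFil.fil p (m + 1) (A := A) ((u ^ n : Bˣ) : B),
      ∃ b ∈ WittFil.fil p (m + 1) (A := A) ((u ^ (n - 1) : Bˣ) : B),
        ∃ y : WittVector p B,
          WittVector.truncate m y ∈ WittFil.fil p m (A := A) ((u ^ n : Bˣ) : B) ∧
            a = b + WittVector.truncate (m + 1) (WittVector.verschiebung y) := by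
  intro a ha
  obtain ⟨X, rfl⟩ := WittVector.truncate_surjective p (m + 1) B a
  let y : WittVector p B := WittVector.mk p fun i => X.coeff (i + 1)
  have hX : X = WittVector.teichmuller p (X.coeff 0) + WittVector.verschiebung y := by
    refine WittVector.ext fun i => ?_
    rw [WittVector.coeff_add_of_disjoint]
    · rcases i with _ | i
      · rw [WittVector.teichmuller_coeff_zero, WittVector.verschiebung_coeff_zero, add_zero]
      · rw [WittVector.teichmuller_coeff_pos p _ _ i.succ_pos, WittVector.verschiebung_coeff_succ, zero_add]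
        rfl
    · intro k
      rcases k with _ | k
      · exact Or.inr (WittVector.verschiebung_coeff_zero y)
      · exact Or.inl (WittVector.teichmuller_coeff_pos p _ _ k.succ_pos)
  refine ⟨WittVector.truncate (m + 1) (WittVector.teichmuller p (X.coeff 0)), ?_, y, ?_, ?_⟩
  · intro j
    rw [WittVector.coeff_truncate]
    rcases Nat.eq_zero_or_pos (j : ℕ) with h | h
    · obtain rfl : j = 0 := Fin.ext h
      obtain ⟨α, hα⟩ := ha 0
      rw [WittVector.coeff_truncate] at hα
      simp only [Fin.val_zero, add_tsub_cancel_right, Nat.sub_zero, WittVector.teichmuller_coeff_zero] at hα ⊢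
      obtain ⟨β, rfl⟩ := dvd_alpha x hx u hu (p ^ m) (pow_pos (Fact.out : p.Prime).pos m) n
        (fun h => hn (by push_cast at h; exact h)) (X.coeff 0) α hα.symm
      refine ⟨β, ?_⟩
      rw [map_mul, ← hu] at hα
      refine u.isUnit.mul_left_cancel (hα.trans ?_)
      rw [show n = (n - 1) + 1 by ring, zpow_add, Units.val_mul, zpow_one, show n - 1 + 1 - 1 = n - 1 by ring]
      ring
    · rw [WittVector.teichmuller_coeff_pos p _ _ h, zero_pow (pow_ne_zero _ (Fact.out : p.Prime).ne_zero), zero_mul]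
      exact ⟨0, map_zero _⟩
  · intro i
    obtain ⟨α, hα⟩ := ha i.succ
    refine ⟨α, ?_⟩
    rw [hα, WittVector.coeff_truncate, WittVector.coeff_truncate]
    show X.coeff ((i : ℕ) + 1) ^ _ * _ = X.coeff ((i : ℕ) + 1) ^ _ * _
    congr 3
    simp only [Fin.val_succ]; omega
  · rw [← map_add, ← hX]

end Groth.Agent.S19274
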