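import Groth.Statements.S19275
import Mathlib.RingTheory.Flat.Basic
import Mathlib.LinearAlgebra.TensorProduct.RightExactness
import Mathlib.RingTheory.Coalgebra.TensorProduct

set_option autoImplicit false
universe u v w
open Hoch

namespace Groth.Agent.S19275

open TensorProduct in
/-- In the case of an affine group scheme over a field (a K-groupoid acting on Spec K itself),
cohomology commutes with arbitrary base change. Precisely: let K be a field, A a commutative Hopf
algebra over K (the coordinate ring of an affine K-group scheme G), V a right A-comodule (a linear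
representation of G) and R any commutative K-algebra. Give R ⊗ V the base-changed comodule structure
over the R-bialgebra R ⊗ A, whose coaction sends r ⊗ v to the image of r ⊗ ρ(v) under the canonical
identification of R ⊗ (V ⊗ A) with (R ⊗ V) ⊗_R (R ⊗ A), and let φ_n : R ⊗ C^n(A, V) → C^n(R ⊗ A, R ⊗
V) be the canonical R-linear maps between the Hochschild cochain modules, determined by φ_0 = id and
φ_{n+1}(r ⊗ (c ⊗ a)) = φ_n(r ⊗ c) ⊗ (1 ⊗ a). Then every φ_n is bijective, the φ_n commute with the
Hochschild differentials, and for every n there is an R-linear isomorphism R ⊗ H^n(A, V) ≅ H^n(R ⊗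
A, R ⊗ V) sending r ⊗ [z] to [φ_n(r ⊗ z)] for every n-cocycle z. (The published statement is for an
affine K-groupoid acting on the spectrum of a finite extension L of K and its coherent
representations, with K of characteristic 0; this is its case L = K, in which the cochain complex of
a representation is the Hochschild complex of the comodule; V is not assumed finite-dimensional and
K may be any field.) -/
theorem result
    (K : Type u) [Field K] (A : Type v) [CommRing A] [HopfAlgebra K A]
    (V : Type v) [AddCommGroup V] [Module K V] [HopfRep.Comod K A V]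
    (R : Type w) [CommRing R] [Algebra K R]
    (φ : ∀ n : ℕ, R ⊗[K] (Hoch.cochain K A V n) →ₗ[R] (Hoch.cochain R (R ⊗[K] A) (R ⊗[K] V) n))
    (hφ0 : ∀ x : R ⊗[K] V, φ 0 x = x)
    (hφs : ∀ (n : ℕ) (r : R) (c : Hoch.cochain K A V n) (a : A),
      φ (n + 1) (r ⊗ₜ[K] (c ⊗ₜ[K] a)) = (φ n (r ⊗ₜ[K] c)) ⊗ₜ[R] ((1 : R) ⊗ₜ[K] a)) :
    letI := CoactBr.Comod.baseChange K R A V
    (∀ n : ℕ, Function.Bijective (φ n)) ∧
    (∀ (n : ℕ) (x : R ⊗[K] (Hoch.cochain K A V n)),
        φ (n + 1) ((Hoch.d K A V n).baseChange R x) = Hoch.d R (R ⊗[K] A) (R ⊗[K] V) n (φ n x)) ∧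
      ∀ n : ℕ, ∃ e : R ⊗[K] Hoch.H K A V n ≃ₗ[R] Hoch.H R (R ⊗[K] A) (R ⊗[K] V) n,
        ∀ (r : R) (z : Hoch.cocycles K A V n)
          (hz : φ n (r ⊗ₜ[K] (z : Hoch.cochain K A V n)) ∈ Hoch.cocycles R (R ⊗[K] A) (R ⊗[K] V) n),
          e (r ⊗ₜ[K] Hoch.H.mk K A V n z) = Hoch.H.mk R (R ⊗[K] A) (R ⊗[K] V) n ⟨φ n (r ⊗ₜ[K] (z : Hoch.cochain K A V n)), hz⟩ := by
  letI := CoactBr.Comod.baseChange K R A V
  -- base change of the reduced comultiplication term
  let J : A ⊗[K] A →ₗ[K] (R ⊗[K] A) ⊗[R] (R ⊗[K] A) :=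
    TensorProduct.lift (LinearMap.mk₂ K (fun p q => ((1 : R) ⊗ₜ[K] p) ⊗ₜ[R] ((1 : R) ⊗ₜ[K] q))
      (fun p p' q => by rw [tmul_add, add_tmul]) (fun c p q => by rw [tmul_smul]; exact (smul_tmul' c ((1 : R) ⊗ₜ[K] p) _).symm) 
      (fun p q q' => by rw [tmul_add, tmul_add]) (fun c p q => by rw [tmul_smul, tmul_smul]))
  have hcomul : ∀ a : A, Coalgebra.comul (R := R) ((1 : R) ⊗ₜ[K] a) = J (Coalgebra.comul (R := K) a) := by
    intro a
    rw [TensorProduct.comul_tmul, CommSemiring.comul_apply]
    induction (Coalgebra.comul (R := K) a) with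
    | zero => simp
    | add y z hy hz => simp only [tmul_add, map_add, hy, hz]
    | tmul p q => simp [J]
  have hbij : ∀ n : ℕ, Function.Bijective (φ n) := by
    intro n
    induction n with
    | zero => exact ⟨fun x y h => by rwa [hφ0, hφ0] at h, fun y => ⟨y, hφ0 y⟩⟩
    | succ n ih =>
      let e : R ⊗[K] ((Hoch.cochain K A V n : Type v) ⊗[K] A) ≃ₗ[R]
          (Hoch.cochain R (R ⊗[K] A) (R ⊗[K] V) n : Type _) ⊗[R] (R ⊗[K] A) :=
        (TensorProduct.AlgebraTensorModule.distribBaseChange K R _ A).trans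
          (TensorProduct.congr (LinearEquiv.ofBijective (φ n) ih) (LinearEquiv.refl R _))
      have he : ∀ x, φ (n + 1) x = e x := by
        intro x
        induction x with
        | zero => simp
        | add a b ha hb => simp only [map_add, ha, hb]
        | tmul r y =>
          induction y using TensorProduct.induction_on with
          | zero => simp
          | add a b ha hb => simp only [tmul_add, map_add, ha, hb]
          | tmul c a => rw [hφs]; rfl
      rw [show ⇑(φ (n + 1)) = ⇑e from funext he]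
      exact e.bijective
  have hzero : ∀ (r : R) (y : V ⊗[K] A), φ 1 (r ⊗ₜ[K] y) =
      TensorProduct.AlgebraTensorModule.tensorTensorTensorComm K R K R R R V A (((1 : R) ⊗ₜ[R] r) ⊗ₜ[K] y) := by
    intro r y
    induction y with
    | zero => simp
    | add a b ha hb => simp only [tmul_add, map_add, ha, hb]
    | tmul v a =>
      refine (hφs 0 r v a).trans ?_
      rw [hφ0]
      show (r ⊗ₜ[K] v) ⊗ₜ[R] ((1 : R) ⊗ₜ[K] a) = ((1 : R) ⊗ₜ[K] v) ⊗ₜ[R] (r ⊗ₜ[K] a)
      rw [show r ⊗ₜ[K] v = r • ((1 : R) ⊗ₜ[K] v) by rw [smul_tmul', smul_eq_mul, mul_one],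
        show r ⊗ₜ[K] a = r • ((1 : R) ⊗ₜ[K] a) by rw [smul_tmul', smul_eq_mul, mul_one], smul_tmul]
  have htail : ∀ (n : ℕ) (r : R) (c : (Hoch.cochain K A V n : Type v)) (a : A),
      φ (n + 1 + 1) (r ⊗ₜ[K] Hoch.tail K A (Hoch.cochain K A V n : Type v) (c ⊗ₜ[K] a)) =
        Hoch.tail R (R ⊗[K] A) (Hoch.cochain R (R ⊗[K] A) (R ⊗[K] V) n : Type _) (φ n (r ⊗ₜ[K] c) ⊗ₜ[R] ((1 : R) ⊗ₜ[K] a)) := by
    intro n r c a
    rw [Hoch.tail_tmul, Hoch.tail_tmul]
    have key : ∀ z : A ⊗[K] A, φ (n + 1 + 1) (r ⊗ₜ[K] (TensorProduct.assoc K _ A A).symm (c ⊗ₜ[K] z)) =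
        (TensorProduct.assoc R _ (R ⊗[K] A) (R ⊗[K] A)).symm (φ n (r ⊗ₜ[K] c) ⊗ₜ[R] J z) := by
      intro z
      induction z with
      | zero => simp
      | add y z hy hz => simp only [tmul_add, map_add, hy, hz]
      | tmul p q =>
        simp only [TensorProduct.assoc_symm_tmul, J, TensorProduct.lift.tmul, LinearMap.mk₂_apply]
        rw [hφs, hφs]
    rw [key]
    congr 2
    rw [map_sub, map_sub, ← hcomul]
    simp [J, Algebra.TensorProduct.one_def]
  have hcomm : ∀ (n : ℕ) (x : R ⊗[K] (Hoch.cochain K A V n)),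
      φ (n + 1) ((Hoch.d K A V n).baseChange R x) = Hoch.d R (R ⊗[K] A) (R ⊗[K] V) n (φ n x) := by
    intro n
    induction n with
    | zero =>
      intro x
      induction x with
      | zero => simp
      | add a b ha hb => simp only [map_add, ha, hb]
      | tmul r v =>
        rw [hφ0, LinearMap.baseChange_tmul, Hoch.d_zero_apply, Hoch.d_zero_apply, CoactBr.baseChange_coact_tmul,
          tmul_sub, map_sub, hzero, hφs, hφ0]
        rfl
    | succ n ih =>
      intro x
      induction x with
      | zero => simp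
      | add a b ha hb => simp only [map_add, ha, hb]
      | tmul r y =>
        induction y using TensorProduct.induction_on with
        | zero => simp
        | add a b ha hb => simp only [tmul_add, map_add, ha, hb]
        | tmul c a =>
          rw [LinearMap.baseChange_tmul, hφs, Hoch.d_succ, Hoch.d_succ]
          simp only [LinearMap.add_apply, LinearMap.smul_apply, tmul_add, map_add, LinearMap.rTensor_tmul]
          congr 1
          · rw [hφs, ← ih, LinearMap.baseChange_tmul]
          · rw [tmul_smul, ← algebraMap_smul R ((-1 : K) ^ (n + 1)), map_smul, map_pow, map_neg, map_one, htail]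
  refine ⟨hbij, hcomm, fun n => ?_⟩
  -- cocycles
  have hflat : ∀ {M N : Type v} [AddCommGroup M] [Module K M] [AddCommGroup N] [Module K N] (f : M →ₗ[K] N),
      Function.Injective f → Function.Injective (f.baseChange R) := fun f hf => by
    rw [LinearMap.baseChange_eq_ltensor]; exact Module.Flat.lTensor_preserves_injective_linearMap f hf
  have hexact : ∀ {M N P : Type v} [AddCommGroup M] [Module K M] [AddCommGroup N] [Module K N] [AddCommGroup P] [Module K P]
      (f : M →ₗ[K] N) (g : N →ₗ[K] P), Function.Exact f g → Function.Exact (f.baseChange R) (g.baseChange R) := fun f g h => by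
    rw [LinearMap.baseChange_eq_ltensor, LinearMap.baseChange_eq_ltensor]; exact Module.Flat.lTensor_exact R h
  let ιZ := (Hoch.cocycles K A V n).subtype
  have hexZ : Function.Exact (ιZ.baseChange R) ((Hoch.d K A V n).baseChange R) :=
    hexact _ _ (LinearMap.exact_subtype_ker_map _)
  let Φ : R ⊗[K] Hoch.cocycles K A V n →ₗ[R] Hoch.cocycles R (R ⊗[K] A) (R ⊗[K] V) n :=
    LinearMap.codRestrict _ ((φ n).comp (ιZ.baseChange R)) fun x => by
      show Hoch.d R (R ⊗[K] A) (R ⊗[K] V) n _ = 0
      rw [LinearMap.comp_apply, ← hcomm n, (hexZ _).2 ⟨x, rfl⟩, map_zero]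
  have hΦs : Function.Surjective Φ := by
    rintro ⟨z, hz⟩
    obtain ⟨x, rfl⟩ := (hbij n).2 z
    have h : Hoch.d R (R ⊗[K] A) (R ⊗[K] V) n (φ n x) = 0 := hz
    rw [← hcomm n, ← map_zero (φ (n + 1))] at h
    obtain ⟨y, hy⟩ := (hexZ x).1 ((hbij (n + 1)).1 h)
    exact ⟨y, Subtype.ext (show φ n _ = φ n x by rw [hy])⟩
  let q := (Hoch.H.mk K A V n).baseChange R
  let g := (Hoch.H.mk R (R ⊗[K] A) (R ⊗[K] V) n).comp Φ
  have hq : Function.Surjective q := by
    show Function.Surjective ((Hoch.H.mk K A V n).baseChange R)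
    rw [LinearMap.baseChange_eq_ltensor]
    exact LinearMap.lTensor_surjective R (Submodule.mkQ_surjective _)
  have hg : Function.Surjective g := (Submodule.mkQ_surjective _).comp hΦs
  have hker : LinearMap.ker g = LinearMap.ker q := by
    ext x
    rw [LinearMap.mem_ker, LinearMap.mem_ker]
    refine (Submodule.Quotient.mk_eq_zero _).trans ?_
    show φ n (ιZ.baseChange R x) ∈ Hoch.coboundaries R (R ⊗[K] A) (R ⊗[K] V) n ↔ _
    cases n with
    | zero =>
      have hinj : Function.Injective q := hflat _ (LinearMap.ker_eq_bot.1 (by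
        rw [Hoch.H.mk, Submodule.ker_mkQ]; exact LinearMap.ker_eq_bot.2 (Submodule.injective_subtype _)))
      rw [← map_zero q, hinj.eq_iff]
      show φ 0 _ ∈ (⊥ : Submodule R _) ↔ _
      rw [Submodule.mem_bot, ← map_zero (φ 0), (hbij 0).1.eq_iff, ← map_zero (ιZ.baseChange R), (hflat _ (Submodule.injective_subtype _)).eq_iff]
    | succ m =>
      let dd := (Hoch.d K A V (m + 1)).comp (Hoch.d K A V m)
      let δ : LinearMap.ker dd →ₗ[K] Hoch.cocycles K A V (m + 1) :=
        LinearMap.codRestrict _ ((Hoch.d K A V m).comp (LinearMap.ker dd).subtype) fun y => y.2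
      have hδ : Function.Exact δ (Hoch.H.mk K A V (m + 1)) := by
        intro z
        refine (Submodule.Quotient.mk_eq_zero _).trans ?_
        constructor
        · rintro ⟨y, hy⟩
          refine ⟨⟨y, ?_⟩, Subtype.ext hy⟩
          show Hoch.d K A V (m + 1) (Hoch.d K A V m y) = 0
          rw [hy]; exact z.2
        · rintro ⟨y, rfl⟩; exact ⟨y.1, rfl⟩
      have hexY : Function.Exact ((LinearMap.ker dd).subtype.baseChange R) (dd.baseChange R) :=
        hexact _ _ (LinearMap.exact_subtype_ker_map _)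
      have hιδ : ∀ y, ιZ.baseChange R (δ.baseChange R y) = (Hoch.d K A V m).baseChange R ((LinearMap.ker dd).subtype.baseChange R y) := by
        intro y
        rw [← LinearMap.comp_apply (ιZ.baseChange R), ← LinearMap.baseChange_comp, ← LinearMap.comp_apply ((Hoch.d K A V m).baseChange R), ← LinearMap.baseChange_comp]
        rfl
      constructor
      · rintro ⟨w, hw⟩
        obtain ⟨y, rfl⟩ := (hbij m).2 w
        rw [← hcomm m] at hw
        have hw' := (hbij (m + 1)).1 hw
        have hy : dd.baseChange R y = 0 := by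
          rw [show dd.baseChange R = _ from LinearMap.baseChange_comp _ _, LinearMap.comp_apply, hw']
          exact (hexZ _).2 ⟨x, rfl⟩
        obtain ⟨y', rfl⟩ := (hexY y).1 hy
        rw [← hιδ] at hw'
        exact (hexact _ _ hδ x).2 ⟨y', hflat _ (Submodule.injective_subtype _) hw'⟩
      · intro hx
        obtain ⟨y, rfl⟩ := (hexact _ _ hδ x).1 hx
        exact ⟨φ m ((LinearMap.ker dd).subtype.baseChange R y), by rw [hιδ, hcomm]⟩
  refine ⟨((q.quotKerEquivOfSurjective hq).symm.trans ((Submodule.quotEquivOfEq _ _ hker.symm).trans (g.quotKerEquivOfSurjective hg))), fun r z hz => ?_⟩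
  have h1 : r ⊗ₜ[K] Hoch.H.mk K A V n z = q (r ⊗ₜ[K] z) := rfl
  rw [h1, LinearEquiv.trans_apply, LinearEquiv.trans_apply, LinearMap.quotKerEquivOfSurjective_symm_apply, Submodule.quotEquivOfEq_mk, LinearMap.quotKerEquivOfSurjective_apply_mk]
  rfl

end Groth.Agent.S19275
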