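import Groth.Statements.S19276
import Groth.Agent.L15.CycDec.Main

set_option autoImplicit false
universe u v
open GrpAlg

namespace Groth.Agent.S19276

/-- Let `A` be a finite commutative group and `Λ` a commutative ring in which the order of `A` is
invertible. Then the ring homomorphism from the group ring `Λ[A]` to the product, over the subgroups
`B` of `A` with cyclic quotient, of the cyclotomic quotients `Λ[A ⧸ B]/(Φ_{|A/B|})`, each component
induced by `A → A/B`, is bijective. (In terms of group schemes: `Λ[A]` is the representation ring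
with coefficients in `Λ` of the finite diagonalizable group with character group `A`, the factors
are indexed by its dual cyclic subgroups, i.e. those isomorphic to some `μ_n`, and the components
are restriction followed by the cyclotomic quotient. The published statement takes `Λ = ℤ[1/|A|]`;
here `Λ` is any commutative ring in which `|A|` is invertible.) -/
theorem result (Λ : Type u) [CommRing Λ] (A : Type v)
    [AddCommGroup A] [Finite A] (hA : IsUnit ((Nat.card A : ℕ) : Λ)) :
    Function.Bijective (RingHom.pi fun B : {B : AddSubgroup A // IsAddCyclic (A ⧸ B)} =>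
      W4c6equivkfinstab.cycQuotMap Λ A B.1) := by
  classical
  haveI : (⊥ : AddSubgroup A).FiniteIndex := AddSubgroup.finiteIndex_of_finite_quotient
  have hu : IsUnit (((⊥ : AddSubgroup A).index : ℕ) : Λ) := by rwa [AddSubgroup.index_bot]
  refine ⟨(injective_iff_map_eq_zero _).2 fun x hx => ?_, fun y => ?_⟩
  · have h : W4c6equivkfinstab.quotMap Λ A ⊥ x ∈
        (⨅ i : Groth.L15.CycDec.Idx (⊥ : AddSubgroup A), Groth.L15.CycDec.L (Λ := Λ) ⊥ i.1) := by
      rw [Ideal.mem_iInf]
      intro i
      exact (Groth.L15.CycDec.quotMap_mem_L_iff i.2.1 x).2 (congrFun hx ⟨i.1, i.2.2⟩)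
    rw [Groth.L15.CycDec.iInf_L_eq_bot hu, Ideal.mem_bot, ← RingHom.mem_ker,
      Groth.L15.CycDec.ker_quotMap] at h
    have h0 : Ideal.span (Groth.L15.CycDec.gens₀ Λ A ⊥) = ⊥ := by
      rw [Ideal.span_eq_bot]
      rintro _ ⟨b, hb, rfl⟩
      rw [AddSubgroup.mem_bot.1 hb]
      exact (sub_eq_zero.2 (Groth.L15.CycDec.el_zero))
    rwa [h0, Ideal.mem_bot] at h
  · choose z hz using fun B : {B : AddSubgroup A // IsAddCyclic (A ⧸ B)} =>
      Groth.L15.CycDec.cycQuotMap_surjective (Λ := Λ) B.1 (y B)
    obtain ⟨r, hr⟩ := Ideal.exists_forall_sub_mem_ideal (Groth.L15.CycDec.L_coprime (Λ := Λ) hu)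
      (fun i : Groth.L15.CycDec.Idx (⊥ : AddSubgroup A) =>
        W4c6equivkfinstab.quotMap Λ A ⊥ (z ⟨i.1, i.2.2⟩))
    obtain ⟨x, rfl⟩ := Groth.L15.CycDec.quotMap_surjective (⊥ : AddSubgroup A) r
    refine ⟨x, funext fun B => ?_⟩
    have h := hr ⟨B.1, bot_le, B.2⟩
    rw [← map_sub, Groth.L15.CycDec.quotMap_mem_L_iff bot_le, map_sub, sub_eq_zero] at h
    exact h.trans (hz B)

end Groth.Agent.S19276
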