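import Groth.Statements.S19280
import Groth.Agent.L15.MuGL.Main

set_option autoImplicit false
universe u
open CategoryTheory MonoidalCategory CartesianMonoidalCategory MonObj GrpObj AlgebraicGeometry
open AlgGrp

namespace Groth.Agent.S19280

/-- Let `k` be a field with an algebraic closure `K`, `m ≥ 0`, `n > 0`, and let `σ`, `τ` be closed
subgroup schemes of `GL_{m,k}`, each isomorphic as a `k`-group scheme to `μ_n = D(ℤ/n)`. If after
base change to `K` there are a `K`-point `g` of `GL_m` and an isomorphism `σ_K ≅ τ_K` through which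
conjugation by `g` carries the inclusion of `σ_K` to that of `τ_K`, then there are already a
`k`-rational point of `GL_{m,k}` and an isomorphism `σ ≅ τ` with the same property. (This is the
first of the two rationality conditions, stated for all dual cyclic subgroups rather than only for
those with a fixed point on a given algebraic space, which is what the printed argument establishes
and which gives the printed statement for every action of `GL_m`.) -/
theorem result (k : Type u) [Field k]
    (K : Type u) [Field K] [Algebra k K] [IsAlgClosure k K] (m n : ℕ) (hn : 0 < n)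
    (σ τ : Over (Spec (CommRingCat.of k))) [GrpObj σ] [GrpObj τ]
    (i : σ ⟶ CoactBr.sp k (CoordGrp.GLn m k)) (j : τ ⟶ CoactBr.sp k (CoordGrp.GLn m k))
    [IsMonHom i] [IsMonHom j] (hi : IsClosedImmersion i.left) (hj : IsClosedImmersion j.left)
    (hσ : Red.IsSplitTorusWith (ZMod n) σ) (hτ : Red.IsSplitTorusWith (ZMod n) τ)
    (h : ∃ (g : 𝟙_ (Over (Spec (CommRingCat.of K))) ⟶
        Red.bc (Spec.map (CommRingCat.ofHom (algebraMap k K))) (CoactBr.sp k (CoordGrp.GLn m k)))
      (φ : Red.bc (Spec.map (CommRingCat.ofHom (algebraMap k K))) σ ≅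
        Red.bc (Spec.map (CommRingCat.ofHom (algebraMap k K))) τ),
      AGF.conjBy g ((Over.pullback (Spec.map (CommRingCat.ofHom (algebraMap k K)))).map i) =
        φ.hom ≫ (Over.pullback (Spec.map (CommRingCat.ofHom (algebraMap k K)))).map j) :
    ∃ (g : 𝟙_ (Over (Spec (CommRingCat.of k))) ⟶ CoactBr.sp k (CoordGrp.GLn m k)) (φ : σ ≅ τ),
      AGF.conjBy g i = φ.hom ≫ j := by
  haveI : NeZero n := ⟨hn.ne'⟩
  obtain ⟨D⟩ := Groth.L15.MuGL.exists_dPts hσ
  obtain ⟨D'⟩ := Groth.L15.MuGL.exists_dPts hτ
  haveI : Mono j.left := inferInstance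
  haveI : Mono j := Over.mono_of_mono_left j
  obtain ⟨g, φ, hg⟩ := h
  exact Groth.L15.MuGL.rational_conj K D D' (Groth.L15.MuGL.glPtsSp k m) i j g φ hg

end Groth.Agent.S19280
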