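import Groth.Statements.S19976
import Groth.Agent.L11.NF.CodimTwo

set_option autoImplicit false
universe u
open NumberField

namespace Groth.Agent.S19976

/-- Strong approximation off a place v₀ for the complement of a closed subset of codimension at least 2
in affine n-space over a number field, here in the following explicit form for a finite place v₀ and
the standard integral model. Let k be a number field with ring of integers O_k, n ≥ 1, and f_1, …,
f_m polynomials in n variables with coefficients in O_k whose common zero locus F in 𝔸ⁿ_k has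
codimension at least 2, i.e. the k-algebra k[x_1, …, x_n]/(f_1, …, f_m) has Krull dimension at most
n − 2 (dimension −∞ when F is empty). Put U = 𝔸ⁿ_k ∖ F and 𝒰 = 𝔸ⁿ_{O_k} ∖ V(f_1, …, f_m), so that
for a finite place v the O_v-points of 𝒰 are the P ∈ O_vⁿ with some f_j(P) a unit. Let S_f be a
finite set of finite places containing v₀ (the set S of the source is S_f together with all infinite
places). Suppose given, for every v ∈ S_f other than v₀, a point P_v ∈ U(k_v) with an open
neighbourhood N_v ⊆ k_vⁿ; for every infinite place w, a point P_w ∈ U(k_w) with an open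
neighbourhood N_w ⊆ k_wⁿ; for every v in a finite set T of finite places disjoint from S_f, a point
Q_v ∈ 𝒰(O_v) with an open neighbourhood W_v ⊆ k_vⁿ; and suppose 𝒰(O_v) is nonempty for every finite
place v ∉ S_f. Then there is a point P ∈ kⁿ whose coordinates are v-integral and some f_j(P) is a
v-unit at every finite place v ∉ S_f (so P ∈ 𝒰(O_S)), and whose image lies in N_v for v ∈ S_f ∖
{v₀}, in N_w for every infinite w, and in W_v for v ∈ T. (The source states strong approximation off
an arbitrary place v₀ and for every model over O_S; this row is the case of a finite v₀ and of the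
standard model, approximation at a basic open set of the restricted product.) -/
theorem result
    (k : Type u) [Field k] [NumberField k] (n : ℕ) (hn : 1 ≤ n) (m : ℕ)
    (f : Fin m → MvPolynomial (Fin n) (NumberField.RingOfIntegers k))
    (hcodim : ringKrullDim (MvPolynomial (Fin n) k ⧸ Ideal.span (Set.range fun j =>
        MvPolynomial.map (algebraMap (NumberField.RingOfIntegers k) k) (f j))) + 2 ≤ (n : WithBot ℕ∞))
    (v₀ : IsDedekindDomain.HeightOneSpectrum (NumberField.RingOfIntegers k)) (Sf : Finset (IsDedekindDomain.HeightOneSpectrum (NumberField.RingOfIntegers k))) (hv₀ : v₀ ∈ Sf)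
    (Pf : (v : IsDedekindDomain.HeightOneSpectrum (NumberField.RingOfIntegers k)) → (Fin n → v.adicCompletion k))
    (hPf : ∀ v ∈ Sf, v ≠ v₀ → ∃ j, MvPolynomial.aeval (Pf v)
      (MvPolynomial.map (algebraMap (NumberField.RingOfIntegers k) k) (f j)) ≠ 0)
    (Nf : (v : IsDedekindDomain.HeightOneSpectrum (NumberField.RingOfIntegers k)) → Set (Fin n → v.adicCompletion k))
    (hNf : ∀ v ∈ Sf, v ≠ v₀ → IsOpen (Nf v) ∧ Pf v ∈ Nf v)
    (Pi : (w : NumberField.InfinitePlace k) → (Fin n → w.Completion))
    (hPi : ∀ w, ∃ j, MvPolynomial.aeval (Pi w)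
      (MvPolynomial.map (algebraMap (NumberField.RingOfIntegers k) k) (f j)) ≠ 0)
    (Ni : (w : NumberField.InfinitePlace k) → Set (Fin n → w.Completion))
    (hNi : ∀ w, IsOpen (Ni w) ∧ Pi w ∈ Ni w)
    (T : Finset (IsDedekindDomain.HeightOneSpectrum (NumberField.RingOfIntegers k))) (hT : Disjoint T Sf)
    (Q : (v : IsDedekindDomain.HeightOneSpectrum (NumberField.RingOfIntegers k)) → (Fin n → v.adicCompletion k))
    (hQ : ∀ v ∈ T, (∀ i, Q v i ∈ v.adicCompletionIntegers k) ∧ ∃ j, Valued.v (MvPolynomial.aeval (Q v)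
      (MvPolynomial.map (algebraMap (NumberField.RingOfIntegers k) k) (f j))) = 1)
    (W : (v : IsDedekindDomain.HeightOneSpectrum (NumberField.RingOfIntegers k)) → Set (Fin n → v.adicCompletion k))
    (hW : ∀ v ∈ T, IsOpen (W v) ∧ Q v ∈ W v)
    (hne : ∀ v : IsDedekindDomain.HeightOneSpectrum (NumberField.RingOfIntegers k), v ∉ Sf → ∃ R : Fin n → v.adicCompletion k,
      (∀ i, R i ∈ v.adicCompletionIntegers k) ∧ ∃ j, Valued.v (MvPolynomial.aeval R
        (MvPolynomial.map (algebraMap (NumberField.RingOfIntegers k) k) (f j))) = 1) :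
    ∃ P : Fin n → k,
      (∀ v : IsDedekindDomain.HeightOneSpectrum (NumberField.RingOfIntegers k), v ∉ Sf → (∀ i, v.valuation k (P i) ≤ 1) ∧
        ∃ j, v.valuation k (MvPolynomial.aeval P
          (MvPolynomial.map (algebraMap (NumberField.RingOfIntegers k) k) (f j))) = 1) ∧
      (∀ v ∈ Sf, v ≠ v₀ → (fun i => algebraMap k (v.adicCompletion k) (P i)) ∈ Nf v) ∧
      (∀ w : NumberField.InfinitePlace k, (fun i => algebraMap k w.Completion (P i)) ∈ Ni w) ∧
      (∀ v ∈ T, (fun i => algebraMap k (v.adicCompletion k) (P i)) ∈ W v) := by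
  classical
  have vI : ∀ (v : IsDedekindDomain.HeightOneSpectrum (NumberField.RingOfIntegers k)) (r : 𝓞 k),
      Valued.v (algebraMap k (v.adicCompletion k) (r : k)) ≤ 1 :=
    Groth.L11.CodimTwo.valued_int_le_one
  have vA : ∀ (v : IsDedekindDomain.HeightOneSpectrum (NumberField.RingOfIntegers k)) (x : k),
      Valued.v (algebraMap k (v.adicCompletion k) x) = v.valuation k x :=
    Groth.L11.CodimTwo.valued_algebraMap
  have vk : ∀ (v : IsDedekindDomain.HeightOneSpectrum (NumberField.RingOfIntegers k)) (r : 𝓞 k),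
      v.valuation k (algebraMap k k (r : k)) ≤ 1 := fun v r ↦ v.valuation_le_one r
  let F : Fin m → MvPolynomial (Fin n) k :=
    fun j ↦ MvPolynomial.map (algebraMap (NumberField.RingOfIntegers k) k) (f j)
  -- (1) a base point `P₀`
  let A : Finset (IsDedekindDomain.HeightOneSpectrum (NumberField.RingOfIntegers k)) :=
    T ∪ Sf.erase v₀
  have hA : v₀ ∉ A := by
    simp only [A, Finset.mem_union, Finset.mem_erase, ne_eq, not_true_eq_false, false_and, or_false]
    exact fun h ↦ Finset.disjoint_left.1 hT h hv₀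
  let O : ∀ v : IsDedekindDomain.HeightOneSpectrum (NumberField.RingOfIntegers k),
      Set (Fin n → v.adicCompletion k) := fun v ↦
    if v ∈ T then interior (W v ∩ {x | (∀ i, Valued.v (x i) ≤ 1) ∧
      ∃ j, Valued.v (MvPolynomial.aeval x (F j)) = 1}) else Nf v
  have hO : ∀ v ∈ A, IsOpen (O v) ∧ (O v).Nonempty := fun v hv ↦ by
    by_cases hvT : v ∈ T
    · simp only [O, if_pos hvT]
      refine ⟨isOpen_interior, Q v, mem_interior_iff_mem_nhds.2 ?_⟩
      obtain ⟨hint, j, hj⟩ := hQ v hvT
      refine Filter.inter_mem ((hW v hvT).1.mem_nhds (hW v hvT).2) ?_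
      have h1 : ∀ᶠ x in nhds (Q v), ∀ i, Valued.v (x i) ≤ 1 := Filter.eventually_all.2 fun i ↦
        (continuous_apply i).continuousAt.preimage_mem_nhds
          ((Valued.isOpen_integer (v.adicCompletion k)).mem_nhds (hint i))
      have h2 : ∀ᶠ x in nhds (Q v), Valued.v (MvPolynomial.aeval x (F j)) = 1 := by
        have hne' : Valued.v (MvPolynomial.aeval (Q v) (F j)) ≠ 0 := by rw [hj]; exact one_ne_zero
        have := (Groth.L11.CodimTwo.continuous_aeval (F j)).continuousAt.preimage_mem_nhds
          (Valued.locally_const hne')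
        filter_upwards [this] with x hx
        exact hx.trans hj
      exact (h1.and h2).mono fun x hx ↦ ⟨hx.1, j, hx.2⟩
    · have hvS : v ∈ Sf.erase v₀ := (Finset.mem_union.1 hv).resolve_left hvT
      simp only [O, if_neg hvT]
      exact ⟨(hNf v (Finset.mem_of_mem_erase hvS) (Finset.ne_of_mem_erase hvS)).1, Pf v,
        (hNf v (Finset.mem_of_mem_erase hvS) (Finset.ne_of_mem_erase hvS)).2⟩
  let V : ∀ w : NumberField.InfinitePlace k, Set (Fin n → w.Completion) := fun w ↦
    Ni w ∩ {x | ∃ j, MvPolynomial.aeval x (F j) ≠ 0}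
  have hV : ∀ w, IsOpen (V w) ∧ (V w).Nonempty := fun w ↦ by
    refine ⟨(hNi w).1.inter ?_, Pi w, (hNi w).2, hPi w⟩
    simp only [Set.ofPred_exists]
    exact isOpen_iUnion fun j ↦ isOpen_ne.preimage (Groth.L11.CodimTwo.continuous_aeval (F j))
  obtain ⟨P₀, hP₀int, hP₀A, hP₀V⟩ := Groth.L11.CodimTwo.vec_approx v₀ A hA O hO V hV
  obtain ⟨j₀, hj₀⟩ : ∃ j, MvPolynomial.aeval P₀ (F j) ≠ 0 := by
    obtain ⟨w⟩ : Nonempty (NumberField.InfinitePlace k) := inferInstance
    obtain ⟨j, hj⟩ := (hP₀V w).2
    refine ⟨j, fun h0 ↦ hj ?_⟩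
    rw [show (fun i ↦ algebraMap k w.Completion (P₀ i)) = algebraMap k w.Completion ∘ P₀ from rfl,
      MvPolynomial.aeval_algebraMap_apply, h0, map_zero]
  have hP₀T : ∀ v ∈ T, (fun i ↦ algebraMap k (v.adicCompletion k) (P₀ i)) ∈ W v ∧
      (∀ i, v.valuation k (P₀ i) ≤ 1) ∧ ∃ j, v.valuation k (MvPolynomial.aeval P₀ (F j)) = 1 := by
    intro v hv
    have h := hP₀A v (Finset.mem_union_left _ hv)
    simp only [O, if_pos hv] at h
    obtain ⟨h1, h2, j, h3⟩ := interior_subset h
    refine ⟨h1, fun i ↦ (vA v _).symm.trans_le (h2 i), j, ?_⟩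
    rw [show (fun i ↦ algebraMap k (v.adicCompletion k) (P₀ i)) =
      algebraMap k (v.adicCompletion k) ∘ P₀ from rfl, MvPolynomial.aeval_algebraMap_apply] at h3
    exact (vA v _).symm.trans h3
  have hP₀ : ∀ v ∉ Sf, ∀ i, v.valuation k (P₀ i) ≤ 1 := fun v hv i ↦ by
    by_cases hvT : v ∈ T
    · exact (hP₀T v hvT).2.1 i
    · refine hP₀int v ?_ (fun h ↦ hv (h ▸ hv₀)) i
      simp [A, hvT, hv]
  -- (2) the places where `P₀` is bad, and a direction `D`
  have hBfin : {v : IsDedekindDomain.HeightOneSpectrum (NumberField.RingOfIntegers k) | v ∉ Sf ∧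
      ∀ j, v.valuation k (MvPolynomial.aeval P₀ (F j)) < 1}.Finite := by
    refine (IsDedekindDomain.HeightOneSpectrum.Support.finite (NumberField.RingOfIntegers k)
      (MvPolynomial.aeval P₀ (F j₀))⁻¹).subset fun v hv ↦ ?_
    show 1 < v.valuation k _
    rw [map_inv₀]
    exact (one_lt_inv₀ (zero_lt_iff.2 ((Valuation.ne_zero_iff _).2 hj₀))).2 (hv.2 j₀)
  let B : Finset (IsDedekindDomain.HeightOneSpectrum (NumberField.RingOfIntegers k)) :=
    hBfin.toFinset
  have hB : ∀ v, v ∈ B ↔ v ∉ Sf ∧ ∀ j, v.valuation k (MvPolynomial.aeval P₀ (F j)) < 1 :=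
    fun v ↦ hBfin.mem_toFinset
  have hBT : ∀ v ∈ T, v ∉ B := fun v hv h ↦ by
    obtain ⟨j, hj⟩ := (hP₀T v hv).2.2
    exact (((hB v).1 h).2 j).ne hj
  obtain ⟨hpol, hpol0, hdir⟩ := Groth.L11.CodimTwo.exists_direction_poly f hcodim P₀ j₀ hj₀
  have hneB : ∀ v : IsDedekindDomain.HeightOneSpectrum (NumberField.RingOfIntegers k),
      ∃ R : Fin n → v.adicCompletion k, v ∈ B → (∀ i, Valued.v (R i) ≤ 1) ∧
        ∃ j, Valued.v (MvPolynomial.aeval R (F j)) = 1 := fun v ↦ by
    by_cases hv : v ∈ B
    · obtain ⟨R, hR, hR'⟩ := hne v ((hB v).1 hv).1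
      exact ⟨R, fun _ ↦ ⟨hR, hR'⟩⟩
    · exact ⟨0, fun h ↦ absurd h hv⟩
  choose R hR using hneB
  let O₁ : ∀ v : IsDedekindDomain.HeightOneSpectrum (NumberField.RingOfIntegers k),
      Set (Fin n → v.adicCompletion k) := fun v ↦
    {x | ∀ i, Valued.v (algebraMap k (v.adicCompletion k) (P₀ i) + x i - R v i) < 1}
  have hO₁ : ∀ v, IsOpen (O₁ v) ∧ (O₁ v).Nonempty := fun v ↦ by
    refine ⟨?_, fun i ↦ R v i - algebraMap k (v.adicCompletion k) (P₀ i), fun i ↦ by simp⟩
    simp only [O₁, Set.ofPred_forall]
    refine isOpen_iInter_of_finite fun i ↦ ?_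
    have hc : Continuous fun x : Fin n → v.adicCompletion k ↦
        algebraMap k (v.adicCompletion k) (P₀ i) + x i - R v i :=
      (continuous_const.add (continuous_apply i)).sub continuous_const
    exact (Groth.L11.CodimTwo.isOpen_lt_one v).preimage hc
  let V₁ : ∀ w : NumberField.InfinitePlace k, Set (Fin n → w.Completion) := fun w ↦
    {x | MvPolynomial.aeval x hpol ≠ 0}
  obtain ⟨x₁, hx₁⟩ : ∃ x : Fin n → k, MvPolynomial.eval x hpol ≠ 0 := by
    by_contra h
    push Not at h
    exact hpol0 (MvPolynomial.funext fun x ↦ by rw [h x, map_zero])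
  have hV₁ : ∀ w, IsOpen (V₁ w) ∧ (V₁ w).Nonempty := fun w ↦ by
    refine ⟨isOpen_ne.preimage (Groth.L11.CodimTwo.continuous_aeval hpol),
      algebraMap k w.Completion ∘ x₁, ?_⟩
    show MvPolynomial.aeval _ hpol ≠ 0
    rw [MvPolynomial.aeval_algebraMap_apply]
    exact (map_ne_zero _).2 (by simpa [MvPolynomial.aeval_eq_eval] using hx₁)
  have hv₀B : v₀ ∉ B := fun h ↦ ((hB v₀).1 h).1 hv₀
  obtain ⟨D, hDint, hDB, hDV⟩ :=
    Groth.L11.CodimTwo.vec_approx v₀ B hv₀B O₁ (fun v _ ↦ hO₁ v) V₁ hV₁
  have hDne : MvPolynomial.aeval D hpol ≠ 0 := fun h0 ↦ by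
    obtain ⟨w⟩ : Nonempty (NumberField.InfinitePlace k) := inferInstance
    refine hDV w ?_
    rw [show (fun i ↦ algebraMap k w.Completion (D i)) = algebraMap k w.Completion ∘ D from rfl,
      MvPolynomial.aeval_algebraMap_apply, h0, map_zero]
  obtain ⟨a, ha⟩ := hdir D hDne
  have hD : ∀ v ∉ Sf, ∀ i, v.valuation k (D i) ≤ 1 := fun v hv i ↦ by
    by_cases hvB : v ∈ B
    · have h1 := hDB v hvB i
      have h2 : Valued.v (R v i - algebraMap k (v.adicCompletion k) (P₀ i)) ≤ 1 :=
        (Valuation.map_sub _ _ _).trans (max_le ((hR v hvB).1 i) ((vA v _).trans_le (hP₀ v hv i)))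
      rw [← vA, show algebraMap k (v.adicCompletion k) (D i) =
        (algebraMap k (v.adicCompletion k) (P₀ i) + algebraMap k (v.adicCompletion k) (D i) - R v i)
          + (R v i - algebraMap k (v.adicCompletion k) (P₀ i)) by abel]
      exact (Valuation.map_add _ _ _).trans (max_le h1.le h2)
    · exact hDint v hvB (fun h ↦ hv (h ▸ hv₀)) i
  -- (3) the parameter `t`
  have hEfin : {v : IsDedekindDomain.HeightOneSpectrum (NumberField.RingOfIntegers k) | v ∉ Sf ∧
      ∃ j, ∃ e ∈ (a j).support, 1 < v.valuation k ((a j).coeff e)}.Finite := by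
    refine (Set.finite_iUnion fun j ↦ (a j).support.finite_toSet.biUnion fun e _ ↦
      IsDedekindDomain.HeightOneSpectrum.Support.finite (NumberField.RingOfIntegers k)
        ((a j).coeff e)).subset fun v hv ↦ ?_
    obtain ⟨-, j, e, he, hlt⟩ := hv
    exact Set.mem_iUnion.2 ⟨j, Set.mem_biUnion he hlt⟩
  let A' : Finset (IsDedekindDomain.HeightOneSpectrum (NumberField.RingOfIntegers k)) :=
    A ∪ B ∪ hEfin.toFinset
  have hA' : v₀ ∉ A' := by simp [A', hA, hv₀B, hv₀]
  let pt : ∀ v : IsDedekindDomain.HeightOneSpectrum (NumberField.RingOfIntegers k),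
      v.adicCompletion k → Fin n → v.adicCompletion k := fun v t i ↦
    algebraMap k (v.adicCompletion k) (P₀ i) + t * algebraMap k (v.adicCompletion k) (D i)
  let U : ∀ v : IsDedekindDomain.HeightOneSpectrum (NumberField.RingOfIntegers k),
      Set (v.adicCompletion k) := fun v ↦
    if v ∈ B then {t | Valued.v (t - 1) < 1}
    else if v ∈ A then {t | pt v t ∈ O v} ∩ {t | Valued.v t < 1} else {t | Valued.v t < 1}
  have hU : ∀ v ∈ A', IsOpen (U v) ∧ (U v).Nonempty := fun v _ ↦ by
    have hlt := Groth.L11.CodimTwo.isOpen_lt_one (k := k) v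
    by_cases hvB : v ∈ B
    · simp only [U, if_pos hvB]
      exact ⟨hlt.preimage (continuous_id.sub continuous_const), 1, by simp⟩
    · simp only [U, if_neg hvB]
      by_cases hvA : v ∈ A
      · simp only [if_pos hvA]
        refine ⟨((hO v hvA).1.preimage (continuous_pi fun i ↦
          continuous_const.add (continuous_id.mul continuous_const))).inter hlt, 0, ?_, by simp⟩
        simpa [pt] using hP₀A v hvA
      · simp only [if_neg hvA]
        exact ⟨hlt, 0, by simp⟩
  let ptw : ∀ w : NumberField.InfinitePlace k, w.Completion → Fin n → w.Completion := fun w t i ↦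
    algebraMap k w.Completion (P₀ i) + t * algebraMap k w.Completion (D i)
  let Vt : ∀ w : NumberField.InfinitePlace k, Set w.Completion := fun w ↦ {t | ptw w t ∈ Ni w}
  have hVt : ∀ w, IsOpen (Vt w) ∧ (Vt w).Nonempty := fun w ↦ by
    refine ⟨(hNi w).1.preimage (continuous_pi fun i ↦
      continuous_const.add (continuous_id.mul continuous_const)), 0, ?_⟩
    simpa [Vt, ptw] using (hP₀V w).1
  obtain ⟨t, htint, htA, htw⟩ := Groth.L11.StrongApprox.strong_approx v₀ A' hA' U hU Vt hVt
  -- the point
  have hAt : ∀ v ∈ A, v ∉ B → pt v (algebraMap k (v.adicCompletion k) t) ∈ O v ∧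
      v.valuation k t < 1 := fun v hvA hvB ↦ by
    have h := htA v (by simp [A', hvA])
    simp only [U, if_neg hvB, if_pos hvA] at h
    exact ⟨h.1, (vA v t).symm.trans_lt h.2⟩
  have hpt : ∀ v : IsDedekindDomain.HeightOneSpectrum (NumberField.RingOfIntegers k),
      (fun i ↦ algebraMap k (v.adicCompletion k) (P₀ i + t * D i)) =
        pt v (algebraMap k (v.adicCompletion k) t) := fun v ↦ funext fun i ↦ by simp [pt]
  refine ⟨fun i ↦ P₀ i + t * D i, ?_, ?_, ?_, ?_⟩
  · intro v hv
    have hvv₀ : v ≠ v₀ := fun h ↦ hv (h ▸ hv₀)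
    have ht : v.valuation k t ≤ 1 := by
      by_cases hvB : v ∈ B
      · have h := htA v (by simp [A', hvB])
        simp only [U, if_pos hvB] at h
        rw [← vA, ← sub_add_cancel (algebraMap k (v.adicCompletion k) t) 1]
        exact (Valuation.map_add _ _ _).trans (max_le h.le (map_one _).le)
      · by_cases hvA : v ∈ A
        · exact (hAt v hvA hvB).2.le
        · by_cases hvA' : v ∈ A'
          · have h := htA v hvA'
            simp only [U, if_neg hvB, if_neg hvA] at h
            exact ((vA v t).symm.trans_lt h).le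
          · exact htint v hvA' hvv₀
    have hPint : ∀ i, v.valuation k (P₀ i + t * D i) ≤ 1 := fun i ↦
      (Valuation.map_add _ _ _).trans (max_le (hP₀ v hv i)
        ((map_mul _ _ _).trans_le (mul_le_one' ht (hD v hv i))))
    refine ⟨hPint, ?_⟩
    have hle : ∀ j, v.valuation k (MvPolynomial.aeval (fun i ↦ P₀ i + t * D i) (F j)) ≤ 1 := fun j ↦
      Groth.L11.CodimTwo.val_aeval_le_one (v.valuation k) (vk v) (f j) _ hPint
    by_cases hvB : v ∈ B
    · have hR' := hR v hvB
      obtain ⟨hRint, j, hRj⟩ := hR'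
      refine ⟨j, ?_⟩
      have h := htA v (by simp [A', hvB])
      simp only [U, if_pos hvB] at h
      have key := Groth.L11.CodimTwo.val_eq_one_of_congr
        (Valued.v : Valuation (v.adicCompletion k) _) (vI v) (f j)
        (algebraMap k (v.adicCompletion k) ∘ fun i ↦ P₀ i + t * D i) (R v)
        (fun i ↦ (vA v _).trans_le (hPint i)) hRint (fun i ↦ ?_) hRj
      · rw [MvPolynomial.aeval_algebraMap_apply] at key
        exact (vA v _).symm.trans key
      · show Valued.v (algebraMap k (v.adicCompletion k) (P₀ i + t * D i) - R v i) < 1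
        rw [show algebraMap k (v.adicCompletion k) (P₀ i + t * D i) - R v i =
          (algebraMap k (v.adicCompletion k) t - 1) * algebraMap k (v.adicCompletion k) (D i) +
          (algebraMap k (v.adicCompletion k) (P₀ i) + algebraMap k (v.adicCompletion k) (D i) - R v i)
          by rw [map_add, map_mul]; ring]
        refine Valuation.map_add_lt _ ?_ (hDB v hvB i)
        rw [map_mul]
        exact (mul_le_of_le_one_right' ((vA v _).trans_le (hD v hv i))).trans_lt h
    · by_cases hvE : v ∈ A'
      · have hlt : v.valuation k t < 1 := by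
          by_cases hvA : v ∈ A
          · exact (hAt v hvA hvB).2
          · have h := htA v hvE
            simp only [U, if_neg hvB, if_neg hvA] at h
            exact (vA v t).symm.trans_lt h
        obtain ⟨j, hj⟩ : ∃ j, v.valuation k (MvPolynomial.aeval P₀ (F j)) = 1 := by
          by_contra hcon
          push Not at hcon
          exact hvB ((hB v).2 ⟨hv, fun j ↦ lt_of_le_of_ne
            (Groth.L11.CodimTwo.val_aeval_le_one (v.valuation k) (vk v) (f j) _ (hP₀ v hv))
            (hcon j)⟩)
        refine ⟨j, Groth.L11.CodimTwo.val_eq_one_of_congr (v.valuation k) (vk v) (f j) _ P₀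
          hPint (hP₀ v hv) (fun i ↦ ?_) hj⟩
        rw [add_sub_cancel_left, map_mul]
        exact (mul_le_of_le_one_right' (hD v hv i)).trans_lt hlt
      · by_contra hcon
        push Not at hcon
        have hcoe : ∀ j e, v.valuation k ((a j).coeff e) ≤ 1 := fun j e ↦ by
          by_contra hc
          push Not at hc
          refine hvE (Finset.mem_union_right _ (hEfin.mem_toFinset.2 ⟨hv, j, e, ?_, hc⟩))
          rw [Polynomial.mem_support_iff]
          intro h0
          rw [h0, map_zero] at hc
          exact not_lt_zero' hc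
        have hev : ∀ j, v.valuation k ((a j).eval t) ≤ 1 := fun j ↦ by
          rw [Polynomial.eval_eq_sum]
          refine Valuation.map_sum_le _ fun e _ ↦ ?_
          rw [map_mul, map_pow]
          exact mul_le_one' (hcoe j e) (pow_le_one' ht e)
        have h1 := congrArg (v.valuation k) (ha t)
        rw [map_one] at h1
        refine h1.not_lt (Valuation.map_sum_lt _ one_ne_zero fun j _ ↦ ?_)
        rw [map_mul]
        exact (mul_le_of_le_one_left' (hev j)).trans_lt (lt_of_le_of_ne (hle j) (hcon j))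
  · intro v hv hne₀
    have hvT : v ∉ T := fun h ↦ Finset.disjoint_left.1 hT h hv
    have h := (hAt v (by simp [A, hv, hne₀]) (fun h ↦ ((hB v).1 h).1 hv)).1
    simp only [O, if_neg hvT] at h
    rw [hpt]
    exact h
  · intro w
    have h := htw w
    rw [show (fun i ↦ algebraMap k w.Completion (P₀ i + t * D i)) =
      ptw w (algebraMap k w.Completion t) from funext fun i ↦ by
        simp only [ptw, map_add, map_mul]]
    exact h
  · intro v hv
    have h := (hAt v (by simp [A, hv]) (hBT v hv)).1
    simp only [O, if_pos hv] at h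
    rw [hpt]
    exact (interior_subset h).1

end Groth.Agent.S19976
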