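import Groth.Statements.S19283
import Groth.Agent.L11.NF.NormForm
import Groth.Agent.S19976

set_option autoImplicit false
universe u
open scoped TensorProduct
open NumberField

namespace Groth.Agent.S19283

/-- Take number fields k ⊆ L with L finite over k, and finite sets S_f (of finite places of k) and S_∞
(of infinite places of k); for each v in S_f ∪ S_∞ let t_v be a nonzero element of k_v which is a
norm from the k_v-algebra k_v ⊗_k L, with an open neighbourhood U_v of t_v in k_v, and let v_0 be a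
finite place of k outside S_f such that L admits a k-algebra embedding into k_{v_0} (L has a place
of degree 1 over v_0). Then there is a nonzero t ∈ k whose image lies in U_v for every v ∈ S_f ∪
S_∞, which is integral at every finite place of k outside S_f ∪ {v_0}, and such that for every
finite place v of k outside S_f either t is a unit at v or L admits a k-algebra embedding into k_v.
(The published statement allows v_0 to be any place of k outside S; this row takes v_0 finite.) -/
theorem result (k L : Type u) [Field k] [NumberField k]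
    [Field L] [NumberField L] [Algebra k L]
    (Sf : Finset (IsDedekindDomain.HeightOneSpectrum (NumberField.RingOfIntegers k)))
    (Si : Finset (NumberField.InfinitePlace k))
    (tf : (v : IsDedekindDomain.HeightOneSpectrum (NumberField.RingOfIntegers k)) → v.adicCompletion k)
    (ti : (w : NumberField.InfinitePlace k) → w.Completion)
    (htf : ∀ v ∈ Sf, tf v ≠ 0 ∧ ∃ x : (v.adicCompletion k) ⊗[k] L, Algebra.norm (v.adicCompletion k) x = tf v)
    (hti : ∀ w ∈ Si, ti w ≠ 0 ∧ ∃ x : w.Completion ⊗[k] L, Algebra.norm w.Completion x = ti w)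
    (Uf : (v : IsDedekindDomain.HeightOneSpectrum (NumberField.RingOfIntegers k)) → Set (v.adicCompletion k))
    (hUf : ∀ v ∈ Sf, IsOpen (Uf v) ∧ tf v ∈ Uf v)
    (Ui : (w : NumberField.InfinitePlace k) → Set w.Completion)
    (hUi : ∀ w ∈ Si, IsOpen (Ui w) ∧ ti w ∈ Ui w)
    (v₀ : IsDedekindDomain.HeightOneSpectrum (NumberField.RingOfIntegers k)) (hv₀ : v₀ ∉ Sf)
    (hLv₀ : Nonempty (L →ₐ[k] v₀.adicCompletion k)) :
    ∃ t : k, t ≠ 0 ∧ (∀ v ∈ Sf, algebraMap k (v.adicCompletion k) t ∈ Uf v) ∧
      (∀ w ∈ Si, algebraMap k w.Completion t ∈ Ui w) ∧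
      (∀ v : IsDedekindDomain.HeightOneSpectrum (NumberField.RingOfIntegers k), v ∉ Sf → v ≠ v₀ →
        v.valuation k t ≤ 1) ∧
      ∀ v : IsDedekindDomain.HeightOneSpectrum (NumberField.RingOfIntegers k), v ∉ Sf →
        v.valuation k t = 1 ∨ Nonempty (L →ₐ[k] v.adicCompletion k) := by
  classical
  haveI : FiniteDimensional k L := Module.Finite.of_restrictScalars_finite ℚ k L
  obtain ⟨n, hn, ⟨ib⟩⟩ := Groth.L11.NormForm.exists_intBasis (k := k) L
  let f : Fin 2 → MvPolynomial (Fin n) (NumberField.RingOfIntegers k) :=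
    ![Groth.L11.NormForm.normForm ib, Groth.L11.NormForm.adjForm ib]
  have hcodim := Groth.L11.NormForm.ringKrullDim_quotient_add_two_le ib
  let F₀ : MvPolynomial (Fin n) k := MvPolynomial.map (algebraMap (NumberField.RingOfIntegers k) k)
    (Groth.L11.NormForm.normForm ib)
  let one : Fin n → k := fun i ↦ (ib.e i : k)
  have hone : ∀ (K : Type u) [Field K] [Algebra k K],
      MvPolynomial.aeval (fun i ↦ algebraMap k K (one i)) F₀ = 1 := fun K _ _ ↦
    Groth.L11.NormForm.ev_normForm_one ib
  have hfin : ∀ v : IsDedekindDomain.HeightOneSpectrum (NumberField.RingOfIntegers k),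
      ∃ x : Fin n → v.adicCompletion k, v ∈ Sf → MvPolynomial.aeval x F₀ = tf v := fun v ↦ by
    by_cases hv : v ∈ Sf
    · obtain ⟨-, y, hy⟩ := htf v hv
      obtain ⟨x, hx⟩ := Groth.L11.NormForm.exists_ev_eq_norm ib y
      exact ⟨x, fun _ ↦ hx.trans hy⟩
    · exact ⟨0, fun h ↦ absurd h hv⟩
  choose Pf hPf using hfin
  have hinf : ∀ w : NumberField.InfinitePlace k, ∃ x : Fin n → w.Completion,
      MvPolynomial.aeval x F₀ ≠ 0 ∧ (w ∈ Si → MvPolynomial.aeval x F₀ = ti w) := fun w ↦ by
    by_cases hw : w ∈ Si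
    · obtain ⟨h0, y, hy⟩ := hti w hw
      obtain ⟨x, hx⟩ := Groth.L11.NormForm.exists_ev_eq_norm ib y
      exact ⟨x, by rw [show MvPolynomial.aeval x F₀ = ti w from hx.trans hy]; exact h0,
        fun _ ↦ hx.trans hy⟩
    · exact ⟨_, by rw [hone w.Completion]; exact one_ne_zero, fun h ↦ absurd h hw⟩
  choose Pi hPi0 hPi using hinf
  let Nf : ∀ v : IsDedekindDomain.HeightOneSpectrum (NumberField.RingOfIntegers k),
      Set (Fin n → v.adicCompletion k) := fun v ↦ (fun x ↦ MvPolynomial.aeval x F₀) ⁻¹' Uf v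
  let Ni : ∀ w : NumberField.InfinitePlace k, Set (Fin n → w.Completion) := fun w ↦
    {x | MvPolynomial.aeval x F₀ ≠ 0} ∩
      if w ∈ Si then (fun x ↦ MvPolynomial.aeval x F₀) ⁻¹' Ui w else Set.univ
  have hSf : ∀ v ∈ insert v₀ Sf, v ≠ v₀ → v ∈ Sf := fun v hv hne ↦
    (Finset.mem_insert.1 hv).resolve_left hne
  obtain ⟨P, hP, hPN, hPI, -⟩ := Groth.Agent.S19976.result k n hn 2 f hcodim v₀ (insert v₀ Sf)
    (Finset.mem_insert_self _ _) Pf
    (fun v hv hne ↦ ⟨0, by
      show MvPolynomial.aeval (Pf v) F₀ ≠ 0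
      rw [hPf v (hSf v hv hne)]
      exact (htf v (hSf v hv hne)).1⟩)
    Nf
    (fun v hv hne ↦ ⟨(hUf v (hSf v hv hne)).1.preimage (Groth.L11.CodimTwo.continuous_aeval F₀), by
      show MvPolynomial.aeval (Pf v) F₀ ∈ Uf v
      rw [hPf v (hSf v hv hne)]
      exact (hUf v (hSf v hv hne)).2⟩)
    Pi (fun w ↦ ⟨0, hPi0 w⟩) Ni
    (fun w ↦ by
      refine ⟨(isOpen_ne.preimage (Groth.L11.CodimTwo.continuous_aeval F₀)).inter ?_, hPi0 w, ?_⟩
      · split_ifs with hw
        · exact (hUi w hw).1.preimage (Groth.L11.CodimTwo.continuous_aeval F₀)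
        · exact isOpen_univ
      · split_ifs with hw
        · show MvPolynomial.aeval (Pi w) F₀ ∈ Ui w
          rw [hPi w hw]
          exact (hUi w hw).2
        · trivial)
    ∅ (Finset.disjoint_empty_left _) Pf (fun v hv ↦ absurd hv (Finset.notMem_empty v))
    Nf (fun v hv ↦ absurd hv (Finset.notMem_empty v))
    (fun v _ ↦ ⟨fun i ↦ algebraMap k _ (one i), fun i ↦ Groth.L11.CodimTwo.valued_int_le_one v (ib.e i),
      0, by
        show Valued.v (MvPolynomial.aeval _ F₀) = 1
        rw [hone, map_one]⟩)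
  set t : k := MvPolynomial.aeval P F₀ with ht
  have hmap : ∀ (K : Type u) [Field K] [Algebra k K],
      MvPolynomial.aeval (fun i ↦ algebraMap k K (P i)) F₀ = algebraMap k K t := fun K _ _ ↦
    by rw [show (fun i ↦ algebraMap k K (P i)) = algebraMap k K ∘ P from rfl,
      MvPolynomial.aeval_algebraMap_apply]
  refine ⟨t, ?_, fun v hv ↦ ?_, fun w hw ↦ ?_, fun v hv hne ↦ ?_, fun v hv ↦ ?_⟩
  · obtain ⟨w⟩ : Nonempty (NumberField.InfinitePlace k) := inferInstance
    intro h0
    refine (hPI w).1 ?_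
    rw [hmap, h0, map_zero]
  · rw [← hmap]
    exact hPN v (Finset.mem_insert_of_mem hv) (fun h ↦ hv₀ (h ▸ hv))
  · have h := (hPI w).2
    rw [if_pos hw] at h
    rw [← hmap]
    exact h
  · exact Groth.L11.CodimTwo.val_aeval_le_one (v.valuation k) (fun r ↦ v.valuation_le_one r)
      (Groth.L11.NormForm.normForm ib) P (hP v (by simp [hv, hne])).1
  · by_cases hne : v = v₀
    · exact Or.inr (hne ▸ hLv₀)
    · obtain ⟨hint, j, hj⟩ := hP v (by simp [hv, hne])
      fin_cases j
      · exact Or.inl hj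
      · by_cases h1 : v.valuation k t = 1
        · exact Or.inl h1
        · exact Or.inr (Groth.L11.NormForm.nonempty_algHom_of_forms ib v P hint
            (lt_of_le_of_ne (Groth.L11.CodimTwo.val_aeval_le_one (v.valuation k)
              (fun r ↦ v.valuation_le_one r) (Groth.L11.NormForm.normForm ib) P hint) h1) hj)

end Groth.Agent.S19283
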