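import Groth.Statements.S19284
import Groth.Agent.L28.AffGal.Decomp
import Mathlib.FieldTheory.Galois.Basic
import Mathlib.RingTheory.IntegralDomain

set_option autoImplicit false
universe u
open NumberField

set_option linter.style.haveILetI false
open scoped Pointwise

namespace Groth.Agent.S19284

/-- Let L/K be a finite extension of number fields and Ω an algebraic closure of K. Suppose that L/K is
almost abelian in the non-abelian way: for some prime number p there is a bijection between the set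
of K-embeddings L → Ω and Z/p under which every K-automorphism of Ω acts by an affine transformation
x ↦ a x + b with a ≠ 0, and L/K is not an abelian extension (it is not Galois with commutative
automorphism group). Then there is an intermediate extension K ⊂ E ⊂ Ω contained in the normal
closure of L, Galois over K with nontrivial cyclic group, such that for every finite place w of K
which is unramified in L (every prime of the integers of L above w has ramification index 1), either
E admits a K-algebra embedding into the completion K_w (since E/K is Galois: w splits completely in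
E) or L admits a K-algebra embedding into K_w (L has a place of degree 1 over w). (Only finite
places are treated here.) -/
theorem result (K L Ω : Type u) [Field K] [NumberField K]
    [Field L] [NumberField L] [Algebra K L] [Field Ω] [Algebra K Ω] [IsAlgClosure K Ω]
    (p : ℕ) (hp : p.Prime) (e : (L →ₐ[K] Ω) ≃ ZMod p)
    (haff : ∀ σ : Ω ≃ₐ[K] Ω, ∃ a b : ZMod p, a ≠ 0 ∧
      ∀ φ : L →ₐ[K] Ω, e (σ.toAlgHom.comp φ) = a * e φ + b)
    (hnab : IsGalois K L → ∃ σ τ : L ≃ₐ[K] L, σ * τ ≠ τ * σ) :
    ∃ E : IntermediateField K Ω, E ≤ IntermediateField.normalClosure K L Ω ∧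
      FiniteDimensional K E ∧ IsGalois K E ∧ IsCyclic (E ≃ₐ[K] E) ∧ 1 < Module.finrank K E ∧
      ∀ w : IsDedekindDomain.HeightOneSpectrum (NumberField.RingOfIntegers K),
        (∀ P : Ideal (NumberField.RingOfIntegers L), P.IsPrime → P.LiesOver w.asIdeal →
          P.ramificationIdx (NumberField.RingOfIntegers K) = 1) →
        Nonempty (E →ₐ[K] w.adicCompletion K) ∨ Nonempty (L →ₐ[K] w.adicCompletion K) := by
  classical
  haveI : Fact p.Prime := ⟨hp⟩
  haveI : FiniteDimensional K L := Module.Finite.of_restrictScalars_finite ℚ K L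
  haveI : IsAlgClosed Ω := IsAlgClosure.isAlgClosed K
  haveI : Algebra.IsAlgebraic K Ω := IsAlgClosure.isAlgebraic
  haveI : Normal K Ω := IsAlgClosure.normal K Ω
  let N : IntermediateField K Ω := IntermediateField.normalClosure K L Ω
  haveI : FiniteDimensional K N := normalClosure.is_finiteDimensional K L Ω
  haveI : Normal K N := normalClosure.normal K L Ω
  haveI : IsGalois K N := ⟨⟩
  haveI : Module.Finite ℚ N := Module.Finite.trans K N
  haveI : CharZero N := charZero_of_injective_algebraMap (algebraMap K N).injective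
  haveI : NumberField N := ⟨⟩
  -- embeddings into `N`
  let J : (L →ₐ[K] N) → (L →ₐ[K] Ω) := fun ψ => N.val.comp ψ
  have hJ : Function.Bijective J := by
    refine ⟨fun a b h => AlgHom.ext fun x => Subtype.ext (AlgHom.congr_fun h x), fun φ => ?_⟩
    exact ⟨φ.codRestrict N.toSubalgebra fun x => φ.fieldRange_le_normalClosure ⟨x, rfl⟩,
      AlgHom.ext fun x => rfl⟩
  let e' : (L →ₐ[K] N) ≃ ZMod p := (Equiv.ofBijective J hJ).trans e
  have hg : ∀ g : N ≃ₐ[K] N, ∃ a b : ZMod p, a ≠ 0 ∧
      ∀ ψ : L →ₐ[K] N, e' (g.toAlgHom.comp ψ) = a * e' ψ + b := by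
    intro g
    obtain ⟨a, b, ha, h⟩ := haff (g.liftNormal Ω)
    refine ⟨a, b, ha, fun ψ => ?_⟩
    show e (J (g.toAlgHom.comp ψ)) = a * e (J ψ) + b
    rw [← h (J ψ)]
    congr 1
    exact AlgHom.ext fun x => (AlgEquiv.liftNormal_commutes g Ω (ψ x)).symm
  choose A B hA haf using hg
  let φ₀ : L →ₐ[K] N := e'.symm 0
  have hBv : ∀ g : N ≃ₐ[K] N, B g = e' (g.toAlgHom.comp φ₀) := fun g => by
    rw [haf g φ₀]; simp [φ₀]
  have hAv : ∀ g : N ≃ₐ[K] N, A g = e' (g.toAlgHom.comp (e'.symm 1)) - B g := fun g => by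
    rw [haf g (e'.symm 1)]; simp
  have hA1 : A 1 = 1 := by
    have h1 : ∀ ψ : L →ₐ[K] N, (1 : N ≃ₐ[K] N).toAlgHom.comp ψ = ψ := fun ψ => AlgHom.ext fun x => rfl
    rw [hAv, hBv, h1, h1]; simp [φ₀]
  have hcomp : ∀ (g g' : N ≃ₐ[K] N) (ψ : L →ₐ[K] N),
      (g * g').toAlgHom.comp ψ = g.toAlgHom.comp (g'.toAlgHom.comp ψ) := fun g g' ψ =>
    AlgHom.ext fun x => rfl
  have hAmul : ∀ g g' : N ≃ₐ[K] N, A (g * g') = A g * A g' := fun g g' => by
    rw [hAv, hBv, hcomp, hcomp, haf g, haf g, haf g', haf g']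
    simp [φ₀]
    ring
  let χ : (N ≃ₐ[K] N) →* (ZMod p)ˣ :=
    { toFun := fun g => Units.mk0 (A g) (hA g)
      map_one' := Units.ext hA1
      map_mul' := fun g g' => Units.ext (hAmul g g') }
  have hker : ∀ g, g ∈ χ.ker ↔ A g = 1 := fun g => by
    rw [MonoidHom.mem_ker, Units.ext_iff]; rfl
  -- faithfulness
  have hfaith : ∀ g g' : N ≃ₐ[K] N,
      (∀ ψ : L →ₐ[K] N, g.toAlgHom.comp ψ = g'.toAlgHom.comp ψ) → g = g' := by
    intro g g' h
    let F : IntermediateField K N :=
      { AlgHom.equalizer g.toAlgHom g'.toAlgHom with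
        inv_mem' := fun x hx => by
          show g x⁻¹ = g' x⁻¹
          rw [map_inv₀, map_inv₀]
          exact congrArg _ hx }
    have hle : N ≤ IntermediateField.lift F := by
      show IntermediateField.normalClosure K L Ω ≤ _
      rw [normalClosure_def]
      refine iSup_le fun φ => ?_
      rintro _ ⟨y, rfl⟩
      obtain ⟨ψ, rfl⟩ := hJ.2 φ
      exact ⟨ψ y, AlgHom.congr_fun (h ψ) y, rfl⟩
    refine AlgEquiv.ext fun x => ?_
    obtain ⟨y, hy, hyx⟩ := hle x.2
    have hy' : y = x := Subtype.ext hyx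
    subst hy'
    exact hy
  -- commuting translations
  have hcomm : ∀ g g' : N ≃ₐ[K] N, A g = 1 → A g' = 1 → g * g' = g' * g := fun g g' h h' =>
    hfaith _ _ fun ψ => e'.injective (by
      rw [hcomp, hcomp]; simp only [haf, h, h']; ring)
  let T := χ.ker
  let E₀ : IntermediateField K N := IntermediateField.fixedField T
  haveI : IsGalois K E₀ := by
    haveI : T.Normal := MonoidHom.normal_ker χ
    exact IsGalois.of_fixedField_normal_subgroup T
  have hres : (AlgEquiv.restrictNormalHom (F := K) (K₁ := N) E₀).ker = T := by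
    rw [IntermediateField.restrictNormalHom_ker, IntermediateField.fixingSubgroup_fixedField]
  let eG : (E₀ ≃ₐ[K] E₀) ≃* χ.range :=
    ((QuotientGroup.quotientKerEquivOfSurjective _ (AlgEquiv.restrictNormalHom_surjective (F := K) N)).symm.trans
      (QuotientGroup.quotientMulEquivOfEq hres)).trans (QuotientGroup.quotientKerEquivRange χ)
  haveI : IsCyclic χ.range := inferInstance
  let eE : E₀ ≃ₐ[K] IntermediateField.lift E₀ := IntermediateField.liftAlgEquiv E₀
  have hne : ∃ g : N ≃ₐ[K] N, A g ≠ 1 := by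
    by_contra hall
    push Not at hall
    have htop : φ₀.fieldRange = ⊤ := by
      have hfix : φ₀.fieldRange.fixingSubgroup = ⊥ := by
        rw [eq_bot_iff]
        intro g hg
        rw [IntermediateField.mem_fixingSubgroup_iff] at hg
        have h0 : g.toAlgHom.comp φ₀ = φ₀ := AlgHom.ext fun x => hg _ ⟨x, rfl⟩
        have hB0 : B g = 0 := by rw [hBv, h0]; simp [φ₀]
        refine Subgroup.mem_bot.2 (hfaith _ _ fun ψ => e'.injective ?_)
        rw [haf g, hall g, hB0, one_mul, add_zero]
        exact congrArg e' (AlgHom.ext fun x => rfl)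
      rw [← IsGalois.fixedField_fixingSubgroup φ₀.fieldRange, hfix, IntermediateField.fixedField_bot]
    let eL : L ≃ₐ[K] N := AlgEquiv.ofBijective φ₀ ⟨φ₀.toRingHom.injective,
      AlgHom.fieldRange_eq_top.1 htop⟩
    haveI : IsGalois K L := IsGalois.of_algEquiv eL.symm
    obtain ⟨σ, τ, hστ⟩ := hnab inferInstance
    apply hστ
    apply eL.autCongr.injective
    rw [map_mul, map_mul]
    exact hcomm _ _ (hall _) (hall _)
  refine ⟨IntermediateField.lift E₀, IntermediateField.lift_le E₀, Module.Finite.equiv eE.toLinearEquiv,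
    IsGalois.of_algEquiv eE, ?_, ?_, ?_⟩
  · exact isCyclic_of_surjective (eG.symm.trans eE.autCongr) (eG.symm.trans eE.autCongr).surjective
  · rw [← eE.toLinearEquiv.finrank_eq, ← IsGalois.card_aut_eq_finrank K E₀, Nat.card_congr eG.toEquiv]
    obtain ⟨g, hgA⟩ := hne
    haveI : Nontrivial χ.range := ⟨⟨⟨χ g, ⟨g, rfl⟩⟩, 1, fun h => hgA (by
      have := congrArg (fun x : χ.range => ((x : (ZMod p)ˣ) : ZMod p)) h
      simpa [χ] using this)⟩⟩
    exact Finite.one_lt_card
  intro w hw
  haveI := w.isMaximal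
  obtain ⟨P, hPp, hP⟩ := Ideal.exists_ideal_over_prime_of_isIntegral_of_isDomain (R := RingOfIntegers K)
    (S := RingOfIntegers N) w.asIdeal (by
      rw [(RingHom.injective_iff_ker_eq_bot _).mp
        (FaithfulSMul.algebraMap_injective (RingOfIntegers K) (RingOfIntegers N))]
      exact bot_le)
  haveI := hPp
  haveI : P.LiesOver w.asIdeal := ⟨hP.symm⟩
  have hinert : P.inertia (N ≃ₐ[K] N) = ⊥ := by
    rw [eq_bot_iff]
    intro g hg
    refine Subgroup.mem_bot.2 (hfaith _ _ fun ψ => AlgHom.ext fun x => ?_)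
    letI : Algebra L N := ψ.toRingHom.toAlgebra
    haveI : IsScalarTower K L N := IsScalarTower.of_algebraMap_eq fun r => (ψ.commutes r).symm
    exact Groth.L28.AffGal.inertia_fixes w P (fun Q h1 h2 => hw Q h1 h2) g hg x
  obtain ⟨j⟩ := Groth.L28.AffGal.nonempty_algHom_decompositionField w P
  have hD : ∀ (F : IntermediateField K N), (∀ g : N ≃ₐ[K] N, g • P = P → ∀ x ∈ F, g x = x) →
      Nonempty (F →ₐ[K] w.adicCompletion K) := fun F hF =>
    ⟨j.comp (IntermediateField.inclusion fun x hx g => hF g.1 g.2 x hx)⟩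
  by_cases hT : ∀ g : N ≃ₐ[K] N, g • P = P → A g = 1
  · obtain ⟨i⟩ := hD E₀ (fun g hgP x hx => hx ⟨g, (hker g).2 (hT g hgP)⟩)
    exact Or.inl ⟨i.comp eE.symm.toAlgHom⟩
  push Not at hT
  obtain ⟨σ, hσP, hσ⟩ := hT
  let c := B σ / (1 - A σ)
  have hc : A σ * c + B σ = c := by
    have : (1 : ZMod p) - A σ ≠ 0 := sub_ne_zero.2 (Ne.symm hσ)
    show A σ * (B σ / (1 - A σ)) + B σ = B σ / (1 - A σ)
    field_simp
    ring
  let φ := e'.symm c
  have hfixed : ∀ g : N ≃ₐ[K] N, g • P = P → g.toAlgHom.comp φ = φ := by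
    intro g hgP
    have h1 := Groth.L28.AffGal.mul_comm_of_inertia_eq_bot w P hinert σ g hσP hgP
    have h2 : σ.toAlgHom.comp φ = φ := e'.injective (by rw [haf σ]; simp [φ, hc])
    have h3 : σ.toAlgHom.comp (g.toAlgHom.comp φ) = g.toAlgHom.comp φ := by
      rw [← hcomp, h1, hcomp, h2]
    apply e'.injective
    have h4 := congrArg e' h3
    rw [haf σ] at h4
    have h5 : (A σ - 1) * (e' (g.toAlgHom.comp φ) - c) = 0 := by linear_combination h4 - hc
    rw [show e' φ = c from e'.apply_symm_apply c]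
    exact sub_eq_zero.1 ((mul_eq_zero.1 h5).resolve_left (sub_ne_zero.2 hσ))
  obtain ⟨i⟩ := hD φ.fieldRange (by
    rintro g hgP _ ⟨y, rfl⟩
    exact AlgHom.congr_fun (hfixed g hgP) y)
  exact Or.inr ⟨i.comp φ.rangeRestrict⟩

end Groth.Agent.S19284
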