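import Groth.Statements.S19285
import Groth.Agent.L11.NF.SplitValueLinear
import Groth.Agent.L11.NF.SplitValueQuad
-- import your own Groth.Agent.* helpers here

set_option autoImplicit false
universe u
open scoped TensorProduct
open NumberField

namespace Groth.Agent.S19285

open IsDedekindDomain WithZero

/-- A field of degree one over `k`. -/
lemma surj_of_finrank_one {k K : Type u} [Field k] [Field K] [Algebra k K]
    (h : Module.finrank k K = 1) : Function.Surjective (algebraMap k K) := fun x => by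
  have hx : x ∈ (⊥ : Subalgebra k K) := by
    rw [Subalgebra.bot_eq_top_iff_finrank_eq_one.mpr h]; exact Algebra.mem_top
  exact Algebra.mem_bot.mp hx

lemma lin_norm {k K L : Type u} [Field k] [Field K] [Field L] [Algebra k K] [Algebra K L] [Algebra k L]
    [IsScalarTower k K L] [FiniteDimensional k K] [FiniteDimensional K L] (h : Module.finrank k K = 1)
    (R : Type u) [Field R] [Algebra k R] (b₀ a₀ : k) (t : R)
    (hx : letI := Groth.L11.RelNorm.towerAlg k K L R
      ∃ x : R ⊗[k] L, IsUnit x ∧ Algebra.norm (R ⊗[k] K) x =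
        (1 : R) ⊗ₜ[k] algebraMap k K b₀ * (t ⊗ₜ[k] (1 : K) - (1 : R) ⊗ₜ[k] algebraMap k K a₀)) :
    algebraMap k R b₀ * (t - algebraMap k R a₀) ≠ 0 ∧
      ∃ x : R ⊗[k] L, Algebra.norm R x = algebraMap k R b₀ * (t - algebraMap k R a₀) := by
  letI := Groth.L11.RelNorm.towerAlg k K L R
  obtain ⟨x, hu, hN⟩ := hx
  have hsc : ∀ r : k, (1 : R) ⊗ₜ[k] algebraMap k K r = algebraMap k R r ⊗ₜ[k] (1 : K) := fun r => by
    rw [Algebra.algebraMap_eq_smul_one, Algebra.algebraMap_eq_smul_one, TensorProduct.smul_tmul]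
  have hN' : Algebra.norm (R ⊗[k] K) x =
      algebraMap R (R ⊗[k] K) (algebraMap k R b₀ * (t - algebraMap k R a₀)) := by
    rw [hN, hsc, hsc, map_mul, map_sub]
    rfl
  have h1 : Algebra.norm R x = algebraMap k R b₀ * (t - algebraMap k R a₀) := by
    rw [Groth.L11.RelNorm.norm_norm R (Module.finBasis K L) x, hN', Algebra.norm_algebraMap,
      Module.finrank_baseChange, h, pow_one]
  exact ⟨h1 ▸ (hu.map (Algebra.norm R)).ne_zero, x, h1⟩

lemma exists_place_above {k K : Type u} [Field k] [NumberField k] [Field K] [NumberField K] [Algebra k K]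
    (v : HeightOneSpectrum (RingOfIntegers k)) :
    ∃ W : HeightOneSpectrum (RingOfIntegers K), W.asIdeal.LiesOver v.asIdeal := by
  obtain ⟨Q, hQp, hQ⟩ := Ideal.exists_ideal_over_prime_of_isIntegral_of_isDomain (R := RingOfIntegers k)
    (S := RingOfIntegers K) v.asIdeal (by
      rw [(RingHom.injective_iff_ker_eq_bot _).mp
        (FaithfulSMul.algebraMap_injective (RingOfIntegers k) (RingOfIntegers K))]
      exact bot_le)
  haveI := hQp
  have hlo : Q.LiesOver v.asIdeal := ⟨hQ.symm⟩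
  exact ⟨⟨Q, hQp, Ideal.ne_bot_of_liesOver_of_ne_bot v.ne_bot Q⟩, hlo⟩

lemma lin_approx {k K L : Type u} [Field k] [NumberField k] [Field K] [NumberField K] [Field L] [NumberField L]
    [Algebra k K] [Algebra K L] [Algebra k L] [IsScalarTower k K L] (h : Module.finrank k K = 1) (b₀ : k)
    (v : HeightOneSpectrum (RingOfIntegers k)) (hb : v.valuation k b₀ = 1)
    (hram : ∀ W : HeightOneSpectrum (RingOfIntegers K), W.asIdeal.LiesOver v.asIdeal →
      ∀ Q : Ideal (RingOfIntegers L), Q.IsPrime → Q.LiesOver W.asIdeal →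
        Q.ramificationIdx (RingOfIntegers K) = 1)
    (m : ℕ) : ∃ y : L, y ≠ 0 ∧ v.valuation k (Algebra.norm k y / b₀ - 1) ≤ exp (-(m : ℤ)) := by
  haveI : FiniteDimensional k K := Module.Finite.of_restrictScalars_finite ℚ k K
  haveI : FiniteDimensional K L := Module.Finite.of_restrictScalars_finite ℚ K L
  obtain ⟨W, hW⟩ := exists_place_above (K := K) v
  set e := v.asIdeal.ramificationIdx' W.asIdeal
  have he : e ≠ 0 := Ideal.IsDedekindDomain.ramificationIdx'_ne_zero_of_liesOver W.asIdeal v.ne_bot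
  obtain ⟨y, hy0, hy⟩ := Groth.L11.NormApprox.exists_norm_close (L := L) {W}
    (fun W' hW' => hram W' (by rw [Finset.mem_singleton.mp hW']; exact hW)) (algebraMap k K b₀)
    (fun W' hW' => by
      rw [Finset.mem_singleton.mp hW']
      exact (Groth.L11.Places.val_algebraMap_eq_one v W b₀).mpr hb) (m * e)
  refine ⟨y, hy0, ?_⟩
  have h1 := hy W (Finset.mem_singleton_self W)
  obtain ⟨r, hr⟩ := surj_of_finrank_one h (Algebra.norm K y)
  rw [← hr, ← map_div₀, ← map_one (algebraMap k K), ← map_sub, Groth.L11.Places.val_algebraMap v] at h1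
  have h2 : exp (-((m * e : ℕ) : ℤ)) = exp (-(m : ℤ)) ^ e := by
    rw [← exp_nsmul, nsmul_eq_mul]; push_cast; ring_nf
  rw [h2, pow_le_pow_iff_left₀ zero_le' zero_le' he] at h1
  rwa [← Algebra.norm_norm (S := K), ← hr, Algebra.norm_algebraMap, h, pow_one]

lemma lin_embed {k K L : Type u} [Field k] [NumberField k] [Field K] [NumberField K] [Field L]
    [Algebra k K] [Algebra K L] [Algebra k L] [IsScalarTower k K L] (h : Module.finrank k K = 1)
    (v : HeightOneSpectrum (RingOfIntegers k)) (W : HeightOneSpectrum (RingOfIntegers K))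
    [W.asIdeal.LiesOver v.asIdeal] (hL : Nonempty (L →ₐ[k] v.adicCompletion k)) :
    Nonempty (L →ₐ[K] W.adicCompletion K) := by
  obtain ⟨j⟩ := hL
  obtain ⟨φ, hφ⟩ := Groth.L11.Places.exists_completionMap (K := K) v W
  refine ⟨{ φ.comp j.toRingHom with commutes' := fun x => ?_ }⟩
  obtain ⟨r, rfl⟩ := surj_of_finrank_one h x
  show φ (j (algebraMap K L (algebraMap k K r))) = _
  rw [← IsScalarTower.algebraMap_apply, j.commutes, hφ]

/-- A conjectured statement on locally split values of the polynomials t − a_i holds unconditionally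
when the degrees [k_i : k] sum to at most 2. Precisely: let k be a number field, n ≥ 1, and for each
i let k_i = k(a_i) be a finite extension generated by a_i, the minimal polynomials of the a_i over k
being pairwise distinct and the degrees [k_i : k] summing to at most 2; let L_i/k_i be finite
extensions and b_i ∈ k_i nonzero. Let S_f, S_∞ be finite sets of finite and infinite places of k
such that S_∞ contains every real place and S_f contains every finite place of k below a finite
place of some k_i at which b_i is not a unit or below a prime of some L_i ramified over k_i. For v ∈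
S_f ∪ S_∞ let t_v ∈ k_v, with an open neighbourhood U_v, be such that for every i the element b_i
(t_v − a_i) of k_v ⊗_k k_i is the norm of a unit of the (k_v ⊗_k k_i)-algebra k_v ⊗_k L_i. Then
there is t_0 ∈ k whose image lies in U_v for all v ∈ S_f ∪ S_∞ and such that for every i and every
finite place w of k_i at which t_0 − a_i has positive valuation, either w lies above a place of S_f
or L_i admits a k_i-algebra embedding into the completion (k_i)_w (a place of L_i of degree 1 over
w). -/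
theorem result (k : Type u) [Field k] [NumberField k]
    (n : ℕ) (hn : 1 ≤ n)
    (kf : Fin n → Type u) [∀ i, Field (kf i)] [∀ i, NumberField (kf i)] [∀ i, Algebra k (kf i)]
    (Lf : Fin n → Type u) [∀ i, Field (Lf i)] [∀ i, NumberField (Lf i)] [∀ i, Algebra (kf i) (Lf i)]
    [∀ i, Algebra k (Lf i)] [∀ i, IsScalarTower k (kf i) (Lf i)]
    (a : (i : Fin n) → kf i) (ha : ∀ i, IntermediateField.adjoin k {a i} = ⊤)
    (hdist : ∀ i j, i ≠ j → minpoly k (a i) ≠ minpoly k (a j))
    (hdeg : ∑ i, Module.finrank k (kf i) ≤ 2)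
    (b : (i : Fin n) → kf i) (hb : ∀ i, b i ≠ 0)
    (Sf : Finset (IsDedekindDomain.HeightOneSpectrum (NumberField.RingOfIntegers k)))
    (Si : Finset (NumberField.InfinitePlace k))
    (hSreal : ∀ w : NumberField.InfinitePlace k, w.IsReal → w ∈ Si)
    (hSb : ∀ i, ∀ W : IsDedekindDomain.HeightOneSpectrum (NumberField.RingOfIntegers (kf i)),
      W.valuation (kf i) (b i) ≠ 1 → ∃ v ∈ Sf, W.asIdeal.LiesOver v.asIdeal)
    (hSram : ∀ i, ∀ Q : Ideal (NumberField.RingOfIntegers (Lf i)), Q.IsPrime → Q ≠ ⊥ →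
      Q.ramificationIdx (NumberField.RingOfIntegers (kf i)) ≠ 1 → ∃ v ∈ Sf, Q.LiesOver v.asIdeal)
    (tf : (v : IsDedekindDomain.HeightOneSpectrum (NumberField.RingOfIntegers k)) → v.adicCompletion k)
    (ti : (w : NumberField.InfinitePlace k) → w.Completion)
    (htf : ∀ i, ∀ v ∈ Sf,
      letI := (Algebra.TensorProduct.map (AlgHom.id k (v.adicCompletion k))
        (IsScalarTower.toAlgHom k (kf i) (Lf i))).toRingHom.toAlgebra
      ∃ x : (v.adicCompletion k) ⊗[k] Lf i, IsUnit x ∧
        Algebra.norm ((v.adicCompletion k) ⊗[k] kf i) x =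
          (1 : v.adicCompletion k) ⊗ₜ[k] b i * (tf v ⊗ₜ[k] (1 : kf i) - (1 : v.adicCompletion k) ⊗ₜ[k] a i))
    (hti : ∀ i, ∀ w ∈ Si,
      letI := (Algebra.TensorProduct.map (AlgHom.id k w.Completion)
        (IsScalarTower.toAlgHom k (kf i) (Lf i))).toRingHom.toAlgebra
      ∃ x : w.Completion ⊗[k] Lf i, IsUnit x ∧
        Algebra.norm (w.Completion ⊗[k] kf i) x =
          (1 : w.Completion) ⊗ₜ[k] b i * (ti w ⊗ₜ[k] (1 : kf i) - (1 : w.Completion) ⊗ₜ[k] a i))
    (Uf : (v : IsDedekindDomain.HeightOneSpectrum (NumberField.RingOfIntegers k)) → Set (v.adicCompletion k))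
    (hUf : ∀ v ∈ Sf, IsOpen (Uf v) ∧ tf v ∈ Uf v)
    (Ui : (w : NumberField.InfinitePlace k) → Set w.Completion)
    (hUi : ∀ w ∈ Si, IsOpen (Ui w) ∧ ti w ∈ Ui w) :
    ∃ t₀ : k, (∀ v ∈ Sf, algebraMap k (v.adicCompletion k) t₀ ∈ Uf v) ∧
      (∀ w ∈ Si, algebraMap k w.Completion t₀ ∈ Ui w) ∧
      ∀ i, ∀ W : IsDedekindDomain.HeightOneSpectrum (NumberField.RingOfIntegers (kf i)),
        W.valuation (kf i) (algebraMap k (kf i) t₀ - a i) < 1 →
          (∃ v ∈ Sf, W.asIdeal.LiesOver v.asIdeal) ∨ Nonempty (Lf i →ₐ[kf i] W.adicCompletion (kf i)) := by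
  classical
  haveI : ∀ i, FiniteDimensional k (kf i) := fun i => Module.Finite.of_restrictScalars_finite ℚ k (kf i)
  haveI : ∀ i, FiniteDimensional (kf i) (Lf i) := fun i =>
    Module.Finite.of_restrictScalars_finite ℚ (kf i) (Lf i)
  have hpos : ∀ i, 1 ≤ Module.finrank k (kf i) := fun i => Module.finrank_pos
  -- places outside `Sf`
  have hW_notS : ∀ i (v : IsDedekindDomain.HeightOneSpectrum (NumberField.RingOfIntegers k)), v ∉ Sf →
      ∀ W : IsDedekindDomain.HeightOneSpectrum (NumberField.RingOfIntegers (kf i)), W.asIdeal.LiesOver v.asIdeal →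
        ¬ ∃ v' ∈ Sf, W.asIdeal.LiesOver v'.asIdeal := by
    rintro i v hv W hW ⟨v', hv', hW'⟩
    exact hv (Groth.L11.Places.eq_of_liesOver W v v' hW hW' ▸ hv')
  have hbS : ∀ i (v : IsDedekindDomain.HeightOneSpectrum (NumberField.RingOfIntegers k)), v ∉ Sf →
      ∀ W : IsDedekindDomain.HeightOneSpectrum (NumberField.RingOfIntegers (kf i)), W.asIdeal.LiesOver v.asIdeal →
        W.valuation (kf i) (b i) = 1 := fun i v hv W hW => by
    by_contra hne
    exact hW_notS i v hv W hW (hSb i W hne)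
  have hram : ∀ i (v : IsDedekindDomain.HeightOneSpectrum (NumberField.RingOfIntegers k)), v ∉ Sf →
      ∀ W : IsDedekindDomain.HeightOneSpectrum (NumberField.RingOfIntegers (kf i)), W.asIdeal.LiesOver v.asIdeal →
      ∀ Q : Ideal (NumberField.RingOfIntegers (Lf i)), Q.IsPrime → Q.LiesOver W.asIdeal →
        Q.ramificationIdx (NumberField.RingOfIntegers (kf i)) = 1 := fun i v hv W hW Q hQ hQW => by
    by_contra hne
    have hQ0 : Q ≠ ⊥ := by
      haveI := hQW
      exact Ideal.ne_bot_of_liesOver_of_ne_bot W.ne_bot Q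
    obtain ⟨v', hv', hQv'⟩ := hSram i Q hQ hQ0 hne
    have hQv : Q.LiesOver v.asIdeal := Ideal.LiesOver.trans Q W.asIdeal v.asIdeal
    exact hv (IsDedekindDomain.HeightOneSpectrum.ext (hQv.over.trans hQv'.over.symm) ▸ hv')
  -- reading off a linear datum
  have hlin : ∀ i, Module.finrank k (kf i) = 1 → ∃ a₀ b₀ : k, algebraMap k (kf i) a₀ = a i ∧
      algebraMap k (kf i) b₀ = b i ∧ b₀ ≠ 0 ∧
      (∀ v : IsDedekindDomain.HeightOneSpectrum (NumberField.RingOfIntegers k), v ∉ Sf →
        v.valuation k b₀ = 1) ∧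
      (∀ v ∈ Sf, algebraMap k (v.adicCompletion k) b₀ * (tf v - algebraMap k (v.adicCompletion k) a₀) ≠ 0 ∧
        ∃ x : v.adicCompletion k ⊗[k] Lf i, Algebra.norm (v.adicCompletion k) x =
          algebraMap k (v.adicCompletion k) b₀ * (tf v - algebraMap k (v.adicCompletion k) a₀)) ∧
      (∀ w ∈ Si, algebraMap k w.Completion b₀ * (ti w - algebraMap k w.Completion a₀) ≠ 0 ∧
        ∃ x : w.Completion ⊗[k] Lf i, Algebra.norm w.Completion x =
          algebraMap k w.Completion b₀ * (ti w - algebraMap k w.Completion a₀)) := fun i h1 => by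
    obtain ⟨a₀, ha₀⟩ := surj_of_finrank_one h1 (a i)
    obtain ⟨b₀, hb₀⟩ := surj_of_finrank_one h1 (b i)
    refine ⟨a₀, b₀, ha₀, hb₀, fun h => hb i (by rw [← hb₀, h, map_zero]), fun v hv => ?_,
      fun v hv => ?_, fun w hw => ?_⟩
    · obtain ⟨W, hW⟩ := exists_place_above (K := kf i) v
      have := hbS i v hv W hW
      rwa [← hb₀, Groth.L11.Places.val_algebraMap_eq_one v W] at this
    · have := htf i v hv
      rw [← ha₀, ← hb₀] at this
      exact lin_norm h1 (v.adicCompletion k) b₀ a₀ (tf v) this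
    · have := hti i w hw
      rw [← ha₀, ← hb₀] at this
      exact lin_norm h1 w.Completion b₀ a₀ (ti w) this
  -- conclusion at a linear datum
  have hend : ∀ i, Module.finrank k (kf i) = 1 → ∀ a₀ : k, algebraMap k (kf i) a₀ = a i → ∀ t₀ : k,
      (∀ v : IsDedekindDomain.HeightOneSpectrum (NumberField.RingOfIntegers k), v ∉ Sf →
        v.valuation k (t₀ - a₀) < 1 → Nonempty (Lf i →ₐ[k] v.adicCompletion k)) →
      ∀ W : IsDedekindDomain.HeightOneSpectrum (NumberField.RingOfIntegers (kf i)),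
        W.valuation (kf i) (algebraMap k (kf i) t₀ - a i) < 1 →
          (∃ v ∈ Sf, W.asIdeal.LiesOver v.asIdeal) ∨ Nonempty (Lf i →ₐ[kf i] W.adicCompletion (kf i)) := by
    intro i h1 a₀ ha₀ t₀ hgood W hlt
    have hW : W.asIdeal.LiesOver (Groth.L11.Places.under (k := k) W).asIdeal := inferInstance
    by_cases hv : Groth.L11.Places.under (k := k) W ∈ Sf
    · exact Or.inl ⟨_, hv, hW⟩
    rw [← ha₀, ← map_sub, Groth.L11.Places.val_algebraMap_lt_one (Groth.L11.Places.under (k := k) W) W] at hlt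
    exact Or.inr (lin_embed h1 _ W (hgood _ hv hlt))
  obtain rfl | rfl : n = 1 ∨ n = 2 := by
    have h := Finset.card_nsmul_le_sum Finset.univ (fun i => Module.finrank k (kf i)) 1 (fun i _ => hpos i)
    simp only [Finset.card_univ, Fintype.card_fin, smul_eq_mul, mul_one] at h
    omega
  · rw [Fin.sum_univ_one] at hdeg
    rcases Nat.lt_or_ge (Module.finrank k (kf 0)) 2 with h | h
    · have h1 : Module.finrank k (kf 0) = 1 := by have := hpos 0; omega
      obtain ⟨a₀, b₀, ha₀, -, hb0, hbS₀, hf, hi⟩ := hlin 0 h1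
      obtain ⟨t₀, h2, h3, h4⟩ := Groth.L11.SplitValue.one_linear Sf Si tf ti Uf Ui a₀ b₀ hb0 hbS₀ (Lf 0)
        hf hi hUf hUi
      exact ⟨t₀, h2, h3, fun i => by rw [Fin.eq_zero i]; exact hend 0 h1 a₀ ha₀ t₀ h4⟩
    · have h2 : Module.finrank k (kf 0) = 2 := le_antisymm hdeg h
      haveI : Algebra.IsQuadraticExtension k (kf 0) := { finrank_eq_two' := h2 }
      have ha' : a 0 ∉ (algebraMap k (kf 0)).range := by
        rintro ⟨r, hr⟩
        have h3 := ha 0
        rw [← hr, IntermediateField.adjoin_simple_eq_bot_iff.mpr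
          (IntermediateField.algebraMap_mem _ r)] at h3
        have h4 := congrArg (fun E : IntermediateField k (kf 0) => Module.finrank k E) h3
        simp only [IntermediateField.finrank_bot, IntermediateField.finrank_top', h2] at h4
        omega
      obtain ⟨t₀, h3, h4, h5⟩ := Groth.L11.SplitQuad.quadratic h2 (Lf 0) (a 0) ha' (b 0) (hb 0) Sf Si
        (hbS 0) (hram 0) tf ti (htf 0) (hti 0) Uf Ui hUf hUi
      refine ⟨t₀, h3, h4, fun i => ?_⟩
      rw [Fin.eq_zero i]
      intro W hlt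
      have hW : W.asIdeal.LiesOver (Groth.L11.Places.under (k := k) W).asIdeal := inferInstance
      by_cases hv : Groth.L11.Places.under (k := k) W ∈ Sf
      · exact Or.inl ⟨_, hv, hW⟩
      exact Or.inr (h5 _ hv W hW hlt)
  · rw [Fin.sum_univ_two] at hdeg
    have h1 : ∀ i : Fin 2, Module.finrank k (kf i) = 1 := fun i => by
      have := hpos 0; have := hpos 1
      fin_cases i <;> simp only [Fin.zero_eta, Fin.mk_one] <;> omega
    obtain ⟨a₁, b₁, ha₁, -, hb1, hbS₁, hf₁, hi₁⟩ := hlin 0 (h1 0)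
    obtain ⟨a₂, b₂, ha₂, -, hb2, hbS₂, hf₂, hi₂⟩ := hlin 1 (h1 1)
    have hne : a₁ ≠ a₂ := fun h => hdist 0 1 (by decide) (by
      rw [← ha₁, ← ha₂, minpoly.eq_X_sub_C, minpoly.eq_X_sub_C, h])
    obtain ⟨t₀, h2, h3, h4⟩ := Groth.L11.SplitValue.two_linear Sf Si tf ti Uf Ui a₁ a₂ b₁ b₂ hne hb1 hb2
      hbS₁ hbS₂ (Lf 0) (Lf 1)
      (fun v hv => lin_approx (h1 0) b₁ v (hbS₁ v hv) (hram 0 v hv))
      (fun v hv => lin_approx (h1 1) b₂ v (hbS₂ v hv) (hram 1 v hv))
      hf₁ hf₂ hi₁ hi₂ hUf hUi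
    refine ⟨t₀, h2, h3, fun i => ?_⟩
    fin_cases i
    · exact hend 0 (h1 0) a₁ ha₁ t₀ fun v hv => (h4 v hv).1
    · exact hend 1 (h1 1) a₂ ha₂ t₀ fun v hv => (h4 v hv).2

end Groth.Agent.S19285
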