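import Groth.Statements.S19286
import Groth.Agent.L28.Moebius.LocalNorm
import Groth.Agent.L11.NF.CodimTwo

set_option autoImplicit false
universe u
open scoped TensorProduct
open NumberField

set_option linter.style.haveILetI false

namespace Groth.Agent.S19286

attribute [local instance] Groth.L11.RelNorm.towerAlg

theorem transfer {k K L R : Type u} [Field k] [Field K] [Field L] [Algebra k K] [Algebra K L] [Algebra k L]
    [IsScalarTower k K L] [Field R] [Algebra k R] (α β γ δ : k) (a b : K) (t : R)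
    (hd : algebraMap k R γ * t + algebraMap k R δ ≠ 0) (hia : algebraMap k K γ * a + algebraMap k K δ ≠ 0)
    (hx : ∃ x : R ⊗[k] L, IsUnit x ∧ Algebra.norm (R ⊗[k] K) x =
      (1 : R) ⊗ₜ[k] b * (t ⊗ₜ[k] (1 : K) - (1 : R) ⊗ₜ[k] a))
    (hy : ∃ y : R ⊗[k] L, IsUnit y ∧ Algebra.norm (R ⊗[k] K) y =
      (algebraMap k R (α * δ - β * γ) / (algebraMap k R γ * t + algebraMap k R δ)) ⊗ₜ[k] (1 : K))
    (a' b' : K) (ha' : a' = (algebraMap k K α * a + algebraMap k K β) / (algebraMap k K γ * a + algebraMap k K δ))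
    (hb' : b' = b * (algebraMap k K γ * a + algebraMap k K δ)) (t' : R)
    (ht' : t' = (algebraMap k R α * t + algebraMap k R β) / (algebraMap k R γ * t + algebraMap k R δ)) :
    ∃ x : R ⊗[k] L, IsUnit x ∧ Algebra.norm (R ⊗[k] K) x =
      (1 : R) ⊗ₜ[k] b' * (t' ⊗ₜ[k] (1 : K) - (1 : R) ⊗ₜ[k] a') := by
  obtain ⟨x, hx1, hx2⟩ := hx
  obtain ⟨y, hy1, hy2⟩ := hy
  refine ⟨x * y, hx1.mul hy1, ?_⟩
  rw [map_mul, hx2, hy2]
  let l : R →ₐ[k] R ⊗[k] K := Algebra.TensorProduct.includeLeft
  let r : K →ₐ[k] R ⊗[k] K := Algebra.TensorProduct.includeRight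
  show r b * (l t - r a) * l _ = r b' * (l t' - r a')
  have h1 : l ((algebraMap k R γ * t + algebraMap k R δ)⁻¹) * l (algebraMap k R γ * t + algebraMap k R δ) = 1 := by
    rw [← map_mul, inv_mul_cancel₀ hd, map_one]
  have h2 : r ((algebraMap k K γ * a + algebraMap k K δ)⁻¹) * r (algebraMap k K γ * a + algebraMap k K δ) = 1 := by
    rw [← map_mul, inv_mul_cancel₀ hia, map_one]
  rw [ha', hb', ht']
  simp only [div_eq_mul_inv, map_mul, map_add, map_sub, AlgHom.commutes] at h1 h2 ⊢
  linear_combination (r b) * (algebraMap k (R ⊗[k] K) α * r a + algebraMap k (R ⊗[k] K) β) * h2 -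
    (r b) * (algebraMap k (R ⊗[k] K) α * r a + algebraMap k (R ⊗[k] K) β) * h1

theorem continuous_transfer {k R : Type*} [Field k] [Field R] [TopologicalSpace R] [IsTopologicalDivisionRing R]
    [T1Space R] [Algebra k R] (α β γ δ : k) (hdet : α * δ - β * γ ≠ 0) (t t' : R)
    (hd : algebraMap k R γ * t + algebraMap k R δ ≠ 0)
    (ht' : t' = (algebraMap k R α * t + algebraMap k R β) / (algebraMap k R γ * t + algebraMap k R δ))
    (U : Set R) (hU : IsOpen U) (htU : t ∈ U) :
    ∃ U' : Set R, IsOpen U' ∧ t' ∈ U' ∧ ∀ s : k, α ≠ γ * s → algebraMap k R s ∈ U' →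
      algebraMap k R ((δ * s - β) / (α - γ * s)) ∈ U := by
  let f : R → R := fun z => (algebraMap k R δ * z - algebraMap k R β) / (algebraMap k R α - algebraMap k R γ * z)
  have hD : algebraMap k R (α * δ - β * γ) ≠ 0 := (map_ne_zero _).2 hdet
  have h0 : algebraMap k R α - algebraMap k R γ * t' =
      algebraMap k R (α * δ - β * γ) / (algebraMap k R γ * t + algebraMap k R δ) := by
    rw [ht', map_sub, map_mul, map_mul, mul_div_assoc', sub_div' hd]
    congr 1
    ring
  have hne : algebraMap k R α - algebraMap k R γ * t' ≠ 0 := h0 ▸ div_ne_zero hD hd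
  have hft : f t' = t := by
    show _ / _ = t
    rw [div_eq_iff hne, h0, ht', mul_div_assoc', mul_div_assoc', div_sub' hd]
    congr 1
    rw [map_sub, map_mul, map_mul]
    ring
  obtain ⟨U', hU', hopen, hmem⟩ := eventually_nhds_iff.1
    ((ContinuousAt.div ((continuous_const.mul continuous_id).sub continuous_const).continuousAt
      (continuous_const.sub (continuous_const.mul continuous_id)).continuousAt hne :
      ContinuousAt f t').eventually_mem (hft.symm ▸ hU.mem_nhds htU))
  refine ⟨U', hopen, hmem, fun s _ hsU => ?_⟩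
  have := hU' _ hsU
  simpa [f] using this

/-- Invariance, under a linear change of coordinate on the projective line, of the hypotheses (the data
listed next) of a conjecture on locally split values. Data: k a number field, n ≥ 1, k_i = k(a_i)
with pairwise distinct minimal polynomials, L_i/k_i finite, b_i ∈ k_i nonzero, finite sets S_f ⊇
(finite places below a non-unit place of some b_i or a ramified prime of some L_i/k_i), S_∞ ⊇ real
places, t_v ∈ k_v for v ∈ S_f ∪ S_∞ with b_i(t_v − a_i) the norm of a unit of k_v ⊗_k L_i over k_v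
⊗_k k_i. Let α, β, γ, δ ∈ k with αδ − βγ ≠ 0 satisfy: (i) γa_i + δ ≠ 0 for all i and γt_v + δ ≠ 0
for v ∈ S_f ∪ S_∞; (ii) α is a unit at every finite place outside S_f and αa_i + β is a unit at
every finite place of k_i not above S_f; (iii) for every i and v ∈ S_f ∪ S_∞, (αδ − βγ)/(γt_v + δ)
is the norm of a unit of k_v ⊗_k L_i. Put a'_i = (αa_i + β)/(γa_i + δ), b'_i = b_i(γa_i + δ); let
S'_f ⊇ S_f be a finite set of finite places containing those where α or γ is not integral and those
below a place of some k_i where a'_i is not integral or b'_i is not a unit; put t'_v = (αt_v +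
β)/(γt_v + δ) for v ∈ S_f ∪ S_∞ and t'_v = 0 for v ∈ S'_f ∖ S_f; for t'_0 ∈ k with α ≠ γt'_0 write
t_0 = (δt'_0 − β)/(α − γt'_0). Then: (1) for every i and v ∈ S'_f ∪ S_∞, b'_i(t'_v − a'_i) is the
norm of a unit of k_v ⊗_k L_i over k_v ⊗_k k_i; (2) for v ∈ S_f ∪ S_∞ and every neighbourhood U of
t_v there is a neighbourhood U' of t'_v such that t'_0 ∈ U' forces t_0 ∈ U; (4) there are
neighbourhoods U'_v of 0 in k_v for v ∈ S'_f ∖ S_f such that whenever t'_0 ∈ U'_v for all such v,
every finite place w of some k_i with w(t_0 − a_i) > 0 either lies above S_f, or does not lie above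
S'_f and satisfies w(t'_0 − a'_i) > 0. (The published statement's S' may also contain further
infinite places, and it has a further conclusion on signs at real places; both are omitted here.) -/
theorem result (k : Type u) [Field k] [NumberField k]
    (n : ℕ) (hn : 1 ≤ n)
    (kf : Fin n → Type u) [∀ i, Field (kf i)] [∀ i, NumberField (kf i)] [∀ i, Algebra k (kf i)]
    (Lf : Fin n → Type u) [∀ i, Field (Lf i)] [∀ i, NumberField (Lf i)] [∀ i, Algebra (kf i) (Lf i)]
    [∀ i, Algebra k (Lf i)] [∀ i, IsScalarTower k (kf i) (Lf i)]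
    (a : (i : Fin n) → kf i) (ha : ∀ i, IntermediateField.adjoin k {a i} = ⊤)
    (hdist : ∀ i j, i ≠ j → minpoly k (a i) ≠ minpoly k (a j))
    (b : (i : Fin n) → kf i) (hb : ∀ i, b i ≠ 0)
    (Sf : Finset (IsDedekindDomain.HeightOneSpectrum (NumberField.RingOfIntegers k)))
    (Si : Finset (NumberField.InfinitePlace k))
    (hSreal : ∀ w : NumberField.InfinitePlace k, w.IsReal → w ∈ Si)
    (hSb : ∀ i, ∀ W : IsDedekindDomain.HeightOneSpectrum (NumberField.RingOfIntegers (kf i)),
      W.valuation (kf i) (b i) ≠ 1 → ∃ v ∈ Sf, W.asIdeal.LiesOver v.asIdeal)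
    (hSram : ∀ i, ∀ Q : Ideal (NumberField.RingOfIntegers (Lf i)), Q.IsPrime → Q ≠ ⊥ →
      Q.ramificationIdx (NumberField.RingOfIntegers (kf i)) ≠ 1 → ∃ v ∈ Sf, Q.LiesOver v.asIdeal)
    (tf : (v : IsDedekindDomain.HeightOneSpectrum (NumberField.RingOfIntegers k)) → v.adicCompletion k)
    (ti : (w : NumberField.InfinitePlace k) → w.Completion)
    (htf : ∀ i, ∀ v ∈ Sf,
      letI := (Algebra.TensorProduct.map (AlgHom.id k (v.adicCompletion k))
        (IsScalarTower.toAlgHom k (kf i) (Lf i))).toRingHom.toAlgebra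
      ∃ x : (v.adicCompletion k) ⊗[k] Lf i, IsUnit x ∧
        Algebra.norm ((v.adicCompletion k) ⊗[k] kf i) x =
          (1 : v.adicCompletion k) ⊗ₜ[k] b i * (tf v ⊗ₜ[k] (1 : kf i) - (1 : v.adicCompletion k) ⊗ₜ[k] a i))
    (hti : ∀ i, ∀ w ∈ Si,
      letI := (Algebra.TensorProduct.map (AlgHom.id k w.Completion)
        (IsScalarTower.toAlgHom k (kf i) (Lf i))).toRingHom.toAlgebra
      ∃ x : w.Completion ⊗[k] Lf i, IsUnit x ∧
        Algebra.norm (w.Completion ⊗[k] kf i) x =
          (1 : w.Completion) ⊗ₜ[k] b i * (ti w ⊗ₜ[k] (1 : kf i) - (1 : w.Completion) ⊗ₜ[k] a i))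
    (α β γ δ : k) (hdet : α * δ - β * γ ≠ 0)
    (hia : ∀ i, algebraMap k (kf i) γ * a i + algebraMap k (kf i) δ ≠ 0)
    (hitf : ∀ v ∈ Sf, algebraMap k (v.adicCompletion k) γ * tf v + algebraMap k (v.adicCompletion k) δ ≠ 0)
    (hiti : ∀ w ∈ Si, algebraMap k w.Completion γ * ti w + algebraMap k w.Completion δ ≠ 0)
    (hiiα : ∀ v : IsDedekindDomain.HeightOneSpectrum (NumberField.RingOfIntegers k), v ∉ Sf → v.valuation k α = 1)
    (hiia : ∀ i, ∀ W : IsDedekindDomain.HeightOneSpectrum (NumberField.RingOfIntegers (kf i)),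
      (¬ ∃ v ∈ Sf, W.asIdeal.LiesOver v.asIdeal) →
        W.valuation (kf i) (algebraMap k (kf i) α * a i + algebraMap k (kf i) β) = 1)
    (hiiif : ∀ i, ∀ v ∈ Sf,
      letI := (Algebra.TensorProduct.map (AlgHom.id k (v.adicCompletion k))
        (IsScalarTower.toAlgHom k (kf i) (Lf i))).toRingHom.toAlgebra
      ∃ y : (v.adicCompletion k) ⊗[k] Lf i, IsUnit y ∧
        Algebra.norm ((v.adicCompletion k) ⊗[k] kf i) y =
          (algebraMap k (v.adicCompletion k) (α * δ - β * γ) /
            (algebraMap k (v.adicCompletion k) γ * tf v + algebraMap k (v.adicCompletion k) δ)) ⊗ₜ[k] (1 : kf i))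
    (hiiii : ∀ i, ∀ w ∈ Si,
      letI := (Algebra.TensorProduct.map (AlgHom.id k w.Completion)
        (IsScalarTower.toAlgHom k (kf i) (Lf i))).toRingHom.toAlgebra
      ∃ y : w.Completion ⊗[k] Lf i, IsUnit y ∧
        Algebra.norm (w.Completion ⊗[k] kf i) y =
          (algebraMap k w.Completion (α * δ - β * γ) /
            (algebraMap k w.Completion γ * ti w + algebraMap k w.Completion δ)) ⊗ₜ[k] (1 : kf i))
    (a' b' : (i : Fin n) → kf i)
    (ha' : ∀ i, a' i = (algebraMap k (kf i) α * a i + algebraMap k (kf i) β) /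
      (algebraMap k (kf i) γ * a i + algebraMap k (kf i) δ))
    (hb' : ∀ i, b' i = b i * (algebraMap k (kf i) γ * a i + algebraMap k (kf i) δ))
    (Sf' : Finset (IsDedekindDomain.HeightOneSpectrum (NumberField.RingOfIntegers k))) (hSS' : Sf ⊆ Sf')
    (hS'αγ : ∀ v : IsDedekindDomain.HeightOneSpectrum (NumberField.RingOfIntegers k), v ∉ Sf' →
      v.valuation k α ≤ 1 ∧ v.valuation k γ ≤ 1)
    (hS'ab : ∀ i, ∀ W : IsDedekindDomain.HeightOneSpectrum (NumberField.RingOfIntegers (kf i)),
      (¬ ∃ v ∈ Sf', W.asIdeal.LiesOver v.asIdeal) → W.valuation (kf i) (a' i) ≤ 1 ∧ W.valuation (kf i) (b' i) = 1)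
    (tf' : (v : IsDedekindDomain.HeightOneSpectrum (NumberField.RingOfIntegers k)) → v.adicCompletion k)
    (htf'S : ∀ v ∈ Sf, tf' v = (algebraMap k (v.adicCompletion k) α * tf v + algebraMap k (v.adicCompletion k) β) /
      (algebraMap k (v.adicCompletion k) γ * tf v + algebraMap k (v.adicCompletion k) δ))
    (htf'S' : ∀ v ∈ Sf', v ∉ Sf → tf' v = 0)
    (ti' : (w : NumberField.InfinitePlace k) → w.Completion)
    (hti' : ∀ w ∈ Si, ti' w = (algebraMap k w.Completion α * ti w + algebraMap k w.Completion β) /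
      (algebraMap k w.Completion γ * ti w + algebraMap k w.Completion δ)) :
    (∀ i, ∀ v ∈ Sf',
      letI := (Algebra.TensorProduct.map (AlgHom.id k (v.adicCompletion k))
        (IsScalarTower.toAlgHom k (kf i) (Lf i))).toRingHom.toAlgebra
      ∃ x : (v.adicCompletion k) ⊗[k] Lf i, IsUnit x ∧
        Algebra.norm ((v.adicCompletion k) ⊗[k] kf i) x =
          (1 : v.adicCompletion k) ⊗ₜ[k] b' i * (tf' v ⊗ₜ[k] (1 : kf i) - (1 : v.adicCompletion k) ⊗ₜ[k] a' i)) ∧
    (∀ i, ∀ w ∈ Si,
      letI := (Algebra.TensorProduct.map (AlgHom.id k w.Completion)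
        (IsScalarTower.toAlgHom k (kf i) (Lf i))).toRingHom.toAlgebra
      ∃ x : w.Completion ⊗[k] Lf i, IsUnit x ∧
        Algebra.norm (w.Completion ⊗[k] kf i) x =
          (1 : w.Completion) ⊗ₜ[k] b' i * (ti' w ⊗ₜ[k] (1 : kf i) - (1 : w.Completion) ⊗ₜ[k] a' i)) ∧
    (∀ v ∈ Sf, ∀ U : Set (v.adicCompletion k), IsOpen U → tf v ∈ U →
      ∃ U' : Set (v.adicCompletion k), IsOpen U' ∧ tf' v ∈ U' ∧
        ∀ t₀' : k, α ≠ γ * t₀' → algebraMap k (v.adicCompletion k) t₀' ∈ U' →
          algebraMap k (v.adicCompletion k) ((δ * t₀' - β) / (α - γ * t₀')) ∈ U) ∧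
    (∀ w ∈ Si, ∀ U : Set w.Completion, IsOpen U → ti w ∈ U →
      ∃ U' : Set w.Completion, IsOpen U' ∧ ti' w ∈ U' ∧
        ∀ t₀' : k, α ≠ γ * t₀' → algebraMap k w.Completion t₀' ∈ U' →
          algebraMap k w.Completion ((δ * t₀' - β) / (α - γ * t₀')) ∈ U) ∧
    (∃ U' : (v : IsDedekindDomain.HeightOneSpectrum (NumberField.RingOfIntegers k)) → Set (v.adicCompletion k),
      (∀ v ∈ Sf', v ∉ Sf → IsOpen (U' v) ∧ (0 : v.adicCompletion k) ∈ U' v) ∧
      ∀ t₀' : k, α ≠ γ * t₀' → (∀ v ∈ Sf', v ∉ Sf → algebraMap k (v.adicCompletion k) t₀' ∈ U' v) →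
        ∀ i, ∀ W : IsDedekindDomain.HeightOneSpectrum (NumberField.RingOfIntegers (kf i)),
          W.valuation (kf i) (algebraMap k (kf i) ((δ * t₀' - β) / (α - γ * t₀')) - a i) < 1 →
            (∃ v ∈ Sf, W.asIdeal.LiesOver v.asIdeal) ∨
            ((¬ ∃ v ∈ Sf', W.asIdeal.LiesOver v.asIdeal) ∧
              W.valuation (kf i) (algebraMap k (kf i) t₀' - a' i) < 1)) := by
  classical
  have hWS : ∀ i (v : IsDedekindDomain.HeightOneSpectrum (NumberField.RingOfIntegers k)), v ∉ Sf →
      ∀ W : IsDedekindDomain.HeightOneSpectrum (NumberField.RingOfIntegers (kf i)),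
        W.asIdeal.LiesOver v.asIdeal → ¬ ∃ v' ∈ Sf, W.asIdeal.LiesOver v'.asIdeal := by
    rintro i v hv W hW ⟨v', hv', hW'⟩
    exact hv (Groth.L11.Places.eq_of_liesOver W v v' hW hW' ▸ hv')
  have hbv : ∀ i (W : IsDedekindDomain.HeightOneSpectrum (NumberField.RingOfIntegers (kf i))),
      (¬ ∃ v ∈ Sf, W.asIdeal.LiesOver v.asIdeal) → W.valuation (kf i) (b i) = 1 := fun i W hW => by
    by_contra h
    exact hW (hSb i W h)
  refine ⟨?_, ?_, ?_, ?_, ?_⟩
  · intro i v hv
    by_cases hvS : v ∈ Sf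
    · exact transfer α β γ δ (a i) (b i) (tf v) (hitf v hvS) (hia i) (htf i v hvS) (hiiif i v hvS)
        (a' i) (b' i) (ha' i) (hb' i) (tf' v) (htf'S v hvS)
    · rw [htf'S' v hv hvS]
      obtain ⟨x, hx1, hx2⟩ := Groth.L28.Moebius.exists_norm_eq (L := Lf i) v
        (-(b i * (algebraMap k (kf i) α * a i + algebraMap k (kf i) β)))
        (fun W hW => by
          rw [Valuation.map_neg, map_mul, hbv i W (hWS i v hvS W hW), hiia i W (hWS i v hvS W hW), one_mul])
        (fun W hW Q hQ hQW => by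
          by_contra hne
          have hQ0 : Q ≠ ⊥ := by
            haveI := hQW
            exact Ideal.ne_bot_of_liesOver_of_ne_bot W.ne_bot Q
          obtain ⟨v', hv', hQv'⟩ := hSram i Q hQ hQ0 hne
          have hQv : Q.LiesOver v.asIdeal := Ideal.LiesOver.trans Q W.asIdeal v.asIdeal
          exact hvS (IsDedekindDomain.HeightOneSpectrum.ext (hQv.over.trans hQv'.over.symm) ▸ hv'))
      refine ⟨x, hx1, hx2.trans ?_⟩
      rw [TensorProduct.zero_tmul, zero_sub, mul_neg, Algebra.TensorProduct.tmul_mul_tmul, one_mul,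
        TensorProduct.tmul_neg, ha', hb', mul_assoc, mul_div_cancel₀ _ (hia i)]
  · intro i w hw
    exact transfer α β γ δ (a i) (b i) (ti w) (hiti w hw) (hia i) (hti i w hw) (hiiii i w hw)
      (a' i) (b' i) (ha' i) (hb' i) (ti' w) (hti' w hw)
  · intro v hv U hU htU
    exact continuous_transfer α β γ δ hdet (tf v) (tf' v) (hitf v hv) (htf'S v hv) U hU htU
  · intro w hw U hU htU
    exact continuous_transfer α β γ δ hdet (ti w) (ti' w) (hiti w hw) (hti' w hw) U hU htU
  -- (4)
  let bad (v : IsDedekindDomain.HeightOneSpectrum (NumberField.RingOfIntegers k)) (s : v.adicCompletion k) : Prop :=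
    Valued.v s < 1 ∧ Valued.v (algebraMap k (v.adicCompletion k) γ * s) < 1 ∧
      ∀ i, ∀ W ∈ Groth.L11.Places.above (K := kf i) v, ∀ r : k,
        algebraMap k (v.adicCompletion k) r = s →
          W.valuation (kf i) (algebraMap k (kf i) r * (algebraMap k (kf i) γ * a i + algebraMap k (kf i) δ)) < 1
  have hU : ∀ v : IsDedekindDomain.HeightOneSpectrum (NumberField.RingOfIntegers k),
      ∃ U : Set (v.adicCompletion k), IsOpen U ∧ (0 : v.adicCompletion k) ∈ U ∧ ∀ s ∈ U, bad v s := by
    intro v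
    obtain ⟨π, hπ⟩ := v.valuation_exists_uniformizer k
    let cs : Fin n → ℕ := fun i => (Groth.L11.Places.above (K := kf i) v).sup fun W =>
      (WithZero.log (W.valuation (kf i) (algebraMap k (kf i) γ * a i + algebraMap k (kf i) δ))).toNat
    set N := Finset.univ.sup cs + (WithZero.log (v.valuation k γ)).toNat + 1
    set c : v.adicCompletion k := algebraMap k (v.adicCompletion k) (π⁻¹ ^ N)
    have hc : Valued.v c = WithZero.exp (N : ℤ) := by
      refine (IsDedekindDomain.HeightOneSpectrum.valuedAdicCompletion_eq_valuation' v _).trans ?_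
      rw [Algebra.algebraMap_self, RingHom.id_apply, map_pow, map_inv₀, hπ, ← WithZero.exp_neg, ← WithZero.exp_nsmul, nsmul_eq_mul]
      simp
    refine ⟨{s | Valued.v (s * c) < 1}, (Groth.L11.CodimTwo.isOpen_lt_one v).preimage
      (continuous_id.mul continuous_const), by simp, fun s hs => ?_⟩
    change Valued.v (s * c) < 1 at hs
    rw [map_mul, hc] at hs
    have hlog : ∀ x : WithZero (Multiplicative ℤ), x ≤ WithZero.exp ((WithZero.log x).toNat : ℤ) := fun x => by
      by_cases hx : x = 0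
      · simp [hx]
      · conv_lhs => rw [← WithZero.exp_log hx]
        exact WithZero.exp_le_exp.2 (Int.self_le_toNat _)
    have hs1 : Valued.v s ≤ 1 := by
      refine le_of_lt (lt_of_le_of_lt ?_ hs)
      exact le_mul_of_one_le_right zero_le' (by rw [← WithZero.exp_zero, WithZero.exp_le_exp]; omega)
    refine ⟨lt_of_le_of_lt (le_mul_of_one_le_right zero_le'
      (by rw [← WithZero.exp_zero, WithZero.exp_le_exp]; omega)) hs, ?_, ?_⟩
    · rw [map_mul]
      refine lt_of_le_of_lt ?_ hs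
      rw [mul_comm]
      refine mul_le_mul' le_rfl ?_
      refine (IsDedekindDomain.HeightOneSpectrum.valuedAdicCompletion_eq_valuation' v γ).trans_le
        ((hlog _).trans (WithZero.exp_le_exp.2 ?_))
      omega
    · intro i W hW r hr
      haveI := (Groth.L11.Places.mem_above v W).1 hW
      rw [map_mul, Groth.L11.Places.val_algebraMap v W]
      have hr' : v.valuation k r = Valued.v s := by
        rw [← hr]
        exact (IsDedekindDomain.HeightOneSpectrum.valuedAdicCompletion_eq_valuation' v r).symm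
      rw [hr']
      refine lt_of_le_of_lt (mul_le_mul' (pow_le_of_le_one zero_le' hs1
        (Ideal.IsDedekindDomain.ramificationIdx'_ne_zero_of_liesOver W.asIdeal v.ne_bot)) ?_) hs
      refine (hlog _).trans (WithZero.exp_le_exp.2 ?_)
      have h1 : (WithZero.log (W.valuation (kf i) (algebraMap k (kf i) γ * a i + algebraMap k (kf i) δ))).toNat ≤ cs i :=
        Finset.le_sup (f := fun W => (WithZero.log (W.valuation (kf i)
          (algebraMap k (kf i) γ * a i + algebraMap k (kf i) δ))).toNat) hW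
      have h2 : cs i ≤ Finset.univ.sup cs := Finset.le_sup (Finset.mem_univ i)
      omega
  choose U' hU'o hU'0 hU' using hU
  refine ⟨U', fun v _ _ => ⟨hU'o v, hU'0 v⟩, fun t₀' hne hmem i W hlt => ?_⟩
  set v := Groth.L11.Places.under (k := k) W
  haveI hW : W.asIdeal.LiesOver v.asIdeal := inferInstance
  by_cases hvS : v ∈ Sf
  · exact Or.inl ⟨v, hvS, hW⟩
  refine Or.inr ?_
  have hden : α - γ * t₀' ≠ 0 := sub_ne_zero.2 hne
  have hden' : algebraMap k (kf i) (α - γ * t₀') ≠ 0 := (map_ne_zero _).2 hden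
  have key : algebraMap k (kf i) ((δ * t₀' - β) / (α - γ * t₀')) - a i =
      (algebraMap k (kf i) t₀' * (algebraMap k (kf i) γ * a i + algebraMap k (kf i) δ) -
        (algebraMap k (kf i) α * a i + algebraMap k (kf i) β)) / algebraMap k (kf i) (α - γ * t₀') := by
    rw [map_div₀, div_sub' hden']
    congr 1
    simp only [map_sub, map_mul]
    ring
  rw [key, map_div₀, Groth.L11.Places.val_algebraMap v W] at hlt
  have hA := hiia i W (hWS i v hvS W hW)
  by_cases hvS' : v ∈ Sf'
  · exfalso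
    obtain ⟨h1, h2, h3⟩ := hU' v _ (hmem v hvS' hvS)
    have hnum : W.valuation (kf i) (algebraMap k (kf i) t₀' * (algebraMap k (kf i) γ * a i + algebraMap k (kf i) δ) -
        (algebraMap k (kf i) α * a i + algebraMap k (kf i) β)) = 1 := by
      rw [Valuation.map_sub_swap, Valuation.map_sub_eq_of_lt_left _ (by
        rw [hA]; exact h3 i W ((Groth.L11.Places.mem_above v W).2 hW) t₀' rfl), hA]
    have hd : v.valuation k (α - γ * t₀') = 1 := by
      rw [← map_mul] at h2
      rw [Valuation.map_sub_eq_of_lt_left _ (by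
        rw [hiiα v hvS]
        exact (IsDedekindDomain.HeightOneSpectrum.valuedAdicCompletion_eq_valuation' v _).symm.trans_lt h2),
        hiiα v hvS]
    rw [hnum, hd, one_pow, div_one] at hlt
    exact lt_irrefl _ hlt
  have hnS' : ¬ ∃ v' ∈ Sf', W.asIdeal.LiesOver v'.asIdeal := by
    rintro ⟨v', hv', hW'⟩
    exact hvS' (Groth.L11.Places.eq_of_liesOver W v v' hW hW' ▸ hv')
  refine ⟨hnS', ?_⟩
  obtain ⟨ha1, hb1⟩ := hS'ab i W hnS'
  have hg : W.valuation (kf i) (algebraMap k (kf i) γ * a i + algebraMap k (kf i) δ) = 1 := by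
    rw [hb' i, map_mul, hbv i W (hWS i v hvS W hW), one_mul] at hb1
    exact hb1
  have hnum : algebraMap k (kf i) t₀' * (algebraMap k (kf i) γ * a i + algebraMap k (kf i) δ) -
      (algebraMap k (kf i) α * a i + algebraMap k (kf i) β) =
        (algebraMap k (kf i) t₀' - a' i) * (algebraMap k (kf i) γ * a i + algebraMap k (kf i) δ) := by
    rw [ha' i, sub_mul, div_mul_cancel₀ _ (hia i)]
  rw [hnum, map_mul, hg, mul_one] at hlt
  have he : v.asIdeal.ramificationIdx' W.asIdeal ≠ 0 :=
    Ideal.IsDedekindDomain.ramificationIdx'_ne_zero_of_liesOver W.asIdeal v.ne_bot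
  by_contra hge
  rw [not_lt] at hge
  refine hlt.not_ge ?_
  rw [one_le_div₀ (pow_pos (zero_lt_iff.2 ((Valuation.ne_zero_iff _).2 hden)) _)]
  by_cases ht : v.valuation k t₀' ≤ 1
  · refine le_trans (pow_le_one' ?_ _) hge
    exact Valuation.map_sub_le _ (hiiα v hvS).le (by rw [map_mul]; exact mul_le_one' (hS'αγ v hvS').2 ht)
  · rw [not_le] at ht
    have hW1 : W.valuation (kf i) (algebraMap k (kf i) t₀' - a' i) = v.valuation k t₀' ^ v.asIdeal.ramificationIdx' W.asIdeal := by
      rw [Valuation.map_sub_eq_of_lt_left, Groth.L11.Places.val_algebraMap v W]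
      rw [Groth.L11.Places.val_algebraMap v W]
      exact ha1.trans_lt (one_lt_pow₀ ht he)
    rw [hW1]
    refine pow_le_pow_left₀ zero_le' ?_ _
    exact Valuation.map_sub_le _ ((hiiα v hvS).le.trans ht.le) (by rw [map_mul]; exact mul_le_of_le_one_left' (hS'αγ v hvS').2)

end Groth.Agent.S19286
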