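import Groth.Statements.S19287
import Groth.Agent.L22.DiagDec.Main

set_option autoImplicit false
universe u
open Cyc

namespace Groth.Agent.S19287

open AlgebraicGeometry CategoryTheory CategoryTheory.Limits in
/-- One direction of the decomposition-of-the-diagonal criterion for zero-cycles, stated for every
algebraically closed extension field. Let V be an integral scheme, smooth, proper and geometrically
integral over a field F, of dimension d, and let v be a closed point of V. On V ×_F V use the
dimension function δ induced from weight 0 on Spec F (δ of a point = transcendence degree of its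
residue field over F), and let Δ denote the d-cycle of the diagonal. Suppose that for some integer N
≥ 1 the d-cycle N·Δ is rationally equivalent to Γ_1 + Γ_2 where Γ_1 and Γ_2 are d-cycles on V ×_F V,
every point in the support of Γ_1 has second projection v, and every point in the support of Γ_2 has
first projection in a closed subset D ≠ V. Then for every algebraically closed field Ω over F, every
zero-cycle of degree 0 on V_Ω = V ×_F Spec Ω has class zero in the Chow group of zero-cycles of V_Ω
(for the dimension function induced from weight 0 on Spec Ω). (The published statement is an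
equivalence, for a geometrically integral variety and with Ω an algebraic closure of the function
field of V; this row states one implication, assumes V smooth and proper (the setting in which the
correspondence action used by the argument is available), and allows any algebraically closed Ω, to
which the argument applies unchanged.) -/
theorem result (F : Type u) [Field F]
    (V : Scheme.{u}) (p : V ⟶ Spec (CommRingCat.of F)) [IsIntegral V] [IsProper p] [Smooth p]
    [GeometricallyIntegral p] (d : ℕ) (hd : topologicalKrullDim V = d)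
    (v : V) (hv : IsClosed ({v} : Set V))
    (δ : ↥(pullback p p) → ℤ) (hδ : Cyc.DeltaCompat (pullback.fst p p ≫ p) δ (fun _ => 0))
    (hS : Cyc.IsSetup (pullback p p) δ)
    (cΔ : AlgebraicCycle (pullback p p) ℤ) (hcΔ : ⇑cΔ = Cyc.subschemeFun δ d (pullback.diagonal p))
    (N : ℕ) (hN : 1 ≤ N) (Γ₁ Γ₂ : AlgebraicCycle (pullback p p) ℤ)
    (hΓ₁ : Γ₁ ∈ Cyc.Zk (pullback p p) δ d) (hΓ₂ : Γ₂ ∈ Cyc.Zk (pullback p p) δ d)
    (hsupp₁ : ∀ x : ↥(pullback p p), Γ₁ x ≠ 0 → pullback.snd p p x = v)
    (D : Set V) (hD : IsClosed D) (hDne : D ≠ Set.univ)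
    (hsupp₂ : ∀ x : ↥(pullback p p), Γ₂ x ≠ 0 → pullback.fst p p x ∈ D)
    (hdec : Cyc.RatEquiv δ d (N • cΔ) (Γ₁ + Γ₂))
    (Ω : Type u) [Field Ω] [IsAlgClosed Ω] [Algebra F Ω]
    (δΩ : ↥(pullback p (Spec.map (CommRingCat.ofHom (algebraMap F Ω)))) → ℤ)
    (hδΩ : Cyc.DeltaCompat (pullback.snd p (Spec.map (CommRingCat.ofHom (algebraMap F Ω)))) δΩ (fun _ => 0))
    (hSΩ : Cyc.IsSetup (pullback p (Spec.map (CommRingCat.ofHom (algebraMap F Ω)))) δΩ)
    (α : AlgebraicCycle (pullback p (Spec.map (CommRingCat.ofHom (algebraMap F Ω)))) ℤ)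
    (hα : α ∈ Cyc.Zk (pullback p (Spec.map (CommRingCat.ofHom (algebraMap F Ω)))) δΩ 0)
    (hdeg : ChowOps.deg (pullback.snd p (Spec.map (CommRingCat.ofHom (algebraMap F Ω)))) δΩ α = 0) :
    ChowOps.cl α hα = 0 := by
  classical
  obtain ⟨δV, hsV, hδV⟩ := Groth.L22.Cyc.exists_setup p (Groth.L22.SymCorr.isSetup_field F)
  haveI := hsV.1
  let Pv : AlgebraicCycle V ℤ := Function.locallyFinsuppWithin.single v (1 : ℤ)
  have hPv0 : ∀ y, y ≠ v → Pv y = 0 := fun y hy => by
    simp [Pv, Function.locallyFinsuppWithin.single_apply, hy]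
  obtain ⟨m, hm⟩ := Groth.L22.DiagDec.good_generic p hδV hd v hv δ hδ hS cΔ hcΔ N Γ₁ Γ₂ hsupp₁ D hD hDne
    hsupp₂ hdec Pv (by simp [Pv]) hPv0
  have hPv : Pv ∈ Cyc.Zk V δV 0 := fun y hy =>
    hPv0 y fun e => hy (e ▸ Groth.L22.DiagDec.delta_closed_eq p hδV hv)
  have h := Groth.L22.DiagDec.rat_of_good p hδV hN hPv hm _ hδΩ hSΩ α hα hdeg
  haveI := hSΩ.1
  refine ((Groth.L22.Chern.cl_eq_iff hSΩ.2.2 hα (ChowOps.zk _ δΩ 0).zero_mem).2 ?_).trans
    (map_zero (ChowOps.clHom _ δΩ 0))
  rw [sub_zero]
  exact h

end Groth.Agent.S19287
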