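import Groth.Statements.S19288
import Groth.Agent.L23.QFDescent
import Mathlib.AlgebraicGeometry.Morphisms.FlatMono

set_option autoImplicit false
universe u
open CategoryTheory CategoryTheory.Limits MonoidalCategory CartesianMonoidalCategory MonObj AlgebraicGeometry
open AbSch

namespace Groth.Agent.S19288

/-- Let S be a scheme, X a commutative S-group scheme which is etale and separated over S (hence locally
of finite presentation), and P a commutative S-group scheme of finite presentation over S all of
whose fibres are connected. Then every homomorphism of S-group schemes from P to X is trivial (it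
factors through the unit section). -/
theorem result {S : Scheme.{u}} (P X : Over S)
    [GrpObj P] [IsCommMonObj P] [GrpObj X] [IsCommMonObj X]
    [Etale X.hom] [IsSeparated X.hom]
    [QuasiCompact P.hom] [QuasiSeparated P.hom] [LocallyOfFinitePresentation P.hom]
    (hP : ∀ s : S, ConnectedSpace ↥(P.hom.fiber s))
    (f : P ⟶ X) [IsMonHom f] : f = 1 := by
  have : Etale (η[X]).left := by
    have : Etale ((η[X]).left ≫ X.hom) := by rw [Over.w]; exact inferInstanceAs (Etale (𝟙 S))
    exact Etale.of_comp _ X.hom
  have : IsSplitMono (η[X]).left := ⟨⟨⟨X.hom, Over.w η[X]⟩⟩⟩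
  have : IsOpenImmersion (η[X]).left := IsOpenImmersion.of_flat_of_mono _
  have hunit : (η[P]).left ≫ f.left = (η[X]).left := by rw [← Over.comp_left, IsMonHom.one_hom]
  have hsub : Set.range f.left ⊆ Set.range (η[X]).left := by
    rintro _ ⟨p, rfl⟩
    let s := P.hom p
    have : ConnectedSpace ↥(P.hom.fiber s) := hP s
    have hc : _root_.IsPreconnected (P.hom ⁻¹' {s}) := by
      rw [← Scheme.Hom.range_fiberι]
      exact isPreconnected_range (P.hom.fiberι s).continuous
    have hmap : Set.MapsTo f.left (P.hom ⁻¹' {s}) (X.hom ⁻¹' {s}) := by
      intro x hx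
      simp only [Set.mem_preimage, Set.mem_singleton_iff] at hx ⊢
      rw [← Scheme.Hom.comp_apply, Over.w f]; exact hx
    have hx : P.hom ((η[P]).left s) = s := by
      rw [← Scheme.Hom.comp_apply, Over.w η[P]]; rfl
    have he := hc.constant_of_mapsTo (X.hom.isDiscrete_preimage_singleton s) f.left.continuous.continuousOn hmap
      (x := p) (y := (η[P]).left s) rfl hx
    refine ⟨s, ?_⟩
    rw [he, ← hunit]
    exact Scheme.Hom.comp_apply _ _ s
  let g := IsOpenImmersion.lift (η[X]).left f.left hsub
  have hg : g ≫ (η[X]).left = f.left := IsOpenImmersion.lift_fac ..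
  have hg' : g = P.hom := by
    have := congrArg (· ≫ X.hom) hg
    simp only [Category.assoc] at this
    rw [Over.w η[X], Over.w f] at this
    exact (Category.comp_id g).symm.trans this
  apply Over.OverMorphism.ext
  rw [← hg, hg', Hom.one_def, Over.comp_left, CartesianMonoidalCategory.toUnit]
  rfl

end Groth.Agent.S19288
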