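import Groth.Statements.S19290
import Groth.Agent.L08.P1Hom.TorusRel
import Groth.Agent.L25.Locus.FixedConn
import Groth.Agent.L25.Descent.CentralHom
-- import your own Groth.Agent.* helpers here

set_option autoImplicit false
set_option backward.isDefEq.respectTransparency.types false
set_option linter.style.haveILetI false
universe u
open CategoryTheory CategoryTheory.Limits MonoidalCategory CartesianMonoidalCategory MonObj AlgebraicGeometry
open AbSch

namespace Groth.Agent.S19290

/-- Let S be a scheme, T an S-torus and A an abelian S-scheme (smooth, proper, with connected fibres).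
Then the S-sheaf of homomorphisms from T to A is trivial: the internal Hom sheaf, on the big fppf
site of S, from the abelian sheaf of points of T to that of A is the zero sheaf. -/
theorem result {S : Scheme.{u}} (T A : Over S)
    [GrpObj T] [IsCommMonObj T] (hT : Red.IsTorus T)
    [GrpObj A] [IsCommMonObj A] [Smooth A.hom] [IsProper A.hom]
    (hA : ∀ s : S, ConnectedSpace ↥(A.hom.fiber s)) :
    IsZero (HomSh.homSh (QuotSh.J Scheme.fppfPrecoverage S) (CGrpSh.pts Scheme.fppfPrecoverage T) (CGrpSh.pts Scheme.fppfPrecoverage A)) := by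
  rw [IsZero.iff_id_eq_zero]
  apply Sheaf.hom_ext
  ext X : 2
  refine AddCommGrpCat.ext fun φ => ?_
  change (φ : _ ⟶ _) = 0
  apply Sheaf.hom_ext
  ext Y x
  obtain ⟨X⟩ := X
  obtain ⟨Y⟩ := Y
  let D : Over X := Over.mk (snd T X)
  let x₀ : ULift.{u + 1} (Additive (T ⊗ X ⟶ T)) := ULift.up (Additive.ofMul (fst T X))
  let u : T ⊗ X ⟶ A := (φ.hom.app (Opposite.op D) x₀).down.toMul
  have key : ∀ (Z : Over S) (t : Z ⟶ T) (p : Z ⟶ X),
      (φ.hom.app (Opposite.op (Over.mk p : Over X)) (ULift.up (Additive.ofMul t))).down.toMul =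
        lift t p ≫ u := by
    intro Z t p
    let m : (Over.mk p : Over X) ⟶ D := Over.homMk (lift t p) (lift_snd t p)
    have h := ConcreteCategory.congr_hom (φ.hom.naturality m.op) x₀
    simp only [ConcreteCategory.comp_apply] at h
    refine Eq.trans ?_ (congrArg (fun z => z.down.toMul) h)
    congr 4
    exact (lift_fst t p).symm
  have hmul : Groth.L25.HomSmooth.MulOn u := by
    intro Z p a b
    rw [← key, ← key, ← key]
    exact congrArg (fun z => z.down.toMul)
      (map_add (φ.hom.app (Opposite.op (Over.mk p : Over X))).hom (ULift.up (Additive.ofMul a))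
        (ULift.up (Additive.ofMul b)))
  let p₁ : Over.mk X.hom ⟶ X := Over.homMk (𝟙 X.left) (Category.id_comp _)
  let v := Groth.L25.Descent.famHom u X.hom p₁
  haveI : IsMonHom v := Groth.L25.Descent.isMonHom_famHom u hmul X.hom p₁
  haveI : IsProper (Red.bc X.hom A).hom := MorphismProperty.pullback_snd _ _ ‹IsProper A.hom›
  haveI : LocallyOfFinitePresentation (Red.bc X.hom A).hom :=
    MorphismProperty.pullback_snd _ _ (inferInstance : LocallyOfFinitePresentation A.hom)
  have hv : v = 1 :=
    Groth.L08.P1Hom.hom_torus_eq_one_rel (Groth.L25.Locus.isTorus_bc hT X.hom) v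
  let t : Y.left ⟶ T := x.down.toMul
  let W : Over X.left := Over.mk Y.hom.left
  let c : Over.mk (W.hom ≫ X.hom) ⟶ Y.left := Over.homMk (𝟙 Y.left.left) (by
    show 𝟙 _ ≫ Y.left.hom = Y.hom.left ≫ X.hom
    rw [Category.id_comp, Over.w Y.hom])
  have h1 := Groth.L25.Descent.toBase_famHom u X.hom p₁ (Groth.L25.NilAction.ofBase X.hom (c ≫ t))
  rw [show Groth.L25.NilAction.ofBase X.hom (c ≫ t) ≫ v = 1 by rw [hv, MonObj.comp_one],
    Groth.L25.NilAction.toBase_one, Groth.L25.NilAction.toBase_ofBase] at h1
  have h2 : Groth.L25.Descent.ptY X.hom W ≫ p₁ = c ≫ Y.hom := by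
    apply Over.OverMorphism.ext
    show Y.hom.left ≫ 𝟙 _ = 𝟙 _ ≫ Y.hom.left
    rw [Category.id_comp, Category.comp_id]
  rw [h2, ← comp_lift_assoc] at h1
  have h3 : (lift t Y.hom ≫ u) = 1 := by
    have : IsIso c := by
      have : IsIso c.left := inferInstanceAs (IsIso (𝟙 Y.left.left))
      have : IsIso ((Over.forget S).map c) := this
      exact isIso_of_reflects_iso c (Over.forget S)
    rw [← cancel_epi c, MonObj.comp_one]
    exact h1.symm
  apply ULift.ext
  show (φ.hom.app (Opposite.op Y) x).down = _
  apply Additive.toMul.injective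
  exact (key Y.left t Y.hom).trans h3

end Groth.Agent.S19290
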