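import Groth.Statements.S19291
import Groth.Agent.L26.AbSch.Bilinear
import Groth.Agent.L26.AbSch.HomPair

set_option autoImplicit false
universe u
open CategoryTheory CategoryTheory.Limits MonoidalCategory CartesianMonoidalCategory MonObj AlgebraicGeometry
open AbSch

namespace Groth.Agent.S19291

open CategoryTheory.CartesianMonoidalCategory MonoidalCategory MonObj Opposite

/-- Let S be a scheme and A, B, C three abelian S-schemes (smooth proper S-group schemes with connected
fibres). Then the group of homomorphisms from A to the S-sheaf of homomorphisms from B to C is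
trivial: on the big fppf site of S, every morphism of abelian sheaves from the sheaf of points of A
to the internal Hom sheaf of the sheaves of points of B and C is zero (equivalently, there is no
non-zero biadditive morphism from A × B to C). -/
theorem result {S : Scheme.{u}} (A B C : Over S)
    [GrpObj A] [IsCommMonObj A] [Smooth A.hom] [IsProper A.hom]
    (hA : ∀ s : S, ConnectedSpace ↥(A.hom.fiber s))
    [GrpObj B] [IsCommMonObj B] [Smooth B.hom] [IsProper B.hom]
    (hB : ∀ s : S, ConnectedSpace ↥(B.hom.fiber s))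
    [GrpObj C] [IsCommMonObj C] [Smooth C.hom] [IsProper C.hom]
    (hC : ∀ s : S, ConnectedSpace ↥(C.hom.fiber s))
    (φ : (CGrpSh.pts Scheme.fppfPrecoverage A) ⟶ HomSh.homSh (QuotSh.J Scheme.fppfPrecoverage S) (CGrpSh.pts Scheme.fppfPrecoverage B) (CGrpSh.pts Scheme.fppfPrecoverage C)) : φ = 0 := by
  haveI := Groth.Agent.AbSchHom.geometricallyConnected_of_fibres B hB
  apply Groth.Agent.HomPair.eq_zero
  have h1 := Groth.Agent.HomPair.app_eq φ (𝟙 A) (𝟙 A) (1 : A ⟶ B)
  have h2 := Groth.Agent.HomPair.app_eq φ (𝟙 B) (1 : B ⟶ A) (𝟙 B)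
  replace h1 := h1.symm.trans (map_zero _)
  replace h2 := h2.symm.trans ((congrArg
    (fun z : (CGrpSh.pts Scheme.fppfPrecoverage B).over B ⟶ (CGrpSh.pts Scheme.fppfPrecoverage C).over B =>
      z.hom.app (op (Over.mk (𝟙 B))) (ULift.up (Additive.ofMul (𝟙 B))))
    (map_zero (φ.hom.app (op B)).hom)).trans rfl)
  have e1 : lift (𝟙 A) (toUnit A ≫ η[B]) ≫ (Groth.Agent.HomPair.pairing φ).down.toMul = 1 := by
    have := congrArg (fun z => z.down.toMul) h1
    rw [show (𝟙 A ≫ 𝟙 A) = 𝟙 A from Category.comp_id _] at this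
    exact this
  have e2 : lift (toUnit B ≫ η[A]) (𝟙 B) ≫ (Groth.Agent.HomPair.pairing φ).down.toMul = 1 := by
    have := congrArg (fun z => z.down.toMul) h2
    rw [show (𝟙 B ≫ (1 : B ⟶ A)) = 1 from Category.id_comp _] at this
    exact this
  apply ULift.ext
  show Additive.ofMul (Groth.Agent.HomPair.pairing φ).down.toMul = 0
  rw [Groth.Agent.AbSchHom.eq_one_of_axes A B C hA _ e1 e2]
  rfl

end Groth.Agent.S19291
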