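import Groth.Statements.S19302
import Groth.Agent.L07.BiextTriv.HomShZero
import Groth.Agent.L07.BiextTriv.HomToTorus
import Groth.Agent.L26.AbSch.Bilinear
import Groth.Agent.L25.Locus.FixedConn
import Groth.Agent.S19290
-- import your own Groth.Agent.* helpers here

set_option autoImplicit false
set_option backward.isDefEq.respectTransparency.types false
set_option linter.style.haveILetI false
universe u
open CategoryTheory CategoryTheory.Limits MonoidalCategory CartesianMonoidalCategory MonObj AlgebraicGeometry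
open AbSch

namespace Groth.Agent.S19302

/-- Let S be a scheme and, for i = 1, 2, let G_i be a commutative S-group scheme given as an extension
of an abelian S-scheme A_i (smooth, proper, connected fibres) by an S-torus T_i: homomorphisms T_i →
G_i → A_i composing to the trivial map whose sequence of sheaves of points on the big fppf site of S
is short exact. Then, for the internal Hom sheaves of the sheaves of points on that site: the map
Hom(A₁, A₂) → Hom(G₁, A₂) induced by G₁ → A₁ is an isomorphism; the map Hom(T₁, T₂) → Hom(T₁, G₂)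
induced by T₂ → G₂ is an isomorphism; the map Hom(G₁, T₂) → Hom(T₁, T₂) induced by T₁ → G₁ is a
monomorphism; and the map Hom(A₁, G₂) → Hom(A₁, A₂) induced by G₂ → A₂ is a monomorphism. -/
theorem result {S : Scheme.{u}} (T₁ G₁ A₁ T₂ G₂ A₂ : Over S)
    [GrpObj T₁] [IsCommMonObj T₁] (hT₁ : Red.IsTorus T₁) [GrpObj G₁] [IsCommMonObj G₁]
    [GrpObj A₁] [IsCommMonObj A₁] [Smooth A₁.hom] [IsProper A₁.hom]
    (hA₁ : ∀ s : S, ConnectedSpace ↥(A₁.hom.fiber s))
    [GrpObj T₂] [IsCommMonObj T₂] (hT₂ : Red.IsTorus T₂) [GrpObj G₂] [IsCommMonObj G₂]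
    [GrpObj A₂] [IsCommMonObj A₂] [Smooth A₂.hom] [IsProper A₂.hom]
    (hA₂ : ∀ s : S, ConnectedSpace ↥(A₂.hom.fiber s))
    (ι₁ : T₁ ⟶ G₁) (π₁ : G₁ ⟶ A₁) [IsMonHom ι₁] [IsMonHom π₁] (w₁ : ι₁ ≫ π₁ = 1)
    (hex₁ : (CGrpSh.seq Scheme.fppfPrecoverage ι₁ π₁ w₁).ShortExact)
    (ι₂ : T₂ ⟶ G₂) (π₂ : G₂ ⟶ A₂) [IsMonHom ι₂] [IsMonHom π₂] (w₂ : ι₂ ≫ π₂ = 1)
    (hex₂ : (CGrpSh.seq Scheme.fppfPrecoverage ι₂ π₂ w₂).ShortExact) :
    IsIso (HomSh.homShMap (QuotSh.J Scheme.fppfPrecoverage S) (CGrpSh.ptsMap Scheme.fppfPrecoverage π₁) (𝟙 (CGrpSh.pts Scheme.fppfPrecoverage A₂))) ∧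
    IsIso (HomSh.homShMap (QuotSh.J Scheme.fppfPrecoverage S) (𝟙 (CGrpSh.pts Scheme.fppfPrecoverage T₁)) (CGrpSh.ptsMap Scheme.fppfPrecoverage ι₂)) ∧
    Mono (HomSh.homShMap (QuotSh.J Scheme.fppfPrecoverage S) (CGrpSh.ptsMap Scheme.fppfPrecoverage ι₁) (𝟙 (CGrpSh.pts Scheme.fppfPrecoverage T₂))) ∧
    Mono (HomSh.homShMap (QuotSh.J Scheme.fppfPrecoverage S) (𝟙 (CGrpSh.pts Scheme.fppfPrecoverage A₁)) (CGrpSh.ptsMap Scheme.fppfPrecoverage π₂)) := by
  haveI := Groth.Agent.AbSchHom.geometricallyConnected_of_fibres A₁ hA₁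
  haveI : GeometricallyReduced A₁.hom := Groth.Agent.AV.geometricallyReduced_of_smooth A₁.hom
  have hTA := Groth.Agent.S19290.result T₁ A₂ hT₁ hA₂
  have hAT : IsZero (HomSh.homSh (QuotSh.J Scheme.fppfPrecoverage S) (CGrpSh.pts Scheme.fppfPrecoverage A₁)
      (CGrpSh.pts Scheme.fppfPrecoverage T₂)) := by
    refine Groth.L07.BiextTriv.isZero_homSh A₁ T₂ fun X t v _ => ?_
    haveI : IsProper (Red.bc t A₁).hom := MorphismProperty.pullback_snd _ _ ‹IsProper A₁.hom›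
    haveI : Flat (Red.bc t A₁).hom := MorphismProperty.pullback_snd _ _ (inferInstance : Flat A₁.hom)
    haveI : LocallyOfFinitePresentation (Red.bc t A₁).hom :=
      MorphismProperty.pullback_snd _ _ (inferInstance : LocallyOfFinitePresentation A₁.hom)
    haveI : GeometricallyConnected (Red.bc t A₁).hom := MorphismProperty.pullback_snd _ _ ‹GeometricallyConnected A₁.hom›
    haveI : GeometricallyReduced (Red.bc t A₁).hom := MorphismProperty.pullback_snd _ _ ‹GeometricallyReduced A₁.hom›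
    exact Groth.L07.BiextTriv.hom_to_torus_eq_one (Groth.L25.Locus.isTorus_bc hT₂ t) v
  let Sh₁ := CGrpSh.seq Scheme.fppfPrecoverage ι₁ π₁ w₁
  let Sh₂ := CGrpSh.seq Scheme.fppfPrecoverage ι₂ π₂ w₂
  haveI : Epi Sh₁.g := hex₁.epi_g
  haveI : Mono Sh₂.f := hex₂.mono_f
  refine ⟨?_, ?_, ?_, ?_⟩
  · have hex := Groth.L08.DoubleDual.exact_dual (CGrpSh.pts Scheme.fppfPrecoverage A₂) Sh₁ hex₁.exact
    haveI := hex.epi_f (hTA.eq_of_tgt _ _)
    haveI := Groth.L08.DoubleDual.mono_dMap (CGrpSh.pts Scheme.fppfPrecoverage A₂) Sh₁.g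
    exact isIso_of_mono_of_epi (Groth.L08.DoubleDual.dMap (CGrpSh.pts Scheme.fppfPrecoverage A₂) Sh₁.g)
  · have hex := Groth.L07.BiextTriv.exact_homSh (CGrpSh.pts Scheme.fppfPrecoverage T₁) Sh₂ hex₂.exact
    haveI := hex.epi_f (hTA.eq_of_tgt _ _)
    haveI := Groth.L07.BiextTriv.mono_homSh (CGrpSh.pts Scheme.fppfPrecoverage T₁) Sh₂.f
    exact isIso_of_mono_of_epi
      (HomSh.homShMap (QuotSh.J Scheme.fppfPrecoverage S) (𝟙 (CGrpSh.pts Scheme.fppfPrecoverage T₁)) Sh₂.f)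
  · have hex := Groth.L08.DoubleDual.exact_dual (CGrpSh.pts Scheme.fppfPrecoverage T₂) Sh₁ hex₁.exact
    exact hex.mono_g (hAT.eq_of_src _ _)
  · have hex := Groth.L07.BiextTriv.exact_homSh (CGrpSh.pts Scheme.fppfPrecoverage A₁) Sh₂ hex₂.exact
    exact hex.mono_g (hAT.eq_of_src _ _)

end Groth.Agent.S19302
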