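import Groth.Statements.S19305
import Groth.Agent.L24.ExtSeq.Basic
import Groth.Agent.S0086
import Groth.Agent.L08.Borel.ImageTorus
import Groth.Agent.L08.MonoClosed
import Groth.Agent.L25.Central
import Groth.Agent.L25.Locus.FixedConn
import Groth.Agent.L08.Borel.Points
import Groth.Agent.L08.Borel.IsoBase
import Mathlib.AlgebraicGeometry.Morphisms.Finite

set_option autoImplicit false
set_option backward.isDefEq.respectTransparency.types false
universe u
open CategoryTheory CategoryTheory.Limits MonoidalCategory CartesianMonoidalCategory MonObj AlgebraicGeometry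
open AbSch

namespace Groth.Agent.S19305

set_option backward.isDefEq.respectTransparency false
set_option backward.isDefEq.respectTransparency.types false
set_option linter.style.haveILetI false
open CategoryTheory.Limits

/-- Let k be an algebraically closed field, T a k-torus, A an abelian variety over k (smooth proper
k-group scheme with connected fibres over Spec k) and E a commutative k-group scheme which is an
extension of T by A: homomorphisms A → E → T composing to the trivial map whose sequence of sheaves
of points on the big fppf site of Spec k is short exact. Then E is a connected smooth k-group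
scheme, and every maximal torus T₀ of E maps onto T by an isogeny: the composite T₀ → E → T is
finite, flat and surjective (so T₀ and T have the same dimension). (The source lets E be a sheaf
extension and first shows it is a scheme; here E is taken to be a scheme.) -/
theorem result (k : Type u) [Field k] [IsAlgClosed k] (T A E : Over (Spec (CommRingCat.of k)))
    [GrpObj T] [IsCommMonObj T] (hT : Red.IsTorus T)
    [GrpObj A] [IsCommMonObj A] [Smooth A.hom] [IsProper A.hom]
    (hA : ∀ s : Spec (CommRingCat.of k), ConnectedSpace ↥(A.hom.fiber s))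
    [GrpObj E] [IsCommMonObj E]
    (u : A ⟶ E) (v : E ⟶ T) [IsMonHom u] [IsMonHom v] (w : u ≫ v = 1)
    (hex : (CGrpSh.seq Scheme.fppfPrecoverage u v w).ShortExact) :
    Smooth E.hom ∧ ConnectedSpace ↥E.left ∧
      ∀ (T₀ : Over (Spec (CommRingCat.of k))) [GrpObj T₀] (i : T₀ ⟶ E), Red.IsMaximalTorus i →
        IsFinite (i ≫ v).left ∧ Flat (i ≫ v).left ∧ Surjective (i ≫ v).left := by
  obtain ⟨hTs, hTc⟩ := Groth.L25.Locus.smooth_connected_torus hT
  haveI := hTs; haveI := hTc
  haveI : IsAffineHom T.hom :=
    Groth.L25.Central.isAffineHom_of_multTypeFT (Groth.L25.Locus.isMultTypeFT_of_isTorus hT)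
  haveI : Smooth v.left := Groth.L24.ExtSeq.proj_prop w hex @Smooth ‹Smooth A.hom›
  haveI := Groth.Agent.S0086.result.{u}
  haveI : IsProper v.left := Groth.L24.ExtSeq.proj_prop w hex @IsProper ‹IsProper A.hom›
  haveI : Smooth E.hom := by rw [← Over.w v]; infer_instance
  haveI : QuasiCompact E.hom := by rw [← Over.w v]; infer_instance
  haveI : IsSeparated E.hom := by rw [← Over.w v]; infer_instance
  haveI : IsMonHom u := inferInstance
  obtain ⟨V, c, s, -, -, hc, hs⟩ := Groth.L24.ExtSeq.exists_cover w hex
  haveI : Surjective (s.left ≫ v.left) := by rw [← Over.comp_left, hs]; exact hc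
  haveI : Surjective v.left := Surjective.of_comp s.left v.left
  haveI : ConnectedSpace A.left := by
    haveI := hA (IsLocalRing.closedPoint k)
    have hr : Set.range (A.hom.fiberι (IsLocalRing.closedPoint k)) = Set.univ := by
      rw [Scheme.Hom.range_fiberι]
      exact Set.eq_univ_of_forall fun x => Subsingleton.elim (α := PrimeSpectrum k) _ _
    exact (Set.range_eq_univ.1 hr).connectedSpace (A.hom.fiberι _).continuous
  haveI : LocallyOfFiniteType E.hom := inferInstance
  haveI : IsReduced T.left := Groth.Agent.AV.isReduced_of_smooth_field T.hom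
  -- connectedness
  obtain ⟨E₀, g₀, j, hj⟩ := Groth.L08.Chev.exists_idComp E
  haveI := hj.hom; haveI := hj.closedImm; haveI := hj.openImm; haveI := hj.connectedSpace
  haveI : Mono j := Groth.L08.mono_of_closedImmersion j
  have hconn : ConnectedSpace E.left := by
    haveI : Mono u := Groth.L24.ExtSeq.mono_incl w hex
    obtain ⟨a, ha⟩ := hj.exists_lift_hom u
    have hopen : IsOpenMap v.left := v.left.isOpenMap
    have hclo : IsClopen (Set.range (j ≫ v).left) := by
      rw [show Set.range (j ≫ v).left = v.left '' Set.range j.left from Set.range_comp v.left j.left]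
      exact ⟨v.left.isClosedMap _ j.left.isClosedEmbedding.isClosed_range,
        hopen _ j.left.isOpenEmbedding.isOpen_range⟩
    have huniv : Set.range (j ≫ v).left = Set.univ := hclo.eq_univ (Set.range_nonempty _)
    haveI : Surjective (j ≫ v).left := ⟨Set.range_eq_univ.1 huniv⟩
    haveI : LocallyOfFiniteType (j ≫ v).left := by
      rw [Over.comp_left]; infer_instance
    haveI : JacobsonSpace E.left := LocallyOfFiniteType.jacobsonSpace E.hom
    suffices hr : Set.range j.left = Set.univ from
      (Set.range_eq_univ.1 hr).connectedSpace j.left.continuous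
    by_contra hne
    obtain ⟨e, hx⟩ := Groth.L08.Borel.exists_pt_mem (X := E) (O := (Set.range j.left)ᶜ)
      j.left.isClosedEmbedding.isClosed_range.isOpen_compl.isLocallyClosed (Set.nonempty_compl.2 hne)
    haveI := hj.lft
    obtain ⟨e₀, he₀⟩ := Groth.L08.Borel.exists_pt_lift (j ≫ v) (e ≫ v) (by rw [huniv]; trivial)
    obtain ⟨z, hz⟩ := Groth.L24.ExtSeq.exists_lift_ker w hex (e * (e₀ ≫ j)⁻¹) (by
      rw [MonObj.mul_comp, GrpObj.inv_comp, Category.assoc, he₀, mul_inv_cancel])
    have h2 : e = ((z ≫ a) * e₀) ≫ j := by
      rw [MonObj.mul_comp, Category.assoc, ha, hz, inv_mul_cancel_right]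
    exact hx ⟨((z ≫ a) * e₀).left (IsLocalRing.closedPoint k), by rw [h2]; rfl⟩
  refine ⟨inferInstance, hconn, fun T₀ _ i hi => ?_⟩
  haveI := hi.1; haveI := hi.2.1
  obtain ⟨T', gT', i', q, hi', hq, hqi, hqs, hqf⟩ := Groth.L08.Borel.exists_image_maximalTorus v
    (fun s => MorphismProperty.of_isPullback (Groth.L25.SchImage.isPullback_fst_map (Red.geomPt s) v)
      (show Surjective v.left from inferInstance)) hi
  haveI := hi'.1; haveI := hi'.2.1; haveI := hqs; haveI := hqf
  have hmax := Groth.L08.Borel.isMaxTorus_of_isMaximalTorus hi'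
  haveI : IsIso i' := hmax.2.2.2 T (𝟙 T) i' hT (Category.comp_id _)
  haveI : IsIso i'.left := inferInstanceAs (IsIso ((Over.forget _).map i'))
  have hf : (i ≫ v).left = q.left ≫ i'.left := by rw [← hqi, Over.comp_left]
  haveI := Groth.L25.TrivLocus.lft_of_multTypeFT (Groth.L25.Locus.isMultTypeFT_of_isTorus hi.2.2.1)
  haveI : IsAffineHom T₀.hom :=
    Groth.L25.Central.isAffineHom_of_multTypeFT (Groth.L25.Locus.isMultTypeFT_of_isTorus hi.2.2.1)
  haveI : QuasiCompact i.left := by
    haveI : QuasiCompact (i.left ≫ E.hom) := by rw [Over.w i]; infer_instance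
    exact QuasiCompact.of_comp i.left E.hom
  haveI : IsClosedImmersion i.left := Groth.L08.MonoClosed.isClosedImmersion_of_field i
  haveI : IsAffineHom (i ≫ v).left := by
    haveI : IsAffineHom ((i ≫ v).left ≫ T.hom) := by rw [Over.w]; infer_instance
    exact IsAffineHom.of_comp (i ≫ v).left T.hom
  haveI : IsProper (i ≫ v).left := by rw [Over.comp_left]; infer_instance
  refine ⟨IsFinite.iff_isProper_and_isAffineHom.2 ⟨inferInstance, inferInstance⟩, ?_, ?_⟩
  · rw [hf]; infer_instance
  · rw [hf]; infer_instance

end Groth.Agent.S19305
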