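import Groth.Statements.S19308
import Groth.Agent.L02.RelDiv.ContentFlat
import Mathlib.RingTheory.LocalRing.ResidueField.Ideal
import Mathlib.RingTheory.Ideal.Operations

set_option autoImplicit false
universe u
open TensorProduct
open CAlg

namespace Groth.Agent.S19308

section
example : True := trivial
end
open Groth.L02.RelDiv

/-- Let k be an algebraically closed field, A a finitely generated k-algebra which is an integral domain
(an affine variety X = Spec A), Z a finite (possibly empty) set of k-points of A, R a commutative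
k-algebra and U an open dense subset of Spec (R ⊗_k A) = X_R containing every point of Z_R and
meeting every fibre of X_R → Spec R. Then locally on Spec R there is a principal relative effective
Cartier divisor missing Z_R whose complement lies in U: for every prime p of R there are r ∉ p and f
∈ R[1/r] ⊗_k A such that f is a non-zero-divisor, (R[1/r] ⊗_k A)/(f) is flat over R[1/r], f maps to
a unit under every point of Z, and the basic open set D(f) of X_{R[1/r]} maps into U. (The published
statement is for a quasi-projective variety X and asks for relative Cartier divisors D_i over an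
open cover of Spec R; this row is the affine case, to which the published proof reduces, where the
divisors produced are principal.) -/
theorem result
    (k : Type u) [Field k] [IsAlgClosed k]
    (A : Type u) [CommRing A] [Algebra k A] [IsDomain A] [Algebra.FiniteType k A]
    (Z : Finset (A →ₐ[k] k))
    (R : Type u) [CommRing R] [Algebra k R]
    (U : TopologicalSpace.Opens (PrimeSpectrum (TensorProduct k R A)))
    (hU : Dense (U : Set (PrimeSpectrum (TensorProduct k R A))))
    (hZ : ∀ z ∈ Z, ∀ q : PrimeSpectrum R,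
      PrimeSpectrum.comap (Algebra.TensorProduct.lift (AlgHom.id k R) ((Algebra.ofId k R).comp z)
        (fun _ _ => Commute.all _ _)).toRingHom q ∈ U)
    (hsurj : ∀ q : PrimeSpectrum R, ∃ P ∈ U,
      PrimeSpectrum.comap (Algebra.TensorProduct.includeLeftRingHom : R →+* TensorProduct k R A) P = q)
    (p : PrimeSpectrum R) :
    ∃ r : R, r ∉ p.asIdeal ∧
      ∃ f : TensorProduct k (Localization.Away r) A,
        f ∈ nonZeroDivisors (TensorProduct k (Localization.Away r) A) ∧
        Module.Flat (Localization.Away r)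
          (TensorProduct k (Localization.Away r) A ⧸ Ideal.span {f}) ∧
        (∀ z ∈ Z, IsUnit (Algebra.TensorProduct.lift (AlgHom.id k (Localization.Away r))
          ((Algebra.ofId k (Localization.Away r)).comp z) (fun _ _ => Commute.all _ _) f)) ∧
        (∀ P : PrimeSpectrum (TensorProduct k (Localization.Away r) A), f ∉ P.asIdeal →
          PrimeSpectrum.comap (Algebra.TensorProduct.map
            (IsScalarTower.toAlgHom k R (Localization.Away r)) (AlgHom.id k A)).toRingHom P ∈ U) := by
  classical
  obtain ⟨⟨ι, b⟩⟩ := Module.Free.exists_basis (R := k) (M := A)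
  let I : Ideal (R ⊗[k] A) := PrimeSpectrum.vanishingIdeal ((U : Set (PrimeSpectrum (R ⊗[k] A)))ᶜ)
  have hI : ∀ P, P ∈ U → ¬ I ≤ P.asIdeal := by
    intro P hP hle
    have h1 : P ∈ PrimeSpectrum.zeroLocus (I : Set (R ⊗[k] A)) :=
      (PrimeSpectrum.mem_zeroLocus _ _).mpr (SetLike.coe_subset_coe.mpr hle)
    rw [PrimeSpectrum.zeroLocus_vanishingIdeal_eq_closure, U.isOpen.isClosed_compl.closure_eq] at h1
    exact h1 hP
  have hIf : ∀ f ∈ I, ∀ P : PrimeSpectrum (R ⊗[k] A), f ∉ P.asIdeal → P ∈ U := fun f hf P hP => by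
    by_contra hn
    exact hP ((PrimeSpectrum.mem_vanishingIdeal _ _).mp hf P hn)
  let ev : (A →ₐ[k] k) → (R ⊗[k] A →ₐ[k] R) := fun z =>
    Algebra.TensorProduct.lift (AlgHom.id k R) ((Algebra.ofId k R).comp z) (fun _ _ => Commute.all _ _)
  let σ₀ : R →ₐ[k] p.asIdeal.ResidueField := IsScalarTower.toAlgHom k R _
  haveI : IsDomain (p.asIdeal.ResidueField ⊗[k] A) := Groth.L25.GeomIrred.isDomain_tensorProduct
  let P₀ : Ideal (R ⊗[k] A) := RingHom.ker (bc (A := A) σ₀).toRingHom
  have hP₀ : P₀.IsPrime := RingHom.ker_isPrime _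
  obtain ⟨f₀, hf₀I, hf₀P, hf₀z⟩ : ∃ f₀ ∈ I, f₀ ∉ P₀ ∧ ∀ z ∈ Z, ev z f₀ ∉ p.asIdeal := by
    let g : Option (A →ₐ[k] k) → Ideal (R ⊗[k] A) := fun o => o.elim P₀ fun z => p.asIdeal.comap (ev z).toRingHom
    have hg : ∀ o ∈ Finset.insertNone Z, ¬ I ≤ g o := by
      intro o ho
      rcases o with _ | z
      · obtain ⟨P, hPU, hPp⟩ := hsurj p
        intro hle
        refine hI P hPU (hle.trans fun x hx => ?_)
        have h0 := (bc_eq_zero b σ₀ x).mp hx
        rw [eq_sum_cf b x]
        refine Ideal.sum_mem _ fun i _ => ?_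
        have hc : cf b x i ∈ p.asIdeal := Ideal.algebraMap_residueField_eq_zero.mp (h0 i)
        rw [← hPp] at hc
        have hc' : (cf b x i) ⊗ₜ[k] (1 : A) ∈ P.asIdeal := hc
        change cf b x i ⊗ₜ[k] b i ∈ P.asIdeal
        rw [show (cf b x i) ⊗ₜ[k] b i = (cf b x i ⊗ₜ[k] (1 : A)) * ((1 : R) ⊗ₜ[k] b i) by simp]
        exact Ideal.mul_mem_right _ _ hc'
      · exact hI _ (hZ z (by simpa using ho) p)
    have hnot : ¬ (I : Set (R ⊗[k] A)) ⊆ ⋃ o ∈ (↑(Finset.insertNone Z) : Set _), (g o : Set (R ⊗[k] A)) := by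
      rw [Ideal.subset_union_prime none none (fun o _ _ _ => by
        rcases o with _ | z
        · exact hP₀
        · exact Ideal.IsPrime.comap _)]
      exact fun ⟨o, ho, hle⟩ => hg o ho hle
    obtain ⟨f₀, hf₀, hf₀'⟩ := Set.not_subset.mp hnot
    simp only [Set.mem_iUnion, not_exists] at hf₀'
    refine ⟨f₀, hf₀, hf₀' none (by simp), fun z hz => hf₀' (some z) (by simpa using hz)⟩
  obtain ⟨j, hj⟩ : ∃ j, cf b f₀ j ∉ p.asIdeal := by
    by_contra! h
    exact hf₀P ((bc_eq_zero b σ₀ f₀).mpr fun i => Ideal.algebraMap_residueField_eq_zero.mpr (h i))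
  let r : R := cf b f₀ j * ∏ z ∈ Z, ev z f₀
  have hr : r ∉ p.asIdeal := fun h => by
    rcases p.isPrime.mem_or_mem h with h1 | h1
    · exact hj h1
    · obtain ⟨z, hz, h2⟩ := (Ideal.IsPrime.prod_mem_iff (p := p.asIdeal)).mp h1
      exact hf₀z z hz h2
  let L := Localization.Away r
  let σ : R →ₐ[k] L := IsScalarTower.toAlgHom k R L
  have hu : IsUnit (algebraMap R L r) := IsLocalization.map_units L (⟨r, Submonoid.mem_powers r⟩ : Submonoid.powers r)
  simp only [r, map_mul, IsUnit.mul_iff] at hu
  have hcoef : ∃ i, IsUnit (cf b (bc σ f₀) i) := ⟨j, by rw [cf_bc]; exact hu.1⟩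
  refine ⟨r, hr, bc σ f₀, mem_nonZeroDivisors_of_unit b _ hcoef, flat_quotient_of_unit b _ hcoef, fun z hz => ?_,
    fun P hP => hIf f₀ hf₀I _ hP⟩
  have key : ∀ x : R ⊗[k] A, Algebra.TensorProduct.lift (AlgHom.id k L) ((Algebra.ofId k L).comp z)
      (fun _ _ => Commute.all _ _) (bc σ x) = algebraMap R L (ev z x) := fun x => by
    induction x using TensorProduct.induction_on with
    | zero => simp
    | add x y hx hy => simp only [map_add, hx, hy]
    | tmul a c =>
      simp [bc, ev, σ, ← IsScalarTower.algebraMap_apply]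
  rw [key]
  exact isUnit_of_dvd_unit (map_dvd (algebraMap R L) (Finset.dvd_prod_of_mem (fun z => ev z f₀) hz)) hu.2

end Groth.Agent.S19308
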