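import Groth.Statements.S19309
import Mathlib.RingTheory.LaurentSeries
import Mathlib.RingTheory.FinitePresentation

set_option autoImplicit false
universe u
open PowerSeries LaurentSeries
open CAlg

namespace Groth.Agent.S19309

variable {_unused : Unit}

lemma coeff_map {R R' : Type u} [CommRing R] [CommRing R'] (θ : LaurentSeries R →+* LaurentSeries R') (φ : R →+* R')
    (hθ : ∀ f : PowerSeries R, θ (HahnSeries.ofPowerSeries ℤ R f) = HahnSeries.ofPowerSeries ℤ R' (PowerSeries.map φ f))
    (g : LaurentSeries R) (m : ℤ) : (θ g).coeff m = φ (g.coeff m) := by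
  obtain ⟨N, hN⟩ : ∃ N : ℕ, 0 ≤ (N : ℤ) + g.order := ⟨(-g.order).toNat, by omega⟩
  obtain ⟨f, hf⟩ : ∃ f, HahnSeries.ofPowerSeries ℤ R f = HahnSeries.single (N : ℤ) 1 * g := by
    refine ⟨PowerSeries.X ^ ((N : ℤ) + g.order).toNat * g.powerSeriesPart, ?_⟩
    rw [map_mul, HahnSeries.ofPowerSeries_X_pow, Int.toNat_of_nonneg hN]
    conv_rhs => rw [← LaurentSeries.single_order_mul_powerSeriesPart g]
    rw [← mul_assoc, HahnSeries.single_mul_single, one_mul]
  have hX : θ (HahnSeries.single (N : ℤ) 1) = HahnSeries.single (N : ℤ) 1 := by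
    rw [← HahnSeries.ofPowerSeries_X_pow, hθ, map_pow, PowerSeries.map_X, HahnSeries.ofPowerSeries_X_pow]
  have h1 : HahnSeries.ofPowerSeries ℤ R' (PowerSeries.map φ f) = HahnSeries.single (N : ℤ) 1 * θ g := by
    rw [← hθ, hf, map_mul, hX]
  have e : m + N - (N : ℤ) = m := by omega
  have A := congrArg (fun z => HahnSeries.coeff z (m + N)) h1
  have B := congrArg (fun z => HahnSeries.coeff z (m + N)) hf
  simp only [HahnSeries.coeff_single_mul, e, one_mul] at A B
  rcases lt_or_ge (m + N) 0 with h | h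
  · have hz : ∀ {S : Type u} [CommRing S] (z : PowerSeries S), (HahnSeries.ofPowerSeries ℤ S z).coeff (m + N) = 0 := fun z => by
      rw [HahnSeries.ofPowerSeries_apply, HahnSeries.embDomain_notin_range]
      rintro ⟨n, hn⟩
      simp at hn
      omega
    rw [hz] at A B
    rw [← A, ← B, map_zero]
  · obtain ⟨n, hn⟩ : ∃ n : ℕ, m + N = n := ⟨(m + N).toNat, by omega⟩
    rw [hn, LaurentSeries.coeff_coe_powerSeries] at A B
    rw [← A, ← B, PowerSeries.coeff_map]

open PowerSeries LaurentSeries

/-- Let k be a field, R a commutative k-algebra, B a finitely presented R⟦X⟧-algebra (an affine scheme V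
= Spec B of finite presentation over the disc D_R = Spec R⟦X⟧) and s : B → R((X)) an R⟦X⟧-algebra
map (a section of V over the punctured disc). Then there is an ideal I of R such that for every ring
map φ : R → R', writing θ : R((X)) → R'((X)) for the ring map compatible with R⟦X⟧ → R'⟦X⟧, the
section s extends to a section over D_{R'} — an R⟦X⟧-algebra map s' : B → R'⟦X⟧ whose composite with
R'⟦X⟧ → R'((X)) is θ ∘ s — if and only if φ kills I. In other words the sub-presheaf of Spec R where
s extends over the disc is the closed subscheme defined by I. -/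
theorem result
    (k : Type u) [Field k] (R : Type u) [CommRing R] [Algebra k R]
    (B : Type u) [CommRing B] [Algebra R⟦X⟧ B] [Algebra.FinitePresentation R⟦X⟧ B]
    (s : B →ₐ[R⟦X⟧] R⸨X⸩) :
    ∃ I : Ideal R, ∀ (R' : Type u) [CommRing R'] (φ : R →+* R') (θ : R⸨X⸩ →+* R'⸨X⸩),
      θ.comp (algebraMap R⟦X⟧ R⸨X⸩) = (algebraMap R'⟦X⟧ R'⸨X⸩).comp (PowerSeries.map φ) →
      ((∃ s' : B →+* R'⟦X⟧, s'.comp (algebraMap R⟦X⟧ B) = PowerSeries.map φ ∧
          (algebraMap R'⟦X⟧ R'⸨X⸩).comp s' = θ.comp s.toRingHom) ↔ I ≤ RingHom.ker φ) := by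
  classical
  refine ⟨Ideal.span {r | ∃ (b : B) (m : ℤ), m < 0 ∧ (s b).coeff m = r}, ?_⟩
  intro R' _ φ θ hθ
  have hθ' : ∀ f : R⟦X⟧, θ (HahnSeries.ofPowerSeries ℤ R f) = HahnSeries.ofPowerSeries ℤ R' (PowerSeries.map φ f) :=
    fun f => RingHom.congr_fun hθ f
  have hcoef : ∀ (g : R⸨X⸩) (m : ℤ), (θ g).coeff m = φ (g.coeff m) := coeff_map θ φ hθ'
  have hneg : ∀ (f : R'⟦X⟧) (m : ℤ), m < 0 → (HahnSeries.ofPowerSeries ℤ R' f).coeff m = 0 := fun f m hm => by
    rw [HahnSeries.ofPowerSeries_apply, HahnSeries.embDomain_notin_range]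
    rintro ⟨n, hn⟩
    simp at hn
    omega
  constructor
  · rintro ⟨s', -, h2⟩
    rw [Ideal.span_le]
    rintro r ⟨b, m, hm, rfl⟩
    have h : HahnSeries.ofPowerSeries ℤ R' (s' b) = θ (s b) := RingHom.congr_fun h2 b
    show φ _ = 0
    rw [← hcoef, ← h, hneg _ m hm]
  · intro hI
    let t : B → R'⟦X⟧ := fun b => PowerSeries.mk fun n => (θ (s b)).coeff n
    have ht : ∀ b, HahnSeries.ofPowerSeries ℤ R' (t b) = θ (s b) := fun b => by
      ext m
      rcases lt_or_ge m 0 with hm | hm
      · rw [hneg _ m hm, hcoef]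
        exact (hI (Ideal.subset_span ⟨b, m, hm, rfl⟩)).symm
      · lift m to ℕ using hm
        rw [LaurentSeries.coeff_coe_powerSeries, PowerSeries.coeff_mk]
    have hinj : Function.Injective (HahnSeries.ofPowerSeries ℤ R') := HahnSeries.ofPowerSeries_injective
    refine ⟨{ toFun := t
              map_one' := hinj (by rw [ht, map_one, map_one, map_one])
              map_mul' := fun a b => hinj (by rw [ht, map_mul, map_mul, map_mul, ht, ht])
              map_zero' := hinj (by rw [ht, map_zero, map_zero, map_zero])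
              map_add' := fun a b => hinj (by rw [ht, map_add, map_add, map_add, ht, ht]) }, ?_, ?_⟩
    · ext1 f
      apply hinj
      show HahnSeries.ofPowerSeries ℤ R' (t (algebraMap _ B f)) = _
      rw [ht, AlgHom.commutes]
      exact hθ' f
    · ext1 b
      exact ht b

end Groth.Agent.S19309
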