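import Mathlib.RingTheory.TensorProduct.Basic
import Mathlib.RingTheory.Localization.Away.Basic
import Mathlib.RingTheory.Spectrum.Prime.Topology
import Mathlib.FieldTheory.IsAlgClosed.Basic
import Mathlib.RingTheory.FiniteType
import Mathlib.RingTheory.Jacobson.Ring
import Mathlib.RingTheory.Nullstellensatz
import Mathlib.LinearAlgebra.Dual.Lemmas
import Mathlib.RingTheory.Localization.AtPrime.Basic
import Mathlib.RingTheory.TensorProduct.Free

set_option autoImplicit false
namespace CAlg
end CAlg
universe u
open TensorProduct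
open CAlg

namespace Groth.Agent.S19310

/-- Let k be an algebraically closed field, A a finitely generated k-algebra which is an integral domain
(X = Spec A an affine variety), R a commutative k-algebra, possibly non-reduced, and U an open
subset of X_R = Spec (R ⊗_k A) meeting every fibre of X_R → Spec R (a very dense open subset). Then
a regular function on X_R whose restriction to U vanishes is zero: if f ∈ R ⊗_k A maps to 0 in the
localisation (R ⊗_k A)[1/g] for every g with D(g) ⊆ U, then f = 0. (The published statement is that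
automorphisms of a torsor under a smooth affine group scheme over X_R which are the identity over a
very dense open subset are the identity, for X a smooth projective curve; its proof reduces this to
the present assertion about functions, for quasi-projective X; this row is the affine case.) -/
theorem result
    (k : Type u) [Field k] [IsAlgClosed k]
    (A : Type u) [CommRing A] [Algebra k A] [IsDomain A] [Algebra.FiniteType k A]
    (R : Type u) [CommRing R] [Algebra k R]
    (U : TopologicalSpace.Opens (PrimeSpectrum (TensorProduct k R A)))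
    (hsurj : ∀ q : PrimeSpectrum R, ∃ P ∈ U,
      PrimeSpectrum.comap (Algebra.TensorProduct.includeLeftRingHom : R →+* TensorProduct k R A) P = q)
    (f : TensorProduct k R A)
    (hf : ∀ g : TensorProduct k R A, (PrimeSpectrum.basicOpen g : Set (PrimeSpectrum (TensorProduct k R A))) ⊆ U →
      algebraMap (TensorProduct k R A) (Localization.Away g) f = 0) :
    f = 0 := by
  classical
  by_contra hf0
  let b := Module.Basis.ofVectorSpace k A
  let bR := Algebra.TensorProduct.basis R b
  obtain ⟨j₀, hj₀⟩ : ∃ j, bR.repr f j ≠ 0 := by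
    by_contra! h
    exact hf0 (bR.repr.map_eq_zero_iff.mp (Finsupp.ext h))
  obtain ⟨q, hq, hle⟩ := Ideal.exists_le_maximal (LinearMap.ker (LinearMap.toSpanSingleton R R (bR.repr f j₀)))
    (fun h => hj₀ (by
      have := (Ideal.eq_top_iff_one _).mp h
      rwa [LinearMap.mem_ker, LinearMap.toSpanSingleton_apply, one_smul] at this))
  haveI := hq.isPrime
  obtain ⟨P, hPU, hP⟩ := hsurj ⟨q, inferInstance⟩
  obtain ⟨_, ⟨g, rfl⟩, hPg, hgU⟩ :=
    PrimeSpectrum.isTopologicalBasis_basic_opens.exists_subset_of_mem_open hPU U.isOpen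
  obtain ⟨⟨_, N, rfl⟩, hN⟩ :=
    (IsLocalization.map_eq_zero_iff (Submonoid.powers g) (Localization.Away g) f).mp (hf g hgU)
  replace hN : g ^ N * f = 0 := hN
  set G := g ^ N
  have hG : G ∉ P.asIdeal := fun h => hPg (P.2.mem_of_pow_mem N h)
  -- some coefficient of `G` is not in `q`
  let L := Localization.AtPrime q
  obtain ⟨i, hi⟩ : ∃ i, bR.repr G i ∉ q := by
    by_contra! h
    refine hG ?_
    rw [← bR.linearCombination_repr G, Finsupp.linearCombination_apply]
    refine P.asIdeal.sum_mem fun i _ => ?_
    show bR.repr G i • bR i ∈ P.asIdeal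
    rw [Algebra.smul_def]
    refine P.asIdeal.mul_mem_right _ ?_
    have : q = P.asIdeal.comap (algebraMap R (R ⊗[k] A)) := (congrArg PrimeSpectrum.asIdeal hP).symm
    exact (this ▸ h i : _)
  letI : Field (R ⧸ q) := Ideal.Quotient.field q
  obtain ⟨μ, hμ⟩ := not_forall.mp (mt (Module.forall_dual_apply_eq_zero_iff k
    (Ideal.Quotient.mkₐ k q (bR.repr G i))).mp (fun h => hi (Ideal.Quotient.eq_zero_iff_mem.mp h)))
  -- evaluation of a tensor along a linear form on the coefficients
  let ev : (R →ₗ[k] k) → (R ⊗[k] A →ₗ[k] A) := fun l =>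
    (TensorProduct.lid k A).toLinearMap ∘ₗ TensorProduct.map l LinearMap.id
  have hev : ∀ (l : R →ₗ[k] k) x j, b.repr (ev l x) j = l (bR.repr x j) := by
    intro l x j
    induction x using TensorProduct.induction_on with
    | zero => simp
    | tmul r a =>
      have h1 : ev l (r ⊗ₜ a) = l r • a := rfl
      rw [h1, map_smul, Finsupp.smul_apply, smul_eq_mul, Algebra.TensorProduct.basis_repr_tmul]
      simp only [Finsupp.smul_apply, Finsupp.mapRange_apply, smul_eq_mul]
      rw [mul_comm r, ← Algebra.smul_def, map_smul, smul_eq_mul, mul_comm]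
    | add x y hx hy => simp only [map_add, Finsupp.add_apply, hx, hy]
  have hevχ : ∀ (l : R →ₗ[k] k) (χ : A →ₐ[k] k) x,
      χ (ev l x) = l (Algebra.TensorProduct.lift (AlgHom.id k R) ((Algebra.ofId k R).comp χ)
        (fun _ _ => Commute.all _ _) x) := by
    intro l χ x
    induction x using TensorProduct.induction_on with
    | zero => simp
    | tmul r a =>
      rw [show ev l (r ⊗ₜ a) = l r • a from rfl, map_smul, Algebra.TensorProduct.lift_tmul]
      show l r * χ a = l (r * algebraMap k R (χ a))
      rw [mul_comm r, ← Algebra.smul_def, map_smul, smul_eq_mul, mul_comm]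
    | add x y hx hy => simp only [map_add, hx, hy]
  let l₁ : R →ₗ[k] k := μ ∘ₗ (Ideal.Quotient.mkₐ k q).toLinearMap
  set g' := ev l₁ G
  have hg' : g' ≠ 0 := fun h => hμ (by
    have := hev l₁ G i
    rw [show ev l₁ G = 0 from h, map_zero, Finsupp.zero_apply] at this
    exact this.symm)
  obtain ⟨μ₀, hμ₀⟩ := not_forall.mp (mt (Module.forall_dual_apply_eq_zero_iff k
    (algebraMap R L (bR.repr f j₀))).mp (fun h => by
      obtain ⟨⟨s, hs⟩, hs'⟩ := (IsLocalization.map_eq_zero_iff q.primeCompl L _).mp h
      exact hs (hle (by rw [LinearMap.mem_ker, LinearMap.toSpanSingleton_apply, smul_eq_mul]; exact hs'))))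
  let l₀ : R →ₗ[k] k := μ₀ ∘ₗ (IsScalarTower.toAlgHom k R L).toLinearMap
  set v := ev l₀ f
  have hv : v * g' = 0 := by
    haveI : IsJacobsonRing A := isJacobsonRing_of_finiteType (A := k)
    have hrad : (⊥ : Ideal A).jacobson = ⊥ :=
      IsJacobsonRing.out' ⊥ Ideal.isPrime_bot.isRadical
    rw [← Submodule.mem_bot A, ← hrad, Ideal.jacobson, Submodule.mem_sInf]
    rintro m ⟨-, hm⟩
    haveI := hm
    letI : Field (A ⧸ m) := Ideal.Quotient.field m
    haveI : Module.Finite k (A ⧸ m) := finite_of_finite_type_of_isJacobsonRing k (A ⧸ m)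
    have hbij : Function.Bijective (algebraMap k (A ⧸ m)) :=
      IsAlgClosed.algebraMap_bijective_of_isIntegral (k := k) (K := A ⧸ m)
    let χ : A →ₐ[k] k :=
      (AlgEquiv.ofBijective (Algebra.ofId k (A ⧸ m)) hbij).symm.toAlgHom.comp (Ideal.Quotient.mkₐ k m)
    have hker : ∀ a, χ a = 0 → a ∈ m := fun a ha => by
      simp only [χ, AlgHom.comp_apply] at ha
      exact Ideal.Quotient.eq_zero_iff_mem.mp ((map_eq_zero_iff _ (AlgEquiv.injective _)).mp ha)
    refine hker _ ?_
    rw [map_mul, hevχ, hevχ]
    set Ψ := Algebra.TensorProduct.lift (AlgHom.id k R) ((Algebra.ofId k R).comp χ)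
        (fun _ _ => Commute.all _ _)
    by_cases hΨ : Ψ G ∈ q
    · refine mul_eq_zero_of_right _ ?_
      show μ (Ideal.Quotient.mk q (Ψ G)) = 0
      rw [Ideal.Quotient.eq_zero_iff_mem.mpr hΨ, map_zero]
    · refine mul_eq_zero_of_left ?_ _
      show μ₀ (algebraMap R L (Ψ f)) = 0
      have h : algebraMap R L (Ψ G) * algebraMap R L (Ψ f) = 0 := by
        rw [← map_mul, ← map_mul, hN, map_zero, map_zero]
      rw [(IsLocalization.map_units L (⟨Ψ G, hΨ⟩ : q.primeCompl)).mul_right_eq_zero.mp h, map_zero]
  have hv0 : v = 0 := (mul_eq_zero.mp hv).resolve_right hg'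
  apply hμ₀
  have := hev l₀ f j₀
  rw [show ev l₀ f = 0 from hv0, map_zero, Finsupp.zero_apply] at this
  exact this.symm
end Groth.Agent.S19310
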