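import Mathlib.AlgebraicGeometry.Modules.Sheaf
import Mathlib.Algebra.Category.ModuleCat.Sheaf.Abelian
import Mathlib.AlgebraicGeometry.Morphisms.Proper
import Mathlib.AlgebraicGeometry.Morphisms.Smooth
import Mathlib.Topology.KrullDimension
import Mathlib.FieldTheory.IsAlgClosed.Basic
import Mathlib.LinearAlgebra.Dimension.Finrank
import Groth.Prelude.Def_Coh
import Groth.Prelude.Def_CohB1
import Groth.Prelude.Def_FlatMod2
import Groth.Prelude.Def_CurvBase
import Groth.Prelude.Def_FGA
import Groth.Prelude.Def_ParBun2
import Groth.Prelude.Def_DecSh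
import Groth.Prelude.Def_DecSh2
import Groth.Prelude.Def_Curv2
import Groth.Agent.L11.DecBd.Par
-- import your own Groth.Agent.* helpers here

set_option autoImplicit false
set_option backward.isDefEq.respectTransparency false
set_option backward.isDefEq.respectTransparency.types false
universe u
open CategoryTheory CategoryTheory.Limits AlgebraicGeometry
open DecSh

namespace Groth.Agent.S19316

/-- Let k be an algebraically closed field of characteristic zero, Y a smooth proper k-scheme of
dimension one without isolated points (possibly disconnected) and L an ample invertible O_Y-module.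
Fix finitely many effective Cartier ideal sheaves I_1, …, I_ν on Y (the divisors D_i), rational
weights κ_i with 0 < κ_i < 1, δ > 0, natural numbers r, a, b and an integer d. Consider the locally
free O_Y-modules E of rank r and degree d (χ(E) − r·χ(O_Y) = d) for which there exist k-subspaces
K_i ⊂ H⁰(E ⊗ O_{D_i}) with quotients of dimension r and a tensor field of type (a, b) on E with
values in some O_Y-module, (κ, δ)-semistable with respect to L. This family is bounded: there is n₀
such that for every such E and every n ≥ n₀, H¹(Y, E ⊗ L^{⊗n}) = 0 and E ⊗ L^{⊗n} is globally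
generated. (The published statement fixes the target det(E)^{⊗c} ⊗ L' of the tensor field and takes
the D_i to be the pairs of points over the nodes; allowing any target and any effective divisors
gives a larger family, bounded by the same argument.) -/
theorem result
    (k : Type u) [Field k] [IsAlgClosed k] [CharZero k]
    (Y : Scheme.{u}) [Y.Over (Spec (CommRingCat.of k))] [IsProper (Y ↘ Spec (CommRingCat.of k))]
    [Smooth (Y ↘ Spec (CommRingCat.of k))] (hdim : topologicalKrullDim Y = 1)
    (hpure : ∀ y : Y, ¬ IsOpen ({y} : Set Y))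
    (L : Y.Modules) (hL : CohB1.IsAmple L)
    {ν : ℕ} (I : Fin ν → Y.IdealSheafData) (hI : ∀ i, FGA.IsEffCartier (I i))
    (κ : Fin ν → ℚ) (hκ : ∀ i, 0 < κ i ∧ κ i < 1) (δ : ℚ) (hδ : 0 < δ)
    (r a b : ℕ) (d : ℤ) :
    ∃ n₀ : ℕ, ∀ n : ℕ, n₀ ≤ n → ∀ E : Y.Modules,
      (FlatMod.IsFinLocFreeOfRank r E ∧ Curv2.deg k Y E r = d ∧
        ∃ (K : ∀ i, Submodule k (ParSh.fibD Y (I i) E)),
          (∀ i, Module.finrank k (ParSh.fibD Y (I i) E ⧸ K i) = r) ∧
          ∃ (D : Y.Modules) (T : DecSh.TF E a b D), T.IsParSemistable k I K κ L δ) →
      Subsingleton (Coh.HH Y (CohB1.tensorMod E (CohB1.tensorPow L n)) 1) ∧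
        Curv2.IsGloballyGenerated (CohB1.tensorMod E (CohB1.tensorPow L n)) := by
  exact Groth.L11.DecBd.par_bounded k hL hdim hpure r I hI κ hκ hδ a b d
end Groth.Agent.S19316
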