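import Groth.Statements.S1932
import Groth.Agent.L22.C1.GysinBC
-- import your own Groth.Agent.* helpers here

set_option autoImplicit false
universe u
open CategoryTheory AlgebraicGeometry
open CategoryTheory.Limits
open Cyc

namespace Groth.Agent.S1932

/-- Gysin maps commute with proper push-forward: let f : X' → X be a proper morphism, L an invertible
O_X-module with a global section s whose zero scheme is the closed immersion i : D → X
(Cyc.IsZeroSchemeOf), and D' = X' ×_X D with projections i' : D' → X' and g : D' → D, where i' is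
the zero scheme of some global section s' of f^*L. For a (k + 1)-cycle α' on X', i^*(f_*α') ∼_rat
g_*((i')^*α') as k-cycles on D. Here the Gysin map i^* : Z_{k+1}(X) → CH_k(D) is computed on
coefficient functions as c_1(L) ∩ − with the rational sections taken to be s where it is nonzero
(Cyc.gysinChoice, completed by arbitrary nonzero choices elsewhere) and restricted to the points of
D, likewise for (i')^* with f^*L and s', and classes on D are compared up to rational equivalence on
D for the restricted dimension function. A pair (X, δ) with Cyc.IsSetup (X locally Noetherian with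
universally catenary local rings, δ a dimension function) plays the role of a scheme locally of
finite type over a base equipped with a dimension function, and Cyc.DeltaCompat records that the
dimension function δ' on X' is the one induced from δ along f. -/
theorem result (X X' D : Scheme.{u}) (δ : X → ℤ) (δ' : X' → ℤ) (hX : Cyc.IsSetup X δ) (hX' : Cyc.IsSetup X' δ') (f : X' ⟶ X) [IsProper f] (hδ : Cyc.DeltaCompat f δ' δ) (L : X.Modules) (hL : PicF.IsInvertible L) (s : L.presheaf.obj (Opposite.op ⊤)) (i : D ⟶ X) [IsClosedImmersion i] (hD : Cyc.IsZeroSchemeOf i L s) (s' : ((Scheme.Modules.pullback f).obj L).presheaf.obj (Opposite.op ⊤)) (hD' : Cyc.IsZeroSchemeOf (pullback.fst f i) ((Scheme.Modules.pullback f).obj L) s') (k : ℤ) (α' : AlgebraicCycle X' ℤ) (hα' : α' ∈ Cyc.Zk X' δ' (k + 1)) (w : (ξ : X) → Cyc.secFibre L ξ) (hw : ∀ ξ, w ξ ≠ 0) (w' : (ξ : X') → Cyc.secFibre ((Scheme.Modules.pullback f).obj L) ξ) (hw' : ∀ ξ, w' ξ ≠ 0) (γ : AlgebraicCycle D ℤ) (hγ : ∀ d, γ d = Cyc.c1CapFun δ L ⇑(AlgebraicCycle.map f δ' δ α') (Cyc.gysinChoice L s w) (i d)) (γ' :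 AlgebraicCycle (pullback f i) ℤ) (hγ' : ∀ z, γ' z = Cyc.c1CapFun δ' ((Scheme.Modules.pullback f).obj L) ⇑α' (Cyc.gysinChoice ((Scheme.Modules.pullback f).obj L) s' w') (pullback.fst f i z)) : Cyc.RatEquiv (fun d => δ (i d)) k γ (AlgebraicCycle.map (pullback.snd f i) (fun z => δ' (pullback.fst f i z)) (fun d => δ (i d)) γ') := by
  haveI := hX.1
  haveI := hX'.1
  exact Groth.L22.C1.gysin_map f i hL s hD hX.2.2 hX'.2.2 hδ s' hD' k α' hα' w hw w' hw' γ hγ γ' hγ'


end Groth.Agent.S1932
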