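import Mathlib.AlgebraicGeometry.Modules.Sheaf
import Mathlib.Algebra.Category.ModuleCat.Sheaf.Abelian
import Mathlib.AlgebraicGeometry.Morphisms.Proper
import Mathlib.AlgebraicGeometry.Properties
import Mathlib.Topology.KrullDimension
import Mathlib.FieldTheory.IsAlgClosed.Basic
import Groth.Prelude.Def_Coh
import Groth.Prelude.Def_CohB1
import Groth.Prelude.Def_TorSh
import Groth.Prelude.Def_CurvBase
import Groth.Prelude.Def_DecSh
import Groth.Prelude.Def_DecSh2
import Mathlib.LinearAlgebra.Dimension.Finrank
import Groth.Prelude.Def_FlatMod2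
import Groth.Prelude.Def_ShStab
import Groth.Prelude.Def_LCI2
import Groth.Prelude.Def_Pic13
import Groth.Agent.L11.DecBd.Main
-- import your own Groth.Agent.* helpers here

set_option autoImplicit false
set_option backward.isDefEq.respectTransparency false
set_option backward.isDefEq.respectTransparency.types false
universe u
open CategoryTheory CategoryTheory.Limits AlgebraicGeometry
open DecSh

namespace Groth.Agent.S19321

/-- Let k be an algebraically closed field of characteristic zero, X a reduced proper k-scheme of
dimension one without isolated points, and L an ample invertible O_X-module which is very ample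
relative to some projective space over k; write χ for the Euler characteristic over k, M(m) = M ⊗
L^{⊗m}, h⁰(M) = dim_k H⁰(X, M), α(M) = χ(M ⊗ L) − χ(M). Fix δ > 0, integers α and e, natural numbers
a, b and a finite locally free O_X-module D. Then there is N₁ such that for every rational number C
the following family of coherent O_X-modules F′ is bounded: F′ admits a monomorphism with torsion
free cokernel (a saturated subsheaf) into some coherent F with torsion free stalks, α(F) = α, χ(F) =
e, which carries a tensor field T of type (a, b) with values in D that is δ-semistable with respect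
to L or satisfies for some m ≥ N₁ the quotient sectional condition Σ_i m_i (α(F/F_i) · χ(F(m)) − α ·
h⁰((F/F_i)(m))) + δ μ ≤ 0 for all weighted filtrations of F by coherent subsheaves; and |χ(F′) −
α(F′) · (e − aδ)/α| ≤ C. (The last condition is the source's |deg F′ − α(F′) μ_s| ≤ C with μ_s =
(deg F − aδ)/α, rewritten through χ: the correction terms by the rational rank cancel. The published
setting is a reduced projective curve with a very ample polarisation and a locally free D, as here.) -/
theorem result
    (k : Type u) [Field k] [IsAlgClosed k] [CharZero k]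
    (X : Scheme.{u}) [X.Over (Spec (CommRingCat.of k))] [IsProper (X ↘ Spec (CommRingCat.of k))]
    [AlgebraicGeometry.IsReduced X] (hdim : topologicalKrullDim X = 1)
    (hpure : ∀ x : X, ¬ IsOpen ({x} : Set X))
    (L : X.Modules) (hL : CohB1.IsAmple L) (hva : RelAmple.IsRelVeryAmplePn (X ↘ Spec (CommRingCat.of k)) L)
    (δ : ℚ) (hδ : 0 < δ) (α e : ℤ) (a b : ℕ) (D : X.Modules) (hD : FlatMod.IsFinLocFree D) :
    ∃ N₁ : ℕ, ∀ C : ℚ, Pic13.IsBounded k X (fun F' => Coh.IsCoh F' ∧
      (∃ (F : X.Modules) (ι : F' ⟶ F), Mono ι ∧ TorSh.IsTorsionFree (cokernel ι) ∧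
        Coh.IsCoh F ∧ TorSh.IsTorsionFree F ∧ DecSh.mult k X L F = α ∧ Curv2.euler k X F = e ∧
          ∃ T : DecSh.TF F a b D, (T.IsSemistable k L δ ∨ ∃ m : ℕ, N₁ ≤ m ∧
            ∀ 𝓕 : DecSh.WFilt F, (∀ i, Coh.IsCoh ((𝓕.piece i : Subobject F) : X.Modules)) →
              (∑ i, 𝓕.wt i * ((DecSh.mult k X L (cokernel (𝓕.piece i).arrow) : ℚ) *
                  (Curv2.euler k X (ShStab.twist X L F m) : ℚ) -
                (α : ℚ) * (Module.finrank k (Coh.HH X (ShStab.twist X L (cokernel (𝓕.piece i).arrow) m) 0) : ℚ))) +
                δ * T.mu k L 𝓕 ≤ 0)) ∧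
      |(Curv2.euler k X F' : ℚ) - (DecSh.mult k X L F' : ℚ) * (((e : ℚ) - (a : ℚ) * δ) / (α : ℚ))| ≤ C) := by
  exact Groth.L11.DecBd.isBounded_sub k hL hdim hpure α e a b D hδ
end Groth.Agent.S19321
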