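import Groth.Statements.S19322
import Groth.Agent.L10.SpSeq.Dim

set_option autoImplicit false
set_option backward.defeqAttrib.useBackward true
set_option backward.isDefEq.respectTransparency false
universe v u
open CategoryTheory CategoryTheory.Limits
open SpSeq

namespace Groth.Agent.S19322

/-- Let K be a field and E a cohomological spectral sequence of K-vector spaces, pages from r₀,
concentrated in the first quadrant on page r₀ and with all terms of page r₀ finite-dimensional, and
let H be abutment data for E whose filtration in degree n is finite, H n finite-dimensional. If the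
dimensions of the page-r₀ terms E^{s, n-s}, 0 ≤ s ≤ n, add up to the dimension of H n, then every
position of total degree n is stationary from page r₀ on: all differentials into and out of it
vanish on every page. (The printed statement takes r₀ a positive integer and n ≥ 0; neither
restriction is needed.) -/
theorem result
    {K : Type u} [Field K] {r₀ : ℤ}
    (E : CohomologicalSpectralSequence (ModuleCat.{v} K) r₀) (H : ℤ → ModuleCat.{v} K)
    (a : SpSeq.Abutment E H) (n : ℤ) (hfin : a.IsFinite n)
    (hquad : ∀ pq : ℤ × ℤ, pq.1 < 0 ∨ pq.2 < 0 → IsZero ((E.page r₀ le_rfl).X pq))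
    (hfd : ∀ pq : ℤ × ℤ, Module.Finite K ((E.page r₀ le_rfl).X pq))
    (hH : Module.Finite K (H n))
    (hsum : ∑ s ∈ Finset.Icc (0 : ℤ) n, Module.finrank K ((E.page r₀ le_rfl).X (s, n - s)) =
      Module.finrank K (H n)) :
    ∀ s : ℤ, SpSeq.StationaryAt E (s, n - s) r₀ := by
  intro s
  by_cases hs : 0 ≤ s ∧ s ≤ n
  swap
  · exact Groth.L10.SpSeqDim.stationary_of_isZero E _ (hquad _ (by simp only; omega))
  have : Module.Finite K (a.filObj n).obj := hH
  have hz : ∀ p, p < 0 ∨ n < p → IsZero ((a.filObj n).gr p) := fun p hp =>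
    Groth.L10.SpSeqAbs.isZero_filObj_gr a n p r₀ le_rfl (hquad _ (by simp only; omega))
  have hgr : ∑ p ∈ Finset.Icc (0 : ℤ) n, Module.finrank K ((a.filObj n).gr p) = Module.finrank K (H n) :=
    Groth.L10.SpSeqDim.sum_gr_Icc _ hfin n hz
  have hle : ∀ p ∈ Finset.Icc (0 : ℤ) n,
      Module.finrank K ((a.filObj n).gr p) ≤ Module.finrank K ((E.page r₀ le_rfl).X (p, n - p)) := fun p _ => by
    obtain ⟨e⟩ := Groth.L10.SpSeqAbs.β' a n p
    rw [← Groth.L10.SpSeqDim.finrank_iso e]
    exact (Groth.L10.SpSeqDim.stationary_from_start E _ (a.stat _) (hfd _)).1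
  have heq := (Finset.sum_eq_sum_iff_of_le hle).1 (hgr.trans hsum.symm) s (Finset.mem_Icc.2 hs)
  obtain ⟨e⟩ := Groth.L10.SpSeqAbs.β' a n s
  rw [← Groth.L10.SpSeqDim.finrank_iso e] at heq
  exact (Groth.L10.SpSeqDim.stationary_from_start E _ (a.stat _) (hfd _)).2 heq

end Groth.Agent.S19322
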