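import Groth.Statements.S19323
import Groth.Agent.L10.SpSeq.Abstract

set_option autoImplicit false
set_option backward.defeqAttrib.useBackward true
set_option backward.isDefEq.respectTransparency false
universe v u
open CategoryTheory CategoryTheory.Limits
open SpSeq

namespace Groth.Agent.S19323

/-- In an abelian category let E and E' be first-quadrant E₂ cohomological spectral sequences and φ : E
⟶ E' a morphism of spectral sequences such that (i) every differential of E' leaving a position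
whose first coordinate is nonzero vanishes, (ii) on every page the map φ at each position followed
by the outgoing differential of E' is zero, and (iii) φ is a monomorphism at every position of page
2. Then E degenerates at page 2. -/
theorem result
    {C : Type u} [Category.{v} C] [Abelian C]
    (E E' : E₂CohomologicalSpectralSequence C) (φ : E ⟶ E')
    (hE : ∀ pq : ℤ × ℤ, pq.1 < 0 ∨ pq.2 < 0 → IsZero ((E.page 2 le_rfl).X pq))
    (hE' : ∀ pq : ℤ × ℤ, pq.1 < 0 ∨ pq.2 < 0 → IsZero ((E'.page 2 le_rfl).X pq))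
    (hd' : ∀ (r : ℤ) (hr : 2 ≤ r) (pq : ℤ × ℤ), pq.1 ≠ 0 →
      (E'.page r hr).d pq (pq + (r, 1 - r)) = 0)
    (hφd : ∀ (r : ℤ) (hr : 2 ≤ r) (pq : ℤ × ℤ),
      (φ.hom r hr).f pq ≫ (E'.page r hr).d pq (pq + (r, 1 - r)) = 0)
    (hmono : ∀ pq : ℤ × ℤ, Mono ((φ.hom 2 le_rfl).f pq)) :
    SpSeq.Degenerates E 2 := by
  have hz : ∀ (r : ℤ) (hr : 2 ≤ r) (pq : ℤ × ℤ), pq.1 < 0 ∨ pq.2 < 0 → IsZero ((E.page r hr).X pq) :=
    fun r hr pq h => Groth.L10.SpSeqAbs.isZero_le E 2 r hr le_rfl pq (hE pq h)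
  have hd : ∀ (r : ℤ) (hr : 2 ≤ r), (∀ pq : ℤ × ℤ, r ≤ pq.1 → Mono ((φ.hom r hr).f pq)) →
      ∀ pq pq' : ℤ × ℤ, (E.page r hr).d pq pq' = 0 := by
    intro r hr hm pq pq'
    refine Groth.L10.SpSeqAbs.d_eq_zero E r hr pq pq' fun e => ?_
    subst e
    by_cases hp : pq.1 < 0
    · exact (hz r hr pq (Or.inl hp)).eq_of_src _ _
    · have := hm (pq + (r, 1 - r)) (by simp; omega)
      rw [← cancel_mono ((φ.hom r hr).f (pq + (r, 1 - r))), ← HomologicalComplex.Hom.comm, hφd, zero_comp]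
  have hmon : ∀ (m : ℕ) (pq : ℤ × ℤ), 2 + (m : ℤ) ≤ pq.1 → Mono ((φ.hom (2 + m) (by omega)).f pq) := by
    intro m
    induction m with
    | zero =>
      intro pq hpq
      have aux : ∀ (r : ℤ) (hr : 2 ≤ r), r = 2 → Mono ((φ.hom r hr).f pq) := by
        intro r hr e; subst e; exact hmono pq
      exact aux _ _ (by simp)
    | succ m ih =>
      intro pq hpq
      have h2 : (2 : ℤ) ≤ 2 + m := by omega
      have := ih pq (by omega)
      have hsrc : ∀ j, (E'.page (2 + m) h2).d j pq = 0 := Groth.L10.SpSeqAbs.d_to E' _ h2 pq (by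
        have h := hd' (2 + m) h2 (pq - (2 + (m : ℤ), 1 - (2 + (m : ℤ)))) (by simp; omega)
        rwa [sub_add_cancel] at h)
      have := Groth.L10.SpSeqAbs.mono_homologyMap (φ.hom (2 + m) h2) pq (fun j => hd _ h2 ih j pq) hsrc
      have hc := φ.comm (2 + m) (2 + ((m + 1 : ℕ) : ℤ)) pq (by push_cast; omega) h2
      have hc' : (φ.hom (2 + ((m + 1 : ℕ) : ℤ)) (by omega)).f pq =
          (E.iso (2 + m) (2 + ((m + 1 : ℕ) : ℤ)) pq (by push_cast; omega) h2).inv ≫
            HomologicalComplex.homologyMap (φ.hom (2 + m) h2) pq ≫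
            (E'.iso (2 + m) (2 + ((m + 1 : ℕ) : ℤ)) pq (by push_cast; omega) h2).hom := by
        rw [hc, Iso.inv_hom_id_assoc]
      rw [hc']; infer_instance
  refine ⟨le_rfl, fun r h₀ _ pq pq' => hd r h₀ ?_ pq pq'⟩
  obtain ⟨m, rfl⟩ : ∃ m : ℕ, r = 2 + m := ⟨(r - 2).toNat, by omega⟩
  exact hmon m

end Groth.Agent.S19323
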