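import Groth.Statements.S19324
import Groth.Agent.L08.CST.Main

set_option autoImplicit false
universe u
open GLin

namespace Groth.Agent.S19324

/-- Let k be a field and G = Spec A a finite linearly reductive group scheme over k (A a
finite-dimensional commutative Hopf algebra all of whose finite-dimensional comodules are
semisimple), acting on the polynomial ring in finitely many variables through a multiplicative
coaction that is linear (each variable goes to an A-combination of variables) and faithful on linear
forms. If G is generated by pseudo-reflections — the only Hopf ideal contained in every
pseudo-reflection ideal is zero, a pseudo-reflection ideal being a Hopf ideal whose closed subgroup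
scheme fixes a subspace of linear forms of codimension exactly one — then the ring of invariant
polynomials is a polynomial ring over k. (Besides linear reductivity of G the row assumes that every
quotient of A by a Hopf ideal is linearly reductive, i.e. that every closed subgroup scheme of G is
linearly reductive; this holds for finite linearly reductive group schemes and is what the argument
uses about the pseudo-reflection subgroups.) -/
theorem result
    {k : Type u} [Field k] {A : Type u} [CommRing A] [HopfAlgebra k A] [Module.Finite k A]
    (hG : HopfRep.IsLinearlyReductive k A)
    (hsub : ∀ (I : Ideal A) [I.IsHopfIdeal k], HopfRep.IsLinearlyReductive k (A ⧸ I))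
    {ι : Type u} [Fintype ι] [HopfRep.Comod k A (MvPolynomial ι k)]
    [GLin.IsCoactAlg k A (MvPolynomial ι k)]
    (hlin : GLin.IsLinear k A ι) (hf : GLin.IsFaithfulLin k A ι)
    (hgen : GLin.IsGenByPseudoRefl k A ι) :
    ∃ m : ℕ, Nonempty (↥(GLin.invariants k A (MvPolynomial ι k)) ≃ₐ[k] MvPolynomial (Fin m) k) := by
  obtain ⟨b, -, hB, hinj⟩ := Groth.L08.CST.exists_generators hlin hG (fun I _ => hsub I) hgen
  exact ⟨_, ⟨((AlgEquiv.ofInjective _ hinj).trans (Subalgebra.equivOfEq _ _ hB.symm)).symm⟩⟩

end Groth.Agent.S19324
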