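import Groth.Statements.S19325
import Groth.Agent.L08.Dual
import Mathlib.RingTheory.HopfAlgebra.Convolution

set_option autoImplicit false
universe u
open GLin

namespace Groth.Agent.S19325
open Groth.L08 TensorProduct

/-- Let k be a field and G = Spec A a finite linearly reductive group scheme over k acting on the
polynomial ring in finitely many variables through a multiplicative, linear coaction that is
faithful on linear forms. Let H be the closed subgroup scheme generated by the pseudo-reflections of
G, i.e. the one whose ideal is the supremum of all Hopf ideals contained in every pseudo-reflection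
ideal (a pseudo-reflection ideal being a Hopf ideal whose subgroup scheme fixes a subspace of linear
forms of codimension exactly one). Then a polynomial is invariant under H exactly when it is
invariant under every pseudo-reflection: the invariants for the ideal of H are the intersection,
over the pseudo-reflection ideals I, of the invariants for I. -/
theorem result
    {k : Type u} [Field k] {A : Type u} [CommRing A] [HopfAlgebra k A] [Module.Finite k A]
    (hG : HopfRep.IsLinearlyReductive k A)
    {ι : Type u} [Fintype ι] [HopfRep.Comod k A (MvPolynomial ι k)]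
    [GLin.IsCoactAlg k A (MvPolynomial ι k)]
    (hlin : GLin.IsLinear k A ι) (hf : GLin.IsFaithfulLin k A ι) :
    GLin.quotInvariants k A (MvPolynomial ι k) (GLin.genIdeal k A ι) =
      ⨅ (I : Ideal A) (_ : GLin.IsPseudoRefl k A ι I), GLin.quotInvariants k A (MvPolynomial ι k) I := by
  refine le_antisymm (le_iInf₂ fun I hI f hf => ?_) fun f hf => ?_
  · rw [GLin.mem_quotInvariants_iff] at hf ⊢
    have hle : GLin.genIdeal k A ι ≤ I := sSup_le fun J hJ => hJ.2 I hI
    let fac := Ideal.Quotient.factorₐ k hle
    have := congrArg (fac.toLinearMap.lTensor (MvPolynomial ι k)) hf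
    rw [← LinearMap.lTensor_comp_apply, LinearMap.lTensor_tmul] at this
    simpa [fac, ← AlgHom.comp_toLinearMap] using this
  · rw [Submodule.mem_iInf] at hf
    set ρf := HopfRep.Comod.coact (k := k) (A := A) f with hρ
    let J : Ideal A := Ideal.span (Set.range fun g : Module.Dual k (MvPolynomial ι k) =>
      cf (A := A) g f - algebraMap k A (g f))
    have hx : ∀ g : Module.Dual k (MvPolynomial ι k),
        TensorProduct.lid k A (g.rTensor A (ρf - f ⊗ₜ[k] (1 : A))) ∈ J := fun g => by
      rw [map_sub, map_sub, LinearMap.rTensor_tmul, TensorProduct.lid_tmul, ← Algebra.algebraMap_eq_smul_one]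
      exact Ideal.subset_span ⟨g, rfl⟩
    obtain ⟨y, hy⟩ := (mem_range_lTensor_subtype_iff (J.restrictScalars k) _).2 hx
    have hmodJ : ρf = f ⊗ₜ[k] (1 : A) + (J.restrictScalars k).subtype.lTensor _ y := by
      rw [hy]; simp
    have hΔ : ∀ g : Module.Dual k (MvPolynomial ι k), Coalgebra.comul (R := k) (cf (A := A) g f)
        = cf (A := A) g f ⊗ₜ[k] (1 : A) + (cf (A := A) g).rTensor A ((J.restrictScalars k).subtype.lTensor _ y) := by
      intro g
      have h := LinearMap.congr_fun (isComodHom_cf (A := A) g) f
      simp only [LinearMap.comp_apply] at h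
      refine h.trans ?_
      rw [← hρ, hmodJ, map_add, LinearMap.rTensor_tmul]
    haveI hHopf : J.IsHopfIdeal k := by
      refine { toIsCoideal := ⟨fun x hx => ?_, fun x hx => ?_⟩, antipode_mem := fun x hx => ?_ }
      · have : J ≤ RingHom.ker (Bialgebra.counitAlgHom k A) := by
          refine Ideal.span_le.2 ?_
          rintro _ ⟨g, rfl⟩
          simp [RingHom.mem_ker, apply_cf, fAct_counit]
        exact this hx
      · have : J ≤ RingHom.ker ((Algebra.TensorProduct.map (Ideal.Quotient.mkₐ k J) (Ideal.Quotient.mkₐ k J)).comp
            (Bialgebra.comulAlgHom k A)) := by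
          refine Ideal.span_le.2 ?_
          rintro _ ⟨g, rfl⟩
          have hq : ∀ z : MvPolynomial ι k ⊗[k] J.restrictScalars k,
              Algebra.TensorProduct.map (Ideal.Quotient.mkₐ k J) (Ideal.Quotient.mkₐ k J)
                ((cf (A := A) g).rTensor A ((J.restrictScalars k).subtype.lTensor _ z)) = 0 := by
            intro z
            induction z using TensorProduct.induction_on with
            | zero => simp
            | add a b ha hb => simp only [map_add, ha, hb, add_zero]
            | tmul a b => simp [Ideal.Quotient.eq_zero_iff_mem.2 b.2]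
          have hg : Ideal.Quotient.mkₐ k J (cf (A := A) g f - algebraMap k A (g f)) = 0 :=
            Ideal.Quotient.eq_zero_iff_mem.2 (Ideal.subset_span ⟨g, rfl⟩)
          rw [map_sub, AlgHom.commutes, sub_eq_zero] at hg
          rw [SetLike.mem_coe, RingHom.mem_ker, map_sub, AlgHom.commutes, AlgHom.comp_apply,
            Bialgebra.comulAlgHom_apply, hΔ, map_add, hq, add_zero, Algebra.TensorProduct.map_tmul,
            hg, map_one, Algebra.TensorProduct.algebraMap_apply, sub_self]
        exact this hx
      · have : J ≤ J.comap (HopfAlgebra.antipodeAlgHom k A) := by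
          refine Ideal.span_le.2 ?_
          rintro _ ⟨g, rfl⟩
          have hq : ∀ z : MvPolynomial ι k ⊗[k] J.restrictScalars k,
              LinearMap.mul' k A ((HopfAlgebraStruct.antipode (R := k)).rTensor A
                ((cf (A := A) g).rTensor A ((J.restrictScalars k).subtype.lTensor _ z))) ∈ J := by
            intro z
            induction z using TensorProduct.induction_on with
            | zero => simp
            | add a b ha hb => simp only [map_add]; exact add_mem ha hb
            | tmul a b => simpa using J.mul_mem_left _ b.2
          have h := HopfAlgebra.mul_antipode_rTensor_comul_apply (R := k) (cf (A := A) g f)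
          rw [hΔ, map_add, map_add, LinearMap.rTensor_tmul, LinearMap.mul'_apply, mul_one, apply_cf,
            fAct_counit, LinearMap.id_apply] at h
          rw [SetLike.mem_coe, Ideal.mem_comap, map_sub, AlgHom.commutes]
          have h' : HopfAlgebra.antipodeAlgHom k A (cf (A := A) g f) - algebraMap k A (g f)
              = - LinearMap.mul' k A ((HopfAlgebraStruct.antipode (R := k)).rTensor A
                ((cf (A := A) g).rTensor A ((J.restrictScalars k).subtype.lTensor _ y))) := by
            rw [← h]; simp
          rw [h']
          exact neg_mem (hq y)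
        exact this hx
    have hle : J ≤ GLin.genIdeal k A ι := le_sSup ⟨hHopf, fun I hI => by
      refine Ideal.span_le.2 ?_
      rintro _ ⟨g, rfl⟩
      have h := hf I
      rw [Submodule.mem_iInf] at h
      have h2 := congrArg (fun z => TensorProduct.lid k (A ⧸ I) (g.rTensor (A ⧸ I) z))
        ((GLin.mem_quotInvariants_iff k A _ I f).1 (h hI))
      rw [SetLike.mem_coe, ← Ideal.Quotient.eq_zero_iff_mem]
      change Ideal.Quotient.mkₐ k I (cf (A := A) g f - algebraMap k A (g f)) = 0
      rw [map_sub, AlgHom.commutes, sub_eq_zero, Algebra.algebraMap_eq_smul_one]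
      refine Eq.trans ?_ (h2.trans (by simp))
      rw [cf_apply, ← hρ]
      induction ρf using TensorProduct.induction_on with
      | zero => simp
      | add a b ha hb => simp only [map_add, ha, hb]
      | tmul a b => simp⟩
    rw [GLin.mem_quotInvariants_iff, ← hρ, hmodJ, map_add, LinearMap.lTensor_tmul, ← LinearMap.lTensor_comp_apply]
    have : (Ideal.Quotient.mkₐ k (GLin.genIdeal k A ι)).toLinearMap ∘ₗ (J.restrictScalars k).subtype = 0 :=
      LinearMap.ext fun z => Ideal.Quotient.eq_zero_iff_mem.2 (hle z.2)
    rw [this]
    simp

end Groth.Agent.S19325
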