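import Groth.Statements.S19326
import Groth.Agent.L08.Diag
import Mathlib.RingTheory.Bialgebra.MonoidAlgebra

set_option autoImplicit false
universe u
open TensorProduct
open GLin

namespace Groth.Agent.S19326
open Groth.L08 TensorProduct

/-- Let k be a field, M a finite abelian group and D = Spec k[M] the finite diagonalizable group scheme
it defines, acting on an affine k-scheme U = Spec R through a multiplicative coaction R → R ⊗ k[M];
write R_a for the weight space of a ∈ M (elements with coaction f ⊗ a). For an ideal J of R the
induced action of D on the closed subscheme V(J) is trivial, meaning that the coaction followed by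
reduction modulo J equals f ↦ (f mod J) ⊗ 1, exactly when J contains the ideal generated by the
weight spaces R_a for a ≠ 0; in other words that ideal defines the largest closed subscheme of U on
which D acts trivially. (The printed setting has U smooth, which plays no role here and is not
assumed; the further assertion that the construction commutes with flat base change on U/D is not
part of this statement.) -/
theorem result
    {k : Type u} [Field k] {M : Type u} [AddCommGroup M] [Finite M]
    {R : Type u} [CommRing R] [Algebra k R] [HopfRep.Comod k (AddMonoidAlgebra k M) R]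
    [GLin.IsCoactAlg k (AddMonoidAlgebra k M) R] (J : Ideal R) :
    (∀ f : R, LinearMap.rTensor (AddMonoidAlgebra k M) (Ideal.Quotient.mkₐ k J).toLinearMap
        (HopfRep.Comod.coact (k := k) (A := AddMonoidAlgebra k M) f) =
        (Ideal.Quotient.mk J f) ⊗ₜ[k] (1 : AddMonoidAlgebra k M)) ↔
      Ideal.span (⋃ (a : M) (_ : a ≠ 0),
        (HopfRep.eigenspace k (AddMonoidAlgebra k M) R (AddMonoidAlgebra.single a 1) : Set R)) ≤ J := by
  classical
  constructor
  · intro h
    refine Ideal.span_le.2 fun f hf => ?_
    simp only [Set.mem_iUnion] at hf
    obtain ⟨a, ha, hf⟩ := hf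
    replace hf : HopfRep.Comod.coact (k := k) (A := AddMonoidAlgebra k M) f = f ⊗ₜ[k] AddMonoidAlgebra.single a (1 : k) := hf
    have h1 := h f
    rw [hf, LinearMap.rTensor_tmul] at h1
    have h2 := congrArg (fun z => TensorProduct.rid k (R ⧸ J)
      (LinearMap.lTensor (R ⧸ J) (Finsupp.lapply a ∘ₗ (AddMonoidAlgebra.coeffLinearEquiv k).toLinearMap) z)) h1
    simp [AddMonoidAlgebra.one_def, Finsupp.single_apply, ha, Ne.symm ha] at h2
    exact Ideal.Quotient.eq_zero_iff_mem.1 h2
  · intro h f
    have hd : HopfRep.IsDiagonalizable k (AddMonoidAlgebra k M) := AddMonoidAlgebra.span_isGroupLikeElem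
    have hf : f ∈ Submodule.span k {v : R | ∃ a : AddMonoidAlgebra k M, IsGroupLikeElem k a ∧
        HopfRep.Comod.coact (k := k) (A := AddMonoidAlgebra k M) v = v ⊗ₜ[k] a} := by
      rw [span_eigenvectors_eq_top hd]; trivial
    induction hf using Submodule.span_induction with
    | mem v hv =>
      obtain ⟨g, hg, hv⟩ := hv
      obtain ⟨a, rfl⟩ := AddMonoidAlgebra.isGroupLikeElem_iff_mem_range_single_one.1 hg
      rw [hv, LinearMap.rTensor_tmul]
      by_cases ha : a = 0
      · subst ha; rfl
      · have : v ∈ J := h (Ideal.subset_span (Set.mem_iUnion₂.2 ⟨a, ha, hv⟩))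
        simp [Ideal.Quotient.eq_zero_iff_mem.2 this]
    | zero => simp
    | add x y _ _ hx hy => simp only [map_add, hx, hy, TensorProduct.add_tmul]
    | smul c x _ hx =>
      rw [map_smul, map_smul, hx, TensorProduct.smul_tmul', Algebra.smul_def c x, map_mul]
      rw [Algebra.smul_def]; rfl

end Groth.Agent.S19326
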