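import Groth.Statements.S19328
import Groth.Agent.L13.FppfLocal.Basic

set_option autoImplicit false
universe u
open CategoryTheory CategoryTheory.Limits AlgebraicGeometry
open ModPair

namespace Groth.Agent.S19328

/-- Let A be a commutative ring such that Spec A is local for fppf coverings, in the sense that for
every scheme X, every jointly surjective family of morphisms to X each of which is flat and of
finite presentation (locally of finite presentation, quasi-compact and quasi-separated), and every
morphism Spec A ⟶ X, the morphism factors through a member of the family. Then the residue field of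
A at every prime ideal is algebraically closed. -/
theorem result (A : Type u) [CommRing A]
    (hloc : ∀ (X : Scheme.{u}) (R : Presieve X),
      R ∈ Scheme.precoverage (@Flat ⊓ @LocallyOfFinitePresentation ⊓ @QuasiCompact ⊓ @QuasiSeparated) X →
      ∀ g : Spec (CommRingCat.of A) ⟶ X,
        ∃ (Y : Scheme.{u}) (v : Y ⟶ X) (h : Spec (CommRingCat.of A) ⟶ Y), R v ∧ h ≫ v = g)
    (p : Ideal A) [p.IsPrime] : IsAlgClosed p.ResidueField := by
  refine L13.FppfLocal.isAlgClosed_residueField hloc (fun B φ hf hflat hfp => ?_) p
  haveI : IsFinite (Spec.map φ) := (IsFinite.SpecMap_iff _).2 hf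
  exact ⟨⟨⟨(HasRingHomProperty.Spec_iff (P := @Flat)).2 hflat,
    (HasRingHomProperty.Spec_iff (P := @LocallyOfFinitePresentation)).2 hfp⟩, inferInstance⟩, inferInstance⟩

end Groth.Agent.S19328
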