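import Groth.Statements.S19331
import Groth.Agent.L13.ModPair.Basic
import Groth.Agent.L19.Approx.Zmt

set_option autoImplicit false
universe u
open CategoryTheory CategoryTheory.Limits AlgebraicGeometry TopologicalSpace
open ModPair

namespace Groth.Agent.S19331

/-- Let (S, I) be a modulus pair, i.e. a scheme with the quasi-coherent ideal sheaf of an effective
Cartier divisor, with S quasi-compact and quasi-separated and with interior U, and let t₀ : T₀ ⟶ U
be a finite surjective morphism. Then there are a finite surjective morphism t : T ⟶ S such that the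
pulled-back modulus I.comap t is again the ideal sheaf of an effective Cartier divisor, making T ⟶ S
a minimal morphism of modulus pairs, and an open immersion j : T₀ ⟶ T with image t⁻¹(U) and j ≫ t =
t₀ ≫ (U ⟶ S), so that t₀ is the interior of t. -/
theorem result {S : Scheme.{u}}
    [CompactSpace S] [QuasiSeparatedSpace S] (I : S.IdealSheafData)
    (hI : BlowUp.IsEffCartierIdeal I) {T₀ : Scheme.{u}}
    (t₀ : T₀ ⟶ (ModPair.interior I : Scheme.{u})) [IsFinite t₀] [Surjective t₀] :
    ∃ (T : Scheme.{u}) (t : T ⟶ S) (j : T₀ ⟶ T), IsFinite t ∧ Surjective t ∧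
      BlowUp.IsEffCartierIdeal (I.comap t) ∧ IsOpenImmersion j ∧
      Set.range j.base = t.base ⁻¹' (ModPair.interior I : Set S) ∧
      j ≫ t = t₀ ≫ (ModPair.interior I).ι := by
  haveI hqU := Groth.L13.MP.quasiCompact_interior hI
  haveI := Groth.L13.MP.isAffineHom_interior hI
  haveI hdI := Groth.L13.MP.dominant_interior hI
  obtain ⟨T, j, π, hj, hjq, hπ, hjπ⟩ := Groth.L19.Approx.exists_openImmersion_finite (t₀ ≫ (ModPair.interior I).ι)
  haveI := Groth.L13.MP.dominant_toImage j
  haveI : IsOpenImmersion (j.toImage ≫ j.imageι) := by rw [Scheme.Hom.toImage_imageι]; exact hj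
  have hjo : IsOpenImmersion j.toImage :=
    MorphismProperty.of_isPullback (P := @IsOpenImmersion)
      (show IsPullback (𝟙 T₀) j.toImage j j.imageι from ⟨⟨by rw [Category.id_comp, Scheme.Hom.toImage_imageι]⟩,
        ⟨PullbackCone.IsLimit.mk _ (fun s => s.fst) (fun s => Category.comp_id _)
          (fun s => by rw [← cancel_mono j.imageι, Category.assoc, Scheme.Hom.toImage_imageι, s.condition])
          (fun s m h _ => (Category.comp_id m).symm.trans h)⟩⟩) hj
  let t := j.imageι ≫ π
  have hcomp : j.toImage ≫ t = t₀ ≫ (ModPair.interior I).ι := by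
    rw [← hjπ, Scheme.Hom.toImage_imageι_assoc]
  have hrange : Set.range j.toImage = t.base ⁻¹' (ModPair.interior I : Set S) := by
    let V := t ⁻¹ᵁ ModPair.interior I
    have hmem : ∀ x, j.toImage x ∈ V := fun x => by
      show (j.toImage ≫ t) x ∈ ModPair.interior I
      rw [hcomp]
      exact (t₀ x).2
    let l : T₀ ⟶ V.toScheme := IsOpenImmersion.lift V.ι j.toImage (by rw [Scheme.Opens.range_ι]; rintro _ ⟨x, rfl⟩; exact hmem x)
    have hl : l ≫ V.ι = j.toImage := IsOpenImmersion.lift_fac _ _ _
    have hlt : l ≫ (t ∣_ ModPair.interior I) = t₀ := by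
      rw [← cancel_mono (ModPair.interior I).ι, Category.assoc, morphismRestrict_ι, reassoc_of% hl, hcomp]
    haveI : IsFinite (l ≫ (t ∣_ ModPair.interior I)) := hlt.symm ▸ inferInstance
    haveI : IsFinite l := MorphismProperty.of_postcomp @IsFinite l (t ∣_ ModPair.interior I)
      (IsZariskiLocalAtTarget.restrict (P := @IsSeparated) inferInstance _) inferInstance
    have hclosed : IsClosed (Set.range l) := l.isClosedMap.isClosed_range
    refine Set.Subset.antisymm (fun y hy => ?_) fun y hy => ?_
    · obtain ⟨x, rfl⟩ := hy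
      exact hmem x
    · have hd : Dense (Set.range j.toImage) := j.toImage.denseRange
      have h1 : (⟨y, hy⟩ : V.toScheme) ∈ closure (Set.range l) := by
        refine mem_closure_iff.2 fun O hO hyO => ?_
        obtain ⟨_, hz, x, rfl⟩ := mem_closure_iff.1 (hd y) _ (V.ι.isOpenEmbedding.isOpenMap O hO) ⟨_, hyO, rfl⟩
        obtain ⟨w, hw, hwx⟩ := hz
        refine ⟨w, hw, x, V.ι.isOpenEmbedding.injective ?_⟩
        rw [hwx]
        exact congrArg (fun g => g x) hl
      rw [hclosed.closure_eq] at h1
      obtain ⟨x, hx⟩ := h1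
      exact ⟨x, (congrArg (fun g => g x) hl).symm.trans (congrArg V.ι hx)⟩
  refine ⟨_, t, j.toImage, inferInstance, ⟨fun s => ?_⟩, ?_, hjo, hrange, hcomp⟩
  · have hdense : Dense (ModPair.interior I : Set S) := by
      have := (ModPair.interior I).ι.denseRange
      rwa [DenseRange, Scheme.Opens.range_ι] at this
    have hclosed : IsClosed (Set.range t) := t.isClosedMap.isClosed_range
    have hsub : (ModPair.interior I : Set S) ⊆ Set.range t := fun u hu => by
      obtain ⟨x, hx⟩ := t₀.surjective ⟨u, hu⟩
      exact ⟨j.toImage x, (congrArg (fun g => g x) hcomp).trans (congrArg Subtype.val hx)⟩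
    exact closure_minimal hsub hclosed (hdense s)
  · let W : (j.image).Opens := t ⁻¹ᵁ ModPair.interior I
    haveI : QuasiCompact W.ι := Groth.L13.MP.quasiCompact_preimage t hqU
    haveI : IsSchemeTheoreticallyDominant W.ι := by
      refine ⟨le_bot_iff.1 ?_⟩
      let l : T₀ ⟶ W.toScheme := IsOpenImmersion.lift W.ι j.toImage (by rintro z hz; rw [Scheme.Opens.range_ι]; rw [hrange] at hz; exact hz)
      have hl : l ≫ W.ι = j.toImage := IsOpenImmersion.lift_fac _ _ _
      rw [← (j.toImage).ker_eq_bot, ← hl]
      exact Scheme.Hom.le_ker_comp _ _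
    exact Groth.L13.MP.isEffCartier_comap t hI (W := W) le_rfl

end Groth.Agent.S19331
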