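import Groth.Statements.S19333
import Mathlib.RingTheory.Valuation.LocalSubring
import Mathlib.RingTheory.Localization.FractionRing
import Mathlib.RingTheory.Ideal.Maximal

set_option autoImplicit false
universe u
open ModPair

namespace Groth.Agent.S19333

/-- Let A → B be any homomorphism of commutative rings. An element x of B is integral over A if and only
if for every field K, every valuation subring R of K and every ring homomorphism φ : B → K which
sends the image of A into R, the element φ(x) lies in R. In other words the integral closure of A in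
B is the intersection of the subrings R ×_K B taken over all commutative squares A → R ⊆ K ← B with
R a valuation ring of the field K. -/
theorem result {A B : Type u} [CommRing A]
    [CommRing B] [Algebra A B] (x : B) :
    x ∈ integralClosure A B ↔
      ∀ (K : Type u) [Field K] (R : ValuationSubring K) (φ : B →+* K),
        (∀ a : A, φ (algebraMap A B a) ∈ R) → φ x ∈ R := by
  constructor
  · intro hx K _ R φ hφ
    obtain ⟨P, hP, hPx⟩ := hx
    let ψ : A →+* R := (φ.comp (algebraMap A B)).codRestrict R hφ
    have hint : IsIntegral R (φ x) := ⟨P.map ψ, hP.map ψ, by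
      rw [Polynomial.eval₂_map, show (algebraMap R K).comp ψ = φ.comp (algebraMap A B) from rfl,
        ← Polynomial.hom_eval₂, hPx, map_zero]⟩
    obtain ⟨y, hy⟩ := IsIntegrallyClosed.isIntegral_iff.1 hint
    exact hy ▸ y.2
  · intro h
    by_contra hx
    let S : Submonoid B :=
      { carrier := {b | ∃ P : Polynomial A, P.Monic ∧ Polynomial.aeval x P = b}
        one_mem' := ⟨1, Polynomial.monic_one, map_one _⟩
        mul_mem' := by
          rintro _ _ ⟨P, hP, rfl⟩ ⟨Q, hQ, rfl⟩
          exact ⟨P * Q, hP.mul hQ, map_mul _ _ _⟩ }
    have h0 : Disjoint ((⊥ : Ideal B) : Set B) (S : Set B) := by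
      rw [Set.disjoint_left]
      rintro b hb ⟨P, hP, hPb⟩
      rw [SetLike.mem_coe, Ideal.mem_bot] at hb
      exact hx ⟨P, hP, by rw [← Polynomial.aeval_def, hPb, hb]⟩
    obtain ⟨Q, hQ, -, hQS⟩ := Ideal.exists_le_prime_disjoint ⊥ S h0
    let K := FractionRing (B ⧸ Q)
    let φ : B →+* K := (algebraMap (B ⧸ Q) K).comp (Ideal.Quotient.mk Q)
    letI : Algebra A K := (φ.comp (algebraMap A B)).toAlgebra
    have hnot : φ x ∉ (integralClosure A K).toSubring := by
      rintro ⟨P, hP, hPx⟩
      have h1 : φ (Polynomial.aeval x P) = 0 := by
        rw [Polynomial.aeval_def, Polynomial.hom_eval₂]; exact hPx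
      have h2 : Polynomial.aeval x P ∈ Q := Ideal.Quotient.eq_zero_iff_mem.1
        (IsFractionRing.injective (B ⧸ Q) K (by rw [map_zero]; exact h1))
      exact Set.disjoint_left.1 hQS h2 ⟨P, hP, rfl⟩
    haveI : IsIntegrallyClosedIn (integralClosure A K).toSubring K :=
      inferInstanceAs (IsIntegrallyClosedIn (integralClosure A K) K)
    obtain ⟨V, hV, hxV⟩ := Subring.exists_le_valuationSubring_of_isIntegrallyClosedIn hnot
    exact hxV (h K V φ fun a => hV ((integralClosure A K).algebraMap_mem a))

end Groth.Agent.S19333
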