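import Groth.Statements.S19334
import Groth.Agent.L13.ModPair.ValPoint

set_option autoImplicit false
universe u
open CategoryTheory CategoryTheory.Limits AlgebraicGeometry TopologicalSpace
open ModPair

namespace Groth.Agent.S19334

/-- Let (X, I) be a modulus pair, i.e. a scheme X with the quasi-coherent ideal sheaf I of an effective
Cartier divisor. Suppose that for every valuation ring R and every morphism p : Spec R ⟶ X along
which the divisor of I pulls back to an effective Cartier divisor on Spec R (so that p is a minimal
morphism of modulus pairs for the pulled-back modulus), the pulled-back divisor is empty, I.comap p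
= ⊤. Then the divisor of I is empty: I = ⊤. -/
theorem result {X : Scheme.{u}}
    (I : X.IdealSheafData) (hI : BlowUp.IsEffCartierIdeal I)
    (h : ∀ (R : Type u) [CommRing R] [IsDomain R] [ValuationRing R]
      (p : Spec (CommRingCat.of R) ⟶ X), BlowUp.IsEffCartierIdeal (I.comap p) → I.comap p = ⊤) :
    I = ⊤ := by
  choose U hxU t ht hIU using fun x => hI x
  refine eq_top_iff.2 (Scheme.IdealSheafData.le_of_iSup_eq_top U
    (eq_top_iff.2 fun x _ => Opens.mem_iSup.2 ⟨x, hxU x⟩) fun x => ?_)
  rw [hIU x, Ideal.span_singleton_eq_top.2 ?_]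
  · exact le_top
  by_contra hu
  obtain ⟨z, hz, htz⟩ := Ideal.exists_le_maximal (Ideal.span {t x}) (mt Ideal.span_singleton_eq_top.1 hu)
  rw [Ideal.span_singleton_le_iff_mem] at htz
  obtain ⟨V, _, _, _, χ, hχ0, hχu, hχp⟩ := Groth.L13.MP.exists_valuation_point (t x) (ht x) z htz
  have hI' := Groth.L13.MP.comap_point I (U x) (hIU x) χ
  have h1 := h V _ (Groth.L13.MP.isEffCartier_of_top (mem_nonZeroDivisors_of_ne_zero hχ0) hI')
  rw [h1] at hI'
  exact hχu _ htz ((Groth.L13.MP.span_inv_eq_top_iff _).1 (hI'.symm.trans (congrFun Scheme.IdealSheafData.ideal_top _)))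

end Groth.Agent.S19334
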