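import Groth.Statements.S19335
import Groth.Agent.L13.ModPair.ValPoint

set_option autoImplicit false
universe u
open CategoryTheory CategoryTheory.Limits AlgebraicGeometry TopologicalSpace
open ModPair

namespace Groth.Agent.S19335

/-- Let X be a scheme and I, J quasi-coherent ideal sheaves of effective Cartier divisors D_I ≤ D_J on
X, i.e. J ≤ I. Suppose that for every valuation ring R and every morphism p : Spec R ⟶ X such that
I.comap p is the ideal sheaf of an effective Cartier divisor on Spec R (so p is a minimal morphism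
of modulus pairs for (X, I)) whose open complement consists of the generic point of Spec R only, the
two divisors agree after pull-back, I.comap p = J.comap p. Then I = J. -/
theorem result {X : Scheme.{u}} (I J : X.IdealSheafData)
    (hI : BlowUp.IsEffCartierIdeal I) (hJ : BlowUp.IsEffCartierIdeal J) (hJI : J ≤ I)
    (h : ∀ (R : Type u) [CommRing R] [IsDomain R] [ValuationRing R]
      (p : Spec (CommRingCat.of R) ⟶ X), BlowUp.IsEffCartierIdeal (I.comap p) →
        (∀ x : Spec (CommRingCat.of R),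
          x ∈ (ModPair.interior (I.comap p) : Set (Spec (CommRingCat.of R))) ↔ x.asIdeal = ⊥) →
        I.comap p = J.comap p) :
    I = J := by
  refine le_antisymm ?_ hJI
  choose U hxU b hb hIU hbV using Groth.L22.Ideals.exists_generator hI
  choose U' hxU' a ha hJU haV using Groth.L22.Ideals.exists_generator hJ
  choose W hW hxW hWle using fun x => X.isBasis_affineOpens.exists_subset_of_mem_open
    (show x ∈ (U x).1 ⊓ (U' x).1 from ⟨hxU x, hxU' x⟩) ((U x).1 ⊓ (U' x).1).2
  choose Wa hWa hWae using hW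
  refine Scheme.IdealSheafData.le_of_iSup_eq_top (fun x => (⟨Wa x, hWa x⟩ : X.affineOpens))
    (eq_top_iff.2 fun x _ => Opens.mem_iSup.2 ⟨x, by rw [← SetLike.mem_coe, hWae x]; exact hxW x⟩) fun x => ?_
  obtain ⟨hb', hbW⟩ := hbV x ⟨Wa x, hWa x⟩ (fun y hy => (hWle x (hWae x ▸ hy)).1)
  obtain ⟨ha', haW⟩ := haV x ⟨Wa x, hWa x⟩ (fun y hy => (hWle x (hWae x ▸ hy)).2)
  obtain ⟨c, hc⟩ := Ideal.mem_span_singleton.1 (hbW ▸ hJI _ (haW.symm ▸ Ideal.mem_span_singleton_self _))
  rw [hbW, haW, Ideal.span_singleton_le_span_singleton]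
  suffices IsUnit c by rw [hc]; exact (this.mul_right_dvd).2 dvd_rfl
  by_contra hu
  obtain ⟨z, hz, hcz⟩ := Ideal.exists_le_maximal (Ideal.span {c}) (mt Ideal.span_singleton_eq_top.1 hu)
  rw [Ideal.span_singleton_le_iff_mem] at hcz
  have main : ∀ (V : Type u) (_ : CommRing V) (_ : IsDomain V) (_ : ValuationRing V)
      (χ : Γ(X, Wa x) →+* V), χ (X.presheaf.map (homOfLE (fun y hy => (hWle x (hWae x ▸ hy)).1)).op (b x)) ≠ 0 →
      (∀ q : Ideal V, q.IsPrime → χ (X.presheaf.map (homOfLE (fun y hy => (hWle x (hWae x ▸ hy)).1)).op (b x)) ∉ q → q = ⊥) →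
      IsUnit (χ c) := by
    intro V _ _ _ χ hχ0 hχp
    have hI' := Groth.L13.MP.comap_point I ⟨Wa x, hWa x⟩ hbW χ
    have hJ' := Groth.L13.MP.comap_point J ⟨Wa x, hWa x⟩ haW χ
    have h1 := h V _ (Groth.L13.MP.isEffCartier_of_top (mem_nonZeroDivisors_of_ne_zero hχ0) hI') (fun y => by
      rw [SetLike.mem_coe, Groth.L13.MP.mem_interior_of_top hI']
      exact ⟨hχp _ y.isPrime, fun hy => by rw [hy]; exact fun h' => hχ0 h'⟩)
    rw [h1, hJ', Ideal.span_singleton_eq_span_singleton, hc, map_mul, map_mul] at hI'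
    obtain ⟨w, hw⟩ := hI'
    let e := (Scheme.ΓSpecIso (CommRingCat.of V)).commRingCatIsoToRingEquiv
    have h2 := congrArg e hw
    rw [map_mul, map_mul] at h2
    rw [show e ((Scheme.ΓSpecIso (CommRingCat.of V)).inv (χ _)) = χ _ from e.apply_symm_apply _,
      show e ((Scheme.ΓSpecIso (CommRingCat.of V)).inv (χ c)) = χ c from e.apply_symm_apply _, mul_assoc] at h2
    exact IsUnit.of_mul_eq_one _ (mul_left_cancel₀ hχ0 (h2.trans (mul_one _).symm))
  by_cases hbz : X.presheaf.map (homOfLE (fun y hy => (hWle x (hWae x ▸ hy)).1)).op (b x) ∈ z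
  · obtain ⟨V, _, _, _, χ, hχ0, hχu, hχp⟩ := Groth.L13.MP.exists_valuation_point _ hb' z hbz
    exact hχu c hcz (main V _ inferInstance inferInstance χ hχ0 hχp)
  · let χ := algebraMap Γ(X, Wa x) z.ResidueField
    have hc0 : χ c = 0 := Ideal.algebraMap_residueField_eq_zero.2 hcz
    have h2 := main z.ResidueField _ inferInstance inferInstance χ (fun h0 => hbz (Ideal.algebraMap_residueField_eq_zero.1 h0))
      (fun q hq _ => (Ideal.eq_bot_or_top q).resolve_right hq.ne_top)
    rw [hc0] at h2
    exact not_isUnit_zero h2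

end Groth.Agent.S19335
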