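import Groth.Statements.S19336
import Groth.Agent.L13.ZarExt.Main

set_option autoImplicit false
universe u
open CategoryTheory CategoryTheory.Limits AlgebraicGeometry TopologicalSpace
open ModPair

namespace Groth.Agent.S19336

/-- Let (S, I) be a modulus pair, i.e. a scheme S with the quasi-coherent ideal sheaf I of an effective
Cartier divisor, with S quasi-compact and quasi-separated and with interior U, and let (V_i) be a
covering of U by quasi-compact open subsets. Then there are a quasi-coherent ideal sheaf F of finite
type on S whose support is disjoint from U, a blow-up b : Y ⟶ S of S in F (an admissible blow-up)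
such that I.comap b is again the ideal sheaf of an effective Cartier divisor, and a covering of Y by
quasi-compact open subsets W_j such that each W_j ∩ b⁻¹(U) is contained in b⁻¹(V_i) for some i: the
Zariski covering of the interior extends, after an admissible blow-up, to a Zariski covering of the
total space. -/
theorem result {S : Scheme.{u}}
    [CompactSpace S] [QuasiSeparatedSpace S] (I : S.IdealSheafData)
    (hI : BlowUp.IsEffCartierIdeal I) {ι : Type u} (V : ι → S.Opens)
    (hVU : ∀ i, V i ≤ ModPair.interior I) (hVqc : ∀ i, IsCompact (V i : Set S))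
    (hcov : ModPair.interior I ≤ ⨆ i, V i) :
    ∃ (F : S.IdealSheafData) (Y : Scheme.{u}) (b : Y ⟶ S) (κ : Type u) (W : κ → Y.Opens),
      BlowUp.IsAdmissibleFor (ModPair.interior I) F ∧ BlowUp.IsBlowUp b F ∧
        BlowUp.IsEffCartierIdeal (I.comap b) ∧ (∀ k, IsCompact (W k : Set Y)) ∧
        (⨆ k, W k) = ⊤ ∧ ∀ k, ∃ i, W k ⊓ b ⁻¹ᵁ ModPair.interior I ≤ b ⁻¹ᵁ V i := by
  exact Groth.L13.MP.exists_extend_cover I hI V hVqc hcov

end Groth.Agent.S19336
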