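import Groth.Statements.S19338

set_option autoImplicit false
universe w v u
open CategoryTheory
open ModPair

namespace Groth.Agent.S19338

/-- Let C be a category and S a class of morphisms which contains the identities, is closed under
composition, admits a right calculus of fractions, and consists of monomorphisms. Then the sieves
containing a morphism of S are the covering sieves of a Grothendieck topology on C, and for every
such topology J a presheaf of types F on C is a J-sheaf if and only if it is S-local, i.e. F sends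
every morphism of S to a bijection. -/
theorem result {C : Type u} [Category.{v} C]
    (S : MorphismProperty C) [S.HasRightCalculusOfFractions]
    (hmono : ∀ ⦃X Y : C⦄ (s : X ⟶ Y), S s → Mono s) :
    (∃ J : GrothendieckTopology C, ∀ (X : C) (T : Sieve X),
        T ∈ J X ↔ ∃ (Y : C) (s : Y ⟶ X), S s ∧ T s) ∧
      ∀ J : GrothendieckTopology C, (∀ (X : C) (T : Sieve X),
          T ∈ J X ↔ ∃ (Y : C) (s : Y ⟶ X), S s ∧ T s) →
        ∀ F : Cᵒᵖ ⥤ Type w,
          Presheaf.IsSheaf J F ↔ ∀ ⦃X Y : C⦄ (s : X ⟶ Y), S s → IsIso (F.map s.op) := by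
  refine ⟨⟨{ sieves := fun X => {T | ∃ (Y : C) (s : Y ⟶ X), S s ∧ T s}
             top_mem' := fun X => ⟨X, 𝟙 X, S.id_mem X, trivial⟩
             pullback_stable' := ?_
             transitive' := ?_ }, fun X T => Iff.rfl⟩, fun J hJ F => ?_⟩
  · rintro X Y T f ⟨Z, s, hs, hT⟩
    obtain ⟨χ, hχ⟩ := MorphismProperty.HasRightCalculusOfFractions.exists_rightFraction
      (MorphismProperty.LeftFraction.mk f s hs)
    dsimp at hχ
    exact ⟨_, χ.s, χ.hs, show T (χ.s ≫ f) from hχ ▸ T.downward_closed hT _⟩
  · rintro X T ⟨Y, s, hs, hT⟩ R hR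
    obtain ⟨Z, s', hs', hR'⟩ := hR hT
    exact ⟨Z, s' ≫ s, S.comp_mem _ _ hs' hs, hR'⟩
  rw [isSheaf_iff_isSheaf_of_type]
  constructor
  · intro hF X Y s hs
    haveI := hmono s hs
    have h1 : Presieve.IsSheafFor F (Presieve.singleton s) := by
      rw [Presieve.isSheafFor_iff_generate]
      exact hF _ ((hJ _ _).2 ⟨X, s, hs, X, 𝟙 X, s, Presieve.singleton_self s, Category.id_comp s⟩)
    rw [Presieve.isSheafFor_singleton] at h1
    rw [isIso_iff_bijective]
    exact Function.bijective_iff_existsUnique _ |>.2 fun x =>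
      h1 x fun p₁ p₂ h => by rw [(cancel_mono s).1 h]
  · intro hF X T hT x hx
    obtain ⟨Y, s, hs, hTs⟩ := (hJ _ _).1 hT
    have hbij := (isIso_iff_bijective _).1 (hF s hs)
    obtain ⟨z, hz⟩ := hbij.2 (x s hTs)
    refine ⟨z, fun Z f hf => ?_, fun w hw => hbij.1 ((hw s hTs).trans hz.symm)⟩
    obtain ⟨χ, hχ⟩ := MorphismProperty.HasRightCalculusOfFractions.exists_rightFraction
      (MorphismProperty.LeftFraction.mk f s hs)
    dsimp at hχ
    apply ((isIso_iff_bijective _).1 (hF χ.s χ.hs)).1
    have h2 := hx χ.s χ.f hf hTs hχ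
    rw [h2, ← hz, ← Functor.map_comp_apply, ← Functor.map_comp_apply, ← op_comp, ← op_comp, hχ]

end Groth.Agent.S19338
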