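import Groth.Statements.S19340

set_option autoImplicit false
universe v v' u u'
open CategoryTheory
open ModPair

namespace Groth.Agent.S19340

/-- Let C be a category, S a class of morphisms of C containing the identities, closed under composition
and admitting a right calculus of fractions, and L : C ⥤ D a localization functor for S. Then for
every object X of C the comma category of L under X, whose objects are pairs (Y, L(X) ⟶ L(Y)) and
whose morphisms are morphisms Y ⟶ Y' of C compatible with the structure maps, is cofiltered. The
published statement calls this category filtered; its proof verifies, and this row states,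
cofilteredness. -/
theorem result {C : Type u}
    [Category.{v} C] {D : Type u'} [Category.{v'} D] (S : MorphismProperty C)
    [S.HasRightCalculusOfFractions] (L : C ⥤ D) [L.IsLocalization S] (X : C) :
    IsCofiltered (StructuredArrow (L.obj X) L) := by
  haveI : IsCofilteredOrEmpty (StructuredArrow (L.obj X) L) :=
    { cone_objs := fun A B => by
        obtain ⟨φ, hφ⟩ := Localization.exists_rightFraction L S A.hom
        obtain ⟨ψ, hψ⟩ := Localization.exists_rightFraction L S B.hom
        obtain ⟨χ, hχ⟩ := MorphismProperty.HasRightCalculusOfFractions.exists_rightFraction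
          (MorphismProperty.LeftFraction.mk φ.s ψ.s ψ.hs)
        dsimp at hχ
        haveI := Localization.inverts L S _ φ.hs
        haveI := Localization.inverts L S _ χ.hs
        refine ⟨StructuredArrow.mk (inv (L.map χ.s ≫ L.map φ.s)),
          StructuredArrow.homMk (χ.s ≫ φ.f) ?_, StructuredArrow.homMk (χ.f ≫ ψ.f) ?_, trivial⟩
        · show inv (L.map χ.s ≫ L.map φ.s) ≫ L.map (χ.s ≫ φ.f) = A.hom
          rw [IsIso.inv_comp_eq, Functor.map_comp, hφ]
          simp
        · show inv (L.map χ.s ≫ L.map φ.s) ≫ L.map (χ.f ≫ ψ.f) = B.hom
          rw [IsIso.inv_comp_eq, ← Functor.map_comp L χ.s, hχ, Functor.map_comp, hψ]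
          simp
      cone_maps := fun A B f g => by
        obtain ⟨φ, hφ⟩ := Localization.exists_rightFraction L S A.hom
        haveI := Localization.inverts L S _ φ.hs
        have h1 : L.map (φ.f ≫ f.right) = L.map (φ.f ≫ g.right) := by
          have := congrArg (L.map φ.s ≫ ·) ((StructuredArrow.w f).trans (StructuredArrow.w g).symm)
          simp only [hφ] at this
          simpa using this
        obtain ⟨Z, t, ht, h2⟩ := (MorphismProperty.map_eq_iff_precomp L S _ _).1 h1
        haveI := Localization.inverts L S _ ht
        refine ⟨StructuredArrow.mk (inv (L.map t ≫ L.map φ.s)), StructuredArrow.homMk (t ≫ φ.f) ?_, ?_⟩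
        · show inv (L.map t ≫ L.map φ.s) ≫ L.map (t ≫ φ.f) = A.hom
          rw [IsIso.inv_comp_eq, Functor.map_comp, hφ]
          simp
        · ext
          simpa using h2 }
  exact { nonempty := ⟨StructuredArrow.mk (𝟙 _)⟩ }

end Groth.Agent.S19340
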