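import Groth.Statements.S19342
import Groth.Agent.L13.LocalPair.Pair

set_option autoImplicit false
universe u
open CategoryTheory CategoryTheory.Limits AlgebraicGeometry TopologicalSpace
open ModPair

namespace Groth.Agent.S19342

/-- Let P be a modulus pair (a scheme P̄ with the quasi-coherent ideal sheaf of an effective Cartier
divisor) whose total space P̄ is quasi-compact and quasi-separated. Then P is local both for Zariski
coverings of modulus pairs (for every pair X, every jointly surjective family of minimal morphisms
U_i ⟶ X whose underlying morphisms are quasi-compact open immersions, and every morphism of pairs P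
⟶ X, the latter factors through some U_i) and for abstract admissible blow-ups (every P ⟶ X lifts
along every abstract admissible blow-up Q ⟶ X) if and only if (1) P̄ is affine with A = Γ(P̄) a
local ring, (2) the interior P° is affine with local ring of global sections, and, writing p for the
closed point of P° and 𝔮 ⊂ A for its prime ideal, (3) A/𝔮 is a valuation ring and (4) the
localisation map sends 𝔮 bijectively onto the maximal ideal 𝔮A_𝔮 of A_𝔮. Conditions (3) and (4) say
that the closure of p is the spectrum of a valuation ring and that A is the fibre product A/𝔮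
×_{k(𝔮)} A_𝔮, i.e. P̄ is obtained by gluing the closure of p to P° along p. The published statement
allows any modulus pair P; this row assumes the total space P̄ quasi-compact and quasi-separated. -/
theorem result (P : ModPair.Pair.{u})
    [CompactSpace P.total] [QuasiSeparatedSpace P.total] :
    ((∀ (X : ModPair.Pair.{u}) (ι : Type u) (U : ι → ModPair.Pair.{u}) (v : ∀ i, U i ⟶ X),
        (∀ i, ModPair.IsMinimal (U i).mod X.mod (v i).hom ∧ IsOpenImmersion (v i).hom ∧
          QuasiCompact (v i).hom) →
        (∀ x : X.total, ∃ (i : ι) (y : (U i).total), (v i).hom.base y = x) →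
        ∀ g : P ⟶ X, ∃ (i : ι) (h : P ⟶ U i), h ≫ v i = g) ∧
      (∀ (Q X : ModPair.Pair.{u}) (q : Q ⟶ X), ModPair.Pair.admBlowup q →
        ∀ g : P ⟶ X, ∃ h : P ⟶ Q, h ≫ q = g)) ↔
    (IsAffine P.total ∧ IsLocalRing Γ(P.total, ⊤) ∧
      IsAffine (ModPair.interior P.mod : Scheme.{u}) ∧
      IsLocalRing Γ((ModPair.interior P.mod : Scheme.{u}), ⊤) ∧
      ∀ p : (ModPair.interior P.mod : Scheme.{u}),
        IsClosed ({p} : Set (ModPair.interior P.mod : Scheme.{u})) →
          ValuationRing (Γ(P.total, ⊤) ⧸
            (P.total.toSpecΓ.base ((ModPair.interior P.mod).ι.base p)).asIdeal) ∧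
          Set.BijOn (algebraMap Γ(P.total, ⊤) (Localization.AtPrime
              (P.total.toSpecΓ.base ((ModPair.interior P.mod).ι.base p)).asIdeal))
            ((P.total.toSpecΓ.base ((ModPair.interior P.mod).ι.base p)).asIdeal : Set Γ(P.total, ⊤))
            (IsLocalRing.maximalIdeal (Localization.AtPrime
              (P.total.toSpecΓ.base ((ModPair.interior P.mod).ι.base p)).asIdeal) :
              Set (Localization.AtPrime
                (P.total.toSpecΓ.base ((ModPair.interior P.mod).ι.base p)).asIdeal))) := by
  letI := L13.LocalPair.intAlg P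
  constructor
  · rintro ⟨hZ, hB⟩
    haveI := L13.LocalPair.ZarLocal.isAffine hZ
    haveI := L13.LocalPair.ZarLocal.isLocalRing hZ
    obtain ⟨t, ht, htI⟩ := L13.LocalPair.exists_generator_top P
    haveI := L13.LocalPair.isAffine_interior htI
    haveI := L13.LocalPair.isLocalization_interior htI
    have H := L13.LocalPair.comparable ht htI hB
    haveI : IsLocalRing Γ((ModPair.interior P.mod : Scheme.{u}), ⊤) :=
      L13.LocalPair.Comparable.isLocalRing ht H
    refine ⟨inferInstance, inferInstance, inferInstance, inferInstance, fun p hp => ?_⟩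
    have hq := L13.LocalPair.prime_eq p hp
    exact ⟨L13.LocalPair.Comparable.valuationRing ht H _ hq, L13.LocalPair.Comparable.bijOn ht H _ hq⟩
  · rintro ⟨hA, hAl, hB, hBl, hp⟩
    refine ⟨L13.LocalPair.zarLocal, ?_⟩
    obtain ⟨t, ht, htI⟩ := L13.LocalPair.exists_generator_top P
    let p := (ModPair.interior P.mod).toScheme.isoSpec.inv
      (IsLocalRing.closedPoint Γ((ModPair.interior P.mod : Scheme.{u}), ⊤))
    have hpc : IsClosed ({p} : Set (ModPair.interior P.mod : Scheme.{u})) := by
      have h := (Scheme.homeoOfIso (ModPair.interior P.mod).toScheme.isoSpec.symm).isClosedMap _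
        ((PrimeSpectrum.isClosed_singleton_iff_isMaximal
          (IsLocalRing.closedPoint Γ((ModPair.interior P.mod : Scheme.{u}), ⊤))).2
          (IsLocalRing.maximalIdeal.isMaximal _))
      exact (Set.image_singleton (f := ⇑(Scheme.homeoOfIso (ModPair.interior P.mod).toScheme.isoSpec.symm))) ▸ h
    obtain ⟨hV, hbij⟩ := hp p hpc
    haveI := hV
    exact L13.LocalPair.blLocal ht htI _ (L13.LocalPair.prime_eq p hpc) hbij

end Groth.Agent.S19342
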