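import Groth.Statements.S19343
import Groth.Agent.L13.LocalPair.Hens

set_option autoImplicit false
universe u
open CategoryTheory CategoryTheory.Limits AlgebraicGeometry TopologicalSpace
open ModPair

namespace Groth.Agent.S19343

/-- Let P be a modulus pair (a scheme P̄ with the quasi-coherent ideal sheaf of an effective Cartier
divisor) whose total space P̄ is quasi-compact and quasi-separated. Then P is local both for étale
coverings of modulus pairs (for every pair X, every jointly surjective family of minimal morphisms
U_i ⟶ X whose underlying morphisms are étale, quasi-compact and quasi-separated, and every morphism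
of pairs P ⟶ X, the latter factors through some U_i) and for abstract admissible blow-ups (every P ⟶
X lifts along every abstract admissible blow-up Q ⟶ X) if and only if (1) P̄ is affine and A = Γ(P̄)
is a strictly henselian local ring, (2) the interior P° is affine and its ring of global sections is
a henselian local ring, and, writing p for the closed point of P° and 𝔮 ⊂ A for its prime ideal, (3)
A/𝔮 is a valuation ring which is strictly henselian and (4) the localisation map sends 𝔮 bijectively
onto the maximal ideal of A_𝔮, i.e. A = A/𝔮 ×_{k(𝔮)} A_𝔮 and P̄ is the gluing of the closure of p to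
P° along p. The published statement allows any modulus pair P; this row assumes the total space P̄
quasi-compact and quasi-separated. -/
theorem result (P : ModPair.Pair.{u})
    [CompactSpace P.total] [QuasiSeparatedSpace P.total] :
    ((∀ (X : ModPair.Pair.{u}) (ι : Type u) (U : ι → ModPair.Pair.{u}) (v : ∀ i, U i ⟶ X),
        (∀ i, ModPair.IsMinimal (U i).mod X.mod (v i).hom ∧ Etale (v i).hom ∧
          QuasiCompact (v i).hom ∧ QuasiSeparated (v i).hom) →
        (∀ x : X.total, ∃ (i : ι) (y : (U i).total), (v i).hom.base y = x) →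
        ∀ g : P ⟶ X, ∃ (i : ι) (h : P ⟶ U i), h ≫ v i = g) ∧
      (∀ (Q X : ModPair.Pair.{u}) (q : Q ⟶ X), ModPair.Pair.admBlowup q →
        ∀ g : P ⟶ X, ∃ h : P ⟶ Q, h ≫ q = g)) ↔
    (IsAffine P.total ∧ EtCoh.IsStrictlyHenselianLocalRing Γ(P.total, ⊤) ∧
      IsAffine (ModPair.interior P.mod : Scheme.{u}) ∧
      HenselianLocalRing Γ((ModPair.interior P.mod : Scheme.{u}), ⊤) ∧
      ∀ p : (ModPair.interior P.mod : Scheme.{u}),
        IsClosed ({p} : Set (ModPair.interior P.mod : Scheme.{u})) →
          ValuationRing (Γ(P.total, ⊤) ⧸ (P.total.toSpecΓ.base ((ModPair.interior P.mod).ι.base p)).asIdeal) ∧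
          EtCoh.IsStrictlyHenselianLocalRing (Γ(P.total, ⊤) ⧸ (P.total.toSpecΓ.base ((ModPair.interior P.mod).ι.base p)).asIdeal) ∧
          Set.BijOn (algebraMap Γ(P.total, ⊤) (Localization.AtPrime (P.total.toSpecΓ.base ((ModPair.interior P.mod).ι.base p)).asIdeal))
            ((P.total.toSpecΓ.base ((ModPair.interior P.mod).ι.base p)).asIdeal : Set Γ(P.total, ⊤))
            (IsLocalRing.maximalIdeal (Localization.AtPrime (P.total.toSpecΓ.base ((ModPair.interior P.mod).ι.base p)).asIdeal) :
              Set (Localization.AtPrime (P.total.toSpecΓ.base ((ModPair.interior P.mod).ι.base p)).asIdeal))) := by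
  letI := L13.LocalPair.intAlg P
  constructor
  · rintro ⟨hE, hB⟩
    have hZ : L13.LocalPair.ZarLocal P := L13.LocalPair.EtLocal.zarLocal hE
    haveI := L13.LocalPair.ZarLocal.isAffine hZ
    haveI := L13.LocalPair.ZarLocal.isLocalRing hZ
    obtain ⟨t, ht, htI⟩ := L13.LocalPair.exists_generator_top P
    haveI := L13.LocalPair.isAffine_interior htI
    haveI := L13.LocalPair.isLocalization_interior htI
    have H := L13.LocalPair.comparable ht htI hB
    haveI hBloc : IsLocalRing Γ((ModPair.interior P.mod : Scheme.{u}), ⊤) :=
      L13.LocalPair.Comparable.isLocalRing ht H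
    have hA := L13.LocalPair.HasEtaleSections.isStrictlyHenselian
      (L13.LocalPair.EtLocal.hasEtaleSections ht htI hE)
    obtain ⟨hAh, hAs⟩ := id hA
    haveI := hAh
    haveI := hAs
    refine ⟨inferInstance, hA, inferInstance,
      L13.LocalPair.henselian_of_maximalIdeal_mem_range (A := Γ(P.total, ⊤)) fun b hb => ?_, fun p hp => ?_⟩
    · let q := (IsLocalRing.maximalIdeal Γ((ModPair.interior P.mod : Scheme.{u}), ⊤)).comap
        (algebraMap Γ(P.total, ⊤) Γ((ModPair.interior P.mod : Scheme.{u}), ⊤))
      exact L13.LocalPair.mem_range_of_residue ht q rfl (L13.LocalPair.Comparable.bijOn ht H q rfl) b 0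
        (by rwa [map_zero, sub_zero])
    have hq := L13.LocalPair.prime_eq p hp
    exact ⟨L13.LocalPair.Comparable.valuationRing ht H _ hq, L13.LocalPair.isStrictlyHenselian_quotient _,
      L13.LocalPair.Comparable.bijOn ht H _ hq⟩
  · rintro ⟨hA, ⟨hAh, hAs⟩, hB, hBl, hp⟩
    haveI := hAh
    haveI := hAs
    haveI := hBl
    refine ⟨L13.LocalPair.etLocal L13.LocalPair.hasEtaleSections, ?_⟩
    obtain ⟨t, ht, htI⟩ := L13.LocalPair.exists_generator_top P
    let p := (ModPair.interior P.mod).toScheme.isoSpec.inv
      (IsLocalRing.closedPoint Γ((ModPair.interior P.mod : Scheme.{u}), ⊤))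
    have hpc : IsClosed ({p} : Set (ModPair.interior P.mod : Scheme.{u})) := by
      have h := (Scheme.homeoOfIso (ModPair.interior P.mod).toScheme.isoSpec.symm).isClosedMap _
        ((PrimeSpectrum.isClosed_singleton_iff_isMaximal
          (IsLocalRing.closedPoint Γ((ModPair.interior P.mod : Scheme.{u}), ⊤))).2
          (IsLocalRing.maximalIdeal.isMaximal _))
      exact (Set.image_singleton (f := ⇑(Scheme.homeoOfIso (ModPair.interior P.mod).toScheme.isoSpec.symm))) ▸ h
    obtain ⟨hV, -, hbij⟩ := hp p hpc
    haveI := hV
    exact L13.LocalPair.blLocal ht htI _ (L13.LocalPair.prime_eq p hpc) hbij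

end Groth.Agent.S19343
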