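import Groth.Statements.S19344
import Groth.Agent.L13.LocalPair.Fppf

set_option autoImplicit false
universe u
open CategoryTheory CategoryTheory.Limits AlgebraicGeometry TopologicalSpace
open ModPair

namespace Groth.Agent.S19344

/-- Let P be a modulus pair (a scheme P̄ with the quasi-coherent ideal sheaf of an effective Cartier
divisor) whose total space P̄ is quasi-compact and quasi-separated. Call a scheme T fppf-local when
for every scheme X, every jointly surjective family of morphisms to X that are flat and of finite
presentation (locally of finite presentation, quasi-compact, quasi-separated) and every T ⟶ X, the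
latter factors through a member of the family. Then P is local both for fppf coverings of modulus
pairs (families of minimal morphisms U_i ⟶ X whose underlying morphisms form such a family, with the
same factorisation property for morphisms of pairs P ⟶ X) and for abstract admissible blow-ups
(every P ⟶ X lifts along every abstract admissible blow-up Q ⟶ X) if and only if (1) P̄ is
fppf-local, (2) the interior P° is fppf-local, (3) P° is affine with local ring of global sections
and, writing p for its closed point and 𝔮 ⊂ A = Γ(P̄) for the prime ideal of p, the ring A/𝔮 is a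
valuation ring with algebraically closed fraction field, and (4) the localisation map sends 𝔮
bijectively onto the maximal ideal of A_𝔮, i.e. A = A/𝔮 ×_{k(𝔮)} A_𝔮 and P̄ is the gluing of the
closure of p to P° along p. (The affine-local clause in (3) is a consequence of (2) and only serves
to name p.) The published statement allows any modulus pair P; this row assumes the total space P̄
quasi-compact and quasi-separated. -/
theorem result (P : ModPair.Pair.{u})
    [CompactSpace P.total] [QuasiSeparatedSpace P.total] :
    ((∀ (X : ModPair.Pair.{u}) (ι : Type u) (U : ι → ModPair.Pair.{u}) (v : ∀ i, U i ⟶ X),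
        (∀ i, ModPair.IsMinimal (U i).mod X.mod (v i).hom ∧ Flat (v i).hom ∧
          LocallyOfFinitePresentation (v i).hom ∧ QuasiCompact (v i).hom ∧
          QuasiSeparated (v i).hom) →
        (∀ x : X.total, ∃ (i : ι) (y : (U i).total), (v i).hom.base y = x) →
        ∀ g : P ⟶ X, ∃ (i : ι) (h : P ⟶ U i), h ≫ v i = g) ∧
      (∀ (Q X : ModPair.Pair.{u}) (q : Q ⟶ X), ModPair.Pair.admBlowup q →
        ∀ g : P ⟶ X, ∃ h : P ⟶ Q, h ≫ q = g)) ↔
    ((∀ (X : Scheme.{u}) (R : Presieve X), R ∈ Scheme.precoverage (@Flat ⊓ @LocallyOfFinitePresentation ⊓ @QuasiCompact ⊓ @QuasiSeparated) X →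
        ∀ g : P.total ⟶ X, ∃ (Y : Scheme.{u}) (w : Y ⟶ X) (h : P.total ⟶ Y), R w ∧ h ≫ w = g) ∧
      (∀ (X : Scheme.{u}) (R : Presieve X), R ∈ Scheme.precoverage (@Flat ⊓ @LocallyOfFinitePresentation ⊓ @QuasiCompact ⊓ @QuasiSeparated) X →
        ∀ g : (ModPair.interior P.mod : Scheme.{u}) ⟶ X, ∃ (Y : Scheme.{u}) (w : Y ⟶ X) (h : (ModPair.interior P.mod : Scheme.{u}) ⟶ Y), R w ∧ h ≫ w = g) ∧
      IsAffine (ModPair.interior P.mod : Scheme.{u}) ∧
      IsLocalRing Γ((ModPair.interior P.mod : Scheme.{u}), ⊤) ∧
      ∀ p : (ModPair.interior P.mod : Scheme.{u}),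
        IsClosed ({p} : Set (ModPair.interior P.mod : Scheme.{u})) →
          ValuationRing (Γ(P.total, ⊤) ⧸ (P.total.toSpecΓ.base ((ModPair.interior P.mod).ι.base p)).asIdeal) ∧
          IsAlgClosed (FractionRing (Γ(P.total, ⊤) ⧸ (P.total.toSpecΓ.base ((ModPair.interior P.mod).ι.base p)).asIdeal)) ∧
          Set.BijOn (algebraMap Γ(P.total, ⊤) (Localization.AtPrime (P.total.toSpecΓ.base ((ModPair.interior P.mod).ι.base p)).asIdeal))
            ((P.total.toSpecΓ.base ((ModPair.interior P.mod).ι.base p)).asIdeal : Set Γ(P.total, ⊤))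
            (IsLocalRing.maximalIdeal (Localization.AtPrime (P.total.toSpecΓ.base ((ModPair.interior P.mod).ι.base p)).asIdeal) :
              Set (Localization.AtPrime (P.total.toSpecΓ.base ((ModPair.interior P.mod).ι.base p)).asIdeal))) := by
  letI := L13.LocalPair.intAlg P
  constructor
  · rintro ⟨hF, hB⟩
    have hE : L13.LocalPair.EtLocal P := L13.LocalPair.FppfLocal.etLocal hF
    have hZ : L13.LocalPair.ZarLocal P := L13.LocalPair.EtLocal.zarLocal hE
    haveI := L13.LocalPair.ZarLocal.isAffine hZ
    haveI := L13.LocalPair.ZarLocal.isLocalRing hZ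
    obtain ⟨t, ht, htI⟩ := L13.LocalPair.exists_generator_top P
    haveI := L13.LocalPair.isAffine_interior htI
    haveI := L13.LocalPair.isLocalization_interior htI
    have H := L13.LocalPair.comparable ht htI hB
    haveI hBloc : IsLocalRing Γ((ModPair.interior P.mod : Scheme.{u}), ⊤) :=
      L13.LocalPair.Comparable.isLocalRing ht H
    obtain ⟨hAh, hAs⟩ := L13.LocalPair.HasEtaleSections.isStrictlyHenselian
      (L13.LocalPair.EtLocal.hasEtaleSections ht htI hE)
    haveI := hAh
    haveI := hAs
    have h1 : L13.LocalPair.FppfLocalSch P.total := L13.LocalPair.FppfLocal.fppfLocalSch hF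
    have hloc := L13.LocalPair.isLocalFor_of_fppfLocalSch P.total h1
    have hAIC : Curves.IsAIC Γ(P.total, ⊤) := fun G hG hd => L13.FppfLocal.exists_root hloc
      (fun B φ hfin hflat hfp => by
        haveI : IsFinite (Spec.map φ) := (IsFinite.SpecMap_iff φ).2 hfin
        exact ⟨⟨⟨(HasRingHomProperty.Spec_iff (P := @Flat)).2 hflat,
          (HasRingHomProperty.Spec_iff (P := @LocallyOfFinitePresentation)).2 hfp⟩, inferInstance⟩, inferInstance⟩)
      G hG hd
    let B := Γ((ModPair.interior P.mod : Scheme.{u}), ⊤)
    let q := (IsLocalRing.maximalIdeal B).comap (algebraMap Γ(P.total, ⊤) B)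
    have hmem : ∀ b ∈ IsLocalRing.maximalIdeal B, b ∈ Set.range (algebraMap Γ(P.total, ⊤) B) := fun b hb =>
      L13.LocalPair.mem_range_of_residue ht q rfl (L13.LocalPair.Comparable.bijOn ht H q rfl) b 0
        (by rwa [map_zero, sub_zero])
    haveI : HenselianLocalRing B := L13.LocalPair.henselian_of_maximalIdeal_mem_range hmem
    haveI : IsAlgClosed (IsLocalRing.ResidueField B) := by
      letI := (L13.LocalPair.toResidue q (rfl : q = (IsLocalRing.maximalIdeal B).comap _)).toAlgebra
      haveI := L13.LocalPair.isFractionRing (B := B) q rfl t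
      exact L13.LocalPair.isAlgClosed_of_isAIC (L13.LocalPair.isAIC_of_isLocalization _ (nonZeroDivisors _)
        (L13.LocalPair.isAIC_of_surjective (Ideal.Quotient.mk q) Ideal.Quotient.mk_surjective hAIC))
    refine ⟨h1, L13.LocalPair.fppfLocalSch_of_isLocalFor _ (L13.LocalPair.isLocalFor_fppf
      (fun C _ _ _ _ _ => L13.LocalPair.exists_section_of_finiteFree (A := Γ(P.total, ⊤)) t
        (L13.LocalPair.algebraMap_injective (t := t) ht) hmem
        (fun L _ _ _ _ _ => L13.LocalPair.exists_section_of_isLocalFor hloc L) C)),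
      inferInstance, hBloc, fun p hp => ?_⟩
    have hq := L13.LocalPair.prime_eq p hp
    exact ⟨L13.LocalPair.Comparable.valuationRing ht H _ hq,
      L13.LocalPair.isAlgClosed_of_isAIC (L13.LocalPair.isAIC_of_isLocalization _ (nonZeroDivisors _)
        (L13.LocalPair.isAIC_of_surjective
          (Ideal.Quotient.mk (P.total.toSpecΓ.base ((ModPair.interior P.mod).ι.base p)).asIdeal)
          Ideal.Quotient.mk_surjective hAIC)),
      L13.LocalPair.Comparable.bijOn ht H _ hq⟩
  · rintro ⟨h1, -, hB, hBl, hp⟩
    have h1' : L13.LocalPair.FppfLocalSch P.total := h1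
    have hZ : L13.LocalPair.ZarLocal P := by
      intro X ι U v hv hcov g
      obtain ⟨Y, w, k, hw, hk⟩ := h1' X.total (Presieve.ofArrows (fun i => (U i).total) (fun i => (v i).hom))
        ((Scheme.ofArrows_mem_precoverage_iff _).2 ⟨fun x => by
          obtain ⟨i, y, hy⟩ := hcov x
          exact ⟨i, y, hy⟩, fun i => by
          haveI := (hv i).2.1
          exact ⟨⟨⟨inferInstanceAs (Flat (v i).hom), inferInstanceAs (LocallyOfFinitePresentation (v i).hom)⟩,
            (hv i).2.2⟩, inferInstanceAs (QuasiSeparated (v i).hom)⟩⟩) g.hom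
      cases hw with
      | mk i =>
        exact ⟨i, ⟨k, by
          show P.mod ≤ (U i).mod.comap k
          rw [(hv i).1, ← Scheme.IdealSheafData.comap_comp, hk]
          exact g.cond⟩, ModPair.Pair.Hom.ext hk⟩
    haveI := L13.LocalPair.ZarLocal.isAffine hZ
    haveI := L13.LocalPair.ZarLocal.isLocalRing hZ
    haveI := hBl
    haveI := hB
    refine ⟨L13.LocalPair.fppfLocal_of_fppfLocalSch h1', ?_⟩
    obtain ⟨t, ht, htI⟩ := L13.LocalPair.exists_generator_top P
    let p := (ModPair.interior P.mod).toScheme.isoSpec.inv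
      (IsLocalRing.closedPoint Γ((ModPair.interior P.mod : Scheme.{u}), ⊤))
    have hpc : IsClosed ({p} : Set (ModPair.interior P.mod : Scheme.{u})) := by
      have h := (Scheme.homeoOfIso (ModPair.interior P.mod).toScheme.isoSpec.symm).isClosedMap _
        ((PrimeSpectrum.isClosed_singleton_iff_isMaximal
          (IsLocalRing.closedPoint Γ((ModPair.interior P.mod : Scheme.{u}), ⊤))).2
          (IsLocalRing.maximalIdeal.isMaximal _))
      exact (Set.image_singleton (f := ⇑(Scheme.homeoOfIso (ModPair.interior P.mod).toScheme.isoSpec.symm))) ▸ h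
    obtain ⟨hV, -, hbij⟩ := hp p hpc
    haveI := hV
    exact L13.LocalPair.blLocal ht htI _ (L13.LocalPair.prime_eq p hpc) hbij

end Groth.Agent.S19344
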