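import Groth.Statements.S19345
import Groth.Agent.L13.FppfLocal.Basic
import Mathlib.AlgebraicGeometry.PullbackCarrier

set_option autoImplicit false
universe u
open CategoryTheory CategoryTheory.Limits AlgebraicGeometry TopologicalSpace
open ModPair

namespace Groth.Agent.S19345

/-- Let P be a quasi-separated scheme. Then P is local for Zariski coverings (for every scheme X, every
jointly surjective family of quasi-compact open immersions into X and every morphism P ⟶ X, the
morphism factors through a member) and for finite coverings (the same for jointly surjective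
families of finite morphisms) — which together is locality for the rqfh coverings, the finite
composites of coverings of these two kinds — if and only if P is affine and Γ(P) is a local integral
domain in which every monic polynomial of positive degree has a root, i.e. the spectrum of an
absolutely integrally closed local domain. The published statement allows any scheme P; this row
assumes P quasi-separated. -/
theorem result (P : Scheme.{u}) [QuasiSeparatedSpace P] :
    ((∀ (X : Scheme.{u}) (R : Presieve X), R ∈ Scheme.precoverage (@IsOpenImmersion ⊓ @QuasiCompact) X →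
        ∀ g : P ⟶ X, ∃ (Y : Scheme.{u}) (w : Y ⟶ X) (h : P ⟶ Y), R w ∧ h ≫ w = g) ∧
      (∀ (X : Scheme.{u}) (R : Presieve X), R ∈ Scheme.precoverage @IsFinite X →
        ∀ g : P ⟶ X, ∃ (Y : Scheme.{u}) (w : Y ⟶ X) (h : P ⟶ Y), R w ∧ h ≫ w = g)) ↔
    (IsAffine P ∧ IsLocalRing Γ(P, ⊤) ∧ IsDomain Γ(P, ⊤) ∧ Curves.IsAIC Γ(P, ⊤)) := by
  classical
  constructor
  · rintro ⟨hZ, hF⟩
    have hcovU : Presieve.ofArrows (fun U : P.affineOpens => (U.1 : Scheme.{u})) (fun U => U.1.ι) ∈
        Scheme.precoverage (@IsOpenImmersion ⊓ @QuasiCompact) P := by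
      refine (Scheme.ofArrows_mem_precoverage_iff _).2 ⟨fun x => ?_, fun U => ?_⟩
      · obtain ⟨U, hU, hx, -⟩ := exists_isAffineOpen_mem_and_subset (x := x) (U := (⊤ : P.Opens)) trivial
        exact ⟨⟨U, hU⟩, ⟨x, hx⟩, rfl⟩
      · haveI : IsAffine U.1.toScheme := U.2
        exact ⟨inferInstance, quasiCompact_of_compactSpace _⟩
    obtain ⟨Y, w, h, hR, hh⟩ := hZ P _ hcovU (𝟙 P)
    cases hR with
    | mk U =>
    have hU : U.1 = ⊤ := by
      refine top_le_iff.1 fun x _ => ?_
      have : U.1.ι.base (h.base x) = x := by rw [← Scheme.Hom.comp_apply, hh]; rfl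
      exact this ▸ (h.base x).2
    have hA : IsAffineOpen (⊤ : P.Opens) := hU ▸ U.2
    haveI hPaff : IsAffine P := by
      haveI : IsAffine (⊤ : P.Opens).toScheme := hA
      exact .of_isIso P.topIso.inv
    let A := Γ(P, ⊤)
    have hloc : ∀ Q : MorphismProperty Scheme.{u},
        (∀ (X : Scheme.{u}) (R : Presieve X), R ∈ Scheme.precoverage Q X →
          ∀ g : P ⟶ X, ∃ (Y : Scheme.{u}) (w : Y ⟶ X) (h : P ⟶ Y), R w ∧ h ≫ w = g) →
        L13.FppfLocal.IsLocalFor A Q := fun Q hQ X R hR g => by
      obtain ⟨Y, w, h, hw, hh⟩ := hQ X R hR (P.isoSpec.hom ≫ g)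
      exact ⟨Y, w, P.isoSpec.inv ≫ h, hw, by rw [Category.assoc, hh, Iso.inv_hom_id_assoc]⟩
    have hne : Nontrivial A := by
      by_contra hnt
      rw [not_nontrivial_iff_subsingleton] at hnt
      obtain ⟨Y, v, h, hR, -⟩ := hloc _ hZ (Spec (CommRingCat.of A))
        (Presieve.ofArrows (fun i : PEmpty.{u + 1} => Spec (CommRingCat.of A)) (fun i => i.elim))
        ((Scheme.ofArrows_mem_precoverage_iff _).2 ⟨fun x => absurd (Subsingleton.elim (1 : A) 0)
          (fun h10 => x.isPrime.ne_top ((Ideal.eq_top_iff_one _).2 (h10 ▸ x.asIdeal.zero_mem))), fun i => i.elim⟩) (𝟙 _)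
      cases hR with
      | mk i => exact i.elim
    refine ⟨hPaff, ?_, ?_, ?_⟩
    · refine IsLocalRing.of_isUnit_or_isUnit_one_sub_self fun r => ?_
      let el : Bool → A := fun b => bif b then r else 1 - r
      obtain ⟨⟨b⟩, s, hs⟩ := L13.FppfLocal.exists_retraction (hloc _ hZ)
        (fun b : ULift.{u} Bool => CommRingCat.of (Localization.Away (el b.down)))
        (fun b => CommRingCat.ofHom (algebraMap A (Localization.Away (el b.down))))
        (fun b => ⟨IsOpenImmersion.of_isLocalization (el b.down), inferInstance⟩)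
        (fun x => by
          have hmem : ∀ t : A, t ∉ x.asIdeal → x ∈ Set.range (PrimeSpectrum.comap (algebraMap A (Localization.Away t))) :=
            fun t ht => by rw [PrimeSpectrum.localization_away_comap_range _ t]; exact ht
          by_cases hr : r ∈ x.asIdeal
          · exact ⟨⟨false⟩, hmem (1 - r) fun h1 => x.isPrime.ne_top ((Ideal.eq_top_iff_one _).2
              (by simpa using add_mem hr h1))⟩
          · exact ⟨⟨true⟩, hmem r hr⟩)
      have hu : IsUnit (el b) := by
        have := (IsLocalization.Away.algebraMap_isUnit (S := Localization.Away (el b)) (el b)).map s.hom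
        rwa [← RingHom.comp_apply, show s.hom.comp (algebraMap A _) = RingHom.id A from
          congr_arg CommRingCat.Hom.hom hs] at this
      cases b
      · exact Or.inr hu
      · exact Or.inl hu
    · obtain ⟨⟨q, hq⟩, s, hs⟩ := L13.FppfLocal.exists_retraction (hloc _ hF)
        (fun q : {q : Ideal A // q.IsPrime} => CommRingCat.of (A ⧸ q.1))
        (fun q => CommRingCat.ofHom (Ideal.Quotient.mk q.1))
        (fun q => (IsFinite.SpecMap_iff _).2 (RingHom.Finite.of_surjective _ Ideal.Quotient.mk_surjective))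
        (fun x => ⟨⟨x.asIdeal, x.isPrime⟩, ⟨⊥, Ideal.isPrime_bot⟩, PrimeSpectrum.ext (Ideal.mk_ker)⟩)
      have hq0 : q = ⊥ := by
        rw [eq_bot_iff]
        intro a ha
        have h1 : s.hom (Ideal.Quotient.mk q a) = a :=
          RingHom.congr_fun (congr_arg CommRingCat.Hom.hom hs) a
        rw [Ideal.Quotient.eq_zero_iff_mem.2 ha, map_zero] at h1
        exact h1.symm
      subst hq0
      exact IsDomain.of_bot_isPrime A
    · intro G hG hd
      exact L13.FppfLocal.exists_root (hloc _ hF) (fun B φ hf _ _ => (IsFinite.SpecMap_iff _).2 hf) G hG hd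
  · rintro ⟨hPaff, hlocal, hdom, haic⟩
    constructor
    · intro X R hR g
      obtain ⟨ι, Z, f, rfl⟩ := R.exists_eq_ofArrows
      obtain ⟨hcov, hprop⟩ := (Scheme.ofArrows_mem_precoverage_iff _).1 hR
      let x₀ : P := P.isoSpec.inv.base (IsLocalRing.closedPoint Γ(P, ⊤))
      obtain ⟨i, hi⟩ := hcov (g.base x₀)
      haveI : IsOpenImmersion (f i) := (hprop i).1
      have hsub : Set.range g ⊆ Set.range (f i) := by
        rintro _ ⟨p, rfl⟩
        have hsp : P.isoSpec.hom.base p ⤳ IsLocalRing.closedPoint Γ(P, ⊤) :=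
          IsLocalRing.specializes_closedPoint _
        have h2 : p ⤳ x₀ := by
          have := hsp.map P.isoSpec.inv.continuous
          rwa [← Scheme.Hom.comp_apply, Iso.hom_inv_id] at this
        exact (h2.map g.continuous).mem_open (f i).opensRange.isOpen hi
      exact ⟨_, f i, IsOpenImmersion.lift (f i) g hsub, Presieve.ofArrows.mk i, IsOpenImmersion.lift_fac _ _ _⟩
    · intro X R hR g
      obtain ⟨ι, Z, f, rfl⟩ := R.exists_eq_ofArrows
      obtain ⟨hcov, hprop⟩ := (Scheme.ofArrows_mem_precoverage_iff _).1 hR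
      let A := Γ(P, ⊤)
      let g' : Spec A ⟶ X := P.isoSpec.inv ≫ g
      let η : Spec A := ⟨⊥, Ideal.isPrime_bot⟩
      obtain ⟨i, hi⟩ := hcov (g'.base η)
      haveI : IsFinite (f i) := hprop i
      let pr := Limits.pullback.snd (f i) g'
      obtain ⟨z, hz⟩ : η ∈ Set.range pr := by
        rw [Scheme.Pullback.range_snd]; exact hi
      haveI : IsAffine (Limits.pullback (f i) g') := isAffine_of_isAffineHom pr
      let T := Limits.pullback (f i) g'
      obtain ⟨φ, hφ⟩ : ∃ φ : A ⟶ Γ(T, ⊤), T.isoSpec.inv ≫ pr = Spec.map φ :=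
        ⟨Spec.preimage _, (Spec.map_preimage _).symm⟩
      have hfin : φ.hom.Finite := by
        rw [← IsFinite.SpecMap_iff, ← hφ]
        infer_instance
      let qz : Spec Γ(T, ⊤) := T.isoSpec.hom.base z
      have hqz : qz.asIdeal.comap φ.hom = ⊥ := by
        have : (Spec.map φ).base qz = η := by
          rw [← hφ, ← Scheme.Hom.comp_apply, Iso.hom_inv_id_assoc]
          exact hz
        exact congr_arg PrimeSpectrum.asIdeal this
      haveI : qz.asIdeal.IsPrime := qz.isPrime
      let ψ : A →+* Γ(T, ⊤) ⧸ qz.asIdeal := (Ideal.Quotient.mk qz.asIdeal).comp φ.hom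
      have hint : ψ.IsIntegral :=
        RingHom.IsIntegral.trans _ _ hfin.to_isIntegral (RingHom.isIntegral_of_surjective _ Ideal.Quotient.mk_surjective)
      have hbij : Function.Bijective ψ := by
        refine ⟨(injective_iff_map_eq_zero _).2 fun a ha => ?_,
          fun b => L13.FppfLocal.mem_range_of_isAIC ψ haic (hint b)⟩
        have h1 : φ.hom a ∈ qz.asIdeal := Ideal.Quotient.eq_zero_iff_mem.1 ha
        rw [← Ideal.mem_comap, hqz] at h1
        exact h1
      let e := RingEquiv.ofBijective ψ hbij
      let s : Γ(T, ⊤) ⟶ A := CommRingCat.ofHom (e.symm.toRingHom.comp (Ideal.Quotient.mk qz.asIdeal))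
      have hs : φ ≫ s = 𝟙 A := by
        ext a
        exact e.symm_apply_apply a
      refine ⟨_, f i, P.isoSpec.hom ≫ Spec.map s ≫ T.isoSpec.inv ≫ Limits.pullback.fst (f i) g',
        Presieve.ofArrows.mk i, ?_⟩
      simp only [Category.assoc, Limits.pullback.condition]
      rw [reassoc_of% hφ, ← Spec.map_comp_assoc, hs]
      simp only [g']
      erw [Spec.map_id, Category.id_comp]
      exact Iso.hom_inv_id_assoc P.isoSpec g

end Groth.Agent.S19345
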