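import Groth.Statements.S19346
import Groth.Agent.L13.LocalPair.Aic

set_option autoImplicit false
universe u
open CategoryTheory CategoryTheory.Limits AlgebraicGeometry TopologicalSpace
open ModPair

namespace Groth.Agent.S19346

/-- Let P be a modulus pair (a scheme P̄ with the quasi-coherent ideal sheaf of an effective Cartier
divisor) whose total space P̄ is quasi-compact and quasi-separated. Then P is local for Zariski
coverings of modulus pairs (jointly surjective families of minimal morphisms U_i ⟶ X whose
underlying morphisms are quasi-compact open immersions: every morphism of pairs P ⟶ X factors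
through some U_i), for finite coverings of modulus pairs (the same with finite underlying morphisms)
— locality for both kinds being locality for the rqfh coverings, their finite composites — and for
abstract admissible blow-ups (every P ⟶ X lifts along every abstract admissible blow-up Q ⟶ X) if
and only if (1) P̄ is affine and A = Γ(P̄) is a local integral domain in which every monic
polynomial of positive degree has a root, (2) the interior P° is affine and Γ(P°) is likewise a
local integral domain in which every monic polynomial of positive degree has a root, and, writing p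
for the closed point of P° and 𝔮 ⊂ A for its prime ideal, (3) A/𝔮 is a valuation ring with
algebraically closed fraction field and (4) the localisation map sends 𝔮 bijectively onto the
maximal ideal of A_𝔮, i.e. A = A/𝔮 ×_{k(𝔮)} A_𝔮 and P̄ is the gluing of the closure of p to P° along
p. The published statement allows any modulus pair P; this row assumes the total space P̄
quasi-compact and quasi-separated. -/
theorem result (P : ModPair.Pair.{u})
    [CompactSpace P.total] [QuasiSeparatedSpace P.total] :
    ((∀ (X : ModPair.Pair.{u}) (ι : Type u) (U : ι → ModPair.Pair.{u}) (v : ∀ i, U i ⟶ X),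
        (∀ i, ModPair.IsMinimal (U i).mod X.mod (v i).hom ∧ IsOpenImmersion (v i).hom ∧ QuasiCompact (v i).hom) →
        (∀ x : X.total, ∃ (i : ι) (y : (U i).total), (v i).hom.base y = x) →
        ∀ g : P ⟶ X, ∃ (i : ι) (h : P ⟶ U i), h ≫ v i = g) ∧
      (∀ (X : ModPair.Pair.{u}) (ι : Type u) (U : ι → ModPair.Pair.{u}) (v : ∀ i, U i ⟶ X),
        (∀ i, ModPair.IsMinimal (U i).mod X.mod (v i).hom ∧ IsFinite (v i).hom) →
        (∀ x : X.total, ∃ (i : ι) (y : (U i).total), (v i).hom.base y = x) →
        ∀ g : P ⟶ X, ∃ (i : ι) (h : P ⟶ U i), h ≫ v i = g) ∧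
      (∀ (Q : ModPair.Pair.{u}) (X : ModPair.Pair.{u}) (q : Q ⟶ X), ModPair.Pair.admBlowup q →
        ∀ g : P ⟶ X, ∃ h : P ⟶ Q, h ≫ q = g)) ↔
    (IsAffine P.total ∧ IsLocalRing Γ(P.total, ⊤) ∧ IsDomain Γ(P.total, ⊤) ∧
      Curves.IsAIC Γ(P.total, ⊤) ∧
      IsAffine (ModPair.interior P.mod : Scheme.{u}) ∧
      IsLocalRing Γ((ModPair.interior P.mod : Scheme.{u}), ⊤) ∧
      IsDomain Γ((ModPair.interior P.mod : Scheme.{u}), ⊤) ∧
      Curves.IsAIC Γ((ModPair.interior P.mod : Scheme.{u}), ⊤) ∧
      ∀ p : (ModPair.interior P.mod : Scheme.{u}),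
        IsClosed ({p} : Set (ModPair.interior P.mod : Scheme.{u})) →
          ValuationRing (Γ(P.total, ⊤) ⧸ (P.total.toSpecΓ.base ((ModPair.interior P.mod).ι.base p)).asIdeal) ∧
          IsAlgClosed (FractionRing (Γ(P.total, ⊤) ⧸ (P.total.toSpecΓ.base ((ModPair.interior P.mod).ι.base p)).asIdeal)) ∧
          Set.BijOn (algebraMap Γ(P.total, ⊤) (Localization.AtPrime (P.total.toSpecΓ.base ((ModPair.interior P.mod).ι.base p)).asIdeal))
            ((P.total.toSpecΓ.base ((ModPair.interior P.mod).ι.base p)).asIdeal : Set Γ(P.total, ⊤))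
            (IsLocalRing.maximalIdeal (Localization.AtPrime (P.total.toSpecΓ.base ((ModPair.interior P.mod).ι.base p)).asIdeal) :
              Set (Localization.AtPrime (P.total.toSpecΓ.base ((ModPair.interior P.mod).ι.base p)).asIdeal))) := by
  letI := L13.LocalPair.intAlg P
  constructor
  · rintro ⟨hZ, hF, hB⟩
    haveI := L13.LocalPair.ZarLocal.isAffine hZ
    haveI := L13.LocalPair.ZarLocal.isLocalRing hZ
    obtain ⟨t, ht, htI⟩ := L13.LocalPair.exists_generator_top P
    haveI := L13.LocalPair.isAffine_interior htI
    haveI := L13.LocalPair.isLocalization_interior htI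
    have H := L13.LocalPair.comparable ht htI hB
    haveI : IsLocalRing Γ((ModPair.interior P.mod : Scheme.{u}), ⊤) :=
      L13.LocalPair.Comparable.isLocalRing ht H
    haveI hdom : IsDomain Γ(P.total, ⊤) := L13.LocalPair.FinLocal.isDomain ht htI hF
    have hA := L13.LocalPair.FinLocal.isAIC ht htI hF
    haveI : IsDomain Γ((ModPair.interior P.mod : Scheme.{u}), ⊤) :=
      IsLocalization.isDomain_of_le_nonZeroDivisors (M := Submonoid.powers t) (S := Γ((ModPair.interior P.mod : Scheme.{u}), ⊤)) (Submonoid.powers_le.2 ht)
    refine ⟨inferInstance, inferInstance, hdom, hA, inferInstance, inferInstance, inferInstance,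
      L13.LocalPair.isAIC_of_isLocalization _ (Submonoid.powers t) hA, fun p hp => ?_⟩
    have hq := L13.LocalPair.prime_eq p hp
    exact ⟨L13.LocalPair.Comparable.valuationRing ht H _ hq,
      L13.LocalPair.isAlgClosed_of_isAIC (L13.LocalPair.isAIC_of_isLocalization _ (nonZeroDivisors _)
        (L13.LocalPair.isAIC_of_surjective (Ideal.Quotient.mk (P.total.toSpecΓ.base ((ModPair.interior P.mod).ι.base p)).asIdeal) Ideal.Quotient.mk_surjective hA)),
      L13.LocalPair.Comparable.bijOn ht H _ hq⟩
  · rintro ⟨hA, hAl, hAd, hAic, hB, hBl, -, -, hp⟩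
    refine ⟨L13.LocalPair.zarLocal, L13.LocalPair.finLocal hAic, ?_⟩
    obtain ⟨t, ht, htI⟩ := L13.LocalPair.exists_generator_top P
    let p := (ModPair.interior P.mod).toScheme.isoSpec.inv
      (IsLocalRing.closedPoint Γ((ModPair.interior P.mod : Scheme.{u}), ⊤))
    have hpc : IsClosed ({p} : Set (ModPair.interior P.mod : Scheme.{u})) := by
      have h := (Scheme.homeoOfIso (ModPair.interior P.mod).toScheme.isoSpec.symm).isClosedMap _
        ((PrimeSpectrum.isClosed_singleton_iff_isMaximal
          (IsLocalRing.closedPoint Γ((ModPair.interior P.mod : Scheme.{u}), ⊤))).2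
          (IsLocalRing.maximalIdeal.isMaximal _))
      exact (Set.image_singleton (f := ⇑(Scheme.homeoOfIso (ModPair.interior P.mod).toScheme.isoSpec.symm))) ▸ h
    obtain ⟨hV, -, hbij⟩ := hp p hpc
    haveI := hV
    exact L13.LocalPair.blLocal ht htI _ (L13.LocalPair.prime_eq p hpc) hbij

end Groth.Agent.S19346
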