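import Groth.Statements.S19351
import Groth.Agent.S0384
import Groth.Agent.L13.BlowUp.Exists
import Groth.Agent.L13.BlowUp.Proper
import Groth.Agent.L22.BlowUp

set_option autoImplicit false
universe u
open RigCh

set_option backward.isDefEq.respectTransparency.types false
set_option linter.style.haveILetI false
set_option backward.isDefEq.respectTransparency.types false
open AlgebraicGeometry CategoryTheory CategoryTheory.Limits

namespace Groth.Agent.S19351

/-- Blowing up the boundary turns it into the support of an effective Cartier divisor. -/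
theorem exists_divisor_boundary {X Y : Scheme.{u}} [IsNoetherian Y] (jc : X ⟶ Y) [IsOpenImmersion jc] :
    ∃ (Y' : Scheme.{u}) (b : Y' ⟶ Y) (j : X ⟶ Y') (E : Y'.IdealSheafData),
      IsProper b ∧ IsOpenImmersion j ∧ j ≫ b = jc ∧
        BlowUp.IsEffCartierIdeal E ∧ (E.support : Set Y') = (Set.range j.base)ᶜ := by
  let I : Y.IdealSheafData :=
    Scheme.IdealSheafData.vanishingIdeal ⟨(jc.opensRange : Set Y)ᶜ, jc.opensRange.2.isClosed_compl⟩
  have hI : (I.support : Set Y) = (jc.opensRange : Set Y)ᶜ := by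
    simp only [I, Scheme.IdealSheafData.coe_support_vanishingIdeal]; rfl
  have hft : BlowUp.IsFiniteTypeIdeal I := fun V => by
    haveI : IsNoetherianRing Γ(Y, V.1) := IsLocallyNoetherian.component_noetherian V
    exact IsNoetherian.noetherian _
  obtain ⟨Y', b, hb⟩ := Groth.L13.BU.exists_isBlowUp I
  haveI := Groth.L22.Ideals.isIso_restrict_compl hb
  have hW : I.support.compl = jc.opensRange := by
    refine TopologicalSpace.Opens.ext ?_
    show (I.support : Set Y)ᶜ = _
    rw [hI, compl_compl]
  haveI : IsIso (b ∣_ jc.opensRange) := hW ▸ this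
  let j : X ⟶ Y' := jc.isoOpensRange.hom ≫ inv (b ∣_ jc.opensRange) ≫ (b ⁻¹ᵁ jc.opensRange).ι
  have hj : j ≫ b = jc := by
    simp only [j, Category.assoc]
    rw [← morphismRestrict_ι, IsIso.inv_hom_id_assoc, Scheme.Hom.isoOpensRange_hom_ι]
  haveI : IsOpenImmersion j := inferInstance
  refine ⟨Y', b, j, I.comap b, Groth.L13.BU.isProper_blowUp hb hft, inferInstance, hj, hb.1, ?_⟩
  have hr : Set.range j.base = b.base ⁻¹' (jc.opensRange : Set Y) := by
    have : Set.range j = Set.range (b ⁻¹ᵁ jc.opensRange).ι := by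
      simp only [j, ← Category.assoc]
      rw [Scheme.Hom.comp_base, TopCat.coe_comp, Set.range_comp, Function.Surjective.range_eq
        (Surjective.surj (f := jc.isoOpensRange.hom ≫ inv (b ∣_ jc.opensRange))), Set.image_univ]
    rw [show Set.range j.base = Set.range j from rfl, this, Scheme.Opens.range_ι]
    rfl
  rw [hr, Scheme.IdealSheafData.support_comap]
  show b.base ⁻¹' (I.support : Set Y) = _
  rw [hI, Set.preimage_compl]

end Groth.Agent.S19351
namespace Groth.Agent.S19351

open AlgebraicGeometry CategoryTheory in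
/-- Let φ : X' → X be a morphism of separated schemes of finite type over a field k. Then there are open
immersions j : X → X̄ and j' : X' → X̄' over k into schemes proper over k, whose complements are
supports of effective Cartier divisors (ideal sheaves locally generated on an affine open by one
nonzerodivisor), together with a proper k-morphism X̄' → X̄ restricting to φ. (Compactifications in
the source are taken with divisor boundary by a standing convention; the second assertion, about
extending a pseudo-divisor, is not included. The source assumes k of positive characteristic; this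
plays no role here.) -/
theorem result (k : Type u) [Field k]
    {X X' : Scheme.{u}} (f : X ⟶ Spec (CommRingCat.of k)) [IsSeparated f] [QuasiCompact f] [LocallyOfFiniteType f]
    (f' : X' ⟶ Spec (CommRingCat.of k)) [IsSeparated f'] [QuasiCompact f'] [LocallyOfFiniteType f']
    (φ : X' ⟶ X) (hφ : φ ≫ f = f') :
    ∃ (Xb Xb' : Scheme.{u}) (j : X ⟶ Xb) (j' : X' ⟶ Xb') (g : Xb ⟶ Spec (CommRingCat.of k))
      (g' : Xb' ⟶ Spec (CommRingCat.of k)) (ψ : Xb' ⟶ Xb) (E : Xb.IdealSheafData) (E' : Xb'.IdealSheafData),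
      IsOpenImmersion j ∧ IsOpenImmersion j' ∧ IsProper g ∧ IsProper g' ∧ j ≫ g = f ∧ j' ≫ g' = f' ∧
      IsProper ψ ∧ ψ ≫ g = g' ∧ j' ≫ ψ = φ ≫ j ∧
      BlowUp.IsEffCartierIdeal E ∧ (E.support : Set Xb) = (Set.range j.base)ᶜ ∧
      BlowUp.IsEffCartierIdeal E' ∧ (E'.support : Set Xb') = (Set.range j'.base)ᶜ := by
  obtain ⟨Xc, jc, gc, hjc, -, hgc, hjg⟩ := Groth.Agent.S0384.result f
  haveI := hjc
  haveI := hgc
  haveI : IsLocallyNoetherian Xc := LocallyOfFiniteType.isLocallyNoetherian gc
  haveI : CompactSpace Xc := QuasiCompact.compactSpace_of_compactSpace gc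
  haveI : IsNoetherian Xc := ⟨⟩
  obtain ⟨Xb, b, j, E, hb, hj, hjb, hE, hsE⟩ := exists_divisor_boundary jc
  haveI := hb
  haveI := hj
  haveI : IsLocallyNoetherian Xb := LocallyOfFiniteType.isLocallyNoetherian b
  haveI : CompactSpace Xb := QuasiCompact.compactSpace_of_compactSpace b
  haveI : IsNoetherian Xb := ⟨⟩
  have hφ' : (φ ≫ j) ≫ b ≫ gc = f' := by rw [Category.assoc, reassoc_of% hjb, hjg, hφ]
  haveI : IsSeparated ((φ ≫ j) ≫ b ≫ gc) := by rw [hφ']; infer_instance
  haveI : IsSeparated (φ ≫ j) := IsSeparated.of_comp (φ ≫ j) (b ≫ gc)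
  haveI : LocallyOfFiniteType ((φ ≫ j) ≫ b ≫ gc) := by rw [hφ']; infer_instance
  haveI : LocallyOfFiniteType (φ ≫ j) := locallyOfFiniteType_of_comp (φ ≫ j) (b ≫ gc)
  haveI : QuasiCompact ((φ ≫ j) ≫ b ≫ gc) := by rw [hφ']; infer_instance
  haveI : QuasiCompact (φ ≫ j) := QuasiCompact.of_comp (φ ≫ j) (b ≫ gc)
  obtain ⟨Xc', jc', gc', hjc', -, hgc', hjg'⟩ := Groth.Agent.S0384.result (φ ≫ j)
  haveI := hjc'
  haveI := hgc'
  haveI : IsLocallyNoetherian Xc' := LocallyOfFiniteType.isLocallyNoetherian gc'
  haveI : CompactSpace Xc' := QuasiCompact.compactSpace_of_compactSpace gc'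
  haveI : IsNoetherian Xc' := ⟨⟩
  obtain ⟨Xb', b', j', E', hb', hj', hjb', hE', hsE'⟩ := exists_divisor_boundary jc'
  haveI := hb'
  refine ⟨Xb, Xb', j, j', b ≫ gc, (b' ≫ gc') ≫ b ≫ gc, b' ≫ gc', E, E', hj, hj', inferInstance,
    inferInstance, by rw [reassoc_of% hjb, hjg], ?_, inferInstance, rfl, ?_, hE, hsE, hE', hsE'⟩
  · rw [Category.assoc, reassoc_of% hjb', reassoc_of% hjg', reassoc_of% hjb, hjg, hφ]
  · rw [reassoc_of% hjb', hjg']


end Groth.Agent.S19351
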