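import Groth.Statements.S19347
import Groth.Agent.S0384
import Groth.Agent.S19351
import Groth.Agent.L20.ImgModel.Main
import Groth.Agent.L13.Nagata.LocFreeCompact
import Groth.Agent.L17.BC.Efface
import Groth.Agent.L18.LocFreeTilde
import Groth.Agent.L29.DCoh.Amplitude

set_option autoImplicit false
universe u
open RigCh

set_option backward.isDefEq.respectTransparency.types false
set_option linter.style.haveILetI false
set_option backward.isDefEq.respectTransparency.types false
open AlgebraicGeometry CategoryTheory CategoryTheory.Limits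

namespace Groth.Agent.S19347

/-- A short exact sequence with locally free last term stays exact under pullback. -/
theorem shortExact_pullback {X X' : Scheme.{u}} {S : ShortComplex X.Modules} (hS : S.ShortExact)
    (h3 : FlatMod.IsFinLocFree S.X₃) (g : X' ⟶ X) : (S.map (Scheme.Modules.pullback g)).ShortExact := by
  refine Groth.L17.BC.Efface.shortExact_pullback hS (fun x => ?_) g
  haveI := hS.mono_f
  haveI := hS.epi_g
  have hx : (S.map (Groth.L00.Stk.F X x)).ShortExact := hS.map_of_exact _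
  haveI := Groth.L18.LFP.free_stalk S.X₃ h3 x
  haveI : Projective (S.map (Groth.L00.Stk.F X x)).X₃ :=
    ModuleCat.projective_of_free (Module.Free.chooseBasis (X.presheaf.stalk x) (S.X₃.presheaf.stalk x))
  exact (hx.splittingOfProjective).isSplitMono_f

/-- Isomorphisms on two terms of short exact sequences extend to the first. -/
theorem exists_iso₁ {X : Scheme.{u}} {A B : ShortComplex X.Modules} (hA : A.ShortExact) (hB : B.ShortExact)
    (e₂ : A.X₂ ≅ B.X₂) (e₃ : A.X₃ ≅ B.X₃) (h : A.g ≫ e₃.hom = e₂.hom ≫ B.g) :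
    ∃ e₁ : A.X₁ ≅ B.X₁, A.f ≫ e₂.hom = e₁.hom ≫ B.f := by
  haveI := hA.mono_f
  haveI := hB.mono_f
  have h' : B.g ≫ e₃.inv = e₂.inv ≫ A.g := by
    rw [← cancel_epi e₂.hom, Iso.hom_inv_id_assoc, ← Category.assoc, ← h, Category.assoc, Iso.hom_inv_id,
      Category.comp_id]
  obtain ⟨u, hu⟩ := KernelFork.IsLimit.lift' hB.fIsKernel (A.f ≫ e₂.hom)
    (by rw [Category.assoc, ← h, A.zero_assoc, zero_comp])
  obtain ⟨v, hv⟩ := KernelFork.IsLimit.lift' hA.fIsKernel (B.f ≫ e₂.inv)
    (by rw [Category.assoc, ← h', B.zero_assoc, zero_comp])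
  change u ≫ B.f = _ at hu
  change v ≫ A.f = _ at hv
  refine ⟨⟨u, v, ?_, ?_⟩, hu.symm⟩
  · rw [← cancel_mono A.f, Category.assoc, hv, reassoc_of% hu, Iso.hom_inv_id, Category.comp_id, Category.id_comp]
  · rw [← cancel_mono B.f, Category.assoc, hu, reassoc_of% hv, Iso.inv_hom_id, Category.comp_id, Category.id_comp]

/-- An epimorphism of locally free modules on an open part extends, after a modification trivial over that
part, to an epimorphism of locally free modules, and then to a short exact sequence over a model with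
divisor boundary. -/
theorem exists_extension {X Y : Scheme.{u}} [IsNoetherian Y] (j : X ⟶ Y) [IsOpenImmersion j]
    [IsSchemeTheoreticallyDominant j] (S : ShortComplex X.Modules) (hS : S.ShortExact)
    (h₃ : FlatMod.IsFinLocFree S.X₃) (E : Y.Modules) (hE : FlatMod.IsFinLocFree E)
    (e : (Scheme.Modules.pullback j).obj E ≅ S.X₂) :
    ∃ (Y' : Scheme.{u}) (b : Y' ⟶ Y) (j' : X ⟶ Y') (T : ShortComplex Y'.Modules),
      IsProper b ∧ IsOpenImmersion j' ∧ j' ≫ b = j ∧ T.ShortExact ∧
      FlatMod.IsFinLocFree T.X₁ ∧ FlatMod.IsFinLocFree T.X₂ ∧ FlatMod.IsFinLocFree T.X₃ ∧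
      ∃ (e₂ : (Scheme.Modules.pullback j').obj T.X₂ ≅ S.X₂) (e₃ : (Scheme.Modules.pullback j').obj T.X₃ ≅ S.X₃),
        (Scheme.Modules.pullback j').map T.g ≫ e₃.hom = e₂.hom ≫ S.g := by
  haveI := hS.epi_g
  haveI : IsLocallyNoetherian X := isLocallyNoetherian_of_isOpenImmersion j
  haveI : CompactSpace X :=
    j.isOpenEmbedding.isInducing.isCompact_iff.2 (TopologicalSpace.NoetherianSpace.isCompact _) |> isCompact_univ_iff.1
  haveI : QuasiCompact j := quasiCompact_of_compactSpace j
  have h₃c : Coh.IsCoh S.X₃ := Groth.L16.NegPow.isCoh_of_isFinLocFree h₃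
  have hEc : Coh.IsCoh E := Groth.L16.NegPow.isCoh_of_isFinLocFree hE
  haveI := h₃c.1
  haveI := hEc.1
  haveI : Coh.IsQCoh ((Scheme.Modules.pushforward j).obj S.X₃) := Groth.L16.QcqsPush.isQCoh_push S.X₃ j
  let P := Scheme.Modules.pullback j
  let adj := Scheme.Modules.pullbackPushforwardAdjunction j
  let φ : E ⟶ (Scheme.Modules.pushforward j).obj S.X₃ := (adj.homEquiv _ _) (e.hom ≫ S.g)
  let F := Abelian.image φ
  let p : E ⟶ F := Abelian.factorThruImage φ
  haveI hFq : Coh.IsQCoh F := Groth.L13.GGH1.isQCoh_image φ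
  have hF : Coh.IsCoh F := ⟨hFq, Groth.L14.Quot.isFT_of_epi p hEc.2⟩
  let α : P.obj F ⟶ S.X₃ := (adj.homEquiv _ _).symm (Abelian.image.ι φ)
  have hpα : P.map p ≫ α = e.hom ≫ S.g := by
    show P.map p ≫ (adj.homEquiv _ _).symm (Abelian.image.ι φ) = _
    rw [← adj.homEquiv_naturality_left_symm, Abelian.image.fac]
    exact Equiv.symm_apply_apply _ _
  haveI : Epi (P.map p ≫ α) := by rw [hpα]; infer_instance
  haveI : Epi α := epi_of_epi (P.map p) α
  haveI : Mono α := by
    show Mono ((adj.homEquiv _ _).symm (Abelian.image.ι φ))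
    rw [adj.homEquiv_counit]
    haveI hm : Mono ((Scheme.Modules.restrictFunctor j).map (Abelian.image.ι φ)) := inferInstance
    haveI : Mono (P.map (Abelian.image.ι φ)) :=
      ((MorphismProperty.monomorphisms _).arrow_mk_iso_iff
        (Arrow.isoMk ((Scheme.Modules.restrictFunctorIsoPullback j).app _)
          ((Scheme.Modules.restrictFunctorIsoPullback j).app _)
          ((Scheme.Modules.restrictFunctorIsoPullback j).hom.naturality _).symm)).1 hm
    haveI : IsIso (Scheme.Modules.restrictAdjunction j).counit := inferInstance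
    haveI : IsIso (adj.counit.app S.X₃) := by
      haveI : (Scheme.Modules.pushforward j).Full := inferInstance
      haveI : (Scheme.Modules.pushforward j).Faithful := inferInstance
      infer_instance
    infer_instance
  haveI : IsIso α := isIso_of_mono_of_epi α
  let U : Y.Opens := j.opensRange
  haveI : IsSchemeTheoreticallyDominant U.ι := ⟨by
    rw [← Scheme.Hom.ker_comp_of_isIso j.isoOpensRange.hom U.ι, Scheme.Hom.isoOpensRange_hom_ι]
    exact IsSchemeTheoreticallyDominant.ker_eq_bot j⟩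
  have hU : FlatMod.IsFinLocFree (F.restrict U.ι) :=
    Groth.L29.LocFree.of_iso ((Scheme.Modules.pullback j.isoOpensRange.inv).mapIso (asIso α).symm ≪≫
      (Scheme.Modules.pullbackComp _ j).app F ≪≫
      (Scheme.Modules.pullbackCongr (Scheme.Hom.isoOpensRange_inv_comp j)).app F ≪≫
      ((Scheme.Modules.restrictFunctorIsoPullback U.ι).app F).symm)
      (Groth.L29.LocFree.pullback _ h₃)
  obtain ⟨J, Y', b, hb, hJ, hG, hq⟩ := Groth.L20.ImgModel.exists_locFree_image_blowUp U hF hU
  haveI := Groth.L13.BU.isProper_blowUp hb hJ.1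
  haveI := Groth.L13.Nagata.isIso_restrict_of_admissible hb hJ.2
  let η := (Scheme.Modules.restrictAdjunction (b ⁻¹ᵁ U).ι).unit.app ((Scheme.Modules.pullback b).obj F)
  let q : (Scheme.Modules.pullback b).obj F ⟶ Abelian.image η := Abelian.factorThruImage η
  haveI : (Scheme.Modules.pullback b).IsLeftAdjoint := (Scheme.Modules.pullbackPushforwardAdjunction b).isLeftAdjoint
  haveI : Epi ((Scheme.Modules.pullback b).map p) := inferInstance
  let g' : (Scheme.Modules.pullback b).obj E ⟶ Abelian.image η := (Scheme.Modules.pullback b).map p ≫ q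
  haveI : Epi g' := epi_comp _ _
  have hE' : FlatMod.IsFinLocFree ((Scheme.Modules.pullback b).obj E) := Groth.L29.LocFree.pullback _ hE
  let T : ShortComplex Y'.Modules := ShortComplex.mk (kernel.ι g') g' (kernel.condition g')
  have hT : T.ShortExact :=
    { exact := T.exact_of_f_is_kernel (kernelIsKernel g'), mono_f := inferInstanceAs (Mono (kernel.ι g')),
      epi_g := inferInstanceAs (Epi g') }
  let a : X ⟶ ((b ⁻¹ᵁ U : Y'.Opens) : Scheme.{u}) := j.isoOpensRange.hom ≫ inv (b ∣_ U)
  let j' := a ≫ (b ⁻¹ᵁ U).ι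
  have hj : j' ≫ b = j := by
    simp only [j', a, Category.assoc, ← morphismRestrict_ι, IsIso.inv_hom_id_assoc,
      Scheme.Hom.isoOpensRange_hom_ι, U]
  haveI hqr : IsIso ((Scheme.Modules.restrictFunctor (b ⁻¹ᵁ U).ι).map q) := hq
  haveI : IsIso ((Scheme.Modules.pullback (b ⁻¹ᵁ U).ι).map q) :=
    (NatIso.isIso_map_iff (Scheme.Modules.restrictFunctorIsoPullback (b ⁻¹ᵁ U).ι) q).1 hqr
  haveI : IsIso ((Scheme.Modules.pullback j').map q) := by
    rw [← NatIso.isIso_map_iff (Scheme.Modules.pullbackComp a (b ⁻¹ᵁ U).ι) q]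
    exact inferInstanceAs (IsIso ((Scheme.Modules.pullback a).map ((Scheme.Modules.pullback (b ⁻¹ᵁ U).ι).map q)))
  let Ψ : Scheme.Modules.pullback b ⋙ Scheme.Modules.pullback j' ≅ P :=
    Scheme.Modules.pullbackComp j' b ≪≫ Scheme.Modules.pullbackCongr hj
  refine ⟨Y', b, j', T, inferInstance, inferInstance, hj, hT,
    Groth.L29.DC.isFinLocFree_kernel_of_epi g' hE' hG, hE', hG, Ψ.app E ≪≫ e,
    (asIso ((Scheme.Modules.pullback j').map q)).symm ≪≫ Ψ.app F ≪≫ asIso α, ?_⟩
  show (Scheme.Modules.pullback j').map ((Scheme.Modules.pullback b).map p ≫ q) ≫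
    inv ((Scheme.Modules.pullback j').map q) ≫ Ψ.hom.app F ≫ α = (Ψ.hom.app E ≫ e.hom) ≫ S.g
  rw [Functor.map_comp, Category.assoc, IsIso.hom_inv_id_assoc, Category.assoc, ← hpα, ← Category.assoc,
    ← Category.assoc]
  congr 1
  exact Ψ.hom.naturality p

end Groth.Agent.S19347
namespace Groth.Agent.S19347

open AlgebraicGeometry CategoryTheory in
/-- Let k be a field, X a separated k-scheme of finite type and 0 → F₁ → F₂ → F₃ → 0 a short exact
sequence of finite locally free O_X-modules. Then there are an open immersion j of X, over k, into a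
scheme proper over k, such that the complement of the image of j is the support of an effective
Cartier divisor (a quasi-coherent ideal sheaf which near every point is generated on some affine
open by a single nonzerodivisor), and a short exact sequence 0 → G₁ → G₂ → G₃ → 0 of finite locally
free modules on that scheme whose pullback along j is isomorphic to the given sequence (isomorphisms
on the three terms commuting with the maps). (In the source, compactifications have divisor boundary
by a standing convention, so the divisor clause is part of the published statement, although the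
published proof does not re-verify it for the compactification it constructs. The source assumes k
of positive characteristic; this plays no role in the statement or its proof.) -/
theorem result (k : Type u) [Field k]
    (X : Scheme.{u}) (f : X ⟶ Spec (CommRingCat.of k)) [IsSeparated f] [QuasiCompact f] [LocallyOfFiniteType f]
    (S : ShortComplex X.Modules) (hS : S.ShortExact)
    (h₁ : FlatMod.IsFinLocFree S.X₁) (h₂ : FlatMod.IsFinLocFree S.X₂) (h₃ : FlatMod.IsFinLocFree S.X₃) :
    ∃ (Xb : Scheme.{u}) (j : X ⟶ Xb) (g : Xb ⟶ Spec (CommRingCat.of k)) (E : Xb.IdealSheafData),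
      IsOpenImmersion j ∧ IsProper g ∧ j ≫ g = f ∧
      BlowUp.IsEffCartierIdeal E ∧ (E.support : Set Xb) = (Set.range j.base)ᶜ ∧
      ∃ (T : ShortComplex Xb.Modules), T.ShortExact ∧
        FlatMod.IsFinLocFree T.X₁ ∧ FlatMod.IsFinLocFree T.X₂ ∧ FlatMod.IsFinLocFree T.X₃ ∧
        ∃ (e₁ : (Scheme.Modules.pullback j).obj T.X₁ ≅ S.X₁) (e₂ : (Scheme.Modules.pullback j).obj T.X₂ ≅ S.X₂)
          (e₃ : (Scheme.Modules.pullback j).obj T.X₃ ≅ S.X₃),
          (Scheme.Modules.pullback j).map T.f ≫ e₂.hom = e₁.hom ≫ S.f ∧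
          (Scheme.Modules.pullback j).map T.g ≫ e₃.hom = e₂.hom ≫ S.g := by
  obtain ⟨Xc, jc, gc, hjc, hjq, hgc, hjg⟩ := Groth.Agent.S0384.result f
  haveI := hjc
  haveI := hgc
  haveI := hjq
  obtain ⟨Y, j, g, hj, hjq', hjd, hg, -, hjg', hext⟩ :=
    Groth.L13.Nagata.exists_locFree_compactification jc gc (fun _ : Unit => S.X₂) (fun _ => h₂)
  obtain ⟨E₂, hE₂, ⟨e⟩⟩ := hext ()
  haveI := hj
  haveI := hg
  haveI := hjd
  haveI : IsLocallyNoetherian Y := LocallyOfFiniteType.isLocallyNoetherian g
  haveI : CompactSpace Y := QuasiCompact.compactSpace_of_compactSpace g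
  haveI : IsNoetherian Y := ⟨⟩
  obtain ⟨Y', b, j', T, hb, hj', hjb, hT, hT₁, hT₂, hT₃, e₂, e₃, he⟩ := exists_extension j S hS h₃ E₂ hE₂ e
  haveI := hb
  haveI := hj'
  haveI : IsLocallyNoetherian Y' := LocallyOfFiniteType.isLocallyNoetherian b
  haveI : CompactSpace Y' := QuasiCompact.compactSpace_of_compactSpace b
  haveI : IsNoetherian Y' := ⟨⟩
  obtain ⟨Xb, c, j₃, D, hc, hj₃, hjc₃, hD, hsD⟩ := Groth.Agent.S19351.exists_divisor_boundary j'
  haveI := hc
  haveI := hj₃
  let Ψ : Scheme.Modules.pullback c ⋙ Scheme.Modules.pullback j₃ ≅ Scheme.Modules.pullback j' :=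
    Scheme.Modules.pullbackComp j₃ c ≪≫ Scheme.Modules.pullbackCongr hjc₃
  have hT' := shortExact_pullback hT hT₃ c
  refine ⟨Xb, j₃, c ≫ b ≫ g, D, hj₃, inferInstance,
    by rw [reassoc_of% hjc₃, reassoc_of% hjb, hjg', hjg], hD, hsD, T.map (Scheme.Modules.pullback c), hT',
    Groth.L29.LocFree.pullback _ hT₁, Groth.L29.LocFree.pullback _ hT₂, Groth.L29.LocFree.pullback _ hT₃, ?_⟩
  have hA := shortExact_pullback hT' (Groth.L29.LocFree.pullback _ hT₃) j₃
  have h : (Scheme.Modules.pullback j₃).map ((Scheme.Modules.pullback c).map T.g) ≫ (Ψ.app T.X₃ ≪≫ e₃).hom =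
      (Ψ.app T.X₂ ≪≫ e₂).hom ≫ S.g := by
    show _ ≫ Ψ.hom.app T.X₃ ≫ e₃.hom = (Ψ.hom.app T.X₂ ≫ e₂.hom) ≫ S.g
    rw [Category.assoc, ← he, ← Category.assoc, ← Category.assoc]
    congr 1
    exact Ψ.hom.naturality T.g
  obtain ⟨e₁, h₁'⟩ := exists_iso₁ hA hS (Ψ.app T.X₂ ≪≫ e₂) (Ψ.app T.X₃ ≪≫ e₃) h
  exact ⟨e₁, Ψ.app T.X₂ ≪≫ e₂, Ψ.app T.X₃ ≪≫ e₃, h₁', h⟩


end Groth.Agent.S19347
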