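import Groth.Statements.S19348
import Mathlib.RingTheory.Jacobson.Ideal

set_option autoImplicit false
universe u
open RigCh

namespace Groth.Agent.S19348

/-- Let p be a prime and m a natural number, P a commutative ring complete and separated for the p-adic
topology, and I an ideal of P with a divided power structure of level m, that is a sub-ideal J of I
endowed with divided powers such that x ^ (p ^ m) and p * x lie in J for all x in I. Then an element
of P whose class in P / I is invertible is invertible in P. (The source states this for a lift of a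
unit to the p-adically completed level-m divided power envelope of a closed immersion; the statement
here keeps exactly what its argument uses: completeness for p and the level-m divided powers on the
kernel.) -/
theorem result (p : ℕ) [Fact p.Prime] (m : ℕ)
    (P : Type u) [CommRing P] [IsAdicComplete (Ideal.span {(p : P)}) P]
    (I J : Ideal P) (hJ : DividedPowers J) (hJI : J ≤ I)
    (hpow : ∀ x ∈ I, x ^ (p ^ m) ∈ J) (hmul : ∀ x ∈ I, (p : P) * x ∈ J)
    (u : P) (hu : IsUnit (Ideal.Quotient.mk I u)) : IsUnit u := by
  have hp : p.Prime := Fact.out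
  obtain ⟨v, hv⟩ := hu.exists_right_inv
  obtain ⟨v, rfl⟩ := Ideal.Quotient.mk_surjective v
  have hx : u * v - 1 ∈ I := by
    rw [← Ideal.Quotient.eq, map_mul, hv, map_one]
  set x := u * v - 1 with hxdef
  have h2 : x ^ p ^ (m + 1) ∈ Ideal.span {(p : P)} := by
    rw [pow_succ, pow_mul, ← hJ.factorial_mul_dpow_eq_pow (hpow x hx)]
    refine Ideal.mem_span_singleton.2 (dvd_mul_of_dvd_left ?_ _)
    exact Nat.cast_dvd_cast (Nat.dvd_factorial hp.pos le_rfl)
  have h3 : x ∈ Ideal.jacobson (⊥ : Ideal P) := by
    rw [Ideal.mem_jacobson_bot] at *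
    intro y
    have hjac : Ideal.span {(p : P)} ≤ Ideal.jacobson (⊥ : Ideal P) := IsAdicComplete.le_jacobson_bot _
    have hrad : (Ideal.jacobson (⊥ : Ideal P)).IsRadical := Ideal.isRadical_jacobson ⊥
    exact Ideal.mem_jacobson_bot.1 (hrad ⟨_, hjac h2⟩) y
  have h4 := Ideal.mem_jacobson_bot.1 h3 1
  rw [mul_one, hxdef, sub_add_cancel] at h4
  exact isUnit_of_mul_isUnit_left h4

end Groth.Agent.S19348
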