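import Groth.Statements.S19349
import Groth.Agent.L07.FittStrict

set_option autoImplicit false
universe u
open RigCh

set_option backward.isDefEq.respectTransparency.types false
namespace Groth.Agent.S19349

open AlgebraicGeometry CategoryTheory in
/-- Let X be a separated scheme of finite type over a field k, I a quasi-coherent ideal sheaf on X, b :
X' → X a blowing up of X in I and F a coherent O_X-module. Then any strict transform G of F along b
(an epimorphism from the pullback of F onto G whose kernel consists, affine-locally, of the sections
annihilated by a power of the exceptional ideal) is a coherent module on X': quasi-coherent of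
finite type, X' being again of finite type over k. (The source assumes k of positive characteristic;
this plays no role here.) -/
theorem result (k : Type u) [Field k]
    (X : Scheme.{u}) (f : X ⟶ Spec (CommRingCat.of k)) [IsSeparated f] [QuasiCompact f] [LocallyOfFiniteType f]
    (I : X.IdealSheafData) {X' : Scheme.{u}} (b : X' ⟶ X) (hb : BlowUp.IsBlowUp b I)
    (F : X.Modules) (hF : Coh.IsCoh F) (G : X'.Modules) (π : (Scheme.Modules.pullback b).obj F ⟶ G)
    (hG : BlowUp.IsStrictTransform b I F G π) : Coh.IsCoh G := by
  exact Groth.L07.FittStrict.isCoh_strict hF hb.1 hG

end Groth.Agent.S19349
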