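import Groth.Statements.S19350
import Groth.Agent.S1696
import Groth.Agent.L29.DCoh.Flat
import Groth.Agent.L07.FittStrict
import Groth.Agent.L19.ZClos.Criteria
import Groth.Agent.L22.WedgePair.Sheaf
import Groth.Agent.L19.ProjBdl.Basis
import Groth.Agent.L20.DescLocus.Main
import Groth.Agent.L29.DCoh.PCQCoh
import Groth.Agent.L14.ParaF.FinLoc

set_option autoImplicit false
universe u
open RigCh

set_option backward.isDefEq.respectTransparency.types false
namespace Groth.Agent.S19350

open AlgebraicGeometry CategoryTheory in
/-- Let X be a separated scheme of finite type over a field k, I a quasi-coherent ideal sheaf on X, b :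
X' → X a blowing up of X in I and F a finite locally free O_X-module. Then for any strict transform
G of F along b (an epimorphism π from the pullback of F onto G whose kernel consists,
affine-locally, of the sections annihilated by a power of the exceptional ideal), π is an
isomorphism and G is finite locally free. (The published statement asserts only that the strict
transform is locally free. The source assumes k of positive characteristic, which plays no role
here.) -/
theorem result (k : Type u) [Field k]
    (X : Scheme.{u}) (f : X ⟶ Spec (CommRingCat.of k)) [IsSeparated f] [QuasiCompact f] [LocallyOfFiniteType f]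
    (I : X.IdealSheafData) {X' : Scheme.{u}} (b : X' ⟶ X) (hb : BlowUp.IsBlowUp b I)
    (F : X.Modules) (hF : FlatMod.IsFinLocFree F) (G : X'.Modules) (π : (Scheme.Modules.pullback b).obj F ⟶ G)
    (hG : BlowUp.IsStrictTransform b I F G π) : IsIso π ∧ FlatMod.IsFinLocFree G := by
  haveI := hG.1
  haveI : Coh.IsQCoh F := Groth.L29.DC.PCQCoh.isQCoh_of_isFinLocFree hF
  have hid := Groth.Agent.S1696.result I b hb F inferInstance
    fun s _ => Groth.L29.DC.isFlat_of_isFinLocFree hF s
  have key : ∀ (V : X'.affineOpens) (m : ((Scheme.Modules.pullback b).obj F).presheaf.obj (Opposite.op V.1)),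
      π.app V.1 m = 0 → m = 0 := fun V m hm => (hid.2 V m).2 ((hG.2 V m).1 hm)
  haveI : Mono π := Groth.L19.ZClos.mono_of_app_injective π fun V => by
    refine (injective_iff_map_eq_zero (π.app V).hom).2 fun m hm => ?_
    refine Groth.L22.WedgePair.ext_affine _ fun W hW => ?_
    refine (key W _ ?_).trans (map_zero (((Scheme.Modules.pullback b).obj F).presheaf.map (homOfLE hW).op).hom).symm
    rw [Groth.L19.ProjBdl.app_rs, show π.app V m = 0 from hm]
    exact map_zero (G.presheaf.map (homOfLE hW).op).hom
  haveI : IsIso π := isIso_of_mono_of_epi π
  exact ⟨inferInstance, Groth.L14.ParaF.finLocFree_of_iso (asIso π) (Groth.L20.DescLocus.isFinLocFree_pullback b hF)⟩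

end Groth.Agent.S19350
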