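import Groth.Statements.S19352
import Groth.Agent.L22.Big.SurfaceMain
set_option linter.style.haveILetI false
-- import your own Groth.Agent.* helpers here

set_option autoImplicit false
universe u
open CategoryTheory CategoryTheory.Limits AlgebraicGeometry
open Surf

namespace Groth.Agent.S19352

/-- Let k be an algebraically closed field and X a nonsingular projective surface over k, namely an
integral scheme, smooth over k, of dimension two, given with a closed immersion ι into a projective
space P^n_k over k, and let H = ι^* O(1) be the invertible module of a hyperplane section. If L is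
an invertible O_X-module (the module of a divisor D) with dim_k H^0(X, L) > 1, then (L·H) > 0. Here
(A·B) denotes the intersection number of two invertible modules, the alternating sum χ(O_X) − χ(A) −
χ(B) + χ(A ⊗ B) of Euler characteristics (cohomology in degrees at most two); for two invertible
modules this agrees with the same sum formed from their inverses. -/
theorem result (k : Type u) [Field k] [IsAlgClosed k]
    (X : Scheme.{u}) [X.Over (Spec (CommRingCat.of k))] [AlgebraicGeometry.IsIntegral X]
    [Smooth (X ↘ Spec (CommRingCat.of k))] (hdim : topologicalKrullDim X = 2)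
    (n : ℕ) (ι : X ⟶ CohB1.ProjSpace n k) [IsClosedImmersion ι]
    (hι : ι ≫ CohB1.ProjSpace.toSpec n k = X ↘ Spec (CommRingCat.of k))
    (L : X.Modules) (hL : PicF.IsInvertible L)
    (hsec : 1 < Module.finrank k (Coh.HH X L 0)) :
    0 < FGA.intNum k X 2 ![L, (Scheme.Modules.pullback ι).obj (Twist.twistProjSpace n k 1)] (Coh.structureModule X) := by
  obtain ⟨hproper, hAmple⟩ := Groth.L22.Big.proj_facts k hdim ι hι
  haveI := hproper
  haveI : AlgebraicGeometry.IsIntegral X := inferInstance
  have hd : topologicalKrullDim X ≤ (2 : ℕ) := hdim.le
  rw [← Int.cast_pos (R := ℚ), Groth.L22.Big.intNum_eq_ii k hd]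
  obtain ⟨s, hs⟩ := Groth.L22.Big.exists_nonzero_of_h0 k (N := L)
    (by rw [Groth.L22.Big.h0_def]; omega)
  refine Groth.L22.Big.ii_effective_pos k hd hdim hL hAmple s hs ⟨fun e => ?_⟩
  have h1 : Module.finrank k (Coh.HH X (Coh.structureModule X) 0) = 1 :=
    Groth.L22.CurveDeg.h0_structure_eq_one k
  rw [← Groth.L03.Euler.finrank_HH_of_iso e 0, h1] at hsec
  omega


end Groth.Agent.S19352
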