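import Groth.Statements.S19358
import Groth.Agent.L13.Fan.Glue

set_option autoImplicit false
universe u
open CategoryTheory Opposite Instab
open Instab Instab.Fan

namespace Groth.Agent.S19358

open Groth.Agent.L13.Fan

/-- Let f : F ⟶ G be a map of formal fans. If f is injective on n-cones for every n, then the induced
continuous map of projective realizations P F → P G is injective; if f is surjective on n-cones for
every n, then P F → P G is surjective. -/
theorem result {F G : Fan.{u}} (f : F ⟶ G) :
    ((∀ n : ICone, Function.Injective (f.app (op n))) → Function.Injective (Fan.P.map f)) ∧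
    ((∀ n : ICone, Function.Surjective (f.app (op n))) → Function.Surjective (Fan.P.map f)) := by
  constructor
  · intro hinj x x' h
    obtain ⟨n, ξ, v, rfl⟩ := exists_mk x
    obtain ⟨m, ξ', w, rfl⟩ := exists_mk x'
    obtain ⟨k, α, β, y, he, h1, h2⟩ := (mk_eq_iff _ _ _ _).mp h
    refine (mk_eq_iff _ _ _ _).mpr ⟨k, α, β, y, hinj k ?_, h1, h2⟩
    rw [NatTrans.naturality_apply f, NatTrans.naturality_apply f]
    exact he
  · intro hsurj x
    obtain ⟨n, ξ, v, rfl⟩ := exists_mk x
    obtain ⟨σ, rfl⟩ := hsurj n ξ
    exact ⟨Fan.P.mk σ v, rfl⟩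

end Groth.Agent.S19358
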