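import Groth.Statements.S19359
import Groth.Agent.L13.Fan.Glue

set_option autoImplicit false
universe u
open CategoryTheory Opposite Instab
open Instab Instab.Fan

namespace Groth.Agent.S19359

open Groth.Agent.L13.Fan

theorem pb_ext {F F' G : Fan.{u}} {f : F ⟶ G} {g : F' ⟶ G} {k : ICone}
    {p q : (Limits.pullback f g).obj (op k)}
    (h₁ : (Limits.pullback.fst f g).app _ p = (Limits.pullback.fst f g).app _ q)
    (h₂ : (Limits.pullback.snd f g).app _ p = (Limits.pullback.snd f g).app _ q) : p = q :=
  uliftYonedaEquiv.{u}.symm.injective (Limits.pullback.hom_ext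
    (by rw [uliftYonedaEquiv_symm_comp, uliftYonedaEquiv_symm_comp, h₁])
    (by rw [uliftYonedaEquiv_symm_comp, uliftYonedaEquiv_symm_comp, h₂]))


/-- A formal fan G is quasi-separated (the fibre product of any two of its cones is a bounded fan) if
and only if, for every bounded formal fan F, every map of fans F ⟶ G is bounded (its base change
along each cone of G is a bounded fan). -/
theorem result (G : Fan.{u}) :
    G.IsQuasiSeparated ↔
      ∀ (F : Fan.{u}) (f : F ⟶ G), F.IsBounded → Fan.IsBoundedMap f := by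
  classical
  constructor
  · intro hG F f hF n σ
    obtain ⟨t, ht⟩ := hF
    have hcomp : ∀ (e : Σ m : ICone, F.obj (op m)),
        Fan.coneMap e.2 ≫ f = Fan.coneMap (f.app _ e.2) := fun e =>
      uliftYonedaEquiv_symm_comp (X := op e.1) e.2 f
    let Φ : ∀ e : Σ m : ICone, F.obj (op m),
        Limits.pullback (Fan.coneMap (f.app _ e.2)) (Fan.coneMap σ) ⟶
          Limits.pullback f (Fan.coneMap σ) := fun e =>
      Limits.pullback.lift (Limits.pullback.fst _ _ ≫ Fan.coneMap e.2) (Limits.pullback.snd _ _)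
        (by rw [Category.assoc, hcomp, Limits.pullback.condition])
    choose s hs using fun e : Σ m : ICone, F.obj (op m) => hG e.1 n (f.app _ e.2) σ
    refine ⟨t.biUnion fun e => (s e).image fun c => ⟨c.1, (Φ e).app _ c.2⟩, fun x => ?_⟩
    obtain ⟨k, ζ, v, rfl⟩ := exists_mk x
    obtain ⟨e, he, w, hw⟩ := ht (Fan.P.mk ((Limits.pullback.fst f (Fan.coneMap σ)).app _ ζ) v)
    obtain ⟨j, α, β, y, hαβ, hv, -⟩ := (mk_eq_iff _ _ _ _).mp hw.symm
    let b : (uliftYoneda.{u}.obj n).obj (op j) :=
      (uliftYoneda.{u}.obj n).map α.op ((Limits.pullback.snd f (Fan.coneMap σ)).app _ ζ)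
    let a : (uliftYoneda.{u}.obj e.1).obj (op j) := ULift.up β
    have hab : (Fan.coneMap (f.app _ e.2)).app _ a = (Fan.coneMap σ).app _ b := by
      have h0 : f.app _ (F.map α.op ((Limits.pullback.fst f (Fan.coneMap σ)).app _ ζ)) =
          (Fan.coneMap σ).app _ b := by
        rw [NatTrans.naturality_apply f, pullback_app_condition f (Fan.coneMap σ) ζ,
          ← NatTrans.naturality_apply (Fan.coneMap σ)]
      rw [← h0, hαβ, NatTrans.naturality_apply f]
      rfl
    let η := pbElem _ _ a b hab
    have hΦ : (Φ e).app _ η = (Limits.pullback f (Fan.coneMap σ)).map α.op ζ := by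
      refine pb_ext ?_ ?_
      · rw [← NatTrans.comp_app_apply, Limits.pullback.lift_fst, NatTrans.comp_app_apply, fst_pbElem,
          NatTrans.naturality_apply (Limits.pullback.fst f (Fan.coneMap σ)), hαβ]
        rfl
      · rw [← NatTrans.comp_app_apply, Limits.pullback.lift_snd, snd_pbElem,
          NatTrans.naturality_apply (Limits.pullback.snd f (Fan.coneMap σ))]
    obtain ⟨c, hc, y', hy'⟩ := hs e (Fan.P.mk η y)
    refine ⟨_, Finset.mem_biUnion.mpr ⟨e, he, Finset.mem_image_of_mem _ hc⟩, y', ?_⟩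
    have h := congr_arg (Fan.P.map (Φ e)) hy'
    rw [map_mk, map_mk, hΦ, mk_map, mk_sameRay ζ hv] at h
    exact h
  · intro h n₀ n₁ σ₀ σ₁
    exact h _ (Fan.coneMap σ₀) (isBounded_representable n₀) n₁ σ₁

end Groth.Agent.S19359
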