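import Groth.Prelude.Def_Grpd
import Mathlib.AlgebraicGeometry.Morphisms.Finite
import Mathlib.AlgebraicGeometry.Morphisms.Flat
import Mathlib.AlgebraicGeometry.Morphisms.FinitePresentation
import Mathlib.AlgebraicGeometry.AffineScheme
import Groth.Prelude.Def_CAlg
import Groth.Agent.L02.CMMor.Groupoid

set_option autoImplicit false
namespace CAlg
end CAlg
universe u
open CategoryTheory CategoryTheory.Limits AlgebraicGeometry
open Grpd

namespace Groth.Agent.S1936

/-- Let (U, R, s, t, c) be a groupoid scheme over S with s, t flat and locally of finite presentation.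
There is an open U' ⊆ U such that t⁻¹(U') is exactly the set of points of R at which s is
Cohen–Macaulay, s⁻¹(U') is exactly the set of points at which t is Cohen–Macaulay, and both t
restricted to s⁻¹(U') and s restricted to t⁻¹(U') are surjective onto U. (Part (5), that the
restriction of R to U' is a groupoid with Cohen–Macaulay s', t', then follows and is not restated.)
Cohen–Macaulay at a point: flat there with Cohen–Macaulay fibre local ring (Grpd.IsCMAt). (A
groupoid scheme carries U, R, s, t, c, e, i over S with the groupoid axioms on T-points; 'finite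
locally free' is finite, flat and locally of finite presentation; C ⊂ Γ(U) is the ring of functions
a with s♯(a) = t♯(a) and M = Spec C.) -/
theorem result (S : Scheme.{u}) (G : Grpd.GroupoidScheme S) [Flat G.s] [LocallyOfFinitePresentation G.s] [Flat G.t] [LocallyOfFinitePresentation G.t] : ∃ U' : G.U.Opens, (G.t ⁻¹ᵁ U' : Set G.R) = {r | Grpd.IsCMAt G.s r} ∧ (G.s ⁻¹ᵁ U' : Set G.R) = {r | Grpd.IsCMAt G.t r} ∧ ⇑G.t '' (G.s ⁻¹ᵁ U' : Set G.R) = Set.univ ∧ ⇑G.s '' (G.t ⁻¹ᵁ U' : Set G.R) = Set.univ := by
  obtain ⟨U', h1, h2, h3, h4⟩ := L02.CMMor.exists_cm_objects G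
  exact ⟨U', by simp only [L02.CMMor.grpd_isCMAt_iff]; exact h1,
    by simp only [L02.CMMor.grpd_isCMAt_iff]; exact h2, h3, h4⟩

end Groth.Agent.S1936
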