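import Groth.Statements.S19360
import Groth.Agent.L13.Fan.Glue

set_option autoImplicit false
universe u
open CategoryTheory Opposite Instab
open Instab Instab.Fan

namespace Groth.Agent.S19360

open Groth.Agent.L13.Fan

/-- For maps of formal fans f : F ⟶ G and g : F' ⟶ G, the canonical map from the projective realization
of the fibre product F ×_G F' to the fibre product of topological spaces P F ×_{P G} P F' is
surjective: any x in P F and x' in P F' with the same image in P G come from a common point of P (F
×_G F'). -/
theorem result {F F' G : Fan.{u}} (f : F ⟶ G) (g : F' ⟶ G)
    (x : Fan.P F) (x' : Fan.P F') (h : Fan.P.map f x = Fan.P.map g x') :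
    ∃ y : Fan.P (Limits.pullback f g),
      Fan.P.map (Limits.pullback.fst f g) y = x ∧ Fan.P.map (Limits.pullback.snd f g) y = x' := by
  exact exists_pullback_point f g x x' h

end Groth.Agent.S19360
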