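import Groth.Statements.S19361
import Groth.Agent.L13.Fan.Glue

set_option autoImplicit false
universe u
open CategoryTheory Opposite Instab
open Instab Instab.Fan

namespace Groth.Agent.S19361

open Groth.Agent.L13.Fan

/-- Let F be a formal fan, and suppose the point of P F given by the n₁-cone σ₁ and the vector v₁ equals
the point given by the n₂-cone σ₂ and the vector v₂. Then both points lie in the rational simplex of
a common sub-cone: there are cone morphisms φ₁ : [k] ⟶ [n₁], φ₂ : [k] ⟶ [n₂] with F(φ₁) σ₁ = F(φ₂)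
σ₂ and a nonzero nonnegative vector y of ℝ^k such that φ₁ y is a positive multiple of v₁ and φ₂ y is
a positive multiple of v₂. -/
theorem result (F : Fan.{u}) {n₁ n₂ : ICone}
    (σ₁ : F.obj (op n₁)) (σ₂ : F.obj (op n₂)) (v₁ : Fan.Orth n₁) (v₂ : Fan.Orth n₂)
    (h : Fan.P.mk σ₁ v₁ = Fan.P.mk σ₂ v₂) :
    ∃ (k : ICone) (φ₁ : k ⟶ n₁) (φ₂ : k ⟶ n₂) (y : Fan.Orth k) (c₁ c₂ : ℝ),
      F.map φ₁.op σ₁ = F.map φ₂.op σ₂ ∧ 0 < c₁ ∧ 0 < c₂ ∧
        v₁.1 = c₁ • φ₁.realMap y.1 ∧ v₂.1 = c₂ • φ₂.realMap y.1 := by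
  obtain ⟨k, α, β, y, he, ⟨c, hc, h1⟩, ⟨d, hd, h2⟩⟩ := (mk_eq_iff _ _ _ _).mp h
  exact ⟨k, α, β, y, c, d, he, hc, hd, orthMap_val α y ▸ h1, orthMap_val β y ▸ h2⟩

end Groth.Agent.S19361
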