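import Groth.Statements.S19363
import Groth.Agent.L13.Fan.Glue

set_option autoImplicit false
universe u
open CategoryTheory Opposite Instab
open Instab Instab.Fan

namespace Groth.Agent.S19363

open Groth.Agent.L13.Fan

/-- Let ψ : F ⟶ G be a bounded map of formal fans. Then the induced map P F → P G is a closed map whose
fibres are finite, and its image meets each rational simplex of P G in a finite union of closed
rational sub-simplices: for every n-cone ξ of G there are finitely many cone morphisms φ into [n]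
such that a nonzero nonnegative vector v of ℝ^n gives a point of the image exactly when v is a
positive multiple of φ y for one of these φ and some nonzero nonnegative y. -/
theorem result {F G : Fan.{u}} (ψ : F ⟶ G)
    (hψ : Fan.IsBoundedMap ψ) :
    IsClosedMap (Fan.P.map ψ) ∧ (∀ y : Fan.P G, (Fan.P.map ψ ⁻¹' {y}).Finite) ∧
    ∀ (n : ICone) (ξ : G.obj (op n)), ∃ s : Finset (Σ k : ICone, k ⟶ n),
      {v : Fan.Orth n | Fan.P.mk ξ v ∈ Set.range (Fan.P.map ψ)} =
        ⋃ e ∈ s, {v : Fan.Orth n | ∃ (y : Fan.Orth e.1) (c : ℝ), 0 < c ∧ v.1 = c • e.2.realMap y.1} := by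
  classical
  refine ⟨fun C hC => (isClosed_iff _).mpr fun n ξ => ?_, fun y => ?_, fun n ξ => ?_⟩
  · obtain ⟨s, hs, hs'⟩ := exists_lifts hψ ξ
    convert isClosed_biUnion_rays s (fun e => e.1) (fun e => e.2.2)
      (fun e => Fan.P.mk e.2.1 ⁻¹' C) (fun e => hC.preimage (continuous_mk _))
      (fun e v w hv hw => by simpa [mk_sameRay e.2.1 hw] using hv) using 1
    ext v
    constructor
    · rintro ⟨x, hx, he⟩
      obtain ⟨e, hes, y, rfl, hy⟩ := hs' x v he
      exact ⟨e, hes, y, hx, hy⟩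
    · rintro ⟨e, hes, y, hy, hv⟩
      exact ⟨_, hy, by rw [map_mk, hs e hes, mk_map, mk_sameRay ξ hv]⟩
  · obtain ⟨n, ξ, v, rfl⟩ := exists_mk y
    obtain ⟨s, -, hs'⟩ := exists_lifts hψ ξ
    refine (s.finite_toSet.biUnion (t := fun e => {x | ∃ y : Fan.Orth e.1,
      x = Fan.P.mk e.2.1 y ∧ SameRay v (orthMap e.2.2 y)}) fun e _ => ?_).subset ?_
    · refine Set.Subsingleton.finite ?_
      rintro _ ⟨y₁, rfl, h₁⟩ _ ⟨y₂, rfl, h₂⟩
      exact (mk_sameRay _ ((h₁.symm.trans h₂).of_map _).symm)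
    · intro x hx
      obtain ⟨e, hes, y, rfl, hy⟩ := hs' x v hx
      simp only [Set.mem_iUnion, SetLike.mem_coe]
      exact ⟨e, hes, y, rfl, hy⟩
  · obtain ⟨s, hs, hs'⟩ := exists_lifts hψ ξ
    refine ⟨s.image fun e => ⟨e.1, e.2.2⟩, ?_⟩
    ext v
    simp only [Set.mem_iUnion, Finset.mem_image, exists_prop]
    constructor
    · rintro ⟨x, hx⟩
      obtain ⟨e, hes, y, -, c, hc, he⟩ := hs' x v hx
      exact ⟨_, ⟨e, hes, rfl⟩, y, c, hc, orthMap_val e.2.2 y ▸ he⟩
    · rintro ⟨_, ⟨e, hes, rfl⟩, y, c, hc, he⟩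
      refine ⟨Fan.P.mk e.2.1 y, ?_⟩
      rw [map_mk, hs e hes, mk_map]
      exact mk_sameRay ξ ⟨c, hc, by rw [orthMap_val]; exact he⟩

end Groth.Agent.S19363
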