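import Groth.Statements.S19364
import Groth.Agent.L13.Fan.Glue

set_option autoImplicit false
universe u
open CategoryTheory Opposite Instab
open Instab Instab.Fan

namespace Groth.Agent.S19364

open Groth.Agent.L13.Fan

/-- Let ψ : F ⟶ G be a bounded map of formal fans. Then the induced map P F → P G is surjective if and
only if every rational point of P G lies in its image. (The published lemma also claims that such a
map is injective as soon as it is injective on rational points; that fails, since two copies of the
standard 2-cone glued to each other along all their rational rays map to the standard 2-cone by a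
bounded map that is bijective on rational points and two-to-one elsewhere, and it is not stated
here.) -/
theorem result {F G : Fan.{u}} (ψ : F ⟶ G)
    (hψ : Fan.IsBoundedMap ψ) :
    Function.Surjective (Fan.P.map ψ) ↔
      ∀ y : Fan.P G, y.IsRational → y ∈ Set.range (Fan.P.map ψ) := by
  classical
  refine ⟨fun h y _ => h y, fun h y => ?_⟩
  obtain ⟨n, ξ, v, rfl⟩ := exists_mk y
  obtain ⟨s, hs, hs'⟩ := exists_lifts hψ ξ
  have hD : {v | Fan.P.mk ξ v ∈ Set.range (Fan.P.map ψ)} =
      {v | ∃ e ∈ s, ∃ y ∈ (Set.univ : Set (Fan.Orth e.1)), SameRay v (orthMap e.2.2 y)} := by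
    ext v
    constructor
    · rintro ⟨x, hx⟩
      obtain ⟨e, hes, y, -, hy⟩ := hs' x v hx
      exact ⟨e, hes, y, trivial, hy⟩
    · rintro ⟨e, hes, y, -, hv⟩
      exact ⟨Fan.P.mk e.2.1 y, by rw [map_mk, hs e hes, mk_map, mk_sameRay ξ hv]⟩
  refine mem_of_forall_isIntegral (D := {v | Fan.P.mk ξ v ∈ Set.range (Fan.P.map ψ)}) ?_
    (fun a b ha hb => ?_) (fun a ha => h _ (isRational_mk ξ ha)) v
  · rw [hD]
    exact isClosed_biUnion_rays s (fun e => e.1) (fun e => e.2.2) (fun _ => Set.univ)
      (fun _ => isClosed_univ) (fun _ _ _ _ _ => trivial)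
  · show Fan.P.mk ξ b ∈ Set.range (Fan.P.map ψ)
    rwa [← mk_sameRay ξ hb]

end Groth.Agent.S19364
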