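import Groth.Statements.S19365
import Groth.Agent.L13.Fan.Glue

set_option autoImplicit false
universe u
open CategoryTheory Opposite Instab
open Instab Instab.Fan

namespace Groth.Agent.S19365

open Groth.Agent.L13.Fan

/-- Let F ⟶ G be a map of formal fans which is bounded and injective on n-cones for every n (a bounded
sub-fan). Then the induced map P F → P G is a closed embedding. (The description of its preimage
under a rational simplex as a finite union of rational sub-simplices is the corresponding assertion
for bounded maps and is not repeated here.) -/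
theorem result {F G : Fan.{u}} (ψ : F ⟶ G)
    (hψ : Fan.IsBoundedMap ψ) (hinj : ∀ n : ICone, Function.Injective (ψ.app (op n))) :
    Topology.IsClosedEmbedding (Fan.P.map ψ) := by
  have hcl : IsClosedMap (Fan.P.map ψ) := fun C hC => (isClosed_iff _).mpr fun n ξ => by
    obtain ⟨s, hs, hs'⟩ := exists_lifts hψ ξ
    convert isClosed_biUnion_rays s (fun e => e.1) (fun e => e.2.2)
      (fun e => Fan.P.mk e.2.1 ⁻¹' C) (fun e => hC.preimage (continuous_mk _))
      (fun e v w hv hw => by simpa [mk_sameRay e.2.1 hw] using hv) using 1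
    ext v
    constructor
    · rintro ⟨x, hx, he⟩
      obtain ⟨e, hes, y, rfl, hy⟩ := hs' x v he
      exact ⟨e, hes, y, hx, hy⟩
    · rintro ⟨e, hes, y, hy, hv⟩
      exact ⟨_, hy, by rw [map_mk, hs e hes, mk_map, mk_sameRay ξ hv]⟩
  refine Topology.IsClosedEmbedding.of_continuous_injective_isClosedMap (continuous_map ψ) ?_ hcl
  intro x x' h
  obtain ⟨n, ξ, v, rfl⟩ := exists_mk x
  obtain ⟨m, ξ', w, rfl⟩ := exists_mk x'
  obtain ⟨k, α, β, y, he, h1, h2⟩ := (mk_eq_iff _ _ _ _).mp h
  refine (mk_eq_iff _ _ _ _).mpr ⟨k, α, β, y, hinj k ?_, h1, h2⟩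
  rw [NatTrans.naturality_apply ψ, NatTrans.naturality_apply ψ]
  exact he

end Groth.Agent.S19365
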