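import Groth.Statements.S19367
import Groth.Agent.L13.Fan.Glue

set_option autoImplicit false
universe u
open CategoryTheory Opposite Instab
open Instab Instab.Fan

namespace Groth.Agent.S19367

open Groth.Agent.L13.Fan

/-- Let ψ : F ⟶ G be a map of formal fans with F quasi-separated. Then injectivity of the induced map P
F → P G is equivalent to its injectivity on the rational points of P F. -/
theorem result {F G : Fan.{u}} (ψ : F ⟶ G)
    (hF : F.IsQuasiSeparated) :
    Function.Injective (Fan.P.map ψ) ↔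
      ∀ x y : Fan.P F, x.IsRational → y.IsRational → Fan.P.map ψ x = Fan.P.map ψ y → x = y := by
  classical
  refine ⟨fun h x y _ _ e => h e, fun h x x' hxx => ?_⟩
  obtain ⟨n, ξ, v, rfl⟩ := exists_mk x
  obtain ⟨m, ξ', w, rfl⟩ := exists_mk x'
  obtain ⟨k, α, β, y, he, h1, h2⟩ := (mk_eq_iff _ _ _ _).mp hxx
  rw [← mk_sameRay ξ h1, ← mk_sameRay ξ' h2, ← mk_map, ← mk_map]
  have hab : ψ.app _ (F.map α.op ξ) = ψ.app _ (F.map β.op ξ') := by
    rw [NatTrans.naturality_apply ψ, NatTrans.naturality_apply ψ]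
    exact he
  obtain ⟨s, hs, hs'⟩ := exists_overlaps hF (F.map α.op ξ) (F.map β.op ξ')
  refine mem_of_forall_isIntegral (D := {y | Fan.P.mk (F.map α.op ξ) y = Fan.P.mk (F.map β.op ξ') y})
    ?_ (fun a b ha hb => ?_) (fun a ha => h _ _ (isRational_mk _ ha) (isRational_mk _ ha) ?_) y
  · convert isClosed_biUnion_rays s (fun e => e.1) (fun e => e.2.1)
      (fun e => {z | SameRay (orthMap e.2.1 z) (orthMap e.2.2 z)})
      (fun e => isClosed_sameRay (continuous_orthMap _) (continuous_orthMap _))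
      (fun e z z' hz hz' => ((hz'.map _).trans hz).trans (hz'.map _).symm) using 1
    ext a
    constructor
    · intro ha
      obtain ⟨e, hes, z, hz1, hz2⟩ := hs' a a ha
      exact ⟨e, hes, z, hz1.symm.trans hz2, hz1⟩
    · rintro ⟨e, hes, z, hz, ha⟩
      exact (mk_eq_iff _ _ _ _).mpr ⟨e.1, e.2.1, e.2.2, z, hs e hes, ha, ha.trans hz⟩
  · show Fan.P.mk _ b = Fan.P.mk _ b
    rw [← mk_sameRay _ hb, ← mk_sameRay (F.map β.op ξ') hb]
    exact ha
  · rw [map_mk, map_mk, hab]

end Groth.Agent.S19367
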