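import Groth.Statements.S19368
import Groth.Agent.L13.Fan.Glue

set_option autoImplicit false
universe u
open CategoryTheory Opposite Instab
open Instab Instab.Fan

namespace Groth.Agent.S19368

open Groth.Agent.L13.Fan

/-- Let F be a formal fan; a subset of P F is realizable when it is the image of the projective
realization of some sub-fan of F. The intersection of two realizable subsets is realizable, and the
union of an arbitrary family of realizable subsets is realizable. -/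
theorem result (F : Fan.{u}) :
    (∀ U V : Set (Fan.P F), Fan.IsRealizable U → Fan.IsRealizable V → Fan.IsRealizable (U ∩ V)) ∧
    ∀ (ι : Type u) (U : ι → Set (Fan.P F)), (∀ i, Fan.IsRealizable (U i)) →
      Fan.IsRealizable (Set.iUnion U) := by
  constructor
  · rintro U V ⟨S, rfl⟩ ⟨T, rfl⟩
    refine ⟨{ obj := fun U => S.obj U ∩ T.obj U
              map := fun i a ha => ⟨S.map i ha.1, T.map i ha.2⟩ }, ?_⟩
    refine Set.Subset.antisymm ?_ ?_
    · rintro x ⟨⟨p, hp⟩, ⟨q, hq⟩⟩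
      obtain ⟨n, ⟨σ, hσ⟩, v, rfl⟩ := exists_mk p
      obtain ⟨m, ⟨τ, hτ⟩, w, rfl⟩ := exists_mk q
      subst hp
      obtain ⟨k, α, β, y, he, h1, -⟩ := (mk_eq_iff _ _ _ _).mp hq.symm
      refine ⟨Fan.P.mk (F := Subfunctor.toFunctor _) ⟨F.map α.op σ, S.map α.op hσ, ?_⟩ y, ?_⟩
      · exact he.symm ▸ T.map β.op hτ
      · exact (mk_map (F := F) α σ y).trans (mk_sameRay σ h1).symm.symm
    · rintro _ ⟨p, rfl⟩
      obtain ⟨n, ⟨σ, h1, h2⟩, v, rfl⟩ := exists_mk p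
      exact ⟨⟨Fan.P.mk (F := S.toFunctor) ⟨σ, h1⟩ v, rfl⟩, ⟨Fan.P.mk (F := T.toFunctor) ⟨σ, h2⟩ v, rfl⟩⟩
  · intro ι U hU
    choose S hS using hU
    refine ⟨{ obj := fun U => {a | ∃ i, a ∈ (S i).obj U}
              map := fun i a ha => ⟨ha.choose, (S _).map i ha.choose_spec⟩ }, ?_⟩
    refine Set.Subset.antisymm ?_ ?_
    · intro x hx
      obtain ⟨i, hi⟩ := Set.mem_iUnion.mp hx
      rw [hS i] at hi
      obtain ⟨p, rfl⟩ := hi
      obtain ⟨n, ⟨σ, hσ⟩, v, rfl⟩ := exists_mk p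
      exact ⟨Fan.P.mk (F := Subfunctor.toFunctor _) ⟨σ, i, hσ⟩ v, rfl⟩
    · rintro _ ⟨p, rfl⟩
      obtain ⟨n, ⟨σ, i, hσ⟩, v, rfl⟩ := exists_mk p
      refine Set.mem_iUnion.mpr ⟨i, ?_⟩
      rw [hS i]
      exact ⟨Fan.P.mk (F := (S i).toFunctor) ⟨σ, hσ⟩ v, rfl⟩

end Groth.Agent.S19368
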