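import Groth.Statements.S19369
import Groth.Agent.L13.Fan.Glue

set_option autoImplicit false
universe u
open CategoryTheory Opposite Instab
open Instab Instab.Fan

namespace Groth.Agent.S19369

open Groth.Agent.L13.Fan Filter Topology

/-- Let F be a quasi-separated formal fan and let (x i) be a sequence in P F converging to a point x.
Then there are an n-cone σ of F and a subsequence of (x i) whose terms lift to nonzero nonnegative
vectors of ℝ^n, mapping to them under the rational simplex of σ, such that the lifts converge to a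
vector that lifts x. -/
theorem result (F : Fan.{u}) (hF : F.IsQuasiSeparated)
    (x : ℕ → Fan.P F) (x₀ : Fan.P F) (hx : Filter.Tendsto x Filter.atTop (nhds x₀)) :
    ∃ (n : ICone) (σ : F.obj (op n)) (r : ℕ → ℕ) (v : ℕ → Fan.Orth n) (v₀ : Fan.Orth n),
      StrictMono r ∧ (∀ j, Fan.P.mk σ (v j) = x (r j)) ∧ Fan.P.mk σ v₀ = x₀ ∧
        Filter.Tendsto v Filter.atTop (nhds v₀) := by
  classical
  by_cases hA : ∃ᶠ j in atTop, x j = x₀
  · obtain ⟨r, hr, hr'⟩ := extraction_of_frequently_atTop hA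
    obtain ⟨n, σ, v, rfl⟩ := exists_mk x₀
    exact ⟨n, σ, r, fun _ => v, v, hr, fun j => (hr' j).symm, rfl, tendsto_const_nhds⟩
  rw [not_frequently] at hA
  by_cases hB : ∃ (n : ICone) (σ : F.obj (op n)), ∃ᶠ j in atTop, x j ∈ Fan.P.cell σ
  · obtain ⟨n, σ, hσ⟩ := hB
    obtain ⟨r, hr, hr'⟩ := extraction_of_frequently_atTop hσ
    have hl : ∀ j, ∃ v, v ∈ simplex n ∧ Fan.P.mk σ v = x (r j) := fun j => by
      have := hr' j
      rw [cell_eq_image] at this
      exact this
    choose v hv hv' using hl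
    have : FirstCountableTopology (Fan.Orth n) :=
      inferInstanceAs (FirstCountableTopology {v : Fin n.dim → ℝ // (∀ i, 0 ≤ v i) ∧ v ≠ 0})
    have : T2Space (Fan.Orth n) :=
      inferInstanceAs (T2Space {v : Fin n.dim → ℝ // (∀ i, 0 ≤ v i) ∧ v ≠ 0})
    obtain ⟨v₀, hv₀, φ, hφ, hlim⟩ := (isCompact_simplex n).tendsto_subseq hv
    refine ⟨n, σ, r ∘ φ, v ∘ φ, v₀, hr.comp hφ, fun j => hv' (φ j), ?_, hlim⟩
    by_contra hne
    obtain ⟨J, hJ⟩ := eventually_atTop.mp hA
    have hJ' : ∀ j, J ≤ j → x (r (φ j)) ≠ x₀ := fun j hj =>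
      hJ _ (hj.trans ((hφ.id_le j).trans (hr.id_le _)))
    let T : Set (Fan.Orth n) := insert v₀ (Set.range fun j => v (φ (j + J)))
    have hT : IsClosed T :=
      ((hlim.comp (tendsto_add_atTop_nat J)).isCompact_insert_range).isClosed
    have hcl := isClosed_image_mk hF σ (S := normalize ⁻¹' T) (hT.preimage continuous_normalize)
      (fun a b ha hb => by
        show normalize b ∈ T
        rwa [(sameRay_iff_normalize b a).mp hb])
    obtain ⟨w, hw, hwe⟩ := hcl.mem_of_tendsto ((hx.comp (hr.comp hφ).tendsto_atTop).comp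
      (tendsto_add_atTop_nat J)) (Eventually.of_forall fun j => by
        refine ⟨v (φ (j + J)), ?_, hv' _⟩
        show normalize _ ∈ T
        refine Set.mem_insert_of_mem _ ⟨j, ?_⟩
        apply Subtype.ext
        show _ = (total _)⁻¹ • _
        rw [show total (v (φ (j + J))) = 1 from hv _, inv_one, one_smul])
    rw [← mk_normalize] at hwe
    rcases hw with hw | ⟨j, hj⟩
    · exact hne (hw ▸ hwe)
    · rw [← hj, hv'] at hwe
      exact hJ' (j + J) (Nat.le_add_left J j) hwe
  · exfalso
    push Not at hB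
    obtain ⟨J, hJ⟩ := eventually_atTop.mp hA
    have hT : IsClosed (x '' {j | J ≤ j}) := (isClosed_iff_cells hF _).mpr fun n σ => by
      obtain ⟨K, hK⟩ := eventually_atTop.mp (hB n σ)
      have hfin : (x '' {j | J ≤ j} ∩ Fan.P.cell σ).Finite := by
        refine ((Set.finite_lt_nat K).image x).subset ?_
        rintro _ ⟨⟨j, -, rfl⟩, hj⟩
        exact ⟨j, not_le.mp fun hle => hK j hle hj, rfl⟩
      rw [← Set.biUnion_of_singleton (x '' {j | J ≤ j} ∩ Fan.P.cell σ)]
      exact hfin.isClosed_biUnion fun z _ => isClosed_point hF z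
    obtain ⟨j, hj, he⟩ := hT.mem_of_tendsto hx (eventually_atTop.mpr ⟨J, fun j hj => ⟨j, hj, rfl⟩⟩)
    exact hJ j hj he

end Groth.Agent.S19369
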