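import Groth.Statements.S19370
import Groth.Agent.L13.Fan.Glue

set_option autoImplicit false
universe u v
open CategoryTheory Opposite Instab
open Instab Instab.Fan

namespace Groth.Agent.S19370

open Groth.Agent.L13.Fan Filter Topology

theorem exists_rational_gt {F : Fan.{u}} {U : Set (Fan.P F)} (hU : Fan.IsConvex U) (O : Set U)
    (hO : IsOpen O) (hne : O.Nonempty) : ∃ y ∈ O, (y : Fan.P F).IsRational := by
  obtain ⟨W, hW, rfl⟩ := isOpen_induced_iff.mp hO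
  obtain ⟨⟨y, hy⟩, hyW⟩ := hne
  obtain ⟨S, hS⟩ := hU.2.1
  subst hS
  obtain ⟨p, hp⟩ := hy
  obtain ⟨n, σ, v, rfl⟩ := exists_mk p
  subst hp
  obtain ⟨w, hw, hwr⟩ := exists_isRational_mem (F := F) (σ.1) ((hW.preimage (continuous_mk _))) ⟨v, hyW⟩
  exact ⟨⟨Fan.P.mk σ.1 w, Fan.P.mk (F := S.toFunctor) σ w, rfl⟩, hw, hwr⟩

theorem basis_comb (a b : ℝ) :
    (a • (Fan.Orth.basis Fan.two 0).1 + b • (Fan.Orth.basis Fan.two 1).1) 0 = a ∧
      (a • (Fan.Orth.basis Fan.two 0).1 + b • (Fan.Orth.basis Fan.two 1).1) 1 = b := by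
  constructor
  · show a * (if (0 : Fin 2) = 0 then (1 : ℝ) else 0) +
      b * (if (0 : Fin 2) = 1 then (1 : ℝ) else 0) = a
    simp
  · show a * (if (1 : Fin 2) = 0 then (1 : ℝ) else 0) +
      b * (if (1 : Fin 2) = 1 then (1 : ℝ) else 0) = b
    simp

theorem basis_not_prop : ¬ ∃ c : ℝ,
    (Fan.Orth.basis Fan.two 1).1 = c • (Fan.Orth.basis Fan.two 0).1 := by
  rintro ⟨c, hc⟩
  have h := (basis_comb 0 1).2
  rw [hc, zero_smul, zero_add, one_smul, ← zero_add (c • _)] at h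
  have h' := (basis_comb c 0).2
  rw [zero_smul, add_zero] at h'
  rw [zero_add] at h
  exact one_ne_zero (h.symm.trans h')


/-- Let F be a formal fan, U ⊆ P F a convex subset, Γ a totally ordered set and Φ : U → Γ a
quasi-concave function that is lower semicontinuous in the sense that every sublevel set {Φ ≤ c} is
closed in U. Then every rational point of U at which Φ has a local maximum is a global maximum of Φ,
and if Φ is strictly quasi-concave there is at most one such rational point. -/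
theorem result (F : Fan.{u}) (U : Set (Fan.P F))
    (hU : Fan.IsConvex U) {Γ : Type v} [LinearOrder Γ] (Φ : U → Γ) (hΦ : Fan.IsQuasiConcaveOn U Φ)
    (hlsc : ∀ c : Γ, IsClosed {x : U | Φ x ≤ c}) :
    (∀ x : U, (x : Fan.P F).IsRational → IsLocalMax Φ x → ∀ y : U, Φ y ≤ Φ x) ∧
    (Fan.IsStrictQuasiConcaveOn U Φ → ∀ x y : U, (x : Fan.P F).IsRational → (y : Fan.P F).IsRational →
      IsLocalMax Φ x → IsLocalMax Φ y → x = y) := by
  have global : ∀ x : U, (x : Fan.P F).IsRational → IsLocalMax Φ x → ∀ y : U, Φ y ≤ Φ x := by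
    intro x hx hloc y
    by_contra hlt
    obtain ⟨y', hy', hy'r⟩ := exists_rational_gt hU {z : U | Φ z ≤ Φ x}ᶜ (hlsc _).isOpen_compl ⟨y, hlt⟩
    have hy'' : Φ x < Φ y' := not_le.mp hy'
    have hne : (x : Fan.P F) ≠ y' := fun h => hy''.ne (by rw [Subtype.ext h])
    obtain ⟨τ, hτ, hτ0, hτ1⟩ := hU.2.2 x y' x.2 y'.2 hx hy'r hne
    let t : ℕ → ℝ := fun j => 1 / ((j : ℝ) + 1)
    have ht : ∀ j, 0 < t j := fun j => by positivity
    let v : ℕ → Fan.Orth Fan.two := fun j =>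
      ⟨(1 : ℝ) • (Fan.Orth.basis Fan.two 0).1 + t j • (Fan.Orth.basis Fan.two 1).1, fun i =>
        add_nonneg (mul_nonneg zero_le_one ((Fan.Orth.basis Fan.two 0).2.1 i))
          (mul_nonneg (ht j).le ((Fan.Orth.basis Fan.two 1).2.1 i)), fun h => one_ne_zero ((basis_comb _ _).1.symm.trans (congr_fun h 0))⟩
    have hv : Tendsto v atTop (𝓝 (Fan.Orth.basis Fan.two 0)) := by
      refine (Topology.IsInducing.subtypeVal
        (t := {v : Fin Fan.two.dim → ℝ | (∀ i, 0 ≤ v i) ∧ v ≠ 0})).tendsto_nhds_iff.mpr ?_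
      have := (tendsto_one_div_add_atTop_nhds_zero_nat (𝕜 := ℝ)).smul_const
        (Fan.Orth.basis Fan.two 1).1
      have := (tendsto_const_nhds (x := (1 : ℝ) • (Fan.Orth.basis Fan.two 0).1)).add this
      rw [zero_smul, add_zero, one_smul] at this
      refine this.congr fun j => ?_
      show _ = (1 : ℝ) • (Fan.Orth.basis Fan.two 0).1 + t j • (Fan.Orth.basis Fan.two 1).1
      rw [one_smul]
    have hlim : Tendsto (fun j => (⟨Fan.P.mk τ (v j), hτ ⟨_, rfl⟩⟩ : U)) atTop (𝓝 x) := by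
      rw [tendsto_subtype_rng]
      rw [← hτ0]
      exact ((continuous_mk τ).tendsto _).comp hv
    obtain ⟨j, hj⟩ := (hlim.eventually hloc).exists
    have h₀ : Fan.P.mk τ (Fan.Orth.basis Fan.two 0) ∈ U := hτ ⟨_, rfl⟩
    have h₂ : Fan.P.mk τ (Fan.Orth.basis Fan.two 1) ∈ U := hτ ⟨_, rfl⟩
    obtain ⟨hge, heq⟩ := hΦ _ τ _ (v j) _ h₀ (hτ ⟨_, rfl⟩) h₂ basis_not_prop ⟨1, t j, one_pos, ht j, rfl⟩
    have e0 : (⟨_, h₀⟩ : U) = x := Subtype.ext hτ0
    have e1 : (⟨_, h₂⟩ : U) = y' := Subtype.ext hτ1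
    rw [e0, e1, min_eq_left hy''.le] at hge heq
    exact hy''.ne (heq (le_antisymm hj hge))
  refine ⟨global, fun hs x y hx hy hlx hly => ?_⟩
  by_contra hne
  obtain ⟨τ, hτ, hτ0, hτ1⟩ := hU.2.2 x y x.2 y.2 hx hy (fun h => hne (Subtype.ext h))
  let m : Fan.Orth Fan.two :=
    ⟨(1 : ℝ) • (Fan.Orth.basis Fan.two 0).1 + (1 : ℝ) • (Fan.Orth.basis Fan.two 1).1, fun i =>
      add_nonneg (mul_nonneg zero_le_one ((Fan.Orth.basis Fan.two 0).2.1 i))
        (mul_nonneg zero_le_one ((Fan.Orth.basis Fan.two 1).2.1 i)), fun h => one_ne_zero ((basis_comb _ _).1.symm.trans (congr_fun h 0))⟩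
  have h₀ : Fan.P.mk τ (Fan.Orth.basis Fan.two 0) ∈ U := hτ ⟨_, rfl⟩
  have h₂ : Fan.P.mk τ (Fan.Orth.basis Fan.two 1) ∈ U := hτ ⟨_, rfl⟩
  have hm : Fan.P.mk τ m ∈ U := hτ ⟨_, rfl⟩
  have := hs _ τ _ m _ h₀ hm h₂ basis_not_prop ⟨1, 1, one_pos, one_pos, rfl⟩
  rw [show (⟨_, h₀⟩ : U) = x from Subtype.ext hτ0, show (⟨_, h₂⟩ : U) = y from Subtype.ext hτ1] at this
  have hxy : Φ x = Φ y := le_antisymm (global y hy hly x) (global x hx hlx y)
  rw [← hxy, min_self] at this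
  exact absurd (global x hx hlx ⟨_, hm⟩) (not_le.mpr this)

end Groth.Agent.S19370
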