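import Groth.Statements.S19371
import Groth.Agent.L13.Fan.Glue

set_option autoImplicit false
universe u v
open CategoryTheory Opposite Instab
open Instab Instab.Fan

namespace Groth.Agent.S19371

open Groth.Agent.L13.Fan Filter Topology

theorem exists_rational_mem {F : Fan.{u}} {U : Set (Fan.P F)} (hU : Fan.IsConvex U) (O : Set U)
    (hO : IsOpen O) (hne : O.Nonempty) : ∃ y ∈ O, (y : Fan.P F).IsRational := by
  obtain ⟨W, hW, rfl⟩ := isOpen_induced_iff.mp hO
  obtain ⟨⟨y, hy⟩, hyW⟩ := hne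
  obtain ⟨S, hS⟩ := hU.2.1
  subst hS
  obtain ⟨p, hp⟩ := hy
  obtain ⟨n, σ, v, rfl⟩ := exists_mk p
  subst hp
  obtain ⟨w, hw, hwr⟩ := exists_isRational_mem (F := F) (σ.1) ((hW.preimage (continuous_mk _))) ⟨v, hyW⟩
  exact ⟨⟨Fan.P.mk σ.1 w, Fan.P.mk (F := S.toFunctor) σ w, rfl⟩, hw, hwr⟩

theorem basis_comb (a b : ℝ) :
    (a • (Fan.Orth.basis Fan.two 0).1 + b • (Fan.Orth.basis Fan.two 1).1) 0 = a ∧
      (a • (Fan.Orth.basis Fan.two 0).1 + b • (Fan.Orth.basis Fan.two 1).1) 1 = b := by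
  constructor
  · show a * (if (0 : Fin 2) = 0 then (1 : ℝ) else 0) +
      b * (if (0 : Fin 2) = 1 then (1 : ℝ) else 0) = a
    simp
  · show a * (if (1 : Fin 2) = 0 then (1 : ℝ) else 0) +
      b * (if (1 : Fin 2) = 1 then (1 : ℝ) else 0) = b
    simp

theorem basis_not_prop : ¬ ∃ c : ℝ,
    (Fan.Orth.basis Fan.two 1).1 = c • (Fan.Orth.basis Fan.two 0).1 := by
  rintro ⟨c, hc⟩
  have h := (basis_comb 0 1).2
  rw [hc, zero_smul, zero_add, one_smul, ← zero_add (c • _)] at h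
  have h' := (basis_comb c 0).2
  rw [zero_smul, add_zero] at h'
  rw [zero_add] at h
  exact one_ne_zero (h.symm.trans h')


/-- Let F be a quasi-separated formal fan whose projective realization P F is a Hausdorff space, U ⊆ P F
a compact convex subset, Γ a totally ordered set with the order topology, and Φ : U → Γ continuous
and strictly quasi-concave. Then any two local maxima of Φ coincide, so the global maximum of Φ
(which exists when U is nonempty, by the extreme value property of upper semicontinuous functions on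
compact sets) is its unique local maximum. (The published lemma assumes only that F is
quasi-separated and derives the Hausdorff property of P F from that; this derivation does not hold
in general, and the Hausdorff property, which the published proof uses, is assumed here.) -/
theorem result (F : Fan.{u})
    (hF : F.IsQuasiSeparated) (hT2 : T2Space (Fan.P F)) (U : Set (Fan.P F)) (hUc : IsCompact U)
    (hU : Fan.IsConvex U) {Γ : Type v} [LinearOrder Γ] [TopologicalSpace Γ] [OrderTopology Γ]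
    (Φ : U → Γ) (hΦc : Continuous Φ) (hΦ : Fan.IsStrictQuasiConcaveOn U Φ) (x y : U)
    (hx : IsLocalMax Φ x) (hy : IsLocalMax Φ y) : x = y := by
  classical
  have : CompactSpace U := isCompact_iff_compactSpace.mp hUc
  suffices key : ∀ x : U, IsLocalMax Φ x → ∀ y : U, y ≠ x → ¬ Φ x ≤ Φ y by
    by_contra hne
    rcases le_total (Φ x) (Φ y) with h | h
    · exact key x hx y (Ne.symm hne) h
    · exact key y hy x hne h
  clear hx hy x y
  intro x hx y hyx hle
  -- a closed neighbourhood avoiding `y` on which `Φ ≤ Φ x`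
  obtain ⟨W, hW, hWo, hxW⟩ := _root_.mem_nhds_iff.mp
    (inter_mem hx (isOpen_compl_singleton.mem_nhds hyx.symm))
  obtain ⟨N, hN, hNcl, hNW⟩ := exists_mem_nhds_isClosed_subset (hWo.mem_nhds hxW)
  obtain ⟨W', hW'o, hW'⟩ := isOpen_induced_iff.mp hWo
  let T : Set U := N ∩ {z | Φ z = Φ x}
  have hTcl : IsClosed T := hNcl.inter (isClosed_eq hΦc continuous_const)
  have hTfin : ∀ (n : ICone) (η : F.obj (op n)), (Subtype.val '' T ∩ Fan.P.cell η).Finite := by
    intro n η
    let D : Set (Fan.Orth n) := simplex n ∩ Fan.P.mk η ⁻¹' (Subtype.val '' T)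
    have hD : IsCompact D := (isCompact_simplex n).inter_right
      (((hTcl.isCompact).image continuous_subtype_val).isClosed.preimage (continuous_mk η))
    have hball : ∀ v ∈ D, ∃ ε > 0, ∀ w : Fan.Orth n, dist w.1 v.1 < ε → Fan.P.mk η w ∈ W' := by
      rintro v ⟨-, z, hz, hzv⟩
      have hzW' : (z : Fan.P F) ∈ W' := by
        have : z ∈ Subtype.val ⁻¹' W' := hW' ▸ hNW hz.1
        exact this
      have hmem : Fan.P.mk η ⁻¹' W' ∈ 𝓝 v :=
        ((hW'o.preimage (continuous_mk η))).mem_nhds (show Fan.P.mk η v ∈ W' from hzv ▸ hzW')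
      have : ∃ s ∈ 𝓝 v.1, Subtype.val ⁻¹' s ⊆ Fan.P.mk η ⁻¹' W' := mem_comap.mp
        (((Topology.IsInducing.subtypeVal (t := {v : Fin n.dim → ℝ |
          (∀ i, 0 ≤ v i) ∧ v ≠ 0})).nhds_eq_comap v) ▸ hmem)
      obtain ⟨s, hs, hs'⟩ := this
      obtain ⟨ε, hε, hball⟩ := Metric.mem_nhds_iff.mp hs
      exact ⟨ε, hε, fun w hw => hs' (show w.1 ∈ s from hball hw)⟩
    choose! ε hε hε' using hball
    obtain ⟨t, htD, ht⟩ := hD.elim_nhds_subcover (fun v => {w | dist w.1 v.1 < ε v}) fun v hv =>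
      (isOpen_lt ((continuous_subtype_val (p := fun v : Fin n.dim → ℝ => (∀ i, 0 ≤ v i) ∧ v ≠ 0)).dist
        continuous_const) continuous_const).mem_nhds (by simpa using hε v hv)
    have hiso : ∀ v ∈ D, ∀ w ∈ D, dist w.1 v.1 < ε v → w = v := by
      intro v hv w hw hd
      by_contra hwv
      obtain ⟨⟨hvs, zv, hzv, hzv'⟩, hws, zw, hzw, hzw'⟩ := And.intro hv hw
      let m : Fan.Orth n := ⟨(1 / 2 : ℝ) • v.1 + (1 / 2 : ℝ) • w.1, fun i =>
        add_nonneg (mul_nonneg (by norm_num) (v.2.1 i)) (mul_nonneg (by norm_num) (w.2.1 i)),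
        fun h => by
          have h1 : ∑ i, ((1 / 2 : ℝ) * v.1 i + (1 / 2 : ℝ) * w.1 i) = 0 :=
            Finset.sum_eq_zero fun i _ => congr_fun h i
          rw [Finset.sum_add_distrib, ← Finset.mul_sum, ← Finset.mul_sum] at h1
          rw [show ∑ i, v.1 i = 1 from hvs, show ∑ i, w.1 i = 1 from hws] at h1
          norm_num at h1⟩
      have hm : Fan.P.mk η m ∈ U := hU.1 n η v m w (hzv' ▸ zv.2) (hzw' ▸ zw.2)
        ⟨1 / 2, 1 / 2, by norm_num, by norm_num, rfl⟩
      have hmd : dist m.1 v.1 < ε v := by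
        refine lt_of_le_of_lt ?_ hd
        rw [dist_eq_norm, dist_eq_norm]
        show ‖(1 / 2 : ℝ) • v.1 + (1 / 2 : ℝ) • w.1 - v.1‖ ≤ ‖w.1 - v.1‖
        rw [show (1 / 2 : ℝ) • v.1 + (1 / 2 : ℝ) • w.1 - v.1 = (1 / 2 : ℝ) • (w.1 - v.1) by module,
          norm_smul]
        exact mul_le_of_le_one_left (norm_nonneg _) (by norm_num)
      have hmW : (⟨_, hm⟩ : U) ∈ W := by
        rw [← hW']
        exact hε' v hv m hmd
      have h := hΦ n η v m w (hzv' ▸ zv.2) hm (hzw' ▸ zw.2) (by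
        rintro ⟨c, hc⟩
        refine hwv (Subtype.ext ?_)
        have h1 : ∑ i, w.1 i = c * ∑ i, v.1 i := by
          rw [hc, Finset.mul_sum]; rfl
        rw [show ∑ i, w.1 i = 1 from hws, show ∑ i, v.1 i = 1 from hvs, mul_one] at h1
        rw [hc, ← h1, one_smul]) ⟨1 / 2, 1 / 2, by norm_num, by norm_num, rfl⟩
      rw [show (⟨Fan.P.mk η v, hzv' ▸ zv.2⟩ : U) = zv from Subtype.ext hzv'.symm,
        show (⟨Fan.P.mk η w, hzw' ▸ zw.2⟩ : U) = zw from Subtype.ext hzw'.symm, hzv.2, hzw.2,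
        min_self] at h
      exact absurd (hW hmW).1 (not_le.mpr h)
    refine (t.finite_toSet.image (Fan.P.mk η)).subset ?_
    rintro p ⟨hpT, hp⟩
    rw [cell_eq_image] at hp
    obtain ⟨w, hw, rfl⟩ := hp
    obtain ⟨v, hvt, hwv⟩ := Set.mem_iUnion₂.mp (ht ⟨hw, hpT⟩)
    exact ⟨v, hvt, by rw [hiso v (htD v hvt) w ⟨hw, hpT⟩ hwv]⟩
  have hA : IsClosed (T \ {x}) := by
    have : IsClosed (Subtype.val '' (T \ {x})) := (isClosed_iff_cells hF _).mpr fun n η =>
      ((hTfin n η).subset (Set.inter_subset_inter_left _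
        (Set.image_mono Set.sdiff_subset))).isClosed
    have := this.preimage (f := (Subtype.val : U → Fan.P F)) continuous_subtype_val
    rwa [Set.preimage_image_eq _ Subtype.val_injective] at this
  obtain ⟨N', hN', hN'cl, hN'sub⟩ := exists_mem_nhds_isClosed_subset
    (inter_mem hN (hA.isOpen_compl.mem_nhds fun h => h.2 rfl))
  have hfr : ∀ p ∈ frontier N', Φ p < Φ x := by
    intro p hp
    have hpN' : p ∈ N' := hN'cl.frontier_subset hp
    obtain ⟨hpN, hpA⟩ := hN'sub hpN'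
    refine lt_of_le_of_ne (hW (hNW hpN)).1 fun he => ?_
    have hpx : p = x := by
      by_contra h
      exact hpA ⟨⟨hpN, he⟩, h⟩
    subst hpx
    exact hp.2 (mem_interior_iff_mem_nhds.mpr hN')
  obtain ⟨W₁, hW₁o, hxW₁, hyW₁, hW₁⟩ : ∃ W₁ : Set U, IsOpen W₁ ∧ x ∈ W₁ ∧ y ∈ W₁ ∧
      ∀ p ∈ frontier N', ∀ z ∈ W₁, Φ p < Φ z := by
    rcases (frontier N').eq_empty_or_nonempty with h | h
    · exact ⟨Set.univ, isOpen_univ, trivial, trivial, by simp [h]⟩
    · obtain ⟨p, hp, hmax⟩ := isClosed_frontier.isCompact.exists_isMaxOn h hΦc.continuousOn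
      exact ⟨{z | Φ p < Φ z}, isOpen_lt continuous_const hΦc, hfr p hp, (hfr p hp).trans_le hle,
        fun q hq z hz => lt_of_le_of_lt (hmax hq) hz⟩
  obtain ⟨x', ⟨hx'W, hx'N⟩, hx'r⟩ := exists_rational_mem hU (W₁ ∩ interior N')
    (hW₁o.inter isOpen_interior) ⟨x, hxW₁, mem_interior_iff_mem_nhds.mpr hN'⟩
  obtain ⟨y', ⟨hy'W, hy'N⟩, hy'r⟩ := exists_rational_mem hU (W₁ ∩ N'ᶜ)
    (hW₁o.inter hN'cl.isOpen_compl) ⟨y, hyW₁, fun h => (hW (hNW (hN'sub h).1)).2 rfl⟩
  have hne : (x' : Fan.P F) ≠ y' := fun h => hy'N (Subtype.ext h ▸ interior_subset hx'N)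
  obtain ⟨τ, hτ, hτ0, hτ1⟩ := hU.2.2 x' y' x'.2 y'.2 hx'r hy'r hne
  let v : Set.Icc (0 : ℝ) 1 → Fan.Orth Fan.two := fun t =>
    ⟨(1 - t.1) • (Fan.Orth.basis Fan.two 0).1 + t.1 • (Fan.Orth.basis Fan.two 1).1, fun i =>
      add_nonneg (mul_nonneg (sub_nonneg.mpr t.2.2) ((Fan.Orth.basis Fan.two 0).2.1 i))
        (mul_nonneg t.2.1 ((Fan.Orth.basis Fan.two 1).2.1 i)), fun h => by
      have h0 : 1 - t.1 = 0 := (basis_comb _ _).1.symm.trans (congr_fun h 0)
      have h1 : t.1 = 0 := (basis_comb (1 - t.1) t.1).2.symm.trans (congr_fun h 1)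
      linarith⟩
  let f : Set.Icc (0 : ℝ) 1 → U := fun t => ⟨Fan.P.mk τ (v t), hτ ⟨_, rfl⟩⟩
  have hf : Continuous f := Continuous.subtype_mk ((continuous_mk τ).comp
    (Continuous.subtype_mk (by fun_prop) _)) _
  have : PreconnectedSpace (Set.Icc (0 : ℝ) 1) :=
    isPreconnected_iff_preconnectedSpace.mp isPreconnected_Icc
  have hf0 : f ⟨0, le_rfl, zero_le_one⟩ = x' := by
    refine Subtype.ext ?_
    rw [← hτ0]
    show Fan.P.mk τ _ = _
    congr 1
    exact Subtype.ext (by simp only [v, sub_zero, sub_self, zero_smul, one_smul, add_zero, zero_add])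
  have hf1 : f ⟨1, zero_le_one, le_rfl⟩ = y' := by
    refine Subtype.ext ?_
    rw [← hτ1]
    show Fan.P.mk τ _ = _
    congr 1
    exact Subtype.ext (by simp only [v, sub_zero, sub_self, zero_smul, one_smul, add_zero, zero_add])
  obtain ⟨_, ⟨t, rfl⟩, ht⟩ : (Set.range f ∩ frontier N').Nonempty := by
    by_contra hem
    rw [Set.not_nonempty_iff_eq_empty] at hem
    have hsub : Set.range f ⊆ interior N' ∪ N'ᶜ := fun p hp => by
      by_cases hpN : p ∈ N'
      · left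
        by_contra hpi
        exact Set.eq_empty_iff_forall_notMem.mp hem p
          ⟨hp, by rw [hN'cl.frontier_eq]; exact ⟨hpN, hpi⟩⟩
      · exact Or.inr hpN
    have := (isPreconnected_range hf).subset_left_of_subset_union isOpen_interior
      hN'cl.isOpen_compl (disjoint_compl_right.mono_left interior_subset) hsub
      ⟨x', ⟨_, hf0⟩, hx'N⟩
    exact hy'N (interior_subset (this ⟨_, hf1⟩))
  have ht0 : 0 < t.1 := by
    refine lt_of_le_of_ne t.2.1 fun h => ht.2 ?_
    rw [show t = ⟨0, le_rfl, zero_le_one⟩ from Subtype.ext h.symm, hf0]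
    exact hx'N
  have ht1 : t.1 < 1 := by
    refine lt_of_le_of_ne t.2.2 fun h => hy'N ?_
    rw [← hf1, ← show t = ⟨1, zero_le_one, le_rfl⟩ from Subtype.ext h]
    exact hN'cl.frontier_subset ht
  have h₀ : Fan.P.mk τ (Fan.Orth.basis Fan.two 0) ∈ U := hτ ⟨_, rfl⟩
  have h₂ : Fan.P.mk τ (Fan.Orth.basis Fan.two 1) ∈ U := hτ ⟨_, rfl⟩
  have h := hΦ _ τ _ (v t) _ h₀ (f t).2 h₂ basis_not_prop ⟨1 - t.1, t.1, sub_pos.mpr ht1, ht0, rfl⟩
  rw [show (⟨_, h₀⟩ : U) = x' from Subtype.ext hτ0,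
    show (⟨_, h₂⟩ : U) = y' from Subtype.ext hτ1] at h
  exact lt_irrefl _ ((lt_min (hW₁ _ ht _ hx'W) (hW₁ _ ht _ hy'W)).trans h)

end Groth.Agent.S19371
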