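import Groth.Statements.S19372
import Groth.Agent.L13.Fan.Glue

set_option autoImplicit false
open CategoryTheory Opposite Instab
open Instab Instab.Fan

namespace Groth.Agent.S19372

open Groth.Agent.L13.Fan Topology

/-- The real cone spanned by a finite set of integer vectors. -/
def piece {N : ℕ} (s : Finset (Fin N → ℤ)) : Set (Fin N → ℝ) :=
  {x | ∃ c : (Fin N → ℤ) → ℝ, (∀ g, 0 ≤ c g) ∧
    x = Finset.sum s fun g => c g • fun j => (g j : ℝ)}

/-- The integral map sending the basis to the members of a finite set of vectors. -/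
noncomputable def spanMap {N : ℕ} (t : Finset (Fin N → ℤ)) :
    (Fin t.card → ℤ) →ₗ[ℤ] (Fin N → ℤ) :=
  Fintype.linearCombination ℤ fun r => (t.equivFin.symm r).1

theorem toReal_spanMap {N : ℕ} (t : Finset (Fin N → ℤ)) (y : Fin t.card → ℝ) :
    toReal (spanMap t) y = ∑ r, y r • fun j => ((t.equivFin.symm r).1 j : ℝ) := by
  funext j
  rw [toReal_apply, Finset.sum_apply]
  refine Finset.sum_congr rfl fun r _ => ?_
  rw [spanMap, Fintype.linearCombination_apply_single, one_smul, Pi.smul_apply, smul_eq_mul,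
    mul_comm]

theorem spanMap_injective {N : ℕ} {t : Finset (Fin N → ℤ)}
    (ht : LinearIndepOn ℝ (fun (g : Fin N → ℤ) j => (g j : ℝ)) (t : Set (Fin N → ℤ))) :
    Function.Injective (spanMap t) := by
  rw [spanMap, ← linearIndependent_iff_injective_fintypeLinearCombination]
  refine (linearIndependent_algebraMap_comp_iff (R := ℤ) (S := ℝ)).mp ?_
  exact (LinearIndependent.comp ht _ t.equivFin.symm.injective :)

theorem toReal_spanMap_mem {N : ℕ} {s t : Finset (Fin N → ℤ)} (hts : t ⊆ s) (y : Fin t.card → ℝ)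
    (hy : ∀ r, 0 ≤ y r) : toReal (spanMap t) y ∈ piece s := by
  classical
  refine ⟨fun g => if h : g ∈ t then y (t.equivFin ⟨g, h⟩) else 0, fun g => ?_, ?_⟩
  · dsimp only
    split_ifs with h
    · exact hy _
    · exact le_rfl
  · rw [toReal_spanMap, ← Finset.sum_subset hts fun g _ hg => by simp [hg],
      ← Finset.sum_coe_sort t, ← t.equivFin.symm.sum_comp]
    exact Finset.sum_congr rfl fun r _ => by simp

theorem exists_spanMap {N : ℕ} {s : Finset (Fin N → ℤ)} {x : Fin N → ℝ} (hx : x ∈ piece s) :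
    ∃ t ∈ s.powerset, ∃ y : Fin t.card → ℝ, (∀ r, 0 < y r) ∧
      LinearIndepOn ℝ (fun (g : Fin N → ℤ) j => (g j : ℝ)) (t : Set (Fin N → ℤ)) ∧
      toReal (spanMap t) y = x := by
  classical
  obtain ⟨c, hc, rfl⟩ := hx
  obtain ⟨t, d, hts, hd, hli, he⟩ := exists_linearIndepOn_pos_combination
    (fun (g : Fin N → ℤ) j => (g j : ℝ)) s c fun g _ => hc g
  refine ⟨t, Finset.mem_powerset.mpr hts, fun r => d (t.equivFin.symm r).1,
    fun r => hd _ (t.equivFin.symm r).2, hli, ?_⟩
  rw [toReal_spanMap, ← he, ← Finset.sum_coe_sort t, ← t.equivFin.symm.sum_comp]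

theorem isClosed_piece {N : ℕ} (s : Finset (Fin N → ℤ)) : IsClosed (piece s) := by
  classical
  let A := s.powerset.filter fun t : Finset (Fin N → ℤ) =>
    LinearIndepOn ℝ (fun (g : Fin N → ℤ) j => (g j : ℝ)) (t : Set (Fin N → ℤ))
  have : piece s = ⋃ t ∈ A, toReal (spanMap t) '' {y | ∀ r, 0 ≤ y r} := by
    ext x
    simp only [Set.mem_iUnion, exists_prop]
    constructor
    · intro hx
      obtain ⟨t, ht, y, hy, hli, rfl⟩ := exists_spanMap hx
      exact ⟨t, Finset.mem_filter.mpr ⟨ht, hli⟩, y, fun r => (hy r).le, rfl⟩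
    · rintro ⟨t, ht, y, hy, rfl⟩
      exact toReal_spanMap_mem (Finset.mem_powerset.mp (Finset.mem_filter.mp ht).1) y hy
  rw [this]
  refine A.finite_toSet.isClosed_biUnion fun t ht => ?_
  refine (LinearMap.isClosedEmbedding_of_injective (LinearMap.ker_eq_bot.mpr
    (toReal_injective (spanMap_injective (Finset.mem_filter.mp ht).2)))).isClosedMap _ ?_
  rw [show {y : Fin t.card → ℝ | ∀ r, 0 ≤ y r} = ⋂ r, {y | 0 ≤ y r} by ext; simp]
  exact isClosed_iInter fun r => isClosed_le continuous_const (continuous_apply r)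

theorem smul_mem_piece {N : ℕ} {s : Finset (Fin N → ℤ)} {x : Fin N → ℝ} (hx : x ∈ piece s)
    {c : ℝ} (hc : 0 ≤ c) : c • x ∈ piece s := by
  obtain ⟨d, hd, rfl⟩ := hx
  exact ⟨fun g => c * d g, fun g => mul_nonneg hc (hd g), by simp [Finset.smul_sum, smul_smul]⟩

/-- The unit vector on a ray. -/
noncomputable def rayUnit {N : ℕ} : Fan.Rays N → (Fin N → ℝ) :=
  Quot.lift (fun v => ‖v.1‖⁻¹ • v.1) (by
    rintro v w ⟨c, hc, he⟩
    simp only [he, norm_smul, Real.norm_eq_abs, abs_of_pos hc, smul_smul, mul_inv]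
    congr 1
    field_simp)

theorem rayUnit_injective {N : ℕ} : Function.Injective (rayUnit (N := N)) := by
  intro a b h
  obtain ⟨v, rfl⟩ := Quot.exists_rep a
  obtain ⟨w, rfl⟩ := Quot.exists_rep b
  refine Quot.sound ⟨‖w.1‖ / ‖v.1‖, div_pos (norm_pos_iff.mpr w.2) (norm_pos_iff.mpr v.2), ?_⟩
  change ‖v.1‖⁻¹ • v.1 = ‖w.1‖⁻¹ • w.1 at h
  rw [div_eq_mul_inv, ← smul_smul, h, smul_smul, mul_inv_cancel₀ (norm_ne_zero_iff.mpr w.2), one_smul]

theorem continuous_rayUnit {N : ℕ} : Continuous (rayUnit (N := N)) :=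
  continuous_quot_lift _ ((continuous_norm.comp continuous_subtype_val).inv₀
    (fun v => norm_ne_zero_iff.mpr v.2) |>.smul continuous_subtype_val)


/-- Let K a ⊆ ℝ^N, for a in a finite index type, be cones, each expressible as finitely many rational
polyhedral cones put together (nonnegative real spans of finite sets of integer vectors). Then the
canonical map from the projective realization of the formal fan R(K) to the space of rays of ℝ^N (a
model of the sphere), sending the point given by a cone φ and a vector v to the ray of φ v, is a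
homeomorphism onto the rays through ⋃ K a: it is a topological embedding with that image. (The
published lemma also asserts that the affine realization of R(K), defined as a colimit over the
category of cones of R(K), maps homeomorphically onto ⋃ K a; that fails at the cone point, since for
the pair of coordinate rays of ℝ^2 the colimit has two origins and for ⋃ K a = 0 it is empty, and it
is not stated here.) -/
theorem result {N : ℕ} {ι : Type} [Finite ι] (K : ι → Set (Fin N → ℝ))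
    (hK : ∀ a, ∃ (m : ℕ) (gen : Fin m → Finset (Fin N → ℤ)),
      K a = Set.iUnion fun l => {x | ∃ c : (Fin N → ℤ) → ℝ, (∀ g, 0 ≤ c g) ∧
        x = Finset.sum (gen l) fun g => c g • fun j => (g j : ℝ)}) :
    ∃ g : Fan.P (RFan K) → Fan.Rays N,
      (∀ (n : ICone) (φ : (RFan K).obj (op n)) (v : Fan.Orth n) (h : RFan.toVec K n φ v.1 ≠ 0),
        g (Fan.P.mk φ v) = Quot.mk _ ⟨RFan.toVec K n φ v.1, h⟩) ∧
      Topology.IsEmbedding g ∧
      Set.range g = {r | ∃ w : {w : Fin N → ℝ // w ≠ 0}, r = Quot.mk _ w ∧ w.1 ∈ Set.iUnion K} := by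
  classical
  choose m gen hgen using hK
  have hK' : ∀ a x, x ∈ K a ↔ ∃ l, x ∈ piece (gen a l) := fun a x => by
    rw [hgen a]; exact Set.mem_iUnion
  have hKcl : ∀ a, IsClosed (K a) := fun a => by
    rw [show K a = ⋃ l, piece (gen a l) from hgen a]
    exact isClosed_iUnion_of_finite fun l => isClosed_piece _
  have hne : ∀ (n : ICone) (φ : RFan.Cone K n) (v : Fan.Orth n), toReal φ.1 v.1 ≠ 0 :=
    fun n φ v => toReal_ne_zero φ.2.1 v.2.2
  have hvec : ∀ (n : ICone) (φ : RFan.Cone K n) (v : Fin n.dim → ℝ),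
      RFan.toVec K n φ v = toReal φ.1 v := fun n φ v => funext fun j => (toReal_apply φ.1 v j).symm
  let g : Fan.P (RFan K) → Fan.Rays N := Quot.lift
    (fun p => Quot.mk _ ⟨toReal p.1.2.1 p.2.1, hne p.1.1 p.1.2 p.2⟩) (by
      rintro _ _ ⟨ψ, φ, v, w, c, hc, he⟩
      refine Quot.sound ⟨c, hc, ?_⟩
      show toReal φ.1 w.1 = c • toReal (φ.1.comp ψ.toLin) v.1
      rw [toReal_comp, LinearMap.comp_apply, ← map_smul, he, realMap_eq])
  have hgmk : ∀ (n : ICone) (φ : (RFan K).obj (op n)) (v : Fan.Orth n),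
      g (Fan.P.mk φ v) = Quot.mk _ ⟨toReal φ.1 v.1, hne n φ v⟩ := fun _ _ _ => rfl
  have hgc : Continuous g := continuous_quot_lift _ (continuous_quot_mk.comp
    (continuous_sigma fun e => Continuous.subtype_mk
      ((LinearMap.continuous_of_finiteDimensional (toReal e.2.1)).comp continuous_subtype_val) _))
  have hginj : Function.Injective g := by
    intro x x' h
    obtain ⟨n, φ, v, rfl⟩ := exists_mk x
    obtain ⟨n', φ', w, rfl⟩ := exists_mk x'
    rw [hgmk, hgmk] at h
    have h' := congr_arg rayUnit h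
    simp only [rayUnit] at h'
    let c : ℝ := ‖toReal φ.1 v.1‖ * ‖toReal φ'.1 w.1‖⁻¹
    have hc : 0 < c := mul_pos (norm_pos_iff.mpr (hne n φ v))
      (inv_pos.mpr (norm_pos_iff.mpr (hne n' φ' w)))
    let w' : Fan.Orth n' := ⟨c • w.1, fun i => mul_nonneg hc.le (w.2.1 i), smul_ne_zero hc.ne' w.2.2⟩
    obtain ⟨j, α, β, u, hcomp, hα, hβ⟩ := exists_common φ.1 φ'.1 φ.2.1 φ'.2.1 v w' (by
      show toReal φ.1 v.1 = toReal φ'.1 (c • w.1)
      rw [map_smul, ← smul_smul, ← h', smul_smul, mul_inv_cancel₀ (norm_ne_zero_iff.mpr (hne n φ v)),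
        one_smul])
    rw [mk_sameRay φ' (v := w) (w := w') ⟨c, hc, rfl⟩]
    refine (mk_eq_iff _ _ _ _).mpr ⟨j, α, β, u, Subtype.ext hcomp, hα ▸ .refl _, hβ ▸ .refl _⟩
  have hmem : ∀ (n : ICone) (φ : RFan.Cone K n), ∃ a, ∀ v : Fan.Orth n, toReal φ.1 v.1 ∈ K a := by
    intro n φ
    obtain ⟨a, ha⟩ := φ.2.2
    refine ⟨a, mem_of_forall_isIntegral (D := {v | toReal φ.1 v.1 ∈ K a})
      ((hKcl a).preimage ((LinearMap.continuous_of_finiteDimensional (toReal φ.1)).comp
        continuous_subtype_val)) ?_ ?_⟩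
    · rintro v w hv ⟨c, hc, he⟩
      show toReal φ.1 w.1 ∈ K a
      rw [he, map_smul]
      obtain ⟨l, hl⟩ := (hK' a _).mp hv
      exact (hK' a _).mpr ⟨l, smul_mem_piece hl hc.le⟩
    · rintro v ⟨z, hz⟩
      show toReal φ.1 v.1 ∈ K a
      rw [hz, toReal_castVec]
      refine ha z fun i => ?_
      have := v.2.1 i
      rw [hz, castVec_apply] at this
      exact_mod_cast this
  -- the finitely many simplicial cells
  let I := Σ a, Σ l : Fin (m a), {t : Finset (Fin N → ℤ) // t ∈ (gen a l).powerset}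
  let C : I → Set (Fan.P (RFan K)) := fun i =>
    if h : 0 < i.2.2.1.card ∧
        LinearIndepOn ℝ (fun (g : Fin N → ℤ) j => (g j : ℝ)) (i.2.2.1 : Set (Fin N → ℤ)) then
      Fan.P.cell (F := RFan K) (n := ⟨⟨i.2.2.1.card, h.1⟩⟩)
        ⟨spanMap i.2.2.1, spanMap_injective h.2, i.1, fun v hv => (hK' _ _).mpr ⟨i.2.1, by
          have := toReal_spanMap_mem (Finset.mem_powerset.mp i.2.2.2) (castVec v)
            fun r => (show (0 : ℝ) ≤ (v r : ℝ) by exact_mod_cast hv r)
          rwa [toReal_castVec] at this⟩⟩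
    else ∅
  have hcover : ∀ w : {w : Fin N → ℝ // w ≠ 0}, w.1 ∈ Set.iUnion K →
      ∃ i, ∃ x ∈ C i, g x = Quot.mk _ w := by
    rintro ⟨w, hw0⟩ hw
    obtain ⟨a, ha⟩ := Set.mem_iUnion.mp hw
    obtain ⟨l, hl⟩ := (hK' a w).mp ha
    obtain ⟨t, ht, y, hy, hli, hty⟩ := exists_spanMap hl
    have htc : 0 < t.card := by
      refine Nat.pos_of_ne_zero fun h0 => hw0 ?_
      show w = 0
      rw [← hty, toReal_spanMap]
      exact Finset.sum_eq_zero fun r _ => absurd r.2 (by omega)
    let v : Fan.Orth ⟨⟨t.card, htc⟩⟩ :=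
      ⟨y, fun r => (hy r).le, fun h => (hy ⟨0, htc⟩).ne' (congr_fun h _)⟩
    let i : I := ⟨a, l, t, ht⟩
    refine ⟨i, ?_⟩
    simp only [C, dif_pos (show 0 < i.2.2.1.card ∧
      LinearIndepOn ℝ (fun (g : Fin N → ℤ) j => (g j : ℝ)) (i.2.2.1 : Set (Fin N → ℤ)) from ⟨htc, hli⟩)]
    refine ⟨_, ⟨v, rfl⟩, ?_⟩
    rw [hgmk]
    exact congr_arg _ (Subtype.ext hty)
  refine ⟨g, fun n φ v h => ?_, ?_, ?_⟩
  · rw [hgmk]
    exact congr_arg _ (Subtype.ext (hvec n φ v.1).symm)
  · have : T2Space (Fan.Rays N) := T2Space.of_injective_continuous rayUnit_injective continuous_rayUnit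
    have hcpt : CompactSpace (Fan.P (RFan K)) := by
      refine ⟨?_⟩
      have huniv : (Set.univ : Set (Fan.P (RFan K))) = ⋃ i, C i := by
        refine (Set.eq_univ_of_forall fun x => ?_).symm
        obtain ⟨n, φ, v, rfl⟩ := exists_mk x
        obtain ⟨a, ha⟩ := hmem n φ
        obtain ⟨i, x, hx, hgx⟩ := hcover ⟨_, hne n φ v⟩ (Set.mem_iUnion.mpr ⟨a, ha v⟩)
        exact Set.mem_iUnion.mpr ⟨i, (hginj (a₁ := x) (a₂ := Fan.P.mk φ v) (hgx.trans (hgmk n φ v).symm)) ▸ hx⟩
      rw [huniv]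
      refine isCompact_iUnion fun i => ?_
      simp only [C]
      split_ifs
      · exact isCompact_cell _
      · exact isCompact_empty
    exact (hgc.isClosedEmbedding hginj).isEmbedding
  · refine Set.Subset.antisymm ?_ ?_
    · rintro _ ⟨x, rfl⟩
      obtain ⟨n, φ, v, rfl⟩ := exists_mk x
      obtain ⟨a, ha⟩ := hmem n φ
      exact ⟨_, hgmk n φ v, Set.mem_iUnion.mpr ⟨a, ha v⟩⟩
    · rintro _ ⟨w, rfl, hw⟩
      obtain ⟨i, x, -, hx⟩ := hcover w hw
      exact ⟨x, hx⟩

end Groth.Agent.S19372
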