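import Groth.Statements.S19374
import Groth.Agent.L13.Fan.Glue

set_option autoImplicit false
universe u
open CategoryTheory Opposite Instab
open Instab Instab.Fan

namespace Groth.Agent.S19374

open Groth.Agent.L13.Fan

/-- Let F be a formal fan and U ⊆ P F. Then U is locally convex in the simplex-wise sense — for every
rational simplex, a ray lying strictly between two rays that map into U also maps into U — if and
only if, for every n-cone ξ of F, the set of nonzero nonnegative vectors v of ℝ^n whose point of the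
rational simplex of ξ lies in U is a convex subset of ℝ^n (convexity of the preimage of U in each
punctured cone of the affine realization). -/
theorem result (F : Fan.{u}) (U : Set (Fan.P F)) :
    Fan.IsLocallyConvex U ↔
      ∀ (n : ICone) (ξ : F.obj (op n)),
        Convex ℝ {v : Fin n.dim → ℝ | ∃ h : (∀ i, 0 ≤ v i) ∧ v ≠ 0, Fan.P.mk ξ (⟨v, h⟩ : Fan.Orth n) ∈ U} := by
  constructor
  · intro hU n ξ v₀ ⟨h₀, hv₀⟩ v₂ ⟨h₂, hv₂⟩ a b ha hb hab
    rcases ha.eq_or_lt with ha0 | ha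
    · subst ha0
      obtain rfl : b = 1 := by linarith
      simpa using (⟨h₂, hv₂⟩ : ∃ h : (∀ i, 0 ≤ v₂ i) ∧ v₂ ≠ 0, Fan.P.mk ξ ⟨v₂, h⟩ ∈ U)
    rcases hb.eq_or_lt with hb0 | hb
    · subst hb0
      obtain rfl : a = 1 := by linarith
      simpa using (⟨h₀, hv₀⟩ : ∃ h : (∀ i, 0 ≤ v₀ i) ∧ v₀ ≠ 0, Fan.P.mk ξ ⟨v₀, h⟩ ∈ U)
    have h : (∀ i, 0 ≤ (a • v₀ + b • v₂) i) ∧ a • v₀ + b • v₂ ≠ 0 := by
      refine ⟨fun i => add_nonneg (mul_nonneg ha.le (h₀.1 i)) (mul_nonneg hb.le (h₂.1 i)), fun h => h₀.2 ?_⟩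
      funext i
      have h1 : a * v₀ i + b * v₂ i = 0 := congr_fun h i
      have h2 := mul_nonneg hb.le (h₂.1 i)
      have h3 := h₀.1 i
      show v₀ i = 0
      nlinarith
    exact ⟨h, hU n ξ ⟨v₀, h₀⟩ ⟨_, h⟩ ⟨v₂, h₂⟩ hv₀ hv₂ ⟨a, b, ha, hb, rfl⟩⟩
  · rintro hU n ξ v₀ v₁ v₂ h₀ h₂ ⟨a, b, ha, hb, he⟩
    obtain ⟨h, hmem⟩ := hU n ξ (x := v₀.1) ⟨v₀.2, h₀⟩ (y := v₂.1) ⟨v₂.2, h₂⟩
      (div_nonneg ha.le (add_pos ha hb).le) (div_nonneg hb.le (add_pos ha hb).le)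
      (by field_simp)
    rwa [mk_sameRay ξ (v := v₁) (w := ⟨_, h⟩)]
    refine ⟨(a + b)⁻¹, inv_pos.mpr (add_pos ha hb), ?_⟩
    show _ = (a + b)⁻¹ • v₁.1
    rw [he, smul_add, smul_smul, smul_smul, inv_mul_eq_div, inv_mul_eq_div]

end Groth.Agent.S19374
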