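import Groth.Statements.S19377
import Groth.Agent.S2337
import Groth.Agent.S2355
import Groth.Agent.S4418
import Groth.Agent.S4419
import Groth.Agent.L18.RelAmpleOps
import Groth.Agent.L18.AmpleComp
import Groth.Agent.L16.SecComp.Smooth

set_option autoImplicit false
set_option linter.style.haveILetI false
universe u
open CategoryTheory AlgebraicGeometry
open RelProj

namespace Groth.Agent.S19377

theorem isQuasiAffine_openImm {A B : Scheme.{u}} (j : A ⟶ B) [IsOpenImmersion j] [QuasiCompact j] :
    Mor2.IsQuasiAffine j := by
  refine ⟨inferInstance, fun V hV => ?_⟩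
  haveI : IsAffine (V : Scheme.{u}) := hV
  haveI : CompactSpace (j ⁻¹ᵁ V : Scheme.{u}) :=
    isCompact_iff_compactSpace.mp (j.isCompact_preimage hV.isCompact)
  exact Scheme.IsQuasiAffine.of_isImmersion (j ∣_ V)

theorem isNoetherian_S {k : Type u} [Field k] {S : Scheme.{u}} (g : S ⟶ Spec (.of k))
    [Smooth g] [QuasiCompact g] : IsNoetherian S := by
  haveI : IsLocallyNoetherian S := LocallyOfFiniteType.isLocallyNoetherian g
  haveI : CompactSpace S := QuasiCompact.compactSpace_of_compactSpace g
  exact {}

/-- Let k be a field, S a smooth, separated and quasi-compact k-scheme and f : X → S a proper smooth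
morphism. The following two conditions are equivalent. (P): there is a dense open subscheme U of X,
quasi-projective over S, such that every connected component of S has a point not lying in the image
f(X ∖ U). Generic projectivity: there is a dense open subscheme V of S such that the restriction
f⁻¹(V) → V of f is projective. (The source works over the residue field of a complete discrete
valuation ring of mixed characteristic and adds that the restriction over V is smooth, which is
automatic; the base field plays no role and is arbitrary here.) -/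
theorem result
    {k : Type u} [Field k] {X S : Scheme.{u}} (f : X ⟶ S) (g : S ⟶ Spec (.of k))
    [Smooth g] [IsSeparated g] [QuasiCompact g] [IsProper f] [Smooth f] :
    (∃ U : X.Opens, Dense (U : Set X) ∧ RelProj.IsQuasiProjective (U.ι ≫ f) ∧
        ∀ s : S, ∃ s' : S, s' ∈ connectedComponent s ∧ s' ∉ ⇑f.base '' (U : Set X)ᶜ) ↔
      ∃ V : S.Opens, Dense (V : Set S) ∧ RelProj.IsProjective (f ∣_ V) := by
  haveI := isNoetherian_S g
  haveI : IsLocallyNoetherian X := LocallyOfFiniteType.isLocallyNoetherian f
  haveI : CompactSpace X := QuasiCompact.compactSpace_of_compactSpace f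
  haveI : IsNoetherian X := {}
  constructor
  · rintro ⟨U, -, ⟨-, -, L, hL⟩, hs⟩
    let V : S.Opens := ⟨(⇑f.base '' (U : Set X)ᶜ)ᶜ,
      (f.isClosedMap _ U.2.isClosed_compl).isOpen_compl⟩
    refine ⟨V, fun s => ?_, ?_⟩
    · obtain ⟨s', hs', hs'V⟩ := hs s
      have hirr : IsIrreducible (connectedComponent s) :=
        Groth.L16.SecComp.isIrreducible_connectedComponent
          (fun x => Groth.L21.Smooth.isDomain_stalk g x) s
      exact closure_mono Set.inter_subset_right (subset_closure_inter_of_isPreirreducible_of_isOpen
        hirr.2 V.2 ⟨s', hs', hs'V⟩ (mem_connectedComponent (x := s)))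
    · have hle : f ⁻¹ᵁ V ≤ U := fun x hx => by
        by_contra h
        exact hx ⟨x, h, rfl⟩
      haveI : TopologicalSpace.NoetherianSpace (f ⁻¹ᵁ V : Scheme.{u}) :=
        (f ⁻¹ᵁ V).ι.isOpenEmbedding.isInducing.noetherianSpace
      haveI : QuasiCompact (X.homOfLE hle) := quasiCompact_of_noetherianSpace_source _
      haveI : QuasiCompact (U.ι ≫ f) := hL.1
      have h1 := Groth.Agent.S2355.result (U.ι ≫ f) (X.homOfLE hle)
        (isQuasiAffine_openImm _) L hL
      rw [X.homOfLE_ι_assoc, ← morphismRestrict_ι] at h1
      have h2 := Groth.L18.Ample.isRelAmple_of_comp (f ∣_ V) V.ι h1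
      haveI : TopologicalSpace.NoetherianSpace (V : Scheme.{u}) :=
        V.ι.isOpenEmbedding.isInducing.noetherianSpace
      exact Groth.Agent.S4419.result (.inr inferInstance) (f ∣_ V) ⟨inferInstance, inferInstance, _, h2⟩
  · rintro ⟨V, hV, hp⟩
    obtain ⟨⟨-, -, L, hL⟩, -⟩ := Groth.Agent.S4418.result _ hp
    refine ⟨f ⁻¹ᵁ V, hV.preimage f.isOpenMap, ?_, fun s => ?_⟩
    · haveI : TopologicalSpace.NoetherianSpace (V : Scheme.{u}) :=
        V.ι.isOpenEmbedding.isInducing.noetherianSpace
      haveI : QuasiCompact V.ι := quasiCompact_of_noetherianSpace_source _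
      have hK := (Groth.Agent.S2337.result V.ι).mp (isQuasiAffine_openImm _)
      obtain ⟨n, -, hn⟩ := Groth.L18.Ample.exists_forall_isRelAmple_comp (f ∣_ V) V.ι hL hK
      have hn' := hn n le_rfl
      rw [morphismRestrict_ι] at hn'
      exact ⟨inferInstance, inferInstance, _, hn'⟩
    · obtain ⟨s', hs', hs'V⟩ : (connectedComponent s ∩ (V : Set S)).Nonempty :=
        hV.inter_open_nonempty _ (Groth.L04.SupportSh.isOpen_connectedComponent s)
          ⟨s, mem_connectedComponent⟩
      exact ⟨s', hs', fun ⟨x, hx, he⟩ => hx (show f.base x ∈ V from he ▸ hs'V)⟩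

end Groth.Agent.S19377
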