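import Groth.Statements.S19380
import Mathlib.LinearAlgebra.Matrix.SchurComplement
import Mathlib.LinearAlgebra.Matrix.Charpoly.Coeff

set_option autoImplicit false
universe u
open CAlg

namespace Groth.Agent.S19380

/-- Let L be a commutative ring, σ a ring automorphism of L of finite order dividing d (σ^d = 1), and C
an r × r matrix over L. The reverse characteristic polynomial det(1 − T·N) of the twisted product N
= C·σ(C)·σ²(C)⋯σ^(d−1)(C), with σ applied to the entries, is fixed by σ acting on coefficients. (In
the source this is phrased for the fibre at a closed point x of degree d of a convergent F-module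
with Frobenius matrix C: the d-th iterate of the semilinear Frobenius of the fibre is the linear map
with matrix N, so its characteristic polynomial has coefficients in the subfield fixed by the
Frobenius of K(x), namely K, and likewise with the valuation ring in place of K for an integral
F-module; only this linear-algebra statement, over any commutative ring, is given here.) -/
theorem result
    (L : Type u) [CommRing L] (σ : L ≃+* L) (d : ℕ) (hσ : σ ^ d = 1)
    (r : ℕ) (C : Matrix (Fin r) (Fin r) L) :
    (Matrix.charpolyRev (((List.range d).map fun i => C.map ⇑(σ ^ i)).prod)).map (σ : L →+* L) =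
      Matrix.charpolyRev (((List.range d).map fun i => C.map ⇑(σ ^ i)).prod) := by
  have hmap : ∀ N : Matrix (Fin r) (Fin r) L, (Matrix.charpolyRev N).map (σ : L →+* L) = Matrix.charpolyRev (N.map ⇑σ) := by
    intro N
    rw [Matrix.charpolyRev, Matrix.charpolyRev, ← Polynomial.coe_mapRingHom, RingHom.map_det]
    congr 1
    ext i j
    rcases eq_or_ne i j with rfl | h
    · simp [Matrix.one_apply_eq]
    · simp [Matrix.one_apply_ne h]
  rw [hmap]
  cases d with
  | zero => simp
  | succ e =>
    set P := ((List.range e).map fun i => C.map ⇑(σ ^ (i + 1))).prod
    have h1 : ((List.range (e + 1)).map fun i => C.map ⇑(σ ^ i)).prod = C * P := by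
      rw [List.range_succ_eq_map, List.map_cons, List.prod_cons, List.map_map]
      simp only [P, pow_zero]
      congr 1
    have h2 : (((List.range (e + 1)).map fun i => C.map ⇑(σ ^ i)).prod).map ⇑σ = P * C := by
      show (σ : L →+* L).mapMatrix _ = _
      rw [map_list_prod, List.map_map, List.range_succ, List.map_append, List.prod_append]
      have he : ∀ i, (σ : L →+* L).mapMatrix (C.map ⇑(σ ^ i)) = C.map ⇑(σ ^ (i + 1)) := fun i => by
        ext a b
        simp [pow_succ', RingAut.mul_apply]
      congr 1
      · exact congrArg List.prod (List.map_congr_left fun i _ => he i)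
      · simp only [List.map_cons, List.map_nil, List.prod_cons, List.prod_nil, mul_one, Function.comp_apply]
        rw [he, hσ]
        ext a b; simp
    rw [h2, h1]
    simp only [Matrix.charpolyRev, Matrix.map_mul]
    rw [← Matrix.smul_mul, ← Matrix.mul_smul]
    exact Matrix.det_one_sub_mul_comm _ _ |>.trans rfl

end Groth.Agent.S19380
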