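import Groth.Statements.S19381
import Groth.Agent.L07.FlatCompl.Basic

set_option autoImplicit false
set_option linter.style.haveILetI false
set_option backward.isDefEq.respectTransparency.types false
universe u
open CategoryTheory CategoryTheory.Limits AlgebraicGeometry
open FlatMor

namespace Groth.Agent.S19381

/-- Over a discrete valuation ring, let V be a henselian discrete valuation ring with maximal ideal 𝔪, A
a smooth V-algebra, Â the 𝔪A-adic completion of A, and h : X → Spec A a proper morphism with
reduction h₀ : X ×_{Spec A} Spec(A/𝔪A) → Spec(A/𝔪A). Then X is flat over V and h₀ is flat if and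
only if the base change of h to Spec Â is flat. (The published statement is for an excellent normal
ring V with a henselian pair (V, V/I) and the projective lift h built from lifted equations, and
also lists the base changes to the weak completion and to the henselization of (A, 𝔪A); it rests on
a lemma asserting 'B flat over V iff B̂ flat over V' for V-algebras B of finite type, which fails
when V has dimension ≥ 2 (V = ℤ_p[[x]], I = (p), B = V[y]/(x, py − 1) ≅ ℚ_p has B̂ = 0), so the
statement is given over a discrete valuation ring and for an arbitrary proper h.) -/
theorem result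
    (V : Type u) [CommRing V] [IsDomain V] [IsDiscreteValuationRing V] [HenselianLocalRing V]
    (A : Type u) [CommRing A] [Algebra V A] [Algebra.Smooth V A]
    (X : Scheme.{u}) (h : X ⟶ Spec (.of A)) [IsProper h] :
    (Flat (h ≫ Spec.map (CommRingCat.ofHom (algebraMap V A))) ∧
        Flat (pullback.snd h (Spec.map (CommRingCat.ofHom
          (Ideal.Quotient.mk ((IsLocalRing.maximalIdeal V).map (algebraMap V A))))))) ↔
      Flat (pullback.snd h (Spec.map (CommRingCat.ofHom
          (algebraMap A (AdicCompletion ((IsLocalRing.maximalIdeal V).map (algebraMap V A)) A))))) := by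
  haveI : Algebra.FinitePresentation V A := inferInstance
  haveI : IsNoetherianRing A := Algebra.FiniteType.isNoetherianRing V A
  haveI : LocallyOfFinitePresentation (Groth.L07.FlatCompl.str A V) :=
    (HasRingHomProperty.Spec_iff (P := @LocallyOfFinitePresentation)).mpr
      (RingHom.finitePresentation_algebraMap.2 inferInstance)
  haveI : IsLocallyNoetherian (Spec (CommRingCat.of A)) := inferInstance
  haveI : LocallyOfFinitePresentation h := inferInstance
  constructor
  · rintro ⟨hX, h0⟩
    let U : X.Opens := ⟨_, Groth.L20.isOpen_flat_stalkMap h⟩
    refine Groth.L07.FlatCompl.prop_completion V h @Flat U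
      (fun x hx => Groth.L07.FlatCompl.flat_stalk_of_closed V h hX h0 x hx) (Flat.of_stalkMap _ fun x => ?_)
    rw [Scheme.Hom.stalkMap_comp]
    exact RingHom.Flat.comp (x.2 : (h.stalkMap x.1).hom.Flat) (Flat.stalkMap _ x)
  · intro hc
    refine ⟨Groth.L07.FlatCompl.flat_comp_of_completion V h hc, ?_⟩
    exact Groth.L07.FlatCompl.prop_reduction V h @Flat hc

end Groth.Agent.S19381
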