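import Groth.Statements.S19382
import Groth.Agent.L07.FlatCompl.Basic

set_option autoImplicit false
set_option linter.style.haveILetI false
set_option backward.isDefEq.respectTransparency.types false
universe u
open CategoryTheory CategoryTheory.Limits AlgebraicGeometry
open FlatMor

namespace Groth.Agent.S19382

/-- Over a discrete valuation ring, let V be a henselian discrete valuation ring with maximal ideal 𝔪, A
a smooth V-algebra, Â the 𝔪A-adic completion of A, and h : X → Spec A a proper morphism with
reduction h₀ over Spec(A/𝔪A). Then X is flat over V and h₀ is smooth if and only if the base change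
of h to Spec Â is smooth. (As for the flat case, the published statement concerns an excellent
normal base ring with a henselian pair and the projective lift built from lifted equations, together
with the weak completion and the henselization; it is given here over a discrete valuation ring and
for an arbitrary proper h.) -/
theorem result
    (V : Type u) [CommRing V] [IsDomain V] [IsDiscreteValuationRing V] [HenselianLocalRing V]
    (A : Type u) [CommRing A] [Algebra V A] [Algebra.Smooth V A]
    (X : Scheme.{u}) (h : X ⟶ Spec (.of A)) [IsProper h] :
    (Flat (h ≫ Spec.map (CommRingCat.ofHom (algebraMap V A))) ∧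
        Smooth (pullback.snd h (Spec.map (CommRingCat.ofHom
          (Ideal.Quotient.mk ((IsLocalRing.maximalIdeal V).map (algebraMap V A))))))) ↔
      Smooth (pullback.snd h (Spec.map (CommRingCat.ofHom
          (algebraMap A (AdicCompletion ((IsLocalRing.maximalIdeal V).map (algebraMap V A)) A))))) := by
  haveI : Algebra.FinitePresentation V A := inferInstance
  haveI : IsNoetherianRing A := Algebra.FiniteType.isNoetherianRing V A
  haveI : LocallyOfFinitePresentation (Groth.L07.FlatCompl.str A V) :=
    (HasRingHomProperty.Spec_iff (P := @LocallyOfFinitePresentation)).mpr
      (RingHom.finitePresentation_algebraMap.2 inferInstance)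
  haveI : IsLocallyNoetherian (Spec (CommRingCat.of A)) := inferInstance
  haveI : LocallyOfFinitePresentation h := inferInstance
  constructor
  · rintro ⟨hX, h0⟩
    refine Groth.L07.FlatCompl.prop_completion V h @Smooth h.smoothLocus
      (fun x hx => Groth.L07.FlatCompl.smooth_of_closed V h
        (fun x hx => Groth.L07.FlatCompl.flat_stalk_of_closed V h hX inferInstance x hx) h0 x hx) ?_
    haveI : LocallyOfFinitePresentation (h.smoothLocus.ι ≫ h) := inferInstance
    rw [← Scheme.Hom.smoothLocus_eq_top_iff, ← Scheme.Hom.preimage_smoothLocus_eq, Scheme.Opens.ι_preimage_self]
  · intro hc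
    haveI := hc
    refine ⟨Groth.L07.FlatCompl.flat_comp_of_completion V h inferInstance, ?_⟩
    exact Groth.L07.FlatCompl.prop_reduction V h @Smooth hc

end Groth.Agent.S19382
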