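import Groth.Statements.S19383
import Mathlib.RingTheory.AdicCompletion.AsTensorProduct
import Mathlib.RingTheory.Flat.TorsionFree
import Mathlib.RingTheory.Flat.Stability
import Mathlib.RingTheory.Henselian
import Mathlib.RingTheory.DiscreteValuationRing.Basic

set_option autoImplicit false
universe u
open CAlg

namespace Groth.Agent.S19383

/-- Over a discrete valuation ring, let V be a henselian discrete valuation ring with maximal ideal 𝔪
and B a Noetherian V-algebra, B̂ its 𝔪B-adic completion. Then B is flat over V if and only if B̂ is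
flat over V. (The published lemma takes V an excellent normal ring with an ideal I such that (V,
V/I) is a henselian pair and B of finite type; in that generality it fails: for V = ℤ_p[[x]], I =
(p) and B = V[y]/(x, py − 1) ≅ ℚ_p one has IB = B, so B̂ = 0 is flat while B is not flat over V.
Over a discrete valuation ring flatness is torsion-freeness and the statement holds for every
Noetherian B.) -/
theorem result
    (V : Type u) [CommRing V] [IsDomain V] [IsDiscreteValuationRing V] [HenselianLocalRing V]
    (B : Type u) [CommRing B] [Algebra V B] [IsNoetherianRing B] :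
    Module.Flat V B ↔
      Module.Flat V (AdicCompletion ((IsLocalRing.maximalIdeal V).map (algebraMap V B)) B) := by
  constructor
  · intro h
    exact Module.Flat.trans V B _
  intro h
  set I := (IsLocalRing.maximalIdeal V).map (algebraMap V B)
  obtain ⟨π, hπ⟩ := IsDiscreteValuationRing.exists_irreducible V
  have hmax : IsLocalRing.maximalIdeal V = Ideal.span {π} := hπ.maximalIdeal_eq
  set ϖ := algebraMap V B π
  have hI : I = Ideal.span {ϖ} := by
    show (IsLocalRing.maximalIdeal V).map (algebraMap V B) = _
    rw [hmax, Ideal.map_span, Set.image_singleton]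
  have hreg : IsSMulRegular (AdicCompletion I B) π := h.isSMulRegular_of_nonZeroDivisors (mem_nonZeroDivisors_of_ne_zero hπ.ne_zero)
  -- π is regular on B
  have hB : ∀ x : B, ϖ * x = 0 → x = 0 := by
    intro x hx
    have h0 : AdicCompletion.of I B x = 0 := by
      refine hreg ?_
      show π • AdicCompletion.of I B x = π • (0 : AdicCompletion I B)
      rw [smul_zero, ← algebraMap_smul B π (AdicCompletion.of I B x), ← map_smul, smul_eq_mul, hx, map_zero]
    have hx' : ∀ n : ℕ, ∃ y, ϖ ^ n * y = x := fun n => by
      have h1 : AdicCompletion.eval I B n (AdicCompletion.of I B x) = 0 := by rw [h0]; exact map_zero _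
      rw [AdicCompletion.eval_of] at h1
      have h2 : x ∈ I ^ n • (⊤ : Submodule B B) := (Submodule.Quotient.mk_eq_zero _).mp h1
      rw [smul_eq_mul, Ideal.mul_top, hI, Ideal.span_singleton_pow, Ideal.mem_span_singleton] at h2
      obtain ⟨y, hy⟩ := h2
      exact ⟨y, hy.symm⟩
    let K : ℕ →o Submodule B B := ⟨fun n => LinearMap.ker (LinearMap.mulLeft B (ϖ ^ n)), fun a b hab z hz => by
      simp only [LinearMap.mem_ker, LinearMap.mulLeft_apply] at hz ⊢
      rw [← Nat.sub_add_cancel hab, pow_add, mul_assoc, hz, mul_zero]⟩
    obtain ⟨N, hN⟩ := monotone_stabilizes_iff_noetherian.mpr (inferInstance : IsNoetherian B B) K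
    obtain ⟨y, hy⟩ := hx' N
    have h1 : y ∈ K (N + 1) := by
      show ϖ ^ (N + 1) * y = 0
      rw [pow_succ', mul_assoc, hy, hx]
    rw [← hN (N + 1) (Nat.le_succ N)] at h1
    rw [← hy]
    exact h1
  rw [Module.Flat.flat_iff_torsion_eq_bot_of_isBezout, eq_bot_iff]
  rintro x ⟨⟨r, hr⟩, hrx⟩
  change r • x = 0 at hrx
  obtain ⟨n, u, rfl⟩ := IsDiscreteValuationRing.eq_unit_mul_pow_irreducible (nonZeroDivisors.ne_zero hr) hπ
  rw [mul_smul, ← Units.smul_def, smul_eq_zero_iff_eq] at hrx
  clear hr
  induction n generalizing x with
  | zero => simpa using hrx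
  | succ n ih =>
    rw [pow_succ, mul_smul] at hrx
    exact hB x (by rw [← Algebra.smul_def]; exact ih hrx)

end Groth.Agent.S19383
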