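import Groth.Statements.S19384
import Groth.Agent.L14.Versch.Basic

set_option autoImplicit false
universe u
open Versch

namespace Groth.Agent.S19384

/-- Over a field and for one finite level, let k be a field of characteristic p > 0 and G = Spec A a
finite commutative k-group scheme (A a finite-dimensional commutative cocommutative Hopf algebra)
killed by p^n, i.e. the p^n-th power map of G is the trivial homomorphism, and suppose the
Verschiebung of G is an isomorphism (the ring map v : A → A ⊗_k k^(p) characterised as the
Verschiebung is bijective). Then G is infinitesimal, more precisely the n-th iterate of its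
Frobenius is trivial: a^(p^n) = 0 for every a in the augmentation ideal. (The source states this for
the p^n-torsion levels of a p-divisible group of multiplicative type over any scheme of
characteristic p and reduces to a field fibre by fibre; it also records that the Cartier dual has
unipotent fibres, which is not stated here.) -/
theorem result
    (p : ℕ) [Fact p.Prime] (k : Type u) [Field k] [CharP k p]
    (A : Type u) [CommRing A] [HopfAlgebra k A] [Coalgebra.IsCocomm k A] [Module.Finite k A]
    (n : ℕ)
    (hn : SGA3b.powConv k A (p ^ n) = (Algebra.ofId k A).comp (Bialgebra.counitAlgHom k A))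
    (v : A →+* FrobAlg.BaseChange p k A) (hv : Versch.IsVerschiebung p k A v)
    (hbij : Function.Bijective v)
    (a : A) (ha : Coalgebra.counit (R := k) a = 0) : a ^ (p ^ n) = 0 := by
  haveI : CharP A p := charP_of_injective_algebraMap (Groth.L14.Versch.algebraMap_injective k A) p
  obtain ⟨c, hc⟩ := Groth.L14.Versch.pow_mem_range hv hbij.2 n a
  rw [hn, AlgHom.comp_apply] at hc
  have h0 := congrArg (Bialgebra.counitAlgHom k A) hc
  have h1 : Bialgebra.counitAlgHom k A a = 0 := ha
  have hp : p ^ n ≠ 0 := pow_ne_zero n (Fact.out : p.Prime).ne_zero
  rw [map_pow, h1, zero_pow hp, Algebra.ofId_apply, AlgHom.commutes] at h0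
  rw [hc, Algebra.ofId_apply, show Bialgebra.counitAlgHom k A c = 0 from h0.symm, map_zero]

end Groth.Agent.S19384
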