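import Groth.Statements.S19385
import Groth.Agent.L13.HdgDiv.Bounds
import Groth.Agent.L16.CohClosedPush
import Groth.Agent.L21.RR.Coh
-- import your own Groth.Agent.* helpers here

set_option autoImplicit false
set_option backward.isDefEq.respectTransparency false
set_option linter.style.haveILetI false
set_option backward.isDefEq.respectTransparency.types false
universe u
open CategoryTheory CategoryTheory.Limits AlgebraicGeometry
open HdgLef

namespace Groth.Agent.S19385

/-- Let X be a smooth proper scheme of dimension n over a field k and L an ample invertible O_X-module.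
There is m₀ such that for every m ≥ m₀ and every global section s of L^{⊗m} with O_X → L^{⊗m}
injective (a regular section) whose zero scheme Y, with inclusion i : Y → X, is smooth over k, one
has H^a(X, i_*Ω^b ⊗ L^{⊗m}) = 0 for every b-th exterior power Ω^b of the sheaf of differentials of Y
over k (in the affine-local sense) and all a, b with a + b > n − 1. (The published statement takes Y
among the degree-m hypersurface sections of a projective embedding and twists with O_X(Y); the
published argument uses only Serre vanishing for the powers of an ample invertible module, so zero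
schemes of regular sections of L^{⊗m} are allowed here, with O_X(Y) = L^{⊗m}.) -/
theorem result
    (k : Type u) [Field k] (X : Scheme.{u}) [X.Over (Spec (CommRingCat.of k))]
    [IsProper (X ↘ Spec (CommRingCat.of k))] [Smooth (X ↘ Spec (CommRingCat.of k))] (n : ℕ) (hn : topologicalKrullDim X = n)
    (L : X.Modules) (hL : CohB1.IsAmple L) :
    ∃ m₀ : ℕ, ∀ (m : ℕ), m₀ ≤ m →
      ∀ (s : Coh.structureModule X ⟶ CohB1.tensorPow L m) [Mono s]
        [Smooth ((PicF2.zeroScheme (CohB1.tensorPow L m) s).subschemeι ≫ (X ↘ Spec (CommRingCat.of k)))]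
        (a b : ℕ) (OmY : (PicF2.zeroScheme (CohB1.tensorPow L m) s).subscheme.Modules),
        ExtPow.IsExtPow b (Omega.sheaf ((PicF2.zeroScheme (CohB1.tensorPow L m) s).subschemeι ≫ (X ↘ Spec (CommRingCat.of k)))) OmY →
        n ≤ a + b →
        Subsingleton (Coh.HH X (CohB1.tensorMod ((Coh.push (PicF2.zeroScheme (CohB1.tensorPow L m) s).subschemeι).obj OmY)
          (CohB1.tensorPow L m)) a) := by
  haveI : IsLocallyNoetherian X := LocallyOfFiniteType.isLocallyNoetherian (X ↘ Spec (CommRingCat.of k))
  obtain ⟨m₀, h⟩ := Groth.L13.HdgDiv.exists_pos_bound k hn hL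
  refine ⟨m₀, fun m hm s _ _ a b OmY hY hab => ?_⟩
  obtain ⟨hI, ⟨e⟩⟩ := Groth.L13.HdgDiv.zeroScheme_inverse (Groth.L18.Ample.isInvertible_tensorPow hL.1 m) s
  let D := Groth.L13.HdgDiv.relData (X ↘ Spec (CommRingCat.of k)) _ hI
  have h' := D.pos_van (Groth.L18.Ample.isInvertible_tensorPow hL.1 m) e
    (fun p hp => Groth.L13.HdgDiv.isZero_of_dim_lt k hn hp (D.isE p))
    (fun p a j ha hj => h m hm p a j _ (D.isE p) ha hj) hab le_rfl (b := b) (a := a)
  haveI := Groth.L15.PnHodge.isQCoh_of_locFree D.free'
  obtain ⟨eF⟩ := Groth.L12.ExtSh.nonempty_iso_of_isExtPow (D.isF b) hY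
  exact Groth.L22.EnrSev.subsingleton_of_iso
    (Groth.L00.Tensor.tensorIso ((Coh.push _).mapIso eF) (Groth.L00.Tensor.tensorPowOne _)) a h'

end Groth.Agent.S19385
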