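import Groth.Statements.S19389
import Groth.Agent.L18.PicWittTower
import Groth.Agent.L07.FibreDimSemi
import Groth.Agent.S2768
import Mathlib.RingTheory.WittVector.DiscreteValuationRing
import Mathlib.RingTheory.WittVector.Complete
import Mathlib.FieldTheory.Perfect

set_option autoImplicit false
universe u
open CategoryTheory CategoryTheory.Limits AlgebraicGeometry
open PicThk

set_option backward.isDefEq.respectTransparency.types false
set_option backward.isDefEq.respectTransparency false

namespace Groth.Agent.S19389

theorem dim_thick_zero (p : ℕ) [Fact p.Prime] (k : Type u) [Field k] [CharP k p] [PerfectRing k p]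
    (X : Scheme.{u}) (f : X ⟶ Spec (CommRingCat.of (WittVector p k))) [SmoothOfRelativeDimension 1 f] :
    topologicalKrullDim (CohB1.thick f (Ideal.span {(p : WittVector p k)}) 0) ≤ 1 := by
  let I : Ideal (WittVector p k) := Ideal.span {(p : WittVector p k)}
  have hmax : I.IsMaximal := by
    have h := (IsDiscreteValuationRing.irreducible_iff_uniformizer (p : WittVector p k)).1 (WittVector.irreducible p)
    show (Ideal.span {(p : WittVector p k)}).IsMaximal
    rw [← h]
    infer_instance
  let s : Spec (CommRingCat.of (WittVector p k)) := (⟨I, hmax.isPrime⟩ : PrimeSpectrum (WittVector p k))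
  have hzl : PrimeSpectrum.zeroLocus (I : Set (WittVector p k)) =
      {(⟨I, hmax.isPrime⟩ : PrimeSpectrum (WittVector p k))} := by
    ext q
    rw [PrimeSpectrum.mem_zeroLocus, Set.mem_singleton_iff]
    constructor
    · exact fun h => PrimeSpectrum.ext (hmax.eq_of_le q.2.ne_top h).symm
    · rintro rfl
      exact le_refl _
  haveI := Groth.L18.PicWitt.isClosedImmersion_thickι f I 0
  have hr : Set.range (CohB1.thickι f I 0) = Set.range (f.fiberι s) := by
    rw [f.range_fiberι s]
    show Set.range (pullback.fst f (CohB1.specQuot I 0)) = _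
    rw [Scheme.Pullback.range_fst,
      show Set.range (CohB1.specQuot I 0) = Set.range (PrimeSpectrum.comap (Ideal.Quotient.mk (I ^ (0 + 1)))) from rfl,
      range_comap_of_surjective _ _ Ideal.Quotient.mk_surjective, Ideal.mk_ker,
      PrimeSpectrum.zeroLocus_pow I (Nat.succ_ne_zero 0)]
    exact congrArg (fun Z => f ⁻¹' Z) hzl
  let h : (CohB1.thick f I 0) ≃ₜ (f.fiber s) :=
    ((CohB1.thickι f I 0).isClosedEmbedding.isEmbedding.toHomeomorph.trans (Homeomorph.setCongr hr)).trans
      (f.fiberι s).isEmbedding.toHomeomorph.symm
  refine le_of_eq_of_le (IsHomeomorph.topologicalKrullDim_eq h h.isHomeomorph) ?_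
  exact (Groth.L07.FibreDim.fiber_dim_le_iff f s 1).2 fun x _ => le_of_eq (by
    rw [Groth.L20.SmoothDim.main 1 f x]; rfl)

/-- Let p > 2 be a prime, k a finite field of characteristic p and W = W(k) its ring of Witt vectors;
let f : X → Spec W be proper and smooth of relative dimension 1 with an ample invertible O_X-module
(a smooth projective relative curve), and X_n = X ×_W Spec W/(p^{n+1}) the infinitesimal thickenings
of the special fibre, with inclusions ι_n : X_n → X. Granting the group laws of the Picard groups
involved and the multiplicativity of pull-back of invertible classes along each ι_n, the restriction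
maps Pic(X) → Pic(X_n) are all surjective, and for every i there is a level t such that a class on X
whose restriction to X_t is a p^i-th power is already a p^i-th power in Pic(X). (The published proof
identifies CH^1(X) with Pic(X) and H^1(X_1, K^M_1 of X_n) with Pic(X_n) and states that CH^1(X) ⊗
Z/p^i → (Pic(X_n) ⊗ Z/p^i)_n is an isomorphism of pro-abelian groups; the two assertions here are
what its proof establishes and imply that pro-isomorphism, the first giving levelwise surjectivity
and the second the vanishing of the kernel pro-system.) -/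
theorem result
    (p : ℕ) [Fact p.Prime] (hp : 2 < p) (k : Type u) [Field k] [Finite k] [CharP k p]
    (X : Scheme.{u}) (f : X ⟶ Spec (CommRingCat.of (WittVector p k))) [IsProper f] [SmoothOfRelativeDimension 1 f]
    (L : X.Modules) (hL : CohB1.IsAmple L)
    [PicGrp.Law X] [∀ n : ℕ, PicGrp.Law (CohB1.thick f (Ideal.span (singleton (p : (WittVector p k)))) n)]
    (hι : ∀ n : ℕ, PicGrp.PullMul (CohB1.thickι f (Ideal.span (singleton (p : (WittVector p k)))) n)) (i : ℕ) :
    (∀ n : ℕ, Function.Surjective (PicGrp.pullHom (CohB1.thickι f (Ideal.span (singleton (p : (WittVector p k)))) n) (hι n))) ∧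
    ∃ t : ℕ, ∀ a : PicLoc.PicSet X,
      (∃ b : PicLoc.PicSet (CohB1.thick f (Ideal.span (singleton (p : (WittVector p k)))) t), b ^ (p ^ i) = PicGrp.pullHom (CohB1.thickι f (Ideal.span (singleton (p : (WittVector p k)))) t) (hι t) a) →
      ∃ a' : PicLoc.PicSet X, a' ^ (p ^ i) = a := by
  haveI : PerfectField k := PerfectField.ofFinite
  haveI : ExpChar k p := ExpChar.prime Fact.out
  haveI : PerfectRing k p := inferInstance
  obtain rfl : ‹PicGrp.Law X› = Groth.Agent.AV.InterPic.picLaw X := Subsingleton.elim _ _
  obtain rfl : ‹∀ n : ℕ, PicGrp.Law (CohB1.thick f (Ideal.span (singleton (p : (WittVector p k)))) n)› =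
      fun n => Groth.Agent.AV.InterPic.picLaw _ := funext fun n => Subsingleton.elim _ _
  obtain ⟨h1, t, ht⟩ := Groth.L18.PicWitt.main p f (dim_thick_zero p k X f) i
  exact ⟨h1, t, fun a ha => ht a ha⟩

end Groth.Agent.S19389
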