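
import Groth.Statements.S1939
import Groth.Agent.L22.Cyc.BaseChange

set_option autoImplicit false
universe u
open CategoryTheory AlgebraicGeometry
open CategoryTheory.Limits
open Cyc

namespace Groth.Agent.S1939

/-- Let (S, δS) and (S', δS') be two pairs satisfying Cyc.IsSetup, g : S' → S flat with δS'(s') = δS(g
s') + c for every s' generic in an irreducible component of its fibre g⁻¹(g s'), a : X → S locally
of finite type with X integral of δ-dimension k (δX induced from δS), and X' = X ×_S S' with δX'
induced from δS'. Then every generic point x' of an irreducible component of X' has δX'(x') = k + c.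
A pair (X, δ) with Cyc.IsSetup plays the role of a scheme locally of finite type over a fixed base
with a dimension function (X locally Noetherian with universally catenary local rings, δ a dimension
function), and Cyc.DeltaCompat records that the dimension function upstairs is the induced one. -/
theorem result (S S' X : Scheme.{u}) (δS : S → ℤ) (δS' : S' → ℤ) (hS : Cyc.IsSetup S δS) (hS' : Cyc.IsSetup S' δS') (g : S' ⟶ S) [Flat g] (c : ℤ) (hc : ∀ s' : S', (∀ y, g y = g s' → y ⤳ s' → y = s') → δS' s' = δS (g s') + c) (a : X ⟶ S) [LocallyOfFiniteType a] [IsIntegral X] (δX : X → ℤ) (hX : Cyc.DeltaCompat a δX δS) (δX' : ↥(pullback a g) → ℤ) (hX' : Cyc.DeltaCompat (pullback.snd a g) δX' δS') (k : ℤ) (hk : δX (genericPoint X) = k) (x' : ↥(pullback a g)) (hx' : ∀ y : ↥(pullback a g), y ⤳ x' → y = x') : δX' x' = k + c := by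
  have hfl : Flat (pullback.fst a g) := inferInstance
  have hgen : pullback.fst a g x' = genericPoint X := by
    obtain ⟨y, hy, hye⟩ := Flat.generalizingMap (pullback.fst a g)
      ((genericPoint_spec X).specializes (trivial : pullback.fst a g x' ∈ Set.univ))
    rw [← hx' y hy, hye]
  have hη : Groth.L22.Cyc.FibGen a (genericPoint X) := fun v _ hv =>
    (hv.antisymm ((genericPoint_spec X).specializes trivial)).eq
  have hfib : Groth.L22.Cyc.FibGen (pullback.snd a g) x' := fun v _ hv => hx' v hv
  have hfib' : Groth.L22.Cyc.FibGen (pullback.fst a g) x' := fun v _ hv => hx' v hv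
  have hg := hfib'.of_baseChange (IsPullback.of_hasPullback a g).flip
  have hr := Groth.L22.Cyc.rtrdeg_baseChange (IsPullback.of_hasPullback a g) hfib
  obtain ⟨n, hn, h1⟩ := hX' x'
  obtain ⟨N, hN, h2⟩ := hX (genericPoint X)
  have h3 := hc _ hg
  rw [show Groth.L22.Cyc.rtrdeg (pullback.snd a g) x' = (n : Cardinal.{u}) from hn, hgen,
    show Groth.L22.Cyc.rtrdeg a (genericPoint X) = (N : Cardinal.{u}) from hN] at hr
  have h4 : n = N := by exact_mod_cast hr
  have h5 : g (pullback.snd a g x') = a (genericPoint X) := by
    rw [← hgen, ← Scheme.Hom.comp_apply, ← pullback.condition, Scheme.Hom.comp_apply]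
  rw [h5] at h3
  omega

end Groth.Agent.S1939
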