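import Groth.Statements.S19390
import Mathlib.Data.Fin.Tuple.Sort
import Mathlib.Data.Fintype.Card
import Mathlib.Algebra.BigOperators.Fin
import Mathlib.SetTheory.Cardinal.Order
import Mathlib.Tactic.FinCases
import Mathlib.Tactic.IntervalCases
import Mathlib.Algebra.Order.BigOperators.Group.Finset
import Mathlib.Order.Interval.Finset.Fin
-- import your own Groth.Agent.* helpers here

set_option autoImplicit false
universe u
open GIT

namespace Groth.Agent.S19390

/-- Let e ≥ 1, n = 2e + 1, and let x_1, …, x_n be points such that no point occurs more than e times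
among them (the stability condition for n ordered points on a line, n odd). Then there are index
sequences i_1, …, i_n and j_1, …, j_n in which every index between 1 and n occurs exactly twice in
total, such that x_{i_k} ≠ x_{j_k} for every k and (i_1, i_2, i_3) = (j_3, j_1, j_2). Indices are
written 0, …, n − 1 here. -/
theorem result {α : Type u} [DecidableEq α] (e : ℕ) (he : 1 ≤ e)
    (x : Fin (2 * e + 1) → α)
    (hx : ∀ a : α, (Finset.univ.filter fun k => x k = a).card ≤ e) :
    ∃ i j : Fin (2 * e + 1) → Fin (2 * e + 1),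
      (∀ m : Fin (2 * e + 1),
        (Finset.univ.filter fun k => i k = m).card + (Finset.univ.filter fun k => j k = m).card = 2) ∧
      (∀ k, x (i k) ≠ x (j k)) ∧
      i 0 = j 2 ∧ i 1 = j 0 ∧ i 2 = j 1 := by
  classical
  letI : LinearOrder α := linearOrderOfSTO WellOrderingRel
  obtain ⟨a, -, hmax⟩ := Finset.exists_max_image Finset.univ (fun m => (Finset.univ.filter fun k => x k = x m).card) Finset.univ_nonempty
  let c' : α → ℕ := fun v => (Finset.univ.filter fun k => x k = v).card
  have hb0 : (Finset.univ.filter fun k => x k ≠ x a).Nonempty := by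
    by_contra h
    simp only [Finset.not_nonempty_iff_eq_empty, Finset.filter_eq_empty_iff, not_not] at h
    have := hx (x a)
    rw [Finset.filter_true_of_mem (fun k _ => h (Finset.mem_univ k))] at this
    simp at this
    omega
  obtain ⟨b, hb, hbmax⟩ := Finset.exists_max_image _ (fun m => c' (x m)) hb0
  simp only [Finset.mem_filter, Finset.mem_univ, true_and] at hb hbmax
  have hc0 : ∃ c, x c ≠ x a ∧ x c ≠ x b := by
    by_contra! h
    have : (Finset.univ : Finset (Fin (2 * e + 1))) ⊆ (Finset.univ.filter fun k => x k = x a) ∪ (Finset.univ.filter fun k => x k = x b) :=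
      fun k _ => by simpa using Classical.or_iff_not_imp_left.2 (h k)
    have := (Finset.card_le_card this).trans (Finset.card_union_le _ _)
    have := hx (x a); have := hx (x b)
    simp at *
    omega
  obtain ⟨c, hca, hcb⟩ := hc0
  let R : Finset (Fin (2 * e + 1)) := ({a, b, c} : Finset _)ᶜ
  have h3 : ({a, b, c} : Finset (Fin (2 * e + 1))).card = 3 := Finset.card_eq_three.2
    ⟨a, b, c, fun h => hb (h ▸ rfl), fun h => hca (h ▸ rfl), fun h => hcb (h ▸ rfl), rfl⟩
  have hR : R.card = 2 * (e - 1) := by
    rw [Finset.card_compl, h3, Fintype.card_fin]; omega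
  have hmult : ∀ v, (R.filter fun k => x k = v).card ≤ e - 1 := by
    intro v
    by_cases hv : v = x a ∨ v = x b ∨ v = x c
    · have : (R.filter fun k => x k = v).card < c' v := by
        refine Finset.card_lt_card ((Finset.ssubset_iff_of_subset (Finset.filter_subset_filter _ (Finset.subset_univ R))).2 ?_)
        rcases hv with h | h | h
        · exact ⟨a, by simp [h], by simp [R]⟩
        · exact ⟨b, by simp [h], by simp [R]⟩
        · exact ⟨c, by simp [h], by simp [R]⟩
      have := hx v
      simp only [c'] at *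
      omega
    · push Not at hv
      have h1 : (R.filter fun k => x k = v).card ≤ c' v := Finset.card_le_card (Finset.filter_subset_filter _ (Finset.subset_univ _))
      by_cases h0 : c' v = 0
      · omega
      obtain ⟨d, hd⟩ := Finset.card_pos.1 (Nat.pos_of_ne_zero h0)
      simp only [Finset.mem_filter, Finset.mem_univ, true_and] at hd
      have h2 : c' v ≤ c' (x b) := hd ▸ hbmax d (hd ▸ hv.1)
      have h4 : c' v ≤ c' (x a) := hd ▸ hmax d (Finset.mem_univ d)
      have h5 : c' (x a) + c' (x b) + c' v + c' (x c) ≤ 2 * e + 1 := by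
        have e5 := (Finset.card_eq_sum_card_fiberwise (f := x) (s := Finset.univ) (t := Finset.univ.image x) (fun k _ => Finset.mem_image_of_mem x (Finset.mem_univ k))).symm
        have hs : ({x a, x b, v, x c} : Finset α) ⊆ Finset.univ.image x := by
          intro w hw
          simp only [Finset.mem_insert, Finset.mem_singleton] at hw
          simp only [Finset.mem_image, Finset.mem_univ, true_and]
          rcases hw with rfl | rfl | rfl | rfl
          exacts [⟨a, rfl⟩, ⟨b, rfl⟩, ⟨d, hd⟩, ⟨c, rfl⟩]
        have := Finset.sum_le_sum_of_subset (f := fun w => (Finset.univ.filter fun k => x k = w).card) hs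
        rw [e5, Finset.sum_insert (by simp [Ne.symm hb, Ne.symm hv.1, Ne.symm hca]),
          Finset.sum_insert (by simp [Ne.symm hv.2.1, Ne.symm hcb]), Finset.sum_insert (by simp [hv.2.2]),
          Finset.sum_singleton, Finset.card_univ, Fintype.card_fin] at this
        simp only [c']
        omega
      have h6 : 0 < c' (x c) := Finset.card_pos.2 ⟨c, by simp⟩
      omega
  let y₀ : Fin (2 * (e - 1)) ↪o Fin (2 * e + 1) := R.orderEmbOfFin hR
  let y : Fin (2 * (e - 1)) → Fin (2 * e + 1) := y₀ ∘ Tuple.sort (x ∘ y₀)
  have hy : Function.Injective y := y₀.injective.comp (Tuple.sort (x ∘ y₀)).injective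
  have hyR : ∀ r, y r ∈ R := fun r => R.orderEmbOfFin_mem hR _
  have hmono : Monotone (x ∘ y) := Tuple.monotone_sort (x ∘ y₀)
  have hsep : ∀ r s : Fin (2 * (e - 1)), (r : ℕ) + (e - 1) = s → x (y r) ≠ x (y s) := by
    intro r s hrs heq
    have : (Finset.Icc r s).card ≤ (R.filter fun k => x k = x (y r)).card :=
      Finset.card_le_card_of_injOn y (fun t ht => by
        rw [Finset.mem_coe, Finset.mem_Icc] at ht
        exact Finset.mem_filter.2 ⟨hyR t, le_antisymm ((hmono ht.2).trans_eq heq.symm) (hmono ht.1)⟩) hy.injOn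
    have := hmult (x (y r))
    rw [Fin.card_Icc] at *
    omega
  let tri : (Fin 3 → Fin (2 * e + 1)) → (Fin (2 * (e - 1)) → Fin (2 * (e - 1))) → Fin (2 * e + 1) → Fin (2 * e + 1) :=
    fun t π k => if h : (k : ℕ) < 3 then t ⟨k, h⟩ else y (π ⟨(k : ℕ) - 3, by have := k.2; omega⟩)
  have hinj : ∀ (t : Fin 3 → Fin (2 * e + 1)) (π : Fin (2 * (e - 1)) → Fin (2 * (e - 1))), Function.Injective t →
      (∀ s, t s ∈ ({a, b, c} : Finset _)) → Function.Injective π → Function.Bijective (tri t π) := by
    intro t π ht htm hπ
    refine Finite.injective_iff_bijective.1 fun k l h => ?_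
    simp only [tri] at h
    split_ifs at h with hk hl hl
    · simpa [Fin.ext_iff] using ht h
    · exact absurd (htm ⟨k, hk⟩) (by rw [h]; exact Finset.mem_compl.1 (hyR _))
    · exact absurd (htm ⟨l, hl⟩) (by rw [← h]; exact Finset.mem_compl.1 (hyR _))
    · have := congrArg Fin.val (hπ (hy h))
      simp at this
      exact Fin.ext (by omega)
  let π : Fin (2 * (e - 1)) → Fin (2 * (e - 1)) := fun r =>
    if h : (r : ℕ) < e - 1 then ⟨r + (e - 1), by omega⟩ else ⟨r - (e - 1), by omega⟩
  have hπ : Function.Injective π := fun r s h => by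
    simp only [π] at h
    split_ifs at h with h1 h2 h2 <;> simp [Fin.ext_iff] at h <;> exact Fin.ext (by omega)
  have ab : a ≠ b := fun h => hb (h ▸ rfl)
  have ac : a ≠ c := fun h => hca (h ▸ rfl)
  have bc : b ≠ c := fun h => hcb (h ▸ rfl)
  have hi := hinj ![a, b, c] id (by intro s t h; fin_cases s <;> fin_cases t <;> simp_all [Ne.symm ab, Ne.symm ac, Ne.symm bc]) (by intro s; fin_cases s <;> simp) Function.injective_id
  have hj := hinj ![b, c, a] π (by intro s t h; fin_cases s <;> fin_cases t <;> simp_all [Ne.symm ab, Ne.symm ac, Ne.symm bc]) (by intro s; fin_cases s <;> simp) hπ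
  refine ⟨tri ![a, b, c] id, tri ![b, c, a] π, fun m => ?_, fun k => ?_, ?_, ?_, ?_⟩
  · have one : ∀ g : Fin (2 * e + 1) → Fin (2 * e + 1), Function.Bijective g → (Finset.univ.filter fun k => g k = m).card = 1 := fun g hg => by
      obtain ⟨k, rfl⟩ := hg.2 m
      exact Finset.card_eq_one.2 ⟨k, by ext; simp [hg.1.eq_iff]⟩
    rw [one _ hi, one _ hj]
  · simp only [tri]
    split_ifs with hk
    · rcases k with ⟨k, _⟩
      simp only at hk ⊢
      interval_cases k <;> simp [Ne.symm hb, Ne.symm hcb, hca]
    · simp only [id, π]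
      split_ifs with h1
      · exact hsep _ _ (by simp)
      · exact (hsep _ _ (by simp at *; omega)).symm
  all_goals
    have h21 : 1 % (2 * e + 1) = 1 := Nat.mod_eq_of_lt (by omega)
    have h22 : 2 % (2 * e + 1) = 2 := Nat.mod_eq_of_lt (by omega)
    simp [tri, Fin.val_ofNat, h21, h22]

end Groth.Agent.S19390
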