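import Groth.Statements.S19391
import Mathlib.Tactic.Ring
import Mathlib.Algebra.Polynomial.Coeff
import Mathlib.Tactic.LinearCombination

set_option autoImplicit false
universe u
open InvQ

namespace Groth.Agent.S19391
open Polynomial

/-- For a binary quartic written as a product of four linear forms μ_i X₀ − λ_i X₁, with coefficients
a_0, …, a_4, the discriminant D = ∏_{i<j} (λ_j μ_i − λ_i μ_j)² is a constant multiple of P³ − 6Q²
for the two basic invariants P, Q. With the integral normalisation I = 6P = 12a₀a₄ − 3a₁a₃ + a₂², J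
= 72Q = 72a₀a₂a₄ + 9a₁a₂a₃ − 27a₀a₃² − 27a₁²a₄ − 2a₂³ used here, the identity reads 27 D = 4 I³ − J²
(so the constant is 32: D = 32 (P³ − 6Q²)); it is stated over an arbitrary commutative ring. -/
theorem result (R : Type u) [CommRing R] (la mu : Fin 4 → R) :
    27 * W4c6intromoduli.disc la mu =
      4 * W4c6intromoduli.invI (W4c6intromoduli.coef la mu) ^ 3
        - W4c6intromoduli.invJ (W4c6intromoduli.coef la mu) ^ 2 := by
  have hd : W4c6intromoduli.disc la mu =
      (la 1 * mu 0 - la 0 * mu 1) ^ 2 * ((la 2 * mu 0 - la 0 * mu 2) ^ 2 * ((la 3 * mu 0 - la 0 * mu 3) ^ 2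
        * ((la 2 * mu 1 - la 1 * mu 2) ^ 2 * ((la 3 * mu 1 - la 1 * mu 3) ^ 2
          * (la 3 * mu 2 - la 2 * mu 3) ^ 2)))) := by
    rw [W4c6intromoduli.disc, show ((Finset.univ : Finset (Fin 4 × Fin 4)).filter fun p => p.1 < p.2)
      = {(0, 1), (0, 2), (0, 3), (1, 2), (1, 3), (2, 3)} from by decide]
    simp
  have hp : W4c6intromoduli.rootPoly la mu =
      C (mu 0 * mu 1 * mu 2 * mu 3)
      - C (la 0 * mu 1 * mu 2 * mu 3 + mu 0 * la 1 * mu 2 * mu 3 + mu 0 * mu 1 * la 2 * mu 3 + mu 0 * mu 1 * mu 2 * la 3) * X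
      + C (la 0 * la 1 * mu 2 * mu 3 + la 0 * mu 1 * la 2 * mu 3 + la 0 * mu 1 * mu 2 * la 3
          + mu 0 * la 1 * la 2 * mu 3 + mu 0 * la 1 * mu 2 * la 3 + mu 0 * mu 1 * la 2 * la 3) * X ^ 2
      - C (mu 0 * la 1 * la 2 * la 3 + la 0 * mu 1 * la 2 * la 3 + la 0 * la 1 * mu 2 * la 3 + la 0 * la 1 * la 2 * mu 3) * X ^ 3
      + C (la 0 * la 1 * la 2 * la 3) * X ^ 4 := by
    simp only [W4c6intromoduli.rootPoly, Fin.prod_univ_four, map_add, map_mul]
    ring
  rw [hd]
  simp only [W4c6intromoduli.invI, W4c6intromoduli.invJ, W4c6intromoduli.coef, hp, coeff_add,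
    coeff_sub, coeff_C_mul, coeff_X_pow, coeff_C, coeff_X]
  norm_num
  ring

end Groth.Agent.S19391
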