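import Groth.Statements.S19392
import Mathlib.Tactic.Ring
import Mathlib.Tactic.LinearCombination
import Mathlib.Tactic.FinCases

set_option autoImplicit false
universe u
open InvQ

namespace Groth.Agent.S19392

set_option maxHeartbeats 1600000 in
/-- Over a field of characteristic different from 2 and 3, a nonzero binary quartic f has P(f) = Q(f) =
0 for the two basic invariants P, Q if and only if f has a triple zero. Stated for f = ∏_i (μ_i X₀ −
λ_i X₁) given by four root points (λ_i, μ_i) ≠ (0, 0) (over an algebraically closed field every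
nonzero quartic form is of this shape), with the integral invariants I = 6P and J = 72Q of the
coefficients of f; a triple zero means that three of the four root points are pairwise proportional. -/
theorem result (k : Type u) [Field k]
    (h2 : (2 : k) ≠ 0) (h3 : (3 : k) ≠ 0) (la mu : Fin 4 → k) (hne : ∀ i, la i ≠ 0 ∨ mu i ≠ 0) :
    (W4c6intromoduli.invI (W4c6intromoduli.coef la mu) = 0 ∧
        W4c6intromoduli.invJ (W4c6intromoduli.coef la mu) = 0) ↔
      ∃ i j l : Fin 4, i ≠ j ∧ j ≠ l ∧ i ≠ l ∧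
        la i * mu j = la j * mu i ∧ la j * mu l = la l * mu j := by
  classical
  let a0 := mu 0 * mu 1 * mu 2 * mu 3
  let a1 := -(la 0 * mu 1 * mu 2 * mu 3 + mu 0 * la 1 * mu 2 * mu 3 + mu 0 * mu 1 * la 2 * mu 3 + mu 0 * mu 1 * mu 2 * la 3)
  let a2 := la 0 * la 1 * mu 2 * mu 3 + la 0 * mu 1 * la 2 * mu 3 + la 0 * mu 1 * mu 2 * la 3 +
    mu 0 * la 1 * la 2 * mu 3 + mu 0 * la 1 * mu 2 * la 3 + mu 0 * mu 1 * la 2 * la 3
  let a3 := -(mu 0 * la 1 * la 2 * la 3 + la 0 * mu 1 * la 2 * la 3 + la 0 * la 1 * mu 2 * la 3 + la 0 * la 1 * la 2 * mu 3)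
  let a4 := la 0 * la 1 * la 2 * la 3
  have hpoly : W4c6intromoduli.rootPoly la mu = Polynomial.C a0 + Polynomial.C a1 * Polynomial.X +
      Polynomial.C a2 * Polynomial.X ^ 2 + Polynomial.C a3 * Polynomial.X ^ 3 + Polynomial.C a4 * Polynomial.X ^ 4 := by
    simp only [W4c6intromoduli.rootPoly, Fin.prod_univ_four, a0, a1, a2, a3, a4, map_add, map_mul, map_neg]
    ring
  have hc : ∀ i, W4c6intromoduli.coef la mu i =
      if i = 0 then a0 else if i = 1 then a1 else if i = 2 then a2 else if i = 3 then a3 else if i = 4 then a4 else 0 := by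
    intro i
    rw [W4c6intromoduli.coef, hpoly]
    simp only [Polynomial.coeff_add, Polynomial.coeff_C_mul, Polynomial.coeff_X_pow, Polynomial.coeff_C,
      Polynomial.coeff_X]
    split_ifs <;> (try omega) <;> simp
  let d : Fin 4 → Fin 4 → k := fun i j => la i * mu j - la j * mu i
  set u := d 0 1 * d 2 3 with hu
  set v := d 0 2 * d 3 1 with hv
  set w := d 0 3 * d 1 2 with hw
  have hI : W4c6intromoduli.invI (W4c6intromoduli.coef la mu) = u ^ 2 + u * v + v ^ 2 := by
    simp only [W4c6intromoduli.invI, hc, u, v, d, a0, a1, a2, a3, a4]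
    simp only [if_pos, one_ne_zero, OfNat.ofNat_ne_zero, OfNat.ofNat_ne_one, if_false, if_true, Nat.reduceEqDiff]
    ring
  have hJ : W4c6intromoduli.invJ (W4c6intromoduli.coef la mu) = (u - v) * (v - w) * (w - u) := by
    simp only [W4c6intromoduli.invJ, hc, u, v, w, d, a0, a1, a2, a3, a4]
    simp only [if_pos, one_ne_zero, OfNat.ofNat_ne_zero, OfNat.ofNat_ne_one, if_false, if_true, Nat.reduceEqDiff]
    ring
  have hp : u + v + w = 0 := by simp only [u, v, w, d]; ring
  have trans' : ∀ i j l, d i j = 0 → d j l = 0 → d i l = 0 := by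
    intro i j l h1 h2
    rcases hne j with h | h
    · refine (mul_eq_zero.1 (show d i l * la j = 0 from ?_)).resolve_right h
      simp only [d] at h1 h2 ⊢
      linear_combination la l * h1 + la i * h2
    · refine (mul_eq_zero.1 (show d i l * mu j = 0 from ?_)).resolve_right h
      simp only [d] at h1 h2 ⊢
      linear_combination mu l * h1 + mu i * h2
  have hsymm : ∀ i j, d i j = 0 → d j i = 0 := fun i j h => by
    simp only [d] at h ⊢
    linear_combination -h
  rw [hI, hJ]
  constructor
  · rintro ⟨h1, h2'⟩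
    have h3' : (u - v) * (v - w) * (w - u) = 0 := h2'
    obtain ⟨hu0, hv0⟩ : u = 0 ∧ v = 0 := by
      have sq0 : ∀ x : k, 3 * x ^ 2 = 0 → x = 0 := fun x hx =>
        pow_eq_zero_iff two_ne_zero |>.1 ((mul_eq_zero.1 hx).resolve_left h3)
      rcases mul_eq_zero.1 h3' with h | h
      · rcases mul_eq_zero.1 h with h | h
        · have : u = 0 := sq0 u (by linear_combination h1 + (2 * u + v) * h)
          exact ⟨this, by linear_combination this - h⟩
        · -- v = w = -u-v
          have hu' : u = -(2 * v) := by linear_combination hp + h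
          have : v = 0 := sq0 v (by rw [hu'] at h1; linear_combination h1)
          exact ⟨by rw [hu', this]; simp, this⟩
      · have hv' : v = -(2 * u) := by linear_combination hp - h
        have : u = 0 := sq0 u (by rw [hv'] at h1; linear_combination h1)
        exact ⟨this, by rw [hv', this]; simp⟩
    have key : ∀ i j l : Fin 4, i ≠ j → j ≠ l → i ≠ l → d i j = 0 → d j l = 0 →
        ∃ i j l : Fin 4, i ≠ j ∧ j ≠ l ∧ i ≠ l ∧ la i * mu j = la j * mu i ∧ la j * mu l = la l * mu j :=
      fun i j l e1 e2 e3 f1 f2 => ⟨i, j, l, e1, e2, e3, sub_eq_zero.1 f1, sub_eq_zero.1 f2⟩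
    rcases mul_eq_zero.1 (hu.symm.trans hu0) with ha | ha <;>
      rcases mul_eq_zero.1 (hv.symm.trans hv0) with hb | hb
    · exact key 1 0 2 (by decide) (by decide) (by decide) (hsymm _ _ ha) hb
    · exact key 0 1 3 (by decide) (by decide) (by decide) ha (hsymm _ _ hb)
    · exact key 0 2 3 (by decide) (by decide) (by decide) hb ha
    · exact key 2 3 1 (by decide) (by decide) (by decide) ha hb
  · rintro ⟨i, j, l, e1, e2, e3, f1, f2⟩
    have g1 : d i j = 0 := sub_eq_zero.2 f1
    have g2 : d j l = 0 := sub_eq_zero.2 f2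
    have g3 := trans' i j l g1 g2
    have g4 := hsymm _ _ g1
    have g5 := hsymm _ _ g2
    have g6 := hsymm _ _ g3
    have g0 : ∀ a, d a a = 0 := fun a => sub_self _
    have hT : ∀ a b : Fin 4, (a = i ∨ a = j ∨ a = l) → (b = i ∨ b = j ∨ b = l) → d a b = 0 := by
      rintro a b (rfl | rfl | rfl) (rfl | rfl | rfl) <;> first | exact g0 _ | assumption
    have hcomb : ∀ i j l : Fin 4, i ≠ j → j ≠ l → i ≠ l → ∀ a b c e : Fin 4, [a, b, c, e].Nodup →
        ((a = i ∨ a = j ∨ a = l) ∧ (b = i ∨ b = j ∨ b = l)) ∨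
          ((c = i ∨ c = j ∨ c = l) ∧ (e = i ∨ e = j ∨ e = l)) := by
      intro i j l e1 e2 e3 a b c e hn
      simp only [List.nodup_cons, List.mem_cons, List.not_mem_nil, or_false, not_or, List.nodup_nil,
        and_true, not_false_eq_true] at hn
      obtain ⟨⟨-, nac, nae⟩, ⟨nbc, nbe⟩, -⟩ := hn
      have huniq : ∀ x y : Fin 4, ¬(x = i ∨ x = j ∨ x = l) → ¬(y = i ∨ y = j ∨ y = l) → x = y := by
        intro x y hx hy; omega
      by_contra hcon
      rw [not_or, not_and_or, not_and_or] at hcon
      obtain ⟨hA | hA, hB | hB⟩ := hcon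
      · exact nac (huniq _ _ hA hB)
      · exact nae (huniq _ _ hA hB)
      · exact nbc (huniq _ _ hA hB)
      · exact nbe (huniq _ _ hA hB)
    have hz : ∀ a b c e : Fin 4, [a, b, c, e].Nodup → d a b * d c e = 0 := fun a b c e hn => by
      rcases hcomb i j l e1 e2 e3 a b c e hn with ⟨h, h'⟩ | ⟨h, h'⟩
      · rw [hT a b h h', zero_mul]
      · rw [hT c e h h', mul_zero]
    obtain ⟨hu0, hv0, hw0⟩ : u = 0 ∧ v = 0 ∧ w = 0 :=
      ⟨hz 0 1 2 3 (by decide), hz 0 2 3 1 (by decide), hz 0 3 1 2 (by decide)⟩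
    rw [hu0, hv0, hw0]
    simp

end Groth.Agent.S19392
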