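import Groth.Statements.S19393
import Mathlib.Tactic.Ring
import Mathlib.Tactic.LinearCombination
import Mathlib.Tactic.FieldSimp
import Mathlib.Algebra.BigOperators.Fin
import Mathlib.LinearAlgebra.Matrix.Determinant.Basic
import Mathlib.GroupTheory.Perm.Basic

set_option autoImplicit false
universe u
open InvQ

namespace Groth.Agent.S19393

variable {k : Type u} [Field k]

/-- bracket of two root points -/
def br (la mu : Fin 4 → k) (i j : Fin 4) : k := la j * mu i - la i * mu j

theorem br_swap (la mu : Fin 4 → k) (i j : Fin 4) : br la mu j i = -br la mu i j := by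
  simp only [br]; ring

theorem br_ne {la mu : Fin 4 → k} (hd : W4c6intromoduli.disc la mu ≠ 0) :
    ∀ i j, i ≠ j → br la mu i j ≠ 0 := by
  intro i j hij
  rw [W4c6intromoduli.disc, Finset.prod_ne_zero_iff] at hd
  rcases lt_or_gt_of_ne hij with h | h
  · exact (pow_ne_zero_iff two_ne_zero).1 (hd (i, j) (by simpa using h))
  · rw [br_swap, neg_ne_zero]
    exact (pow_ne_zero_iff two_ne_zero).1 (hd (j, i) (by simpa using h))

open Polynomial in
theorem rootPoly_eq (la mu : Fin 4 → k) : W4c6intromoduli.rootPoly la mu =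
    C (mu 0 * mu 1 * mu 2 * mu 3) +
    C (-(la 0 * mu 1 * mu 2 * mu 3 + mu 0 * la 1 * mu 2 * mu 3 + mu 0 * mu 1 * la 2 * mu 3 + mu 0 * mu 1 * mu 2 * la 3)) * X +
    C (la 0 * la 1 * mu 2 * mu 3 + la 0 * mu 1 * la 2 * mu 3 + la 0 * mu 1 * mu 2 * la 3 + mu 0 * la 1 * la 2 * mu 3 +
      mu 0 * la 1 * mu 2 * la 3 + mu 0 * mu 1 * la 2 * la 3) * X ^ 2 +
    C (-(la 0 * la 1 * la 2 * mu 3 + la 0 * la 1 * mu 2 * la 3 + la 0 * mu 1 * la 2 * la 3 + mu 0 * la 1 * la 2 * la 3)) * X ^ 3 +
    C (la 0 * la 1 * la 2 * la 3) * X ^ 4 := by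
  simp only [W4c6intromoduli.rootPoly, Fin.prod_univ_four, map_add, map_mul, map_neg]
  ring

theorem invI_eq (la mu : Fin 4 → k) : W4c6intromoduli.invI (W4c6intromoduli.coef la mu) =
    (br la mu 0 1 * br la mu 2 3) ^ 2 - (br la mu 0 1 * br la mu 2 3) * (br la mu 0 2 * br la mu 1 3) +
      (br la mu 0 2 * br la mu 1 3) ^ 2 := by
  simp [W4c6intromoduli.invI, W4c6intromoduli.coef, rootPoly_eq, Polynomial.coeff_X, Polynomial.coeff_X_pow,
    Polynomial.coeff_C, br, -map_neg, -map_mul, -map_add]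
  ring

theorem invJ_eq (la mu : Fin 4 → k) : W4c6intromoduli.invJ (W4c6intromoduli.coef la mu) =
    -((br la mu 0 1 * br la mu 2 3 + br la mu 0 2 * br la mu 1 3) *
      (2 * (br la mu 0 2 * br la mu 1 3) - br la mu 0 1 * br la mu 2 3) *
      (br la mu 0 2 * br la mu 1 3 - 2 * (br la mu 0 1 * br la mu 2 3))) := by
  simp [W4c6intromoduli.invJ, W4c6intromoduli.coef, rootPoly_eq, Polynomial.coeff_X, Polynomial.coeff_X_pow,
    Polynomial.coeff_C, br, -map_neg, -map_mul, -map_add]
  ring

theorem match_points (la mu la' mu' : Fin 4 → k) (hne : ∀ i, la i ≠ 0 ∨ mu i ≠ 0)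
    (hne' : ∀ i, la' i ≠ 0 ∨ mu' i ≠ 0) (hb : ∀ i j, i ≠ j → br la mu i j ≠ 0)
    (hb' : ∀ i j, i ≠ j → br la' mu' i j ≠ 0)
    (h : br la' mu' 0 2 * br la' mu' 1 3 * (br la mu 0 1 * br la mu 2 3) =
      br la' mu' 0 1 * br la' mu' 2 3 * (br la mu 0 2 * br la mu 1 3)) :
    ∃ (M : Matrix (Fin 2) (Fin 2) k) (c : k), IsUnit M.det ∧ c ≠ 0 ∧
      W4c6intromoduli.binForm la' mu' =
        MvPolynomial.C c * W4c6intromoduli.subst M (W4c6intromoduli.binForm la mu) := by
  set r₀ := br la mu 1 2 * br la' mu' 2 0 with hr₀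
  set r₁ := br la mu 2 0 * br la' mu' 1 2 with hr₁
  set M : Matrix (Fin 2) (Fin 2) k :=
    !![r₀ * la 0 * mu' 1 - r₁ * la 1 * mu' 0, -(r₀ * la 0 * la' 1) + r₁ * la 1 * la' 0;
       r₀ * mu 0 * mu' 1 - r₁ * mu 1 * mu' 0, -(r₀ * mu 0 * la' 1) + r₁ * mu 1 * la' 0] with hM
  have hdet : M.det ≠ 0 := by
    have e : M.det = r₀ * r₁ * (br la mu 0 1 * br la' mu' 0 1) := by
      rw [hM, Matrix.det_fin_two_of]; simp only [br]; ring
    rw [e]
    exact mul_ne_zero (mul_ne_zero (mul_ne_zero (hb _ _ (by decide)) (hb' _ _ (by decide)))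
      (mul_ne_zero (hb _ _ (by decide)) (hb' _ _ (by decide))))
      (mul_ne_zero (hb _ _ (by decide)) (hb' _ _ (by decide)))
  set u := fun i => mu i * M 0 0 - la i * M 1 0 with hu
  set v := fun i => mu i * M 0 1 - la i * M 1 1 with hv
  have hvan : ∀ i, u i * la' i + v i * mu' i = 0 := by
    intro i
    fin_cases i <;> simp [hu, hv, hM, hr₀, hr₁]
    · simp only [br]; ring
    · simp only [br]; ring
    · simp only [br]; ring
    · simp only [br] at h ⊢; linear_combination -h
  have hdex : ∀ i, ∃ d : k, d ≠ 0 ∧ u i = d * mu' i ∧ v i = -(d * la' i) := by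
    intro i
    have huv : u i ≠ 0 ∨ v i ≠ 0 := by
      by_contra hc
      obtain ⟨h1, h2⟩ := not_or.1 hc
      simp only [not_not, hu, hv] at h1 h2
      rw [Matrix.det_fin_two] at hdet
      rcases hne i with hl | hm
      · exact mul_ne_zero hl hdet (by linear_combination M 0 1 * h1 - M 0 0 * h2)
      · exact mul_ne_zero hm hdet (by linear_combination M 1 1 * h1 - M 1 0 * h2)
    by_cases hm : mu' i = 0
    · have hl : la' i ≠ 0 := (hne' i).resolve_right (not_not.2 hm)
      have hu0 : u i = 0 := by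
        have := hvan i
        rw [hm, mul_zero, add_zero] at this
        exact (mul_eq_zero.1 this).resolve_right hl
      refine ⟨-(v i / la' i), neg_ne_zero.2 (div_ne_zero (huv.resolve_left (not_not.2 hu0)) hl), ?_, ?_⟩
      · rw [hu0, hm, mul_zero]
      · rw [neg_mul, neg_neg, div_mul_cancel₀ _ hl]
    · refine ⟨u i / mu' i, div_ne_zero ?_ hm, (div_mul_cancel₀ _ hm).symm, ?_⟩
      · intro hu0
        have := hvan i
        rw [hu0, zero_mul, zero_add] at this
        exact (huv.resolve_left (not_not.2 hu0)) ((mul_eq_zero.1 this).resolve_right hm)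
      · rw [div_mul_eq_mul_div, ← neg_div, eq_div_iff hm]
        linear_combination hvan i
  choose d hd0 hdu hdv using hdex
  refine ⟨M, (∏ i, d i)⁻¹, isUnit_iff_ne_zero.2 hdet, inv_ne_zero (Finset.prod_ne_zero_iff.2 fun i _ => hd0 i), ?_⟩
  have e : W4c6intromoduli.subst M (W4c6intromoduli.binForm la mu) =
      MvPolynomial.C (∏ i, d i) * W4c6intromoduli.binForm la' mu' := by
    rw [W4c6intromoduli.binForm, W4c6intromoduli.binForm, map_prod, map_prod, ← Finset.prod_mul_distrib]
    refine Finset.prod_congr rfl fun i _ => ?_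
    have h0 := congrArg (MvPolynomial.C (σ := Fin 2)) (hdu i)
    have h1 := congrArg (MvPolynomial.C (σ := Fin 2)) (hdv i)
    simp only [hu, hv, map_sub, map_mul, map_neg] at h0 h1
    simp only [W4c6intromoduli.subst, map_sub, map_mul, MvPolynomial.aeval_C, MvPolynomial.aeval_X,
      MvPolynomial.algebraMap_eq, Fin.sum_univ_two]
    linear_combination MvPolynomial.X 0 * h0 + MvPolynomial.X 1 * h1
  rw [e, ← mul_assoc, ← map_mul, inv_mul_cancel₀ (Finset.prod_ne_zero_iff.2 fun i _ => hd0 i), map_one, one_mul]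

theorem binForm_comp (la mu : Fin 4 → k) (σ : Equiv.Perm (Fin 4)) :
    W4c6intromoduli.binForm (fun i => la (σ i)) (fun i => mu (σ i)) = W4c6intromoduli.binForm la mu :=
  Equiv.prod_comp σ (fun i => MvPolynomial.C (mu i) * MvPolynomial.X 0 - MvPolynomial.C (la i) * MvPolynomial.X 1)

open InvQ in

/-- Over a field of characteristic different from 2 and 3, two binary quartics without double zeros
lying in the same fibre of the map to the projective line given by the invariants, i.e. with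
proportional (P³, Q²), are equivalent under a linear substitution of the variables up to a nonzero
constant factor. Stated for split quartics f = ∏_i (μ_i X₀ − λ_i X₁) given by root points (λ_i, μ_i)
≠ (0, 0), with the integral invariants I = 6P, J = 72Q and the discriminant ∏_{i<j} (λ_j μ_i − λ_i
μ_j)²; only the assertion that such a fibre is a single orbit is stated (not its closedness). -/
theorem result (k : Type u) [Field k]
    (h2 : (2 : k) ≠ 0) (h3 : (3 : k) ≠ 0) (la mu la' mu' : Fin 4 → k)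
    (hne : ∀ i, la i ≠ 0 ∨ mu i ≠ 0) (hne' : ∀ i, la' i ≠ 0 ∨ mu' i ≠ 0)
    (hd : W4c6intromoduli.disc la mu ≠ 0) (hd' : W4c6intromoduli.disc la' mu' ≠ 0)
    (h : W4c6intromoduli.invI (W4c6intromoduli.coef la mu) ^ 3
          * W4c6intromoduli.invJ (W4c6intromoduli.coef la' mu') ^ 2 =
        W4c6intromoduli.invI (W4c6intromoduli.coef la' mu') ^ 3
          * W4c6intromoduli.invJ (W4c6intromoduli.coef la mu) ^ 2) :
    ∃ (M : Matrix (Fin 2) (Fin 2) k) (c : k), IsUnit M.det ∧ c ≠ 0 ∧
      W4c6intromoduli.binForm la' mu' =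
        MvPolynomial.C c * W4c6intromoduli.subst M (W4c6intromoduli.binForm la mu) := by
  set A := br la mu 0 1 * br la mu 2 3 with hA
  set B := br la mu 0 2 * br la mu 1 3 with hB
  set C := br la mu 0 3 * br la mu 1 2 with hC
  set A' := br la' mu' 0 1 * br la' mu' 2 3 with hA'
  set B' := br la' mu' 0 2 * br la' mu' 1 3 with hB'
  set C' := br la' mu' 0 3 * br la' mu' 1 2 with hC'
  have hP : B = A + C := by simp only [hA, hB, hC, br]; ring
  have hP' : B' = A' + C' := by simp only [hA', hB', hC', br]; ring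
  rw [invI_eq, invJ_eq, invI_eq, invJ_eq, ← hA, ← hB, ← hA', ← hB'] at h
  have h27 : (27 : k) ≠ 0 := by
    rw [show (27 : k) = 3 ^ 3 by norm_num]; exact pow_ne_zero _ h3
  clear_value A B C A' B' C'
  have hfac : (B' * A - B * A') * (B' * A + B * A' - A' * A) * (B * B' - A * A') *
      (A * B' - B * B' - A * A') * (B * B' - A * B' - B * A') * (B * B' - B * A' + A * A') = 0 := by
    apply mul_left_cancel₀ h27
    linear_combination -h
  have hbr := br_ne hd
  have hbr' := br_ne hd'
  have fin : ∀ σ : Equiv.Perm (Fin 4), B' * (br la mu (σ 0) (σ 1) * br la mu (σ 2) (σ 3)) =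
      A' * (br la mu (σ 0) (σ 2) * br la mu (σ 1) (σ 3)) →
      ∃ (M : Matrix (Fin 2) (Fin 2) k) (c : k), IsUnit M.det ∧ c ≠ 0 ∧
        W4c6intromoduli.binForm la' mu' =
          MvPolynomial.C c * W4c6intromoduli.subst M (W4c6intromoduli.binForm la mu) := by
    intro σ hσ
    obtain ⟨M, c, hM, hc, he⟩ := match_points (fun i => la (σ i)) (fun i => mu (σ i)) la' mu'
      (fun i => hne _) hne' (fun i j hij => hbr _ _ (σ.injective.ne hij)) hbr' (by rw [hA', hB'] at hσ; exact hσ)
    exact ⟨M, c, hM, hc, by rw [he, binForm_comp]⟩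
  simp only [mul_eq_zero] at hfac
  rcases hfac with ((((e | e) | e) | e) | e) | e
  · refine fin 1 ?_
    simp only [Equiv.Perm.coe_one, id_eq]
    rw [← hA, ← hB]; linear_combination e
  · refine fin ⟨![0, 1, 3, 2], ![0, 1, 3, 2], by decide, by decide⟩ ?_
    show B' * (br la mu 0 1 * br la mu 3 2) = A' * (br la mu 0 3 * br la mu 1 2)
    rw [br_swap la mu 2 3, ← hC, mul_neg, ← hA]; linear_combination -e + A' * hP
  · refine fin ⟨![0, 2, 1, 3], ![0, 2, 1, 3], by decide, by decide⟩ ?_
    show B' * (br la mu 0 2 * br la mu 1 3) = A' * (br la mu 0 1 * br la mu 2 3)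
    rw [← hA, ← hB]; linear_combination e
  · refine fin ⟨![0, 3, 1, 2], ![0, 2, 3, 1], by decide, by decide⟩ ?_
    show B' * (br la mu 0 3 * br la mu 1 2) = A' * (br la mu 0 1 * br la mu 3 2)
    rw [br_swap la mu 2 3, ← hC, mul_neg, ← hA]; linear_combination -e - B' * hP
  · refine fin ⟨![0, 3, 2, 1], ![0, 3, 2, 1], by decide, by decide⟩ ?_
    show B' * (br la mu 0 3 * br la mu 2 1) = A' * (br la mu 0 2 * br la mu 3 1)
    simp only [br_swap la mu 1 2, br_swap la mu 1 3, mul_neg, ← hC, ← hB]; linear_combination -e + B' * hP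
  · refine fin ⟨![0, 2, 3, 1], ![0, 3, 1, 2], by decide, by decide⟩ ?_
    show B' * (br la mu 0 2 * br la mu 3 1) = A' * (br la mu 0 3 * br la mu 2 1)
    simp only [br_swap la mu 1 2, br_swap la mu 1 3, mul_neg, ← hC, ← hB]; linear_combination -e - A' * hP

end Groth.Agent.S19393
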