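import Groth.Statements.S19394
import Mathlib.LinearAlgebra.Semisimple
import Mathlib.LinearAlgebra.Matrix.ToLin
import Mathlib.LinearAlgebra.Projection
import Mathlib.LinearAlgebra.Matrix.NonsingularInverse
import Mathlib.Algebra.MvPolynomial.Eval
import Mathlib.Algebra.Polynomial.Roots
import Mathlib.FieldTheory.IsAlgClosed.Basic

set_option autoImplicit false
universe u
open InvQ

namespace Groth.Agent.S19394

/-- Over an algebraically closed field, the semisimple part of a square matrix B lies in the Zariski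
closure of the orbit of B under conjugation by the general linear group. The semisimple part is
given as S with B = S + N, S semisimple, N nilpotent and SN = NS; membership in the Zariski closure
is spelled out as: every polynomial in the n² matrix entries vanishing at all conjugates A B A⁻¹ (A
invertible) vanishes at S. -/
theorem result (k : Type u) [Field k] [IsAlgClosed k] (n : ℕ)
    (B S N : Matrix (Fin n) (Fin n) k) (hS : Module.End.IsSemisimple (Matrix.toLin' S))
    (hN : IsNilpotent N) (hSN : Commute S N) (hB : B = S + N)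
    (F : MvPolynomial (Fin n × Fin n) k)
    (hF : ∀ A : Matrix (Fin n) (Fin n) k, IsUnit A.det →
      MvPolynomial.eval (fun p => (A * B * A⁻¹) p.1 p.2) F = 0) :
    MvPolynomial.eval (fun p => S p.1 p.2) F = 0 := by
  classical
  let φ : Matrix (Fin n) (Fin n) k ≃ₐ[k] Module.End k (Fin n → k) := Matrix.toLinAlgEquiv'
  set s := φ S with hs
  set ν := φ N with hν
  have hss : s.IsSemisimple := hS
  obtain ⟨K, hK⟩ := hN.map φ
  have hcomm : Commute s ν := hSN.map φ
  have hinv : ∀ i, LinearMap.ker (ν ^ i) ∈ Module.End.invtSubmodule s := fun i x hx => by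
    simp only [Submodule.mem_comap, LinearMap.mem_ker] at hx ⊢
    rw [← Module.End.mul_apply, ← ((hcomm.pow_right i)).eq, Module.End.mul_apply, hx, map_zero]
  have hproj : ∀ i, ∃ p : Module.End k (Fin n → k), Commute s p ∧
      (∀ x, (ν ^ i) (p x) = 0) ∧ ∀ x, (ν ^ i) x = 0 → p x = x := by
    intro i
    obtain ⟨q, hq, hc⟩ := Module.End.isSemisimple_iff.1 hss _ (hinv i)
    refine ⟨Submodule.projection _ _ hc, ?_, fun x => Submodule.projection_apply_mem hc x, fun x hx =>
      Submodule.projection_apply_left hc ⟨x, hx⟩⟩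
    refine LinearMap.ext fun x => ?_
    obtain ⟨a, ha, b, hb, rfl⟩ := Submodule.mem_sup.1 (hc.sup_eq_top ▸ Submodule.mem_top : x ∈ LinearMap.ker (ν ^ i) ⊔ q)
    have h1 := Submodule.projection_apply_left hc ⟨a, ha⟩
    have h2 := Submodule.projection_apply_left hc ⟨s a, hinv i ha⟩
    have h3 := Submodule.projection_apply_right hc ⟨b, hb⟩
    have h4 := Submodule.projection_apply_right hc ⟨s b, hq hb⟩
    simp only [Module.End.mul_apply, map_add] at *
    rw [h1, h2, h3, h4, map_zero]
  choose p hp1 hp2 hp3 using hproj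
  let g : ℕ → Module.End k (Fin n → k) := fun l => Nat.rec 1 (fun l e => p (K - (l + 1)) * e) l
  let e : ℕ → Module.End k (Fin n → k) := fun i => g (K - i)
  have heK : e K = 1 := by simp [e, g]
  have hestep : ∀ i, i < K → e i = p i * e (i + 1) := fun i hi => by
    change g (K - i) = p i * g (K - (i + 1))
    rw [show K - i = (K - (i + 1)) + 1 by omega]
    change p (K - ((K - (i + 1)) + 1)) * g (K - (i + 1)) = _
    rw [show K - ((K - (i + 1)) + 1) = i by omega]
  have hker : ∀ i j, i ≤ j → ∀ x, (ν ^ i) x = 0 → (ν ^ j) x = 0 := fun i j hij x hx => by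
    rw [← Nat.sub_add_cancel hij, pow_add, Module.End.mul_apply, hx, map_zero]
  have hfacts : ∀ l, ∀ i, K - i = l → i ≤ K → Commute s (e i) ∧ (∀ x, (ν ^ i) (e i x) = 0) ∧
      (∀ x, (ν ^ i) x = 0 → e i x = x) ∧ ∀ j, i ≤ j → j ≤ K → e i * e j = e i := by
    intro l
    induction l with
    | zero =>
      intro i hi hiK
      obtain rfl : i = K := by omega
      rw [heK]
      refine ⟨Commute.one_right _, fun x => ?_, fun x _ => rfl, fun j h1 h2 => ?_⟩
      · rw [hK]; rfl
      · obtain rfl : j = i := by omega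
        rw [heK, one_mul]
    | succ l ih =>
      intro i hi hiK
      obtain ⟨c, r, f, m⟩ := ih (i + 1) (by omega) (by omega)
      have h := hestep i (by omega)
      refine ⟨h ▸ (hp1 i).mul_right c, fun x => by rw [h, Module.End.mul_apply]; exact hp2 i _,
        fun x hx => by rw [h, Module.End.mul_apply, f x (hker i (i + 1) (by omega) x hx), hp3 i x hx],
        fun j hij hjK => ?_⟩
      rcases eq_or_lt_of_le hij with rfl | hlt
      · refine LinearMap.ext fun x => ?_
        rw [Module.End.mul_apply]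
        have hx : (ν ^ i) (e i x) = 0 := by rw [h, Module.End.mul_apply]; exact hp2 i _
        conv_lhs => rw [h, Module.End.mul_apply]
        rw [← h, f _ (hker i (i + 1) (by omega) _ hx), hp3 i _ hx]
      · rw [h, mul_assoc, m j hlt hjK]
  have hC : ∀ i, i ≤ K → Commute s (e i) := fun i h => (hfacts _ i rfl h).1
  have hR : ∀ i, i ≤ K → ∀ x, (ν ^ i) (e i x) = 0 := fun i h => (hfacts _ i rfl h).2.1
  have hF' := hF
  have hF : ∀ i, i ≤ K → ∀ x, (ν ^ i) x = 0 → e i x = x := fun i h => (hfacts _ i rfl h).2.2.1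
  have hM : ∀ i j, i ≤ j → j ≤ K → e i * e j = e i := fun i j h h' => (hfacts _ i rfl (h.trans h')).2.2.2 j h h'
  have hM' : ∀ i j, i ≤ j → j ≤ K → e j * e i = e i := fun i j h h' => LinearMap.ext fun x =>
    hF j h' _ (hker i j h _ (hR i (h.trans h') x))
  have he0 : e 0 = 0 := LinearMap.ext fun x => by simpa using hR 0 (Nat.zero_le _) x
  let π : Fin K → Module.End k (Fin n → k) := fun i => e (i.1 + 1) - e i.1
  have hsum : ∑ i, π i = 1 := by
    rw [Fin.sum_univ_eq_sum_range (fun i => e (i + 1) - e i), Finset.sum_range_sub, heK, he0, sub_zero]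
  have hmin : ∀ i j, i ≤ K → j ≤ K → e i * e j = e (min i j) := fun i j hi hj => by
    rcases le_total i j with h | h
    · rw [min_eq_left h, hM i j h hj]
    · rw [min_eq_right h, hM' j i h hi]
  have horth : ∀ i j, π i * π j = if i = j then π i else 0 := by
    intro i j
    have hi := i.2
    have hj := j.2
    simp only [π, sub_mul, mul_sub]
    rw [hmin _ _ hi hj, hmin _ _ hi.le hj, hmin _ _ hi hj.le, hmin _ _ hi.le hj.le]
    rcases lt_trichotomy i j with h | h | h
    · have h' : i.1 < j.1 := h
      rw [if_neg h.ne, min_eq_left (by omega : i.1 + 1 ≤ j.1 + 1), min_eq_left (by omega : i.1 ≤ j.1 + 1),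
        min_eq_left (by omega : i.1 + 1 ≤ j.1), min_eq_left h'.le]
      abel
    · subst h
      rw [if_pos rfl, min_self, min_self, min_eq_left (by omega : i.1 ≤ i.1 + 1), min_eq_right (by omega : i.1 ≤ i.1 + 1)]
      abel
    · have h' : j.1 < i.1 := h
      rw [if_neg h.ne', min_eq_right (by omega : j.1 + 1 ≤ i.1 + 1), min_eq_right (by omega : j.1 + 1 ≤ i.1),
        min_eq_right (by omega : j.1 ≤ i.1 + 1), min_eq_right h'.le]
      abel
  have hπs : ∀ i, Commute s (π i) := fun i => (hC _ i.2).sub_right (hC _ i.2.le)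
  have hlow : ∀ i j : Fin K, i ≤ j → π j * ν * π i = 0 := by
    intro i j hij
    have hij' : i.1 ≤ j.1 := hij
    have hj := j.2
    have hi := i.2
    have h0 : π j * e i.1 = 0 := by
      simp only [π, sub_mul]
      rw [hM' _ _ (by omega) (by omega), hM' _ _ (by omega) (by omega), sub_self]
    have h1 : ν * π i = e i.1 * (ν * π i) := LinearMap.ext fun x => by
      refine (hF _ hi.le _ ?_).symm
      rw [Module.End.mul_apply, ← Module.End.mul_apply, ← pow_succ]
      simp only [π, LinearMap.sub_apply, map_sub]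
      rw [hR _ hi, hker _ _ (Nat.le_succ _) _ (hR _ hi.le x), sub_zero]
    rw [mul_assoc, h1, ← mul_assoc, h0, zero_mul]
  let M : k → Module.End k (Fin n → k) := fun t =>
    s + ∑ j : Fin K, ∑ i : Fin K, t ^ (i.1 - j.1) • (π j * ν * π i)
  have hM0 : M 0 = s := by
    refine add_eq_left.2 (Finset.sum_eq_zero fun j _ => Finset.sum_eq_zero fun i _ => ?_)
    rcases le_or_gt i j with h | h
    · rw [hlow i j h, smul_zero]
    · rw [zero_pow (by have : j.1 < i.1 := h; omega), zero_smul]
  have hconj : ∀ t : k, t ≠ 0 → ∃ A : Matrix (Fin n) (Fin n) k, IsUnit A.det ∧ φ (A * B * A⁻¹) = M t := by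
    intro t ht
    let D : k → Module.End k (Fin n → k) := fun u => ∑ i : Fin K, u ^ (K - i.1) • π i
    have hDD : ∀ u v : k, D u * D v = ∑ i : Fin K, (u ^ (K - i.1) * v ^ (K - i.1)) • π i := by
      intro u v
      simp only [D, Finset.sum_mul, Finset.mul_sum, smul_mul_smul_comm, horth, smul_ite, smul_zero,
        Finset.sum_ite_eq', Finset.mem_univ, if_true]
    have h1 : D t * D t⁻¹ = 1 := by
      rw [hDD, ← hsum]
      refine Finset.sum_congr rfl fun i _ => ?_
      rw [← mul_pow, mul_inv_cancel₀ ht, one_pow, one_smul]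
    have hDs : ∀ u, Commute s (D u) := fun u => Commute.sum_right _ _ _ fun i _ => (hπs i).smul_right _
    have hA : φ.symm (D t) * φ.symm (D t⁻¹) = 1 := by rw [← map_mul, h1, map_one]
    refine ⟨φ.symm (D t), IsUnit.of_mul_eq_one (φ.symm (D t⁻¹)).det (by rw [← Matrix.det_mul, hA, Matrix.det_one]), ?_⟩
    rw [Matrix.inv_eq_right_inv hA, hB, map_mul, map_mul, map_add, AlgEquiv.apply_symm_apply,
      AlgEquiv.apply_symm_apply, ← hs, ← hν, mul_add, add_mul, ← (hDs t).eq, mul_assoc, h1, mul_one]
    refine congrArg (s + ·) ?_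
    simp only [D, Finset.sum_mul, Finset.mul_sum]
    rw [Finset.sum_comm]
    refine Finset.sum_congr rfl fun j _ => Finset.sum_congr rfl fun i _ => ?_
    rw [smul_mul_assoc, smul_mul_assoc, mul_smul_comm, smul_smul]
    rcases le_or_gt i j with h | h
    · rw [hlow i j h, smul_zero, smul_zero]
    · congr 1
      have h' : j.1 < i.1 := h
      have hi := i.2
      rw [inv_pow, show K - j.1 = (i.1 - j.1) + (K - i.1) by omega, pow_add, mul_assoc,
        mul_inv_cancel₀ (pow_ne_zero _ ht), mul_one]
  let T : Fin n × Fin n → Polynomial k := fun q => Polynomial.C (φ.symm s q.1 q.2) +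
    ∑ j : Fin K, ∑ i : Fin K, Polynomial.X ^ (i.1 - j.1) * Polynomial.C (φ.symm (π j * ν * π i) q.1 q.2)
  have hT : ∀ t, (MvPolynomial.eval₂ Polynomial.C T F).eval t
      = MvPolynomial.eval (fun q => φ.symm (M t) q.1 q.2) F := by
    intro t
    rw [← Polynomial.coe_evalRingHom, MvPolynomial.eval₂_comp_left, MvPolynomial.eval, MvPolynomial.coe_eval₂Hom]
    congr 1
    · ext; simp
    · funext q
      simp [T, M, map_sum, map_add, map_smul, Matrix.sum_apply, Polynomial.eval_finsetSum]
      exact Finset.sum_congr rfl fun _ _ => Finset.sum_congr rfl fun _ _ => mul_comm _ _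
  have hzero : MvPolynomial.eval₂ Polynomial.C T F = 0 := by
    refine Polynomial.eq_zero_of_infinite_isRoot _ (Set.Infinite.mono (s := {t : k | t ≠ 0}) (fun t ht => ?_) ?_)
    · obtain ⟨A, hA, hAe⟩ := hconj t ht
      change Polynomial.eval t _ = 0
      rw [hT, ← hAe, AlgEquiv.symm_apply_apply]
      exact hF' A hA
    · exact (Set.finite_singleton (0 : k)).infinite_compl
  have h0 := hT 0
  rw [hzero, Polynomial.eval_zero, hM0, hs, AlgEquiv.symm_apply_apply] at h0
  exact h0.symm

end Groth.Agent.S19394
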