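import Groth.Statements.S19395
import Mathlib.LinearAlgebra.Eigenspace.Semisimple
import Mathlib.LinearAlgebra.Eigenspace.Triangularizable
import Mathlib.LinearAlgebra.Matrix.ToLin
import Mathlib.LinearAlgebra.Matrix.Charpoly.Univ
import Mathlib.LinearAlgebra.Matrix.NonsingularInverse
import Mathlib.LinearAlgebra.Projection
import Mathlib.LinearAlgebra.Matrix.Basis
import Mathlib.Algebra.MvPolynomial.Basic
import Mathlib.Tactic.Abel

set_option autoImplicit false
universe u
open InvQ

namespace Groth.Agent.S19395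

open Matrix

variable {k : Type u} [Field k] {n : ℕ}

local notation "Mat" => Matrix (Fin n) (Fin n) k

/-- `C` lies in the Zariski closure of the orbit of `B`. -/
def Cl (B C : Mat) : Prop :=
  ∀ F : MvPolynomial (Fin n × Fin n) k,
    (∀ A : Mat, IsUnit A.det → MvPolynomial.eval (fun p => (A * B * A⁻¹) p.1 p.2) F = 0) →
      MvPolynomial.eval (fun p => C p.1 p.2) F = 0

theorem cl_refl (B : Mat) : Cl B B := fun F hF => by
  have := hF 1 (by simp)
  rwa [one_mul, inv_one, mul_one] at this

theorem cl_conj (B : Mat) {A : Mat} (hA : IsUnit A.det) : Cl B (A * B * A⁻¹) := fun _ hF => hF A hA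

theorem exists_conjPoly (F : MvPolynomial (Fin n × Fin n) k) (A A' : Mat) :
    ∃ G : MvPolynomial (Fin n × Fin n) k, ∀ M : Mat,
      MvPolynomial.eval (fun p => M p.1 p.2) G = MvPolynomial.eval (fun p => (A * M * A') p.1 p.2) F := by
  refine ⟨MvPolynomial.aeval (fun p : Fin n × Fin n =>
    (show Matrix (Fin n) (Fin n) (MvPolynomial (Fin n × Fin n) k) from
      A.map MvPolynomial.C * mvPolynomialX (Fin n) (Fin n) k * A'.map MvPolynomial.C) p.1 p.2) F, fun M => ?_⟩
  rw [MvPolynomial.aeval_def, MvPolynomial.eval₂_comp_left, MvPolynomial.eval, MvPolynomial.coe_eval₂Hom]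
  congr 1
  · ext a; simp
  · funext p; simp [Matrix.mul_apply, mvPolynomialX]

theorem cl_trans {B C D : Mat} (h₁ : Cl B C) (h₂ : Cl C D) : Cl B D := by
  intro F hF
  refine h₂ F fun A hA => ?_
  obtain ⟨G, hG⟩ := exists_conjPoly F A A⁻¹
  rw [← hG]
  refine h₁ G fun A' hA' => ?_
  rw [hG]
  have := hF (A * A') (by rw [det_mul]; exact hA.mul hA')
  rw [Matrix.mul_inv_rev] at this
  simpa only [mul_assoc] using this

theorem cl_limit [Infinite k] {B M₀ M₁ : Mat}
    (h : ∀ u : k, u ≠ 0 → ∃ A : Mat, IsUnit A.det ∧ A * B * A⁻¹ = M₀ + u • M₁) : Cl B M₀ := by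
  intro F hF
  let p : Polynomial k := MvPolynomial.aeval
    (fun q : Fin n × Fin n => Polynomial.C (M₀ q.1 q.2) + Polynomial.X * Polynomial.C (M₁ q.1 q.2)) F
  have hev : ∀ u, p.eval u = MvPolynomial.eval (fun q => (M₀ + u • M₁) q.1 q.2) F := fun u => by
    show Polynomial.evalRingHom u (MvPolynomial.aeval _ F) = _
    rw [MvPolynomial.aeval_def, MvPolynomial.eval₂_comp_left, MvPolynomial.eval, MvPolynomial.coe_eval₂Hom]
    congr 1
    · ext a; simp
    · funext q
      simp only [Function.comp_apply, Polynomial.coe_evalRingHom, Polynomial.eval_add, Polynomial.eval_mul,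
        Polynomial.eval_C, Polynomial.eval_X, Matrix.add_apply, Matrix.smul_apply, smul_eq_mul]
  have hp : p = 0 := by
    refine p.eq_zero_of_infinite_isRoot ((Set.finite_singleton (0 : k)).infinite_compl.mono fun u hu => ?_)
    obtain ⟨A, hA, he⟩ := h u hu
    show p.eval u = 0
    rw [hev, ← he]
    exact hF A hA
  have := hev 0
  rw [hp, Polynomial.eval_zero, zero_smul, add_zero] at this
  exact this.symm

theorem cl_semisimple [Infinite k] (S : Mat) (hS : Module.End.IsSemisimple (toLin' S)) :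
    ∀ (r : ℕ) (N : Mat), N ^ (r + 1) = 0 → Commute S N → Cl (S + N) S := by
  intro r
  induction r with
  | zero => intro N hN _; rw [zero_add, pow_one] at hN; rw [hN, add_zero]; exact cl_refl S
  | succ r ih =>
    intro N hN hc
    let K : Submodule k (Fin n → k) := LinearMap.ker (toLin' (N ^ (r + 1)))
    have hK : K ∈ Module.End.invtSubmodule (toLin' S) := fun x hx => by
      simp only [Submodule.mem_comap, K, LinearMap.mem_ker] at hx ⊢
      rw [← LinearMap.comp_apply, ← toLin'_mul, ← (hc.pow_right (r + 1)).eq, toLin'_mul, LinearMap.comp_apply, hx, map_zero]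
    obtain ⟨W, hW, hKW⟩ := Module.End.isSemisimple_iff.1 hS K hK
    let Pr : Mat := LinearMap.toMatrix' (W.projection K hKW.symm)
    have hPr : toLin' Pr = W.projection K hKW.symm := toLin'_toMatrix' _
    have himK : ∀ x, toLin' N x ∈ K := fun x => by
      simp only [K, LinearMap.mem_ker]
      rw [← LinearMap.comp_apply, ← toLin'_mul, ← pow_succ, hN, map_zero, LinearMap.zero_apply]
    have hPN : Pr * N = 0 := by
      refine toLin'.injective (LinearMap.ext fun x => ?_)
      rw [toLin'_mul, LinearMap.comp_apply, map_zero, LinearMap.zero_apply, hPr]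
      exact (Submodule.projection_apply_eq_zero_iff _).2 (himK x)
    have hPP : Pr * Pr = Pr := by
      refine toLin'.injective (LinearMap.ext fun x => ?_)
      rw [toLin'_mul, LinearMap.comp_apply, hPr]
      exact Submodule.projection_apply_of_mem_left _ (Submodule.projection_apply_mem _ x)
    have hPS : Pr * S = S * Pr := by
      refine toLin'.injective (LinearMap.ext fun x => ?_)
      rw [toLin'_mul, toLin'_mul, LinearMap.comp_apply, LinearMap.comp_apply, hPr]
      set w := W.projection K hKW.symm x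
      have hx : x = w + (x - w) := by abel
      conv_lhs => rw [hx, map_add, map_add]
      rw [Submodule.projection_apply_of_mem_left hKW.symm (show toLin' S w ∈ W from hW (Submodule.projection_apply_mem _ x)),
        (Submodule.projection_apply_eq_zero_iff hKW.symm).2 (show toLin' S (x - w) ∈ K from hK (Submodule.sub_projection_mem _ x)),
        add_zero]
    have hsmul : ∀ (s t : k), s * t = 1 → ((1 - Pr) + s • Pr) * ((1 - Pr) + t • Pr) = 1 := fun s t hst => by
      simp only [add_mul, mul_add, sub_mul, mul_sub, one_mul, mul_one, hPP, smul_mul_assoc, mul_smul_comm, sub_self,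
        smul_smul, hst, one_smul, smul_zero, smul_sub]
      simp [smul_smul, mul_comm t s, hst]

    have h1 : N * Pr = N - N * (1 - Pr) := by rw [mul_sub, mul_one]; abel
    refine cl_trans (cl_limit (M₁ := N * Pr) fun u hu => ?_) (ih (N * (1 - Pr)) ?_ ?_)
    · refine ⟨(1 - Pr) + u⁻¹ • Pr, ?_, ?_⟩
      · exact isUnit_det_of_right_inverse (hsmul _ _ (inv_mul_cancel₀ hu))
      · rw [inv_eq_right_inv (hsmul _ _ (inv_mul_cancel₀ hu))]
        have hAS : Commute ((1 - Pr) + u⁻¹ • Pr) S :=
          (((Commute.one_left S).sub_left hPS).add_left ((show Commute Pr S from hPS).smul_left _))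
        have hAN : ((1 - Pr) + u⁻¹ • Pr) * N = N := by
          rw [add_mul, sub_mul, one_mul, smul_mul_assoc, hPN, smul_zero, sub_zero, add_zero]
        rw [mul_add ((1 - Pr) + u⁻¹ • Pr) S N, hAS.eq, hAN, add_mul (S * _) N, mul_assoc, hsmul _ _ (inv_mul_cancel₀ hu),
          mul_one, mul_add N, mul_smul_comm, ← add_assoc]
    · have hNP : (1 - Pr) * N = N := by rw [sub_mul, one_mul, hPN, sub_zero]
      have hpow : ∀ j, (N * (1 - Pr)) ^ (j + 1) = N ^ (j + 1) * (1 - Pr) := fun j => by
        induction j with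
        | zero => simp
        | succ j ihj =>
          rw [pow_succ, ihj, mul_assoc, ← mul_assoc (1 - Pr), hNP, ← mul_assoc, ← pow_succ]
      rw [hpow]
      refine toLin'.injective (LinearMap.ext fun x => ?_)
      rw [toLin'_mul, LinearMap.comp_apply, map_zero, LinearMap.zero_apply]
      have : toLin' (1 - Pr) x = x - W.projection K hKW.symm x := by
        rw [map_sub, toLin'_one, LinearMap.sub_apply, LinearMap.id_apply, hPr]
      rw [this]
      exact LinearMap.mem_ker.1 (Submodule.sub_projection_mem (p := W) hKW.symm x)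
    · exact hc.mul_right ((Commute.one_right S).sub_right hPS.symm)

theorem cl_charpoly {B C : Mat} (h : Cl B C) : C.charpoly = B.charpoly := by
  refine Polynomial.ext fun i => ?_
  have hev : ∀ M : Mat, MvPolynomial.eval (fun p => M p.1 p.2) ((charpoly.univ k (Fin n)).coeff i) = M.charpoly.coeff i :=
    fun M => charpoly.univ_coeff_eval₂Hom (Fin n) (RingHom.id k) (fun p => M p.1 p.2) i
  have := h ((charpoly.univ k (Fin n)).coeff i - MvPolynomial.C (B.charpoly.coeff i)) fun A hA => by
    rw [map_sub, MvPolynomial.eval_C, hev, charpoly_mul_comm, ← mul_assoc, nonsing_inv_mul A hA, one_mul, sub_self]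
  rwa [map_sub, MvPolynomial.eval_C, hev, sub_eq_zero] at this

theorem exists_diag [IsAlgClosed k] (S : Mat) (hS : Module.End.IsSemisimple (toLin' S)) :
    ∃ (P : Mat) (d : Fin n → k), IsUnit P.det ∧ S * P = P * diagonal d := by
  classical
  obtain ⟨b, hb, hspan, hli⟩ := exists_linearIndependent k
    (⋃ μ : k, ((Module.End.eigenspace (toLin' S) μ : Submodule k (Fin n → k)) : Set (Fin n → k)))
  rw [Submodule.span_iUnion] at hspan
  simp only [Submodule.span_eq, hS.iSup_eigenspace_eq_top] at hspan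
  let e : Module.Basis b k (Fin n → k) := Module.Basis.mk hli (by rw [Subtype.range_coe, hspan])
  haveI : Fintype b := FiniteDimensional.fintypeBasisIndex e
  let σ : b ≃ Fin n := Fintype.equivFinOfCardEq (by rw [← Module.finrank_eq_card_basis e, Module.finrank_fin_fun])
  let f : Module.Basis (Fin n) k (Fin n → k) := e.reindex σ
  have hev : ∀ i, ∃ μ : k, toLin' S (f i) = μ • f i := fun i => by
    obtain ⟨μ, hμ⟩ := Set.mem_iUnion.1 (hb (σ.symm i).2)
    refine ⟨μ, ?_⟩
    have he : f i = ((σ.symm i : b) : Fin n → k) := by simp [f, e]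
    rw [he]
    exact Module.End.mem_eigenspace_iff.1 hμ
  choose d hd using hev
  refine ⟨(Pi.basisFun k (Fin n)).toMatrix f, d, ?_, ?_⟩
  · exact isUnit_det_of_right_inverse ((Pi.basisFun k (Fin n)).toMatrix_mul_toMatrix_flip f)
  · ext i j
    rw [mul_diagonal, Matrix.mul_apply]
    have := congrFun (hd j) i
    simp only [toLin'_apply, mulVec, dotProduct, Pi.smul_apply, smul_eq_mul] at this
    simpa [Module.Basis.toMatrix_apply, mul_comm] using this

theorem similar_of_charpoly [IsAlgClosed k] {S₁ S₂ : Mat} (h₁ : Module.End.IsSemisimple (toLin' S₁))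
    (h₂ : Module.End.IsSemisimple (toLin' S₂)) (hc : S₁.charpoly = S₂.charpoly) :
    ∃ A : Mat, IsUnit A.det ∧ A * S₁ * A⁻¹ = S₂ := by
  classical
  obtain ⟨P₁, d₁, hP₁, hd₁⟩ := exists_diag S₁ h₁
  obtain ⟨P₂, d₂, hP₂, hd₂⟩ := exists_diag S₂ h₂
  have e1 : S₁.charpoly = (diagonal d₁).charpoly := by
    rw [← mul_one S₁, ← mul_nonsing_inv P₁ hP₁, ← mul_assoc, hd₁, charpoly_mul_comm, ← mul_assoc, nonsing_inv_mul P₁ hP₁, one_mul]
  have e2 : S₂.charpoly = (diagonal d₂).charpoly := by
    rw [← mul_one S₂, ← mul_nonsing_inv P₂ hP₂, ← mul_assoc, hd₂, charpoly_mul_comm, ← mul_assoc, nonsing_inv_mul P₂ hP₂, one_mul]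
  rw [e1, e2, charpoly_diagonal, charpoly_diagonal] at hc
  have hroots := congrArg Polynomial.roots hc
  simp only [Finset.prod_eq_multiset_prod] at hroots
  rw [show (fun i => Polynomial.X - Polynomial.C (d₁ i)) = (fun a => Polynomial.X - Polynomial.C a) ∘ d₁ from rfl,
    show (fun i => Polynomial.X - Polynomial.C (d₂ i)) = (fun a => Polynomial.X - Polynomial.C a) ∘ d₂ from rfl,
    ← Multiset.map_map, ← Multiset.map_map,
    Polynomial.roots_multiset_prod_X_sub_C, Polynomial.roots_multiset_prod_X_sub_C] at hroots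
  have hcard : ∀ a : k, Fintype.card {i // d₂ i = a} = Fintype.card {i // d₁ i = a} := fun a => by
    have := congrArg (Multiset.count a) hroots
    simp only [Multiset.count_map, Multiset.countP_eq_card_filter] at this
    rw [Fintype.card_subtype, Fintype.card_subtype, Finset.card_def, Finset.card_def, Finset.filter_val, Finset.filter_val]
    simpa [eq_comm] using this.symm
  let π : Fin n ≃ Fin n := Equiv.ofFiberEquiv (f := d₂) (g := d₁) fun a => Fintype.equivOfCardEq (hcard a)
  have hπ : ∀ i, d₁ (π i) = d₂ i := fun i => Equiv.ofFiberEquiv_map _ i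
  let Q : Mat := Matrix.of fun i j => if π i = j then 1 else 0
  have hQ : Q * diagonal d₁ = diagonal d₂ * Q := by
    ext i j
    rw [mul_diagonal, diagonal_mul]
    by_cases h : π i = j
    · simp [Q, h, ← hπ i, mul_comm]
    · simp [Q, h]
  have hQu : IsUnit Q.det := by
    refine isUnit_det_of_right_inverse (B := Q.transpose) ?_
    ext i j
    simp [Q, Matrix.mul_apply, Matrix.one_apply]
  have hA : IsUnit (P₂ * Q * P₁⁻¹).det := by
    rw [det_mul, det_mul]
    exact (hP₂.mul hQu).mul (isUnit_nonsing_inv_det P₁ hP₁)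
  refine ⟨P₂ * Q * P₁⁻¹, hA, ?_⟩
  have key : P₂ * Q * P₁⁻¹ * S₁ = S₂ * (P₂ * Q * P₁⁻¹) := by
    have h1 : P₁⁻¹ * S₁ = diagonal d₁ * P₁⁻¹ := by
      calc P₁⁻¹ * S₁ = P₁⁻¹ * (S₁ * P₁) * P₁⁻¹ := by rw [mul_assoc, mul_assoc, mul_nonsing_inv P₁ hP₁, mul_one]
        _ = _ := by rw [hd₁, ← mul_assoc, nonsing_inv_mul P₁ hP₁, one_mul]
    rw [mul_assoc, h1, ← mul_assoc, mul_assoc P₂, hQ, ← mul_assoc P₂, ← hd₂]
    simp only [mul_assoc]
  rw [key, mul_assoc, mul_nonsing_inv _ hA, mul_one]

end Groth.Agent.S19395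

namespace Groth.Agent.S19395

/-- Over an algebraically closed field, the Zariski closures of the conjugation orbits of two square
matrices B₁, B₂ meet if and only if their semisimple parts lie in one orbit. The semisimple parts
are given as S_i with B_i = S_i + N_i, S_i semisimple, N_i nilpotent, S_i N_i = N_i S_i; a common
point of the two closures is a matrix C at which every polynomial in the matrix entries vanishing on
the whole orbit of B₁, and every one vanishing on the whole orbit of B₂, vanishes. -/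
theorem result (k : Type u) [Field k] [IsAlgClosed k]
    (n : ℕ) (B₁ S₁ N₁ B₂ S₂ N₂ : Matrix (Fin n) (Fin n) k)
    (hS₁ : Module.End.IsSemisimple (Matrix.toLin' S₁)) (hN₁ : IsNilpotent N₁) (hc₁ : Commute S₁ N₁)
    (hB₁ : B₁ = S₁ + N₁)
    (hS₂ : Module.End.IsSemisimple (Matrix.toLin' S₂)) (hN₂ : IsNilpotent N₂) (hc₂ : Commute S₂ N₂)
    (hB₂ : B₂ = S₂ + N₂) :
    (∃ C : Matrix (Fin n) (Fin n) k,
        (∀ F : MvPolynomial (Fin n × Fin n) k,
          (∀ A : Matrix (Fin n) (Fin n) k, IsUnit A.det →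
            MvPolynomial.eval (fun p => (A * B₁ * A⁻¹) p.1 p.2) F = 0) →
          MvPolynomial.eval (fun p => C p.1 p.2) F = 0) ∧
        (∀ F : MvPolynomial (Fin n × Fin n) k,
          (∀ A : Matrix (Fin n) (Fin n) k, IsUnit A.det →
            MvPolynomial.eval (fun p => (A * B₂ * A⁻¹) p.1 p.2) F = 0) →
          MvPolynomial.eval (fun p => C p.1 p.2) F = 0)) ↔
      ∃ A : Matrix (Fin n) (Fin n) k, IsUnit A.det ∧ A * S₁ * A⁻¹ = S₂ := by
  haveI : Infinite k := inferInstance
  have cl : ∀ {S N : Matrix (Fin n) (Fin n) k}, Module.End.IsSemisimple (Matrix.toLin' S) → IsNilpotent N →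
      Commute S N → Cl (S + N) S := fun {S N} hS hN hc => by
    obtain ⟨r, hr⟩ := hN
    exact cl_semisimple S hS r N (by rw [pow_succ, hr, zero_mul]) hc
  subst hB₁ hB₂
  constructor
  · rintro ⟨C, h1, h2⟩
    refine similar_of_charpoly hS₁ hS₂ ?_
    rw [cl_charpoly (cl hS₁ hN₁ hc₁), ← cl_charpoly (show Cl (S₁ + N₁) C from h1), cl_charpoly (show Cl (S₂ + N₂) C from h2),
      cl_charpoly (cl hS₂ hN₂ hc₂)]
  · rintro ⟨A, hA, hAS⟩
    exact ⟨S₂, cl_trans (cl hS₁ hN₁ hc₁) (hAS ▸ cl_conj S₁ hA), cl hS₂ hN₂ hc₂⟩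

end Groth.Agent.S19395
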