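import Groth.Statements.S19396
import Groth.Agent.L26.FF.GenusOne

set_option autoImplicit false
universe u v
open FunFld

namespace Groth.Agent.S19396

open Groth.Agent.FF WithZero

/-- On an elliptic curve with base point 0, if f has a double pole at 0 and no other pole and g a triple
pole at 0 and no other pole, then for n ≥ 2 the functions 1, f, …, f^[n/2], g, fg, …, f^[(n−3)/2] g
form a basis of the space of functions with at most an n-fold pole at 0. Stated for a function field
K/k of one variable of genus 1 with a place P of degree 1 in the role of the curve and its base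
point: the family indexed by Fin (n/2 + 1) ⊕ Fin ((n − 1)/2), sending i on the left to f^i and i on
the right to f^i g, is linearly independent over k and spans L(nP). -/
theorem result (k : Type u) (K : Type v) [Field k] [Field K]
    [Algebra k K] (hK : FunFld.IsFunctionField k K) (hgen : FunFld.genus k K = 1)
    (P : FunFld.Place k K) (hP : P.deg = 1) (f g : K)
    (hf : f ∈ FunFld.L (Finsupp.single P 2)) (hf2 : P.ord f = -2)
    (hg : g ∈ FunFld.L (Finsupp.single P 3)) (hg3 : P.ord g = -3) (n : ℕ) (hn : 2 ≤ n) :
    LinearIndependent k
        (Sum.elim (fun i : Fin (n / 2 + 1) => f ^ (i : ℕ)) (fun i : Fin ((n - 1) / 2) => f ^ (i : ℕ) * g)) ∧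
      Submodule.span k (Set.range
        (Sum.elim (fun i : Fin (n / 2 + 1) => f ^ (i : ℕ)) (fun i : Fin ((n - 1) / 2) => f ^ (i : ℕ) * g))) =
        FunFld.L (Finsupp.single P (n : ℤ)) := by
  exact basis_two_three hK hgen hP hf hf2 hg hg3 n hn

end Groth.Agent.S19396
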