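import Groth.Statements.S19397
import Groth.Agent.L26.FF.Closed
import Groth.Agent.L26.FF.GenusOne
import Groth.Agent.L26.FF.Weierstrass
import Mathlib.FieldTheory.RatFunc.AsPolynomial
import Mathlib.RingTheory.AdjoinRoot
import Mathlib.RingTheory.RootsOfUnity.AlgebraicallyClosed

set_option autoImplicit false
universe u v
open FunFld

namespace Groth.Agent.S19397

open Groth.Agent.FF
open Polynomial IntermediateField
open Groth.Agent.S11047 (autPlace)

open Classical in
/-- Over an algebraically closed field of characteristic different from 2 and 3, the automorphism group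
of an elliptic curve (automorphisms fixing the base point) with invariant j has order 2 if j ≠ 0,
12³, order 4 if j = 12³ and order 6 if j = 0. Stated for the function field K/k of the curve: K of
genus 1 generated by x, y with y² = x³ + a x + b and 4a³ + 27b² ≠ 0, P the place where x has its
double and y its triple pole (and no other poles), so that j = 12³ · 4a³/(4a³ + 27b²) and the three
cases are a, b ≠ 0; b = 0; a = 0; the automorphisms are the k-algebra automorphisms of K preserving
the valuation of P. -/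
theorem result (k : Type u) (K : Type v) [Field k]
    [IsAlgClosed k] [Field K] [Algebra k K] (h2 : (2 : k) ≠ 0) (h3 : (3 : k) ≠ 0)
    (hK : FunFld.IsFunctionField k K) (hgen : FunFld.genus k K = 1) (P : FunFld.Place k K)
    (a b : k) (hdisc : 4 * a ^ 3 + 27 * b ^ 2 ≠ 0) (x y : K)
    (heq : y ^ 2 = x ^ 3 + algebraMap k K a * x + algebraMap k K b)
    (hxy : IntermediateField.adjoin k ({x, y} : Set K) = ⊤)
    (hx : x ∈ FunFld.L (Finsupp.single P 2)) (hx2 : P.ord x = -2)
    (hy : y ∈ FunFld.L (Finsupp.single P 3)) (hy3 : P.ord y = -3) :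
    Nat.card {σ : K ≃ₐ[k] K // ∀ z : K, P.1 (σ z) = P.1 z} =
      if a = 0 then 6 else if b = 0 then 4 else 2 := by
  classical
  have hP1 := deg_eq_one hK P
  have hx0 : x ≠ 0 := fun h => by rw [h, ord_zero] at hx2; omega
  have hy0 : y ≠ 0 := fun h => by rw [h, ord_zero] at hy3; omega
  have hxt : Transcendental k x := fun halg => by have := ord_algebraic halg P; omega
  have hpoles : poles k x = Finsupp.single P 2 := Finsupp.ext fun Q => by
    rw [poles_apply hK.1]
    by_cases hQ : Q = P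
    · subst hQ; rw [Finsupp.single_eq_same, hx2]; rfl
    · have := (val_le_exp_iff Q hx0).1 (hx Q)
      rw [Finsupp.single_eq_of_ne hQ] at this ⊢
      omega
  have honly : ∀ Q : FunFld.Place k K, 1 < Q.1 x → Q = P := fun Q hQ => by
    by_contra hne
    have := hx Q
    rw [Finsupp.single_eq_of_ne hne, WithZero.exp_zero] at this
    exact hQ.not_ge this
  have := finite_over_adjoin hK.1 hxt
  have hdeg : Module.finrank k⟮x⟯ K = 2 := by
    have h := deg_poles hK.1 hxt
    rw [hpoles, deg_single, hP1] at h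
    omega
  have htop : k⟮x⟯⟮y⟯ = ⊤ := by
    refine IntermediateField.restrictScalars_injective k ?_
    rw [IntermediateField.restrictScalars_top, IntermediateField.adjoin_simple_adjoin_simple]
    exact hxy
  -- the spaces `L(2P)`, `L(3P)`
  have step : ∀ (z w : K) (n : ℤ), z ∈ FunFld.L (Finsupp.single P n) → w ∈ FunFld.L (Finsupp.single P n) →
      P.1 w = WithZero.exp n → ∃ c : k, z - c • w ∈ FunFld.L (Finsupp.single P (n - 1)) := fun z w n hz hw hwv => by
    have hw0 : w ≠ 0 := fun h => by rw [h, map_zero] at hwv; exact WithZero.exp_ne_zero hwv.symm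
    obtain ⟨c, hc⟩ := exists_value P hP1 (z := z / w) (by
      rw [map_div₀, hwv]
      exact div_le_one_of_le₀ (by simpa using hz P) zero_le)
    refine ⟨c, fun Q => ?_⟩
    have hzw := (FunFld.L (Finsupp.single P n)).sub_mem hz (Submodule.smul_mem _ c hw) Q
    by_cases hQ : Q = P
    · subst hQ
      rw [Finsupp.single_eq_same, show z - c • w = (z / w - algebraMap k K c) * w by
        rw [Algebra.smul_def, sub_mul, div_mul_cancel₀ _ hw0], map_mul, hwv]
      refine (mul_le_mul' (lt_one_le_exp hc) le_rfl).trans_eq ?_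
      rw [← WithZero.exp_add]
      congr 1
      omega
    · rw [Finsupp.single_eq_of_ne hQ] at hzw ⊢
      exact hzw
  have hx2v : P.1 x = WithZero.exp 2 := by rw [val_eq_exp P hx0, hx2]; norm_num
  have hy3v : P.1 y = WithZero.exp 3 := by rw [val_eq_exp P hy0, hy3]; norm_num
  have hL1 : ∀ z ∈ FunFld.L (Finsupp.single P (1 : ℤ)), ∃ c : k, z = algebraMap k K c := fun z hz => by
    have h1 : FunFld.L (Finsupp.single P (1 : ℤ)) = (1 : Submodule k K) := by
      rw [← L_zero hK]
      have := finite_L hK.1 (Finsupp.single P (1 : ℤ))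
      refine (Submodule.eq_of_le_of_finrank_le (L_mono fun R => ?_) ?_).symm
      · simp only [Finsupp.single_apply, Finsupp.zero_apply]; split_ifs <;> omega
      · show FunFld.ell _ ≤ FunFld.ell _
        rw [ell_zero hK]
        exact (ell_single_g1 hK hgen hP1 1 le_rfl).le
    rw [h1] at hz
    obtain ⟨c, hc⟩ := Submodule.mem_one.1 hz
    exact ⟨c, hc.symm⟩
  have hL2 : ∀ z ∈ FunFld.L (Finsupp.single P (2 : ℤ)), ∃ c d : k, z = algebraMap k K c * x + algebraMap k K d := fun z hz => by
    obtain ⟨c, hc⟩ := step z x 2 hz hx hx2v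
    obtain ⟨d, hd⟩ := hL1 _ (by simpa using hc)
    exact ⟨c, d, by rw [← hd, Algebra.smul_def]; ring⟩
  have hL3 : ∀ z ∈ FunFld.L (Finsupp.single P (3 : ℤ)), ∃ c d e : k,
      z = algebraMap k K c * y + algebraMap k K d * x + algebraMap k K e := fun z hz => by
    obtain ⟨c, hc⟩ := step z y 3 hz hy hy3v
    obtain ⟨d, e, hd⟩ := hL2 _ (by simpa using hc)
    exact ⟨c, d, e, by rw [Algebra.smul_def] at hd; linear_combination hd⟩
  -- the monomials are independent
  have hind : ∀ c₀ c₁ c₂ c₃ c₄ c₅ : k, algebraMap k K c₀ + algebraMap k K c₁ * x + algebraMap k K c₂ * y +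
      algebraMap k K c₃ * x ^ 2 + algebraMap k K c₄ * (x * y) + algebraMap k K c₅ * x ^ 3 = 0 →
      c₀ = 0 ∧ c₁ = 0 ∧ c₂ = 0 ∧ c₃ = 0 ∧ c₄ = 0 ∧ c₅ = 0 := fun c₀ c₁ c₂ c₃ c₄ c₅ hsum => by
    have o1 : P.ord (1 : K) = 0 := (val_eq_one_iff P one_ne_zero).1 (map_one _)
    have hli := linearIndependent_of_ord_injective P (k := k) (x := ![(1 : K), x, y, x ^ 2, x * y, x ^ 3])
      (fun i => by fin_cases i <;> simp [hx0, hy0])
      (fun i j hij => by
        fin_cases i <;> fin_cases j <;>
          simp [o1, hx2, hy3, ord_pow P hx0, ord_mul P hx0 hy0] at hij ⊢)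
    have h := Fintype.linearIndependent_iff.1 hli ![c₀, c₁, c₂, c₃, c₄, c₅] (by
      simp [Fin.sum_univ_six, Algebra.smul_def]
      linear_combination hsum)
    exact ⟨h 0, h 1, h 2, h 3, h 4, h 5⟩
  -- existence
  have hext : ∀ u : k, u ≠ 0 → a * u ^ 4 = a → b * u ^ 6 = b → ∃ σ : K ≃ₐ[k] K, (∀ z, P.1 (σ z) = P.1 z) ∧
      σ x = algebraMap k K (u ^ 2) * x ∧ σ y = algebraMap k K (u ^ 3) * y := fun u hu hua hub => by
    set x' : K := algebraMap k K (u ^ 2) * x
    set y' : K := algebraMap k K (u ^ 3) * y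
    have hx'v : P.1 x' = P.1 x := by rw [map_mul, val_const P (pow_ne_zero 2 hu), one_mul]
    have hx't : Transcendental k x' := fun halg => by
      have hx'0 : x' ≠ 0 := fun h => by rw [h, map_zero, hx2v] at hx'v; exact WithZero.exp_ne_zero hx'v.symm
      have h1 := ord_algebraic halg P
      rw [ord_eq_of_val P (hx'v.trans hx2v)] at h1
      omega
    let ε : k⟮x⟯ →ₐ[k] K := k⟮x'⟯.val.comp
      ((RatFunc.algEquivOfTranscendental x hxt).symm.trans (RatFunc.algEquivOfTranscendental x' hx't)).toAlgHom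
    have hεx : ε (AdjoinSimple.gen k x) = x' := by
      show ((RatFunc.algEquivOfTranscendental x' hx't ((RatFunc.algEquivOfTranscendental x hxt).symm (AdjoinSimple.gen k x)) : k⟮x'⟯) : K) = x'
      rw [RatFunc.algEquivOfTranscendental_symm_gen, RatFunc.algEquivOfTranscendental_X]
    let q : k⟮x⟯[X] := X ^ 2 - C (AdjoinSimple.gen k x ^ 3 + algebraMap k k⟮x⟯ a * AdjoinSimple.gen k x + algebraMap k k⟮x⟯ b)
    have hqm : q.Monic := monic_X_pow_sub_C _ two_ne_zero
    have hq0 : aeval y q = 0 := by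
      simp only [q, map_sub, map_pow, aeval_X, aeval_C, map_add, map_mul, AdjoinSimple.algebraMap_gen,
        ← IsScalarTower.algebraMap_apply, heq, sub_self]
    have hqd : q.natDegree = 2 := natDegree_X_pow_sub_C
    have hmd : (minpoly k⟮x⟯ y).natDegree = 2 := by
      rw [← IntermediateField.adjoin.finrank (Algebra.IsIntegral.isIntegral y), htop, IntermediateField.finrank_top', hdeg]
    have hmq : minpoly k⟮x⟯ y = q :=
      (Polynomial.eq_of_monic_of_dvd_of_natDegree_le (minpoly.monic (Algebra.IsIntegral.isIntegral y)) hqm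
        (minpoly.dvd _ _ hq0) (by rw [hqd, hmd])).symm
    have hirr : Irreducible q := hmq ▸ minpoly.irreducible (Algebra.IsIntegral.isIntegral y)
    have := Fact.mk hirr
    let μ : AdjoinRoot q →+* K := AdjoinRoot.lift (algebraMap k⟮x⟯ K) y hq0
    have hq' : q.eval₂ ε.toRingHom y' = 0 := by
      simp only [q, eval₂_sub, eval₂_add, eval₂_mul, eval₂_pow, eval₂_X, eval₂_C, map_add, map_mul, map_pow,
        AlgHom.toRingHom_eq_coe, RingHom.coe_coe, hεx, AlgHom.commutes]
      simp only [x', y', map_pow, mul_pow]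
      have ea := congrArg (algebraMap k K) hua
      have eb := congrArg (algebraMap k K) hub
      rw [map_mul, map_pow] at ea eb
      linear_combination algebraMap k K u ^ 6 * heq + algebraMap k K u ^ 2 * x * ea + eb
    have hμ : Function.Bijective μ := ⟨μ.injective, fun z => by
      have h1 : z ∈ Algebra.adjoin k⟮x⟯ ({y} : Set K) := by
        rw [← IntermediateField.adjoin_simple_toSubalgebra_of_isAlgebraic (Algebra.IsAlgebraic.isAlgebraic y), htop]
        exact trivial
      rw [Algebra.adjoin_singleton_eq_range_aeval] at h1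
      obtain ⟨g, rfl⟩ := h1
      exact ⟨AdjoinRoot.mk q g, (AdjoinRoot.lift_mk hq0 g)⟩⟩
    let e := RingEquiv.ofBijective μ hμ
    let ν : AdjoinRoot q →+* K := AdjoinRoot.lift ε.toRingHom y' hq'
    have he : ∀ c : k, e.symm (algebraMap k K c) = AdjoinRoot.of q (algebraMap k k⟮x⟯ c) := fun c => by
      rw [RingEquiv.symm_apply_eq]
      show _ = μ (AdjoinRoot.of q _)
      exact (IsScalarTower.algebraMap_apply k k⟮x⟯ K c).trans (AdjoinRoot.lift_of hq0).symm
    let τ : K →ₐ[k] K := AlgHom.mk (ν.comp e.symm.toRingHom) fun c => by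
      show ν (e.symm (algebraMap k K c)) = algebraMap k K c
      rw [he]
      exact (AdjoinRoot.lift_of hq').trans (ε.commutes c)
    have hτx : τ x = x' := by
      show ν (e.symm x) = x'
      have : e.symm x = AdjoinRoot.of q (AdjoinSimple.gen k x) := by
        rw [RingEquiv.symm_apply_eq]
        show _ = μ (AdjoinRoot.of q _)
        exact (AdjoinSimple.algebraMap_gen k x).symm.trans (AdjoinRoot.lift_of hq0).symm
      rw [this]
      exact (AdjoinRoot.lift_of hq').trans hεx
    have hτy : τ y = y' := by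
      show ν (e.symm y) = y'
      have : e.symm y = AdjoinRoot.root q := by
        rw [RingEquiv.symm_apply_eq]
        show _ = μ (AdjoinRoot.root q)
        exact (AdjoinRoot.lift_root hq0).symm
      rw [this]
      exact AdjoinRoot.lift_root hq'
    have hsurj : Function.Surjective τ := by
      rw [← AlgHom.fieldRange_eq_top, eq_top_iff, ← hxy, IntermediateField.adjoin_le_iff]
      have hinv : ∀ (c : k) (w : K), c ≠ 0 → algebraMap k K c⁻¹ * (algebraMap k K c * w) = w := fun c w hc => by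
        rw [← mul_assoc, ← map_mul, inv_mul_cancel₀ hc, map_one, one_mul]
      rintro w (hw | hw) <;> rw [hw]
      · exact ⟨algebraMap k K (u ^ 2)⁻¹ * x, by
          show τ (algebraMap k K (u ^ 2)⁻¹ * x) = x
          rw [map_mul, AlgHom.commutes, hτx, hinv _ _ (pow_ne_zero 2 hu)]⟩
      · exact ⟨algebraMap k K (u ^ 3)⁻¹ * y, by
          show τ (algebraMap k K (u ^ 3)⁻¹ * y) = y
          rw [map_mul, AlgHom.commutes, hτy, hinv _ _ (pow_ne_zero 3 hu)]⟩
    let σ := AlgEquiv.ofBijective τ ⟨τ.toRingHom.injective, hsurj⟩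
    refine ⟨σ, fun z => ?_, hτx, hτy⟩
    have hQ : autPlace σ P = P := honly _ (by
      show 1 < P.1 (τ x)
      rw [hτx, hx'v, hx2v, one_lt_exp']
      norm_num)
    exact congrArg (fun R : FunFld.Place k K => R.1 z) hQ
  -- shape of a stabilising automorphism
  have hshape : ∀ σ : K ≃ₐ[k] K, (∀ z, P.1 (σ z) = P.1 z) → ∃ u : k, u ≠ 0 ∧ a * u ^ 4 = a ∧ b * u ^ 6 = b ∧
      σ x = algebraMap k K (u ^ 2) * x ∧ σ y = algebraMap k K (u ^ 3) * y := fun σ hσ => by
    have hfix : autPlace σ P = P := Subtype.ext (Valuation.ext fun z => hσ z)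
    have hLs : ∀ (m : ℤ) (z : K), z ∈ FunFld.L (Finsupp.single P m) → σ z ∈ FunFld.L (Finsupp.single P m) :=
      fun m z hz => (mem_L_autPlace σ P m z).1 (by rw [hfix]; exact hz)
    obtain ⟨α, β, hα⟩ := hL2 _ (hLs 2 x hx)
    obtain ⟨γ, δ, ε, hγ⟩ := hL3 _ (hLs 3 y hy)
    have hα0 : α ≠ 0 := fun h0 => by
      have h1 := hσ x
      rw [hα, h0, map_zero, zero_mul, zero_add, hx2v] at h1
      rcases eq_or_ne β 0 with rfl | hβ
      · rw [map_zero, map_zero] at h1; exact WithZero.exp_ne_zero h1.symm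
      · rw [val_const P hβ, ← WithZero.exp_zero, WithZero.exp_inj] at h1; omega
    have he := congrArg σ heq
    simp only [map_pow, map_add, map_mul, AlgEquiv.commutes, hα, hγ] at he
    have h6 := hind (algebraMap k k (γ ^ 2 * b + ε ^ 2 - β ^ 3 - a * β - b))
      (γ ^ 2 * a + 2 * δ * ε - 3 * α * β ^ 2 - a * α) (2 * γ * ε) (δ ^ 2 - 3 * α ^ 2 * β) (2 * γ * δ) (γ ^ 2 - α ^ 3) (by
      simp only [Algebra.algebraMap_self, RingHom.id_apply, map_sub, map_add, map_mul, map_pow, map_ofNat]
      linear_combination he - algebraMap k K γ ^ 2 * heq)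
    simp only [Algebra.algebraMap_self, RingHom.id_apply] at h6
    obtain ⟨e0, e1, e2, e3, e4, e5⟩ := h6
    have hγ0 : γ ≠ 0 := fun h0 => by
      rw [h0] at e5
      exact hα0 (pow_eq_zero_iff (n := 3) (by norm_num) |>.1 (by linear_combination -e5))
    have hδ : δ = 0 := (mul_eq_zero.1 e4).resolve_left (mul_ne_zero h2 hγ0)
    have hε : ε = 0 := (mul_eq_zero.1 e2).resolve_left (mul_ne_zero h2 hγ0)
    have hβ : β = 0 := by
      rw [hδ, zero_pow two_ne_zero, zero_sub, neg_eq_zero] at e3
      exact (mul_eq_zero.1 e3).resolve_left (mul_ne_zero h3 (pow_ne_zero 2 hα0))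
    subst hδ hε hβ
    refine ⟨γ / α, div_ne_zero hγ0 hα0, ?_, ?_, ?_, ?_⟩
    · field_simp
      linear_combination γ ^ 2 * e1 + a * α * e5
    · field_simp
      linear_combination (b * (γ ^ 4 + γ ^ 2 * α ^ 3 + α ^ 6)) * e5 + α ^ 6 * (e0 - b * e5)
    · rw [hα, map_zero, add_zero, show (γ / α) ^ 2 = α by field_simp; linear_combination e5]
    · rw [hγ, map_zero, zero_mul, add_zero, add_zero, show (γ / α) ^ 3 = γ by field_simp; linear_combination e5]
  choose φ hφP hφx hφy using hext
  let U := {u : k // u ≠ 0 ∧ a * u ^ 4 = a ∧ b * u ^ 6 = b}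
  let Φ : U → {σ : K ≃ₐ[k] K // ∀ z : K, P.1 (σ z) = P.1 z} :=
    fun u => ⟨φ u.1 u.2.1 u.2.2.1 u.2.2.2, hφP _ _ _ _⟩
  have hΦ : Function.Bijective Φ := by
    refine ⟨fun u v huv => Subtype.ext ?_, fun σ => ?_⟩
    · have h1 : (Φ u).1 x = (Φ v).1 x := by rw [huv]
      have h1' : (Φ u).1 y = (Φ v).1 y := by rw [huv]
      simp only [Φ, hφx, hφy] at h1 h1'
      have h4 := (algebraMap k K).injective (mul_right_cancel₀ hx0 h1)
      have h5 := (algebraMap k K).injective (mul_right_cancel₀ hy0 h1')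
      refine mul_left_cancel₀ (pow_ne_zero 2 u.2.1) ?_
      linear_combination h5 - (v.1) * h4
    · obtain ⟨u, hu, hua, hub, hux, huy⟩ := hshape σ.1 σ.2
      refine ⟨⟨u, hu, hua, hub⟩, Subtype.ext (AlgEquiv.ext fun z => ?_)⟩
      show φ u hu hua hub z = σ.1 z
      have hz : z ∈ IntermediateField.adjoin k ({x, y} : Set K) := hxy ▸ IntermediateField.mem_top
      induction hz using IntermediateField.adjoin_induction with
      | mem w hw =>
        rcases hw with rfl | rfl
        · rw [hφx, hux]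
        · rw [hφy, huy]
      | algebraMap c => rw [AlgEquiv.commutes, AlgEquiv.commutes]
      | add p q _ _ hp hq => rw [map_add, map_add, hp, hq]
      | inv p _ hp => rw [map_inv₀, map_inv₀, hp]
      | mul p q _ _ hp hq => rw [map_mul, map_mul, hp, hq]
  rw [← Nat.card_eq_of_bijective Φ hΦ]
  have hroots : ∀ n : ℕ, 0 < n → (n : k) ≠ 0 → Nat.card {u : k // u ^ n = 1} = n := fun n hn hnk => by
    have := NeZero.mk hnk
    obtain ⟨ζ, hζ⟩ := HasEnoughRootsOfUnity.exists_primitiveRoot k n
    rw [Nat.card_congr (Equiv.subtypeEquivRight (fun u : k => (Polynomial.mem_nthRootsFinset hn (1 : k)).symm)),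
      Nat.card_eq_finsetCard, hζ.card_nthRootsFinset]
  have h23 : ((6 : ℕ) : k) ≠ 0 ∧ ((4 : ℕ) : k) ≠ 0 ∧ ((2 : ℕ) : k) ≠ 0 := by
    refine ⟨?_, ?_, by simpa using h2⟩
    · rw [show ((6 : ℕ) : k) = 2 * 3 by norm_num]; exact mul_ne_zero h2 h3
    · rw [show ((4 : ℕ) : k) = 2 * 2 by norm_num]; exact mul_ne_zero h2 h2
  have key : ∀ n : ℕ, 0 < n → (n : k) ≠ 0 → (∀ u : k, (u ≠ 0 ∧ a * u ^ 4 = a ∧ b * u ^ 6 = b) ↔ u ^ n = 1) →
      Nat.card U = n := fun n hn hnk hiff => by
    rw [Nat.card_congr (Equiv.subtypeEquivRight hiff), hroots n hn hnk]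
  have hne : ∀ (u : k) (n : ℕ), 0 < n → u ^ n = 1 → u ≠ 0 := fun u n hn h h0 => by
    rw [h0, zero_pow hn.ne'] at h; exact zero_ne_one h
  split_ifs with ha hb
  · refine key 6 (by norm_num) h23.1 fun u => ⟨fun h => ?_, fun h => ⟨hne u 6 (by norm_num) h, by simp [ha], by rw [h, mul_one]⟩⟩
    have hb0 : b ≠ 0 := fun hb => hdisc (by simp [ha, hb])
    exact mul_left_cancel₀ hb0 (h.2.2.trans (mul_one b).symm)
  · refine key 4 (by norm_num) h23.2.1 fun u => ⟨fun h => ?_, fun h => ⟨hne u 4 (by norm_num) h, by rw [h, mul_one], by simp [hb]⟩⟩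
    exact mul_left_cancel₀ ha (h.2.1.trans (mul_one a).symm)
  · refine key 2 (by norm_num) h23.2.2 fun u => ⟨fun h => ?_, fun h => ⟨hne u 2 (by norm_num) h, ?_, ?_⟩⟩
    · have h4 := mul_left_cancel₀ ha (h.2.1.trans (mul_one a).symm)
      have h6 := mul_left_cancel₀ hb (h.2.2.trans (mul_one b).symm)
      linear_combination h6 - u ^ 2 * h4
    · linear_combination a * (u ^ 2 + 1) * h
    · linear_combination b * (u ^ 4 + u ^ 2 + 1) * h

end Groth.Agent.S19397
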