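import Groth.Statements.S19400
import Groth.Agent.L08.Luna.Basic
-- import your own Groth.Agent.* helpers here

set_option autoImplicit false
universe u
open GIT

namespace Groth.Agent.S19400

theorem exists_actPt_eq {k : Type u} [Field k] [IsAlgClosed k] {A : Type u} [CommRing A] [HopfAlgebra k A]
    [Algebra.FiniteType k A] {R : Type u} [CommRing R] [Algebra k R] [Algebra.FiniteType k R]
    [HopfRep.Comod k A R] [GLin.IsCoactAlg k A R] {x w : R →ₐ[k] k} (hx : GLin.IsClosedOrbit k A x)
    (hw : GLin.InOrbitClosure k A x w) : ∃ g : A →ₐ[k] k, GLin.actPt k g x = w := by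
  let f := (GLin.orbitHom k A x).toRingHom
  have hmem : (⟨RingHom.ker w, RingHom.ker_isPrime _⟩ : PrimeSpectrum R) ∈ Set.range (PrimeSpectrum.comap f) := by
    rw [← hx.closure_eq, PrimeSpectrum.closure_range_comap]
    exact hw
  obtain ⟨P, hP⟩ := hmem
  obtain ⟨g, hg⟩ := Groth.L08.GITSep.exists_point (k := k) A P.asIdeal P.isPrime.ne_top
  refine ⟨g, AlgHom.ext fun r => ?_⟩
  have h1 : r - algebraMap k R (w r) ∈ RingHom.ker w := by simp [RingHom.mem_ker]
  rw [show RingHom.ker w = Ideal.comap f P.asIdeal from congrArg PrimeSpectrum.asIdeal hP.symm] at h1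
  have h2 := hg _ h1
  rw [map_sub, map_sub, sub_eq_zero] at h2
  rw [GLin.actPt, AlgHom.comp_apply]
  refine h2.trans ?_
  show g (GLin.orbitHom k A x (algebraMap k R (w r))) = w r
  rw [AlgHom.commutes, AlgHom.commutes]
  rfl

/-- For a reductive group G (here: every finite-dimensional representation completely reducible, i.e.
linearly reductive; any characteristic) acting on an affine variety X = Spec R over an algebraically
closed field with all orbits of closed points closed, the morphism X → Y = Spec R^G is a geometric
quotient; in particular it is surjective on closed points and its fibre over every closed point of Y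
is a single orbit. This row states those two point-set assertions in coaction form: G = Spec A with
A a finitely generated commutative Hopf algebra whose finite-dimensional comodules are semisimple, R
of finite type with a multiplicative unital coaction, points as k-algebra maps. The published
statement takes X to be a variety (reduced and irreducible); this row does not assume R reduced or a
domain. -/
theorem result (k : Type u) [Field k] [IsAlgClosed k]
    (A : Type u) [CommRing A] [HopfAlgebra k A] [Algebra.FiniteType k A]
    (hG : HopfRep.IsLinearlyReductive k A)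
    (R : Type u) [CommRing R] [Algebra k R] [Algebra.FiniteType k R]
    [HopfRep.Comod k A R] [GLin.IsCoactAlg k A R]
    (hcl : ∀ x : R →ₐ[k] k, GLin.IsClosedOrbit k A x)
    (y : GLin.invariants k A R →ₐ[k] k) :
    (∃ x : R →ₐ[k] k, x.comp (GLin.invariants k A R).val = y) ∧
      ∀ x x' : R →ₐ[k] k, x.comp (GLin.invariants k A R).val = y →
        x'.comp (GLin.invariants k A R).val = y →
          ∃ g : A →ₐ[k] k, x' = GLin.actPt k g x := by
  constructor
  · have hbot : HopfRep.IsSubcomod (k := k) (A := A) ((⊥ : Ideal R).restrictScalars k) := by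
      rw [Groth.L08.isSubcomod_iff]
      intro φ v hv
      rw [show v = 0 from hv, map_zero]
      exact zero_mem _
    obtain ⟨x, -, hx⟩ := Groth.L08.GITSep.exists_point_lift hG hbot y (fun f hf => by
      rw [show f = 0 from Subtype.ext (Ideal.mem_bot.1 hf), map_zero])
    exact ⟨x, AlgHom.ext hx⟩
  · intro x x' hx hx'
    have hinv : ∀ f ∈ HopfRep.fixedPts k A R, x f = x' f := fun f hf =>
      (AlgHom.congr_fun hx ⟨f, hf⟩).trans (AlgHom.congr_fun hx' ⟨f, hf⟩).symm
    obtain ⟨w, hxw, hx'w⟩ := (Groth.L08.GITSep.forall_eq_iff hG x x').1 hinv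
    obtain ⟨g, hg⟩ := exists_actPt_eq (hcl x) hxw
    obtain ⟨h, hh⟩ := exists_actPt_eq (hcl x') hx'w
    refine ⟨(WithConv.toConv g * (WithConv.toConv h)⁻¹).ofConv, AlgHom.ext fun r => ?_⟩
    have hw : ∀ r, x (Groth.L08.Luna.σ R g r) = x' (Groth.L08.Luna.σ R h r) := fun r => by
      rw [← Groth.L08.Luna.actPt_apply, ← Groth.L08.Luna.actPt_apply, hg, hh]
    rw [Groth.L08.Luna.actPt_apply, ← Groth.L08.Luna.σ_comp]
    refine Eq.trans ?_ (hw _).symm
    rw [Groth.L08.Luna.σ_comp (R := R) (WithConv.toConv h) (WithConv.toConv h)⁻¹, mul_inv_cancel,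
      Groth.L08.Luna.σ_one]

end Groth.Agent.S19400
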