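import Groth.Statements.S19402
import Groth.Agent.L08.Luna.FiniteGroup
-- import your own Groth.Agent.* helpers here

set_option autoImplicit false
universe u v w
open scoped Pointwise
open GLin

namespace Groth.Agent.S19402

/-- Let k be an algebraically closed field of characteristic zero, R a finitely generated commutative
k-algebra which is an integrally closed domain (a normal irreducible affine variety X), and G a
finite group acting faithfully on R by k-algebra automorphisms. Let B be a commutative k-algebra
with an injective algebra map B → R, compatible with the k-structures and G-invariant, whose image
is exactly the subring of G-invariants (so Spec R → Spec B is the quotient morphism X → X/G). Then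
for a maximal ideal m of R (a closed point x of X), R is étale over B at m (the local ring R_m is
formally étale over B) if and only if the stabilizer of m in G is trivial. -/
theorem result (k : Type u) [Field k] [IsAlgClosed k] [CharZero k]
    (R : Type v) [CommRing R] [IsDomain R] [IsIntegrallyClosed R] [Algebra k R] [Algebra.FiniteType k R]
    (G : Type w) [Group G] [Finite G] [MulSemiringAction G R] [FaithfulSMul G R] [SMulCommClass G k R]
    (B : Type v) [CommRing B] [Algebra k B] [Algebra B R] [IsScalarTower k B R] [FaithfulSMul B R]
    [SMulCommClass G B R] [Algebra.IsInvariant B R G]
    (m : Ideal R) [m.IsMaximal] :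
    Algebra.IsEtaleAt B m ↔ MulAction.stabilizer G m = ⊥ := by
  haveI : IsNoetherianRing R := Algebra.FiniteType.isNoetherianRing k R
  refine ⟨fun h => ?_, Groth.L08.Luna.isEtaleAt_of_stabilizer_eq_bot (k := k) m⟩
  haveI := h
  exact Groth.L08.Luna.stabilizer_eq_bot (k := k) (B := B) m

end Groth.Agent.S19402
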