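import Groth.Statements.S19403
import Groth.Agent.L08.Luna.SubalgRep
import Groth.Agent.L08.Luna.Finite
import Mathlib.RingTheory.ZariskisMainTheorem
import Mathlib.RingTheory.Adjoin.Tower
import Mathlib.AlgebraicGeometry.Morphisms.OpenImmersion
-- import your own Groth.Agent.* helpers here

set_option autoImplicit false
universe u
open TensorProduct
open GLin

namespace Groth.Agent.S19403

open AlgebraicGeometry CategoryTheory in
/-- A subring equal to the ring after inverting elements generating the unit ideal gives an open immersion. -/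
theorem isOpenImmersion_of_span {B R : Type u} [CommRing B] [CommRing R] (i : B →+* R)
    (hi : Function.Injective i) (t : Set B) (ht : Ideal.span (i '' t) = ⊤)
    (hsat : ∀ r ∈ t, ∀ z : R, ∃ (n : ℕ) (b : B), i b = i r ^ n * z) :
    IsOpenImmersion (Spec.map (CommRingCat.ofHom i)) := by
  classical
  have hcov : ∀ P : PrimeSpectrum R, ∃ r ∈ t, i r ∉ P.asIdeal := fun P => by
    by_contra h
    push Not at h
    exact P.2.ne_top (top_le_iff.1 (ht.ge.trans (Ideal.span_le.2 (Set.image_subset_iff.2 h))))
  refine IsOpenImmersion.of_forall_source_exists _ (fun P Q hPQ => ?_) fun P => ?_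
  · have key : ∀ (P Q : PrimeSpectrum R), P.asIdeal.comap i = Q.asIdeal.comap i → P.asIdeal ≤ Q.asIdeal := by
      intro P Q hPQ z hz
      obtain ⟨r, hr, hrQ⟩ := hcov Q
      obtain ⟨n, b, hb⟩ := hsat r hr z
      have h1 : b ∈ P.asIdeal.comap i := by rw [Ideal.mem_comap, hb]; exact P.asIdeal.mul_mem_left _ hz
      rw [hPQ, Ideal.mem_comap, hb] at h1
      exact (Q.2.mem_or_mem h1).resolve_left fun h => hrQ (Q.2.mem_of_pow_mem _ h)
    have e : (P.asIdeal.comap i) = Q.asIdeal.comap i := congrArg PrimeSpectrum.asIdeal hPQ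
    exact PrimeSpectrum.ext (le_antisymm (key P Q e) (key Q P e.symm))
  · obtain ⟨r, hr, hrP⟩ := hcov P
    let L := Localization.Away (i r)
    let j : Spec (.of L) ⟶ Spec (.of R) := Spec.map (CommRingCat.ofHom (algebraMap R L))
    haveI hj : IsOpenImmersion j := IsOpenImmersion.of_isLocalization (S := L) (i r)
    refine ⟨Spec (.of L), j, hj, ?_, ?_⟩
    · have e : Set.range (PrimeSpectrum.comap (algebraMap R L)) = PrimeSpectrum.basicOpen (i r) :=
        PrimeSpectrum.localization_away_comap_range L (i r)
      exact (e.symm ▸ hrP : P ∈ Set.range (PrimeSpectrum.comap (algebraMap R L)))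
    · letI : Algebra B L := ((algebraMap R L).comp i).toAlgebra
      haveI : IsLocalization.Away r L := by
        refine IsLocalization.Away.mk r (IsLocalization.Away.algebraMap_isUnit (i r)) (fun z => ?_) fun a b hab => ?_
        · obtain ⟨n, w, hw⟩ := IsLocalization.Away.surj (i r) z
          obtain ⟨m, c, hc⟩ := hsat r hr w
          refine ⟨n + m, c, ?_⟩
          show z * (algebraMap R L (i r)) ^ (n + m) = algebraMap R L (i c)
          rw [hc, map_mul, ← hw, map_pow, pow_add]
          ring
        · obtain ⟨n, hn⟩ := IsLocalization.Away.exists_of_eq (S := L) (i r) hab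
          exact ⟨n, hi (by rw [map_mul, map_mul, map_pow]; exact hn)⟩
      rw [show j ≫ Spec.map (CommRingCat.ofHom i) = Spec.map (CommRingCat.ofHom (algebraMap B L)) by
        rw [← Spec.map_comp]; rfl]
      exact IsOpenImmersion.of_isLocalization (S := L) r


/-- The equivariant form of Zariski's Main Theorem. Let k be an algebraically closed field of
characteristic zero, A a finitely generated commutative Hopf algebra over k all of whose
finite-dimensional comodules are semisimple (a reductive group G), R and S finitely generated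
commutative k-algebras with multiplicative A-coactions (G acting on the affine schemes X = Spec R, Y
= Spec S), and S → R an algebra map compatible with the coactions (a G-morphism φ : X → Y) which is
quasi-finite. Then there exist a finitely generated commutative k-algebra B with a multiplicative
A-coaction (an affine G-scheme Z), an algebra map ψ : S → B compatible with the coactions and
finite, and an algebra map i : B → R compatible with the coactions such that Spec R → Spec B is an
open immersion, with i ∘ ψ the given map S → R (φ factors as an equivariant open immersion followed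
by a finite G-morphism). -/
theorem result (k : Type u) [Field k] [IsAlgClosed k] [CharZero k]
    (A : Type u) [CommRing A] [HopfAlgebra k A] [Algebra.FiniteType k A] (hG : HopfRep.IsLinearlyReductive k A)
    (S : Type u) [CommRing S] [Algebra k S] [Algebra.FiniteType k S] [HopfRep.Comod k A S] [GLin.IsCoactAlg k A S]
    (R : Type u) [CommRing R] [Algebra k R] [Algebra.FiniteType k R] [HopfRep.Comod k A R] [GLin.IsCoactAlg k A R]
    [Algebra S R] [IsScalarTower k S R] [Algebra.QuasiFinite S R]
    (hequiv : (∀ s : S, HopfRep.Comod.coact (k := k) (A := A) (algebraMap S R s) =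
      Algebra.TensorProduct.map (IsScalarTower.toAlgHom k S R) (AlgHom.id k A) (HopfRep.Comod.coact (k := k) (A := A) s))) :
    ∃ (B : Type u) (_ : CommRing B) (_ : Algebra k B) (_ : HopfRep.Comod k A B) (_ : GLin.IsCoactAlg k A B),
      Algebra.FiniteType k B ∧
      ∃ (ψ : S →ₐ[k] B) (i : B →ₐ[k] R),
        (∀ s : S, HopfRep.Comod.coact (k := k) (A := A) (ψ s) =
        Algebra.TensorProduct.map ψ (AlgHom.id k A) (HopfRep.Comod.coact (k := k) (A := A) s)) ∧
        (∀ s : B, HopfRep.Comod.coact (k := k) (A := A) (i s) =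
        Algebra.TensorProduct.map i (AlgHom.id k A) (HopfRep.Comod.coact (k := k) (A := A) s)) ∧
        i.comp ψ = IsScalarTower.toAlgHom k S R ∧ ψ.toRingHom.Finite ∧
        AlgebraicGeometry.IsOpenImmersion (AlgebraicGeometry.Spec.map (CommRingCat.ofHom i.toRingHom)) := by
  classical
  let ι := IsScalarTower.toAlgHom k S R
  haveI : Algebra.FiniteType S R := Algebra.FiniteType.of_restrictScalars_finiteType k S R
  let C : Subalgebra k R := (integralClosure S R).restrictScalars k
  have hσint : ∀ (g : A →ₐ[k] k) (v : R), IsIntegral S v → IsIntegral S (Groth.L08.Luna.σ R g v) := by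
    rintro g v ⟨p, hp, hp0⟩
    refine ⟨p.map (Groth.L08.Luna.σ S g).toRingHom, hp.map _, ?_⟩
    have := congrArg (Groth.L08.Luna.σ R g).toRingHom hp0
    rw [Polynomial.hom_eval₂, map_zero] at this
    rw [Polynomial.eval₂_map, ← this]
    congr 1
    exact RingHom.ext fun s => (Groth.L08.Luna.σ_comp_hom (φ := ι) hequiv g s).symm
  have hC : HopfRep.IsSubcomod (k := k) (A := A) (Subalgebra.toSubmodule C) :=
    Groth.L08.Luna.isSubcomod_of_forall_point _ hσint
  -- finitely many integral elements whose localisations cover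
  let good : Set R := {r | IsIntegral S r ∧ ∀ z, ∃ m, IsIntegral S (r ^ m * z)}
  have hgood : Ideal.span good = ⊤ := by
    by_contra h
    obtain ⟨M, hM, hle⟩ := Ideal.exists_le_maximal _ h
    obtain ⟨r, hr, hr1, hr2⟩ := Algebra.zariskisMainProperty_iff.1
      (Algebra.ZariskisMainProperty.of_finiteType (R := S) M)
    exact hr (hle (Ideal.subset_span ⟨hr1, hr2⟩))
  obtain ⟨t, ht, htop⟩ := (Ideal.span_eq_top_iff_finite good).1 hgood
  choose e he using fun (p : {r // r ∈ t}) (z : R) => (ht p.2).2 z
  obtain ⟨gens, hgens⟩ := Algebra.FiniteType.out (R := k) (A := R)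
  let T : Finset R := t ∪ (t.attach ×ˢ gens).image fun p => p.1.1 ^ e p.1 p.2 * p.2
  have hTC : (T : Set R) ⊆ C := by
    intro v hv
    rcases Finset.mem_union.1 hv with h | h
    · exact (ht h).1
    · obtain ⟨p, -, rfl⟩ := Finset.mem_image.1 h
      exact he p.1 p.2
  obtain ⟨W₀, hW₀f, hTW₀, hW₀⟩ := Groth.L08.exists_finite_subcomod_of_finset (k := k) (A := A) T
  let W := W₀ ⊓ Subalgebra.toSubmodule C
  haveI := hW₀f
  haveI : Module.Finite k W := Submodule.finiteDimensional_inf_left _ _
  have hW := Groth.L08.isSubcomod_inf hW₀ hC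
  let B' : Subalgebra S R := Algebra.adjoin S (W : Set R)
  let B : Subalgebra k R := B'.restrictScalars k
  have hBstab : ∀ (g : A →ₐ[k] k) (v : R), v ∈ B → Groth.L08.Luna.σ R g v ∈ B := by
    intro g v hv
    change v ∈ Algebra.adjoin S (W : Set R) at hv
    induction hv using Algebra.adjoin_induction with
    | mem w hw => exact Algebra.subset_adjoin (by
        rw [Groth.L08.Luna.σ_apply]; exact Groth.L08.isSubcomod_iff.1 hW _ w hw)
    | algebraMap s =>
      rw [show Groth.L08.Luna.σ R g (algebraMap S R s) = algebraMap S R (Groth.L08.Luna.σ S g s) from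
        Groth.L08.Luna.σ_comp_hom (φ := ι) hequiv g s]
      exact B'.algebraMap_mem _
    | add a b _ _ ha hb => rw [map_add]; exact B.add_mem ha hb
    | mul a b _ _ ha hb => rw [map_mul]; exact B.mul_mem ha hb
  have hB := Groth.L08.Luna.isSubcomod_of_forall_point (A := A) (Subalgebra.toSubmodule B) hBstab
  obtain ⟨w, hw⟩ := Module.Finite.fg_top (R := k) (M := W)
  have hfg : B'.toSubmodule.FG := by
    have : B' = Algebra.adjoin S ((w.image Subtype.val : Finset R) : Set R) := by
      refine le_antisymm (Algebra.adjoin_le fun v hv => ?_) (Algebra.adjoin_mono fun v hv => ?_)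
      · have h1 : v ∈ Submodule.span k (Subtype.val '' (w : Set W)) := by
          have h2 := Submodule.apply_mem_span_image_of_mem_span W.subtype
            (hw.ge (Submodule.mem_top (x := ⟨v, hv⟩)))
          exact h2
        refine (Submodule.span_le (p := Subalgebra.toSubmodule
          ((Algebra.adjoin S ((w.image Subtype.val : Finset R) : Set R)).restrictScalars k))).2 (fun u hu => ?_) h1
        exact Algebra.subset_adjoin (by rw [Finset.coe_image]; exact hu)
      · obtain ⟨u, -, rfl⟩ := Finset.mem_image.1 hv
        exact u.2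
    rw [this]
    refine fg_adjoin_of_finite (Finset.finite_toSet _) fun v hv => ?_
    obtain ⟨u, -, rfl⟩ := Finset.mem_image.1 hv
    exact u.2.2
  letI := Groth.L08.Luna.subComod (A := A) B hB
  haveI := Groth.L08.Luna.isCoactAlg_subComod (A := A) B hB
  let ψ : S →ₐ[k] B := ι.codRestrict B fun s => B'.algebraMap_mem s
  have hψ : ψ.toRingHom.Finite := by
    letI : Algebra S B := ψ.toRingHom.toAlgebra
    show Module.Finite S B
    haveI : Module.Finite S B' := Module.Finite.iff_fg.2 hfg
    exact Module.Finite.equiv (AlgEquiv.toLinearEquiv (R := S)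
      ({ (RingEquiv.refl B') with commutes' := fun _ => rfl } : B' ≃ₐ[S] B))
  refine ⟨B, inferInstance, inferInstance, inferInstance, inferInstance, ?_, ψ, B.val, fun s => ?_,
    fun b => Groth.L08.Luna.subComod_val B hB b, rfl, hψ, ?_⟩
  · refine RingHom.finiteType_algebraMap.1 ?_
    rw [← ψ.comp_algebraMap]
    exact hψ.finiteType.comp (RingHom.finiteType_algebraMap.2 inferInstance)
  · apply Groth.L08.Luna.rTensor_injective B
    rw [← Groth.L08.Luna.subComod_val B hB, ← AlgHom.comp_apply (Algebra.TensorProduct.map B.val _),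
      ← Algebra.TensorProduct.map_comp, AlgHom.comp_id]
    exact hequiv s
  · refine isOpenImmersion_of_span _ Subtype.val_injective {b : B | b.1 ∈ t}
      (top_le_iff.1 (htop.ge.trans (Ideal.span_le.2 fun r hr => Ideal.subset_span
        ⟨⟨r, Algebra.subset_adjoin ⟨hTW₀ (Finset.mem_union_left _ hr), (ht hr).1⟩⟩, hr, rfl⟩))) ?_
    intro r hr z
    change r.1 ∈ t at hr
    have key : ∀ z, ∃ n, r.1 ^ n * z ∈ B := by
      intro z
      have hz : z ∈ Algebra.adjoin k (gens : Set R) := hgens ▸ Algebra.mem_top
      induction hz using Algebra.adjoin_induction with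
      | mem x hx =>
        refine ⟨e ⟨r.1, hr⟩ x, Algebra.subset_adjoin ⟨hTW₀ (Finset.mem_union_right _ ?_), he _ _⟩⟩
        exact Finset.mem_image.2 ⟨(⟨r.1, hr⟩, x), Finset.mem_product.2 ⟨Finset.mem_attach _ _, hx⟩, rfl⟩
      | algebraMap c => exact ⟨0, by rw [pow_zero, one_mul]; exact B.algebraMap_mem c⟩
      | add a b _ _ ha hb =>
        obtain ⟨n, hn⟩ := ha; obtain ⟨m, hm⟩ := hb
        refine ⟨n + m, ?_⟩
        rw [show r.1 ^ (n + m) * (a + b) = r.1 ^ m * (r.1 ^ n * a) + r.1 ^ n * (r.1 ^ m * b) by ring]
        exact B.add_mem (B.mul_mem (pow_mem r.2 _) hn) (B.mul_mem (pow_mem r.2 _) hm)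
      | mul a b _ _ ha hb =>
        obtain ⟨n, hn⟩ := ha; obtain ⟨m, hm⟩ := hb
        refine ⟨n + m, ?_⟩
        rw [show r.1 ^ (n + m) * (a * b) = (r.1 ^ n * a) * (r.1 ^ m * b) by ring]
        exact B.mul_mem hn hm
    obtain ⟨n, hn⟩ := key z
    exact ⟨n, ⟨_, hn⟩, rfl⟩

end Groth.Agent.S19403
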