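import Groth.Statements.S19404
import Groth.Agent.L08.Luna.Slice
-- import your own Groth.Agent.* helpers here

set_option autoImplicit false
universe u
open TensorProduct
open GLin

namespace Groth.Agent.S19404

open Groth.L08 Groth.L08.Luna

set_option maxSynthPendingDepth 3

/-- Let k be an algebraically closed field of characteristic zero, A a finitely generated commutative
Hopf algebra over k which is an integral domain and all of whose finite-dimensional comodules are
semisimple (a connected reductive group G), R a reduced finitely generated commutative k-algebra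
with a multiplicative A-coaction (G acting on the affine variety X = Spec R), and x a k-point of X
whose orbit is closed. Then there is a G-invariant function f on X with f(x) ≠ 0 (so the
non-vanishing locus X_f is a saturated open neighbourhood of x) such that for every k-point x' of X
with f(x') ≠ 0 whose orbit is closed there is a k-point g of G with the stabilizer ideal of x
contained in the stabilizer ideal of the translate of x' by g: the stabilizer of x' is conjugate to
a subgroup of the stabilizer of x. (The published statement allows any reductive G; the argument in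
the source is complete for connected G, which is assumed here.) -/
theorem result (k : Type u) [Field k] [IsAlgClosed k] [CharZero k]
    (A : Type u) [CommRing A] [IsDomain A] [HopfAlgebra k A] [Algebra.FiniteType k A] (hG : HopfRep.IsLinearlyReductive k A)
    (R : Type u) [CommRing R] [IsReduced R] [Algebra k R] [Algebra.FiniteType k R] [HopfRep.Comod k A R] [GLin.IsCoactAlg k A R]
    (x : R →ₐ[k] k) (hx : GLin.IsClosedOrbit k A x) :
    ∃ f ∈ GLin.invariants k A R, x f ≠ 0 ∧
      ∀ x' : R →ₐ[k] k, x' f ≠ 0 → GLin.IsClosedOrbit k A x' →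
        ∃ g : A →ₐ[k] k, GLin.stabIdeal k A x ≤ GLin.stabIdeal k A (GLin.actPt k g x') := by
  classical
  let K : Ideal R := RingHom.ker (GLin.orbitHom k A x)
  have hK : HopfRep.IsSubcomod (k := k) (A := A) (K.restrictScalars k) := GITSep.isSubcomod_ker_orbitHom x
  let B := R ⧸ K
  letI : HopfRep.Comod k A B := quotComod K hK
  haveI : GLin.IsCoactAlg k A B := isCoactAlg_quot K hK
  haveI : Algebra.FiniteType k B :=
    Algebra.FiniteType.of_surjective (Ideal.Quotient.mkₐ k K) Ideal.Quotient.mk_surjective
  haveI : K.IsPrime := RingHom.ker_isPrime _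
  let res : R →ₐ[k] B := Ideal.Quotient.mkₐ k K
  have hresE : ∀ r, HopfRep.Comod.coact (k := k) (A := A) (res r) =
      Algebra.TensorProduct.map res (AlgHom.id k A) (HopfRep.Comod.coact (k := k) (A := A) r) :=
    fun r => quotComod_mk K hK r
  have hKx : ∀ r ∈ K, x r = 0 := fun r hr => by
    have := congrArg (Coalgebra.counit (R := k)) (RingHom.mem_ker.1 hr)
    rwa [ClosedOrbit.counit_orbitHom, map_zero] at this
  let ob : B →ₐ[k] k := Ideal.Quotient.liftₐ K x hKx
  have hob : ∀ r, ob (res r) = x r := fun r => rfl
  have htrans : ∀ w : B →ₐ[k] k, ∃ g : A →ₐ[k] k, GLin.actPt k g ob = w := fun w => by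
    obtain ⟨g, hg⟩ := exists_actPt_eq hx (w := w.comp res) fun r hr => by
      show w (Ideal.Quotient.mk K r) = 0
      rw [Ideal.Quotient.eq_zero_iff_mem.2 hr, map_zero]
    refine ⟨g, AlgHom.ext fun b => ?_⟩
    obtain ⟨r, rfl⟩ := Ideal.Quotient.mk_surjective b
    have h := AlgHom.congr_fun hg r
    rw [actPt_apply] at h ⊢
    show ob (σ B g (res r)) = w (res r)
    rw [σ_comp_hom hresE]
    exact h
  haveI : Algebra.Smooth k B := smooth_of_transitive ob htrans
  obtain ⟨U, _, _, _, _, _, _, _, ρ, u, m, _, hequiv, hρσ, hm, hux, huρ, huniq, het⟩ :=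
    exists_slice hG res Ideal.Quotient.mk_surjective hresE ob
  have hxe : ob.comp res = x := AlgHom.ext hob
  rw [hxe] at hux
  let ι := IsScalarTower.toAlgHom k R U
  have hσι : ∀ g r, σ U g (ι r) = ι (σ R g r) := σ_comp_hom hequiv
  have hinj : ∀ g : A →ₐ[k] k, GLin.actPt k g (u.comp ι) = u.comp ι → GLin.actPt k g u = u := by
    intro g hg
    refine huniq _ ?_ ?_
    · rw [hxe]
      refine AlgHom.ext fun r => ?_
      show GLin.actPt k g u (ι r) = x r
      rw [actPt_apply, hσι, ← hux]
      have h := AlgHom.congr_fun hg r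
      rw [actPt_apply] at h
      exact h
    · refine AlgHom.ext fun b => ?_
      obtain ⟨r, rfl⟩ := Ideal.Quotient.mk_surjective b
      show GLin.actPt k g u (ρ (res r)) = ob (res r)
      rw [actPt_apply, hρσ, σ_comp_hom hresE, ← AlgHom.comp_apply u ρ, huρ, hob, hob, ← hux]
      have h := AlgHom.congr_fun hg r
      rw [actPt_apply] at h
      exact h
  -- the invariants
  let S₀ := GLin.invariants k A R
  let R₀ := GLin.invariants k A U
  have hmapinv : ∀ c ∈ S₀, ι c ∈ R₀ := fun c hc => by
    rw [GLin.mem_invariants_iff] at hc ⊢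
    rw [show HopfRep.Comod.coact (k := k) (A := A) (ι c) = _ from hequiv c, hc]
    rfl
  letI : Algebra S₀ R₀ := (((ι.comp S₀.val).codRestrict R₀ fun c => hmapinv _ c.2)).toRingHom.toAlgebra
  haveI : IsScalarTower S₀ R U := inferInstance
  haveI : IsScalarTower S₀ R₀ U := IsScalarTower.of_algebraMap_eq fun _ => rfl
  have hy : GLin.IsClosedOrbit k A (u.comp ι) := hux ▸ hx
  obtain ⟨f, g₀, hxF, hsurj, -, -, -, -, hgen⟩ := fundamental hequiv hG S₀ Subtype.val_injective
    (Subalgebra.range_val S₀) R₀ Subtype.val_injective (Subalgebra.range_val R₀) u m hm het hy hinj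
  refine ⟨g₀.1, g₀.2, fun h0 => hxF ?_, fun x' hx'g _ => ?_⟩
  · rw [map_mul, map_mul, show u (algebraMap R₀ U (algebraMap S₀ R₀ g₀)) = x g₀.1 from
      AlgHom.congr_fun hux g₀.1, h0, mul_zero]
  obtain ⟨Q, hQ, hFQ, hQc⟩ := hsurj (RingHom.ker x') (RingHom.ker_isPrime _) hx'g
  let F := algebraMap R₀ U (f * algebraMap S₀ R₀ g₀)
  let UF := Localization.Away F
  haveI : Algebra.FiniteType k UF := by
    haveI : Algebra.FiniteType U UF := IsLocalization.finiteType_of_monoid_fg (Submonoid.powers F) UF
    exact Algebra.FiniteType.trans (S := U) inferInstance inferInstance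
  have hdisj : Disjoint (Submonoid.powers F : Set U) (Q : Set U) := by
    rw [Set.disjoint_left]
    rintro _ ⟨n, rfl⟩ h
    exact hFQ (hQ.mem_of_pow_mem n h)
  haveI := IsLocalization.isPrime_of_isPrime_disjoint (Submonoid.powers F) UF Q hQ hdisj
  obtain ⟨w', hw'⟩ := GITSep.exists_point (k := k) UF (Q.map (algebraMap U UF)) (Ideal.IsPrime.ne_top inferInstance)
  let w : U →ₐ[k] k := w'.comp (IsScalarTower.toAlgHom k U UF)
  have hwF : w F ≠ 0 := by
    intro h
    obtain ⟨v, hv⟩ := isUnit_iff_exists_inv.1 (IsLocalization.Away.algebraMap_isUnit (S := UF) F)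
    have := congrArg w' hv
    rw [map_mul, map_one, show w' (algebraMap U UF F) = 0 from h, zero_mul] at this
    exact zero_ne_one this
  have hwι : w.comp ι = x' := by
    refine AlgHom.ext fun r => ?_
    have h1 : r - algebraMap k R (x' r) ∈ RingHom.ker x' := by simp [RingHom.mem_ker]
    rw [← hQc, Ideal.mem_comap] at h1
    have h2 := hw' _ (Ideal.mem_map_of_mem (algebraMap U UF) h1)
    have h3 : w (ι (r - algebraMap k R (x' r))) = 0 := h2
    rw [map_sub, map_sub, AlgHom.commutes, AlgHom.commutes, sub_eq_zero] at h3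
    exact h3
  obtain ⟨h, hh⟩ := htrans (w.comp ρ)
  refine ⟨((WithConv.toConv h)⁻¹).ofConv, ?_⟩
  refine Ideal.map_le_iff_le_comap.2 fun r hr => mem_stabIdeal_of_forall_point _ fun g hg => ?_
  have hgr : GLin.actPt k g x r = x r := by
    let h' : A →ₐ[k] k := ((WithConv.toConv h)⁻¹).ofConv
    -- the conjugate fixing `x'`
    let g' : WithConv (A →ₐ[k] k) := (WithConv.toConv h)⁻¹ * WithConv.toConv g * WithConv.toConv h
    have hg' : GLin.actPt k g'.ofConv x' = x' := by
      refine AlgHom.ext fun s => ?_
      have e := AlgHom.congr_fun hg (σ R h s)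
      simp only [actPt_apply] at e
      rw [show σ R h' = σ R ((WithConv.toConv h)⁻¹).ofConv from rfl,
        show σ R g = σ R (WithConv.toConv g).ofConv from rfl,
        show σ R h = σ R (WithConv.toConv h).ofConv from rfl, σ_comp, σ_comp, σ_comp, inv_mul_cancel, σ_one] at e
      rw [actPt_apply]
      refine Eq.trans ?_ e
      simp only [g', mul_assoc]
    have hgw : GLin.actPt k g'.ofConv w = w := by
      refine AlgHom.ext fun z => ?_
      obtain ⟨N, z₀, hz₀⟩ := hgen z
      have key : ∀ t, GLin.actPt k g'.ofConv w (Algebra.TensorProduct.productMap (IsScalarTower.toAlgHom S₀ R U)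
          (IsScalarTower.toAlgHom S₀ R₀ U) t) = w (Algebra.TensorProduct.productMap (IsScalarTower.toAlgHom S₀ R U)
          (IsScalarTower.toAlgHom S₀ R₀ U) t) := fun t => by
        induction t using TensorProduct.induction_on with
        | zero => simp only [map_zero]
        | add p q hp hq => simp only [map_add, hp, hq]
        | tmul a c =>
          simp only [Algebra.TensorProduct.productMap_apply_tmul, IsScalarTower.coe_toAlgHom', map_mul, actPt_apply]
          congr 1
          · rw [show algebraMap R U a = ι a from rfl, hσι, ← AlgHom.comp_apply w ι, ← AlgHom.comp_apply w ι, hwι,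
              ← actPt_apply, hg']
          · exact congrArg w (σ_fixed c.2 _)
      have h1 := key z₀
      have hF' : GLin.actPt k g'.ofConv w F = w F := by
        rw [actPt_apply]; exact congrArg w (σ_fixed (f * algebraMap S₀ R₀ g₀).2 _)
      rw [hz₀] at h1
      change GLin.actPt k g'.ofConv w (F ^ N * z) = w (F ^ N * z) at h1
      rw [map_mul (GLin.actPt k g'.ofConv w), map_mul w, map_pow (GLin.actPt k g'.ofConv w), map_pow w, hF'] at h1
      exact mul_left_cancel₀ (pow_ne_zero _ hwF) h1
    have hρ : ∀ b, ob (σ B h b) = w (ρ b) := fun b => by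
      rw [← actPt_apply]
      exact AlgHom.congr_fun hh b
    have e1 := AlgHom.congr_fun hgw (ρ (σ B ((WithConv.toConv h)⁻¹).ofConv (res r)))
    rw [actPt_apply, hρσ, ← hρ, ← hρ, show σ B h = σ B (WithConv.toConv h).ofConv from rfl, σ_comp, σ_comp,
      σ_comp, mul_inv_cancel, σ_one] at e1
    rw [σ_comp_hom hresE] at e1
    rw [hob, hob] at e1
    rw [actPt_apply]
    refine Eq.trans ?_ e1
    simp only [g', mul_assoc, mul_inv_cancel, mul_one, mul_inv_cancel_left]
  rw [show g (GLin.orbitHom k A x r) = GLin.actPt k g x r from rfl, hgr]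
  exact hr

end Groth.Agent.S19404
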