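import Groth.Statements.S19406
import Groth.Agent.L08.ClosedOrbit
import Mathlib.RingTheory.HopfAlgebra.GroupLike

set_option autoImplicit false
universe u
open TensorProduct
open GLin

namespace Groth.Agent.S19406
open TensorProduct Groth.L08

/-- Let k be an algebraically closed field of characteristic zero, A a finitely generated commutative
Hopf algebra over k which is an integral domain and all of whose finite-dimensional comodules are
semisimple (a connected reductive group G), R a reduced finitely generated commutative k-algebra
with a multiplicative A-coaction (G acting on the affine variety X = Spec R), and χ a group-like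
element of A (a character of G). Then there is a set E of G-invariant functions on X such that, for
every k-point x of X whose orbit is closed, χ − 1 lies in the stabilizer ideal of x (χ is trivial on
the stabilizer of x) if and only if some member of E does not vanish at x: the set of points of X//G
over which the closed orbit has stabilizer on which χ is trivial is open. (The published statement
allows any reductive G; this row assumes G connected, the case the source's argument covers.) -/
theorem result (k : Type u) [Field k] [IsAlgClosed k] [CharZero k]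
    (A : Type u) [CommRing A] [IsDomain A] [HopfAlgebra k A] [Algebra.FiniteType k A] (hG : HopfRep.IsLinearlyReductive k A)
    (R : Type u) [CommRing R] [IsReduced R] [Algebra k R] [Algebra.FiniteType k R] [HopfRep.Comod k A R] [GLin.IsCoactAlg k A R]
    (χ : A) (hχ : IsGroupLikeElem k χ) :
    ∃ E : Set R, E ⊆ GLin.invariants k A R ∧
      ∀ x : R →ₐ[k] k, GLin.IsClosedOrbit k A x →
        (χ - 1 ∈ GLin.stabIdeal k A x ↔ ∃ f ∈ E, x f ≠ 0) := by
  refine ⟨{f | f ∈ GLin.invariants k A R ∧ ∃ p q : R, f = p * q ∧
      HopfRep.Comod.coact (k := k) (A := A) p = p ⊗ₜ[k] χ ∧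
      HopfRep.Comod.coact (k := k) (A := A) q = q ⊗ₜ[k] HopfAlgebraStruct.antipode k χ},
    fun f hf => hf.1, fun x hx => ⟨fun h => ?_, ?_⟩⟩
  · have hS : χ * HopfAlgebraStruct.antipode k χ = 1 := by
      have := LinearMap.congr_fun (HopfAlgebra.mul_antipode_lTensor_comul (R := k) (A := A)) χ
      simpa [hχ.comul_eq_tmul_self, hχ.counit_eq_one] using this
    have hχ' : IsGroupLikeElem k (HopfAlgebraStruct.antipode k χ) := hχ.antipode
    have h' : HopfAlgebraStruct.antipode k χ - 1 ∈ GLin.stabIdeal k A x := by
      have : HopfAlgebraStruct.antipode k χ - 1 = -(HopfAlgebraStruct.antipode k χ) * (χ - 1) := by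
        linear_combination hS
      rw [this]
      exact Ideal.mul_mem_left _ _ h
    obtain ⟨p, hp, hpx⟩ := ClosedOrbit.exists_semi hG x hχ (ClosedOrbit.mem_orb_of_groupLike x hx hχ h)
    obtain ⟨q, hq, hqx⟩ := ClosedOrbit.exists_semi hG x hχ' (ClosedOrbit.mem_orb_of_groupLike x hx hχ' h')
    refine ⟨p * q, ⟨?_, p, q, rfl, hp, hq⟩, ?_⟩
    · rw [GLin.mem_invariants_iff, GLin.IsCoactAlg.coact_mul, hp, hq, Algebra.TensorProduct.tmul_mul_tmul, hS]
    · rw [map_mul, hpx, hqx, mul_one]
      exact one_ne_zero
  · rintro ⟨f, ⟨-, p, q, rfl, hp, -⟩, hf⟩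
    rw [map_mul] at hf
    have hxp : x p ≠ 0 := left_ne_zero_of_mul hf
    have e : GLin.orbitHom k A x ((x p)⁻¹ • p - 1) = χ - 1 := by
      rw [map_sub, map_smul, map_one, ClosedOrbit.orbitHom_semi x hp, smul_smul, inv_mul_cancel₀ hxp, one_smul]
    rw [← e]
    exact Ideal.mem_map_of_mem _ (by rw [RingHom.mem_ker, map_sub, map_smul, map_one, smul_eq_mul, inv_mul_cancel₀ hxp, sub_self])

end Groth.Agent.S19406
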