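import Groth.Statements.S19408
import Groth.Agent.L08.LinRed
import Mathlib.RingTheory.Etale.Basic
import Mathlib.RingTheory.TensorProduct.Quotient
import Mathlib.RingTheory.Flat.Basic
import Mathlib.RingTheory.Smooth.Flat
-- import your own Groth.Agent.* helpers here

set_option autoImplicit false
set_option backward.isDefEq.respectTransparency.types false
set_option linter.style.haveILetI false
universe u
open TensorProduct
open GLin

namespace Groth.Agent.S19408

/-- Let k be an algebraically closed field of characteristic zero, A a finitely generated commutative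
Hopf algebra over k all of whose finite-dimensional comodules are semisimple (a reductive group G),
S and R finitely generated commutative k-algebras with multiplicative A-coactions (G acting on
affine Y = Spec S and X = Spec R), S → R an algebra map compatible with the coactions (a G-morphism
θ : X → Y), S₀ → S and R₀ → R injective k-algebra maps whose images are the subrings of invariants,
and S₀ → R₀ an algebra map with S₀ → R₀ → R equal to S₀ → S → R (θ/G). Suppose R is étale over S, R₀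
is étale over S₀, and the canonical map S ⊗_{S₀} R₀ → R is bijective (θ and θ/G étale and X ≅ Y
×_{Y//G} X//G). Let J be an ideal of S which is a subcomodule (Y' = V(J) a closed G-invariant
subscheme), let S/J and R/JR carry A-coactions for which the quotient maps are compatible with the
coactions (the induced actions on Y' and X' = Y' ×_Y X), and let S₁ → S/J and R₁ → R/JR be injective
k-algebra maps whose images are the subrings of invariants, with S₁ → R₁ an algebra map such that S₁
→ R₁ → R/JR equals S₁ → S/J → R/JR. Then R/JR is étale over S/J, R₁ is étale over S₁, and the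
canonical map (S/J) ⊗_{S₁} R₁ → R/JR is bijective (θ' : X' → Y' and θ'/G are étale and X' ≅ Y'
×_{Y'//G} X'//G). -/
theorem result (k : Type u) [Field k] [IsAlgClosed k] [CharZero k]
    (A : Type u) [CommRing A] [HopfAlgebra k A] [Algebra.FiniteType k A] (hG : HopfRep.IsLinearlyReductive k A)
    (S : Type u) [CommRing S] [Algebra k S] [Algebra.FiniteType k S] [HopfRep.Comod k A S] [GLin.IsCoactAlg k A S]
    (R : Type u) [CommRing R] [Algebra k R] [Algebra.FiniteType k R] [HopfRep.Comod k A R] [GLin.IsCoactAlg k A R]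
    [Algebra S R] [IsScalarTower k S R]
    (hequiv : (∀ s : S, HopfRep.Comod.coact (k := k) (A := A) (algebraMap S R s) =
      Algebra.TensorProduct.map (IsScalarTower.toAlgHom k S R) (AlgHom.id k A) (HopfRep.Comod.coact (k := k) (A := A) s)))
    (S₀ : Type u) [CommRing S₀] [Algebra k S₀] [Algebra S₀ S] [IsScalarTower k S₀ S]
    (hS₀i : Function.Injective (algebraMap S₀ S)) (hS₀ : (IsScalarTower.toAlgHom k S₀ S).range = GLin.invariants k A S)
    (R₀ : Type u) [CommRing R₀] [Algebra k R₀] [Algebra R₀ R] [IsScalarTower k R₀ R]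
    (hR₀i : Function.Injective (algebraMap R₀ R)) (hR₀ : (IsScalarTower.toAlgHom k R₀ R).range = GLin.invariants k A R)
    [Algebra S₀ R₀] [Algebra S₀ R] [IsScalarTower S₀ S R] [IsScalarTower S₀ R₀ R]
    (het : Algebra.Etale S R) (het₀ : Algebra.Etale S₀ R₀)
    (hcart : Function.Bijective (Algebra.TensorProduct.productMap (IsScalarTower.toAlgHom S₀ S R) (IsScalarTower.toAlgHom S₀ R₀ R)))
    (J : Ideal S) (hJ : HopfRep.IsSubcomod (k := k) (A := A) (J.restrictScalars k))
    [HopfRep.Comod k A (S ⧸ J)] [GLin.IsCoactAlg k A (S ⧸ J)]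
    (hqS : (∀ s : S, HopfRep.Comod.coact (k := k) (A := A) ((Ideal.Quotient.mkₐ k J) s) =
        Algebra.TensorProduct.map (Ideal.Quotient.mkₐ k J) (AlgHom.id k A) (HopfRep.Comod.coact (k := k) (A := A) s)))
    [HopfRep.Comod k A (R ⧸ J.map (algebraMap S R))] [GLin.IsCoactAlg k A (R ⧸ J.map (algebraMap S R))]
    (hqR : (∀ s : R, HopfRep.Comod.coact (k := k) (A := A) ((Ideal.Quotient.mkₐ k (J.map (algebraMap S R))) s) =
        Algebra.TensorProduct.map (Ideal.Quotient.mkₐ k (J.map (algebraMap S R))) (AlgHom.id k A) (HopfRep.Comod.coact (k := k) (A := A) s)))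
    (S₁ : Type u) [CommRing S₁] [Algebra k S₁] [Algebra S₁ (S ⧸ J)] [IsScalarTower k S₁ (S ⧸ J)]
    (hS₁i : Function.Injective (algebraMap S₁ (S ⧸ J)))
    (hS₁ : (IsScalarTower.toAlgHom k S₁ (S ⧸ J)).range = GLin.invariants k A (S ⧸ J))
    (R₁ : Type u) [CommRing R₁] [Algebra k R₁] [Algebra R₁ (R ⧸ J.map (algebraMap S R))] [IsScalarTower k R₁ (R ⧸ J.map (algebraMap S R))]
    (hR₁i : Function.Injective (algebraMap R₁ (R ⧸ J.map (algebraMap S R))))
    (hR₁ : (IsScalarTower.toAlgHom k R₁ (R ⧸ J.map (algebraMap S R))).range = GLin.invariants k A (R ⧸ J.map (algebraMap S R)))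
    [Algebra S₁ R₁] [Algebra S₁ (R ⧸ J.map (algebraMap S R))]
    [IsScalarTower S₁ (S ⧸ J) (R ⧸ J.map (algebraMap S R))] [IsScalarTower S₁ R₁ (R ⧸ J.map (algebraMap S R))] :
    Algebra.Etale (S ⧸ J) (R ⧸ J.map (algebraMap S R)) ∧ Algebra.Etale S₁ R₁ ∧
      Function.Bijective (Algebra.TensorProduct.productMap
        (IsScalarTower.toAlgHom S₁ (S ⧸ J) (R ⧸ J.map (algebraMap S R)))
        (IsScalarTower.toAlgHom S₁ R₁ (R ⧸ J.map (algebraMap S R)))) := by
  obtain ⟨α, hα⟩ := Groth.L08.exists_isIntegral hG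
  have lift1 : ∀ (V W : Type u) [CommRing V] [Algebra k V] [HopfRep.Comod k A V] [GLin.IsCoactAlg k A V]
      [CommRing W] [Algebra k W] [HopfRep.Comod k A W] [GLin.IsCoactAlg k A W] (q : V →ₐ[k] W),
      Function.Surjective q →
      (∀ s, HopfRep.Comod.coact (k := k) (A := A) (q s) =
        Algebra.TensorProduct.map q (AlgHom.id k A) (HopfRep.Comod.coact (k := k) (A := A) s)) →
      ∀ w ∈ GLin.invariants k A W, ∃ v ∈ GLin.invariants k A V, q v = w := by
    intro V W _ _ _ _ _ _ _ _ q hqs hq w hw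
    refine hα.exists_fixed_lift (f := q.toLinearMap) (LinearMap.ext fun s => ?_) hqs hw
    refine (hq s).trans ?_
    show _ = q.toLinearMap.rTensor A _
    induction HopfRep.Comod.coact (k := k) (A := A) s with
    | zero => simp
    | add x y hx hy => simp only [map_add, hx, hy]
    | tmul x y => simp
  have inv1 : ∀ (V W : Type u) [CommRing V] [Algebra k V] [HopfRep.Comod k A V] [GLin.IsCoactAlg k A V]
      [CommRing W] [Algebra k W] [HopfRep.Comod k A W] [GLin.IsCoactAlg k A W] (q : V →ₐ[k] W),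
      (∀ s, HopfRep.Comod.coact (k := k) (A := A) (q s) =
        Algebra.TensorProduct.map q (AlgHom.id k A) (HopfRep.Comod.coact (k := k) (A := A) s)) →
      ∀ v ∈ GLin.invariants k A V, q v ∈ GLin.invariants k A W := by
    intro V W _ _ _ _ _ _ _ _ q hq v hv
    show _ = _
    rw [hq, (hv : _ = _)]
    simp
  let eS : S₁ ≃ₐ[k] GLin.invariants k A (S ⧸ J) :=
    (AlgEquiv.ofInjective (IsScalarTower.toAlgHom k S₁ (S ⧸ J)) hS₁i).trans (Subalgebra.equivOfEq _ _ hS₁)
  let eR : R₁ ≃ₐ[k] GLin.invariants k A (R ⧸ J.map (algebraMap S R)) :=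
    (AlgEquiv.ofInjective (IsScalarTower.toAlgHom k R₁ (R ⧸ J.map (algebraMap S R))) hR₁i).trans
      (Subalgebra.equivOfEq _ _ hR₁)
  have hmem0S : ∀ x, algebraMap S₀ S x ∈ GLin.invariants k A S := fun x => hS₀ ▸ ⟨x, rfl⟩
  have hmem0R : ∀ x, algebraMap R₀ R x ∈ GLin.invariants k A R := fun x => hR₀ ▸ ⟨x, rfl⟩
  let g : S₀ →ₐ[k] S₁ := eS.symm.toAlgHom.comp
    (AlgHom.codRestrict ((Ideal.Quotient.mkₐ k J).comp (IsScalarTower.toAlgHom k S₀ S)) _
      (fun x => inv1 S (S ⧸ J) _ hqS _ (hmem0S x)))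
  let h : R₀ →ₐ[k] R₁ := eR.symm.toAlgHom.comp
    (AlgHom.codRestrict ((Ideal.Quotient.mkₐ k (J.map (algebraMap S R))).comp (IsScalarTower.toAlgHom k R₀ R)) _
      (fun x => inv1 R (R ⧸ J.map (algebraMap S R)) _ hqR _ (hmem0R x)))
  have hg : ∀ x, algebraMap S₁ (S ⧸ J) (g x) = Ideal.Quotient.mk J (algebraMap S₀ S x) := fun x => by
    have := congrArg Subtype.val (eS.apply_symm_apply
      ⟨Ideal.Quotient.mk J (algebraMap S₀ S x), inv1 S (S ⧸ J) _ hqS _ (hmem0S x)⟩)
    exact this
  have hh : ∀ x, algebraMap R₁ (R ⧸ J.map (algebraMap S R)) (h x) =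
      Ideal.Quotient.mk _ (algebraMap R₀ R x) := fun x => by
    have := congrArg Subtype.val (eR.apply_symm_apply
      ⟨Ideal.Quotient.mk _ (algebraMap R₀ R x), inv1 R (R ⧸ J.map (algebraMap S R)) _ hqR _ (hmem0R x)⟩)
    exact this
  have hgs : Function.Surjective g := fun y => by
    obtain ⟨v, hv, hvy⟩ := lift1 S (S ⧸ J) _ Ideal.Quotient.mk_surjective hqS (algebraMap S₁ (S ⧸ J) y)
      (hS₁ ▸ ⟨y, rfl⟩)
    rw [← hS₀] at hv
    obtain ⟨x, rfl⟩ := hv
    exact ⟨x, hS₁i ((hg x).trans hvy)⟩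
  have hhs : Function.Surjective h := fun y => by
    obtain ⟨v, hv, hvy⟩ := lift1 R (R ⧸ J.map (algebraMap S R)) _ Ideal.Quotient.mk_surjective hqR
      (algebraMap R₁ (R ⧸ J.map (algebraMap S R)) y) (hR₁ ▸ ⟨y, rfl⟩)
    rw [← hR₀] at hv
    obtain ⟨x, rfl⟩ := hv
    exact ⟨x, hR₁i ((hh x).trans hvy)⟩
  have hBC : ∀ s : S, algebraMap (S ⧸ J) (R ⧸ J.map (algebraMap S R)) (Ideal.Quotient.mk J s) =
      Ideal.Quotient.mk _ (algebraMap S R s) := fun s => rfl
  have sq : ∀ x, algebraMap S₁ R₁ (g x) = h (algebraMap S₀ R₀ x) := fun x => hR₁i (by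
    rw [hh, ← IsScalarTower.algebraMap_apply S₁ R₁ (R ⧸ J.map (algebraMap S R)),
      IsScalarTower.algebraMap_apply S₁ (S ⧸ J) (R ⧸ J.map (algebraMap S R)), hg, hBC,
      ← IsScalarTower.algebraMap_apply S₀ S R, ← IsScalarTower.algebraMap_apply S₀ R₀ R])
  letI algg : Algebra S₀ S₁ := g.toRingHom.toAlgebra
  letI algh : Algebra S₀ R₁ := ((algebraMap S₁ R₁).comp g.toRingHom).toAlgebra
  haveI : IsScalarTower S₀ S₁ R₁ := IsScalarTower.of_algebraMap_eq' rfl
  haveI : IsScalarTower S₀ S₁ (S ⧸ J) := IsScalarTower.of_algebraMap_eq fun x => (hg x).symm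
  haveI : IsScalarTower S₀ (S ⧸ J) (R ⧸ J.map (algebraMap S R)) :=
    IsScalarTower.of_algebraMap_eq fun x => by
      show Ideal.Quotient.mk _ (algebraMap S₀ R x) =
        algebraMap (S ⧸ J) _ (Ideal.Quotient.mk J (algebraMap S₀ S x))
      rw [hBC, ← IsScalarTower.algebraMap_apply S₀ S R]
  haveI : IsScalarTower S₀ R₀ (R ⧸ J.map (algebraMap S R)) :=
    IsScalarTower.of_algebraMap_eq fun x => by
      show Ideal.Quotient.mk _ (algebraMap S₀ R x) = Ideal.Quotient.mk _ (algebraMap R₀ R _)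
      rw [← IsScalarTower.algebraMap_apply S₀ R₀ R]
  set P := Algebra.TensorProduct.productMap (IsScalarTower.toAlgHom S₀ S R) (IsScalarTower.toAlgHom S₀ R₀ R)
    with hP
  set Q := Algebra.TensorProduct.productMap
    (IsScalarTower.toAlgHom S₀ (S ⧸ J) (R ⧸ J.map (algebraMap S R)))
    (IsScalarTower.toAlgHom S₀ R₀ (R ⧸ J.map (algebraMap S R))) with hQ
  let π := Algebra.TensorProduct.map (Ideal.Quotient.mkₐ S₀ J) (AlgHom.id S₀ R₀)
  have hπ : Function.Surjective π := fun w => by
    induction w with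
    | zero => exact ⟨0, map_zero _⟩
    | add x y hx hy =>
      obtain ⟨a, rfl⟩ := hx; obtain ⟨b, rfl⟩ := hy
      exact ⟨a + b, map_add _ _ _⟩
    | tmul x y =>
      obtain ⟨s, rfl⟩ := Ideal.Quotient.mk_surjective x
      exact ⟨s ⊗ₜ y, by simp [π]⟩
  have hQπ : ∀ v, Q (π v) = Ideal.Quotient.mk _ (P v) := fun v => by
    induction v with
    | zero => simp
    | add x y hx hy => simp only [map_add, hx, hy]
    | tmul x y =>
      simp only [π, P, Q, Algebra.TensorProduct.map_tmul, Algebra.TensorProduct.productMap_apply_tmul,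
        map_mul]
      rfl
  have hQb : Function.Bijective Q := by
    refine ⟨(injective_iff_map_eq_zero _).mpr fun w hw => ?_, fun c => ?_⟩
    · obtain ⟨v, rfl⟩ := hπ w
      rw [hQπ, Ideal.Quotient.eq_zero_iff_mem] at hw
      let inl : S →+* S ⊗[S₀] R₀ := (Algebra.TensorProduct.includeLeft : S →ₐ[S₀] S ⊗[S₀] R₀).toRingHom
      have e : J.map (algebraMap S R) = (J.map inl).map P.toRingHom := by
        rw [Ideal.map_map]
        congr 1
        refine RingHom.ext fun s => ?_
        simp [inl, P]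
      rw [e] at hw
      obtain ⟨v', hv', he⟩ := (Ideal.mem_map_iff_of_surjective _ hcart.2).mp hw
      have hvv : v ∈ J.map inl := hcart.1 he ▸ hv'
      have hle : J.map inl ≤ RingHom.ker π.toRingHom := by
        rw [Ideal.map_le_iff_le_comap]
        intro s hs
        show π (s ⊗ₜ[S₀] (1 : R₀)) = 0
        simp [π, Ideal.Quotient.eq_zero_iff_mem.mpr hs]
      exact hle hvv
    · obtain ⟨r, rfl⟩ := Ideal.Quotient.mk_surjective c
      obtain ⟨v, rfl⟩ := hcart.2 r
      exact ⟨π v, hQπ v⟩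
  have etBC : Algebra.Etale (S ⧸ J) (R ⧸ J.map (algebraMap S R)) := by
    let e1 : (S ⧸ J) ⊗[S] R →ₐ[S ⧸ J] R ⧸ J.map (algebraMap S R) :=
      Algebra.TensorProduct.lift (Algebra.ofId _ _) (IsScalarTower.toAlgHom S R _) fun a b => .all _ _
    have e1b : Function.Bijective e1 := by
      have : ∀ u, e1 u = (Algebra.TensorProduct.quotIdealMapEquivTensorQuot R J).symm
          (Algebra.TensorProduct.comm S (S ⧸ J) R u) := by
        intro u
        induction u with
        | zero => simp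
        | add x y hx hy => simp only [map_add, hx, hy]
        | tmul x y =>
          obtain ⟨s, rfl⟩ := Ideal.Quotient.mk_surjective x
          rw [eq_comm, AlgEquiv.symm_apply_eq, Algebra.TensorProduct.comm_tmul,
            show e1 (Ideal.Quotient.mk J s ⊗ₜ[S] y) = Ideal.Quotient.mk _ (algebraMap S R s * y) from by
              rw [map_mul, ← hBC]; exact Algebra.TensorProduct.lift_tmul _ _ _ _ _,
            Algebra.TensorProduct.quotIdealMapEquivTensorQuot_mk, ← Algebra.smul_def,
            TensorProduct.smul_tmul]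
          congr 1
          rw [Algebra.smul_def, mul_one]
          rfl
      rw [show ⇑e1 = _ from funext this]
      exact ((Algebra.TensorProduct.quotIdealMapEquivTensorQuot R J).symm.bijective).comp
        (Algebra.TensorProduct.comm S (S ⧸ J) R).bijective
    exact Algebra.Etale.of_equiv (AlgEquiv.ofBijective e1 e1b)
  haveI : Module.Flat S₀ R₀ := inferInstance
  let hR : R₀ →ₐ[S₀] R₁ := { h.toRingHom with commutes' := fun x => (sq x).symm }
  let Ψ : S₁ ⊗[S₀] R₀ →ₐ[S₁] R₁ := Algebra.TensorProduct.lift (Algebra.ofId S₁ R₁) hR fun a b => .all _ _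
  let j := LinearMap.rTensor R₀ (IsScalarTower.toAlgHom S₀ S₁ (S ⧸ J)).toLinearMap
  have hΨQ : ∀ w, algebraMap R₁ (R ⧸ J.map (algebraMap S R)) (Ψ w) = Q (j w) := fun w => by
    induction w with
    | zero => simp
    | add x y hx hy => simp only [map_add, hx, hy]
    | tmul x y =>
      simp only [Ψ, j, Q, Algebra.TensorProduct.lift_tmul, LinearMap.rTensor_tmul, map_mul,
        Algebra.TensorProduct.productMap_apply_tmul, Algebra.ofId_apply,
        ← IsScalarTower.algebraMap_apply S₁ R₁]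
      congr 1
      · exact IsScalarTower.algebraMap_apply S₁ (S ⧸ J) _ x
      · exact hh y
  have hΨb : Function.Bijective Ψ := by
    refine ⟨fun a b hab => ?_, fun y => ?_⟩
    · have h1 : Q (j a) = Q (j b) := by rw [← hΨQ, ← hΨQ, hab]
      exact Module.Flat.rTensor_preserves_injective_linearMap _ hS₁i (hQb.1 h1)
    · obtain ⟨x, rfl⟩ := hhs y
      exact ⟨1 ⊗ₜ x, by simp [Ψ, hR]⟩
  refine ⟨etBC, Algebra.Etale.of_equiv (AlgEquiv.ofBijective Ψ hΨb), ?_⟩
  let T : (S ⧸ J) ⊗[S₀] R₀ →ₐ[S₀] (S ⧸ J) ⊗[S₁] R₁ :=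
    Algebra.TensorProduct.lift (IsScalarTower.toAlgHom S₀ (S ⧸ J) _)
      (((Algebra.TensorProduct.includeRight : R₁ →ₐ[S₁] (S ⧸ J) ⊗[S₁] R₁).restrictScalars S₀).comp hR)
      fun a b => .all _ _
  have hT : Function.Surjective T := fun w => by
    induction w with
    | zero => exact ⟨0, map_zero _⟩
    | add x y hx hy =>
      obtain ⟨a, rfl⟩ := hx; obtain ⟨b, rfl⟩ := hy
      exact ⟨a + b, map_add _ _ _⟩
    | tmul x y =>
      obtain ⟨z, rfl⟩ := hhs y
      exact ⟨x ⊗ₜ z, by simp [T, hR]⟩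
  set P1 := Algebra.TensorProduct.productMap
    (IsScalarTower.toAlgHom S₁ (S ⧸ J) (R ⧸ J.map (algebraMap S R)))
    (IsScalarTower.toAlgHom S₁ R₁ (R ⧸ J.map (algebraMap S R)))
  have hP1 : ∀ u, P1 (T u) = Q u := fun u => by
    induction u with
    | zero => simp
    | add x y hx hy => simp only [map_add, hx, hy]
    | tmul x y =>
      simp [P1, T, Q, hR, hh]
  refine ⟨fun a b hab => ?_, fun c => ?_⟩
  · obtain ⟨a', rfl⟩ := hT a
    obtain ⟨b', rfl⟩ := hT b
    rw [hP1, hP1] at hab
    rw [hQb.1 hab]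
  · obtain ⟨u, rfl⟩ := hQb.2 c
    exact ⟨T u, hP1 u⟩

end Groth.Agent.S19408
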