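import Groth.Statements.S19411
import Groth.Agent.L15.LinTriv
-- import your own Groth.Agent.* helpers here

set_option autoImplicit false
universe u
open TensorProduct
open GLin

namespace Groth.Agent.S19411

/-- Let k be an uncountable algebraically closed field of characteristic zero, A a finitely generated
commutative Hopf algebra over k all of whose finite-dimensional comodules are semisimple (a
reductive group G), and R a reduced finitely generated commutative k-algebra whose prime spectrum is
connected, with a multiplicative A-coaction ρ (G acting on the connected affine scheme X = Spec R).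
Let θ ∈ R ⊗ A be such that the map r ↦ ρ(r)·θ from R to R ⊗ A is coassociative and counital (a
structure of G-line bundle on the trivial line bundle of X, θ being the corresponding invertible
function on X × G). Suppose that either every unit of A is a scalar multiple of a group-like element
(every invertible function on G is a constant times a character), or every unit of R is a scalar
(every invertible function on X is constant). Then θ = 1 ⊗ χ for some group-like element χ of A: the
G-line bundle is the one attached to the character χ. (Stated for G-line bundle structures on the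
trivial bundle, the case to which the hypothesis of a trivial Picard group reduces the source's
statement; uncountability of k is what the argument uses in the first case.) -/
theorem result (k : Type u) [Field k] [IsAlgClosed k] [CharZero k] [Uncountable k]
    (A : Type u) [CommRing A] [HopfAlgebra k A] [Algebra.FiniteType k A] (hG : HopfRep.IsLinearlyReductive k A)
    (R : Type u) [CommRing R] [IsReduced R] [Algebra k R] [Algebra.FiniteType k R] [HopfRep.Comod k A R] [GLin.IsCoactAlg k A R]
    [ConnectedSpace (PrimeSpectrum R)]
    (θ : R ⊗[k] A)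
    (hassoc : (TensorProduct.assoc k R A A).toLinearMap ∘ₗ
        ((LinearMap.mulRight k θ) ∘ₗ HopfRep.Comod.coact (k := k) (A := A) (V := R)).rTensor A ∘ₗ
          ((LinearMap.mulRight k θ) ∘ₗ HopfRep.Comod.coact (k := k) (A := A) (V := R)) =
      (CoalgebraStruct.comul (R := k) (A := A)).lTensor R ∘ₗ
        ((LinearMap.mulRight k θ) ∘ₗ HopfRep.Comod.coact (k := k) (A := A) (V := R)))
    (hcounit : (CoalgebraStruct.counit (R := k) (A := A)).lTensor R ∘ₗ
        ((LinearMap.mulRight k θ) ∘ₗ HopfRep.Comod.coact (k := k) (A := A) (V := R)) =
      (TensorProduct.mk k R k).flip 1)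
    (h : (∀ u : Aˣ, ∃ (c : k) (χ : A), IsGroupLikeElem k χ ∧ (u : A) = c • χ) ∨
      (∀ u : Rˣ, (u : R) ∈ Set.range (algebraMap k R))) :
    ∃ χ : A, IsGroupLikeElem k χ ∧ θ = (1 : R) ⊗ₜ[k] χ := by
  obtain ⟨hc, hu, ha⟩ := Groth.L15.LinTriv.facts θ hassoc hcounit
  haveI : Nontrivial R := PrimeSpectrum.nonempty_iff_nontrivial.1 inferInstance
  obtain ⟨x₀⟩ := Groth.L15.LinTriv.exists_point (k := k) (R := R)
  have hε : ∀ (x : R →ₐ[k] k) (z : R ⊗[k] A),
      CoalgebraStruct.counit (R := k) (A := A) (Groth.L15.LinTriv.res x z) =
        x (TensorProduct.rid k R ((CoalgebraStruct.counit (R := k) (A := A)).lTensor R z)) := fun x z => by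
    induction z using TensorProduct.induction_on with
    | zero => simp
    | add p q hp hq => simp [hp, hq]
    | tmul r a => simp [mul_comm]
  have hε1 : ∀ x : R →ₐ[k] k, CoalgebraStruct.counit (R := k) (A := A) (Groth.L15.LinTriv.res x θ) = 1 := fun x => by
    rw [hε, hc]; simp
  rcases h with h | h
  · refine Groth.L15.LinTriv.eq_tmul_of_isGroupLike θ fun x => ?_
    obtain ⟨c, χ, hχ, hcχ⟩ := h (hu.map (Groth.L15.LinTriv.res x)).unit
    rw [IsUnit.unit_spec] at hcχ
    have hc1 : c = 1 := by
      have := hε1 x
      rw [hcχ, map_smul, hχ.counit_eq_one, smul_eq_mul, mul_one] at this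
      exact this
    rw [hcχ, hc1, one_smul]
    exact hχ
  · have hswap : ∀ (g : A →ₐ[k] k) (x : R →ₐ[k] k) (z : R ⊗[k] A),
        g (Groth.L15.LinTriv.res x z) =
          x (Algebra.TensorProduct.rid k k R (Algebra.TensorProduct.map (AlgHom.id k R) g z)) := fun g x z => by
      induction z using TensorProduct.induction_on with
      | zero => simp
      | add p q hp hq => simp [hp, hq]
      | tmul r a => simp [mul_comm]
    have heq : ∀ x, Groth.L15.LinTriv.res x θ = Groth.L15.LinTriv.res x₀ θ := fun x => sub_eq_zero.1
      (Groth.L08.CartierRed.eq_zero_of_forall_point fun g => by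
        obtain ⟨c, hc'⟩ := h ((hu.map (Algebra.TensorProduct.map (AlgHom.id k R) g)).map
          (Algebra.TensorProduct.rid k k R)).unit
        rw [IsUnit.unit_spec] at hc'
        rw [map_sub, hswap, hswap, ← hc', AlgHom.commutes, AlgHom.commutes, sub_self])
    set χ := Groth.L15.LinTriv.res x₀ θ with hχdef
    have hθ : θ = (1 : R) ⊗ₜ[k] χ := sub_eq_zero.1 (Groth.L15.LinTriv.eq_zero_of_forall_res fun x => by
      rw [map_sub, Groth.L15.LinTriv.res_tmul, map_one, one_smul, heq x, sub_self])
    refine ⟨χ, ⟨hε1 x₀, ?_⟩, hθ⟩
    clear_value χ
    subst hθ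
    rw [LinearMap.rTensor_tmul, LinearMap.lTensor_tmul, LinearMap.comp_apply,
      GLin.IsCoactAlg.coact_one (k := k) (A := A) (R := R), LinearMap.mulRight_apply, one_mul,
      TensorProduct.assoc_tmul] at ha
    have := congrArg (fun z => TensorProduct.lid k (A ⊗[k] A) (x₀.toLinearMap.rTensor (A ⊗[k] A) z)) ha
    simpa using this.symm

end Groth.Agent.S19411
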