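import Groth.Statements.S19412
import Groth.Agent.L08.Luna.Finite
import Mathlib.RingTheory.Etale.Basic
-- import your own Groth.Agent.* helpers here

set_option autoImplicit false
universe u
open TensorProduct
open GLin

namespace Groth.Agent.S19412

open PrimeSpectrum in
/-- Closedness of the image of a spectrum map only depends on the range. -/
theorem isClosed_range_comap_iff {R : Type u} {B : Type u} [CommRing R] [CommRing B] (f : R →+* B) :
    IsClosed (Set.range (comap f)) ↔ Function.Surjective (comap f.range.subtype) := by
  have hf : Set.range (comap f) = comap f.rangeRestrict '' Set.range (comap f.range.subtype) := by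
    rw [← Set.range_comp]
    exact congrArg Set.range (by rw [← PrimeSpectrum.comap_comp]; rfl)
  have hv : Set.range (comap f.rangeRestrict) = closure (Set.range (comap f)) := by
    rw [closure_range_comap, range_comap_of_surjective _ _ f.rangeRestrict_surjective, f.ker_rangeRestrict]
  constructor
  · intro h p
    obtain ⟨P, hP⟩ := (h.closure_eq ▸ hv ▸ ⟨p, rfl⟩ : comap f.rangeRestrict p ∈ Set.range (comap f))
    exact ⟨P, PrimeSpectrum.comap_injective_of_surjective _ f.rangeRestrict_surjective hP⟩
  · intro h
    rw [hf, h.range_eq, Set.image_univ, hv]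
    exact isClosed_closure


/-- Let k be an algebraically closed field of characteristic zero, A a finitely generated commutative
Hopf algebra over k (an algebraic group G), S and R finitely generated commutative k-algebras with
multiplicative A-coactions (G acting on affine Y = Spec S, X = Spec R), S → R an algebra map
compatible with the coactions (a G-morphism φ : X → Y), S₀ → S and R₀ → R injective k-algebra maps
whose images are the subrings of invariants, and S₀ → R₀ an algebra map with S₀ → R₀ → R equal to S₀
→ S → R (φ/G). Suppose R₀ is étale over S₀ and the canonical map S ⊗_{S₀} R₀ → R is bijective (φ is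
strongly étale: φ/G étale and X ≅ Y ×_{Y//G} X//G). Then R is étale over S (φ étale), and for every
k-point x of X: every k-point of G fixing the image point φ(x) fixes x (φ restricted to the orbit of
x is injective), and the orbit of x is closed if and only if the orbit of φ(x) is closed. (The
published item also asserts that φ is surjective; that fails when φ is the inclusion of a proper
saturated open subset, which is strongly étale, so surjectivity is not asserted here.) -/
theorem result (k : Type u) [Field k] [IsAlgClosed k] [CharZero k]
    (A : Type u) [CommRing A] [HopfAlgebra k A] [Algebra.FiniteType k A]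
    (S : Type u) [CommRing S] [Algebra k S] [Algebra.FiniteType k S] [HopfRep.Comod k A S] [GLin.IsCoactAlg k A S]
    (R : Type u) [CommRing R] [Algebra k R] [Algebra.FiniteType k R] [HopfRep.Comod k A R] [GLin.IsCoactAlg k A R]
    [Algebra S R] [IsScalarTower k S R]
    (hequiv : (∀ s : S, HopfRep.Comod.coact (k := k) (A := A) (algebraMap S R s) =
      Algebra.TensorProduct.map (IsScalarTower.toAlgHom k S R) (AlgHom.id k A) (HopfRep.Comod.coact (k := k) (A := A) s)))
    (S₀ : Type u) [CommRing S₀] [Algebra k S₀] [Algebra S₀ S] [IsScalarTower k S₀ S]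
    (hS₀i : Function.Injective (algebraMap S₀ S)) (hS₀ : (IsScalarTower.toAlgHom k S₀ S).range = GLin.invariants k A S)
    (R₀ : Type u) [CommRing R₀] [Algebra k R₀] [Algebra R₀ R] [IsScalarTower k R₀ R]
    (hR₀i : Function.Injective (algebraMap R₀ R)) (hR₀ : (IsScalarTower.toAlgHom k R₀ R).range = GLin.invariants k A R)
    [Algebra S₀ R₀] [Algebra S₀ R] [IsScalarTower S₀ S R] [IsScalarTower S₀ R₀ R]
    (het₀ : Algebra.Etale S₀ R₀)
    (hcart : Function.Bijective (Algebra.TensorProduct.productMap (IsScalarTower.toAlgHom S₀ S R) (IsScalarTower.toAlgHom S₀ R₀ R))) :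
    Algebra.Etale S R ∧
      ∀ x : R →ₐ[k] k,
        (∀ g : A →ₐ[k] k, GLin.actPt k g (x.comp (IsScalarTower.toAlgHom k S R)) = x.comp (IsScalarTower.toAlgHom k S R) →
          GLin.actPt k g x = x) ∧
        (GLin.IsClosedOrbit k A x ↔ GLin.IsClosedOrbit k A (x.comp (IsScalarTower.toAlgHom k S R))) := by
  let ι := IsScalarTower.toAlgHom k S R
  let e : TensorProduct S₀ S R₀ →ₐ[S] R :=
    Algebra.TensorProduct.lift (Algebra.ofId S R) (IsScalarTower.toAlgHom S₀ R₀ R) fun _ _ => .all _ _
  have he : Function.Bijective e := hcart
  haveI := het₀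
  refine ⟨Algebra.Etale.of_equiv (AlgEquiv.ofBijective e he), fun x => ?_⟩
  -- functions on `R` are generated by those of `S` and the invariants
  have hgen : ∀ P : R → Prop, P 0 → (∀ a b, P a → P b → P (a + b)) →
      (∀ s c, P (algebraMap S R s * algebraMap R₀ R c)) → ∀ r, P r := by
    intro P h0 hadd hmul r
    obtain ⟨t, rfl⟩ := he.2 r
    induction t using TensorProduct.induction_on with
    | zero => rw [map_zero]; exact h0
    | add p q hp hq => rw [map_add]; exact hadd _ _ hp hq
    | tmul p q => rw [Algebra.TensorProduct.lift_tmul]; exact hmul p q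
  have hinv : ∀ c, algebraMap R₀ R c ∈ GLin.invariants k A R := fun c => hR₀ ▸ ⟨c, rfl⟩
  have hox : ∀ c, GLin.orbitHom k A x (algebraMap R₀ R c) = algebraMap k A (x (algebraMap R₀ R c)) := fun c => by
    rw [GLin.orbitHom, AlgHom.comp_apply, AlgHom.comp_apply, GLin.coactAlgHom_apply,
      (GLin.mem_invariants_iff k A R _).1 (hinv c)]
    simp [Algebra.algebraMap_eq_smul_one]
  have hcomp := Groth.L08.Luna.orbitHom_comp (φ := ι) hequiv x
  refine ⟨fun g hg => AlgHom.ext (hgen (fun r => GLin.actPt k g x r = x r) (by simp only [map_zero])
    (fun a b ha hb => by simp only [map_add, ha, hb]) fun s c => ?_), ?_⟩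
  · rw [map_mul, map_mul]
    congr 1
    · have := AlgHom.congr_fun hg s
      rw [GLin.actPt, ← hcomp] at this
      exact this
    · rw [GLin.actPt, AlgHom.comp_apply, hox, AlgHom.commutes]
      rfl
  · have hr : (GLin.orbitHom k A x).toRingHom.range = (GLin.orbitHom k A (x.comp ι)).toRingHom.range := by
      refine le_antisymm ?_ ?_
      · rintro _ ⟨r, rfl⟩
        refine hgen (fun r => GLin.orbitHom k A x r ∈ (GLin.orbitHom k A (x.comp ι)).toRingHom.range)
          (by rw [map_zero]; exact zero_mem _) (fun a b ha hb => by rw [map_add]; exact add_mem ha hb)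
          (fun s c => ⟨x (algebraMap R₀ R c) • s, ?_⟩) r
        show GLin.orbitHom k A (x.comp ι) _ = _
        rw [map_mul, hox, ← hcomp, map_smul, AlgHom.comp_apply, Algebra.smul_def, mul_comm]
        rfl
      · rw [← hcomp]
        rintro _ ⟨s, rfl⟩
        exact ⟨ι s, rfl⟩
    show IsClosed _ ↔ IsClosed _
    rw [isClosed_range_comap_iff, isClosed_range_comap_iff]
    rw [hr]

end Groth.Agent.S19412
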