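import Groth.Statements.S19418
import Groth.Agent.L11.Weil.CorrTrace

set_option autoImplicit false
universe u v
open CategoryTheory AlgebraicGeometry
open WeilCoh

namespace Groth.Agent.S19418

/-- Key step, cohomological form: let H be a Weil cohomology theory with coefficients in a field K of
characteristic zero on nonsingular connected projective varieties over an algebraically closed field
k, X such a variety of dimension n, P = X × X with projections p, q and the swap automorphism σ (σ p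
= q, σ q = p); the identity dim P = 2n is carried as the arithmetic hypothesis hdim. A class u ∈
H^{2n}(P) acts as a degree-0 correspondence on each H^j(X), 0 ≤ j ≤ 2n, by β ↦ q_*(p^*(β) · u); call
u algebraic when it lies in the K-linear span of the classes of closed irreducible subsets of P, and
let A be the K-subalgebra of ∏_j End_K(H^j(X)) generated by the actions of the algebraic classes in
H^{2n}(P). If u is algebraic and ψ ∘ (action of u) is nilpotent for every ψ ∈ A — that is, the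
action of u lies in the Jacobson radical of the finite-dimensional algebra A — then u is numerically
trivial against algebraic classes: Tr_P(u · v) = 0 for every algebraic v ∈ H^{2n}(P). In the
published argument this is the step showing that the algebra of degree-0 algebraic correspondences
modulo numerical equivalence has zero Jacobson radical, hence is semisimple; it is stated here on
the cohomological side, with the algebra generated by the correspondence actions in place of the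
algebra of cycle classes. -/
theorem result (k : Type u) [Field k] [IsAlgClosed k]
    (K : Type v) [Field K] [CharZero K] (T : WeilCoh.Theory k K) (X P : WeilCoh.Var k)
    (p q : P ⟶ X) (hP : WeilCoh.IsProd p q) (σ : P ⟶ P) (hσp : σ ≫ p = q) (hσq : σ ≫ q = p)
    (hdim : ∀ j : ℤ, j + 2 * (WeilCoh.dim X.obj.left : ℤ) + 2 * (WeilCoh.dim X.obj.left : ℤ) - 2 * (WeilCoh.dim P.obj.left : ℤ) = j)
    (u : ↥(T.gr P (2 * (WeilCoh.dim X.obj.left : ℤ)))) (hu : (u : T.H P) ∈ Submodule.span K (Set.range (T.cl P)))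
    (hJ : ∀ ψ ∈ Algebra.adjoin K
          (Set.range (fun w : {w : ↥(T.gr P (2 * (WeilCoh.dim X.obj.left : ℤ))) // (w : T.H P) ∈ Submodule.span K (Set.range (T.cl P))} =>
            fun j : Fin (2 * WeilCoh.dim X.obj.left + 1) =>
              ((LinearEquiv.ofEq (T.gr X (((j : ℕ) : ℤ) + 2 * (WeilCoh.dim X.obj.left : ℤ) + 2 * (WeilCoh.dim X.obj.left : ℤ) - 2 * (WeilCoh.dim P.obj.left : ℤ))) (T.gr X ((j : ℕ) : ℤ)) (congrArg (T.gr X) (hdim ((j : ℕ) : ℤ)))).toLinearMap ∘ₗ
              ((T.push q (((j : ℕ) : ℤ) + 2 * (WeilCoh.dim X.obj.left : ℤ))) ∘ₗ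
                (((LinearMap.mulRight K (w.1 : T.H P)).restrict (p := T.gr P ((j : ℕ) : ℤ))
                    (q := T.gr P (((j : ℕ) : ℤ) + 2 * (WeilCoh.dim X.obj.left : ℤ))) (fun x hx => SetLike.mul_mem_graded hx w.1.2)) ∘ₗ
                  T.pullDeg p ((j : ℕ) : ℤ)))))),
        IsNilpotent (ψ * fun j : Fin (2 * WeilCoh.dim X.obj.left + 1) =>
          ((LinearEquiv.ofEq (T.gr X (((j : ℕ) : ℤ) + 2 * (WeilCoh.dim X.obj.left : ℤ) + 2 * (WeilCoh.dim X.obj.left : ℤ) - 2 * (WeilCoh.dim P.obj.left : ℤ))) (T.gr X ((j : ℕ) : ℤ)) (congrArg (T.gr X) (hdim ((j : ℕ) : ℤ)))).toLinearMap ∘ₗ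
              ((T.push q (((j : ℕ) : ℤ) + 2 * (WeilCoh.dim X.obj.left : ℤ))) ∘ₗ
                (((LinearMap.mulRight K (u : T.H P)).restrict (p := T.gr P ((j : ℕ) : ℤ))
                    (q := T.gr P (((j : ℕ) : ℤ) + 2 * (WeilCoh.dim X.obj.left : ℤ))) (fun x hx => SetLike.mul_mem_graded hx u.2)) ∘ₗ
                  T.pullDeg p ((j : ℕ) : ℤ))))))
    (v : ↥(T.gr P (2 * (WeilCoh.dim X.obj.left : ℤ)))) (hv : (v : T.H P) ∈ Submodule.span K (Set.range (T.cl P))) :
    T.tr P ((u : T.H P) * (v : T.H P)) = 0 := by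
  have hsect : σ ≫ σ = 𝟙 P := by
    refine ObjectProperty.hom_ext _ (Over.OverMorphism.ext (hP.hom_ext ?_ ?_))
    · change (WeilCoh.sm (σ ≫ σ)) ≫ WeilCoh.sm p = WeilCoh.sm (𝟙 P) ≫ WeilCoh.sm p
      rw [← Groth.L11.Weil.sm_comp, ← Groth.L11.Weil.sm_comp, Category.assoc, hσp, hσq, Category.id_comp]
    · change (WeilCoh.sm (σ ≫ σ)) ≫ WeilCoh.sm q = WeilCoh.sm (𝟙 P) ≫ WeilCoh.sm q
      rw [← Groth.L11.Weil.sm_comp, ← Groth.L11.Weil.sm_comp, Category.assoc, hσq, hσp, Category.id_comp]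
  have hinv : ∀ y, WeilCoh.sm σ (WeilCoh.sm σ y) = y := fun y => by
    change (WeilCoh.sm σ ≫ WeilCoh.sm σ) y = y
    rw [← Groth.L11.Weil.sm_comp, hsect]; rfl
  haveI : IsIso (WeilCoh.sm σ) :=
    ⟨WeilCoh.sm σ, by rw [← Groth.L11.Weil.sm_comp, hsect]; rfl, by rw [← Groth.L11.Weil.sm_comp, hsect]; rfl⟩
  have hcl : ∀ ξ : P.obj.left, T.pull σ (T.cl P ξ) ∈ Submodule.span K (Set.range (T.cl P)) := fun ξ => by
    rw [T.cl_pull σ ξ (fun w hw => ?_) (Or.inl ⟨⊤, Set.subset_univ _, IsZariskiLocalAtTarget.restrict (P := @Flat) inferInstance ⊤⟩)]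
    · exact finsum_induction (· ∈ Submodule.span K (Set.range (T.cl P))) (zero_mem _) (fun _ _ => add_mem)
        fun w => Submodule.smul_mem _ _ (Submodule.subset_span ⟨_, rfl⟩)
    · have h1 : WeilCoh.sm σ ξ ⤳ w := by
        have h2 : ξ ⤳ WeilCoh.sm σ w := specializes_iff_mem_closure.mpr hw.1
        have := h2.map (WeilCoh.sm σ).continuous
        rwa [hinv] at this
      have hw' : WeilCoh.sm σ ξ = w := hw.2 _ (by rw [Set.mem_preimage, hinv]; exact subset_closure rfl) h1
      rw [← hw', Groth.L11.Weil.pdim_section σ σ hsect]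
      ring
  have hv' : T.pull σ (v : T.H P) ∈ Submodule.span K (Set.range (T.cl P)) := by
    have : Submodule.span K (Set.range (T.cl P)) ≤ (Submodule.span K (Set.range (T.cl P))).comap (T.pull σ).toLinearMap :=
      Submodule.span_le.mpr fun _ ⟨ξ, h⟩ => h ▸ hcl ξ
    exact this hv
  let ψ : ↥(T.gr P (2 * (WeilCoh.dim X.obj.left : ℤ))) := ⟨_, T.pull_mem σ _ _ v.2⟩
  let act : ↥(T.gr P (2 * (WeilCoh.dim X.obj.left : ℤ))) → (j : ℕ) → Module.End K ↥(T.gr X (j : ℤ)) := fun w j =>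
    ((LinearEquiv.ofEq (T.gr X ((j : ℤ) + 2 * (WeilCoh.dim X.obj.left : ℤ) + 2 * (WeilCoh.dim X.obj.left : ℤ) - 2 * (WeilCoh.dim P.obj.left : ℤ))) (T.gr X (j : ℤ)) (congrArg (T.gr X) (hdim (j : ℤ)))).toLinearMap ∘ₗ
      ((T.push q ((j : ℤ) + 2 * (WeilCoh.dim X.obj.left : ℤ))) ∘ₗ
        (((LinearMap.mulRight K (w : T.H P)).restrict (p := T.gr P (j : ℤ))
            (q := T.gr P ((j : ℤ) + 2 * (WeilCoh.dim X.obj.left : ℤ))) (fun x hx => SetLike.mul_mem_graded hx w.2)) ∘ₗ
          T.pullDeg p (j : ℤ))))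
  have hv2 : (v : T.H P) = T.pull σ (ψ : T.H P) := by
    change _ = T.pull σ (T.pull σ (v : T.H P))
    rw [← AlgHom.comp_apply, ← T.pull_comp, hsect, T.pull_id, AlgHom.id_apply]
  rw [hv2, Groth.L11.Weil.tr_mul_pull_swap T hP hP σ hσp hσq (by simp only [Groth.L11.Weil.top]) u ψ
    (fun i => act ψ i * act u i) fun i x => ⟨(i : ℤ), act u i x,
      ⟨_, SetLike.mul_mem_graded (T.pull_mem p _ _ x.2) u.2⟩,
      ⟨_, SetLike.mul_mem_graded (T.pull_mem p _ _ (act u i x).2) ψ.2⟩, rfl, rfl, rfl, rfl⟩]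
  refine Finset.sum_eq_zero fun i hi => ?_
  obtain ⟨N, hN⟩ := hJ _ (Algebra.subset_adjoin ⟨⟨ψ, hv'⟩, rfl⟩)
  have hnil : IsNilpotent (act ψ i * act u i) := ⟨N, congrFun hN ⟨i, Finset.mem_range.mp hi⟩⟩
  rw [isNilpotent_iff_eq_zero.mp (LinearMap.isNilpotent_trace_of_isNilpotent hnil), mul_zero]

end Groth.Agent.S19418
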