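import Groth.Statements.S19420
import Groth.Agent.L14.HM.Hessian
import Groth.Agent.L14.HM.SortedSemi
import Groth.Agent.L14.HM.Criterion
import Groth.Agent.L14.HM.Limit
import Mathlib.Tactic.Linarith

set_option autoImplicit false
universe u
open TensorProduct LaurentPolynomial
open GIT

namespace Groth.Agent.S19420

/-- Let k be an algebraically closed field of characteristic zero and let SL_3 act by substitution on
ternary cubic forms, the point a having the form F = Σ_m (3; m) a_m x^m. Then a is semistable (some
invariant homogeneous polynomial of positive degree in the coefficients is non-zero at a) if and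
only if at every non-zero vector w where all first partial derivatives of F vanish, the matrix of
second partial derivatives of F at w has rank 2: every singular point of the plane cubic F = 0 is a
double point with two distinct tangent lines. (The published statement assumes only that the
characteristic of k is neither 2 nor 3; it is stated here in characteristic zero.) -/
theorem result (k : Type u) [Field k] [IsAlgClosed k] [CharZero k]
    (a : CoordGrp.FormIdx 3 3 → k) :
    @GLin.IsSemistableVec k _ (CoordGrp.SLn 3 k) _ _ (CoordGrp.FormIdx 3 3) (GLin.comodAlong ((CoordGrp.SLn.mkHom 3 k).comp (CoordGrp.Mat.toGLn 3 k)) (CoordGrp.formsCoact k 3 3))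
      (GLin.isCoactAlg_comodAlong ((CoordGrp.SLn.mkHom 3 k).comp (CoordGrp.Mat.toGLn 3 k)) (CoordGrp.formsCoact k 3 3)
        (CoordGrp.formsCoact_isCoactAlg k 3 3))
      a ↔
      ∀ w : Fin 3 → k, w ≠ 0 →
        (∀ i : Fin 3, MvPolynomial.eval w (MvPolynomial.pderiv i (CoordGrp.formPoly a)) = 0) →
          (Matrix.of fun i j : Fin 3 =>
            MvPolynomial.eval w (MvPolynomial.pderiv i (MvPolynomial.pderiv j (CoordGrp.formPoly a)))).rank = 2 := by
  classical
  have hF := Groth.L14.HM.formPoly_isHomogeneous a
  refine ⟨fun hst w hw0 hw => ?_, fun h => Groth.L14.HM.isSemistableVec_of_semi (n := 2) (m := 3) a ?_⟩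
  · by_contra hrank
    obtain ⟨M, hM, hz1, hz2⟩ := Groth.L14.HM.exists_degenerate_point (n := 1) (d := 1) hF hw0 hw hrank
    refine Groth.L14.HM.not_isSemistableVec_of_weights (n := 2) (m := 3) a M hM ![-5, 2, 3] (by decide)
      (fun e he => ?_) hst
    have hdeg : e 0 + e 1 + e 2 = 3 := by
      have h1 : e.degree = 3 := by
        by_contra hne
        exact he ((Groth.L14.HM.isHomogeneous_sub M hF).coeff_eq_zero hne)
      rwa [Finsupp.degree_eq_sum, Fin.sum_univ_three] at h1
    have hlow : e 0 ≤ 1 ∧ (e 0 = 1 → e 1 = 0) := by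
      refine ⟨?_, fun h0 => ?_⟩
      · by_contra hgt
        obtain ⟨i, hi⟩ : ∃ i : Fin 3, e = Finsupp.single 0 2 + Finsupp.single i 1 := by
          by_cases h3 : e 0 = 3
          · refine ⟨0, Finsupp.ext fun j => ?_⟩
            fin_cases j <;> simp <;> omega
          · by_cases h1 : e 1 = 1
            · refine ⟨1, Finsupp.ext fun j => ?_⟩
              fin_cases j <;> simp <;> omega
            · refine ⟨2, Finsupp.ext fun j => ?_⟩
              fin_cases j <;> simp <;> omega
        exact he (hi ▸ hz1 i)
      · by_contra hne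
        obtain ⟨i, hi⟩ : ∃ i : Fin 3, e = Finsupp.single 0 1 + Finsupp.single 1 1 + Finsupp.single i 1 := by
          by_cases h2 : e 1 = 2
          · refine ⟨1, Finsupp.ext fun j => ?_⟩
            fin_cases j <;> simp <;> omega
          · refine ⟨2, Finsupp.ext fun j => ?_⟩
            fin_cases j <;> simp <;> omega
        exact he (hi ▸ hz2 i)
    change (0 : ℤ) < ∑ j : Fin 3, e j • (![-5, 2, 3] : Fin 3 → ℤ) j
    rw [Fin.sum_univ_three]
    simp
    omega
  · by_contra hns
    obtain ⟨M, G, _, _, _, g, hM, hanti, hsum, hlt⟩ := Groth.L14.HM.exists_sorted_semi hns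
    rw [Fin.sum_univ_three] at hsum
    have h01 : g 1 ≤ g 0 := hanti (by decide)
    have h12 : g 2 ≤ g 1 := hanti (by decide)
    have hG : (Groth.L14.PointSet.sub M (CoordGrp.formPoly a)).IsHomogeneous 3 :=
      Groth.L14.HM.isHomogeneous_sub M hF
    have hzero : ∀ e : Fin 3 →₀ ℕ, 0 ≤ e 0 • g 0 + e 1 • g 1 + e 2 • g 2 →
        (Groth.L14.PointSet.sub M (CoordGrp.formPoly a)).coeff e = 0 := fun e he => by
      by_contra hne
      have := hlt e hne
      rw [Groth.L14.HM.wt, Fin.sum_univ_three] at this
      exact absurd he (not_le.2 this)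
    have hg0 : 0 ≤ g 0 := by
      by_contra hc
      have h3 := not_le.1 hc
      have : g 0 + g 1 + g 2 < 0 :=
        add_neg (add_neg h3 (h01.trans_lt h3)) ((h12.trans h01).trans_lt h3)
      exact absurd hsum this.ne
    have hsing : ∀ i : Fin 3, MvPolynomial.eval (Pi.single 0 1)
        (MvPolynomial.pderiv i (Groth.L14.PointSet.sub M (CoordGrp.formPoly a))) = 0 := by
      intro i
      rw [Groth.L14.HM.eval_single_of_isHomogeneous (n := 2) hG.pderiv, MvPolynomial.coeff_pderiv]
      refine mul_eq_zero_of_left (hzero _ ?_) _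
      fin_cases i <;> simp [two_nsmul, succ_nsmul]
      · exact add_nonneg (add_nonneg hg0 hg0) hg0
      · calc (0 : G) = g 0 + g 1 + g 2 := hsum.symm
          _ ≤ g 0 + g 1 + g 0 := by gcongr; exact h12.trans h01
          _ = g 0 + g 0 + g 1 := by abel
      · calc (0 : G) = g 0 + g 1 + g 2 := hsum.symm
          _ ≤ g 0 + g 0 + g 2 := by gcongr
    obtain ⟨hw0, hw, hr⟩ := Groth.L14.HM.singular_of_sub (F := CoordGrp.formPoly a) hM
      (w := Pi.single 0 1) (fun hh => by simpa using congrFun hh 0) hsing
    have h2 := h _ hw0 hw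
    change (Groth.L14.HM.hess (CoordGrp.formPoly a) _).rank = 2 at h2
    rw [← hr] at h2
    have hzz : ∀ i j : Fin 3, i ≠ 2 ∨ j ≠ 2 →
        Groth.L14.HM.hess (Groth.L14.PointSet.sub M (CoordGrp.formPoly a)) (Pi.single 0 1) i j = 0 := by
      intro i j hij
      refine Groth.L14.HM.hess_single_eq_zero (d := 1) hG (hzero _ ?_)
      have hwt : ∀ e : Fin 3 →₀ ℕ, e 0 • g 0 + e 1 • g 1 + e 2 • g 2 = ∑ l : Fin 3, e l • g l := fun e =>
        (Fin.sum_univ_three (fun l => e l • g l)).symm
      rw [hwt]
      simp only [Finsupp.add_apply, add_nsmul, Finset.sum_add_distrib, Finsupp.single_apply, ite_smul, one_nsmul,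
        zero_nsmul, Finset.sum_ite_eq, Finset.mem_univ, if_true]
      rw [← hsum, add_assoc,
        add_assoc (g 0)]
      refine add_le_add_right ?_ _
      rcases hij with hi | hj
      · exact add_le_add (hanti (by omega : i ≤ (1 : Fin 3))) (hanti (Fin.le_last j))
      · rw [add_comm (g i)]
        exact add_le_add (hanti (by omega : j ≤ (1 : Fin 3))) (hanti (Fin.le_last i))
    have hrk : (Groth.L14.HM.hess (Groth.L14.PointSet.sub M (CoordGrp.formPoly a)) (Pi.single 0 1)).rank ≤ 1 := by
      have hv : Groth.L14.HM.hess (Groth.L14.PointSet.sub M (CoordGrp.formPoly a)) (Pi.single 0 1) =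
          Matrix.vecMulVec (Pi.single 2 1)
            (fun j => Groth.L14.HM.hess (Groth.L14.PointSet.sub M (CoordGrp.formPoly a)) (Pi.single 0 1) 2 j) := by
        ext i j
        rcases eq_or_ne i 2 with rfl | hi
        · simp [Matrix.vecMulVec]
        · rw [hzz i j (Or.inl hi)]
          simp [Matrix.vecMulVec, hi]
      rw [hv]
      exact Matrix.rank_vecMulVec_le _ _
    omega


end Groth.Agent.S19420
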