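import Groth.Statements.S19421
import Groth.Agent.L14.HM.Singular
import Groth.Agent.L14.HM.Criterion
import Groth.Agent.L14.HM.Limit

set_option autoImplicit false
universe u
open TensorProduct LaurentPolynomial
open GIT

namespace Groth.Agent.S19421

/-- Let k be an algebraically closed field of characteristic zero and let SL_3 act by substitution on
ternary cubic forms, the point a having the form F = Σ_m (3; m) a_m x^m. Then a is stable (its orbit
is closed and its stabiliser finite) if and only if the plane cubic curve F = 0 is smooth: at every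
non-zero vector some first partial derivative of F is non-zero. (The published statement assumes
only that the characteristic of k is neither 2 nor 3; it is stated here in characteristic zero.) -/
theorem result (k : Type u) [Field k] [IsAlgClosed k] [CharZero k]
    (a : CoordGrp.FormIdx 3 3 → k) :
    @GLin.IsStableVec k _ (CoordGrp.SLn 3 k) _ _ (CoordGrp.FormIdx 3 3) (GLin.comodAlong ((CoordGrp.SLn.mkHom 3 k).comp (CoordGrp.Mat.toGLn 3 k)) (CoordGrp.formsCoact k 3 3))
      (GLin.isCoactAlg_comodAlong ((CoordGrp.SLn.mkHom 3 k).comp (CoordGrp.Mat.toGLn 3 k)) (CoordGrp.formsCoact k 3 3)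
        (CoordGrp.formsCoact_isCoactAlg k 3 3))
      a ↔
      ∀ w : Fin 3 → k, w ≠ 0 →
        ∃ i : Fin 3, MvPolynomial.eval w (MvPolynomial.pderiv i (CoordGrp.formPoly a)) ≠ 0 := by
  classical
  refine ⟨fun hst => ?_, fun hsm => Groth.L14.HM.isStableVec_of_strict (n := 2) (m := 3) a
    (Groth.L14.HM.strict_smooth (n := 2) le_rfl a hsm)⟩
  by_contra hcon
  obtain ⟨M, hM, hz⟩ := Groth.L14.HM.exists_vanishing_coeff (n := 2) (m := 2)
    (Groth.L14.HM.formPoly_isHomogeneous a) hcon
  refine Groth.L14.HM.not_isStableVec_of_weights (n := 2) (m := 3) (by norm_num [Nat.factorial]) a M hM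
    ![-2, 1, 1] (by decide) (fun h => by simpa using congrFun h 1) (fun e he => ?_) hst
  have hdeg : e 0 + e 1 + e 2 = 3 := by
    have h := Groth.L14.HM.isHomogeneous_sub M (Groth.L14.HM.formPoly_isHomogeneous a)
    have h1 : e.degree = 3 := by
      by_contra hne
      exact he (h.coeff_eq_zero hne)
    rwa [Finsupp.degree_eq_sum, Fin.sum_univ_three] at h1
  have hlow : e 0 ≤ 1 := by
    by_contra hgt
    push Not at hgt
    obtain ⟨i, hi⟩ : ∃ i : Fin 3, e = Finsupp.single 0 2 + Finsupp.single i 1 := by
      by_cases h3 : e 0 = 3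
      · refine ⟨0, Finsupp.ext fun j => ?_⟩
        fin_cases j <;> simp <;> omega
      · by_cases h1 : e 1 = 1
        · refine ⟨1, Finsupp.ext fun j => ?_⟩
          fin_cases j <;> simp <;> omega
        · refine ⟨2, Finsupp.ext fun j => ?_⟩
          fin_cases j <;> simp <;> omega
    exact he (hi ▸ hz i)
  change (0 : ℤ) ≤ ∑ j : Fin 3, e j • (![-2, 1, 1] : Fin 3 → ℤ) j
  rw [Fin.sum_univ_three]
  simp
  omega

end Groth.Agent.S19421
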