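import Groth.Statements.S19427
import Groth.Agent.L11.MilK.Basic

set_option autoImplicit false
universe u
open MilnorK

namespace Groth.Agent.S19427

/-- For a field F and nonzero b, c with b + c ≠ 0, in the Milnor K-group K_2(F) one has {b, c} + {b + c,
-b/c} = 0, that is {b, c} = -{b + c, -b/c} = {b + c, -c/b}. (The identity as displayed in the source
is {b, c} = {b + c, -b/c}, which differs from this by a sign and fails in general: for b = 3, c = 5
over the rationals the tame symbol at 5 takes the values 3 and 1/3 on the two sides; the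
accompanying derivation from the Steinberg relation b/(b+c) + c/(b+c) = 1 gives exactly the identity
stated here.) -/
theorem result (F : Type u) [Field F] (b c : Fˣ)
    (h : (b : F) + (c : F) ≠ 0) :
    (MilK.symbol ![b, c] : MilK.K F 2) + MilK.symbol ![Units.mk0 ((b : F) + (c : F)) h, -(b / c)] = 0 := by
  set z := (MilK.symbol ![] : MilK.K F 0)
  set s := Units.mk0 ((b : F) + (c : F)) h
  have hst : ((b / s : Fˣ) : F) + ((c / s : Fˣ) : F) = 1 := by
    simp only [Units.val_div_eq_div_val, s, Units.val_mk0]
    rw [← add_div, div_self h]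
  have h0 := Groth.L11.MilK.pre_pre_steinberg _ _ hst z
  simp only [div_eq_mul_inv, Groth.L11.MilK.pre_mul, Groth.L11.MilK.pre_inv, map_add, map_neg] at h0
  rw [Groth.L11.MilK.pre_pre_self] at h0
  rw [Groth.L11.MilK.symbol_two, Groth.L11.MilK.symbol_two, div_eq_mul_inv, show -(b * c⁻¹) = (-1) * (b * c⁻¹) from (neg_one_mul _).symm,
    Groth.L11.MilK.pre_mul, Groth.L11.MilK.pre_mul, Groth.L11.MilK.pre_inv, map_add, map_add, map_neg]
  rw [Groth.L11.MilK.pre_pre_comm b s] at h0
  rw [← h0]
  abel

end Groth.Agent.S19427
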