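import Groth.Statements.S19430
import Groth.Agent.L12.KBunQ.Basis
import Groth.Agent.L16.NegPow.Gen

set_option autoImplicit false
set_option maxHeartbeats 400000
set_option backward.isDefEq.respectTransparency false
set_option backward.isDefEq.respectTransparency.types false
universe u
open SGA6

namespace Groth.Agent.S19430

open CategoryTheory CategoryTheory.Limits AlgebraicGeometry in
/-- For Grothendieck groups of vector bundles (the degree-zero case of the statement), let T be a
quasi-compact scheme, E a finite locally free O_T-module of rank r, and (π : P ⟶ T, O(1), q) a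
projective bundle P(E) of E, characterised by its universal property for invertible quotients of
pull-backs of E; let O(-1) be an inverse of the invertible module O(1). For each i < r let G_i be an
additive map from K₀ of the finite locally free O_T-modules to K₀ of the finite locally free
O_P-modules with G_i [N] = [O(-1)^{⊗ i} ⊗ π^* N] for every finite locally free N (the K₀(T)-module
structure of K₀(P) through π^* and the powers of t = [O(-1)]). Then (a_0, …, a_{r-1}) ↦ Σ_i G_i
(a_i) is a bijection from K₀(T)^r onto K₀(P): K₀(P) is free over K₀(T) on 1, t, …, t^{r-1}. No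
Noetherian or connectedness hypothesis on T. -/
theorem result (T P : Scheme.{u}) [CompactSpace T]
    (r : ℕ) (E : T.Modules) (hE : FlatMod.IsFinLocFreeOfRank r E)
    (π : P ⟶ T) (O1 : P.Modules) (q : (Scheme.Modules.pullback π).obj E ⟶ O1) (hPB : KRR.IsProjBundle π E O1 q)
    (Oinv : P.Modules) (hinv : ClSub.IsInverseOf Oinv O1)
    (G : Fin r → (SGA6.Kvb T →+ SGA6.Kvb P))
    (hG : ∀ (i : Fin r) (N : T.Modules), FlatMod.IsFinLocFree N →
      G i (KRR.cl T N) = KRR.cl P (CohB1.tensorMod (CohB1.tensorPow Oinv (i : ℕ)) ((Scheme.Modules.pullback π).obj N))) :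
    Function.Bijective (fun a : Fin r → SGA6.Kvb T => ∑ i : Fin r, G i (a i)) := by
  classical
  have hO := Groth.L22.GenRank.isInvertible_of_rank_one hPB.invertible
  have hI : PicF.IsInvertible Oinv :=
    Groth.L16.NegPow.isInvertible_inverse hO (Groth.L00.Tensor.tensorComm O1 Oinv ≪≫ hinv.some)
  rcases r with _ | r
  · have hzE : IsZero E := Groth.L12.Kvb.isZero_of_rank_zero hE
    haveI := hPB.epi
    haveI : (Scheme.Modules.pullback π).IsLeftAdjoint :=
      (Scheme.Modules.pullbackPushforwardAdjunction _).isLeftAdjoint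
    have hz : IsZero O1 := IsZero.of_epi q ((Scheme.Modules.pullback π).map_isZero hzE)
    have hO' : IsZero (Coh.structureModule P) :=
      (Groth.L12.KBun.isZero_tensor_right hz Oinv).of_iso hinv.some.symm
    have hall : ∀ x : SGA6.Kvb P, x = 0 := fun x => DFunLike.congr_fun
      (Groth.L29.KSub.hom_ext (φ := AddMonoidHom.id _) (ψ := 0) fun M hM =>
        Groth.L29.KSub.clSub_zero (KRR.vbP P)
          ((Groth.L12.KBun.isZero_tensor_right hO' M).of_iso (Groth.L00.Tensor.tensorUnitRight M).symm) hM) x
    exact ⟨fun a b _ => funext fun i => i.elim0, fun x => ⟨0, (hall _).trans (hall x).symm⟩⟩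
  obtain ⟨A⟩ := Groth.L12.KBun.exists_atlas hPB hE
  have D : Groth.L12.KBunQ.Setup π q Oinv r := ⟨hPB.epi, hPB.invertible, hE, hI, hinv⟩
  haveI : Coh.IsQCoh E := Groth.L29.DC.PCQCoh.isQCoh_of_isFinLocFree D.vbE
  haveI : Coh.IsQCoh (Groth.L12.KBun.tautSC q).X₁ := Groth.L29.DC.PCQCoh.isQCoh_of_isFinLocFree D.vbW
  haveI : Coh.IsQCoh O1 :=
    Groth.L29.DC.PCQCoh.isQCoh_of_isFinLocFree (Groth.L18.KRRAmple.isFinLocFree_of_rank hPB.invertible)
  obtain ⟨g, hg⟩ := Groth.L12.KBunQ.exists_pull π
  have key : ∀ (i : Fin (r + 1)) (x : SGA6.Kvb T),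
      Groth.L12.Kvb.toKR P (G i x) =
        g (Groth.L12.Kvb.toKR T x) * Groth.L12.KBunQ.kc P Oinv ^ (i : ℕ) := fun i => DFunLike.congr_fun
    (Groth.L29.KSub.hom_ext (φ := (Groth.L12.Kvb.toKR P).comp (G i))
      (ψ := ((AddMonoidHom.mulRight (Groth.L12.KBunQ.kc P Oinv ^ (i : ℕ))).comp g.toAddMonoidHom).comp
        (Groth.L12.Kvb.toKR T)) fun N hN => by
      show Groth.L12.Kvb.toKR P (G i (KRR.cl T N)) = g (Groth.L12.KBunQ.kc T N) * _
      rw [hG i N hN, hg N hN, ← Groth.L12.KBunQ.kc_tensorPow hI, mul_comm]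
      exact Groth.L12.KBunQ.kc_tensor
        (Groth.L16.Existence.isFinLocFree_of_isInvertible (Groth.L18.Ample.isInvertible_tensorPow hI _))
        (Groth.L29.LocFree.pullback π hN))
  have h := D.bijective_combInv A g hg
  have he : (fun a : Fin (r + 1) → SGA6.Kvb T => Groth.L12.Kvb.toKR P (∑ i, G i (a i))) =
      fun a => D.combInv g (fun i => Groth.L12.Kvb.toKR T (a i)) := funext fun a => by
    rw [map_sum, Groth.L12.KBunQ.Setup.combInv_apply]
    exact Finset.sum_congr rfl fun i _ => key i (a i)
  exact (Function.Bijective.of_comp_iff' (f := Groth.L12.Kvb.toKR P) Groth.L12.Kvb.toKR_bijective _).1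
    (show Function.Bijective (fun a : Fin (r + 1) → SGA6.Kvb T => Groth.L12.Kvb.toKR P (∑ i, G i (a i))) by
      rw [he]; exact h)

end Groth.Agent.S19430
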