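import Groth.Statements.S19436
import Mathlib.Tactic

set_option autoImplicit false
universe u
open CAlg

namespace Groth.Agent.S19436

/-- For a Noetherian local commutative algebra R over a field k, with maximal ideal M, and an ideal I of
R whose quotient R/I is finite-dimensional over k of dimension n, the power M^n lies in I. -/
theorem result (k : Type u) [Field k] (R : Type u) [CommRing R]
    [Algebra k R] [IsNoetherianRing R] [IsLocalRing R] (I : Ideal R) [Module.Finite k (R ⧸ I)] (n : ℕ)
    (hn : Module.finrank k (R ⧸ I) = n) : IsLocalRing.maximalIdeal R ^ n ≤ I := by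
  by_cases hI : I = ⊤
  · simp [hI]
  have : Nontrivial (R ⧸ I) := Ideal.Quotient.nontrivial_iff.mpr hI
  set J : Ideal (R ⧸ I) := (IsLocalRing.maximalIdeal R).map (Ideal.Quotient.mk I) with hJ
  have : IsLocalRing (R ⧸ I) := IsLocalRing.of_surjective' _ Ideal.Quotient.mk_surjective
  have hjac : J ≤ (⊥ : Ideal (R ⧸ I)).jacobson := by
    rw [IsLocalRing.jacobson_eq_maximalIdeal (⊥ : Ideal (R ⧸ I)) bot_ne_top, hJ, Ideal.map_le_iff_le_comap]
    intro x hx
    simp only [Ideal.mem_comap, IsLocalRing.mem_maximalIdeal, mem_nonunits_iff] at hx ⊢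
    intro hu
    obtain ⟨v, hv⟩ := hu.exists_right_inv
    obtain ⟨v, rfl⟩ := Ideal.Quotient.mk_surjective v
    rw [← map_mul, ← map_one (Ideal.Quotient.mk I), Ideal.Quotient.eq] at hv
    have hImax : I ≤ IsLocalRing.maximalIdeal R := IsLocalRing.le_maximalIdeal hI
    have h1 : (1 : R) ∈ IsLocalRing.maximalIdeal R := by
      have h2 := sub_mem ((IsLocalRing.maximalIdeal R).mul_mem_right v (show x ∈ _ from (IsLocalRing.mem_maximalIdeal x).mpr hx)) (hImax hv)
      rwa [sub_sub_cancel] at h2
    exact (IsLocalRing.maximalIdeal.isMaximal R).ne_top ((Ideal.eq_top_iff_one _).mpr h1)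
  let V : ℕ → Submodule k (R ⧸ I) := fun i => (J ^ i).restrictScalars k
  have key : ∀ i, V i = ⊥ ∨ Module.finrank k (V i) + i ≤ n := by
    intro i
    induction i with
    | zero => right; simpa [hn] using Submodule.finrank_le (V 0)
    | succ i ih =>
      rcases ih with h0 | hle
      · left
        simp only [V, Submodule.restrictScalars_eq_bot_iff] at h0 ⊢
        rw [pow_succ, h0]; simp
      · by_cases h0 : V (i + 1) = ⊥
        · exact Or.inl h0
        right
        have hlt : V (i + 1) < V i := by
          refine lt_of_le_of_ne (fun x hx => Ideal.pow_le_pow_right (Nat.le_succ i) hx) fun he => h0 ?_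
          simp only [V, Submodule.restrictScalars_inj] at he
          have hb : J ^ i = ⊥ := Submodule.eq_bot_of_le_smul_of_le_jacobson_bot J (J ^ i)
            (IsNoetherian.noetherian _) (by rw [smul_eq_mul, ← pow_succ', he]) hjac
          simp only [V, Submodule.restrictScalars_eq_bot_iff]
          rw [he, hb]
        have := Submodule.finrank_lt_finrank_of_lt hlt
        omega
  have hVn : V n = ⊥ := by
    rcases key n with h | h
    · exact h
    · exact Submodule.finrank_eq_zero.mp (by omega)
  intro x hx
  have : Ideal.Quotient.mk I x ∈ J ^ n := by rw [hJ, ← Ideal.map_pow]; exact Ideal.mem_map_of_mem _ hx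
  simp only [V, Submodule.restrictScalars_eq_bot_iff] at hVn
  rw [hVn] at this
  exact Ideal.Quotient.eq_zero_iff_mem.mp (by simpa using this)

end Groth.Agent.S19436
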