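import Groth.Statements.S19437
import Groth.Agent.L14.Node
import Mathlib.RingTheory.PowerSeries.Inverse
import Mathlib.RingTheory.PowerSeries.Order
import Mathlib.LinearAlgebra.Dimension.Constructions
import Mathlib.LinearAlgebra.FiniteDimensional.Basic
import Mathlib.Tactic.LinearCombination

set_option autoImplicit false
universe u
open CAlg

namespace Groth.Agent.S19437

open Groth.L14

/-- Ideals of colength n of the complete local ring of a node. Let k be a field and J an ideal of the
power series ring k[[x,y]] in two variables x, y which contains xy and whose quotient is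
finite-dimensional over k of dimension n ≥ 2. Then there are integers a, b ≥ 1 such that either a +
b = n + 1 and J is generated by xy, x^a, y^b, or a + b = n and J is generated by xy and x^a + α y^b
for some nonzero scalar α. -/
theorem result (k : Type u) [Field k]
    (J : Ideal (MvPowerSeries (Fin 2) k))
    (hxy : (MvPowerSeries.X 0 * MvPowerSeries.X 1 : MvPowerSeries (Fin 2) k) ∈ J)
    [Module.Finite k (MvPowerSeries (Fin 2) k ⧸ J)] (n : ℕ) (hn : Module.finrank k (MvPowerSeries (Fin 2) k ⧸ J) = n)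
    (h2 : 2 ≤ n) :
    ∃ a b : ℕ, 1 ≤ a ∧ 1 ≤ b ∧
      ((a + b = n + 1 ∧
        J = Ideal.span {MvPowerSeries.X 0 * MvPowerSeries.X 1, MvPowerSeries.X 0 ^ a, MvPowerSeries.X 1 ^ b}) ∨
       (a + b = n ∧ ∃ α : k, α ≠ 0 ∧
        J = Ideal.span {MvPowerSeries.X 0 * MvPowerSeries.X 1,
          MvPowerSeries.X 0 ^ a + MvPowerSeries.C α * MvPowerSeries.X 1 ^ b})) := by
  classical
  let S := MvPowerSeries (Fin 2) k
  let x : S := MvPowerSeries.X 0
  let y : S := MvPowerSeries.X 1
  let p : S →+* PowerSeries k := Node.q 1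
  let q : S →+* PowerSeries k := Node.q 0
  have hpx : p x = PowerSeries.X := Node.q_X_other (B := k) 1
  have hpy : p y = 0 := Node.q_X_self (B := k) 1
  have hqx : q x = 0 := Node.q_X_self (B := k) 0
  have hqy : q y = PowerSeries.X := Node.q_X_other (B := k) 0
  have hpC : ∀ c, p (MvPowerSeries.C c) = PowerSeries.C c := fun c => Node.q_C 1 c
  have hqC : ∀ c, q (MvPowerSeries.C c) = PowerSeries.C c := fun c => Node.q_C 0 c
  have hsur : ∀ i, Function.Surjective (Node.q (B := k) i) := fun i s =>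
    ⟨Node.lift i fun m => PowerSeries.coeff m s, by rw [Node.q_lift]; ext m; simp⟩
  -- elements determined by the two branches
  have hdec : ∀ (a b : ℕ), 1 ≤ a → 1 ≤ b → ∀ (I : Ideal S), x * y ∈ I → x ^ a ∈ I → y ^ b ∈ I →
      ∀ f, PowerSeries.X ^ a ∣ p f → PowerSeries.X ^ b ∣ q f → f ∈ I := by
    intro a b ha hb I hI hxa hyb f ⟨u, hu⟩ ⟨v, hv⟩
    obtain ⟨A, rfl⟩ := hsur 1 u
    obtain ⟨B, rfl⟩ := hsur 0 v
    set g := f - x ^ a * A - y ^ b * B
    have hpg : p g = 0 := by
      simp only [g, map_sub, map_mul, map_pow, hpx, hpy, zero_pow (by omega : b ≠ 0), hu]; simp [p]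
    have hqg : q g = 0 := by
      simp only [g, map_sub, map_mul, map_pow, hqx, hqy, zero_pow (by omega : a ≠ 0), hv]; simp [q]
    obtain ⟨g', hg'⟩ := Node.X_dvd_of_q_eq_zero hqg
    have hpg' : p g' = 0 := by
      rw [hg', map_mul] at hpg
      rw [show p (MvPowerSeries.X 0) = PowerSeries.X from hpx] at hpg
      exact (mul_eq_zero.mp hpg).resolve_left PowerSeries.X_ne_zero
    obtain ⟨h, hh⟩ := Node.X_dvd_of_q_eq_zero hpg'
    have hf : f = x * y * h + x ^ a * A + y ^ b * B := by
      have : g = x * y * h := by rw [hg', hh, ← mul_assoc]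
      linear_combination this
    rw [hf]
    exact I.add_mem (I.add_mem (I.mul_mem_right _ hI) (I.mul_mem_right _ hxa)) (I.mul_mem_right _ hyb)
  -- the image of `J` on a branch
  have hJtop : J ≠ ⊤ := by
    rintro rfl
    have : Subsingleton (MvPowerSeries (Fin 2) k ⧸ (⊤ : Ideal (MvPowerSeries (Fin 2) k))) := Ideal.Quotient.subsingleton_iff.mpr rfl
    rw [Module.finrank_zero_of_subsingleton] at hn
    omega
  have himg : ∀ i : Fin 2, ∃ a : ℕ, 1 ≤ a ∧ (∀ f ∈ J, PowerSeries.X ^ a ∣ Node.q i f) ∧ ∃ f ∈ J, Node.q i f = PowerSeries.X ^ a := by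
    intro i
    have hne : J.map (Node.q i) ≠ ⊥ := by
      intro h0
      have hli : ¬ LinearIndependent k fun m : ℕ => Ideal.Quotient.mk J ((MvPowerSeries.X (1 - i)) ^ m) := fun h => by
        haveI := h.finite
        exact not_finite ℕ
      rw [linearIndependent_iff'] at hli
      push Not at hli
      obtain ⟨s, c, hc, m, hm, hcm⟩ := hli
      have hz : (∑ m ∈ s, MvPowerSeries.C (c m) * MvPowerSeries.X (1 - i) ^ m) ∈ J := by
        rw [← Ideal.Quotient.eq_zero_iff_mem, map_sum, ← hc]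
        exact Finset.sum_congr rfl fun m _ => by rw [← MvPowerSeries.smul_eq_C_mul]; rfl
      have := Ideal.mem_map_of_mem (Node.q i) hz
      rw [h0, Submodule.mem_bot, map_sum] at this
      apply hcm
      simp only [map_mul, map_pow, Node.q_C, Node.q_X_other] at this
      have := congrArg (PowerSeries.coeff m) this
      simpa [PowerSeries.coeff_X_pow, hm] using this
    obtain ⟨a, ha⟩ := IsDiscreteValuationRing.ideal_eq_span_pow_irreducible hne (PowerSeries.X_irreducible (R := k))
    obtain ⟨f, hf, hfa⟩ := (Ideal.mem_map_iff_of_surjective _ (hsur i)).mp (ha ▸ Ideal.mem_span_singleton_self _ : PowerSeries.X ^ a ∈ J.map (Node.q i))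
    refine ⟨a, ?_, fun g hg => Ideal.mem_span_singleton.mp (ha ▸ Ideal.mem_map_of_mem _ hg), f, hf, hfa⟩
    by_contra ha0
    apply hJtop
    refine J.eq_top_of_isUnit_mem hf ?_
    rw [MvPowerSeries.isUnit_iff_constantCoeff]
    have := congrArg (PowerSeries.coeff 0) hfa
    rw [Node.coeff_q, show a = 0 by omega, pow_zero, Finsupp.single_zero, MvPowerSeries.coeff_zero_eq_constantCoeff] at this
    rw [this]; simp
  obtain ⟨a, ha, hpa, f1, hf1, hf1a⟩ := himg 1
  obtain ⟨b, hb, hqb, f0, hf0, hf0b⟩ := himg 0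
  -- higher terms lie in `J`
  have hxa : x ^ (a + 1) ∈ J := by
    obtain ⟨g', hg'⟩ := Node.X_dvd_of_q_eq_zero (i := (0 : Fin 2)) (f := x ^ (a + 1) - x * f1) (by
      show q _ = 0; rw [map_sub, map_pow, map_mul, hqx]; simp)
    have h1 : p g' = 0 := by
      have := congrArg p hg'
      rw [map_sub, map_pow, map_mul, map_mul, hpx, show p f1 = PowerSeries.X ^ a from hf1a,
        ← pow_succ', sub_self] at this
      exact (mul_eq_zero.mp this.symm).resolve_left PowerSeries.X_ne_zero
    obtain ⟨h, hh⟩ := Node.X_dvd_of_q_eq_zero h1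
    rw [hh] at hg'
    rw [sub_eq_iff_eq_add.mp hg', ← mul_assoc]
    exact J.add_mem (J.mul_mem_right _ hxy) (J.mul_mem_left _ hf1)
  have hyb : y ^ (b + 1) ∈ J := by
    obtain ⟨g', hg'⟩ := Node.X_dvd_of_q_eq_zero (i := (1 : Fin 2)) (f := y ^ (b + 1) - y * f0) (by
      show p _ = 0; rw [map_sub, map_pow, map_mul, hpy]; simp)
    have h1 : q g' = 0 := by
      have := congrArg q hg'
      rw [map_sub, map_pow, map_mul, map_mul, hqy, show q f0 = PowerSeries.X ^ b from hf0b,
        ← pow_succ', sub_self] at this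
      exact (mul_eq_zero.mp this.symm).resolve_left PowerSeries.X_ne_zero
    obtain ⟨h, hh⟩ := Node.X_dvd_of_q_eq_zero h1
    rw [hh] at hg'
    rw [sub_eq_iff_eq_add.mp hg', ← mul_assoc, mul_comm (MvPowerSeries.X 1)]
    exact J.add_mem (J.mul_mem_right _ hxy) (J.mul_mem_left _ hf0)
  have hhigh : ∀ f, PowerSeries.X ^ (a + 1) ∣ p f → PowerSeries.X ^ (b + 1) ∣ q f → f ∈ J :=
    hdec (a + 1) (b + 1) (by omega) (by omega) J hxy hxa hyb
  have hsucc : ∀ (m : ℕ) (s : PowerSeries k), PowerSeries.X ^ m ∣ s → PowerSeries.coeff m s = 0 → PowerSeries.X ^ (m + 1) ∣ s := by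
    intro m s hs h0
    rw [PowerSeries.X_pow_dvd_iff] at hs ⊢
    intro j hj
    rcases Nat.lt_succ_iff_lt_or_eq.mp hj with h | h
    · exact hs j h
    · rw [h]; exact h0
  -- the two leading coefficients
  let σ : S → k := fun f => PowerSeries.coeff a (p f)
  let τ : S → k := fun f => PowerSeries.coeff b (q f)
  have hleadx : σ (x ^ a) = 1 ∧ τ (x ^ a) = 0 := by
    simp [σ, τ, hpx, hqx, zero_pow (by omega : a ≠ 0), PowerSeries.coeff_X_pow]
  have hleady : σ (y ^ b) = 0 ∧ τ (y ^ b) = 1 := by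
    simp [σ, τ, hpy, hqy, zero_pow (by omega : b ≠ 0), PowerSeries.coeff_X_pow]
  have hdvdx : PowerSeries.X ^ a ∣ p (x ^ a) ∧ PowerSeries.X ^ b ∣ q (x ^ a) := by
    rw [map_pow, map_pow, hpx, hqx, zero_pow (by omega : a ≠ 0)]; exact ⟨dvd_rfl, dvd_zero _⟩
  have hdvdy : PowerSeries.X ^ a ∣ p (y ^ b) ∧ PowerSeries.X ^ b ∣ q (y ^ b) := by
    rw [map_pow, map_pow, hpy, hqy, zero_pow (by omega : b ≠ 0)]; exact ⟨dvd_zero _, dvd_rfl⟩
  -- modulo higher terms every element is `σ x^a + τ y^b`
  have hred : ∀ f, PowerSeries.X ^ a ∣ p f → PowerSeries.X ^ b ∣ q f →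
      f - MvPowerSeries.C (σ f) * x ^ a - MvPowerSeries.C (τ f) * y ^ b ∈ J := by
    intro f h1 h2
    refine hhigh _ (hsucc a _ ?_ ?_) (hsucc b _ ?_ ?_)
    · rw [map_sub, map_sub, map_mul, map_mul]
      exact dvd_sub (dvd_sub h1 (hdvdx.1.mul_left _)) (hdvdy.1.mul_left _)
    · simp [σ, hpx, hpy, hpC, zero_pow (by omega : b ≠ 0), PowerSeries.coeff_X_pow]
    · rw [map_sub, map_sub, map_mul, map_mul]
      exact dvd_sub (dvd_sub h2 (hdvdx.2.mul_left _)) (hdvdy.2.mul_left _)
    · simp [τ, hqx, hqy, hqC, zero_pow (by omega : a ≠ 0), PowerSeries.coeff_X_pow]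
  -- exponents
  let e1 : Fin a ⊕ Fin (b - 1) → (Fin 2 →₀ ℕ) := Sum.elim (fun i => Finsupp.single 0 (i : ℕ)) (fun j => Finsupp.single 1 ((j : ℕ) + 1))
  have he1 : Function.Injective e1 := by
    rintro (i | i) (j | j) h <;> simp only [e1, Sum.elim_inl, Sum.elim_inr] at h
    · exact congrArg Sum.inl (Fin.ext (Finsupp.single_injective 0 h))
    · exact absurd (DFunLike.congr_fun h 1) (by simp)
    · exact absurd (DFunLike.congr_fun h 1) (by simp)
    · exact congrArg Sum.inr (Fin.ext (Nat.succ_injective (Finsupp.single_injective 1 h)))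
  have hcoefp : ∀ (f : S) m, MvPowerSeries.coeff (Finsupp.single 0 m) f = PowerSeries.coeff m (p f) := fun f m => (Node.coeff_q 1 f m).symm
  have hcoefq : ∀ (f : S) m, MvPowerSeries.coeff (Finsupp.single 1 m) f = PowerSeries.coeff m (q f) := fun f m => (Node.coeff_q 0 f m).symm
  have hKiff : ∀ f : S, (∀ i, MvPowerSeries.coeff (e1 i) f = 0) ↔ PowerSeries.X ^ a ∣ p f ∧ PowerSeries.X ^ b ∣ q f := by
    intro f
    simp only [Sum.forall, e1, Sum.elim_inl, Sum.elim_inr, hcoefp, hcoefq, PowerSeries.X_pow_dvd_iff]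
    refine ⟨fun ⟨h1, h2⟩ => ⟨fun m hm => h1 ⟨m, hm⟩, fun m hm => ?_⟩, fun ⟨h1, h2⟩ => ⟨fun i => h1 i i.2, fun i => h2 _ (by omega)⟩⟩
    rcases m with _ | m
    · have := h1 ⟨0, by omega⟩
      rwa [← hcoefp, Finsupp.single_zero, ← Finsupp.single_zero (1 : Fin 2), hcoefq] at this
    · exact h2 ⟨m, by omega⟩
  have hrank : ∀ {T : Type u} [AddCommGroup T] [Module k T] (Φ : S →ₗ[k] T), Function.Surjective Φ →
      (∀ f, Φ f = 0 ↔ f ∈ J) → n = Module.finrank k T := by
    intro T _ _ Φ hΦ hker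
    rw [← hn]
    have hk : LinearMap.ker Φ = J.restrictScalars k := Submodule.ext fun f => hker f
    exact ((Submodule.Quotient.restrictScalarsEquiv k J).symm ≪≫ₗ Submodule.quotEquivOfEq _ _ hk.symm ≪≫ₗ Φ.quotKerEquivOfSurjective hΦ).finrank_eq
  refine ⟨a, b, ha, hb, ?_⟩
  by_cases hX : x ^ a ∈ J
  · left
    have hY : y ^ b ∈ J := by
      have h := J.sub_mem (J.sub_mem hf0 (hred f0 (hpa f0 hf0) (hqb f0 hf0))) (J.mul_mem_left (MvPowerSeries.C (σ f0)) hX)
      have ht : τ f0 = 1 := by simp [τ, show q f0 = PowerSeries.X ^ b from hf0b, PowerSeries.coeff_X_pow]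
      rw [ht, map_one, one_mul] at h
      convert h using 1
      ring
    refine ⟨?_, le_antisymm (fun f hf => ?_) (Ideal.span_le.mpr ?_)⟩
    · let Φ : S →ₗ[k] (Fin a ⊕ Fin (b - 1) → k) := LinearMap.pi fun i => MvPowerSeries.coeff (e1 i)
      have h := hrank Φ (fun v => ⟨fun m => Function.extend e1 v 0 m, funext fun i => he1.extend_apply v 0 i⟩) (fun f => by
        refine ⟨fun h => ?_, fun h => ?_⟩
        · obtain ⟨h1, h2⟩ := (hKiff f).mp fun i => congrFun h i
          exact hdec a b ha hb J hxy hX hY f h1 h2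
        · exact funext fun i => (hKiff f).mpr ⟨hpa f h, hqb f h⟩ i)
      rw [h, Module.finrank_pi, Fintype.card_sum, Fintype.card_fin, Fintype.card_fin]
      omega
    · exact hdec a b ha hb _ (Ideal.subset_span (by simp [x, y])) (Ideal.subset_span (by simp [x])) (Ideal.subset_span (by simp [y])) f (hpa f hf) (hqb f hf)
    · rintro _ (rfl | rfl | rfl)
      exacts [hxy, hX, hY]
  · right
    set α := τ f1
    have hs1 : σ f1 = 1 := by simp [σ, show p f1 = PowerSeries.X ^ a from hf1a, PowerSeries.coeff_X_pow]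
    have hg : x ^ a + MvPowerSeries.C α * y ^ b ∈ J := by
      have := J.sub_mem hf1 (hred f1 (hpa f1 hf1) (hqb f1 hf1))
      rw [hs1, map_one, one_mul] at this
      convert this using 1
      ring
    have hα : α ≠ 0 := fun h0 => hX (by rwa [h0, map_zero, zero_mul, add_zero] at hg)
    have hY : y ^ b ∉ J := fun hY => hX (by simpa using J.sub_mem hg (J.mul_mem_left (MvPowerSeries.C α) hY))
    have hrel : ∀ f ∈ J, τ f = α * σ f := by
      intro f hf
      by_contra hne
      apply hY
      have h1 := J.sub_mem (J.sub_mem hf (hred f (hpa f hf) (hqb f hf))) (J.mul_mem_left (MvPowerSeries.C (σ f)) hg)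
      have h2 : MvPowerSeries.C (τ f - α * σ f) * y ^ b ∈ J := by
        convert h1 using 1
        rw [map_sub, map_mul]; ring
      have h3 := J.mul_mem_left (MvPowerSeries.C (τ f - α * σ f)⁻¹) h2
      rwa [← mul_assoc, ← map_mul, inv_mul_cancel₀ (sub_ne_zero.mpr hne), map_one, one_mul] at h3
    refine ⟨?_, α, hα, le_antisymm (fun f hf => ?_) (Ideal.span_le.mpr ?_)⟩
    · let Φ : S →ₗ[k] (Fin a ⊕ Fin (b - 1) → k) × k :=
        (LinearMap.pi fun i => MvPowerSeries.coeff (e1 i)).prod
          (MvPowerSeries.coeff (Finsupp.single 1 b) - α • MvPowerSeries.coeff (Finsupp.single 0 a))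
      have hval : ∀ f, Φ f = ((fun i => MvPowerSeries.coeff (e1 i) f), τ f - α * σ f) := fun f => by
        simp [Φ, τ, σ, hcoefp, hcoefq, LinearMap.pi_apply]
        rfl
      have h := hrank Φ (fun v => by
        have hE : ∀ i, e1 i ≠ Finsupp.single 1 b ∧ e1 i ≠ Finsupp.single 0 a := by
          rintro (i | i) <;> refine ⟨fun h => ?_, fun h => ?_⟩ <;> simp only [e1, Sum.elim_inl, Sum.elim_inr] at h
          · have := DFunLike.congr_fun h 1; simp at this; omega
          · have := DFunLike.congr_fun h 0; simp at this; omega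
          · have := DFunLike.congr_fun h 1; simp at this; omega
          · have := DFunLike.congr_fun h 1; simp at this
        refine ⟨fun m => if m = Finsupp.single 1 b then v.2 else Function.extend e1 v.1 0 m, ?_⟩
        rw [hval]
        refine Prod.ext (funext fun i => ?_) ?_
        · show (if e1 i = _ then _ else _) = _
          rw [if_neg (hE i).1, he1.extend_apply]
        · simp only [τ, σ, ← hcoefp, ← hcoefq]
          show (if _ then _ else _) - α * (if _ then _ else _) = _
          rw [if_pos rfl, if_neg, Function.extend_apply', Pi.zero_apply, mul_zero, sub_zero]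
          · rintro ⟨i, hi⟩; exact (hE i).2 hi
          · intro h; have := DFunLike.congr_fun h 0; simp at this; omega) (fun f => by
        rw [hval, Prod.mk_eq_zero, sub_eq_zero]
        refine ⟨fun ⟨h1, h2⟩ => ?_, fun h => ⟨funext fun i => (hKiff f).mpr ⟨hpa f h, hqb f h⟩ i, hrel f h⟩⟩
        obtain ⟨h1', h1''⟩ := (hKiff f).mp fun i => congrFun h1 i
        have := J.add_mem (hred f h1' h1'') (J.mul_mem_left (MvPowerSeries.C (σ f)) hg)
        convert this using 1
        rw [h2, map_mul]; ring)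
      rw [h, Module.finrank_prod, Module.finrank_pi, Module.finrank_self, Fintype.card_sum, Fintype.card_fin, Fintype.card_fin]
      omega
    · set I : Ideal S := Ideal.span {MvPowerSeries.X 0 * MvPowerSeries.X 1, MvPowerSeries.X 0 ^ a + MvPowerSeries.C α * MvPowerSeries.X 1 ^ b}
      have hI1 : x * y ∈ I := Ideal.subset_span (by simp [x, y])
      have hI2 : x ^ a + MvPowerSeries.C α * y ^ b ∈ I := Ideal.subset_span (by simp [x, y])
      obtain ⟨a', rfl⟩ : ∃ a', a = a' + 1 := ⟨a - 1, by omega⟩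
      obtain ⟨b', rfl⟩ : ∃ b', b = b' + 1 := ⟨b - 1, by omega⟩
      have hIx : x ^ (a' + 1 + 1) ∈ I := by
        have := I.sub_mem (I.mul_mem_left x hI2) (I.mul_mem_left (MvPowerSeries.C α * y ^ b') hI1)
        convert this using 1; ring
      have hIy : y ^ (b' + 1 + 1) ∈ I := by
        have := I.mul_mem_left (MvPowerSeries.C α⁻¹) (I.sub_mem (I.mul_mem_left y hI2) (I.mul_mem_left (x ^ a') hI1))
        convert this using 1
        rw [show y * (x ^ (a' + 1) + MvPowerSeries.C α * y ^ (b' + 1)) - x ^ a' * (x * y) = MvPowerSeries.C α * y ^ (b' + 1 + 1) by ring,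
          ← mul_assoc, ← map_mul, inv_mul_cancel₀ hα, map_one, one_mul]
      have hr := hrel f hf
      have : f - MvPowerSeries.C (σ f) * (x ^ (a' + 1) + MvPowerSeries.C α * y ^ (b' + 1)) ∈ I := by
        refine hdec _ _ (by omega) (by omega) I hI1 hIx hIy _ (hsucc _ _ ?_ ?_) (hsucc _ _ ?_ ?_)
        · rw [map_sub, map_mul, map_add, map_mul]
          exact dvd_sub (hpa f hf) ((dvd_add hdvdx.1 (hdvdy.1.mul_left _)).mul_left _)
        · simp [σ, hpx, hpy, hpC, PowerSeries.coeff_X_pow]
        · rw [map_sub, map_mul, map_add, map_mul]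
          exact dvd_sub (hqb f hf) ((dvd_add hdvdx.2 (hdvdy.2.mul_left _)).mul_left _)
        · simp [σ, hqx, hqy, hqC, PowerSeries.coeff_X_pow]
          show τ f - _ = 0
          rw [hr]; simp [σ]; ring
      simpa using I.add_mem this (I.mul_mem_left (MvPowerSeries.C (σ f)) hI2)
    · rintro _ (rfl | rfl)
      exacts [hxy, hg]

end Groth.Agent.S19437
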