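import Groth.Statements.S19438
import Mathlib.RingTheory.Ideal.Cotangent
import Mathlib.LinearAlgebra.Dimension.Finrank
import Mathlib.RingTheory.Adjoin.Basic
import Mathlib.RingTheory.Finiteness.Basic

set_option autoImplicit false
universe u
open CAlg

namespace Groth.Agent.S19438

/-- First assertion: let A be a Noetherian local commutative algebra over a field k with maximal ideal
M, residue field k (the map from k to A/M is onto) and embedding dimension dim M/M^2 at least 2, and
let I be a proper ideal with A/I finite-dimensional over k. If A/I is generated as a k-algebra by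
one element, then some element of I does not lie in M^2; that is, the finite closed subscheme
defined by I lies on a smooth hypersurface germ (it is curvilinear). (The published statement is for
the local ring of a smooth surface at a closed point; only a Noetherian local algebra with residue
field k and embedding dimension at least 2 is assumed here, which is what the published argument
uses.) -/
theorem result (k : Type u) [Field k]
    (A : Type u) [CommRing A] [Algebra k A] [IsNoetherianRing A] [IsLocalRing A]
    (hres : Function.Surjective (algebraMap k (IsLocalRing.ResidueField A)))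
    (hemb : 2 ≤ Module.finrank (IsLocalRing.ResidueField A) (IsLocalRing.CotangentSpace A))
    (I : Ideal A) (hI : I ≠ ⊤) [Module.Finite k (A ⧸ I)]
    (f : A ⧸ I) (hf : Algebra.adjoin k {f} = ⊤) :
    ∃ g ∈ I, g ∉ IsLocalRing.maximalIdeal A ^ 2 := by
  classical
  set m := IsLocalRing.maximalIdeal A
  by_contra hcon
  push Not at hcon
  obtain ⟨F, hF⟩ := Ideal.Quotient.mk_surjective f
  obtain ⟨c, hc⟩ := hres (IsLocalRing.residue A F)
  have hsplit : ∀ (a : A) (d : k), algebraMap k (IsLocalRing.ResidueField A) d = IsLocalRing.residue A a → a - algebraMap k A d ∈ m := fun a d h => by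
    rw [← IsLocalRing.residue_eq_zero_iff, map_sub, ← h, IsScalarTower.algebraMap_apply k A (IsLocalRing.ResidueField A)]
    exact sub_self _
  let G : m := ⟨F - algebraMap k A c, hsplit F c hc⟩
  have key : ∀ z : A ⧸ I, ∃ (a₀ : k) (b : A), Ideal.Quotient.mk I (algebraMap k A a₀ + b * (G : A)) = z := by
    intro z
    have hz : z ∈ Algebra.adjoin k {f} := hf ▸ Algebra.mem_top
    induction hz using Algebra.adjoin_induction with
    | mem y hy => exact ⟨c, 1, by rw [one_mul, add_sub_cancel, hF, Set.mem_singleton_iff.mp hy]⟩
    | algebraMap r => exact ⟨r, 0, by rw [zero_mul, add_zero]; rfl⟩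
    | add x y _ _ hx hy =>
      obtain ⟨a, b, rfl⟩ := hx
      obtain ⟨a', b', rfl⟩ := hy
      exact ⟨a + a', b + b', by rw [← map_add, map_add (algebraMap k A)]; congr 1; ring⟩
    | mul x y _ _ hx hy =>
      obtain ⟨a, b, rfl⟩ := hx
      obtain ⟨a', b', rfl⟩ := hy
      exact ⟨a * a', algebraMap k A a * b' + b * algebraMap k A a' + b * b' * (G : A), by
        rw [← map_mul (Ideal.Quotient.mk I), map_mul (algebraMap k A)]; congr 1; ring⟩
  have hspan : (⊤ : Submodule (IsLocalRing.ResidueField A) m.Cotangent) ≤ Submodule.span _ {m.toCotangent G} := by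
    intro z _
    obtain ⟨⟨a, ha⟩, rfl⟩ := m.toCotangent_surjective z
    obtain ⟨a₀, b, hb⟩ := key (Ideal.Quotient.mk I a)
    have hsq : algebraMap k A a₀ + b * (G : A) - a ∈ m ^ 2 := hcon _ (Ideal.Quotient.eq.mp hb)
    have ha₀ : a₀ = 0 := by
      by_contra h
      have h1 : algebraMap k A a₀ ∈ m := by
        have := m.sub_mem (m.add_mem (Ideal.pow_le_self two_ne_zero hsq) ha) (m.mul_mem_left b G.2)
        simpa using this
      exact h1 ((IsUnit.mk0 _ h).map _)
    rw [ha₀, map_zero, zero_add] at hsq
    refine Submodule.mem_span_singleton.mpr ⟨IsLocalRing.residue A b, ?_⟩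
    rw [← IsLocalRing.ResidueField.algebraMap_eq, algebraMap_smul, ← map_smul, Ideal.toCotangent_eq]
    exact hsq
  have h1 : Module.finrank (IsLocalRing.ResidueField A) (IsLocalRing.CotangentSpace A) ≤ 1 :=
    finrank_le_one _ (fun w => Submodule.mem_span_singleton.mp (hspan (Submodule.mem_top (x := w))))
  omega

end Groth.Agent.S19438
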