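import Groth.Statements.S19439
import Mathlib.RingTheory.MvPolynomial.Basic
import Mathlib.LinearAlgebra.FiniteDimensional.Lemmas
import Mathlib.RingTheory.Ideal.Quotient.Operations

set_option autoImplicit false
universe u
open CAlg

namespace Groth.Agent.S19439

/-- Affine form: for all n and N there is an integer d, that depends only on n and N, such that for
every algebraically closed field k and every ideal I of the polynomial ring in N variables over k
whose quotient has finite dimension n over k, the polynomials of total degree at most d map onto the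
quotient. -/
theorem result (n N : ℕ) :
    ∃ d : ℕ, ∀ (k : Type u) [Field k] [IsAlgClosed k] (I : Ideal (MvPolynomial (Fin N) k))
      [Module.Finite k (MvPolynomial (Fin N) k ⧸ I)],
      Module.finrank k (MvPolynomial (Fin N) k ⧸ I) = n →
      Submodule.map (Ideal.Quotient.mkₐ k I).toLinearMap (MvPolynomial.restrictTotalDegree (Fin N) k d) = ⊤ := by
  refine ⟨n, fun k _ _ I _ hn => ?_⟩
  let W : ℕ → Submodule k (MvPolynomial (Fin N) k ⧸ I) := fun d =>
    Submodule.map (Ideal.Quotient.mkₐ k I).toLinearMap (MvPolynomial.restrictTotalDegree (Fin N) k d)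
  have hmono : ∀ d, W d ≤ W (d + 1) := fun d => Submodule.map_mono fun p hp => by
    rw [MvPolynomial.mem_restrictTotalDegree] at hp ⊢
    omega
  have hstab : ∀ d, W (d + 1) ≤ W d → W d = ⊤ := by
    intro d hd
    rw [eq_top_iff]
    rintro x -
    obtain ⟨p, rfl⟩ := Ideal.Quotient.mk_surjective x
    induction p using MvPolynomial.induction_on with
    | C a => exact ⟨MvPolynomial.C a, by rw [SetLike.mem_coe, MvPolynomial.mem_restrictTotalDegree, MvPolynomial.totalDegree_C]; omega, rfl⟩
    | add p q hp hq => rw [map_add]; exact add_mem hp hq
    | mul_X p i hp =>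
      obtain ⟨q, hq, hqp⟩ := hp
      refine hd ⟨q * MvPolynomial.X i, ?_, ?_⟩
      · rw [SetLike.mem_coe, MvPolynomial.mem_restrictTotalDegree] at hq ⊢
        refine (MvPolynomial.totalDegree_mul _ _).trans ?_
        rw [MvPolynomial.totalDegree_X]
        omega
      · show Ideal.Quotient.mk I (q * MvPolynomial.X i) = Ideal.Quotient.mk I (p * MvPolynomial.X i)
        rw [map_mul, map_mul]
        exact congrArg (· * _) hqp
  have key : ∀ d, W d = ⊤ ∨ d ≤ Module.finrank k (W d) := by
    intro d
    induction d with
    | zero => exact Or.inr (Nat.zero_le _)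
    | succ d ih =>
      by_cases h : W (d + 1) ≤ W d
      · exact Or.inl (top_le_iff.mp (hstab d h ▸ hmono d))
      · rcases ih with ih | ih
        · exact absurd (ih ▸ le_top) h
        · have := Submodule.finrank_lt_finrank_of_lt (lt_of_le_not_ge (hmono d) h)
          exact Or.inr (by omega)
  rcases key n with h | h
  · exact h
  · exact Submodule.eq_top_of_finrank_eq (le_antisymm (Submodule.finrank_le _) (hn ▸ h))

end Groth.Agent.S19439
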