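import Groth.Statements.S19441
import Groth.Agent.L11.HilbConn.Local

set_option autoImplicit false
set_option linter.style.haveILetI false
set_option backward.isDefEq.respectTransparency false
set_option backward.isDefEq.respectTransparency.types false
universe u
open CategoryTheory CategoryTheory.Limits AlgebraicGeometry
open HilbD

namespace Groth.Agent.S19441

/-- Let k be an algebraically closed field and R a local commutative k-algebra, finite-dimensional over
k. For every n, if (H, Z) represents the Hilbert functor of n points of Spec R over Spec k (Z a
closed subscheme of Spec R ×_k H finite locally free of degree n over H, every such family over a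
k-scheme T being the pullback of Z along a unique k-morphism T → H), then H — the punctual Hilbert
scheme of ideals of colength n of R — has preconnected underlying space (connected when non-empty). -/
theorem result (k : Type u) [Field k] [IsAlgClosed k]
    (R : Type u) [CommRing R] [Algebra k R] [IsLocalRing R] [Module.Finite k R] (n : ℕ)
    (H : Over (Spec (CommRingCat.of k)))
    (Z : HilbD.Obj (Spec.map (CommRingCat.ofHom (algebraMap k R))) n H)
    (hH : HilbD.IsUniversal (Spec.map (CommRingCat.ofHom (algebraMap k R))) n H Z) :
    PreconnectedSpace H.left := by
  haveI : IsFinite (Spec.map (CommRingCat.ofHom (algebraMap k R))) := by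
    rw [IsFinite.SpecMap_iff]; exact RingHom.finite_algebraMap.2 inferInstance
  have hfin : ∀ E : Set (Spec (CommRingCat.of R)), E.Finite →
      ∃ U : (Spec (CommRingCat.of R)).Opens, IsAffineOpen U ∧ E ⊆ U :=
    fun E _ => ⟨⊤, isAffineOpen_top _, fun _ _ => trivial⟩
  induction n generalizing H with
  | zero =>
    haveI := Groth.L11.HilbConn.lft_of_isUniversal hH hfin
    haveI := Groth.L11.HilbConn.connectedSpace_zero hfin hH
    infer_instance
  | succ n ih =>
    obtain ⟨H₀, Z₀, hH₀⟩ := Groth.Agent.S1166.result (Spec.map (CommRingCat.ofHom (algebraMap k R))) n
      fun s x _ => ⟨⊤, isAffineOpen_top _, fun _ => trivial⟩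
    haveI := ih H₀ Z₀ hH₀
    haveI := Groth.L11.HilbConn.lft_of_isUniversal hH₀ hfin
    haveI := Groth.L11.HilbConn.lft_of_isUniversal hH hfin
    exact Groth.L11.HilbConn.preconnectedSpace_succ_local hH₀ hH rfl

end Groth.Agent.S19441
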