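import Groth.Statements.S19442
import Groth.Agent.L11.Fogarty.Main
import Groth.Agent.L16.ProjSpace.Basic


set_option autoImplicit false
set_option linter.style.haveILetI false
set_option backward.isDefEq.respectTransparency false
set_option backward.isDefEq.respectTransparency.types false
universe u
open CategoryTheory CategoryTheory.Limits AlgebraicGeometry
open HilbD

namespace Groth.Agent.S19442

/-- Let k be an algebraically closed field and X a smooth connected quasi-projective surface over k —
the structure morphism X → Spec k is smooth and factors as a quasi-compact immersion into a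
projective space over k, and X is connected of dimension 2. Let n ≥ 0 and let (H, Z) represent the
Hilbert functor of n points of X over k: Z is a closed subscheme of X ×_k H finite locally free of
degree n over H and every such family over a k-scheme T is the pullback of Z along a unique
k-morphism T → H. Then H is connected, every local ring of H is regular, and the dimension of H is
2n. -/
theorem result (k : Type u) [Field k]
    [IsAlgClosed k] (X : Over (Spec (CommRingCat.of k))) [Smooth X.hom]
    (hqp : RelProj.IsHQuasiProjective X.hom) [ConnectedSpace X.left] (hdim : topologicalKrullDim X.left = 2)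
    (n : ℕ) (H : Over (Spec (CommRingCat.of k))) (Z : HilbD.Obj X.hom n H)
    (hH : HilbD.IsUniversal X.hom n H Z) :
    ConnectedSpace H.left ∧ (∀ h : H.left, IsRegularLocalRing (H.left.presheaf.stalk h)) ∧
      topologicalKrullDim H.left = (2 * n : ℕ) := by
  obtain ⟨N, i, hi, hqc, hcomp⟩ := id hqp
  haveI := hi
  haveI := hqc
  haveI : IsProper (CohB1.ProjSpaceOver.toBase N (Spec (CommRingCat.of k))) := MorphismProperty.pullback_snd (P := @IsProper) _ _
    (Groth.L16.ProjSpace.isProper_toSpec N (ULift.{u} ℤ))
  haveI : IsSeparated X.hom := by rw [← hcomp]; infer_instance
  haveI : QuasiCompact X.hom := by rw [← hcomp]; infer_instance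
  haveI : LocallyOfFiniteType X.hom := inferInstance
  have hreg : ∀ x : X.left, IsRegularLocalRing (X.left.presheaf.stalk x) := fun x => by
    letI : X.left.Over (Spec (CommRingCat.of k)) := ⟨X.hom⟩
    haveI : Smooth (X.left ↘ Spec (CommRingCat.of k)) := inferInstanceAs (Smooth X.hom)
    exact Groth.Agent.S1535.result k X.left x
  obtain ⟨h1, -, h3, h4⟩ := Groth.L11.Fogarty.fogarty
    (Groth.L11.Fogarty.exists_affine_of_finite hqp) hreg hdim n hH
  exact ⟨h1, h3, h4⟩

end Groth.Agent.S19442
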