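import Groth.Statements.S19443


set_option autoImplicit false
universe u
open LinAlg

namespace Groth.Agent.S19443

/-- Algebraic form: let G be a finite group with order invertible in the field k, ρ a linear
representation of G on a k-vector space V, and ω a nondegenerate bilinear form on V invariant under
G. Then ω restricted to the fixed subspace V^G is nondegenerate (for a finite group of symplectic
automorphisms, the fixed subspace is a symplectic subspace). -/
theorem result (k : Type u) [Field k]
    (G : Type u) [Group G] [Finite G] (hG : (Nat.card G : k) ≠ 0)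
    (V : Type u) [AddCommGroup V] [Module k V] (ρ : Representation k G V)
    (ω : LinearMap.BilinForm k V) (hω : ω.Nondegenerate)
    (hinv : ∀ (g : G) (v w : V), ω (ρ g v) (ρ g w) = ω v w) :
    (ω.restrict ρ.invariants).Nondegenerate := by
  classical
  haveI := Fintype.ofFinite G
  have hG' : (Fintype.card G : k) ≠ 0 := by rwa [← Nat.card_eq_fintype_card]
  let P : V →ₗ[k] V := ∑ g : G, ρ g
  have hP : ∀ u, P u ∈ ρ.invariants := fun u h => by
    simp only [P, LinearMap.sum_apply, map_sum]
    refine Fintype.sum_equiv (Equiv.mulLeft h) _ _ fun g => ?_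
    simp [map_mul]
  have hl : ∀ v ∈ ρ.invariants, ∀ u, ω v (P u) = (Fintype.card G : k) * ω v u := by
    intro v hv u
    simp only [P, LinearMap.sum_apply, map_sum]
    have : ∀ g : G, ω v (ρ g u) = ω v u := fun g => by
      conv_lhs => rw [← hv g]
      exact hinv g v u
    simp [this]
  have hr : ∀ v ∈ ρ.invariants, ∀ u, ω (P u) v = (Fintype.card G : k) * ω u v := by
    intro v hv u
    simp only [P, LinearMap.sum_apply, map_sum]
    have : ∀ g : G, ω (ρ g u) v = ω u v := fun g => by
      conv_lhs => rw [← hv g]
      exact hinv g u v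
    simp [this]
  constructor
  · rintro ⟨v, hv⟩ h
    refine Subtype.ext (hω.1 v fun u => ?_)
    have h1 : ω v (P u) = 0 := h ⟨P u, hP u⟩
    rw [hl v hv u] at h1
    exact (mul_eq_zero.1 h1).resolve_left hG'
  · rintro ⟨v, hv⟩ h
    refine Subtype.ext (hω.2 v fun u => ?_)
    have h1 : ω (P u) v = 0 := h ⟨P u, hP u⟩
    rw [hr v hv u] at h1
    exact (mul_eq_zero.1 h1).resolve_left hG' 

end Groth.Agent.S19443
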