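import Groth.Statements.S19444
import Groth.Agent.L22.Gamma.Universal
import Mathlib.Algebra.BigOperators.Ring.Finset
import Mathlib.Data.Finset.Powerset
import Mathlib.RingTheory.Norm.Basic
import Mathlib.Data.Nat.Choose.Sum

set_option autoImplicit false
universe u
open SymTen

namespace Groth.Agent.S19444

variable {_unused : Unit}

open scoped TensorProduct

/-- polarisation -/
theorem symmetrise_mem_span (A : Type u) [CommRing A] (R : Type u) [CommRing R] [Algebra A R] (n : ℕ)
    (t : ⨂[A] _ : Fin n, R) :
    Groth.L22.Gamma.symmetrise A R n t ∈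
      Submodule.span A (Set.range fun r : R => PiTensorProduct.tprod A fun _ : Fin n => r) := by
  classical
  induction t using PiTensorProduct.induction_on with
  | add a b ha hb => rw [map_add]; exact add_mem ha hb
  | smul_tprod a v =>
    rw [map_smul]
    refine Submodule.smul_mem _ _ ?_
    have key : Groth.L22.Gamma.symmetrise A R n (PiTensorProduct.tprod A v) =
        ∑ S ∈ (Finset.univ : Finset (Fin n)).powerset,
          ((-1 : A) ^ (n - S.card)) • PiTensorProduct.tprod A (fun _ : Fin n => ∑ i ∈ S, v i) := by
      have hexp : ∀ S : Finset (Fin n), PiTensorProduct.tprod A (fun _ : Fin n => ∑ i ∈ S, v i) =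
          ∑ c : Fin n → Fin n, if Finset.univ.image c ⊆ S then PiTensorProduct.tprod A (fun k => v (c k)) else 0 := by
        intro S
        rw [MultilinearMap.map_sum_finset, ← Finset.sum_filter]
        refine Finset.sum_congr ?_ fun c _ => rfl
        ext c
        simp [Finset.image_subset_iff]
      simp only [hexp, Finset.smul_sum, smul_ite, smul_zero]
      rw [Finset.sum_comm, Groth.L22.Gamma.symmetrise_apply]
      have hinner : ∀ c : Fin n → Fin n, (∑ S ∈ (Finset.univ : Finset (Fin n)).powerset,
          if Finset.univ.image c ⊆ S then ((-1 : A) ^ (n - S.card)) • PiTensorProduct.tprod A (fun k => v (c k)) else 0) =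
          if Function.Bijective c then PiTensorProduct.tprod A (fun k => v (c k)) else 0 := by
        intro c
        set T := (Finset.univ.image c)ᶜ with hT
        have e : (∑ S ∈ (Finset.univ : Finset (Fin n)).powerset,
            if Finset.univ.image c ⊆ S then ((-1 : A) ^ (n - S.card)) else 0) = ∑ U ∈ T.powerset, (-1 : A) ^ U.card := by
          rw [← Finset.sum_filter]
          refine Finset.sum_nbij' (fun S => Sᶜ) (fun U => Uᶜ) ?_ ?_ ?_ ?_ ?_
          · exact fun S hS => by simpa [hT, Finset.compl_subset_compl] using hS
          · intro U hU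
            rw [Finset.mem_powerset] at hU
            rw [Finset.mem_filter, Finset.mem_powerset]
            refine ⟨Finset.subset_univ _, ?_⟩
            have := Finset.compl_subset_compl.2 hU
            rwa [hT, compl_compl] at this
          · exact fun S _ => compl_compl S
          · exact fun U _ => compl_compl U
          · exact fun S _ => by rw [Finset.card_compl, Fintype.card_fin]
        have e2 : ∑ U ∈ T.powerset, (-1 : A) ^ U.card = if T = ∅ then 1 else 0 := by
          have := congrArg (Int.cast : ℤ → A) (Finset.sum_powerset_neg_one_pow_card (x := T))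
          push_cast at this
          rw [this]
          try split_ifs <;> simp
        have e3 : T = ∅ ↔ Function.Bijective c := by
          rw [hT, Finset.compl_eq_empty_iff, ← Finite.surjective_iff_bijective, Finset.eq_univ_iff_forall]
          simp [Function.Surjective]
        have e4 := congrArg (fun z : A => z • PiTensorProduct.tprod A (fun k => v (c k))) (e.trans e2)
        simp only [Finset.sum_smul, ite_smul, zero_smul, one_smul] at e4
        rw [e4]
        exact if_congr e3 rfl rfl
      rw [Finset.sum_congr rfl fun c _ => hinner c, ← Finset.sum_filter]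
      refine Finset.sum_bij (fun σ _ => (⇑σ.symm : Fin n → Fin n)) ?_ ?_ ?_ ?_
      · exact fun σ _ => Finset.mem_filter.2 ⟨Finset.mem_univ _, σ.symm.bijective⟩
      · intro σ _ σ' _ h; exact Equiv.symm_bijective.injective (Equiv.coe_fn_injective h)
      · intro c hc
        rw [Finset.mem_filter] at hc
        exact ⟨(Equiv.ofBijective c hc.2).symm, Finset.mem_univ _, by ext k; simp⟩
      · exact fun σ _ => SymTen.perm_tprod A R n σ v
    rw [key]
    exact Submodule.sum_mem _ fun S _ => Submodule.smul_mem _ _ (Submodule.subset_span ⟨_, rfl⟩)

open SymTen in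

/-- Linearised norm: let A be a commutative ring in which n! is invertible and R a commutative
A-algebra, free of rank n as an A-module. There is a unique A-algebra homomorphism from the
symmetric tensors TS^n_A(R) to A taking r ⊗ ⋯ ⊗ r to the norm of r for every r in R. (The published
corollary is stated for any free algebra of rank n; the construction printed for it divides by n!,
and n! invertible is assumed here.) -/
theorem result (A : Type u) [CommRing A] (R : Type u) [CommRing R]
    [Algebra A R] [Module.Free A R] [Module.Finite A R] (n : ℕ) (hn : Module.finrank A R = n)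
    (hfact : IsUnit ((Nat.factorial n : ℕ) : A)) :
    ∃! φ : SymTen.TS A R n →ₐ[A] A, ∀ r : R, φ (SymTen.tpow A R n r) = Algebra.norm A r := by
  classical
  obtain ⟨τ, hτ, hG⟩ := Groth.L22.Gamma.exists_isGammaD_of_flat_or_isUnit (A := A) (B := R) n (Or.inr hfact)
  obtain ⟨φ, hφ, -⟩ := hG A (PolLaw.normLaw A R n hn)
  have hτr : ∀ r : R, τ.law.ground r = SymTen.tpow A R n r := by
    intro r
    apply Subtype.val_injective
    show (SymTen.TS A R n).val.toLinearMap (τ.law.ground r) = _
    rw [← Groth.L22.Gamma.ground_postcomp, hτ, Groth.L22.Gamma.ground_eq, SymTen.tpowLaw_tmul, one_pow,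
      TensorProduct.lid_tmul, one_smul]
    rfl
  have hval : ∀ r : R, φ (SymTen.tpow A R n r) = Algebra.norm A r := by
    intro r
    rw [← hτr, show φ (τ.law.ground r) = φ.toLinearMap (τ.law.ground r) from rfl,
      ← Groth.L22.Gamma.ground_postcomp, hφ, Groth.L22.Gamma.ground_eq, PolLaw.normLaw_apply,
      TensorProduct.lid_tmul, smul_eq_mul, mul_one]
    refine (Algebra.norm_eq_of_algEquiv (Algebra.TensorProduct.lid A R) _).symm.trans ?_
    simp
  refine ⟨φ, hval, fun φ' hφ' => AlgHom.ext fun t => ?_⟩
  obtain ⟨u, hu⟩ := hfact
  have hs := Groth.L22.Gamma.symmetrise_self t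
  have key := symmetrise_mem_span A R n ((SymTen.TS A R n).val t)
  rw [hs, ← Nat.cast_smul_eq_nsmul A, ← hu] at key
  have ht : (SymTen.TS A R n).val t ∈
      Submodule.span A (Set.range fun r : R => PiTensorProduct.tprod A fun _ : Fin n => r) := by
    have := Submodule.smul_mem _ (↑u⁻¹ : A) key
    rwa [smul_smul, Units.inv_mul, one_smul] at this
  have hmap : Submodule.span A (Set.range fun r : R => PiTensorProduct.tprod A fun _ : Fin n => r) =
      (Submodule.span A (Set.range fun r : R => SymTen.tpow A R n r)).map (SymTen.TS A R n).val.toLinearMap := by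
    rw [Submodule.map_span, ← Set.range_comp]; rfl
  rw [hmap] at ht
  obtain ⟨t', ht', hte⟩ := ht
  obtain rfl : t' = t := Subtype.val_injective hte
  exact LinearMap.eqOn_span (f := φ'.toLinearMap) (g := φ.toLinearMap)
    (by rintro _ ⟨r, rfl⟩; exact (hφ' r).trans (hval r).symm) ht' 

end Groth.Agent.S19444
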