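import Mathlib.RingTheory.RegularLocalRing.Defs
import Mathlib.Algebra.Ring.Action.Basic
import Mathlib.RingTheory.Ideal.Quotient.Operations
import Mathlib.RingTheory.LocalRing.ResidueField.Defs
import Mathlib.Algebra.Algebra.Defs
import Groth.Agent.L02.FixedLocusRegular

set_option autoImplicit false
namespace CAlg
end CAlg
universe u
open CAlg

namespace Groth.Agent.S19445

/-- Local form: let k be a field and A a regular local k-algebra with maximal ideal M and residue field
k (k maps onto A/M); let a finite group G whose order is invertible in k act on A by k-algebra
automorphisms. Then A/J is a regular local ring, where J is the ideal generated by the elements g·a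
− a (J defines the fixed-point subscheme, so the fixed locus of G is smooth at the point). The
accompanying identification of its tangent space with the G-invariants of the tangent space of A is
not restated here. -/
theorem result (k : Type u) [Field k] (A : Type u) [CommRing A]
    [Algebra k A] [IsRegularLocalRing A]
    (hres : Function.Surjective (algebraMap k (IsLocalRing.ResidueField A)))
    (G : Type u) [Group G] [Finite G] [MulSemiringAction G A] [SMulCommClass G k A]
    (hG : (Nat.card G : k) ≠ 0) :
    IsRegularLocalRing (A ⧸ Ideal.span {x : A | ∃ (g : G) (a : A), x = g • a - a}) := by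
  haveI := Fintype.ofFinite G
  refine Groth.L02.FixedLocusRegular.isRegularLocalRing_coinvariants (k := k) (by rwa [← Nat.card_eq_fintype_card]) fun a => ?_
  obtain ⟨c, hc⟩ := hres (IsLocalRing.residue A a)
  refine ⟨c, Ideal.Quotient.eq_zero_iff_mem.mp ?_⟩
  show IsLocalRing.residue A (a - algebraMap k A c) = 0
  rw [map_sub, ← hc, sub_eq_zero]
  rfl

end Groth.Agent.S19445
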