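import Groth.Statements.S19447
import Groth.Agent.L15.CST.Main
import Groth.Agent.L01.PowSerReg
import Groth.Agent.S0565
-- import your own Groth.Agent.* helpers here

set_option autoImplicit false
universe u
open ConstAct

namespace Groth.Agent.S19447

/-- Let k be an algebraically closed field, A the power series ring in n variables over k with maximal
ideal M, and G a finite group of order invertible in k acting faithfully on A by k-algebra
automorphisms, A being finite over the ring of invariants A^G. Say g is a pseudo-reflection or acts
trivially on the cotangent space when A modulo M^2 and the elements g·a − a has dimension at least n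
over k. If G is generated by such elements, then A is flat over A^G and A^G is a regular local ring:
generation by pseudo-reflections implies the other two conditions of the published criterion (only
this sufficiency half is stated; the converse implication is not part of this statement). -/
theorem result (k : Type u) [Field k]
    [IsAlgClosed k] (n : ℕ) (G : Type u) [Group G] [Finite G] [MulSemiringAction G (MvPowerSeries (Fin n) k)]
    [SMulCommClass G k (MvPowerSeries (Fin n) k)] [FaithfulSMul G (MvPowerSeries (Fin n) k)]
    (hG : (Nat.card G : k) ≠ 0)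
    [Module.Finite (ConstAct.inv k (MvPowerSeries (Fin n) k) G) (MvPowerSeries (Fin n) k)]
    (hgen : Subgroup.closure {g : G | n ≤ Module.finrank k (MvPowerSeries (Fin n) k ⧸
        (Ideal.span {x : MvPowerSeries (Fin n) k | ∃ a, x = g • a - a} ⊔
          IsLocalRing.maximalIdeal (MvPowerSeries (Fin n) k) ^ 2))} = ⊤) :
    Module.Flat (ConstAct.inv k (MvPowerSeries (Fin n) k) G) (MvPowerSeries (Fin n) k) ∧
      IsRegularLocalRing (ConstAct.inv k (MvPowerSeries (Fin n) k) G) := by
  have hA : ∀ a : MvPowerSeries (Fin n) k, a ∈ ConstAct.inv k (MvPowerSeries (Fin n) k) G ↔ ∀ g : G, g • a = a :=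
    fun a => Iff.rfl
  haveI := Groth.L01.PowSerReg.isRegularLocalRing k n
  haveI : IsDomain (MvPowerSeries (Fin n) k) := NoZeroDivisors.to_isDomain _
  have hres : Groth.L15.CST.RatPt k (MvPowerSeries (Fin n) k) := fun x => by
    refine ⟨MvPowerSeries.constantCoeff x, ?_⟩
    rw [IsLocalRing.mem_maximalIdeal, mem_nonunits_iff, MvPowerSeries.isUnit_iff_constantCoeff]
    simp [MvPowerSeries.algebraMap_apply]
  have hflat := Groth.L15.CST.flat (ConstAct.inv k (MvPowerSeries (Fin n) k) G) hA hres
    (fun i => MvPowerSeries.X i) (Groth.L01.PowSerReg.maximalIdeal_eq k n).symm hG hgen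
  haveI := hflat
  haveI := Groth.L15.CST.isLocalRing (ConstAct.inv k (MvPowerSeries (Fin n) k) G) hA
  haveI := Groth.L15.CST.isNoetherianRing (ConstAct.inv k (MvPowerSeries (Fin n) k) G) hA hG
  haveI : IsLocalHom (algebraMap (ConstAct.inv k (MvPowerSeries (Fin n) k) G) (MvPowerSeries (Fin n) k)) :=
    ⟨fun a ha => (Groth.L15.CST.isUnit_iff _ hA).mpr ha⟩
  exact ⟨hflat, Groth.Agent.S0565.result _ (MvPowerSeries (Fin n) k)⟩

end Groth.Agent.S19447
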