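import Groth.Statements.S19448
import Mathlib.RingTheory.Filtration
import Mathlib.Algebra.Ring.Action.Basic
import Mathlib.Algebra.Algebra.Basic
import Mathlib.RingTheory.LocalRing.ResidueField.Basic
import Mathlib.GroupTheory.OrderOfElement

set_option autoImplicit false
universe u
open CAlg

namespace Groth.Agent.S19448

/-- Let k be a field, A a Noetherian local k-algebra with maximal ideal M and residue field k, and G a
finite group with |G| ≠ 0 in k acting on A by k-algebra automorphisms. An element of G which acts
trivially on M/M^2 acts trivially on A; in other words the stabilizer acts faithfully on the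
cotangent space whenever it acts faithfully on the local ring. -/
theorem result (k : Type u) [Field k] (A : Type u) [CommRing A]
    [Algebra k A] [IsLocalRing A] [IsNoetherianRing A]
    (hres : Function.Surjective (algebraMap k (IsLocalRing.ResidueField A)))
    (G : Type u) [Group G] [Finite G] [MulSemiringAction G A] [SMulCommClass G k A]
    (hG : (Nat.card G : k) ≠ 0) (g : G)
    (hg : ∀ a ∈ IsLocalRing.maximalIdeal A, g • a - a ∈ IsLocalRing.maximalIdeal A ^ 2) (a : A) :
    g • a = a := by
  classical
  set m := IsLocalRing.maximalIdeal A
  let T : A →+* A := MulSemiringAction.toRingHom G A g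
  have hTk : ∀ c : k, g • (algebraMap k A c) = algebraMap k A c := fun c => by
    rw [Algebra.algebraMap_eq_smul_one, smul_comm, smul_one]
  have hsplit : ∀ a : A, ∃ c : k, a - algebraMap k A c ∈ m := fun a => by
    obtain ⟨c, hc⟩ := hres (IsLocalRing.residue A a)
    refine ⟨c, ?_⟩
    rw [← IsLocalRing.residue_eq_zero_iff, map_sub, ← hc, IsScalarTower.algebraMap_apply k A (IsLocalRing.ResidueField A)]
    exact sub_self _
  have h1 : ∀ a : A, g • a - a ∈ m ^ 2 := fun a => by
    obtain ⟨c, hc⟩ := hsplit a
    have := hg _ hc
    rwa [smul_sub, hTk, sub_sub_sub_cancel_right] at this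
  -- raising the filtration degree
  have hstab : ∀ n : ℕ, ∀ x ∈ m ^ n, g • x - x ∈ m ^ (n + 1) := by
    intro n
    induction n with
    | zero => intro x _; exact Ideal.pow_le_pow_right (by omega) (h1 x)
    | succ n ih =>
      intro x hx
      rw [pow_succ] at hx
      refine Submodule.mul_induction_on hx (fun a ha b hb => ?_) (fun a b ha hb => ?_)
      · rw [smul_mul', show (g • a) * (g • b) - a * b = (g • a - a) * (g • b) + a * (g • b - b) by ring]
        have hgb : g • b ∈ m := by
          have : g • b - b ∈ m := Ideal.pow_le_self two_ne_zero (hg b hb)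
          simpa using m.add_mem this hb
        refine Ideal.add_mem _ (by rw [pow_succ (n := n + 1)]; exact Ideal.mul_mem_mul (ih a ha) hgb) ?_
        rw [show n + 1 + 1 = n + 2 by omega, pow_add]
        exact Ideal.mul_mem_mul ha (hg b hb)
      · rw [smul_add, add_sub_add_comm]; exact Ideal.add_mem _ ha hb
  have hdeep : ∀ n : ℕ, ∀ a : A, g • a - a ∈ m ^ n := by
    intro n
    induction n with
    | zero => intro a; simp
    | succ n ih =>
      intro a
      let d := g • a - a
      have hi : ∀ i : ℕ, (g ^ i) • a - a - (i : A) * d ∈ m ^ (n + 1) := by
        intro i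
        induction i with
        | zero => simp
        | succ i hi =>
          have hd : ∀ j : ℕ, (g ^ j) • d - d ∈ m ^ (n + 1) := by
            intro j
            induction j with
            | zero => simp
            | succ j hj =>
              have hdm : (g ^ j) • d ∈ m ^ n := by
                have := (m ^ n).add_mem (Ideal.pow_le_pow_right (Nat.le_succ n) hj) (ih a)
                simpa [d] using this
              have := (m ^ (n + 1)).add_mem (hstab n _ hdm) hj
              rw [pow_succ' g j, mul_smul]
              simpa using this
          have heq : (g ^ (i + 1)) • a - a - ((i + 1 : ℕ) : A) * d = ((g ^ i) • a - a - (i : A) * d) + ((g ^ i) • d - d) := by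
            simp only [d, smul_sub, ← mul_smul, ← pow_succ]
            push_cast
            ring
          rw [heq]
          exact Ideal.add_mem _ hi (hd i)
      have hN := hi (Nat.card G)
      rw [pow_card_eq_one', one_smul, sub_self, zero_sub, neg_mem_iff] at hN
      have hu : IsUnit ((Nat.card G : ℕ) : A) := by
        rw [← map_natCast (algebraMap k A)]
        exact (IsUnit.mk0 _ hG).map _
      obtain ⟨u, hu⟩ := hu.exists_left_inv
      have := (m ^ (n + 1)).mul_mem_left u hN
      rwa [← mul_assoc, hu, one_mul] at this
  have h0 : g • a - a ∈ ⨅ n : ℕ, m ^ n := Submodule.mem_iInf _ |>.mpr fun n => hdeep n a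
  rw [Ideal.iInf_pow_eq_bot_of_isLocalRing _ (IsLocalRing.maximalIdeal.isMaximal A).ne_top] at h0
  exact sub_eq_zero.mp h0

end Groth.Agent.S19448
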