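import Groth.Statements.S19449

set_option autoImplicit false
universe u
open SymRep

namespace Groth.Agent.S19449

/-- Over a field k of characteristic zero, let the symmetric group S_n act on the polynomial ring in the
2n variables x_i, y_i (i < n; the variable (i, 0) is x_i and (i, 1) is y_i) by permuting the index
i, and for an n-tuple p of pairs (p_j, q_j) of exponents let Δ_p be the determinant det(x_i^{p_j}
y_i^{q_j}). A polynomial is alternating — each permutation acts on it by its sign — exactly when it
is a k-linear combination of the Δ_p; and the Δ_p for p strictly increasing in the lexicographic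
order on pairs (one for each n-element set of exponent pairs) are linearly independent. Hence these
Δ_p form a basis of the space of alternating polynomials. -/
theorem result (k : Type u) [Field k] [CharZero k] (n : ℕ) :
    (∀ f : MvPolynomial (Fin n × Fin 2) k,
      (∀ σ : Equiv.Perm (Fin n),
          MvPolynomial.rename (fun v : Fin n × Fin 2 => (σ v.1, v.2)) f = ((Equiv.Perm.sign σ : ℤˣ) : ℤ) • f) ↔
        f ∈ Submodule.span k (Set.range fun p : Fin n → ℕ × ℕ =>
          (Matrix.of fun i j : Fin n =>
            (MvPolynomial.X (i, 0) : MvPolynomial (Fin n × Fin 2) k) ^ (p j).1 * MvPolynomial.X (i, 1) ^ (p j).2).det)) ∧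
    LinearIndependent k (fun p : {p : Fin n → ℕ ×ₗ ℕ // StrictMono p} =>
      (Matrix.of fun i j : Fin n =>
        (MvPolynomial.X (i, 0) : MvPolynomial (Fin n × Fin 2) k) ^ (ofLex (p.1 j)).1 *
          MvPolynomial.X (i, 1) ^ (ofLex (p.1 j)).2).det) := by
  classical
  let E : (Fin n → ℕ × ℕ) → (Fin n × Fin 2 →₀ ℕ) := fun p =>
    Finsupp.equivFunOnFinite.symm fun v => if v.2 = 0 then (p v.1).1 else (p v.1).2
  let Δ : (Fin n → ℕ × ℕ) → MvPolynomial (Fin n × Fin 2) k := fun p =>
    (Matrix.of fun i j : Fin n =>
      (MvPolynomial.X (i, 0) : MvPolynomial (Fin n × Fin 2) k) ^ (p j).1 * MvPolynomial.X (i, 1) ^ (p j).2).det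
  let R : Equiv.Perm (Fin n) → MvPolynomial (Fin n × Fin 2) k →ₐ[k] MvPolynomial (Fin n × Fin 2) k := fun σ =>
    MvPolynomial.rename (fun v : Fin n × Fin 2 => (σ v.1, v.2))
  have hmon : ∀ p, MvPolynomial.monomial (E p) (1 : k) =
      ∏ i : Fin n, (MvPolynomial.X (i, 0) : MvPolynomial (Fin n × Fin 2) k) ^ (p i).1 * MvPolynomial.X (i, 1) ^ (p i).2 := by
    intro p
    rw [MvPolynomial.monomial_eq, map_one, one_mul, Finsupp.prod_fintype _ _ (by simp), Fintype.prod_prod_type]
    refine Finset.prod_congr rfl fun i _ => ?_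
    simp [E, Fin.prod_univ_two]
  have hΔ : ∀ p, Δ p = ∑ σ : Equiv.Perm (Fin n), ((Equiv.Perm.sign σ : ℤˣ) : ℤ) • R σ (MvPolynomial.monomial (E p) 1) := by
    intro p
    simp only [Δ, Matrix.det_apply, Matrix.of_apply, Units.smul_def]
    refine Finset.sum_congr rfl fun σ _ => ?_
    simp [hmon, R]
  have halt : ∀ p (τ : Equiv.Perm (Fin n)), R τ (Δ p) = ((Equiv.Perm.sign τ : ℤˣ) : ℤ) • Δ p := by
    intro p τ
    show R τ (Matrix.det _) = _
    rw [AlgHom.map_det, zsmul_eq_mul]
    refine Eq.trans ?_ (Matrix.det_permute τ _)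
    congr 1
    ext i j : 1
    simp [R]
  refine ⟨fun f => ⟨fun hf => ?_, fun hf => ?_⟩, ?_⟩
  · let W := Submodule.span k (Set.range Δ)
    show f ∈ W
    have hN : ∀ σ : Equiv.Perm (Fin n), ((Equiv.Perm.sign σ : ℤˣ) : ℤ) • R σ f = f := by
      intro σ
      rw [show R σ f = _ from hf σ, smul_smul, ← Units.val_mul, Int.units_mul_self, Units.val_one, one_smul]
    let A : MvPolynomial (Fin n × Fin 2) k →ₗ[k] MvPolynomial (Fin n × Fin 2) k :=
      ∑ σ : Equiv.Perm (Fin n), (((Equiv.Perm.sign σ : ℤˣ) : ℤ) : k) • (R σ).toLinearMap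
    have hA : ∀ g, A g = ∑ σ : Equiv.Perm (Fin n), ((Equiv.Perm.sign σ : ℤˣ) : ℤ) • R σ g := by
      intro g
      simp only [A, LinearMap.sum_apply, LinearMap.smul_apply, Int.cast_smul_eq_zsmul, AlgHom.toLinearMap_apply]
    have hd : ∀ d : Fin n × Fin 2 →₀ ℕ, E (fun i => (d (i, 0), d (i, 1))) = d := by
      intro d
      refine Finsupp.ext fun v => ?_
      obtain ⟨i, b⟩ := v
      fin_cases b <;> simp [E]
    have hmA : ∀ q, A (MvPolynomial.monomial (E q) 1) = Δ q := fun q => (hA _).trans (hΔ q).symm
    have hWΔ : ∀ q, Δ q ∈ W := fun q => Submodule.subset_span ⟨q, rfl⟩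
    clear_value W A E Δ
    have hAW : ∀ g, A g ∈ W := by
      intro g
      induction g using MvPolynomial.induction_on' with
      | monomial d c =>
        rw [show MvPolynomial.monomial d c = c • MvPolynomial.monomial d (1 : k) by
          rw [MvPolynomial.smul_monomial, smul_eq_mul, mul_one], map_smul, ← hd d, hmA]
        exact W.smul_mem _ (hWΔ _)
      | add a b ha hb => rw [map_add]; exact W.add_mem ha hb
    have h1 : A f = ((Fintype.card (Equiv.Perm (Fin n)) : ℕ) : k) • f := by
      rw [hA, Finset.sum_congr rfl fun σ _ => hN σ, Finset.sum_const, Finset.card_univ, Nat.cast_smul_eq_nsmul]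
    have h2 : ((Fintype.card (Equiv.Perm (Fin n)) : ℕ) : k) ≠ 0 := Nat.cast_ne_zero.2 Fintype.card_ne_zero
    have h3 := W.smul_mem ((Fintype.card (Equiv.Perm (Fin n)) : k))⁻¹ (hAW f)
    rwa [h1, inv_smul_smul₀ h2] at h3
  · intro σ
    show R σ f = _
    refine Submodule.span_induction ?_ ?_ ?_ ?_ hf
    · rintro _ ⟨p, rfl⟩; exact halt p σ
    · simp
    · intro a b _ _ ha hb; rw [map_add, ha, hb, smul_add]
    · intro c a _ ha; rw [map_smul, ha, smul_comm]
  · rw [linearIndependent_iff']
    intro s g hg p0 hp0
    have key : ∀ p : {p : Fin n → ℕ ×ₗ ℕ // StrictMono p},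
        MvPolynomial.coeff (E fun j => ofLex (p0.1 j)) (Δ fun j => ofLex (p.1 j)) = if p = p0 then 1 else 0 := by
      intro p
      have hmap : ∀ (σ : Equiv.Perm (Fin n)) (q : Fin n → ℕ × ℕ),
          Finsupp.mapDomain (fun v : Fin n × Fin 2 => (σ v.1, v.2)) (E q) = E (q ∘ ⇑σ⁻¹) := by
        intro σ q
        refine Finsupp.ext fun v => ?_
        obtain ⟨i, b⟩ := v
        obtain ⟨i, rfl⟩ := σ.surjective i
        have hinj : Function.Injective (fun v : Fin n × Fin 2 => (σ v.1, v.2)) :=
          (σ.prodCongr (Equiv.refl _)).injective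
        refine (Finsupp.mapDomain_apply hinj (E q) (i, b)).trans ?_
        simp [E]
      have hE : Function.Injective E := by
        intro a b h
        funext i
        have h0 := DFunLike.congr_fun h (i, 0)
        have h1 := DFunLike.congr_fun h (i, 1)
        simp [E] at h0 h1
        exact Prod.ext h0 h1
      rw [hΔ, MvPolynomial.coeff_sum, Finset.sum_eq_single (1 : Equiv.Perm (Fin n))]
      · simp only [R, MvPolynomial.rename_monomial, hmap]
        simp only [map_one, Units.val_one, one_smul, inv_one,
          Equiv.Perm.coe_one, Function.comp_id, MvPolynomial.coeff_monomial]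
        refine if_congr ⟨fun h => Subtype.ext ?_, fun h => h ▸ rfl⟩ rfl rfl
        have := hE h
        funext j
        exact congrFun this j
      · intro σ _ hσ
        simp only [MvPolynomial.coeff_smul, R, MvPolynomial.rename_monomial, hmap, MvPolynomial.coeff_monomial]
        rw [if_neg, smul_zero]
        intro h
        have h' := hE h
        have hr : Set.range p0.1 = Set.range p.1 := by
          have : (fun j => p.1 (σ⁻¹ j)) = p0.1 := funext fun j => congrFun h' j
          rw [← this]
          exact (σ⁻¹).surjective.range_comp p.1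
        have hpp : p0.1 = p.1 := (p0.2.range_inj p.2).1 hr
        apply hσ
        ext j
        have hj := congrFun h' (σ j)
        simp only [Function.comp_apply, hpp] at hj
        have : p.1 (σ⁻¹ (σ j)) = p.1 (σ j) := hj
        rw [show σ⁻¹ (σ j) = j from σ.symm_apply_apply j] at this
        exact congrArg Fin.val (p.2.injective this).symm
      · simp
    have := congrArg (MvPolynomial.coeff (E fun j => ofLex (p0.1 j))) hg
    rw [MvPolynomial.coeff_sum, MvPolynomial.coeff_zero, Finset.sum_eq_single p0] at this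
    · rw [MvPolynomial.coeff_smul] at this
      erw [key p0, if_pos rfl] at this
      simpa using this
    · intro q _ hq
      rw [MvPolynomial.coeff_smul]
      erw [key q, if_neg hq]
      simp
    · exact fun h => (h hp0).elim

end Groth.Agent.S19449
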