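import Groth.Statements.S19452
import Mathlib.RingTheory.Flat.EquationalCriterion
import Mathlib.Algebra.DualNumber
import Mathlib.Algebra.BigOperators.Fin

set_option autoImplicit false
universe u
attribute [local instance] W4c6puncthilbintro.dualAlgebra
open HilbD

namespace Groth.Agent.S19452

open TrivSqZeroExt DualNumber

section Criterion

variable {A : Type*} [CommRing A] {M : Type*} [AddCommGroup M] [Module (DualNumber A) M]
  {N : Type*} [AddCommGroup N] [Module A N]

theorem inl_fst_add_eps (a : DualNumber A) : a = inl a.fst + ε * inl a.snd := by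
  ext <;> simp

theorem eps_smul_eps_smul (m : M) : (ε : DualNumber A) • (ε : DualNumber A) • m = 0 := by
  rw [smul_smul, eps_mul_eps, zero_smul]

/-- Local criterion of flatness over the dual numbers. -/
theorem flat_of_eps [Module.Flat A N] (π : M →+ N) (hπ : ∀ (a : DualNumber A) m, π (a • m) = a.fst • π m)
    (hsurj : Function.Surjective π) (hker : ∀ m, π m = 0 → ∃ m', m = (ε : DualNumber A) • m')
    (heps : ∀ m, (ε : DualNumber A) • m = 0 → π m = 0) : Module.Flat (DualNumber A) M := by
  refine Module.Flat.of_forall_isTrivialRelation fun {l f x} hfx => ?_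
  have h0 : ∑ i, (f i).fst • π (x i) = 0 := by
    rw [← map_zero π, ← hfx, map_sum]
    simp_rw [hπ]
  obtain ⟨k, c, yb, hxy, hc⟩ := Module.Flat.isTrivialRelation_of_sum_smul_eq_zero h0
  choose y hy using fun j => hsurj (yb j)
  have hz : ∀ i, ∃ z, x i = ∑ j, (inl (c i j) : DualNumber A) • y j + (ε : DualNumber A) • z := fun i => by
    obtain ⟨z, hz⟩ := hker (x i - ∑ j, (inl (c i j) : DualNumber A) • y j) (by
      rw [map_sub, map_sum, sub_eq_zero]; refine (hxy i).trans ?_
      exact Finset.sum_congr rfl fun j _ => by rw [hπ, fst_inl, hy])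
    exact ⟨z, by rw [← hz]; abel⟩
  choose z hz using hz
  let b : Fin k → A := fun j => ∑ i, (f i).snd * c i j
  have hcoef : ∀ j, ∑ i, f i * inl (c i j) = (ε : DualNumber A) * inl (b j) := fun j => by
    ext
    · simpa [fst_sum] using hc j
    · simp [snd_sum, b, mul_comm]
  have h1 : π (∑ j, (inl (b j) : DualNumber A) • y j + ∑ i, (inl (f i).fst : DualNumber A) • z i) = 0 := by
    refine heps _ (Eq.trans ?_ hfx)
    simp only [hz, smul_add, Finset.sum_add_distrib, Finset.smul_sum, smul_smul]
    congr 1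
    · rw [Finset.sum_comm]
      exact Finset.sum_congr rfl fun j _ => by rw [← hcoef, Finset.sum_smul]
    · refine Finset.sum_congr rfl fun i _ => ?_
      congr 1
      ext <;> simp [mul_comm]
  simp only [map_add, map_sum, hπ, fst_inl] at h1
  have h2 : ∑ s, Sum.elim b (fun i => (f i).fst) s • Sum.elim (fun j => π (y j)) (fun i => π (z i)) s = 0 := by
    simpa [Fintype.sum_sum_type] using h1
  obtain ⟨k', D, wb, hDw, hD⟩ := Module.Flat.isTrivialRelation_of_sum_smul_eq_zero h2
  choose w hw using fun n => hsurj (wb n)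
  have hlift : ∀ (s : Fin k ⊕ Fin l) (m : M), π m = Sum.elim (fun j => π (y j)) (fun i => π (z i)) s →
      ∃ u, m = ∑ n, (inl (D s n) : DualNumber A) • w n + (ε : DualNumber A) • u := fun s m hm => by
    obtain ⟨u, hu⟩ := hker (m - ∑ n, (inl (D s n) : DualNumber A) • w n) (by
      rw [map_sub, map_sum, sub_eq_zero, hm]; refine (hDw s).trans ?_
      exact Finset.sum_congr rfl fun n _ => by rw [hπ, fst_inl, hw])
    exact ⟨u, by rw [← hu]; abel⟩
  choose u hu using fun j => hlift (.inl j) (y j) rfl
  choose v hv using fun i => hlift (.inr i) (z i) rfl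
  refine ⟨k' + k, fun i => Fin.append (fun n => inl (∑ j, c i j * D (.inl j) n) + ε * inl (D (.inr i) n))
    (fun j => ε * inl (c i j)), Fin.append w u, fun i => ?_, fun t => ?_⟩
  · rw [Fin.sum_univ_add]
    simp only [Fin.append_left, Fin.append_right]
    rw [hz i]
    simp only [hu, hv i, smul_add, Finset.smul_sum, Finset.sum_add_distrib, smul_smul, eps_mul_eps, zero_smul,
      add_zero, add_smul, inl_sum, inl_mul, Finset.sum_smul]
    rw [Finset.sum_comm]
    simp only [mul_comm _ (ε : DualNumber A), add_zero]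
    abel
  · refine Fin.addCases (fun n => ?_) (fun j => ?_) t
    · simp only [Fin.append_left]
      have := hD n
      rw [Fintype.sum_sum_type] at this
      simp only [Sum.elim_inl, Sum.elim_inr, b, Finset.sum_mul] at this
      ext
      · simp only [fst_sum, fst_mul, fst_add, fst_inl, fst_eps, zero_mul, add_zero, fst_zero, Finset.mul_sum]
        rw [Finset.sum_comm]
        refine Finset.sum_eq_zero fun j _ => ?_
        simp only [← mul_assoc, ← Finset.sum_mul, hc j, zero_mul]
      · simp only [snd_sum, DualNumber.snd_mul, fst_add, fst_inl, fst_mul, fst_eps, snd_add, snd_inl, snd_eps,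
          zero_mul, mul_zero, add_zero, zero_add, one_mul, Finset.mul_sum, snd_zero, Finset.sum_add_distrib]
        rw [add_comm]
        conv_lhs => arg 1; rw [Finset.sum_comm]
        simpa [mul_assoc] using this
    · simp only [Fin.append_right]
      ext
      · simp [fst_sum]
      · simpa [snd_sum, mul_comm] using hc j

theorem exists_eps_smul [Module.Flat (DualNumber A) M] {m : M} (hm : (ε : DualNumber A) • m = 0) :
    ∃ m', m = (ε : DualNumber A) • m' := by
  obtain ⟨k, a, y, hx, ha⟩ := Module.Flat.isTrivialRelation_of_sum_smul_eq_zero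
    (f := fun _ : Fin 1 => (ε : DualNumber A)) (x := fun _ => m) (by simpa using hm)
  refine ⟨∑ j, (inl (a 0 j).snd : DualNumber A) • y j, ?_⟩
  refine (hx 0).trans ?_
  rw [Finset.smul_sum]
  refine Finset.sum_congr rfl fun j _ => ?_
  have h := congrArg TrivSqZeroExt.snd (ha j)
  simp at h
  rw [smul_smul]
  congr 1
  ext <;> simp [h]

end Criterion

section Deformation

variable {A R : Type u} [CommRing A] [CommRing R] [Algebra A R]

theorem dualMap_eq (a : DualNumber A) :
    W4c6puncthilbintro.dualMap A R a = inl (algebraMap A R a.fst) + ε * inl (algebraMap A R a.snd) := by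
  conv_lhs => rw [inl_fst_add_eps a, map_add, map_mul, W4c6puncthilbintro.dualMap_eps,
    W4c6puncthilbintro.dualMap_inl, W4c6puncthilbintro.dualMap_inl]
  rfl

theorem fst_smul (a : DualNumber A) (r : DualNumber R) : (a • r).fst = a.fst • r.fst := by
  rw [Algebra.smul_def, Algebra.smul_def]
  show (W4c6puncthilbintro.dualMap A R a * r).fst = _
  rw [dualMap_eq]
  simp

theorem eps_smul_mk (J : Ideal (DualNumber R)) (r : DualNumber R) :
    (ε : DualNumber A) • Ideal.Quotient.mk J r = Ideal.Quotient.mk J (ε * r) := by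
  rw [← W4c6puncthilbintro.dualMap_eps A R]
  rfl

end Deformation

end Groth.Agent.S19452

namespace Groth.Agent.S19452
open TrivSqZeroExt DualNumber

/-- Let A be a commutative ring, R a commutative A-algebra free as an A-module, I an ideal of R with R/I
flat over A, and view the dual numbers R[ε] as an algebra over A[ε] (ε ↦ ε). For φ : I → R/I linear
over R, let J_φ be the ideal of elements a + bε of R[ε] with a ∈ I and b ≡ φ(a) modulo I. Then each
R[ε]/J_φ is flat over A[ε] and J_φ reduces to I modulo ε; the assignment φ ↦ J_φ is injective; and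
every ideal J of R[ε] with R[ε]/J flat over A[ε] which reduces to I modulo ε equals some J_φ. Thus
the first-order liftings of I correspond one-to-one to Hom_R(I, R/I) (the tangent space of the
Hilbert scheme at I). -/
theorem result (A : Type u) [CommRing A] (R : Type u) [CommRing R]
    [Algebra A R] [Module.Free A R] (I : Ideal R) [Module.Flat A (R ⧸ I)] :
    (∀ φ : I →ₗ[R] R ⧸ I,
        Module.Flat (DualNumber A) (DualNumber R ⧸ W4c6puncthilbintro.liftIdeal I φ) ∧
          Ideal.map (TrivSqZeroExt.fstHom A R R) (W4c6puncthilbintro.liftIdeal I φ) = I) ∧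
      Function.Injective (W4c6puncthilbintro.liftIdeal I) ∧
      ∀ J : Ideal (DualNumber R), Module.Flat (DualNumber A) (DualNumber R ⧸ J) →
        Ideal.map (TrivSqZeroExt.fstHom A R R) J = I →
          ∃ φ : I →ₗ[R] R ⧸ I, J = W4c6puncthilbintro.liftIdeal I φ := by
  have hmem : ∀ (φ : I →ₗ[R] R ⧸ I) (x : DualNumber R), x ∈ W4c6puncthilbintro.liftIdeal I φ ↔
      ∃ h : x.fst ∈ I, Ideal.Quotient.mk I x.snd = φ ⟨x.fst, h⟩ := fun _ _ => Iff.rfl
  have hlift : ∀ (φ : I →ₗ[R] R ⧸ I) (a : I), ∃ r : R,
      inl (a : R) + ε * inl r ∈ W4c6puncthilbintro.liftIdeal I φ := fun φ a => by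
    obtain ⟨r, hr⟩ := Ideal.Quotient.mk_surjective (φ a)
    exact ⟨r, by rw [hmem]; exact ⟨by simp, by simp [hr]⟩⟩
  have hfst : ∀ φ : I →ₗ[R] R ⧸ I,
      Ideal.map (TrivSqZeroExt.fstHom A R R) (W4c6puncthilbintro.liftIdeal I φ) = I := fun φ => by
    refine le_antisymm (Ideal.map_le_iff_le_comap.2 fun x hx => ((hmem φ x).1 hx).fst) fun a ha => ?_
    obtain ⟨r, hr⟩ := hlift φ ⟨a, ha⟩
    simpa using Ideal.mem_map_of_mem (TrivSqZeroExt.fstHom A R R) hr
  refine ⟨fun φ => ⟨?_, hfst φ⟩, fun φ ψ h => ?_, fun J hflat hJ => ?_⟩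
  · set J := W4c6puncthilbintro.liftIdeal I φ
    let π : DualNumber R ⧸ J →+* R ⧸ I := Ideal.Quotient.lift J
      ((Ideal.Quotient.mk I).comp (TrivSqZeroExt.fstHom A R R).toRingHom)
      fun x hx => Ideal.Quotient.eq_zero_iff_mem.2 ((hmem φ x).1 hx).fst
    refine flat_of_eps π.toAddMonoidHom (fun a m => ?_) (fun m => ?_) (fun m hm => ?_) fun m hm => ?_
    · obtain ⟨r, rfl⟩ := Ideal.Quotient.mk_surjective m
      exact congrArg (Ideal.Quotient.mk I) (fst_smul a r)
    · obtain ⟨r, rfl⟩ := Ideal.Quotient.mk_surjective m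
      exact ⟨Ideal.Quotient.mk J (inl r), rfl⟩
    · obtain ⟨x, rfl⟩ := Ideal.Quotient.mk_surjective m
      have hx : x.fst ∈ I := Ideal.Quotient.eq_zero_iff_mem.1 hm
      obtain ⟨r, hr⟩ := Ideal.Quotient.mk_surjective (φ ⟨x.fst, hx⟩)
      refine ⟨Ideal.Quotient.mk J (inl (x.snd - r)), ?_⟩
      rw [eps_smul_mk, Ideal.Quotient.eq, hmem]
      exact ⟨by simpa using hx, by simp [hr]⟩
    · obtain ⟨x, rfl⟩ := Ideal.Quotient.mk_surjective m
      rw [eps_smul_mk, Ideal.Quotient.eq_zero_iff_mem, hmem] at hm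
      obtain ⟨h0, h⟩ := hm
      refine Ideal.Quotient.eq_zero_iff_mem.2 (Ideal.Quotient.eq_zero_iff_mem.1 ?_)
      rw [show (⟨_, h0⟩ : I) = 0 from Subtype.ext (by simp), map_zero] at h
      simpa using h
  · ext a
    obtain ⟨r, hr⟩ := hlift φ a
    have h1 := ((hmem φ _).1 hr).snd
    rw [h] at hr
    have h2 := ((hmem ψ _).1 hr).snd
    simp only [fst_add, fst_inl, fst_mul, fst_eps, zero_mul, add_zero] at h1 h2
    exact h1.symm.trans h2
  · have hfI : ∀ x ∈ J, x.fst ∈ I := fun x hx => hJ ▸ Ideal.mem_map_of_mem _ hx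
    have hsurjI : ∀ a ∈ I, ∃ x ∈ J, x.fst = a := fun a ha => by
      rw [← hJ, Ideal.mem_map_iff_of_surjective _ (fun r => ⟨inl r, by simp⟩)] at ha
      exact ha
    have heI : ∀ a ∈ I, ε * inl a ∈ J := fun a ha => by
      obtain ⟨x, hx, rfl⟩ := hsurjI a ha
      rw [show ε * inl x.fst = ε * x by ext <;> simp]
      exact J.mul_mem_left _ hx
    have hIe : ∀ y, ε * inl y ∈ J → y ∈ I := fun y hy => by
      obtain ⟨m, hm⟩ := exists_eps_smul (A := A) (m := Ideal.Quotient.mk J (inl y)) (by
        rw [eps_smul_mk, Ideal.Quotient.eq_zero_iff_mem]; exact hy)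
      obtain ⟨w, rfl⟩ := Ideal.Quotient.mk_surjective m
      rw [eps_smul_mk, Ideal.Quotient.eq] at hm
      simpa using hfI _ hm
    have huniq : ∀ x ∈ J, ∀ x' ∈ J, x.fst = x'.fst → x.snd - x'.snd ∈ I := fun x hx x' hx' hxx => by
      refine hIe _ ?_
      rw [show ε * inl (x.snd - x'.snd) = x - x' by ext <;> simp [hxx]]
      exact J.sub_mem hx hx'
    choose g hg hg' using fun a : I => hsurjI a a.2
    let φ : I →ₗ[R] R ⧸ I :=
      { toFun := fun a => Ideal.Quotient.mk I (g a).snd
        map_add' := fun a b => by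
          rw [← map_add, Ideal.Quotient.eq]
          simpa using huniq _ (hg (a + b)) _ (J.add_mem (hg a) (hg b)) (by simp [hg'])
        map_smul' := fun c a => by
          change _ = Ideal.Quotient.mk I (c * (g a).snd)
          rw [Ideal.Quotient.eq]
          simpa using huniq _ (hg (c • a)) _ (J.mul_mem_left (inl c) (hg a)) (by simp [hg']) }
    refine ⟨φ, ?_⟩
    ext x
    rw [hmem]
    constructor
    · intro hx
      exact ⟨hfI x hx, Ideal.Quotient.eq.2 (huniq _ hx _ (hg _) (by simp [hg']))⟩
    · rintro ⟨h, hx⟩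
      have := J.add_mem (hg ⟨x.fst, h⟩) (heI _ (Ideal.Quotient.eq.1 hx))
      convert this using 1
      ext <;> simp [hg']

end Groth.Agent.S19452
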