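import Groth.Statements.S19453
import Groth.Agent.L01.Regular
import Mathlib.RingTheory.Artinian.Module
import Mathlib.RingTheory.AdjoinRoot
import Mathlib.RingTheory.Polynomial.Basic
import Mathlib.Algebra.Polynomial.FieldDivision
import Mathlib.RingTheory.LocalRing.ResidueField.Basic
import Mathlib.Tactic.LinearCombination

set_option autoImplicit false
universe u
open CAlg

namespace Groth.Agent.S19453

section
open IsLocalRing Polynomial

theorem exists_equiv_trunc {k B : Type u} [Field k] [CommRing B] [Algebra k B] [Module.Finite k B]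
    [IsLocalRing B] (t : B) (ht : maximalIdeal B = Ideal.span {t})
    (hres : ∀ b : B, ∃ c : k, b - algebraMap k B c ∈ maximalIdeal B) :
    Nonempty (B ≃ₐ[k] (Polynomial k ⧸ Ideal.span {(X : Polynomial k) ^ Module.finrank k B})) := by
  haveI : IsArtinianRing B := IsArtinianRing.of_finite k B
  obtain ⟨N, hN⟩ : IsNilpotent t := by
    obtain ⟨N, hN⟩ := IsArtinianRing.isNilpotent_jacobson_bot (R := B)
    refine ⟨N, ?_⟩
    have : t ^ N ∈ (Ideal.jacobson (⊥ : Ideal B)) ^ N := Ideal.pow_mem_pow
      (IsLocalRing.maximalIdeal_le_jacobson ⊥ (ht ▸ Ideal.mem_span_singleton_self t)) N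
    rw [hN] at this
    simpa using this
  let φ : Polynomial k →ₐ[k] B := Polynomial.aeval t
  have hsurj : Function.Surjective φ := by
    have key : ∀ j (b : B), ∃ (q : Polynomial k) (b' : B), b = φ q + t ^ j * b' := by
      intro j
      induction j with
      | zero => intro b; exact ⟨0, b, by simp⟩
      | succ j ih =>
        intro b
        obtain ⟨q, b', hb⟩ := ih b
        obtain ⟨c, hc⟩ := hres b'
        rw [ht, Ideal.mem_span_singleton] at hc
        obtain ⟨b'', hb''⟩ := hc
        refine ⟨q + X ^ j * C c, b'', ?_⟩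
        rw [map_add, map_mul, map_pow, show φ (X : Polynomial k) = t from Polynomial.aeval_X t,
          show φ (C c) = algebraMap k B c from Polynomial.aeval_C t c, hb, pow_succ]
        linear_combination (t ^ j) * hb''
    intro b
    obtain ⟨q, b', hb⟩ := key N b
    exact ⟨q, by rw [hb, hN, zero_mul, add_zero]⟩
  obtain ⟨p, hp⟩ := (IsPrincipalIdealRing.principal (RingHom.ker φ)).principal
  rw [Ideal.submodule_span_eq] at hp
  have hX : (X : Polynomial k) ^ N ∈ RingHom.ker φ := by
    rw [RingHom.mem_ker, map_pow, show φ (X : Polynomial k) = t from Polynomial.aeval_X t, hN]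
  rw [hp, Ideal.mem_span_singleton] at hX
  obtain ⟨j, -, hj⟩ := (dvd_prime_pow Polynomial.prime_X N).mp hX
  have hker : RingHom.ker φ = Ideal.span {(X : Polynomial k) ^ j} := hp.trans (Ideal.span_singleton_eq_span_singleton.mpr hj)
  let e : (Polynomial k ⧸ Ideal.span {(X : Polynomial k) ^ j}) ≃ₐ[k] B :=
    (Ideal.quotientEquivAlgOfEq k hker.symm).trans (Ideal.quotientKerAlgEquivOfSurjective hsurj)
  have hjn : Module.finrank k B = j := by
    rw [← e.toLinearEquiv.finrank_eq, finrank_quotient_span_eq_natDegree, natDegree_X_pow]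
  rw [hjn]
  exact ⟨e.symm⟩

end


/-- Converse direction: let k be a field, A a regular local k-algebra of Krull dimension 2 with maximal
ideal M and residue field k, and I an ideal with A/I of finite dimension n ≥ 1 over k. If some
element of I does not lie in M^2, then A/I is isomorphic as a k-algebra to k[x]/(x^n): a cluster
lying on a smooth curve germ of a smooth surface is curvilinear, with coordinate ring generated by
one element. -/
theorem result (k : Type u) [Field k]
    (A : Type u) [CommRing A] [Algebra k A] [IsRegularLocalRing A] (hdim : ringKrullDim A = 2)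
    (hres : Function.Surjective (algebraMap k (IsLocalRing.ResidueField A)))
    (I : Ideal A) [Module.Finite k (A ⧸ I)] (n : ℕ) (hn : Module.finrank k (A ⧸ I) = n) (h1 : 1 ≤ n)
    (g : A) (hgI : g ∈ I) (hg : g ∉ IsLocalRing.maximalIdeal A ^ 2) :
    Nonempty ((A ⧸ I) ≃ₐ[k] (Polynomial k ⧸ Ideal.span {(Polynomial.X : Polynomial k) ^ n})) := by
  have hI : I ≠ ⊤ := by
    intro hI
    haveI : Subsingleton (A ⧸ I) := Ideal.Quotient.subsingleton_iff.mpr hI
    rw [Module.finrank_zero_of_subsingleton] at hn
    omega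
  have hgm : g ∈ IsLocalRing.maximalIdeal A := IsLocalRing.le_maximalIdeal hI hgI
  obtain ⟨hreg, hdimq⟩ := Groth.L01.regular_quotient_of_notMem_sq hgm hg
  haveI : IsLocalRing (A ⧸ Ideal.span {g}) := hreg.toIsLocalRing
  have h1d : (IsLocalRing.maximalIdeal (A ⧸ Ideal.span {g})).spanFinrank = 1 := by
    have h := (isRegularLocalRing_iff (A ⧸ Ideal.span {g})).mp hreg
    obtain ⟨m, hm⟩ := Groth.L01.exists_dim_eq_nat (R := A ⧸ Ideal.span {g})
    rw [hdim, hm] at hdimq
    rw [hm] at h
    norm_cast at hdimq h
    omega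
  obtain ⟨s, hscard, hs⟩ :=
    Submodule.FG.exists_span_finset_card_eq_spanFinrank (IsNoetherian.noetherian (IsLocalRing.maximalIdeal (A ⧸ Ideal.span {g})))
  rw [h1d, Finset.card_eq_one] at hscard
  obtain ⟨u, rfl⟩ := hscard
  rw [Finset.coe_singleton] at hs
  haveI : Nontrivial (A ⧸ I) := Ideal.Quotient.nontrivial_iff.mpr hI
  haveI : IsLocalRing (A ⧸ I) := IsLocalRing.of_surjective' _ Ideal.Quotient.mk_surjective
  let π : (A ⧸ Ideal.span {g}) →+* (A ⧸ I) := Ideal.Quotient.factor ((Ideal.span_singleton_le_iff_mem I).mpr hgI)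
  have hπ : Function.Surjective π := Ideal.Quotient.factor_surjective _
  have hm : IsLocalRing.maximalIdeal (A ⧸ I) = Ideal.span {π u} := by
    rw [← IsLocalRing.map_maximalIdeal_of_surjective π hπ, ← hs]
    exact (Ideal.map_span π {u}).trans (by rw [Set.image_singleton])
  rw [← hn]
  refine exists_equiv_trunc (π u) hm fun b => ?_
  obtain ⟨a, rfl⟩ := Ideal.Quotient.mk_surjective b
  obtain ⟨c, hc⟩ := hres (IsLocalRing.residue A a)
  refine ⟨c, ?_⟩
  have hmem : a - algebraMap k A c ∈ IsLocalRing.maximalIdeal A := by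
    have hc' : IsLocalRing.residue A (algebraMap k A c) = IsLocalRing.residue A a := hc
    rw [← IsLocalRing.residue_eq_zero_iff, map_sub, hc', sub_self]
  rw [← IsLocalRing.map_maximalIdeal_of_surjective (Ideal.Quotient.mk I) Ideal.Quotient.mk_surjective,
    IsScalarTower.algebraMap_apply k A (A ⧸ I), Ideal.Quotient.algebraMap_eq, ← map_sub]
  exact Ideal.mem_map_of_mem _ hmem

end Groth.Agent.S19453
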