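import Groth.Statements.S19455
import Groth.Agent.L21.Mero.Stalk

set_option autoImplicit false
set_option backward.isDefEq.respectTransparency false
set_option backward.isDefEq.respectTransparency.types false
universe u
open CategoryTheory CategoryTheory.Limits AlgebraicGeometry TopologicalSpace Opposite
open Mero

namespace Groth.Agent.S19455

/-- Let X be an integral scheme and D, E Cartier divisors on X (global sections of the sheaf of units of
K_X modulo units of O_X, written multiplicatively, so that D · E stands for the sum of the two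
divisors). Then there is a morphism of O_X-modules from the tensor product O_X(D) ⊗ O_X(E) to O_X(D
· E) which sends each section t ⊗ t' over an open subset U to the product t · t' computed in the
sheaf of meromorphic functions K_X, and this morphism is an isomorphism. (The published statement is
for an irreducible normal variety over an algebraically closed field, where a Cartier divisor is a
locally principal Weil divisor and O_X(D) is its sheaf of rational functions φ with div φ + D ≥ 0
locally, a subsheaf of the constant sheaf of rational functions equal to O_U · φ⁻¹ wherever D is the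
divisor of φ; this row states it for the fractional ideals O_X(D) ⊆ K_X of Cartier divisors on an
arbitrary integral scheme.) -/
theorem result (X : Scheme.{u}) [AlgebraicGeometry.IsIntegral X]
    (D E : Mero.Divisor X) :
    ∃ μ : CohB1.tensorMod (Mero.divMod D) (Mero.divMod E) ⟶ Mero.divMod (D * E),
      (∀ (U : X.Opens) (t : Γ(Mero.divMod D, U)) (t' : Γ(Mero.divMod E, U)),
        (Mero.divModι (D * E)).app U (μ.app U (SecTwist.tmul (Mero.divMod D) (Mero.divMod E) U t t')) =
          (Mero.divModι D).app U t * (Mero.divModι E).app U t') ∧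
      IsIso μ := by
  let β : ∀ U : X.Opens, Γ(Mero.divMod D, U) → Γ(Mero.divMod E, U) → Γ(Mero.divMod (D * E), U) := fun U t t' =>
    ⟨fun y => t.1 y * t'.1 y, Mero.kLoc_mul X U t.1 t'.1 t.2.1 t'.2.1, fun y g hg => by
      obtain ⟨a, ha⟩ := QuotientGroup.mk_surjective (D.1 y.1)
      obtain ⟨b, hb⟩ := QuotientGroup.mk_surjective (E.1 y.1)
      have h : Mero.DivCond (D * E) y.1 (t.1 y * t'.1 y) :=
        Groth.L21.Mero.divCond_of_rep (g := a * b) (show D.1 y.1 * E.1 y.1 = _ by rw [QuotientGroup.mk_mul, ha, hb]) (by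
          rw [Units.val_mul, mul_mul_mul_comm]
          exact mul_mem (t.2.2 y a ha.symm) (t'.2.2 y b hb.symm))
      exact h g hg⟩
  let P : CohB1.PMod X := CohB1.tensorPre (Mero.divMod D) (Mero.divMod E)
  let Q : CohB1.PMod X := CohB1.toPMod (Mero.divMod (D * E))
  let comp : ∀ U : (TopologicalSpace.Opens X)ᵒᵖ, P.obj U ⟶ Q.obj U := fun U =>
    ModuleCat.ofHom (Y := (Q.obj U : Type u))
      (TensorProduct.lift (R := X.sheaf.obj.obj U) (M := (CohB1.toPMod (Mero.divMod D)).obj U)
        (N := (CohB1.toPMod (Mero.divMod E)).obj U) (P₂ := (Q.obj U : Type u))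
      (LinearMap.mk₂ (X.sheaf.obj.obj U)
        (fun (a : (CohB1.toPMod (Mero.divMod D)).obj U) (b : (CohB1.toPMod (Mero.divMod E)).obj U) =>
          (show (Q.obj U : Type u) from β U.unop a b))
        (fun a a' b => Groth.L21.Mero.divMod_ext fun y => add_mul _ _ _)
        (fun r a b => Groth.L21.Mero.divMod_ext fun y => smul_mul_assoc (X.presheaf.germ U.unop y.1 y.2 r) _ _)
        (fun a b b' => Groth.L21.Mero.divMod_ext fun y => mul_add _ _ _)
        (fun r a b => Groth.L21.Mero.divMod_ext fun y => mul_smul_comm (X.presheaf.germ U.unop y.1 y.2 r) _ _)))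
  let φ : P ⟶ Q :=
    { app := comp
      naturality := fun {U V} i => by
        refine ModuleCat.hom_ext (LinearMap.ext fun z => ?_)
        induction z using TensorProduct.induction_on with
        | zero => simp only [map_zero]
        | tmul a b => exact Groth.L21.Mero.divMod_ext fun y => rfl
        | add z w hz hw => simp only [map_add, hz, hw] }
  let μ : CohB1.tensorMod (Mero.divMod D) (Mero.divMod E) ⟶ Mero.divMod (D * E) :=
    ((PresheafOfModules.sheafificationAdjunction (𝟙 X.ringCatSheaf.obj)).homEquiv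
      (show X.PresheafOfModules from P) (Mero.divMod (D * E))).symm φ
  have hμ : ∀ (U : X.Opens) (t : Γ(Mero.divMod D, U)) (t' : Γ(Mero.divMod E, U)),
      μ.app U (SecTwist.tmul (Mero.divMod D) (Mero.divMod E) U t t') = β U t t' := fun U t t' => by
    have h1 := Equiv.apply_symm_apply ((PresheafOfModules.sheafificationAdjunction (𝟙 X.ringCatSheaf.obj)).homEquiv
      (show X.PresheafOfModules from P) (Mero.divMod (D * E))) φ
    rw [Adjunction.homEquiv_unit] at h1
    exact congr(($h1).app (Opposite.op U) ((t : (CohB1.toPMod (Mero.divMod D)).obj (Opposite.op U))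
      ⊗ₜ[X.sheaf.obj.obj (Opposite.op U)] (t' : (CohB1.toPMod (Mero.divMod E)).obj (Opposite.op U))))
  refine ⟨μ, fun U t t' => ?_, ?_⟩
  · rw [hμ]
    exact Groth.L22.Mero.kmod_ext fun y => rfl
  rw [Groth.L21.Mod.isIso_iff_stalk_bijective]
  intro x
  obtain ⟨U₁, hx₁, f, hf⟩ := D.2 x
  obtain ⟨U₂, hx₂, g, hg⟩ := E.2 x
  let f' : (Γ(Mero.kmod X, U₁ ⊓ U₂))ˣ := Units.map ((Mero.kring X).obj.map (homOfLE inf_le_left).op).hom.toMonoidHom f
  let g' : (Γ(Mero.kmod X, U₁ ⊓ U₂))ˣ := Units.map ((Mero.kring X).obj.map (homOfLE inf_le_right).op).hom.toMonoidHom g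
  have hf' : ∀ y : (U₁ ⊓ U₂ : X.Opens), D.1 y.1 = Mero.germOf f' y := fun y =>
    (hf ⟨y.1, y.2.1⟩).trans (congrArg _ (Units.ext rfl))
  have hg' : ∀ y : (U₁ ⊓ U₂ : X.Opens), E.1 y.1 = Mero.germOf g' y := fun y =>
    (hg ⟨y.1, y.2.2⟩).trans (congrArg _ (Units.ext rfl))
  have hfg : ∀ y : (U₁ ⊓ U₂ : X.Opens), (D * E).1 y.1 = Mero.germOf (f' * g') y := fun y => by
    show D.1 y.1 * E.1 y.1 = _
    rw [hf' y, hg' y, Mero.germOf, Mero.germOf, Mero.germOf, map_mul, QuotientGroup.mk_mul]
  have hx : x ∈ U₁ ⊓ U₂ := ⟨hx₁, hx₂⟩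
  have he := Groth.L18.GenLoc.isFrame_tens (Groth.L21.Mero.isFrame_gen f' hf') (Groth.L21.Mero.isFrame_gen g' hg')
  have hval : μ.app _ (Groth.L18.GenLoc.tens (Mero.divMod D) (Mero.divMod E) (U₁ ⊓ U₂)
      (Groth.L21.Mero.gen f' hf') (Groth.L21.Mero.gen g' hg')) = Groth.L21.Mero.gen (f' * g') hfg := by
    refine (hμ _ _ _).trans (Groth.L21.Mero.divMod_ext fun y => ?_)
    show (↑f'⁻¹ : Γ(Mero.kmod X, U₁ ⊓ U₂)).1 y * (↑g'⁻¹ : Γ(Mero.kmod X, U₁ ⊓ U₂)).1 y =
      (↑(f' * g')⁻¹ : Γ(Mero.kmod X, U₁ ⊓ U₂)).1 y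
    rw [mul_inv, Units.val_mul, Mero.kmod_mul_apply]
  have hbij : Function.Bijective (Groth.L21.RR.st μ x ∘ fun r : X.presheaf.stalk x =>
      r • (CohB1.tensorMod (Mero.divMod D) (Mero.divMod E)).presheaf.germ (U₁ ⊓ U₂) x hx
        (Groth.L18.GenLoc.tens (Mero.divMod D) (Mero.divMod E) (U₁ ⊓ U₂) (Groth.L21.Mero.gen f' hf')
          (Groth.L21.Mero.gen g' hg'))) := by
    refine Eq.mpr (congrArg Function.Bijective (funext fun r => ?_))
      (Groth.L21.RR.bijective_germ_frame (Groth.L21.Mero.isFrame_gen _ hfg) hx)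
    simp only [Function.comp_apply, map_smul, Groth.L21.RR.st_germ, hval]
  exact (Function.Bijective.of_comp_iff _ (Groth.L21.RR.bijective_germ_frame he hx)).1 hbij

end Groth.Agent.S19455
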