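import Groth.Statements.S19456
import Groth.Agent.L21.Mero.ZeroIso

set_option autoImplicit false
set_option backward.isDefEq.respectTransparency false
universe u
open CategoryTheory CategoryTheory.Limits AlgebraicGeometry TopologicalSpace Opposite
open Mero

namespace Groth.Agent.S19456

/-- With the preceding paragraph: let X be an integral scheme, L an invertible O_X-module and s a
nonzero global section of L, given as a nonzero morphism O_X → L. Then the zero scheme Z(s) of s is
an effective Cartier divisor: there is a divisor D on X (a global section of the sheaf of units of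
K_X modulo units of O_X) which, around every point of X, on some affine open neighbourhood, is the
class of a regular function generating the ideal of Z(s) there; and there is an isomorphism of
O_X-modules L ≅ O_X(D) which carries s to the element 1 of Γ(X, O_X(D)) ⊆ K(X). (The published
statement is for an irreducible variety over an algebraically closed field; this row states it for
an arbitrary integral scheme.) -/
theorem result (X : Scheme.{u}) [AlgebraicGeometry.IsIntegral X]
    (L : X.Modules) (hL : PicF.IsInvertible L) (s : Coh.structureModule X ⟶ L) (hs : s ≠ 0) :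
    ∃ D : Mero.Divisor X, Mero.IsDivOfIdeal D (PicF2.zeroScheme L s) ∧
      ∃ e : L ≅ Mero.divMod D,
        (Mero.divModι D).app ⊤ (e.hom.app ⊤ (SecTwist.val s ⊤)) = 1 := by
  obtain ⟨D, hD⟩ := Groth.L21.Mero.exists_divOfIdeal _ (Groth.L21.Mero.isEffCartier_zeroScheme hL hs)
  haveI := Groth.L21.Mero.isIso_divBy hL hs hD
  refine ⟨D, hD, asIso (Groth.L21.Mero.divBy hL hs hD), Groth.L22.Mero.kmod_ext fun y => ?_⟩
  show Groth.L21.Mero.vl ((Groth.L21.Mero.divBy hL hs hD).app ⊤ (SecTwist.val s ⊤)) y = 1
  rw [Groth.L21.Mero.vl_divBy]
  refine Eq.trans (congrArg _ ?_) (Groth.L21.Mero.kap_gs hL hs y.1)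
  exact congrArg (L.presheaf.germ ⊤ y.1 trivial)
    ((Groth.L22.ZeroScheme.secVal_eq s ⊤).trans (Groth.L18.Frame.rs_self L le_rfl _))

end Groth.Agent.S19456
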