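import Groth.Statements.S19458
import Groth.Agent.L21.Mero.Zero
import Groth.Agent.L18.GlobGen

set_option autoImplicit false
set_option backward.isDefEq.respectTransparency false
universe u
open CategoryTheory CategoryTheory.Limits AlgebraicGeometry TopologicalSpace Opposite
open Mero

namespace Groth.Agent.S19458

/-- Let X be an integral scheme, L an invertible O_X-module and D an effective Cartier divisor on X (a
global section of the sheaf of units of K_X modulo units of O_X whose germ at every point is the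
class of a germ of a regular function) such that O_X(D) is isomorphic to L. Then there is a nonzero
global section s of L, given as a nonzero morphism O_X → L, whose zero scheme Z(s) is D: around
every point of X, on some affine open neighbourhood, the ideal of Z(s) is generated by a regular
function whose classes are the germs of D there. (The published statement is for an irreducible
variety over an algebraically closed field; this row states it for an arbitrary integral scheme.) -/
theorem result (X : Scheme.{u}) [AlgebraicGeometry.IsIntegral X]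
    (L : X.Modules) (hL : PicF.IsInvertible L) (D : Mero.Divisor X) (hD : Mero.IsEffective D)
    (e : L ≅ Mero.divMod D) :
    ∃ s : Coh.structureModule X ⟶ L, s ≠ 0 ∧ Mero.IsDivOfIdeal D (PicF2.zeroScheme L s) := by
  let t : Γ(Mero.divMod D, ⊤) := ⟨fun _ => 1, (1 : Γ(Mero.kmod X, ⊤)).2, fun y g hg => by
    obtain ⟨a, ha⟩ := hD y.1
    exact Groth.L21.Mero.divCond_of_rep ha ⟨a.1, (one_mul _).symm⟩ g hg⟩
  let s := Groth.L16.homOfSection L (e.inv.app ⊤ t)
  have hsec : Groth.L18.GenLoc.secOf s = e.inv.app ⊤ t := Groth.L21.RR.app_homOfSection_one _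
  have hs : s ≠ 0 := fun h => by
    have h1 : Groth.L18.GenLoc.secOf s = 0 := by rw [h]; rfl
    rw [hsec] at h1
    have h2 : t = 0 := by
      have h4 : (e.inv ≫ e.hom).app ⊤ t = e.hom.app ⊤ (e.inv.app ⊤ t) := rfl
      rw [e.inv_hom_id, h1, map_zero] at h4
      exact h4
    have h3 := congrArg (fun t : Γ(Mero.divMod D, ⊤) => Groth.L21.Mero.vl t ⟨genericPoint X, trivial⟩) h2
    exact one_ne_zero (α := Mero.KStalk X (genericPoint X)) h3
  refine ⟨s, hs, fun x => ?_⟩
  obtain ⟨O, hxO, f, hf⟩ := D.2 x
  obtain ⟨V, hV, hxV, hVO⟩ := exists_isAffineOpen_mem_and_subset (x := x) (U := O) hxO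
  change V ≤ O at hVO
  have hge := (Groth.L21.Mero.isFrame_gen f hf).mono hVO
  have he' : Groth.L18.Frame.IsFrame L V (e.inv.app V (Groth.L18.Frame.rs (Mero.divMod D) hVO (Groth.L21.Mero.gen f hf))) := by
    intro W hW
    have h1 : ((fun a : Γ(X, W) => a • Groth.L18.Frame.rs L hW
        (e.inv.app V (Groth.L18.Frame.rs (Mero.divMod D) hVO (Groth.L21.Mero.gen f hf))))) =
        (e.inv.app W) ∘ fun a : Γ(X, W) => a • Groth.L18.Frame.rs (Mero.divMod D) hW
          (Groth.L18.Frame.rs (Mero.divMod D) hVO (Groth.L21.Mero.gen f hf)) := funext fun a => by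
      rw [← Groth.L18.Ample.hom_app_rs]
      exact (Scheme.Modules.Hom.app_smul e.inv a _).symm
    rw [h1]
    exact (ConcreteCategory.bijective_of_isIso (e.inv.app W)).comp (hge W hW)
  obtain ⟨a, ha⟩ := hge.exists_coeff le_rfl (Groth.L18.Frame.rs (Mero.divMod D) (le_top : V ≤ ⊤) t)
  rw [Groth.L18.Frame.rs_self] at ha
  have ha' : a • e.inv.app V (Groth.L18.Frame.rs (Mero.divMod D) hVO (Groth.L21.Mero.gen f hf)) =
      Groth.L18.Frame.rs L (le_top : V ≤ ⊤) (Groth.L18.GenLoc.secOf s) := by
    rw [← Scheme.Modules.Hom.app_smul, ha, hsec, Groth.L18.Ample.hom_app_rs]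
  have hr := Groth.L21.Mero.mem_regSub_coeff hL hs ha'
  refine ⟨⟨V, hV⟩, hxV, a, hr, Groth.L21.Mero.zeroScheme_ideal_frame hL s ⟨V, hV⟩ he' ha', fun y => ?_⟩
  rw [hf ⟨y.1, hVO y.2⟩]
  refine congrArg _ (Units.ext ?_)
  have h1 := congrArg (fun t : Γ(Mero.divMod D, V) => Groth.L21.Mero.vl t y) ha
  simp only [Groth.L21.Mero.vl_smul, Groth.L21.Mero.vl_rs] at h1
  show _ = algebraMap _ (Mero.KStalk X y.1) (X.presheaf.germ V y.1 y.2 a)
  have h2 := Groth.L21.Mero.vl_gen f hf ⟨y.1, hVO y.2⟩
  calc _ = Groth.L21.Mero.vl t ⟨y.1, trivial⟩ * _ := (one_mul _).symm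
    _ = _ := by rw [← h1, mul_assoc, h2, mul_one]

end Groth.Agent.S19458
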