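import Groth.Statements.S19459
import Groth.Agent.L21.Mero.Zero

set_option autoImplicit false
set_option backward.isDefEq.respectTransparency false
universe u
open CategoryTheory CategoryTheory.Limits AlgebraicGeometry TopologicalSpace Opposite
open Mero

namespace Groth.Agent.S19459

/-- Let X be an integral scheme, L₁ and L₂ invertible O_X-modules with nonzero global sections s₁ and s₂
(nonzero morphisms O_X → L₁ and O_X → L₂), and let D₁, D₂ be the effective Cartier divisors of the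
zero schemes Z(s₁), Z(s₂): divisors on X (global sections of the sheaf of units of K_X modulo units
of O_X) which around every point, on some affine open neighbourhood, are the class of a regular
function generating the ideal of the zero scheme. Then the divisor D₁ · D₂ (multiplicative notation
for the sum D₁ + D₂) is in the same sense the effective Cartier divisor of the zero scheme of the
global section s₁ ⊗ s₂ of the tensor product L₁ ⊗ L₂; that is, Z(s₁ ⊗ s₂) = Z(s₁) + Z(s₂). (The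
published statement is for an irreducible variety over an algebraically closed field; this row
states it for an arbitrary integral scheme.) -/
theorem result (X : Scheme.{u}) [AlgebraicGeometry.IsIntegral X]
    (L₁ L₂ : X.Modules) (hL₁ : PicF.IsInvertible L₁) (hL₂ : PicF.IsInvertible L₂)
    (s₁ : Coh.structureModule X ⟶ L₁) (s₂ : Coh.structureModule X ⟶ L₂) (hs₁ : s₁ ≠ 0) (hs₂ : s₂ ≠ 0)
    (D₁ D₂ : Mero.Divisor X) (hD₁ : Mero.IsDivOfIdeal D₁ (PicF2.zeroScheme L₁ s₁))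
    (hD₂ : Mero.IsDivOfIdeal D₂ (PicF2.zeroScheme L₂ s₂)) :
    Mero.IsDivOfIdeal (D₁ * D₂) (PicF2.zeroScheme (CohB1.tensorMod L₁ L₂) (SecTwist.tmulHom s₁ s₂)) := by
  intro x
  obtain ⟨U₁, e₁, hxU₁, -, he₁⟩ := Groth.L21.Mero.exists_frame_affine hL₁ x (O := ⊤) trivial
  obtain ⟨U, e₂, hxU, hle, he₂⟩ := Groth.L21.Mero.exists_frame_affine hL₂ x (O := U₁.1) hxU₁
  have he₁' := he₁.mono hle
  obtain ⟨a₁, ha₁⟩ := he₁'.exists_coeff le_rfl (Groth.L18.Frame.rs L₁ (le_top : U.1 ≤ ⊤) (Groth.L18.GenLoc.secOf s₁))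
  obtain ⟨a₂, ha₂⟩ := he₂.exists_coeff le_rfl (Groth.L18.Frame.rs L₂ (le_top : U.1 ≤ ⊤) (Groth.L18.GenLoc.secOf s₂))
  rw [Groth.L18.Frame.rs_self] at ha₁ ha₂
  have he := Groth.L18.GenLoc.isFrame_tens he₁' he₂
  have hL := Groth.L18.GenLoc.isInvertible_tensor hL₁ hL₂
  have ha : (a₁ * a₂) • Groth.L18.GenLoc.tens L₁ L₂ U.1 (Groth.L18.Frame.rs L₁ hle e₁) e₂ =
      Groth.L18.Frame.rs (CohB1.tensorMod L₁ L₂) (le_top : U.1 ≤ ⊤)
        (Groth.L18.GenLoc.secOf (SecTwist.tmulHom s₁ s₂)) := by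
    rw [← Groth.L22.ZeroScheme.secVal_eq, mul_smul, ← Groth.L18.GenLoc.tens_smul_right,
      ← Groth.L18.GenLoc.tens_smul_left, ha₁, ha₂, ← Groth.L22.ZeroScheme.secVal_eq, ← Groth.L22.ZeroScheme.secVal_eq]
    exact (SecTwist.val_tmulHom s₁ s₂ U.1).symm
  have hr₁ := Groth.L21.Mero.mem_regSub_coeff hL₁ hs₁ ha₁
  have hr₂ := Groth.L21.Mero.mem_regSub_coeff hL₂ hs₂ ha₂
  refine ⟨U, hxU, a₁ * a₂, mul_mem hr₁ hr₂, Groth.L21.Mero.zeroScheme_ideal_frame hL _ U he ha, fun y => ?_⟩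
  show D₁.1 y.1 * D₂.1 y.1 = _
  rw [Groth.L21.Mero.class_eq_of_isDivOfIdeal hD₁ U hr₁ (Groth.L21.Mero.zeroScheme_ideal_frame hL₁ s₁ U he₁' ha₁),
    Groth.L21.Mero.class_eq_of_isDivOfIdeal hD₂ U hr₂ (Groth.L21.Mero.zeroScheme_ideal_frame hL₂ s₂ U he₂ ha₂)]
  refine (QuotientGroup.mk_mul _ _ _).symm.trans (congrArg _ (Units.ext ?_))
  show algebraMap _ (Mero.KStalk X y.1) (X.presheaf.germ U.1 y.1 y.2 a₁) *
    algebraMap _ (Mero.KStalk X y.1) (X.presheaf.germ U.1 y.1 y.2 a₂) =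
    algebraMap _ (Mero.KStalk X y.1) (X.presheaf.germ U.1 y.1 y.2 (a₁ * a₂))
  rw [← map_mul, ← map_mul]

end Groth.Agent.S19459
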