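import Groth.Statements.S19461
import Groth.Agent.L01.CompletionExt
import Mathlib.RingTheory.AdicCompletion.LocalRing
import Mathlib.RingTheory.AdicCompletion.AsTensorProduct
import Mathlib.RingTheory.Flat.FaithfullyFlat.Algebra
import Mathlib.RingTheory.Flat.Tensor
-- import your own Groth.Agent.* helpers here

set_option autoImplicit false
universe u
open CAlg

namespace Groth.Agent.S19461
open TensorProduct in
theorem flat_of_comp_faithfullyFlat {R S T : Type u} [CommRing R] [CommRing S] [CommRing T]
    [Algebra R S] [Algebra S T] [Algebra R T] [IsScalarTower R S T] [Module.Flat R T]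
    [Module.FaithfullyFlat S T] : Module.Flat R S := by
  rw [Module.Flat.iff_lTensor_injective']
  intro I
  rw [injective_iff_map_eq_zero]
  intro z hz
  apply Module.FaithfullyFlat.tensorProduct_mk_injective (A := S) (B := T) (S ⊗[R] I)
  rw [map_zero]
  apply (AlgebraTensorModule.cancelBaseChange R S S T I).injective
  rw [map_zero]
  apply Module.Flat.lTensor_preserves_injective_linearMap (M := T) I.subtype Subtype.val_injective
  rw [map_zero]
  have key : ∀ w : S ⊗[R] I, (I.subtype.lTensor T)
      (AlgebraTensorModule.cancelBaseChange R S S T I ((1 : T) ⊗ₜ[S] w)) =
      ((IsScalarTower.toAlgHom R S T).toLinearMap.rTensor R) (I.subtype.lTensor S w) := by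
    intro w
    induction w using TensorProduct.induction_on with
    | zero => simp
    | tmul s a => simp [Algebra.smul_def]
    | add a b ha hb => simp only [TensorProduct.tmul_add, map_add, ha, hb]
  exact (key z).trans (by rw [hz, map_zero])


/-- The implication from isomorphic completions to flat and unramified. Let A → B be a local
homomorphism of Noetherian local rings and ψ a ring map from the completion of A at its maximal
ideal to that of B whose composite with A → A^ is A → B → B^. If ψ is bijective, then A → B is flat
and the maximal ideal of A generates the maximal ideal of B. (The published statement is the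
implication, for a morphism of algebraic varieties over an algebraically closed field, from
isomorphic induced maps of completed local rings at every point to flat and unramified; its proof is
this local-ring argument, valid for any Noetherian local rings. The converse implication is a
separate result.) -/
theorem result (A B : Type u) [CommRing A]
    [CommRing B] [IsLocalRing A] [IsLocalRing B] [IsNoetherianRing A] [IsNoetherianRing B]
    [Algebra A B] [IsLocalHom (algebraMap A B)]
    (ψ : AdicCompletion (IsLocalRing.maximalIdeal A) A →+* AdicCompletion (IsLocalRing.maximalIdeal B) B)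
    (hψ : ψ.comp (algebraMap A (AdicCompletion (IsLocalRing.maximalIdeal A) A)) =
      (algebraMap B (AdicCompletion (IsLocalRing.maximalIdeal B) B)).comp (algebraMap A B))
    (hbij : Function.Bijective ψ) :
    Module.Flat A B ∧
      Ideal.map (algebraMap A B) (IsLocalRing.maximalIdeal A) = IsLocalRing.maximalIdeal B := by
  let mA := IsLocalRing.maximalIdeal A
  let mB := IsLocalRing.maximalIdeal B
  let Ah := AdicCompletion mA A
  let Bh := AdicCompletion mB B
  haveI : IsScalarTower A B Bh := inferInstance
  haveI : Module.FaithfullyFlat B Bh := Groth.L01.CompletionExt.faithfullyFlat B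
  let ψA : Ah →ₐ[A] Bh := { ψ with commutes' := fun a => (DFunLike.congr_fun hψ a).trans (IsScalarTower.algebraMap_apply A B Bh a).symm }
  let e : Ah ≃ₐ[A] Bh := AlgEquiv.ofBijective ψA hbij
  haveI : Module.Flat A Ah := AdicCompletion.flat_of_isNoetherian mA
  haveI : Module.Flat A Bh := Module.Flat.of_linearEquiv e.symm.toLinearEquiv
  refine ⟨flat_of_comp_faithfullyFlat (T := Bh), ?_⟩
  have h1 : (mA.map (algebraMap A B)).map (algebraMap B Bh) = mB.map (algebraMap B Bh) := by
    rw [Ideal.map_map, ← AdicCompletion.maximalIdeal_eq_map (R := B), ← hψ, ← Ideal.map_map,
      ← AdicCompletion.maximalIdeal_eq_map (R := A)]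
    exact IsLocalRing.map_maximalIdeal_of_surjective ψ hbij.2
  rw [← Ideal.comap_map_eq_self_of_faithfullyFlat (B := Bh) (mA.map (algebraMap A B)), h1,
    Ideal.comap_map_eq_self_of_faithfullyFlat]

end Groth.Agent.S19461
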