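import Mathlib.Tactic
import Mathlib.LinearAlgebra.StdBasis
import Groth.Statements.S19462


set_option autoImplicit false
universe u
open GrNak

namespace Groth.Agent.S19462

/-- Let k be a field and R a commutative ℤ-graded k-algebra whose pieces of negative degree vanish and
whose degree-zero piece is the image of k, and let M be a finitely generated ℤ-graded R-module,
graded compatibly with R. Then M is a projective R-module if and only if M has an R-basis consisting
of homogeneous elements, i.e. M is a free graded module. (The published statement takes R a graded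
quotient of a polynomial ring k[x_0, …, x_n] with its standard grading; stated here for any
commutative graded k-algebra concentrated in non-negative degrees with degree-zero part k, to which
the same graded-Nakayama argument applies.) -/
theorem result {k : Type u} [Field k] {R : Type u} [CommRing R] [Algebra k R]
    {σ : Type u} [SetLike σ R] [AddSubmonoidClass σ R] (𝒜 : ℤ → σ) [GradedRing 𝒜]
    (hneg : ∀ i : ℤ, i < 0 → ∀ x ∈ 𝒜 i, x = 0)
    (hk : ∀ c : k, algebraMap k R c ∈ 𝒜 0) (h0 : ∀ x ∈ 𝒜 0, ∃ c : k, algebraMap k R c = x)
    {M : Type u} [AddCommGroup M] [Module R M] [Module.Finite R M]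
    {τ : Type u} [SetLike τ M] [AddSubmonoidClass τ M] (ℳ : ℤ → τ) [DirectSum.Decomposition ℳ]
    [SetLike.GradedSMul 𝒜 ℳ] :
    Module.Projective R M ↔
      ∃ (ι : Type u) (b : Module.Basis ι R M), ∀ i : ι, SetLike.IsHomogeneousElem ℳ (b i) := by
  classical
  constructor
  · intro hP
    let HS : Set M := {x | ∃ i, x ∈ ℳ i}
    obtain ⟨S0, hS0⟩ := (Module.Finite.fg_top : (⊤ : Submodule R M).FG)
    have hex : ∃ n, ∃ S : Finset M, S.card = n ∧ (∀ x ∈ S, x ∈ HS) ∧ Submodule.span R (S : Set M) = ⊤ := by
      refine ⟨_, S0.biUnion fun x => (DirectSum.decompose ℳ x).support.image fun i => (DirectSum.decompose ℳ x i : M), rfl,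
        fun y hy => ?_, eq_top_iff.2 ?_⟩
      · obtain ⟨x, -, hy⟩ := Finset.mem_biUnion.1 hy
        obtain ⟨i, -, rfl⟩ := Finset.mem_image.1 hy
        exact ⟨i, SetLike.coe_mem _⟩
      · rw [← hS0]
        refine Submodule.span_le.2 fun x hx => ?_
        rw [← DirectSum.sum_support_decompose ℳ x]
        exact Submodule.sum_mem _ fun i hi => Submodule.subset_span
          (Finset.mem_biUnion.2 ⟨x, hx, Finset.mem_image.2 ⟨i, hi, rfl⟩⟩)
    obtain ⟨S, hcard, hSh, hS⟩ := Nat.find_spec hex
    let ι := {x // x ∈ S}
    have hdeg : ∀ s : ι, ∃ i, (s : M) ∈ ℳ i := fun s => hSh s.1 s.2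
    choose dg hdg using hdeg
    let π : (ι → R) →ₗ[R] M := Fintype.linearCombination R (fun s : ι => (s : M))
    have hπ : Function.Surjective π := by
      rw [← LinearMap.range_eq_top, Fintype.range_linearCombination]
      rw [Subtype.range_coe_subtype]
      simpa using hS
    let P : Ideal R :=
      { carrier := {r | (DirectSum.decompose 𝒜 r 0 : R) = 0}
        add_mem' := fun {a b} ha hb => by
          change (DirectSum.decompose 𝒜 (a + b) 0 : R) = 0
          rw [DirectSum.decompose_add, DirectSum.add_apply, AddMemClass.coe_add, ha, hb, add_zero]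
        zero_mem' := by
          change (DirectSum.decompose 𝒜 (0 : R) 0 : R) = 0
          simp
        smul_mem' := fun c r hr => by
          change (DirectSum.decompose 𝒜 (c * r) 0 : R) = 0
          rw [← DirectSum.sum_support_decompose 𝒜 c, Finset.sum_mul, DirectSum.decompose_sum, DirectSum.sum_apply,
            AddSubmonoidClass.coe_finset_sum]
          refine Finset.sum_eq_zero fun i _ => ?_
          have h := DirectSum.coe_decompose_mul_add_of_left_mem 𝒜 (j := -i) (b := r) (SetLike.coe_mem (DirectSum.decompose 𝒜 c i))
          rw [add_neg_cancel] at h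
          rw [h]
          rcases lt_trichotomy i 0 with hi | hi | hi
          · rw [hneg i hi _ (SetLike.coe_mem _), zero_mul]
          · subst hi
            rw [show (DirectSum.decompose 𝒜 r (-0) : R) = 0 by rw [neg_zero]; exact hr, mul_zero]
          · rw [hneg (-i) (by omega) _ (SetLike.coe_mem _), mul_zero] }
    have hrel : ∀ v ∈ LinearMap.ker π, ∀ s, v s ∈ P := by
      intro v hv s
      by_contra hne
      obtain ⟨c, hc⟩ := h0 _ (SetLike.coe_mem (DirectSum.decompose 𝒜 (v s) 0))
      have hc0 : c ≠ 0 := fun h => hne (by
        change (DirectSum.decompose 𝒜 (v s) 0 : R) = 0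
        rw [← hc, h, map_zero])
      rw [LinearMap.mem_ker, Fintype.linearCombination_apply] at hv
      have h1 : ∑ t : ι, (DirectSum.decompose 𝒜 (v t) (dg s - dg t) : R) • (t : M) = 0 := by
        have h2 := congrArg (fun z => (DirectSum.decompose ℳ z (dg s) : M)) hv
        simp only [DirectSum.decompose_sum, DirectSum.sum_apply, DirectSum.decompose_zero, DirectSum.zero_apply,
          ZeroMemClass.coe_zero, AddSubmonoidClass.coe_finset_sum] at h2
        refine Eq.trans (Finset.sum_congr rfl fun t _ => ?_) h2
        conv_rhs => rw [← DirectSum.sum_support_decompose 𝒜 (v t)]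
        simp only [Finset.sum_smul, DirectSum.decompose_sum, DirectSum.sum_apply, AddSubmonoidClass.coe_finset_sum]
        rw [Finset.sum_eq_single (dg s - dg t)]
        · refine (DirectSum.decompose_of_mem_same ℳ ?_).symm
          have := SetLike.GradedSMul.smul_mem (A := 𝒜) (B := ℳ)
            (SetLike.coe_mem (DirectSum.decompose 𝒜 (v t) (dg s - dg t))) (hdg t)
          rwa [vadd_eq_add, sub_add_cancel] at this
        · intro i _ hi
          have := SetLike.GradedSMul.smul_mem (A := 𝒜) (B := ℳ)
            (SetLike.coe_mem (DirectSum.decompose 𝒜 (v t) i)) (hdg t)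
          rw [vadd_eq_add] at this
          exact DirectSum.decompose_of_mem_ne ℳ this (by omega)
        · intro hi
          rw [DFinsupp.notMem_support_iff.1 hi]
          simp
      rw [← Finset.add_sum_erase _ _ (Finset.mem_univ s), sub_self, ← hc] at h1
      refine Nat.find_min hex (m := (S.erase s.1).card) (by rw [← hcard]; exact Finset.card_erase_lt_of_mem s.2)
        ⟨S.erase s.1, rfl, fun y hy => hSh y (Finset.mem_of_mem_erase hy), eq_top_iff.2 ?_⟩
      rw [← hS, Submodule.span_le]
      intro y hy
      by_cases hys : y = s.1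
      · subst hys
        have h3 : algebraMap k R c • (s : M) ∈ Submodule.span R (((S.erase s.1 : Finset M)) : Set M) := by
          rw [eq_neg_of_add_eq_zero_left h1]
          exact Submodule.neg_mem _ (Submodule.sum_mem _ fun t ht => Submodule.smul_mem _ _ (Submodule.subset_span
            (Finset.mem_erase.2 ⟨fun e => Finset.ne_of_mem_erase ht (Subtype.ext e), t.2⟩)))
        have h4 := Submodule.smul_mem _ (algebraMap k R c⁻¹) h3
        rwa [smul_smul, ← map_mul, inv_mul_cancel₀ hc0, map_one, one_smul] at h4
      · exact Submodule.subset_span (Finset.mem_erase.2 ⟨hys, hy⟩)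
    obtain ⟨σ', hσ⟩ := Module.projective_lifting_property π LinearMap.id hπ
    have hKP : ∀ n : ℕ, ∀ v ∈ LinearMap.ker π, ∀ s, v s ∈ P ^ n := by
      intro n
      induction n with
      | zero => intros; simp
      | succ n ih =>
        intro v hv s
        let pr : (ι → R) →ₗ[R] (ι → R) := LinearMap.id - σ'.comp π
        have hpr : pr v = v := by simp [pr, LinearMap.mem_ker.1 hv]
        have hprker : ∀ w, pr w ∈ LinearMap.ker π := fun w => by
          rw [LinearMap.mem_ker]
          simp only [pr, LinearMap.sub_apply, LinearMap.id_apply, LinearMap.comp_apply, map_sub]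
          rw [← LinearMap.comp_apply π σ', hσ, LinearMap.id_apply, sub_self]
        rw [← hpr, pi_eq_sum_univ' v, map_sum, Finset.sum_apply]
        refine Ideal.sum_mem _ fun t _ => ?_
        rw [map_smul, Pi.smul_apply, smul_eq_mul, pow_succ']
        exact Ideal.mul_mem_mul (hrel v hv t) (ih _ (hprker _) s)
    have hpow : ∀ n : ℕ, ∀ r ∈ P ^ n, ∀ j : ℤ, j < n → (DirectSum.decompose 𝒜 r j : R) = 0 := by
      intro n
      induction n with
      | zero => intro r _ j hj; exact hneg j (by simpa using hj) _ (SetLike.coe_mem _)
      | succ n ih =>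
        intro r hr j hj
        rw [pow_succ'] at hr
        refine Submodule.mul_induction_on hr (fun a ha b hb => ?_) fun a b ha hb => by
          rw [DirectSum.decompose_add, DirectSum.add_apply, AddMemClass.coe_add, ha, hb, add_zero]
        rw [← DirectSum.sum_support_decompose 𝒜 a, Finset.sum_mul, DirectSum.decompose_sum, DirectSum.sum_apply,
          AddSubmonoidClass.coe_finset_sum]
        refine Finset.sum_eq_zero fun i _ => ?_
        have h := DirectSum.coe_decompose_mul_add_of_left_mem 𝒜 (j := j - i) (b := b) (SetLike.coe_mem (DirectSum.decompose 𝒜 a i))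
        rw [add_sub_cancel] at h
        rw [h]
        rcases lt_trichotomy i 0 with hi | hi | hi
        · rw [hneg i hi _ (SetLike.coe_mem _), zero_mul]
        · subst hi
          rw [show (DirectSum.decompose 𝒜 a 0 : R) = 0 from ha, zero_mul]
        · rw [ih b hb (j - i) (by push_cast at hj; omega), mul_zero]
    have hinj : Function.Injective π := by
      rw [← LinearMap.ker_eq_bot, Submodule.eq_bot_iff]
      intro v hv
      funext s
      rw [← DirectSum.sum_support_decompose 𝒜 (v s)]
      refine Finset.sum_eq_zero fun j _ => ?_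
      exact hpow (j.toNat + 1) _ (hKP _ v hv s) j (by push_cast; omega)
    refine ⟨ι, (Pi.basisFun R ι).map (LinearEquiv.ofBijective π ⟨hinj, hπ⟩), fun s => ⟨dg s, ?_⟩⟩
    rw [Module.Basis.map_apply, Pi.basisFun_apply]
    change π (Pi.single s 1) ∈ ℳ (dg s)
    simp [π, Fintype.linearCombination_apply_single, hdg s]
  · rintro ⟨ι, b, -⟩
    exact Module.Projective.of_basis b
end Groth.Agent.S19462
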