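import Groth.Statements.S19463
import Groth.Agent.S1625
import Groth.Agent.S7616
import Groth.Agent.S1551
import Groth.Agent.L07.SyntKoszul
import Groth.Agent.L10.RegularUFD
import Groth.Agent.L16.ProjSpace.Basic
import Groth.Agent.L16.CurveCompletion.Normal
import Groth.Agent.L22.SchemeDim
import Groth.Agent.L26.Weil.Axes
import Groth.Agent.L18.ExtendCodimOne
import Groth.Agent.L15.CohFlat
import Groth.Agent.L22.VeryAmple.Immersion
import Mathlib.AlgebraicGeometry.ZariskisMainTheorem

set_option autoImplicit false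
universe u
open CategoryTheory CategoryTheory.Limits AlgebraicGeometry
open Curves

namespace Groth.Agent.S19463

/-- Let k be an algebraically closed field and X a smooth curve over k (integral, separated, of finite
type and smooth over k, of dimension one). Then there are a smooth projective curve Y over k
(integral, smooth over k, of dimension one, admitting a closed immersion over k into some P^n_k) and
an open immersion X → Y over k. -/
theorem result (k : Type u) [Field k] [IsAlgClosed k]
    (X : Scheme.{u}) [X.Over (Spec (CommRingCat.of k))] [IsIntegral X] [IsSeparated (X ↘ (Spec (CommRingCat.of k)))]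
    [LocallyOfFiniteType (X ↘ (Spec (CommRingCat.of k)))] [QuasiCompact (X ↘ (Spec (CommRingCat.of k)))] [Smooth (X ↘ (Spec (CommRingCat.of k)))]
    (hdimX : topologicalKrullDim X = 1) :
    ∃ (Y : Scheme.{u}) (_ : Y.Over (Spec (CommRingCat.of k))) (j : X ⟶ Y), IsOpenImmersion j ∧
      j ≫ (Y ↘ (Spec (CommRingCat.of k))) = X ↘ (Spec (CommRingCat.of k)) ∧ IsIntegral Y ∧ Smooth (Y ↘ (Spec (CommRingCat.of k))) ∧ topologicalKrullDim Y = 1 ∧
      ∃ (n : ℕ) (i : Y ⟶ CohB1.ProjSpace n k), IsClosedImmersion i ∧ i ≫ CohB1.ProjSpace.toSpec n k = Y ↘ (Spec (CommRingCat.of k)) := by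
  let q := X ↘ (Spec (CommRingCat.of k))
  have hnX : ∀ x : X, IsIntegrallyClosed (X.presheaf.stalk x) := fun x => by
    haveI := Groth.L07.SyntKoszul.isRegularLocalRing_of_smooth q x
    haveI := Groth.L10.RegUFD.isUFD (X.presheaf.stalk x)
    infer_instance
  obtain ⟨d, Y₁, c, j₁, hc, hj₁, hjc, hdense, -, -, -⟩ := Groth.Agent.S1625.result k X hdimX.le
  haveI := hc
  haveI := hj₁
  haveI : IsProper (CohB1.ProjSpace.toSpec d k) := Groth.L16.ProjSpace.isProper_toSpec d k
  letI : Y₁.Over (Spec (CommRingCat.of k)) := ⟨c ≫ CohB1.ProjSpace.toSpec d k⟩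
  haveI : IsProper (Y₁ ↘ Spec (CommRingCat.of k)) :=
    inferInstanceAs (IsProper (c ≫ CohB1.ProjSpace.toSpec d k))
  haveI : IsLocallyNoetherian Y₁ := LocallyOfFiniteType.isLocallyNoetherian (Y₁ ↘ Spec (CommRingCat.of k))
  haveI : CompactSpace Y₁ := QuasiCompact.compactSpace_of_compactSpace (Y₁ ↘ Spec (CommRingCat.of k))
  haveI : AlgebraicGeometry.IsNoetherian Y₁ := {}
  haveI : IsDominant j₁ := ⟨hdense⟩
  haveI : PreirreducibleSpace Y₁ := by
    refine ⟨?_⟩
    have h := (IrreducibleSpace.isIrreducible_univ X).image j₁.base (by fun_prop)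
    have h2 := h.closure
    rw [Set.image_univ, hdense.closure_eq] at h2
    exact h2.2
  haveI : j₁.IsOver (Spec (CommRingCat.of k)) := ⟨hjc⟩
  haveI : IsLocallyNoetherian X := LocallyOfFiniteType.isLocallyNoetherian q
  haveI : CompactSpace X := QuasiCompact.compactSpace_of_compactSpace q
  haveI : AlgebraicGeometry.IsNoetherian X := {}
  haveI : QuasiCompact j₁ := inferInstance
  haveI : IsFinite j₁.fromNormalization := Groth.Agent.S7616.result k Y₁ X j₁
  haveI : IsOpenImmersion j₁.toNormalization := inferInstance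
  haveI : IsIntegral j₁.normalization := inferInstance
  have hnY : Pi1.IsNormalScheme j₁.normalization :=
    Groth.L16.CurveCompletion.isNormalScheme_normalization j₁
      (Groth.L16.CurveCompletion.isIntegrallyClosed_sections hnX)
  let pY : j₁.normalization ⟶ Spec (CommRingCat.of k) :=
    j₁.fromNormalization ≫ (Y₁ ↘ Spec (CommRingCat.of k))
  letI : j₁.normalization.Over (Spec (CommRingCat.of k)) := ⟨pY⟩
  haveI hpr : IsProper pY := inferInstanceAs (IsProper (j₁.fromNormalization ≫ (Y₁ ↘ Spec (CommRingCat.of k))))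
  haveI : LocallyOfFiniteType (j₁.normalization ↘ Spec (CommRingCat.of k)) :=
    inferInstanceAs (LocallyOfFiniteType pY)
  have hdimY : topologicalKrullDim j₁.normalization = 1 := by
    obtain ⟨n, hn, -, hnU⟩ := Groth.L22.SchemeDim.exists_dim_eq_trdeg k j₁.normalization
    have h := hnU j₁.toNormalization.opensRange
      ⟨j₁.toNormalization (genericPoint X), genericPoint X, rfl⟩
    rw [hn, ← h]
    exact (Groth.L22.SchemeDim.topologicalKrullDim_eq_of_isEmbedding
      j₁.toNormalization.isOpenEmbedding.isEmbedding rfl).trans hdimX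
  haveI : IsLocallyNoetherian j₁.normalization := LocallyOfFiniteType.isLocallyNoetherian pY
  haveI : CompactSpace j₁.normalization := QuasiCompact.compactSpace_of_compactSpace pY
  haveI : AlgebraicGeometry.IsNoetherian j₁.normalization := {}
  haveI : j₁.normalization.IsSeparated := ⟨by rw [← terminal.comp_from pY]; infer_instance⟩
  haveI hsm : Smooth pY := Groth.L26.Weil.smooth_of_regular_closed pY fun y _ => by
    haveI := (hnY y).1
    haveI := (hnY y).2
    haveI := Groth.L18.Codim1.valuationRing_of_normal (j₁.normalization.presheaf.stalk y)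
      ((Groth.L15.CohFlat.ringKrullDim_stalk_le y).trans hdimY.le)
    infer_instance
  obtain ⟨L, hL⟩ := Groth.Agent.S1551.aux j₁.normalization hdimY.le
  obtain ⟨_, _, n, r', hr', hi', -⟩ := Groth.L22.VeryAmple.exists_immersion_of_isAmple pY hL
  let r : j₁.normalization ⟶ CohB1.ProjSpace n k := r'
  have hr : r ≫ CohB1.ProjSpace.toSpec n k = pY := hr'
  haveI : IsImmersion r := hi'
  haveI : IsProper (r ≫ CohB1.ProjSpace.toSpec n k) := by rw [hr]; infer_instance
  haveI : IsProper r := IsProper.of_comp r (CohB1.ProjSpace.toSpec n k)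
  refine ⟨j₁.normalization, ⟨pY⟩, j₁.toNormalization, inferInstance, ?_, inferInstance, hsm, hdimY,
    n, r, IsClosedImmersion.of_isPreimmersion r r.isClosedMap.isClosed_range, hr⟩
  show j₁.toNormalization ≫ j₁.fromNormalization ≫ _ = _
  rw [← Category.assoc, Scheme.Hom.toNormalization_fromNormalization]
  exact hjc
end Groth.Agent.S19463
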