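import Groth.Statements.S19468
import Groth.Agent.S14757
import Groth.Agent.S14604
import Groth.Agent.L08.ChevPerf.Perfect
import Groth.Agent.L08.AffHull.Crit

set_option autoImplicit false
set_option backward.isDefEq.respectTransparency.types false
set_option linter.style.haveILetI false
universe u
open CategoryTheory MonoidalCategory CartesianMonoidalCategory MonObj GrpObj AlgebraicGeometry CategoryTheory.Limits
open AlgGrp

namespace Groth.Agent.S19468

/-- Let k be a finite field and G a smooth connected k-group scheme of finite type. Then there are a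
closed normal subgroup scheme l : L → G with L smooth, connected and affine, and a closed subgroup
scheme a : A → G with A an abelian variety (proper, smooth and connected over k), such that G = L ·
A, in the sense that the multiplication L × A → G is surjective, and L ∩ A (the fibre product of l
and a) is finite over k. (The published statement also asserts that such a decomposition is unique;
that part is not included here.) -/
theorem result (k : Type u) [Field k] [Finite k]
    (G : Over (Spec (CommRingCat.of k))) [GrpObj G] [Smooth G.hom] [QuasiCompact G.hom]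
    [ConnectedSpace ↥G.left] :
    ∃ (L : Over (Spec (CommRingCat.of k))) (_ : GrpObj L) (l : L ⟶ G) (A : Over (Spec (CommRingCat.of k)))
      (_ : GrpObj A) (a : A ⟶ G),
      IsMonHom l ∧ IsClosedImmersion l.left ∧ AlgGrp.IsNormalHom l ∧ Smooth L.hom ∧ ConnectedSpace ↥L.left ∧
        IsAffine L.left ∧
      IsMonHom a ∧ IsClosedImmersion a.left ∧ IsProper A.hom ∧ Smooth A.hom ∧ ConnectedSpace ↥A.left ∧
      Surjective ((l ⊗ₘ a) ≫ μ[G]).left ∧ IsFinite (pullback.fst l.left a.left ≫ L.hom) := by
  haveI : LocallyOfFiniteType G.hom := inferInstance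
  haveI : IsSeparated G.hom := Groth.L08.AbelianGrp.isSeparated G
  obtain ⟨L, _, l, Q, _, q, hl, hlc, hLa, hLs, hLn', hLn, hq, hqs, -, -, hker, hQp, -, -⟩ :=
    Groth.L08.ChevPerf.exists_chevalley G
  haveI := hl; haveI := hlc; haveI := hLa; haveI := hLs; haveI := hLn'; haveI := hq; haveI := hQp
  haveI : QuasiSeparatedSpace ↥G.left := Groth.L08.AffHull.quasiSeparatedSpace (G := G)
  haveI : CompactSpace ↥G.left := Groth.L08.AffHull.compactSpace (G := G)
  obtain ⟨A, _, a, ha, hac, -, sq⟩ := Groth.L08.AbelianGrp.exists_kernel (Groth.L08.AffHull.rho G)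
  haveI := ha; haveI := hac
  have hAO : IsIso A.hom.appTop := Groth.L08.AffHull.isIso_appTop_kernel a sq
  have hAb := (Groth.L08.AffHull.bijective_iff_isIso A).2 hAO
  haveI : LocallyOfFiniteType A.hom := by rw [← Over.w a]; infer_instance
  haveI : QuasiCompact A.hom := by rw [← Over.w a]; infer_instance
  haveI : IsProper A.hom := Groth.Agent.S14604.result k A hAb
  haveI : Smooth A.hom := Groth.L08.AffHull.smooth_of_antiAffine A hAO
  haveI : ConnectedSpace ↥A.left := Groth.L08.AffHull.connectedSpace_of_antiAffine A hAO
  refine ⟨L, inferInstance, l, A, inferInstance, a, hl, hlc, hLn, hLs, hLn', hLa, ha, hac, inferInstance,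
    inferInstance, inferInstance, ?_, ?_⟩
  · have h := (Groth.Agent.S14757.result k G L l hLn
      (fun N' _ i' _ _ _ _ _ _ => Groth.L08.ChevPerf.exists_factor_kernel l q hker i') A a hAb
      (fun M' _ j' _ _ hM' => by
        haveI : LocallyOfFiniteType M'.hom := by rw [← Over.w j']; infer_instance
        haveI : QuasiCompact M'.hom := by rw [← Over.w j']; infer_instance
        have h1 : j' ≫ Groth.L08.AffHull.rho G = 1 :=
          Groth.L08.AffHull.hom_eq_one ((Groth.L08.AffHull.bijective_iff_isIso M').1 hM') _
        exact ⟨sq.lift j' (toUnit M') (by rw [h1, Hom.one_def]), sq.lift_fst _ _ _⟩)).2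
    haveI := h
    haveI := hqs
    have hlq : l ≫ q = 1 := hker.w.trans (Hom.one_def).symm
    have e : ((a ⊗ₘ l) ≫ μ[G]) ≫ q = fst A L ≫ a ≫ q := by
      rw [show (a ⊗ₘ l) ≫ μ[G] = (fst A L ≫ a) * (snd A L ≫ l) by
          rw [MonObj.mul_eq_mul, MonObj.comp_mul, tensorHom_fst, tensorHom_snd],
        MonObj.mul_comp, Category.assoc, Category.assoc, hlq, MonObj.comp_one, _root_.mul_one]
    haveI : Surjective (((a ⊗ₘ l) ≫ μ[G]).left ≫ q.left) := inferInstance
    haveI : Surjective ((fst A L).left ≫ (a ≫ q).left) := by
      rw [← Over.comp_left, ← e, Over.comp_left]; infer_instance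
    exact (Groth.L08.Chev.surjective_mul_of_surjective l a q hker (Surjective.of_comp (fst A L).left _)).1
  · haveI : IsAffineHom L.hom := isAffineHom_of_isAffine _
    have h1 : pullback.fst l.left a.left ≫ L.hom = pullback.snd l.left a.left ≫ A.hom := by
      rw [← Over.w l, ← Over.w a, pullback.condition_assoc]
    haveI : IsProper (pullback.fst l.left a.left ≫ L.hom) := by
      rw [h1]; infer_instance
    exact IsFinite.iff_isProper_and_isAffineHom.2 ⟨inferInstance, inferInstance⟩
end Groth.Agent.S19468
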