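import Groth.Statements.S19475
import Mathlib.RingTheory.AdicCompletion.LocalRing
import Mathlib.RingTheory.AdicCompletion.Completeness
import Mathlib.RingTheory.LocalRing.ResidueField.Basic
import Mathlib.RingTheory.Localization.AtPrime.Basic
import Mathlib.RingTheory.Noetherian.Basic

set_option autoImplicit false
universe u
open CAlg

namespace Groth.Agent.S19475

open IsLocalRing in
variable {_unused : Unit}
open scoped TensorProduct
open IsLocalRing in

/-- Let A be a Noetherian ring, B an A-algebra, q a prime ideal of B and p its preimage in A; let A_p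
and B_q be the local rings at p and q and Â_p the completion of A_p at its maximal ideal pA_p. Then
the ideal generated by qB_q in B_q ⊗ Â_p is maximal. (The tensor product is formed over A; since A_p
is a localization of A it agrees with the tensor product over A_p used in the published statement.) -/
theorem result (A B : Type u) [CommRing A] [CommRing B]
    [Algebra A B] [IsNoetherianRing A] (q : Ideal B) [q.IsPrime] :
    ((maximalIdeal (Localization.AtPrime q)).map
      (Algebra.TensorProduct.includeLeftRingHom :
        Localization.AtPrime q →+* TensorProduct A (Localization.AtPrime q)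
          (AdicCompletion (maximalIdeal (Localization.AtPrime (q.under A)))
            (Localization.AtPrime (q.under A))))).IsMaximal := by
  classical
  set p := q.under A
  let Ap := Localization.AtPrime p
  let Bq := Localization.AtPrime q
  let P := IsLocalRing.maximalIdeal Ap
  let C := AdicCompletion P Ap
  have : IsNoetherianRing Ap := IsLocalization.isNoetherianRing p.primeCompl Ap inferInstance
  let loc : Ap →+* Bq := Localization.localRingHom p q (algebraMap A B) rfl
  have hloc : ∀ a : A, loc (algebraMap A Ap a) = algebraMap A Bq a := fun a => by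
    rw [IsScalarTower.algebraMap_apply A B Bq]
    exact Localization.localRingHom_to_map p q (algebraMap A B) rfl a
  have : IsLocalHom loc := Localization.isLocalHom_localRingHom p q _ rfl
  let κ := IsLocalRing.ResidueField Bq
  let ψ₀ : C →+* κ := (IsLocalRing.ResidueField.map loc).comp (AdicCompletion.evalOneₐ P).toRingHom
  let ψ : C →ₐ[A] κ := { ψ₀ with
    commutes' := fun a => by
      show ψ₀ (algebraMap A C a) = _
      rw [IsScalarTower.algebraMap_apply A Ap C]
      show IsLocalRing.ResidueField.map loc (AdicCompletion.evalOneₐ P (algebraMap Ap C (algebraMap A Ap a))) = _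
      rw [AlgHom.commutes]
      exact (IsLocalRing.ResidueField.map_residue loc _).trans (by rw [hloc]; rfl) }
  let f : Bq →ₐ[A] κ := IsScalarTower.toAlgHom A Bq κ
  let Φ := Algebra.TensorProduct.lift f ψ (fun _ _ => Commute.all _ _)
  set Q := (IsLocalRing.maximalIdeal Bq).map (Algebra.TensorProduct.includeLeftRingHom : Bq →+* TensorProduct A Bq C)
  have hsurj : Function.Surjective Φ := fun z => by
    obtain ⟨b, rfl⟩ := IsLocalRing.residue_surjective z
    exact ⟨b ⊗ₜ 1, by rw [Algebra.TensorProduct.lift_tmul, map_one, mul_one]; rfl⟩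
  have hker : ∀ z, ∃ b : Bq, z - b ⊗ₜ[A] (1 : C) ∈ Q := by
    intro z
    induction z using TensorProduct.induction_on with
    | zero => exact ⟨0, by simp⟩
    | add x y hx hy =>
      obtain ⟨b, hb⟩ := hx; obtain ⟨c, hc⟩ := hy
      refine ⟨b + c, ?_⟩
      rw [TensorProduct.add_tmul, add_sub_add_comm]
      exact Q.add_mem hb hc
    | tmul b c =>
      obtain ⟨x, hx⟩ := Ideal.Quotient.mk_surjective (AdicCompletion.evalOneₐ P c)
      obtain ⟨⟨a, s⟩, hxs⟩ := IsLocalization.surj p.primeCompl x
      have hm : c - algebraMap Ap C x ∈ RingHom.ker (AdicCompletion.evalOneₐ P) := by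
        rw [RingHom.mem_ker, map_sub, AlgHom.commutes, sub_eq_zero]; exact hx.symm
      replace hm : c - algebraMap Ap C x ∈ P.map (algebraMap Ap C) :=
        (AdicCompletion.ker_evalOneₐ_eq_map P P.fg_of_isNoetherianRing).le hm
      have hQ : ∀ (b : Bq), ∀ y ∈ P.map (algebraMap Ap C), b ⊗ₜ[A] y ∈ Q := by
        intro b y hy
        induction hy using Submodule.span_induction generalizing b with
        | mem y hy =>
          obtain ⟨π, hπ, rfl⟩ := hy
          obtain ⟨a', s', hπ'⟩ := IsLocalization.exists_mk'_eq p.primeCompl π
          have ha' : a' ∈ p := by rw [← hπ'] at hπ; exact (IsLocalization.AtPrime.mk'_mem_maximal_iff Ap p a' s').mp hπ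
          have he : algebraMap Ap C π = algebraMap Ap C (IsLocalization.mk' Ap 1 s') * algebraMap A C a' := by
            rw [IsScalarTower.algebraMap_apply A Ap C, ← map_mul, ← hπ', mul_comm, IsLocalization.mul_mk'_eq_mk'_of_mul, mul_one]
          rw [he, mul_comm, ← Algebra.smul_def, TensorProduct.tmul_smul, TensorProduct.smul_tmul']
          have hb : a' • b ∈ IsLocalRing.maximalIdeal Bq := by
            rw [Algebra.smul_def, IsScalarTower.algebraMap_apply A B Bq]
            exact Ideal.mul_mem_right _ _ ((IsLocalization.AtPrime.to_map_mem_maximal_iff Bq q _).mpr ha')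
          have := Q.mul_mem_right ((1 : Bq) ⊗ₜ[A] algebraMap Ap C (IsLocalization.mk' Ap 1 s')) (Ideal.mem_map_of_mem _ hb)
          rwa [Algebra.TensorProduct.includeLeftRingHom_apply, Algebra.TensorProduct.tmul_mul_tmul, mul_one, one_mul] at this
        | zero => simp
        | add y y' _ _ hy hy' => rw [TensorProduct.tmul_add]; exact Q.add_mem (hy b) (hy' b)
        | smul r y _ hy =>
          rw [show b ⊗ₜ[A] (r • y) = ((1 : Bq) ⊗ₜ[A] r) * (b ⊗ₜ[A] y) by rw [Algebra.TensorProduct.tmul_mul_tmul, one_mul]; rfl]
          exact Q.mul_mem_left _ (hy b)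
      have hs : IsUnit (algebraMap A Bq (s : A)) := by
        rw [IsScalarTower.algebraMap_apply A B Bq]
        exact IsLocalization.map_units Bq (⟨algebraMap A B s, s.2⟩ : q.primeCompl)
      obtain ⟨t, ht⟩ := hs.exists_left_inv
      refine ⟨(b * t) * algebraMap A Bq a, ?_⟩
      have heq : b ⊗ₜ[A] algebraMap Ap C x = ((b * t) * algebraMap A Bq a) ⊗ₜ[A] (1 : C) := by
        have hb : b = (s : A) • (b * t) := by rw [Algebra.smul_def, mul_comm, mul_assoc, ht, mul_one]
        conv_lhs => rw [hb, TensorProduct.smul_tmul, Algebra.smul_def, IsScalarTower.algebraMap_apply A Ap C, ← map_mul, show algebraMap A Ap s * x = algebraMap A Ap a from (mul_comm _ _).trans hxs,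
          ← IsScalarTower.algebraMap_apply A Ap C, Algebra.algebraMap_eq_smul_one, TensorProduct.tmul_smul, TensorProduct.smul_tmul']
        rw [Algebra.smul_def, mul_comm]
      rw [← heq, ← TensorProduct.tmul_sub]
      exact hQ b _ hm
  have hQle : Q ≤ RingHom.ker Φ := Ideal.map_le_iff_le_comap.mpr fun b hb => by
    show Φ (b ⊗ₜ 1) = 0
    rw [Algebra.TensorProduct.lift_tmul, map_one, mul_one]
    exact (IsLocalRing.residue_eq_zero_iff b).mpr hb
  have hQeq : Q = RingHom.ker Φ := le_antisymm hQle fun z hz => by
    obtain ⟨b, hb⟩ := hker z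
    have h0 := hQle hb
    rw [RingHom.mem_ker, map_sub, RingHom.mem_ker.mp hz, zero_sub, neg_eq_zero, Algebra.TensorProduct.lift_tmul, map_one, mul_one] at h0
    have := Q.add_mem hb (Ideal.mem_map_of_mem (Algebra.TensorProduct.includeLeftRingHom : Bq →+* TensorProduct A Bq C) ((IsLocalRing.residue_eq_zero_iff b).mp h0))
    rwa [Algebra.TensorProduct.includeLeftRingHom_apply, sub_add_cancel] at this
  rw [hQeq]
  exact RingHom.ker_isMaximal_of_surjective Φ hsurj

end Groth.Agent.S19475
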