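import Groth.Statements.S19477
import Groth.Agent.S6333
import Mathlib.FieldTheory.PrimitiveElement
import Mathlib.FieldTheory.IsAlgClosed.AlgebraicClosure
import Mathlib.FieldTheory.Galois.Basic
import Mathlib.RingTheory.Polynomial.IsIntegral
import Mathlib.RingTheory.IsTensorProduct
import Mathlib.LinearAlgebra.TensorProduct.Finiteness
-- import your own Groth.Agent.* helpers here

set_option autoImplicit false
universe u
open Variety
open scoped TensorProduct

namespace Groth.Agent.S19477

theorem degree_bound (K F Ω : Type u) [Field K] [Field F] [Field Ω] [Algebra K F] [Algebra K Ω] [Algebra F Ω]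
    [IsScalarTower K F Ω] [FiniteDimensional K (algebraicClosure K F)] (b : Ω) (hb : IsIntegral K b) :
    (minpoly K b).natDegree ≤ Module.finrank K (algebraicClosure K F) * (minpoly F b).natDegree := by
  let E := algebraicClosure K F
  have hbF : IsIntegral F b := hb.tower_top
  set g := minpoly F b with hg
  have hcoeff : ∀ n, g.coeff n ∈ E := fun n =>
    mem_algebraicClosure_iff.2 (Polynomial.isIntegral_coeff_of_dvd (minpoly K b) g (minpoly.monic hb)
      (minpoly.monic hbF) (minpoly.dvd_map_of_isScalarTower K F b) n).isAlgebraic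
  have hlift : g ∈ Polynomial.lifts (algebraMap E F) :=
    (Polynomial.lifts_iff_coeff_lifts g).2 fun n => ⟨⟨g.coeff n, hcoeff n⟩, rfl⟩
  obtain ⟨g₀, hg₀, hdeg, hmon⟩ := Polynomial.lifts_and_natDegree_eq_and_monic hlift (minpoly.monic hbF)
  have haev : Polynomial.aeval b g₀ = 0 := by
    rw [← Polynomial.aeval_map_algebraMap F b g₀, hg₀]
    exact minpoly.aeval F b
  have hbE : IsIntegral E b := ⟨g₀, hmon, haev⟩
  let E' := IntermediateField.adjoin E {b}
  haveI : FiniteDimensional E E' := IntermediateField.adjoin.finiteDimensional hbE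
  haveI : FiniteDimensional K E' := Module.Finite.trans E E'
  calc (minpoly K b).natDegree
      = (minpoly K (⟨b, IntermediateField.mem_adjoin_simple_self E b⟩ : E')).natDegree := by
        rw [← minpoly.algHom_eq (E'.val.restrictScalars K) E'.val.injective]
        rfl
    _ ≤ Module.finrank K E' := minpoly.natDegree_le _
    _ = Module.finrank K E * Module.finrank E E' := (Module.finrank_mul_finrank K E E').symm
    _ ≤ Module.finrank K E * g.natDegree := by
        refine Nat.mul_le_mul_left _ ?_
        rw [IntermediateField.adjoin.finrank hbE, ← hdeg]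
        exact Polynomial.natDegree_le_of_dvd (minpoly.dvd E b haev) hmon.ne_zero

theorem main (K F L : Type u) [Field K] [Field F] [Algebra K F] [Algebra.EssFiniteType K F] [Field L] [Algebra K L]
    [IsGalois K L] :
    Finite (PrimeSpectrum (F ⊗[K] L)) ∧
      ∀ P Q : PrimeSpectrum (F ⊗[K] L), ∃ γ : L ≃ₐ[K] L,
        Q.asIdeal = P.asIdeal.comap (Algebra.TensorProduct.map (AlgHom.id K F) (γ : L →ₐ[K] L)) := by
  classical
  haveI hfin : FiniteDimensional K (algebraicClosure K F) :=
    Groth.Agent.S6333.result (IntermediateField.fg_top K F)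
  let Ω := AlgebraicClosure F
  haveI : Algebra.IsIntegral F (F ⊗[K] L) := inferInstance
  let ψ : (L →ₐ[K] Ω) → (F ⊗[K] L →ₐ[F] Ω) := fun τ => Algebra.TensorProduct.lift (Algebra.ofId F Ω) τ (fun _ _ => Commute.all _ _)
  have hker : ∀ P : PrimeSpectrum (F ⊗[K] L), ∃ τ, P.asIdeal = RingHom.ker (ψ τ) := fun P => by
    haveI : Algebra.IsIntegral F ((F ⊗[K] L) ⧸ P.asIdeal) := inferInstance
    haveI : Algebra.IsAlgebraic F ((F ⊗[K] L) ⧸ P.asIdeal) := inferInstance
    let σ : ((F ⊗[K] L) ⧸ P.asIdeal) →ₐ[F] Ω := IsAlgClosed.lift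
    have hσ : Function.Injective σ := by
      haveI : IsDomain ((F ⊗[K] L) ⧸ P.asIdeal) := inferInstance
      letI := (isField_of_isIntegral_of_isField' (R := F) (S := (F ⊗[K] L) ⧸ P.asIdeal) (Field.toIsField F)).toField
      exact σ.toRingHom.injective
    let τ : L →ₐ[K] Ω := ((σ.comp (Ideal.Quotient.mkₐ F P.asIdeal)).restrictScalars K).comp
      Algebra.TensorProduct.includeRight
    refine ⟨τ, ?_⟩
    have he : ψ τ = σ.comp (Ideal.Quotient.mkₐ F P.asIdeal) :=
      Algebra.TensorProduct.ext (Subsingleton.elim _ _) (AlgHom.ext fun x => by simp [ψ, τ])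
    rw [he]
    ext z
    simp [RingHom.mem_ker, map_eq_zero_iff σ hσ, Ideal.Quotient.eq_zero_iff_mem]
  choose T hT using hker
  refine ⟨?_, fun P Q => ?_⟩
  · by_contra hinf
    rw [not_finite_iff_infinite] at hinf
    set N := Module.finrank K (algebraicClosure K F) with hN
    let f : Fin (N + 1) ↪ PrimeSpectrum (F ⊗[K] L) :=
      (Fin.valEmbedding.trans (Infinite.natEmbedding _))
    have hz : ∀ p : Fin (N + 1) × Fin (N + 1), ∃ z : F ⊗[K] L, p.1 ≠ p.2 → ¬ (ψ (T (f p.1)) z = 0 ↔ ψ (T (f p.2)) z = 0) := by
      intro p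
      by_contra h
      push Not at h
      have hne := (h 0).1
      refine hne (f.injective (PrimeSpectrum.ext ?_))
      rw [hT, hT]
      ext z
      exact (h z).2
    choose z hz using hz
    choose S hS using fun p => TensorProduct.exists_finset (z p)
    let s : Finset L := Finset.univ.biUnion fun p => (S p).image Prod.snd
    haveI : Algebra.IsSeparable K L := IsGalois.to_isSeparable
    haveI : FiniteDimensional K (IntermediateField.adjoin K (s : Set L)) :=
      IntermediateField.finiteDimensional_adjoin fun x _ => Algebra.IsIntegral.isIntegral x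
    obtain ⟨a₀, ha₀⟩ := Field.exists_primitive_element K (IntermediateField.adjoin K (s : Set L))
    set a : L := (a₀ : L) with ha
    let Φ : Polynomial F →ₐ[F] F ⊗[K] L := Polynomial.aeval ((1 : F) ⊗ₜ[K] a)
    have hmem : ∀ x ∈ s, ∃ r : Polynomial K, Polynomial.aeval a r = x := fun x hx => by
      have h1 : (⟨x, IntermediateField.subset_adjoin K _ hx⟩ : IntermediateField.adjoin K (s : Set L)) ∈
          (IntermediateField.adjoin K {a₀}).toSubalgebra := by rw [ha₀]; exact IntermediateField.mem_top
      rw [IntermediateField.adjoin_simple_toSubalgebra_of_isAlgebraic (Algebra.IsIntegral.isIntegral a₀).isAlgebraic,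
        Algebra.adjoin_singleton_eq_range_aeval] at h1
      obtain ⟨r, hr⟩ := h1
      refine ⟨r, ?_⟩
      have := congr_arg (IntermediateField.adjoin K (s : Set L)).val hr
      exact (Polynomial.aeval_algHom_apply (IntermediateField.adjoin K (s : Set L)).val a₀ r).trans this
    have hrange : ∀ p, z p ∈ Φ.range := fun p => by
      rw [hS p]
      refine Subalgebra.sum_mem _ fun i hi => ?_
      obtain ⟨r, hr⟩ := hmem i.2 (Finset.mem_biUnion.2 ⟨p, Finset.mem_univ p, Finset.mem_image_of_mem _ hi⟩)
      refine ⟨Polynomial.C i.1 * r.map (algebraMap K F), ?_⟩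
      show Polynomial.aeval ((1 : F) ⊗ₜ[K] a) (Polynomial.C i.1 * r.map (algebraMap K F)) = i.1 ⊗ₜ[K] i.2
      rw [map_mul, Polynomial.aeval_C, Polynomial.aeval_map_algebraMap,
        show ((1 : F) ⊗ₜ[K] a) = (Algebra.TensorProduct.includeRight : L →ₐ[K] F ⊗[K] L) a from rfl,
        Polynomial.aeval_algHom_apply, hr]
      simp
    have hψ : ∀ τ q, ψ τ (Φ q) = Polynomial.aeval (τ a) q := fun τ q => by
      rw [← Polynomial.aeval_algHom_apply (ψ τ)]
      simp [ψ]
    let b : Fin (N + 1) → Ω := fun i => T (f i) a
    have hint : ∀ i, IsIntegral K (b i) := fun i => (Algebra.IsIntegral.isIntegral a).map (T (f i))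
    have hgne : Pairwise fun i j => IsCoprime (minpoly F (b i)) (minpoly F (b j)) := by
      intro i j hij
      refine ((minpoly.irreducible (hint i).tower_top).coprime_iff_not_dvd).2 fun hdvd => ?_
      have he : minpoly F (b i) = minpoly F (b j) :=
        Polynomial.eq_of_monic_of_associated (minpoly.monic (hint i).tower_top) (minpoly.monic (hint j).tower_top)
          ((minpoly.irreducible (hint i).tower_top).associated_of_dvd (minpoly.irreducible (hint j).tower_top) hdvd)
      obtain ⟨q, hq⟩ := hrange (i, j)
      refine hz (i, j) hij ?_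
      rw [← hq]
      simp only [AlgHom.toRingHom_eq_coe, RingHom.coe_coe, hψ]
      rw [← minpoly.dvd_iff, ← minpoly.dvd_iff]
      show minpoly F (b i) ∣ q ↔ minpoly F (b j) ∣ q
      rw [he]
    set m := minpoly K a with hm
    have hmdeg : ∀ i, minpoly K (b i) = m := fun i => minpoly.algHom_eq (T (f i)) (T (f i)).injective a
    have hdvd : (∏ i, minpoly F (b i)) ∣ m.map (algebraMap K F) :=
      Finset.prod_dvd_of_coprime (fun i _ j _ h => hgne h) fun i _ => by
        rw [← hmdeg i]; exact minpoly.dvd_map_of_isScalarTower K F (b i)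
    have hle := Polynomial.natDegree_le_of_dvd hdvd ((Polynomial.map_ne_zero (minpoly.ne_zero (Algebra.IsIntegral.isIntegral a))))
    rw [Polynomial.natDegree_map, Polynomial.natDegree_prod _ _ fun i _ => minpoly.ne_zero (hint i).tower_top] at hle
    have hsum : (N + 1) * m.natDegree ≤ N * m.natDegree := by
      calc (N + 1) * m.natDegree = ∑ _i : Fin (N + 1), m.natDegree := by simp
        _ ≤ ∑ i, N * (minpoly F (b i)).natDegree := Finset.sum_le_sum fun i _ => hmdeg i ▸ degree_bound K F Ω (b i) (hint i)
        _ ≤ N * m.natDegree := by rw [← Finset.mul_sum]; exact Nat.mul_le_mul_left _ hle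
    have hpos : 0 < m.natDegree := minpoly.natDegree_pos (Algebra.IsIntegral.isIntegral a)
    nlinarith
  · let τ₁ := T P
    let τ₂ := T Q
    letI : Algebra L Ω := τ₁.toRingHom.toAlgebra
    haveI : IsScalarTower K L Ω := IsScalarTower.of_algebraMap_eq fun x => (τ₁.commutes x).symm
    let γ₀ : L →ₐ[K] L := τ₂.restrictNormal L
    have hγ₀ : ∀ x, τ₁ (γ₀ x) = τ₂ x := fun x => τ₂.restrictNormal_commutes L x
    refine ⟨AlgEquiv.ofBijective γ₀ (Algebra.IsAlgebraic.algHom_bijective γ₀), ?_⟩
    have he : ψ τ₂ = (ψ τ₁).comp (Algebra.TensorProduct.map (AlgHom.id F F) γ₀) :=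
      Algebra.TensorProduct.ext (Subsingleton.elim _ _)
        (AlgHom.ext fun x => by simp [ψ, hγ₀])
    ext w
    rw [Ideal.mem_comap, hT Q, hT P, RingHom.mem_ker, RingHom.mem_ker, show T Q = τ₂ from rfl, he]
    rfl

/-- Let K be a field, B an integral K-algebra of finite type with fraction field F, and L a Galois
extension of K with group Γ = Aut_K(L). Then F ⊗_K L has only finitely many prime ideals and Γ,
acting through the second factor, permutes them transitively: for prime ideals P, Q there is γ ∈ Γ
with Q the preimage of P under id ⊗ γ. (The published statement is the geometric one, that the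
points of an algebraic K-scheme X correspond to the Γ-orbits of points of X_L and that these orbits
are finite; it reduces to this algebraic statement by passing to the fibre over a point, and the
algebraic statement is what is proved.) -/
theorem result (K B L : Type u) [Field K]
    [CommRing B] [IsDomain B] [Algebra K B] [Algebra.FiniteType K B] [Field L] [Algebra K L] [IsGalois K L] :
    Finite (PrimeSpectrum (TensorProduct K (FractionRing B) L)) ∧
      ∀ P Q : PrimeSpectrum (TensorProduct K (FractionRing B) L), ∃ γ : L ≃ₐ[K] L,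
        Q.asIdeal = P.asIdeal.comap
          (Algebra.TensorProduct.map (AlgHom.id K (FractionRing B)) (γ : L →ₐ[K] L)) := by
  haveI : Algebra.EssFiniteType B (FractionRing B) := Algebra.EssFiniteType.of_isLocalization _ (nonZeroDivisors B)
  haveI : Algebra.EssFiniteType K (FractionRing B) := Algebra.EssFiniteType.comp K B (FractionRing B)
  exact main K (FractionRing B) L


end Groth.Agent.S19477
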