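import Groth.Statements.S19479
import Groth.Agent.L08.Semisimple

set_option autoImplicit false
universe u v w
open HopfRep

namespace Groth.Agent.S19479
open Groth.L08 TensorProduct

open TensorProduct in
/-- Let K be a field, C a K-coalgebra and V a right C-comodule. The following are equivalent: (i) V is
the internal direct sum of a family of simple subcomodules, i.e. there is an independent family of
subcomodules W_i with sum V, each W_i nonzero and having no subcomodules inside it other than 0 and
W_i; (ii) every subcomodule of V has a complementary subcomodule. A subcomodule is a subspace W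
whose coaction lands in the image of W ⊗ C. (The source states this for left comodules; a left
comodule over C is a right comodule over the co-opposite coalgebra, so the statement is the same.) -/
theorem result {K : Type u} {C : Type v} [Field K]
    [AddCommGroup C] [Module K C] [Coalgebra K C] (V : Type w) [AddCommGroup V] [Module K V] [HopfRep.Comod K C V] :
    (∃ (ι : Type w) (W : ι → Submodule K V), iSupIndep W ∧ iSup W = ⊤ ∧ ∀ i,
        HopfRep.IsSubcomod (k := K) (A := C) (W i) ∧ W i ≠ ⊥ ∧
          ∀ W' : Submodule K V, HopfRep.IsSubcomod (k := K) (A := C) W' → W' ≤ W i → W' = ⊥ ∨ W' = W i) ↔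
      HopfRep.IsSemisimpleComod K C V := by
  constructor
  · rintro ⟨ι, W, -, htop, hW⟩
    exact isSemisimpleComod_of_iSup_simple (fun i => (hW i).1) (fun i => (hW i).2) htop
  · intro h
    haveI := isSemisimpleComod_iff.1 h
    obtain ⟨s, hind, htop, hs⟩ := IsSemisimpleModule.exists_sSupIndep_sSup_simples_eq_top (Dl K C) V
    refine ⟨s, fun m => m.1.restrictScalars K, iSupIndep_restrictScalars_iff.2 ((sSupIndep_iff s).1 hind),
      ?_, fun m => ⟨isSubcomod_restrictScalars m.1,
        (isSimpleModule_toSub_iff (isSubcomod_restrictScalars m.1)).1 (hs m.1 m.2)⟩⟩
    rw [sSup_eq_iSup'] at htop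
    simpa [Submodule.restrictScalars_iSup] using congrArg (Submodule.restrictScalars K) htop

end Groth.Agent.S19479
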