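import Groth.Statements.S19480
import Groth.Agent.L15.FrobQuot
-- import your own Groth.Agent.* helpers here

set_option autoImplicit false
open CategoryTheory AlgebraicGeometry MvPolynomial
universe u
open Quiet

namespace Groth.Agent.S19480

/-- Let k be a perfect field of prime characteristic p, A a smooth k-algebra of characteristic p and
t_1, …, t_n a regular sequence in A, so that A₀ = A/(t_1^p, …, t_n^p) is a p-good algebra when A has
a system of parameters; let v_1, …, v_m ∈ A[Y_1, …, Y_r] have images forming a regular sequence in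
A₀[Y_1, …, Y_r], and put B_0 = A[Y]/(t_1^p, …, t_n^p, v_1, …, v_m). Identify A^{1/p} with A as a
ring, so that u_i = t_i^p and the Frobenius x ↦ x^p of A[Y] carries the ideal (t_i^p, v_j) into
(u_i^p, v_j^p) = (t_i^{p²}, v_j^p). Then: (ii) (t_1^{p²}, …, t_n^{p²}, v_1^p, …, v_m^p) is a regular
sequence in A[Y]; (iii) the induced ring map β : B_0 → B = A[Y]/(t_i^{p²}, v_j^p) is faithfully flat
and Spec β is an extraction of p-th roots, i.e. every point of Spec B_0 has an affine open
neighbourhood with affine preimage over which the ring map is a tower of finitely many elementary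
extractions R → R[x]/(x^p − a). (The published statement also assumes B_0 faithfully flat and
syntomic over A₀ and A good; these are not used for (ii) and (iii) and are not assumed here. The v_j
are taken in A[Y] rather than in A₀[Y], which is how their p-th powers in A^{1/p}[Y] are meant.) -/
theorem result (p : ℕ) [Fact p.Prime]
    (k : Type u) [Field k] [CharP k p] [PerfectRing k p] (A : Type u) [CommRing A] [Algebra k A]
    [CharP A p] [Algebra.Smooth k A] (n : ℕ) (t : Fin n → A) (ht : RingTheory.Sequence.IsRegular A (List.ofFn t))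
    (r m : ℕ) (v : Fin m → MvPolynomial (Fin r) A)
    (hv : RingTheory.Sequence.IsRegular
      (MvPolynomial (Fin r) A ⧸ Ideal.span (Set.range fun i => C (t i) ^ p))
      (List.ofFn fun j => Ideal.Quotient.mk (Ideal.span (Set.range fun i => C (t i) ^ p)) (v j))) :
    RingTheory.Sequence.IsRegular (MvPolynomial (Fin r) A)
        (List.ofFn (fun i => C (t i) ^ (p ^ 2)) ++ List.ofFn (fun j => v j ^ p)) ∧
      (Ideal.quotientMap ((Ideal.span (Set.range (fun i => C (t i) ^ p) ∪ Set.range v)).map (frobenius (MvPolynomial (Fin r) A) p)) (frobenius (MvPolynomial (Fin r) A) p) Ideal.le_comap_map).FaithfullyFlat ∧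
      Quiet.IsPthRoot p (Spec.map (CommRingCat.ofHom (Ideal.quotientMap ((Ideal.span (Set.range (fun i => C (t i) ^ p) ∪ Set.range v)).map (frobenius (MvPolynomial (Fin r) A) p)) (frobenius (MvPolynomial (Fin r) A) p) Ideal.le_comap_map))) := by
  haveI : Algebra.Smooth A (MvPolynomial (Fin r) A) := ⟨inferInstance, inferInstance⟩
  haveI : Algebra.Smooth k (MvPolynomial (Fin r) A) := Algebra.Smooth.comp k A (MvPolynomial (Fin r) A)
  have hF := Groth.L15.Frob.faithfullyFlat_frobenius p k (MvPolynomial (Fin r) A)
  have hT : RingTheory.Sequence.IsWeaklyRegular (MvPolynomial (Fin r) A)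
      (List.ofFn fun i => (C (t i) : MvPolynomial (Fin r) A) ^ p) := by
    have h := Groth.L15.FrobQuot.isWeaklyRegular_map _ hF.flat
      (ht.1.of_flat (S := MvPolynomial (Fin r) A))
    rw [List.map_ofFn, List.map_ofFn] at h
    exact h
  have hreg := Groth.L15.FrobQuot.isRegular_map _ hF
    (Groth.L15.FrobQuot.isRegular_append (fun i => (C (t i) : MvPolynomial (Fin r) A) ^ p) v hT hv)
  refine ⟨?_, Groth.L15.FrobQuot.faithfullyFlat_quotientMap _ hF _,
    Groth.L15.FrobQuot.isPthRoot_quotientMap p _ _
      (Groth.L15.Frob.isPthRoot_frobenius p k (MvPolynomial (Fin r) A))⟩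
  rw [List.map_append, List.map_ofFn, List.map_ofFn] at hreg
  have e1 : (fun i => (C (t i) : MvPolynomial (Fin r) A) ^ (p ^ 2)) =
      ⇑(frobenius (MvPolynomial (Fin r) A) p) ∘ fun i => (C (t i) : MvPolynomial (Fin r) A) ^ p := by
    funext i
    simp [frobenius_def, ← pow_mul, sq]
  have e2 : (fun j => v j ^ p) = ⇑(frobenius (MvPolynomial (Fin r) A) p) ∘ v := by
    funext j
    simp [frobenius_def]
  rw [e1, e2]
  exact hreg

end Groth.Agent.S19480
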