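import Groth.Statements.S19482
import Groth.Agent.L21.Weil.EssFin
import Groth.Agent.L21.Smooth.Scheme
import Groth.Agent.L21.RR.Coh
import Groth.Agent.L21.Disc.Push

set_option autoImplicit false
set_option backward.isDefEq.respectTransparency false
universe u
open CategoryTheory CategoryTheory.Limits AlgebraicGeometry
open VBCurve

namespace Groth.Agent.S19482

/-- Let X be a smooth proper integral curve over an algebraically closed field k. Say that a finite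
locally free O_X-module E of rank r is essentially finite if it is slope-semistable of degree 0
(degree = χ(E) − r·χ(O_X); semistable: every finite locally free submodule of positive rank has
degree ≤ 0) and there exist a finite locally free module G which is finite in the sense of Weil —
P(G) ≅ Q(G) for two distinct polynomials P ≠ Q with natural-number coefficients, where P(G) is the
direct sum over i of P_i copies of G^{⊗ i} — and sub-bundles F₂ ⊆ F₁ ⊆ G (monomorphisms F₂ → F₁ → G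
whose cokernels are finite locally free), with F₁ and F₂ slope-semistable of degree 0, such that E ≅
F₁/F₂. If E₁ of rank r₁ and E₂ of rank r₂ are essentially finite, then E₁ ⊗ E₂ is finite locally
free of rank r₁ r₂ and essentially finite. (The predicate is written out in full three times; the
curve is smooth, proper and integral of dimension one over an algebraically closed field, so
slope-semistability has its usual meaning.) -/
theorem result (k : Type u) [Field k] [IsAlgClosed k] (X : Scheme.{u}) [X.Over (Spec (CommRingCat.of k))]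
    [IsIntegral X] [IsProper (X ↘ Spec (CommRingCat.of k))] [Smooth (X ↘ Spec (CommRingCat.of k))]
    (hdim : topologicalKrullDim X = 1)
    (r₁ r₂ : ℕ) (E₁ E₂ : X.Modules) (hE₁ : FlatMod.IsFinLocFreeOfRank r₁ E₁) (hE₂ : FlatMod.IsFinLocFreeOfRank r₂ E₂)
    (h₁ : (Curv2.deg k X E₁ r₁ = 0 ∧ ModFun.IsSlopeSemistable k X E₁ r₁ ∧
      ∃ (s : ℕ) (G : X.Modules) (s₁ : ℕ) (F₁ : X.Modules) (s₂ : ℕ) (F₂ : X.Modules) (i₁ : F₁ ⟶ G) (i₂ : F₂ ⟶ F₁),
        FlatMod.IsFinLocFreeOfRank s G ∧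
        (∃ P Q : Polynomial ℕ, P ≠ Q ∧ Nonempty ((∐ fun i : Fin (P.natDegree + 1) => ∐ fun _ : Fin (P.coeff ↑i) => CohB1.tensorPow G ↑i) ≅
          (∐ fun i : Fin (Q.natDegree + 1) => ∐ fun _ : Fin (Q.coeff ↑i) => CohB1.tensorPow G ↑i))) ∧
        FlatMod.IsFinLocFreeOfRank s₁ F₁ ∧ FlatMod.IsFinLocFreeOfRank s₂ F₂ ∧ Mono i₁ ∧ Mono i₂ ∧
        FlatMod.IsFinLocFree (cokernel i₁) ∧ FlatMod.IsFinLocFree (cokernel i₂) ∧
        Curv2.deg k X F₁ s₁ = 0 ∧ ModFun.IsSlopeSemistable k X F₁ s₁ ∧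
        Curv2.deg k X F₂ s₂ = 0 ∧ ModFun.IsSlopeSemistable k X F₂ s₂ ∧
        Nonempty (E₁ ≅ cokernel i₂)))
    (h₂ : (Curv2.deg k X E₂ r₂ = 0 ∧ ModFun.IsSlopeSemistable k X E₂ r₂ ∧
      ∃ (s : ℕ) (G : X.Modules) (s₁ : ℕ) (F₁ : X.Modules) (s₂ : ℕ) (F₂ : X.Modules) (i₁ : F₁ ⟶ G) (i₂ : F₂ ⟶ F₁),
        FlatMod.IsFinLocFreeOfRank s G ∧
        (∃ P Q : Polynomial ℕ, P ≠ Q ∧ Nonempty ((∐ fun i : Fin (P.natDegree + 1) => ∐ fun _ : Fin (P.coeff ↑i) => CohB1.tensorPow G ↑i) ≅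
          (∐ fun i : Fin (Q.natDegree + 1) => ∐ fun _ : Fin (Q.coeff ↑i) => CohB1.tensorPow G ↑i))) ∧
        FlatMod.IsFinLocFreeOfRank s₁ F₁ ∧ FlatMod.IsFinLocFreeOfRank s₂ F₂ ∧ Mono i₁ ∧ Mono i₂ ∧
        FlatMod.IsFinLocFree (cokernel i₁) ∧ FlatMod.IsFinLocFree (cokernel i₂) ∧
        Curv2.deg k X F₁ s₁ = 0 ∧ ModFun.IsSlopeSemistable k X F₁ s₁ ∧
        Curv2.deg k X F₂ s₂ = 0 ∧ ModFun.IsSlopeSemistable k X F₂ s₂ ∧
        Nonempty (E₂ ≅ cokernel i₂))) :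
    FlatMod.IsFinLocFreeOfRank (r₁ * r₂) (CohB1.tensorMod E₁ E₂) ∧
    (Curv2.deg k X (CohB1.tensorMod E₁ E₂) (r₁ * r₂) = 0 ∧ ModFun.IsSlopeSemistable k X (CohB1.tensorMod E₁ E₂) (r₁ * r₂) ∧
      ∃ (s : ℕ) (G : X.Modules) (s₁ : ℕ) (F₁ : X.Modules) (s₂ : ℕ) (F₂ : X.Modules) (i₁ : F₁ ⟶ G) (i₂ : F₂ ⟶ F₁),
        FlatMod.IsFinLocFreeOfRank s G ∧
        (∃ P Q : Polynomial ℕ, P ≠ Q ∧ Nonempty ((∐ fun i : Fin (P.natDegree + 1) => ∐ fun _ : Fin (P.coeff ↑i) => CohB1.tensorPow G ↑i) ≅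
          (∐ fun i : Fin (Q.natDegree + 1) => ∐ fun _ : Fin (Q.coeff ↑i) => CohB1.tensorPow G ↑i))) ∧
        FlatMod.IsFinLocFreeOfRank s₁ F₁ ∧ FlatMod.IsFinLocFreeOfRank s₂ F₂ ∧ Mono i₁ ∧ Mono i₂ ∧
        FlatMod.IsFinLocFree (cokernel i₁) ∧ FlatMod.IsFinLocFree (cokernel i₂) ∧
        Curv2.deg k X F₁ s₁ = 0 ∧ ModFun.IsSlopeSemistable k X F₁ s₁ ∧
        Curv2.deg k X F₂ s₂ = 0 ∧ ModFun.IsSlopeSemistable k X F₂ s₂ ∧
        Nonempty ((CohB1.tensorMod E₁ E₂) ≅ cokernel i₂)) := by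
  haveI := Groth.L21.RR.isNoetherian_of_proper (X := X) k
  have hreg := Groth.L21.Smooth.regular_stalk (k := k) (X ↘ Spec (CommRingCat.of k))
  obtain ⟨hdE₁, -, s, G, a, F, b, K, i, l, hG, ⟨P, Q, hPQ, hrel⟩, hF, -, hi, hl, hci, -, hdF, -, -, -, ⟨e⟩⟩ := h₁
  obtain ⟨hdE₂, -, s', G', a', F', b', K', i', l', hG', ⟨P', Q', hPQ', hrel'⟩, hF', -, hi', hl', hci', -, hdF', -, -, -, ⟨e'⟩⟩ := h₂
  have hcl := Groth.L21.Weil.closed_of_relation k hreg hdim.le ⟨s, hG⟩ hPQ hrel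
  have hcl' := Groth.L21.Weil.closed_of_relation k hreg hdim.le ⟨s', hG'⟩ hPQ' hrel'
  rw [Groth.L21.Bundle.dg_eq k hE₁] at hdE₁
  rw [Groth.L21.Bundle.dg_eq k hE₂] at hdE₂
  rw [Groth.L21.Bundle.dg_eq k hF] at hdF
  rw [Groth.L21.Bundle.dg_eq k hF'] at hdF'
  haveI := hi
  haveI := hi'
  obtain ⟨⟨hd0, hub⟩, t, N, j, m, hN, hj, hm, hcj, hcm, ⟨hdP, huP⟩, ⟨hdN, huN⟩, hiso⟩ :=
    Groth.L21.Weil.tensor_subquot k hreg hdim hG hG' hcl hcl' hF hF' hE₁ hE₂ i i'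
      (Groth.L21.Disc.exists_rank hci) (Groth.L21.Disc.exists_rank hci')
      (cokernel.π l ≫ e.inv) (cokernel.π l' ≫ e'.inv) hdF hdF' hdE₁ hdE₂
  have hE := Groth.L21.Weil.rk_tensor hE₁ hE₂
  have hP := Groth.L21.Weil.rk_tensor hF hF'
  obtain ⟨hs1, hs2⟩ := Groth.L21.Weil.semistable_of_ub k hE hd0 hub
  obtain ⟨hs3, hs4⟩ := Groth.L21.Weil.semistable_of_ub k hP hdP huP
  obtain ⟨hs5, hs6⟩ := Groth.L21.Weil.semistable_of_ub k hN hdN huN
  exact ⟨hE, hs1, hs2, s * s', CohB1.tensorMod G G', a * a', CohB1.tensorMod F F', t, N, j, m,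
    Groth.L21.Weil.rk_tensor hG hG',
    Groth.L21.Weil.relation_of_allPow k hreg hdim.le (Groth.L21.Weil.IsBundle.tensor ⟨s, hG⟩ ⟨s', hG'⟩)
      (hcl.tensor hcl').allPow,
    hP, hN, hj, hm, hcj.elim fun r hr => Groth.L22.CurveDeg.isFinLocFree_of_rank hr,
    hcm.elim fun r hr => Groth.L22.CurveDeg.isFinLocFree_of_rank hr, hs3, hs4, hs5, hs6, hiso⟩

end Groth.Agent.S19482
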