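import Groth.Statements.S19485
import Groth.Agent.L14.Crimp.Order
import Mathlib.Algebra.Field.Basic
import Mathlib.Tactic.Ring

set_option autoImplicit false
universe u
open Crimp

namespace Groth.Agent.S19485

/-- The criterion for closedness under multiplication on which the description of the stratum rests.
Over R = k⟦t⟧ with k an algebraically closed field of characteristic zero, let S̃ = k⟦x⟧ regarded as
an R-algebra through t ↦ x ^ 3, that is S̃ = R[x] / (x ^ 3 - t). Let m, n be natural numbers with m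
not divisible by 3, and let g be a power series with nonzero constant term. Then the R-submodule of
S̃ spanned by 1 and x ^ m g together with the ideal x ^ n S̃ is closed under multiplication if and
only if n ≤ 2m. (The published proposition goes on to describe the stratum of crimps with these
invariants as irreducible of dimension ⌊(n - m)/3⌋ with a normal form for g; only the closedness
criterion is stated here.) -/
theorem result {k : Type u} [Field k] [IsAlgClosed k] [CharZero k]
    (m n : ℕ) (hm : ¬ 3 ∣ m) (x g : W4c1hurwitzcpt.RootDisk 3 k)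
    (hx : W4c1hurwitzcpt.RootDisk.val x = PowerSeries.X) (hg : PowerSeries.order (W4c1hurwitzcpt.RootDisk.val g) = 0)
    (M : Submodule (PowerSeries k) (W4c1hurwitzcpt.RootDisk 3 k))
    (hM : M = Submodule.span (PowerSeries k) {1, x ^ m * g} ⊔
      (Ideal.span {x ^ n} : Ideal (W4c1hurwitzcpt.RootDisk 3 k)).restrictScalars (PowerSeries k)) :
    (∀ a ∈ M, ∀ b ∈ M, a * b ∈ M) ↔ n ≤ 2 * m := by
  open PowerSeries in
  subst hM
  set M := Submodule.span (PowerSeries k) {1, x ^ m * g} ⊔
      (Ideal.span {x ^ n} : Ideal (W4c1hurwitzcpt.RootDisk 3 k)).restrictScalars (PowerSeries k) with hM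
  have hy : x ^ m * g ∈ M := Submodule.mem_sup_left (Submodule.subset_span (by simp))
  constructor
  · intro h
    by_contra hlt
    obtain ⟨u, hu, z, hz, he⟩ := Submodule.mem_sup.1 (h _ hy _ hy)
    obtain ⟨a, b, rfl⟩ := Submodule.mem_span_pair.1 hu
    rw [Submodule.restrictScalars_mem, Ideal.mem_span_singleton'] at hz
    obtain ⟨s, rfl⟩ := hz
    have he2 := congrArg W4c1hurwitzcpt.RootDisk.val he
    have hval : ∀ r : PowerSeries k, W4c1hurwitzcpt.RootDisk.val (algebraMap (PowerSeries k) (W4c1hurwitzcpt.RootDisk 3 k) r) = expand 3 (by norm_num) r := fun r => rfl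
    simp only [Algebra.smul_def, map_add, map_mul, map_pow, map_one, mul_one, hval, hx] at he2
    refine Groth.L14.Crimp.expand_add_ne (p := 3) (m := m) (n := n) (by norm_num) (by omega) (fun i j h => ?_) (fun j h => ?_) a b
      (W4c1hurwitzcpt.RootDisk.val g) (W4c1hurwitzcpt.RootDisk.val s) (Or.inr fun j h => ?_) hg ?_
    · omega
    · omega
    · omega
    · rw [mul_comm (PowerSeries.X ^ n)]; exact he2
  · intro hn a ha b hb
    obtain ⟨u, hu, z, hz, rfl⟩ := Submodule.mem_sup.1 ha
    obtain ⟨v, hv, w, hw, rfl⟩ := Submodule.mem_sup.1 hb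
    obtain ⟨a, b, rfl⟩ := Submodule.mem_span_pair.1 hu
    obtain ⟨c, d, rfl⟩ := Submodule.mem_span_pair.1 hv
    rw [Submodule.restrictScalars_mem] at hz hw
    have hI : (Ideal.span {x ^ n} : Ideal (W4c1hurwitzcpt.RootDisk 3 k)).restrictScalars (PowerSeries k) ≤ M := le_sup_right
    have e : (a • (1 : W4c1hurwitzcpt.RootDisk 3 k) + b • (x ^ m * g) + z) * (c • (1 : W4c1hurwitzcpt.RootDisk 3 k) + d • (x ^ m * g) + w) =
        ((a * c) • (1 : W4c1hurwitzcpt.RootDisk 3 k) + (a * d + b * c) • (x ^ m * g)) +
          ((b * d) • (x ^ m * g * (x ^ m * g)) + z * (c • (1 : W4c1hurwitzcpt.RootDisk 3 k) + d • (x ^ m * g) + w) + (a • (1 : W4c1hurwitzcpt.RootDisk 3 k) + b • (x ^ m * g)) * w) := by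
      simp only [Algebra.smul_def, map_add, map_mul]; ring
    rw [e]
    refine Submodule.add_mem_sup (Submodule.mem_span_pair.2 ⟨_, _, rfl⟩) ?_
    rw [Submodule.restrictScalars_mem]
    refine Ideal.add_mem _ (Ideal.add_mem _ ?_ (Ideal.mul_mem_right _ _ hz)) (Ideal.mul_mem_left _ _ hw)
    rw [Algebra.smul_def]
    refine Ideal.mul_mem_left _ _ (Ideal.mem_span_singleton.2 ?_)
    calc x ^ n ∣ x ^ (2 * m) := pow_dvd_pow _ hn
      _ ∣ x ^ m * g * (x ^ m * g) := ⟨g * g, by rw [two_mul, pow_add]; ring⟩

end Groth.Agent.S19485
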