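import Groth.Statements.S19486
import Groth.Agent.L14.Crimp.Order
import Mathlib.Algebra.Field.Basic
import Mathlib.Tactic.Ring

set_option autoImplicit false
universe u
open Crimp

namespace Groth.Agent.S19486

/-- The emptiness of the stratum rests on the following computation. Over R = k⟦t⟧ with k an
algebraically closed field of characteristic zero, let S̃ = S̃₁ × R where S̃₁ = k⟦x⟧ is regarded as
an R-algebra through t ↦ x ^ 2, that is S̃₁ = R[x] / (x ^ 2 - t), with R embedded diagonally in the
product. Let m be odd, n > 2m, and let g be a power series with nonzero constant term. Then the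
R-submodule of S̃ spanned by 1 = (1, 1) and (x ^ m g, 0) together with the ideal x ^ n S̃₁ × 0 is
not closed under multiplication. (The published item concludes that the corresponding stratum of
crimps is empty; only this computation is stated here, with the ideal read as x ^ n S̃₁ × 0.) -/
theorem result {k : Type u} [Field k] [IsAlgClosed k] [CharZero k]
    (m n : ℕ) (hm : Odd m) (hmn : 2 * m < n) (x g : W4c1hurwitzcpt.RootDisk 2 k)
    (hx : W4c1hurwitzcpt.RootDisk.val x = PowerSeries.X) (hg : PowerSeries.order (W4c1hurwitzcpt.RootDisk.val g) = 0)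
    (M : Submodule (PowerSeries k) (W4c1hurwitzcpt.RootDisk 2 k × PowerSeries k))
    (hM : M = Submodule.span (PowerSeries k) {(1 : W4c1hurwitzcpt.RootDisk 2 k × PowerSeries k), (x ^ m * g, 0)} ⊔
      ((Ideal.span {x ^ n} : Ideal (W4c1hurwitzcpt.RootDisk 2 k)).restrictScalars (PowerSeries k)).prod ⊥) :
    ∃ a ∈ M, ∃ b ∈ M, a * b ∉ M := by
  open PowerSeries in
  subst hM
  set M := Submodule.span (PowerSeries k) {(1 : W4c1hurwitzcpt.RootDisk 2 k × PowerSeries k), (x ^ m * g, 0)} ⊔
      ((Ideal.span {x ^ n} : Ideal (W4c1hurwitzcpt.RootDisk 2 k)).restrictScalars (PowerSeries k)).prod ⊥ with hM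
  have hy : ((x ^ m * g, 0) : W4c1hurwitzcpt.RootDisk 2 k × PowerSeries k) ∈ M :=
    Submodule.mem_sup_left (Submodule.subset_span (by simp))
  refine ⟨_, hy, _, hy, fun h => ?_⟩
  obtain ⟨u, hu, z, hz, he⟩ := Submodule.mem_sup.1 h
  obtain ⟨a, b, rfl⟩ := Submodule.mem_span_pair.1 hu
  obtain ⟨hz1, hz2⟩ := hz
  rw [SetLike.mem_coe, Submodule.restrictScalars_mem, Ideal.mem_span_singleton'] at hz1
  rw [SetLike.mem_coe, Submodule.mem_bot] at hz2
  obtain ⟨s, hs⟩ := hz1
  have he0 := congrArg Prod.snd he
  simp [hz2] at he0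
  have hval : ∀ r : PowerSeries k, W4c1hurwitzcpt.RootDisk.val (algebraMap (PowerSeries k) (W4c1hurwitzcpt.RootDisk 2 k) r) = expand 2 (by norm_num) r := fun r => rfl
  have he1 := congrArg W4c1hurwitzcpt.RootDisk.val (congrArg Prod.fst he)
  simp only [Prod.fst_add, Prod.smul_fst, Prod.fst_one, Prod.fst_mul, ← hs, Algebra.smul_def, map_add, map_mul, map_pow, map_one, mul_one, hval, hx] at he1
  obtain ⟨l, rfl⟩ := hm
  refine Groth.L14.Crimp.expand_add_ne (p := 2) (by norm_num) hmn (fun i j h => ?_) (fun j h => ?_) a b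
    (W4c1hurwitzcpt.RootDisk.val g) (W4c1hurwitzcpt.RootDisk.val s) (Or.inl he0) hg ?_
  · omega
  · omega
  · rw [mul_comm (PowerSeries.X ^ n)]; exact he1

end Groth.Agent.S19486
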