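import Groth.Statements.S19487
import Mathlib.Algebra.Order.BigOperators.Group.Finset
import Mathlib.Data.Finset.Powerset
-- import your own Groth.Agent.* helpers here

set_option autoImplicit false
open W4c1frobunstiva

namespace Groth.Agent.S19487

/-- The second formula. For p odd and natural numbers n, s, write N_p(n, s) for the number of monomials
of degree s in n variables in which every variable occurs with a positive exponent strictly less
than p, that is of exponent vectors (e_1, …, e_n) with sum s and 1 ≤ e_i ≤ p − 1, and N_p^D(n, s)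
for the number of those in which exactly D variables occur with exponent less than p/2. Then
N_p^D(n, s) = C(n, D) · Σ_j N_{(p+1)/2}(D, j) · N_{(p+1)/2}(n − D, s − j − (n − D)(p − 1)/2), the
sum running over 0 ≤ j ≤ s. (Natural-number subtraction is used in the last argument; when it
truncates and n > D the factor vanishes, as it should. The published setting has p an odd prime;
only p odd is used. The companion inclusion–exclusion expression for N_p(n, s) itself is a separate
statement.) -/
theorem result (p n s D : ℕ) (hp : Odd p) :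
    Fintype.card {e : Fin n → Fin p // (∀ i, 1 ≤ (e i : ℕ)) ∧ ∑ i, (e i : ℕ) = s ∧
        (Finset.univ.filter fun i => 2 * (e i : ℕ) < p).card = D} =
      n.choose D * ∑ j ∈ Finset.range (s + 1),
        Fintype.card {e : Fin D → Fin ((p + 1) / 2) // (∀ i, 1 ≤ (e i : ℕ)) ∧ ∑ i, (e i : ℕ) = j} *
          Fintype.card {e : Fin (n - D) → Fin ((p + 1) / 2) // (∀ i, 1 ≤ (e i : ℕ)) ∧ ∑ i, (e i : ℕ) = (s - j - (n - D) * ((p - 1) / 2))} := by
  classical
  obtain ⟨h, rfl⟩ := hp
  have hq : (2 * h + 1 + 1) / 2 = h + 1 := by omega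
  have hh : (2 * h + 1 - 1) / 2 = h := by omega
  rw [hh]
  generalize hq' : (2 * h + 1 + 1) / 2 = q
  obtain rfl : q = h + 1 := hq'.symm.trans hq
  rcases lt_or_ge n D with hnD | hnD
  · rw [Nat.choose_eq_zero_of_lt hnD, Nat.zero_mul, Fintype.card_eq_zero_iff]
    refine ⟨fun e => ?_⟩
    have := Finset.card_le_univ (Finset.univ.filter fun i => 2 * (e.1 i : ℕ) < 2 * h + 1)
    rw [e.2.2.2, Fintype.card_fin] at this
    omega
  simp only [Fintype.card_subtype]
  let P : Finset ((Fin D → Fin (h + 1)) × (Fin (n - D) → Fin (h + 1))) :=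
    Finset.univ.filter fun x => (∀ i, 1 ≤ (x.1 i : ℕ)) ∧ (∀ i, 1 ≤ (x.2 i : ℕ)) ∧
      ∑ i, (x.1 i : ℕ) + (∑ i, (x.2 i : ℕ) + (n - D) * h) = s
  have hP : P.card = ∑ j ∈ Finset.range (s + 1),
      (Finset.univ.filter fun a : Fin D → Fin (h + 1) => (∀ i, 1 ≤ (a i : ℕ)) ∧ ∑ i, (a i : ℕ) = j).card *
      (Finset.univ.filter fun b : Fin (n - D) → Fin (h + 1) =>
        (∀ i, 1 ≤ (b i : ℕ)) ∧ ∑ i, (b i : ℕ) = s - j - (n - D) * h).card := by
    rw [Finset.card_eq_sum_card_fiberwise (f := fun x => ∑ i, (x.1 i : ℕ)) (t := Finset.range (s + 1))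
      (fun x hx => by
        simp only [P, Finset.mem_coe, Finset.mem_filter] at hx
        simp only [Finset.mem_coe, Finset.mem_range]
        omega)]
    refine Finset.sum_congr rfl fun j hj => ?_
    rw [← Finset.card_product]
    refine congrArg Finset.card (Finset.ext fun x => ?_)
    simp only [P, Finset.mem_filter, Finset.mem_univ, true_and, Finset.mem_product]
    constructor
    · rintro ⟨⟨h1, h2, h3⟩, h4⟩
      exact ⟨⟨h1, h4⟩, h2, by omega⟩
    · rintro ⟨⟨h1, h4⟩, h2, h3⟩
      refine ⟨⟨h1, h2, ?_⟩, h4⟩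
      have hle : n - D ≤ ∑ i, (x.2 i : ℕ) := by
        simpa using Finset.sum_le_sum (s := Finset.univ) (f := fun _ : Fin (n - D) => 1) (g := fun i => (x.2 i : ℕ))
          fun i _ => h2 i
      rw [Finset.mem_range] at hj
      rcases Nat.eq_zero_or_pos (n - D) with h0 | h0
      · have hz : ∑ i, (x.2 i : ℕ) = 0 := Finset.sum_eq_zero fun i _ => absurd i.isLt (by omega)
        have hz' : (n - D) * h = 0 := by rw [h0, Nat.zero_mul]
        omega
      · omega
  rw [← hP]
  have hfib : ∀ T ∈ Finset.powersetCard D (Finset.univ : Finset (Fin n)),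
      ((Finset.univ.filter fun e : Fin n → Fin (2 * h + 1) => (∀ i, 1 ≤ (e i : ℕ)) ∧ ∑ i, (e i : ℕ) = s ∧
        (Finset.univ.filter fun i => 2 * (e i : ℕ) < 2 * h + 1).card = D).filter
          fun e => (Finset.univ.filter fun i => 2 * (e i : ℕ) < 2 * h + 1) = T).card = P.card := by
    intro T hT
    rw [Finset.mem_powersetCard] at hT
    have hc1 : Fintype.card {i // i ∈ T} = D := by simpa using hT.2
    have hc2 : Fintype.card {i // ¬ i ∈ T} = n - D := by
      rw [Fintype.card_subtype_compl, hc1, Fintype.card_fin]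
    let ε : Fin D ⊕ Fin (n - D) ≃ Fin n :=
      (Equiv.sumCongr (Fintype.equivFinOfCardEq hc1).symm (Fintype.equivFinOfCardEq hc2).symm).trans
        (Equiv.sumCompl _)
    have he1 : ∀ i, ε (Sum.inl i) ∈ T := fun i => ((Fintype.equivFinOfCardEq hc1).symm i).2
    have he2 : ∀ i, ε (Sum.inr i) ∉ T := fun i => ((Fintype.equivFinOfCardEq hc2).symm i).2
    let inv : (Fin D → Fin (h + 1)) × (Fin (n - D) → Fin (h + 1)) → Fin n → Fin (2 * h + 1) := fun x k =>
      Sum.elim (fun i => (⟨(x.1 i : ℕ), by omega⟩ : Fin (2 * h + 1)))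
        (fun i => (⟨(x.2 i : ℕ) + h, by omega⟩ : Fin (2 * h + 1))) (ε.symm k)
    have hsum : ∀ f : Fin n → ℕ, ∑ k, f k = ∑ i, f (ε (Sum.inl i)) + ∑ i, f (ε (Sum.inr i)) := fun f => by
      rw [← ε.sum_comp f, Fintype.sum_sum_type]
    refine Finset.card_bij' (fun e he => ((fun i => (⟨(e (ε (Sum.inl i)) : ℕ), ?_⟩ : Fin (h + 1))),
      (fun i => (⟨(e (ε (Sum.inr i)) : ℕ) - h, ?_⟩ : Fin (h + 1))))) (fun x _ => inv x) ?_ ?_ ?_ ?_
    · have := (Finset.mem_filter.1 he).2
      have h1 := he1 i
      simp only [← this, Finset.mem_filter] at h1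
      omega
    · have := (e (ε (Sum.inr i))).isLt
      omega
    · intro e he
      simp only [Finset.mem_filter, Finset.mem_univ, true_and] at he
      obtain ⟨⟨h1, h2, -⟩, h3⟩ := he
      simp only [P, Finset.mem_filter, Finset.mem_univ, true_and]
      have hb : ∀ i, h + 1 ≤ (e (ε (Sum.inr i)) : ℕ) := fun i => by
        have h4 := he2 i
        simp only [← h3, Finset.mem_filter, Finset.mem_univ, true_and] at h4
        omega
      refine ⟨fun i => h1 _, fun i => by have := hb i; omega, ?_⟩
      have h5 : ∑ i, ((e (ε (Sum.inr i)) : ℕ) - h) + (n - D) * h = ∑ i, (e (ε (Sum.inr i)) : ℕ) := by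
        rw [show (n - D) * h = ∑ _i : Fin (n - D), h by simp, ← Finset.sum_add_distrib]
        exact Finset.sum_congr rfl fun i _ => by have := hb i; omega
      rw [h5, ← h2, hsum]
    · intro x hx
      simp only [P, Finset.mem_filter, Finset.mem_univ, true_and] at hx
      obtain ⟨h1, h2, h3⟩ := hx
      have hT' : (Finset.univ.filter fun i => 2 * (inv x i : ℕ) < 2 * h + 1) = T := by
        ext k
        obtain ⟨k, rfl⟩ := ε.surjective k
        rcases k with i | i
        · simp only [Finset.mem_filter, Finset.mem_univ, true_and, he1 i, iff_true, inv, Equiv.symm_apply_apply,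
            Sum.elim_inl]
          omega
        · simp only [Finset.mem_filter, Finset.mem_univ, true_and, he2 i, iff_false, inv, Equiv.symm_apply_apply,
            Sum.elim_inr]
          have := h2 i
          omega
      simp only [Finset.mem_filter, Finset.mem_univ, true_and]
      refine ⟨⟨fun k => ?_, ?_, ?_⟩, hT'⟩
      · obtain ⟨k, rfl⟩ := ε.surjective k
        rcases k with i | i
        · simpa [inv] using h1 i
        · have := h2 i
          simp only [inv, Equiv.symm_apply_apply, Sum.elim_inr]
          omega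
      · rw [hsum]
        simp only [inv, Equiv.symm_apply_apply, Sum.elim_inl, Sum.elim_inr, Finset.sum_add_distrib, Finset.sum_const,
          Finset.card_univ, Fintype.card_fin, smul_eq_mul]
        exact h3
      · rw [hT', hT.2]
    · intro e he
      simp only [Finset.mem_filter, Finset.mem_univ, true_and] at he
      funext k
      obtain ⟨k, rfl⟩ := ε.surjective k
      rcases k with i | i
      · exact Fin.ext (by simp [inv])
      · have h4 := he2 i
        simp only [← he.2, Finset.mem_filter, Finset.mem_univ, true_and] at h4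
        exact Fin.ext (by simp only [inv, Equiv.symm_apply_apply, Sum.elim_inr]; omega)
    · intro x hx
      refine Prod.ext (funext fun i => Fin.ext ?_) (funext fun i => Fin.ext ?_) <;> simp [inv]
  rw [Finset.card_eq_sum_card_fiberwise (t := Finset.powersetCard D (Finset.univ : Finset (Fin n)))
    (f := fun e : Fin n → Fin (2 * h + 1) => Finset.univ.filter fun i => 2 * (e i : ℕ) < 2 * h + 1)
    (fun e he => Finset.mem_powersetCard.2 ⟨Finset.subset_univ _, (Finset.mem_filter.1 he).2.2.2⟩),
    Finset.sum_congr rfl hfib, Finset.sum_const, Finset.card_powersetCard, Finset.card_univ, Fintype.card_fin,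
    smul_eq_mul]

end Groth.Agent.S19487
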