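import Groth.Statements.S19488
import Groth.Agent.L17.ClosedPush

set_option autoImplicit false
universe u
open CategoryTheory CategoryTheory.Limits AlgebraicGeometry
open W4c1frobunstiva

set_option backward.isDefEq.respectTransparency false
set_option backward.isDefEq.respectTransparency.types false

namespace Groth.Agent.S19488

/-- Fix a closed immersion of schemes f : S → T, an O_T-module G, an O_S-module E and an epimorphism ψ :
G → f_*E. Then the morphism ψ′ : f^*G → E that corresponds to ψ under the adjunction between
pullback and pushforward (it is the pullback f^*ψ followed by the counit f^*f_*E → E, an isomorphism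
for a closed immersion) is an epimorphism, and the canonical map f^*(ker ψ) → ker(f^*ψ) is an
epimorphism. (The published statement takes G and E locally free, which these two assertions do not
use.) -/
theorem result
    {S T : Scheme.{u}} (f : S ⟶ T) [IsClosedImmersion f] (G : T.Modules) (E : S.Modules)
    (ψ : G ⟶ (Scheme.Modules.pushforward f).obj E) [Epi ψ] :
    Epi (((Scheme.Modules.pullbackPushforwardAdjunction f).homEquiv G E).symm ψ) ∧
      Epi (kernelComparison ψ (Scheme.Modules.pullback f)) := by
  haveI := Groth.L17.ClosedPush.isIso_counit f
  refine ⟨?_, ?_⟩
  · rw [Adjunction.homEquiv_counit]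
    haveI : Epi ((Scheme.Modules.pullback f).map ψ) :=
      @Functor.map_epi _ _ _ _ (Scheme.Modules.pullback f)
        (Functor.preservesEpimorphisms_of_adjunction (Scheme.Modules.pullbackPushforwardAdjunction f)) _ _ ψ _
    exact epi_comp _ _
  · haveI := (Scheme.Modules.pullbackPushforwardAdjunction f).leftAdjoint_preservesColimits
    let S := ShortComplex.mk (kernel.ι ψ) ψ (kernel.condition ψ)
    have hS : S.Exact := ShortComplex.exact_kernel ψ
    haveI : Epi S.g := inferInstanceAs (Epi ψ)
    haveI : (Scheme.Modules.pullback f).PreservesZeroMorphisms := inferInstance
    exact (hS.map_of_epi_of_preservesCokernel (Scheme.Modules.pullback f) inferInstance inferInstance).epi_kernelLift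

end Groth.Agent.S19488
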