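import Groth.Statements.S19489
import Mathlib.Algebra.MvPolynomial.PDeriv
import Mathlib.RingTheory.Localization.Integer
import Mathlib.RingTheory.TensorProduct.Basic
import Mathlib.Algebra.CharP.Algebra
import Mathlib.Algebra.CharP.Lemmas

set_option autoImplicit false
open scoped TensorProduct
open ZeroCyc

namespace Groth.Agent.S19489

/-- Let p be a prime, k = F_p(t_0, t_1, …) the field of rational functions over F_p in countably many
variables, and K = k^{1/p} = F_p(t_0^{1/p}, t_1^{1/p}, …), modelled here as a copy of k made into a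
k-algebra through the Frobenius b ↦ b ^ p (under a ↦ a ^ p the extension k ⊆ k^{1/p} becomes this
algebra). Then a ↦ a ^ p is a multiplicative polynomial law from K to k over k, homogeneous of
degree p: there is such a law sending s ⊗ a to s ^ p ⊗ a ^ p on every test algebra S, where a ^ p is
read in k. Every such law has zero kernel, so the support of the corresponding family of zero-cycles
of degree p on Spec K over Spec k is all of Spec K; and K is not finite over k. Thus the support of
a family of zero-cycles need not be finite over the base. -/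
theorem result (p : ℕ) [Fact p.Prime] :
    (∃ F : PolLaw.MulLaw (FractionRing (MvPolynomial ℕ (ZMod p))) (FrobAlg.Twist p (FractionRing (MvPolynomial ℕ (ZMod p)))) (FractionRing (MvPolynomial ℕ (ZMod p))) p,
      ∀ (S : Type) [CommSemiring S] [Algebra (FractionRing (MvPolynomial ℕ (ZMod p))) S] (s : S) (a : FrobAlg.Twist p (FractionRing (MvPolynomial ℕ (ZMod p)))),
        F.law.toFun' S (s ⊗ₜ[FractionRing (MvPolynomial ℕ (ZMod p))] a) =
          (s ^ p) ⊗ₜ[FractionRing (MvPolynomial ℕ (ZMod p))] (FrobAlg.toTwist p (FractionRing (MvPolynomial ℕ (ZMod p)))).symm a) ∧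
    (∀ F : PolLaw.MulLaw (FractionRing (MvPolynomial ℕ (ZMod p))) (FrobAlg.Twist p (FractionRing (MvPolynomial ℕ (ZMod p)))) (FractionRing (MvPolynomial ℕ (ZMod p))) p,
      (∀ (S : Type) [CommSemiring S] [Algebra (FractionRing (MvPolynomial ℕ (ZMod p))) S] (s : S) (a : FrobAlg.Twist p (FractionRing (MvPolynomial ℕ (ZMod p)))),
        F.law.toFun' S (s ⊗ₜ[FractionRing (MvPolynomial ℕ (ZMod p))] a) =
          (s ^ p) ⊗ₜ[FractionRing (MvPolynomial ℕ (ZMod p))] (FrobAlg.toTwist p (FractionRing (MvPolynomial ℕ (ZMod p)))).symm a) →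
      PolLaw.ker F.law = ⊥) ∧
    ¬ Module.Finite (FractionRing (MvPolynomial ℕ (ZMod p))) (FrobAlg.Twist p (FractionRing (MvPolynomial ℕ (ZMod p)))) := by
  classical
  let k₀ := FractionRing (MvPolynomial ℕ (ZMod p))
  let K₀ := FrobAlg.Twist p k₀
  let σ : K₀ ≃+* k₀ := (FrobAlg.toTwist p k₀).symm
  have hσ : ∀ (c : k₀) (a : K₀), σ (c • a) = c ^ p * σ a := fun c a => by
    rw [Algebra.smul_def, map_mul]; rfl
  have hadd : ∀ (S : Type) [CommSemiring S] [Algebra k₀ S] (x y : S), (x + y) ^ p = x ^ p + y ^ p := by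
    intro S _ _ x y
    obtain ⟨r, hr⟩ := exists_add_pow_prime_eq (Fact.out : p.Prime) x y
    rw [hr, ← map_natCast (algebraMap k₀ S) p, CharP.cast_eq_zero, map_zero]
    simp
  have hp0 : p ≠ 0 := (Fact.out : p.Prime).ne_zero
  let G : ∀ (S : Type) [CommSemiring S] [Algebra k₀ S], S ⊗[k₀] K₀ →+ S ⊗[k₀] k₀ := fun S _ _ =>
    TensorProduct.liftAddHom
      { toFun := fun s : S =>
          { toFun := fun a : K₀ => (s ^ p) ⊗ₜ[k₀] σ a
            map_zero' := by simp only [map_zero, TensorProduct.tmul_zero]
            map_add' := fun a b => by simp only [map_add, TensorProduct.tmul_add] }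
        map_zero' := AddMonoidHom.ext fun a => by
          simp only [AddMonoidHom.coe_mk, ZeroHom.coe_mk, AddMonoidHom.zero_apply, zero_pow hp0, TensorProduct.zero_tmul]
        map_add' := fun s t => AddMonoidHom.ext fun a => by
          simp only [AddMonoidHom.coe_mk, ZeroHom.coe_mk, AddMonoidHom.add_apply, hadd, TensorProduct.add_tmul] }
      fun c s a => by
        simp only [AddMonoidHom.coe_mk, ZeroHom.coe_mk]
        rw [hσ, smul_pow, ← smul_eq_mul (c ^ p), TensorProduct.smul_tmul]
  have hG : ∀ (S : Type) [CommSemiring S] [Algebra k₀ S] (s : S) (a : K₀), G S (s ⊗ₜ a) = (s ^ p) ⊗ₜ[k₀] σ a :=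
    fun S _ _ s a => rfl
  refine ⟨⟨⟨{ toFun' := fun S _ _ => ⇑(G S), isCompat' := ?_ }, ?_, ?_⟩, fun S _ _ s a => hG S s a⟩, ?_, ?_⟩
  · intro S _ _ S' _ _ φ
    funext z
    simp only [Function.comp_apply]
    induction z using TensorProduct.induction_on with
    | zero => simp
    | add x y hx hy => simp only [map_add, hx, hy]
    | tmul s a => rw [LinearMap.rTensor_tmul, hG, hG, LinearMap.rTensor_tmul, AlgHom.toLinearMap_apply,
        AlgHom.toLinearMap_apply, map_pow]
  · intro S _ _ s z
    change G S (s • z) = s ^ p • G S z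
    induction z using TensorProduct.induction_on with
    | zero => simp
    | add x y hx hy => simp only [smul_add, map_add, hx, hy]
    | tmul t a => rw [TensorProduct.smul_tmul', smul_eq_mul, hG, hG, TensorProduct.smul_tmul', smul_eq_mul, mul_pow]
  · intro S _ _
    refine ⟨?_, fun x y => ?_⟩
    · change G S 1 = 1
      rw [Algebra.TensorProduct.one_def, hG, one_pow, map_one, Algebra.TensorProduct.one_def]
    · change G S (x * y) = G S x * G S y
      induction x using TensorProduct.induction_on with
      | zero => simp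
      | add a b ha hb => simp only [add_mul, map_add, ha, hb]
      | tmul s a =>
        induction y using TensorProduct.induction_on with
        | zero => simp
        | add c d hc hd => simp only [mul_add, map_add, hc, hd]
        | tmul t b => rw [Algebra.TensorProduct.tmul_mul_tmul, hG, hG, hG, Algebra.TensorProduct.tmul_mul_tmul,
            mul_pow, map_mul]
  · intro F hF
    refine (Submodule.eq_bot_iff _).2 fun b hb => ?_
    have h1 := hb k₀ 0 1
    simp only [zero_add, one_mul] at h1
    have h2 := hF k₀ 1 b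
    have h3 : F.law.toFun' k₀ 0 = 0 := by
      have := hF k₀ 0 0
      simpa [zero_pow hp0] using this
    rw [h2, h3, one_pow] at h1
    have h4 := congrArg (Algebra.TensorProduct.lid k₀ k₀) h1
    have h5 : Algebra.TensorProduct.lid k₀ k₀ ((1 : k₀) ⊗ₜ[k₀] σ b) = σ b := by
      rw [Algebra.TensorProduct.lid_tmul, one_smul]
    exact (map_eq_zero_iff _ σ.injective).1 ((h5.symm.trans h4).trans (map_zero _))
  · intro hfin
    obtain ⟨s, hs⟩ := hfin.fg_top
    let M := nonZeroDivisors (MvPolynomial ℕ (ZMod p))
    obtain ⟨⟨Q, hQ⟩, hQs⟩ := IsLocalization.exist_integer_multiples_of_finset M (s.image σ)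
    choose P hP using fun a : s => hQs (σ a.1) (Finset.mem_image_of_mem σ a.2)
    obtain ⟨N, hN⟩ := (Q.vars ∪ Finset.univ.biUnion fun a : s => (P a).vars).exists_notMem
    simp only [Finset.mem_union, Finset.mem_biUnion, Finset.mem_univ, true_and, not_or, not_exists] at hN
    obtain ⟨c, -, hc⟩ := Submodule.mem_span_finset.1
      (hs ▸ Submodule.mem_top : (σ.symm (algebraMap (MvPolynomial ℕ (ZMod p)) k₀ (MvPolynomial.X N)) : K₀) ∈ Submodule.span k₀ (s : Set K₀))
    obtain ⟨⟨D, hD⟩, hDs⟩ := IsLocalization.exist_integer_multiples_of_finset M (s.image c)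
    choose U hU using fun a : s => hDs (c a.1) (Finset.mem_image_of_mem c a.2)
    have h1 := congrArg σ hc
    rw [map_sum, RingEquiv.apply_symm_apply, ← Finset.sum_coe_sort] at h1
    simp only [hσ] at h1
    have h2 : algebraMap _ k₀ (MvPolynomial.X N * D ^ p * Q) = algebraMap _ k₀ (∑ a : s, U a ^ p * P a) := by
      rw [map_mul, map_mul, map_sum, ← h1, Finset.sum_mul, Finset.sum_mul]
      refine Finset.sum_congr rfl fun a _ => ?_
      rw [map_mul, map_pow, map_pow, hP, hU, Algebra.smul_def, Algebra.smul_def]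
      ring
    have h3 := congrArg (MvPolynomial.pderiv N) (IsFractionRing.injective (MvPolynomial ℕ (ZMod p)) k₀ h2)
    rw [MvPolynomial.pderiv_mul, MvPolynomial.pderiv_eq_zero_of_notMem_vars hN.1, mul_zero, add_zero,
      MvPolynomial.pderiv_mul, MvPolynomial.pderiv_X_self, one_mul, MvPolynomial.pderiv_pow, CharP.cast_eq_zero,
      zero_mul, zero_mul, mul_zero, add_zero, map_sum, Finset.sum_eq_zero fun a _ => ?_] at h3
    · exact mul_ne_zero (pow_ne_zero _ (nonZeroDivisors.ne_zero hD)) (nonZeroDivisors.ne_zero hQ) h3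
    · rw [MvPolynomial.pderiv_mul, MvPolynomial.pderiv_eq_zero_of_notMem_vars (hN.2 a), MvPolynomial.pderiv_pow,
        CharP.cast_eq_zero, zero_mul, zero_mul, zero_mul, mul_zero, add_zero]

end Groth.Agent.S19489
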