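import Groth.Statements.S19490
import Groth.Agent.L13.HypGenus.Series
import Groth.Agent.L13.HypGenus.Chi
-- import your own Groth.Agent.* helpers here

set_option autoImplicit false
set_option backward.isDefEq.respectTransparency false
set_option linter.style.haveILetI false
set_option backward.isDefEq.respectTransparency.types false
universe u
open CategoryTheory CategoryTheory.Limits AlgebraicGeometry
open LefPen

namespace Groth.Agent.S19490

/-- Let k be an algebraically closed field of characteristic zero and a ≥ 1. For every n ≥ 0 let Z_{n+1}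
⊂ P^{n+1}_k be the zero scheme of a form of degree a, smooth over k of relative dimension n (a
smooth hypersurface of degree a), and let χ_y(Z_{n+1}) = Σ_p χ(Z_{n+1}, Ω^p) y^p = Σ_{p, q ≤ n}
(−1)^q dim_k H^q(Z_{n+1}, Ω^p) y^p ∈ ℤ[y] be its Hirzebruch genus, where Ω^p is any p-th exterior
power of the sheaf of differentials of Z_{n+1} over k and cohomology carries the k-structure coming
from the structure morphism. Then, with y ∈ ℤ[y] viewed as a constant power series in z, the
generating series Σ_{n ≥ 1} χ_y(Z_n) z^n ∈ ℤ[y]⟦z⟧ equals ((1 + yz)^a − (1 − z)^a) / ((1 − z)(1 +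
yz)((1 + yz)^a + y(1 − z)^a)); it is stated here cleared of denominators, the denominator having
constant term 1 + y. (The published series starts at n = 0, where both sides vanish; the published
setting is over the complex numbers.) -/
theorem result (k : Type u) [Field k] [IsAlgClosed k] [CharZero k]
    (a : ℕ) (ha : 1 ≤ a) (G : ∀ n : ℕ, LefPen.Form (n + 1) k a)
    [∀ n : ℕ, SmoothOfRelativeDimension n ((LefPen.hypIdeal (G n)).subschemeι ≫ CohB1.ProjSpace.toSpec (n + 1) k)]
    [hO : ∀ n : ℕ, (LefPen.hypIdeal (G n)).subscheme.Over (Spec (CommRingCat.of k))]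
    (hover : ∀ n : ℕ, (LefPen.hypIdeal (G n)).subscheme ↘ Spec (CommRingCat.of k) = ((LefPen.hypIdeal (G n)).subschemeι ≫ CohB1.ProjSpace.toSpec (n + 1) k))
    (L : ∀ n : ℕ, ℕ → (LefPen.hypIdeal (G n)).subscheme.Modules)
    (hL : ∀ n p : ℕ, ExtPow.IsExtPow p (Omega.sheaf ((LefPen.hypIdeal (G n)).subschemeι ≫ CohB1.ProjSpace.toSpec (n + 1) k)) (L n p))
    (χ : ℕ → Polynomial ℤ)
    (hχ : ∀ n : ℕ, χ n = ∑ p ∈ Finset.range (n + 1),
      Polynomial.C (∑ q ∈ Finset.range (n + 1), (-1 : ℤ) ^ q * (Module.finrank k (Coh.HH (LefPen.hypIdeal (G n)).subscheme (L n p) q) : ℤ)) *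
        Polynomial.X ^ p)
    (y : PowerSeries (Polynomial ℤ)) (hy : y = PowerSeries.C (Polynomial.X : Polynomial ℤ)) :
    (1 - PowerSeries.X) * (1 + y * PowerSeries.X) *
        ((1 + y * PowerSeries.X) ^ a + y * (1 - PowerSeries.X) ^ a) *
        (PowerSeries.X * PowerSeries.mk χ) =
      (1 + y * PowerSeries.X) ^ a - (1 - PowerSeries.X) ^ a := by
  subst hy
  haveI := fun N => Groth.L22.PDual.proper N k
  haveI : ∀ n, Coh.IsQCoh (Omega.sheaf
      ((LefPen.hypIdeal (G n)).subschemeι ≫ CohB1.ProjSpace.toSpec (n + 1) k)) := fun n =>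
    Groth.L15.PnHodge.isQCoh_of_locFree (Groth.L15.PnHodge.locFree_of_rank
      (Groth.L02.Canon.isFinLocFreeOfRank_omega
        (f := (LefPen.hypIdeal (G n)).subschemeι ≫ CohB1.ProjSpace.toSpec (n + 1) k) n))
  let F : ∀ n, ℕ → (LefPen.hypIdeal (G n)).subscheme.Modules := L
  let g : ℕ → ℕ → ℤ → ℤ
    | 0 => fun _ _ => 0
    | n + 1 => fun p m => Curv2.euler k (LefPen.hypIdeal (G n)).subscheme
        (CohB1.tensorMod (F n p) (Groth.L13.HdgCI.TY (LefPen.hypIdeal (G n)).subschemeι m))
  let A : ℕ → ℕ → ℤ → ℤ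
    | 0 => fun _ _ => 0
    | n + 1 => fun p m => Curv2.euler k (LefPen.hypIdeal (G n)).subscheme
        (Groth.L13.HdgCI.AY (LefPen.hypIdeal (G n)).subschemeι p m)
  have tY := fun n m => Groth.L13.HypGenus.euler_TY (hover n) m
  have hS := Groth.L13.HypGenus.series_eq a g A
    (fun N p m hN hp => by
      obtain ⟨n, rfl⟩ : ∃ n, N = n + 1 := ⟨N - 1, by omega⟩
      exact Groth.L13.HypGenus.euler_F_eq_zero (hover n) (hL n) p m (by omega))
    (fun N p m hN hp => by
      obtain ⟨n, rfl⟩ : ∃ n, N = n + 1 := ⟨N - 1, by omega⟩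
      exact Groth.L13.HypGenus.euler_AY_eq_zero (hover n) p m hp)
    (fun N p m hN => by
      obtain ⟨n, rfl⟩ : ∃ n, N = n + 1 := ⟨N - 1, by omega⟩
      exact Groth.L13.HypGenus.euler_AY_succ (hover n) (hL n) p m)
    (fun N m hN => by
      obtain ⟨n, rfl⟩ : ∃ n, N = n + 1 := ⟨N - 1, by omega⟩
      exact Groth.L13.HypGenus.euler_F_zero (hover n) (hL n) m)
    (fun N m hN => by
      obtain ⟨n, rfl⟩ : ∃ n, N = n + 1 := ⟨N - 1, by omega⟩
      obtain ⟨e⟩ := Groth.L13.HdgCI.nonempty_AY_zero (LefPen.hypIdeal (G n)).subschemeι m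
      exact (Groth.L03.Euler.euler_iso (k := k) e).trans (tY n m))
    (fun N p m hN => by
      obtain ⟨n, rfl⟩ : ∃ n, N = n + 1 := ⟨N - 1, by omega⟩
      refine (Groth.L13.HypGenus.euler_AY_add (hover n) p m).trans ?_
      rw [tY, show m - ((p + 1 : ℕ) : ℤ) - (a : ℤ) = m - a - ((p + 1 : ℕ) : ℤ) by ring])
  have key : ∀ n p, g (n + 1) p 0 = ∑ q ∈ Finset.range (n + 1),
      (-1 : ℤ) ^ q * (Module.finrank k (Coh.HH (LefPen.hypIdeal (G n)).subscheme (L n p) q) : ℤ) := by
    intro n p
    haveI := Groth.L13.HypGenus.isProper_hyp (hover n)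
    haveI := Groth.L21.RR.isNoetherian_of_proper (X := (LefPen.hypIdeal (G n)).subscheme) k
    obtain ⟨z⟩ := Groth.L13.HdgCI.nonempty_TY_zero (LefPen.hypIdeal (G n)).subschemeι
    refine (Groth.L03.Euler.euler_iso (k := k)
      (Groth.L00.Tensor.tensorIso (Iso.refl _) z ≪≫ Groth.L00.Tensor.tensorUnitRight _)).trans
      (Groth.L03.Euler.euler_eq_sum (k := k) fun q hq => Groth.L22.Inter.subsingleton_HH_of_dim (d := n) ?_ _ (by omega))
    exact Groth.L22.Adjunction.topologicalKrullDim_le_relDim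
      ((LefPen.hypIdeal (G n)).subschemeι ≫ CohB1.ProjSpace.toSpec (n + 1) k) n
  have hW : Groth.L13.HypGenus.W g 0 = PowerSeries.X * PowerSeries.mk χ := by
    refine PowerSeries.ext fun N => ?_
    cases N with
    | zero =>
      rw [PowerSeries.coeff_zero_X_mul]
      simp [Groth.L13.HypGenus.W]
    | succ n =>
      rw [PowerSeries.coeff_succ_X_mul]
      simp only [Groth.L13.HypGenus.W, PowerSeries.coeff_mk, if_neg (Nat.succ_ne_zero n), hχ,
        Groth.L13.HypGenus.poly]
      rw [Finset.sum_range_succ]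
      have htop : g (n + 1) (n + 1) 0 = 0 :=
        Groth.L13.HypGenus.euler_F_eq_zero (hover n) (hL n) (n + 1) 0 (Nat.lt_succ_self n)
      rw [htop, map_zero, zero_mul, add_zero]
      exact Finset.sum_congr rfl fun p _ => by rw [key]
  rw [← hW]
  exact hS

end Groth.Agent.S19490
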