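import Groth.Statements.S19492
import Groth.Agent.L13.YBlow.Completion
import Groth.Agent.L19.NormalSections
import Groth.Agent.L00.NagataNorm
import Groth.Agent.L01.NagataFiniteType
import Groth.Agent.L18.NormalizationField
import Groth.Agent.L16.ProjSpace.BaseChange
import Groth.Agent.S12416
import Groth.Agent.S4420
import Mathlib.AlgebraicGeometry.ZariskisMainTheorem

set_option autoImplicit false
universe u
open CategoryTheory AlgebraicGeometry
open Variety

namespace Groth.Agent.S19492

/-- A proper scheme with an ample module over a field embeds in projective space. -/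
theorem exists_projSpace {k : Type u} [Field k] {Y : Scheme.{u}} (g : Y ⟶ Spec (CommRingCat.of k)) [IsProper g]
    {L : Y.Modules} (hL : CohB1.IsAmple L) :
    ∃ (n : ℕ) (c : Y ⟶ CohB1.ProjSpace n k), IsClosedImmersion c ∧ c ≫ CohB1.ProjSpace.toSpec n k = g := by
  have h1 : RelProj.IsProjective g :=
    Groth.Agent.S12416.result g ⟨inferInstance, inferInstance, L, Groth.L18.Ample.isRelAmple_of_isAmple hL⟩
  obtain ⟨n, i, hi, hig⟩ := (Groth.Agent.S4420.result ⟨_, Groth.L18.Ample.isAmple_structureModule⟩ g).1 h1
  refine ⟨n, i ≫ (Groth.L16.ProjSpace.isoOver n k).inv, inferInstance, ?_⟩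
  rw [Category.assoc, ← Groth.L16.ProjSpace.isoOver_hom_toBase, Iso.inv_hom_id_assoc, hig]

/-- Over an algebraically closed field k, let X be an irreducible affine variety (an integral affine
k-scheme of finite type). Then X is an open subvariety of an irreducible projective variety: there
are an integral k-scheme Y admitting a closed immersion over k into a projective space Pⁿ_k and an
open immersion j : X → Y over k. If X is normal (every local ring an integrally closed domain), then
Y can be chosen normal as well. -/
theorem result (k : Type u) [Field k]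
    [IsAlgClosed k] (X : Scheme.{u}) (f : X ⟶ Spec (CommRingCat.of k)) [IsAffine X]
    [AlgebraicGeometry.IsIntegral X] [LocallyOfFiniteType f] :
    ∃ (Y : Scheme.{u}) (g : Y ⟶ Spec (CommRingCat.of k)) (n : ℕ) (c : Y ⟶ CohB1.ProjSpace n k)
      (j : X ⟶ Y), AlgebraicGeometry.IsIntegral Y ∧ IsClosedImmersion c ∧
      c ≫ CohB1.ProjSpace.toSpec n k = g ∧ IsOpenImmersion j ∧ j ≫ g = f ∧
      (Pi1.IsNormalScheme X → Pi1.IsNormalScheme Y) := by
  obtain ⟨P, q, M, ε, v, hv, hq, -, hM, hdom, -, hvq⟩ := Groth.L13.YBlow.exists_completion f
  haveI := hv; haveI := hq; haveI := hdom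
  have hA : CohB1.IsAmple M := Groth.L18.Ample.isAmple_of_isRelAmple hM
  haveI : QuasiCompact (v ≫ q) := by rw [hvq]; infer_instance
  haveI : QuasiCompact v := QuasiCompact.of_comp v q
  haveI : AlgebraicGeometry.IsReduced P := IsSchemeTheoreticallyDominant.isReduced v
  haveI : IrreducibleSpace P := by
    haveI : IsDominant v := inferInstance
    refine (irreducibleSpace_def _).2 ?_
    rw [Set.top_eq_univ, ← v.denseRange.closure_range, ← Set.image_univ]
    exact ((IrreducibleSpace.isIrreducible_univ X).image _ v.continuous.continuousOn).closure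
  haveI : AlgebraicGeometry.IsIntegral P := isIntegral_of_irreducibleSpace_of_isReduced P
  by_cases hN : Pi1.IsNormalScheme X
  · haveI : IsFinite v.fromNormalization := by
      refine Groth.L00.NagataNorm.isFinite_fromNormalization_of_finiteType v fun U => ?_
      have hft := q.finiteType_appLE (isAffineOpen_top _) U.2 (le_top : U.1 ≤ q ⁻¹ᵁ ⊤)
      letI := (q.appLE ⊤ U.1 le_top).hom.toAlgebra
      haveI : Algebra.FiniteType Γ(Spec (CommRingCat.of k), ⊤) Γ(P, U.1) := hft
      exact Groth.L01.Nagata.isNagata_of_finiteType (R := Γ(Spec (CommRingCat.of k), ⊤))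
        (Groth.L01.Nagata.isNagata_of_surjective (Scheme.ΓSpecIso (CommRingCat.of k)).inv.hom
          (ConcreteCategory.bijective_of_isIso _).2 (Groth.L18.NormField.isNagata_field k))
    let g := v.fromNormalization ≫ q
    haveI : IsProper g := inferInstanceAs (IsProper (v.fromNormalization ≫ q))
    obtain ⟨n, c, hc, hcg⟩ := exists_projSpace g
      (Groth.L18.Ample.isAmple_pullback_of_isAffineHom v.fromNormalization hA)
    haveI : AlgebraicGeometry.IsIntegral v.normalization := inferInstance
    refine ⟨v.normalization, g, n, c, v.toNormalization, inferInstance, hc, hcg, inferInstance, ?_,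
      fun _ => Groth.L19.NormalSec.isNormalScheme_normalization v fun x => (hN x).2⟩
    rw [← hvq, ← Category.assoc, v.toNormalization_fromNormalization]
  · obtain ⟨n, c, hc, hcg⟩ := exists_projSpace q hA
    exact ⟨P, q, n, c, v, inferInstance, hc, hcg, hv, hvq, fun h => absurd h hN⟩

end Groth.Agent.S19492
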