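import Groth.Statements.S19493
import Groth.Agent.L19.Ass.Structure
import Groth.Agent.L07.AssFibreProd
import Groth.Agent.L21.CurvFib.EtaleField
import Mathlib.AlgebraicGeometry.Morphisms.SchemeTheoreticallyDominant
import Mathlib.AlgebraicGeometry.Morphisms.UniversallyOpen

set_option autoImplicit false
universe u
open CategoryTheory AlgebraicGeometry
open EtHull

namespace Groth.Agent.S19493

example : True := trivial

namespace STDAux

open CategoryTheory CategoryTheory.Limits AlgebraicGeometry TopologicalSpace IsLocalRing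

theorem flat_of_comp_etale {U V S : Scheme.{u}} (p : U ⟶ V) (g : V ⟶ S) [Etale g] [Flat (p ≫ g)] : Flat p := by
  let l : U ⟶ pullback (p ≫ g) g := pullback.lift (𝟙 U) p (Category.id_comp _)
  haveI : Etale (l ≫ pullback.fst (p ≫ g) g) := by rw [pullback.lift_fst]; infer_instance
  haveI : Etale l := Etale.of_comp l (pullback.fst (p ≫ g) g)
  rw [← pullback.lift_snd (𝟙 U) p (Category.id_comp _)]
  exact MorphismProperty.comp_mem _ l (pullback.snd (p ≫ g) g) inferInstance inferInstance

theorem ass_of_etale {E S : Scheme.{u}} [IsLocallyNoetherian E] [IsLocallyNoetherian S] (g : E ⟶ S) [Etale g] (e : E) :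
    e ∈ AssSch.Ass (Coh.structureModule E) ↔ g e ∈ AssSch.Ass (Coh.structureModule S) := by
  rw [Groth.L07.AssTensor.mem_ass_structure_iff, Groth.L07.AssTensor.mem_ass_structure_iff]
  letI := (g.stalkMap e).hom.toAlgebra
  haveI : Module.Flat (S.presheaf.stalk (g e)) (E.presheaf.stalk e) := Flat.stalkMap g e
  haveI : IsLocalHom (algebraMap (S.presheaf.stalk (g e)) (E.presheaf.stalk e)) :=
    inferInstanceAs (IsLocalHom (g.stalkMap e).hom)
  rw [← LinearEquiv.AssociatedPrimes.eq
      (TensorProduct.AlgebraTensorModule.rid (S.presheaf.stalk (g e)) (E.presheaf.stalk e) (E.presheaf.stalk e)),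
    Groth.L07.AssFlatLocal.maximal_mem_iff (E.presheaf.stalk e) (S.presheaf.stalk (g e))]
  refine and_iff_left ?_
  have hmap : (maximalIdeal (S.presheaf.stalk (g e))).map (algebraMap (S.presheaf.stalk (g e)) (E.presheaf.stalk e)) =
      maximalIdeal (E.presheaf.stalk e) := Groth.L21.CurvFib.map_maximalIdeal_stalkMap_of_etale g e
  rw [hmap, LinearEquiv.AssociatedPrimes.eq (Submodule.quotEquivOfEq
    (maximalIdeal (E.presheaf.stalk e) • (⊤ : Submodule (E.presheaf.stalk e) (E.presheaf.stalk e)))
    (maximalIdeal (E.presheaf.stalk e)) (by rw [smul_eq_mul, Ideal.mul_top]))]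
  haveI : Nontrivial (E.presheaf.stalk e ⧸ maximalIdeal (E.presheaf.stalk e)) :=
    Ideal.Quotient.nontrivial_iff.mpr (maximalIdeal.isMaximal _).ne_top
  obtain ⟨P, hP⟩ := associatedPrimes.nonempty (E.presheaf.stalk e) (E.presheaf.stalk e ⧸ maximalIdeal (E.presheaf.stalk e))
  have hle : maximalIdeal (E.presheaf.stalk e) ≤ P :=
    le_of_eq_of_le (Submodule.annihilator_top.trans Ideal.annihilator_quotient).symm hP.annihilator_le
  convert hP using 2
  exact (maximalIdeal.isMaximal _).eq_of_le hP.isPrime.ne_top hle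

theorem mem_ass_of_homeo {S S' : Scheme.{u}} [IsLocallyNoetherian S] [IsLocallyNoetherian S'] (f : S' ⟶ S)
    [IsIntegralHom f] [UniversallyInjective f] [Surjective f]
    (hemb : ∀ s' : S', (s' ∈ AssSch.Ass (Coh.structureModule S') ∧ ∃ t ∈ AssSch.Ass (Coh.structureModule S'), t ⤳ s' ∧ t ≠ s') ↔
      (f s' ∈ AssSch.Ass (Coh.structureModule S) ∧ ∃ t ∈ AssSch.Ass (Coh.structureModule S), t ⤳ f s' ∧ t ≠ f s'))
    (s' : S') : s' ∈ AssSch.Ass (Coh.structureModule S') ↔ f s' ∈ AssSch.Ass (Coh.structureModule S) := by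
  have hbij : Function.Bijective f := ⟨f.injective, f.surjective⟩
  have hemb' : Topology.IsClosedEmbedding f :=
    Topology.IsClosedEmbedding.of_continuous_injective_isClosedMap f.continuous hbij.1 f.isClosedMap
  have hgen : s' ∈ genericPoints S' ↔ f s' ∈ genericPoints S := by
    rw [Groth.L20.mem_genericPoints_iff, Groth.L20.mem_genericPoints_iff]
    constructor
    · intro h x hx
      obtain ⟨y, rfl⟩ := hbij.2 x
      rw [h y (hemb'.isInducing.specializes_iff.mp hx)]
    · intro h y hy
      exact hbij.1 (h _ (hy.map f.continuous))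
  by_cases hE : s' ∈ AssSch.Ass (Coh.structureModule S') ∧ ∃ t ∈ AssSch.Ass (Coh.structureModule S'), t ⤳ s' ∧ t ≠ s'
  · exact iff_of_true hE.1 ((hemb s').mp hE).1
  have hE2 := fun h => hE ((hemb s').mpr h)
  constructor
  · intro h
    obtain ⟨η, hη, hsp⟩ := Groth.L20.exists_genericPoint_specializes s'
    have he : η = s' := by
      by_contra hne
      exact hE ⟨h, η, Groth.L19.Ass.genericPoints_subset_ass hη, hsp, hne⟩
    subst he
    exact Groth.L19.Ass.genericPoints_subset_ass (hgen.mp hη)
  · intro h
    obtain ⟨η, hη, hsp⟩ := Groth.L20.exists_genericPoint_specializes (f s')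
    have he : η = f s' := by
      by_contra hne
      exact hE2 ⟨h, η, Groth.L19.Ass.genericPoints_subset_ass hη, hsp, hne⟩
    subst he
    exact Groth.L19.Ass.genericPoints_subset_ass (hgen.mpr hη)

theorem std_iff {X E : Scheme.{u}} [IsLocallyNoetherian E] (u : X ⟶ E) [Flat u] :
    IsSchemeTheoreticallyDominant u ↔ AssSch.Ass (Coh.structureModule E) ⊆ Set.range u := by
  haveI := Groth.L19.Ass.isQCoh_structure (X := E)
  constructor
  · intro hu e he
    by_contra hne
    let U : E.Opens := ⟨(closure ({e} : Set E))ᶜ, isClosed_closure.isOpen_compl⟩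
    have hr : Set.range u ⊆ Set.range U.ι := by
      rw [Scheme.Opens.range_ι]
      rintro _ ⟨x, rfl⟩ hx
      obtain ⟨x', -, hx'⟩ := Flat.generalizingMap u (specializes_iff_mem_closure.mpr hx)
      exact hne ⟨x', hx'⟩
    haveI : IsSchemeTheoreticallyDominant U.ι := by
      refine ⟨le_bot_iff.mp ?_⟩
      calc U.ι.ker ≤ (IsOpenImmersion.lift U.ι u hr ≫ U.ι).ker := Scheme.Hom.le_ker_comp _ _
        _ = u.ker := by rw [IsOpenImmersion.lift_fac]
        _ = ⊥ := hu.ker_eq_bot
        _ ≤ ⊥ := le_rfl
    have hsub : AssSch.Ass (Coh.structureModule E) ⊆ (U : Set E) := by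
      refine (Groth.L19.Ass.subset_iff _ U).mpr fun V _ s hs => ?_
      let a : Γ(E, V) := s
      show a = (0 : Γ(E, V))
      refine U.ι.app_injective V ?_
      rw [map_zero, Scheme.Opens.ι_app]
      have h2 : (U.ι ''ᵁ U.ι ⁻¹ᵁ V) ≤ V ⊓ U := by
        rw [Scheme.Hom.image_preimage_eq_opensRange_inf, Scheme.Opens.opensRange_ι, inf_comm]
      have hs' : E.presheaf.map (homOfLE (inf_le_left : V ⊓ U ≤ V)).op a = 0 := hs
      have hcomp : E.presheaf.map (homOfLE (h2.trans inf_le_left)).op a =
          E.presheaf.map (homOfLE h2).op (E.presheaf.map (homOfLE (inf_le_left : V ⊓ U ≤ V)).op a) := by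
        rw [← ConcreteCategory.comp_apply, ← E.presheaf.map_comp]
        rfl
      rw [hs', map_zero] at hcomp
      exact hcomp
    exact hsub he (subset_closure rfl)
  · intro h
    refine ⟨le_bot_iff.mp fun V => ?_⟩
    refine (Scheme.Hom.ideal_ker_le u V).trans ?_
    intro a ha
    rw [Scheme.IdealSheafData.ideal_bot]
    show a = 0
    by_contra hne
    obtain ⟨e, heV, heA, hea⟩ :=
      Groth.L19.Ass.exists_ass_germ_ne_zero (Coh.structureModule E) V.2
        (s := (show Γ(Coh.structureModule E, V.1) from a)) hne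
    obtain ⟨x, rfl⟩ := h heA
    have hinj : Function.Injective (u.stalkMap x).hom := by
      letI := (u.stalkMap x).hom.toAlgebra
      haveI : Module.Flat (E.presheaf.stalk (u x)) (X.presheaf.stalk x) := Flat.stalkMap u x
      haveI : IsLocalHom (algebraMap (E.presheaf.stalk (u x)) (X.presheaf.stalk x)) :=
        inferInstanceAs (IsLocalHom (u.stalkMap x).hom)
      haveI : Module.FaithfullyFlat (E.presheaf.stalk (u x)) (X.presheaf.stalk x) :=
        Module.FaithfullyFlat.of_flat_of_isLocalHom
      exact FaithfulSMul.algebraMap_injective (E.presheaf.stalk (u x)) (X.presheaf.stalk x)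
    have h0 : E.presheaf.germ V.1 (u x) heV a = E.presheaf.germ V.1 (u x) heV 0 := by
      refine hinj ?_
      show u.stalkMap x (E.presheaf.germ V.1 (u x) heV a) = u.stalkMap x (E.presheaf.germ V.1 (u x) heV 0)
      rw [Scheme.Hom.germ_stalkMap_apply, Scheme.Hom.germ_stalkMap_apply, map_zero]
      exact congrArg _ ha
    obtain ⟨W, hxW, i₁, i₂, hW⟩ := TopCat.Presheaf.germ_eq E.presheaf (u x) heV heV a 0 h0
    refine hea ?_
    rw [map_zero] at hW
    rw [← Groth.L20.ModStalk.germ_rs (Coh.structureModule E) i₁.le hxW]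
    refine (congrArg ((Coh.structureModule E).presheaf.germ W (u x) hxW) ?_).trans (map_zero _)
    exact hW

end STDAux

open CategoryTheory AlgebraicGeometry
open EtHull


/-- Let f : S' → S be a morphism of locally Noetherian schemes which is integral, radicial (universally
injective) and surjective, and which matches embedded points: a point s' of S' is an embedded
associated point of O_{S'} (an associated point that is a proper specialization of another
associated point) if and only if f(s') is an embedded associated point of O_S. Let a : X → S be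
faithfully flat, g : E → S étale and u : X → E a morphism with u ≫ g = a, so that X → E → S is a
factorization of a through an étale S-scheme. Let E' → S' be the base change of g along f, with
projection φ : E' → E, and u' : X' → E' the base change of u along φ (so X' = X ×_S S'). Then u is
scheme-theoretically dominant if and only if u' is. (The source allows algebraic spaces; schemes
here.) -/
theorem result {X E S S' E' X' : Scheme.{u}}
    [IsLocallyNoetherian S] [IsLocallyNoetherian S'] (f : S' ⟶ S) [IsIntegralHom f]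
    [UniversallyInjective f] [Surjective f]
    (hemb : ∀ s' : S', (s' ∈ AssSch.Ass (Coh.structureModule S') ∧ ∃ t ∈ AssSch.Ass (Coh.structureModule S'), t ⤳ s' ∧ t ≠ s') ↔
      (f.base s' ∈ AssSch.Ass (Coh.structureModule S) ∧ ∃ t ∈ AssSch.Ass (Coh.structureModule S), t ⤳ f.base s' ∧ t ≠ f.base s'))
    (a : X ⟶ S) [Flat a] [Surjective a] (g : E ⟶ S) [Etale g] (u : X ⟶ E) (hu : u ≫ g = a)
    (g' : E' ⟶ S') (φ : E' ⟶ E) (hE : IsPullback φ g' g f)
    (u' : X' ⟶ E') (ψ : X' ⟶ X) (hX : IsPullback ψ u' u φ) :
    IsSchemeTheoreticallyDominant u ↔ IsSchemeTheoreticallyDominant u' := by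
  haveI : Flat (u ≫ g) := hu ▸ inferInstance
  haveI : Flat u := STDAux.flat_of_comp_etale u g
  haveI : Etale g' := MorphismProperty.of_isPullback hE inferInstance
  haveI : Surjective φ := MorphismProperty.of_isPullback hE.flip inferInstance
  haveI : Flat u' := MorphismProperty.of_isPullback hX inferInstance
  haveI : IsLocallyNoetherian E := LocallyOfFiniteType.isLocallyNoetherian g
  haveI : IsLocallyNoetherian E' := LocallyOfFiniteType.isLocallyNoetherian g'
  rw [STDAux.std_iff u, STDAux.std_iff u']
  have hass : ∀ e' : E', e' ∈ AssSch.Ass (Coh.structureModule E') ↔ φ e' ∈ AssSch.Ass (Coh.structureModule E) := by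
    intro e'
    rw [STDAux.ass_of_etale g' e', STDAux.ass_of_etale g (φ e'), STDAux.mem_ass_of_homeo f hemb (g' e'),
      ← Scheme.Hom.comp_apply g' f, ← Scheme.Hom.comp_apply φ g, hE.w]
  have hrange : Set.range u' = φ ⁻¹' Set.range u := by
    rw [← hX.isoPullback_hom_snd, ← Scheme.Pullback.range_snd (f := u) (g := φ)]
    ext e
    constructor
    · rintro ⟨x, rfl⟩; exact ⟨_, rfl⟩
    · rintro ⟨y, rfl⟩
      refine ⟨hX.isoPullback.inv y, ?_⟩
      rw [← Scheme.Hom.comp_apply, Iso.inv_hom_id_assoc]
  rw [hrange]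
  constructor
  · intro h e' he'
    exact h ((hass e').mp he')
  · intro h e he
    obtain ⟨e', rfl⟩ := φ.surjective e
    exact h ((hass e').mpr he)


end Groth.Agent.S19493
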