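import Groth.Statements.S19500
import Groth.Agent.L14.Cubic.TFinite

set_option autoImplicit false
universe u
open Cubic

namespace Groth.Agent.S19500

/-- Let K be an algebraically closed field of characteristic zero and S = V(F) ⊂ P^3_K a cubic surface
(F homogeneous of degree 3) which is irreducible and not a cone (no nonzero vector v has Σ_i v_i
∂F/∂x_i = 0). For a nonzero vector b with F(b) = 0 write ℓ_b = Σ_i ∂F/∂x_i(b) · x_i for the linear
form of the tangent plane at b; call b a T-point when b is a smooth point of S (some ∂F/∂x_i(b) ≠ 0)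
and F is congruent modulo ℓ_b to a product of three linear forms (the plane cubic T_b S ∩ S is
set-theoretically a union of lines). Let a be a smooth point of S which is not a T-point and H ⊂ K^4
the hyperplane ℓ_a = 0 (the tangent plane T_a S). Then T_a S contains only finitely many T-points of
S: the set of one-dimensional subspaces U ≤ H all of whose nonzero vectors are T-points is finite. -/
theorem result (K : Type u) [Field K] [IsAlgClosed K]
    [CharZero K] (F : MvPolynomial (Fin 4) K) (hF : F.IsHomogeneous 3) (hirr : Irreducible F)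
    (hcone : ¬ ∃ v : Fin 4 → K, v ≠ 0 ∧ ∑ i : Fin 4, v i • MvPolynomial.pderiv i F = 0)
    (tp : (Fin 4 → K) → Prop)
    (htp : ∀ b : Fin 4 → K, tp b ↔ (b ≠ 0 ∧ MvPolynomial.eval b F = 0 ∧
      (∃ i : Fin 4, MvPolynomial.eval b (MvPolynomial.pderiv i F) ≠ 0) ∧
      ∃ L₁ L₂ L₃ : MvPolynomial (Fin 4) K, L₁.IsHomogeneous 1 ∧ L₂.IsHomogeneous 1 ∧ L₃.IsHomogeneous 1 ∧
        F - L₁ * L₂ * L₃ ∈ Ideal.span {∑ i : Fin 4,
          MvPolynomial.C (MvPolynomial.eval b (MvPolynomial.pderiv i F)) * MvPolynomial.X i}))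
    (a : Fin 4 → K) (haF : MvPolynomial.eval a F = 0)
    (hsm : ∃ i : Fin 4, MvPolynomial.eval a (MvPolynomial.pderiv i F) ≠ 0) (ha : ¬ tp a)
    (H : Submodule K (Fin 4 → K))
    (hH : ∀ x : Fin 4 → K, x ∈ H ↔ MvPolynomial.eval x (∑ i : Fin 4,
      MvPolynomial.C (MvPolynomial.eval a (MvPolynomial.pderiv i F)) * MvPolynomial.X i) = 0) :
    Set.Finite {U : Submodule K (Fin 4 → K) | Module.finrank K ↥U = 1 ∧ U ≤ H ∧
      ∀ b ∈ U, b ≠ 0 → tp b} := by
  have h : Groth.L14.Cubic.CubicNC F := ⟨hF, hirr, hcone⟩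
  obtain ⟨i, hi⟩ := hsm
  have hd := Groth.L14.Cubic.deriv_eq_tri hF
  have hev : ∀ b j, Groth.L14.Cubic.tri F b b (Pi.single j 1) = MvPolynomial.eval b (MvPolynomial.pderiv j F) / 3 := by
    intro b j
    have := hd b (Pi.single j 1)
    simp [Pi.single_apply] at this
    rw [this]; ring
  have ha3 : Groth.L14.Cubic.tri F a a a = 0 := by rw [← Groth.L14.Cubic.eval_eq_tri hF]; exact haF
  have hz : Groth.L14.Cubic.tri F a a (Pi.single i 1) ≠ 0 := by
    rw [hev]; exact div_ne_zero hi three_ne_zero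
  have hns : ¬ Groth.L14.Cubic.SplitAt F a := fun hs => ha ((htp a).mpr ⟨fun e => hi (by
    subst e
    have := hd 0 (Pi.single i 1)
    simpa [Pi.single_apply] using this), haF, ⟨i, hi⟩,
    Groth.L14.Cubic.mem_span_of_splitAt hF hz hs⟩)
  refine (Groth.L14.Cubic.finite_split_on_section h ha3 hz hns).subset fun U ⟨h1, h2, h3⟩ => ⟨h1, fun x hx => ?_, ?_⟩
  · have := (hH x).mp (h2 hx)
    have e := hd a x
    have : ∑ k : Fin 4, x k * MvPolynomial.eval a (MvPolynomial.pderiv k F) = 0 := by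
      rw [← this, map_sum]
      exact Finset.sum_congr rfl fun k _ => by rw [map_mul, MvPolynomial.eval_C, MvPolynomial.eval_X, mul_comm]
    rw [this] at e
    exact (mul_eq_zero.mp e.symm).resolve_left three_ne_zero
  · intro b hb hb0
    obtain ⟨-, hbF, -, L₁, L₂, L₃, e1, e2, e3, e4⟩ := (htp b).mp (h3 b hb hb0)
    exact ⟨by rw [← Groth.L14.Cubic.eval_eq_tri hF]; exact hbF,
      Groth.L14.Cubic.splitAt_of_mem_span hF e1 e2 e3 e4⟩

end Groth.Agent.S19500
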