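import Groth.Statements.S19502
import Mathlib.Analysis.Normed.Group.InfiniteSum
import Mathlib.Analysis.Normed.Group.Real
import Mathlib.Topology.Algebra.InfiniteSum.Order
import Mathlib.Analysis.RCLike.Basic
import Mathlib.Tactic.Linarith
import Mathlib.Tactic.FieldSimp

set_option autoImplicit false
universe u
open W4c3ghconstell

namespace Groth.Agent.S19502

/-- Let ι index the irreducible representations, θ : ι → ℚ a weight which is negative exactly on the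
finite set D₋, h h' : ι → ℕ with h' ≤ h pointwise (the isotypic dimensions of an object and of a
sub-object) and Σ_i θ_i h_i summable. For a finite set D of indices put S_D = Σ_{i ∉ D} θ_i h_i, d =
#(D ∖ D₋) and θ̃_D = Σ_{i ∈ D} θ_i h'_i + (S_D / d) · Σ_{i ∈ D ∖ D₋} h'_i / h_i, the modified weight
attached to the parameters chosen for D (a quotient by zero is read as zero). Then for finite sets
D₋ ⊆ D ⊆ D̃ contained in the locus θ ≠ 0: (first error term) θ̃_{D̃} − θ̃_D = Σ_{τ ∈ D̃ ∖ D} (θ_τ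
h_τ + S_{D̃}/d̃) · (h'_τ/h_τ − (1/d) Σ_{σ ∈ D ∖ D₋} h'_σ/h_σ); (second error term) Σ_i θ_i h'_i −
θ̃_D = Σ_{τ ∉ D} θ_τ h_τ · (h'_τ/h_τ − (1/d) Σ_{σ ∈ D ∖ D₋} h'_σ/h_σ). -/
theorem result {ι : Type u} [DecidableEq ι]
    (θ : ι → ℚ) (h h' : ι → ℕ) (hle : ∀ i, h' i ≤ h i) (hfin : {i | θ i < 0}.Finite)
    (hsum : Summable (fun i => (θ i : ℝ) * (h i : ℝ))) (D D' : Finset ι)
    (hDm : hfin.toFinset ⊆ D) (hDD' : D ⊆ D') (hsupp : ∀ i ∈ D', θ i ≠ 0) :
    (((∑ i ∈ D', (θ i : ℝ) * (h' i : ℝ)) + ((∑' i, if i ∈ D' then (0 : ℝ) else (θ i : ℝ) * (h i : ℝ)) / ((D' \ hfin.toFinset).card : ℝ)) * (∑ σ ∈ D' \ hfin.toFinset, ((h' σ : ℝ) / (h σ : ℝ)))) - ((∑ i ∈ D, (θ i : ℝ) * (h' i : ℝ)) + ((∑' i, if i ∈ D then (0 : ℝ) else (θ i : ℝ) * (h i : ℝ)) / ((D \ hfin.toFinset).card : ℝ)) * (∑ σ ∈ D \ hfin.toFinset, ((h' σ : ℝ) / (h σ : ℝ)))) =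
      ∑ τ ∈ D' \ D, ((θ τ : ℝ) * (h τ : ℝ) + (∑' i, if i ∈ D' then (0 : ℝ) else (θ i : ℝ) * (h i : ℝ)) / ((D' \ hfin.toFinset).card : ℝ)) *
        (((h' τ : ℝ) / (h τ : ℝ)) - (1 / ((D \ hfin.toFinset).card : ℝ)) * (∑ σ ∈ D \ hfin.toFinset, ((h' σ : ℝ) / (h σ : ℝ))))) ∧
    ((∑' i, (θ i : ℝ) * (h' i : ℝ)) - ((∑ i ∈ D, (θ i : ℝ) * (h' i : ℝ)) + ((∑' i, if i ∈ D then (0 : ℝ) else (θ i : ℝ) * (h i : ℝ)) / ((D \ hfin.toFinset).card : ℝ)) * (∑ σ ∈ D \ hfin.toFinset, ((h' σ : ℝ) / (h σ : ℝ)))) =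
      ∑' τ, if τ ∈ D then (0 : ℝ) else (θ τ : ℝ) * (h τ : ℝ) *
        (((h' τ : ℝ) / (h τ : ℝ)) - (1 / ((D \ hfin.toFinset).card : ℝ)) * (∑ σ ∈ D \ hfin.toFinset, ((h' σ : ℝ) / (h σ : ℝ))))) := by
  classical
  have habs : Summable fun i => |(θ i : ℝ) * (h i : ℝ)| := hsum.abs
  have hs' : Summable fun i => (θ i : ℝ) * (h' i : ℝ) := Summable.of_norm_bounded habs fun i => by
    rw [Real.norm_eq_abs, abs_mul, abs_mul, Nat.abs_cast, Nat.abs_cast]
    exact mul_le_mul_of_nonneg_left (Nat.cast_le.2 (hle i)) (abs_nonneg _)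
  set a : ι → ℝ := fun i => (θ i : ℝ) * (h i : ℝ) with ha
  set a' : ι → ℝ := fun i => (θ i : ℝ) * (h' i : ℝ) with ha'
  set c : ι → ℝ := fun i => (h' i : ℝ) / (h i : ℝ)
  have hac : ∀ i, a i * c i = a' i := fun i => by
    rcases Nat.eq_zero_or_pos (h i) with h0 | h0
    · have := hle i
      simp [a, a', h0, show h' i = 0 by omega]
    · have : (h i : ℝ) ≠ 0 := Nat.cast_ne_zero.2 h0.ne'
      simp only [a, a', c]
      field_simp
  have hsplit : ∀ (f : ι → ℝ) (E : Finset ι), Summable f →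
      (∑' i, if i ∈ E then (0 : ℝ) else f i) = (∑' i, f i) - ∑ i ∈ E, f i := fun f E hf => by
    have e1 : HasSum (fun i => if i ∈ E then f i else 0) (∑ i ∈ E, f i) := by
      have := hasSum_sum_of_ne_finset_zero (f := fun i => if i ∈ E then f i else 0) (s := E)
        (L := SummationFilter.unconditional ι) fun i hi => if_neg hi
      rwa [Finset.sum_congr rfl fun i hi => if_pos hi] at this
    rw [← (hf.hasSum.sub e1).tsum_eq]
    exact tsum_congr fun i => by split_ifs <;> simp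
  have hD' : hfin.toFinset ⊆ D' := hDm.trans hDD'
  set d : ℝ := ((D \ hfin.toFinset).card : ℝ)
  set d' : ℝ := ((D' \ hfin.toFinset).card : ℝ)
  set C := ∑ σ ∈ D \ hfin.toFinset, c σ
  have hD'E : D' \ hfin.toFinset = (D \ hfin.toFinset) ∪ (D' \ D) := by
    ext i
    simp only [Finset.mem_union, Finset.mem_sdiff]
    constructor
    · exact fun hi => if hiD : i ∈ D then Or.inl ⟨hiD, hi.2⟩ else Or.inr ⟨hi.1, hiD⟩
    · exact fun hi => hi.elim (fun hi => ⟨hDD' hi.1, hi.2⟩) fun hi => ⟨hi.1, fun hm => hi.2 (hDm hm)⟩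
  have hdisj : Disjoint (D \ hfin.toFinset) (D' \ D) :=
    Finset.disjoint_left.2 fun i hi hi' => (Finset.mem_sdiff.1 hi').2 (Finset.mem_sdiff.1 hi).1
  have hsumD' : ∀ f : ι → ℝ, ∑ i ∈ D', f i = ∑ i ∈ D, f i + ∑ i ∈ D' \ D, f i := fun f => by
    rw [← Finset.sum_sdiff hDD', add_comm]
  have hC' : ∑ σ ∈ D' \ hfin.toFinset, c σ = C + ∑ τ ∈ D' \ D, c τ := by
    rw [hD'E, Finset.sum_union hdisj]
  have hd' : d' = d + ((D' \ D).card : ℝ) := by
    simp only [d, d', hD'E, Finset.card_union_of_disjoint hdisj, Nat.cast_add]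
  rw [hsplit a D hsum, hsplit a D' hsum, hsumD' a, hsumD' a', hC']
  constructor
  · set T' := ((∑' i, a i) - (∑ i ∈ D, a i + ∑ i ∈ D' \ D, a i))
    have hR : ∑ τ ∈ D' \ D, (a τ + T' / d') * (c τ - 1 / d * C) =
        (∑ τ ∈ D' \ D, a' τ) + T' / d' * (∑ τ ∈ D' \ D, c τ) -
          (∑ τ ∈ D' \ D, a τ + ((D' \ D).card : ℝ) * (T' / d')) * (1 / d * C) := by
      simp only [add_mul, mul_sub, Finset.sum_add_distrib, Finset.sum_sub_distrib, hac, ← Finset.mul_sum,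
        ← Finset.sum_mul, Finset.sum_const, nsmul_eq_mul]
      ring
    refine Eq.trans ?_ hR.symm
    rcases Nat.eq_zero_or_pos (D \ hfin.toFinset).card with h0 | h0
    · have hd0 : d = 0 := by simp [d, h0]
      have hC0 : C = 0 := by simp [C, Finset.card_eq_zero.1 h0]
      rw [hd0, hC0]
      simp only [div_zero, mul_zero, add_zero, zero_add, sub_zero]
      ring
    · have hd0 : d ≠ 0 := Nat.cast_ne_zero.2 h0.ne'
      have hd0' : d' ≠ 0 := by
        have : (0 : ℝ) < d := lt_of_le_of_ne (Nat.cast_nonneg _) (Ne.symm hd0)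
        have : (0 : ℝ) ≤ ((D' \ D).card : ℝ) := Nat.cast_nonneg _
        rw [hd']; linarith
      field_simp
      rw [hd']
      simp only [T']
      ring
  · have hfun : ∀ τ, (if τ ∈ D then (0 : ℝ) else a τ * (c τ - 1 / d * C)) =
        (if τ ∈ D then (0 : ℝ) else a' τ - 1 / d * C * a τ) := fun τ => by
      split_ifs
      · rfl
      · rw [mul_sub, hac]; ring
    show _ = ∑' τ, (if τ ∈ D then (0 : ℝ) else a τ * (c τ - 1 / d * C))
    rw [tsum_congr hfun, hsplit _ D (hs'.sub (hsum.mul_left _)), hs'.tsum_sub (hsum.mul_left _), tsum_mul_left,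
      Finset.sum_sub_distrib, ← Finset.mul_sum]
    ring

end Groth.Agent.S19502
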