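import Groth.Statements.S19505
import Groth.Agent.L13.OrdSurf.Basic
import Groth.Agent.L19.NormalSections
import Groth.Agent.L21.Smooth.Scheme
import Groth.Agent.L16.ProjSpace.Basic
import Groth.Prelude.Def_RefHull
import Mathlib.FieldTheory.Minpoly.IsIntegrallyClosed
import Mathlib.LinearAlgebra.Matrix.Charpoly.LinearMap

set_option autoImplicit false
universe u
open CategoryTheory CategoryTheory.Limits AlgebraicGeometry TopologicalSpace Opposite
open OrdSurf

namespace Groth.Agent.S19505

theorem coeff_minpoly_mem {R K W : Type u} [CommRing R] [IsDomain R] [IsIntegrallyClosed R] [Field K]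
    [Algebra R K] [IsFractionRing R K] [AddCommGroup W] [Module K W] (T : Module.End K W)
    (q : Polynomial R) (hq : q.Monic) (h0 : Polynomial.aeval T (q.map (algebraMap R K)) = 0) (i : ℕ) :
    (minpoly K T).coeff i ∈ (algebraMap R K).range := by
  have hint : IsIntegral K T := ⟨_, hq.map _, by rwa [← Polynomial.aeval_def]⟩
  obtain ⟨g, hg⟩ := IsIntegrallyClosed.eq_map_mul_C_of_dvd K hq (minpoly.dvd K T h0)
  rw [(minpoly.monic hint).leadingCoeff, Polynomial.C_1, mul_one] at hg
  exact ⟨g.coeff i, by rw [← hg, Polynomial.coeff_map]⟩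

theorem irreducible_minpoly {K W : Type u} [Field K] [AddCommGroup W] [Module K W] [Nontrivial W]
    (T : Module.End K W) (hint : IsIntegral K T)
    (hinj : ∀ p : Polynomial K, Polynomial.aeval T p ≠ 0 → Function.Injective (Polynomial.aeval T p)) :
    Irreducible (minpoly K T) := by
  refine ⟨minpoly.not_isUnit K T, fun a b hab => ?_⟩
  have hne : minpoly K T ≠ 0 := minpoly.ne_zero hint
  by_cases ha : Polynomial.aeval T a = 0
  · right
    obtain ⟨c, hc⟩ := minpoly.dvd K T ha
    refine IsUnit.of_mul_eq_one c (mul_left_cancel₀ hne ?_)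
    rw [mul_one, mul_left_comm, ← hc, mul_comm, ← hab]
  · left
    by_cases hb : Polynomial.aeval T b = 0
    · obtain ⟨c, hc⟩ := minpoly.dvd K T hb
      refine IsUnit.of_mul_eq_one c (mul_left_cancel₀ hne ?_)
      rw [mul_one, mul_left_comm, ← hc, ← hab]
    · exfalso
      refine hb (LinearMap.ext fun w => hinj a ha ?_)
      have h0 : Polynomial.aeval T a (Polynomial.aeval T b w) = Polynomial.aeval T (a * b) w := by
        rw [map_mul]; rfl
      rw [h0, ← hab, minpoly.aeval]
      simp only [LinearMap.zero_apply]
      exact (map_zero _).symm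

/-- An element of the function field that is a germ near every point is a global germ. -/
theorem exists_global_section {X : Scheme.{u}} [IsIntegral X] (z : X.functionField)
    (h : ∀ x : X, ∃ (N : X.Opens) (_ : x ∈ N) (hg : genericPoint X ∈ N) (s : Γ(X, N)),
      X.presheaf.germ N (genericPoint X) hg s = z) :
    ∃ t : Γ(X, ⊤), X.presheaf.germ ⊤ (genericPoint X) trivial t = z := by
  choose N hxN hgN s hs using h
  have hcompat : TopCat.Presheaf.IsCompatible X.presheaf N s := fun i j => by
    apply germ_injective_of_isIntegral X (genericPoint X) (show genericPoint X ∈ N i ⊓ N j from ⟨hgN i, hgN j⟩)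
    rw [TopCat.Presheaf.germ_res_apply, TopCat.Presheaf.germ_res_apply, hs, hs]
  obtain ⟨t, ht, -⟩ := TopCat.Sheaf.existsUnique_gluing' X.sheaf N ⊤ (fun i => homOfLE le_top)
    (fun x _ => Opens.mem_iSup.mpr ⟨x, hxN x⟩) s hcompat
  refine ⟨t, ?_⟩
  rw [← hs (genericPoint X), ← ht (genericPoint X)]
  exact (TopCat.Presheaf.germ_res_apply X.presheaf _ _ _ t).symm

/-- On a proper integral scheme over an algebraically closed field global functions are scalars. -/
theorem exists_appTop_eq {k : Type u} [Field k] [IsAlgClosed k] {X : Scheme.{u}} [IsIntegral X]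
    (f : X ⟶ Spec (CommRingCat.of k)) [IsProper f] (t : Γ(X, ⊤)) :
    ∃ c : k, f.appTop ((Scheme.ΓSpecIso (CommRingCat.of k)).inv c) = t := by
  letI := (isField_of_universallyClosed k f).toField
  let g : k →+* Γ(X, ⊤) := ((Scheme.ΓSpecIso (CommRingCat.of k)).inv ≫ f.appTop).hom
  have hfin : g.Finite := (finite_appTop_of_universallyClosed k f).comp
    (RingHom.Finite.of_surjective _
      (Scheme.ΓSpecIso (CommRingCat.of k)).symm.commRingCatIsoToRingEquiv.surjective)
  exact (IsAlgClosed.ringHom_bijective_of_isIntegral g hfin.to_isIntegral).2 t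


/-- Let k be an algebraically closed field of characteristic zero and X a smooth projective surface over
k (an integral k-scheme, smooth over k, of dimension two, admitting a closed immersion over k into
some projective space P^n_k), with generic point η. Let A be a sheaf of rings on X with a morphism φ
: O_X → A of sheaves of rings with central image whose generic stalk A_η is a division ring (simple
as a left module over itself), and let M be a sheaf of A-modules whose underlying O_X-module is
coherent with torsion-free stalks and whose generic stalk M_η is a simple A_η-module. Then M is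
simple in the sense that End_A(M) = k: every endomorphism ψ of the sheaf of A-modules M is
multiplication by a scalar c ∈ k, i.e. on every open U it acts on sections as multiplication by the
image of c in Γ(U, O_X) under the structure map, pushed into A by φ. (The published statement takes
A to be an order on X and M a torsion-free A-module of rank one; only the hypotheses listed are
assumed here, the others playing no role in the argument.) -/
theorem result (k : Type u) [Field k] [IsAlgClosed k] [CharZero k]
    (X : Scheme.{u}) [X.Over (Spec (CommRingCat.of k))] [IsIntegral X]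
    [Smooth (X ↘ Spec (CommRingCat.of k))] (hdim : topologicalKrullDim X = 2)
    (hproj : ∃ (n : ℕ) (ι : X ⟶ CohB1.ProjSpace n k), IsClosedImmersion ι ∧
      ι ≫ CohB1.ProjSpace.toSpec n k = X ↘ Spec (CommRingCat.of k))
    (A : Sheaf (Opens.grothendieckTopology X) RingCat.{u}) (φ : X.ringCatSheaf ⟶ A)
    (hcen : ∀ (U : (Opens X)ᵒᵖ) (s : X.ringCatSheaf.obj.obj U) (a : A.obj.obj U),
      φ.hom.app U s * a = a * φ.hom.app U s)
    (hAη : IsSimpleModule (↑(TopCat.Presheaf.stalk (C := RingCat.{u}) (X := X.carrier) A.obj (genericPoint X))) (↑(TopCat.Presheaf.stalk (C := RingCat.{u}) (X := X.carrier) A.obj (genericPoint X))))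
    (M : SheafOfModules.{u} A)
    (hMc : Coh.IsCoh (X := X) ((SheafOfModules.restrictScalars φ).obj M))
    (hMt : TorSh.IsTorsionFree (X := X) ((SheafOfModules.restrictScalars φ).obj M))
    (hMη : IsSimpleModule (↑(TopCat.Presheaf.stalk (C := RingCat.{u}) (X := X.carrier) A.obj (genericPoint X))) (↑(TopCat.Presheaf.stalk (C := Ab.{u}) (X := X.carrier) M.val.presheaf (genericPoint X))))
    (ψ : M ⟶ M) :
    ∃ c : k, ∀ (U : (Opens X)ᵒᵖ) (m : M.val.obj U),
      (ψ.val.app U).hom m =
        φ.hom.app U ((X.presheaf.map (homOfLE (le_top (a := U.unop))).op)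
          (((X ↘ Spec (CommRingCat.of k)).appTop).hom ((Scheme.ΓSpecIso (CommRingCat.of k)).inv.hom c))) • m := by
  haveI hsep : IsProper (X ↘ Spec (CommRingCat.of k)) := by
    obtain ⟨n, ι, hι, hc⟩ := hproj
    rw [← hc]; infer_instance
  let F : X.Modules := (SheafOfModules.restrictScalars φ).obj M
  let ψ' : F ⟶ F := (SheafOfModules.restrictScalars φ).map ψ
  haveI : Coh.IsQCoh F := hMc.1
  have htf : TorSh.IsTorsionFree F := hMt
  have hmem : ∀ (U : X.Opens), (U : Set X).Nonempty → genericPoint X ∈ U := fun U hU =>
    (genericPoint_specializes hU.some).mem_open U.2 hU.some_mem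
  let T : Module.End X.functionField (F.presheaf.stalk (genericPoint X)) :=
    RefHull.stalkMapₗ ψ' (genericPoint X)
  let TA := Groth.L13.OrdSurf.stalkLin ψ (genericPoint X)
  have hTA : ∀ v, T v = TA v := fun v => rfl
  let toF : (TopCat.Presheaf.stalk (C := Ab.{u}) (X := X.carrier) M.val.presheaf (genericPoint X)) →+ F.presheaf.stalk (genericPoint X) :=
    AddMonoidHom.id (TopCat.Presheaf.stalk (C := Ab.{u}) (X := X.carrier) M.val.presheaf (genericPoint X))
  let toM : F.presheaf.stalk (genericPoint X) →+ (TopCat.Presheaf.stalk (C := Ab.{u}) (X := X.carrier) M.val.presheaf (genericPoint X)) :=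
    AddMonoidHom.id (TopCat.Presheaf.stalk (C := Ab.{u}) (X := X.carrier) M.val.presheaf (genericPoint X))
  -- scalars of the function field commute with the generic stalk of the algebra
  have hcomm : ∀ (s : X.functionField) (a : TopCat.Presheaf.stalk (C := RingCat.{u}) (X := X.carrier) A.obj (genericPoint X))
      (v : (TopCat.Presheaf.stalk (C := Ab.{u}) (X := X.carrier) M.val.presheaf (genericPoint X))), s • toF (a • v) = toF (a • toM (s • toF v)) := by
    intro s a v
    obtain ⟨U₁, h₁, s₁, rfl⟩ := TopCat.Presheaf.exists_germ_eq X.presheaf s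
    obtain ⟨U₂, h₂, a₂, rfl⟩ := TopCat.Presheaf.exists_germ_eq (C := RingCat.{u}) (X := X.carrier) A.obj a
    obtain ⟨U₃, h₃, m₃, rfl⟩ := TopCat.Presheaf.exists_germ_eq (C := Ab.{u}) (X := X.carrier) M.val.presheaf v
    have hW : genericPoint X ∈ U₁ ⊓ U₂ ⊓ U₃ := ⟨⟨h₁, h₂⟩, h₃⟩
    have i₁ : U₁ ⊓ U₂ ⊓ U₃ ≤ U₁ := inf_le_left.trans inf_le_left
    have i₂ : U₁ ⊓ U₂ ⊓ U₃ ≤ U₂ := inf_le_left.trans inf_le_right
    rw [← TopCat.Presheaf.germ_res_apply X.presheaf (homOfLE i₁) _ hW,
      ← TopCat.Presheaf.germ_res_apply (X := X.carrier) A.obj (homOfLE i₂) _ hW,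
      ← TopCat.Presheaf.germ_res_apply (X := X.carrier) M.val.presheaf (homOfLE (inf_le_right : U₁ ⊓ U₂ ⊓ U₃ ≤ U₃)) _ hW]
    generalize X.presheaf.map (homOfLE i₁).op s₁ = s'
    generalize A.obj.map (homOfLE i₂).op a₂ = a'
    generalize M.val.presheaf.map (homOfLE (inf_le_right : U₁ ⊓ U₂ ⊓ U₃ ≤ U₃)).op m₃ = m'
    have e1 := PresheafOfModules.germ_ringCat_smul (X := X.carrier) M.val (genericPoint X) _ hW a' m'
    have e2 := fun m : Γ(F, U₁ ⊓ U₂ ⊓ U₃) => Groth.L20.ModStalk.germ_smul F hW s' m
    refine Eq.trans (congrArg (fun z => X.presheaf.germ _ (genericPoint X) hW s' • toF z) e1.symm) ?_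
    refine Eq.trans (e2 _).symm ?_
    refine Eq.trans ?_ (congrArg
      (fun z => toF (TopCat.Presheaf.germ (C := RingCat.{u}) (X := X.carrier) A.obj (U₁ ⊓ U₂ ⊓ U₃) (genericPoint X) hW a' • toM z)) (e2 m'))
    refine Eq.trans ?_ (PresheafOfModules.germ_ringCat_smul (X := X.carrier) M.val (genericPoint X) _ hW a' _)
    refine congrArg _ ?_
    show φ.hom.app (op (U₁ ⊓ U₂ ⊓ U₃)) s' • (a' • m' : M.val.obj (op (U₁ ⊓ U₂ ⊓ U₃))) =
      a' • (φ.hom.app (op (U₁ ⊓ U₂ ⊓ U₃)) s' • m' : M.val.obj (op (U₁ ⊓ U₂ ⊓ U₃)))
    rw [smul_smul, smul_smul, hcen]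
  -- a polynomial in T is injective or zero
  have hinj : ∀ p : Polynomial X.functionField, Polynomial.aeval T p ≠ 0 →
      Function.Injective (Polynomial.aeval T p) := by
    intro p hp
    have hlin : ∀ (p : Polynomial X.functionField)
        (a : TopCat.Presheaf.stalk (C := RingCat.{u}) (X := X.carrier) A.obj (genericPoint X))
        (v : (TopCat.Presheaf.stalk (C := Ab.{u}) (X := X.carrier) M.val.presheaf (genericPoint X))), Polynomial.aeval T p (toF (a • v)) = toF (a • toM (Polynomial.aeval T p (toF v))) := by
      intro p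
      induction p using Polynomial.induction_on' with
      | add p q hp hq =>
        intro a v
        rw [map_add, LinearMap.add_apply, LinearMap.add_apply, hp, hq, map_add toM, smul_add, map_add]
      | monomial n s =>
        intro a v
        rw [Polynomial.aeval_monomial]
        have hn : ∀ m : ℕ, (T ^ m) (toF (a • v)) = toF (a • toM ((T ^ m) (toF v))) := by
          intro m
          induction m with
          | zero => rfl
          | succ m ih =>
            rw [pow_succ', Module.End.mul_apply, Module.End.mul_apply, ih]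
            exact TA.map_smul a _
        rw [Module.End.mul_apply, Module.End.mul_apply, hn n, Module.algebraMap_end_apply,
          Module.algebraMap_end_apply, hcomm s a _]
        rfl
    let S : Submodule (TopCat.Presheaf.stalk (C := RingCat.{u}) (X := X.carrier) A.obj (genericPoint X))
        (TopCat.Presheaf.stalk (C := Ab.{u}) (X := X.carrier) M.val.presheaf (genericPoint X)) :=
      { carrier := {v | Polynomial.aeval T p (toF v) = 0}
        zero_mem' := by simp
        add_mem' := fun {v w} hv hw => by
          show Polynomial.aeval T p (toF (v + w)) = 0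
          rw [map_add toF, map_add, hv, hw, add_zero]
        smul_mem' := fun a v hv => by
          show Polynomial.aeval T p (toF (a • v)) = 0
          rw [hlin p a v, hv, map_zero toM, smul_zero, map_zero] }
    haveI := hMη.toIsSimpleOrder
    rcases IsSimpleOrder.eq_bot_or_eq_top S with h | h
    · rw [← LinearMap.ker_eq_bot, eq_bot_iff]
      intro v hv
      exact (Submodule.mem_bot _).mpr
        ((Submodule.mem_bot _).mp (h.le (show toM v ∈ S from hv)) :)
    · refine absurd (LinearMap.ext fun v => ?_) hp
      exact (h.ge (Submodule.mem_top (x := toM v)) :)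
  haveI : Nontrivial (F.presheaf.stalk (genericPoint X)) := by
    haveI := hMη
    exact IsSimpleModule.nontrivial (TopCat.Presheaf.stalk (C := RingCat.{u}) (X := X.carrier) A.obj (genericPoint X))
      (TopCat.Presheaf.stalk (C := Ab.{u}) (X := X.carrier) M.val.presheaf (genericPoint X))
  -- on affine opens, a monic polynomial with coefficients in the sections kills T
  have hkill : ∀ (V : X.Opens) (hV : IsAffineOpen V) [Nonempty V],
      ∃ q : Polynomial Γ(X, V), q.Monic ∧
        Polynomial.aeval T (q.map (algebraMap Γ(X, V) X.functionField)) = 0 := by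
    intro V hV _
    have hη : genericPoint X ∈ V := hmem V (Set.nonempty_coe_sort.mp ‹_›)
    haveI := Groth.L20.ModStalk.finite_sections F hMc hV
    let P : Module.End Γ(X, V) Γ(F, V) :=
      { toFun := fun m => ψ'.app V m
        map_add' := fun a b => map_add _ a b
        map_smul' := fun r m => Scheme.Modules.Hom.app_smul ψ' r m }
    obtain ⟨q, hq, hqP⟩ := LinearMap.exists_monic_and_aeval_eq_zero Γ(X, V) P
    refine ⟨q, hq, ?_⟩
    have key : ∀ (p : Polynomial Γ(X, V)) (m : Γ(F, V)),
        Polynomial.aeval T (p.map (algebraMap Γ(X, V) X.functionField))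
            (F.presheaf.germ V (genericPoint X) hη m) =
          F.presheaf.germ V (genericPoint X) hη (Polynomial.aeval P p m) := by
      intro p
      induction p using Polynomial.induction_on' with
      | add p q hp hq =>
        intro m
        simp only [Polynomial.map_add, map_add, LinearMap.add_apply, hp, hq]
      | monomial n s =>
        intro m
        rw [Polynomial.map_monomial, Polynomial.aeval_monomial, Polynomial.aeval_monomial,
          Module.End.mul_apply, Module.End.mul_apply, Module.algebraMap_end_apply,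
          Module.algebraMap_end_apply, Groth.L20.ModStalk.germ_smul]
        have hn : ∀ m' : ℕ, (T ^ m') (F.presheaf.germ V (genericPoint X) hη m) =
            F.presheaf.germ V (genericPoint X) hη ((P ^ m') m) := by
          intro m'
          induction m' with
          | zero => rfl
          | succ j ih =>
            rw [pow_succ', pow_succ', Module.End.mul_apply, Module.End.mul_apply, ih]
            exact RefHull.stalkMapₗ_germ ψ' (genericPoint X) hη _
        rw [hn n]
        rfl
    refine LinearMap.ext fun v => ?_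
    letI := Groth.L20.ModStalk.stalkModule F hη
    haveI := Groth.L20.ModStalk.isLocalizedModule_germ F hV hη
    obtain ⟨⟨m, g, hg⟩, hgm⟩ := IsLocalizedModule.surj
      (hV.primeIdealOf ⟨_, hη⟩).asIdeal.primeCompl (Groth.L20.ModStalk.germₗ F hη) v
    have hg0 : X.presheaf.germ V (genericPoint X) hη g ≠ 0 := fun h => hg (by
      rw [show g = 0 from germ_injective_of_isIntegral X _ hη (h.trans (map_zero _).symm)]
      exact zero_mem _)
    have hgm' : X.presheaf.germ V (genericPoint X) hη g • v = F.presheaf.germ V (genericPoint X) hη m := hgm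
    have h2 : X.presheaf.germ V (genericPoint X) hη g •
        Polynomial.aeval T (q.map (algebraMap Γ(X, V) X.functionField)) v = 0 := by
      rw [← LinearMap.map_smul, hgm', key q m, hqP, LinearMap.zero_apply, map_zero]
    exact (smul_eq_zero.mp h2).resolve_left hg0
  obtain ⟨U₀, hU₀, hU₀ne⟩ : ∃ (U : X.Opens), IsAffineOpen U ∧ Nonempty U := by
    obtain ⟨_, ⟨U, hU, rfl⟩, hxU, -⟩ :=
      X.isBasis_affineOpens.exists_subset_of_mem_open (Set.mem_univ (genericPoint X)) isOpen_univ
    exact ⟨U, hU, ⟨⟨_, hxU⟩⟩⟩
  obtain ⟨q₀, hq₀, hq₀T⟩ := hkill U₀ hU₀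
  have hint : IsIntegral X.functionField T := ⟨_, hq₀.map _, hq₀T⟩
  have hcoeff : ∀ i, ∃ c : k, (minpoly X.functionField T).coeff i =
      X.presheaf.germ ⊤ (genericPoint X) trivial
        ((X ↘ Spec (CommRingCat.of k)).appTop ((Scheme.ΓSpecIso (CommRingCat.of k)).inv c)) := by
    intro i
    obtain ⟨t, ht⟩ := exists_global_section ((minpoly X.functionField T).coeff i) fun x => by
      obtain ⟨_, ⟨V, hV, rfl⟩, hxV, -⟩ :=
        X.isBasis_affineOpens.exists_subset_of_mem_open (Set.mem_univ x) isOpen_univ
      haveI : Nonempty V := ⟨⟨x, hxV⟩⟩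
      haveI : IsIntegrallyClosed Γ(X, V) := Groth.L19.NormalSec.isIntegrallyClosed_sections
        (fun y => Groth.L21.Smooth.isIntegrallyClosed_stalk (X ↘ Spec (CommRingCat.of k)) y) V
      haveI := functionField_isFractionRing_of_isAffineOpen X V hV
      obtain ⟨q, hq, hqT⟩ := hkill V hV
      obtain ⟨s, hs⟩ := coeff_minpoly_mem T q hq hqT i
      exact ⟨V, hxV, hmem V ⟨x, hxV⟩, s, hs⟩
    obtain ⟨c, hc⟩ := exists_appTop_eq (X ↘ Spec (CommRingCat.of k)) t
    exact ⟨c, by rw [hc, ht]⟩
  let j : k →+* X.functionField :=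
    ((Scheme.ΓSpecIso (CommRingCat.of k)).inv ≫ (X ↘ Spec (CommRingCat.of k)).appTop ≫
      X.presheaf.germ ⊤ (genericPoint X) trivial).hom
  have hlift : minpoly X.functionField T ∈ Polynomial.lifts j := by
    rw [Polynomial.lifts_iff_coeff_lifts]
    intro i
    obtain ⟨c, hc⟩ := hcoeff i
    exact ⟨c, hc.symm⟩
  have hirr := irreducible_minpoly T hint hinj
  obtain ⟨μ, hμ, hμd, hμm⟩ := Polynomial.lifts_and_degree_eq_and_monic hlift (minpoly.monic hint)
  obtain ⟨c, hc⟩ := IsAlgClosed.exists_root μ (by
    rw [hμd]
    exact (minpoly.degree_pos hint).ne')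
  have hroot : (minpoly X.functionField T).IsRoot (j c) := by
    rw [← hμ]; exact hc.map
  have hdeg := Polynomial.degree_eq_one_of_irreducible_of_root hirr hroot
  have hT : ∀ v, T v = j c • v := by
    intro v
    have he : minpoly X.functionField T = Polynomial.X - Polynomial.C (j c) := by
      rw [Polynomial.eq_X_add_C_of_degree_eq_one hdeg, (minpoly.monic hint).leadingCoeff,
        Polynomial.C_1, one_mul] at hroot ⊢
      rw [Polynomial.IsRoot, Polynomial.eval_add, Polynomial.eval_X, Polynomial.eval_C] at hroot
      rw [eq_neg_of_add_eq_zero_right hroot, map_neg, sub_eq_add_neg]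
    have h0 := minpoly.aeval X.functionField T
    rw [he, map_sub, Polynomial.aeval_X, Polynomial.aeval_C, sub_eq_zero] at h0
    rw [h0, Module.algebraMap_end_apply]
  refine ⟨c, fun ⟨U⟩ m => ?_⟩
  by_cases hU : (U : Set X).Nonempty
  · rw [← sub_eq_zero]
    refine Groth.L13.OrdSurf.section_eq_zero_of_generic F htf (hmem U hU) _ ?_
    refine (map_sub (F.presheaf.germ U (genericPoint X) (hmem U hU)).hom _ _).trans ?_
    rw [sub_eq_zero]
    refine (RefHull.stalkMapₗ_germ ψ' (genericPoint X) (hmem U hU) m).symm.trans ((hT _).trans ?_)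
    have hjc : X.presheaf.germ U (genericPoint X) (hmem U hU)
        ((X.presheaf.map (homOfLE (le_top (a := U))).op)
          (((X ↘ Spec (CommRingCat.of k)).appTop).hom ((Scheme.ΓSpecIso (CommRingCat.of k)).inv.hom c))) = j c :=
      TopCat.Presheaf.germ_res_apply X.presheaf _ _ _ _
    rw [← hjc]
    exact (Groth.L20.ModStalk.germ_smul F (hmem U hU) _ m).symm
  · refine TopCat.Presheaf.section_ext ((SheafOfModules.toSheaf A).obj M) U _ _ fun x hx => ?_
    exact absurd ⟨x, hx⟩ hU

end Groth.Agent.S19505
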