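import Groth.Statements.S9316
import Mathlib.RingTheory.HopkinsLevitzki
import Mathlib.LinearAlgebra.Basis.VectorSpace
import Mathlib.RingTheory.Ideal.Quotient.Nilpotent
import Mathlib.RingTheory.Length
import Mathlib.RingTheory.LocalRing.RingHom.Basic
import Mathlib.RingTheory.Ideal.Quotient.Operations
import Mathlib.Tactic.LinearCombination
import Mathlib.Algebra.Module.Torsion.Basic

set_option autoImplicit false
universe u
open CAlg

namespace Groth.Agent.S9316
open IsLocalRing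

section
variable {R S : Type u} [CommRing R] [CommRing S] [IsLocalRing R] [IsLocalRing S] [IsNoetherianRing S]
  [Algebra R S] [IsLocalHom (algebraMap R S)]

/-- The small extension lifting property. -/
def SmallLift (R S : Type u) [CommRing R] [CommRing S] [IsLocalRing R] [IsLocalRing S] [Algebra R S] : Prop :=
  ∀ (A : Type u) [CommRing A] [IsLocalRing A] [IsArtinianRing A] [Algebra R A]
        [IsLocalHom (algebraMap R A)] (J : Ideal A), J ^ 2 = ⊥ → Module.length A J = 1 →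
        ∀ [IsLocalRing (A ⧸ J)] (ψ : S →ₐ[R] A ⧸ J) [IsLocalHom ψ.toRingHom],
          Function.Bijective (ResidueField.map ψ.toRingHom) →
          ∃ χ : S →ₐ[R] A, (Ideal.Quotient.mkₐ R J).comp χ = ψ

omit [IsLocalHom (algebraMap R S)] in
theorem lift_of_length_one [IsLocalHom (algebraMap R S)] (H : SmallLift R S) {N : ℕ} (hN : N ≠ 0) (A : Type u)
    [CommRing A] [IsLocalRing A] [Algebra R A] (p : A →ₐ[R] S ⧸ maximalIdeal S ^ N)
    (hp : Function.Surjective p) (h2 : RingHom.ker p ^ 2 = ⊥)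
    (h1 : Module.length A (RingHom.ker p) = 1) :
    ∃ χ : S →ₐ[R] A, p.comp χ = Ideal.Quotient.mkₐ R (maximalIdeal S ^ N) := by
  have hne : maximalIdeal S ^ N ≠ ⊤ :=
    fun e => (maximalIdeal.isMaximal S).ne_top (top_le_iff.1 (e ▸ Ideal.pow_le_self hN))
  haveI : Nontrivial (S ⧸ maximalIdeal S ^ N) := Ideal.Quotient.nontrivial_iff.2 hne
  haveI : IsLocalRing (S ⧸ maximalIdeal S ^ N) := .of_surjective' _ Ideal.Quotient.mk_surjective
  haveI : IsArtinianRing (S ⧸ maximalIdeal S ^ N) := by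
    refine (isArtinianRing_iff_isNilpotent_maximalIdeal _).2 ⟨N, ?_⟩
    rw [Ideal.zero_eq_bot, eq_bot_iff]
    have hle : maximalIdeal (S ⧸ maximalIdeal S ^ N) ≤ (maximalIdeal S).map (Ideal.Quotient.mk _) := fun x hx => by
      obtain ⟨y, rfl⟩ := Ideal.Quotient.mk_surjective x
      exact Ideal.mem_map_of_mem _ ((mem_maximalIdeal _).2 fun hu => ((mem_maximalIdeal _).1 hx) (hu.map _))
    refine (Ideal.pow_right_mono hle N).trans ?_
    rw [← Ideal.map_pow, Ideal.map_quotient_self]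
  let J := RingHom.ker p
  let e : (A ⧸ J) ≃ₐ[R] S ⧸ maximalIdeal S ^ N := Ideal.quotientKerAlgEquivOfSurjective hp
  haveI : IsArtinianRing (A ⧸ J) := e.toRingEquiv.symm.isArtinianRing
  haveI : IsArtinian A (A ⧸ J) :=
    isArtinian_of_surjective_algebraMap (R := A ⧸ J) (M := A ⧸ J) Ideal.Quotient.mk_surjective
  haveI : IsSimpleModule A J := Module.length_eq_one_iff.1 h1
  haveI : IsArtinianRing A := (isArtinian_iff_submodule_quotient (J : Submodule A A)).2 ⟨inferInstance, inferInstance⟩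
  have hunit : ∀ a : A, IsUnit (p a) → IsUnit a := fun a ha => by
    refine (IsNilpotent.isUnit_quotient_mk_iff (I := J) ⟨2, h2⟩).1 ?_
    have := ha.map e.symm
    rwa [show e.symm (p a) = Ideal.Quotient.mk J a from (AlgEquiv.symm_apply_eq _).2 rfl] at this
  haveI : IsLocalHom (Ideal.Quotient.mk (maximalIdeal S ^ N)) := IsLocalHom.of_surjective _ Ideal.Quotient.mk_surjective
  haveI : Nontrivial (A ⧸ J) := e.toEquiv.nontrivial
  haveI : IsLocalHom (algebraMap R A) := ⟨fun r hr => by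
    have h := hr.map p
    rw [p.commutes, IsScalarTower.algebraMap_apply R S (S ⧸ maximalIdeal S ^ N)] at h
    refine IsUnit.of_map (algebraMap R S) r ?_
    by_contra hc
    exact (maximalIdeal.isMaximal (S ⧸ maximalIdeal S ^ N)).ne_top (Ideal.eq_top_of_isUnit_mem _
      (show (Ideal.Quotient.mk _ (algebraMap R S r)) ∈ maximalIdeal _ from
        (mem_maximalIdeal _).2 fun hu => hc ((isUnit_map_iff (Ideal.Quotient.mk _) _).1 hu)) h)⟩
  haveI : IsLocalRing (A ⧸ J) := IsLocalRing.of_surjective' (Ideal.Quotient.mk J) Ideal.Quotient.mk_surjective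
  let ψ : S →ₐ[R] A ⧸ J := e.symm.toAlgHom.comp (Ideal.Quotient.mkₐ R _)
  have hψs : Function.Surjective ψ := e.symm.surjective.comp Ideal.Quotient.mk_surjective
  haveI : IsLocalHom ψ.toRingHom := IsLocalHom.of_surjective _ hψs
  obtain ⟨χ, hχ⟩ := H A J h2 h1 ψ
    ⟨(ResidueField.map ψ.toRingHom).injective, fun y => by
      obtain ⟨x, rfl⟩ := residue_surjective y
      obtain ⟨s, rfl⟩ := hψs x
      exact ⟨residue _ s, ResidueField.map_residue _ _⟩⟩
  refine ⟨χ, AlgHom.ext fun s => ?_⟩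
  have := congrArg e (AlgHom.congr_fun hχ s)
  simpa [ψ, e, J] using this

theorem lift_of_killed (H : SmallLift R S) {N : ℕ} (hN : N ≠ 0) (B : Type u) [CommRing B] [Algebra R B]
    (p : B →ₐ[R] S ⧸ maximalIdeal S ^ N) (hp : Function.Surjective p)
    (hK : ∀ b v : B, p b ∈ (maximalIdeal S).map (Ideal.Quotient.mk _) → p v = 0 → b * v = 0) :
    ∃ χ : S →ₐ[R] B, p.comp χ = Ideal.Quotient.mkₐ R (maximalIdeal S ^ N) := by
  have hne : maximalIdeal S ^ N ≠ ⊤ :=
    fun e => (maximalIdeal.isMaximal S).ne_top (top_le_iff.1 (e ▸ Ideal.pow_le_self hN))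
  haveI : Nontrivial (S ⧸ maximalIdeal S ^ N) := Ideal.Quotient.nontrivial_iff.2 hne
  haveI : IsLocalRing (S ⧸ maximalIdeal S ^ N) := .of_surjective' _ Ideal.Quotient.mk_surjective
  have hsq : ∀ v w : B, p v = 0 → p w = 0 → v * w = 0 := fun v w hv hw => hK v w (hv ▸ zero_mem _) hw
  have hunit : ∀ b : B, IsUnit (p b) → IsUnit b := fun b hb => by
    obtain ⟨c, hc⟩ := hp (hb.unit⁻¹ : _)
    have hv : p (b * c - 1) = 0 := by rw [map_sub, map_mul, hc, map_one, IsUnit.mul_val_inv, sub_self]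
    refine IsUnit.of_mul_eq_one (a := b) (c * (2 - b * c)) ?_
    have := hsq _ _ hv hv
    linear_combination -this
  haveI : Nontrivial B := p.toRingHom.domain_nontrivial
  haveI : IsLocalHom p.toRingHom := ⟨hunit⟩
  haveI : IsLocalRing B := RingHom.domain_isLocalRing p.toRingHom
  let 𝔐 := maximalIdeal B
  let K : Ideal B := RingHom.ker p
  have h𝔐 : ∀ b ∈ 𝔐, p b ∈ (maximalIdeal S).map (Ideal.Quotient.mk (maximalIdeal S ^ N)) := fun b hb => by
    obtain ⟨s, hs⟩ := Ideal.Quotient.mk_surjective (p b)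
    rw [← hs]
    refine Ideal.mem_map_of_mem _ ((mem_maximalIdeal _).2 fun hu => (mem_maximalIdeal _).1 hb (hunit b ?_))
    rw [← hs]; exact hu.map _
  have hT : Module.IsTorsionBySet B K 𝔐 := fun v b => Subtype.ext (hK b v (h𝔐 b b.2) v.2)
  letI : Field (B ⧸ 𝔐) := Ideal.Quotient.field 𝔐
  letI : Module (B ⧸ 𝔐) K := hT.module
  haveI : IsScalarTower B (B ⧸ 𝔐) K := Module.IsTorsionBySet.isScalarTower hT
  let bas := Module.Basis.ofVectorSpace (B ⧸ 𝔐) K
  let ι := Module.Basis.ofVectorSpaceIndex (B ⧸ 𝔐) K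
  let coords : K →ₗ[B ⧸ 𝔐] (ι → B ⧸ 𝔐) := LinearMap.pi fun i => bas.coord i
  obtain ⟨r, hr⟩ := coords.exists_leftInverse_of_injective (LinearMap.ker_eq_bot'.2 fun v hv =>
    bas.repr.map_eq_zero_iff.1 (Finsupp.ext fun i => congrFun hv i))
  let L : ι → Ideal B := fun i => (LinearMap.ker ((bas.coord i).restrictScalars B)).map (Submodule.subtype K)
  have hLK : ∀ i, L i ≤ K := fun i => Submodule.map_subtype_le _ _
  have hL : ∀ i (v : K), (v : B) ∈ L i ↔ bas.coord i v = 0 := fun i v => by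
    refine ⟨?_, fun h => ⟨v, h, rfl⟩⟩
    rintro ⟨w, hw, hwv⟩
    obtain rfl : w = v := Subtype.ext hwv
    exact hw
  have small : ∀ i, ∃ χ : S →ₐ[R] B ⧸ L i,
      (Ideal.Quotient.liftₐ (L i) p fun b hb => hLK i hb).comp χ = Ideal.Quotient.mkₐ R _ := by
    intro i
    let q : B ⧸ L i →ₐ[R] S ⧸ maximalIdeal S ^ N := Ideal.Quotient.liftₐ (L i) p fun b hb => hLK i hb
    have hb0 : (bas i : B) ∉ L i := fun h => by simpa using (hL i (bas i)).1 h
    haveI : Nontrivial (B ⧸ L i) := Ideal.Quotient.nontrivial_iff.2 fun e => hb0 (e ▸ trivial)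
    haveI : IsLocalRing (B ⧸ L i) := .of_surjective' (Ideal.Quotient.mk (L i)) Ideal.Quotient.mk_surjective
    have hq : Function.Surjective q := fun x => by
      obtain ⟨b, rfl⟩ := hp x; exact ⟨Ideal.Quotient.mk _ b, rfl⟩
    have hker : ∀ x ∈ RingHom.ker q, ∃ v : K, Ideal.Quotient.mk (L i) (v : B) = x := fun x hx => by
      obtain ⟨b, rfl⟩ := Ideal.Quotient.mk_surjective x
      exact ⟨⟨b, hx⟩, rfl⟩
    have hsim : ∀ v : K, ∃ c : B, Ideal.Quotient.mk (L i) (v : B) = Ideal.Quotient.mk (L i) (c * (bas i : B)) := fun v => by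
      obtain ⟨c, hc⟩ := Ideal.Quotient.mk_surjective (bas.coord i v)
      refine ⟨c, Ideal.Quotient.eq.2 ((hL i (v - c • bas i)).2 ?_)⟩
      rw [map_sub, ← IsScalarTower.algebraMap_smul (B ⧸ 𝔐) c (bas i), map_smul, Ideal.Quotient.algebraMap_eq, hc]
      simp
    refine lift_of_length_one H hN (B ⧸ L i) q hq ?_ ?_
    · refine eq_bot_iff.2 ((pow_two _).le.trans (Ideal.mul_le.2 fun x hx y hy => ?_))
      obtain ⟨v, rfl⟩ := hker x hx
      obtain ⟨w, rfl⟩ := hker y hy
      rw [Submodule.mem_bot, ← map_mul, hsq _ _ v.2 w.2, map_zero]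
    · refine Module.length_eq_one_iff.2 (isSimpleModule_iff_toSpanSingleton_surjective.2
        ⟨⟨⟨⟨Ideal.Quotient.mk (L i) (bas i : B), (bas i).2⟩, 0, fun e => hb0 (Ideal.Quotient.eq_zero_iff_mem.1 (congrArg Subtype.val e))⟩⟩, ?_⟩)
      rintro ⟨x, hx⟩ hx0 ⟨y, hy⟩
      obtain ⟨v, hv⟩ := hker x hx
      obtain ⟨w, hw⟩ := hker y hy
      obtain ⟨c, hc⟩ := hsim v
      obtain ⟨d, hd⟩ := hsim w
      have hcu : IsUnit c := by
        by_contra hcu
        refine hx0 (Subtype.ext ?_)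
        show x = 0
        rw [← hv, hc, hK c _ (h𝔐 c ((mem_maximalIdeal _).2 hcu)) (bas i).2, map_zero]
      obtain ⟨c, rfl⟩ := hcu
      refine ⟨Ideal.Quotient.mk (L i) (d * (c⁻¹ : Bˣ)), Subtype.ext ?_⟩
      show _ * x = y
      rw [← hv, ← hw, hc, hd, LinearMap.id_apply, ← map_mul, mul_assoc d, Units.inv_mul_cancel_left]
  choose χ hχ using small
  have hex : ∀ i s a, p a = Ideal.Quotient.mk _ s → ∃ v : K, Ideal.Quotient.mk (L i) (a + v) = χ i s := fun i s a ha => by
    obtain ⟨b, hb⟩ := Ideal.Quotient.mk_surjective (χ i s)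
    refine ⟨⟨b - a, ?_⟩, by simpa using hb⟩
    have := AlgHom.congr_fun (hχ i) s
    rw [AlgHom.comp_apply, ← hb] at this
    rw [RingHom.mem_ker, map_sub, ha]
    exact sub_eq_zero.2 this
  classical
  let μ : S → B → ι → B ⧸ 𝔐 := fun s a i =>
    if ha : p a = Ideal.Quotient.mk _ s then bas.coord i (hex i s a ha).choose else 0
  have hμ : ∀ i s a (v : K), p a = Ideal.Quotient.mk _ s → Ideal.Quotient.mk (L i) (a + v) = χ i s →
      μ s a i = bas.coord i v := fun i s a v ha hv => by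
    simp only [μ, dif_pos ha]
    rw [← sub_eq_zero, ← map_sub, ← hL]
    have := (hex i s a ha).choose_spec.trans hv.symm
    rw [Ideal.Quotient.eq, add_sub_add_left_eq_sub] at this
    exact this
  let Ψ : S → B → B := fun s a => a + (r (μ s a) : K)
  have hΨ : ∀ s a a', p a = Ideal.Quotient.mk _ s → p a' = Ideal.Quotient.mk _ s → Ψ s a = Ψ s a' := fun s a a' ha ha' => by
    let w : K := ⟨a' - a, by rw [RingHom.mem_ker, map_sub, ha, ha', sub_self]⟩
    have hw : μ s a' = μ s a - coords w := funext fun i => by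
      obtain ⟨v, hv⟩ := hex i s a ha
      rw [hμ i s a' (v - w) ha' (by rw [← hv]; congr 1; show a' + ((v : B) - (a' - a)) = a + v; ring), map_sub,
        Pi.sub_apply, hμ i s a v ha hv]
      rfl
    show _ = a' + (r (μ s a') : K)
    rw [hw, map_sub, ← LinearMap.comp_apply, hr]
    show _ = a' + ((r (μ s a) : K) - (a' - a) : B)
    ring
  choose σ hσ using fun s => hp (Ideal.Quotient.mk (maximalIdeal S ^ N) s)
  refine ⟨{ toFun := fun s => Ψ s (σ s), map_one' := ?_, map_mul' := fun s t => ?_, map_zero' := ?_,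
            map_add' := fun s t => ?_, commutes' := fun c => ?_ }, ?_⟩
  · rw [hΨ 1 (σ 1) 1 (hσ 1) (by simp)]
    have h0 : μ 1 1 = 0 := funext fun i => by
      rw [hμ i 1 1 0 (by simp) (by simp), map_zero]; rfl
    simp [Ψ, h0]
  · rw [hΨ (s * t) (σ (s * t)) (σ s * σ t) (hσ _) (by rw [map_mul, hσ, hσ, map_mul])]
    have h0 : μ (s * t) (σ s * σ t) =
        Ideal.Quotient.mk 𝔐 (σ s) • μ t (σ t) + Ideal.Quotient.mk 𝔐 (σ t) • μ s (σ s) := funext fun i => by
      obtain ⟨v, hv⟩ := hex i s (σ s) (hσ s)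
      obtain ⟨w, hw⟩ := hex i t (σ t) (hσ t)
      have e1 := hμ i s (σ s) v (hσ s) hv
      have e2 := hμ i t (σ t) w (hσ t) hw
      rw [hμ i _ _ (σ s • w + σ t • v) (by rw [map_mul, hσ, hσ, map_mul]) (by
        rw [map_mul (χ i), ← hv, ← hw, ← map_mul]
        congr 1
        show _ + (σ s * (w : B) + σ t * (v : B)) = _
        linear_combination -(hsq _ _ v.2 w.2)), map_add,
        ← IsScalarTower.algebraMap_smul (B ⧸ 𝔐) (σ s) w, ← IsScalarTower.algebraMap_smul (B ⧸ 𝔐) (σ t) v,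
        map_smul, map_smul, Pi.add_apply, Pi.smul_apply, Pi.smul_apply, e1, e2]
      rfl
    simp only [Ψ, h0, map_add, map_smul, Submodule.coe_add]
    show _ + (σ s * (r (μ t (σ t)) : B) + σ t * (r (μ s (σ s)) : B)) = _
    linear_combination -(hsq _ _ (r (μ s (σ s))).2 (r (μ t (σ t))).2)
  · rw [hΨ 0 (σ 0) 0 (hσ 0) (by simp)]
    have h0 : μ 0 0 = 0 := funext fun i => by
      rw [hμ i 0 0 0 (by simp) (by simp), map_zero]; rfl
    simp [Ψ, h0]
  · rw [hΨ (s + t) (σ (s + t)) (σ s + σ t) (hσ _) (by rw [map_add, hσ, hσ, map_add])]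
    have h0 : μ (s + t) (σ s + σ t) = μ s (σ s) + μ t (σ t) := funext fun i => by
      obtain ⟨v, hv⟩ := hex i s (σ s) (hσ s)
      obtain ⟨w, hw⟩ := hex i t (σ t) (hσ t)
      have e1 := hμ i s (σ s) v (hσ s) hv
      have e2 := hμ i t (σ t) w (hσ t) hw
      rw [hμ i _ _ (v + w) (by rw [map_add, hσ, hσ, map_add]) (by
        rw [map_add (χ i), ← hv, ← hw, ← map_add]; congr 1; push_cast; ring), map_add, Pi.add_apply, e1, e2]
    simp only [Ψ, h0, map_add, Submodule.coe_add]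
    ring
  · show Ψ (algebraMap R S c) (σ (algebraMap R S c)) = _
    rw [hΨ _ (σ (algebraMap R S c)) (algebraMap R B c) (hσ _) (by rw [p.commutes]; rfl)]
    have h0 : μ (algebraMap R S c) (algebraMap R B c) = 0 := funext fun i => by
      rw [hμ i _ _ 0 (by rw [p.commutes]; rfl) (by simp), map_zero]; rfl
    simp [Ψ, h0]
  · refine AlgHom.ext fun s => ?_
    show p (σ s + (r (μ s (σ s)) : K)) = _
    rw [map_add, hσ, show p (r (μ s (σ s)) : B) = 0 from (r (μ s (σ s))).2, add_zero]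
    rfl

theorem lift_step (H : SmallLift R S) (A : Type u) [CommRing A] [Algebra R A] (J : Ideal A)
    (ψ : S →ₐ[R] A ⧸ J) {N : ℕ} (hN : N ≠ 0) (hψ : ∀ x ∈ maximalIdeal S ^ N, ψ x = 0)
    (hK : ∀ a : A, ∀ x ∈ maximalIdeal S, Ideal.Quotient.mk J a = ψ x → ∀ v ∈ J, a * v = 0) :
    ∃ χ : S →ₐ[R] A, (Ideal.Quotient.mkₐ R J).comp χ = ψ := by
  let f : A × (S ⧸ maximalIdeal S ^ N) →ₐ[R] A ⧸ J := (Ideal.Quotient.mkₐ R J).comp (AlgHom.fst R _ _)
  let g : A × (S ⧸ maximalIdeal S ^ N) →ₐ[R] A ⧸ J := (Ideal.Quotient.liftₐ _ ψ hψ).comp (AlgHom.snd R _ _)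
  let B := AlgHom.equalizer f g
  let p : B →ₐ[R] S ⧸ maximalIdeal S ^ N := (AlgHom.snd R _ _).comp B.val
  have hB : ∀ b : B, Ideal.Quotient.mk J b.1.1 = Ideal.Quotient.liftₐ _ ψ hψ b.1.2 := fun b => b.2
  have hp : Function.Surjective p := fun x => by
    obtain ⟨a, ha⟩ := Ideal.Quotient.mk_surjective (Ideal.Quotient.liftₐ _ ψ hψ x)
    exact ⟨⟨(a, x), ha⟩, rfl⟩
  obtain ⟨χ, hχ⟩ := lift_of_killed H hN B p hp fun b v hb hv => by
    obtain ⟨x, hx, hxb⟩ := (Ideal.mem_map_iff_of_surjective _ Ideal.Quotient.mk_surjective).1 hb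
    have hv' : v.1.2 = 0 := hv
    have hvJ : v.1.1 ∈ J := by rw [← Ideal.Quotient.eq_zero_iff_mem, hB, hv', map_zero]
    refine Subtype.ext (Prod.ext (hK _ x hx ?_ _ hvJ) ?_)
    · rw [hB, show b.1.2 = p b from rfl, ← hxb]; rfl
    · show b.1.2 * v.1.2 = 0
      rw [hv', mul_zero]
  refine ⟨(AlgHom.fst R _ _).comp (B.val.comp χ), AlgHom.ext fun s => ?_⟩
  show Ideal.Quotient.mk J (χ s).1.1 = _
  rw [hB, show (χ s).1.2 = p (χ s) from rfl, show p (χ s) = Ideal.Quotient.mk _ s from AlgHom.congr_fun hχ s]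
  rfl

end

end Groth.Agent.S9316

open IsLocalRing

namespace Groth.Agent.S9316

open IsLocalRing in
/-- Let `R → S` be a local homomorphism of local rings with `S` Noetherian. Then `R → S` is formally
smooth for the adic topology of the maximal ideal of `S` if and only if lifts exist along small
extensions: for every Artinian local ring `A` with a local structure map `R → A`, every ideal `J` of
`A` of square zero which has length one as an `A`-module, and every local `R`-algebra homomorphism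
`ψ : S → A/J` inducing a bijection on residue fields, there is an `R`-algebra homomorphism `S → A`
lifting `ψ`. -/
theorem result {R S : Type u} [CommRing R] [CommRing S]
    [IsLocalRing R] [IsLocalRing S] [IsNoetherianRing S] [Algebra R S] [IsLocalHom (algebraMap R S)] :
    CAlgX.IsAdicFormallySmooth R S (maximalIdeal S) ↔
      ∀ (A : Type u) [CommRing A] [IsLocalRing A] [IsArtinianRing A] [Algebra R A]
        [IsLocalHom (algebraMap R A)] (J : Ideal A), J ^ 2 = ⊥ → Module.length A J = 1 →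
        ∀ [IsLocalRing (A ⧸ J)] (ψ : S →ₐ[R] A ⧸ J) [IsLocalHom ψ.toRingHom],
          Function.Bijective (ResidueField.map ψ.toRingHom) →
          ∃ χ : S →ₐ[R] A, (Ideal.Quotient.mkₐ R J).comp χ = ψ := by
  constructor
  · intro h A _ _ _ _ _ J hJ _ _ ψ _ _
    obtain ⟨k, hk⟩ := IsArtinianRing.isNilpotent_jacobson_bot (R := A ⧸ J)
    refine h A J hJ ψ ⟨k, fun x hx => ?_⟩
    have h1 : ψ x ∈ maximalIdeal (A ⧸ J) ^ k := by
      have hle : (maximalIdeal S).map ψ.toRingHom ≤ maximalIdeal (A ⧸ J) :=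
        ((IsLocalRing.local_hom_TFAE ψ.toRingHom).out 0 2).1 ‹IsLocalHom ψ.toRingHom›
      refine Ideal.pow_right_mono hle k ?_
      rw [← Ideal.map_pow]; exact Ideal.mem_map_of_mem _ hx
    rw [← IsLocalRing.jacobson_eq_maximalIdeal (⊥ : Ideal (A ⧸ J)) bot_ne_top, hk] at h1
    exact h1
  intro H A _ _ J hJ ψ ⟨k₀, hk₀⟩
  let k := k₀ + 1
  have hk : ∀ x ∈ maximalIdeal S ^ k, ψ x = 0 := fun x hx => hk₀ x (Ideal.pow_le_pow_right (Nat.le_succ _) hx)
  let n : Ideal A := ((maximalIdeal S).map ψ.toRingHom).comap (Ideal.Quotient.mk J)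
  have hnk : n ^ k ≤ J := by
    rw [← Ideal.mk_ker (I := J), RingHom.ker_eq_comap_bot, ← Ideal.map_le_iff_le_comap, Ideal.map_pow]
    refine (Ideal.pow_right_mono Ideal.map_comap_le k).trans ?_
    rw [← Ideal.map_pow, Ideal.map_le_iff_le_comap]
    exact fun x hx => hk x hx
  have hJ0 : J * J = ⊥ := (pow_two J).symm.trans hJ
  have key : ∀ i, ∃ χ : S →ₐ[R] A ⧸ n ^ i * J,
      (Ideal.Quotient.factorₐ R (Ideal.mul_le_right : n ^ i * J ≤ J)).comp χ = ψ := by
    intro i
    induction i with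
    | zero =>
      have h0 : J ≤ n ^ 0 * J := by rw [pow_zero, one_mul]
      refine ⟨(Ideal.Quotient.factorₐ R h0).comp ψ, AlgHom.ext fun s => ?_⟩
      obtain ⟨a, ha⟩ := Ideal.Quotient.mk_surjective (ψ s)
      simp only [AlgHom.comp_apply, ← ha]
      rfl
    | succ i ih =>
      obtain ⟨χ, hχ⟩ := ih
      have hle : n ^ (i + 1) * J ≤ n ^ i * J := Ideal.mul_mono_left (Ideal.pow_le_pow_right (Nat.le_succ i))
      let J' : Ideal (A ⧸ n ^ (i + 1) * J) := (n ^ i * J).map (Ideal.Quotient.mkₐ R _)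
      let e : ((A ⧸ n ^ (i + 1) * J) ⧸ J') ≃ₐ[R] A ⧸ n ^ i * J := DoubleQuot.quotQuotEquivQuotOfLEₐ R hle
      have hn : ∀ a : A, ∀ x ∈ maximalIdeal S, Ideal.Quotient.mk (n ^ i * J) a = χ x → a ∈ n := by
        intro a x hx ha
        have := AlgHom.congr_fun hχ x
        rw [AlgHom.comp_apply, ← ha] at this
        show Ideal.Quotient.mk J a ∈ (maximalIdeal S).map ψ.toRingHom
        rw [show Ideal.Quotient.mk J a = ψ x from this]
        exact Ideal.mem_map_of_mem _ hx
      have he : ∀ a : A, e (Ideal.Quotient.mk J' (Ideal.Quotient.mk (n ^ (i + 1) * J) a)) = Ideal.Quotient.mk (n ^ i * J) a :=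
        fun a => rfl
      have hkill : ∀ x ∈ maximalIdeal S ^ (2 * k), e.symm.toAlgHom.comp χ x = 0 := fun x hx => by
        have hle' : (maximalIdeal S).map χ.toRingHom ≤ n.map (Ideal.Quotient.mk (n ^ i * J)) :=
          Ideal.map_le_iff_le_comap.2 fun y hy => by
            obtain ⟨a, ha⟩ := Ideal.Quotient.mk_surjective (χ y)
            rw [Ideal.mem_comap]
            show χ y ∈ _
            rw [← ha]; exact Ideal.mem_map_of_mem _ (hn a y hy ha)
        have h1 : χ x ∈ (n ^ (2 * k)).map (Ideal.Quotient.mk (n ^ i * J)) := by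
          rw [Ideal.map_pow]
          refine Ideal.pow_right_mono hle' _ ?_
          rw [← Ideal.map_pow]; exact Ideal.mem_map_of_mem _ hx
        rw [show n ^ (2 * k) = ⊥ from eq_bot_iff.2 (by rw [mul_comm, pow_mul, ← hJ]; exact Ideal.pow_right_mono hnk 2),
          Ideal.map_bot, Submodule.mem_bot] at h1
        rw [AlgHom.comp_apply, h1, map_zero]
      obtain ⟨χ', hχ'⟩ := Groth.Agent.S9316.lift_step H _ J' (e.symm.toAlgHom.comp χ) (by omega : 2 * k ≠ 0) hkill (by
        intro a x hx hax v hv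
        obtain ⟨a, rfl⟩ := Ideal.Quotient.mk_surjective a
        obtain ⟨v, hv', rfl⟩ := (Ideal.mem_map_iff_of_surjective _ Ideal.Quotient.mk_surjective).1 hv
        have han : a ∈ n := hn a x hx (by
          have := congrArg e hax
          rw [he] at this
          simpa using this)
        show Ideal.Quotient.mk (n ^ (i + 1) * J) a * Ideal.Quotient.mk (n ^ (i + 1) * J) v = 0
        rw [← map_mul, Ideal.Quotient.eq_zero_iff_mem, pow_succ', mul_assoc]
        exact Ideal.mul_mem_mul han hv')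
      refine ⟨χ', AlgHom.ext fun s => ?_⟩
      obtain ⟨a, ha⟩ := Ideal.Quotient.mk_surjective (χ' s)
      have h1 := congrArg e (AlgHom.congr_fun hχ' s)
      simp only [AlgHom.comp_apply, Ideal.Quotient.mkₐ_eq_mk, ← ha, he, AlgEquiv.coe_toAlgHom, AlgEquiv.apply_symm_apply] at h1
      rw [← hχ, AlgHom.comp_apply, AlgHom.comp_apply, ← ha, ← h1]
      rfl
  obtain ⟨χ, hχ⟩ := key k
  have h0 : n ^ k * J ≤ ⊥ := (Ideal.mul_mono_left hnk).trans hJ0.le
  refine ⟨(AlgEquiv.quotientBot R A).toAlgHom.comp ((Ideal.Quotient.factorₐ R h0).comp χ), AlgHom.ext fun s => ?_⟩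
  obtain ⟨a, ha⟩ := Ideal.Quotient.mk_surjective (χ s)
  rw [← hχ]
  simp only [AlgHom.comp_apply, ← ha]
  rfl

end Groth.Agent.S9316
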