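import Groth.Statements.S19506
import Groth.Agent.L06.FormSmooth
import Groth.Agent.S9316
import Mathlib.RingTheory.Artinian.Ring
import Mathlib.RingTheory.Smooth.Basic

set_option autoImplicit false
universe u
open CAlg

namespace Groth.Agent.S19506

/-- (i) ⇔ (iii): let k be a field and A a complete local Noetherian k-algebra with residue field k (a
k-algebra map π : A → k with kernel the maximal ideal; A complete for the adic topology of its
maximal ideal). Then A is regular if and only if A satisfies the infinitesimal lifting criterion:
for every Artinian local k-algebra R and every ideal J of R of square zero, every local k-algebra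
homomorphism A → R/J (one carrying non-units to non-units) lifts to a k-algebra homomorphism A → R.
(The test algebras R range over one universe, that of A. The published criterion is worded for
arbitrary k-algebra homomorphisms A → R/J; it is stated here for local ones, the case the argument
establishes and the form in which the text itself restates the criterion afterwards. The published
statement lists a third equivalent condition, A ≅ k[[x_1, …, x_d]].) -/
theorem result (k A : Type u) [Field k]
    [CommRing A] [Algebra k A] [IsLocalRing A] [IsNoetherianRing A]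
    [IsAdicComplete (IsLocalRing.maximalIdeal A) A]
    (π : A →ₐ[k] k) (hπ : RingHom.ker π = IsLocalRing.maximalIdeal A) :
    IsRegularLocalRing A ↔
      ∀ (R : Type u) [CommRing R] [Algebra k R] [IsArtinianRing R] [IsLocalRing R] (J : Ideal R),
        J ^ 2 = ⊥ → ∀ f : A →ₐ[k] R ⧸ J, IsLocalHom (f : A →+* R ⧸ J) →
          ∃ g : A →ₐ[k] R, (Ideal.Quotient.mkₐ k J).comp g = f := by
  classical
  have hbij : Function.Bijective (algebraMap k (IsLocalRing.ResidueField A)) := by
    refine ⟨(algebraMap k (IsLocalRing.ResidueField A)).injective, fun z => ?_⟩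
    obtain ⟨a, rfl⟩ := IsLocalRing.residue_surjective z
    refine ⟨π a, ?_⟩
    rw [IsScalarTower.algebraMap_apply k A (IsLocalRing.ResidueField A), IsLocalRing.ResidueField.algebraMap_eq]
    refine (Ideal.Quotient.eq).mpr ?_
    rw [← hπ, RingHom.mem_ker, map_sub, AlgHom.commutes]
    simp
  haveI : Algebra.FormallySmooth k (IsLocalRing.ResidueField A) :=
    Algebra.FormallySmooth.of_equiv (AlgEquiv.ofBijective (Algebra.ofId k (IsLocalRing.ResidueField A)) hbij)
  have hlocal : ∀ (R : Type u) [CommRing R] [IsLocalRing R] [Algebra k R], IsLocalHom (algebraMap k R) := fun R _ _ _ =>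
    ⟨fun a ha => isUnit_iff_ne_zero.mpr fun h => by simp [h] at ha⟩
  haveI := hlocal A
  constructor
  · intro hreg R _ _ _ _ J hJ f hf
    have h := Groth.L06.FormSmooth.adicSmooth_of_regular (k := k) (A := A)
    refine h R J hJ f ?_
    haveI : Nontrivial (R ⧸ J) := Ideal.Quotient.nontrivial_iff.mpr (fun e => by
      rw [e] at hJ
      rw [← Ideal.one_eq_top, one_pow, Ideal.one_eq_top] at hJ
      exact top_ne_bot hJ)
    haveI : IsLocalRing (R ⧸ J) := IsLocalRing.of_surjective' (Ideal.Quotient.mk J) Ideal.Quotient.mk_surjective
    obtain ⟨N, hN⟩ := (IsArtinianRing.isNilpotent_jacobson_bot (R := R ⧸ J))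
    refine ⟨N, fun x hx => ?_⟩
    have hle : (IsLocalRing.maximalIdeal A).map (f : A →+* R ⧸ J) ≤ Ideal.jacobson ⊥ := by
      rw [IsLocalRing.jacobson_eq_maximalIdeal _ bot_ne_top, Ideal.map_le_iff_le_comap]
      intro a ha hu
      exact ha (hf.map_nonunit a hu)
    have h0 := Ideal.mem_map_of_mem (f : A →+* R ⧸ J) hx
    rw [Ideal.map_pow] at h0
    have := Ideal.pow_right_mono hle N h0
    rw [hN] at this
    exact this
  · intro H
    refine Groth.L06.FormSmooth.regular_of_adicSmooth (k := k) (A := A) (Groth.Agent.S9316.result.mpr ?_)
    intro R _ _ _ _ _ J hJ _ _ ψ hψ _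
    exact H R J hJ ψ hψ

end Groth.Agent.S19506
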