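import Groth.Statements.S19509
import Groth.Agent.L26.Neron.Torsion

set_option autoImplicit false
universe u
open CategoryTheory MonoidalCategory CartesianMonoidalCategory MonObj GrpObj AlgebraicGeometry
open Neron

namespace Groth.Agent.S19509

/-- Let R be a complete discrete valuation ring whose fraction field K has characteristic zero and whose
residue field k has characteristic p > 0, and let N be a commutative R-group scheme which is a Néron
model of its generic fibre, an abelian variety over K. Then the torsion of order prime to p of N(R)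
= A(K) injects into the special fibre under reduction: a section x with x^n = 1, n ≥ 1 prime to p,
whose value at the closed point of Spec R is the identity point of the special fibre, is the unit
section. -/
theorem result (R : Type u) [CommRing R] [IsDomain R]
    [IsDiscreteValuationRing R] [IsAdicComplete (IsLocalRing.maximalIdeal R) R] (K : Type u) [Field K] [Algebra R K]
    [IsFractionRing R K] [CharZero K] (p : ℕ) [Fact p.Prime] [CharP (IsLocalRing.ResidueField R) p]
    (N : Over (Spec (CommRingCat.of R))) [GrpObj N] [IsCommMonObj N] (hN : SGA7.IsNeron R K N)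
    [IsProper ((SGA7.genFib R K).obj N).hom] [GeometricallyIntegral ((SGA7.genFib R K).obj N).hom]
    (x : 𝟙_ (Over (Spec (CommRingCat.of R))) ⟶ N) (n : ℕ) (hn : 0 < n) (hx : x ^ n = 1)
    (hred : x.left.base (IsLocalRing.closedPoint R) = (η[N]).left.base (IsLocalRing.closedPoint R))
    (hnp : Nat.Coprime n p) : x = 1 := by
  obtain ⟨hsm, hsep, -, -⟩ := hN
  haveI := hsm
  haveI := hsep
  have hnR : IsUnit (n : R) := by
    refine (IsLocalRing.residue_ne_zero_iff_isUnit _).1 ?_
    rw [map_natCast, Ne, CharP.cast_eq_zero_iff (IsLocalRing.ResidueField R) p]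
    exact (Fact.out : p.Prime).coprime_iff_not_dvd.1 hnp.symm
  have hn' : ∀ s : ↥(Spec (CommRingCat.of R)), (n : (Spec (CommRingCat.of R)).residueField s) ≠ 0 := by
    intro s
    have h := hnR.map ((Scheme.ΓSpecIso (CommRingCat.of R)).inv ≫
      (Spec (CommRingCat.of R)).evaluation ⊤ s trivial).hom
    rw [map_natCast] at h
    exact h.ne_zero
  haveI : ConnectedSpace ↥(𝟙_ (Over (Spec (CommRingCat.of R)))).left :=
    inferInstanceAs (ConnectedSpace (PrimeSpectrum R))
  let j : Over.mk (Spec.map (CommRingCat.ofHom (IsLocalRing.residue R))) ⟶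
      𝟙_ (Over (Spec (CommRingCat.of R))) := toUnit _
  haveI : Nonempty ↥(Over.mk (Spec.map (CommRingCat.ofHom (IsLocalRing.residue R)))).left :=
    inferInstanceAs (Nonempty (PrimeSpectrum (IsLocalRing.ResidueField R)))
  refine Groth.Agent.Neron.Torsion.eq_of_torsion hn' x 1 hx (one_pow n) j ?_
  ext1
  refine Groth.Agent.Neron.Torsion.eq_of_apply_eq (IsLocalRing.residue R) IsLocalRing.residue_surjective N.hom
    (Over.w (j ≫ x)) (Over.w (j ≫ 1)) ?_
  have h0 : (Spec.map (CommRingCat.ofHom (IsLocalRing.residue R))).base
      (IsLocalRing.closedPoint (IsLocalRing.ResidueField R)) = IsLocalRing.closedPoint R := by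
    exact IsLocalRing.comap_closedPoint (IsLocalRing.residue R)
  have h1 : (1 : 𝟙_ (Over (Spec (CommRingCat.of R))) ⟶ N) = η[N] := by
    rw [Hom.one_def, toUnit_unit, Category.id_comp]
  rw [h1]
  show x.left.base ((Spec.map (CommRingCat.ofHom (IsLocalRing.residue R))).base _) =
    (η[N]).left.base ((Spec.map (CommRingCat.ofHom (IsLocalRing.residue R))).base _)
  rw [h0]
  exact hred

end Groth.Agent.S19509
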