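import Groth.Statements.S1951
import Groth.Agent.L22.IntMult.ProdTor
import Groth.Agent.S1582
-- import your own Groth.Agent.* helpers here

set_option autoImplicit false
universe u
open CategoryTheory CategoryTheory.Limits AlgebraicGeometry
attribute [local instance] HasDerivedCategory.standard
open IntMult

namespace Groth.Agent.S1951

/-- Let X, Y be nonsingular varieties over K of dimensions n, m, α an r-cycle on X and β an s-cycle on
Y. Then pr_X^*α and pr_Y^*β (flat pullbacks to X ×_K Y, of relative dimensions m and n) intersect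
properly on X ×_K Y and pr_X^*α · pr_Y^*β = α × β as (r + s)-cycles, coefficientwise. Here X is a
nonsingular variety over the algebraically closed field K (smooth, separated, quasi-compact,
integral) with dimension function δ (transcendence degree) and n = dim X; cycles are Mathlib
AlgebraicCycles with Cyc.Zk membership, proper intersection is IntMult.IntersectProperly and α · β
is the Tor-formula intersection product on coefficient functions (IntMult.interProd), bundled where
needed as 'any cycle with these coefficients'. -/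
theorem result (K : Type u) [Field K] [IsAlgClosed K] (X Y : Scheme.{u}) (f : X ⟶ Spec (CommRingCat.of K)) (g : Y ⟶ Spec (CommRingCat.of K)) [Smooth f] [IsSeparated f] [QuasiCompact f] [IsIntegral X] [Smooth g] [IsSeparated g] [QuasiCompact g] [IsIntegral Y] (δX : X → ℤ) (δY : Y → ℤ) (δ : ↥(pullback f g) → ℤ) (hX : Cyc.DeltaCompat f δX (fun _ => 0)) (hY : Cyc.DeltaCompat g δY (fun _ => 0)) (hXY : Cyc.DeltaCompat (pullback.fst f g ≫ f) δ (fun _ => 0)) (n m : ℕ) (hn : δX (genericPoint X) = n) (hm : δY (genericPoint Y) = m) (r s : ℤ) (α : AlgebraicCycle X ℤ) (β : AlgebraicCycle Y ℤ) (hα : α ∈ Cyc.Zk X δX r) (hβ : β ∈ Cyc.Zk Y δY s) : IntMult.IntersectProperly δ (n + m) (Cyc.pullFun (pullback.fst f g) δ δX m ⇑α) (Cyc.pullFun (pullback.snd f g) δ δY n ⇑β) ∧ IntMult.interProd δ (n + m) (Cyc.pullFun (pullback.fst f g) δ δX m ⇑α) (Cyc.pullFun (pullback.snd f g) δ δY n ⇑β) = IntMult.extProd f g δX δY δ ⇑α ⇑β := by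
  haveI := Groth.Agent.S1582.result K X Y f g
  have hk := Groth.L21.RefK.isSetup_spec_field K
  obtain ⟨δX', hXs, e1⟩ := Groth.L22.Cyc.exists_setup f hk
  obtain rfl := Groth.L22.Bundle.delta_unique e1 hX
  obtain ⟨δY', hYs, e2⟩ := Groth.L22.Cyc.exists_setup g hk
  obtain rfl := Groth.L22.Bundle.delta_unique e2 hY
  obtain ⟨δP', hPs, e3⟩ := Groth.L22.Cyc.exists_setup (pullback.fst f g ≫ f) hk
  obtain rfl := Groth.L22.Bundle.delta_unique e3 hXY
  haveI := hPs.1
  haveI : Flat f := Groth.L00.BddFib.flat_toField f
  haveI : Flat g := Groth.L00.BddFib.flat_toField g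
  have sq := IsPullback.of_hasPullback f g
  have hnm := Groth.L22.IntMult.delta_generic_prod sq hX hY hXY
  rw [hn, hm] at hnm
  exact Groth.L22.IntMult.prod_formula sq hX hY hXY hXs hYs hPs hn hm hnm α β hα hβ

end Groth.Agent.S1951
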