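import Groth.Statements.S19510
import Groth.Agent.S19509
import Groth.Agent.Lead.SmallRamTorsion

set_option linter.style.haveILetI false
open Groth.Agent.Lead.SmallRamTorsion


set_option autoImplicit false
universe u
open CategoryTheory MonoidalCategory CartesianMonoidalCategory MonObj GrpObj AlgebraicGeometry
open Neron

namespace Groth.Agent.S19510

/-- Let R be a complete discrete valuation ring whose fraction field K has characteristic zero and whose
residue field has characteristic p > 0, with absolute ramification small in the sense that v(p) < p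
− 1 for the normalised valuation, i.e. p does not lie in the (p − 1)-st power of the maximal ideal.
Let N be a commutative R-group scheme which is a Néron model of its generic fibre, an abelian
variety over K. Then all torsion of N(R) = A(K) injects into the special fibre under reduction: a
section x with x^n = 1 for some n ≥ 1 whose value at the closed point is the identity point is the
unit section. -/
theorem result (R : Type u) [CommRing R] [IsDomain R]
    [IsDiscreteValuationRing R] [IsAdicComplete (IsLocalRing.maximalIdeal R) R] (K : Type u) [Field K] [Algebra R K]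
    [IsFractionRing R K] [CharZero K] (p : ℕ) [Fact p.Prime] [CharP (IsLocalRing.ResidueField R) p]
    (N : Over (Spec (CommRingCat.of R))) [GrpObj N] [IsCommMonObj N] (hN : SGA7.IsNeron R K N)
    [IsProper ((SGA7.genFib R K).obj N).hom] [GeometricallyIntegral ((SGA7.genFib R K).obj N).hom]
    (x : 𝟙_ (Over (Spec (CommRingCat.of R))) ⟶ N) (n : ℕ) (hn : 0 < n) (hx : x ^ n = 1)
    (hred : x.left.base (IsLocalRing.closedPoint R) = (η[N]).left.base (IsLocalRing.closedPoint R))
    (hv : (p : R) ∉ IsLocalRing.maximalIdeal R ^ (p - 1)) : x = 1 := by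

  let g : 𝟙_ (Over (Spec (CommRingCat.of R))) ⟶ Sp (R := R) R :=
    Over.homMk (𝟙 _) ((Category.id_comp _).trans (Spec.map_id _))
  let t : Sp (R := R) R ⟶ 𝟙_ (Over (Spec (CommRingCat.of R))) := toUnit _
  have hgt : ∀ w : 𝟙_ (Over (Spec (CommRingCat.of R))) ⟶ N, g ≫ t ≫ w = w := fun w => by
    rw [← Category.assoc, toUnit_unique (g ≫ t) (𝟙 _), Category.id_comp]
  have hbase : ∀ w : Sp (R := R) R ⟶ N, (g ≫ w).left (IsLocalRing.closedPoint R) = w.left (IsLocalRing.closedPoint R) :=
    fun w => rfl
  have hone : (1 : 𝟙_ (Over (Spec (CommRingCat.of R))) ⟶ N) = η[N] := by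
    rw [Hom.one_def, toUnit_unit, Category.id_comp]
  let x' := t ≫ x
  have hred' : x'.left (IsLocalRing.closedPoint R) = (1 : Sp (R := R) R ⟶ N).left (IsLocalRing.closedPoint R) := by
    rw [← hbase, ← hbase, hgt, MonObj.comp_one, hone]
    exact hred
  have hκ := res_eq_one (k := IsLocalRing.ResidueField R) Ideal.Quotient.mk_surjective x' hred'
  have hpow : ∀ j : ℕ, (x' ^ j).left (IsLocalRing.closedPoint R) =
      (1 : Sp (R := R) R ⟶ N).left (IsLocalRing.closedPoint R) := by
    intro j
    have h : res (Algebra.ofId R (IsLocalRing.ResidueField R)) ≫ x' ^ j =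
        res (Algebra.ofId R (IsLocalRing.ResidueField R)) ≫ 1 := by
      rw [MonObj.comp_pow, hκ, one_pow, MonObj.comp_one]
    have h' := congrArg (fun z => z.left (IsLocalRing.closedPoint (IsLocalRing.ResidueField R))) h
    have h0 : (res (Algebra.ofId R (IsLocalRing.ResidueField R))).left
        (IsLocalRing.closedPoint (IsLocalRing.ResidueField R)) = IsLocalRing.closedPoint R :=
      IsLocalRing.comap_closedPoint (IsLocalRing.residue R)
    simp only [Over.comp_left, Scheme.Hom.comp_apply] at h'
    rw [h0] at h'
    exact h'
  obtain ⟨a, m, hm, rfl⟩ := Nat.exists_eq_pow_mul_and_not_dvd hn.ne' p (Fact.out : p.Prime).ne_one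
  have hm0 : 0 < m := Nat.pos_of_mul_pos_left hn
  have h1 : x' ^ (p ^ a) = 1 := by
    have h := Groth.Agent.S19509.result R K p N hN (g ≫ x' ^ (p ^ a)) m hm0
      (by rw [← MonObj.comp_pow, ← pow_mul, ← MonObj.comp_pow, hx, MonObj.comp_one, MonObj.comp_one])
      (by
        show ((g ≫ x' ^ (p ^ a)).left) (IsLocalRing.closedPoint R) = _
        rw [hbase, hpow, ← hbase, MonObj.comp_one, hone])
      ((Nat.coprime_comm).1 ((Fact.out : p.Prime).coprime_iff_not_dvd.2 hm))
    have := congrArg (t ≫ ·) h
    simp only [MonObj.comp_one] at this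
    rwa [← Category.assoc, show t ≫ g = 𝟙 _ from Over.OverMorphism.ext ((Category.comp_id _).trans (Spec.map_id _)),
      Category.id_comp] at this
  suffices h : x' = 1 by
    rw [← hgt x, show t ≫ x = 1 from h, MonObj.comp_one]
  clear hx hn
  induction a with
  | zero => simpa using h1
  | succ a ih =>
    refine ih ?_
    exact eq_one (Fact.out : p.Prime) hv _ (by rw [← pow_mul, ← pow_succ]; exact h1) (hpow _)


end Groth.Agent.S19510
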