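import Groth.Statements.S19514
import Groth.Agent.L22.Fibration
-- import your own Groth.Agent.* helpers here

set_option autoImplicit false
universe u
open CategoryTheory CategoryTheory.Limits AlgebraicGeometry
open Variety

namespace Groth.Agent.S19514

/-- Let k be a field and f : X → Y a k-morphism between proper k-schemes which is a fibration, i.e. O_Y
→ f_*O_X is an isomorphism (Γ(V, O_Y) → Γ(f⁻¹V, O_X) bijective for every open V ⊆ Y). If X is
geometrically integral over k, then so is Y. (The assertion of (iii) for geometric normality is not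
stated here.) -/
theorem result (k : Type u) [Field k] (X Y : Scheme.{u})
    [X.Over (Spec (CommRingCat.of k))] [Y.Over (Spec (CommRingCat.of k))] [IsProper (X ↘ Spec (CommRingCat.of k))] [IsProper (Y ↘ Spec (CommRingCat.of k))]
    (f : X ⟶ Y) (hf : f ≫ (Y ↘ Spec (CommRingCat.of k)) = X ↘ Spec (CommRingCat.of k)) (hfib : ∀ V : Y.Opens, IsIso (f.app V))
    [GeometricallyIntegral (X ↘ Spec (CommRingCat.of k))] : GeometricallyIntegral (Y ↘ Spec (CommRingCat.of k)) := by
  refine ⟨fun K _ c Z fst snd hZ => ?_⟩
  obtain ⟨f', -, hp, hiso⟩ := Groth.L22.Fibration.exists_bc f hf hfib c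
    (IsPullback.of_hasPullback (X ↘ Spec (CommRingCat.of k)) c) hZ
  haveI := hp
  haveI : AlgebraicGeometry.IsIntegral (pullback (X ↘ Spec (CommRingCat.of k)) c) :=
    GeometricallyIntegral.geometrically_isIntegral c _ _ (IsPullback.of_hasPullback _ _)
  exact Groth.L22.Fibration.isIntegral f' hiso

end Groth.Agent.S19514
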