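import Groth.Statements.S19518
import Groth.Agent.L16.RadQuot.Surj

set_option autoImplicit false
universe u
open CategoryTheory CategoryTheory.Limits MonoidalCategory CartesianMonoidalCategory MonObj GrpObj AlgebraicGeometry
open AlgGrp

namespace Groth.Agent.S19518

/-- Over an algebraically closed field k let e → K → G → Q → e be an exact sequence of k-group schemes
of finite type with G smooth and affine (i : K → G a closed subgroup scheme which is the kernel of
the flat surjective homomorphism π : G → Q), and let G_solv ⊆ G and Q_solv ⊆ Q be the largest smooth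
connected solvable normal closed subgroup schemes. Then π maps G_solv into Q_solv and the induced
homomorphism G_solv → Q_solv is surjective. (The published proposition is stated for arbitrary
algebraic groups; G is taken smooth, as the argument requires, and affine, the setting in which the
solvable part is considered.) -/
theorem result (k : Type u) [Field k] [IsAlgClosed k]
    (K G Q : Over (Spec (CommRingCat.of k))) [GrpObj K] [GrpObj G] [GrpObj Q]
    [QuasiCompact K.hom] [LocallyOfFiniteType K.hom] [Smooth G.hom] [QuasiCompact G.hom] [IsAffine G.left]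
    [QuasiCompact Q.hom] [LocallyOfFiniteType Q.hom]
    (i : K ⟶ G) [IsMonHom i] [IsClosedImmersion i.left]
    (π : G ⟶ Q) [IsMonHom π] [Flat π.left] [Surjective π.left] (hker : AlgGrp.IsKernel i π)
    (NG : Over (Spec (CommRingCat.of k))) [GrpObj NG] (iG : NG ⟶ G) [IsMonHom iG] [IsClosedImmersion iG.left]
    [Smooth NG.hom] [ConnectedSpace ↥NG.left] (hNGs : Red.IsSolvableGrp NG) (hNG : AlgGrp.IsNormalHom iG)
    (hNGmax : (∀ (N' : Over (Spec (CommRingCat.of k))) [GrpObj N'] (i' : N' ⟶ G) [IsMonHom i'] [IsClosedImmersion i'.left]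
      [Smooth N'.hom] [ConnectedSpace ↥N'.left], Red.IsSolvableGrp N' → AlgGrp.IsNormalHom i' → ∃ f : N' ⟶ NG, f ≫ iG = i'))
    (NQ : Over (Spec (CommRingCat.of k))) [GrpObj NQ] (iQ : NQ ⟶ Q) [IsMonHom iQ] [IsClosedImmersion iQ.left]
    [Smooth NQ.hom] [ConnectedSpace ↥NQ.left] (hNQs : Red.IsSolvableGrp NQ) (hNQ : AlgGrp.IsNormalHom iQ)
    (hNQmax : (∀ (N' : Over (Spec (CommRingCat.of k))) [GrpObj N'] (i' : N' ⟶ Q) [IsMonHom i'] [IsClosedImmersion i'.left]
      [Smooth N'.hom] [ConnectedSpace ↥N'.left], Red.IsSolvableGrp N' → AlgGrp.IsNormalHom i' → ∃ f : N' ⟶ NQ, f ≫ iQ = i')) :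
    ∃ f : NG ⟶ NQ, f ≫ iQ = iG ≫ π ∧ Surjective f.left := by
  haveI : LocallyOfFiniteType G.hom := inferInstance
  haveI : LocallyOfFinitePresentation π.left := Groth.L08.ChevPerf.lfp_left π
  haveI : Smooth (π.left ≫ Q.hom) := by rw [Over.w π]; infer_instance
  haveI : Smooth Q.hom := Groth.L23.FppfSmooth.smooth_of_fppf_comp π.left Q.hom ‹_›
  haveI : IsAffine NG.left := isAffine_of_isAffineHom iG.left
  haveI : QuasiCompact NG.hom := quasiCompact_of_compactSpace _
  obtain ⟨C, gC, p, c, hp, hc, hpc, hps, hcc, hCs, hCc, hCsol⟩ := Groth.L08.Borel.exists_image_smooth (iG ≫ π)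
  haveI := hp; haveI := hc; haveI := hps; haveI := hcc; haveI := hCs; haveI := hCc
  haveI : LocallyOfFiniteType NG.hom := inferInstance
  haveI : IsReduced C.left := Groth.Agent.AV.isReduced_of_smooth_field C.hom
  have hCn : AlgGrp.IsNormalHom c := Groth.L16.RadQuot.isNormalHom_of_points c fun g => by
    obtain ⟨g', rfl⟩ := Groth.L08.Borel.exists_pt_lift π g (π.left.surjective _)
    refine Groth.L14.Luna.exists_lift_of_points c _ fun x => ?_
    obtain ⟨y, rfl⟩ := Groth.L08.Borel.exists_pt_lift p x (p.left.surjective _)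
    obtain ⟨y', hy'⟩ := hNG _ g' y
    refine ⟨y' ≫ p, ?_⟩
    rw [Groth.L14.Luna.pt_conjBy, Category.assoc, hpc, Category.assoc, hpc, ← Category.assoc, ← Category.assoc, ← hy',
      MonObj.mul_comp, MonObj.mul_comp, GrpObj.inv_comp]
  obtain ⟨l, hl⟩ := hNQmax C c (hCsol hNGs) hCn
  have hf : (p ≫ l) ≫ iQ = iG ≫ π := by rw [Category.assoc, hl, hpc]
  refine ⟨p ≫ l, hf, Groth.L16.RadQuot.radical_surjective π iG hNGs hNG ?_ iQ hNQs hNQ _ hf⟩
  intro N _ n _ hnc hns hncn hnn hnsol
  haveI := hnc; haveI := hns; haveI := hncn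
  exact hNGmax N n hnsol hnn
end Groth.Agent.S19518
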