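import Groth.Statements.S19521
import Groth.Agent.L26.AbDual.Setting

set_option autoImplicit false
universe u
open CategoryTheory CategoryTheory.Limits MonoidalCategory CartesianMonoidalCategory MonObj GrpObj AlgebraicGeometry
open AbDual

namespace Groth.Agent.S19521

open Groth.Agent.AbDualLib

/-- Let S be a locally Noetherian scheme and f : A' → A a homomorphism of abelian schemes over S. Let
A^t, A'^t be dual abelian schemes of A, A' (given through φ_A, φ_A', fppf topology, classes
algebraically equivalent to zero on geometric fibres), A^tt, A'^tt dual abelian schemes of A^t, A'^t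
(through φ_{A^t}, φ_{A'^t}), ξ and ξ' Poincaré classes on A ×_S A^t and A' ×_S A'^t whose
factor-swapped classes are algebraically equivalent to zero on the geometric fibres over A and A',
f^t : A^t → A'^t the transpose of f and f^tt : A'^tt → A^tt the transpose of f^t. With κ_A : A →
A^tt and κ_A' : A' → A'^tt the biduality morphisms defined by the swapped Poincaré classes, the
square commutes: f followed by κ_A equals κ_A' followed by f^tt. (The published statement is for
projective abelian schemes over a Noetherian base, where the duals exist as schemes; here the duals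
are given as data.) -/
theorem result {S : Scheme.{u}} [IsLocallyNoetherian S]
    (A At Att A' A't A'tt : Over S) [GrpObj A] [IsCommMonObj A] [IsProper A.hom] [Smooth A.hom] [GeometricallyConnected A.hom] [GrpObj At] [IsCommMonObj At] [IsProper At.hom] [Smooth At.hom] [GeometricallyConnected At.hom] [GrpObj Att] [IsCommMonObj Att] [IsProper Att.hom] [Smooth Att.hom] [GeometricallyConnected Att.hom]
    [GrpObj A'] [IsCommMonObj A'] [IsProper A'.hom] [Smooth A'.hom] [GeometricallyConnected A'.hom] [GrpObj A't] [IsCommMonObj A't] [IsProper A't.hom] [Smooth A't.hom] [GeometricallyConnected A't.hom] [GrpObj A'tt] [IsCommMonObj A'tt] [IsProper A'tt.hom] [Smooth A'tt.hom] [GeometricallyConnected A'tt.hom]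
    (φA : ∀ T : Over S, PicF.Cl (PicF.XT A.hom T) → (T ⟶ At))
    (φAt : ∀ T : Over S, PicF.Cl (PicF.XT At.hom T) → (T ⟶ Att))
    (φA' : ∀ T : Over S, PicF.Cl (PicF.XT A'.hom T) → (T ⟶ A't))
    (φA't : ∀ T : Over S, PicF.Cl (PicF.XT A't.hom T) → (T ⟶ A'tt))
    (hA : AbDual.IsDualAV Scheme.fppfPrecoverage A At φA) (hAt : AbDual.IsDualAV Scheme.fppfPrecoverage At Att φAt)
    (hA' : AbDual.IsDualAV Scheme.fppfPrecoverage A' A't φA') (hA't : AbDual.IsDualAV Scheme.fppfPrecoverage A't A'tt φA't)
    (ξ : PicF.Cl (PicF.XT A.hom At)) (hξ : AbDual.IsPoincareCl A At φA ξ)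
    (hξs : AbDual.IsPicZeroCl At.hom A (PicF.pullCl (pullbackSymmetry At.hom A.hom).hom ξ))
    (ξ' : PicF.Cl (PicF.XT A'.hom A't)) (hξ' : AbDual.IsPoincareCl A' A't φA' ξ')
    (hξ's : AbDual.IsPicZeroCl A't.hom A' (PicF.pullCl (pullbackSymmetry A't.hom A'.hom).hom ξ'))
    (f : A' ⟶ A) [IsMonHom f] (ft : At ⟶ A't) (hft : AbDual.IsTranspose f φA' φA ft)
    (ftt : A'tt ⟶ Att) (hftt : AbDual.IsTranspose ft φAt φA't ftt) :
    f ≫ φAt A (PicF.pullCl (pullbackSymmetry At.hom A.hom).hom ξ) =
      φA't A' (PicF.pullCl (pullbackSymmetry A't.hom A'.hom).hom ξ') ≫ ftt := by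
  rw [← hftt A' _ hξ's, ← hAt.relPic.natural A A' f _ hξs, ← PicLoc.pullCl_comp, ← PicLoc.pullCl_comp,
    bcMap_symmetry, XTmap_symmetry, PicLoc.pullCl_comp, PicLoc.pullCl_comp]
  have h1 : φA' At (PicF.pullCl (AbDual.bcMap f At) ξ) = ft := by
    rw [hft At ξ hξ.1, hξ.2.1, Category.id_comp]
  have h2 : φA' At (PicF.pullCl (PicF.XTmap A'.hom ft) ξ') = ft := by
    rw [hA'.relPic.natural A't At ft ξ' hξ'.1, hξ'.2.1, Category.comp_id]
  obtain ⟨R, hR, hloc⟩ := hA'.relPic.locallyInjective At _ _ (isPicZeroCl_bcMap f At hξ.1)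
    (isPicZeroCl_XTmap _ ft hξ'.1) (h1.trans h2.symm)
  refine congrArg (φAt A') (congrArg (PicF.pullCl (pullbackSymmetry At.hom A'.hom).hom) ?_)
  refine cl_eq_of_cover A'.hom η[A'].left (Over.w η[A']) hR
    (fun T' t ht => surjective_XTproj_of_smooth A' At T' t ht)
    (isInvertibleCl_of_isPicZeroCl (isPicZeroCl_bcMap f At hξ.1))
    (isInvertibleCl_of_isPicZeroCl (isPicZeroCl_XTmap _ ft hξ'.1)) ?_ hloc
  have e1 : PicF.secT A'.hom η[A'].left (Over.w η[A']) At ≫ AbDual.bcMap f At =
      PicF.secT A.hom η[A].left (Over.w η[A]) At := by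
    apply pullback.hom_ext
    · refine (Category.assoc _ _ _).trans ((congrArg (_ ≫ ·) (pullback.lift_fst _ _ _)).trans ?_)
      refine (pullback.lift_fst_assoc _ _ _ _).trans ?_
      rw [Category.assoc, ← Over.comp_left, IsMonHom.one_hom f]
      exact (pullback.lift_fst _ _ _).symm
    · rw [Category.assoc]
      erw [bcMap_snd]
      exact (secT_snd A'.hom _ (Over.w η[A']) At).trans (secT_snd A.hom _ (Over.w η[A]) At).symm
  rw [← PicLoc.pullCl_comp, e1, hξ.2.2, ← PicLoc.pullCl_comp, secT_XTmap, PicLoc.pullCl_comp,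
    show PicF.pullCl _ ξ' = _ from hξ'.2.2]
  exact (pullCl_oneCl _).symm

end Groth.Agent.S19521
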