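import Groth.Statements.S19522


set_option autoImplicit false
universe u
open TensorProduct
open GLin

namespace Groth.Agent.S19522
open TensorProduct

/-- Let k be a field, A a commutative k-bialgebra coacting multiplicatively on a commutative k-algebra
R, and χ ∈ A a group-like element with an inverse χ' (χχ' = 1). Suppose the polynomial ring R[t]
carries a multiplicative coaction which restricts to the given one on constants and sends t to t ⊗
χ'. Then g ∈ R[t] is coinvariant if and only if, for every r, its r-th coefficient has coaction g_r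
↦ g_r ⊗ χ^r; that is, the ring of invariants of R[t] is the sum over r ≥ 0 of the weight-χ^r
semi-invariants of R times t^r. (The published statement is phrased for an affine variety with an
action of a linear algebraic group over an algebraically closed field of characteristic zero and
identifies the invariants of X × A¹ with the graded ring of invariant sections of the powers of the
linearised trivial bundle; this is its coordinate-ring content, valid over any field.) -/
theorem result (k : Type u) [Field k]
    (A : Type u) [CommRing A] [Bialgebra k A]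
    (R : Type u) [CommRing R] [Algebra k R] [HopfRep.Comod k A R] [GLin.IsCoactAlg k A R]
    [HopfRep.Comod k A (Polynomial R)] [GLin.IsCoactAlg k A (Polynomial R)]
    (χ χ' : A) (hχ : CoalgebraStruct.comul (R := k) (A := A) χ = χ ⊗ₜ[k] χ)
    (hχε : CoalgebraStruct.counit (R := k) (A := A) χ = 1) (hχχ' : χ * χ' = 1)
    (hC : ∀ r : R, HopfRep.Comod.coact (k := k) (A := A) (Polynomial.C r) =
      Algebra.TensorProduct.map (Polynomial.CAlgHom : R →ₐ[k] Polynomial R) (AlgHom.id k A)
        (HopfRep.Comod.coact (k := k) (A := A) r))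
    (hX : HopfRep.Comod.coact (k := k) (A := A) (Polynomial.X : Polynomial R) = Polynomial.X ⊗ₜ[k] χ')
    (g : Polynomial R) :
    g ∈ GLin.invariants k A (Polynomial R) ↔
      ∀ r : ℕ, g.coeff r ∈ HopfRep.eigenspace k A R (χ ^ r) := by
  classical
  let cA : R ⊗[k] A →ₗ[k] Polynomial R ⊗[k] A :=
    (Algebra.TensorProduct.map (Polynomial.CAlgHom : R →ₐ[k] Polynomial R) (AlgHom.id k A)).toLinearMap
  let cf : ℕ → Polynomial R ⊗[k] A →ₗ[k] R ⊗[k] A := fun r =>
    ((Polynomial.lcoeff R r).restrictScalars k).rTensor A
  have hχr : ∀ r : ℕ, χ ^ r * χ' ^ r = 1 := fun r => by rw [← mul_pow, hχχ', one_pow]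
  have hterm : ∀ (a : R) (r q : ℕ), cf q (HopfRep.Comod.coact (k := k) (A := A) (Polynomial.monomial r a)) =
      if r = q then (LinearMap.mulRight k (χ' ^ r)).lTensor R (HopfRep.Comod.coact (k := k) (A := A) a) else 0 := by
    intro a r q
    have hpow : HopfRep.Comod.coact (k := k) (A := A) ((Polynomial.X : Polynomial R) ^ r) =
        (Polynomial.X ^ r) ⊗ₜ[k] (χ' ^ r) := by
      rw [← GLin.coactAlgHom_apply, map_pow, GLin.coactAlgHom_apply, hX, Algebra.TensorProduct.tmul_pow]
    rw [← Polynomial.C_mul_X_pow_eq_monomial, GLin.IsCoactAlg.coact_mul, hC, hpow]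
    generalize HopfRep.Comod.coact (k := k) (A := A) a = z
    induction z using TensorProduct.induction_on with
    | zero => simp
    | add u w hu hw => simp only [map_add, add_mul, hu, hw]; split_ifs <;> simp
    | tmul b c =>
      simp only [Algebra.TensorProduct.map_tmul, Algebra.TensorProduct.tmul_mul_tmul, cf, LinearMap.rTensor_tmul]
      by_cases h : r = q
      · subst h; simp
      · simp [h, Polynomial.coeff_X_pow, Ne.symm h]
  have hco : ∀ r, cf r (HopfRep.Comod.coact (k := k) (A := A) g) =
      (LinearMap.mulRight k (χ' ^ r)).lTensor R (HopfRep.Comod.coact (k := k) (A := A) (g.coeff r)) := by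
    intro r
    conv_lhs => rw [← Polynomial.sum_monomial_eq g]
    rw [Polynomial.sum_def, map_sum, map_sum]
    simp only [hterm]
    rw [Finset.sum_ite_eq']
    split_ifs with h
    · rfl
    · rw [Polynomial.notMem_support_iff.1 h, map_zero, map_zero]
  have hone : ∀ r, cf r (g ⊗ₜ[k] (1 : A)) = g.coeff r ⊗ₜ[k] (1 : A) := fun r => by simp [cf]
  have heq : ∀ r, (cf r (HopfRep.Comod.coact (k := k) (A := A) g) = g.coeff r ⊗ₜ[k] (1 : A)) ↔
      g.coeff r ∈ HopfRep.eigenspace k A R (χ ^ r) := by
    intro r
    rw [hco]
    show _ ↔ HopfRep.Comod.coact (k := k) (A := A) (g.coeff r) = g.coeff r ⊗ₜ[k] (χ ^ r)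
    constructor
    · intro h
      have := congrArg ((LinearMap.mulRight k (χ ^ r)).lTensor R) h
      rw [← LinearMap.lTensor_comp_apply, LinearMap.lTensor_tmul, LinearMap.mulRight_apply, one_mul] at this
      rw [← this]
      have e : LinearMap.mulRight k (χ ^ r) ∘ₗ LinearMap.mulRight k (χ' ^ r) = LinearMap.id :=
        LinearMap.ext fun a => by simp [mul_assoc, mul_comm (χ' ^ r), hχr]
      rw [e, LinearMap.lTensor_id, LinearMap.id_apply]
    · intro h
      rw [h, LinearMap.lTensor_tmul, LinearMap.mulRight_apply, hχr]
  have hext : ∀ z w : Polynomial R ⊗[k] A, (∀ r, cf r z = cf r w) → z = w := by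
    intro z w h
    rw [← sub_eq_zero]
    set d := z - w with hd
    have hd0 : ∀ r, cf r d = 0 := fun r => by rw [hd, map_sub, h r, sub_self]
    have key : ∀ t : Polynomial R ⊗[k] A, ∃ N : ℕ, ∀ M, N ≤ M → t = ∑ r ∈ Finset.range M,
        ((Polynomial.monomial r).restrictScalars k).rTensor A (cf r t) := by
      intro t
      induction t using TensorProduct.induction_on with
      | zero => exact ⟨0, fun M _ => by simp⟩
      | tmul P a =>
        refine ⟨P.natDegree + 1, fun M hM => ?_⟩
        simp only [cf, LinearMap.rTensor_tmul, ← TensorProduct.sum_tmul, LinearMap.restrictScalars_apply,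
          Polynomial.lcoeff_apply]
        congr 1
        exact (Polynomial.as_sum_range' P M (by omega))
      | add a b ha hb =>
        obtain ⟨N, hN⟩ := ha; obtain ⟨N', hN'⟩ := hb
        refine ⟨max N N', fun M hM => ?_⟩
        conv_lhs => rw [hN M (le_trans (le_max_left _ _) hM), hN' M (le_trans (le_max_right _ _) hM)]
        simp only [map_add, Finset.sum_add_distrib]
    obtain ⟨N, hN⟩ := key d
    rw [hN N le_rfl]
    simp [hd0]
  show HopfRep.Comod.coact (k := k) (A := A) g = g ⊗ₜ[k] (1 : A) ↔ _
  exact ⟨fun h r => (heq r).1 (by rw [h, hone]), fun h => hext _ _ fun r => by rw [hone, (heq r).2 (h r)]⟩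

end Groth.Agent.S19522
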