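import Groth.Statements.S19529
import Groth.Agent.L26.AV.CharMin

set_option autoImplicit false
universe u
open CategoryTheory MonoidalCategory CartesianMonoidalCategory MonObj GrpObj AlgebraicGeometry
open AbVar

namespace Groth.Agent.S19529

open Groth.Agent.AV

/-- Let k be a field with an algebraic closure Ω, l a prime invertible in k, A an abelian variety over k
(a proper, geometrically integral commutative group scheme over k) and α an endomorphism of A (a
homomorphism of group schemes). Let T_l(α) be the induced ℤ_l-linear endomorphism of the l-adic Tate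
module of Ω-points of A, which is assumed, as is always the case, to be free of finite rank over
ℤ_l. Then the minimal polynomial of T_l(α) over ℤ_l is defined over ℤ: there is a monic polynomial P
with integer coefficients whose image in ℤ_l[X] is that minimal polynomial. (The companion clause on
the characteristic polynomial is stated separately for finite and for algebraically closed ground
fields.) -/
theorem result (k Ω : Type u) [Field k] [Field Ω] [Algebra k Ω] [IsAlgClosure k Ω]
    (l : ℕ) [Fact l.Prime] (hl : (l : k) ≠ 0) (A : Over (Spec (CommRingCat.of k)))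
    [GrpObj A] [IsCommMonObj A] [IsProper A.hom] [GeometricallyIntegral A.hom]
    (α : A ⟶ A) [IsMonHom α]
    [Module.Free ℤ_[l] (AbDual.TateMod A l (SGA7.pt Ω))] [Module.Finite ℤ_[l] (AbDual.TateMod A l (SGA7.pt Ω))] :
    ∃ P : Polynomial ℤ, P.Monic ∧
      (minpoly ℤ_[l] (AbDual.tateMapₗ (l := l) (T := SGA7.pt Ω) α)) = P.map (Int.castRingHom ℤ_[l]) := by
  haveI : IsAlgClosed Ω := IsAlgClosure.isAlgClosed k
  let φ : EndAV.End A := EndAV.End.of α
  obtain ⟨ν, hm, hν, h0⟩ := CharMin.exists_int_min Ω l hl φ
  refine ⟨ν, hm, (minpoly.unique' ℤ_[l] _ (hm.map _) ?_ fun q hq => ?_).symm⟩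
  · show Polynomial.aeval (EndAV.End.tateRep l (SGA7.pt Ω) φ) _ = 0
    rw [show Int.castRingHom ℤ_[l] = algebraMap ℤ ℤ_[l] from rfl, Polynomial.aeval_map_algebraMap,
      FrobRH.aeval_ringHom, h0, map_zero]
  · rcases eq_or_ne q 0 with hq0 | hq0
    · exact Or.inl hq0
    refine Or.inr fun h => ?_
    rw [hm.degree_map, Polynomial.degree_eq_natDegree hm.ne_zero, Polynomial.degree_eq_natDegree hq0] at hq
    have hlt : q.natDegree < ν.natDegree := by exact_mod_cast hq
    have hd : (minpoly ℚ (EndAV.toEnd0 φ)).natDegree = ν.natDegree := by rw [← hν, hm.natDegree_map]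
    let e : Fin ν.natDegree → EndAV.End A := fun i => φ ^ (i : ℕ)
    have hli : LinearIndependent ℤ e := by
      refine LinearIndependent.of_comp ((EndAV.toEnd0 (A := A)).toAddMonoidHom.toIntLinearMap) ?_
      have h1 := (linearIndependent_pow (K := ℚ) (EndAV.toEnd0 φ)).comp (Fin.cast hd.symm) (Fin.cast_injective _)
      have h2 := h1.restrict_scalars' ℤ
      convert h2 using 1
      all_goals first
        | rfl
        | (funext i; exact map_pow (EndAV.toEnd0 (A := A)) φ i)
    have h3 := HomFin.linearIndependent_tateMap A A Ω l hl e hli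
    rw [Fintype.linearIndependent_iff] at h3
    refine hq0 (Polynomial.ext fun j => ?_)
    rw [Polynomial.coeff_zero]
    by_cases hj : j < ν.natDegree
    · refine h3 (fun i => q.coeff i) ?_ ⟨j, hj⟩
      rw [← h, Polynomial.aeval_eq_sum_range' hlt, ← Fin.sum_univ_eq_sum_range]
      refine Finset.sum_congr rfl fun i _ => ?_
      congr 1
      exact map_pow (EndAV.End.tateRep l (SGA7.pt Ω)) φ i
    · exact Polynomial.coeff_eq_zero_of_natDegree_lt (lt_of_lt_of_le hlt (not_lt.1 hj))

end Groth.Agent.S19529
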