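import Groth.Statements.S1953
import Groth.Agent.L22.IntMult.DiagProd
import Groth.Agent.S1582
-- import your own Groth.Agent.* helpers here

set_option autoImplicit false
universe u
open CategoryTheory CategoryTheory.Limits AlgebraicGeometry
attribute [local instance] HasDerivedCategory.standard
open IntMult

namespace Groth.Agent.S1953

/-- Let X be a proper nonsingular variety over K, α an r-cycle and β an s-cycle intersecting properly, Δ
⊆ X ×_K X the diagonal (as the prime cycle of its generic point) and α × β the exterior product,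
with dimension function δ₂ on X ×_K X. Then [Δ] and α × β intersect properly and pr_{1,*}([Δ] · (α ×
β)) = α · β coefficientwise, for any cycle on X ×_K X with the coefficients of [Δ] · (α × β). Here X
is a nonsingular variety over the algebraically closed field K (smooth, separated, quasi-compact,
integral) with dimension function δ (transcendence degree) and n = dim X; cycles are Mathlib
AlgebraicCycles with Cyc.Zk membership, proper intersection is IntMult.IntersectProperly and α · β
is the Tor-formula intersection product on coefficient functions (IntMult.interProd), bundled where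
needed as 'any cycle with these coefficients'. -/
theorem result (K : Type u) [Field K] [IsAlgClosed K] (X : Scheme.{u}) (f : X ⟶ Spec (CommRingCat.of K)) [Smooth f] [IsProper f] [IsIntegral X] (δ : X → ℤ) (hX : Cyc.IsSetup X δ) (hδ : Cyc.DeltaCompat f δ (fun _ => 0)) (n : ℤ) (hn : δ (genericPoint X) = n) (δ₂ : ↥(pullback f f) → ℤ) (h₂ : Cyc.DeltaCompat (pullback.fst f f ≫ f) δ₂ (fun _ => 0)) (h₂' : Cyc.DeltaCompat (pullback.fst f f) δ₂ δ) (r s : ℤ) (α β : AlgebraicCycle X ℤ) (hα : α ∈ Cyc.Zk X δ r) (hβ : β ∈ Cyc.Zk X δ s) (hprop : IntMult.IntersectProperly δ n ⇑α ⇑β) (γ : AlgebraicCycle (pullback f f) ℤ) (hγ : ⇑γ = IntMult.interProd δ₂ (n + n) (Set.indicator {pullback.diagonal f (genericPoint X)} 1) (IntMult.extProd f f δ δ δ₂ ⇑α ⇑β)) : IntMult.IntersectProperly δ₂ (n + n) (Set.indicator {pullback.diagonal f (genericPoint X)} 1) (IntMult.extProd f f δ δ δ₂ ⇑α ⇑β) ∧ ⇑(AlgebraicCycle.map (pullback.fst f f) δ₂ δ γ) = IntMult.interProd δ n ⇑α ⇑β := by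
  haveI := Groth.Agent.S1582.result K X X f f
  haveI := hX.1
  have hk := Groth.L21.RefK.isSetup_spec_field K
  obtain ⟨δP', hPs, e3⟩ := Groth.L22.Cyc.exists_setup (pullback.fst f f ≫ f) hk
  obtain rfl := Groth.L22.Bundle.delta_unique e3 h₂
  haveI := hPs.1
  haveI : Flat f := Groth.L00.BddFib.flat_toField f
  have hnn := Groth.L22.IntMult.delta_generic_prod (IsPullback.of_hasPullback f f) hδ hδ h₂
  rw [hn] at hnn
  obtain ⟨hp, hout⟩ := Groth.L22.IntMult.diag_formula f hX hPs hδ h₂ hn hnn α β hα hβ hprop
  refine ⟨hp, funext fun y => ?_⟩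
  have hval := Groth.L22.IntMult.diag_value f hX hPs hδ h₂ hn hnn α β hα hβ hprop y
  have hΔ := Groth.L22.IntMult.delta_diag f hδ h₂ y
  have e1 : pullback.fst f f (pullback.diagonal f y) = y := by
    show (pullback.diagonal f ≫ pullback.fst f f) y = y
    rw [pullback.diagonal_fst]; rfl
  have hdeg : (pullback.fst f f).residueDegree (pullback.diagonal f y) = 1 := by
    have h := Groth.L22.Cyc.residueDegree_comp (pullback.diagonal f) (pullback.fst f f) y
    rw [Groth.L22.Cyc.residueDegree_eq_one (pullback.diagonal f) y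
      (Groth.L22.Cyc.residueFieldMap_bijective' (pullback.diagonal f) y), mul_one] at h
    rw [← h]
    exact Groth.L22.Cyc.residueDegree_eq_one _ y (by
      haveI : IsClosedImmersion (pullback.diagonal f ≫ pullback.fst f f) := by rw [pullback.diagonal_fst]; infer_instance
      exact Groth.L22.Cyc.residueFieldMap_bijective' (pullback.diagonal f ≫ pullback.fst f f) y)
  show (∑ᶠ z ∈ (pullback.fst f f) ⁻¹' {y}, γ z * ((AlgebraicCycle.mapCoeff (pullback.fst f f) δP' δ z : ℕ) : ℤ)) = _
  rw [finsum_mem_inter_support_eq' _ _ ({pullback.diagonal f y} : Set _) (fun z hz => ?_), finsum_mem_singleton]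
  · rw [AlgebraicCycle.mapCoeff, if_pos ?_, hdeg, hγ, hval, Nat.cast_one, mul_one]
    rw [hΔ]
    exact congrArg δ e1.symm
  · have hne : γ z ≠ 0 := left_ne_zero_of_mul hz
    rw [hγ] at hne
    obtain ⟨x, rfl⟩ := hout z hne
    have ex : pullback.fst f f (pullback.diagonal f x) = x := by
      show (pullback.diagonal f ≫ pullback.fst f f) x = x
      rw [pullback.diagonal_fst]; rfl
    constructor
    · intro h
      rw [Set.mem_preimage, Set.mem_singleton_iff] at h
      rw [Set.mem_singleton_iff, ← h, ex]
    · intro h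
      rw [Set.mem_singleton_iff] at h
      rw [Set.mem_preimage, Set.mem_singleton_iff, h, e1]

end Groth.Agent.S1953
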