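import Groth.Statements.S19532
import Groth.Agent.L21.ExtLattice.Pairs

set_option autoImplicit false
universe u
open CategoryTheory
open TFCurv

namespace Groth.Agent.S19532

open Groth.L21.ExtLattice.Pairs

/-- Let k be an algebraically closed field of characteristic zero, δ ≥ 1, and O ⊂ k[[t]] × k[[t]] the
complete local ring of the simple plane curve singularity A_{2δ−1} (two smooth branches with contact
of order δ, y² = x^{2δ}), namely the k-subalgebra of all pairs (f, g) of power series with f − g
divisible by t^δ. For 0 ≤ j ≤ δ let I_j ⊂ k[[t]] × k[[t]] be the O-submodule generated by (t^j, t^j)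
and (t^δ, 0), so that I_0 = O and I_δ is the conductor; the I_j represent the rank-one torsion-free
O-modules M_j. Then for all 0 ≤ i, j ≤ δ the O-module Ext¹_O(I_i, I_j) has length 2·min(i, j)
(length over O equals k-dimension here). (The one-branch case n = 2δ of the published lemma is
stated separately.) -/
theorem result (k : Type u) [Field k] [IsAlgClosed k] [CharZero k] (δ : ℕ) (hδ : 1 ≤ δ) (O : Subalgebra k (PowerSeries k × PowerSeries k)) (hO : ∀ f : (PowerSeries k × PowerSeries k), f ∈ O ↔ (δ : ℕ∞) ≤ PowerSeries.order (f.1 - f.2)) (i j : ℕ) (hi : i ≤ δ) (hj : j ≤ δ) : Module.length ↥O (Abelian.Ext (ModuleCat.of ↥O ↥(Submodule.span ↥O ({((PowerSeries.X : PowerSeries k) ^ i, (PowerSeries.X : PowerSeries k) ^ i), ((PowerSeries.X : PowerSeries k) ^ δ, 0)} : Set (PowerSeries k × PowerSeries k)))) (ModuleCat.of ↥O ↥(Submodule.span ↥O ({((PowerSeries.X : PowerSeries k) ^ j, (PowerSeries.X : PowerSeries k) ^ j), ((PowerSeries.X : PowerSeries k) ^ δ, 0)} : Set (PowerSeries k × PowerSeries k)))) 1) = ((2 *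 min i j : ℕ) : ℕ∞) := by
  classical
  have hO' : ∀ f, f ∈ O ↔ PowerSeries.X ^ δ ∣ f.1 - f.2 := fun f => (hO f).trans dvd_iff_le_order
  let z : ℕ → PowerSeries k × PowerSeries k := fun n => (PowerSeries.X ^ n, PowerSeries.X ^ n)
  have hz : ∀ n, Function.Injective fun f => z n * f := fun n f g h => by
    obtain ⟨h1, h2⟩ := Prod.ext_iff.1 h
    exact Prod.ext (mul_left_cancel₀ (pow_ne_zero n PowerSeries.X_ne_zero) h1)
      (mul_left_cancel₀ (pow_ne_zero n PowerSeries.X_ne_zero) h2)
  have himg : ∀ n ≤ δ, (fun f => z n * f) ''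
      ({1, (PowerSeries.X ^ (δ - n), 0)} : Set (PowerSeries k × PowerSeries k)) =
      {(PowerSeries.X ^ n, PowerSeries.X ^ n), (PowerSeries.X ^ δ, 0)} := by
    intro n hn
    rw [Set.image_pair]
    have h1 : z n * 1 = (PowerSeries.X ^ n, PowerSeries.X ^ n) := mul_one _
    have h2 : z n * (PowerSeries.X ^ (δ - n), 0) = (PowerSeries.X ^ δ, 0) :=
      Prod.ext (by change PowerSeries.X ^ n * _ = _; rw [← pow_add, Nat.add_sub_cancel' hn]) (mul_zero _)
    rw [h1, h2]
  have key := length_ext O hO' hδ hi hj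
  let ei := spanEquiv O (z i) (hz i) ({1, (PowerSeries.X ^ (δ - i), 0)} : Set (PowerSeries k × PowerSeries k))
  let ej := spanEquiv O (z j) (hz j) ({1, (PowerSeries.X ^ (δ - j), 0)} : Set (PowerSeries k × PowerSeries k))
  rw [Groth.L21.ExtLattice.length_ext_congr_submodule ei ej 1, himg i hi, himg j hj] at key
  exact key

end Groth.Agent.S19532
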