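import Groth.Statements.S19533
import Groth.Agent.L26.AV.RelHom
import Groth.Agent.L26.AV.SmoothField
import Groth.Agent.L26.AV.Albanese
import Groth.Agent.L18.KerReduced
import Mathlib.AlgebraicGeometry.Group.Abelian

set_option autoImplicit false
universe u
open CategoryTheory CategoryTheory.Limits MonoidalCategory CartesianMonoidalCategory MonObj GrpObj AlgebraicGeometry
open AbVar

namespace Groth.Agent.S19533

/-- Let k be an algebraically closed field, A an abelian variety over k (a k-group scheme whose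
structure morphism is proper, smooth and geometrically connected) with unit point e, Y a scheme
separated over k and f : A → Y a morphism over k. Write F₀ for the connected component of e in the
fibre f⁻¹(f(e)). Then the k-rational points of F₀ are stable under the group law: if k-points x and
y of A lie in F₀ then so do the product point x·y and the inverse point x⁻¹. (The published
statement is for Y a k-variety and concludes that F₀ with its reduced structure is an abelian
subvariety, together with the translation formula F_a = a + F₀; this row records the closure of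
F₀(k) under multiplication and inversion, for Y merely separated over k.) -/
theorem result (k : Type u) [Field k] [IsAlgClosed k]
    (A : Over (Spec (CommRingCat.of k))) [GrpObj A] [IsProper A.hom] [Smooth A.hom] [GeometricallyConnected A.hom]
    {Y : Scheme.{u}} (q : Y ⟶ Spec (CommRingCat.of k)) [IsSeparated q] (f : A.left ⟶ Y) (hf : f ≫ q = A.hom)
    (x y : 𝟙_ (Over (Spec (CommRingCat.of k))) ⟶ A)
    (hx : x.left (IsLocalRing.closedPoint k) ∈
      connectedComponentIn (f ⁻¹' {f (η[A].left (IsLocalRing.closedPoint k))}) (η[A].left (IsLocalRing.closedPoint k)))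
    (hy : y.left (IsLocalRing.closedPoint k) ∈
      connectedComponentIn (f ⁻¹' {f (η[A].left (IsLocalRing.closedPoint k))}) (η[A].left (IsLocalRing.closedPoint k))) :
    (lift x y ≫ μ[A]).left (IsLocalRing.closedPoint k) ∈
        connectedComponentIn (f ⁻¹' {f (η[A].left (IsLocalRing.closedPoint k))}) (η[A].left (IsLocalRing.closedPoint k)) ∧
      (x ≫ ι[A]).left (IsLocalRing.closedPoint k) ∈
        connectedComponentIn (f ⁻¹' {f (η[A].left (IsLocalRing.closedPoint k))}) (η[A].left (IsLocalRing.closedPoint k)) := by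
  let pt : ↥(𝟙_ (Over (Spec (CommRingCat.of k)))).left := IsLocalRing.closedPoint k
  have hsub1 : Subsingleton ↥(𝟙_ (Over (Spec (CommRingCat.of k)))).left :=
    inferInstanceAs (Subsingleton (PrimeSpectrum k))
  let S := Spec (CommRingCat.of k)
  have : GeometricallyReduced A.hom := ⟨geometrically_iff_of_isClosedUnderIsomorphisms.mpr
    fun L _ y => Groth.Agent.AV.isReduced_of_smooth_field (Limits.pullback.snd A.hom y)⟩
  have : Nonempty A.left := ⟨η[A].left pt⟩
  have : ConnectedSpace A.left := GeometricallyConnected.connectedSpace_of_subsingleton (f := A.hom)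
  have : GeometricallyIntegral A.hom := Groth.Agent.AV.geometricallyIntegral_of_connected A
  have hcomm : IsCommMonObj A := isCommMonObj_of_isProper_of_geometricallyIntegral A
  let e₀ := η[A].left pt
  let y₀ := f e₀
  have hy₀ : IsClosed ({y₀} : Set Y) := by
    have hsec : (η[A].left ≫ f) ≫ q = 𝟙 _ := by
      rw [Category.assoc, hf]
      exact Over.w η[A]
    have := isClosedImmersion_of_comp_eq_id (Y := S) q (η[A].left ≫ f) hsec
    have hc := (η[A].left ≫ f).isClosedEmbedding.isClosed_range
    have : Set.range (η[A].left ≫ f) = {y₀} := by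
      ext z
      refine ⟨?_, fun hz => ⟨pt, hz.symm⟩⟩
      rintro ⟨w, rfl⟩
      rw [Subsingleton.elim w pt]
      rfl
    rwa [this] at hc
  have hfib : IsClosed (f ⁻¹' {y₀}) := hy₀.preimage f.continuous
  let F0 : Set A.left := connectedComponentIn (f ⁻¹' {y₀}) e₀
  have he₀ : e₀ ∈ F0 := mem_connectedComponentIn (by simp [y₀])
  have hF0c : IsClosed F0 := by
    have hF : F0 = connectedComponentIn (f ⁻¹' {y₀}) e₀ := rfl
    rw [← closure_eq_iff_isClosed]
    refine subset_antisymm ?_ subset_closure
    exact isPreconnected_connectedComponentIn.closure.subset_connectedComponentIn (subset_closure he₀) (closure_minimal (connectedComponentIn_subset _ _) hfib)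
  have hF0sub : F0 ⊆ f ⁻¹' {y₀} := connectedComponentIn_subset _ _
  let Z : TopologicalSpace.Closeds A.left := ⟨F0, hF0c⟩
  let I := Scheme.IdealSheafData.vanishingIdeal Z
  have hrange : Set.range I.subschemeι = F0 := by
    rw [Scheme.IdealSheafData.range_subschemeι, Groth.L18.support_vanishingIdeal]
    rfl
  have : IsReduced I.subscheme := Groth.L18.isReduced_vanishingIdeal_subscheme Z
  let F : Over S := Over.mk (I.subschemeι ≫ A.hom)
  let i : F ⟶ A := Over.homMk I.subschemeι rfl
  have hlift : ∀ x : 𝟙_ (Over S) ⟶ A, x.left pt ∈ F0 → ∃ x' : 𝟙_ (Over S) ⟶ F, x' ≫ i = x := by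
    intro x hx
    have hle := Groth.L18.vanishingIdeal_le_ker (X := S) x.left Z (by
      rintro _ ⟨w, rfl⟩
      rw [Subsingleton.elim w pt]
      exact hx)
    have hker : I.subschemeι.ker ≤ x.left.ker := by rw [Scheme.IdealSheafData.ker_subschemeι]; exact hle
    refine ⟨Over.homMk (IsClosedImmersion.lift I.subschemeι x.left hker) ?_, ?_⟩
    · show _ ≫ I.subschemeι ≫ A.hom = _
      rw [← Category.assoc, IsClosedImmersion.lift_fac, Over.w x]
    · ext1
      exact IsClosedImmersion.lift_fac _ _ _
  obtain ⟨e', he'⟩ := hlift η[A] he₀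
  have : IsProper F.hom := inferInstanceAs (IsProper (I.subschemeι ≫ A.hom))
  have : Surjective F.hom := ⟨fun s => ⟨e'.left pt, Subsingleton.elim _ _⟩⟩
  have : Flat F.hom := inferInstanceAs (Flat (I.subschemeι ≫ A.hom : _ ⟶ Spec (CommRingCat.of k)))
  have : Nonempty F.left := ⟨e'.left pt⟩
  have : IsReduced F.left := ‹IsReduced I.subscheme›
  have : ConnectedSpace F.left := by
    rw [connectedSpace_iff_univ]
    refine ⟨Set.univ_nonempty, ?_⟩
    have hemb := I.subschemeι.isClosedEmbedding.isInducing
    rw [← hemb.isPreconnected_image, Set.image_univ, hrange]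
    exact isPreconnected_connectedComponentIn
  have hΓ : Function.Surjective F.hom.appTop.hom := Groth.Agent.AV.surjective_appTop_algClosed F.hom
  have hΓb : Function.Bijective F.hom.appTop.hom := by
    refine ⟨?_, hΓ⟩
    have hF : IsField Γ(S, ⊤) := MulEquiv.isField (Field.toIsField k)
      (Scheme.ΓSpecIso (CommRingCat.of k)).commRingCatIsoToRingEquiv.toMulEquiv
    let : Field Γ(S, ⊤) := hF.toField
    have : Nonempty ((⊤ : F.left.Opens) : Scheme.{u}) := ⟨⟨e'.left pt, trivial⟩⟩
    have : Nontrivial Γ(F.left, ⊤) := inferInstance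
    exact F.hom.appTop.hom.injective
  have h0 : ∀ s, Groth.Agent.AV.FibConst F.hom s := by
    intro s
    have : CompactSpace F.left := (quasiCompact_iff_compactSpace F.hom).mp inferInstance
    have : QuasiSeparatedSpace F.left := quasiSeparatedSpace_of_quasiSeparated F.hom
    exact Groth.Agent.AV.surjective_appTop_of_isPullback_field (k := k) (K := S.residueField s)
      (Spec.preimage (S.fromSpecResidueField s)) (g := Limits.pullback.fst _ _)
      (j := F.hom) (by rw [Spec.map_preimage]; exact IsPullback.of_hasPullback _ _) hΓ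
  let G : Over S := Over.mk q
  have : IsSeparated G.hom := inferInstanceAs (IsSeparated q)
  let fG : A ⟶ G := Over.homMk f hf
  have hi0 : i ≫ fG = toUnit F ≫ η[A] ≫ fG := by
    have h1 := Groth.Agent.AV.eq_const_of_singleton hΓb e' (i ≫ fG) (by
      rintro _ ⟨a, rfl⟩ _ ⟨b, rfl⟩
      have ha : f (I.subschemeι a) = y₀ := hF0sub (hrange ▸ ⟨a, rfl⟩)
      have hb : f (I.subschemeι b) = y₀ := hF0sub (hrange ▸ ⟨b, rfl⟩)
      exact ha.trans hb.symm)
    rw [reassoc_of% he'] at h1
    exact h1
  let d : F ⊗ A ⟶ G := lift (snd F A) (fst F A ≫ i) ≫ μ[A] ≫ fG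
  have hd : lift (𝟙 F) (toUnit F ≫ η[A]) ≫ d = toUnit F ≫ η[A] ≫ fG := by
    rw [← hi0]
    simp only [d, ← Category.assoc]
    congr 1
    rw [Category.assoc, ← Hom.mul_def, MonObj.comp_mul, lift_snd, lift_fst_assoc, Category.id_comp,
      ← Hom.one_def, _root_.one_mul]
  have : IsLocallyNoetherian A.left := LocallyOfFiniteType.isLocallyNoetherian A.hom
  obtain ⟨h, hh⟩ := Groth.Agent.AV.exists_eq_snd_comp F A G h0 η[A] (η[A] ≫ fG) (fun C hC he =>
    IsClopen.eq_univ hC ⟨η[A].left pt, he ⟨pt, rfl⟩⟩) d hd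
  have key : ∀ a x : 𝟙_ (Over S) ⟶ A, x.left pt ∈ F0 → (a * x) ≫ fG = a ≫ fG := by
    intro a x hx
    obtain ⟨x', hx'⟩ := hlift x hx
    have h1 : lift e' a ≫ d = lift x' a ≫ d := by
      rw [hh, lift_snd_assoc, lift_snd_assoc]
    simp only [d, ← Category.assoc] at h1
    rw [Category.assoc (lift e' a) , ← Hom.mul_def, MonObj.comp_mul, lift_snd, lift_fst_assoc, he',
      Category.assoc (lift x' a), ← Hom.mul_def, MonObj.comp_mul, lift_snd, lift_fst_assoc, hx'] at h1
    rw [← h1]
    congr 1
    exact _root_.mul_one a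
  -- translation by a point of `F0` maps `F0` into itself
  have stab : ∀ t : 𝟙_ (Over S) ⟶ A, (∀ a : 𝟙_ (Over S) ⟶ A, (a * t) ≫ fG = a ≫ fG) →
      (∃ z : 𝟙_ (Over S) ⟶ A, z.left pt ∈ F0 ∧ (z * t).left pt ∈ F0) →
      ∀ z : 𝟙_ (Over S) ⟶ A, z.left pt ∈ F0 → (z * t).left pt ∈ F0 := by
    intro t ht ⟨z₀, hz₀, hz₀t⟩ z hz
    let T : A ⟶ A := 𝟙 A * (toUnit A ≫ t)
    have hT : ∀ w : 𝟙_ (Over S) ⟶ A, w ≫ T = w * t := fun w => by
      simp only [T, MonObj.comp_mul, Category.comp_id, ← Category.assoc,
        Subsingleton.elim (w ≫ toUnit A) (𝟙 _), Category.id_comp]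
    have hsub : T.left '' F0 ⊆ f ⁻¹' {y₀} := by
      rintro _ ⟨w, hw, rfl⟩
      have hwi : w ∈ Set.range I.subschemeι := hrange ▸ hw
      obtain ⟨w, rfl⟩ := hwi
      have h2 : i ≫ T ≫ fG = toUnit F ≫ η[A] ≫ fG := by
        have h3 : lift e' t ≫ d = (1 * t) ≫ fG := by
          simp only [d, ← Category.assoc]
          rw [Category.assoc (lift e' t), ← Hom.mul_def, MonObj.comp_mul, lift_snd, lift_fst_assoc, he',
            mul_comm]
          rfl
        have h4 : i ≫ T = lift (𝟙 F) (toUnit F ≫ t) ≫ lift (snd F A) (fst F A ≫ i) ≫ μ[A] := by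
          simp only [T, ← Hom.mul_def, MonObj.comp_mul, Category.comp_id, lift_snd,
            lift_fst, Category.id_comp, ← Category.assoc, comp_toUnit]
          exact mul_comm _ _
        have h5 : toUnit F ≫ t ≫ h = toUnit F ≫ ((1 * t) ≫ fG) := by
          rw [← h3, hh, lift_snd_assoc]
        rw [reassoc_of% h4]
        show lift (𝟙 F) (toUnit F ≫ t) ≫ d = _
        rw [hh, lift_snd_assoc, Category.assoc, h5, ht, Hom.one_def, Subsingleton.elim (toUnit (𝟙_ (Over S))) (𝟙 _),
          Category.id_comp]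
      have := congrArg (fun φ : F ⟶ G => φ.left w) h2
      simp only [Over.comp_left, Scheme.Hom.comp_apply] at this
      show f (T.left (I.subschemeι w)) = y₀
      refine this.trans ?_
      show f (η[A].left (F.hom w)) = f (η[A].left pt)
      rw [Subsingleton.elim (F.hom w) pt]
    have hpre : _root_.IsPreconnected (T.left '' F0) :=
      isPreconnected_connectedComponentIn.image _ T.left.continuous.continuousOn
    have hm : ∀ w : 𝟙_ (Over S) ⟶ A, w.left pt ∈ F0 → (w * t).left pt ∈ T.left '' F0 := fun w hw =>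
      ⟨w.left pt, hw, congrArg (fun φ : 𝟙_ (Over S) ⟶ A => φ.left pt) (hT w)⟩
    have heq : F0 = connectedComponentIn (f ⁻¹' {y₀}) ((z₀ * t).left pt) :=
      connectedComponentIn_eq hz₀t
    rw [heq]
    exact hpre.subset_connectedComponentIn (hm z₀ hz₀) hsub (hm z hz)
  refine ⟨?_, ?_⟩
  · rw [← Hom.mul_def]
    exact stab y (fun a => key a y hy) ⟨η[A], he₀, by rwa [show η[A] * y = y from by rw [show η[A] = (1 : 𝟙_ (Over S) ⟶ A) from by rw [Hom.one_def, Subsingleton.elim (toUnit (𝟙_ (Over S))) (𝟙 _), Category.id_comp], _root_.one_mul]]⟩ x hx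
  · rw [← Hom.inv_def]
    have hk : ∀ a : 𝟙_ (Over S) ⟶ A, (a * x⁻¹) ≫ fG = a ≫ fG := fun a => by
      rw [← key (a * x⁻¹) x hx, inv_mul_cancel_right]
    have := stab x⁻¹ hk ⟨x, hx, by rw [mul_inv_cancel, Hom.one_def, Subsingleton.elim (toUnit (𝟙_ (Over S))) (𝟙 _), Category.id_comp]; exact he₀⟩ η[A] he₀
    rwa [show η[A] * x⁻¹ = x⁻¹ from by
      rw [show η[A] = (1 : 𝟙_ (Over S) ⟶ A) from by rw [Hom.one_def, Subsingleton.elim (toUnit (𝟙_ (Over S))) (𝟙 _), Category.id_comp], _root_.one_mul]] at this

end Groth.Agent.S19533
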