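import Groth.Statements.S19534
import Groth.Agent.S13689
import Groth.Agent.L24.KrullSchmidt.Division
import Groth.Agent.L08.Cube.SeesawH0
import Groth.Agent.L08.Cube.FibreFun
import Groth.Agent.L08.Cube.Inverse
import Mathlib.RingTheory.SimpleRing.Matrix
import Mathlib.RingTheory.SimpleRing.Congr

set_option autoImplicit false
set_option backward.isDefEq.respectTransparency.types false
universe u
open CategoryTheory CategoryTheory.Limits AlgebraicGeometry
open ASBun

namespace Groth.Agent.S19534

open W4c1astiltbs12 in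
/-- Let X be a proper, geometrically integral scheme over a field k, K an algebraic closure of k with
projection π : X_K → X, and E a nonzero finite locally free O_X-module which is absolutely
rank-one-isotypical: π^*E ≅ L^{⊕r} for some invertible O_{X_K}-module L and some natural number r.
Then the endomorphism ring of E (multiplication = composition) is a simple ring. (The published
statement says that this ring is a central simple algebra over k; centrality over k and
finite-dimensionality are not stated here, only simplicity as a ring. Non-vanishing of E is part of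
the definition of rank-one-isotypical there, the direct sum having at least one summand.) -/
theorem result (k : Type u) [Field k]
    {X : Scheme.{u}} (p : X ⟶ Spec (CommRingCat.of k)) [IsProper p] [GeometricallyIntegral p]
    (K : Type u) [Field K] [Algebra k K] [IsAlgClosure k K]
    (E : X.Modules) (hE : FlatMod.IsFinLocFree E) (hE0 : ¬ IsZero E)
    (L : (W4bk4gw11416.baseChange p K).Modules) (hL : PicF.IsInvertible L) (r : ℕ)
    (e : Nonempty (bcMod p K E ≅ pow L r)) :
    IsSimpleRing (CategoryTheory.End E) := by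
  classical
  letI : X.Over (Spec (CommRingCat.of k)) := ⟨p⟩
  haveI : IsProper (X ↘ Spec (CommRingCat.of k)) := ‹IsProper p›
  letI : (W4bk4gw11416.baseChange p K).Over (Spec (CommRingCat.of K)) :=
    ⟨W4bk4gw11416.baseChangeTo p K⟩
  have sq : IsPullback (proj p K) (W4bk4gw11416.baseChange p K ↘ Spec (CommRingCat.of K))
      (X ↘ Spec (CommRingCat.of k)) (Spec.map (CommRingCat.ofHom (algebraMap k K))) :=
    IsPullback.of_hasPullback p (Spec.map (CommRingCat.ofHom (algebraMap k K)))
  haveI : IsProper (W4bk4gw11416.baseChange p K ↘ Spec (CommRingCat.of K)) :=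
    MorphismProperty.of_isPullback (P := @IsProper) sq inferInstance
  haveI : Nonempty X := by
    by_contra hX
    rw [not_nonempty_iff] at hX
    exact hE0 ((Groth.L00.Stk.isZero_iff E).2 fun x => (hX.false x).elim)
  haveI : Flat p := by
    haveI : Subsingleton ↥(Spec (CommRingCat.of k)) := inferInstanceAs (Subsingleton (PrimeSpectrum k))
    infer_instance
  have hp := Groth.L08.Cube.bijective_toGlobal_of_geometric (k := k) p
  have hk : Function.Bijective (Coh.toGlobal (W4bk4gw11416.baseChange p K ↘ Spec (CommRingCat.of K))) :=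
    (Groth.L08.Cube.bijective_toGlobal_baseChange p hp (proj p K) _ sq).2
  obtain ⟨L', -, ⟨t⟩⟩ := Groth.L08.Cube.exists_inverse hL
  have hLi := Groth.L24.KrullSchmidt.indec_of_invertible hk t
  obtain ⟨G, n, hG, hGi, ⟨a⟩⟩ := (Groth.Agent.S13689.result k p K E hE hE0 L hL hLi r e).1
  obtain ⟨eE⟩ := e
  have hn : 0 < n := Nat.pos_of_ne_zero fun h => hE0 (by
    subst h
    exact ((IsZero.iff_id_eq_zero _).2 (Sigma.hom_ext _ _ fun i => i.elim0)).of_iso a)
  let i₀ : Fin n := ⟨0, hn⟩
  let π : Fin n → (pow G n ⟶ G) := fun j => Sigma.desc fun l => if l = j then 𝟙 G else 0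
  have hπ : ∀ l j, Sigma.ι (fun _ : Fin n => G) l ≫ π j = if l = j then 𝟙 G else 0 := fun l j =>
    Sigma.ι_desc _ _
  have hsum : ∑ j, π j ≫ Sigma.ι (fun _ : Fin n => G) j = 𝟙 (pow G n) := Sigma.hom_ext _ _ fun l => by
    rw [Preadditive.comp_sum, Category.comp_id, Finset.sum_eq_single l]
    · simp [reassoc_of% (hπ l l)]
    · intro j _ hj
      simp [reassoc_of% (hπ l j), if_neg (Ne.symm hj)]
    · exact fun hl => absurd (Finset.mem_univ l) hl
  -- `G` is isotypical, so its endomorphisms form a division ring
  have hfinK : ∀ {A : (W4bk4gw11416.baseChange p K).Modules}, FlatMod.IsFinLocFree A → Module.Finite K (A ⟶ A) :=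
    fun hA => Groth.L14.Quot.finite_hom (Groth.L16.NegPow.isCoh_of_isFinLocFree hA)
      (Groth.L16.NegPow.isCoh_of_isFinLocFree hA)
  haveI := hfinK (Groth.L29.LocFree.pullback (proj p K) hG)
  haveI := hfinK (Groth.L16.Existence.isFinLocFree_of_isInvertible hL)
  obtain ⟨m, ⟨b⟩⟩ : ∃ m : ℕ, Nonempty (bcMod p K G ≅ pow L m) := by
    refine Groth.L24.KrullSchmidt.exists_pow_of_retract K hLi (r := r) ?_
    refine Groth.L21.Weil.IsRetract.trans ⟨(Scheme.Modules.pullback (proj p K)).map (Sigma.ι (fun _ : Fin n => G) i₀ ≫ a.inv),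
      (Scheme.Modules.pullback (proj p K)).map (a.hom ≫ π i₀), ?_⟩ (Groth.L21.Weil.IsRetract.of_iso eE)
    rw [← Functor.map_comp, Category.assoc, Iso.inv_hom_id_assoc, hπ, if_pos rfl, CategoryTheory.Functor.map_id]
  letI : DivisionRing (End G) :=
    haveI : Nontrivial (End G) := ⟨⟨1, 0, fun h => hGi.1 ((IsZero.iff_id_eq_zero G).2 h)⟩⟩
    DivisionRing.ofIsUnitOrEqZero fun f => or_iff_not_imp_right.2 fun hf =>
      (isUnit_iff_isIso f).2 (Groth.L24.KrullSchmidt.isIso_endo (proj p K) sq hk t hG hGi b f hf)
  -- `End E` is a matrix ring over `End G`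
  let Φ : End E →+* Matrix (Fin n) (Fin n) (End G) :=
    { toFun := fun f => Matrix.of fun i j => Sigma.ι (fun _ : Fin n => G) j ≫ a.inv ≫ (show E ⟶ E from f) ≫ a.hom ≫ π i
      map_one' := by
        ext i j
        simp only [Matrix.of_apply, End.one_def, Category.id_comp, Iso.inv_hom_id_assoc, hπ, Matrix.one_apply,
          eq_comm (a := i)]
      map_mul' := fun f g => by
        ext i j
        simp only [Matrix.of_apply, Matrix.mul_apply, End.mul_def]
        calc _ = Sigma.ι (fun _ : Fin n => G) j ≫ a.inv ≫ (show E ⟶ E from g) ≫ a.hom ≫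
              (∑ l, π l ≫ Sigma.ι (fun _ : Fin n => G) l) ≫ a.inv ≫ (show E ⟶ E from f) ≫ a.hom ≫ π i := by
              rw [hsum, Category.id_comp, Iso.hom_inv_id_assoc]; simp only [Category.assoc]
          _ = _ := by simp only [Preadditive.sum_comp, Preadditive.comp_sum, Category.assoc]
      map_zero' := by
        ext i j
        simp only [Matrix.of_apply, Matrix.zero_apply]
        change Sigma.ι (fun _ : Fin n => G) j ≫ a.inv ≫ (0 : E ⟶ E) ≫ a.hom ≫ π i = 0
        simp
      map_add' := fun f g => by
        ext i j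
        simp only [Matrix.of_apply, Matrix.add_apply]
        change Sigma.ι (fun _ : Fin n => G) j ≫ a.inv ≫ ((show E ⟶ E from f) + (show E ⟶ E from g)) ≫ a.hom ≫ π i = _
        simp only [Preadditive.add_comp, Preadditive.comp_add] }
  have hΦ : Function.Bijective Φ := by
    refine ⟨(injective_iff_map_eq_zero Φ).2 fun f hf => ?_, fun N => ⟨a.hom ≫ (∑ i, ∑ j, π j ≫
      (show G ⟶ G from N i j) ≫ Sigma.ι (fun _ : Fin n => G) i) ≫ a.inv, ?_⟩⟩
    · change (show E ⟶ E from f) = 0
      rw [← cancel_epi a.inv, ← cancel_mono a.hom, Limits.comp_zero, Limits.zero_comp]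
      refine Sigma.hom_ext _ _ fun j => ?_
      rw [Limits.comp_zero, ← Category.comp_id (Sigma.ι _ j ≫ _), ← hsum, Preadditive.comp_sum]
      refine Finset.sum_eq_zero fun i _ => ?_
      have := congrFun (congrFun hf i) j
      simp only [Category.assoc]
      change (Sigma.ι (fun _ : Fin n => G) j ≫ a.inv ≫ (show E ⟶ E from f) ≫ a.hom ≫ π i) = 0 at this
      rw [reassoc_of% this, Limits.zero_comp]
    · ext i j
      change Sigma.ι (fun _ : Fin n => G) j ≫ a.inv ≫ (a.hom ≫ (∑ i, ∑ j, π j ≫
        (show G ⟶ G from N i j) ≫ Sigma.ι (fun _ : Fin n => G) i) ≫ a.inv) ≫ a.hom ≫ π i = N i j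
      simp only [Category.assoc, Iso.inv_hom_id_assoc, Preadditive.sum_comp, Preadditive.comp_sum]
      rw [Finset.sum_eq_single i, Finset.sum_eq_single j]
      · simp [reassoc_of% (hπ j j), hπ]
      · intro l _ hl
        simp [reassoc_of% (hπ j l), if_neg (Ne.symm hl)]
      · simp
      · intro l _ hl
        refine Finset.sum_eq_zero fun l' _ => ?_
        simp [hπ, if_neg hl]
      · simp
  haveI : IsSimpleRing (End G) := inferInstance
  haveI : Nonempty (Fin n) := ⟨i₀⟩
  exact IsSimpleRing.of_ringEquiv (RingEquiv.ofBijective Φ hΦ).symm inferInstance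

end Groth.Agent.S19534
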