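import Groth.Statements.S19540
import Mathlib.CategoryTheory.Sites.EpiMono
import Mathlib.CategoryTheory.Sites.Abelian
import Mathlib.CategoryTheory.Sites.Limits
import Mathlib.Algebra.Homology.ShortComplex.Ab
import Mathlib.Algebra.Category.Grp.EpiMono
import Mathlib.Algebra.Category.Grp.Abelian
import Mathlib.CategoryTheory.Preadditive.AdditiveFunctor

set_option autoImplicit false
open CategoryTheory CategoryTheory.Limits Opposite
universe w v u
open CohSite

namespace Groth.Agent.S19540

/-- Let (C, J) be a site and B a class of objects of C, each weakly contractible (every epimorphism of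
sheaves of sets, valued in a fixed universe, is surjective on sections over it), such that every
object V of C has a covering sieve all of whose arrows factor through some object of B. Then a
three-term complex F ⟶ G ⟶ H of abelian sheaves on (C, J) is exact if and only if for every U in B
the sequence of section groups F(U) ⟶ G(U) ⟶ H(U) is exact. (The published statement is for sheaves
of modules over a sheaf of rings O; this row is the case of the constant sheaf of rings ℤ, i.e.
abelian sheaves, to which exactness questions for O-modules reduce. The universe set-up assumes that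
abelian sheafification exists and inverts exactly the locally bijective maps, as on any small site.) -/
theorem result
    {C : Type u} [Category.{v} C] (J : GrothendieckTopology C) [HasSheafify J AddCommGrpCat.{w}]
    [J.WEqualsLocallyBijective AddCommGrpCat.{w}]
    (B : C → Prop)
    (hB : ∀ U : C, B U → ∀ (P Q : Sheaf J (Type w)) (ψ : P ⟶ Q), Epi ψ → Function.Surjective (ψ.hom.app (op U)))
    (hcov : ∀ V : C, ∃ S : Sieve V, S ∈ J V ∧ ∀ ⦃W : C⦄ (f : W ⟶ V), S.arrows f →
      ∃ (U : C) (g : W ⟶ U) (h : U ⟶ V), B U ∧ g ≫ h = f)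
    (S : ShortComplex (Sheaf J AddCommGrpCat.{w})) :
    S.Exact ↔ ∀ U : C, B U →
      (S.map (sheafToPresheaf J AddCommGrpCat.{w} ⋙ (evaluation Cᵒᵖ AddCommGrpCat.{w}).obj (op U))).Exact := by
  let ev : C → Sheaf J AddCommGrpCat.{w} ⥤ AddCommGrpCat.{w} := fun U =>
    sheafToPresheaf J AddCommGrpCat.{w} ⋙ (evaluation Cᵒᵖ AddCommGrpCat.{w}).obj (op U)
  have hcyc : ∀ U, ((ShortComplex.mk S.iCycles S.g S.iCycles_g).map (ev U)).Exact ∧ Mono ((ev U).map S.iCycles) := fun U =>
    ⟨ShortComplex.exact_of_f_is_kernel _ (KernelFork.mapIsLimit _ S.cyclesIsKernel (ev U)), inferInstance⟩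
  constructor
  · intro hS U hU
    have : Epi S.toCycles := hS.epi_toCycles
    have : Sheaf.IsLocallySurjective S.toCycles := (Sheaf.isLocallySurjective_iff_epi' (φ := S.toCycles)).2 inferInstance
    have hψ := hB U hU _ _ ((sheafCompose J (CategoryTheory.forget AddCommGrpCat.{w})).map S.toCycles) inferInstance
    rw [ShortComplex.ab_exact_iff]
    intro x hx
    obtain ⟨z, hz⟩ := (ShortComplex.ab_exact_iff _).1 (hcyc U).1 x hx
    obtain ⟨y, hy⟩ := hψ z
    refine ⟨y, ?_⟩
    rw [← hz, ← hy]
    change ((ev U).map S.f) y = ((ev U).map S.iCycles) (((ev U).map S.toCycles) y)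
    erw [← ConcreteCategory.comp_apply, ← Functor.map_comp, S.toCycles_i]
  · intro h
    rw [S.exact_iff_epi_toCycles, ← Sheaf.isLocallySurjective_iff_epi']
    refine ⟨fun {V} s => ?_⟩
    obtain ⟨R, hR, hRf⟩ := hcov V
    refine J.superset_covering (fun W f hf => ?_) hR
    obtain ⟨U, g, k, hU, rfl⟩ := hRf f hf
    let z : (ev U).obj S.cycles := S.cycles.obj.map k.op s
    have hz : ((ev U).map S.g) (((ev U).map S.iCycles) z) = 0 := by
      erw [← ConcreteCategory.comp_apply, ← Functor.map_comp, S.iCycles_g]; simp
    obtain ⟨y, hy⟩ := (ShortComplex.ab_exact_iff _).1 (h U hU) _ hz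
    have hyz : ((ev U).map S.toCycles) y = z := by
      refine (AddCommGrpCat.mono_iff_injective _).1 (hcyc U).2 ?_
      erw [← ConcreteCategory.comp_apply, ← Functor.map_comp, S.toCycles_i]
      exact hy
    refine ⟨S.X₁.obj.map g.op y, ?_⟩
    change S.toCycles.hom.app (op W) _ = S.cycles.obj.map (g ≫ k).op s
    erw [NatTrans.naturality_apply S.toCycles.hom g.op y]
    rw [op_comp, Functor.map_comp, ConcreteCategory.comp_apply]
    exact congrArg _ hyz

end Groth.Agent.S19540
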