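import Groth.Statements.S7113
import Groth.Agent.L03.SerreSplit
import Mathlib.Algebra.Module.FinitePresentation
import Mathlib.LinearAlgebra.Dimension.Constructions
import Mathlib.RingTheory.Localization.AtPrime.Basic

set_option autoImplicit false
universe u
open CAlg

namespace Groth.Agent.S7113

/-- Let R be a ring whose set of maximal ideals, with the Zariski topology, is a Noetherian topological
space of Krull dimension at most d, and let M be an R-module of finite presentation whose
localization M_m at each maximal ideal m contains a free direct summand of rank d + 1. Then M is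
isomorphic to R ⊕ M' for some M': there are s in M and a linear form φ on M with φ(s) = 1. (The
published statement takes the dimension equal to d; a space of smaller dimension satisfies the
hypothesis for a smaller d, so the bound form is equivalent.) -/
theorem result (R : Type u) [CommRing R] (d : ℕ)
    [TopologicalSpace.NoetherianSpace (MaximalSpectrum R)]
    (hdim : topologicalKrullDim (MaximalSpectrum R) ≤ d)
    (M : Type u) [AddCommGroup M] [Module R M] [Module.FinitePresentation R M]
    (hM : ∀ (m : Ideal R) [m.IsMaximal],
      ∃ (f : (Fin (d + 1) → Localization.AtPrime m) →ₗ[Localization.AtPrime m] LocalizedModule m.primeCompl M)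
        (g : LocalizedModule m.primeCompl M →ₗ[Localization.AtPrime m] (Fin (d + 1) → Localization.AtPrime m)),
        g ∘ₗ f = LinearMap.id) :
    ∃ (s : M) (φ : M →ₗ[R] R), φ s = 1 := by
  classical
  have hdimV : ∀ x : MaximalSpectrum R, 0 + (d + 1) ≤
      Module.finrank (R ⧸ x.asIdeal) (Groth.L03.SerreSplit.Vs M x.asIdeal) := by
    intro x
    haveI := x.isMaximal
    letI := Ideal.Quotient.field x.asIdeal
    let S := x.asIdeal.primeCompl
    let Rm := Localization.AtPrime x.asIdeal
    obtain ⟨f, g, hgf⟩ := hM x.asIdeal
    have hφ : ∀ a, ∃ (φ : M →ₗ[R] R) (c : S), ∀ y, algebraMap R Rm (φ y) =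
        algebraMap R Rm c * g (LocalizedModule.mkLinearMap S M y) a := by
      intro a
      obtain ⟨φ, c, hc⟩ := Module.FinitePresentation.exists_lift_of_isLocalizedModule S (Algebra.linearMap R Rm)
        (((LinearMap.proj a ∘ₗ g).restrictScalars R) ∘ₗ LocalizedModule.mkLinearMap S M)
      refine ⟨φ, c, fun y => ?_⟩
      have := LinearMap.congr_fun hc y
      simpa [Submonoid.smul_def, Algebra.smul_def] using this
    choose φ c hφc using hφ
    have hm : ∀ b, ∃ (m : M) (e : S), LocalizedModule.mkLinearMap S M m = algebraMap R Rm e • f (Pi.single b 1) := by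
      intro b
      obtain ⟨⟨m, e⟩, he⟩ := IsLocalizedModule.surj S (LocalizedModule.mkLinearMap S M) (f (Pi.single b 1))
      refine ⟨m, e, ?_⟩
      rw [← he, algebraMap_smul]
      rfl
    choose m e hme using hm
    have hdet : (Matrix.of fun a b => φ a (m b)).det ∉ x.asIdeal := by
      intro hd
      have hmap : (algebraMap R Rm).mapMatrix (Matrix.of fun a b => φ a (m b)) =
          Matrix.diagonal (fun a => algebraMap R Rm (c a) * algebraMap R Rm (e a)) := by
        ext a b
        rw [RingHom.mapMatrix_apply, Matrix.map_apply, Matrix.of_apply, hφc, hme, map_smul]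
        have := congrFun (LinearMap.congr_fun hgf (Pi.single b 1)) a
        simp only [LinearMap.comp_apply, LinearMap.id_apply] at this
        rw [Pi.smul_apply, this, Pi.single_apply, Matrix.diagonal_apply]
        split <;> simp_all
      have hu : IsUnit (algebraMap R Rm (Matrix.of fun a b => φ a (m b)).det) := by
        rw [RingHom.map_det, hmap, Matrix.det_diagonal]
        refine IsUnit.prod_univ_iff.2 fun a => ?_
        exact (IsLocalization.map_units Rm (c a)).mul (IsLocalization.map_units Rm (e a))
      rw [IsLocalization.AtPrime.isUnit_to_map_iff Rm x.asIdeal] at hu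
      exact hu hd
    have hli := (Groth.L03.SerreSplit.linearIndependent_iff_exists_det x.asIdeal m).2 ⟨φ, hdet⟩
    simpa using hli.fintype_card_le_finrank
  obtain ⟨t, F', hF', -, hb, hcod⟩ := Groth.L03.SerreSplit.exists_section (d + 1) 0
    (Fin.elim0 : Fin 0 → M) (∅ : Set (MaximalSpectrum R)) isClosed_empty hdimV
    (fun x hx => hx linearIndependent_empty_type) ∅ (by simp) (fun _ => 0)
  have hempty : ∀ x, x ∉ F' := by
    intro x hx
    have h1 := hcod ⟨{x}, isIrreducible_singleton, isClosed_singleton⟩ (by simpa using hx)
    have h2 := le_trans (Order.coheight_le_krullDim (α := TopologicalSpace.IrreducibleCloseds (MaximalSpectrum R))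
      ⟨{x}, isIrreducible_singleton, isClosed_singleton⟩) hdim
    have h3 : ((d + 1 : ℕ) : ℕ∞) ≤ (d : ℕ∞) := by
      refine le_trans h1 ?_
      exact_mod_cast h2
    have h4 : d + 1 ≤ d := by exact_mod_cast h3
    omega
  have htop : LinearMap.range (Module.Dual.eval R M t) = ⊤ := by
    by_contra hne
    obtain ⟨I, hI, hle⟩ := Ideal.exists_le_maximal _ hne
    haveI := hI
    let x : MaximalSpectrum R := ⟨I, hI⟩
    have hli : LinearIndependent (R ⧸ I) (fun i => Groth.L03.SerreSplit.img I ((Fin.snoc Fin.elim0 t : Fin 1 → M) i)) :=
      not_not.1 fun h' => (hb (show x ∈ Groth.L03.SerreSplit.bad _ from h')).elim id (hempty x)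
    have h0 : Groth.L03.SerreSplit.img I t ≠ 0 := by simpa [Fin.snoc] using hli.ne_zero 0
    obtain ⟨φ, hφ⟩ := (Groth.L03.SerreSplit.img_ne_zero_iff I t).1 h0
    exact hφ (hle ⟨φ, rfl⟩)
  obtain ⟨φ, hφ⟩ : (1 : R) ∈ LinearMap.range (Module.Dual.eval R M t) := htop ▸ Submodule.mem_top
  exact ⟨t, φ, hφ⟩

end Groth.Agent.S7113
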