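import Mathlib.RingTheory.Spectrum.Prime.FreeLocus
import Mathlib.RingTheory.KrullDimension.Basic
import Mathlib.RingTheory.Noetherian.Basic
import Mathlib.Algebra.Module.Projective
import Mathlib.Order.Disjoint
import Groth.Agent.S7113
import Mathlib.Topology.KrullDimension
import Mathlib.RingTheory.Spectrum.Prime.Noetherian
import Mathlib.RingTheory.Flat.Rank
import Mathlib.RingTheory.Spectrum.Maximal.Topology

set_option autoImplicit false
namespace CAlg
end CAlg
universe u
open CAlg

namespace Groth.Agent.S19544

/-- Let R be a Noetherian ring of Krull dimension d and P a finitely generated projective R-module of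
constant rank n at every prime of R, with n > d. Then P is isomorphic to P₀ ⊕ R^(n-d) for some
module P₀; concretely, P has complementary submodules P₀ and Q with Q free of rank n - d. -/
theorem result (R : Type u) [CommRing R]
    [IsNoetherianRing R] (d n : ℕ) (hdim : ringKrullDim R = d)
    (P : Type u) [AddCommGroup P] [Module R P] [Module.Finite R P] [Module.Projective R P]
    (hrk : ∀ p : PrimeSpectrum R, Module.rankAtStalk (R := R) P p = n) (hnd : d < n) :
    ∃ (P₀ Q : Submodule R P), IsCompl P₀ Q ∧ Nonempty (Q ≃ₗ[R] (Fin (n - d) → R)) := by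
  classical
  have hNS : TopologicalSpace.NoetherianSpace (MaximalSpectrum R) :=
    Topology.IsInducing.noetherianSpace (i := MaximalSpectrum.toPrimeSpectrum) ⟨rfl⟩
  have hDim : topologicalKrullDim (MaximalSpectrum R) ≤ d := by
    refine (Topology.IsInducing.topologicalKrullDim_le (f := MaximalSpectrum.toPrimeSpectrum) ⟨rfl⟩).trans ?_
    rw [PrimeSpectrum.topologicalKrullDim_eq_ringKrullDim, hdim]
  suffices key : ∀ (j : ℕ) (M : Type u) [AddCommGroup M] [Module R M] [Module.Finite R M] [Module.Projective R M],
      (∀ p : PrimeSpectrum R, d + j ≤ Module.rankAtStalk (R := R) M p) →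
      ∃ (π : M →ₗ[R] (Fin j → R)) (ι : (Fin j → R) →ₗ[R] M), π ∘ₗ ι = LinearMap.id by
    obtain ⟨π, ι, hπι⟩ := key (n - d) P fun p => by rw [hrk p]; omega
    have hι : Function.Injective ι := Function.LeftInverse.injective (g := π) fun c => LinearMap.congr_fun hπι c
    refine ⟨LinearMap.ker π, LinearMap.range ι, ?_, ⟨(LinearEquiv.ofInjective ι hι).symm⟩⟩
    constructor
    · rw [Submodule.disjoint_def]
      rintro _ hx ⟨c, rfl⟩
      rw [LinearMap.mem_ker, ← LinearMap.comp_apply, hπι, LinearMap.id_apply] at hx
      rw [hx, map_zero]
    · rw [codisjoint_iff, eq_top_iff]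
      intro x _
      have h1 : π (x - ι (π x)) = 0 := by
        rw [map_sub, ← LinearMap.comp_apply π ι, hπι, LinearMap.id_apply, sub_self]
      rw [← sub_add_cancel x (ι (π x))]
      exact add_mem (Submodule.mem_sup_left h1) (Submodule.mem_sup_right ⟨_, rfl⟩)
  intro j
  induction j with
  | zero => intro M _ _ _ _ _; exact ⟨0, 0, Subsingleton.elim _ _⟩
  | succ j ih =>
    intro M _ _ _ _ hM
    haveI : Module.FinitePresentation R M := Module.finitePresentation_of_finite R M
    have hloc : ∀ (m : Ideal R) [m.IsMaximal],
        ∃ (f : (Fin (d + 1) → Localization.AtPrime m) →ₗ[Localization.AtPrime m] LocalizedModule m.primeCompl M)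
          (g : LocalizedModule m.primeCompl M →ₗ[Localization.AtPrime m] (Fin (d + 1) → Localization.AtPrime m)),
          g ∘ₗ f = LinearMap.id := by
      intro m _
      haveI : Module.Finite (Localization.AtPrime m) (LocalizedModule m.primeCompl M) :=
        Module.Finite.of_isLocalizedModule m.primeCompl (LocalizedModule.mkLinearMap m.primeCompl M)
      haveI : Module.Flat (Localization.AtPrime m) (LocalizedModule m.primeCompl M) :=
        Module.Flat.of_isLocalizedModule (Localization.AtPrime m) m.primeCompl (LocalizedModule.mkLinearMap m.primeCompl M)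
      haveI : Module.Free (Localization.AtPrime m) (LocalizedModule m.primeCompl M) := Module.free_of_flat_of_isLocalRing
      let b := Module.finBasis (Localization.AtPrime m) (LocalizedModule m.primeCompl M)
      have hle : d + 1 ≤ Module.finrank (Localization.AtPrime m) (LocalizedModule m.primeCompl M) :=
        le_trans (by omega) (hM ⟨m, inferInstance⟩)
      refine ⟨Fintype.linearCombination _ fun i => b (Fin.castLE hle i),
        LinearMap.pi fun i => b.coord (Fin.castLE hle i), ?_⟩
      apply (Pi.basisFun (Localization.AtPrime m) (Fin (d + 1))).ext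
      intro i
      funext a
      simp only [Pi.basisFun_apply, LinearMap.comp_apply, Fintype.linearCombination_apply_single, one_smul,
        LinearMap.pi_apply, Module.Basis.coord_apply, Module.Basis.repr_self, LinearMap.id_apply,
        Finsupp.single_apply, Pi.single_apply, Fin.castLE_inj]
      simp [eq_comm]
    obtain ⟨s, φ, hs⟩ := Groth.Agent.S7113.result R d hDim M hloc
    let p : M →ₗ[R] LinearMap.ker φ := (LinearMap.id - φ.smulRight s).codRestrict _ fun x => by
      simp [LinearMap.mem_ker, hs]
    have hpv : ∀ x, (p x : M) = x - φ x • s := fun x => rfl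
    haveI : Module.Projective R (LinearMap.ker φ) := Module.Projective.of_split (LinearMap.ker φ).subtype p (by
      exact LinearMap.ext fun x => Subtype.ext (by simp [hpv, LinearMap.mem_ker.mp x.2]))
    haveI : Module.Finite R (LinearMap.ker φ) := Module.Finite.of_surjective p fun x => ⟨x.1, by
      exact Subtype.ext (by simp [hpv, LinearMap.mem_ker.mp x.2])⟩
    let e : M ≃ₗ[R] (LinearMap.ker φ × R) :=
      { p.prod φ with
        invFun := fun z => (z.1 : M) + z.2 • s
        left_inv := fun x => by simp [hpv]
        right_inv := fun z => by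
          refine Prod.ext (Subtype.ext ?_) ?_ <;> simp [hpv, LinearMap.mem_ker.mp z.1.2, hs] }
    obtain ⟨π, ι, hπι⟩ := ih (LinearMap.ker φ) fun q => by
      haveI : Nontrivial R := q.nontrivial
      have h1 := congrFun (Module.rankAtStalk_eq_of_equiv e) q
      rw [Module.rankAtStalk_prod, Pi.add_apply, Module.rankAtStalk_self, Pi.one_apply] at h1
      have := hM q
      omega
    refine ⟨LinearMap.pi (Fin.cons φ fun i => LinearMap.proj i ∘ₗ π ∘ₗ p),
      (LinearMap.proj 0).smulRight s + (LinearMap.ker φ).subtype ∘ₗ ι ∘ₗ LinearMap.pi fun i => LinearMap.proj i.succ, ?_⟩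
    refine LinearMap.ext fun c => funext fun i => ?_
    have hk : φ ((ι fun i => c i.succ : LinearMap.ker φ) : M) = 0 := LinearMap.mem_ker.mp (ι _).2
    have hp : p (c 0 • s + ((ι fun i => c i.succ : LinearMap.ker φ) : M)) = ι fun i => c i.succ := by
      exact Subtype.ext (by simp [hpv, hs, hk])
    induction i using Fin.cases with
    | zero => simp [hs, hk]
    | succ i =>
      simp only [LinearMap.comp_apply, LinearMap.pi_apply, Fin.cons_succ, LinearMap.id_apply, LinearMap.proj_apply,
        LinearMap.add_apply, LinearMap.smulRight_apply, Submodule.subtype_apply]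
      have h2 := congrArg (fun z => π z i) hp
      refine Eq.trans h2 ?_
      exact congrFun (LinearMap.congr_fun hπι _) i

end Groth.Agent.S19544
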