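import Groth.Statements.S19547
import Mathlib.RingTheory.Flat.FaithfullyFlat.Basic
import Mathlib.RingTheory.Flat.Basic
import Mathlib.LinearAlgebra.TensorProduct.RightExactness

set_option autoImplicit false
set_option backward.isDefEq.respectTransparency.types false
set_option backward.isDefEq.respectTransparency false
set_option linter.style.haveILetI false
universe u
open TensorProduct
open Desc

namespace Groth.Agent.S19547

/-- Let A → A' be a faithfully flat homomorphism of commutative rings, M' an A'-module and φ : M' ⊗_A A'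
→ A' ⊗_A M' an isomorphism of (A' ⊗_A A')-modules for the diagonal actions (x ⊗ y)(u ⊗ z) = xu ⊗ yz
and (x ⊗ y)(z ⊗ u) = xz ⊗ yu, satisfying the cocycle condition φ_13 = φ_23 ∘ φ_12 between the three
pullbacks to A' ⊗_A A' ⊗_A A'. Here linearity over A' ⊗_A A' is stated on the generators x ⊗ 1 and 1
⊗ y, and the cocycle condition on pure tensors u ⊗ a ⊗ b: writing φ(u ⊗ a) = Σ a_i ⊗ u_i, it says Σ
a_i ⊗ φ(u_i ⊗ b) = Σ b_j ⊗ a ⊗ u'_j where φ(u ⊗ b) = Σ b_j ⊗ u'_j. Let M = {u ∈ M' : φ(u ⊗ 1) = 1 ⊗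
u}, an A-submodule of M'. Then the canonical map λ : A' ⊗_A M → M', x ⊗ u ↦ xu, is an isomorphism. -/
theorem result (A A' : Type u) [CommRing A] [CommRing A']
    [Algebra A A'] [Module.FaithfullyFlat A A'] (M' : Type u) [AddCommGroup M'] [Module A M']
    [Module A' M'] [IsScalarTower A A' M']
    (φ : M' ⊗[A] A' →ₗ[A] A' ⊗[A] M') (hφ : Function.Bijective φ)
    (h1 : ∀ (x : A') (u : M') (z : A'),
      φ ((x • u) ⊗ₜ[A] z) = LinearMap.rTensor M' (LinearMap.mulLeft A x) (φ (u ⊗ₜ[A] z)))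
    (h2 : ∀ (y : A') (u : M') (z : A'),
      φ (u ⊗ₜ[A] (y * z)) = LinearMap.lTensor A' (Algebra.lsmul A A M' y) (φ (u ⊗ₜ[A] z)))
    (hcoc : ∀ (u : M') (a b : A'),
      LinearMap.lTensor A' φ (TensorProduct.assoc A A' M' A' (LinearMap.rTensor A' φ ((u ⊗ₜ[A] a) ⊗ₜ[A] b))) =
        LinearMap.lTensor A' (TensorProduct.mk A A' M' a) (φ (u ⊗ₜ[A] b)))
    (M : Submodule A M') (hM : ∀ u : M', u ∈ M ↔ φ (u ⊗ₜ[A] (1 : A')) = (1 : A') ⊗ₜ[A] u) :
    Function.Bijective
      ((TensorProduct.lift (Algebra.lsmul A A M').toLinearMap) ∘ₗ (LinearMap.lTensor A' M.subtype)) := by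
  let ι : M' →ₗ[A] A' ⊗[A] M' := TensorProduct.mk A A' M' 1
  let ψ : M' →ₗ[A] A' ⊗[A] M' := φ ∘ₗ (TensorProduct.mk A M' A').flip 1
  have hker : M = LinearMap.ker (ψ - ι) := by
    ext u
    rw [LinearMap.mem_ker, LinearMap.sub_apply, sub_eq_zero]
    exact hM u
  let μ : A' ⊗[A] M' →ₗ[A] M' := TensorProduct.lift (Algebra.lsmul A A M').toLinearMap
  have hμ : ∀ (x : A') (u : M'), μ (x ⊗ₜ u) = x • u := fun x u => rfl
  have hinj : Function.Injective (LinearMap.lTensor A' M.subtype) :=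
    Module.Flat.lTensor_preserves_injective_linearMap _ Subtype.val_injective
  have hex : Function.Exact (LinearMap.lTensor A' M.subtype) (LinearMap.lTensor A' (ψ - ι)) := by
    refine Module.Flat.lTensor_exact A' (LinearMap.exact_iff.mpr ?_)
    rw [Submodule.range_subtype, hker]
  -- the cocycle at `1 ⊗ 1`
  have c1 : ∀ w : A' ⊗[A] M', LinearMap.lTensor A' ψ w =
      LinearMap.lTensor A' φ (TensorProduct.assoc A A' M' A' (w ⊗ₜ[A] (1 : A'))) := fun w => by
    induction w with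
    | zero => simp
    | tmul x u => simp [ψ]
    | add w₁ w₂ h₁ h₂ => rw [map_add, h₁, h₂, TensorProduct.add_tmul, map_add, map_add]
  have hc : ∀ u, LinearMap.lTensor A' (ψ - ι) (ψ u) = 0 := fun u => by
    rw [LinearMap.lTensor_sub, LinearMap.sub_apply, c1, sub_eq_zero]
    have := hcoc u 1 1
    rw [LinearMap.rTensor_tmul] at this
    exact this
  -- normalisation
  let e : M' →ₗ[A] M' := μ ∘ₗ ψ
  have μ1 : ∀ (x : A') (w : A' ⊗[A] M'),
      μ (LinearMap.rTensor M' (LinearMap.mulLeft A x) w) = x • μ w := fun x w => by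
    induction w with
    | zero => simp
    | tmul a u => simp [hμ, mul_smul]
    | add w₁ w₂ h₁ h₂ => simp [map_add, h₁, h₂, smul_add]
  have μ2 : ∀ (y : A') (w : A' ⊗[A] M'),
      μ (LinearMap.lTensor A' (Algebra.lsmul A A M' y) w) = y • μ w := fun y w => by
    induction w with
    | zero => simp
    | tmul a u => simp [hμ, smul_comm a y u]
    | add w₁ w₂ h₁ h₂ => simp [map_add, h₁, h₂, smul_add]
  have ψsmul : ∀ (x : A') (u : M'),
      ψ (x • u) = LinearMap.rTensor M' (LinearMap.mulLeft A x) (ψ u) := fun x u => h1 x u 1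
  have esmul : ∀ (x : A') (u : M'), e (x • u) = x • e u := fun x u => by
    show μ (ψ (x • u)) = x • μ (ψ u)
    rw [ψsmul, μ1]
  have hee : ∀ u, e (e u) = e u := fun u => by
    have h0 := hc u
    rw [LinearMap.lTensor_sub, LinearMap.sub_apply, sub_eq_zero] at h0
    have key : ∀ w : A' ⊗[A] M', μ (LinearMap.lTensor A' μ (LinearMap.lTensor A' ψ w)) = e (μ w) ∧
        μ (LinearMap.lTensor A' μ (LinearMap.lTensor A' ι w)) = μ w := fun w => by
      induction w with
      | zero => simp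
      | tmul a v => simp [hμ, ι, esmul, e]
      | add w₁ w₂ h₁ h₂ => simp [map_add, h₁.1, h₂.1, h₁.2, h₂.2]
    have := (key (ψ u)).1
    rw [h0, (key (ψ u)).2] at this
    exact this.symm
  have hsurj : Function.Surjective e := fun v => by
    obtain ⟨t, ht⟩ := hφ.2 ((1 : A') ⊗ₜ[A] v)
    have key : ∀ t : M' ⊗[A] A', ∃ u, μ (φ t) = e u := fun t => by
      induction t with
      | zero => exact ⟨0, by simp⟩
      | tmul u z =>
        refine ⟨z • u, ?_⟩
        rw [esmul, show (u ⊗ₜ[A] z : M' ⊗[A] A') = u ⊗ₜ[A] (z * 1) by rw [mul_one], h2, μ2]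
        rfl
      | add t₁ t₂ ht₁ ht₂ =>
        obtain ⟨u₁, hu₁⟩ := ht₁
        obtain ⟨u₂, hu₂⟩ := ht₂
        exact ⟨u₁ + u₂, by simp [map_add, hu₁, hu₂]⟩
    obtain ⟨u, hu⟩ := key t
    rw [ht, hμ, one_smul] at hu
    exact ⟨u, hu.symm⟩
  have hid : ∀ v, e v = v := fun v => by
    obtain ⟨u, rfl⟩ := hsurj v
    exact hee u
  have hψM : ∀ w : A' ⊗[A] M, ψ (μ (LinearMap.lTensor A' M.subtype w)) = LinearMap.lTensor A' M.subtype w :=
    fun w => by
    induction w with
    | zero => simp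
    | tmul x m =>
      have hm : ψ (m : M') = (1 : A') ⊗ₜ[A] (m : M') := (hM _).mp m.2
      simp [hμ, ψsmul, hm]
    | add w₁ w₂ h₁ h₂ => simp [map_add, h₁, h₂]
  refine ⟨fun a b hab => hinj ?_, fun v => ?_⟩
  · rw [← hψM a, ← hψM b]
    exact congrArg ψ hab
  · obtain ⟨w, hw⟩ := (hex (ψ v)).mp (hc v)
    exact ⟨w, (congrArg μ hw).trans (hid v)⟩

end Groth.Agent.S19547
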