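import Groth.Agent.L18.SchFin.Affine
import Groth.Statements.S19549
-- import your own Groth.Agent.* helpers here

set_option autoImplicit false
universe u
open SchFin SchFin.Alg

namespace Groth.Agent.S19549

open SchFin TensorProduct in
/-- Let X be a schematic finite space, A a quasi-coherent algebra on X and U an affine up-closed set of
points. Then the value of A at every point of U is étale over the ring of that point (flat,
unramified and of finite presentation) if and only if the ring map from the sections of the rings
over U to the sections of A over U is étale. (The published statement ranges over all affine open
subsets, with the same criterion for an affine open cover, and is phrased for étale cover sheaves,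
which are in addition finite at every point; this row states the étale part of the criterion for one
affine up-closed subset, finiteness at the points of U being equivalent to finiteness of the same
ring map by the companion criterion for finite algebras. It carries explicitly the hypotheses that
the product of the rings of the points of U is faithfully flat over the ring of sections of the
rings over U, and likewise for the algebra; these hold for every affine open subset and every
quasi-coherent algebra by results the published proof uses and recalls without proof.) -/
theorem result (X : RSpace.{u}) (hX : X.IsSchematic) (A : Alg X) (hA : A.IsQcoh)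
    (U : Set X.pt) (hU' : IsUpperSet U) (hUa : (X.restrict U).IsAffine)
    (hφ : Module.FaithfullyFlat (X.sectRing U) ((q : ↥U) → X.ring q.1))
    (hψ : (A.total.sectRing U).subtype.FaithfullyFlat) :
    (∀ q : X.pt, q ∈ U → Algebra.Etale (X.ring q) (A.carrier q)) ↔ (A.sectMap U).Etale := by
  classical
  haveI : Finite ↥U := inferInstance
  letI : ∀ q : U, Algebra (X.sectRing U) (X.ring q.1) := fun q => Groth.L18.SchFin.evalAlg U q
  haveI : Module.FaithfullyFlat (X.sectRing U) ((q : ↥U) → X.ring q.1) := Groth.L18.SchFin.ff_evalAlg hφ
  letI := (A.sectMap U).toAlgebra
  have he := fun q : U => Groth.L18.SchFin.bijective_evalAlgHom U A hA hUa q
  choose e he' using he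
  refine ⟨fun h => ?_, fun h q hq => ?_⟩
  · exact Groth.L18.SchFin.etale_of_factors (fun q : U => X.ring q.1) fun q =>
      haveI := h q.1 q.2
      Algebra.Etale.of_equiv (e q).symm
  · haveI : Algebra.Etale (X.sectRing U) (A.total.sectRing U) := h
    exact Algebra.Etale.of_equiv (e ⟨q, hq⟩)

end Groth.Agent.S19549
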