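import Groth.Agent.L18.SchFin.Rel
import Groth.Statements.S19550
-- import your own Groth.Agent.* helpers here

set_option autoImplicit false
universe u
open SchFin SchFin.RSpace

namespace Groth.Agent.S19550

open SchFin in
/-- Let X be a well-connected schematic finite space and f : A → B a morphism of quasi-coherent algebras
between trivial étale covers A ≅ O_X^F and B ≅ O_X^E, F and E finite sets. Then f is induced by a
map of finite sets φ : E → F. Here the trivial algebras are written out: f is a family of
O_p-algebra maps (F → O_p) → (E → O_p), one for each point p, compatible with the restriction maps,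
and the conclusion says f_p(g) = g ∘ φ for every p and g. (The published statement names a map F →
E; a map of algebras of functions O^F → O^E is composition with a map E → F, which is what this row
states.) -/
theorem result (X : RSpace.{u})
    (hX : X.IsSchematic) (hW : X.IsWellConnected) (F E : Type) [Finite F] [Finite E]
    (f : ∀ p : X.pt, (F → X.ring p) →ₐ[X.ring p] (E → X.ring p))
    (hf : ∀ (p q : X.pt) (h : p ≤ q) (g : F → X.ring p) (e : E),
      X.res h (f p g e) = f q (fun i => X.res h (g i)) e) :
    ∃ φ : E → F, ∀ (p : X.pt) (g : F → X.ring p) (e : E), f p g e = g (φ e) := by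
  have htc := ((Groth.L18.SchFin.connected_iff hX).mp hW).1
  haveI : ∀ t, ConnectedSpace (PrimeSpectrum (X.ring t)) := hW.2
  haveI : ∀ t, Nontrivial (X.ring t) := fun t => Groth.L18.SchFin.nontrivial_of_connected
  haveI := Fintype.ofFinite F
  classical
  have hmul : ∀ p (i : F) (e : E), IsIdempotentElem (f p (Pi.single i 1) e) := fun p i e => by
    show f p (Pi.single i 1) e * f p (Pi.single i 1) e = _
    rw [← Pi.mul_apply, ← map_mul]
    simp [← Pi.single_mul]
  have hdec : ∀ p (g : F → X.ring p) (e : E), f p g e = ∑ i, g i * f p (Pi.single i 1) e := by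
    intro p g e
    conv_lhs => rw [pi_eq_sum_univ' g]
    simp [map_sum, map_smul]
  have hex : ∀ p (e : E), ∃ i, f p (Pi.single i 1) e = 1 := by
    intro p e
    by_contra hne
    push Not at hne
    have h0 : ∀ i, f p (Pi.single i 1) e = 0 := fun i =>
      (Groth.L18.SchFin.eq_zero_or_one_of_connected (hmul p i e)).resolve_right (hne i)
    have := hdec p 1 e
    rw [map_one, Pi.one_apply, Finset.sum_eq_zero fun i _ => by rw [h0, mul_zero]] at this
    exact one_ne_zero this
  have huniq : ∀ p (e : E) i j, f p (Pi.single i 1) e = 1 → f p (Pi.single j 1) e = 1 → i = j := by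
    intro p e i j hi hj
    by_contra hij
    have h : f p (Pi.single i 1 * Pi.single j 1) e = 1 := by rw [map_mul, Pi.mul_apply, hi, hj, mul_one]
    rw [show (Pi.single i 1 : F → X.ring p) * Pi.single j 1 = 0 from funext fun l => by
      by_cases hl : l = i
      · subst hl; simp [hij]
      · simp [hl], map_zero, Pi.zero_apply] at h
    exact zero_ne_one h
  obtain ⟨p₀⟩ := htc.1
  choose φ hφ using hex p₀
  refine ⟨φ, fun p g e => ?_⟩
  have hp : f p (Pi.single (φ e) 1) e = 1 := by
    refine (Groth.L18.SchFin.iff_of_topConnected htc (S := fun q => f q (Pi.single (φ e) 1) e = 1)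
      (fun a b hab => ?_) p₀ p).mp (hφ e)
    have h := hf a b hab (Pi.single (φ e) 1) e
    rw [show (fun i => X.res hab ((Pi.single (φ e) 1 : F → X.ring a) i)) = Pi.single (φ e) 1 from
      funext fun i => by by_cases hi : i = φ e <;> simp [hi]] at h
    refine ⟨fun h1 => by rw [← h, h1, map_one], fun h1 => ?_⟩
    refine (Groth.L18.SchFin.eq_zero_or_one_of_connected (hmul a _ e)).resolve_left fun h0 => ?_
    rw [h0, map_zero, h1] at h
    exact zero_ne_one h
  rw [hdec, Finset.sum_eq_single (φ e), hp, mul_one]
  · intro i _ hi
    rw [(Groth.L18.SchFin.eq_zero_or_one_of_connected (hmul p i e)).resolve_right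
      fun h1 => hi (huniq p e i _ h1 hp), mul_zero]
  · exact fun h => (h (Finset.mem_univ _)).elim

end Groth.Agent.S19550
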