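import Mathlib.RingTheory.Spectrum.Prime.FreeLocus
import Mathlib.RingTheory.KrullDimension.Basic
import Mathlib.RingTheory.Noetherian.Basic
import Mathlib.Algebra.Module.Projective
import Mathlib.LinearAlgebra.Prod
import Mathlib.LinearAlgebra.Pi
import Groth.Agent.L02.BassCancel
import Mathlib.LinearAlgebra.Pi

set_option autoImplicit false
namespace CAlg
end CAlg
universe u
open CAlg

namespace Groth.Agent.S19552

/-- Let R be a Noetherian ring of Krull dimension d and P, Q finitely generated projective R-modules of
constant rank at every prime which have the same class in the Grothendieck group, i.e. are stably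
isomorphic: P ⊕ R^m ≅ Q ⊕ R^m for some m. Then there is a positive integer N with P^N ≅ Q^N. (The
two exponents in the published display are read as the same integer N; for modules of positive rank
an isomorphism between direct powers forces equal exponents.) -/
theorem result (R : Type u) [CommRing R] [IsNoetherianRing R]
    (d n : ℕ) (hdim : ringKrullDim R = d)
    (P Q : Type u) [AddCommGroup P] [Module R P] [Module.Finite R P] [Module.Projective R P]
    [AddCommGroup Q] [Module R Q] [Module.Finite R Q] [Module.Projective R Q]
    (hrk : ∀ p : PrimeSpectrum R, Module.rankAtStalk (R := R) P p = n)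
    (hrk' : ∀ p : PrimeSpectrum R, Module.rankAtStalk (R := R) Q p = n)
    (m : ℕ) (e : (P × (Fin m → R)) ≃ₗ[R] (Q × (Fin m → R))) :
    ∃ N : ℕ, 1 ≤ N ∧ Nonempty ((Fin N → P) ≃ₗ[R] (Fin N → Q)) := by
  by_cases hn : n = 0
  · subst hn
    haveI : Subsingleton P := (Module.rankAtStalk_eq_zero_iff_subsingleton (R := R) (M := P)).mp (funext hrk)
    haveI : Subsingleton Q := (Module.rankAtStalk_eq_zero_iff_subsingleton (R := R) (M := Q)).mp (funext hrk')
    exact ⟨1, le_rfl, ⟨LinearEquiv.ofSubsingleton _ _⟩⟩
  refine ⟨d + 1, by omega, ?_⟩
  let dist : ∀ (M : Type u) [AddCommGroup M] [Module R M],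
      (Fin (d + 1) → M × (Fin m → R)) ≃ₗ[R] (Fin (d + 1) → M) × (Fin ((d + 1) * m) → R) := fun M _ _ =>
    { toFun := fun f => (fun i => (f i).1, fun j => (f (finProdFinEquiv.symm j).1).2 (finProdFinEquiv.symm j).2)
      invFun := fun z i => (z.1 i, fun k => z.2 (finProdFinEquiv (i, k)))
      map_add' := fun _ _ => rfl
      map_smul' := fun _ _ => rfl
      left_inv := fun f => funext fun i => by simp
      right_inv := fun z => Prod.ext rfl (funext fun j => congrArg z.2 (finProdFinEquiv.apply_symm_apply j)) }
  haveI : Module.Projective R (Fin (d + 1) → P) := Module.Projective.of_equiv DFinsupp.linearEquivFunOnFintype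
  refine Groth.L02.BassCancel.cancel (d := d) hdim.le ((d + 1) * m) (fun q => ?_)
    ((dist P).symm.trans ((LinearEquiv.piCongrRight fun _ => e).trans (dist Q)))
  rw [Module.rankAtStalk_pi]
  simp only [finsum_eq_sum_of_fintype, Finset.sum_apply, hrk q, Finset.sum_const, Finset.card_univ, Fintype.card_fin, smul_eq_mul]
  have : 1 ≤ n := by omega
  nlinarith

end Groth.Agent.S19552
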