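import Groth.Statements.S19562
import Groth.Agent.L13.LG.FieldPts

set_option autoImplicit false
universe u
open W4c1limliniiii

namespace Groth.Agent.S19562

open TensorProduct in
/-- Let k be a field, 0 < r < d, and f_i, g_i (i < n) linear maps forward and backward between
consecutive ones of n + 1 copies of k^d, forming a linked Grassmannian over Spec k whose scalar s is
zero: every composite f_i ∘ g_i and g_i ∘ f_i vanishes, rank f_i + rank g_i ≥ d, and for consecutive
indices im f_i ∩ ker f_{i+1} = 0 and im g_{i+1} ∩ ker g_i = 0. Let (V_i) be a k-valued point of the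
linked Grassmannian of rank-r sub-bundles (subspaces V_i of k ⊗ k^d with quotient of rank d − r,
with f_i(V_i) ⊆ V_{i+1} and g_i(V_{i+1}) ⊆ V_i). Then (V_i) is exact, meaning ker g_i ∩ V_{i+1} ⊆
f_i(V_i) and ker f_i ∩ V_i ⊆ g_i(V_{i+1}) for all i, if and only if dim f_i(V_i) + dim g_i(V_{i+1})
= r for all i. (The published assertion is for points with values in an arbitrary scheme and also
says that f_i(V_i) and g_i(V_{i+1}) are then sub-bundles; this row is the case of a field, where the
last clause is empty.) -/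
theorem result (k : Type u) [Field k]
    (d r n : ℕ) (hr : 0 < r) (hrd : r < d) (f g : Fin n → ((Fin d → k) →ₗ[k] (Fin d → k)))
    (hI : ∀ i, (f i).comp (g i) = 0 ∧ (g i).comp (f i) = 0)
    (hII : ∀ i, d ≤ Module.finrank k (LinearMap.range (f i)) + Module.finrank k (LinearMap.range (g i)))
    (hIII : ∀ i j : Fin n, i.val + 1 = j.val →
      LinearMap.range (f i) ⊓ LinearMap.ker (f j) = ⊥ ∧
        LinearMap.range (g j) ⊓ LinearMap.ker (g i) = ⊥)
    (V : Fin (n + 1) → Module.Grassmannian k (k ⊗[k] (Fin d → k)) (d - r))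
    (hV : V ∈ W4c1limliniiii.LGPoints k d r n f g k) :
    W4c1limliniiii.IsExact k d r n f g k V ↔
      ∀ i : Fin n,
        Module.finrank k ↥(Submodule.map ((f i).baseChange k) (V i.castSucc).toSubmodule) +
          Module.finrank k ↥(Submodule.map ((g i).baseChange k) (V i.succ).toSubmodule) = r := by
  have hpt := Groth.L13.LG.isPt_sub V hV
  have hch := Groth.L13.LG.chain_of_isPt hrd.le hpt
  have hL : Groth.L13.LG.Linked (Groth.L13.LG.nF k f) (Groth.L13.LG.nF k g) n (0 : k) := by
    have := Groth.L13.LG.linked_nF (A := k) (s := (0 : k)) (f := f) (g := g)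
      (fun i => by simpa using hI i)
    simpa using this
  rw [Groth.L13.LG.isExact_iff, Groth.L13.LG.exact_iff_finrank hL hch]
  have key : ∀ (i : Fin n),
      Module.finrank k ↥((Groth.L13.LG.sub V i.1).map (Groth.L13.LG.nF k f i.1)) =
        Module.finrank k ↥(Submodule.map ((f i).baseChange k) (V i.castSucc).toSubmodule) ∧
      Module.finrank k ↥((Groth.L13.LG.sub V (i.1 + 1)).map (Groth.L13.LG.nF k g i.1)) =
        Module.finrank k ↥(Submodule.map ((g i).baseChange k) (V i.succ).toSubmodule) := fun i => by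
    rw [Groth.L13.LG.nF_of_lt f i.2, Groth.L13.LG.nF_of_lt g i.2,
      Groth.L13.LG.map_sub_eq V _ (show i.1 < n + 1 by omega),
      Groth.L13.LG.map_sub_eq V _ (show i.1 + 1 < n + 1 by omega)]
    exact ⟨LinearEquiv.finrank_map_eq _ _, LinearEquiv.finrank_map_eq _ _⟩
  constructor
  · intro h i
    rw [← (key i).1, ← (key i).2]
    exact h i.1 i.2
  · intro h i hi
    rw [(key ⟨i, hi⟩).1, (key ⟨i, hi⟩).2]
    exact h ⟨i, hi⟩

end Groth.Agent.S19562
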