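import Groth.Statements.S19563
import Groth.Agent.L11.NeronSp.Main

set_option autoImplicit false
universe u
open CategoryTheory CategoryTheory.Limits AlgebraicGeometry
open Neron

namespace Groth.Agent.S19563

/-- Let S be a locally Noetherian scheme, U ⊆ S a schematically dense open subscheme and A → U an
abelian scheme (a proper smooth U-group scheme with geometrically connected fibres). Let g : S′ → S
be smooth and surjective, U′ = g⁻¹(U), and let N′ be a smooth, separated, quasi-compact S′-scheme
together with a U′-isomorphism N′ ×_{S′} U′ ≅ A ×_U U′ such that N′ has the Néron mapping property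
for U′ ⊆ S′: for every smooth S′-scheme Y′, restriction to U′ is a bijection from S′-morphisms Y′ →
N′ onto U′-morphisms; so N′ is a Néron model of A ×_U U′ over S′. Then A has a Néron model over S as
an algebraic space: there is an algebraic space N over S (an fppf sheaf on S-schemes with
representable diagonal and an étale surjective chart from a scheme), smooth and separated over S,
with an isomorphism over h_U between N × h_U and h_A, such that for every smooth S-scheme T, sending
a morphism h_T → N to the induced morphism h_T × h_U → h_A is a bijection onto the morphisms over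
h_U. (The published statement has S and U arbitrary and N′ an algebraic space; this row takes S
locally Noetherian with U schematically dense, the setting in which schematic closures of sections
behave as the argument needs, and N′ a scheme; quasi-compactness of N over S is not asserted.) -/
theorem result
    {S S' : Scheme.{u}} [IsLocallyNoetherian S] (g : S' ⟶ S) [Smooth g] [Surjective g]
    (U : S.Opens) (hU : CInt.IsSchematicallyDense U)
    (A : Scheme.{u}) (a : A ⟶ (U : Scheme.{u})) [IsProper a] [Smooth a] [GeometricallyConnected a]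
    [GrpObj (Over.mk a : Over (U : Scheme.{u}))]
    (N' : Over S') [Smooth N'.hom] [IsSeparated N'.hom] [QuasiCompact N'.hom]
    (e' : pullback N'.hom (g ⁻¹ᵁ U).ι ≅ pullback a (g ∣_ U))
    (he' : e'.hom ≫ pullback.snd a (g ∣_ U) = pullback.snd N'.hom (g ⁻¹ᵁ U).ι)
    (hN' : ∀ Y' : Over S', Smooth Y'.hom →
      Function.Bijective (fun f : Y' ⟶ N' => (Over.pullback (g ⁻¹ᵁ U).ι).map f)) :
    ∃ (N : AlgSp.Sp S) (_ : AlgSp.IsAlgSpace N) (π : N ⟶ (AlgSp.yon S).obj (Over.mk (𝟙 S)))
      (e : N ⨯ (AlgSp.yon S).obj (Over.mk U.ι : Over S) ≅ (AlgSp.yon S).obj (Over.mk (a ≫ U.ι) : Over S)),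
      AlgSp.LocP @Smooth π ∧ AlgSp.IsSeparatedMor π ∧
      e.hom ≫ (AlgSp.yon S).map (Over.homMk (U := (Over.mk (a ≫ U.ι) : Over S)) (V := (Over.mk U.ι : Over S)) a rfl) = Limits.prod.snd ∧
      ∀ (T : Over S), Smooth T.hom →
        (∀ φ₁ φ₂ : (AlgSp.yon S).obj T ⟶ N,
          Limits.prod.map φ₁ (𝟙 ((AlgSp.yon S).obj (Over.mk U.ι : Over S))) ≫ e.hom =
            Limits.prod.map φ₂ (𝟙 ((AlgSp.yon S).obj (Over.mk U.ι : Over S))) ≫ e.hom → φ₁ = φ₂) ∧
        (∀ γ : (AlgSp.yon S).obj T ⨯ (AlgSp.yon S).obj (Over.mk U.ι : Over S) ⟶ (AlgSp.yon S).obj (Over.mk (a ≫ U.ι) : Over S),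
          γ ≫ (AlgSp.yon S).map (Over.homMk (U := (Over.mk (a ≫ U.ι) : Over S)) (V := (Over.mk U.ι : Over S)) a rfl) = Limits.prod.snd →
          ∃ φ : (AlgSp.yon S).obj T ⟶ N,
            Limits.prod.map φ (𝟙 ((AlgSp.yon S).obj (Over.mk U.ι : Over S))) ≫ e.hom = γ) := by
  let D := Groth.L11.NeronSp.datum g U a N' e' he' hN'
  exact ⟨D.N, D.isAlgSpace, (Over.mkIdTerminal.isTerminalObj (AlgSp.yon S)).from D.N, D.e, D.locP_smooth _,
    D.isSeparatedMor _, D.e_ao, fun T hT => ⟨D.hom_unique T hT, D.hom_exists T hT⟩⟩

end Groth.Agent.S19563
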