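import Groth.Statements.S19565
import Mathlib.LinearAlgebra.RootSystem.Base
import Mathlib.LinearAlgebra.RootSystem.Irreducible
import Mathlib.LinearAlgebra.Finsupp.LinearCombination
import Mathlib.Algebra.Module.Submodule.Pointwise

set_option autoImplicit false
universe u v w
open RootComb

namespace Groth.Agent.S19565

/-- Let Φ be a finite reduced crystallographic irreducible root system over a field of characteristic
zero, Δ a base of simple roots, I ⊆ Δ, and suppose the simple roots outside I are split into two
disjoint non-empty sets A and B. Then there are a simple root β ∈ A and a root δ such that δ is a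
non-negative integer combination of the simple roots of I ∪ B (a positive root whose support avoids
A), δ is not in the linear span of I (so δ is not a root of the Levi subsystem of I), and ⟨δ, β^∨⟩ <
0. (The published statement is made for the root system of a semisimple group; for a reducible
system such as A₁ × A₁ with I empty and A, B the two simple roots there is no such δ, and the
argument measures distances in a connected Dynkin diagram, so the root system is taken irreducible
here.) -/
theorem result
    {ι : Type u} [Finite ι] [DecidableEq ι] {k : Type v} [Field k] [CharZero k]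
    {M : Type w} [AddCommGroup M] [Module k M] {N : Type w} [AddCommGroup N] [Module k N]
    (P : RootPairing ι k M N) [P.IsCrystallographic] [P.IsReduced] [P.IsIrreducible] (b : P.Base)
    (I A B : Finset ι) (hcover : I ∪ A ∪ B = b.support) (hIA : Disjoint I A) (hIB : Disjoint I B)
    (hAB : Disjoint A B) (hA : A.Nonempty) (hB : B.Nonempty) :
    ∃ l ∈ A, ∃ j : ι, P.root j ∈ AddSubmonoid.closure (P.root '' ↑(I ∪ B)) ∧
      P.root j ∉ Submodule.span k (P.root '' ↑I) ∧ P.pairingIn ℤ j l < 0 := by
  classical
  by_contra hcon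
  push Not at hcon
  set J := I ∪ B with hJ
  have hJs : J ⊆ b.support := fun x hx => by
    rw [← hcover, Finset.mem_union, Finset.mem_union]
    rcases Finset.mem_union.1 hx with h | h
    · exact Or.inl (Or.inl h)
    · exact Or.inr h
  have hAJ : ∀ l ∈ A, l ∉ J := fun l hl h => by
    rcases Finset.mem_union.1 h with h | h
    · exact Finset.disjoint_left.1 hIA h hl
    · exact Finset.disjoint_left.1 hAB hl h
  have hAs : ∀ l ∈ A, l ∈ b.support := fun l hl => by
    rw [← hcover]; exact Finset.mem_union_left _ (Finset.mem_union_right _ hl)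
  have hnotspan : ∀ x ∈ b.support, ∀ T : Set ι, T ⊆ (b.support : Set ι) → x ∉ T → P.root x ∉ Submodule.span k (P.root '' T) := by
    intro x hx T hT hxT h
    exact ((linearIndepOn_insert hxT).1 (b.linearIndepOn_root.mono (Set.insert_subset hx hT))).2 h
  have hcast : ∀ i j, ((P.pairingIn ℤ i j : ℤ) : k) = P.pairing i j := fun i j => by
    rw [← P.algebraMap_pairingIn ℤ i j]; rfl
  have hpair : ∀ (j l : ι) (n : ι → ℕ), P.root j = ∑ x ∈ J, n x • P.root x →
      P.pairingIn ℤ j l = ∑ x ∈ J, (n x : ℤ) * P.pairingIn ℤ x l := by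
    intro j l n hn
    have h := congrArg (P.coroot' l) hn
    simp only [map_sum, map_nsmul, P.root_coroot'_eq_pairing, nsmul_eq_mul] at h
    rw [← Int.cast_inj (α := k), Int.cast_sum, hcast, h]
    refine Finset.sum_congr rfl fun x _ => ?_
    rw [Int.cast_mul, hcast, Int.cast_natCast]
  have hmem : ∀ j, P.root j ∈ AddSubmonoid.closure (P.root '' ↑J) ↔ ∃ n : ι → ℕ, ∑ x ∈ J, n x • P.root x = P.root j := by
    intro j
    rw [← Submodule.span_nat_eq_addSubmonoidClosure, Submodule.mem_toAddSubmonoid,
      Submodule.mem_span_image_finset_iff_exists_fun]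
    constructor
    · rintro ⟨c, hc⟩
      refine ⟨fun y => if h : y ∈ J then c ⟨y, h⟩ else 0, ?_⟩
      rw [← hc, ← Finset.sum_coe_sort]
      exact Finset.sum_congr rfl fun y _ => by simp only [dif_pos y.2]
    · rintro ⟨n, hn⟩
      exact ⟨fun y => n y, by rw [← hn, ← Finset.sum_coe_sort J]⟩
  let S : ι → (ι → ℕ) → Prop := fun j n => P.root j ∈ AddSubmonoid.closure (P.root '' ↑J) ∧
    P.root j ∉ Submodule.span k (P.root '' ↑I) ∧ P.root j = ∑ x ∈ J, n x • P.root x
  let C : Finset ι := J.filter fun x => ∃ j n, S j n ∧ n x ≠ 0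
  have hBC : B ⊆ C := by
    intro x hx
    have hxJ : x ∈ J := Finset.mem_union_right _ hx
    refine Finset.mem_filter.2 ⟨hxJ, x, fun y => if y = x then 1 else 0, ⟨AddSubmonoid.subset_closure ⟨x, hxJ, rfl⟩, ?_, ?_⟩, by simp⟩
    · exact hnotspan x (hJs hxJ) I (fun y hy => hJs (Finset.mem_union_left _ hy))
        (fun h => Finset.disjoint_left.1 hIB h hx)
    · rw [Finset.sum_eq_single x (fun y _ hy => by simp [hy]) (fun h => absurd hxJ h)]
      simp
  have hnonpos : ∀ x ∈ J, ∀ l ∈ b.support, x ≠ l → P.pairingIn ℤ x l ≤ 0 := fun x hx l hl hxl =>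
    b.pairingIn_le_zero_of_ne hxl (hJs hx) hl
  have horth : ∀ x ∈ C, ∀ l ∈ b.support, l ∉ C → P.pairingIn ℤ x l = 0 := by
    intro x hx l hl hlC
    obtain ⟨hxJ, j, n, ⟨hj1, hj2, hjn⟩, hnx⟩ := Finset.mem_filter.1 hx
    have hnl : l ∈ J → n l = 0 := fun hlJ => by
      by_contra hne
      exact hlC (Finset.mem_filter.2 ⟨hlJ, j, n, ⟨hj1, hj2, hjn⟩, hne⟩)
    have hterm : ∀ y ∈ J, (n y : ℤ) * P.pairingIn ℤ y l ≤ 0 := by
      intro y hy
      by_cases hyl : y = l
      · subst hyl; simp [hnl hy]
      · exact mul_nonpos_of_nonneg_of_nonpos (Int.natCast_nonneg _) (hnonpos y hy l hl hyl)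
    have hp := hpair j l n hjn
    have hle : P.pairingIn ℤ j l ≤ 0 := hp ▸ Finset.sum_nonpos hterm
    have hzero : P.pairingIn ℤ j l = 0 := by
      by_cases hlA : l ∈ A
      · exact le_antisymm hle (hcon l hlA j hj1 hj2)
      by_contra hne
      have hlI : l ∈ I := by
        rw [← hcover, Finset.mem_union, Finset.mem_union] at hl
        rcases hl with (h | h) | h
        · exact h
        · exact absurd h hlA
        · exact absurd (hBC h) hlC
      have hlJ : l ∈ J := Finset.mem_union_left _ hlI
      set m := (-P.pairingIn ℤ j l).toNat with hm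
      have hmz : (m : k) = -P.pairing j l := by
        rw [← hcast, ← Int.cast_neg, ← Int.toNat_of_nonneg (neg_nonneg.2 hle), Int.cast_natCast]
      have hroot : P.root (P.reflectionPerm l j) = P.root j + (m : k) • P.root l := by
        rw [P.root_reflectionPerm, P.reflection_apply_root, hmz, neg_smul, sub_eq_add_neg]
      have hroot' : P.root (P.reflectionPerm l j) = ∑ y ∈ J, (n y + if y = l then m else 0) • P.root y := by
        rw [hroot, hjn, Nat.cast_smul_eq_nsmul]
        simp only [add_smul, Finset.sum_add_distrib, ite_smul, zero_smul, Finset.sum_ite_eq', hlJ, if_true]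
      have h1 : P.root (P.reflectionPerm l j) ∈ AddSubmonoid.closure (P.root '' ↑J) := (hmem _).2 ⟨_, hroot'.symm⟩
      have h2 : P.root (P.reflectionPerm l j) ∉ Submodule.span k (P.root '' ↑I) := by
        rw [hroot]
        intro h
        exact hj2 (by simpa using Submodule.sub_mem _ h (Submodule.smul_mem _ (m : k) (Submodule.subset_span ⟨l, hlI, rfl⟩)))
      refine hlC (Finset.mem_filter.2 ⟨hlJ, _, _, ⟨h1, h2, hroot'⟩, ?_⟩)
      simp only [if_true, hnl hlJ, zero_add]
      omega
    rw [hp, Finset.sum_eq_zero_iff_of_nonpos hterm] at hzero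
    exact (mul_eq_zero.1 (hzero x hxJ)).resolve_left (by exact_mod_cast hnx)
  set q := Submodule.span k (P.root '' ↑C) with hq
  have hinv : ∀ i, q ∈ Module.End.invtSubmodule (P.reflection i) := by
    rw [← b.forall_mem_support_invtSubmodule_iff]
    intro l hl
    rw [Module.End.mem_invtSubmodule, hq, Submodule.span_le]
    rintro _ ⟨x, hx, rfl⟩
    rw [SetLike.mem_coe, Submodule.mem_comap, LinearEquiv.coe_coe, P.reflection_apply_root]
    by_cases hlC : l ∈ C
    · exact Submodule.sub_mem _ (Submodule.subset_span ⟨x, hx, rfl⟩) (Submodule.smul_mem _ _ (Submodule.subset_span ⟨l, hlC, rfl⟩))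
    · rw [← hcast, horth x hx l hl hlC, Int.cast_zero, zero_smul, sub_zero]
      exact Submodule.subset_span ⟨x, hx, rfl⟩
  obtain ⟨x, hx⟩ := hB
  have hne : q ≠ ⊥ := fun h => P.ne_zero x ((Submodule.mem_bot k).1 (h ▸ Submodule.subset_span ⟨x, hBC hx, rfl⟩))
  obtain ⟨l, hl⟩ := hA
  exact hnotspan l (hAs l hl) C (fun y hy => hJs (Finset.mem_filter.1 hy).1) (fun h => hAJ l hl (Finset.mem_filter.1 h).1)
    (by rw [← hq, RootPairing.IsIrreducible.eq_top_of_invtSubmodule_reflection q hinv hne]; trivial)

end Groth.Agent.S19565
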