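import Groth.Statements.S19567
import Groth.Agent.L05.Henselization.Nbhd

set_option autoImplicit false
universe u
open Hensel

namespace Groth.Agent.S19567

/-- Let A be a ring and I an ideal of A, and consider étale A-algebras A' for which the induced map A/I
→ A'/IA' is bijective. (1) For any two such algebras A₁ and A₂ there is a third such algebra A₃
admitting A-algebra maps from both. (2) For any two A-algebra maps f, g : A₁ → A₂ between such
algebras there are such an algebra A₃ and an A-algebra map h : A₂ → A₃ with h ∘ f = h ∘ g. (All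
algebras are taken in the universe of A. Since A itself is such an algebra, (1) and (2) say that the
category of these algebras and A-algebra maps is filtered.) -/
theorem result (A : Type u) [CommRing A] (I : Ideal A) :
    (∀ (A₁ A₂ : Type u) [CommRing A₁] [Algebra A A₁] [Algebra.Etale A A₁] [CommRing A₂] [Algebra A A₂]
        [Algebra.Etale A A₂],
        Function.Bijective (Ideal.quotientMap (I.map (algebraMap A A₁)) (algebraMap A A₁) Ideal.le_comap_map) →
        Function.Bijective (Ideal.quotientMap (I.map (algebraMap A A₂)) (algebraMap A A₂) Ideal.le_comap_map) →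
          ∃ (A₃ : Type u) (_ : CommRing A₃) (_ : Algebra A A₃) (_ : Algebra.Etale A A₃),
            Function.Bijective (Ideal.quotientMap (I.map (algebraMap A A₃)) (algebraMap A A₃) Ideal.le_comap_map) ∧
              Nonempty (A₁ →ₐ[A] A₃) ∧ Nonempty (A₂ →ₐ[A] A₃)) ∧
    (∀ (A₁ A₂ : Type u) [CommRing A₁] [Algebra A A₁] [Algebra.Etale A A₁] [CommRing A₂] [Algebra A A₂]
        [Algebra.Etale A A₂],
        Function.Bijective (Ideal.quotientMap (I.map (algebraMap A A₁)) (algebraMap A A₁) Ideal.le_comap_map) →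
        Function.Bijective (Ideal.quotientMap (I.map (algebraMap A A₂)) (algebraMap A A₂) Ideal.le_comap_map) →
          ∀ (f g : A₁ →ₐ[A] A₂),
            ∃ (A₃ : Type u) (_ : CommRing A₃) (_ : Algebra A A₃) (_ : Algebra.Etale A A₃),
              Function.Bijective (Ideal.quotientMap (I.map (algebraMap A A₃)) (algebraMap A A₃) Ideal.le_comap_map) ∧
                ∃ h : A₂ →ₐ[A] A₃, h.comp f = h.comp g) := by
  refine ⟨fun A₁ A₂ _ _ _ _ _ _ h₁ h₂ => ?_, fun A₁ A₂ _ _ _ _ _ _ h₁ h₂ f g => ?_⟩
  · obtain ⟨σ₁, hσ₁⟩ := (Groth.L05.Henselization.exists_section_iff I).mp h₁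
    obtain ⟨σ₂, hσ₂⟩ := (Groth.L05.Henselization.exists_section_iff I).mp h₂
    obtain ⟨A₃, i1, i2, i3, σ, hσ, ha, hb⟩ :=
      Groth.L05.Henselization.directed_sections I hσ₁ hσ₂
    exact ⟨A₃, i1, i2, i3, (Groth.L05.Henselization.exists_section_iff I).mpr ⟨σ, hσ⟩, ha, hb⟩
  · obtain ⟨σ₁, hσ₁⟩ := (Groth.L05.Henselization.exists_section_iff I).mp h₁
    obtain ⟨σ₂, hσ₂⟩ := (Groth.L05.Henselization.exists_section_iff I).mp h₂
    obtain ⟨A₃, i1, i2, i3, σ, h, hσ, hh⟩ :=
      Groth.L05.Henselization.coequalize_sections I hσ₁ hσ₂ f g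
    exact ⟨A₃, i1, i2, i3, (Groth.L05.Henselization.exists_section_iff I).mpr ⟨σ, hσ⟩, h, hh⟩

end Groth.Agent.S19567
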