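import Groth.Statements.S19568
import Groth.Agent.L05.Henselization.Nbhd

set_option autoImplicit false
universe u
open Hensel

namespace Groth.Agent.S19568

/-- Let A be a ring, I an ideal of A and B an A-algebra which is a henselization of the pair (A, I).
Consider étale A-algebras A' for which the induced map A/I → A'/IA' is bijective. Then: (a) every
such A' admits exactly one A-algebra map to B; (b) every element of B is the image of an element of
some such A' under an A-algebra map A' → B; (c) if an A-algebra map A' → B from such an algebra
sends an element s to 0, then there are another such algebra A'' and an A-algebra map A' → A''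
sending s to 0. (All algebras are taken in the universe of A. Together with the filteredness of the
category of these algebras, (a), (b) and (c) express that B, with the maps of (a), is their
colimit.) -/
theorem result (A : Type u) [CommRing A] (I : Ideal A)
    (B : Type u) [CommRing B] [Algebra A B] (hB : Hens2.IsPairHenselization A I B) :
    (∀ (A' : Type u) [CommRing A'] [Algebra A A'] [Algebra.Etale A A'],
        Function.Bijective (Ideal.quotientMap (I.map (algebraMap A A')) (algebraMap A A') Ideal.le_comap_map) →
          Nonempty (Unique (A' →ₐ[A] B))) ∧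
    (∀ x : B, ∃ (A' : Type u) (_ : CommRing A') (_ : Algebra A A') (_ : Algebra.Etale A A'),
        Function.Bijective (Ideal.quotientMap (I.map (algebraMap A A')) (algebraMap A A') Ideal.le_comap_map) ∧
          ∃ (φ : A' →ₐ[A] B) (s : A'), φ s = x) ∧
    (∀ (A' : Type u) [CommRing A'] [Algebra A A'] [Algebra.Etale A A'],
        Function.Bijective (Ideal.quotientMap (I.map (algebraMap A A')) (algebraMap A A') Ideal.le_comap_map) →
          ∀ (φ : A' →ₐ[A] B) (s : A'), φ s = 0 →
            ∃ (A'' : Type u) (_ : CommRing A'') (_ : Algebra A A'') (_ : Algebra.Etale A A''),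
              Function.Bijective (Ideal.quotientMap (I.map (algebraMap A A'')) (algebraMap A A'') Ideal.le_comap_map) ∧
                ∃ ψ : A' →ₐ[A] A'', ψ s = 0) := by
  refine ⟨fun A' _ _ _ h => ?_, fun x => ?_, fun A' _ _ _ h φ s hs => ?_⟩
  · obtain ⟨σ, hσ⟩ := (Groth.L05.Henselization.exists_section_iff I).mp h
    haveI := hB.1
    obtain ⟨g, -, hu⟩ := Groth.L05.Henselization.existsUnique_algHom_of_section I hσ
      (I.map (algebraMap A B)) le_rfl
    exact ⟨{ default := g, uniq := fun f => hu f trivial }⟩
  · obtain ⟨A', i1, i2, i3, σ, φ, s, hσ, hφ⟩ :=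
      Groth.L05.Henselization.exists_section_lift I hB x
    exact ⟨A', i1, i2, i3, (Groth.L05.Henselization.exists_section_iff I).mpr ⟨σ, hσ⟩, φ, s, hφ⟩
  · obtain ⟨σ, hσ⟩ := (Groth.L05.Henselization.exists_section_iff I).mp h
    obtain ⟨A'', i1, i2, i3, σ', hσ', hψ⟩ :=
      Groth.L05.Henselization.exists_section_killing I hB hσ φ s hs
    exact ⟨A'', i1, i2, i3, (Groth.L05.Henselization.exists_section_iff I).mpr ⟨σ', hσ'⟩, hψ⟩

end Groth.Agent.S19568
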