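import Groth.Statements.S19569
import Mathlib.RingTheory.Smooth.NoetherianDescent
import Mathlib.RingTheory.Etale.Basic
import Mathlib.RingTheory.Polynomial.Basic
import Mathlib.LinearAlgebra.TensorProduct.Tower
import Mathlib.RingTheory.TensorProduct.Basic
import Mathlib.RingTheory.FiniteType
import Mathlib.Data.Fintype.Order

set_option autoImplicit false
universe u
open CAlg

namespace Groth.Agent.S19569

open TensorProduct in
/-- Let A be the colimit of a directed system of rings (A_i), given by compatible ring maps A_i → A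
which are jointly surjective and such that an element of some A_i mapping to zero in A already maps
to zero in some later A_j, and let B be an étale A-algebra. Then for some index i there is an étale
A_i-algebra B_i such that B is isomorphic, as an A-algebra, to the base change A ⊗_{A_i} B_i
(existence of an isomorphism). (Stated for a system indexed by a directed preordered set.) -/
theorem result {ι : Type u} [Preorder ι] [IsDirected ι (· ≤ ·)] [Nonempty ι]
    (G : ι → Type u) [∀ i, CommRing (G i)] (f : ∀ i j, i ≤ j → (G i →+* G j))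
    (A : Type u) [CommRing A] (g : ∀ i, G i →+* A) (hg : ∀ i j (h : i ≤ j), (g j).comp (f i j h) = g i)
    (hsurj : ∀ a : A, ∃ i, ∃ x : G i, g i x = a)
    (hker : ∀ i (x : G i), g i x = 0 → ∃ j, ∃ h : i ≤ j, f i j h x = 0)
    (B : Type u) [CommRing B] [Algebra A B] [Algebra.Etale A B] :
    ∃ (i : ι) (Bi : Type u) (_ : CommRing Bi) (_ : Algebra (G i) Bi), Algebra.Etale (G i) Bi ∧
      letI : Algebra (G i) A := (g i).toAlgebra
      Nonempty (B ≃ₐ[A] A ⊗[G i] Bi) := by
  classical
  obtain ⟨A₀, B₀, _, _, hfg, _, ⟨e⟩⟩ := Algebra.Etale.exists_subalgebra_fg (R := ℤ) (A := A) (B := B)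
  obtain ⟨s, hs⟩ := hfg
  have hh : ∀ a : s, ∃ i, ∃ x : G i, g i x = (a : A) := fun a => hsurj _
  choose ix xx hxx using hh
  obtain ⟨i0, hi0⟩ := Finite.exists_le ix
  let ψ : MvPolynomial s ℤ →+* G i0 := MvPolynomial.eval₂Hom (Int.castRingHom _) fun a => f (ix a) i0 (hi0 a) (xx a)
  let π : MvPolynomial s ℤ →+* A₀ := MvPolynomial.eval₂Hom (Int.castRingHom _)
    fun a => ⟨(a : A), hs ▸ Algebra.subset_adjoin a.2⟩
  have hπψ : (g i0).comp ψ = (algebraMap A₀ A).comp π := by
    refine MvPolynomial.ringHom_ext (fun r => ?_) fun a => ?_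
    · simp
    · simp only [RingHom.comp_apply, ψ, π, MvPolynomial.eval₂Hom_X']
      show ((g i0).comp (f (ix a) i0 (hi0 a))) (xx a) = _
      rw [hg, hxx]
      rfl
  have hπ : Function.Surjective π := by
    rintro ⟨a, ha⟩
    suffices ∃ P, ((π P : A₀) : A) = a from let ⟨P, hP⟩ := this; ⟨P, Subtype.ext hP⟩
    rw [← hs] at ha
    induction ha using Algebra.adjoin_induction with
    | mem x hx => exact ⟨MvPolynomial.X ⟨x, hx⟩, by simp [π]⟩
    | algebraMap r => exact ⟨MvPolynomial.C r, by simp [π]⟩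
    | add x y _ _ hx hy =>
      obtain ⟨P, rfl⟩ := hx; obtain ⟨Q, rfl⟩ := hy
      exact ⟨P + Q, by rw [map_add]; rfl⟩
    | mul x y _ _ hx hy =>
      obtain ⟨P, rfl⟩ := hx; obtain ⟨Q, rfl⟩ := hy
      exact ⟨P * Q, by rw [map_mul]; rfl⟩
  obtain ⟨t, ht⟩ := IsNoetherian.noetherian (RingHom.ker π)
  have hkill : ∀ t' : Finset (MvPolynomial s ℤ), t' ⊆ t →
      ∃ (j : ι) (χ : MvPolynomial s ℤ →+* G j), (g j).comp χ = (algebraMap A₀ A).comp π ∧ ∀ q ∈ t', χ q = 0 := by
    intro t'
    induction t' using Finset.induction_on with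
    | empty => exact fun _ => ⟨i0, ψ, hπψ, by simp⟩
    | insert q t' _ ih =>
      intro hsub
      obtain ⟨j, χ, hχ, h0⟩ := ih fun a ha => hsub (Finset.mem_insert_of_mem ha)
      have hq : π q = 0 := by
        rw [← RingHom.mem_ker, ← ht]; exact Submodule.subset_span (hsub (Finset.mem_insert_self _ _))
      obtain ⟨l, hjl, hl⟩ := hker j (χ q) (by rw [← RingHom.comp_apply, hχ, RingHom.comp_apply, hq, map_zero])
      refine ⟨l, (f j l hjl).comp χ, by rw [← RingHom.comp_assoc, hg, hχ], fun a ha => ?_⟩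
      rcases Finset.mem_insert.mp ha with rfl | ha
      · exact hl
      · rw [RingHom.comp_apply, h0 a ha, map_zero]
  obtain ⟨j, χ, hχ, h0⟩ := hkill t subset_rfl
  let θ : A₀ →+* G j := π.liftOfSurjective hπ ⟨χ, by
    rw [← ht, Submodule.span_le]
    exact fun q hq => h0 q hq⟩
  have hθ : ∀ a, g j (θ a) = algebraMap A₀ A a := fun a => by
    obtain ⟨P, rfl⟩ := hπ a
    rw [RingHom.liftOfRightInverse_comp_apply, ← RingHom.comp_apply, hχ]
    rfl
  letI : Algebra A₀ (G j) := θ.toAlgebra
  letI : Algebra (G j) A := (g j).toAlgebra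
  haveI : IsScalarTower A₀ (G j) A := IsScalarTower.of_algebraMap_eq fun a => (hθ a).symm
  refine ⟨j, TensorProduct A₀ (G j) B₀, inferInstance, inferInstance, inferInstance, ⟨?_⟩⟩
  exact e.trans (Algebra.TensorProduct.cancelBaseChange A₀ (G j) A A B₀).symm

end Groth.Agent.S19569
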