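import Groth.Statements.S1957
import Groth.Agent.L05.Henselization.NbhdDescend
import Groth.Agent.L05.Hensel.Factor

set_option autoImplicit false
universe u
open Polynomial
open EtAlg

namespace Groth.Agent.S1957

/-- Let A be a ring, I an ideal and f a monic polynomial over A. Suppose the image of f in (A/I)[x]
factors as g h where the leading coefficient of g is a unit and g, h generate the unit ideal. Then
there is an etale A-algebra A' such that A/I -> A'/IA' is bijective, together with a factorization f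
= g' h' in A'[x] whose reduction modulo IA' is the image of the given one. -/
theorem result (A : Type u) [CommRing A] (I : Ideal A) (f : A[X]) (hf : f.Monic)
    (g h : (A ⧸ I)[X]) (hgh : f.map (Ideal.Quotient.mk I) = g * h) (hlead : IsUnit g.leadingCoeff)
    (hcop : IsCoprime g h) :
    ∃ (A' : Type u) (_ : CommRing A') (_ : Algebra A A') (_ : Algebra.Etale A A'),
      Function.Bijective (Ideal.quotientMap (I.map (algebraMap A A')) (algebraMap A A') Ideal.le_comap_map) ∧
      ∃ g' h' : A'[X], f.map (algebraMap A A') = g' * h' ∧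
        g'.map (Ideal.Quotient.mk (I.map (algebraMap A A'))) =
          g.map (Ideal.quotientMap (I.map (algebraMap A A')) (algebraMap A A') Ideal.le_comap_map) ∧
        h'.map (Ideal.Quotient.mk (I.map (algebraMap A A'))) =
          h.map (Ideal.quotientMap (I.map (algebraMap A A')) (algebraMap A A') Ideal.le_comap_map) := by
  classical
  let B := Groth.L05.Henselization.PairHens A I
  let τ : B →ₐ[A] A ⧸ I := Groth.L05.Henselization.ε A (A ⧸ I)
  have hB := Groth.L05.Henselization.isPairHenselization A I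
  let J := I.map (algebraMap A B)
  haveI := hB.1
  obtain ⟨c, hc⟩ := hlead
  let q : A ⧸ I →+* B ⧸ J := Ideal.quotientMap J (algebraMap A B) Ideal.le_comap_map
  let τq : B ⧸ J →+* A ⧸ I := Ideal.Quotient.lift J τ.toRingHom fun x hx =>
    RingHom.mem_ker.mp ((Groth.L05.Henselization.ker_ε_pair A I).ge hx)
  have hτq : τq.comp q = RingHom.id _ := Ideal.Quotient.ringHom_ext (RingHom.ext fun a => τ.commutes a)
  let g₀ : (A ⧸ I)[X] := g * C ((c⁻¹ : (A ⧸ I)ˣ) : A ⧸ I)
  let h₀ : (A ⧸ I)[X] := h * C (c : A ⧸ I)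
  have hg₀ : g₀.Monic := monic_mul_C_of_leadingCoeff_mul_eq_one (by rw [← hc, Units.mul_inv])
  have hcc : IsUnit (C ((c⁻¹ : (A ⧸ I)ˣ) : A ⧸ I)) := (c⁻¹).isUnit.map C
  have hcc' : IsUnit (C (c : A ⧸ I)) := c.isUnit.map C
  have hcop₀ : IsCoprime g₀ h₀ :=
    (isCoprime_mul_unit_right_left hcc _ _).mpr ((isCoprime_mul_unit_right_right hcc' _ _).mpr hcop)
  obtain ⟨G, H, hGH, -, hG, hH⟩ := Groth.L05.exists_monic_factor_lift J (f.map (algebraMap A B))
    (g₀.map q) (h₀.map q) (hg₀.map q) (hcop₀.map (mapRingHom q)) (by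
      rw [map_map, show (Ideal.Quotient.mk J).comp (algebraMap A B) = q.comp (Ideal.Quotient.mk I) from
        RingHom.ext fun a => rfl, ← map_map, hgh, ← Polynomial.map_mul]
      congr 1
      show g * h = g * C _ * (h * C _)
      rw [show g * C ((c⁻¹ : (A ⧸ I)ˣ) : A ⧸ I) * (h * C (c : A ⧸ I)) =
        g * h * (C ((c⁻¹ : (A ⧸ I)ˣ) : A ⧸ I) * C (c : A ⧸ I)) by ring, ← map_mul, Units.inv_mul, map_one, mul_one])
  obtain ⟨a, ha⟩ := Ideal.Quotient.mk_surjective (c : A ⧸ I)
  obtain ⟨a', ha'⟩ := Ideal.Quotient.mk_surjective ((c⁻¹ : (A ⧸ I)ˣ) : A ⧸ I)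
  have hu : IsUnit (algebraMap A B a) := by
    have h1 : algebraMap A B a * algebraMap A B a' - 1 ∈ J := by
      rw [← map_mul, ← map_one (algebraMap A B), ← map_sub]
      refine Ideal.mem_map_of_mem _ (Ideal.Quotient.eq.mp ?_)
      rw [map_mul, ha, ha', Units.mul_inv, map_one]
    exact isUnit_of_mul_isUnit_left (Ideal.isUnit_of_sub_one_mem_jacobson_bot _ (hB.1.jac h1))
  obtain ⟨w, hw⟩ := hu.exists_right_inv
  let G' : B[X] := G * C (algebraMap A B a)
  let H' : B[X] := H * C w
  have hτw : τ w = ((c⁻¹ : (A ⧸ I)ˣ) : A ⧸ I) := by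
    have := congrArg τ hw
    rw [map_mul, τ.commutes, map_one, Ideal.Quotient.algebraMap_eq, ha] at this
    exact c.isUnit.mul_right_injective (this.trans (Units.mul_inv c).symm)
  have hGτ : G'.map τ.toRingHom = g := by
    rw [Polynomial.map_mul, map_C, show τ.toRingHom = τq.comp (Ideal.Quotient.mk J) from rfl,
      ← map_map, hG, map_map, hτq, Polynomial.map_id,
      show τq.comp (Ideal.Quotient.mk J) (algebraMap A B a) = Ideal.Quotient.mk I a from τ.commutes a, ha,
      mul_assoc, ← map_mul, Units.inv_mul, map_one, mul_one]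
  have hHτ : H'.map τ.toRingHom = h := by
    rw [Polynomial.map_mul, map_C, show τ.toRingHom = τq.comp (Ideal.Quotient.mk J) from rfl,
      ← map_map, hH, map_map, hτq, Polynomial.map_id,
      show τq.comp (Ideal.Quotient.mk J) w = ((c⁻¹ : (A ⧸ I)ˣ) : A ⧸ I) from hτw,
      mul_assoc, ← map_mul, Units.mul_inv, map_one, mul_one]
  obtain ⟨S, _, _, σ, φ, _, hσ, hτφ, hφ⟩ := Groth.L05.Henselization.exists_nbhd_lift I (G'.coeffs ∪ H'.coeffs)
  have hlift : ∀ p : B[X], p.coeffs ⊆ G'.coeffs ∪ H'.coeffs → ∃ p' : S[X], p'.map φ.toRingHom = p := by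
    intro p hp
    refine (mem_lifts p).mp ((lifts_iff_coeff_lifts p).mpr fun k => ?_)
    by_cases hk : p.coeff k = 0
    · exact ⟨0, by rw [map_zero, hk]⟩
    · exact hφ _ (hp (coeff_mem_coeffs hk))
  obtain ⟨g₁, hg₁⟩ := hlift G' Finset.subset_union_left
  obtain ⟨h₁, hh₁⟩ := hlift H' Finset.subset_union_right
  obtain ⟨S', _, _, _, ψ, σ', hσ', hbij, hψ, hψσ⟩ := Groth.L05.Henselization.exists_nbhd_kill I hσ φ
    (f.map (algebraMap A S) - g₁ * h₁).coeffs (by
      intro x hx
      obtain ⟨k, -, rfl⟩ := mem_coeffs_iff.mp hx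
      show φ.toRingHom _ = 0
      rw [← coeff_map, Polynomial.map_sub, Polynomial.map_mul, hg₁, hh₁, map_map,
        show φ.toRingHom.comp (algebraMap A S) = algebraMap A B from φ.comp_algebraMap, hGH,
        show G' * H' = G * H * (C (algebraMap A B a) * C w) by simp only [G', H']; ring,
        ← map_mul, hw, map_one, mul_one, sub_self, coeff_zero])
  refine ⟨S', inferInstance, inferInstance, inferInstance, hbij, g₁.map ψ.toRingHom, h₁.map ψ.toRingHom, ?_, ?_, ?_⟩
  · refine Polynomial.ext fun k => ?_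
    rw [← Polynomial.map_mul, ← sub_eq_zero]
    rw [← ψ.comp_algebraMap, ← map_map]
    show coeff ((f.map (algebraMap A S)).map ψ.toRingHom) k - coeff ((g₁ * h₁).map ψ.toRingHom) k = 0
    rw [coeff_map ψ.toRingHom, coeff_map ψ.toRingHom, ← map_sub, ← coeff_sub]
    by_cases hk : (f.map (algebraMap A S) - g₁ * h₁).coeff k = 0
    · rw [hk, map_zero]
    · exact hψ _ (coeff_mem_coeffs hk)
  · refine Polynomial.ext fun k => ?_
    rw [coeff_map, coeff_map, coeff_map]
    refine Groth.L05.Henselization.mk_eq_quotientMap I hσ' ?_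
    show σ' (ψ (g₁.coeff k)) = _
    rw [hψσ, ← hτφ, ← hGτ, coeff_map, ← hg₁, coeff_map]
    rfl
  · refine Polynomial.ext fun k => ?_
    rw [coeff_map, coeff_map, coeff_map]
    refine Groth.L05.Henselization.mk_eq_quotientMap I hσ' ?_
    show σ' (ψ (h₁.coeff k)) = _
    rw [hψσ, ← hτφ, ← hHτ, coeff_map, ← hh₁, coeff_map]
    rfl

end Groth.Agent.S1957
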