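import Groth.Statements.S19574
import Mathlib.RingTheory.Flat.Tensor
import Mathlib.LinearAlgebra.TensorProduct.Quotient
import Mathlib.LinearAlgebra.TensorProduct.RightExactness
import Mathlib.Algebra.Homology.ShortComplex.ModuleCat

set_option autoImplicit false
universe u
open CategoryTheory MonoidalCategory
open Lie3Mod

namespace Groth.Agent.S19574
open TensorProduct in
theorem flat_of_exact {R : Type u} [CommRing R] {P₃ P₂ P₁ M : Type u}
    [AddCommGroup P₃] [AddCommGroup P₂] [AddCommGroup P₁] [AddCommGroup M]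
    [Module R P₃] [Module R P₂] [Module R P₁] [Module R M] [Module.Flat R P₁]
    (h : P₃ →ₗ[R] P₂) (f : P₂ →ₗ[R] P₁) (g : P₁ →ₗ[R] M) (hfg : Function.Exact f g)
    (hg : Function.Surjective g) (hhf : f.comp h = 0)
    (hex : ∀ I : Ideal R, Function.Exact (h.lTensor (R ⧸ I)) (f.lTensor (R ⧸ I))) :
    Module.Flat R M := by
  rw [Module.Flat.iff_rTensor_injective']
  intro I
  rw [injective_iff_map_eq_zero]
  intro z hz
  obtain ⟨y, rfl⟩ := LinearMap.lTensor_surjective I hg z
  let φ₂ := (TensorProduct.lid R P₂).toLinearMap.comp (LinearMap.rTensor P₂ I.subtype)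
  let φ₁ := (TensorProduct.lid R P₁).toLinearMap.comp (LinearMap.rTensor P₁ I.subtype)
  have hinj : Function.Injective φ₁ := (TensorProduct.lid R P₁).injective.comp
    (Module.Flat.rTensor_preserves_injective_linearMap I.subtype I.injective_subtype)
  have hnat : φ₁.comp (f.lTensor I) = f.comp φ₂ := TensorProduct.ext' fun i x => by simp [φ₁, φ₂]
  have hgy : g (φ₁ y) = 0 := by
    have : g.comp φ₁ = ((TensorProduct.lid R M).toLinearMap.comp
        (LinearMap.rTensor M I.subtype)).comp (g.lTensor I) :=
      TensorProduct.ext' fun i x => by simp [φ₁]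
    have h2 := LinearMap.congr_fun this y
    simp only [LinearMap.comp_apply, hz, map_zero] at h2
    exact h2
  obtain ⟨q, hq⟩ := (hfg _).1 hgy
  have hmem : ∀ w, φ₁ w ∈ I • (⊤ : Submodule R P₁) := fun w => by
    induction w using TensorProduct.induction_on with
    | zero => simp
    | tmul i x => simpa [φ₁] using Submodule.smul_mem_smul i.2 (Submodule.mem_top (x := x))
    | add a b ha hb => rw [map_add]; exact add_mem ha hb
  have h0 : f.lTensor (R ⧸ I) ((1 : R ⧸ I) ⊗ₜ q) = 0 := by
    apply (TensorProduct.quotTensorEquivQuotSMul P₁ I).injective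
    rw [LinearMap.lTensor_tmul, map_zero, ← map_one (Ideal.Quotient.mk I),
      TensorProduct.quotTensorEquivQuotSMul_mk_tmul, one_smul, Submodule.Quotient.mk_eq_zero, hq]
    exact hmem y
  obtain ⟨t, ht⟩ := (hex I _).1 h0
  obtain ⟨s, hs⟩ : ∃ s : P₃, (1 : R ⧸ I) ⊗ₜ s = t := by
    obtain ⟨s, hs⟩ := Submodule.Quotient.mk_surjective _ (TensorProduct.quotTensorEquivQuotSMul P₃ I t)
    refine ⟨s, (TensorProduct.quotTensorEquivQuotSMul P₃ I).injective ?_⟩
    rw [← hs, ← map_one (Ideal.Quotient.mk I), TensorProduct.quotTensorEquivQuotSMul_mk_tmul,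
      one_smul]
  have hsub : q - h s ∈ I • (⊤ : Submodule R P₂) := by
    rw [← hs, LinearMap.lTensor_tmul] at ht
    have := congrArg (TensorProduct.quotTensorEquivQuotSMul P₂ I) ht
    rw [← map_one (Ideal.Quotient.mk I), TensorProduct.quotTensorEquivQuotSMul_mk_tmul,
      TensorProduct.quotTensorEquivQuotSMul_mk_tmul, one_smul, one_smul] at this
    rw [← Submodule.Quotient.mk_eq_zero, Submodule.Quotient.mk_sub, this, sub_self]
  obtain ⟨y', hy'⟩ : ∃ y', φ₂ y' = q - h s := by
    refine Submodule.smul_induction_on hsub (fun r hr x _ => ⟨⟨r, hr⟩ ⊗ₜ x, by simp [φ₂]⟩) ?_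
    rintro _ _ ⟨a, rfl⟩ ⟨b, rfl⟩
    exact ⟨a + b, map_add _ _ _⟩
  have hy : f.lTensor I y' = y := by
    refine hinj ?_
    have h1 := LinearMap.congr_fun hnat y'
    simp only [LinearMap.comp_apply] at h1
    rw [h1, hy', map_sub, hq, show f (h s) = 0 from LinearMap.congr_fun hhf s, sub_zero]
  rw [← hy, ← LinearMap.comp_apply, ← LinearMap.lTensor_comp, hfg.linearMap_comp_eq_zero,
    LinearMap.lTensor_zero, LinearMap.zero_apply]

/-- Let R be a commutative ring and d ≥ 1. Let K be a chain complex of R-modules concentrated in degrees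
0, …, d + 1, written … → 0 → P_{d+1} → P_d → … → P_1 → M with M = K_0, which is exact (so 0 →
P_{d+1} → … → P_1 → M → 0 is an exact sequence), such that P_1, …, P_d are flat R-modules and such
that for every ideal I of R the complex obtained by applying (R/I) ⊗_R − termwise is again exact.
Then M is a flat R-module. (No flatness is assumed for P_{d+1}. The published lemma adds that for R
Noetherian it suffices to test prime ideals I; that refinement is not part of this statement.) -/
theorem result (R : Type u) [CommRing R]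
    (d : ℕ) (hd : 1 ≤ d) (K : ChainComplex (ModuleCat.{u} R) ℕ)
    (hzero : ∀ i : ℕ, d + 1 < i → Limits.IsZero (K.X i))
    (hflat : ∀ i : ℕ, 1 ≤ i → i ≤ d → Module.Flat R (K.X i))
    (hK : K.Acyclic)
    (hbc : ∀ I : Ideal R,
      (((tensorLeft (ModuleCat.of R (R ⧸ I))).mapHomologicalComplex (ComplexShape.down ℕ)).obj K).Acyclic) :
    Module.Flat R (K.X 0) := by
  have he : ∀ i : ℕ, Function.Exact (K.d (i + 2) (i + 1)).hom (K.d (i + 1) i).hom := fun i => by
    have h := (HomologicalComplex.exactAt_iff' K (i + 2) (i + 1) i (by simp) (by simp)).1 (hK _)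
    rw [ShortComplex.moduleCat_exact_iff_range_eq_ker] at h
    exact LinearMap.exact_iff.2 h.symm
  have hs : Function.Surjective (K.d 1 0).hom := fun m => by
    have h := (HomologicalComplex.exactAt_iff' K 1 0 0 (by simp) (by simp)).1 (hK _)
    rw [ShortComplex.moduleCat_exact_iff] at h
    exact h m (by change (K.d 0 0).hom m = 0; rw [K.shape 0 0 (by simp)]; rfl)
  have := hflat 1 le_rfl hd
  refine flat_of_exact (K.d 3 2).hom (K.d 2 1).hom (K.d 1 0).hom (he 0) hs (he 1).linearMap_comp_eq_zero
    fun I => ?_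
  have h := (HomologicalComplex.exactAt_iff' _ 3 2 1 (by simp) (by simp)).1 (hbc I 2)
  rw [ShortComplex.moduleCat_exact_iff_range_eq_ker] at h
  exact LinearMap.exact_iff.2 h.symm

end Groth.Agent.S19574
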