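import Groth.Statements.S19579
import Groth.Agent.S1490
import Groth.Agent.L26.AbDual.Cancel
import Groth.Agent.L08.Cube.NPull

set_option autoImplicit false
universe u
open CategoryTheory CategoryTheory.Limits MonoidalCategory CartesianMonoidalCategory MonObj AlgebraicGeometry
open AbVar

namespace Groth.Agent.S19579

attribute [local instance] Groth.L08.Cube.clMonoid

theorem axis_eq {S X T : Scheme.{u}} (a : X ⟶ S) (b : T ⟶ S) (l₁ l₂ : X ⟶ X) (l : X ⟶ pullback a a)
    (e1 : l ≫ pullback.fst a a = l₁) (e2 : l ≫ pullback.snd a a = l₂)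
    (w₁ : (l ≫ pullback.fst a a ≫ a) ≫ 𝟙 S = l ≫ (pullback.fst a a ≫ a))
    (w₂ : b ≫ 𝟙 S = 𝟙 T ≫ b) (hj : pullback.fst (l ≫ pullback.fst a a ≫ a) b ≫ a = pullback.snd _ _ ≫ b)
    (c₁ : (pullback.fst a b ≫ l₁) ≫ a = (pullback.fst a b ≫ l₂) ≫ a)
    (c₂ : pullback.lift (pullback.fst a b ≫ l₁) (pullback.fst a b ≫ l₂) c₁ ≫ (pullback.fst a a ≫ a) = pullback.snd a b ≫ b) :
    pullback.map (l ≫ pullback.fst a a ≫ a) b (pullback.fst a a ≫ a) b l (𝟙 T) (𝟙 S) w₁ w₂ =
      pullback.lift _ _ hj ≫ pullback.lift (pullback.lift (pullback.fst a b ≫ l₁) (pullback.fst a b ≫ l₂) c₁) (pullback.snd a b) c₂ := by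
  apply pullback.hom_ext
  · apply pullback.hom_ext
    · simp [pullback.map, pullback.lift_fst, pullback.lift_fst_assoc, e1]
    · simp [pullback.map, pullback.lift_fst, pullback.lift_fst_assoc, pullback.lift_snd, e2]
  · simp [pullback.map, pullback.lift_snd, pullback.lift_snd_assoc]

/-- The implication from triviality of the Mumford bundle on one fibre to its triviality relative to the
base, with the identification of the descended bundle. Let X be an abelian variety over a field k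
(proper, geometrically integral k-group scheme with multiplication m and unit e), T a connected
locally Noetherian k-scheme and L an invertible module on X ×_k T. On X ×_k X ×_k T let m_T, p_13,
p_23 be the maps to X ×_k T induced by m and by the two projections X × X → X, π the projection to
T, and e_T : T → X ×_k T the unit section. If there is a point t of T over whose fibre X × X × Spec
k(t) the modules m_T^*L and p_13^*L ⊗ p_23^*L become isomorphic (equivalently the Mumford bundle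
Λ(L) = m_T^*L ⊗ p_13^*L⁻¹ ⊗ p_23^*L⁻¹ is trivial on one fibre), then m_T^*L ⊗ π^*(e_T^*L) and
p_13^*L ⊗ p_23^*L are isomorphic on all of X × X × T, i.e. Λ(L) ≅ π^*N with N = e_T^*L⁻¹ (existence
of an isomorphism). -/
theorem result (k : Type u) [Field k]
    (X T : Over (Spec (CommRingCat.of k)))
    [GrpObj X] [IsProper X.hom] [GeometricallyIntegral X.hom]
    [IsLocallyNoetherian T.left] [ConnectedSpace ↥T.left]
    (L : (X ⊗ T).left.Modules) (hL : PicF.IsInvertible L)
    (t : ↥T.left)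
    (ht : Nonempty
      ((Scheme.Modules.pullback (pullback.fst (snd (X ⊗ X) T).left
          (T.left.fromSpecResidueField t))).obj
          ((Scheme.Modules.pullback (μ[X] ▷ T).left).obj L) ≅
       (Scheme.Modules.pullback (pullback.fst (snd (X ⊗ X) T).left
          (T.left.fromSpecResidueField t))).obj
          (CohB1.tensorMod ((Scheme.Modules.pullback (fst X X ▷ T).left).obj L)
            ((Scheme.Modules.pullback (snd X X ▷ T).left).obj L)))) :
    Nonempty
      (CohB1.tensorMod ((Scheme.Modules.pullback (μ[X] ▷ T).left).obj L)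
          ((Scheme.Modules.pullback (snd (X ⊗ X) T).left).obj
            ((Scheme.Modules.pullback (CartesianMonoidalCategory.lift (toUnit T ≫ η[X]) (𝟙 T)).left).obj L)) ≅
        CohB1.tensorMod ((Scheme.Modules.pullback (fst X X ▷ T).left).obj L)
          ((Scheme.Modules.pullback (snd X X ▷ T).left).obj L)) := by
  haveI : LocallyOfFinitePresentation X.hom := LocallyOfFinitePresentation.iff_locallyOfFiniteType.2 inferInstance
  let P := (X ⊗ X) ⊗ T
  let m : P ⟶ X ⊗ T := μ[X] ▷ T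
  let p : P ⟶ X ⊗ T := fst X X ▷ T
  let q : P ⟶ X ⊗ T := snd X X ▷ T
  let e : T ⟶ X ⊗ T := lift (toUnit T ≫ η[X]) (𝟙 T)
  let pc : ∀ {W : Over (Spec (CommRingCat.of k))}, (W ⟶ X ⊗ T) → PicF.Cl W.left := fun {W} h => PicF.pullCl h.left (PicF.cl L)
  have hpc : ∀ {W : Over (Spec (CommRingCat.of k))} (a : W ⟶ P) (h : P ⟶ X ⊗ T),
      PicF.pullCl a.left (pc h) = pc (a ≫ h) := fun {W} a h => (PicLoc.pullCl_comp a.left h.left _).symm
  obtain ⟨b, hb, hab⟩ := Groth.L08.Cube.exists_inverseCl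
    (a := pc p * pc q) (Groth.Agent.AbDualLib.isInvertibleCl_mulCl (PicLoc.isInvertibleCl_pullCl _ ⟨L, rfl, hL⟩)
      (PicLoc.isInvertibleCl_pullCl _ ⟨L, rfl, hL⟩))
  obtain ⟨D, hD, hDi⟩ : PicF.IsInvertibleCl (pc m * pc (snd (X ⊗ X) T ≫ e) * b) :=
    Groth.Agent.AbDualLib.isInvertibleCl_mulCl (Groth.Agent.AbDualLib.isInvertibleCl_mulCl
      (PicLoc.isInvertibleCl_pullCl _ ⟨L, rfl, hL⟩) (PicLoc.isInvertibleCl_pullCl _ ⟨L, rfl, hL⟩)) hb
  have hinv : ∀ {W : Over (Spec (CommRingCat.of k))} (a : W ⟶ P),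
      pc (a ≫ p) * pc (a ≫ q) * PicF.pullCl a.left b = 1 := fun {W} a => by
    rw [← hpc, ← hpc, ← Groth.L08.Cube.pullCl_mul, ← Groth.L08.Cube.pullCl_mul, hab, Groth.L08.Cube.pullCl_one]
  have hax : ∀ {W : Over (Spec (CommRingCat.of k))} (a : W ⟶ P),
      pc (a ≫ m) * pc (a ≫ snd (X ⊗ X) T ≫ e) = pc (a ≫ p) * pc (a ≫ q) →
      PicF.pullCl a.left (PicF.cl D) = 1 := fun {W} a h => by
    rw [hD, Groth.L08.Cube.pullCl_mul, Groth.L08.Cube.pullCl_mul, hpc, hpc, h, hinv]
  let ax : X ⊗ T ⟶ P := lift (lift (toUnit _ ≫ η[X]) (fst X T)) (snd X T)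
  let ay : X ⊗ T ⟶ P := lift (lift (fst X T) (toUnit _ ≫ η[X])) (snd X T)
  have hη : (toUnit (X ⊗ T) ≫ η[X] : X ⊗ T ⟶ X) = 1 := Hom.one_def.symm
  have hx1 : ax ≫ m = lift (fst X T) (snd X T) := by
    apply CartesianMonoidalCategory.hom_ext <;> simp [ax, m, hη, ← Hom.mul_def]
  have hy1 : ay ≫ m = lift (fst X T) (snd X T) := by
    apply CartesianMonoidalCategory.hom_ext <;> simp [ay, m, hη, ← Hom.mul_def]
  have hx2 : ax ≫ q = lift (fst X T) (snd X T) := by
    apply CartesianMonoidalCategory.hom_ext <;> simp [ax, q]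
  have hy2 : ay ≫ p = lift (fst X T) (snd X T) := by
    apply CartesianMonoidalCategory.hom_ext <;> simp [ay, p]
  have hx3 : ax ≫ p = ax ≫ snd (X ⊗ X) T ≫ e := by
    apply CartesianMonoidalCategory.hom_ext <;> simp [ax, p, e, hη]
  have hy3 : ay ≫ q = ay ≫ snd (X ⊗ X) T ≫ e := by
    apply CartesianMonoidalCategory.hom_ext <;> simp [ay, q, e, hη]
  have h1 := hax ax (by rw [hx1, hx2, hx3, _root_.mul_comm])
  have h2 := hax ay (by rw [hy1, hy2, hy3])
  have h3 : PicF.pullCl ((snd (X ⊗ X) T).left.fiberι t) (PicF.cl D) = 1 := by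
    have e1 : PicF.pullCl ((snd (X ⊗ X) T).left.fiberι t) (pc m) =
        PicF.pullCl ((snd (X ⊗ X) T).left.fiberι t) (pc p * pc q) := (PicGrp.cl_eq_cl_iff _ _).2 ht
    haveI : Subsingleton ↥(Spec (T.left.residueField t)) :=
      inferInstanceAs (Subsingleton (PrimeSpectrum (T.left.residueField t)))
    have e2 : PicF.pullCl ((snd (X ⊗ X) T).left.fiberι t) (pc (snd (X ⊗ X) T ≫ e)) = 1 := by
      show PicF.pullCl _ (PicF.pullCl ((snd (X ⊗ X) T).left ≫ e.left) (PicF.cl L)) = 1
      rw [← PicLoc.pullCl_comp, show (snd (X ⊗ X) T).left.fiberι t ≫ (snd (X ⊗ X) T).left ≫ e.left =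
        ((snd (X ⊗ X) T).left.fiberToSpecResidueField t) ≫ T.left.fromSpecResidueField t ≫ e.left by
          rw [← Category.assoc, ← Category.assoc]; exact congrArg (· ≫ e.left) pullback.condition,
        PicLoc.pullCl_comp]
      rw [show PicF.pullCl (T.left.fromSpecResidueField t ≫ e.left) (PicF.cl L) = 1 from
        Groth.Agent.AbDualLib.eq_oneCl_of_subsingleton (PicLoc.isInvertibleCl_pullCl _ ⟨L, rfl, hL⟩),
        Groth.L08.Cube.pullCl_one]
    rw [hD, Groth.L08.Cube.pullCl_mul, Groth.L08.Cube.pullCl_mul, e1, e2, _root_.mul_one,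
      ← Groth.L08.Cube.pullCl_mul, hab, Groth.L08.Cube.pullCl_one]
  obtain ⟨θ⟩ : Nonempty (D ≅ Coh.structureModule P.left) := by
    refine Groth.Agent.S1490.result X.hom X.hom T.hom η[X].left (Over.w η[X]) η[X].left (Over.w η[X]) D hDi ?_ ?_ ?_
    · refine (PicGrp.cl_eq_cl_iff _ _).1 ?_
      show PicF.pullCl _ (PicF.cl D) = 1
      have hl : (X.hom ≫ η[X].left) ≫ X.hom = X.hom := by simp [Over.w η[X]]
      have hj : pullback.fst (pullback.lift (X.hom ≫ η[X].left) (𝟙 X.left) (by simp [Over.w η[X]]) ≫ pullback.fst X.hom X.hom ≫ X.hom) T.hom ≫ X.hom =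
          pullback.snd _ _ ≫ T.hom := by
        refine (congrArg (pullback.fst _ _ ≫ ·) ?_).trans pullback.condition
        rw [pullback.lift_fst_assoc, hl]
      have e : ax.left = pullback.lift (pullback.lift (pullback.fst X.hom T.hom ≫ (X.hom ≫ η[X].left)) (pullback.fst X.hom T.hom ≫ (𝟙 X.left))
          (by simp [Over.w η[X]])) (pullback.snd X.hom T.hom)
          (by erw [pullback.lift_fst_assoc, Category.assoc, hl]; exact pullback.condition) := by
        simp [ax]
      rw [axis_eq X.hom T.hom (X.hom ≫ η[X].left) (𝟙 X.left) _ (pullback.lift_fst _ _ _) (pullback.lift_snd _ _ _) _ _ hj (by simp [Over.w η[X]]) (by erw [pullback.lift_fst_assoc, Category.assoc, hl]; exact pullback.condition),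
        PicLoc.pullCl_comp]
      refine Eq.trans (congrArg (PicF.pullCl _) ?_) (Groth.L08.Cube.pullCl_one _)
      rw [← h1, e]
      rfl
    · refine (PicGrp.cl_eq_cl_iff _ _).1 ?_
      show PicF.pullCl _ (PicF.cl D) = 1
      have hl : (𝟙 X.left) ≫ X.hom = X.hom := by simp [Over.w η[X]]
      have hj : pullback.fst (pullback.lift (𝟙 X.left) (X.hom ≫ η[X].left) (by simp [Over.w η[X]]) ≫ pullback.fst X.hom X.hom ≫ X.hom) T.hom ≫ X.hom =
          pullback.snd _ _ ≫ T.hom := by
        refine (congrArg (pullback.fst _ _ ≫ ·) ?_).trans pullback.condition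
        rw [pullback.lift_fst_assoc, hl]
      have e : ay.left = pullback.lift (pullback.lift (pullback.fst X.hom T.hom ≫ (𝟙 X.left)) (pullback.fst X.hom T.hom ≫ (X.hom ≫ η[X].left))
          (by simp [Over.w η[X]])) (pullback.snd X.hom T.hom)
          (by erw [pullback.lift_fst_assoc, Category.assoc, hl]; exact pullback.condition) := by
        simp [ay]
      rw [axis_eq X.hom T.hom (𝟙 X.left) (X.hom ≫ η[X].left) _ (pullback.lift_fst _ _ _) (pullback.lift_snd _ _ _) _ _ hj (by simp [Over.w η[X]]) (by erw [pullback.lift_fst_assoc, Category.assoc, hl]; exact pullback.condition),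
        PicLoc.pullCl_comp]
      refine Eq.trans (congrArg (PicF.pullCl _) ?_) (Groth.L08.Cube.pullCl_one _)
      rw [← h2, e]
      rfl
    · exact ⟨t, (PicGrp.cl_eq_cl_iff _ _).1 h3⟩
  refine (PicGrp.cl_eq_cl_iff _ _).1 ?_
  show pc m * PicF.pullCl (snd (X ⊗ X) T).left (PicF.pullCl e.left (PicF.cl L)) = pc p * pc q
  rw [← PicLoc.pullCl_comp]
  have hD1 : pc m * pc (snd (X ⊗ X) T ≫ e) * b = 1 := hD.symm.trans ((PicGrp.cl_eq_cl_iff _ _).2 ⟨θ⟩)
  calc pc m * pc (snd (X ⊗ X) T ≫ e) = pc m * pc (snd (X ⊗ X) T ≫ e) * (pc p * pc q * b) := by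
        rw [hab, _root_.mul_one]
    _ = (pc m * pc (snd (X ⊗ X) T ≫ e) * b) * (pc p * pc q) := by ac_rfl
    _ = _ := by rw [hD1, _root_.one_mul]

end Groth.Agent.S19579
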