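import Groth.Statements.S19583
import Groth.Agent.L13.Nagata.StrictIso
import Groth.Agent.L05.Models.ExtendMap

set_option autoImplicit false
universe u
open Cyc

set_option backward.isDefEq.respectTransparency.types false
set_option linter.style.haveILetI false
set_option backward.isDefEq.respectTransparency.types false
open AlgebraicGeometry CategoryTheory CategoryTheory.Limits
namespace Groth.Agent.S19583

open CategoryTheory CategoryTheory.Limits AlgebraicGeometry in
/-- Let S be a separated Noetherian scheme, p : X → S a morphism from a separated scheme X (no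
finiteness condition), ι : Z → X a closed immersion, and b : S' → S a blowing up of S in a
quasi-coherent ideal with support S₀ such that (1) b restricts to a bijection between the generic
points of the irreducible components of S' and of S and (2) the strict transform Z~ of Z — the
closed subscheme of Z ×_S S' whose ideal consists, on each affine open, of the functions annihilated
by a power of the pulled-back centre — is flat over S'. Let R be a discrete valuation ring with
fraction field K and f : Spec R → S a morphism sending the generic point of Spec R into S ∖ S₀. Then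
f factors uniquely through b, and for the factorisation f' : Spec R → S' the flat closure φ_f(Z) ⊆ Z
×_S Spec R (the scheme-theoretic image of Z ×_S Spec K) coincides with Spec R ×_{S'} Z~: its ideal
sheaf equals the inverse image of the ideal of Z~ under the map Z ×_S Spec R → Z ×_S S' induced by
f'. -/
theorem result {X S Z S' : Scheme.{u}} [IsNoetherian S] [S.IsSeparated] [X.IsSeparated]
    (p : X ⟶ S) (ι : Z ⟶ X) [IsClosedImmersion ι]
    (𝓘 : S.IdealSheafData) (b : S' ⟶ S) (hb : BlowUp.IsBlowUp b 𝓘)
    (hgen : Set.BijOn b.base {s' : ↥S' | closure {s'} ∈ irreducibleComponents ↥S'} {s : ↥S | closure {s} ∈ irreducibleComponents ↥S})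
    (𝒥 : (pullback (ι ≫ p) b).IdealSheafData)
    (h𝒥 : ∀ (V : (pullback (ι ≫ p) b).affineOpens) (a : Γ(pullback (ι ≫ p) b, V.1)), a ∈ 𝒥.ideal V ↔
      BlowUp.KilledByPowerNear ((𝓘.comap (ι ≫ p)).comap (pullback.fst (ι ≫ p) b)) (Coh.structureModule (pullback (ι ≫ p) b)) V a)
    [Flat (𝒥.subschemeι ≫ pullback.snd (ι ≫ p) b)]
    (R : Type u) [CommRing R] [IsDomain R] [IsDiscreteValuationRing R] (f : Spec (CommRingCat.of R) ⟶ S)
    (hf : f.base ⟨⊥, Ideal.isPrime_bot⟩ ∉ (𝓘.support : Set ↥S)) :
    (∃! f' : Spec (CommRingCat.of R) ⟶ S', f' ≫ b = f) ∧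
      ∀ (f' : Spec (CommRingCat.of R) ⟶ S') (hf' : f' ≫ b = f),
        (pullback.map (ι ≫ p) (Spec.map (CommRingCat.ofHom (algebraMap R (FractionRing R))) ≫ f) (ι ≫ p) f (𝟙 Z) (Spec.map (CommRingCat.ofHom (algebraMap R (FractionRing R)))) (𝟙 S) ((Category.comp_id _).trans (Category.id_comp _).symm) (Category.comp_id _)).ker = 𝒥.comap (pullback.map (ι ≫ p) f (ι ≫ p) b (𝟙 Z) f' (𝟙 S) ((Category.comp_id _).trans (Category.id_comp _).symm) ((Category.comp_id f).trans hf'.symm)) := by
  let j := Spec.map (CommRingCat.ofHom (algebraMap R (FractionRing R)))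
  have hinj : Function.Injective (algebraMap R (FractionRing R)) := IsFractionRing.injective R _
  have hjbot : ∀ w, j w = (⟨⊥, Ideal.isPrime_bot⟩ : Spec (CommRingCat.of R)) := by
    intro w
    refine PrimeSpectrum.ext ?_
    show Ideal.comap (algebraMap R (FractionRing R)) w.asIdeal = ⊥
    haveI := w.isPrime
    rw [show w.asIdeal = ⊥ from (Ideal.eq_bot_or_top _).resolve_right Ideal.IsPrime.ne_top',
      Ideal.comap_bot_of_injective _ hinj]
  have hcart : BlowUp.IsEffCartierIdeal (𝓘.comap f) := by
    intro x
    let T : (Spec (CommRingCat.of R)).affineOpens := ⟨⊤, isAffineOpen_top _⟩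
    let e := (Scheme.ΓSpecIso (CommRingCat.of R)).commRingCatIsoToRingEquiv
    obtain ⟨t, ht⟩ := (IsPrincipalIdealRing.principal (Ideal.map e.toRingHom ((𝓘.comap f).ideal T))).principal
    refine ⟨T, trivial, e.symm t, ?_, ?_⟩
    · refine mem_nonZeroDivisors_iff_right.2 fun z hz => ?_
      have ht0 : t ≠ 0 := by
        intro h
        rw [h, Submodule.span_zero_singleton, Ideal.map_eq_bot_iff_of_injective (f := e.toRingHom) e.injective] at ht
        refine hf ?_
        have h2 : (⟨⊥, Ideal.isPrime_bot⟩ : Spec (CommRingCat.of R)) ∈ (𝓘.comap f).support := by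
          refine (Scheme.IdealSheafData.mem_support_iff_of_mem (U := T) trivial).2 ?_
          rw [Scheme.mem_zeroLocus_iff]
          intro a ha
          rw [SetLike.mem_coe, ht, Ideal.mem_bot] at ha
          subst ha
          rw [Scheme.basicOpen_zero]
          exact fun h => h
        rw [Scheme.IdealSheafData.support_comap] at h2
        exact h2
      have := congrArg e hz
      rw [map_mul, map_zero, RingEquiv.apply_symm_apply] at this
      exact e.injective (((mul_eq_zero.1 this).resolve_right ht0).trans (map_zero e).symm)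
    · have h := congrArg (Ideal.map e.symm.toRingHom) ht
      rw [Ideal.map_map, show e.symm.toRingHom.comp e.toRingHom = RingHom.id _ from RingHom.ext e.symm_apply_apply,
        Ideal.map_id] at h
      rw [h]
      erw [Ideal.map_span, Set.image_singleton]
      rfl
  refine ⟨hb.2 _ f hcart, fun f' hf' => ?_⟩
  let π := ι ≫ p
  let g : pullback π (j ≫ f) ⟶ pullback π f := pullback.map π (j ≫ f) π f (𝟙 Z) j (𝟙 S)
    ((Category.comp_id _).trans (Category.id_comp _).symm) (Category.comp_id _)
  let m : pullback π f ⟶ pullback π b := pullback.map π f π b (𝟙 Z) f' (𝟙 S)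
    ((Category.comp_id _).trans (Category.id_comp _).symm) ((Category.comp_id f).trans hf'.symm)
  show g.ker = 𝒥.comap m
  have hg1 : g ≫ pullback.fst π f = pullback.fst π (j ≫ f) := by simp [g, pullback.lift_fst]
  have hg2 : g ≫ pullback.snd π f = pullback.snd π (j ≫ f) ≫ j := by simp [g, pullback.lift_snd]
  have hm1 : m ≫ pullback.fst π b = pullback.fst π f := by simp [m, pullback.lift_fst]
  have hm2 : m ≫ pullback.snd π b = pullback.snd π f ≫ f' := by simp [m, pullback.lift_snd]
  have hgp : IsPullback g (pullback.snd π (j ≫ f)) (pullback.snd π f) j :=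
    IsPullback.of_right (by rw [hg1]; exact IsPullback.of_hasPullback π (j ≫ f)) hg2
      (IsPullback.of_hasPullback π f)
  have hmp : IsPullback m (pullback.snd π f) (pullback.snd π b) f' :=
    IsPullback.of_right (by rw [hm1, hf']; exact IsPullback.of_hasPullback π f) hm2
      (IsPullback.of_hasPullback π b)
  -- the strict transform contains the generic fibre
  let E := (𝓘.comap π).comap (pullback.fst π b)
  let O : (pullback π b).Opens := E.support.compl
  have hEft : BlowUp.IsFiniteTypeIdeal E := by
    refine Groth.L13.Nagata.isFiniteType_comap (Groth.L13.Nagata.isFiniteType_comap ?_ π) _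
    intro V
    haveI : IsNoetherianRing Γ(S, V.1) := IsLocallyNoetherian.component_noetherian V
    exact IsNoetherian.noetherian _
  let l : pullback π (j ≫ f) ⟶ (O : Scheme.{u}) := IsOpenImmersion.lift O.ι (g ≫ m) (by
    rw [Scheme.Opens.range_ι]
    rintro _ ⟨w, rfl⟩
    show (g ≫ m) w ∉ (E.support : Set ↥(pullback π b))
    simp only [E, Scheme.IdealSheafData.support_comap]
    intro h
    replace h : π ((pullback.fst π b) ((g ≫ m) w)) ∈ (𝓘.support : Set S) := h
    rw [← Scheme.Hom.comp_apply, ← Scheme.Hom.comp_apply] at h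
    simp only [Category.assoc] at h
    rw [reassoc_of% hm1,
      pullback.condition, reassoc_of% hg2, Scheme.Hom.comp_apply, Scheme.Hom.comp_apply, hjbot] at h
    exact hf h)
  haveI : QuasiCompact f := quasiCompact_of_compactSpace f
  haveI : QuasiCompact (f' ≫ b) := by rw [hf']; infer_instance
  haveI : IsProper b := Groth.L13.BU.isProper_blowUp hb fun V => by
    haveI : IsNoetherianRing Γ(S, V.1) := IsLocallyNoetherian.component_noetherian V
    exact IsNoetherian.noetherian _
  haveI : QuasiCompact f' := QuasiCompact.of_comp f' b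
  haveI : QuasiCompact m := MorphismProperty.of_isPullback hmp.flip ‹QuasiCompact f'›
  haveI : QuasiCompact j := inferInstance
  haveI : QuasiCompact g := MorphismProperty.of_isPullback hgp.flip ‹QuasiCompact j›
  have hle : 𝒥.comap m ≤ g.ker := by
    rw [← Scheme.IdealSheafData.le_map_iff_comap_le, ← Scheme.Hom.ker_comp]
    intro V a ha
    have h0 := (Groth.L13.Nagata.killed_iff_restrict_eq_zero E hEft V (O.ι ''ᵁ O.ι ⁻¹ᵁ V.1)
      (Set.image_preimage_subset _ _) (fun x hx => by
        rw [Scheme.Hom.image_preimage_eq_opensRange_inf, Scheme.Opens.opensRange_ι]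
        exact ⟨fun h => h.1, fun h => ⟨h, hx⟩⟩) a).1 ((h𝒥 V a).1 ha)
    rw [Scheme.Hom.ker_apply, RingHom.mem_ker]
    have hl : l ≫ O.ι = g ≫ m := IsOpenImmersion.lift_fac _ _ _
    rw [Scheme.Hom.congr_app hl.symm, CommRingCat.comp_apply, Scheme.Hom.comp_app]
    erw [CommRingCat.comp_apply]
    rw [Scheme.Opens.ι_app]
    refine Eq.trans (congrArg _ ((congrArg (l.app (O.ι ⁻¹ᵁ V.1)).hom h0).trans (map_zero _))) ?_
    exact map_zero _
  -- flat subschemes are the closures of their generic fibres
  let J := 𝒥.comap m
  let u := IsClosedImmersion.lift J.subschemeι g (by rw [Scheme.IdealSheafData.ker_subschemeι]; exact hle)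
  have hu : u ≫ J.subschemeι = g := IsClosedImmersion.lift_fac _ _ _
  haveI : Flat (J.subschemeι ≫ pullback.snd π f) := by
    have h1 := ((IsPullback.of_hasPullback m 𝒥.subschemeι).flip.paste_vert hmp)
    have h2 : Flat (pullback.fst m 𝒥.subschemeι ≫ pullback.snd π f) :=
      MorphismProperty.of_isPullback h1 ‹Flat (𝒥.subschemeι ≫ pullback.snd (ι ≫ p) b)›
    rw [← 𝒥.comapIso_hom_fst m, Category.assoc]
    infer_instance
  have hup : IsPullback u (pullback.snd π (j ≫ f)) (J.subschemeι ≫ pullback.snd π f) j := by
    refine IsPullback.of_isLimit' ⟨by rw [reassoc_of% hu, hg2]⟩ (PullbackCone.IsLimit.mk _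
      (fun c => hgp.lift (c.fst ≫ J.subschemeι) c.snd (by rw [Category.assoc]; exact c.condition))
      (fun c => ?_) (fun c => hgp.lift_snd _ _ _) fun c r h1 h2 => ?_)
    · rw [← cancel_mono J.subschemeι, Category.assoc, hu, hgp.lift_fst]
    · refine hgp.hom_ext ?_ ?_
      · rw [hgp.lift_fst, ← h1, Category.assoc, hu]
      · rw [hgp.lift_snd]; exact h2
  haveI : IsDominant j := Groth.L05.Models.isDominant_SpecMap _ hinj
  haveI : IsSchemeTheoreticallyDominant j := IsSchemeTheoreticallyDominant.of_isDominant j
  haveI : IsSchemeTheoreticallyDominant u := IsSchemeTheoreticallyDominant.of_isPullback hup.flip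
  rw [← hu, Scheme.Hom.ker_comp, IsSchemeTheoreticallyDominant.ker_eq_bot u, Scheme.IdealSheafData.map_bot,
    Scheme.IdealSheafData.ker_subschemeι]


end Groth.Agent.S19583
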