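import Groth.Statements.S19586
import Groth.Agent.L15.SmoothCrit
import Mathlib.LinearAlgebra.ExteriorPower.Basic
import Mathlib.LinearAlgebra.Determinant
import Mathlib.RingTheory.Kaehler.Basic
-- import your own Groth.Agent.* helpers here

set_option autoImplicit false
universe u
open KaehlerDifferential
open LocInt

open scoped TensorProduct

namespace Groth.Agent.S19586

/-- an alternating map vanishes on tuples in the span of fewer vectors -/
theorem alternating_zero {R M N : Type*} [CommRing R] [AddCommGroup M] [Module R M] [AddCommGroup N] [Module R N]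
    {m n : ℕ} (hmn : m < n) (f : M [⋀^Fin n]→ₗ[R] N) (w : Fin m → M) (x : Fin n → M)
    (hx : ∀ i, x i ∈ Submodule.span R (Set.range w)) : f x = 0 := by
  choose c hc using fun i => (Submodule.mem_span_range_iff_exists_fun R).1 (hx i)
  let l : (Fin m → R) →ₗ[R] M := Fintype.linearCombination R w
  have h0 : f.compLinearMap l = 0 :=
    Module.Basis.ext_alternating (Pi.basisFun R (Fin m)) fun v hv =>
      absurd (Fintype.card_le_of_injective v hv) (by simpa using hmn)
  have := congr_fun (congr_arg DFunLike.coe h0) c
  simpa [l, Fintype.linearCombination_apply, Function.comp_def, hc] using this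

/-- Let A → B be a smooth ring map with Ω_{B/A} of rank n at every prime of B, g ∈ B a nonzerodivisor
and R = B/gB, so that Spec R is a hypersurface of virtual relative dimension n − 1 over Spec A. Let
J ⊆ R be the annihilator of the n-th exterior power of Ω_{R/A} and Z = V(J) ⊆ Spec R. Then the
underlying set of Z is exactly the set of primes at which R is not smooth over A: for a prime p of
R, J ⊆ p if and only if the localization R_p is not formally smooth over A. -/
theorem result (A B R : Type u) [CommRing A] [CommRing B] [CommRing R]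
    [Algebra A B] [Algebra B R] [Algebra A R] [IsScalarTower A B R] [Algebra.Smooth A B] (n : ℕ)
    (hn : ∀ p : PrimeSpectrum B, Module.rankAtStalk (Ω[B⁄A]) p = n)
    (g : B) (hg : IsSMulRegular B g) (hsurj : Function.Surjective (algebraMap B R))
    (hker : RingHom.ker (algebraMap B R) = Ideal.span {g}) (p : PrimeSpectrum R) :
    (⋀[R]^n (Ω[R⁄A])).annihilator ≤ p.asIdeal ↔ p ∉ Algebra.smoothLocus A R := by
  classical
  set q := p.asIdeal.comap (algebraMap B R) with hq
  set K := q.ResidueField
  set d0 := Groth.L15.SmoothCrit.dFib (A := A) q g with hd0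
  have hgker : g ∈ RingHom.ker (algebraMap B R) := hker ▸ Ideal.mem_span_singleton_self g
  have hgq : g ∈ q := by rw [hq, Ideal.mem_comap, RingHom.mem_ker.1 hgker]; exact p.asIdeal.zero_mem
  have hgK : algebraMap B K g = 0 := Ideal.algebraMap_residueField_eq_zero.2 hgq
  have hsm : Algebra.IsSmoothAt A p.asIdeal ↔ d0 ≠ 0 := by
    rw [Groth.L15.SmoothCrit.smoothAt_iff hsurj (hker ▸ Submodule.fg_span_singleton g) p.asIdeal q rfl]
    constructor
    · rintro ⟨s, hs, hgen, hli⟩ h0
      obtain rfl | ⟨x, hx⟩ := s.eq_empty_or_nonempty
      · rw [hker, Ideal.map_span, Set.image_singleton, Finset.coe_empty, Set.image_empty, Ideal.span_empty,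
          Ideal.span_singleton_eq_bot] at hgen
        obtain ⟨u, hu⟩ := (IsLocalization.map_eq_zero_iff q.primeCompl _ g).1 hgen
        exact u.2 (by rw [SetLike.mem_coe, hg (show g * (u : B) = g * 0 by rw [mul_zero, mul_comm]; exact hu)]; exact q.zero_mem)
      · obtain ⟨b, hb⟩ := Ideal.mem_span_singleton'.1 (hker ▸ hs hx : x ∈ Ideal.span {g})
        refine hli.ne_zero (⟨x, hx⟩ : ↥s) ?_
        show Groth.L15.SmoothCrit.dFib q x = 0
        rw [Groth.L15.SmoothCrit.dFib, ← hb, Derivation.leibniz, TensorProduct.tmul_add, TensorProduct.tmul_smul,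
          TensorProduct.tmul_smul, show (1 : K) ⊗ₜ[B] (KaehlerDifferential.D A B g) = 0 from h0, smul_zero, zero_add,
          TensorProduct.smul_tmul', Algebra.smul_def, hgK, zero_mul, TensorProduct.zero_tmul]
    · intro h0
      refine ⟨{g}, by simpa using hgker, by rw [hker, Ideal.map_span]; simp, ?_⟩
      haveI : Subsingleton ↥({g} : Finset B) := ⟨fun a b => Subtype.ext (by
        rw [Finset.mem_singleton.1 a.2, Finset.mem_singleton.1 b.2])⟩
      haveI : Unique ↥({g} : Finset B) := uniqueOfSubsingleton ⟨g, Finset.mem_singleton_self g⟩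
      exact LinearIndependent.of_subsingleton (⟨g, Finset.mem_singleton_self g⟩ : ↥({g} : Finset B)) h0
  show _ ↔ ¬ Algebra.IsSmoothAt A p.asIdeal
  rw [hsm, not_ne_iff]
  haveI : Module.Finite B Ω[B⁄A] := inferInstance
  -- the fibre has dimension `n`
  have hdim : Module.finrank K (K ⊗[B] Ω[B⁄A]) = n :=
    (Module.rankAtStalk_eq (R := B) (M := Ω[B⁄A]) ⟨q, inferInstance⟩).symm.trans (hn ⟨q, inferInstance⟩)
  let D1 : Set (K ⊗[B] Ω[B⁄A]) := Set.range fun b : B => (1 : K) ⊗ₜ[B] KaehlerDifferential.D A B b
  have hD1 : Submodule.span K D1 = ⊤ := by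
    refine Submodule.eq_top_iff'.2 fun z => ?_
    induction z using TensorProduct.induction_on with
    | zero => exact zero_mem _
    | add a b ha hb => exact add_mem ha hb
    | tmul a m =>
      have hm : (1 : K) ⊗ₜ[B] m ∈ Submodule.span K D1 := by
        have hm' : m ∈ Submodule.span B (Set.range (KaehlerDifferential.D A B)) :=
          (KaehlerDifferential.span_range_derivation A B).symm ▸ Submodule.mem_top
        induction hm' using Submodule.span_induction with
        | mem m hm => obtain ⟨b, rfl⟩ := hm; exact Submodule.subset_span ⟨b, rfl⟩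
        | zero => rw [TensorProduct.tmul_zero]; exact zero_mem _
        | add a b _ _ ha hb => rw [TensorProduct.tmul_add]; exact add_mem ha hb
        | smul r m _ hm => rw [TensorProduct.tmul_smul]; exact Submodule.smul_of_tower_mem _ r hm
      have : a ⊗ₜ[B] m = a • ((1 : K) ⊗ₜ[B] m) := by rw [TensorProduct.smul_tmul', smul_eq_mul, mul_one]
      exact this ▸ Submodule.smul_mem _ a hm
  constructor
  · -- if `dg` does not vanish in the fibre, the top exterior power dies at `p`
    intro hann
    by_contra h0
    obtain ⟨t, ht, hgt, htspan, hli⟩ := exists_linearIndepOn_extension (K := K) (v := id) (s := {d0}) (t := insert d0 D1)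
      (by rw [linearIndepOn_singleton_iff]; exact h0) (Set.singleton_subset_iff.2 (Set.mem_insert _ _))
    rw [Set.image_id, Set.image_id] at htspan
    have httop : Submodule.span K t = ⊤ := eq_top_iff.2 (hD1 ▸ (Submodule.span_le.2
      fun z hz => htspan (Set.mem_insert_of_mem _ hz)))
    let bt : Module.Basis t K (K ⊗[B] Ω[B⁄A]) := Module.Basis.mk hli (by
      show (⊤ : Submodule K _) ≤ Submodule.span K (Set.range (Subtype.val : t → K ⊗[B] Ω[B⁄A]))
      rw [Subtype.range_coe, httop])
    haveI : Fintype t := FiniteDimensional.fintypeBasisIndex bt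
    have hcard : Fintype.card t = n := (Module.finrank_eq_card_basis bt).symm.trans hdim
    have hd0t : d0 ∈ t := hgt rfl
    -- lifts of the other basis vectors
    have hlift : ∀ z : {z : t // (z : K ⊗[B] Ω[B⁄A]) ≠ d0}, ∃ b : B, (1 : K) ⊗ₜ[B] KaehlerDifferential.D A B b = z.1.1 :=
      fun z => (ht z.1.2).resolve_left z.2
    choose lf hlf using hlift
    set m := Fintype.card {z : t // (z : K ⊗[B] Ω[B⁄A]) ≠ d0}
    have hm : m < n := hcard ▸ Fintype.card_subtype_lt (x := (⟨d0, hd0t⟩ : t)) (by simp)
    let w : Fin m → B := fun i => lf ((Fintype.equivFin _).symm i)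
    let N : Submodule B Ω[B⁄A] := Submodule.span B (insert (KaehlerDifferential.D A B g) (Set.range fun i => KaehlerDifferential.D A B (w i)))
    have hQ : (⟨q, inferInstance⟩ : PrimeSpectrum B) ∉ Module.support B (Ω[B⁄A] ⧸ N) := by
      rw [Module.mem_support_iff_nontrivial_residueField_tensorProduct, not_nontrivial_iff_subsingleton]
      let π := TensorProduct.AlgebraTensorModule.map (LinearMap.id : K →ₗ[K] K) N.mkQ
      have hπ : Function.Surjective π := LinearMap.lTensor_surjective _ N.mkQ_surjective
      have hπ0 : ∀ z, π z = 0 := fun z => by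
        have hz : z ∈ Submodule.span K t := httop ▸ Submodule.mem_top
        induction hz using Submodule.span_induction with
        | mem z hz =>
          have hN : ∀ b : B, KaehlerDifferential.D A B b ∈ N → π ((1 : K) ⊗ₜ KaehlerDifferential.D A B b) = 0 := fun b hb => by
            show (1 : K) ⊗ₜ[B] N.mkQ (KaehlerDifferential.D A B b) = 0
            rw [Submodule.mkQ_apply, (Submodule.Quotient.mk_eq_zero N).2 hb, TensorProduct.tmul_zero]
          by_cases hzd : z = d0
          · rw [hzd]; exact hN g (Submodule.subset_span (Set.mem_insert _ _))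
          · have hz' := hlf ⟨⟨z, hz⟩, hzd⟩
            dsimp only at hz'
            rw [← hz']
            exact hN _ (Submodule.subset_span (Set.mem_insert_of_mem _
              ⟨Fintype.equivFin _ ⟨⟨z, hz⟩, hzd⟩, by simp [w]⟩))
        | zero => exact map_zero _
        | add a b _ _ ha hb => rw [map_add, ha, hb, add_zero]
        | smul r a _ ha => rw [map_smul, ha, smul_zero]
      exact ⟨fun a b => by
        obtain ⟨a, rfl⟩ := hπ a
        obtain ⟨b, rfl⟩ := hπ b
        rw [hπ0 a, hπ0 b]⟩
    obtain ⟨s, hs, hsq⟩ : ∃ s, s ∈ Module.annihilator B (Ω[B⁄A] ⧸ N) ∧ s ∉ q := by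
      rw [Module.support_eq_zeroLocus] at hQ
      exact SetLike.not_le_iff_exists.1 hQ
    let wR : Fin m → Ω[R⁄A] := fun i => KaehlerDifferential.D A R (algebraMap B R (w i))
    have hNR : ∀ b : B, algebraMap B R s • KaehlerDifferential.D A R (algebraMap B R b) ∈ Submodule.span R (Set.range wR) := fun b => by
      have hb : s • KaehlerDifferential.D A B b ∈ N := (Submodule.Quotient.mk_eq_zero N).1
        (by rw [Submodule.Quotient.mk_smul]; exact Module.mem_annihilator.1 hs _)
      have hmap : ∀ z ∈ N, KaehlerDifferential.map A A B R z ∈ (Submodule.span R (Set.range wR)).restrictScalars B := by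
        suffices h : N ≤ Submodule.comap (KaehlerDifferential.map A A B R) ((Submodule.span R (Set.range wR)).restrictScalars B) from
          fun z hz => h hz
        refine Submodule.span_le.2 ?_
        intro z hz
        rcases hz with rfl | ⟨i, rfl⟩
        · rw [SetLike.mem_coe, Submodule.mem_comap]
          rw [KaehlerDifferential.map_D, RingHom.mem_ker.1 hgker, Derivation.map_zero]
          exact Submodule.zero_mem _
        · rw [SetLike.mem_coe, Submodule.mem_comap]
          rw [KaehlerDifferential.map_D]
          exact Submodule.subset_span ⟨i, rfl⟩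
      have := hmap _ hb
      rw [map_smul, KaehlerDifferential.map_D, algebra_compatible_smul R] at this
      exact this
    refine hsq ((p.isPrime.mem_of_pow_mem n) (hann (?_ : algebraMap B R s ^ n ∈ _)))
    rw [Module.mem_annihilator]
    intro z
    have hz : z ∈ Submodule.span R (Set.range (exteriorPower.ιMulti R n)) := by
      rw [exteriorPower.ιMulti_span]; trivial
    induction hz using Submodule.span_induction with
    | mem z hz =>
      obtain ⟨x, rfl⟩ := hz
      have : algebraMap B R s ^ n • exteriorPower.ιMulti R n x = exteriorPower.ιMulti R n (fun i => algebraMap B R s • x i) := by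
        rw [← AlternatingMap.coe_multilinearMap, MultilinearMap.map_smul_univ]
        simp
      rw [this]
      refine alternating_zero hm _ wR _ fun i => ?_
      have hxi : x i ∈ Submodule.span R (Set.range (KaehlerDifferential.D A R)) :=
        (KaehlerDifferential.span_range_derivation A R).symm ▸ Submodule.mem_top
      generalize x i = y₀ at hxi ⊢
      induction hxi using Submodule.span_induction with
      | mem y hy =>
        obtain ⟨r, rfl⟩ := hy
        obtain ⟨b, rfl⟩ := hsurj r
        exact hNR b
      | zero => rw [smul_zero]; exact zero_mem _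
      | add a b _ _ ha hb => rw [smul_add]; exact add_mem ha hb
      | smul r a _ ha => rw [smul_comm]; exact Submodule.smul_mem _ r ha
    | zero => exact smul_zero _
    | add a b _ _ ha hb => rw [smul_add, ha, hb, add_zero]
    | smul r a _ ha => rw [smul_comm, ha, smul_zero]
  · -- if `dg` vanishes in the fibre, a determinant gives a nonzero form
    intro h0 a ha
    let κ : R →+* K := (Ideal.Quotient.lift (RingHom.ker (algebraMap B R)) (algebraMap B K) (fun x hx =>
      Ideal.algebraMap_residueField_eq_zero.2 (by rw [hq, Ideal.mem_comap, RingHom.mem_ker.1 hx]; exact p.asIdeal.zero_mem))).comp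
        (RingHom.quotientKerEquivOfSurjective hsurj).symm.toRingHom
    have hκ : ∀ b, κ (algebraMap B R b) = algebraMap B K b := fun b => by
      have : (RingHom.quotientKerEquivOfSurjective hsurj).symm (algebraMap B R b) = Ideal.Quotient.mk _ b :=
        (RingHom.quotientKerEquivOfSurjective hsurj).injective (by rw [RingEquiv.apply_symm_apply]; rfl)
      simp [κ, this]
    letI : Algebra R K := κ.toAlgebra
    haveI : IsScalarTower B R K := IsScalarTower.of_algebraMap_eq fun b => (hκ b).symm
    -- the derivation `R → fibre`
    let F : R → K ⊗[B] Ω[B⁄A] := fun r => 1 ⊗ₜ KaehlerDifferential.D A B (Function.surjInv hsurj r)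
    have hF : ∀ b, F (algebraMap B R b) = 1 ⊗ₜ KaehlerDifferential.D A B b := fun b => by
      obtain ⟨c, hc⟩ := Ideal.mem_span_singleton'.1 (show Function.surjInv hsurj (algebraMap B R b) - b ∈ Ideal.span {g} by
        rw [← hker, RingHom.mem_ker, map_sub, Function.surjInv_eq hsurj, sub_self])
      show (1 : K) ⊗ₜ[B] KaehlerDifferential.D A B (Function.surjInv hsurj (algebraMap B R b)) = _
      rw [← sub_eq_zero, ← TensorProduct.tmul_sub, ← map_sub, ← hc, Derivation.leibniz, TensorProduct.tmul_add,
        TensorProduct.tmul_smul, TensorProduct.tmul_smul, show (1 : K) ⊗ₜ[B] (KaehlerDifferential.D A B g) = 0 from h0,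
        smul_zero, zero_add, TensorProduct.smul_tmul', Algebra.smul_def, hgK, zero_mul, TensorProduct.zero_tmul]
    have hsmul : ∀ (b : B) (z : K ⊗[B] Ω[B⁄A]), algebraMap B R b • z = b • z := fun b z => by
      induction z using TensorProduct.induction_on with
      | zero => rw [smul_zero, smul_zero]
      | add x y hx hy => rw [smul_add, smul_add, hx, hy]
      | tmul k m => rw [TensorProduct.smul_tmul', TensorProduct.smul_tmul', algebraMap_smul]
    haveI : IsScalarTower A R (K ⊗[B] Ω[B⁄A]) := ⟨fun a r z => by
      obtain ⟨b, rfl⟩ := hsurj r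
      rw [Algebra.smul_def, IsScalarTower.algebraMap_apply A B R, ← map_mul, hsmul, hsmul, mul_smul, algebraMap_smul]⟩
    let δ : Derivation A R (K ⊗[B] Ω[B⁄A]) := Derivation.mk'
      { toFun := F
        map_add' := fun x y => by
          obtain ⟨x, rfl⟩ := hsurj x
          obtain ⟨y, rfl⟩ := hsurj y
          rw [← map_add, hF, hF, hF, map_add, TensorProduct.tmul_add]
        map_smul' := fun c x => by
          obtain ⟨x, rfl⟩ := hsurj x
          show F (c • algebraMap B R x) = c • F (algebraMap B R x)
          rw [Algebra.smul_def, IsScalarTower.algebraMap_apply A B R, ← map_mul, hF, hF, ← Algebra.smul_def,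
            Derivation.map_smul, TensorProduct.tmul_smul] }
      fun x y => by
        obtain ⟨x, rfl⟩ := hsurj x
        obtain ⟨y, rfl⟩ := hsurj y
        show F (algebraMap B R x * algebraMap B R y) =
          algebraMap B R x • F (algebraMap B R y) + algebraMap B R y • F (algebraMap B R x)
        rw [← map_mul, hF, hF, hF, hsmul, hsmul, Derivation.leibniz, TensorProduct.tmul_add, TensorProduct.tmul_smul,
          TensorProduct.tmul_smul]
    let χ := δ.liftKaehlerDifferential
    obtain ⟨t, ht, htspan, hli⟩ := exists_linearIndependent K D1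
    rw [hD1] at htspan
    let bt : Module.Basis t K (K ⊗[B] Ω[B⁄A]) := Module.Basis.mk hli (by rw [Subtype.range_coe, htspan])
    haveI : Fintype t := FiniteDimensional.fintypeBasisIndex bt
    have hcard : Fintype.card t = n := (Module.finrank_eq_card_basis bt).symm.trans hdim
    let e := bt.reindex (Fintype.equivFinOfCardEq hcard)
    choose b hb using fun i : Fin n => ht ((Fintype.equivFinOfCardEq hcard).symm i).2
    let f : (Ω[R⁄A]) [⋀^Fin n]→ₗ[R] K :=
      { (e.det.toMultilinearMap.restrictScalars R).compLinearMap (fun _ => χ) with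
        map_eq_zero_of_eq' := fun v i j hv hij => e.det.map_eq_zero_of_eq (fun k => χ (v k)) (congr_arg χ hv) hij }
    have h1 : f (fun i => KaehlerDifferential.D A R (algebraMap B R (b i))) = 1 := by
      show e.det (fun i => χ (KaehlerDifferential.D A R (algebraMap B R (b i)))) = 1
      rw [← e.det_self]
      congr 1
      funext i
      rw [Derivation.liftKaehlerDifferential_comp_D]
      show F (algebraMap B R (b i)) = _
      rw [hF]
      exact (hb i).trans (by simp [e, bt])
    have h2 : algebraMap R K a = 0 := by
      have := congr_arg (exteriorPower.alternatingMapLinearEquiv f)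
        (Module.mem_annihilator.1 ha (exteriorPower.ιMulti R n fun i => KaehlerDifferential.D A R (algebraMap B R (b i))))
      rw [map_smul, exteriorPower.alternatingMapLinearEquiv_apply_ιMulti, h1, map_zero, Algebra.smul_def, mul_one] at this
      exact this
    obtain ⟨a, rfl⟩ := hsurj a
    show a ∈ q
    exact Ideal.algebraMap_residueField_eq_zero.1 ((hκ a).symm.trans h2)


end Groth.Agent.S19586
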