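import Groth.Statements.S1959
import Groth.Agent.L05.Hensel.Criteria

set_option autoImplicit false
universe u
open Polynomial
open EtAlg

namespace Groth.Agent.S1959

/-- Let I be an ideal of a ring A, A -> B an integral ring map and b an element of B whose image in B/IB
is idempotent. Then there are d ≥ 1 and a monic polynomial f over A with f(b) = 0 whose reduction
modulo I is x^d (x - 1)^d. -/
theorem result (A B : Type u) [CommRing A] [CommRing B] [Algebra A B]
    [Algebra.IsIntegral A B] (I : Ideal A) (b : B)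
    (hb : IsIdempotentElem (Ideal.Quotient.mk (I.map (algebraMap A B)) b)) :
    ∃ (f : A[X]) (d : ℕ), f.Monic ∧ 1 ≤ d ∧ aeval b f = 0 ∧
      f.map (Ideal.Quotient.mk I) = X ^ d * (X - 1) ^ d := by
  classical
  have hb' : b * b - b ∈ I.map (algebraMap A B) := Ideal.Quotient.eq.mp (by rw [map_mul]; exact hb)
  suffices hmem : ∀ z ∈ I.map (algebraMap A B), ∃ T : Finset B, ∀ D : Subalgebra A B, (T : Set B) ⊆ D →
      ∃ z' ∈ I.map (algebraMap A D), (z' : B) = z by
    obtain ⟨T, hT⟩ := hmem _ hb'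
    let D := Algebra.adjoin A ((insert b T : Finset B) : Set B)
    have : Module.Finite A D := ⟨(Submodule.fg_top _).mpr
      (fg_adjoin_of_finite (Finset.finite_toSet _) fun x _ => Algebra.IsIntegral.isIntegral x)⟩
    let w : D := ⟨b, Algebra.subset_adjoin (by simp)⟩
    obtain ⟨z, hz, hz'⟩ := hT D fun x hx =>
      Algebra.subset_adjoin (by simp [Finset.mem_coe.mp hx])
    obtain ⟨f, n, hf, hmap, hfw⟩ := Groth.L05.exists_monic_annihilator_idem I w
      (by rwa [show w * w - w = z from Subtype.ext (by simp [w, hz'])])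
    have hm : (X - 1 : A[X]).Monic := by simpa using monic_X_sub_C (1 : A)
    refine ⟨X * (X - 1) * f, n + 1, (monic_X.mul hm).mul hf, Nat.le_add_left 1 n, ?_, ?_⟩
    · have := congrArg D.val hfw
      rw [← aeval_algHom_apply, map_zero] at this
      simp [w] at this
      simp [this]
    · simp [hmap, pow_succ]
      ring
  intro z hz
  induction hz using Submodule.span_induction with
  | mem z hz =>
    obtain ⟨i, hi, rfl⟩ := hz
    exact ⟨∅, fun D _ => ⟨algebraMap A D i, Ideal.mem_map_of_mem _ hi, rfl⟩⟩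
  | zero => exact ⟨∅, fun D _ => ⟨0, zero_mem _, rfl⟩⟩
  | add y z _ _ hy hz =>
    obtain ⟨T, hT⟩ := hy; obtain ⟨T', hT'⟩ := hz
    refine ⟨T ∪ T', fun D hD => ?_⟩
    simp only [Finset.coe_union, Set.union_subset_iff] at hD
    obtain ⟨a, ha, ha'⟩ := hT D hD.1; obtain ⟨c, hc, hc'⟩ := hT' D hD.2
    exact ⟨a + c, add_mem ha hc, by push_cast; rw [ha', hc']⟩
  | smul c z _ hz =>
    obtain ⟨T, hT⟩ := hz
    refine ⟨insert c T, fun D hD => ?_⟩
    simp only [Finset.coe_insert, Set.insert_subset_iff] at hD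
    obtain ⟨a, ha, ha'⟩ := hT D hD.2
    exact ⟨⟨c, hD.1⟩ * a, Ideal.mul_mem_left _ _ ha, by push_cast; rw [ha', smul_eq_mul]⟩

end Groth.Agent.S1959
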