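import Groth.Statements.S19590
import Mathlib.LinearAlgebra.Matrix.GeneralLinearGroup.Defs
import Mathlib.GroupTheory.OrderOfElement
import Mathlib.Tactic.NoncommRing
import Mathlib.Algebra.Field.ZMod
import Mathlib.RingTheory.Int.Basic
import Mathlib.Tactic.Ring
import Mathlib.Tactic.LinearCombination
import Mathlib.Tactic.FieldSimp
import Mathlib.Algebra.BigOperators.Ring.Finset

set_option autoImplicit false
open BddFin

namespace Groth.Agent.S19590

theorem step {m : Type} [Fintype m] [DecidableEq m] (B : Matrix m m ℤ) (e : ℤ) (he : e ≠ 0)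
    (q : ℕ) (hq : q.Prime) (h : (1 + (3 * e) • B) ^ q = 1) (i j : m) : (3 : ℤ) ∣ B i j := by
  have hexp : ∀ k : ℕ, ∃ C : Matrix m m ℤ,
      (1 + (3 * e) • B) ^ k = 1 + ((k : ℤ) * (3 * e)) • B + ((3 * e) * (3 * e)) • C := by
    intro k
    induction k with
    | zero => exact ⟨0, by simp⟩
    | succ k ih =>
      obtain ⟨C, hC⟩ := ih
      refine ⟨(k : ℤ) • (B * B) + C * (1 + (3 * e) • B), ?_⟩
      rw [pow_succ, hC]
      simp only [mul_add, add_mul, one_mul, mul_one, smul_mul_assoc, mul_smul_comm, smul_add,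
        smul_smul]
      push_cast
      module
  by_cases h3 : q = 3
  · subst h3
    have h' : ((3 * (3 * e) : ℤ)) • (B + (3 * e) • (B * B) + ((3 * e) * e) • (B * B * B)) = 0 := by
      rw [← sub_eq_zero] at h
      rw [← h]
      simp only [pow_succ, pow_zero, mul_add, add_mul, one_mul, mul_one, smul_mul_assoc,
        mul_smul_comm, smul_add, smul_smul, mul_assoc]
      module
    rw [smul_eq_zero] at h'
    rcases h' with h' | h'
    · omega
    · have := congrFun (congrFun h' i) j
      simp only [Matrix.add_apply, Matrix.smul_apply, smul_eq_mul, Matrix.zero_apply] at this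
      exact ⟨-(e * (B * B) i j + (e * e) * (B * B * B) i j), by linarith⟩
  · obtain ⟨C, hC⟩ := hexp q
    rw [h] at hC
    have h' : (3 * e : ℤ) • ((q : ℤ) • B + (3 * e) • C) = 0 := by
      rw [smul_add, smul_smul, smul_smul, mul_comm (3 * e) (q : ℤ)]
      linear_combination (norm := abel) hC.symm
    rw [smul_eq_zero] at h'
    rcases h' with h' | h'
    · omega
    · have := congrFun (congrFun h' i) j
      simp only [Matrix.add_apply, Matrix.smul_apply, smul_eq_mul, Matrix.zero_apply] at this
      have hdvd : (3 : ℤ) ∣ (q : ℤ) * B i j := ⟨-(e * C i j), by linarith⟩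
      have h3p : Prime (3 : ℤ) := (Int.prime_iff_natAbs_prime.2 Nat.prime_three)
      rcases h3p.dvd_or_dvd hdvd with h' | h'
      · exfalso
        have : (3 : ℕ) ∣ q := by exact_mod_cast h'
        exact h3 ((Nat.prime_dvd_prime_iff_eq Nat.prime_three hq).1 this).symm
      · exact h'

theorem minkowski {m : Type} [Fintype m] [DecidableEq m] (g : Matrix m m ℤ)
    (q : ℕ) (hq : q.Prime) (h : g ^ q = 1) (h3 : ∀ i j, (3 : ℤ) ∣ (g - 1) i j) : g = 1 := by
  have hk : ∀ k : ℕ, ∃ B : Matrix m m ℤ, g - 1 = (3 * (3 : ℤ) ^ k) • B := by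
    intro k
    induction k with
    | zero =>
      choose B hB using h3
      exact ⟨Matrix.of B, by ext i j; simp [hB]⟩
    | succ k ih =>
      obtain ⟨B, hB⟩ := ih
      have hg : g = 1 + (3 * (3 : ℤ) ^ k) • B := by rw [← hB]; abel
      rw [hg] at h
      choose B' hB' using step B ((3 : ℤ) ^ k) (by positivity) q hq h
      refine ⟨Matrix.of B', ?_⟩
      rw [hB]
      ext i j
      simp [hB', pow_succ]
      ring
  rw [← sub_eq_zero]
  ext i j
  set a := (g - 1) i j with ha
  obtain ⟨B, hB⟩ := hk a.natAbs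
  have hd : (3 * (3 : ℤ) ^ a.natAbs) ∣ a := by
    refine ⟨B i j, ?_⟩; simpa [ha] using congrFun (congrFun hB i) j
  by_contra hne
  have hd' := Int.natAbs_dvd_natAbs.2 hd
  have hle := Nat.le_of_dvd (Int.natAbs_pos.2 (by simpa using hne)) hd'
  rw [Int.natAbs_mul, Int.natAbs_pow] at hle
  norm_num at hle
  have := Nat.lt_pow_self (n := a.natAbs) (show 1 < 3 by norm_num)
  omega

/-- For every n, the orders of the finite subgroups of GL_n(ℤ) are bounded: there is B such that every
finite subgroup of GL_n(ℤ) has at most B elements. -/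
theorem result (n : ℕ) :
    ∃ B : ℕ, ∀ H : Subgroup (Matrix.GeneralLinearGroup (Fin n) ℤ), Finite H → Nat.card H ≤ B := by
  classical
  refine ⟨Nat.card (Matrix.GeneralLinearGroup (Fin n) (ZMod 3)), fun H hH => ?_⟩
  let π := Matrix.GeneralLinearGroup.map (n := Fin n) (Int.castRingHom (ZMod 3))
  apply Nat.card_le_card_of_injective (π.comp H.subtype)
  rw [injective_iff_map_eq_one]
  intro g hg
  by_contra hne
  set m := orderOf g with hm
  have hfin : IsOfFinOrder g := isOfFinOrder_of_finite g
  have hm1 : m ≠ 1 := fun h => hne (orderOf_eq_one_iff.1 h)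
  have hq : m.minFac.Prime := Nat.minFac_prime hm1
  have hord : orderOf (g ^ (m / m.minFac)) = m.minFac :=
    orderOf_pow_orderOf_div hfin.orderOf_pos.ne' (Nat.minFac_dvd m)
  set x := g ^ (m / m.minFac) with hx
  have hx1 : π x.1 = 1 := by
    have : (π.comp H.subtype) x = 1 := by rw [hx, map_pow, hg, one_pow]
    simpa using this
  have hxq : x ^ m.minFac = 1 := by rw [← hord]; exact pow_orderOf_eq_one x
  have hmat : ((x.1 : Matrix.GeneralLinearGroup (Fin n) ℤ) : Matrix (Fin n) (Fin n) ℤ) = 1 := by
    apply minkowski _ m.minFac hq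
    · have := congrArg (fun u : H => ((u : Matrix.GeneralLinearGroup (Fin n) ℤ) : Matrix (Fin n) (Fin n) ℤ)) hxq
      simpa using this
    · intro i j
      have h' : (π x.1).val = (1 : Matrix (Fin n) (Fin n) (ZMod 3)) := by rw [hx1]; rfl
      have := congrFun (congrFun h' i) j
      apply (ZMod.intCast_zmod_eq_zero_iff_dvd _ 3).1
      simp only [π, Matrix.GeneralLinearGroup.map_apply, eq_intCast, Units.val_one] at this
      rw [Matrix.sub_apply]
      push_cast
      rw [this]
      simp [Matrix.one_apply, apply_ite (Int.cast : ℤ → ZMod 3)]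
  have : x = 1 := Subtype.ext (Units.ext hmat)
  rw [this, orderOf_one] at hord
  exact hq.one_lt.ne hord

end Groth.Agent.S19590
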