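import Groth.Statements.S19591
import Mathlib.FieldTheory.Perfect
import Mathlib.LinearAlgebra.FiniteDimensional.Lemmas
import Mathlib.Tactic.Ring
import Mathlib.Tactic.LinearCombination
import Mathlib.Tactic.FieldSimp
import Mathlib.Algebra.BigOperators.Ring.Finset

set_option autoImplicit false
universe u v
open BddFin

namespace Groth.Agent.S19591

/-- Let K be a perfect field of characteristic 2, V a finite-dimensional K-vector space with dim V > 2
and q a quadratic form on V whose polar bilinear form is non-degenerate. Then q represents zero
non-trivially. (Non-degeneracy of the polar form, which is alternating in characteristic 2, forces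
dim V to be even, as the published lemma notes.) -/
theorem result
    (K : Type u) [Field K] [CharP K 2] [PerfectField K]
    (V : Type v) [AddCommGroup V] [Module K V] [FiniteDimensional K V]
    (hV : 2 < Module.finrank K V) (q : QuadraticForm K V)
    (hq : (QuadraticMap.polarBilin q).Nondegenerate) :
    ∃ v : V, v ≠ 0 ∧ q v = 0 := by
  have : Nontrivial V := Module.nontrivial_of_finrank_pos (R := K) (by omega)
  obtain ⟨u, hu⟩ := exists_ne (0 : V)
  by_cases hqu : q u = 0
  · exact ⟨u, hu, hqu⟩
  set L : V →ₗ[K] K := QuadraticMap.polarBilin q u with hL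
  have hker : ¬ (LinearMap.ker L ≤ Submodule.span K {u}) := by
    intro h
    have h1 := Submodule.finrank_mono h
    rw [finrank_span_singleton hu] at h1
    have h2 := LinearMap.finrank_range_add_finrank_ker L
    have h3 := Submodule.finrank_le (LinearMap.range L)
    rw [Module.finrank_self] at h3
    omega
  obtain ⟨w, hw, hwu⟩ := SetLike.not_le_iff_exists.1 hker
  obtain ⟨a, ha⟩ := surjective_frobenius K 2 (q w / q u)
  rw [frobenius_def] at ha
  refine ⟨a • u + w, fun h => hwu ?_, ?_⟩
  · rw [eq_neg_of_add_eq_zero_right h]
    exact Submodule.neg_mem _ (Submodule.smul_mem _ _ (Submodule.mem_span_singleton_self u))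
  · have hpol : QuadraticMap.polar q u w = 0 := by simpa [hL] using hw
    have : QuadraticMap.polar q (a • u) w = 0 := by rw [QuadraticMap.polar_smul_left, hpol, smul_zero]
    rw [QuadraticMap.polar, sub_sub, sub_eq_zero] at this
    rw [this, QuadraticMap.map_smul, smul_eq_mul, ← sq, ha, div_mul_cancel₀ _ hqu,
      CharTwo.add_self_eq_zero]

end Groth.Agent.S19591
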