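import Groth.Statements.S19593
import Groth.Agent.L18.PBundle.Counit
import Groth.Agent.L18.AmpleAvoid
import Mathlib.Algebra.Module.Submodule.Union

set_option autoImplicit false
universe u
open CategoryTheory AlgebraicGeometry
open PicF

namespace Groth.Agent.S19593

open Groth.L18.Frame Groth.L18.GenLoc Groth.L18.Ample TopologicalSpace

/-- A very ample module over a field is generated at every point by a global section. -/
theorem exists_genLocus_mem {k : Type u} [Field k] {Y : Scheme.{u}} {f : Y ⟶ Spec (CommRingCat.of k)} {A : Y.Modules}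
    (hA : RelProj.IsRelVeryAmple f A) (x : Y) :
    PicF.IsInvertible A ∧ ∃ s : Coh.structureModule Y ⟶ A, x ∈ CohB1.genLocus A s := by
  obtain ⟨E, hE, 𝒯, j, hj, Q, r, ch, -, O1, lam', hO1, i, -, rfl, ⟨e⟩⟩ := hA
  have key : ∀ x : Y, ∃ (W : Y.Opens) (m : Γ((Scheme.Modules.pullback i).obj O1, ⊤)),
      x ∈ W ∧ IsFrame ((Scheme.Modules.pullback i).obj O1) W (rs _ le_top m) := by
    intro x
    obtain ⟨U, m, W, hW, hx, he⟩ := Groth.L18.PBundle.exists_chart_gen
      (Groth.L18.PBundle.isGenDegOne_of_isGrSymAlg hE hj) hO1 (i x)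
    have hU : U = ⊤ := top_le_iff.mp fun q _ => by
      rw [Subsingleton.elim (α := PrimeSpectrum k) q (r (i x))]
      exact hW hx
    subst hU
    refine ⟨i ⁻¹ᵁ W, pull i O1 (r ⁻¹ᵁ ⊤) m, hx, ?_⟩
    have h := he.pullback i O1
    rw [← pull_rs] at h
    exact h
  refine ⟨isInvertible_of_iso e.symm (isInvertible_of_frames fun x => ?_), ?_⟩
  · obtain ⟨W, m, hx, he⟩ := key x
    exact ⟨W, _, hx, he⟩
  · obtain ⟨W, m, hx, he⟩ := key x
    refine ⟨Groth.L16.homOfSection _ m ≫ e.symm.hom, ?_⟩
    rw [Groth.L16.genLocus_comp_iso]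
    refine le_genLocus _ ?_ hx
    rw [secOf_homOfSection]
    exact he

/-- Let k be an infinite field, Y a scheme proper over k with a relatively very ample O_Y-module A (the
pullback of O(1) along an immersion of Y into the Proj of a symmetric algebra over k), and y_1, …,
y_m finitely many points of Y. Then some global section of A generates A at every y_i. (The
published statement takes Y projective over k and A a very ample line bundle; here Y is proper over
k and A very ample relative to Y → Spec k, which makes Y projective.) -/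
theorem result
    (k : Type u) [Field k] [Infinite k] (Y : Scheme.{u}) (f : Y ⟶ Spec (CommRingCat.of k)) [IsProper f]
    (A : Y.Modules) (hA : RelProj.IsRelVeryAmple f A)
    (ι : Type) [Finite ι] (y : ι → ↥Y) :
    ∃ s : Coh.structureModule Y ⟶ A, ∀ i : ι, y i ∈ CohB1.genLocus A s := by
  by_cases hι : IsEmpty ι
  · exact ⟨0, fun i => hι.elim i⟩
  have hAi : PicF.IsInvertible A := (exists_genLocus_mem hA (y (not_isEmpty_iff.1 hι).some)).1
  let φ : k →+* Γ(Y, ⊤) := (f.appTop).hom.comp (Scheme.ΓSpecIso (CommRingCat.of k)).inv.hom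
  letI : Module k Γ(A, ⊤) := Module.compHom _ φ
  choose W e hyW he using fun i => exists_frame hAi (y i)
  have hrs : ∀ i (c : k) (m : Γ(A, ⊤)), rs A (le_top : W i ≤ ⊤) (c • m) = ro le_top (φ c) • rs A le_top m :=
    fun i c m => rs_smul A _ _ m
  choose a ha using fun i (m : Γ(A, ⊤)) => (he i).exists_coeff le_rfl (rs A le_top m)
  simp only [rs_self] at ha
  have hinj : ∀ i (b c : Γ(Y, W i)), b • e i = c • e i → b = c := fun i b c h => (he i).inj le_rfl (by simpa [rs_self] using h)
  let P : ι → Submodule k Γ(A, ⊤) := fun i =>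
    { carrier := {m | Y.evaluation (W i) (y i) (hyW i) (a i m) = 0}
      zero_mem' := by
        show Y.evaluation (W i) (y i) (hyW i) (a i 0) = 0
        rw [show a i 0 = 0 from hinj i _ _ (by rw [ha, zero_smul]; exact map_zero _), map_zero]
      add_mem' := fun {m n} hm hn => by
        show Y.evaluation (W i) (y i) (hyW i) (a i (m + n)) = 0
        rw [show a i (m + n) = a i m + a i n from hinj i _ _ (by rw [add_smul, ha, ha, ha]; exact map_add _ m n),
          map_add, hm, hn, add_zero]
      smul_mem' := fun c m hm => by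
        show Y.evaluation (W i) (y i) (hyW i) (a i (c • m)) = 0
        rw [show a i (c • m) = ro le_top (φ c) * a i m from hinj i _ _ (by rw [mul_smul, ha, ha, hrs]), map_mul, hm,
          mul_zero] }
  have hmem : ∀ i (s : Coh.structureModule Y ⟶ A), y i ∈ CohB1.genLocus A s ↔ secOf s ∉ P i := fun i s => by
    rw [mem_genLocus_iff s (he i) (ha i (secOf s)) (hyW i), ← Scheme.mem_basicOpen Y _ _ (hyW i),
      ← Scheme.evaluation_ne_zero_iff_mem_basicOpen]
    rfl
  obtain ⟨m, hm⟩ := Submodule.exists_forall_notMem_of_forall_ne_top P fun i h => by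
    obtain ⟨-, s, hs⟩ := exists_genLocus_mem hA (y i)
    exact (hmem i s).1 hs (h ▸ Submodule.mem_top)
  refine ⟨Groth.L16.homOfSection A m, fun i => (hmem i _).2 ?_⟩
  rw [secOf_homOfSection]
  exact hm i

end Groth.Agent.S19593
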