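import Groth.Statements.S19596
import Groth.Agent.L14.NodeFix

set_option autoImplicit false
universe u
open ArLef ArLef.NodeAlg

namespace Groth.Agent.S19596

/-- In the cases where σ fixes the two branches through the point, these lie on different components,
and the second branch lies in the divisorial part of the fixed locus with multiplicity i₂ strictly
between 0 and j while the first has multiplicity i₁ ≤ i₂, let B be a discrete valuation ring with
uniformizer π, N = B[[t, e]]/(te - π) the complete local ring of a semi-stable arithmetic surface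
over B at a singular point x of the closed fibre, and σ a ring automorphism of N with σ(π) = π + γ
π^j (γ a unit of B, j ≥ 1) and σ(c) - c ∈ π^j N for all c ∈ B. Suppose σ(t) = α t and σ(e) = β e
with units α, β, and α - 1 = t^{i₁} e^{i₂} a, β - 1 = t^{i₁} e^{i₂} b with i₁ ≤ i₂, 0 < i₂ < j, e
not dividing a and t not dividing b. Then, I being the fixed-point ideal of σ, whose divisorial part
near x is t^{i₁} e^{i₂}, the residual fixed-point scheme with ideal (I : t^{i₁} e^{i₂}) has length 1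
+ (j - i₁)·Leng N/(t, b) + (j - i₂)·Leng N/(e, a) at x; here Leng N/(t, b) + i₂ + 1 and Leng N/(e,
a) + i₁ + 1 are the orders at x of the derivations σ induces on the two components (the fixed-point
multiplicities when the component is outside the divisorial part). -/
theorem result (B : Type u) [CommRing B] [IsDomain B] [IsDiscreteValuationRing B] (π : B) (hπ : Irreducible π)
    (j i₁ i₂ : ℕ) (h12 : i₁ ≤ i₂) (h2 : 0 < i₂) (h2j : i₂ < j) (γ : B) (hγ : IsUnit γ)
    (σ : ArLef.NodeAlg B π ≃+* ArLef.NodeAlg B π)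
    (hσB : ∀ c : B, σ (algebraMap B (ArLef.NodeAlg B π) c) - algebraMap B (ArLef.NodeAlg B π) c ∈
      Ideal.span ({algebraMap B (ArLef.NodeAlg B π) (π ^ j)} : Set (ArLef.NodeAlg B π)))
    (hσπ : σ (algebraMap B (ArLef.NodeAlg B π) π) = algebraMap B (ArLef.NodeAlg B π) (π + γ * π ^ j))
    (α β : (ArLef.NodeAlg B π)ˣ) (ht : σ (ArLef.NodeAlg.t π) = (α : ArLef.NodeAlg B π) * ArLef.NodeAlg.t π) (he : σ (ArLef.NodeAlg.e π) = (β : ArLef.NodeAlg B π) * ArLef.NodeAlg.e π)
    (a b : ArLef.NodeAlg B π) (ha : (α : ArLef.NodeAlg B π) - 1 = ArLef.NodeAlg.t π ^ i₁ * ArLef.NodeAlg.e π ^ i₂ * a) (hb : (β : ArLef.NodeAlg B π) - 1 = ArLef.NodeAlg.t π ^ i₁ * ArLef.NodeAlg.e π ^ i₂ * b)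
    (hea : ¬ (ArLef.NodeAlg.e π ∣ a)) (htb : ¬ (ArLef.NodeAlg.t π ∣ b)) :
    Module.length (ArLef.NodeAlg B π) (ArLef.NodeAlg B π ⧸ (ArLef.fixIdeal σ).colon ({ArLef.NodeAlg.t π ^ i₁ * ArLef.NodeAlg.e π ^ i₂} : Set (ArLef.NodeAlg B π))) =
      1 + ((j - i₁ : ℕ) : ℕ∞) * Module.length (ArLef.NodeAlg B π) (ArLef.NodeAlg B π ⧸ Ideal.span ({ArLef.NodeAlg.t π, b} : Set (ArLef.NodeAlg B π))) +
        ((j - i₂ : ℕ) : ℕ∞) * Module.length (ArLef.NodeAlg B π) (ArLef.NodeAlg B π ⧸ Ideal.span ({ArLef.NodeAlg.e π, a} : Set (ArLef.NodeAlg B π))) := by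
  obtain ⟨hdom, pt, pe, hte, het, hmul, hmax, -⟩ := Groth.L14.Node.pack hπ
  haveI := hdom
  set t := ArLef.NodeAlg.t π
  set e := ArLef.NodeAlg.e π
  have hrel := Groth.L14.Node.unit_rel hπ j (by omega) γ σ hσπ (α : ArLef.NodeAlg B π) β (by rw [ht, he]; ring)
  obtain ⟨p, hp⟩ : ∃ p, j = i₁ + (p + 1) := ⟨j - i₁ - 1, by omega⟩
  obtain ⟨q, hq⟩ : ∃ q, j = i₂ + (q + 1) := ⟨j - i₂ - 1, by omega⟩
  set G : ArLef.NodeAlg B π := t ^ i₁ * e ^ i₂ with hG
  have hG0 : G ≠ 0 := mul_ne_zero (pow_ne_zero _ pt.1) (pow_ne_zero _ pe.1)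
  have h1 : t ^ (j - 1) * e ^ (j - 1) = G * (t ^ p * e ^ q) := by
    rw [hG, show j - 1 = i₁ + p by omega, pow_add, show i₁ + p = i₂ + q by omega, pow_add]; ring
  rw [h1] at hrel
  have hbw : b * (α : ArLef.NodeAlg B π) = algebraMap B _ γ * (t ^ p * e ^ q) - a := by
    apply mul_left_cancel₀ hG0
    linear_combination hrel - (α : ArLef.NodeAlg B π) * hb - ha
  have hI : ArLef.fixIdeal σ = Ideal.span ((fun s => G * s) ''
      ({t ^ (p + 1) * e ^ (q + 1), a * t, b * e} : Set (ArLef.NodeAlg B π))) := by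
    rw [Groth.L14.Node.fix_three hπ j γ hγ σ hσB hσπ, Set.image_insert_eq, Set.image_insert_eq, Set.image_singleton,
      show σ t - t = G * (a * t) by rw [ht]; linear_combination t * ha,
      show σ e - e = G * (b * e) by rw [he]; linear_combination e * hb,
      show t ^ j * e ^ j = G * (t ^ (p + 1) * e ^ (q + 1)) by
        conv_lhs => arg 1; rw [hp]
        conv_lhs => arg 2; rw [hq]
        rw [hG, pow_add, pow_add]; ring]
  rw [hI, Groth.L14.Node.colon_eq G hG0, Groth.L14.Node.core t e pt pe hte a b (algebraMap B _ γ) α α.isUnit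
    (p + 1) (q + 1) (by omega) (by omega) (by rw [Nat.add_sub_cancel, Nat.add_sub_cancel]; exact hbw) htb hea hmax,
    show j - i₁ = p + 1 by omega, show j - i₂ = q + 1 by omega]
  ring

end Groth.Agent.S19596
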