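import Groth.Statements.S19597
import Groth.Agent.L14.NodeFix

set_option autoImplicit false
universe u
open ArLef ArLef.NodeAlg

namespace Groth.Agent.S19597

/-- In the cases where σ fixes the two branches through the point, these lie on different components,
the second lies in the divisorial part of the fixed locus with the maximal multiplicity j and the
first with multiplicity i₁ < j, let B be a discrete valuation ring with uniformizer π, N = B[[t,
e]]/(te - π) the complete local ring of a semi-stable arithmetic surface over B at a singular point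
x of the closed fibre, and σ a ring automorphism of N with σ(π) = π + γ π^j (γ a unit of B, j ≥ 1)
and σ(c) - c ∈ π^j N for all c ∈ B. Suppose σ(t) = α t and σ(e) = β e with units α, β, that α - 1 =
t^{i₁} e^j a and β - 1 = t^{i₁} e^{j-1} b with i₁ < j and t not dividing b. Then, I being the
fixed-point ideal of σ, whose divisorial part near x is t^{i₁} e^j, the length l of the residual
fixed-point scheme with ideal (I : t^{i₁} e^j) satisfies l + (j - 1 - i₁) = (j - i₁)·Leng N/(t, b);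
for i₁ = 0, Leng N/(t, b) + j is the fixed-point multiplicity s₁ of σ at x on the first component
and l = j (s₁ - j - 1) + 1. -/
theorem result (B : Type u) [CommRing B] [IsDomain B] [IsDiscreteValuationRing B] (π : B) (hπ : Irreducible π)
    (j i₁ : ℕ) (h1 : i₁ < j) (γ : B) (hγ : IsUnit γ)
    (σ : ArLef.NodeAlg B π ≃+* ArLef.NodeAlg B π)
    (hσB : ∀ c : B, σ (algebraMap B (ArLef.NodeAlg B π) c) - algebraMap B (ArLef.NodeAlg B π) c ∈
      Ideal.span ({algebraMap B (ArLef.NodeAlg B π) (π ^ j)} : Set (ArLef.NodeAlg B π)))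
    (hσπ : σ (algebraMap B (ArLef.NodeAlg B π) π) = algebraMap B (ArLef.NodeAlg B π) (π + γ * π ^ j))
    (α β : (ArLef.NodeAlg B π)ˣ) (ht : σ (ArLef.NodeAlg.t π) = (α : ArLef.NodeAlg B π) * ArLef.NodeAlg.t π) (he : σ (ArLef.NodeAlg.e π) = (β : ArLef.NodeAlg B π) * ArLef.NodeAlg.e π)
    (a b : ArLef.NodeAlg B π) (ha : (α : ArLef.NodeAlg B π) - 1 = ArLef.NodeAlg.t π ^ i₁ * ArLef.NodeAlg.e π ^ j * a) (hb : (β : ArLef.NodeAlg B π) - 1 = ArLef.NodeAlg.t π ^ i₁ * ArLef.NodeAlg.e π ^ (j - 1) * b)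
    (htb : ¬ (ArLef.NodeAlg.t π ∣ b)) :
    Module.length (ArLef.NodeAlg B π) (ArLef.NodeAlg B π ⧸ (ArLef.fixIdeal σ).colon ({ArLef.NodeAlg.t π ^ i₁ * ArLef.NodeAlg.e π ^ j} : Set (ArLef.NodeAlg B π))) + ((j - 1 - i₁ : ℕ) : ℕ∞) =
      ((j - i₁ : ℕ) : ℕ∞) * Module.length (ArLef.NodeAlg B π) (ArLef.NodeAlg B π ⧸ Ideal.span ({ArLef.NodeAlg.t π, b} : Set (ArLef.NodeAlg B π))) := by
  obtain ⟨hdom, pt, pe, hte, het, hmul, hmax, -⟩ := Groth.L14.Node.pack hπ
  haveI := hdom
  set t := ArLef.NodeAlg.t π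
  set e := ArLef.NodeAlg.e π
  have hrel := Groth.L14.Node.unit_rel hπ j (by omega) γ σ hσπ (α : ArLef.NodeAlg B π) β (by rw [ht, he]; ring)
  obtain ⟨p, rfl⟩ : ∃ p, j = i₁ + (p + 1) := ⟨j - i₁ - 1, by omega⟩
  rw [show i₁ + (p + 1) - 1 = i₁ + p by omega] at hb hrel
  set G : ArLef.NodeAlg B π := t ^ i₁ * e ^ (i₁ + (p + 1)) with hG
  have hG0 : G ≠ 0 := mul_ne_zero (pow_ne_zero _ pt.1) (pow_ne_zero _ pe.1)
  have hbw : b * (α : ArLef.NodeAlg B π) = algebraMap B _ γ * t ^ p - e * a := by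
    apply mul_left_cancel₀ (mul_ne_zero (pow_ne_zero i₁ pt.1) (pow_ne_zero (i₁ + p) pe.1))
    have h : t ^ (i₁ + p) = t ^ i₁ * t ^ p := pow_add _ _ _
    linear_combination hrel - (α : ArLef.NodeAlg B π) * hb - ha +
      algebraMap B (ArLef.NodeAlg B π) γ * e ^ (i₁ + p) * h
  have hI : ArLef.fixIdeal σ = Ideal.span ((fun s => G * s) ''
      ({t ^ (p + 1), a * t, b} : Set (ArLef.NodeAlg B π))) := by
    rw [Groth.L14.Node.fix_three hπ _ γ hγ σ hσB hσπ, Set.image_insert_eq, Set.image_insert_eq, Set.image_singleton,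
      show σ t - t = G * (a * t) by rw [ht]; linear_combination t * ha,
      show σ e - e = G * b by rw [he, hG]; linear_combination e * hb,
      show t ^ (i₁ + (p + 1)) * e ^ (i₁ + (p + 1)) = G * t ^ (p + 1) by rw [hG, pow_add]; ring]
  rw [hI, Groth.L14.Node.colon_eq G hG0, show i₁ + (p + 1) - 1 - i₁ = p + 1 - 1 by omega,
    show i₁ + (p + 1) - i₁ = p + 1 by omega]
  exact Groth.L14.Node.core2 t e pt hte a b (algebraMap B _ γ) α α.isUnit (p + 1) (by omega)
    (by rw [Nat.add_sub_cancel]; exact hbw) htb hmax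

end Groth.Agent.S19597
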