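import Groth.Statements.S1960

set_option autoImplicit false
universe u
open EtAlg

namespace Groth.Agent.S1960

/-- For a ring map φ : R -> S and ideals I of R and J of S such that V(I) does not meet the closure in
Spec R of the image of V(J), some f in R is congruent to 1 modulo I and has φ(f) in J. -/
theorem result {R S : Type u} [CommRing R] [CommRing S] (φ : R →+* S) (I : Ideal R)
    (J : Ideal S)
    (h : Disjoint (closure (PrimeSpectrum.comap φ '' PrimeSpectrum.zeroLocus (J : Set S))) (PrimeSpectrum.zeroLocus (I : Set R))) :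
    ∃ f : R, f - 1 ∈ I ∧ φ f ∈ J := by
  have hne : I ⊔ J.comap φ = ⊤ := by
    by_contra hne
    obtain ⟨m, hm, hle⟩ := Ideal.exists_le_maximal _ hne
    let q : PrimeSpectrum R := ⟨m, hm.isPrime⟩
    refine Set.disjoint_left.1 h ?_ (show q ∈ PrimeSpectrum.zeroLocus (I : Set R) from
      fun a ha => hle (Ideal.mem_sup_left ha))
    rw [PrimeSpectrum.closure_image_comap_zeroLocus]
    exact fun a ha => hle (Ideal.mem_sup_right ha)
  obtain ⟨a, ha, b, hb, hab⟩ := Submodule.mem_sup.1 (hne ▸ Submodule.mem_top : (1 : R) ∈ I ⊔ J.comap φ)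
  exact ⟨b, by rw [show b - 1 = -a by rw [← hab]; ring]; exact I.neg_mem ha, hb⟩

end Groth.Agent.S1960
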