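import Groth.Statements.S19600
import Groth.Agent.L25.AffRed.NeutralAffine

set_option autoImplicit false
open CategoryTheory MonoidalCategory CartesianMonoidalCategory MonObj GrpObj AlgebraicGeometry
universe u
open Red

namespace Groth.Agent.S19600

/-- Let G be a smooth affine group scheme over a scheme S, with possibly disconnected fibres. Then the
locus of points s of S at which the identity component of the geometric fibre of G is reductive (the
geometric fibre has an open subgroup scheme which is affine, smooth, connected and reductive) is
open in S. -/
theorem result {S : Scheme.{u}} (G : Over S) [GrpObj G]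
    (hG : Smooth G.hom) (hGa : IsAffineHom G.hom) :
    IsOpen {s : S | ∃ (U : Over (Spec (CommRingCat.of (AlgebraicClosure (S.residueField s))))) (_ : GrpObj U)
        (j : U ⟶ Red.geomFibre s G) (_ : IsMonHom j), IsOpenImmersion j.left ∧
          Red.IsReductiveOver (AlgebraicClosure (S.residueField s)) U} := by
  haveI := hG
  haveI := hGa
  obtain ⟨G0, g0, i, hi, -, hio, hs0, hqc, hconn⟩ := Groth.L08.Borel.exists_neutral G
  haveI := hi; haveI := hio; haveI := hs0; haveI := hqc
  refine isOpen_iff_forall_mem_open.2 fun s hs => ?_
  have haff : ∀ t : S, IsAffine (Limits.pullback G0.hom (S.fromSpecResidueField t)) := fun t =>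
    Groth.L25.AffRed.affine_fibres_open_subgroup i t
      (isAffine_of_isAffineHom (Limits.pullback.snd G.hom (S.fromSpecResidueField t)))
  obtain ⟨U, hsU, hU⟩ := Groth.L25.AffRed.exists_reductive_nhd hconn haff s
    ((Groth.L25.AffRed.reductive_neutral_iff i hconn s).1 hs)
  exact ⟨U, fun t ht => (Groth.L25.AffRed.reductive_neutral_iff i hconn t).2
    (Groth.L25.AffRed.isReductive_geomFibre_of_bc hU ht), U.2, hsU⟩

end Groth.Agent.S19600
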