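import Groth.Statements.S19601
import Groth.Agent.L25.AffRed.NeutralFibre

set_option autoImplicit false
open CategoryTheory MonoidalCategory CartesianMonoidalCategory MonObj GrpObj AlgebraicGeometry
universe u
open Red

namespace Groth.Agent.S19601

/-- Let G be a smooth affine group scheme over a scheme S, with possibly disconnected fibres. Then the
locus of points s of S at which the identity component of the geometric fibre of G is semisimple
(the geometric fibre has an open subgroup scheme which is affine, smooth, connected and semisimple)
is open in S. -/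
theorem result {S : Scheme.{u}} (G : Over S) [GrpObj G]
    (hG : Smooth G.hom) (hGa : IsAffineHom G.hom) :
    IsOpen {s : S | ∃ (U : Over (Spec (CommRingCat.of (AlgebraicClosure (S.residueField s))))) (_ : GrpObj U)
        (j : U ⟶ Red.geomFibre s G) (_ : IsMonHom j), IsOpenImmersion j.left ∧
          Red.IsSemisimpleOver (AlgebraicClosure (S.residueField s)) U} := by
  haveI := hG
  haveI := hGa
  obtain ⟨G0, g0, i, hi, -, hio, hs0, hqc, hconn⟩ := Groth.L08.Borel.exists_neutral G
  haveI := hi; haveI := hio; haveI := hs0; haveI := hqc
  refine isOpen_iff_forall_mem_open.2 fun s hs => ?_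
  obtain ⟨U, hsU, hU⟩ := Groth.L25.AffRed.exists_semisimple_nhd hconn s
    ((Groth.L25.AffRed.semisimple_neutral_iff i hconn s).1 hs)
  exact ⟨U, fun t ht => (Groth.L25.AffRed.semisimple_neutral_iff i hconn t).2
    (Groth.L25.AffRed.isSemisimple_geomFibre_of_bc hU ht), U.2, hsU⟩

end Groth.Agent.S19601
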