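import Groth.Statements.S19606
import Groth.Agent.L03.BlowPt.QuotSeq
import Mathlib.RingTheory.Localization.Ideal

set_option autoImplicit false
universe u
open CategoryTheory CategoryTheory.Limits AlgebraicGeometry
open ClSub

set_option backward.isDefEq.respectTransparency.types false
open Groth.L21.RR (st one)
open Groth.L03.BlowPt.QuotSeq (st_comp st_zero st_toSubscheme_eq_zero_iff)
namespace Groth.Agent.S19606

/-- Let X be a scheme and I₁, I₂ quasi-coherent ideal sheaves with I₁ ⊓ I₂ = 0, cutting out closed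
subschemes X₁, X₂ and X₁ ∩ X₂ (ideal I₁ + I₂). Then 0 → O_X → O_X/I₁ ⊕ O_X/I₂ → O_X/(I₁ + I₂) → 0 is
an exact sequence of O_X-modules, the maps being the two restrictions and the difference of the
restrictions q₁, q₂ (the module maps compatible with the quotient maps from O_X). The published
statement is for a locally free sheaf E on a reduced scheme with two irreducible components X₁, X₂
(whose ideals meet in zero); this row is the case E = O_X for any two ideals with zero intersection,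
which is what the local argument uses. -/
theorem result (X : Scheme.{u}) (I₁ I₂ : X.IdealSheafData)
    (h : I₁ ⊓ I₂ = ⊥)
    (q₁ : ClSub.quotMod I₁ ⟶ ClSub.quotMod (I₁ ⊔ I₂)) (q₂ : ClSub.quotMod I₂ ⟶ ClSub.quotMod (I₁ ⊔ I₂))
    (hq₁ : ClSub.toSubscheme I₁ ≫ q₁ = ClSub.toSubscheme (I₁ ⊔ I₂))
    (hq₂ : ClSub.toSubscheme I₂ ≫ q₂ = ClSub.toSubscheme (I₁ ⊔ I₂)) :
    Epi (biprod.desc q₁ (-q₂)) ∧
      ∃ w : biprod.lift (ClSub.toSubscheme I₁) (ClSub.toSubscheme I₂) ≫ biprod.desc q₁ (-q₂) = 0,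
        Nonempty (IsLimit (KernelFork.ofι (biprod.lift (ClSub.toSubscheme I₁) (ClSub.toSubscheme I₂)) w)) := by
  haveI : Epi (ClSub.toSubscheme I₁ ≫ q₁) := by rw [hq₁]; exact Groth.L21.RR.epi_toSubscheme _
  haveI : Epi q₁ := epi_of_epi (ClSub.toSubscheme I₁) q₁
  have hepi : Epi (biprod.desc q₁ (-q₂)) := by
    haveI : Epi (biprod.inl ≫ biprod.desc q₁ (-q₂)) := by rw [biprod.inl_desc]; infer_instance
    exact epi_of_epi biprod.inl _
  have w : biprod.lift (ClSub.toSubscheme I₁) (ClSub.toSubscheme I₂) ≫ biprod.desc q₁ (-q₂) = 0 := by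
    rw [biprod.lift_desc, Preadditive.comp_neg, hq₁, hq₂, add_neg_cancel]
  refine ⟨hepi, w, ?_⟩
  let T : ShortComplex X.Modules := ShortComplex.mk _ _ w
  have hgerm : ∀ x : X, ∀ V : X.Opens, ∀ hxV : x ∈ V, ∀ hV : IsAffineOpen V,
      ((I₁.ideal ⟨V, hV⟩).map (X.presheaf.germ V x hxV).hom ⊓
        (I₂.ideal ⟨V, hV⟩).map (X.presheaf.germ V x hxV).hom = ⊥) := by
    intro x V hxV hV
    letI := X.presheaf.algebra_section_stalk ⟨x, hxV⟩
    haveI := hV.isLocalization_stalk ⟨x, hxV⟩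
    have e := IsLocalization.map_inf (hV.primeIdealOf ⟨x, hxV⟩).asIdeal.primeCompl (X.presheaf.stalk x)
      (I₁.ideal ⟨V, hV⟩) (I₂.ideal ⟨V, hV⟩)
    refine e.symm.trans ?_
    have h0 : I₁.ideal ⟨V, hV⟩ ⊓ I₂.ideal ⟨V, hV⟩ = ⊥ := by
      have h' := congrArg (fun J : X.IdealSheafData => J.ideal ⟨V, hV⟩) h
      simpa using h'
    rw [h0, Ideal.map_bot]
  have hlift : ∀ (x : X) (c : (Coh.structureModule X).presheaf.stalk x),
      st (biprod.fst : ClSub.quotMod I₁ ⊞ ClSub.quotMod I₂ ⟶ _) x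
          (st (biprod.lift (ClSub.toSubscheme I₁) (ClSub.toSubscheme I₂)) x c) = st (ClSub.toSubscheme I₁) x c ∧
        st (biprod.snd : ClSub.quotMod I₁ ⊞ ClSub.quotMod I₂ ⟶ _) x
          (st (biprod.lift (ClSub.toSubscheme I₁) (ClSub.toSubscheme I₂)) x c) = st (ClSub.toSubscheme I₂) x c := by
    intro x c
    rw [← st_comp, ← st_comp, biprod.lift_fst, biprod.lift_snd]
    exact ⟨rfl, rfl⟩
  have hext : ∀ (x : X) (v v' : (ClSub.quotMod I₁ ⊞ ClSub.quotMod I₂).presheaf.stalk x),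
      st (biprod.fst : ClSub.quotMod I₁ ⊞ ClSub.quotMod I₂ ⟶ _) x v = st biprod.fst x v' →
      st (biprod.snd : ClSub.quotMod I₁ ⊞ ClSub.quotMod I₂ ⟶ _) x v = st biprod.snd x v' → v = v' := by
    intro x v v' h1 h2
    have e : ∀ v : (ClSub.quotMod I₁ ⊞ ClSub.quotMod I₂).presheaf.stalk x,
        st biprod.inl x (st biprod.fst x v) + st biprod.inr x (st biprod.snd x v) = v := fun v => by
      rw [← st_comp, ← st_comp]
      have ht := (Groth.L00.Stk.F X x).map_add
        (f := (biprod.fst ≫ biprod.inl : ClSub.quotMod I₁ ⊞ ClSub.quotMod I₂ ⟶ _)) (g := biprod.snd ≫ biprod.inr)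
      rw [biprod.total, CategoryTheory.Functor.map_id] at ht
      exact (congr($ht v)).symm
    rw [← e v, ← e v', h1, h2]
  haveI : Mono T.f := (Groth.L21.Mod.mono_iff_stalk_injective _).2 fun x => by
    intro c c' hc
    obtain ⟨V, hV, hxV, -⟩ := exists_isAffineOpen_mem_and_subset (x := x) (U := ⊤) trivial
    obtain ⟨a, rfl⟩ := (Groth.L21.RR.bijective_smul_one x).2 c
    obtain ⟨b, rfl⟩ := (Groth.L21.RR.bijective_smul_one x).2 c'
    change st T.f x (a • one X x) = st T.f x (b • one X x) at hc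
    have h0 : st T.f x ((a - b) • one X x) = 0 := by
      rw [sub_smul, map_sub, hc, sub_self]
    have h1 := (hlift x ((a - b) • one X x)).1
    have h2 := (hlift x ((a - b) • one X x)).2
    rw [show st (biprod.lift (ClSub.toSubscheme I₁) (ClSub.toSubscheme I₂)) x ((a - b) • one X x) = 0 from h0, map_zero] at h1 h2
    have m1 := (st_toSubscheme_eq_zero_iff I₁ hV hxV _).1 h1.symm
    have m2 := (st_toSubscheme_eq_zero_iff I₂ hV hxV _).1 h2.symm
    have : a - b ∈ (⊥ : Ideal (X.presheaf.stalk x)) := hgerm x V hxV hV ▸ ⟨m1, m2⟩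
    rw [sub_eq_zero.1 (Ideal.mem_bot.1 this)]
  have hT : T.Exact := by
    refine (Groth.L21.Mod.exact_iff_stalk T).2 fun x => ?_
    rw [ShortComplex.ab_exact_iff_ker_le_range]
    intro v hv
    change st (biprod.desc q₁ (-q₂)) x v = 0 at hv
    obtain ⟨V, hV, hxV, -⟩ := exists_isAffineOpen_mem_and_subset (x := x) (U := ⊤) trivial
    have surj : ∀ (I : X.IdealSheafData) (u : (ClSub.quotMod I).presheaf.stalk x),
        ∃ a, st (ClSub.toSubscheme I) x (a • one X x) = u := fun I u => by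
      obtain ⟨c, hc⟩ := (Groth.L21.Mod.epi_iff_stalk_surjective _).1 (Groth.L21.RR.epi_toSubscheme I) x u
      obtain ⟨a, rfl⟩ := (Groth.L21.RR.bijective_smul_one x).2 c
      exact ⟨a, hc⟩
    obtain ⟨a, ha⟩ := surj I₁ (st biprod.fst x v)
    obtain ⟨b, hb⟩ := surj I₂ (st biprod.snd x v)
    have h12 : st (ClSub.toSubscheme (I₁ ⊔ I₂)) x (a • one X x) =
        st (ClSub.toSubscheme (I₁ ⊔ I₂)) x (b • one X x) := by
      conv_lhs => rw [← hq₁]
      conv_rhs => rw [← hq₂]
      rw [st_comp, st_comp, ha, hb, ← st_comp, ← st_comp]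
      have e : biprod.desc q₁ (-q₂) + biprod.snd ≫ q₂ = biprod.fst ≫ q₁ := by
        rw [biprod.desc_eq, Preadditive.comp_neg, neg_add_cancel_right]
      rw [← e]
      have ha' := (Groth.L00.Stk.F X x).map_add (f := biprod.desc q₁ (-q₂)) (g := biprod.snd ≫ q₂)
      refine (congr($ha' v)).trans ?_
      exact (congrArg (· + _) hv).trans (zero_add _)
    have hm : a - b ∈ ((I₁ ⊔ I₂).ideal ⟨V, hV⟩).map (X.presheaf.germ V x hxV).hom := by
      rw [← st_toSubscheme_eq_zero_iff (I₁ ⊔ I₂) hV hxV, sub_smul, map_sub, h12, sub_self]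
    rw [show (I₁ ⊔ I₂).ideal ⟨V, hV⟩ = I₁.ideal ⟨V, hV⟩ ⊔ I₂.ideal ⟨V, hV⟩ from by
      rw [Scheme.IdealSheafData.ideal_sup]; rfl, Ideal.map_sup] at hm
    obtain ⟨i, hi, j, hj, hij⟩ := Submodule.mem_sup.1 hm
    refine ⟨(a - i) • one X x, hext x _ _ ?_ ?_⟩
    · refine (hlift x _).1.trans ?_
      rw [sub_smul, map_sub, (st_toSubscheme_eq_zero_iff I₁ hV hxV i).2 hi, sub_zero, ha]
    · refine (hlift x _).2.trans ?_
      rw [show a - i = b + j by rw [← sub_eq_zero]; linear_combination -hij, add_smul, map_add,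
        (st_toSubscheme_eq_zero_iff I₂ hV hxV j).2 hj, add_zero, hb]
  exact ⟨hT.fIsKernel⟩

end Groth.Agent.S19606
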