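import Mathlib.RingTheory.AdicCompletion.Basic
import Mathlib.Tactic.LinearCombination
import Mathlib.RingTheory.Ideal.Span
import Mathlib.Algebra.Regular.SMul
import Mathlib.Data.Nat.Prime.Basic
import Mathlib.RingTheory.AdicCompletion.Basic
import Mathlib.Tactic.LinearCombination

set_option autoImplicit false
namespace CartMod
end CartMod
universe u
open CartMod

namespace Groth.Agent.S19609

/-- Let p be a prime and u : A → B a ring homomorphism between commutative rings which are complete and
separated for the p-adic topology and have no p-torsion (flat over the p-adic base). If u induces a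
bijection A/pA → B/pB (injectivity: u a ∈ pB forces a ∈ pA; surjectivity: every b ∈ B is congruent
to some u a modulo pB), then u is bijective. (The published statement is for a morphism of flat
p-adic formal schemes over the Witt vectors of a perfect field: if its special fibre is an
isomorphism, so is the morphism; this row is its affine, ring-level case.) -/
theorem result (p : ℕ) [Fact p.Prime]
    {A B : Type u} [CommRing A] [CommRing B]
    [IsAdicComplete (Ideal.span {(p : A)}) A] [IsAdicComplete (Ideal.span {(p : B)}) B]
    (hA : IsSMulRegular A (p : A)) (hB : IsSMulRegular B (p : B)) (u : A →+* B)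
    (hinj : ∀ a : A, u a ∈ Ideal.span {(p : B)} → a ∈ Ideal.span {(p : A)})
    (hsurj : ∀ b : B, ∃ a : A, b - u a ∈ Ideal.span {(p : B)}) :
    Function.Bijective u := by
  have hpow : ∀ n, Ideal.span {(p : A)} ^ n = Ideal.span {(p : A) ^ n} := fun n => Ideal.span_singleton_pow _ n
  have hpowB : ∀ n, Ideal.span {(p : B)} ^ n = Ideal.span {(p : B) ^ n} := fun n => Ideal.span_singleton_pow _ n
  constructor
  · rw [injective_iff_map_eq_zero]
    intro a ha
    have key : ∀ (n : ℕ) (a : A), u a = 0 → a ∈ Ideal.span {(p : A)} ^ n := by
      intro n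
      induction n with
      | zero => intro a _; simp
      | succ n ih =>
        intro a ha
        obtain ⟨a', rfl⟩ := Ideal.mem_span_singleton'.1 (hinj a (by rw [ha]; exact zero_mem _))
        rw [map_mul, map_natCast] at ha
        have h1 : u a' = 0 := hB (by show (p : B) * u a' = (p : B) * 0; rw [mul_zero, mul_comm]; exact ha)
        rw [pow_succ]
        exact Ideal.mul_mem_mul (ih a' h1) (Ideal.mem_span_singleton_self _)
    exact IsHausdorff.haus' (I := Ideal.span {(p : A)}) a fun n => SModEq.zero.2 (by simpa using key n a ha)
  · intro b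
    have step : ∀ (n : ℕ) (s : A), b - u s ∈ Ideal.span {(p : B)} ^ n →
        ∃ s', s' - s ∈ Ideal.span {(p : A)} ^ n ∧ b - u s' ∈ Ideal.span {(p : B)} ^ (n + 1) := by
      intro n s hs
      rw [hpowB, Ideal.mem_span_singleton'] at hs
      obtain ⟨r, hr⟩ := hs
      obtain ⟨a, ha⟩ := hsurj r
      obtain ⟨q, hq⟩ := Ideal.mem_span_singleton'.1 ha
      refine ⟨s + a * (p : A) ^ n, by rw [hpow, Ideal.mem_span_singleton']; exact ⟨a, by ring⟩, ?_⟩
      rw [hpowB, Ideal.mem_span_singleton']
      refine ⟨q, ?_⟩
      rw [map_add, map_mul, map_pow, map_natCast]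
      linear_combination hr + (p : B) ^ n * hq
    choose! next hn1 hn2 using step
    let seq : ℕ → A := fun n => Nat.rec 0 (fun n s => next n s) n
    have hseq : ∀ n, b - u (seq n) ∈ Ideal.span {(p : B)} ^ n := fun n => by
      induction n with
      | zero => simp
      | succ n ih => exact hn2 n _ ih
    have hle : ∀ {m n}, m ≤ n → seq n - seq m ∈ Ideal.span {(p : A)} ^ m := by
      intro m n hmn
      induction hmn with
      | refl => simp
      | @step n hmn ih =>
        rw [show seq (n + 1) - seq m = (seq (n + 1) - seq n) + (seq n - seq m) by ring]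
        exact add_mem (Ideal.pow_le_pow_right hmn (hn1 n _ (hseq n))) ih
    obtain ⟨L, hL⟩ := IsPrecomplete.prec' (I := Ideal.span {(p : A)}) seq
      (fun {m n} hmn => (SModEq.sub_mem.2 (by simpa using hle hmn)).symm)
    refine ⟨L, (sub_eq_zero.1 (IsHausdorff.haus' (I := Ideal.span {(p : B)}) (b - u L) fun n => SModEq.zero.2 ?_)).symm⟩
    have h1 : seq n - L ∈ Ideal.span {(p : A)} ^ n := by simpa using SModEq.sub_mem.1 (hL n)
    have h2 : u (seq n - L) ∈ Ideal.span {(p : B)} ^ n := by
      have := Ideal.mem_map_of_mem u h1
      rwa [Ideal.map_pow, Ideal.map_span, Set.image_singleton, map_natCast] at this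
    have h3 : b - u L = (b - u (seq n)) + u (seq n - L) := by rw [map_sub]; ring
    rw [h3]
    simpa using add_mem (hseq n) h2

end Groth.Agent.S19609
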