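import Groth.Statements.S19610
import Groth.Agent.L01.SqZeroFlat
import Mathlib.RingTheory.Flat.Stability
import Mathlib.LinearAlgebra.TensorProduct.Quotient
set_option linter.style.haveILetI false
-- import your own Groth.Agent.* helpers here

set_option autoImplicit false
universe u
open scoped TensorProduct
open CartMod

namespace Groth.Agent.S19610

/-- Let p be a prime and B a commutative algebra over the commutative ring A, both complete and
separated for the p-adic topology and both without p-torsion (flat over the p-adic base). If B/pB is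
flat over A/pA, then B/p^nB is flat over A/p^nA for every n ≥ 1 (the quotients are written as base
changes (A/p^n) ⊗_A B). (The published statement is for a morphism of flat p-adic formal schemes
over the Witt vectors of a perfect field: if its special fibre is flat, so are the induced morphisms
of schemes modulo every power of p; this row is its affine, ring-level case.) -/
theorem result (p : ℕ) [Fact p.Prime]
    {A B : Type u} [CommRing A] [CommRing B] [Algebra A B]
    [IsAdicComplete (Ideal.span {(p : A)}) A] [IsAdicComplete (Ideal.span {(p : B)}) B]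
    (hA : IsSMulRegular A (p : A)) (hB : IsSMulRegular B (p : B))
    (h : Module.Flat (A ⧸ Ideal.span {(p : A)}) ((A ⧸ Ideal.span {(p : A)}) ⊗[A] B))
    (n : ℕ) (hn : 1 ≤ n) :
    Module.Flat (A ⧸ (Ideal.span {(p : A)} ^ n)) ((A ⧸ (Ideal.span {(p : A)} ^ n)) ⊗[A] B) := by
  induction n, hn using Nat.le_induction with
  | base => rw [pow_one]; exact h
  | succ n hn ih =>
    let P : Ideal A := Ideal.span {(p : A)}
    let R := A ⧸ P ^ (n + 1)
    let π : R := Ideal.Quotient.mk (P ^ (n + 1)) ((p : A) ^ n)
    let I : Ideal R := Ideal.span {π}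
    let M := R ⊗[A] B
    have hsucc : ∀ a : A, a ∈ P ^ (n + 1) ↔ ∃ c, c * (p : A) ^ (n + 1) = a := fun a => by
      rw [show P ^ (n + 1) = Ideal.span {(p : A) ^ (n + 1)} from Ideal.span_singleton_pow _ _, Ideal.mem_span_singleton']
    have hII : I * I = ⊥ := by
      rw [Ideal.span_singleton_mul_span_singleton, Ideal.span_singleton_eq_bot, ← map_mul,
        Ideal.Quotient.eq_zero_iff_mem, hsucc]
      exact ⟨(p : A) ^ (n - 1), by rw [← pow_add, ← pow_add]; congr 1; omega⟩
    let φ : A ⧸ P ^ n →ₐ[A] R ⧸ I := Ideal.Quotient.liftₐ (P ^ n) (Algebra.ofId A (R ⧸ I)) (fun a ha => by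
      rw [show P ^ n = Ideal.span {(p : A) ^ n} from Ideal.span_singleton_pow _ _, Ideal.mem_span_singleton'] at ha
      obtain ⟨c, rfl⟩ := ha
      show algebraMap A (R ⧸ I) (c * (p : A) ^ n) = 0
      rw [IsScalarTower.algebraMap_apply A R (R ⧸ I), Ideal.Quotient.algebraMap_eq, Ideal.Quotient.algebraMap_eq,
        Ideal.Quotient.eq_zero_iff_mem, map_mul]
      exact Ideal.mul_mem_left _ _ (Ideal.mem_span_singleton_self _))
    letI : Algebra (A ⧸ P ^ n) (R ⧸ I) := φ.toRingHom.toAlgebra
    haveI : IsScalarTower A (A ⧸ P ^ n) (R ⧸ I) := IsScalarTower.of_algebraMap_eq fun a => (φ.commutes a).symm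
    haveI : Module.Flat (A ⧸ P ^ n) ((A ⧸ P ^ n) ⊗[A] B) := ih
    haveI : Module.Flat (R ⧸ I) ((R ⧸ I) ⊗[A ⧸ P ^ n] ((A ⧸ P ^ n) ⊗[A] B)) := inferInstance
    haveI : Module.Flat (R ⧸ I) ((R ⧸ I) ⊗[A] B) := Module.Flat.of_linearEquiv
      (TensorProduct.AlgebraTensorModule.cancelBaseChange A (A ⧸ P ^ n) (R ⧸ I) (R ⧸ I) B).symm
    haveI : Module.Flat (R ⧸ I) ((R ⧸ I) ⊗[R] M) := Module.Flat.of_linearEquiv
      (TensorProduct.AlgebraTensorModule.cancelBaseChange A R (R ⧸ I) (R ⧸ I) B)
    refine Groth.L01.SqZeroFlat.flat (B := M) I hII ?_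
    let i₀ : I := ⟨π, Ideal.mem_span_singleton_self _⟩
    have hform : ∀ z : I ⊗[R] M, ∃ b : B, z = i₀ ⊗ₜ ((1 : R) ⊗ₜ[A] b) := by
      intro z
      induction z using TensorProduct.induction_on with
      | zero => exact ⟨0, by simp⟩
      | tmul i m =>
        obtain ⟨c, hc⟩ := Ideal.mem_span_singleton'.1 i.2
        obtain ⟨b, hb⟩ := TensorProduct.mk_surjective A B R Ideal.Quotient.mk_surjective (c • m)
        refine ⟨b, ?_⟩
        rw [show i = c • i₀ from Subtype.ext hc.symm, TensorProduct.smul_tmul, ← hb]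
        rfl
      | add x y hx hy =>
        obtain ⟨bx, rfl⟩ := hx
        obtain ⟨bz, rfl⟩ := hy
        exact ⟨bx + bz, by rw [TensorProduct.tmul_add, TensorProduct.tmul_add]⟩
    rw [injective_iff_map_eq_zero]
    intro z hz
    obtain ⟨b, rfl⟩ := hform z
    have h0 : π • ((1 : R) ⊗ₜ[A] b) = 0 := by
      have h1 := congrArg (TensorProduct.lid R M) hz
      rwa [LinearMap.rTensor_tmul, TensorProduct.lid_tmul, map_zero] at h1
    have h2 : (1 : R) ⊗ₜ[A] ((p : A) ^ n • b) = 0 := by
      refine Eq.trans ?_ h0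
      rw [TensorProduct.smul_tmul', smul_eq_mul, mul_one, TensorProduct.tmul_smul, TensorProduct.smul_tmul',
        Algebra.smul_def, mul_one]
      rfl
    have h3 := congrArg (TensorProduct.quotTensorEquivQuotSMul B (P ^ (n + 1))) h2
    rw [map_zero] at h3
    have h4 : (p : A) ^ n • b ∈ P ^ (n + 1) • (⊤ : Submodule A B) := by
      rw [← Submodule.Quotient.mk_eq_zero, ← h3]
      exact ((TensorProduct.quotTensorEquivQuotSMul_mk_tmul (P ^ (n + 1)) 1 _).trans (by rw [one_smul])).symm
    rw [show P ^ (n + 1) = Ideal.span {(p : A) ^ (n + 1)} from Ideal.span_singleton_pow _ _,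
      Submodule.ideal_span_singleton_smul, Submodule.mem_smul_pointwise_iff_exists] at h4
    obtain ⟨b', -, hb'⟩ := h4
    have h5 : b = (p : A) • b' := by
      have hBn : IsSMulRegular B ((p : B) ^ n) := hB.pow n
      refine hBn ?_
      have := hb'
      rw [pow_succ, mul_smul] at this
      simp only [Algebra.smul_def, map_pow, map_natCast] at this ⊢
      exact this.symm
    rw [h5, TensorProduct.tmul_smul, ← algebraMap_smul R (p : A) ((1 : R) ⊗ₜ[A] b'), ← TensorProduct.smul_tmul]
    have h6 : algebraMap A R (p : A) • i₀ = 0 := Subtype.ext (by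
      show algebraMap A R (p : A) * π = 0
      rw [Ideal.Quotient.algebraMap_eq, ← map_mul, Ideal.Quotient.eq_zero_iff_mem, hsucc]
      exact ⟨1, by ring⟩)
    rw [h6, TensorProduct.zero_tmul]

end Groth.Agent.S19610
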