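import Groth.Statements.S19612
import Mathlib.RingTheory.WittVector.DiscreteValuationRing
import Mathlib.RingTheory.WittVector.Domain
import Mathlib.RingTheory.Flat.EquationalCriterion
import Mathlib.RingTheory.Flat.TorsionFree
import Mathlib.RingTheory.Flat.Stability
import Mathlib.LinearAlgebra.TensorProduct.Quotient
import Mathlib.RingTheory.AdicCompletion.Basic
-- import your own Groth.Agent.* helpers here

set_option autoImplicit false
universe u
open scoped TensorProduct
open CartMod

namespace Groth.Agent.S19612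

/-- Let k be a perfect field of characteristic p, W = W(k) the ring of Witt vectors of k, and A a
commutative W-algebra which is complete and separated for the p-adic topology (an adic W-algebra).
Then flatness of A over W is equivalent to flatness of A/p^nA = (W/p^nW) ⊗_W A over W/p^nW for every
n ≥ 1. -/
theorem result (p : ℕ) [Fact p.Prime] (k : Type u) [Field k]
    [CharP k p] [PerfectRing k p] (A : Type u) [CommRing A] [Algebra (WittVector p k) A]
    [IsAdicComplete (Ideal.span {(p : WittVector p k)}) A] :
    Module.Flat (WittVector p k) A ↔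
      ∀ n : ℕ, 1 ≤ n →
        Module.Flat (WittVector p k ⧸ (Ideal.span {(p : WittVector p k)} ^ n))
          ((WittVector p k ⧸ (Ideal.span {(p : WittVector p k)} ^ n)) ⊗[WittVector p k] A) := by
  classical
  refine ⟨fun h n _ => inferInstance, fun h => ?_⟩
  set W := WittVector p k with hW
  have hp0 : (p : W) ≠ 0 := (WittVector.irreducible p (k := k)).ne_zero
  -- p-torsion elements lie in every p^(m) A
  have key : ∀ (m : ℕ) (x : A), (p : W) • x = 0 →
      x ∈ (Ideal.span {(p : W)} ^ m) • (⊤ : Submodule W A) := by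
    intro m x hx
    set I : Ideal W := Ideal.span {(p : W)} ^ (m + 1) with hI
    have := h (m + 1) (Nat.le_add_left 1 m)
    let x' : (W ⧸ I) ⊗[W] A := 1 ⊗ₜ x
    have hsum : ∑ i : Fin 1, (fun _ => Ideal.Quotient.mk I (p : W)) i • (fun _ => x') i = 0 := by
      rw [Fin.sum_univ_one]
      show algebraMap W (W ⧸ I) (p : W) • x' = 0
      rw [algebraMap_smul]
      show (p : W) • ((1 : W ⧸ I) ⊗ₜ[W] x) = 0
      rw [← TensorProduct.tmul_smul, hx, TensorProduct.tmul_zero]
    obtain ⟨l, a, y, hxy, hfa⟩ := Module.Flat.isTrivialRelation_of_sum_smul_eq_zero hsum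
    have hb : ∀ j, ∃ b : W ⧸ I, a 0 j = algebraMap W (W ⧸ I) ((p : W) ^ m) * b := by
      intro j
      obtain ⟨c, hc⟩ := Ideal.Quotient.mk_surjective (a 0 j)
      have h0 := hfa j
      rw [Fin.sum_univ_one, ← hc, ← map_mul, Ideal.Quotient.eq_zero_iff_mem, hI,
        Ideal.span_singleton_pow, Ideal.mem_span_singleton, pow_succ', mul_dvd_mul_iff_left hp0] at h0
      obtain ⟨d, hd⟩ := h0
      exact ⟨Ideal.Quotient.mk I d, by rw [← hc, hd, map_mul]; rfl⟩
    choose b hb using hb
    have hx' : x' = ((p : W) ^ m) • ∑ j, b j • y j := by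
      refine (hxy 0).trans ?_
      rw [Finset.smul_sum]
      refine Finset.sum_congr rfl fun j _ => ?_
      rw [hb j, mul_smul, algebraMap_smul]
    let e := TensorProduct.quotTensorEquivQuotSMul A I
    have he : e x' = Submodule.Quotient.mk x := by
      show e (Ideal.Quotient.mk I 1 ⊗ₜ x) = _
      simp [e]
    obtain ⟨w, hw⟩ := Submodule.Quotient.mk_surjective (I • (⊤ : Submodule W A)) (e (∑ j, b j • y j))
    rw [hx', map_smul, ← hw, ← Submodule.Quotient.mk_smul, Submodule.Quotient.eq] at he
    have hle : I • (⊤ : Submodule W A) ≤ (Ideal.span {(p : W)} ^ m) • ⊤ :=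
      Submodule.smul_mono_left (Ideal.pow_le_pow_right (Nat.le_succ m))
    have hwm : (p : W) ^ m • w ∈ (Ideal.span {(p : W)} ^ m) • (⊤ : Submodule W A) :=
      Submodule.smul_mem_smul (Ideal.pow_mem_pow (Ideal.mem_span_singleton_self _) m) trivial
    simpa using Submodule.sub_mem _ hwm (hle he)
  have htor : ∀ x : A, (p : W) • x = 0 → x = 0 := fun x hx =>
    IsHausdorff.haus' (I := Ideal.span {(p : W)}) x fun m => SModEq.zero.2 (key m x hx)
  rw [Module.Flat.flat_iff_torsion_eq_bot_of_isBezout, eq_bot_iff]
  rintro x ⟨⟨a, ha⟩, hax⟩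
  have ha0 : a ≠ 0 := nonZeroDivisors.ne_zero ha
  obtain ⟨j, hj⟩ := IsDiscreteValuationRing.associated_pow_irreducible ha0 (WittVector.irreducible p (k := k))
  obtain ⟨u, hu⟩ := hj
  have hz : (p : W) ^ j • x = 0 := by
    rw [← hu, mul_comm, mul_smul]
    rw [Submonoid.smul_def] at hax
    simp only at hax
    rw [hax, smul_zero]
  have : ∀ (i : ℕ) (z : A), (p : W) ^ i • z = 0 → z = 0 := by
    intro i
    induction i with
    | zero => intro z hz; simpa using hz
    | succ i ih => intro z hz; exact ih z (htor _ (by rwa [smul_smul, ← pow_succ']))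
  simpa using this j x hz

end Groth.Agent.S19612
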