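import Groth.Statements.S19616
import Mathlib.RingTheory.AdicCompletion.LocalRing
import Mathlib.RingTheory.AdicCompletion.RingHom
import Mathlib.RingTheory.AdicCompletion.Completeness
import Mathlib.RingTheory.Localization.Away.Basic
import Mathlib.RingTheory.Adjoin.Basic
import Mathlib.Tactic.LinearCombination

set_option autoImplicit false
universe u
open CartMod

namespace Groth.Agent.S19616

/-- The universal property of completion. -/
theorem completion_lift {R : Type u} [CommRing R] (J : Ideal R) {B : Type u} [CommRing B] (I : Ideal B)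
    [IsAdicComplete I B] (φ : R →+* B) (h : J ≤ I.comap φ) :
    ∃ F : AdicCompletion J R →+* B, F.comp (algebraMap R _) = φ := by
  have hm : ∀ m, ∀ y ∈ J ^ m, ((Ideal.Quotient.mk (I ^ m)).comp φ) y = 0 := fun m y hy =>
    Ideal.Quotient.eq_zero_iff_mem.2 ((Ideal.pow_right_mono h m).trans (Ideal.le_comap_pow φ m) hy)
  let fm : ∀ m, AdicCompletion J R →+* B ⧸ I ^ m := fun m =>
    (Ideal.Quotient.lift (J ^ m) _ (hm m)).comp (AdicCompletion.evalₐ J m).toRingHom
  have hmk : ∀ m (y : AdicCompletion.AdicCauchySequence J R),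
      fm m (AdicCompletion.mk J R y) = Ideal.Quotient.mk (I ^ m) (φ (y.val m)) := fun m y => by
    change Ideal.Quotient.lift (J ^ m) _ (hm m) (AdicCompletion.evalₐ J m (AdicCompletion.mk J R y)) = _
    rw [AdicCompletion.evalₐ_mk, Ideal.Quotient.lift_mk]
    rfl
  have hf : ∀ {m m' : ℕ} (h : m ≤ m'), (Ideal.Quotient.factorPow I h).comp (fm m') = fm m := by
    intro m m' hle
    refine RingHom.ext fun y => ?_
    obtain ⟨y, rfl⟩ := AdicCompletion.mk_surjective J R y
    rw [RingHom.comp_apply, hmk, hmk, Ideal.Quotient.factorPow, Ideal.Quotient.factor_mk, Ideal.Quotient.eq, ← map_sub]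
    have h1 := SModEq.sub_mem.1 (y.property hle)
    rw [smul_eq_mul, Ideal.mul_top] at h1
    have h2 := (Ideal.pow_right_mono h m).trans (Ideal.le_comap_pow φ m) ((J ^ m).neg_mem h1)
    rwa [neg_sub, Ideal.mem_comap] at h2
  refine ⟨IsAdicComplete.liftRingHom I fm hf, RingHom.ext fun d => sub_eq_zero.1 ?_⟩
  refine IsHausdorff.haus' (I := I) _ fun m => ?_
  rw [SModEq.zero, smul_eq_mul, Ideal.mul_top, ← Ideal.Quotient.eq_zero_iff_mem, map_sub, RingHom.comp_apply,
    IsAdicComplete.mk_liftRingHom, sub_eq_zero]
  change Ideal.Quotient.lift (J ^ m) _ (hm m) (AdicCompletion.evalₐ J m (algebraMap R _ d)) = _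
  rw [AdicCompletion.algebraMap_apply, AdicCompletion.evalₐ_of, Algebra.algebraMap_self, RingHom.id_apply,
    Ideal.Quotient.lift_mk]
  rfl

/-- Completion of a ring at a regular element. -/
theorem completion_props (R : Type u) [CommRing R] (x : R) (hx : IsSMulRegular R x) :
    IsAdicComplete (Ideal.span {algebraMap R (AdicCompletion (Ideal.span {x}) R) x}) (AdicCompletion (Ideal.span {x}) R) ∧
    IsSMulRegular (AdicCompletion (Ideal.span {x}) R) (algebraMap R (AdicCompletion (Ideal.span {x}) R) x) ∧
    (∀ (y : AdicCompletion (Ideal.span {x}) R) (m : ℕ), ∃ (d : R) (z : AdicCompletion (Ideal.span {x}) R),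
      y = algebraMap R _ d + algebraMap R _ x ^ m * z) ∧
    ∀ (B : Type u) [CommRing B] (φ : R →+* B) [IsAdicComplete (Ideal.span {φ x}) B],
      ∃ F : AdicCompletion (Ideal.span {x}) R →+* B, F.comp (algebraMap R _) = φ := by
  set J := Ideal.span {x} with hJdef
  have hfg : J.FG := ⟨{x}, by simp [hJdef]⟩
  have hJmap : J.map (algebraMap R (AdicCompletion J R)) = Ideal.span {algebraMap R (AdicCompletion J R) x} := by
    rw [hJdef, Ideal.map_span, Set.image_singleton]
  have hcomp : IsAdicComplete (Ideal.span {algebraMap R (AdicCompletion J R) x}) (AdicCompletion J R) := hJmap ▸ AdicCompletion.isAdicComplete_self J hfg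
  have hofsub : ∀ (y : AdicCompletion J R) (m : ℕ), ∃ (d : R) (z : AdicCompletion J R),
      y = algebraMap R _ d + algebraMap R _ x ^ m * z := by
    intro y m
    obtain ⟨d, hd⟩ := Ideal.Quotient.mk_surjective (AdicCompletion.evalₐ J m y)
    have h1 : y - algebraMap R _ d ∈ LinearMap.ker (AdicCompletion.eval J R m) := by
      rw [LinearMap.mem_ker, ← AdicCompletion.factor_evalₐ_eq_eval J _ (by simp)]
      rw [map_sub, AdicCompletion.algebraMap_apply, AdicCompletion.evalₐ_of, Algebra.algebraMap_self,
        RingHom.id_apply, hd, sub_self, map_zero]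
    rw [← AdicCompletion.pow_smul_top_eq_ker_eval hfg] at h1
    have h2 : y - algebraMap R _ d ∈ Submodule.restrictScalars R ((J ^ m).map (algebraMap R (AdicCompletion J R))) := by
      rw [← Ideal.smul_top_eq_map]
      exact h1
    rw [Submodule.restrictScalars_mem, Ideal.map_pow, hJmap, Ideal.span_singleton_pow, Ideal.mem_span_singleton] at h2
    obtain ⟨z, hz⟩ := h2
    exact ⟨d, z, by rw [← hz]; ring⟩
  have hmem : ∀ (m : ℕ) (e : R), algebraMap R (AdicCompletion J R) e ∈ Ideal.span {algebraMap R (AdicCompletion J R) x ^ m} → e ∈ J ^ m := by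
    intro m e he
    have hx0 : Ideal.Quotient.mk (J ^ m) (x ^ m) = 0 :=
      Ideal.Quotient.eq_zero_iff_mem.2 (Ideal.pow_mem_pow (Ideal.mem_span_singleton_self x) m)
    obtain ⟨z, hz⟩ := Ideal.mem_span_singleton.1 he
    have h := congrArg (AdicCompletion.evalₐ J m) hz
    rw [map_mul, map_pow, AdicCompletion.algebraMap_apply, AdicCompletion.algebraMap_apply,
      AdicCompletion.evalₐ_of, AdicCompletion.evalₐ_of, Algebra.algebraMap_self, RingHom.id_apply, RingHom.id_apply,
      ← map_pow, hx0, zero_mul, Ideal.Quotient.eq_zero_iff_mem] at h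
    exact h
  refine ⟨hcomp, ?_, hofsub, fun B _ φ _ => ?_⟩
  · refine IsSMulRegular.of_right_eq_zero_of_smul fun y hy => ?_
    rw [smul_eq_mul] at hy
    refine hcomp.toIsHausdorff.haus' y fun m => ?_
    rw [SModEq.zero, smul_eq_mul, Ideal.mul_top, Ideal.span_singleton_pow, Ideal.mem_span_singleton]
    obtain ⟨d, z, rfl⟩ := hofsub y (m + 1)
    have h1 : algebraMap R (AdicCompletion J R) (x * d) ∈ Ideal.span {algebraMap R (AdicCompletion J R) x ^ (m + 1)} := by
      refine Ideal.mem_span_singleton.2 ⟨-algebraMap R _ x * z, ?_⟩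
      rw [map_mul]
      linear_combination hy
    have h2 := hmem _ _ h1
    rw [hJdef, Ideal.span_singleton_pow, Ideal.mem_span_singleton] at h2
    obtain ⟨e, he⟩ := h2
    have h3 : d = x ^ m * e := hx (show x * d = x * (x ^ m * e) by rw [he]; ring)
    exact ⟨algebraMap R _ e + algebraMap R _ x * z, by rw [h3, map_mul, map_pow]; ring⟩
  · refine completion_lift J (Ideal.span {φ x}) φ ?_
    rw [hJdef, Ideal.span_le, Set.singleton_subset_iff, SetLike.mem_coe, Ideal.mem_comap]
    exact Ideal.mem_span_singleton_self (φ x)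

/-- Let p be a prime, A a commutative ring which is complete and separated for the p-adic topology and
has no p-torsion, and a_1, …, a_n elements of A (so that (p, a_1, …, a_n) is an open ideal
containing p). Then there is a commutative A-algebra D, complete and separated for the p-adic
topology and without p-torsion, in which each a_i is divisible by p, with the following universal
property: for every A-algebra B which is p-adically complete and separated, has no p-torsion, and in
which each a_i is divisible by p, there is exactly one A-algebra homomorphism D → B; moreover this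
homomorphism is surjective whenever A → B is. (D is the coordinate ring of the dilatation of Spf A
with respect to p along the closed subscheme defined by (p, a_1, …, a_n). The published statement is
for flat p-adic formal schemes locally of finite type over the Witt vectors of a perfect field; this
row is its affine, ring-level case without a finiteness hypothesis.) -/
theorem result (p : ℕ) [Fact p.Prime]
    (A : Type u) [CommRing A] [IsAdicComplete (Ideal.span {(p : A)}) A]
    (hA : IsSMulRegular A (p : A)) {n : ℕ} (a : Fin n → A) :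
    ∃ (D : Type u) (_ : CommRing D) (_ : Algebra A D),
      IsAdicComplete (Ideal.span {(p : D)}) D ∧ IsSMulRegular D (p : D) ∧
      (∀ i, algebraMap A D (a i) ∈ Ideal.span {(p : D)}) ∧
      ∀ (B : Type u) [CommRing B] [Algebra A B] [IsAdicComplete (Ideal.span {(p : B)}) B],
        IsSMulRegular B (p : B) → (∀ i, algebraMap A B (a i) ∈ Ideal.span {(p : B)}) →
          Nonempty (D →ₐ[A] B) ∧ Subsingleton (D →ₐ[A] B) ∧
            (Function.Surjective (algebraMap A B) → ∀ f : D →ₐ[A] B, Function.Surjective f) := by
  classical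
  -- a torsion-free algebra in which the `a i` are divisible
  obtain ⟨D₀, _, _, c, hD₀, hc, hgen, huniv⟩ : ∃ (D₀ : Type u) (_ : CommRing D₀) (_ : Algebra A D₀) (c : Fin n → D₀),
      IsSMulRegular D₀ (p : D₀) ∧ (∀ i, algebraMap A D₀ (a i) = (p : D₀) * c i) ∧ Algebra.adjoin A (Set.range c) = ⊤ ∧
      ∀ (B : Type u) [CommRing B] [Algebra A B], IsSMulRegular B (p : B) →
        (∀ i, algebraMap A B (a i) ∈ Ideal.span {(p : B)}) → Nonempty (D₀ →ₐ[A] B) := by
    let Ap := Localization.Away (p : A)
    have hunit : IsUnit (p : Ap) := by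
      simpa using IsLocalization.Away.algebraMap_isUnit (S := Ap) (p : A)
    obtain ⟨inv, hinv⟩ : ∃ inv : Ap, (p : Ap) * inv = 1 := hunit.exists_right_inv
    let s : Fin n → Ap := fun i => algebraMap A Ap (a i) * inv
    let D₁ := Algebra.adjoin A (Set.range s)
    have hreg₁ : IsSMulRegular D₁ (p : D₁) := by
      refine IsSMulRegular.of_right_eq_zero_of_smul fun (d : D₁) hd => Subtype.ext ?_
      have h1 : (p : Ap) * (d : Ap) = 0 := by simpa using congrArg Subtype.val hd
      exact hunit.mul_right_eq_zero.1 h1
    refine ⟨↥D₁, inferInstance, inferInstance, fun i => (⟨s i, Algebra.subset_adjoin ⟨i, rfl⟩⟩ : D₁), hreg₁, ?_, ?_, ?_⟩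
    · intro i
      apply Subtype.ext
      simp only [MulMemClass.coe_mul, Subalgebra.coe_algebraMap, s]
      linear_combination (-(algebraMap A Ap (a i))) * hinv
    · refine Subalgebra.map_injective (f := (Algebra.adjoin A (Set.range s)).val) Subtype.val_injective ?_
      rw [AlgHom.map_adjoin, Algebra.map_top, Subalgebra.range_val, ← Set.range_comp]
      rfl
    · intro B _ _ hB hdiv
      let Bp := Localization.Away (p : B)
      let ψ : Ap →ₐ[A] Bp := IsLocalization.liftAlgHom (M := Submonoid.powers (p : A)) (f := Algebra.ofId A Bp) fun y => by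
        obtain ⟨_, e, rfl⟩ := y
        simp only [map_pow, map_natCast]
        refine IsUnit.pow _ ?_
        simpa using IsLocalization.Away.algebraMap_isUnit (S := Bp) (p : B)
      have hBinj : Function.Injective (algebraMap B Bp) := by
        refine IsLocalization.injective Bp (M := Submonoid.powers (p : B)) ?_
        rintro _ ⟨e, rfl⟩
        exact mem_nonZeroDivisors_iff_right.2 fun x hx => (hB.pow e) (show (p : B) ^ e * x = (p : B) ^ e * 0 by rw [mul_zero, mul_comm, hx])
      let ι : B →ₐ[A] Bp := IsScalarTower.toAlgHom A B Bp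
      have hle : Algebra.adjoin A (Set.range s) ≤ Subalgebra.comap ψ ι.range := by
        refine Algebra.adjoin_le ?_
        rintro _ ⟨i, rfl⟩
        obtain ⟨c, hc⟩ := Ideal.mem_span_singleton.1 (hdiv i)
        refine ⟨c, ?_⟩
        change algebraMap B Bp c = ψ (s i)
        have hp : ψ inv * (p : Bp) = 1 := by
          rw [← map_natCast ψ, ← map_mul, mul_comm, hinv, map_one]
        rw [show ψ (s i) = algebraMap A Bp (a i) * ψ inv by rw [map_mul, AlgHom.commutes],
          IsScalarTower.algebraMap_apply A B Bp, hc, map_mul, map_natCast]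
        linear_combination (-(algebraMap B Bp c)) * hp
      exact ⟨(AlgEquiv.ofInjective ι hBinj).symm.toAlgHom.comp
        ((ψ.comp (Algebra.adjoin A (Set.range s)).val).codRestrict ι.range fun d => hle d.2)⟩
  obtain ⟨hcomp, hreg, hdec, hlift⟩ := completion_props D₀ (p : D₀) hD₀
  rw [map_natCast] at hcomp hreg hdec
  let D := AdicCompletion (Ideal.span {(p : D₀)}) D₀
  refine ⟨D, inferInstance, inferInstance, hcomp, hreg, fun i => Ideal.mem_span_singleton.2 ⟨algebraMap D₀ D (c i), ?_⟩,
    fun B _ _ _ hB hdiv => ⟨?_, ⟨fun f g => ?_⟩, fun hs f b => ?_⟩⟩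
  · rw [IsScalarTower.algebraMap_apply A D₀ D, hc, map_mul, map_natCast]
  · obtain ⟨φ⟩ := huniv B hB hdiv
    haveI : IsAdicComplete (Ideal.span {φ.toRingHom (p : D₀)}) B := by rw [map_natCast]; assumption
    obtain ⟨F, hF⟩ := hlift B φ.toRingHom
    have hFc : ∀ x : A, F (algebraMap A D x) = algebraMap A B x := fun x => by
      rw [IsScalarTower.algebraMap_apply A D₀ D]
      exact (RingHom.congr_fun hF _).trans (φ.commutes x)
    exact ⟨{ toRingHom := F, commutes' := hFc }⟩
  · have hfg : f.comp (IsScalarTower.toAlgHom A D₀ D) = g.comp (IsScalarTower.toAlgHom A D₀ D) := by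
      refine AlgHom.ext_of_adjoin_eq_top hgen ?_
      rintro _ ⟨i, rfl⟩
      refine hB (show (p : B) * _ = (p : B) * _ from ?_)
      have e1 := congrArg (f.comp (IsScalarTower.toAlgHom A D₀ D)) (hc i)
      have e2 := congrArg (g.comp (IsScalarTower.toAlgHom A D₀ D)) (hc i)
      rw [map_mul, map_natCast, AlgHom.commutes] at e1 e2
      exact e1.symm.trans e2
    refine AlgHom.ext fun x => sub_eq_zero.1 (IsHausdorff.haus' (I := Ideal.span {(p : B)}) _ fun m => ?_)
    obtain ⟨d, z, rfl⟩ := hdec x m
    have hd : f (algebraMap D₀ D d) = g (algebraMap D₀ D d) := DFunLike.congr_fun hfg d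
    rw [SModEq.zero, smul_eq_mul, Ideal.mul_top, Ideal.span_singleton_pow, Ideal.mem_span_singleton]
    exact ⟨f z - g z, by simp only [map_add, map_mul, map_pow, map_natCast]; linear_combination hd⟩
  · obtain ⟨x, rfl⟩ := hs b
    exact ⟨algebraMap A D x, f.commutes x⟩

end Groth.Agent.S19616
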