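import Groth.Statements.S19618
import Groth.Agent.L22.Mero
import Mathlib.RingTheory.KrullDimension.NonZeroDivisors

set_option autoImplicit false
set_option linter.style.haveILetI false
universe u
open CategoryTheory CategoryTheory.Limits AlgebraicGeometry Opposite TopologicalSpace
open BlowUp

namespace Groth.Agent.S19618

/-- Let X be a locally Noetherian scheme, Y an effective Cartier divisor on X (a quasi-coherent ideal
sheaf which, near every point, is generated on some affine open by one nonzerodivisor; Y is its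
support) and Z a closed integral subscheme (a closed immersion i from an integral scheme with
generic point ξ). If Y and Z intersect properly — every point ζ of Y ∩ Z which is maximal under
generization inside Y ∩ Z satisfies dim O_{X,ζ} = codim(Y,X) + codim(Z,X), where codim(Y,X) is the
infimum over y ∈ Y of dim O_{X,y} and codim(Z,X) = dim O_{X,i(ξ)} — then Z is not contained in Y. -/
theorem result {X Z : Scheme.{u}}
    [IsLocallyNoetherian X] (𝓘 : X.IdealSheafData) (hY : BlowUp.IsEffCartierIdeal 𝓘)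
    (i : Z ⟶ X) [IsClosedImmersion i] [IsIntegral Z]
    (hprop : ∀ ζ : ↥X, ζ ∈ (𝓘.support : Set ↥X) ∩ Set.range i.base →
        (∀ ζ' : ↥X, ζ' ∈ (𝓘.support : Set ↥X) ∩ Set.range i.base → ζ' ⤳ ζ → ζ' = ζ) →
        ringKrullDim ↑(X.presheaf.stalk ζ) =
          (⨅ y : (𝓘.support : Set ↥X), ringKrullDim ↑(X.presheaf.stalk y.1)) +
            ringKrullDim ↑(X.presheaf.stalk (i (genericPoint ↥Z)))) :
    ¬ Set.range i.base ⊆ (𝓘.support : Set ↥X) := by
  intro hsub
  set ξ := i (genericPoint ↥Z) with hξ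
  have hξY : ξ ∈ (𝓘.support : Set ↥X) := hsub ⟨_, rfl⟩
  have hmax : ∀ ζ' : ↥X, ζ' ∈ (𝓘.support : Set ↥X) ∩ Set.range i.base → ζ' ⤳ ξ → ζ' = ξ := by
    rintro _ ⟨-, z, rfl⟩ hs
    exact (hs.antisymm ((genericPoint_specializes z).map i.continuous)).eq
  have h := hprop ξ ⟨hξY, _, rfl⟩ hmax
  have hone : ∀ y : (𝓘.support : Set ↥X), (1 : WithBot ℕ∞) ≤ ringKrullDim ↑(X.presheaf.stalk y.1) := by
    rintro ⟨y, hy⟩
    obtain ⟨U, hyU, f, hf, hfU⟩ := hY y
    have hreg := Groth.L22.Mero.mem_regSub_of_mem_nonZeroDivisors U.2 hf ⟨y, hyU⟩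
    have hy' : y ∈ 𝓘.support := hy
    rw [Scheme.IdealSheafData.mem_support_iff_of_mem hyU, hfU, Scheme.zeroLocus_span,
      Scheme.zeroLocus_singleton] at hy'
    have hnu : ¬ IsUnit (X.presheaf.germ U.1 y hyU f) := fun hu => hy' ((X.mem_basicOpen f y hyU).2 hu)
    haveI : Nontrivial (X.presheaf.stalk y ⧸ Ideal.span {X.presheaf.germ U.1 y hyU f}) := by
      rw [Ideal.Quotient.nontrivial_iff, Ne, Ideal.span_singleton_eq_top]
      exact hnu
    refine le_trans ?_ (ringKrullDim_quotient_succ_le_of_nonZeroDivisor hreg)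
    have h0 : (0 : WithBot ℕ∞) ≤ ringKrullDim (X.presheaf.stalk y ⧸ Ideal.span {X.presheaf.germ U.1 y hyU f}) :=
      ringKrullDim_nonneg_of_nontrivial
    simpa using add_le_add_left h0 1
  have hinf : (1 : WithBot ℕ∞) ≤ ⨅ y : (𝓘.support : Set ↥X), ringKrullDim ↑(X.presheaf.stalk y.1) :=
    le_iInf hone
  have h2 : (1 : WithBot ℕ∞) + ringKrullDim ↑(X.presheaf.stalk ξ) ≤ ringKrullDim ↑(X.presheaf.stalk ξ) := by
    conv_rhs => rw [h]
    exact add_le_add hinf le_rfl
  have hlt : ringKrullDim ↑(X.presheaf.stalk ξ) < ⊤ := ringKrullDim_lt_top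
  obtain ⟨d, hd⟩ : ∃ d : ℕ, ringKrullDim ↑(X.presheaf.stalk ξ) = d := by
    have h0 : (0 : WithBot ℕ∞) ≤ ringKrullDim ↑(X.presheaf.stalk ξ) := ringKrullDim_nonneg_of_nontrivial
    revert hlt h0
    generalize ringKrullDim ↑(X.presheaf.stalk ξ) = e
    intro hlt h0
    induction e using WithBot.recBotCoe with
    | bot => simp at h0
    | coe e =>
      induction e using ENat.recTopCoe with
      | top => exact absurd hlt (lt_irrefl _)
      | coe n => exact ⟨n, rfl⟩
  rw [hd] at h2
  have : 1 + d ≤ d := by exact_mod_cast h2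
  omega

end Groth.Agent.S19618
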