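import Groth.Statements.S19620
import Groth.Agent.L29.DCoh.RpushRestrict
import Groth.Agent.L29.DCoh.RpushCoprod
import Groth.Agent.L29.DCoh.Gen.ZOn
import Groth.Agent.L29.DCoh.Gen.Loc

set_option autoImplicit false
set_option backward.isDefEq.respectTransparency false
universe u
open CategoryTheory CategoryTheory.Limits AlgebraicGeometry
attribute [local instance] HasDerivedCategory.standard
open DCoh

namespace Groth.Agent.S19620

/-- Let f : X → Y be a proper morphism of schemes, with Rf_* the total right derived functor of f_* on
the unbounded derived categories of modules (assumed to exist), let Z ⊆ X be a closed subset and E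
an object of D(O_X) whose cohomology sheaves are all supported in Z (every stalk at a point outside
Z is trivial). Then the cohomology sheaves of Rf_*E are supported in the closed subset f(Z) of Y.
(The published statement, made in a setting where all schemes are separated and of finite type over
a regular base, takes f proper and perfect and concludes that Rf_* carries perfect complexes acyclic
outside Z to perfect complexes acyclic outside f(Z); the perfectness of Rf_*E is a separate result,
and the support inclusion, which is what the published proof establishes, holds for every proper f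
and every E and is stated in that generality.) -/
theorem result {X Y : Scheme.{u}} (f : X ⟶ Y) [IsProper f]
    [DCoh.HasRpush f] (Z : Set ↥X) (hZ : IsClosed Z) (E : DCoh.D X)
    (hE : ∀ i : ℤ, CohB1.support (DCoh.HD E i) ⊆ Z) (i : ℤ) :
    CohB1.support (DCoh.HD ((DCoh.Rpush f).obj E) i) ⊆ f.base '' Z := by
  let V : Y.Opens := ⟨(f '' Z)ᶜ, (f.isClosedMap Z hZ).isOpen_compl⟩
  haveI := Groth.L29.DC.RpushQC.hasRpush (f ∣_ V)
  obtain ⟨e⟩ := Groth.L29.DC.RpushRes.nonempty_iso f V.ι (f ⁻¹ᵁ V).ι (f ∣_ V)
    (by simp) (morphismRestrict_ι f V)
  have hz : Groth.L29.DC.Gen.ZOn E (f ⁻¹ᵁ V : X.Opens) := Groth.L29.DC.Gen.zOn_iff_support.2 fun k x hx hxV =>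
    hxV ⟨x, hE k hx, rfl⟩
  haveI : (DCoh.Rpush (f ∣_ V)).Additive := Groth.L29.DC.RpushColim.additive_Rpush _
  have h0 : IsZero ((DCoh.restrictD V.ι).obj ((DCoh.Rpush f).obj E)) :=
    ((DCoh.Rpush (f ∣_ V)).map_isZero ((Groth.L29.DC.Gen.isZero_res_iff _ E).2 hz)).of_iso (e.app E)
  intro x hx
  by_contra h
  exact (Groth.L29.DC.Gen.zOn_iff_support.1 ((Groth.L29.DC.Gen.isZero_res_iff V _).1 h0) i) hx h

end Groth.Agent.S19620
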