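import Groth.Statements.S19624
import Groth.Agent.L11.IntTh.CokerDet
import Mathlib.RingTheory.OrderOfVanishing.Noetherian
import Mathlib.LinearAlgebra.Quotient.Pi

set_option autoImplicit false
universe u v
open IntTh

namespace Groth.Agent.S19624

/-- Let B be a discrete valuation ring with its normalised additive valuation v (so v(0) = ∞) and ω a
ring automorphism of B. For each i in a finite index set let M_i and N_i be free B-modules with
chosen bases indexed by one and the same finite type, and χ_i : M_i → N_i an additive map which is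
ω-semilinear, χ_i(b·x) = ω(b)·χ_i(x); write A_i for the matrix of χ_i in the chosen bases. Then the
length over B of the cokernel of the direct sum χ = ⊕_i χ_i : ⊕_i M_i → ⊕_i N_i (the quotient of ⊕_i
N_i by the submodule generated by the image of χ) equals v(∏_i det A_i); in particular both sides
are infinite exactly when some det A_i is zero. -/
theorem result {B : Type u} [CommRing B] [IsDomain B]
    [IsDiscreteValuationRing B] (ω : B ≃+* B) {n : ℕ} (r : Fin n → ℕ)
    (M N : Fin n → Type v) [∀ i, AddCommGroup (M i)] [∀ i, Module B (M i)]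
    [∀ i, AddCommGroup (N i)] [∀ i, Module B (N i)]
    (bM : ∀ i, Module.Basis (Fin (r i)) B (M i)) (bN : ∀ i, Module.Basis (Fin (r i)) B (N i))
    (χ : ∀ i, M i →+ N i) (hχ : ∀ i (b : B) (x : M i), χ i (b • x) = ω b • χ i x) :
    Module.length B ((∀ i, N i) ⧸ Submodule.span B (Set.range (fun (x : ∀ i, M i) (i : Fin n) => χ i (x i)))) =
      IsDiscreteValuationRing.addVal B (∏ i, Matrix.det
        (Matrix.of fun (a c : Fin (r i)) => (bN i).repr (χ i (bM i c)) a)) := by
  classical
  set Am : ∀ i, Matrix (Fin (r i)) (Fin (r i)) B :=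
    fun i => Matrix.of fun (a c : Fin (r i)) => (bN i).repr (χ i (bM i c)) a with hAm
  let R : ∀ i, Submodule B (N i) := fun i =>
    (LinearMap.range (Matrix.toLin' (Am i))).comap (bN i).equivFun.toLinearMap
  have hR : ∀ i (y : N i), y ∈ R i ↔ ∃ x : M i, χ i x = y := fun i y => by
    have hval : ∀ v : Fin (r i) → B, χ i (∑ c, ω.symm (v c) • bM i c) =
        (bN i).equivFun.symm (Matrix.toLin' (Am i) v) := fun v => by
      refine (bN i).equivFun.injective (funext fun a => ?_)
      rw [LinearEquiv.apply_symm_apply]
      simp [map_sum, hχ, Matrix.toLin'_apply, Matrix.mulVec, dotProduct, hAm, mul_comm]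
    constructor
    · rintro ⟨v, hv⟩
      exact ⟨∑ c, ω.symm (v c) • bM i c, by rw [hval, hv]; exact (bN i).equivFun.symm_apply_apply y⟩
    · rintro ⟨x, rfl⟩
      refine ⟨fun c => ω ((bM i).repr x c), ?_⟩
      have h := hval fun c => ω ((bM i).repr x c)
      simp only [RingEquiv.symm_apply_apply, (bM i).sum_repr] at h
      rw [h]
      exact ((bN i).equivFun.apply_symm_apply _).symm
  have hspan : Submodule.span B (Set.range (fun (x : ∀ i, M i) (i : Fin n) => χ i (x i))) = Submodule.pi Set.univ R := by
    refine le_antisymm (Submodule.span_le.2 ?_) fun y hy => ?_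
    · rintro _ ⟨x, rfl⟩ i _
      exact (hR i _).2 ⟨x i, rfl⟩
    · choose x hx using fun i => (hR i (y i)).1 (hy i trivial)
      exact Submodule.subset_span ⟨x, funext hx⟩
  rw [(Submodule.quotEquivOfEq _ _ hspan).length_eq, (Submodule.quotientPi R).length_eq, Module.length_pi_of_fintype]
  have hi : ∀ i, Module.length B (N i ⧸ R i) = IsDiscreteValuationRing.addVal B (Am i).det := fun i => by
    let e : (N i ⧸ R i) ≃ₗ[B] ((Fin (r i) → B) ⧸ LinearMap.range (Matrix.toLin' (Am i))) :=
      Submodule.Quotient.equiv _ _ (bN i).equivFun (by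
        rw [Submodule.map_comap_eq_of_surjective]
        exact (bN i).equivFun.surjective)
    rw [e.length_eq, ← Ring.ord_eq_addVal]
    change Groth.L11.CokerDet.colen (Am i) = _
    by_cases h0 : (Am i).det = 0
    · have h1 : Groth.L11.CokerDet.colen (Am i) = ⊤ := by
        by_contra h
        exact Ring.ne_bot_of_isMaximal_of_not_isField (M := (⊥ : Ideal B)) (Groth.L11.CokerDet.isMaximal_of_colen_ne_top (Am i) h (⊥ : Ideal B) (h0 ▸ zero_mem _))
          (IsDiscreteValuationRing.not_isField B) rfl
      rw [h1, h0, Ring.ord_eq_addVal, IsDiscreteValuationRing.addVal_zero]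
    · exact Groth.L11.CokerDet.colen_eq_ord_det' (Am i) (mem_nonZeroDivisors_of_ne_zero h0)
  rw [Finset.sum_congr rfl fun i _ => hi i]
  have hprod : ∀ s : Finset (Fin n), IsDiscreteValuationRing.addVal B (∏ i ∈ s, (Am i).det) =
      ∑ i ∈ s, IsDiscreteValuationRing.addVal B (Am i).det := fun s => by
    induction s using Finset.induction_on with
    | empty => simp
    | @insert i s hi ih => rw [Finset.prod_insert hi, Finset.sum_insert hi, IsDiscreteValuationRing.addVal_mul, ih]
  exact (hprod _).symm

end Groth.Agent.S19624
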