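import Groth.Statements.S19625
import Groth.Agent.L03.SurfNum.CurveDegree
import Groth.Agent.L22.EnrSev.Basic
import Groth.Agent.L22.PDual.LocFreeLow
import Groth.Agent.L29.DCoh.PullTensor
import Groth.Agent.L18.AmplePull
-- import your own Groth.Agent.* helpers here

set_option autoImplicit false
universe u
open CategoryTheory CategoryTheory.Limits AlgebraicGeometry
open Surf

namespace Groth.Agent.S19625

open Groth.L22.Inter Groth.L22.Nef Groth.L22.Big Groth.L03.Euler
open Groth.L00.Tensor (tensorUnitLeft tensorUnitRight)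

/-- Let k be a field and S an integral surface (dimension two) which is smooth over k and projective (a
closed immersion into some P^n_k over k). Let i : C → S be the closed immersion of an integral curve
(dimension one) all of whose local rings are regular, with ideal sheaf I ⊆ O_S, and let N =
Hom(i^*I, O_C) be the normal sheaf of C in S, the dual of the conormal sheaf i^*I (the sheaf Hom,
assumed to exist as the right adjoint of tensoring with i^*I). Then the self-intersection number
C·C, namely the intersection number of O_S(C) with itself computed as the alternating sum χ(O_S) −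
2χ(I) + χ(I ⊗ I) with the inverse I = O_S(−C) of O_S(C) (packaged as FGA.intNum), equals the degree
of N on C, the degree of a module M on C being χ(M) − χ(O_C). -/
theorem result (k : Type u) [Field k] (S : Scheme.{u}) [S.Over (Spec (CommRingCat.of k))]
    [IsIntegral S] (hdim : topologicalKrullDim S = 2) [Smooth (S ↘ (Spec (CommRingCat.of k)))]
    (hproj : ∃ (n : ℕ) (ι : S ⟶ CohB1.ProjSpace n k), IsClosedImmersion ι ∧ ι ≫ CohB1.ProjSpace.toSpec n k = (S ↘ (Spec (CommRingCat.of k))))
    (C : Scheme.{u}) (i : C ⟶ S) [IsClosedImmersion i] [IsIntegral C] (hC : topologicalKrullDim C = 1)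
    (hCreg : ∀ c : C, IsRegularLocalRing (C.presheaf.stalk c))
    [DCoh.HasSheafHom (Omega.conormal i)] :
    letI : C.Over (Spec (CommRingCat.of k)) := ⟨i ≫ (S ↘ (Spec (CommRingCat.of k)))⟩
    FGA.intNum k S 2 ![ClSub.idealMod i.ker, ClSub.idealMod i.ker] (Coh.structureModule S) =
      Curv2.deg k C ((DCoh.sheafHom (Omega.conormal i)).obj (Coh.structureModule C)) 1 := by
  obtain ⟨N, ι, hι, hιk⟩ := hproj
  haveI : IsProper (S ↘ (Spec (CommRingCat.of k))) := by
    rw [← hιk]
    haveI := Groth.L16.ProjSpace.isProper_toSpec N k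
    infer_instance
  have hd2 : topologicalKrullDim S = (2 : ℕ) := hdim.trans Nat.cast_ofNat.symm
  have hC1 : topologicalKrullDim C = (1 : ℕ) := hC.trans Nat.cast_one.symm
  have hreg : ∀ x : S, IsRegularLocalRing (S.presheaf.stalk x) :=
    fun x => Groth.L08.Cube.isRegularLocalRing_of_smooth (S ↘ Spec (CommRingCat.of k)) x
  obtain ⟨hI, -⟩ := Groth.L03.SurfNum.CurveDegree.invertible_ker k i hd2 hreg hC1
  obtain ⟨J, hJ, ⟨e⟩⟩ := Groth.L08.Cube.exists_inverse hI
  have h := Groth.L03.SurfNum.CurveDegree.deg_pullback k i hd2 hreg hC1 hJ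
  rw [ii_comm, Groth.L03.SurfNum.Gram.ii_inverse k hd2.le hI hJ hI e, neg_neg, ← intNum_eq_ii k hd2.le] at h
  let eC : CohB1.tensorMod (Omega.conormal i) ((Scheme.Modules.pullback i).obj J) ≅ Coh.structureModule C :=
    Groth.L29.DC.PullTensor.pullTensor i _ J ≪≫ (Scheme.Modules.pullback i).mapIso e ≪≫
      Groth.L29.LocFree.pullbackUnitIso i
  haveI := Groth.L17.Duality.hasSheafHom (Omega.conormal i)
  obtain ⟨c⟩ := Groth.L22.PDual.nonempty_homMod_invertible eC
  let j : (DCoh.sheafHom (Omega.conormal i)).obj (Coh.structureModule C) ≅ (Scheme.Modules.pullback i).obj J :=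
    (Groth.L22.PDual.homIso _).app _ ≪≫ c.app _ ≪≫ tensorUnitLeft _
  letI : C.Over (Spec (CommRingCat.of k)) := ⟨i ≫ (S ↘ (Spec (CommRingCat.of k)))⟩
  rw [show Curv2.deg k C ((DCoh.sheafHom (Omega.conormal i)).obj (Coh.structureModule C)) 1 =
    Curv2.deg k C ((Scheme.Modules.pullback i).obj J) 1 by rw [Curv2.deg, Curv2.deg, euler_iso j]]
  exact_mod_cast h.symm

end Groth.Agent.S19625
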