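import Groth.Statements.S19628
import Groth.Agent.S15295
import Mathlib.RingTheory.Flat.Basic

set_option autoImplicit false
universe u
open DeRham

namespace Groth.Agent.S19628

open exteriorPower in
example : True := trivial

section S19628Helpers
open TensorProduct

variable {k K : Type u} [Field k] [Field K] [Algebra k K] {X Y : Type u} [AddCommGroup X] [Module k X]
  [AddCommGroup Y] [Module k Y] [Module K Y] [IsScalarTower k K Y]

theorem span_image_eq_range (f : X →ₗ[k] Y) (W : Submodule k X) :
    Submodule.span K (f '' (W : Set X)) =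
      LinearMap.range (f.liftBaseChange K ∘ₗ W.subtype.baseChange K) := by
  have h : f.liftBaseChange K ∘ₗ W.subtype.baseChange K = (f ∘ₗ W.subtype).liftBaseChange K :=
    TensorProduct.AlgebraTensorModule.curry_injective (LinearMap.ext fun c => LinearMap.ext fun w => by simp)
  rw [h, LinearMap.range_liftBaseChange, LinearMap.range_comp, Submodule.range_subtype]
  rfl

theorem ker_baseChange_eq_range {X' : Type u} [AddCommGroup X'] [Module k X'] (g : X →ₗ[k] X') :
    LinearMap.range ((LinearMap.ker g).subtype.baseChange K) = LinearMap.ker (g.baseChange K) := by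
  ext z
  exact (Module.Flat.lTensor_exact K (LinearMap.exact_subtype_ker_map g) z).symm

end S19628Helpers


/-- In the affine case, at ring level, let k ⊆ K be an extension of fields of characteristic zero, A a
smooth k-algebra and A' = K ⊗_k A (a pushout square of commutative rings with the scalar-tower
conventions). Let d be the de Rham differential of A over k, d' that of A' over K, and ψ the map of
de Rham complexes induced by A → A', assumed compatible with d and d'. Then for every p the K-span
of ψ(closed p-forms of A/k) is the module of closed p-forms of A'/K, and the K-span of ψ(exact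
p-forms of A/k) is the module of exact p-forms of A'/K. Together with the degreewise base-change
bijection for exterior powers of differentials, this says that the natural map H^p_dR(A/k) ⊗_k K →
H^p_dR(A'/K) is an isomorphism. (The source states the isomorphism H^i_dR(X) ⊗_k K ≅ H^i_dR(X_K) for
a smooth variety X, induced by a quasi-isomorphism of complexes; this row is the case of an affine
X, phrased through closed and exact forms.) -/
theorem result
    (k K : Type u) [Field k] [Field K] [CharZero k] [Algebra k K]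
    (A A' : Type u) [CommRing A] [CommRing A'] [Algebra k A] [Algebra.Smooth k A]
    [Algebra A A'] [Algebra k A'] [IsScalarTower k A A'] [Algebra K A'] [IsScalarTower k K A']
    [Algebra.IsPushout k K A A']
    (d : ∀ p : ℕ, ↥(⋀[A]^p (Ω[A⁄k])) →ₗ[k] ↥(⋀[A]^(p + 1) (Ω[A⁄k])))
    (hd : DeRham.IsDiff (KaehlerDifferential.D k A) d)
    (d' : ∀ p : ℕ, ↥(⋀[A']^p (Ω[A'⁄K])) →ₗ[K] ↥(⋀[A']^(p + 1) (Ω[A'⁄K])))
    (hd' : DeRham.IsDiff (KaehlerDifferential.D K A') d')
    (ψ : ∀ p : ℕ, ↥(⋀[A]^p (Ω[A⁄k])) →+ ↥(⋀[A']^p (Ω[A'⁄K])))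
    (hψ : DeRham.IsCxMap (KaehlerDifferential.D k A) (KaehlerDifferential.D K A') (algebraMap A A') ψ)
    (hcomm : ∀ (p : ℕ) (x : ↥(⋀[A]^p (Ω[A⁄k]))), ψ (p + 1) (d p x) = d' p (ψ p x))
    (p : ℕ) :
    Submodule.span K (ψ p '' (DeRham.cocycles d p : Set ↥(⋀[A]^p (Ω[A⁄k])))) = DeRham.cocycles d' p ∧
      Submodule.span K (ψ p '' (DeRham.coboundaries d p : Set ↥(⋀[A]^p (Ω[A⁄k])))) =
        DeRham.coboundaries d' p := by
  classical
  have hδ := KaehlerDifferential.span_range_derivation k A
  let ψk : ∀ q : ℕ, ↥(⋀[A]^q (Ω[A⁄k])) →ₗ[k] ↥(⋀[A']^q (Ω[A'⁄K])) := fun q =>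
    { toFun := ψ q
      map_add' := map_add _
      map_smul' := fun c x => by
        rw [← algebraMap_smul A c x, Groth.L14.DeRham.cxMap_smul hδ hψ, ← IsScalarTower.algebraMap_apply,
          algebraMap_smul, RingHom.id_apply] }
  let Φ : ∀ q : ℕ, TensorProduct k K ↥(⋀[A]^q (Ω[A⁄k])) →ₗ[K] ↥(⋀[A']^q (Ω[A'⁄K])) := fun q =>
    (ψk q).liftBaseChange K
  have hΦ : ∀ q, Function.Bijective (Φ q) := fun q =>
    Groth.Agent.S15295.result k K A A' ψ hψ q (Φ q).toAddMonoidHom fun s x => by simp [Φ, ψk]
  have hc : ∀ q, Φ (q + 1) ∘ₗ (d q).baseChange K = d' q ∘ₗ Φ q := fun q =>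
    TensorProduct.AlgebraTensorModule.curry_injective (LinearMap.ext fun c => LinearMap.ext fun x => by
      simp [Φ, ψk, hcomm])
  constructor
  · show Submodule.span K (ψk p '' (LinearMap.ker (d p) : Set ↥(⋀[A]^p (Ω[A⁄k])))) = LinearMap.ker (d' p)
    rw [span_image_eq_range, LinearMap.range_comp, ker_baseChange_eq_range]
    show (LinearMap.ker ((d p).baseChange K)).map (Φ p) = _
    rw [← LinearMap.ker_comp_of_ker_eq_bot ((d p).baseChange K) (LinearMap.ker_eq_bot.2 (hΦ (p + 1)).1), hc, LinearMap.ker_comp,
      Submodule.map_comap_eq_of_surjective (hΦ p).2]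
  · cases p with
    | zero =>
      show Submodule.span K (ψ 0 '' ((⊥ : Submodule k ↥(⋀[A]^0 (Ω[A⁄k]))) : Set _)) = ⊥
      simp
    | succ q =>
      show Submodule.span K (ψk (q + 1) '' (LinearMap.range (d q) : Set ↥(⋀[A]^(q + 1) (Ω[A⁄k])))) =
        LinearMap.range (d' q)
      rw [LinearMap.coe_range, ← Set.range_comp, ← LinearMap.coe_comp, ← LinearMap.coe_range,
        ← LinearMap.range_liftBaseChange]
      have h : (ψk (q + 1) ∘ₗ d q).liftBaseChange K = Φ (q + 1) ∘ₗ (d q).baseChange K :=
        TensorProduct.AlgebraTensorModule.curry_injective (LinearMap.ext fun c => LinearMap.ext fun x => by simp [Φ])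
      rw [h, hc, LinearMap.range_comp, LinearMap.range_eq_top.2 (hΦ q).2, Submodule.map_top]


end Groth.Agent.S19628
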