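import Groth.Statements.S19629
import Groth.Agent.L14.DeRham.Basic
import Mathlib.LinearAlgebra.ExteriorPower.Basic
import Mathlib.RingTheory.Kaehler.Basic

set_option autoImplicit false
universe u
open DeRham

namespace Groth.Agent.S19629

open exteriorPower in
example : True := trivial

section S19629Helpers

variable {k A : Type u} [CommRing k] [CommRing A] [Algebra k A]

theorem exists_gen_of_compl {d : ℕ} (t : Fin d → A) (b : Module.Basis (Fin d) A (Ω[A⁄k]))
    (hb : ∀ i, b i = KaehlerDifferential.D k A (t i)) (T : Finset (Fin d)) (I : Ideal A)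
    (hI : ∀ i ∈ T, t i ∈ I) (m : ℕ) (hm : T.card + m = d) (g : ↥(⋀[A ⧸ I]^m (Ω[(A ⧸ I)⁄k]))) :
    ∃ (c : A) (σ : Fin m → Fin d),
      g = DeRham.gen (KaehlerDifferential.D k (A ⧸ I)) m (Ideal.Quotient.mk I c)
        (fun i => Ideal.Quotient.mk I (t (σ i))) ∧ ∀ i, i ∉ T → ∃ l, σ l = i := by
  classical
  let ι := {i : Fin d // i ∉ T}
  let v : ι → Ω[(A ⧸ I)⁄k] := fun i => KaehlerDifferential.D k (A ⧸ I) (Ideal.Quotient.mk I (t i.1))
  have hv : Submodule.span (A ⧸ I) (Set.range v) = ⊤ := by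
    rw [eq_top_iff, ← KaehlerDifferential.span_range_derivation k (A ⧸ I), Submodule.span_le]
    rintro _ ⟨y, rfl⟩
    obtain ⟨a, rfl⟩ := Ideal.Quotient.mk_surjective y
    have h1 := congrArg (KaehlerDifferential.map k k A (A ⧸ I)) (b.sum_repr (KaehlerDifferential.D k A a))
    rw [map_sum, KaehlerDifferential.map_D] at h1
    rw [SetLike.mem_coe, show Ideal.Quotient.mk I a = algebraMap A (A ⧸ I) a from rfl, ← h1]
    refine sum_mem fun i _ => ?_
    rw [map_smul, hb, KaehlerDifferential.map_D, ← algebraMap_smul (A ⧸ I)]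
    refine Submodule.smul_mem _ _ ?_
    by_cases hi : i ∈ T
    · rw [show algebraMap A (A ⧸ I) (t i) = 0 from Ideal.Quotient.eq_zero_iff_mem.2 (hI i hi), map_zero]
      exact zero_mem _
    · exact Submodule.subset_span ⟨⟨i, hi⟩, rfl⟩
  have hcard : Nat.card ι = m := by
    rw [Nat.card_eq_fintype_card, Fintype.card_subtype_compl, Fintype.card_fin, Fintype.card_coe]
    omega
  have hspan := exteriorPower.ιMulti_family_span_of_span (A ⧸ I) (n := m) hv
  haveI : Subsingleton (Set.powersetCard ι m) := ⟨fun s s' => Subtype.ext (by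
    rw [Finset.eq_univ_of_card s.1 (s.2.trans (hcard.symm.trans Nat.card_eq_fintype_card)),
      Finset.eq_univ_of_card s'.1 (s'.2.trans (hcard.symm.trans Nat.card_eq_fintype_card))])⟩
  let s0 : Set.powersetCard ι m := ⟨Finset.univ, by
    show Finset.card _ = m
    rw [Finset.card_univ, ← Nat.card_eq_fintype_card, hcard]⟩
  have hr : Set.range (exteriorPower.ιMulti_family (A ⧸ I) m v) =
      {exteriorPower.ιMulti_family (A ⧸ I) m v s0} := by
    ext x
    exact ⟨fun ⟨s, hs⟩ => by rw [← hs, Subsingleton.elim s s0]; rfl, fun h => ⟨s0, h.symm⟩⟩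
  rw [hr] at hspan
  obtain ⟨c', hc'⟩ := Submodule.mem_span_singleton.1 (hspan.ge (Submodule.mem_top : g ∈ ⊤))
  obtain ⟨c, rfl⟩ := Ideal.Quotient.mk_surjective c'
  let f : Fin m ↪o ι := Set.powersetCard.ofFinEmbEquiv.symm s0
  refine ⟨c, fun l => (f l).1, hc'.symm, fun i hi => ?_⟩
  have hf : Function.Bijective f := by
    rw [Fintype.bijective_iff_injective_and_card, Fintype.card_fin, ← Nat.card_eq_fintype_card, hcard]
    exact ⟨f.injective, rfl⟩
  obtain ⟨l, hl⟩ := hf.2 ⟨i, hi⟩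
  exact ⟨l, congrArg Subtype.val hl⟩

end S19629Helpers


/-- In the chart case reached in its proof, let k be a field of characteristic zero and A a smooth
k-algebra carrying functions t_1, …, t_d whose differentials form a basis of Ω_{A/k} (a global
system of étale coordinates on X = Spec A), and let D_1, …, D_n be the coordinate hyperplanes
t_{e(1)} = 0, …, t_{e(n)} = 0 for an injection e, so that D = D_1 ∪ ⋯ ∪ D_n is a simple normal
crossings divisor. For I ⊆ {1, …, n} write A_I = A/(t_{e(i)} : i ∈ I) for the coordinate ring of D_I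
= ⋂_{i ∈ I} D_i, and let ψ_{I,J} (I ⊆ J) be the maps of de Rham complexes induced by the surjections
A_I → A_J. Then whenever s + 1 + m = d, the Čech differential ∏_{|I| = s} Ω^m_{A_I/k} → ∏_{|J| =
s+1} Ω^m_{A_J/k}, (ω_I) ↦ (Σ_{j ∈ J} ± ψ_{J∖j,J}(ω_{J∖j}))_J with the usual alternating signs, is
surjective; for s = 0 this is the surjectivity of Ω^{d-1}(X) → ⊕_i Ω^{d-1}(D_i). (The source states
the surjectivity for a smooth affine variety X of dimension d with a simple normal crossings divisor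
and reduces to this chart case étale-locally; here A_∅ is A/0 rather than A.) -/
theorem result
    (k : Type u) [Field k] [CharZero k] (A : Type u) [CommRing A] [Algebra k A] [Algebra.Smooth k A]
    (d n : ℕ) (t : Fin d → A) (e : Fin n ↪ Fin d)
    (b : Module.Basis (Fin d) A (Ω[A⁄k])) (hb : ∀ i, b i = KaehlerDifferential.D k A (t i))
    (ψ : ∀ (I J : Finset (Fin n)) (p : ℕ), ↥(⋀[(A ⧸ (⨆ i ∈ I, Ideal.span {t (e i)} : Ideal A))]^p (Ω[(A ⧸ (⨆ i ∈ I, Ideal.span {t (e i)} : Ideal A))⁄k])) →+ ↥(⋀[(A ⧸ (⨆ i ∈ J, Ideal.span {t (e i)} : Ideal A))]^p (Ω[(A ⧸ (⨆ i ∈ J, Ideal.span {t (e i)} : Ideal A))⁄k])))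
    (hψ : ∀ (I J : Finset (Fin n)) (h : I ⊆ J),
      DeRham.IsCxMap (KaehlerDifferential.D k (A ⧸ (⨆ i ∈ I, Ideal.span {t (e i)} : Ideal A))) (KaehlerDifferential.D k (A ⧸ (⨆ i ∈ J, Ideal.span {t (e i)} : Ideal A)))
        (Ideal.Quotient.factor (biSup_mono h)) (ψ I J))
    (s m : ℕ) (hs : s + 1 + m = d)
    (g : ∀ J : Finset (Fin n), ↥(⋀[(A ⧸ (⨆ i ∈ J, Ideal.span {t (e i)} : Ideal A))]^m (Ω[(A ⧸ (⨆ i ∈ J, Ideal.span {t (e i)} : Ideal A))⁄k]))) :
    ∃ ω : ∀ I : Finset (Fin n), ↥(⋀[(A ⧸ (⨆ i ∈ I, Ideal.span {t (e i)} : Ideal A))]^m (Ω[(A ⧸ (⨆ i ∈ I, Ideal.span {t (e i)} : Ideal A))⁄k])),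
      ∀ J : Finset (Fin n), J.card = s + 1 →
        (∑ j ∈ J.attach,
          ((-1 : ℤ) ^ (J.filter (fun i => i < j.1)).card) •
            ψ (J.erase j.1) J m (ω (J.erase j.1))) = g J := by
  classical
  have hmem : ∀ (J : Finset (Fin n)), ∀ i ∈ J.image e, t i ∈ (⨆ i ∈ J, Ideal.span {t (e i)} : Ideal A) := by
    intro J i hi
    obtain ⟨j, hj, rfl⟩ := Finset.mem_image.1 hi
    exact Submodule.mem_iSup_of_mem j (Submodule.mem_iSup_of_mem hj (Ideal.mem_span_singleton_self _))
  have hsel : ∀ J : Finset (Fin n), ∃ (c : A) (σ : Fin m → Fin d), J.card = s + 1 →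
      g J = DeRham.gen (KaehlerDifferential.D k _) m (Ideal.Quotient.mk _ c)
        (fun i => Ideal.Quotient.mk _ (t (σ i))) ∧ ∀ i, i ∉ J.image e → ∃ l, σ l = i := by
    intro J
    by_cases hJ : J.card = s + 1
    · obtain ⟨c, σ, h⟩ := exists_gen_of_compl t b hb (J.image e) _ (hmem J) m
        (by rw [Finset.card_image_of_injective _ e.injective, hJ]; exact hs) (g J)
      exact ⟨c, σ, fun _ => h⟩
    · exact ⟨0, fun _ => ⟨0, by omega⟩, fun h => absurd h hJ⟩
  choose c σ hcσ using hsel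
  refine ⟨fun I => ∑ j ∈ Finset.univ.filter (fun j => I.card = s ∧ j ∉ I ∧ ∀ i ∈ I, j < i),
    DeRham.gen (KaehlerDifferential.D k _) m (Ideal.Quotient.mk _ (c (insert j I)))
      (fun i => Ideal.Quotient.mk _ (t (σ (insert j I) i))), fun J hJ => ?_⟩
  have hne : J.Nonempty := Finset.card_pos.1 (by omega)
  let j₀ : {x // x ∈ J} := ⟨J.min' hne, J.min'_mem hne⟩
  have hval : ∀ (j : {x // x ∈ J}) (j' : Fin n), j' ∉ J.erase j.1 →
      ψ (J.erase j.1) J m (DeRham.gen (KaehlerDifferential.D k _) m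
        (Ideal.Quotient.mk _ (c (insert j' (J.erase j.1))))
        (fun i => Ideal.Quotient.mk _ (t (σ (insert j' (J.erase j.1)) i)))) =
      if j' = j.1 then g J else 0 := by
    intro j j' hj'
    rw [hψ _ _ (Finset.erase_subset _ _)]
    simp only [Ideal.Quotient.factor_mk]
    have hcard : (insert j' (J.erase j.1)).card = s + 1 := by
      rw [Finset.card_insert_of_notMem hj', Finset.card_erase_of_mem j.2, hJ]; omega
    obtain ⟨-, hr⟩ := hcσ _ hcard
    split_ifs with h
    · rw [h, Finset.insert_erase j.2]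
      exact (hcσ J hJ).1.symm
    · obtain ⟨l, hl⟩ := hr (e j.1) (by
        rw [Finset.mem_image]
        rintro ⟨i, hi, hie⟩
        rcases Finset.mem_insert.1 hi with rfl | hi'
        · exact h (e.injective hie)
        · exact (Finset.mem_erase.1 hi').1 (e.injective hie))
      rw [DeRham.gen, AlternatingMap.map_coord_zero _ l, smul_zero]
      rw [hl, Ideal.Quotient.eq_zero_iff_mem.2 (hmem J _ (Finset.mem_image_of_mem e j.2)), map_zero]
  rw [Finset.sum_eq_single j₀]
  · have hsign : J.filter (fun i => i < j₀.1) = ∅ :=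
      Finset.filter_eq_empty_iff.2 fun i hi => not_lt.2 (J.min'_le i hi)
    rw [hsign, Finset.card_empty, pow_zero, one_smul, map_sum, Finset.sum_eq_single j₀.1]
    · exact (hval j₀ j₀.1 (Finset.notMem_erase _ _)).trans (if_pos rfl)
    · intro j' hj' hne'
      exact (hval j₀ j' (Finset.mem_filter.1 hj').2.2.1).trans (if_neg hne')
    · intro h
      refine absurd (Finset.mem_filter.2 ⟨Finset.mem_univ _, ?_, Finset.notMem_erase _ _, fun i hi => ?_⟩) h
      · rw [Finset.card_erase_of_mem j₀.2, hJ]; omega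
      · exact lt_of_le_of_ne (J.min'_le i (Finset.mem_of_mem_erase hi)) (Finset.ne_of_mem_erase hi).symm
  · intro j _ hj
    rw [map_sum, Finset.sum_eq_zero, smul_zero]
    intro j' hj'
    refine (hval j j' (Finset.mem_filter.1 hj').2.2.1).trans (if_neg fun h => hj (Subtype.ext ?_))
    have h1 := J.min'_le j.1 j.2
    by_contra h2
    have h3 := (Finset.mem_filter.1 hj').2.2.2 j₀.1 (Finset.mem_erase.2 ⟨fun h4 => h2 h4.symm, j₀.2⟩)
    rw [h] at h3
    exact absurd h3 (not_lt.2 h1)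
  · intro h
    exact absurd (Finset.mem_attach _ _) h


end Groth.Agent.S19629
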