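import Groth.Statements.S19630
import Groth.Agent.L14.DeRham.Map
import Mathlib.RingTheory.Etale.Field
import Mathlib.RingTheory.Unramified.Basic
import Mathlib.RingTheory.Kaehler.Basic

set_option autoImplicit false
universe u
open DeRham

namespace Groth.Agent.S19630

open exteriorPower in
/-- In the affine case, at ring level, let k ⊆ K be a finite extension of fields of characteristic zero
and B a smooth K-algebra, so that Y = Spec B is a smooth affine variety over K which may also be
regarded over k. Let ψ be the map of de Rham complexes from Ω•_{B/k} to Ω•_{B/K} induced by the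
identity of B. Then ψ is bijective in every degree: the de Rham complex of Y over k and over K
coincide, and hence the natural map H^i_dR(Y/k) → H^i_dR(Y/K) is an isomorphism. (The source states
the isomorphism on de Rham cohomology for any smooth variety Y over K, through the equality of the
two de Rham complexes; this row is that equality for affine Y.) -/
theorem result
    (k K : Type u) [Field k] [Field K] [CharZero k] [Algebra k K] [Module.Finite k K]
    (B : Type u) [CommRing B] [Algebra K B] [Algebra k B] [IsScalarTower k K B] [Algebra.Smooth K B]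
    (ψ : ∀ p : ℕ, ↥(⋀[B]^p (Ω[B⁄k])) →+ ↥(⋀[B]^p (Ω[B⁄K])))
    (hψ : DeRham.IsCxMap (KaehlerDifferential.D k B) (KaehlerDifferential.D K B) (RingHom.id B) ψ)
    (p : ℕ) :
    Function.Bijective (ψ p) := by
  haveI : Algebra.IsSeparable k K := Algebra.IsAlgebraic.isSeparable_of_perfectField
  haveI : Algebra.FormallyUnramified k K := Algebra.FormallyUnramified.of_isSeparable k K
  let π : Ω[B⁄k] →ₗ[B] Ω[B⁄K] := KaehlerDifferential.map k K B B
  have hsurj : Function.Surjective π := fun w => by
    have hw : w ∈ Submodule.span B (Set.range (KaehlerDifferential.D K B)) :=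
      (KaehlerDifferential.span_range_derivation K B).ge Submodule.mem_top
    induction hw using Submodule.span_induction with
    | mem z hz => obtain ⟨b, rfl⟩ := hz; exact ⟨_, KaehlerDifferential.map_D k K B B b⟩
    | zero => exact ⟨0, map_zero _⟩
    | add u v _ _ hu hv =>
      obtain ⟨a, rfl⟩ := hu; obtain ⟨c, rfl⟩ := hv; exact ⟨a + c, map_add _ _ _⟩
    | smul c u _ hu => obtain ⟨a, rfl⟩ := hu; exact ⟨c • a, map_smul _ _ _⟩
  have hinj : Function.Injective π := by
    have h := KaehlerDifferential.exact_mapBaseChange_map k K B
    rw [injective_iff_map_eq_zero]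
    intro x hx
    obtain ⟨y, rfl⟩ := (h x).mp hx
    haveI : Subsingleton (TensorProduct K B Ω[K⁄k]) := inferInstance
    rw [Subsingleton.elim y 0, map_zero]
  let e : Ω[B⁄k] ≃ₗ[B] Ω[B⁄K] := LinearEquiv.ofBijective π ⟨hinj, hsurj⟩
  have hψp : ψ p = (exteriorPower.map p π).toAddMonoidHom :=
    Groth.L14.DeRham.addHom_ext (KaehlerDifferential.span_range_derivation k B) fun b₀ b => by
      rw [hψ]
      show _ = exteriorPower.map p π (b₀ • exteriorPower.ιMulti B p fun i => KaehlerDifferential.D k B (b i))
      rw [map_smul, exteriorPower.map_apply_ιMulti]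
      simp [DeRham.gen, π, Function.comp_def]
  rw [hψp]
  refine ⟨exteriorPower.map_injective e.symm.toLinearMap (LinearMap.ext fun x => e.symm_apply_apply x),
    exteriorPower.map_surjective hsurj⟩

end Groth.Agent.S19630
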