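import Groth.Statements.S19632
import Mathlib.Algebra.Polynomial.Laurent
import Mathlib.RingTheory.Kaehler.Basic
import Mathlib.Algebra.CharP.Algebra
-- import your own Groth.Agent.* helpers here

set_option autoImplicit false
universe u
open DeRham

namespace Groth.Agent.S19632

open LaurentPolynomial in
/-- The Euler derivation detects constants in characteristic zero. -/
theorem exists_euler (k : Type u) [Field k] [CharZero k] :
    ∃ δ : Derivation k (LaurentPolynomial k) (LaurentPolynomial k),
      ∀ f, δ f = 0 → f ∈ Set.range (algebraMap k (LaurentPolynomial k)) := by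
  let b := AddMonoidAlgebra.basis ℤ k
  let L : LaurentPolynomial k →ₗ[k] LaurentPolynomial k := b.constr k fun n => (n : k) • T n
  have hT : ∀ n, L (T n) = (n : k) • T n := fun n => by
    have hb : b n = T n := rfl
    rw [← hb]
    simp only [L, Module.Basis.constr_basis]
    rw [hb]
  have hC : ∀ (a : k) (n : ℤ), L (C a * T n) = C ((n : k) * a) * T n := fun a n => by
    rw [C_eq_algebraMap, ← Algebra.smul_def, map_smul, hT, smul_smul, Algebra.smul_def, C_eq_algebraMap, mul_comm a]
  have hone : L 1 = 0 := by rw [← T_zero, hT]; simp
  have hleib : ∀ x y, L (x * y) = x • L y + y • L x := by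
    intro x y
    induction x using LaurentPolynomial.induction_on' with
    | add p q hp hq => simp only [add_mul, map_add, hp, hq, smul_eq_mul, mul_add]; ring
    | C_mul_T n a =>
      induction y using LaurentPolynomial.induction_on' with
      | add p q hp hq => simp only [mul_add, map_add, hp, hq, smul_eq_mul, add_mul]; ring
      | C_mul_T m c =>
        rw [show C a * T n * (C c * T m) = C (a * c) * T (n + m) by rw [map_mul, T_add]; ring]
        rw [hC, hC, hC, smul_eq_mul, smul_eq_mul]
        simp only [Int.cast_add, add_mul, map_add, map_mul, T_add]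
        ring
  refine ⟨Derivation.mk' L hleib, fun f hf => ?_⟩
  have hcoeff : ∀ f n, (L f).coeff n = (n : k) * f.coeff n := by
    intro f n
    induction f using LaurentPolynomial.induction_on' with
    | add p q hp hq => simp only [map_add, AddMonoidAlgebra.coeff_add, Finsupp.add_apply, hp, hq, mul_add]
    | C_mul_T m a =>
      rw [hC, ← single_eq_C_mul_T, ← single_eq_C_mul_T, AddMonoidAlgebra.coeff_single,
        AddMonoidAlgebra.coeff_single, Finsupp.single_apply, Finsupp.single_apply]
      split_ifs with h
      · rw [h]
      · rw [mul_zero]
  refine ⟨f.coeff 0, LaurentPolynomial.ext fun n => ?_⟩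
  rw [← C_eq_algebraMap, C_apply]
  split_ifs with h
  · rw [h]
  · have h1 := hcoeff f n
    rw [show L f = 0 from hf, AddMonoidAlgebra.coeff_zero, Finsupp.zero_apply] at h1
    exact ((mul_eq_zero.1 h1.symm).resolve_left (Int.cast_ne_zero.2 h)).symm

/-- Let k be a field of characteristic zero and G_m = Spec k[t, t⁻¹] the multiplicative group. The
kernel of the differential d : k[t, t⁻¹] → Ω¹ of the de Rham complex of G_m consists of the
constants: for a Laurent polynomial f, df = 0 if and only if f lies in the image of k. Equivalently
H^0_dR(G_m/k) = k. (Characteristic zero is used: in characteristic p the element t^p is closed.) -/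
theorem result (k : Type u) [Field k] [CharZero k]
    (f : LaurentPolynomial k) :
    KaehlerDifferential.D k (LaurentPolynomial k) f = 0 ↔ f ∈ Set.range (algebraMap k (LaurentPolynomial k)) := by
  refine ⟨fun h => ?_, fun ⟨c, hc⟩ => by rw [← hc, Derivation.map_algebraMap]⟩
  obtain ⟨δ, hδ⟩ := exists_euler k
  refine hδ f ?_
  rw [← δ.liftKaehlerDifferential_comp_D f, h, map_zero]

end Groth.Agent.S19632
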