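import Groth.Statements.S19633
import Groth.Agent.L14.DeRham.Basic
import Mathlib.Algebra.Polynomial.Laurent
import Mathlib.RingTheory.Kaehler.Basic
import Mathlib.Algebra.CharP.Algebra
import Mathlib.Tactic.Ring

set_option autoImplicit false
universe u
open DeRham

namespace Groth.Agent.S19633

open exteriorPower in
variable {_unused : Unit}

open LaurentPolynomial in
/-- The Euler derivation detects constants in characteristic zero. -/
theorem exists_euler (k : Type u) [Field k] [CharZero k] :
    ∃ δ : Derivation k (LaurentPolynomial k) (LaurentPolynomial k),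
      δ (T 1) = T 1 ∧ ∀ f n, (δ f).coeff n = (n : k) * f.coeff n := by
  let b := AddMonoidAlgebra.basis ℤ k
  let L : LaurentPolynomial k →ₗ[k] LaurentPolynomial k := b.constr k fun n => (n : k) • T n
  have hT : ∀ n, L (T n) = (n : k) • T n := fun n => by
    have hb : b n = T n := rfl
    rw [← hb]
    simp only [L, Module.Basis.constr_basis]
    rw [hb]
  have hC : ∀ (a : k) (n : ℤ), L (C a * T n) = C ((n : k) * a) * T n := fun a n => by
    rw [C_eq_algebraMap, ← Algebra.smul_def, map_smul, hT, smul_smul, Algebra.smul_def, C_eq_algebraMap, mul_comm a]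
  have hone : L 1 = 0 := by rw [← T_zero, hT]; simp
  have hleib : ∀ x y, L (x * y) = x • L y + y • L x := by
    intro x y
    induction x using LaurentPolynomial.induction_on' with
    | add p q hp hq => simp only [add_mul, map_add, hp, hq, smul_eq_mul, mul_add]; ring
    | C_mul_T n a =>
      induction y using LaurentPolynomial.induction_on' with
      | add p q hp hq => simp only [mul_add, map_add, hp, hq, smul_eq_mul, add_mul]; ring
      | C_mul_T m c =>
        rw [show C a * T n * (C c * T m) = C (a * c) * T (n + m) by rw [map_mul, T_add]; ring]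
        rw [hC, hC, hC, smul_eq_mul, smul_eq_mul]
        simp only [Int.cast_add, add_mul, map_add, map_mul, T_add]
        ring
  refine ⟨Derivation.mk' L hleib, (show L (T 1) = T 1 by rw [hT]; simp), fun f n => ?_⟩
  have hcoeff : ∀ f n, (L f).coeff n = (n : k) * f.coeff n := by
    intro f n
    induction f using LaurentPolynomial.induction_on' with
    | add p q hp hq => simp only [map_add, AddMonoidAlgebra.coeff_add, Finsupp.add_apply, hp, hq, mul_add]
    | C_mul_T m a =>
      rw [hC, ← single_eq_C_mul_T, ← single_eq_C_mul_T, AddMonoidAlgebra.coeff_single,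
        AddMonoidAlgebra.coeff_single, Finsupp.single_apply, Finsupp.single_apply]
      split_ifs with h
      · rw [h]
      · rw [mul_zero]
  exact hcoeff f n

open LaurentPolynomial in
lemma D_eq (k : Type u) [Field k] (θ : Derivation k (LaurentPolynomial k) (LaurentPolynomial k)) (h1 : θ (T 1) = T 1)
    (f : LaurentPolynomial k) :
    KaehlerDifferential.D k (LaurentPolynomial k) f =
      θ f • ((T (-1) : LaurentPolynomial k) • KaehlerDifferential.D k (LaurentPolynomial k) (T 1)) := by
  let D := KaehlerDifferential.D k (LaurentPolynomial k)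
  let ω := (T (-1) : LaurentPolynomial k) • D (T 1)
  let E : Derivation k (LaurentPolynomial k) (Ω[LaurentPolynomial k⁄k]) := D - (LinearMap.toSpanSingleton (LaurentPolynomial k) _ ω).compDer θ
  have hX : E (T 1) = 0 := by
    show D (T 1) - θ (T 1) • ω = 0
    simp only [ω, smul_smul, h1, ← T_add]
    simp
  have hp : ∀ p : Polynomial k, E (Polynomial.toLaurent p) = 0 := by
    intro p
    induction p using Polynomial.induction_on' with
    | add p q hp hq => simp [hp, hq]
    | monomial n a =>
      rw [← Polynomial.C_mul_X_pow_eq_monomial, map_mul, map_pow, Polynomial.toLaurent_C, Polynomial.toLaurent_X, Derivation.leibniz, Derivation.leibniz_pow, hX]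
      rw [C_eq_algebraMap, Derivation.map_algebraMap]; simp only [smul_zero, add_zero]
  obtain ⟨n, p, hf⟩ := exists_T_pow f
  have hn : E (T (n : ℤ)) = 0 := by rw [← Polynomial.toLaurent_X_pow]; exact hp _
  have := hp p
  rw [hf, Derivation.leibniz, hn, smul_zero, zero_add, (isUnit_T (n : ℤ)).smul_eq_zero] at this
  exact sub_eq_zero.1 this

open DeRham
open exteriorPower in

/-- Let k be a field of characteristic zero, G_m = Spec k[t, t⁻¹], and d the de Rham differential of
k[t, t⁻¹] over k. Then: every 1-form is closed; the exact 1-forms and the k-line spanned by t⁻¹ dt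
are complementary subspaces of the 1-forms, and t⁻¹ dt is not exact — so H^1_dR(G_m/k) is
one-dimensional, generated by the class of dt/t (the isomorphism with k being the residue); and for
every i ≥ 2 the closed i-forms are exact, so H^i_dR(G_m/k) = 0 for i > 1. (Characteristic zero is
used in the computation of the exact forms.) -/
theorem result (k : Type u) [Field k] [CharZero k]
    (d : ∀ p : ℕ, ↥(⋀[LaurentPolynomial k]^p (Ω[LaurentPolynomial k⁄k])) →ₗ[k] ↥(⋀[LaurentPolynomial k]^(p + 1) (Ω[LaurentPolynomial k⁄k])))
    (hd : DeRham.IsDiff (KaehlerDifferential.D k (LaurentPolynomial k)) d) :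
    DeRham.cocycles d 1 = ⊤ ∧
    IsCompl (DeRham.coboundaries d 1)
      (Submodule.span k {DeRham.gen (KaehlerDifferential.D k (LaurentPolynomial k)) 1
        (LaurentPolynomial.T (-1)) (fun _ => LaurentPolynomial.T 1)}) ∧
    DeRham.gen (KaehlerDifferential.D k (LaurentPolynomial k)) 1
        (LaurentPolynomial.T (-1)) (fun _ => LaurentPolynomial.T 1) ∉ DeRham.coboundaries d 1 ∧
    ∀ i : ℕ, DeRham.cocycles d (i + 2) ≤ DeRham.coboundaries d (i + 2) := by
  open LaurentPolynomial in
  obtain ⟨θ, hθ1, hθ⟩ := exists_euler k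
  let D := KaehlerDifferential.D k (LaurentPolynomial k)
  let L := θ.liftKaehlerDifferential
  let w : Fin 1 → (Ω[LaurentPolynomial k⁄k]) := fun _ => (T (-1) : LaurentPolynomial k) • D (T 1)
  have hspan : Submodule.span (LaurentPolynomial k) (Set.range D) = ⊤ := KaehlerDifferential.span_range_derivation _ _
  have hDw : ∀ f, D f = θ f • w 0 := fun f => D_eq k θ hθ1 f
  have hzero : ∀ (p : ℕ) (x : ↥(⋀[LaurentPolynomial k]^(p + 2) (Ω[LaurentPolynomial k⁄k]))), x = 0 := by
    intro p x
    induction x using Groth.L14.DeRham.gen_induction hspan with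
    | hzero => rfl
    | hadd y z hy hz => rw [hy, hz, add_zero]
    | hgen b₀ b =>
      have e : (fun i => D (b i)) = fun i => θ (b i) • w 0 := funext fun i => hDw _
      unfold _root_.DeRham.gen
      rw [e, AlternatingMap.map_smul_univ, (ιMulti (LaurentPolynomial k) (p + 2)).map_eq_zero_of_eq (i := (0 : Fin (p+2))) (j := 1) (fun _ => w 0)
        rfl (by simp)]
      simp
  let φ : ↥(⋀[LaurentPolynomial k]^1 (Ω[LaurentPolynomial k⁄k])) →ₗ[LaurentPolynomial k] LaurentPolynomial k :=
    L ∘ₗ (oneEquiv (LaurentPolynomial k) (Ω[LaurentPolynomial k⁄k])).toLinearMap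
  have hφinj : Function.Injective φ := by
    have hL : ∀ m, m = L m • w 0 := by
      intro m
      have hm : m ∈ Submodule.span (LaurentPolynomial k) (Set.range D) := by rw [hspan]; trivial
      induction hm using Submodule.span_induction with
      | mem y hy =>
        obtain ⟨f, rfl⟩ := hy
        rw [show L (D f) = θ f from θ.liftKaehlerDifferential_comp_D f]
        exact hDw f
      | zero => simp
      | add y z _ _ hy hz => rw [map_add, add_smul, ← hy, ← hz]
      | smul a y _ hy => rw [map_smul, smul_eq_mul, mul_smul, ← hy]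
    intro x y h
    refine (oneEquiv _ _).injective ?_
    rw [hL (oneEquiv _ _ x), hL (oneEquiv _ _ y)]
    exact congrArg (fun a => a • w 0) h
  have hφgen : ∀ b₀ b, φ (_root_.DeRham.gen D 1 b₀ b) = b₀ * θ (b 0) := by
    intro b₀ b
    simp only [φ, _root_.DeRham.gen, map_smul, LinearMap.comp_apply, LinearEquiv.coe_coe, oneEquiv_ιMulti, smul_eq_mul]
    rw [show L (D (b 0)) = θ (b 0) from θ.liftKaehlerDifferential_comp_D (b 0)]
  have hd0 : ∀ b₀ b, φ (d 0 (_root_.DeRham.gen D 0 b₀ b)) = θ b₀ := by
    intro b₀ b
    rw [hd.1, Groth.L14.DeRham.gen_one_cons, hφgen]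
    simp
  set g := DeRham.gen (KaehlerDifferential.D k (LaurentPolynomial k)) 1
        (LaurentPolynomial.T (-1)) (fun _ => LaurentPolynomial.T 1) with hg
  have hφg : φ g = 1 := by rw [hg, hφgen, hθ1, ← T_add]; simp
  have hmem : ∀ x, x ∈ DeRham.coboundaries d 1 ↔ (φ x).coeff 0 = 0 := by
    intro x
    constructor
    · rintro ⟨y, rfl⟩
      induction y using Groth.L14.DeRham.gen_induction hspan with
      | hzero => simp
      | hadd y z hy hz => simp [hy, hz]
      | hgen b₀ b => rw [hd0, hθ]; simp
    · intro h
      let a := φ x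
      let f : LaurentPolynomial k := ∑ n ∈ a.coeff.support, AddMonoidAlgebra.single n (a.coeff n / (n : k))
      refine ⟨_root_.DeRham.gen D 0 f Fin.elim0, hφinj ?_⟩
      rw [hd0]
      refine LaurentPolynomial.ext fun m => ?_
      rw [hθ]
      simp only [f, AddMonoidAlgebra.coeff_sum, Finsupp.finsetSum_apply, AddMonoidAlgebra.coeff_single, Finsupp.single_apply,
        Finset.sum_ite_eq', Finsupp.mem_support_iff]
      rcases eq_or_ne m 0 with rfl | hm
      · simp [h]
      · split_ifs with hs
        · exact mul_div_cancel₀ _ (Int.cast_ne_zero.2 hm)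
        · rw [mul_zero]; exact (Finsupp.notMem_support_iff.1 hs).symm
  refine ⟨eq_top_iff.2 fun x _ => LinearMap.mem_ker.2 (hzero 0 _), ⟨?_, ?_⟩, ?_, ?_⟩
  · rw [Submodule.disjoint_def]
    intro x hx hx'
    obtain ⟨c, rfl⟩ := Submodule.mem_span_singleton.1 hx'
    rw [hmem, LinearMap.map_smul_of_tower, hφg] at hx
    simp at hx
    simp [hx]
  · rw [codisjoint_iff, eq_top_iff]
    intro x _
    refine Submodule.mem_sup.2 ⟨x - (φ x).coeff 0 • g, ?_, (φ x).coeff 0 • g, Submodule.smul_mem _ _ (Submodule.mem_span_singleton_self _), sub_add_cancel _ _⟩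
    rw [hmem, map_sub, LinearMap.map_smul_of_tower, hφg]
    simp
  · rw [hmem, hφg]; simp
  · intro i x _
    rw [hzero i x]
    exact Submodule.zero_mem _

end Groth.Agent.S19633
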