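import Groth.Statements.S19635
import Mathlib.RingTheory.Kaehler.Basic
import Mathlib.Algebra.MvPolynomial.PDeriv
import Mathlib.RingTheory.Derivation.Basic

set_option autoImplicit false
universe u
open DeRham

namespace Groth.Agent.S19635

variable {_unused : Unit}
open MvPolynomial

section
variable (k : Type u) [Field k]

abbrev P2 := MvPolynomial (Fin 2) k
abbrev Nd := MvPolynomial (Fin 2) k ⧸ Ideal.span {(MvPolynomial.X 0 * MvPolynomial.X 1 : MvPolynomial (Fin 2) k)}
noncomputable abbrev π : P2 k →ₐ[k] Nd k := Ideal.Quotient.mkₐ k _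
noncomputable abbrev Rel : Submodule (Nd k) (Nd k × Nd k) := Submodule.span (Nd k) {(π k (X 1), π k (X 0))}

/-- `f ↦ (∂f/∂x, ∂f/∂y)` modulo `(y, x)`. -/
noncomputable def d (f : P2 k) : (Nd k × Nd k) ⧸ Rel k :=
  Submodule.Quotient.mk (π k (pderiv 0 f), π k (pderiv 1 f))

theorem d_add (a b : P2 k) : d k (a + b) = d k a + d k b := by
  simp only [d, map_add, ← Prod.mk_add_mk, Submodule.Quotient.mk_add]

theorem d_smul (r : k) (a : P2 k) : d k (r • a) = r • d k a := by
  rw [d, Derivation.map_smul, Derivation.map_smul, map_smul, map_smul, ← Prod.smul_mk, Submodule.Quotient.mk_smul]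
  rfl

theorem d_mul (a b : P2 k) : d k (a * b) = π k a • d k b + π k b • d k a := by
  simp only [d, ← Submodule.Quotient.mk_smul, ← Submodule.Quotient.mk_add, Prod.smul_mk, Prod.mk_add_mk, Derivation.leibniz,
    smul_eq_mul, map_add, map_mul]

theorem d_zero {x : P2 k} (hx : π k x = 0) : d k x = 0 := by
  obtain ⟨w, rfl⟩ := Ideal.mem_span_singleton'.mp (Ideal.Quotient.eq_zero_iff_mem.mp hx)
  rw [d, Submodule.Quotient.mk_eq_zero, Submodule.mem_span_singleton]
  refine ⟨π k w, ?_⟩
  have h0 : π k (X 0) * π k (X 1) = 0 := by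
    rw [← map_mul]; exact Ideal.Quotient.eq_zero_iff_mem.mpr (Ideal.mem_span_singleton_self _)
  simp [Derivation.leibniz, pderiv_X_of_ne (show (1 : Fin 2) ≠ 0 by decide),
    pderiv_X_of_ne (show (0 : Fin 2) ≠ 1 by decide), h0]

theorem d_congr {a b : P2 k} (h : π k a = π k b) : d k a = d k b := by
  have h' := d_zero k (x := a - b) (by rw [map_sub, h, sub_self])
  rw [← sub_add_cancel a b, d_add, h', zero_add]

noncomputable def sec (a : Nd k) : P2 k := Function.surjInv (f := π k) Ideal.Quotient.mk_surjective a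

theorem π_sec (a : Nd k) : π k (sec k a) = a := Function.surjInv_eq _ a

noncomputable def δ : Derivation k (Nd k) ((Nd k × Nd k) ⧸ Rel k) :=
  Derivation.mk'
    { toFun := fun a => d k (sec k a)
      map_add' := fun a b => by
        rw [← d_add]; exact d_congr k (by rw [map_add, π_sec, π_sec, π_sec])
      map_smul' := fun r a => by
        rw [RingHom.id_apply, ← d_smul]; exact d_congr k (by rw [map_smul, π_sec, π_sec]) }
    fun a b => by
      show d k (sec k (a * b)) = a • d k (sec k b) + b • d k (sec k a)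
      rw [d_congr k (b := sec k a * sec k b) (by rw [map_mul, π_sec, π_sec, π_sec]), d_mul, π_sec, π_sec]

theorem δ_apply (f : P2 k) : δ k (π k f) = Submodule.Quotient.mk (π k (pderiv 0 f), π k (pderiv 1 f)) :=
  d_congr k (π_sec k _)

/-- Coefficients on the axes. -/
theorem coeff_eq_of_eq {f g : P2 k} (h : π k f = π k g) (D : Fin 2 →₀ ℕ) (hD : D 0 = 0 ∨ D 1 = 0) :
    f.coeff D = g.coeff D := by
  classical
  obtain ⟨w, hw⟩ := Ideal.mem_span_singleton'.mp (Ideal.Quotient.eq.mp h)
  rw [← sub_eq_zero, ← coeff_sub, ← hw, ← mul_assoc, mul_comm, coeff_X_mul']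
  split_ifs with h1
  · rw [mul_comm, coeff_X_mul', if_neg]
    simp only [Finsupp.mem_support_iff] at h1 ⊢
    rcases hD with hD | hD
    · simp [Finsupp.single_apply, hD]
    · exact absurd hD h1
  · rfl

theorem eq_zero_of_coeff {f : P2 k} (h : ∀ D : Fin 2 →₀ ℕ, (D 0 = 0 ∨ D 1 = 0) → f.coeff D = 0) : π k f = 0 := by
  classical
  refine Ideal.Quotient.eq_zero_iff_mem.mpr ?_
  rw [f.as_sum]
  refine Ideal.sum_mem _ fun D hD => ?_
  have h' : 1 ≤ D 0 ∧ 1 ≤ D 1 := by
    by_contra hc
    exact (mem_support_iff.mp hD) (h D (by omega))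
  refine Ideal.mem_span_singleton'.mpr ⟨monomial (D - (Finsupp.single 0 1 + Finsupp.single 1 1)) (f.coeff D), ?_⟩
  rw [X, X, monomial_mul, monomial_mul, mul_one, mul_one, tsub_add_cancel_of_le]
  exact Finsupp.le_def.mpr fun t => by fin_cases t <;> simp <;> omega

end

open DeRham in

/-- Let k be a field of characteristic zero and A = k[X, Y]/(XY), the coordinate ring of two affine
lines crossing in a point. The differential d : A → Ω¹_{A/k} of the naive de Rham complex is not
surjective, so the naive H^1 of this singular curve does not vanish although one expects trivial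
cohomology; this is the example motivating the h-topology definition. -/
theorem result (k : Type u) [Field k] [CharZero k] :
    ¬ Function.Surjective (KaehlerDifferential.D k (MvPolynomial (Fin 2) k ⧸ Ideal.span {(MvPolynomial.X 0 * MvPolynomial.X 1 : MvPolynomial (Fin 2) k)})) := by
  classical
  intro hs
  obtain ⟨a, ha⟩ := hs (π k (X 1) • KaehlerDifferential.D k (Nd k) (π k (X 0)))
  obtain ⟨f, rfl⟩ := Ideal.Quotient.mk_surjective a
  have h := congrArg (δ k).liftKaehlerDifferential ha
  rw [map_smul, (δ k).liftKaehlerDifferential_comp_D, (δ k).liftKaehlerDifferential_comp_D] at h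
  rw [show Ideal.Quotient.mk _ f = π k f from rfl, δ_apply, δ_apply, ← Submodule.Quotient.mk_smul, Submodule.Quotient.eq,
    Submodule.mem_span_singleton] at h
  obtain ⟨c, hc⟩ := h
  obtain ⟨c, rfl⟩ := Ideal.Quotient.mk_surjective c
  simp only [Prod.smul_mk, Prod.mk_sub_mk, Prod.mk.injEq, smul_eq_mul, pderiv_X_self,
    pderiv_X_of_ne (show (0 : Fin 2) ≠ 1 by decide), map_one, map_zero, mul_one, mul_zero, sub_zero] at hc
  have h1 : π k (c * X 1) = π k (pderiv 0 f - X 1) := by rw [map_mul, map_sub]; exact hc.1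
  have h2 : π k (c * X 0) = π k (pderiv 1 f) := by rw [map_mul]; exact hc.2
  have e1 := coeff_eq_of_eq k h1 (Finsupp.single 1 1) (Or.inl (by simp))
  have e2 := coeff_eq_of_eq k h2 (Finsupp.single 0 1) (Or.inr (by simp))
  simp [coeff_mul_X', coeff_pderiv, coeff_X, add_comm] at e1 e2
  exact one_ne_zero (sub_eq_self.mp (e1.symm.trans e2))

end Groth.Agent.S19635
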