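import Groth.Statements.S19636
import Mathlib.Data.Finset.Sort
-- import your own Groth.Agent.* helpers here

set_option autoImplicit false
universe u
open DeRham

set_option backward.isDefEq.respectTransparency false
set_option maxHeartbeats 800000

namespace Groth.Agent.S19636

open exteriorPower

section

variable {k : Type u} [Field k] {A : Type u} [CommRing A] [Algebra k A]

/-- The form attached to a monomial of differentials of functions. -/
noncomputable def form {q : ℕ} (K : Ideal A) (a : A) (v : Fin q → A) : ↥(⋀[A ⧸ K]^q (Ω[(A ⧸ K)⁄k])) :=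
  DeRham.gen (KaehlerDifferential.D k (A ⧸ K)) q (Ideal.Quotient.mk K a) fun i => Ideal.Quotient.mk K (v i)

theorem form_eq_zero {q : ℕ} (K : Ideal A) (a : A) (v : Fin q → A) {i : Fin q} (h : v i ∈ K) :
    form (k := k) K a v = 0 := by
  rw [form, DeRham.gen, (ιMulti (A ⧸ K) q).map_coord_zero i (by
    rw [Ideal.Quotient.eq_zero_iff_mem.2 h, map_zero]), smul_zero]

/-- In top degree one monomial generates. -/
theorem exists_form {d q : ℕ} (t : Fin d → A) (b : Module.Basis (Fin d) A (Ω[A⁄k]))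
    (hb : ∀ i, b i = KaehlerDifferential.D k A (t i)) (K : Ideal A) (σ : Fin q → Fin d)
    (hσ : ∀ i, t i ∈ K ∨ i ∈ Set.range σ) (x : ↥(⋀[A ⧸ K]^q (Ω[(A ⧸ K)⁄k]))) :
    ∃ a : A, x = form (k := k) K a (fun i => t (σ i)) := by
  classical
  let δ := KaehlerDifferential.D k (A ⧸ K)
  let w : Fin q → Ω[(A ⧸ K)⁄k] := fun i => δ (Ideal.Quotient.mk K (t (σ i)))
  let P := Submodule.span (A ⧸ K) (Set.range w)
  have hmap : ∀ a : A, KaehlerDifferential.map k k A (A ⧸ K) (KaehlerDifferential.D k A a) =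
      δ (Ideal.Quotient.mk K a) := fun a => KaehlerDifferential.map_D _ _ _ _ a
  have ht : ∀ i, δ (Ideal.Quotient.mk K (t i)) ∈ P := fun i => by
    rcases hσ i with h | ⟨j, rfl⟩
    · rw [Ideal.Quotient.eq_zero_iff_mem.2 h, map_zero]
      exact P.zero_mem
    · exact Submodule.subset_span ⟨j, rfl⟩
  have hP : P = ⊤ := by
    refine top_le_iff.1 ((KaehlerDifferential.span_range_derivation k (A ⧸ K)).ge.trans (Submodule.span_le.2 ?_))
    rintro - ⟨c, rfl⟩
    obtain ⟨a, rfl⟩ := Ideal.Quotient.mk_surjective c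
    show δ (Ideal.Quotient.mk K a) ∈ P
    rw [← hmap a, ← b.sum_repr (KaehlerDifferential.D k A a), map_sum]
    refine P.sum_mem fun i _ => ?_
    rw [map_smul, hb, hmap, ← algebraMap_smul (A ⧸ K) (b.repr (KaehlerDifferential.D k A a) i)
      (δ (Ideal.Quotient.mk K (t i)))]
    exact P.smul_mem _ (ht i)
  have hx : x ∈ Submodule.span (A ⧸ K) {ιMulti (A ⧸ K) q w} := by
    have hx' : x ∈ Submodule.span (A ⧸ K) (ιMulti (A ⧸ K) q '' {v | Set.range v ⊆ Set.range w}) := by
      rw [ιMulti_span_of_span (A ⧸ K) q _ hP]; exact Submodule.mem_top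
    refine Submodule.span_le.2 ?_ hx'
    rintro - ⟨v, hv, rfl⟩
    choose f hf using fun i => hv ⟨i, rfl⟩
    obtain rfl : (fun i => w (f i)) = v := funext hf
    by_cases hinj : Function.Injective f
    · let π : Equiv.Perm (Fin q) := Equiv.ofBijective f ((Finite.injective_iff_bijective).1 hinj)
      rw [show (fun i => w (f i)) = w ∘ π from rfl, AlternatingMap.map_perm]
      exact Submodule.smul_of_tower_mem _ _ (Submodule.subset_span rfl)
    · obtain ⟨i, j, hij, hne⟩ := Function.not_injective_iff.1 hinj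
      rw [(ιMulti (A ⧸ K) q).map_eq_zero_of_eq (fun i => w (f i)) (show w (f i) = w (f j) by rw [hij]) hne]
      exact Submodule.zero_mem _
  obtain ⟨c, rfl⟩ := Submodule.mem_span_singleton.1 hx
  obtain ⟨a, rfl⟩ := Ideal.Quotient.mk_surjective c
  exact ⟨a, rfl⟩

variable (k) in
/-- Forms in top degree are in the image of the signed restriction maps. -/
theorem exists_solve {d n : ℕ} (t : Fin d → A) (e : Fin n ↪ Fin d) (b : Module.Basis (Fin d) A (Ω[A⁄k]))
    (hb : ∀ i, b i = KaehlerDifferential.D k A (t i)) (q : ℕ)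
    (ψ : ∀ (I J : Finset (Fin n)), ↥(⋀[(A ⧸ (⨆ i ∈ I, Ideal.span {t (e i)} : Ideal A))]^q (Ω[(A ⧸ (⨆ i ∈ I, Ideal.span {t (e i)} : Ideal A))⁄k])) →+ ↥(⋀[(A ⧸ (⨆ i ∈ J, Ideal.span {t (e i)} : Ideal A))]^q (Ω[(A ⧸ (⨆ i ∈ J, Ideal.span {t (e i)} : Ideal A))⁄k])))
    (hψ : ∀ (I J : Finset (Fin n)), I ⊆ J → ∀ (a : A) (v : Fin q → A),
      ψ I J (form (k := k) _ a v) = form (k := k) _ a v)
    (τ : ∀ (J : Finset (Fin n)), ↥(⋀[(A ⧸ (⨆ i ∈ J, Ideal.span {t (e i)} : Ideal A))]^q (Ω[(A ⧸ (⨆ i ∈ J, Ideal.span {t (e i)} : Ideal A))⁄k]))) :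
    ∃ η : ∀ (I : Finset (Fin n)), ↥(⋀[(A ⧸ (⨆ i ∈ I, Ideal.span {t (e i)} : Ideal A))]^q (Ω[(A ⧸ (⨆ i ∈ I, Ideal.span {t (e i)} : Ideal A))⁄k])),
      ∀ J : Finset (Fin n), J.Nonempty → J.card + q = d →
        ∑ j ∈ J.attach, ((-1 : ℤ) ^ (J.filter (fun i => i < j.1)).card) • ψ (J.erase j.1) J (η (J.erase j.1)) =
          τ J := by
  classical
  let T := {J : Finset (Fin n) // J.Nonempty ∧ J.card + q = d}
  have hc : ∀ J : T, ((J.1.map e)ᶜ : Finset (Fin d)).card = q := fun J => by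
    rw [Finset.card_compl, Finset.card_map, Fintype.card_fin]
    have := J.2.2; omega
  let σ : ∀ J : T, Fin q → Fin d := fun J => Finset.orderEmbOfFin _ (hc J)
  have hσ : ∀ (J : T) (i : Fin d), i ∈ Set.range (σ J) ↔ ∀ j ∈ J.1, e j ≠ i := fun J i => by
    show i ∈ Set.range (Finset.orderEmbOfFin _ (hc J)) ↔ _
    rw [Finset.range_orderEmbOfFin, Finset.mem_coe, Finset.mem_compl, Finset.mem_map]
    push_neg
    rfl
  have hex : ∀ J : T, ∃ a : A, τ J.1 = form (k := k) _ a (fun i => t (σ J i)) := fun J =>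
    exists_form t b hb _ (σ J) (fun i => by
      by_cases hi : ∃ j ∈ J.1, e j = i
      · obtain ⟨j, hj, rfl⟩ := hi
        exact Or.inl (Ideal.mem_iSup_of_mem j (Ideal.mem_iSup_of_mem hj (Ideal.mem_span_singleton_self _)))
      · push_neg at hi
        exact Or.inr ((hσ J i).2 hi)) (τ J.1)
  choose a ha using hex
  let sgn : ∀ (J : Finset (Fin n)), Fin n → ℤ := fun J j => (-1 : ℤ) ^ (J.filter (fun i => i < j)).card
  refine ⟨fun I => ∑ J ∈ (Finset.univ : Finset T).filter (fun J => J.1.erase (J.1.min' J.2.1) = I),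
    sgn J.1 (J.1.min' J.2.1) • form (k := k) _ (a J) (fun i => t (σ J i)), fun J' hne hcard => ?_⟩
  let J₀ : T := ⟨J', hne, hcard⟩
  let m := J'.min' hne
  have hval : ∀ j ∈ J', ψ (J'.erase j) J'
      (∑ J ∈ (Finset.univ : Finset T).filter (fun J => J.1.erase (J.1.min' J.2.1) = J'.erase j),
        sgn J.1 (J.1.min' J.2.1) • form (k := k) _ (a J) (fun i => t (σ J i))) =
      if j = m then sgn J' m • τ J' else 0 := by
    intro j hj
    rw [map_sum]
    simp only [map_zsmul, hψ _ _ (Finset.erase_subset j J')]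
    have hz : ∀ J : T, J ≠ J₀ → form (k := k) (⨆ i ∈ J', Ideal.span {t (e i)} : Ideal A) (a J) (fun i => t (σ J i)) = 0 := by
      intro J hJ
      have : ¬ J' ⊆ J.1 := fun hsub => hJ (Subtype.ext (Finset.eq_of_subset_of_card_le hsub (by
        have := J.2.2; omega)).symm)
      obtain ⟨i, hi, hiJ⟩ := Finset.not_subset.1 this
      obtain ⟨l, hl⟩ := (hσ J (e i)).2 fun j' hj' h => hiJ (e.injective h ▸ hj')
      refine form_eq_zero _ _ _ (i := l) ?_
      show t (σ J l) ∈ _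
      rw [hl]
      exact Ideal.mem_iSup_of_mem i (Ideal.mem_iSup_of_mem hi (Ideal.mem_span_singleton_self _))
    rw [Finset.sum_filter, Finset.sum_eq_single J₀ (fun J _ hJ => by rw [hz J hJ, smul_zero, ite_self])
      (fun h => absurd (Finset.mem_univ J₀) h)]
    by_cases hjm : j = m
    · subst hjm
      rw [if_pos rfl, if_pos rfl]
      exact congrArg _ (ha J₀).symm
    · rw [if_neg hjm, if_neg]
      intro h1
      have h2 : m ∈ J'.erase j := Finset.mem_erase.2 ⟨Ne.symm hjm, Finset.min'_mem _ _⟩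
      rw [← h1] at h2
      exact (Finset.mem_erase.1 h2).1 rfl
  rw [Finset.sum_eq_single (⟨m, Finset.min'_mem _ _⟩ : {x // x ∈ J'})]
  · rw [hval m (Finset.min'_mem _ _), if_pos rfl, smul_smul, ← pow_add, ← two_mul, pow_mul]
    norm_num
  · intro j _ hj
    rw [hval j.1 j.2, if_neg (fun h => hj (Subtype.ext h)), smul_zero]
  · exact fun h => absurd (Finset.mem_attach _ _) h

end


open exteriorPower in
/-- In the chart case, let k be a field of characteristic zero, A a smooth k-algebra with functions t_1,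
…, t_d whose differentials form a basis of Ω_{A/k}, D_1, …, D_n the coordinate hyperplanes t_{e(1)}
= 0, …, t_{e(n)} = 0 for an injection e (a simple normal crossings divisor D on X = Spec A), A_I =
A/(t_{e(i)} : i ∈ I) the coordinate ring of D_I = ⋂_{i∈I} D_i, ψ_{I,J} the maps of de Rham complexes
induced by A_I → A_J, and d_I the de Rham differential of A_I over k. Consider the double complex
with component Ω^q(A_I/k) in bidegree (I, q), horizontal Čech differential (alternating sum of the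
ψ_{J∖j,J}) and vertical differential (−1)^{|I|} d_I; its total complex computes the relative de Rham
cohomology of (X, D). Then every cochain ω of total degree d agrees, on all components with I
nonempty, with the total differential of some cochain η of degree d − 1; that is, modulo
coboundaries ω is concentrated on the component Ω^d(A_∅/k) = Ω^d(X), so every class in H^d_dR(X, D)
is represented by a d-form on X. (The source states this for a smooth affine variety of dimension d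
with a simple normal crossings divisor; the chart case with global coordinates is the one its proof
treats, and the double-complex description of H^d_dR(X, D) is taken as the setting.) -/
theorem result
    (k : Type u) [Field k] [CharZero k] (A : Type u) [CommRing A] [Algebra k A] [Algebra.Smooth k A]
    (d n : ℕ) (t : Fin d → A) (e : Fin n ↪ Fin d)
    (b : Module.Basis (Fin d) A (Ω[A⁄k])) (hb : ∀ i, b i = KaehlerDifferential.D k A (t i))
    (ψ : ∀ (I J : Finset (Fin n)) (p : ℕ), ↥(⋀[(A ⧸ (⨆ i ∈ I, Ideal.span {t (e i)} : Ideal A))]^p (Ω[(A ⧸ (⨆ i ∈ I, Ideal.span {t (e i)} : Ideal A))⁄k])) →+ ↥(⋀[(A ⧸ (⨆ i ∈ J, Ideal.span {t (e i)} : Ideal A))]^p (Ω[(A ⧸ (⨆ i ∈ J, Ideal.span {t (e i)} : Ideal A))⁄k])))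
    (hψ : ∀ (I J : Finset (Fin n)) (h : I ⊆ J),
      DeRham.IsCxMap (KaehlerDifferential.D k (A ⧸ (⨆ i ∈ I, Ideal.span {t (e i)} : Ideal A))) (KaehlerDifferential.D k (A ⧸ (⨆ i ∈ J, Ideal.span {t (e i)} : Ideal A)))
        (Ideal.Quotient.factor (biSup_mono h)) (ψ I J))
    (dq : ∀ (I : Finset (Fin n)) (p : ℕ), ↥(⋀[(A ⧸ (⨆ i ∈ I, Ideal.span {t (e i)} : Ideal A))]^p (Ω[(A ⧸ (⨆ i ∈ I, Ideal.span {t (e i)} : Ideal A))⁄k])) →ₗ[k] ↥(⋀[(A ⧸ (⨆ i ∈ I, Ideal.span {t (e i)} : Ideal A))]^(p + 1) (Ω[(A ⧸ (⨆ i ∈ I, Ideal.span {t (e i)} : Ideal A))⁄k])))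
    (hdq : ∀ I : Finset (Fin n), DeRham.IsDiff (KaehlerDifferential.D k (A ⧸ (⨆ i ∈ I, Ideal.span {t (e i)} : Ideal A))) (dq I))
    (ω : ∀ (J : Finset (Fin n)) (q : ℕ), ↥(⋀[(A ⧸ (⨆ i ∈ J, Ideal.span {t (e i)} : Ideal A))]^q (Ω[(A ⧸ (⨆ i ∈ J, Ideal.span {t (e i)} : Ideal A))⁄k]))) :
    ∃ η : ∀ (I : Finset (Fin n)) (q : ℕ), ↥(⋀[(A ⧸ (⨆ i ∈ I, Ideal.span {t (e i)} : Ideal A))]^q (Ω[(A ⧸ (⨆ i ∈ I, Ideal.span {t (e i)} : Ideal A))⁄k])),
      (∀ (J : Finset (Fin n)) (q : ℕ), J.Nonempty → J.card + (q + 1) = d →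
        ω J (q + 1) =
          (∑ j ∈ J.attach, ((-1 : ℤ) ^ (J.filter (fun i => i < j.1)).card) • ψ (J.erase j.1) J (q + 1) (η (J.erase j.1) (q + 1))) +
            ((-1 : ℤ) ^ J.card) • dq J q (η J q)) ∧
      (∀ J : Finset (Fin n), J.Nonempty → J.card = d →
        ω J 0 = ∑ j ∈ J.attach, ((-1 : ℤ) ^ (J.filter (fun i => i < j.1)).card) • ψ (J.erase j.1) J 0 (η (J.erase j.1) 0)) := by
  classical
  let K : Finset (Fin n) → Ideal A := fun I => ⨆ i ∈ I, Ideal.span {t (e i)}
  have hψ' : ∀ (q : ℕ) (I J : Finset (Fin n)), I ⊆ J → ∀ (a : A) (v : Fin q → A),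
      ψ I J q (form (k := k) (K I) a v) = form (k := k) (K J) a v := by
    intro q I J h a v
    refine (hψ I J h q _ _).trans ?_
    simp only [form, Ideal.Quotient.factor_mk]
    rfl
  have hs := fun (q : ℕ) => exists_solve k t e b hb q (fun I J => ψ I J q) (hψ' q)
  choose S hS using hs
  let η : ∀ (q : ℕ) (I : Finset (Fin n)), ↥(⋀[A ⧸ K I]^q (Ω[(A ⧸ K I)⁄k])) := fun q =>
    Nat.rec (motive := fun q => ∀ I : Finset (Fin n), ↥(⋀[A ⧸ K I]^q (Ω[(A ⧸ K I)⁄k])))
      (S 0 fun J => ω J 0)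
      (fun q prev => S (q + 1) fun J => ω J (q + 1) - ((-1 : ℤ) ^ J.card) • dq J q (prev J)) q
  refine ⟨fun I q => η q I, fun J q hne hc => ?_, fun J hne hc => ?_⟩
  · exact (eq_add_of_sub_eq (hS (q + 1) (fun J => ω J (q + 1) - ((-1 : ℤ) ^ J.card) • dq J q (η q J)) J hne hc).symm)
  · exact (hS 0 (fun J => ω J 0) J hne hc).symm

end Groth.Agent.S19636
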