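import Groth.Statements.S1964
import Groth.Agent.L05.Hensel.IntegralDomain

set_option autoImplicit false
universe u
open EtAlg

namespace Groth.Agent.S1964

/-- A domain B integral over a henselian local ring A is itself henselian local, and the structure map A
-> B is local; if the residue field of A is separably closed, so is that of B, and the residue field
extension is purely inseparable. -/
theorem result (A B : Type u) [CommRing A] [HenselianLocalRing A] [CommRing B]
    [IsDomain B] [Algebra A B] [Algebra.IsIntegral A B] :
    ∃ _ : HenselianLocalRing B, IsLocalHom (algebraMap A B) ∧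
      (IsSepClosed (IsLocalRing.ResidueField A) →
        IsSepClosed (IsLocalRing.ResidueField B) ∧
        ∀ _ : IsLocalHom (algebraMap A B),
          letI := (IsLocalRing.ResidueField.map (algebraMap A B)).toAlgebra
          IsPurelyInseparable (IsLocalRing.ResidueField A) (IsLocalRing.ResidueField B)) := by
  haveI := Groth.L05.isLocalRing_of_integral_domain (A := A) B
  have hloc : IsLocalHom (algebraMap A B) := by
    refine ((IsLocalRing.local_hom_TFAE (algebraMap A B)).out 0 4 rfl rfl).mpr ?_
    haveI := Ideal.isMaximal_comap_of_isIntegral_of_isMaximal (R := A) (IsLocalRing.maximalIdeal B)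
    exact IsLocalRing.eq_maximalIdeal inferInstance
  refine ⟨Groth.L05.henselianLocalRing_of_integral (A := A) B, hloc, fun _ => ?_⟩
  haveI := hloc
  letI := (IsLocalRing.ResidueField.map (algebraMap A B)).toAlgebra
  haveI : Algebra.IsAlgebraic (IsLocalRing.ResidueField A) (IsLocalRing.ResidueField B) := by
    refine ⟨fun y => IsIntegral.isAlgebraic ?_⟩
    obtain ⟨b, rfl⟩ := IsLocalRing.residue_surjective y
    obtain ⟨p, hp, hpb⟩ := Algebra.IsIntegral.isIntegral (R := A) b
    refine ⟨p.map (IsLocalRing.residue A), hp.map _, ?_⟩
    rw [Polynomial.eval₂_map]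
    have e : (algebraMap (IsLocalRing.ResidueField A) (IsLocalRing.ResidueField B)).comp
        (IsLocalRing.residue A) = (IsLocalRing.residue B).comp (algebraMap A B) :=
      RingHom.ext fun a => IsLocalRing.ResidueField.map_residue _ a
    rw [e, ← Polynomial.hom_eval₂, hpb, map_zero]
  exact ⟨Groth.L05.isSepClosed_of_algebraic (IsLocalRing.ResidueField A) _,
    fun _ => Groth.L05.isPurelyInseparable_of_isSepClosed_base _ _⟩

end Groth.Agent.S1964
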