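import Groth.Statements.S19649
import Groth.Agent.L14.GrFree.Basic
import Mathlib.RingTheory.MvPolynomial.WeightedHomogeneous

set_option autoImplicit false
universe u v
open Instab

namespace Groth.Agent.S19649

open MvPolynomial DirectSum in
/-- The case of a point, in graded-module form over an affine base. Let R be a commutative ring, n a
natural number, A = R[x_1, …, x_n] the polynomial ring graded by ℤ^n with x_i of degree the i-th
basis vector (the weight grading of the standard action of the n-dimensional split torus on affine
n-space), and P a finitely generated projective A-module carrying a compatible ℤ^n-grading (an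
equivariant vector bundle on affine n-space over Spec R). Then P is graded-free Zariski-locally on
Spec R: for every prime p of R there are r ∉ p and finitely many homogeneous elements f_1, …, f_m of
P such that, after inverting r, the f_i form an A-basis of P — every element of P multiplied by a
power of r is an A-linear combination of the f_i, and the coefficients of every A-linear relation
among the f_i are killed by a power of r. (This is the case of a point of the source's description
of filtered points of quotient stacks by the general linear group, whose argument the source gives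
in full: an equivariant vector bundle on affine n-space over a base is, locally on the base, the
standard one attached to a cocharacter; the general case, an identification of mapping stacks, is
not stated here.) -/
theorem result
    {R : Type u} [CommRing R] (n : ℕ)
    {P : Type v} [AddCommGroup P] [Module (MvPolynomial (Fin n) R) P] [Module R P]
    [IsScalarTower R (MvPolynomial (Fin n) R) P]
    (ℳ : (Fin n → ℤ) → Submodule R P) [DirectSum.Decomposition ℳ]
    [SetLike.GradedSMul (MvPolynomial.weightedHomogeneousSubmodule R (fun i : Fin n => (Pi.single i 1 : Fin n → ℤ))) ℳ]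
    [Module.Finite (MvPolynomial (Fin n) R) P] [Module.Projective (MvPolynomial (Fin n) R) P]
    (p : PrimeSpectrum R) :
    ∃ r : R, r ∉ p.asIdeal ∧ ∃ (m : ℕ) (d : Fin m → (Fin n → ℤ)) (f : Fin m → P), (∀ i, f i ∈ ℳ (d i)) ∧
      (∀ q : P, ∃ (N : ℕ) (c : Fin m → MvPolynomial (Fin n) R), (MvPolynomial.C r : MvPolynomial (Fin n) R) ^ N • q = ∑ i, c i • f i) ∧
      (∀ c : Fin m → MvPolynomial (Fin n) R, ∑ i, c i • f i = 0 →
        ∃ N : ℕ, ∀ i, (MvPolynomial.C r : MvPolynomial (Fin n) R) ^ N * c i = 0) := by
  classical
  let w : Fin n → (Fin n → ℤ) := fun i => (Pi.single i 1 : Fin n → ℤ)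
  letI : GradedAlgebra (MvPolynomial.weightedHomogeneousSubmodule R w) := MvPolynomial.weightedGradedAlgebra R w
  let m : Ideal (MvPolynomial (Fin n) R) := p.asIdeal.comap MvPolynomial.constantCoeff
  obtain ⟨N, wt, f, hf, H1, H2⟩ := Groth.L14.GrFree.exists_frame (MvPolynomial.weightedHomogeneousSubmodule R w) ℳ m
  obtain ⟨d, s, hs, hsm, h1, h2⟩ := Groth.L14.GrFree.exists_homogeneous_kill (MvPolynomial.weightedHomogeneousSubmodule R w) ℳ m hf H1 H2
  have hweight : ∀ (e : Fin n →₀ ℕ) (i : Fin n), Finsupp.weight w e i = (e i : ℤ) := by
    intro e i
    rw [Finsupp.weight_apply, Finsupp.sum_fintype _ _ (fun j => by simp), Finset.sum_apply]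
    simp [w, Pi.single_apply]
  have hs0 : MvPolynomial.constantCoeff s ∉ p.asIdeal := hsm
  have hd : d = 0 := by
    have h := hs (d := 0) (show MvPolynomial.coeff 0 s ≠ 0 from fun h => hs0 (by
      rw [MvPolynomial.constantCoeff_eq, h]; exact zero_mem _))
    rw [← h, map_zero]
  have hC : s = MvPolynomial.C (MvPolynomial.constantCoeff s) := by
    ext e
    rw [MvPolynomial.coeff_C]
    split_ifs with he
    · rw [← he, MvPolynomial.constantCoeff_eq]
    · by_contra hne
      have h := hs (d := e) hne
      refine he (Finsupp.ext fun i => ?_)
      have h' := hweight e i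
      rw [h, hd] at h'
      rw [Pi.zero_apply] at h'
      simp only [Finsupp.coe_zero, Pi.zero_apply]
      omega
  refine ⟨MvPolynomial.constantCoeff s, hs0, N, wt, f, hf, fun q => ⟨1, ?_⟩, fun c hc => ⟨1, fun i => ?_⟩⟩
  · rw [← hC, pow_one]; exact h1 q
  · rw [← hC, pow_one]; exact h2 c hc i

end Groth.Agent.S19649
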