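import Groth.Statements.S1965
import Mathlib.RingTheory.AdicCompletion.Basic
import Mathlib.Algebra.Polynomial.Taylor
import Mathlib.RingTheory.Ideal.MinimalPrime.Basic
import Mathlib.RingTheory.KrullDimension.LocalRing
import Mathlib.RingTheory.Noetherian.Basic

set_option autoImplicit false
universe u
open Polynomial
open EtAlg

namespace Groth.Agent.S1965

/-- Let A be a complete Noetherian local domain of Krull dimension 1 with maximal ideal m, P a
polynomial over A and α a root of P which is not a root of the derivative P'. Then for every c there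
is an n such that for every polynomial Q all of whose coefficients lie in m^n, the polynomial P + Q
has a root β with β - α in m^c. -/
theorem result (A : Type u) [CommRing A] [IsDomain A] [IsLocalRing A] [IsNoetherianRing A]
    [IsAdicComplete (IsLocalRing.maximalIdeal A) A] (hdim : ringKrullDim A = 1) (P : A[X]) (α : A)
    (hα : P.eval α = 0) (hα' : (derivative P).eval α ≠ 0) (c : ℕ) :
    ∃ n : ℕ, ∀ Q : A[X], (∀ i, Q.coeff i ∈ IsLocalRing.maximalIdeal A ^ n) →
      ∃ β : A, (P + Q).eval β = 0 ∧ β - α ∈ IsLocalRing.maximalIdeal A ^ c := by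
  classical
  set m := IsLocalRing.maximalIdeal A
  set d := (derivative P).eval α with hd
  obtain ⟨N, hN⟩ : ∃ N, m ^ N ≤ Ideal.span {d} := by
    have hmax := Ring.krullDimLE_one_iff_of_noZeroDivisors.mp (Ring.krullDimLE_iff.mpr (by rw [hdim]; exact le_rfl) : Ring.KrullDimLE 1 A)
    refine Ideal.exists_pow_le_of_le_radical_of_fg ?_ (IsNoetherian.noetherian m)
    rw [Ideal.radical_eq_sInf]
    refine le_sInf fun p ⟨hp, hp'⟩ => ?_
    haveI := hp'
    have hp0 : p ≠ ⊥ := fun h => hα' (by simpa [h, hd] using hp (Ideal.mem_span_singleton_self d))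
    exact (IsLocalRing.eq_maximalIdeal (hmax p hp0 hp')).ge
  refine ⟨N * 2 + (c + 1), fun Q hQ => ?_⟩
  have hev : ∀ R : A[X], (∀ i, R.coeff i ∈ m ^ (N * 2 + (c + 1))) → R.eval α ∈ m ^ (N * 2 + (c + 1)) :=
    fun R hR => by
      rw [eval_eq_sum_range]
      exact Submodule.sum_mem _ fun i _ => Ideal.mul_mem_right _ _ (hR i)
  have hsplit : ∀ x ∈ m ^ (N * 2 + (c + 1)), ∃ e ∈ m ^ (c + 1), d ^ 2 * e = x := fun x hx => by
    rw [← Ideal.mem_span_singleton_mul, ← Ideal.span_singleton_pow]
    rw [pow_add, pow_mul] at hx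
    exact Ideal.mul_mono_left (Ideal.pow_right_mono hN 2) hx
  obtain ⟨e, he, he'⟩ := hsplit _ (hev Q hQ)
  obtain ⟨w, hw, hw'⟩ := hsplit _ (hev (derivative Q) fun i => by
    rw [coeff_derivative]; exact Ideal.mul_mem_right _ _ (hQ (i + 1)))
  let S : A[X] := (taylor α (P + Q)).divX.divX
  have hexp : ∀ x, (P + Q).eval (α + x) = d ^ 2 * e + (d + d ^ 2 * w) * x + x ^ 2 * S.eval x := by
    intro x
    have h1 : (taylor α (P + Q)).eval x = (P + Q).eval (α + x) := by rw [taylor_eval, add_comm]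
    have h2 := congrArg (eval x) (X_mul_divX_add (taylor α (P + Q)))
    have h3 := congrArg (eval x) (X_mul_divX_add (taylor α (P + Q)).divX)
    simp only [eval_add, eval_mul, eval_X, eval_C, coeff_divX, taylor_coeff_zero, zero_add,
      taylor_coeff_one] at h2 h3
    rw [he', hw', ← h1, ← h2, ← h3]
    simp only [map_add, eval_add, ← hd, hα, zero_add, S]
    ring
  have hm1 : ∀ {x}, x ∈ m ^ (c + 1) → x ∈ m := fun hx => Ideal.pow_le_self (by omega) hx
  obtain ⟨u, hu⟩ : IsUnit (1 + d * w) := by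
    by_contra h
    exact (IsLocalRing.maximalIdeal.isMaximal A).ne_top ((Ideal.eq_top_iff_one _).mpr
      (by
        have h1 := m.sub_mem (show 1 + d * w ∈ m from h) (m.mul_mem_left d (hm1 hw))
        rwa [add_sub_cancel_right] at h1))
  let T : A → A := fun y => -↑u⁻¹ * (e + y ^ 2 * S.eval (d * y))
  have hT : ∀ y ∈ m ^ (c + 1), T y ∈ m ^ (c + 1) := fun y hy =>
    Ideal.mul_mem_left _ _ (add_mem he (Ideal.mul_mem_right _ _ (by rw [sq]; exact Ideal.mul_mem_left _ _ hy)))
  have hcon : ∀ k, ∀ a ∈ m ^ (c + 1), ∀ b ∈ m ^ (c + 1), a - b ∈ m ^ k → T a - T b ∈ m ^ (k + 1) := by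
    intro k a ha b hb hab
    obtain ⟨q, hq⟩ := sub_dvd_eval_sub (d * a) (d * b) S
    have : T a - T b = -↑u⁻¹ * (((a + b) * S.eval (d * a) + b ^ 2 * d * q) * (a - b)) := by
      simp only [T]; linear_combination -↑u⁻¹ * b ^ 2 * hq
    rw [this, pow_succ']
    refine Ideal.mul_mem_left _ _ (Ideal.mul_mem_mul (add_mem (m.mul_mem_right _ (add_mem (hm1 ha) (hm1 hb))) ?_) hab)
    exact m.mul_mem_right _ (m.mul_mem_right _ (by rw [sq]; exact m.mul_mem_left _ (hm1 hb)))
  let y : ℕ → A := fun k => T^[k] 0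
  have hys : ∀ k, y (k + 1) = T (y k) := fun k => Function.iterate_succ_apply' T k 0
  have hy : ∀ k, y k ∈ m ^ (c + 1) := fun k => by
    induction k with
    | zero => exact zero_mem _
    | succ k ih => rw [hys]; exact hT _ ih
  have hcauchy : ∀ k, y (k + 1) - y k ∈ m ^ k := fun k => by
    induction k with
    | zero => simp
    | succ k ih => rw [hys (k + 1), hys k] at *; exact hcon k _ (hT _ (hy k)) _ (hy k) ih
  have hle : ∀ {j k}, j ≤ k → y j ≡ y k [SMOD (m ^ j • ⊤ : Ideal A)] := fun {j k} hjk => by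
    induction hjk with
    | refl => exact SModEq.refl _
    | @step k hk ih =>
      refine ih.trans (SModEq.sub_mem.mpr ?_)
      rw [smul_eq_mul, Ideal.mul_top, ← neg_mem_iff, neg_sub]
      exact Ideal.pow_le_pow_right hk (hcauchy k)
  obtain ⟨z, hz⟩ := IsPrecomplete.prec ‹IsAdicComplete m A›.toIsPrecomplete hle
  have hz' : ∀ k, y k - z ∈ m ^ k := fun k => by simpa using SModEq.sub_mem.mp (hz k)
  have hzc : z ∈ m ^ (c + 1) := by
    simpa using sub_mem (hy (c + 1)) (hz' (c + 1))
  have hfix : T z = z := by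
    refine sub_eq_zero.mp (IsHausdorff.haus ‹IsAdicComplete m A›.toIsHausdorff _ fun k => ?_)
    rw [SModEq.zero, smul_eq_mul, Ideal.mul_top]
    rw [show T z - z = (T z - y (k + 1)) + (y (k + 1) - z) by ring, hys]
    exact add_mem (Ideal.pow_le_pow_right (Nat.le_succ k)
        (hcon k z hzc (y k) (hy k) (by simpa using neg_mem (hz' k))))
      (Ideal.pow_le_pow_right (Nat.le_succ k) (hys k ▸ hz' (k + 1)))
  refine ⟨α + d * z, ?_, ?_⟩
  · rw [hexp]
    simp only [T] at hfix
    have h1 : (1 + d * w) * z + (e + z ^ 2 * S.eval (d * z)) = 0 := by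
      rw [← hu]
      linear_combination -(↑u : A) * hfix - (e + z ^ 2 * S.eval (d * z)) * u.mul_inv
    linear_combination d ^ 2 * h1
  · rw [add_sub_cancel_left]
    exact Ideal.pow_le_pow_right (Nat.le_succ c) (Ideal.mul_mem_left _ _ hzc)

end Groth.Agent.S1965
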