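import Groth.Statements.S19653
import Groth.Agent.L07.Count.DVRProperConn
import Groth.Agent.L07.Count.Fibres

set_option autoImplicit false
set_option linter.style.haveILetI false
universe u
open AlgebraicGeometry CategoryTheory CategoryTheory.Limits
open EGA43

namespace Groth.Agent.S19653

/-- Let R be a discrete valuation ring and f : X → Spec R a flat, separated morphism of finite type
whose closed fibre is nonempty and proper over the residue field and whose generic fibre is
geometrically connected. Then f is proper, and its closed fibre is geometrically connected too. (The
published statement does not require the closed fibre to be nonempty; the affine line over the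
fraction field, viewed over R, has empty closed fibre and satisfies the other hypotheses without
being proper, and the published proof uses a point of the closed fibre, so nonemptiness is assumed
here.) -/
theorem result
    (R : Type u) [CommRing R] [IsDomain R] [IsDiscreteValuationRing R]
    (X : Scheme.{u}) (f : X ⟶ Spec (CommRingCat.of R))
    [Flat f] [IsSeparated f] [LocallyOfFiniteType f] [QuasiCompact f]
    [IsProper (f.fiberToSpecResidueField (IsLocalRing.closedPoint R))]
    [Nonempty ↥(f.fiber (IsLocalRing.closedPoint R))]
    [GeometricallyConnected (f.fiberToSpecResidueField (genericPoint ↥(Spec (CommRingCat.of R))))] :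
    IsProper f ∧ GeometricallyConnected (f.fiberToSpecResidueField (IsLocalRing.closedPoint R)) := by
  haveI : IsProper f := by
    obtain ⟨x⟩ := ‹Nonempty ↥(f.fiber (IsLocalRing.closedPoint R))›
    refine Groth.L07.Count.isProper_of_dvr f
      ⟨f.fiberι (IsLocalRing.closedPoint R) x, (f.range_fiberι (IsLocalRing.closedPoint R)).le ⟨x, rfl⟩⟩ fun η hη => ?_
    have e : η = genericPoint ↥(Spec (CommRingCat.of R)) :=
      PrimeSpectrum.ext (hη.trans (Groth.L07.Count.asIdeal_genericPoint R).symm)
    rw [e]
    exact ((Groth.L07.Count.geometricallyConnected_fiber_iff f _).mp ‹_›).le
  refine ⟨inferInstance, (Groth.L07.Count.geometricallyConnected_fiber_iff f _).mpr (le_antisymm ?_ ?_)⟩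
  · have h1 : genericPoint ↥(Spec (CommRingCat.of R)) ⤳ IsLocalRing.closedPoint R := genericPoint_specializes _
    refine (Groth.L07.Count.nGeomConnComp_le_of_specializes_proper f h1
      fun x _ => Groth.L07.Count.isUnivOpenAt_of_flat f x).trans ?_
    exact ((Groth.L07.Count.geometricallyConnected_fiber_iff f _).mp ‹_›).le
  · exact Groth.L07.Count.one_le_nGeomConnComp f _

end Groth.Agent.S19653
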