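import Groth.Agent.L18.RatPoint.Main
import Groth.Statements.S19654
-- import your own Groth.Agent.* helpers here

set_option autoImplicit false
universe u
open CategoryTheory CategoryTheory.Limits MonoidalCategory CartesianMonoidalCategory AlgebraicGeometry
open AbSch

namespace Groth.Agent.S19654

/-- Let S be a scheme and A an abelian scheme over S, that is an S-group scheme which is proper, smooth
and has geometrically connected fibres. Let T be a regular scheme (locally Noetherian with regular
local rings) with a morphism t : T → S, U a dense open subscheme of T and g : U → A a morphism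
compatible with the maps to S. Then there is a unique S-morphism T → A restricting to g on U; in
other words a rational S-map from a regular scheme to an abelian scheme is defined everywhere. -/
theorem result
    {S : Scheme.{u}} (A : Over S) [GrpObj A] [IsProper A.hom] [Smooth A.hom]
    [GeometricallyConnected A.hom]
    (T : Scheme.{u}) (t : T ⟶ S) [IsLocallyNoetherian T] (hT : Models.IsRegularScheme T)
    (U : T.Opens) (hU : Dense (U : Set T))
    (g : (U : Scheme.{u}) ⟶ A.left) (hg : g ≫ A.hom = U.ι ≫ t) :
    ∃! g' : T ⟶ A.left, g' ≫ A.hom = t ∧ U.ι ≫ g' = g := by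
  haveI : IsReduced T := Groth.L26.Weil.isReduced_of_regular_stalks hT
  haveI : GrpObj (Over.mk A.hom) := ‹GrpObj A›
  haveI : IsProper (Limits.pullback.snd A.hom t) := MorphismProperty.pullback_snd (P := @IsProper) _ _ inferInstance
  refine Groth.L26.Weil.existsUnique_extension t A.hom U hU g hg fun y => ?_
  haveI := hT y
  obtain ⟨W, h, hyW, hh, hh'⟩ := Groth.L18.RatPoint.exists_extension_at (Limits.pullback.snd A.hom t)
    ((Groth.L18.RatPoint.noRat_group A.hom).pullback t) U hU (Limits.pullback.lift g U.ι hg)
    (Limits.pullback.lift_snd _ _ _) y
  refine ⟨W, h ≫ Limits.pullback.fst A.hom t, hyW,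
    by rw [Category.assoc, Limits.pullback.condition, reassoc_of% hh], ?_⟩
  have h2 := congrArg (fun ψ => T.homOfLE (le_inf inf_le_right inf_le_left : U ⊓ W ≤ W ⊓ U) ≫ ψ ≫
    Limits.pullback.fst A.hom t) hh'
  simpa only [Category.assoc, Scheme.homOfLE_homOfLE_assoc, Limits.pullback.lift_fst] using h2

end Groth.Agent.S19654
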