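import Groth.Statements.S19655
import Groth.Agent.L26.Weil.Apply

set_option autoImplicit false
universe u
open CategoryTheory CategoryTheory.Limits MonoidalCategory CartesianMonoidalCategory AlgebraicGeometry
open Neron

namespace Groth.Agent.S19655

/-- Let R be a Dedekind domain with fraction field K, A an abelian variety over K (a proper smooth
geometrically connected K-group scheme) and N a Néron model of A over Spec R. Then for every smooth
R-scheme Y, every K-morphism to A defined on a dense open subscheme of the generic fibre of Y is the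
restriction of exactly one R-morphism Y → N: K-rational maps from smooth R-schemes to A extend
uniquely to the Néron model. (The text works over a connected Dedekind scheme; the affine case is
stated.) -/
theorem result
    (R : Type u) [CommRing R] [IsDedekindDomain R]
    (N : Over (Spec (CommRingCat.of R))) (A : Over (Spec (CommRingCat.of (FractionRing R))))
    (e : (Neron.genericFibre R).obj N ≅ A) (hN : Neron.IsNeronModelOf R N A e)
    [GrpObj A] [IsProper A.hom] [Smooth A.hom] [GeometricallyConnected A.hom]
    (Y : Over (Spec (CommRingCat.of R))) [Smooth Y.hom]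
    (W : ((Neron.genericFibre R).obj Y).left.Opens) (hW : Dense (W : Set ↥((Neron.genericFibre R).obj Y).left))
    (g : (W : Scheme.{u}) ⟶ A.left) (hg : g ≫ A.hom = W.ι ≫ ((Neron.genericFibre R).obj Y).hom) :
    ∃! h : Y ⟶ N, W.ι ≫ ((Neron.genericFibre R).map h ≫ e.hom).left = g := by
  let Z := (Neron.genericFibre R).obj Y
  haveI : Smooth Z.hom := MorphismProperty.pullback_snd Y.hom (Neron.genPt R) ‹Smooth Y.hom›
  haveI : GrpObj (Over.mk A.hom) := ‹GrpObj A›
  haveI : IsReduced Z.left := Groth.L26.Weil.isReduced_of_regular_stalks (Groth.L26.Weil.regular_stalk Z.hom)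
  haveI : Subsingleton ↥(Spec (CommRingCat.of (FractionRing R))) :=
    inferInstanceAs (Subsingleton (PrimeSpectrum (FractionRing R)))
  obtain ⟨G, ⟨hG1, hG2⟩, -⟩ := Groth.L26.Weil.existsUnique_of_proper (pX := Z.hom) (pG := A.hom)
    (Groth.L26.Weil.fibrewiseDense_of_dense hW) g hg
  obtain ⟨h, hh⟩ := (hN.2.2.2.2 Y ‹_›).2 (Over.homMk G hG1 : Z ⟶ A)
  have hh' : ((Neron.genericFibre R).map h ≫ e.hom).left = G :=
    congrArg (fun φ : Z ⟶ A => φ.left) hh
  refine ⟨h, (congrArg (W.ι ≫ ·) hh').trans hG2, fun h' hh1 => (hN.2.2.2.2 Y ‹_›).1 ?_⟩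
  apply Over.OverMorphism.ext
  refine Groth.L26.Weil.ext_dense A.hom ((Over.w _).trans (Over.w _).symm) hW ?_
  exact hh1.trans (((congrArg (W.ι ≫ ·) hh').trans hG2).symm)

end Groth.Agent.S19655
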