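import Groth.Statements.S19657
import Groth.Agent.L07.Count.DVRProperConn
import Groth.Agent.L07.SmoothFibre

set_option autoImplicit false
set_option linter.style.haveILetI false
universe u
open AlgebraicGeometry CategoryTheory CategoryTheory.Limits Topology
open EGA43

namespace Groth.Agent.S19657

/-- The implication from the weakest fibrewise condition to the global one. Let S be a locally
Noetherian scheme and f : X → S a surjective, flat, separated morphism, locally of finite
presentation and quasi-compact, whose fibres are all smooth and proper over the residue fields and
whose fibres over the maximal points of S (points without proper generization) are geometrically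
connected. Then f is proper and smooth with geometrically connected fibres. (The text states the
criterion over an arbitrary base, appealing to a limit argument it does not carry out, and without
the words separated and surjective, which its proof uses through the properness criterion it invokes
and which are both needed: an abelian variety over the fraction field of a discrete valuation ring,
viewed over the ring, is flat of finite presentation with smooth proper fibres, the closed one
empty, and is not proper; and two copies of the projective line over a discrete valuation ring glued
along their generic fibres form a flat, surjective, finitely presented scheme over the ring with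
smooth proper fibres and geometrically connected generic fibre which is neither separated nor
proper.) -/
theorem result
    {X S : Scheme.{u}} [IsLocallyNoetherian S] (f : X ⟶ S)
    [Surjective f] [Flat f] [IsSeparated f] [LocallyOfFinitePresentation f] [QuasiCompact f]
    (hsm : ∀ s : S, Smooth (f.fiberToSpecResidueField s))
    (hpr : ∀ s : S, IsProper (f.fiberToSpecResidueField s))
    (hgen : ∀ η : S, (∀ η' : S, η' ⤳ η → η' = η) → GeometricallyConnected (f.fiberToSpecResidueField η)) :
    IsProper f ∧ Smooth f ∧ GeometricallyConnected f := by
  haveI : LocallyOfFiniteType f := inferInstance
  haveI hne : ∀ s : S, Nonempty ↥(f.fiber s) := fun s => by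
    obtain ⟨x, hx⟩ := f.surjective s
    exact ⟨(show x ∈ Set.range (f.fiberι s) by rw [f.range_fiberι]; exact hx).choose⟩
  choose U hsU hU using fun s =>
    haveI := hne s
    Groth.L07.Count.exists_isProper_nhd_of_flat f (fun η hη _ => hgen η hη) s (hpr s)
  haveI : IsProper f := IsZariskiLocalAtTarget.of_iSup_eq_top (P := @IsProper) U
    (TopologicalSpace.Opens.ext (Set.eq_univ_of_forall fun s =>
      TopologicalSpace.Opens.mem_iSup.mpr ⟨s, hsU s⟩)) hU
  refine ⟨inferInstance, Groth.L07.SmoothFibre.smooth_of_fibres f hsm, ?_⟩
  rw [GeometricallyConnected.iff_geometricallyConnected_fiber]
  intro s
  haveI := hne s
  refine (Groth.L07.Count.geometricallyConnected_fiber_iff f s).mpr (le_antisymm ?_ (Groth.L07.Count.one_le_nGeomConnComp f s))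
  exact Groth.L07.Count.nGeomConnComp_le_one_of_proper f
    (fun η hη => ((Groth.L07.Count.geometricallyConnected_fiber_iff f η).mp (hgen η hη)).le) s

end Groth.Agent.S19657
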