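import Groth.Statements.S19658
import Groth.Agent.L26.Neron.Torsion
import Groth.Agent.L24.Hensel.Lift

set_option autoImplicit false
universe u
open CategoryTheory CategoryTheory.Limits MonoidalCategory CartesianMonoidalCategory AlgebraicGeometry
open Neron

namespace Groth.Agent.S19658

open CategoryTheory CategoryTheory.Limits MonoidalCategory CartesianMonoidalCategory MonObj

/-- The first display of the lemma, in the generality its argument gives. Let R be a henselian local
ring with residue field k, G a commutative group scheme over Spec R that is smooth, separated and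
quasi-compact, and N a natural number which is a unit in R. Then every k-valued point of G killed by
N lifts to exactly one R-valued point of G killed by N; that is, reduction G(R)[N] → G(k)[N] is a
bijection on N-torsion. (The text applies this to the Néron model of an abelian variety over a
henselian discrete valuation ring, where G(R) = A(K).) -/
theorem result
    (R : Type u) [CommRing R] [HenselianLocalRing R]
    (G : Over (Spec (CommRingCat.of R))) [GrpObj G] [IsCommMonObj G]
    [Smooth G.hom] [IsSeparated G.hom] [QuasiCompact G.hom]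
    (N : ℕ) (hN : IsUnit (N : R))
    (τ : Over.mk (Spec.map (CommRingCat.ofHom (IsLocalRing.residue R))) ⟶ G)
    (hτ : τ ∈ AbDual.torsPts G N (Over.mk (Spec.map (CommRingCat.ofHom (IsLocalRing.residue R))))) :
    ∃! σ : Over.mk (𝟙 (Spec (CommRingCat.of R))) ⟶ G,
      σ ∈ AbDual.torsPts G N (Over.mk (𝟙 (Spec (CommRingCat.of R)))) ∧
        Over.homMk (Spec.map (CommRingCat.ofHom (IsLocalRing.residue R))) (Category.comp_id _) ≫ σ = τ := by
  let S := Spec (CommRingCat.of R)
  let T₀ : Over S := Over.mk (Spec.map (CommRingCat.ofHom (IsLocalRing.residue R)))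
  let T : Over S := Over.mk (𝟙 S)
  let j : T₀ ⟶ T := Over.homMk (Spec.map (CommRingCat.ofHom (IsLocalRing.residue R))) (Category.comp_id _)
  have hn' : ∀ s : ↥(Spec (CommRingCat.of R)), (N : (Spec (CommRingCat.of R)).residueField s) ≠ 0 := by
    intro s
    have h := hN.map ((Scheme.ΓSpecIso (CommRingCat.of R)).inv ≫
      (Spec (CommRingCat.of R)).evaluation ⊤ s trivial).hom
    rw [map_natCast] at h
    exact h.ne_zero
  haveI : ConnectedSpace ↥T.left := by
    show ConnectedSpace (PrimeSpectrum R)
    refine connectedSpace_iff_clopen.2 ⟨inferInstance, fun U hU => ?_⟩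
    by_cases hc : IsLocalRing.closedPoint R ∈ U
    · exact Or.inr (Set.eq_univ_of_forall fun y =>
        (IsLocalRing.specializes_closedPoint y).mem_open hU.isOpen hc)
    · exact Or.inl (Set.eq_empty_of_forall_notMem fun y hy =>
        hc ((IsLocalRing.specializes_closedPoint y).mem_closed hU.isClosed hy))
  haveI : Nonempty ↥T₀.left :=
    inferInstanceAs (Nonempty (PrimeSpectrum (IsLocalRing.ResidueField R)))
  haveI := Groth.Agent.Neron.Torsion.etale_npow G N hn'
  have hτ' : τ ≫ (𝟙 G ^ N) = toUnit _ ≫ η[G] := by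
    rw [MonObj.comp_pow, Category.comp_id, ← Hom.one_def]
    exact hτ
  let Kf := pullback.fst (𝟙 G ^ N).left η[G].left
  let g : pullback (𝟙 G ^ N).left η[G].left ⟶ Spec (CommRingCat.of R) :=
    pullback.snd (𝟙 G ^ N).left η[G].left
  haveI : Etale g := inferInstanceAs (Etale (pullback.snd (𝟙 G ^ N).left η[G].left))
  have hτl : τ.left ≫ (𝟙 G ^ N).left = Spec.map (CommRingCat.ofHom (IsLocalRing.residue R)) ≫ η[G].left :=
    (congrArg CommaMorphism.left hτ').trans rfl
  haveI : HenselianRing R (IsLocalRing.maximalIdeal R) :=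
    Groth.L24.Hensel.henselianRing_of_ne_top (IsLocalRing.maximalIdeal.isMaximal R).ne_top
  obtain ⟨s, hs, hs₀⟩ := Groth.L24.Hensel.exists_section_of_smooth
    (IsLocalRing.maximalIdeal.isMaximal R).ne_top g
    (pullback.lift τ.left (Spec.map (CommRingCat.ofHom (IsLocalRing.residue R))) hτl)
    (pullback.lift_snd _ _ _)
  have hσw : (s ≫ Kf) ≫ G.hom = 𝟙 S := by
    have e : Kf ≫ G.hom = g := by
      have h0 : Kf ≫ (𝟙 G ^ N).left = g ≫ η[G].left := pullback.condition
      have h1 : Kf ≫ (𝟙 G ^ N).left ≫ G.hom = g ≫ η[G].left ≫ G.hom := by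
        rw [reassoc_of% h0]
      rw [Over.w, Over.w] at h1
      exact h1.trans (Category.comp_id g)
    rw [Category.assoc, e, hs]
  let σ : T ⟶ G := Over.homMk (s ≫ Kf) hσw
  have hσN : σ ^ N = 1 := by
    rw [show σ ^ N = σ ≫ (𝟙 G ^ N) from by rw [MonObj.comp_pow, Category.comp_id], Hom.one_def]
    ext1
    show (s ≫ Kf) ≫ (𝟙 G ^ N).left = (toUnit T).left ≫ η[G].left
    rw [Category.assoc, pullback.condition, ← Category.assoc]
    exact congrArg (· ≫ η[G].left) (hs.trans rfl)
  have hσj : j ≫ σ = τ := by
    ext1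
    show Spec.map (CommRingCat.ofHom (IsLocalRing.residue R)) ≫ s ≫ Kf = τ.left
    rw [← Category.assoc, show Spec.map (CommRingCat.ofHom (IsLocalRing.residue R)) ≫ s = _ from hs₀]
    exact pullback.lift_fst _ _ _
  refine ⟨σ, ⟨hσN, hσj⟩, fun σ' hσ' => ?_⟩
  exact Groth.Agent.Neron.Torsion.eq_of_torsion hn' σ' σ hσ'.1 hσN j (hσ'.2.trans hσj.symm)

end Groth.Agent.S19658
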