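import Groth.Statements.S19659
import Groth.Agent.L08.FlatHom
import Groth.Agent.L26.AV.SmoothField

set_option autoImplicit false
universe u
open CategoryTheory CategoryTheory.Limits MonoidalCategory CartesianMonoidalCategory MonObj GrpObj AlgebraicGeometry
open AbSch

namespace Groth.Agent.S19659

/-- Let S be a scheme, A and B abelian schemes over S (proper smooth S-group schemes with geometrically
connected fibres) and f : A → B a homomorphism. Then f is flat exactly when it is surjective. -/
theorem result
    {S : Scheme.{u}} (A B : Over S) [GrpObj A] [IsProper A.hom] [Smooth A.hom] [GeometricallyConnected A.hom]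
    [GrpObj B] [IsProper B.hom] [Smooth B.hom] [GeometricallyConnected B.hom]
    (f : A ⟶ B) [IsMonHom f] :
    Flat f.left ↔ Surjective f.left := by
  have hw : f.left ≫ B.hom = A.hom := Over.w f
  haveI : Smooth (f.left ≫ B.hom) := hw ▸ inferInstance
  haveI : IsProper (f.left ≫ B.hom) := hw ▸ inferInstance
  haveI : GeometricallyReduced B.hom := Groth.Agent.AV.geometricallyReduced_of_smooth B.hom
  refine ⟨fun hfl => ?_, fun _ => (Groth.L08.FlatHom.flat_of_surjective_fibres A B f).1⟩
  haveI : IsProper f.left := IsProper.of_comp f.left B.hom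
  haveI : LocallyOfFinitePresentation f.left := Groth.L20.locallyOfFinitePresentation_of_comp f.left B.hom
  haveI : UniversallyOpen f.left := UniversallyOpen.of_flat f.left
  refine ⟨fun y => ?_⟩
  obtain ⟨z, hz⟩ : y ∈ Set.range (B.hom.fiberι (B.hom y)) := by rw [Scheme.Hom.range_fiberι]; rfl
  have hU : IsClopen ((B.hom.fiberι (B.hom y)) ⁻¹' Set.range f.left) :=
    ⟨f.left.isClosedMap.isClosed_range.preimage (B.hom.fiberι _).continuous,
      f.left.isOpenMap.isOpen_range.preimage (B.hom.fiberι _).continuous⟩
  obtain ⟨z₀, hz₀⟩ : η[B].left (B.hom y) ∈ Set.range (B.hom.fiberι (B.hom y)) := by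
    rw [Scheme.Hom.range_fiberι]
    show (η[B].left ≫ B.hom) _ = _
    rw [Over.w η[B]]
    rfl
  have hne : ((B.hom.fiberι (B.hom y)) ⁻¹' Set.range f.left).Nonempty := ⟨z₀, η[A].left (B.hom y), by
    rw [hz₀, ← IsMonHom.one_hom f]
    rfl⟩
  have := hU.eq_univ hne
  rw [← hz]
  exact Set.eq_univ_iff_forall.1 this z

end Groth.Agent.S19659
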