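import Groth.Statements.S1966
import Groth.Agent.L05.Hensel.Uniq

set_option autoImplicit false
universe u
open EtAlg

namespace Groth.Agent.S1966

/-- Towers indexed by the natural numbers: let (A_k) be rings with surjective transition maps A_{k+1} ->
A_k whose kernels consist of nilpotent elements, and let A be a ring with compatible projections p_k
: A -> A_k identifying A with the set of compatible sequences (p is jointly injective and every
compatible sequence comes from an element of A). Then for every k the pair (A, ker p_k) is
henselian. -/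
theorem result (A : Type u) [CommRing A] (As : ℕ → Type u) [∀ k, CommRing (As k)]
    (t : ∀ k, As (k + 1) →+* As k) (ht : ∀ k, Function.Surjective (t k))
    (hnil : ∀ k (x : As (k + 1)), t k x = 0 → IsNilpotent x)
    (p : ∀ k, A →+* As k) (hp : ∀ k, (t k).comp (p (k + 1)) = p k)
    (hinj : ∀ a b : A, (∀ k, p k a = p k b) → a = b)
    (hsurj : ∀ x : ∀ k, As k, (∀ k, t k (x (k + 1)) = x k) → ∃ a : A, ∀ k, p k a = x k) (k : ℕ) :
    HenselianRing A (RingHom.ker (p k)) := by
  have hdesc : ∀ j a, t j (p (j + 1) a) = p j a := fun j a => RingHom.congr_fun (hp j) a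
  have hzero : ∀ a, p k a = 0 → ∀ j, IsNilpotent (p j a) := by
    intro a ha j
    rcases le_total k j with hkj | hkj
    · induction j, hkj using Nat.le_induction with
      | base => rw [ha]; exact IsNilpotent.zero
      | succ j _ ih =>
        obtain ⟨m, hm⟩ := ih
        have := hnil j (p (j + 1) a ^ m) (by rw [map_pow, hdesc, hm])
        obtain ⟨r, hr⟩ := this
        exact ⟨m * r, by rw [pow_mul, hr]⟩
    · suffices p j a = 0 by rw [this]; exact IsNilpotent.zero
      induction hkj using Nat.decreasingInduction with
      | self => exact ha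
      | of_succ i _ ih => rw [← hdesc, ih, map_zero]
  let I : ∀ j, Ideal (As j) := fun j => nilradical (As j)
  have hI : ∀ j, HenselianRing (As j) (I j) := fun j =>
    Groth.L05.henselianRing_of_nil _ fun x hx => hx
  have hle : ∀ j, (RingHom.ker (p k)).map (p j) ≤ I j := fun j =>
    Ideal.map_le_iff_le_comap.mpr fun a ha => hzero a ha j
  refine Groth.L05.henselianRing_of_gabberRoots ⟨?_, ?_⟩
  · intro x hx
    rw [Ideal.mem_jacobson_bot]
    intro y
    choose c hc using fun j => (Groth.L05.isUnit_of_sub_one_mem (hI j).jac (a := p j (x * y + 1))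
      (by rw [map_add, map_one, add_sub_cancel_right]
          exact hle j (Ideal.mem_map_of_mem _ ((RingHom.ker (p k)).mul_mem_right _ hx)))).exists_right_inv
    obtain ⟨a, ha⟩ := hsurj c fun j => by
      have h := congrArg (t j) (hc (j + 1))
      rw [map_mul, map_one, hdesc] at h
      exact (IsUnit.of_mul_eq_one _ (hc j)).mul_left_cancel (h.trans (hc j).symm)
    exact IsUnit.of_mul_eq_one a (hinj _ _ fun j => by rw [map_mul, ha, map_one, hc])
  · intro f n hn hf hmap
    have hmapj : ∀ j, (f.map (p j)).map (Ideal.Quotient.mk (I j)) =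
        Polynomial.X ^ n * (Polynomial.X - 1) := fun j => Groth.L05.map_eq_of_le (p j) (hle j) hmap
    choose α hα hroot using fun j =>
      (Groth.L05.gabberRoots_of_henselianRing (I j)).2 (f.map (p j)) n hn (hf.map _) (hmapj j)
    obtain ⟨a, ha⟩ := hsurj α fun j => by
      refine Groth.L05.gabber_root_unique (hI j).jac (hmapj j) (hα j) ?_ (hroot j) ?_
      · have h1 : IsNilpotent (α (j + 1) - 1) := hα (j + 1)
        have h2 := h1.map (t j)
        rwa [map_sub, map_one] at h2
      · have := (hroot (j + 1)).map (f := t j)
        rwa [Polynomial.map_map, hp] at this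
    refine ⟨a, ?_, ?_⟩
    · rw [RingHom.mem_ker, map_sub, map_one, ha, sub_eq_zero]
      have h := congrArg (Polynomial.map (Ideal.Quotient.lift (RingHom.ker (p k)) (p k) fun _ h => h)) hmap
      rw [Polynomial.map_map, Ideal.Quotient.lift_comp_mk] at h
      have h0 := hroot k
      rw [h] at h0
      simp at h0
      have hu : IsUnit (α k) := Groth.L05.isUnit_of_sub_one_mem (hI k).jac (hα k)
      exact sub_eq_zero.mp ((hu.pow n).mul_right_eq_zero.mp h0)
    · refine hinj _ _ fun j => ?_
      rw [map_zero, ← Polynomial.eval_map_apply, ha]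
      exact hroot j

end Groth.Agent.S1966
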