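import Groth.Statements.S1967
import Groth.Agent.L20.NormalWE
import Groth.Agent.L20.WeaklyEtaleStalk
import Mathlib.RingTheory.LocalRing.RingHom.Basic
import Mathlib.RingTheory.Ideal.Colon

set_option autoImplicit false
universe u
open TensorProduct
open EtAlg

namespace Groth.Agent.S1967

/-- If A is an integrally closed domain with fraction field K and B is weakly etale over A, then every
element of B ⊗_A K that is integral over B (via b ↦ b ⊗ 1) already comes from B. -/
theorem result (A : Type u) [CommRing A] [IsDomain A] [IsIntegrallyClosed A]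
    (K : Type u) [Field K] [Algebra A K] [IsFractionRing A K] (B : Type u) [CommRing B] [Algebra A B]
    [Algebra.WeaklyEtale A B] :
    IsIntegrallyClosedIn B (B ⊗[A] K) := by
  classical
  letI : Algebra B (B ⊗[A] K) := Algebra.TensorProduct.leftAlgebra
  let ι := algebraMap B (B ⊗[A] K)
  have hinj : Function.Injective ι :=
    Algebra.TensorProduct.includeLeft_injective (S := A) (IsFractionRing.injective A K)
  refine ⟨hinj, fun {z} => ⟨fun hz => ?_, ?_⟩⟩
  swap
  · rintro ⟨y, rfl⟩
    exact isIntegral_algebraMap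
  obtain ⟨r, d, hd, hz'⟩ : ∃ (r : B) (d : A), d ≠ 0 ∧ z * ι (algebraMap A B d) = ι r := by
    clear hz
    induction z using TensorProduct.induction_on with
    | zero => exact ⟨0, 1, one_ne_zero, by simp⟩
    | add x y hx hy =>
      obtain ⟨r, d, hd, hx⟩ := hx
      obtain ⟨r', d', hd', hy⟩ := hy
      refine ⟨r * algebraMap A B d' + r' * algebraMap A B d, d * d', mul_ne_zero hd hd', ?_⟩
      rw [map_mul, map_mul, map_add, map_mul, map_mul, ← hx, ← hy]
      ring
    | tmul b k =>
      obtain ⟨a, d, hd, rfl⟩ := IsFractionRing.div_surjective (A := A) k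
      have hd0 : algebraMap A K d ≠ 0 := fun h => nonZeroDivisors.ne_zero hd (IsFractionRing.injective A K (h.trans (map_zero _).symm))
      refine ⟨a • b, d, nonZeroDivisors.ne_zero hd, ?_⟩
      show (b ⊗ₜ[A] (algebraMap A K a / algebraMap A K d)) * ((algebraMap A B d) ⊗ₜ[A] (1 : K)) = (a • b) ⊗ₜ[A] (1 : K)
      rw [Algebra.TensorProduct.tmul_mul_tmul, mul_one, mul_comm b, ← Algebra.smul_def, TensorProduct.smul_tmul,
        TensorProduct.smul_tmul, Algebra.smul_def, Algebra.smul_def, mul_one, mul_div_cancel₀ _ hd0]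
  obtain ⟨P, hP, hPz⟩ := hz
  suffices hdvd : ∀ (q : Ideal B) [q.IsMaximal],
      algebraMap B (Localization.AtPrime q) (algebraMap A B d) ∣ algebraMap B _ r by
    have hmem : r ∈ Ideal.span ({algebraMap A B d} : Set B) := by
      by_contra hr
      obtain ⟨q, hq, hle⟩ := Ideal.exists_le_maximal ((Ideal.span ({algebraMap A B d} : Set B)).colon {r})
        (fun h => hr (by
          have h1 : (1 : B) ∈ (Ideal.span ({algebraMap A B d} : Set B)).colon {r} := h ▸ Submodule.mem_top
          rw [Submodule.mem_colon_singleton, one_smul] at h1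
          exact h1))
      obtain ⟨c, hc⟩ := hdvd q
      obtain ⟨y, s, rfl⟩ := IsLocalization.exists_mk'_eq q.primeCompl c
      rw [IsLocalization.mul_mk'_eq_mk'_of_mul, eq_comm, IsLocalization.mk'_eq_iff_eq_mul, ← map_mul,
        IsLocalization.eq_iff_exists q.primeCompl] at hc
      obtain ⟨t, ht⟩ := hc
      refine (q.primeCompl.mul_mem t.2 s.2) (hle ?_)
      rw [Submodule.mem_colon_singleton, smul_eq_mul, mul_assoc, mul_comm (s : B), ← ht, ← mul_assoc, mul_comm (t : B), mul_assoc]
      exact Ideal.mul_mem_right _ _ (Ideal.mem_span_singleton_self _)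
    obtain ⟨e, he⟩ := Ideal.mem_span_singleton.mp hmem
    have hu : IsUnit (ι (algebraMap A B d)) := by
      have : ι (algebraMap A B d) = Algebra.TensorProduct.includeRight (R := A) (A := B) (algebraMap A K d) := by
        show (algebraMap A B d) ⊗ₜ[A] (1 : K) = (1 : B) ⊗ₜ[A] algebraMap A K d
        rw [Algebra.algebraMap_eq_smul_one, Algebra.algebraMap_eq_smul_one, TensorProduct.tmul_smul, TensorProduct.smul_tmul']
      rw [this]
      exact (IsUnit.mk0 _ fun h => hd (IsFractionRing.injective A K (h.trans (map_zero _).symm))).map _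
    refine ⟨e, hu.mul_right_cancel ?_⟩
    rw [hz', he, map_mul, mul_comm]
  intro q _
  let p := q.comap (algebraMap A B)
  let Bq := Localization.AtPrime q
  haveI : q.LiesOver p := ⟨rfl⟩
  let φ : Localization.AtPrime p →+* Bq := Localization.localRingHom p q (algebraMap A B) rfl
  letI : Algebra (Localization.AtPrime p) Bq := φ.toAlgebra
  haveI : IsScalarTower A (Localization.AtPrime p) Bq := IsScalarTower.of_algebraMap_eq fun x => by
    rw [IsScalarTower.algebraMap_apply A B Bq]
    exact (Localization.localRingHom_to_map p q _ rfl x).symm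
  haveI : IsLocalHom (algebraMap (Localization.AtPrime p) Bq) := Localization.isLocalHom_localRingHom p q _ rfl
  haveI : Algebra.WeaklyEtale (Localization.AtPrime p) Bq :=
    Groth.L20.weaklyEtale_of_isLocalization (A := A) (B := B) p.primeCompl q.primeCompl _ _
  haveI : IsDomain (Localization.AtPrime p) :=
    IsLocalization.isDomain_localization p.primeCompl_le_nonZeroDivisors
  haveI : IsIntegrallyClosed (Localization.AtPrime p) :=
    isIntegrallyClosed_of_isLocalization _ p.primeCompl p.primeCompl_le_nonZeroDivisors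
  obtain ⟨_, _⟩ := Groth.L20.NormalWE.isNormal (Localization.AtPrime p) Bq
  haveI := Groth.L20.weaklyEtale_isLocalization (B := B) q.primeCompl Bq
  haveI : Algebra.WeaklyEtale A Bq := Algebra.WeaklyEtale.trans A B Bq
  have hd0 : algebraMap B Bq (algebraMap A B d) ≠ 0 := by
    rw [← IsScalarTower.algebraMap_apply A B Bq]
    intro h0
    have hsm : IsSMulRegular Bq d := Module.Flat.isSMulRegular_of_nonZeroDivisors (mem_nonZeroDivisors_of_ne_zero hd)
    exact one_ne_zero (hsm (show d • (1 : Bq) = d • (0 : Bq) by rw [Algebra.smul_def, h0]; simp))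
  let L := FractionRing Bq
  have hne : algebraMap Bq L (algebraMap B Bq (algebraMap A B d)) ≠ 0 := fun h =>
    hd0 (IsFractionRing.injective Bq L (h.trans (map_zero _).symm))
  have hu : IsUnit (algebraMap A L d) := by
    rw [IsScalarTower.algebraMap_apply A Bq L, IsScalarTower.algebraMap_apply A B Bq]
    exact isUnit_iff_ne_zero.mpr hne
  let g : K →ₐ[A] L := IsFractionRing.liftAlgHom (A := A) (g := Algebra.ofId A L) (by
    refine (injective_iff_map_eq_zero _).mpr fun a ha => ?_
    by_contra ha0
    have hsm : IsSMulRegular Bq a := Module.Flat.isSMulRegular_of_nonZeroDivisors (mem_nonZeroDivisors_of_ne_zero ha0)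
    have h0 : algebraMap A Bq a = 0 := IsFractionRing.injective Bq L (by
      rw [← IsScalarTower.algebraMap_apply, map_zero]; exact ha)
    exact one_ne_zero (hsm (show a • (1 : Bq) = a • (0 : Bq) by rw [Algebra.smul_def, h0]; simp)))
  let ψ : B ⊗[A] K →ₐ[B] L := Algebra.TensorProduct.lift (Algebra.ofId B L) g fun _ _ => Commute.all _ _
  have hψ : ∀ x, ψ (ι x) = algebraMap B L x := fun x => ψ.commutes x
  have hint : IsIntegral Bq (ψ z) := (IsIntegral.map ψ ⟨P, hP, hPz⟩).tower_top
  obtain ⟨c, hc⟩ := IsIntegrallyClosed.isIntegral_iff.mp hint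
  refine ⟨c, IsFractionRing.injective Bq L ?_⟩
  have := congrArg ψ hz'
  rw [map_mul, hψ, hψ, ← hc, IsScalarTower.algebraMap_apply B Bq L, IsScalarTower.algebraMap_apply B Bq L] at this
  rw [map_mul, mul_comm, this]

end Groth.Agent.S1967
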