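import Groth.Statements.S19673
import Groth.Agent.L03.AdjLin.Ext
import Groth.Agent.L03.SurfAdj.Embed
import Groth.Agent.L16.SecComp.Smooth
import Mathlib.GroupTheory.CosetCover

set_option autoImplicit false
set_option linter.style.haveILetI false
universe u
open CategoryTheory CategoryTheory.Limits AlgebraicGeometry
open AdjLin
open Groth.L03.AdjLin

namespace Groth.Agent.S19673

/-- Let k be an algebraically closed field of characteristic zero and X a smooth projective surface over
k (irreducible, proper, smooth of dimension 2, with an ample invertible module); let M be an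
invertible O_X-module and Z ⊆ X a finite set of closed points, viewed as a reduced finite subscheme
with ideal sheaf I_Z (the vanishing ideal of the closed set Z), regarded as an O_X-module. Then the
following are equivalent: (a) there is a short exact sequence 0 → M → F → I_Z → 0 of O_X-modules
with F finite locally free (an extension class of I_Z by M whose middle term is a vector bundle; in
the source the extensions are of L ⊗ I_Z by O_X, here tensored with M = L⁻¹); (b) for every proper
subset Z' of Z, the empty one included, with vanishing ideal I_{Z'} ⊇ I_Z and φ : I_Z → I_{Z'} the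
inclusion (the map commuting with the two inclusions into O_X), the map Ext¹(I_{Z'}, M) → Ext¹(I_Z,
M) given by precomposition with φ is not surjective. Ext groups are taken in the category of all
O_X-modules (the Ext instance is the stated hypothesis; it holds). -/
theorem result (k : Type u) [Field k]
    [IsAlgClosed k] [CharZero k]
    (X : Scheme.{u}) [X.Over (Spec (CommRingCat.of k))] [IsProper (X ↘ (Spec (CommRingCat.of k)))]
    [Smooth (X ↘ (Spec (CommRingCat.of k)))] [IrreducibleSpace X] (hdim : topologicalKrullDim X = 2)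
    (H : X.Modules) (hH : CohB1.IsAmple H)
    (M : X.Modules) (hM : PicF.IsInvertible M)
    (Z : Finset X) (hZc : IsClosed ((Z : Set X))) (hZ : ∀ z ∈ Z, IsClosed ({z} : Set X))
    [HasExt.{u} X.Modules] :
    (∃ (F : X.Modules) (a : M ⟶ F)
        (b : F ⟶ ClSub.idealMod (Scheme.IdealSheafData.vanishingIdeal ⟨(Z : Set X), hZc⟩)) (w : a ≫ b = 0),
        (ShortComplex.mk a b w).ShortExact ∧ FlatMod.IsFinLocFree F) ↔
      ∀ (Z' : Finset X) (hZ'c : IsClosed ((Z' : Set X))), Z' ⊂ Z →
        ∀ φ : ClSub.idealMod (Scheme.IdealSheafData.vanishingIdeal ⟨(Z : Set X), hZc⟩) ⟶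
            ClSub.idealMod (Scheme.IdealSheafData.vanishingIdeal ⟨(Z' : Set X), hZ'c⟩),
          φ ≫ ClSub.idealModι (Scheme.IdealSheafData.vanishingIdeal ⟨(Z' : Set X), hZ'c⟩) =
              ClSub.idealModι (Scheme.IdealSheafData.vanishingIdeal ⟨(Z : Set X), hZc⟩) →
            ¬ Function.Surjective ((Abelian.Ext.mk₀ φ).precomp M (zero_add 1)) := by
  classical
  haveI : IsReduced X := Groth.L16.SecComp.isReduced_of_smooth (X ↘ Spec (CommRingCat.of k))
  haveI : IsIntegral X := isIntegral_of_irreducibleSpace_of_isReduced X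
  haveI := Groth.L21.RR.isNoetherian_of_proper (X := X) k
  haveI := Groth.L00.Tensor.grothendieckAbelian_modules X
  have s := surf_of_smooth k hdim
  obtain ⟨n, ι, hι, -⟩ := Groth.L03.SurfAdj.exists_proj k hH
  haveI := hι
  let IZ := Scheme.IdealSheafData.vanishingIdeal (⟨(Z : Set X), hZc⟩ : TopologicalSpace.Closeds X)
  have hsupp : (IZ.support : Set X) = Z := Scheme.IdealSheafData.coe_support_vanishingIdeal _
  have hfin : (IZ.support : Set X).Finite := hsupp ▸ Z.finite_toSet
  constructor
  · rintro ⟨F, a, b, w, hex, hF⟩ Z' hZ'c hlt φ hφ hsurj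
    obtain ⟨e', he'⟩ := hsurj hex.extClass
    obtain ⟨F', a', b', w', hex', hcl⟩ := Groth.L12.DefoSh.exists_extension e'
    subst hcl
    obtain ⟨g, hag, hgb⟩ := exists_hom_of_extClass hex hex' φ he'
    refine not_isFinLocFree_of_larger s hM hfin hex hex' φ g (fun heq => hlt.ne ?_) hφ hag hgb hF
    have h := congrArg (fun I : X.IdealSheafData => (I.support : Set X)) heq
    simp only [Scheme.IdealSheafData.coe_support_vanishingIdeal, IZ] at h
    exact Finset.coe_injective h.symm
  · intro hb
    have hcl : ∀ S : Finset X, S ⊆ Z → IsClosed (S : Set X) := fun S hS => by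
      rw [← Set.biUnion_of_singleton (S : Set X)]
      exact S.finite_toSet.isClosed_biUnion fun y hy => hZ y (hS hy)
    let J : X → X.IdealSheafData := fun z =>
      Scheme.IdealSheafData.vanishingIdeal ⟨((Z.erase z : Finset X) : Set X), hcl _ (Z.erase_subset z)⟩
    have hle : ∀ z, IZ ≤ J z := fun z => Scheme.IdealSheafData.le_support_iff_le_vanishingIdeal.1 (by
      show ((Z.erase z : Finset X) : Set X) ⊆ (IZ.support : Set X)
      rw [hsupp]
      exact Finset.coe_subset.2 (Z.erase_subset z))
    choose ψ hψ using fun z => exists_fac (hle z)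
    let W : X → Submodule k (CategoryTheory.Abelian.Ext (ClSub.idealMod IZ) M 1) := fun z =>
      LinearMap.range (CategoryTheory.Abelian.Ext.precompOfLinear (CategoryTheory.Abelian.Ext.mk₀ (ψ z)) k M (zero_add 1))
    have hW : (⊤ : Submodule k (CategoryTheory.Abelian.Ext (ClSub.idealMod IZ) M 1)) ∉ Z.image W := fun htop => by
      obtain ⟨z, hz, he⟩ := Finset.mem_image.1 htop
      exact hb (Z.erase z) (hcl _ (Z.erase_subset z)) (Finset.erase_ssubset hz) (ψ z) (hψ z)
        (LinearMap.range_eq_top.1 he)
    obtain ⟨e, he⟩ := (Set.ne_univ_iff_exists_notMem _).1 (Subspace.biUnion_ne_univ_of_top_notMem hW)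
    obtain ⟨F, a, b, w, hex, hcle⟩ := Groth.L12.DefoSh.exists_extension e
    refine ⟨F, a, b, w, hex, by_contra fun hnot => ?_⟩
    obtain ⟨I', F', a', b', w', φ, g, hlt, hex', hφ, hag, hgb⟩ := exists_larger s ι hM hfin hex hnot
    obtain ⟨z, hz, hzI⟩ : ∃ z ∈ Z, z ∉ I'.support := by
      by_contra hc
      push Not at hc
      exact hlt.not_ge (Scheme.IdealSheafData.le_support_iff_le_vanishingIdeal.1 fun x hx => hc x hx)
    have hJ : J z ≤ I' := vanishingIdeal_le_of_le hZc Z.finite_toSet hZ (hcl _ (Z.erase_subset z)) hlt.le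
      (fun x hx hxI => Finset.mem_coe.2 (Finset.mem_erase.2 ⟨fun h => hzI (h ▸ hxI), hx⟩))
      (Finset.coe_subset.2 (Z.erase_subset z))
    obtain ⟨χ, hχ⟩ := exists_fac hJ
    have hfac : ψ z ≫ χ = φ := by
      haveI : Mono (ClSub.idealModι I') := inferInstanceAs (Mono (kernel.ι _))
      rw [← cancel_mono (ClSub.idealModι I'), Category.assoc, hχ, hψ, hφ]
    refine he (Set.mem_iUnion₂.2 ⟨W z, Finset.mem_image_of_mem W hz,
      (CategoryTheory.Abelian.Ext.mk₀ χ).comp hex'.extClass (zero_add 1), ?_⟩)
    show (CategoryTheory.Abelian.Ext.mk₀ (ψ z)).comp ((CategoryTheory.Abelian.Ext.mk₀ χ).comp hex'.extClass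
      (zero_add 1)) (zero_add 1) = e
    rw [← CategoryTheory.Abelian.Ext.comp_assoc_of_second_deg_zero, CategoryTheory.Abelian.Ext.mk₀_comp_mk₀,
      hfac, extClass_of_hom hex hex' φ g hag hgb, hcle]

end Groth.Agent.S19673
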