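import Groth.Statements.S19674
import Groth.Agent.L21.NodalExt.Main
-- import your own Groth.Agent.* helpers here

set_option autoImplicit false
set_option backward.isDefEq.respectTransparency false
universe u
open CategoryTheory CategoryTheory.Limits AlgebraicGeometry
open CurvSt

namespace Groth.Agent.S19674

/-- Let k be an algebraically closed field and (X, x_1, …, x_n) an n-pointed prestable curve of genus g
over k — X proper over k, connected, of dimension one, with at-worst-nodal singularities and dim
H^1(X, O_X) = g, the x_i pairwise distinct closed points each having an open neighbourhood smooth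
over k. Let I be the vanishing ideal sheaf of the closed set {x_1, …, x_n} (a reduced effective
divisor in the smooth locus), L an O_X-module with L ⊗ I ≅ O_X (so L = O_X(x_1 + ⋯ + x_n)), and Ω(Σ
x_i) = Ω_{X/k} ⊗ L the twisted sheaf of differentials. Then, with Ext groups computed in the
category of all O_X-modules (the Ext instance is the stated hypothesis; it holds) and dimensions
over k, dim Ext¹(Ω(Σ x_i), O_X) − dim Ext⁰(Ω(Σ x_i), O_X) = 3g − 3 + n as integers, and Ext²(Ω(Σ
x_i), O_X) vanishes. (The published statement also interprets these groups as first-order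
deformations and infinitesimal automorphisms of the pointed curve; only the dimension count and the
vanishing are stated here.) -/
theorem result (k : Type u) [Field k] [IsAlgClosed k]
    (X : Scheme.{u}) [X.Over (Spec (CommRingCat.of k))] [IsProper (X ↘ Spec (CommRingCat.of k))] [ConnectedSpace X]
    (hdim : topologicalKrullDim X = 1) (g n : ℕ) (hX : Curv2.AtWorstNodal k X ∧ Curv2.genus k X = g)
    (x : Fin n → X) (hx : Function.Injective x)
    (hxs : ∀ i, IsClosed ({x i} : Set X) ∧ ∃ U : X.Opens, x i ∈ U ∧ Smooth (U.ι ≫ (X ↘ Spec (CommRingCat.of k))))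
    (hD : IsClosed (Set.range x)) (L : X.Modules)
    (hL : ClSub.IsInverseOf L (ClSub.idealMod (Scheme.IdealSheafData.vanishingIdeal ⟨Set.range x, hD⟩)))
    [HasExt.{u} X.Modules] :
    (Module.finrank k (Abelian.Ext (CohB1.tensorMod (Omega.sheaf (X ↘ Spec (CommRingCat.of k))) L)
        (Coh.structureModule X) 1) : ℤ) -
      Module.finrank k (Abelian.Ext (CohB1.tensorMod (Omega.sheaf (X ↘ Spec (CommRingCat.of k))) L)
        (Coh.structureModule X) 0) = 3 * (g : ℤ) - 3 + n ∧
    Subsingleton (Abelian.Ext (CohB1.tensorMod (Omega.sheaf (X ↘ Spec (CommRingCat.of k))) L)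
        (Coh.structureModule X) 2) := by
  obtain ⟨h1, h2⟩ := Groth.L21.NodalExt.ext_twisted_omega (k := k) hdim hX.1 hD (Set.finite_range x)
    (by rintro _ ⟨i, rfl⟩; exact (hxs i).1) hL
  refine ⟨?_, h2⟩
  rw [h1, hX.2, Nat.card_range_of_injective hx, Nat.card_fin]

end Groth.Agent.S19674
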