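import Groth.Statements.S19679
import Groth.Agent.L27.Torsor.Cov
import Mathlib.AlgebraicGeometry.Sites.Fpqc

set_option autoImplicit false
set_option backward.isDefEq.respectTransparency.types false
set_option backward.isDefEq.respectTransparency false
set_option linter.style.haveILetI false
universe u
open CategoryTheory MonoidalCategory CartesianMonoidalCategory MonObj AlgebraicGeometry
open ChGrp

namespace Groth.Agent.S19679

/-- Let k be an algebraically closed field of characteristic zero, G and H affine group schemes of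
finite type over k (algebraic groups) with i : H → G a homomorphism which is a closed immersion, and
Z a reduced affine k-scheme of finite type (an affine variety) with an action of H. Let Y, with its
G-action and j : G × Z → Y, be the balanced product G ×^H Z for the fppf topology: j is
G-equivariant for left translation on the first factor, it is a torsor for the twisted H-action
h·(g, z) = (g i(h)⁻¹, h·z), and it has sections fppf-locally on Y. If π_Z : Z → P is a categorical
quotient of Z by H and π_Y : Y → Q a categorical quotient of Y by G, then the projection G × Z → Z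
induces an isomorphism Q ≅ P, inverse to the morphism induced by the H-invariant map z ↦ π_Y(j(e,
z)): there are mutually inverse φ : P → Q and χ : Q → P with π_Z followed by φ equal to z ↦ π_Y(j(e,
z)) and j followed by π_Y and χ equal to the projection followed by π_Z (so Y//G ≅ Z//H). (The
source assumes G and H reductive and defines G ×^H Z as the quotient (G × Z)//H, a principal
H-bundle; here the quotients are part of the data, the balanced product is taken in its torsor form,
and reductivity is not needed.) -/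
theorem result
    (k : Type u) [Field k] [IsAlgClosed k] [CharZero k]
    (G H Z Y P Q : Over (Spec (CommRingCat.of k))) [GrpObj G] [GrpObj H]
    [IsAffine G.left] [LocallyOfFiniteType G.hom] [IsAffine H.left] [LocallyOfFiniteType H.hom]
    (i : H ⟶ G) [IsMonHom i] [IsClosedImmersion i.left]
    [IsAffine Z.left] [LocallyOfFiniteType Z.hom] [IsReduced Z.left]
    (aZ : AlgGrp.Action H Z) (aY : AlgGrp.Action G Y) (j : G ⊗ Z ⟶ Y)
    (hY : ChGrp.IsBalProd Scheme.fppfPrecoverage i aZ aY j)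
    (πZ : Z ⟶ P) (hP : GIT.IsCatQuot aZ πZ) (πY : Y ⟶ Q) (hQ : GIT.IsCatQuot aY πY) :
    ∃ (φ : P ⟶ Q) (χ : Q ⟶ P), φ ≫ χ = 𝟙 P ∧ χ ≫ φ = 𝟙 Q ∧
      πZ ≫ φ = lift (toUnit Z ≫ η[G]) (𝟙 Z) ≫ j ≫ πY ∧ j ≫ πY ≫ χ = snd G Z ≫ πZ := by
  obtain ⟨hequiv, hsq, R, hR, hsec⟩ := hY
  have hcov : Groth.L27.Torsor.Cov j := Groth.L27.Torsor.cov_of_locallyTrivial j
    ⟨R, Scheme.fppfPrecoverage_le_fpqcPrecoverage _ hR, hsec⟩
  obtain ⟨hPi, hPu⟩ := hP
  obtain ⟨hQi, hQu⟩ := hQ
  set e := lift (toUnit Z ≫ η[G]) (𝟙 Z) with he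
  have hej : ∀ {T : Over (Spec (CommRingCat.of k))} (z : T ⟶ Z), z ≫ e = lift (1 : T ⟶ G) z := fun {T} z => by
    rw [he, comp_lift, Category.comp_id, ← Category.assoc, toUnit_unique (z ≫ toUnit Z) (toUnit T), Hom.one_def]
  have hG : ∀ {T : Over (Spec (CommRingCat.of k))} (g g' : T ⟶ G) (z : T ⟶ Z),
      lift g (lift g' z ≫ j) ≫ aY.act = lift (g * g') z ≫ j := by
    intro T g g' z
    have h := lift g (lift g' z) ≫= hequiv
    rw [← Category.assoc, AlgGrp.Action.lift_prod_act, AlgGrp.Action.lift_trivial_act, lift_whiskerLeft_assoc] at h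
    rw [← h]
    congr 2
  have hH : ∀ {T : Over (Spec (CommRingCat.of k))} (h : T ⟶ H) (g : T ⟶ G) (z : T ⟶ Z),
      lift (g * (h ≫ i)⁻¹) (lift h z ≫ aZ.act) ≫ j = lift g z ≫ j := by
    intro T h g z
    have := lift h (lift g z) ≫= hsq.w
    rwa [← Category.assoc, ChGrp.lift_twist_act, lift_snd_assoc] at this
  have hψ : GIT.IsInvariant aZ (e ≫ j ≫ πY) := by
    apply AlgGrp.Action.hom_ext_lift₂
    intro T h z
    rw [lift_snd_assoc, ← Category.assoc (lift h z) aZ.act, ← Category.assoc (lift h z ≫ aZ.act) e, hej,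
      ← Category.assoc z e, hej]
    have h1 := hG (h ≫ i)⁻¹ (1 : T ⟶ G) (lift h z ≫ aZ.act)
    have h2 := hH h (1 : T ⟶ G) z
    rw [_root_.one_mul] at h2
    rw [_root_.mul_one, h2] at h1
    have h3 := lift (h ≫ i)⁻¹ (lift (1 : T ⟶ G) (lift h z ≫ aZ.act) ≫ j) ≫= hQi
    rw [reassoc_of% h1, lift_snd_assoc] at h3
    simp only [Category.assoc] at h3
    exact h3.symm
  obtain ⟨φ, hφ, -⟩ := hPu Q _ hψ
  obtain ⟨χ₀, hχ₀⟩ := Groth.L27.Torsor.descend hcov (snd G Z ≫ πZ) fun T m₁ m₂ hm => by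
    obtain ⟨n, rfl, rfl⟩ := hsq.exists_lift m₁ m₂ hm
    have e1 : n ≫ (ChGrp.twist i aZ).act ≫ snd G Z = lift (n ≫ fst H (G ⊗ Z)) (n ≫ snd H (G ⊗ Z) ≫ snd G Z) ≫ aZ.act := by
      conv_lhs => rw [show n = lift (n ≫ fst H (G ⊗ Z))
        (lift (n ≫ snd H (G ⊗ Z) ≫ fst G Z) (n ≫ snd H (G ⊗ Z) ≫ snd G Z)) by ext <;> simp]
      rw [← Category.assoc, ChGrp.lift_twist_act, lift_snd]
    simp only [Category.assoc]
    rw [reassoc_of% e1]
    have := lift (n ≫ fst H (G ⊗ Z)) (n ≫ snd H (G ⊗ Z) ≫ snd G Z) ≫= hPi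
    rw [lift_snd_assoc] at this
    simpa only [Category.assoc] using this
  have hχi : GIT.IsInvariant aY χ₀ := by
    apply Groth.L27.Torsor.cancel (Groth.L27.Torsor.Cov.whiskerLeft G hcov)
    apply AlgGrp.Action.hom_ext_lift₂
    intro T g m
    obtain ⟨g', z, rfl⟩ : ∃ (g' : T ⟶ G) (z : T ⟶ Z), m = lift g' z :=
      ⟨m ≫ fst G Z, m ≫ snd G Z, by rw [← comp_lift, lift_fst_snd, Category.comp_id]⟩
    rw [lift_whiskerLeft_assoc, lift_whiskerLeft_assoc, lift_snd_assoc, ← Category.assoc (lift g _) aY.act, hG,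
      Category.assoc, Category.assoc, hχ₀, lift_snd_assoc, lift_snd_assoc]
  obtain ⟨χ, hχ, -⟩ := hQu P χ₀ hχi
  refine ⟨φ, χ, ?_, ?_, hφ, ?_⟩
  · obtain ⟨u, -, hu⟩ := hPu P πZ hPi
    refine (hu _ ?_).trans (hu _ (Category.comp_id _)).symm
    show πZ ≫ φ ≫ χ = πZ
    rw [← Category.assoc, hφ]
    simp only [Category.assoc]
    rw [hχ, hχ₀, ← Category.assoc, he, lift_snd, Category.id_comp]
  · obtain ⟨u, -, hu⟩ := hQu Q πY hQi
    refine (hu _ ?_).trans (hu _ (Category.comp_id _)).symm
    show πY ≫ χ ≫ φ = πY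
    apply Groth.L27.Torsor.cancel hcov
    rw [← Category.assoc πY, hχ, ← Category.assoc j, hχ₀, Category.assoc, hφ]
    apply AlgGrp.Action.hom_ext_lift₂
    intro T g z
    rw [lift_snd_assoc, ← Category.assoc z e, hej]
    have h1 := hG g (1 : T ⟶ G) z
    rw [_root_.mul_one] at h1
    have h3 := lift g (lift (1 : T ⟶ G) z ≫ j) ≫= hQi
    rw [reassoc_of% h1, lift_snd_assoc] at h3
    simp only [Category.assoc] at h3
    exact h3.symm
  · rw [hχ, hχ₀]

end Groth.Agent.S19679
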