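import Groth.Statements.S19681
import Mathlib.AlgebraicGeometry.Sites.Fpqc
import Mathlib.CategoryTheory.Limits.Preserves.Shapes.Pullbacks

set_option autoImplicit false
set_option backward.isDefEq.respectTransparency.types false
set_option backward.isDefEq.respectTransparency false
set_option linter.style.haveILetI false
universe u
open CategoryTheory MonoidalCategory CartesianMonoidalCategory MonObj AlgebraicGeometry
open ChGrp

namespace Groth.Agent.S19681

/-- Let k be an algebraically closed field of characteristic zero, G and H affine group schemes of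
finite type over k with i : H → G a homomorphism which is a closed immersion, and Z a reduced affine
k-scheme of finite type with an action of H. Let Y, with its G-action and j : G × Z → Y, be the
balanced product G ×^H Z for the fppf topology (j is G-equivariant for left translation on the first
factor, a torsor for the twisted H-action h·(g, z) = (g i(h)⁻¹, h·z), with sections fppf-locally on
Y). Let c : Y' → Y be a closed immersion from a reduced scheme Y' with a G-action making c
equivariant (a closed G-invariant subvariety of Y). Then Y' is again a balanced product: there are a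
closed immersion c' : Z' → Z, an H-action on Z' for which c' is equivariant (a closed H-invariant
subscheme of Z), and a morphism j' : G × Z' → Y' with j' followed by c equal to G × c' followed by
j, such that j' makes Y' the balanced product G ×^H Z' for the fppf topology. (The source assumes G
and H reductive and defines G ×^H Z as the quotient (G × Z)//H, a principal H-bundle; here the
balanced product is taken in its torsor form and reductivity is not needed.) -/
theorem result
    (k : Type u) [Field k] [IsAlgClosed k] [CharZero k]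
    (G H Z Y Y' : Over (Spec (CommRingCat.of k))) [GrpObj G] [GrpObj H]
    [IsAffine G.left] [LocallyOfFiniteType G.hom] [IsAffine H.left] [LocallyOfFiniteType H.hom]
    (i : H ⟶ G) [IsMonHom i] [IsClosedImmersion i.left]
    [IsAffine Z.left] [LocallyOfFiniteType Z.hom] [IsReduced Z.left]
    (aZ : AlgGrp.Action H Z) (aY : AlgGrp.Action G Y) (j : G ⊗ Z ⟶ Y)
    (hY : ChGrp.IsBalProd Scheme.fppfPrecoverage i aZ aY j)
    (c : Y' ⟶ Y) [IsClosedImmersion c.left] [IsReduced Y'.left]
    (aY' : AlgGrp.Action G Y') (hc : AlgGrp.Action.IsEquivariant aY' aY c) :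
    ∃ (Z' : Over (Spec (CommRingCat.of k))) (c' : Z' ⟶ Z) (aZ' : AlgGrp.Action H Z') (j' : G ⊗ Z' ⟶ Y'),
      IsClosedImmersion c'.left ∧ AlgGrp.Action.IsEquivariant aZ' aZ c' ∧
      j' ≫ c = (G ◁ c') ≫ j ∧ ChGrp.IsBalProd Scheme.fppfPrecoverage i aZ' aY' j' := by
  obtain ⟨hequiv, hsq, R, hR, hsec⟩ := hY
  haveI : Mono c := Over.mono_of_mono_left c
  set e := lift (toUnit Z ≫ η[G]) (𝟙 Z) ≫ j with he
  have hej : ∀ {T : Over (Spec (CommRingCat.of k))} (z : T ⟶ Z), z ≫ e = lift (1 : T ⟶ G) z ≫ j := fun {T} z => by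
    rw [he, comp_lift_assoc, Category.comp_id, ← Category.assoc, toUnit_unique (z ≫ toUnit Z) (toUnit T), Hom.one_def]
  have hG : ∀ {T : Over (Spec (CommRingCat.of k))} (g g' : T ⟶ G) (z : T ⟶ Z),
      lift g (lift g' z ≫ j) ≫ aY.act = lift (g * g') z ≫ j := by
    intro T g g' z
    have h := lift g (lift g' z) ≫= hequiv
    rw [← Category.assoc, AlgGrp.Action.lift_prod_act, AlgGrp.Action.lift_trivial_act, lift_whiskerLeft_assoc] at h
    rw [← h]
    congr 2
  have hH : ∀ {T : Over (Spec (CommRingCat.of k))} (h : T ⟶ H) (g : T ⟶ G) (z : T ⟶ Z),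
      lift (g * (h ≫ i)⁻¹) (lift h z ≫ aZ.act) ≫ j = lift g z ≫ j := by
    intro T h g z
    have := lift h (lift g z) ≫= hsq.w
    rwa [← Category.assoc, ChGrp.lift_twist_act, lift_snd_assoc] at this
  have heH : ∀ {T : Over (Spec (CommRingCat.of k))} (h : T ⟶ H) (z : T ⟶ Z),
      (lift h z ≫ aZ.act) ≫ e = lift (h ≫ i) (z ≫ e) ≫ aY.act := by
    intro T h z
    rw [hej, hej, hG, _root_.mul_one, ← hH h (h ≫ i) z, mul_inv_cancel]
  have hge : ∀ {T : Over (Spec (CommRingCat.of k))} (g : T ⟶ G) (z : T ⟶ Z),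
      lift g (z ≫ e) ≫ aY.act = lift g z ≫ j := by
    intro T g z
    rw [hej, hG, _root_.mul_one]
  have hcY : ∀ {T : Over (Spec (CommRingCat.of k))} (g : T ⟶ G) (y : T ⟶ Y'),
      (lift g y ≫ aY'.act) ≫ c = lift g (y ≫ c) ≫ aY.act := by
    intro T g y
    rw [Category.assoc, hc, lift_whiskerLeft_assoc]
  let Z' := Limits.pullback e c
  let c' : Z' ⟶ Z := Limits.pullback.fst e c
  let p : Z' ⟶ Y' := Limits.pullback.snd e c
  have hw : c' ≫ e = p ≫ c := Limits.pullback.condition
  haveI : Mono c' := inferInstance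
  haveI : IsClosedImmersion c'.left :=
    MorphismProperty.of_isPullback ((IsPullback.of_hasPullback e c).map (Over.forget _)).flip ‹IsClosedImmersion c.left›
  let act' : H ⊗ Z' ⟶ Z' := Limits.pullback.lift ((H ◁ c') ≫ aZ.act) (lift (fst H Z' ≫ i) (snd H Z' ≫ p) ≫ aY'.act) (by
    rw [hcY, Category.assoc (snd H Z') p c, ← hw, show (H ◁ c') = lift (fst H Z') (snd H Z' ≫ c') by ext <;> simp, heH,
      Category.assoc])
  have hact' : act' ≫ c' = (H ◁ c') ≫ aZ.act := Limits.pullback.lift_fst _ _ _
  let aZ' : AlgGrp.Action H Z' :=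
    { act := act'
      one_act := by
        rw [← cancel_mono c', Category.assoc, hact', ← whisker_exchange_assoc, aZ.one_act, leftUnitor_naturality]
      mul_act := by
        simp only [← cancel_mono c', Category.assoc, hact']
        rw [← MonoidalCategory.whiskerLeft_comp_assoc, hact', MonoidalCategory.whiskerLeft_comp_assoc,
          ← whisker_exchange_assoc, aZ.mul_act, tensor_whiskerLeft]
        simp only [Category.assoc, Iso.inv_hom_id_assoc] }
  obtain ⟨j', hj'def⟩ : ∃ j' : G ⊗ Z' ⟶ Y', j' = (G ◁ p) ≫ aY'.act := ⟨_, rfl⟩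
  have hj'pt : ∀ {T : Over (Spec (CommRingCat.of k))} (g : T ⟶ G) (z : T ⟶ Z'),
      lift g z ≫ j' = lift g (z ≫ p) ≫ aY'.act := fun g z => by rw [hj'def, lift_whiskerLeft_assoc]
  have hj' : j' ≫ c = (G ◁ c') ≫ j := by
    apply AlgGrp.Action.hom_ext_lift₂
    intro T g z
    rw [← Category.assoc, hj'pt, hcY, Category.assoc z p c, ← hw, ← Category.assoc z, hge, lift_whiskerLeft_assoc]
  haveI : Mono (G ◁ c') := ⟨fun {T} m₁ m₂ h => by
    apply CartesianMonoidalCategory.hom_ext
    · have := h =≫ fst G Z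
      simpa using this
    · rw [← cancel_mono c']
      have := h =≫ snd G Z
      simpa using this⟩
  have hbase : IsPullback (G ◁ c') j' j c := by
    refine IsPullback.of_isLimit' ⟨hj'.symm⟩ (Limits.PullbackCone.IsLimit.mk _ (fun s =>
      lift (s.fst ≫ fst G Z) (Limits.pullback.lift (s.fst ≫ snd G Z) (lift (s.fst ≫ fst G Z)⁻¹ s.snd ≫ aY'.act) ?_))
      (fun s => ?_) (fun s => ?_) (fun s m h₁ h₂ => ?_))
    · rw [hcY, ← s.condition]
      have hs : s.fst ≫ j = lift (s.fst ≫ fst G Z) (s.fst ≫ snd G Z) ≫ j := by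
        rw [← comp_lift, lift_fst_snd, Category.comp_id]
      rw [hs, hG, inv_mul_cancel, hej]
    · rw [lift_whiskerLeft, Limits.pullback.lift_fst, ← comp_lift, lift_fst_snd, Category.comp_id]
    · rw [hj'pt, Limits.pullback.lift_snd, ← AlgGrp.Action.lift_mul_act, mul_inv_cancel, AlgGrp.Action.lift_one_act]
    · rw [← cancel_mono (G ◁ c'), h₁, lift_whiskerLeft, Limits.pullback.lift_fst, ← comp_lift, lift_fst_snd,
        Category.comp_id]
  refine ⟨Z', c', aZ', j', ‹_›, hact', hj', ?_, ?_, ?_⟩
  · show _ = (G ◁ j') ≫ aY'.act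
    apply AlgGrp.Action.hom_ext_lift₂
    intro T g m
    obtain ⟨g', z, rfl⟩ : ∃ (g' : T ⟶ G) (z : T ⟶ Z'), m = lift g' z :=
      ⟨m ≫ fst G Z', m ≫ snd G Z', by rw [← comp_lift, lift_fst_snd, Category.comp_id]⟩
    rw [← Category.assoc, AlgGrp.Action.lift_prod_act, AlgGrp.Action.lift_trivial_act, lift_whiskerLeft_assoc,
      hj'pt, hj'pt, ← AlgGrp.Action.lift_mul_act]
    congr 2
  · have htw : (ChGrp.twist i aZ').act ≫ (G ◁ c') = (H ◁ (G ◁ c')) ≫ (ChGrp.twist i aZ).act := by
      apply AlgGrp.Action.hom_ext_lift₂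
      intro T h m
      obtain ⟨g, z, rfl⟩ : ∃ (g : T ⟶ G) (z : T ⟶ Z'), m = lift g z :=
        ⟨m ≫ fst G Z', m ≫ snd G Z', by rw [← comp_lift, lift_fst_snd, Category.comp_id]⟩
      rw [← Category.assoc, ChGrp.lift_twist_act, lift_whiskerLeft, lift_whiskerLeft_assoc, lift_whiskerLeft,
        ChGrp.lift_twist_act]
      congr 1
      rw [Category.assoc]
      show lift h z ≫ act' ≫ c' = _
      rw [hact', lift_whiskerLeft_assoc]
    refine IsPullback.of_isLimit' ⟨?_⟩ ?_
    · rw [← cancel_mono c, Category.assoc, Category.assoc, hj', reassoc_of% htw, hsq.w, whiskerLeft_snd_assoc]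
    refine Limits.PullbackCone.IsLimit.mk _ (fun s => lift (hsq.lift (s.fst ≫ (G ◁ c')) (s.snd ≫ (G ◁ c')) ?_ ≫ fst H (G ⊗ Z)) s.snd)
      (fun s => ?_) (fun s => lift_snd _ _) (fun s m h₁ h₂ => ?_)
    · rw [Category.assoc, Category.assoc, ← hj', ← Category.assoc, s.condition, Category.assoc]
    · rw [← cancel_mono (G ◁ c'), Category.assoc, htw, lift_whiskerLeft_assoc]
      set n := hsq.lift (s.fst ≫ (G ◁ c')) (s.snd ≫ (G ◁ c')) _
      have e1 : lift (n ≫ fst H (G ⊗ Z)) (s.snd ≫ (G ◁ c')) = n := by
        apply CartesianMonoidalCategory.hom_ext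
        · rw [lift_fst]
        · rw [lift_snd, hsq.lift_snd]
      rw [e1, hsq.lift_fst]
    · apply CartesianMonoidalCategory.hom_ext
      · rw [lift_fst]
        have e2 : m ≫ (H ◁ (G ◁ c')) = hsq.lift (s.fst ≫ (G ◁ c')) (s.snd ≫ (G ◁ c')) (by
            rw [Category.assoc, Category.assoc, ← hj', ← Category.assoc, s.condition, Category.assoc]) := by
          apply hsq.hom_ext
          · rw [hsq.lift_fst, Category.assoc, ← htw, ← Category.assoc, h₁]
          · rw [hsq.lift_snd, Category.assoc, whiskerLeft_snd, ← Category.assoc, h₂]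
        rw [← e2, Category.assoc, whiskerLeft_fst]
      · rw [lift_snd, h₂]
  · obtain ⟨ι', W, f, rfl⟩ := R.exists_eq_ofArrows
    refine ⟨Presieve.ofArrows (fun a => Limits.pullback c.left (f a)) (fun a => Limits.pullback.fst c.left (f a)),
      Precoverage.mem_coverings_of_isPullback f hR c.left _ (fun a => Limits.pullback.snd c.left (f a))
        (fun a => IsPullback.of_hasPullback c.left (f a)), ?_⟩
    rintro S' _ ⟨a⟩
    obtain ⟨s, hs⟩ := hsec (f a) ⟨a⟩
    have hb : IsPullback (G ◁ c').left j'.left j.left c.left := hbase.map (Over.forget _)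
    exact ⟨hb.lift (Limits.pullback.snd c.left (f a) ≫ s) (Limits.pullback.fst c.left (f a))
      (by rw [Category.assoc]; exact (congrArg (_ ≫ ·) hs).trans Limits.pullback.condition.symm),
      hb.lift_snd _ _ _⟩

end Groth.Agent.S19681
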