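import Groth.Statements.S19686
import Groth.Agent.L26.AbSch.Bilinear
import Groth.Agent.L26.AbSch.BiextRigid

set_option autoImplicit false
universe u
open CategoryTheory CategoryTheory.Limits MonoidalCategory CartesianMonoidalCategory MonObj AlgebraicGeometry
open AbSch

namespace Groth.Agent.S19686

open CategoryTheory.CartesianMonoidalCategory MonoidalCategory MonObj Opposite

/-- Let S be a scheme and A₁, A₂, A₃ abelian S-schemes (smooth, proper, connected fibres). Then the
category of biextensions of (A₁, A₂) by A₃ is rigid: for every biextension B of (A₁, A₂) by A₃,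
formed with the sheaves of points on the big fppf site of all S-schemes, the only endomorphism of B
inducing the identity on A₁, A₂ and A₃ is the identity (equivalently, there is no non-zero
biadditive morphism from A₁ × A₂ to A₃). The source also asserts that every such biextension is
trivial; that assertion is not part of this statement. -/
theorem result {S : Scheme.{u}} (A₁ A₂ A₃ : Over S)
    [GrpObj A₁] [IsCommMonObj A₁] [Smooth A₁.hom] [IsProper A₁.hom]
    (hA₁ : ∀ s : S, ConnectedSpace ↥(A₁.hom.fiber s))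
    [GrpObj A₂] [IsCommMonObj A₂] [Smooth A₂.hom] [IsProper A₂.hom]
    (hA₂ : ∀ s : S, ConnectedSpace ↥(A₂.hom.fiber s))
    [GrpObj A₃] [IsCommMonObj A₃] [Smooth A₃.hom] [IsProper A₃.hom]
    (hA₃ : ∀ s : S, ConnectedSpace ↥(A₃.hom.fiber s))
    (B : Biext (QuotSh.J Scheme.fppfPrecoverage S) (CGrpSh.pts Scheme.fppfPrecoverage A₁) (CGrpSh.pts Scheme.fppfPrecoverage A₂) (CGrpSh.pts Scheme.fppfPrecoverage A₃))
    (f : Biext.Hom (QuotSh.J Scheme.fppfPrecoverage S) B B) : f = Biext.HomOver.id (QuotSh.J Scheme.fppfPrecoverage S) B := by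
  haveI := Groth.Agent.AbSchHom.geometricallyConnected_of_fibres A₂ hA₂
  let p : (CGrpSh.pts Scheme.fppfPrecoverage A₁).obj.obj (op (A₁ ⊗ A₂)) := ULift.up (Additive.ofMul (fst A₁ A₂))
  let q : (CGrpSh.pts Scheme.fppfPrecoverage A₂).obj.obj (op (A₁ ⊗ A₂)) := ULift.up (Additive.ofMul (snd A₁ A₂))
  obtain ⟨b, hb⟩ := Groth.Agent.BiextRigid.exists_pairing f p q
  have hax : ∀ {U : Over S} (r : U ⟶ A₁ ⊗ A₂), (r ≫ fst A₁ A₂ = 1 ∨ r ≫ snd A₁ A₂ = 1) →
      r ≫ b.down.toMul = 1 := by
    intro U r h
    obtain ⟨R, hR, hx⟩ := B.locallySurjective U ((CGrpSh.pts Scheme.fppfPrecoverage A₁).obj.map r.op p)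
      ((CGrpSh.pts Scheme.fppfPrecoverage A₂).obj.map r.op q)
    suffices h0 : (CGrpSh.pts Scheme.fppfPrecoverage A₃).obj.map r.op b = 0 by
      exact congrArg (fun z => z.down.toMul) h0
    refine Groth.Agent.BiextRigid.eq_of_locally hR _ _ fun U' s hs => ?_
    obtain ⟨x, hxp, hxq⟩ := hx s hs
    rw [map_zero, ← ConcreteCategory.comp_apply, ← Functor.map_comp, ← op_comp]
    rw [hb (s ≫ r) x
      (by rw [hxp, ← ConcreteCategory.comp_apply, ← Functor.map_comp, ← op_comp])
      (by rw [hxq, ← ConcreteCategory.comp_apply, ← Functor.map_comp, ← op_comp])]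
    rcases h with h | h
    · refine Groth.Agent.BiextRigid.dev_eq_zero_of_left f x ?_
      rw [hxp]
      apply ULift.ext
      show Additive.ofMul (s ≫ r ≫ fst A₁ A₂) = 0
      rw [h, MonObj.comp_one]
      rfl
    · refine Groth.Agent.BiextRigid.dev_eq_zero_of_right f x ?_
      rw [hxq]
      apply ULift.ext
      show Additive.ofMul (s ≫ r ≫ snd A₁ A₂) = 0
      rw [h, MonObj.comp_one]
      rfl
  have hb0 : b.down.toMul = 1 := Groth.Agent.AbSchHom.eq_one_of_axes A₁ A₂ A₃ hA₁ b.down.toMul
    (hax _ (Or.inr (lift_snd _ _))) (hax _ (Or.inl (lift_fst _ _)))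
  ext T x
  have key := hb (lift (B.πP T x).down.toMul (B.πQ T x).down.toMul) x
    (by
      apply ULift.ext
      show _ = Additive.ofMul (lift _ _ ≫ fst A₁ A₂)
      rw [lift_fst]
      rfl)
    (by
      apply ULift.ext
      show _ = Additive.ofMul (lift _ _ ≫ snd A₁ A₂)
      rw [lift_snd]
      rfl)
  have h0 : Groth.Agent.BiextRigid.dev f x = 0 := by
    rw [← key]
    apply ULift.ext
    show Additive.ofMul (_ ≫ b.down.toMul) = 0
    rw [hb0, MonObj.comp_one]
    rfl
  show f.map T x = x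
  rw [← Groth.Agent.BiextRigid.act_dev f x, h0, B.zero_act]

end Groth.Agent.S19686
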