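import Groth.Statements.S19690
import Groth.Agent.L24.OneMot.Tz
import Groth.Prelude.Def_EndRing

set_option autoImplicit false
set_option backward.isDefEq.respectTransparency.types false
universe u
open CategoryTheory CategoryTheory.Limits MonoidalCategory CartesianMonoidalCategory MonObj AlgebraicGeometry
open OneMot

namespace Groth.Agent.S19690

/-- Let k be an algebraically closed field of characteristic zero, M and N 1-motives over k, and f, g
morphisms of 1-motives from M to N. If for every integer m ≥ 1 the homomorphisms induced by f and by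
g on the torsion realizations of level m, computed on k-points, are equal, then f = g. (The source
states that the realization functor to the inverse limit over all m is faithful; equality at every
finite level implies equality on the limit.) -/
theorem result (k : Type u) [Field k] [IsAlgClosed k] [CharZero k]
    (M N : OneMot.Motive (Spec (CommRingCat.of k))) (f g : OneMot.Motive.Hom M N)
    (h : ∀ m : ℕ, 1 ≤ m → OneMot.tzMap m (Over.mk (𝟙 (Spec (CommRingCat.of k)))) f = OneMot.tzMap m (Over.mk (𝟙 (Spec (CommRingCat.of k)))) g) :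
    f = g := by
  obtain ⟨hGs, -, -, -, -, -, -, -⟩ := Groth.L24.OneMot.props N.semiAb
  obtain ⟨hL, hLr, -⟩ := Groth.L24.OneMot.lattice_props M.L M.lattice
  haveI : IsSeparated N.L.hom := Groth.Agent.AV.isSeparated_of_grpObj _
  haveI hm : IsMonHom (f.fG / g.fG) := by
    have h := EndAV.Hom.isMonHom_toHom (EndAV.Hom.of f.fG - EndAV.Hom.of g.fG)
    rwa [EndAV.Hom.toHom_sub, EndAV.Hom.toHom_of, EndAV.Hom.toHom_of] at h
  have hG : f.fG = g.fG := by
    refine div_eq_one.1 (Groth.L24.OneMot.eq_one_of_torsion M.semiAb (f.fG / g.fG) fun m a hm0 ha => ?_)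
    rw [GrpObj.comp_div, div_eq_one]
    obtain ⟨z, hz, hz'⟩ := Groth.L24.OneMot.exists_of_eq (h m hm0) 1 a (by
      rw [MonObj.one_comp, ha]; exact inv_one.symm)
    rw [MonObj.one_comp, MonObj.one_comp, inv_one, _root_.one_mul] at hz
    rw [Groth.L24.OneMot.eq_one_of_pow N.lattice z hm0 hz, MonObj.one_comp, inv_one] at hz'
    exact inv_mul_eq_one.1 hz'.symm
  refine OneMot.Motive.Hom.ext' (Groth.L24.OneMot.ext_pts _ _ fun x => ?_) hG
  refine inv_mul_eq_one.1 (Groth.L24.OneMot.eq_one_of_divisible N.lattice _ fun m hm0 => ?_)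
  obtain ⟨a, ha⟩ := Groth.L24.OneMot.semiab_div M.semiAb hm0 (x ≫ M.u)⁻¹
  obtain ⟨z, hz, -⟩ := Groth.L24.OneMot.exists_of_eq (h m hm0) x a (by rw [ha]; exact (inv_inv _).symm)
  exact ⟨z, hz⟩

end Groth.Agent.S19690
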