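import Groth.Statements.S19691
import Groth.Agent.L24.OneMot.Tz
import Groth.Prelude.Def_EndRing

set_option autoImplicit false
set_option backward.isDefEq.respectTransparency.types false
universe u
open CategoryTheory CategoryTheory.Limits MonoidalCategory CartesianMonoidalCategory MonObj AlgebraicGeometry
open OneMot

namespace Groth.Agent.S19691

/-- Let k be an algebraically closed field of characteristic zero, M and N 1-motives over k, and f a
morphism of 1-motives from M to N. If for every integer m ≥ 1 the homomorphism induced by f on the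
torsion realizations of level m, computed on k-points, is bijective, then f is an isomorphism: its
components on the lattices and on the semi-abelian group schemes are isomorphisms. (The source
states this for the realization in the inverse limit over all m; bijectivity at every finite level
implies bijectivity on the limit. In positive characteristic the statement fails, the Frobenius of
the multiplicative group being bijective on all these realizations.) -/
theorem result (k : Type u) [Field k] [IsAlgClosed k] [CharZero k]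
    (M N : OneMot.Motive (Spec (CommRingCat.of k))) (f : OneMot.Motive.Hom M N)
    (h : ∀ m : ℕ, 1 ≤ m → Function.Bijective (OneMot.tzMap m (Over.mk (𝟙 (Spec (CommRingCat.of k)))) f)) :
    f.IsIso := by
  obtain ⟨hMs, hMq, -, -, -, -, -, -⟩ := Groth.L24.OneMot.props M.semiAb
  obtain ⟨hNs, -, -, -, -, -, -, -⟩ := Groth.L24.OneMot.props N.semiAb
  obtain ⟨hL, hLr, -⟩ := Groth.L24.OneMot.lattice_props M.L M.lattice
  obtain ⟨hL', hLr', hLc⟩ := Groth.L24.OneMot.lattice_props N.L N.lattice
  have htors : ∀ (m : ℕ) (a : 𝟙_ (Over (Spec (CommRingCat.of k))) ⟶ M.G), 0 < m → a ^ m = 1 →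
      a ≫ f.fG = 1 → a = 1 := by
    intro m a hm0 ha hfa
    obtain ⟨z, hz, hz'⟩ := Groth.L24.OneMot.exists_of_injective (h m hm0).1 1 a
      (by rw [MonObj.one_comp, ha]; exact inv_one.symm) (MonObj.one_comp _) hfa
    rw [Groth.L24.OneMot.eq_one_of_pow M.lattice z hm0 hz, MonObj.one_comp, inv_one] at hz'
    exact hz'.symm
  have hinjG := Groth.L24.OneMot.injective_of_torsion M.semiAb f.fG htors
  have hinjL : ∀ x : 𝟙_ (Over (Spec (CommRingCat.of k))) ⟶ M.L, x ≫ f.fL = 1 → x = 1 := by
    intro x hx
    have hu : x ≫ M.u = 1 := hinjG _ (by rw [Category.assoc, f.comm, ← Category.assoc, hx, MonObj.one_comp])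
    refine Groth.L24.OneMot.eq_one_of_divisible M.lattice x fun m hm0 => ?_
    obtain ⟨z, hz, -⟩ := Groth.L24.OneMot.exists_of_injective (h m hm0).1 x 1
      (by rw [hu, one_pow]; exact inv_one.symm) hx (MonObj.one_comp _)
    exact ⟨z, hz⟩
  have hsurjL : Function.Surjective (Groth.L24.OneMot.post f.fL) :=
    Groth.L24.OneMot.surjective_of_mod N.lattice _ fun m hm0 y => by
      obtain ⟨a', ha'⟩ := Groth.L24.OneMot.semiab_div N.semiAb hm0 (y ≫ N.u)⁻¹
      obtain ⟨x, a, z, -, hxz, -⟩ := Groth.L24.OneMot.exists_of_surjective (h m hm0).2 y a'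
        (by rw [ha']; exact (inv_inv _).symm)
      exact ⟨x, z, hxz⟩
  haveI : Surjective f.fL.left := ⟨fun y => by
    obtain ⟨b, rfl⟩ := Groth.L08.Cube.exists_kpt y (hLc y)
    obtain ⟨x, rfl⟩ := hsurjL b
    exact ⟨Groth.L08.Cube.kpt x, rfl⟩⟩
  haveI : Surjective f.fG.left := Groth.L24.OneMot.surjective_of_torsion N.semiAb f.fG fun m a' hm0 ha' => by
    obtain ⟨x, a, z, hxa, hxz, haz⟩ := Groth.L24.OneMot.exists_of_surjective (h m hm0).2 1 a'
      (by rw [MonObj.one_comp, ha']; exact inv_one.symm)
    obtain ⟨w, hw⟩ := hsurjL z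
    change w ≫ f.fL = z at hw
    refine ⟨(show 𝟙_ (Over (Spec (CommRingCat.of k))) ⟶ M.G from a) * (w ≫ M.u), ?_⟩
    rw [MonObj.mul_comp, Category.assoc, f.comm, ← Category.assoc, hw, haz, inv_mul_cancel_right]
  exact ⟨Groth.L24.OneMot.isIso_of_pts f.fL hinjL, Groth.L24.OneMot.isIso_of_pts f.fG hinjG⟩

end Groth.Agent.S19691
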