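import Groth.Statements.S19705
import Groth.Agent.L08.AffHull.Crit
import Groth.Agent.L08.AffHull.Smooth
import Groth.Agent.L08.Albanese.EtaleDescent
import Groth.Agent.L08.Albanese.AbSub
import Groth.Agent.L08.NormalQuot.Affine
import Groth.Agent.L25.SplitSub.Rank
import Groth.Agent.S3293
import Groth.Agent.S7996
import Groth.Agent.L08.GQuot.Field
import Mathlib.AlgebraicGeometry.Artinian
import Mathlib.Topology.Separation.Connected

set_option autoImplicit false
set_option backward.isDefEq.respectTransparency.types false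
set_option linter.style.haveILetI false
universe u
open CategoryTheory MonoidalCategory CartesianMonoidalCategory MonObj GrpObj AlgebraicGeometry CategoryTheory.Limits
open AlgGrp
open Groth.L08

namespace Groth.Agent.S19705

variable {k : Type u} [Field k]

theorem isIso_of_affine {X Y : Scheme.{u}} (f : X ⟶ Y) [IsAffine X] [IsAffine Y] [h : IsIso f.appTop] : IsIso f := by
  have e : f = X.isoSpec.hom ≫ Spec.map f.appTop ≫ Y.isoSpec.inv := by
    rw [Scheme.isoSpec_hom_naturality_assoc, Iso.hom_inv_id, Category.comp_id]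
  rw [e]
  infer_instance

/-- The anti-affine part of a group mapping onto a connected proper group still maps onto it. -/
theorem surjective_antiAffinePart {H A C : Over (Spec (CommRingCat.of k))} [GrpObj H] [GrpObj A] [GrpObj C]
    [LocallyOfFiniteType H.hom] [QuasiCompact H.hom] [IsProper A.hom] [ConnectedSpace A.left]
    (f : H ⟶ A) [IsMonHom f] [Surjective f.left] (c : C ⟶ H) [IsMonHom c] [IsClosedImmersion c.left]
    [CompactSpace H.left] [QuasiSeparatedSpace H.left] (sq : AlgGrp.IsKernel c (AffHull.rho H)) :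
    Surjective (c ≫ f).left := by
  haveI : LocallyOfFiniteType C.hom := by rw [← Over.w c]; infer_instance
  haveI : QuasiCompact C.hom := by rw [← Over.w c]; infer_instance
  obtain ⟨D, gD, p, d, _, _, hpd, _, hps, _, _⟩ := AbelianGrp.exists_image (c ≫ f)
  haveI : LocallyOfFiniteType D.hom := by rw [← Over.w d]; infer_instance
  haveI : QuasiCompact D.hom := by rw [← Over.w d]; infer_instance
  haveI : Epi p.left := inferInstance
  have hO := AffHull.isIso_appTop_of_cover p η[D] (AffHull.isIso_appTop_kernel c sq)
  have hnd : AlgGrp.IsNormalHom d := fun T g n => ⟨n, by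
    have := Groth.Agent.S7996.result k D A ((AffHull.bijective_iff_isIso D).2 hO) d T n T (𝟙 T) g
    simp only [Category.id_comp] at this
    rw [← this, mul_inv_cancel_right]⟩
  haveI : Mono d := Over.mono_of_mono_left d
  obtain ⟨Y, p', _, _, _, sqp⟩ := GQuot.exists_quotient_field d
  obtain ⟨Q, π, _, _, _, sqq, hlft, -, hqc, -, -⟩ := GQuot.exists_struct p' sqp
  obtain ⟨gQ, hπm, sqQ⟩ := GQuot.exists_grp hnd π sqq
  haveI : LocallyOfFiniteType Q.hom := hlft inferInstance
  haveI : QuasiCompact Q.hom := hqc inferInstance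
  haveI := AbelianGrp.isSeparated Q
  haveI : UniversallyClosed (π.left ≫ Q.hom) := by rw [Over.w π]; infer_instance
  haveI : UniversallyClosed Q.hom := UniversallyClosed.of_comp_surjective π.left Q.hom
  haveI : IsProper Q.hom := {}
  obtain ⟨_, _, _, _⟩ := AffHull.hull_props (G := H)
  have hkill : c ≫ f ≫ π = 1 := by
    rw [← Category.assoc, ← hpd, Category.assoc, show d ≫ π = 1 from sqQ.w.trans (Hom.one_def).symm, MonObj.comp_one]
  obtain ⟨ψ, _, hψ, -⟩ := Groth.Agent.S3280.result k H C (AffHull.hull H) Q (AffHull.rho H) c sq (f ≫ π)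
    (by rw [hkill, Hom.one_def])
  haveI : Surjective ψ.left := by
    haveI : Surjective ((AffHull.rho H).left ≫ ψ.left) := by
      rw [← Over.comp_left, hψ, Over.comp_left]; infer_instance
    exact Surjective.of_comp (AffHull.rho H).left ψ.left
  haveI : IsAffine Q.left := NormalQuot.isAffine_of_surjective_hom ψ
  haveI : IsFinite Q.hom := IsFinite.iff_isProper_and_isAffineHom.2 ⟨inferInstance, inferInstance⟩
  haveI : IsLocallyArtinian Q.left := IsLocallyArtinian.of_locallyQuasiFinite Q.hom
  haveI : DiscreteTopology Q.left := IsLocallyArtinian.discreteTopology (X := Q.left)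
  haveI : ConnectedSpace Q.left := π.left.surjective.connectedSpace π.left.continuous
  haveI : Subsingleton Q.left := PreconnectedSpace.trivial_of_discrete
  haveI : Surjective d.left := ⟨fun a => by
    have h1 : Set.range d.left = Set.range (CategoryTheory.Limits.pullback.fst π.left η[Q].left) := by
      have e1 := (sqQ.map (Over.forget _)).isoPullback_hom_fst
      rw [show d.left = _ from e1.symm]
      simp only [Scheme.Hom.comp_base]
      exact Function.Surjective.range_comp (sqQ.map (Over.forget _)).isoPullback.hom.homeomorph.surjective _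
    have h2 : a ∈ Set.range d.left := by
      rw [h1, AlgebraicGeometry.Scheme.Pullback.range_fst]
      exact ⟨IsLocalRing.closedPoint k, Subsingleton.elim _ _⟩
    exact h2⟩
  rw [← hpd, Over.comp_left]
  infer_instance

/-- Surjectivity onto the quotient gives surjectivity of the product with the kernel. -/
theorem surjective_mul {H G A N : Over (Spec (CommRingCat.of k))} [GrpObj G] [GrpObj A] (h : H ⟶ G) (q : G ⟶ A)
    [IsMonHom q] [Surjective (h ≫ q).left] (i : N ⟶ G) (sq : AlgGrp.IsKernel i q) :
    Surjective ((h ⊗ₘ i) ≫ μ[G]).left ∧ Surjective ((i ⊗ₘ h) ≫ μ[G]).left := by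
  let P := pullback (h ≫ q) q
  haveI : Surjective (pullback.snd (h ≫ q) q).left :=
    MorphismProperty.of_isPullback (P := @Surjective) ((IsPullback.of_hasPullback (h ≫ q) q).map (Over.forget _))
      ‹Surjective (h ≫ q).left›
  have hc := pullback.condition (f := h ≫ q) (g := q)
  obtain ⟨n₁, hn₁, -⟩ := sq.exists_lift ((pullback.fst (h ≫ q) q ≫ h)⁻¹ * pullback.snd (h ≫ q) q) (toUnit P)
    (by rw [MonObj.mul_comp, GrpObj.inv_comp, Category.assoc, hc, inv_mul_cancel, Hom.one_def])
  obtain ⟨n₂, hn₂, -⟩ := sq.exists_lift (pullback.snd (h ≫ q) q * (pullback.fst (h ≫ q) q ≫ h)⁻¹) (toUnit P)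
    (by rw [MonObj.mul_comp, GrpObj.inv_comp, Category.assoc, hc, mul_inv_cancel, Hom.one_def])
  constructor
  · haveI : Surjective ((CartesianMonoidalCategory.lift (pullback.fst (h ≫ q) q) n₁).left ≫
        ((h ⊗ₘ i) ≫ μ[G]).left) := by
      rw [← Over.comp_left, lift_map_assoc, ← Hom.mul_def, hn₁, mul_inv_cancel_left]
      infer_instance
    exact Surjective.of_comp (CartesianMonoidalCategory.lift (pullback.fst (h ≫ q) q) n₁).left _
  · haveI : Surjective ((CartesianMonoidalCategory.lift n₂ (pullback.fst (h ≫ q) q)).left ≫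
        ((i ⊗ₘ h) ≫ μ[G]).left) := by
      rw [← Over.comp_left, lift_map_assoc, ← Hom.mul_def, hn₂, inv_mul_cancel_right]
      infer_instance
    exact Surjective.of_comp (CartesianMonoidalCategory.lift n₂ (pullback.fst (h ≫ q) q)).left _

/-- Let k be a field and G a connected k-group scheme of finite type, not necessarily smooth. Let i : N
→ G be a closed normal subgroup scheme which is affine and is the kernel of a flat surjective
homomorphism q : G → A of k-group schemes of finite type with A proper, and let j : M → G be the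
largest anti-affine closed subgroup scheme G_ant of G (O(M) = k, and every anti-affine closed
subgroup scheme of G factors through M). Then the multiplication morphism N × M → G is surjective
(on underlying topological spaces), and every closed subgroup scheme H of G for which the
multiplication H × N → G is surjective contains G_ant, i.e. M factors through H. (The published
statement takes N = G_aff, the smallest connected affine normal subgroup scheme whose quotient is an
abelian variety; the row allows any affine closed normal subgroup scheme N whose quotient G/N is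
proper, for which the same argument applies.) -/
theorem result (k : Type u) [Field k]
    (G : Over (Spec (CommRingCat.of k))) [GrpObj G] [LocallyOfFiniteType G.hom] [QuasiCompact G.hom] [ConnectedSpace ↥G.left]
    (N : Over (Spec (CommRingCat.of k))) [GrpObj N] (i : N ⟶ G) [IsMonHom i] [IsClosedImmersion i.left] [IsAffine N.left]
    (hN : AlgGrp.IsNormalHom i)
    (A : Over (Spec (CommRingCat.of k))) [GrpObj A] [IsProper A.hom]
    (q : G ⟶ A) [IsMonHom q] [Surjective q.left] [Flat q.left] (hq : AlgGrp.IsKernel i q)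
    (M : Over (Spec (CommRingCat.of k))) [GrpObj M] [LocallyOfFiniteType M.hom] [QuasiCompact M.hom] (j : M ⟶ G) [IsMonHom j] [IsClosedImmersion j.left]
    (hM : Function.Bijective ((Scheme.ΓSpecIso (CommRingCat.of k)).inv ≫ M.hom.appTop).hom)
    (hMmax : ∀ (M₁ : Over (Spec (CommRingCat.of k))) [GrpObj M₁] [LocallyOfFiniteType M₁.hom] [QuasiCompact M₁.hom] (j₁ : M₁ ⟶ G) [IsMonHom j₁] [IsClosedImmersion j₁.left],
      Function.Bijective ((Scheme.ΓSpecIso (CommRingCat.of k)).inv ≫ M₁.hom.appTop).hom → ∃ g : M₁ ⟶ M, g ≫ j = j₁) :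
    Surjective ((i ⊗ₘ j) ≫ μ[G]).left ∧
      ∀ (H : Over (Spec (CommRingCat.of k))) [GrpObj H] (h : H ⟶ G) [IsMonHom h] [IsClosedImmersion h.left],
        Surjective ((h ⊗ₘ i) ≫ μ[G]).left → ∃ g : M ⟶ H, g ≫ h = j := by
  haveI : ConnectedSpace A.left := q.left.surjective.connectedSpace q.left.continuous
  haveI := AffHull.compactSpace (G := G)
  haveI := AffHull.quasiSeparatedSpace (G := G)
  have part : ∀ (H : Over (Spec (CommRingCat.of k))) [GrpObj H] (h : H ⟶ G) [IsMonHom h] [IsClosedImmersion h.left],
      Surjective (h ≫ q).left → ∃ (C : Over (Spec (CommRingCat.of k))) (_ : GrpObj C) (c : C ⟶ H) (g₀ : C ⟶ M),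
        IsMonHom c ∧ IsClosedImmersion c.left ∧ g₀ ≫ j = c ≫ h ∧ Surjective (g₀ ≫ j ≫ q).left := by
    intro H _ h _ _ hs
    haveI : LocallyOfFiniteType H.hom := by rw [← Over.w h]; infer_instance
    haveI : QuasiCompact H.hom := by rw [← Over.w h]; infer_instance
    haveI := AffHull.compactSpace (G := H)
    haveI := AffHull.quasiSeparatedSpace (G := H)
    obtain ⟨C, gC, c, _, _, -, sq⟩ := AbelianGrp.exists_kernel (AffHull.rho H)
    haveI : LocallyOfFiniteType C.hom := by rw [← Over.w c]; infer_instance
    haveI : QuasiCompact C.hom := by rw [← Over.w c]; infer_instance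
    haveI : IsClosedImmersion (c ≫ h).left := inferInstanceAs (IsClosedImmersion (c.left ≫ h.left))
    obtain ⟨g₀, hg₀⟩ := hMmax C (c ≫ h) ((AffHull.bijective_iff_isIso C).2 (AffHull.isIso_appTop_kernel c sq))
    refine ⟨C, gC, c, g₀, inferInstance, inferInstance, hg₀, ?_⟩
    rw [reassoc_of% hg₀]
    exact surjective_antiAffinePart (h ≫ q) c sq
  refine ⟨?_, fun H _ h _ _ hsurj => ?_⟩
  · haveI : IsClosedImmersion (𝟙 G : G ⟶ G).left := inferInstanceAs (IsClosedImmersion (𝟙 G.left))
    obtain ⟨C, _, c, g₀, _, _, -, hs⟩ := part G (𝟙 G) (by rw [Category.id_comp]; infer_instance)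
    haveI := hs
    haveI : Surjective (g₀.left ≫ (j ≫ q).left) := by rw [← Over.comp_left]; exact hs
    haveI : Surjective (j ≫ q).left := Surjective.of_comp g₀.left _
    exact (surjective_mul j q i hq).2
  have hi : i ≫ q = 1 := hq.w.trans (Hom.one_def).symm
  have hs : Surjective (h ≫ q).left := by
    haveI := hsurj
    haveI h1 : Surjective (((h ⊗ₘ i) ≫ μ[G]) ≫ q).left := by rw [Over.comp_left]; infer_instance
    haveI : Surjective ((fst H N).left ≫ (h ≫ q).left) := by
      rw [← Over.comp_left]
      have e : ((h ⊗ₘ i) ≫ μ[G]) ≫ q = fst H N ≫ h ≫ q := by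
        rw [show (h ⊗ₘ i) = CartesianMonoidalCategory.lift (fst H N ≫ h) (snd H N ≫ i) from (lift_fst_comp_snd_comp h i).symm]
        rw [← Hom.mul_def, MonObj.mul_comp, Category.assoc, Category.assoc, hi, MonObj.comp_one, _root_.mul_one]
      rw [← e]
      exact h1
    exact Surjective.of_comp (fst H N).left _
  obtain ⟨C, gC, c, g₀, _, _, hg₀, hs₀⟩ := part H h hs
  haveI : Mono j := Over.mono_of_mono_left j
  haveI : IsMonHom g₀ := Groth.L25.SplitSub.isMonHom_of_comp_mono g₀ j (by rw [hg₀]; infer_instance)
  haveI : IsClosedImmersion g₀.left := by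
    haveI : IsClosedImmersion (g₀.left ≫ j.left) := by
      rw [← Over.comp_left, hg₀, Over.comp_left]; infer_instance
    exact IsClosedImmersion.of_comp g₀.left j.left
  haveI : IsCommMonObj M := (Groth.Agent.S3293.result k M hM).2
  obtain ⟨Q, gQ, r, _, _, _, _, _, _, -, sqr⟩ := AbelianGrp.exists_quotient g₀
  obtain ⟨NM, gNM, nm, _, _, -, sqNM⟩ := AbelianGrp.exists_kernel (j ≫ q)
  haveI : LocallyOfFiniteType NM.hom := by rw [← Over.w nm]; infer_instance
  haveI : Mono i := Over.mono_of_mono_left i
  obtain ⟨z, hz, -⟩ := hq.exists_lift (nm ≫ j) (toUnit NM) (by rw [Category.assoc]; exact sqNM.w)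
  haveI : IsAffine NM.left := by
    haveI : IsClosedImmersion z.left := by
      haveI : IsClosedImmersion (z.left ≫ i.left) := by
        rw [← Over.comp_left, hz, Over.comp_left]; infer_instance
      exact IsClosedImmersion.of_comp z.left i.left
    exact isAffine_of_isAffineHom z.left
  haveI := hs₀
  haveI : Surjective (g₀ ≫ (j ≫ q)).left := hs₀
  obtain ⟨hm, -⟩ := surjective_mul g₀ (j ≫ q) nm sqNM
  haveI := hm
  have hg₀r : g₀ ≫ r = 1 := sqr.w.trans (Hom.one_def).symm
  haveI : Surjective (nm ≫ r).left := by
    haveI : Surjective ((snd C NM).left ≫ (nm ≫ r).left) := by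
      have e : ((g₀ ⊗ₘ nm) ≫ μ[M]) ≫ r = snd C NM ≫ nm ≫ r := by
        rw [show (g₀ ⊗ₘ nm) = CartesianMonoidalCategory.lift (fst C NM ≫ g₀) (snd C NM ≫ nm) from (lift_fst_comp_snd_comp g₀ nm).symm]
        rw [← Hom.mul_def, MonObj.mul_comp, Category.assoc, Category.assoc, hg₀r, MonObj.comp_one, _root_.one_mul]
      rw [← Over.comp_left, ← e, Over.comp_left]
      infer_instance
    exact Surjective.of_comp (snd C NM).left _
  haveI : IsAffine Q.left := NormalQuot.isAffine_of_surjective_hom (nm ≫ r)
  haveI : Epi r.left := inferInstance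
  haveI := AffHull.isIso_appTop_of_cover r η[Q] ((AffHull.bijective_iff_isIso M).1 hM)
  haveI : IsIso Q.hom := isIso_of_affine Q.hom
  obtain ⟨t, ht, -⟩ := sqr.exists_lift (𝟙 M) (toUnit M) (by
    refine Over.OverMorphism.ext ?_
    rw [← cancel_mono Q.hom, Over.w, Over.w])
  exact ⟨t ≫ c, by rw [Category.assoc, ← hg₀, reassoc_of% ht]⟩

end Groth.Agent.S19705
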