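import Groth.Statements.S19710
import Groth.Agent.L26.FF.Pencil

set_option autoImplicit false
open FunFld

namespace Groth.Agent.S19710

open Groth.Agent.FF WithZero

/-- Let `k` be an algebraically closed field of characteristic zero. A `g^r_d` on a function field `K/k`
of one variable is a divisor `D` of degree `d` with a subspace `V ⊆ L(D)` of dimension `r + 1`;
`V(-nP) = V ∩ L(D - nP)`, and the `i`-th vanishing order `m_i(V, P)` (`m_0 < ⋯ < m_r`) equals `m`
exactly when `dim V(-mP) = r + 1 - i` and `dim V(-(m+1)P) = r - i`. Let `K_Y` have genus `0` and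
carry a `g^r_d` `(D_Y, V_Y)` with at least a cusp at a place `Q_Y` (`dim V_Y(-2Q_Y) ≥ r`); let
`(D_Z, V_Z)` be a `g^r_d` on a second function field `K_Z`, compatible with `(D_Y, V_Y)` at a node
formed by a place `P ≠ Q_Y` of `K_Y` and a place `Q` of `K_Z` (`dim V_Y(-nP) + dim V_Z(-(d+1-n)Q) =
r + 1` for `0 ≤ n ≤ d + 1`), and let `P'` be a place of `K_Y` different from `P` and from `Q_Y`.
Then `m_i(V_Y, P') < m_i(V_Z, Q)` for all but at most one index: the set of `i ≤ r` for which the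
`i`-th vanishing order of `V_Y` at `P'` equals the `i`-th vanishing order of `V_Z` at `Q` has at
most one element. (In the source `Q_Y` is the point where the rational component `Y` meets a chain
of curves ending in a curve of positive genus, which forces the cusp condition assumed here; the
source works over the complex numbers.) -/
theorem result
    (k : Type*) [Field k] [IsAlgClosed k] [CharZero k]
    (KY : Type*) [Field KY] [Algebra k KY] (hKY : FunFld.IsFunctionField k KY) (hg0 : FunFld.genus k KY = 0)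
    (KZ : Type*) [Field KZ] [Algebra k KZ] (hKZ : FunFld.IsFunctionField k KZ)
    (d r : ℕ) (DY : FunFld.Divisor k KY) (hDY : DY.deg = d) (DZ : FunFld.Divisor k KZ) (hDZ : DZ.deg = d)
    (VY : Submodule k KY) (hVY : VY ≤ FunFld.L DY) (hVYr : Module.finrank k ↥VY = r + 1)
    (VZ : Submodule k KZ) (hVZ : VZ ≤ FunFld.L DZ) (hVZr : Module.finrank k ↥VZ = r + 1)
    (QY : FunFld.Place k KY) (hcusp : r ≤ Module.finrank k ↥(VY ⊓ FunFld.L (DY - Finsupp.single QY ((2 : ℤ)))))
    (P : FunFld.Place k KY) (hP : P ≠ QY) (Q : FunFld.Place k KZ)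
    (hcomp : ∀ n : ℕ, n ≤ d + 1 →
      Module.finrank k ↥(VY ⊓ FunFld.L (DY - Finsupp.single P ((n : ℤ)))) + Module.finrank k ↥(VZ ⊓ FunFld.L (DZ - Finsupp.single Q ((d : ℤ) + 1 - n))) = r + 1)
    (P' : FunFld.Place k KY) (hP'P : P' ≠ P) (hP'Q : P' ≠ QY) :
    {i : ℕ | i ≤ r ∧ ∃ m : ℕ,
        Module.finrank k ↥(VY ⊓ FunFld.L (DY - Finsupp.single P' ((m : ℤ)))) = r + 1 - i ∧
        Module.finrank k ↥(VY ⊓ FunFld.L (DY - Finsupp.single P' ((m : ℤ) + 1))) = r - i ∧
        Module.finrank k ↥(VZ ⊓ FunFld.L (DZ - Finsupp.single Q ((m : ℤ)))) = r + 1 - i ∧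
        Module.finrank k ↥(VZ ⊓ FunFld.L (DZ - Finsupp.single Q ((m : ℤ) + 1))) = r - i}.Subsingleton := by
  have SY : Ser DY VY d r := ⟨hKY, hDY, hVY, hVYr⟩
  have key : ∀ i m : ℕ, i ≤ r → prof DY VY P' m = r + 1 - i → prof DZ VZ Q ((m : ℤ) + 1) = r - i →
      m ≤ d ∧ ∃ f ∈ VY, f ≠ 0 ∧
        FunFld.div k f + DY = Finsupp.single P' (m : ℤ) + Finsupp.single P ((d : ℤ) - m) := by
    intro i m hi h1 h4
    have hm : m ≤ d := by
      by_contra h
      rw [SY.prof_eq_zero P' (by omega)] at h1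
      omega
    have h2 : prof DY VY P ((d - m : ℕ) : ℤ) + prof DZ VZ Q ((d : ℤ) + 1 - ((d - m : ℕ) : ℤ)) = r + 1 :=
      hcomp (d - m) (by omega)
    rw [show (d : ℤ) + 1 - ((d - m : ℕ) : ℤ) = (m : ℤ) + 1 by omega, h4,
      show ((d - m : ℕ) : ℤ) = (d : ℤ) - m by omega] at h2
    exact ⟨hm, SY.exists_pair_member hP'P (by ring) (by omega)⟩
  rintro i ⟨hi, m, h1, -, -, h4⟩ j ⟨hj, m', h1', -, -, h4'⟩
  obtain ⟨-, f, hf, hf0, hfd⟩ := key i m hi h1 h4
  obtain ⟨-, g, hg, hg', hgd⟩ := key j m' hj h1' h4'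
  have hs : ∀ {x : KY} {a b : ℤ}, FunFld.div k x + DY = Finsupp.single P' a + Finsupp.single P b →
      ∀ R, R.ord x + DY R = Finsupp.single P' a R + Finsupp.single P b R := fun h R => by
    rw [← div_apply hKY.1, ← Finsupp.add_apply, h, Finsupp.add_apply]
  obtain ⟨c, rfl⟩ := SY.eq_smul_of_cusp hg0 hcusp hP'Q hP hf hg hf0 hg'
    (fun R h1 h2 => by rw [hs hfd, Finsupp.single_eq_of_ne h1, Finsupp.single_eq_of_ne h2, add_zero])
    (fun R h1 h2 => by rw [hs hgd, Finsupp.single_eq_of_ne h1, Finsupp.single_eq_of_ne h2, add_zero])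
  have hc : c ≠ 0 := fun h => hg' (by rw [h, zero_smul])
  have h1g := hs hgd P'
  rw [Algebra.smul_def, ord_mul P' (by simpa using hc) hf0, ord_const, zero_add, hs hfd,
    Finsupp.single_eq_same, Finsupp.single_eq_same, Finsupp.single_eq_of_ne hP'P,
    Finsupp.single_eq_of_ne hP'P] at h1g
  have hmm : m = m' := by omega
  subst hmm
  omega

end Groth.Agent.S19710
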