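import Groth.Statements.S19711
import Mathlib.Algebra.Module.FinitePresentation
import Mathlib.LinearAlgebra.Basis.VectorSpace
import Mathlib.RingTheory.Localization.FractionRing
import Mathlib.RingTheory.Spectrum.Prime.Topology

set_option autoImplicit false
universe u
open CategoryTheory
open Coh

namespace Groth.Agent.S19711

/-- An injection into a finite module over a Noetherian domain generically splits. -/
theorem exists_retraction {A : Type*} [CommRing A] [IsNoetherianRing A] [IsDomain A] {M N : Type*}
    [AddCommGroup M] [Module A M] [AddCommGroup N] [Module A N] [Module.Finite A N]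
    (i : M →ₗ[A] N) (hi : Function.Injective i) :
    ∃ (f : A) (r : N →ₗ[A] M), f ≠ 0 ∧ ∀ x, r (i x) = f • x := by
  let S := nonZeroDivisors A
  haveI : Module.Finite A M := Module.Finite.of_injective i hi
  haveI : Module.FinitePresentation A N := Module.finitePresentation_of_finite A N
  letI : Field (Localization S) := inferInstanceAs (Field (FractionRing A))
  obtain ⟨σ, hσ⟩ := (LocalizedModule.map S i).exists_leftInverse_of_injective
    (LinearMap.ker_eq_bot.2 (LocalizedModule.map_injective S i hi))
  obtain ⟨r, s, hr⟩ := Module.FinitePresentation.exists_lift_of_isLocalizedModule (M := N) S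
    (LocalizedModule.mkLinearMap S M) ((σ.restrictScalars A).comp (LocalizedModule.mkLinearMap S N))
  have h1 : (LocalizedModule.mkLinearMap S M).comp (r.comp i) =
      (LocalizedModule.mkLinearMap S M).comp ((s : A) • LinearMap.id) := by
    rw [← LinearMap.comp_assoc, hr]
    ext x
    have h3 := LinearMap.congr_fun hσ (LocalizedModule.mkLinearMap S M x)
    simp only [LinearMap.comp_apply, LinearMap.id_apply, LocalizedModule.mkLinearMap_apply,
      LocalizedModule.map_mk] at h3
    simp [h3, Submonoid.smul_def]
  obtain ⟨t, ht⟩ := Module.Finite.exists_smul_of_comp_eq_of_isLocalizedModule S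
    (LocalizedModule.mkLinearMap S M) _ _ h1
  refine ⟨(t : A) * s, (t : A) • r, mul_ne_zero (nonZeroDivisors.coe_ne_zero t) (nonZeroDivisors.coe_ne_zero s),
    fun x => ?_⟩
  have := LinearMap.congr_fun ht x
  simp only [Submonoid.smul_def, LinearMap.smul_apply, LinearMap.comp_apply, LinearMap.id_apply] at this
  rw [LinearMap.smul_apply, this, smul_smul]

end Groth.Agent.S19711

namespace Groth.Agent.S19711

/-- Let A be a Noetherian integral domain and F an A-linear additive functor from A-modules to A-modules
with F(A) a finitely generated A-module. Call such a functor generically injective when there is a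
dense open subset U of Spec A such that for every point u of U whose residue field κ(u) is a
finitely generated A-algebra the comparison map F(A) ⊗_A κ(u) → F(κ(u)) is injective; since F is
A-linear this injectivity says: every m in F(A) whose image under F(A → κ(u)) vanishes satisfies s·m
∈ u·F(A) for some s outside u. If F is generically injective then so is every A-linear additive
subfunctor K ⊆ F (a natural transformation K → F with injective components). (The published
statement is over a reduced Noetherian affine scheme, for additive functors on quasi-coherent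
sheaves with values in abelian groups and the induced A-action, assumes F weakly bounded (F(A/p)
finitely generated for every prime ideal p) and also records that K is again weakly bounded; only
the finite generation of F(A), which its argument uses, is assumed here, and the integral case with
A-linear functors stated here is the one its argument by generic flatness treats.) -/
theorem result {A : Type u} [CommRing A] [IsNoetherianRing A] [IsDomain A]
    (F K : ModuleCat.{u} A ⥤ ModuleCat.{u} A) [F.Additive] [F.Linear A] [K.Additive] [K.Linear A]
    (ι : K ⟶ F) (hι : ∀ X : ModuleCat.{u} A, Function.Injective (ι.app X).hom)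
    (hfin : Module.Finite A (F.obj (ModuleCat.of A A)))
    (hGI : ∃ U : Set (PrimeSpectrum A), IsOpen U ∧ Dense U ∧ ∀ u ∈ U, Algebra.FiniteType A u.asIdeal.ResidueField →
        ∀ m : F.obj (ModuleCat.of A A),
          (F.map (ModuleCat.ofHom (Algebra.linearMap A u.asIdeal.ResidueField))).hom m = 0 →
            ∃ s ∉ u.asIdeal, s • m ∈ u.asIdeal • (⊤ : Submodule A (F.obj (ModuleCat.of A A)))) :
    ∃ U : Set (PrimeSpectrum A), IsOpen U ∧ Dense U ∧ ∀ u ∈ U, Algebra.FiniteType A u.asIdeal.ResidueField →
        ∀ m : K.obj (ModuleCat.of A A),
          (K.map (ModuleCat.ofHom (Algebra.linearMap A u.asIdeal.ResidueField))).hom m = 0 →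
            ∃ s ∉ u.asIdeal, s • m ∈ u.asIdeal • (⊤ : Submodule A (K.obj (ModuleCat.of A A))) := by
  haveI := hfin
  obtain ⟨U, hUo, hUd, hU⟩ := hGI
  obtain ⟨f, r, hf, hr⟩ := exists_retraction (ι.app (ModuleCat.of A A)).hom (hι _)
  refine ⟨U ∩ (PrimeSpectrum.basicOpen f : Set (PrimeSpectrum A)), hUo.inter (PrimeSpectrum.basicOpen f).isOpen,
    hUd.inter_of_isOpen_right ?_ (PrimeSpectrum.basicOpen f).isOpen, fun u hu hft m hm => ?_⟩
  · exact (PrimeSpectrum.basicOpen f).isOpen.dense ⟨⟨⊥, Ideal.bot_prime⟩, by simpa using hf⟩
  · have hnat : ∀ {X Y : ModuleCat.{u} A} (φ : X ⟶ Y) (x : K.obj X),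
        (F.map φ).hom ((ι.app X).hom x) = (ι.app Y).hom ((K.map φ).hom x) := fun φ x =>
      congrArg (fun t => t.hom x) (ι.naturality φ).symm
    obtain ⟨s, hs, hsm⟩ := hU u hu.1 hft ((ι.app _).hom m) (by rw [hnat, hm, map_zero])
    refine ⟨f * s, fun h => (u.isPrime.mem_or_mem h).elim hu.2 hs, ?_⟩
    have h2 : r (s • (ι.app (ModuleCat.of A A)).hom m) ∈ u.asIdeal • (⊤ : Submodule A (K.obj (ModuleCat.of A A))) := by
      have := Submodule.mem_map_of_mem (f := r) hsm
      rw [Submodule.map_smul''] at this
      exact Submodule.smul_mono le_rfl le_top this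
    rwa [map_smul, hr, smul_smul, mul_comm s f] at h2

end Groth.Agent.S19711
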