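import Groth.Statements.S19715
import Groth.Agent.L15.TwLocal.Basic
-- import your own Groth.Agent.* helpers here

set_option autoImplicit false
universe u
open TwSh

namespace Groth.Agent.S19715

open CategoryTheory CategoryTheory.Limits AlgebraicGeometry in
/-- Being twisted is local on the base. Let 𝒳 → X be an fppf A-gerbe over a scheme X, χ a character of
A, d an integer and F a quasi-coherent module on 𝒳. If {T_i → X} is a family of flat morphisms
locally of finite presentation whose images cover X, and for every i the restriction of F to the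
gerbe restricted over T_i is d-fold χ-twisted for the restricted action, then F is d-fold χ-twisted.
(The published statement is an equivalence, for arbitrary modules on an A-gerbe over a locally
ringed site and a covering of it; the converse implication holds by construction and is not
asserted, and this row is the quasi-coherent form over the big fppf site of a scheme.) -/
theorem result (S : Scheme.{u}) (X : Over S) (𝒳 : AlgSt.Cat S) (h𝒳 : AlgSt.IsAlgStack Scheme.fppfPrecoverage 𝒳) (A : (Over S)ᵒᵖ ⥤ GrpCat.{u}) (χ : A ⟶ TwSh.GmPsh S) (d : ℤ) (π : 𝒳 ⥤ᵇ AlgSt.ofSch X) (ι : TwSh.BandHom 𝒳 A) (hπ : TwSh.IsBandedGerbe (QuotSh.J Scheme.fppfPrecoverage S) π ι) (I : Type u) (η : I → (AlgSt.ofSch X).obj) (hfl : ∀ i, Flat (η i).sec.down.left) (hfp : ∀ i, LocallyOfFinitePresentation (η i).sec.down.left) (hcov : ∀ x : X.left, ∃ i, x ∈ Set.range (η i).sec.down.left.base) (F : StMod.QCoh 𝒳) (h : ∀ i, TwSh.IsTwisted (StMod.Mod.comap (StMod.fibFst π (η i)) F.obj) (TwSh.BandHom.fib π (η i) ι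 (TwSh.IsBandedGerbe.map_hom_eq_id π hπ)) χ d) : TwSh.IsTwisted F.obj ι χ d := by
  have hgr : FibCat.IsFibGrpd 𝒳.p := h𝒳.isStack.1
  rw [TwSh.isTwisted_iff_inert_eq]
  intro ξ a
  let s : 𝒳.p.obj ξ ⟶ X := eqToHom (π.w_obj ξ).symm ≫ (π.obj ξ).sec.down
  let T : I → Over S := fun i => Over.mk (pullback.fst s.left (η i).sec.down.left ≫ (𝒳.p.obj ξ).hom)
  let p : ∀ i, T i ⟶ 𝒳.p.obj ξ := fun i => Over.homMk (pullback.fst s.left (η i).sec.down.left) rfl
  let q : ∀ i, T i ⟶ (η i).base := fun i => Over.homMk (pullback.snd s.left (η i).sec.down.left) (by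
    show pullback.snd s.left (η i).sec.down.left ≫ (η i).base.hom =
      pullback.fst s.left (η i).sec.down.left ≫ (𝒳.p.obj ξ).hom
    rw [← Over.w (η i).sec.down, ← Over.w s, ← Category.assoc, ← Category.assoc, pullback.condition])
  choose ξ' φ hφ using fun i => hgr.exists_lift (p i)
  have hdom : ∀ i, 𝒳.p.obj (ξ' i) = T i := fun i => by
    haveI := hφ i
    exact IsHomLift.domain_eq 𝒳.p (p i) (φ i)
  have hmap : ∀ i, 𝒳.p.map (φ i) = eqToHom (hdom i) ≫ p i := fun i => by
    haveI := hφ i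
    simpa using IsHomLift.fac' 𝒳.p (p i) (φ i)
  have hb : ∀ i, StMod.bmap 𝒳 (φ i) =
      eqToHom (congrArg Comma.left (hdom i)) ≫ pullback.fst s.left (η i).sec.down.left := fun i => by
    show (𝒳.p.map (φ i)).left = _
    rw [hmap, Over.comp_left, Over.eqToHom_left]
    rfl
  have hπmap : ∀ i, (π.map (φ i)).hom =
      eqToHom (π.w_obj (ξ' i)) ≫ 𝒳.p.map (φ i) ≫ eqToHom (π.w_obj ξ).symm := fun i =>
    Groth.L15.TwLocal.map_eq π (φ i)
  have hpq : ∀ i, p i ≫ s = q i ≫ (η i).sec.down := fun i => Over.OverMorphism.ext pullback.condition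
  let α : ∀ i, π.obj (ξ' i) ⟶ η i := fun i => ⟨eqToHom ((π.w_obj (ξ' i)).trans (hdom i)) ≫ q i, by
    have e := (congrArg ULift.down (π.map (φ i)).map_sec)
    refine congrArg ULift.up (Eq.trans ?_ e)
    show (eqToHom _ ≫ q i) ≫ (η i).sec.down = (π.map (φ i)).hom ≫ (π.obj ξ).sec.down
    rw [hπmap, hmap, Category.assoc, ← hpq]
    simp [s]⟩
  refine Groth.L15.TwLocal.inert_eq_of_cover F ι χ d ξ ξ' φ (fun i => ?_) (fun x => ?_) (fun i a' U t => ?_) a
  · haveI := hfl i
    rw [hb]
    exact inferInstanceAs (Flat (eqToHom _ ≫ pullback.fst s.left (η i).sec.down.left))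
  · obtain ⟨i, y, hy⟩ := hcov (s.left x)
    obtain ⟨z, hz, -⟩ := Scheme.Pullback.exists_preimage_pullback (f := s.left) (g := (η i).sec.down.left) x y hy.symm
    refine ⟨i, ?_⟩
    rw [hb]
    exact Groth.L15.TwLocal.mem_range_eqToHom_comp (congrArg Comma.left (hdom i)) _ ⟨z, hz⟩
  · exact Groth.L15.TwLocal.twisted_at_of_fib π (η i) F.obj ι (TwSh.IsBandedGerbe.map_hom_eq_id π hπ) χ d (h i)
      (CostructuredArrow.mk (α i)) a' U t

end Groth.Agent.S19715
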