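import Groth.Statements.S19717
import Groth.Agent.L15.GerbeDesc.Main
-- import your own Groth.Agent.* helpers here

set_option autoImplicit false
universe u
open TwSh

namespace Groth.Agent.S19717

open CategoryTheory AlgebraicGeometry in
/-- Second assertion: let π : 𝒳 → 𝒴 be an fppf A-gerbe of algebraic stacks, for a presheaf of groups A
on schemes over S acting through the inertia of 𝒳, and let G be a quasi-coherent module on 𝒴. Then G
is of finite type if and only if its inverse image along π is; likewise for finite presentation, and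
for being locally free of finite type. (The published statement is for all modules on a gerbe over a
locally ringed site and for any property preserved by pullback along morphisms of sites, naming also
quasi-coherence, flatness and local freeness; this row is its quasi-coherent form for the three
properties named, local freeness being taken together with finite type.) -/
theorem result (S : Scheme.{u}) (𝒳 𝒴 : AlgSt.Cat S) (h𝒳 : AlgSt.IsAlgStack Scheme.fppfPrecoverage 𝒳) (h𝒴 : AlgSt.IsAlgStack Scheme.fppfPrecoverage 𝒴) (A : (Over S)ᵒᵖ ⥤ GrpCat.{u}) (π : 𝒳 ⥤ᵇ 𝒴) (ι : TwSh.BandHom 𝒳 A) (hπ : TwSh.IsBandedGerbe (QuotSh.J Scheme.fppfPrecoverage S) π ι) (G : StMod.QCoh 𝒴) : (G.obj.IsFinType ↔ ((StMod.comapQ π).obj G).obj.IsFinType) ∧ (G.obj.IsFinPres ↔ ((StMod.comapQ π).obj G).obj.IsFinPres) ∧ ((G.obj.IsLocFree ∧ G.obj.IsFinType) ↔ (((StMod.comapQ π).obj G).obj.IsLocFree ∧ ((StMod.comapQ π).obj G).obj.IsFinType)) := by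
  have hl := hπ.1.1
  refine ⟨⟨fun h => Groth.L15.GerbeDesc.comap_of (fun {X} M => CohB1.IsFT M) π G h, fun h η => ?_⟩,
    ⟨fun h => Groth.L15.GerbeDesc.comap_of (fun {X} M => CohB1.IsFP M) π G h, fun h η => ?_⟩,
    ⟨fun h => ⟨Groth.L15.GerbeDesc.comap_of (fun {X : Scheme.{u}} (M : X.Modules) => SheafOfModules.IsLocallyFree.{u, u, u} (R := X.ringCatSheaf) M) π G h.1,
        Groth.L15.GerbeDesc.comap_of (fun {X} M => CohB1.IsFT M) π G h.2⟩, fun h => ?_⟩⟩
  · exact Groth.L15.GerbeDesc.of_comap (fun {X} M => CohB1.IsFT M) π G hl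
      (fun e hM => Groth.L15.GerbeDesc.isFT_of_iso e hM)
      (fun hfl hfp hs M _ h => Groth.L15.GerbeDesc.isFT_of_family hfl hfp hs M h) h η
  · exact Groth.L15.GerbeDesc.of_comap (fun {X} M => CohB1.IsFP M) π G hl
      (fun e hM => Groth.L22.Inter.FlatTwist.isFP_of_iso e hM)
      (fun hfl hfp hs M _ h => Groth.L15.GerbeDesc.isFP_of_family hfl hfp hs M h) h η
  · have key : ∀ η, FlatMod.IsFinLocFree (G.obj.obj η) :=
      Groth.L15.GerbeDesc.of_comap (fun {X} M => FlatMod.IsFinLocFree M) π G hl
        (fun e hM => Groth.L29.LocFree.of_iso e hM)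
        (fun hfl hfp hs M _ h => Groth.L15.GerbeDesc.isFinLocFree_of_family hfl hfp hs M h)
        (fun ξ => Groth.L15.GerbeDesc.isFinLocFree_of_isLocallyFree_of_isFiniteType _ (h.1 ξ) (h.2 ξ))
    exact ⟨fun η => Groth.L15.GerbeDesc.isLocallyFree_of_isFinLocFree _ (key η),
      fun η => Groth.L15.GerbeDesc.isFiniteType_of_isFinLocFree _ (key η)⟩

end Groth.Agent.S19717
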