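import Groth.Statements.S1973
import Mathlib.RingTheory.Unramified.LocalRing
import Mathlib.RingTheory.DiscreteValuationRing.TFAE
import Mathlib.RingTheory.DedekindDomain.Basic
import Mathlib.RingTheory.LocalProperties.IntegrallyClosed
import Mathlib.RingTheory.LocalProperties.Reduced
import Mathlib.RingTheory.Ideal.MinimalPrime.Localization
import Mathlib.RingTheory.Flat.Stability
import Mathlib.RingTheory.Ideal.Quotient.Operations
import Mathlib.RingTheory.Smooth.Flat
import Mathlib.RingTheory.Flat.TorsionFree
import Mathlib.RingTheory.Ideal.MinimalPrime.Noetherian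
import Mathlib.RingTheory.Filtration
import Mathlib.RingTheory.DedekindDomain.Dvr

set_option autoImplicit false
universe u
open EtAlg

namespace Groth.Agent.S1973

/-- Let A be a Dedekind domain and B an etale A-algebra. Then B is isomorphic as a ring to a finite
product of Dedekind domains, and for every maximal ideal q of B whose localization is not a field,
the localization B_q is a discrete valuation ring. (The source states the last claim for all maximal
ideals; it fails for field factors, e.g. A a DVR with uniformizer π and B = A[1/π], so the guard is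
needed.) -/
theorem result (A B : Type u) [CommRing A] [IsDedekindDomain A] [CommRing B] [Algebra A B]
    [Algebra.Etale A B] :
    (∃ (n : ℕ) (D : Fin n → Type u) (_ : ∀ i, CommRing (D i)) (_ : ∀ i, IsDedekindDomain (D i)),
      Nonempty (B ≃+* ∀ i, D i)) ∧
    ∀ (q : Ideal B) [q.IsMaximal], ¬ IsField (Localization.AtPrime q) →
      ∃ _ : IsDomain (Localization.AtPrime q), IsDiscreteValuationRing (Localization.AtPrime q) := by
  classical
  haveI : IsNoetherianRing B := Algebra.FiniteType.isNoetherianRing A B
  -- the local rings
  have loc : ∀ (q : Ideal B) [q.IsMaximal], IsField (Localization.AtPrime q) ∨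
      ∃ _ : IsDomain (Localization.AtPrime q), IsDiscreteValuationRing (Localization.AtPrime q) := by
    intro q _
    let p := q.comap (algebraMap A B)
    haveI : q.LiesOver p := ⟨rfl⟩
    letI := Localization.AtPrime.algebraOfLiesOver p q
    have h := ((Algebra.isUnramifiedAt_iff_map_eq A p q).mp inferInstance).2
    by_cases hp : p = ⊥
    · left
      rw [IsLocalRing.isField_iff_maximalIdeal_eq, ← h, hp, Ideal.map_bot]
    · right
      haveI : p.IsPrime := Ideal.IsPrime.comap _
      haveI : IsDiscreteValuationRing (Localization.AtPrime p) :=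
        IsLocalization.AtPrime.isDiscreteValuationRing_of_dedekind_domain A hp _
      obtain ⟨π, hπ⟩ := IsDiscreteValuationRing.exists_irreducible (Localization.AtPrime p)
      let S := Localization.AtPrime q
      let t : S := algebraMap (Localization.AtPrime p) S π
      haveI : Module.Flat A B := Algebra.Smooth.flat A B
      haveI : Module.Flat A S := Module.Flat.trans A B S
      haveI : Module.Flat (Localization.AtPrime p) S :=
        (Module.flat_iff_of_isLocalization (Localization.AtPrime p) p.primeCompl S).mpr inferInstance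
      have hreg : ∀ x : S, t * x = 0 → x = 0 := fun x hx => by
        have := Module.Flat.isSMulRegular_of_nonZeroDivisors (R := Localization.AtPrime p) (M := S)
          (mem_nonZeroDivisors_of_ne_zero hπ.ne_zero)
        exact this (by simpa [t, Algebra.smul_def] using hx)
      have hm : IsLocalRing.maximalIdeal S = Ideal.span {t} := by
        rw [← h]
        rw [show p.map (algebraMap A S) = (p.map (algebraMap A (Localization.AtPrime p))).map
          (algebraMap (Localization.AtPrime p) S) by rw [Ideal.map_map, ← IsScalarTower.algebraMap_eq],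
          Localization.AtPrime.map_eq_maximalIdeal, hπ.maximalIdeal_eq, Ideal.map_span,
          Set.image_singleton]
      have hkr := Ideal.iInf_pow_eq_bot_of_isLocalRing (IsLocalRing.maximalIdeal S)
        (IsLocalRing.maximalIdeal.isMaximal S).ne_top
      have hform : ∀ x : S, x ≠ 0 → ∃ (k : ℕ) (u : Sˣ), x = t ^ k * u := by
        intro x hx
        have : ∃ k, x ∉ IsLocalRing.maximalIdeal S ^ (k + 1) := by
          by_contra! hk
          refine hx ((Submodule.mem_bot S).mp (hkr ▸ (Submodule.mem_iInf _).mpr fun k => ?_))
          exact Ideal.pow_le_pow_right (Nat.le_succ k) (hk k)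
        have hmem : x ∈ IsLocalRing.maximalIdeal S ^ Nat.find this := by
          rcases Nat.eq_zero_or_eq_succ_pred (Nat.find this) with h0 | h0
          · simp [h0]
          · have := Nat.find_min this (Nat.lt_of_lt_of_eq (Nat.lt_succ_self _) h0.symm)
            rw [h0]
            simpa using this
        have hpk : ∀ k : ℕ, IsLocalRing.maximalIdeal S ^ k = Ideal.span {t ^ k} := fun k => by
          rw [hm, Ideal.span_singleton_pow]
        simp only [hpk, Ideal.mem_span_singleton'] at hmem
        obtain ⟨a, ha⟩ := hmem
        have hu : IsUnit a := by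
          by_contra hu
          refine Nat.find_spec this ?_
          obtain ⟨b, hb⟩ := Ideal.mem_span_singleton'.mp (hm ▸ (IsLocalRing.mem_maximalIdeal a).mpr hu)
          simp only [hpk, Ideal.mem_span_singleton']
          exact ⟨b, Eq.trans (by rw [← hb, pow_succ]; ring) ha⟩
        exact ⟨_, hu.unit, by rw [← ha, mul_comm]; rfl⟩
      have hpow : ∀ (k : ℕ) (x : S), t ^ k * x = 0 → x = 0 := by
        intro k
        induction k with
        | zero => exact fun x hx => by simpa using hx
        | succ k ih => exact fun x hx => ih x (hreg _ (by rw [← mul_assoc, ← pow_succ']; exact hx))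
      haveI : NoZeroDivisors S := ⟨fun {x y} hxy => by
        by_contra! hne
        obtain ⟨k, u, rfl⟩ := hform x hne.1
        refine hne.2 (hpow k y ?_)
        rw [mul_assoc, mul_comm (u : S), ← mul_assoc] at hxy
        exact u.mul_left_eq_zero.mp hxy⟩
      haveI : IsDomain S := NoZeroDivisors.to_isDomain S
      have hnf : ¬ IsField S := fun hf => by
        rw [IsLocalRing.isField_iff_maximalIdeal_eq, hm, Ideal.span_singleton_eq_bot] at hf
        exact one_ne_zero (hreg 1 (by rw [hf, zero_mul]))
      refine ⟨inferInstance, ((IsDiscreteValuationRing.TFAE S hnf).out 0 4 rfl rfl).mpr ?_⟩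
      exact ⟨⟨t, hm⟩⟩
  haveI hdom : ∀ (q : Ideal B) [q.IsMaximal], IsDomain (Localization.AtPrime q) := fun q _ =>
    (loc q).elim (fun h => h.isDomain) fun ⟨h, _⟩ => h
  refine ⟨?_, fun q _ hnf => (loc q).resolve_left hnf⟩
  have hred : _root_.IsReduced B := isReduced_ofLocalizationMaximal B fun q _ => inferInstance
  -- a minimal prime inside a maximal ideal dies in the local ring
  have hPloc : ∀ (P q : Ideal B) [q.IsMaximal], P ∈ minimalPrimes B → P ≤ q →
      P = (⊥ : Ideal (Localization.AtPrime q)).comap (algebraMap B _) := by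
    intro P q _ hP hPq
    haveI := Ideal.minimalPrimes_isPrime hP
    have hle : (⊥ : Ideal (Localization.AtPrime q)).comap (algebraMap B _) ≤ P :=
      (IsLocalization.comap_map_of_isPrime_disjoint q.primeCompl (Localization.AtPrime q)
        (hP.1.1) (Set.disjoint_left.mpr fun x hx hx' => hx (hPq hx'))).le.trans' (Ideal.comap_mono bot_le)
    haveI := hdom q
    exact le_antisymm (hP.2 ⟨Ideal.IsPrime.comap _, bot_le⟩ hle) hle
  haveI : Finite (minimalPrimes B) := (minimalPrimes.finite_of_isNoetherianRing B).to_subtype
  obtain ⟨n, ⟨e⟩⟩ := Finite.exists_equiv_fin (minimalPrimes B)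
  let P : Fin n → Ideal B := fun i => (e.symm i).1
  haveI hPp : ∀ i, (P i).IsPrime := fun i => Ideal.minimalPrimes_isPrime (e.symm i).2
  have hcop : Pairwise (Function.onFun IsCoprime P) := by
    intro i j hij
    rw [Function.onFun, Ideal.isCoprime_iff_sup_eq]
    by_contra hne
    obtain ⟨q, hq, hle⟩ := Ideal.exists_le_maximal _ hne
    exact hij (e.symm.injective (Subtype.ext ((hPloc _ q (e.symm i).2 (le_sup_left.trans hle)).trans
      (hPloc _ q (e.symm j).2 (le_sup_right.trans hle)).symm)))
  have hinf : ⨅ i, P i = ⊥ := by
    have h0 : nilradical B = ⊥ := nilradical_eq_zero B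
    rw [eq_bot_iff, ← h0, nilradical, Ideal.zero_eq_bot, ← Ideal.sInf_minimalPrimes]
    refine le_sInf fun Q hQ => ?_
    exact (iInf_le P (e ⟨Q, hQ⟩)).trans (by simp [P])
  have hD : ∀ i, IsDedekindDomain (B ⧸ P i) := by
    intro i
    haveI : IsDomain (B ⧸ P i) := Ideal.Quotient.isDomain (P i)
    -- the local rings of the factor
    have hlq : ∀ (q' : Ideal (B ⧸ P i)) [q'.IsMaximal],
        Nonempty (Localization.AtPrime (q'.comap (Ideal.Quotient.mk (P i))) ≃+* Localization.AtPrime q') := by
      intro q' _
      haveI : (q'.comap (Ideal.Quotient.mk (P i))).IsMaximal :=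
        Ideal.comap_isMaximal_of_surjective _ Ideal.Quotient.mk_surjective
      set q := q'.comap (Ideal.Quotient.mk (P i))
      have hle : P i ≤ q := fun x hx => by
        show Ideal.Quotient.mk (P i) x ∈ q'
        rw [Ideal.Quotient.eq_zero_iff_mem.mpr hx]
        exact zero_mem _
      refine ⟨RingEquiv.ofBijective (Localization.localRingHom q q' (Ideal.Quotient.mk (P i)) rfl) ⟨?_, ?_⟩⟩
      · rw [injective_iff_map_eq_zero]
        intro z hz
        obtain ⟨b, s, rfl⟩ := IsLocalization.exists_mk'_eq q.primeCompl z
        rw [Localization.localRingHom_mk', IsLocalization.mk'_eq_zero_iff] at hz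
        obtain ⟨⟨c, hc⟩, hc'⟩ := hz
        obtain ⟨c, rfl⟩ := Ideal.Quotient.mk_surjective c
        rw [IsLocalization.mk'_eq_zero_iff]
        rw [← map_mul, Ideal.Quotient.eq_zero_iff_mem, hPloc (P i) q (e.symm i).2 hle, Ideal.mem_comap,
          Ideal.mem_bot, IsLocalization.map_eq_zero_iff q.primeCompl] at hc'
        obtain ⟨⟨d, hd⟩, hd'⟩ := hc'
        exact ⟨⟨d * c, mul_mem hd (show c ∈ q.primeCompl from hc)⟩, by rw [mul_assoc]; exact hd'⟩
      · intro z
        obtain ⟨b, ⟨s, hs⟩, rfl⟩ := IsLocalization.exists_mk'_eq q'.primeCompl z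
        obtain ⟨b, rfl⟩ := Ideal.Quotient.mk_surjective b
        obtain ⟨s, rfl⟩ := Ideal.Quotient.mk_surjective s
        exact ⟨IsLocalization.mk' _ b (⟨s, hs⟩ : q.primeCompl), Localization.localRingHom_mk' ..⟩
    haveI : IsIntegrallyClosed (B ⧸ P i) := IsIntegrallyClosed.of_localization_maximal fun q' _ _ => by
      obtain ⟨f⟩ := hlq q'
      haveI : (q'.comap (Ideal.Quotient.mk (P i))).IsMaximal :=
        Ideal.comap_isMaximal_of_surjective _ Ideal.Quotient.mk_surjective
      rcases loc (q'.comap (Ideal.Quotient.mk (P i))) with h | ⟨_, _⟩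
      · letI := h.toField; exact IsIntegrallyClosed.of_equiv f
      · exact IsIntegrallyClosed.of_equiv f
    haveI : Ring.DimensionLEOne (B ⧸ P i) := ⟨fun {Q} hQ0 hQ => by
      obtain ⟨q', hq', hQq⟩ := Ideal.exists_le_maximal Q hQ.ne_top
      haveI := hq'
      obtain ⟨f⟩ := hlq q'
      haveI : (q'.comap (Ideal.Quotient.mk (P i))).IsMaximal :=
        Ideal.comap_isMaximal_of_surjective _ Ideal.Quotient.mk_surjective
      haveI := hQ
      have hdisj : Disjoint (q'.primeCompl : Set (B ⧸ P i)) Q :=
        Set.disjoint_left.mpr fun x hx hx' => hx (hQq hx')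
      have hQ' := IsLocalization.isPrime_of_isPrime_disjoint q'.primeCompl (Localization.AtPrime q') Q hQ hdisj
      have hQ'0 : Q.map (algebraMap _ (Localization.AtPrime q')) ≠ ⊥ := fun h => hQ0 (by
        rw [← IsLocalization.comap_map_of_isPrime_disjoint q'.primeCompl (Localization.AtPrime q') hQ hdisj, h,
          Ideal.under, Ideal.comap_bot_of_injective _ (IsLocalization.injective _ q'.primeCompl_le_nonZeroDivisors)])
      have hmax : (Q.map (algebraMap _ (Localization.AtPrime q'))).IsMaximal := by
        rcases loc (q'.comap (Ideal.Quotient.mk (P i))) with h | ⟨_, _⟩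
        · haveI := hQ'
          letI := (f.symm.toMulEquiv.isField h).toField
          exact absurd ((Ideal.eq_bot_or_top _).resolve_right hQ'.ne_top) hQ'0
        · haveI : IsPrincipalIdealRing (Localization.AtPrime q') :=
            IsPrincipalIdealRing.of_surjective f.toRingHom f.surjective
          exact IsPrime.to_maximal_ideal hQ'0
      have := IsLocalization.comap_map_of_isPrime_disjoint q'.primeCompl (Localization.AtPrime q') hQ hdisj
      rw [IsLocalRing.eq_maximalIdeal hmax, Localization.AtPrime.comap_maximalIdeal] at this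
      exact this ▸ hq'⟩
    exact { }
  exact ⟨n, fun i => B ⧸ P i, fun _ => inferInstance, hD,
    ⟨(RingEquiv.quotientBot B).symm.trans ((Ideal.quotEquivOfEq hinf.symm).trans
      (Ideal.quotientInfRingEquivPiQuotient P hcop))⟩⟩

end Groth.Agent.S1973
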