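import Groth.Statements.S19741
import Mathlib.RingTheory.AlgebraicIndependent.TranscendenceBasis
import Mathlib.FieldTheory.AlgebraicClosure
set_option backward.isDefEq.respectTransparency.types false
set_option linter.style.haveILetI false
-- import your own Groth.Agent.* helpers here

set_option autoImplicit false
universe w u
open EssDim

namespace Groth.Agent.S19741

section Trdeg

/-- The transcendence degree does not grow in a compositum. -/
theorem trdeg_adjoin_le (k K L : Type u) [Field k] [Field K] [Field L] [Algebra k K] [Algebra K L] [Algebra k L]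
    [IsScalarTower k K L] (F : IntermediateField k L) :
    Algebra.trdeg K (IntermediateField.adjoin K (F : Set L)) ≤ Algebra.trdeg k F := by
  classical
  obtain ⟨B, hB⟩ := exists_isTranscendenceBasis k F
  let KF := IntermediateField.adjoin K (F : Set L)
  let ι : F → KF := fun x => ⟨x.1, IntermediateField.subset_adjoin K _ x.2⟩
  let s : Set KF := ι '' B
  refine le_trans ?_ (le_trans (Cardinal.mk_image_le (s := B) (f := ι)) (le_of_eq hB.cardinalMk_eq_trdeg))
  haveI : Algebra.IsAlgebraic (Algebra.adjoin K s) KF := by
    let T : Subalgebra K L := Algebra.adjoin K (Subtype.val '' s)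
    let J : IntermediateField K L := IntermediateField.adjoin K (Subtype.val '' s)
    haveI h1 : Algebra.IsAlgebraic (IntermediateField.adjoin k (Set.range ((↑) : B → F))) F := hB.isAlgebraic_field
    have h2 : ∀ x ∈ (F : Set L), IsAlgebraic J x := by
      intro x hx
      let f : IntermediateField.adjoin k (Set.range ((↑) : B → F)) →+* J :=
        ((F.val : F →+* L).comp (IntermediateField.adjoin k (Set.range ((↑) : B → F))).val.toRingHom).codRestrict
          J.toSubfield.toSubring (fun y => by
            have hle : IntermediateField.adjoin k (Set.range ((↑) : B → F)) ≤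
                (J.restrictScalars k).comap F.val := by
              refine IntermediateField.adjoin_le_iff.2 ?_
              rintro _ ⟨b, rfl⟩
              exact IntermediateField.subset_adjoin K _ ⟨ι b.1, ⟨b.1, b.2, rfl⟩, rfl⟩
            exact hle y.2)
      exact (Algebra.IsAlgebraic.isAlgebraic (R := IntermediateField.adjoin k (Set.range ((↑) : B → F)))
        (⟨x, hx⟩ : F)).ringHom_of_comp_eq f (F.val : F →+* L) f.injective (RingHom.ext fun y => rfl)
    have hKF : KF ≤ (algebraicClosure J L).restrictScalars K :=
      IntermediateField.adjoin_le_iff.2 fun x hx => mem_algebraicClosure_iff.2 (h2 x hx)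
    constructor
    intro z
    let S : IntermediateField K KF := IntermediateField.adjoin K s
    have hz : IsAlgebraic S z := by
      have h3 : IsAlgebraic J (z : L) := mem_algebraicClosure_iff.1 (hKF z.2)
      have hmap : S.map KF.val = J := IntermediateField.adjoin_map _ _ _
      let g : S →+* J := ((KF.val : KF →+* L).comp (S.val : S →+* KF)).codRestrict J.toSubfield.toSubring
        (fun y => hmap ▸ ⟨y.1, y.2, rfl⟩)
      have hg : Function.Surjective g := fun y => by
        have hy : (y : L) ∈ S.map KF.val := by rw [hmap]; exact y.2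
        obtain ⟨w, hw, hwy⟩ := hy
        exact ⟨⟨w, hw⟩, Subtype.ext hwy⟩
      exact IsAlgebraic.of_ringHom_of_comp_eq g (KF.val : KF →+* L) h3 hg
        KF.val.toRingHom.injective (RingHom.ext fun y => rfl)
    exact IntermediateField.isAlgebraic_adjoin_iff.1 hz
  exact Algebra.IsAlgebraic.trdeg_le_cardinalMk K s

end Trdeg

open CategoryTheory AlgebraicGeometry in
/-- For a field extension `K` of `k` and a presheaf of sets `P` on schemes over `k`, restrict `P` to
schemes over `K` by viewing a scheme over `Spec K` as a scheme over `Spec k`; then the essential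
dimension over `K` of the restricted presheaf is at most the essential dimension of `P` over `k`.
(The source states this for an algebraic stack over `k` and its base change to `K`, through the
presheaf of isomorphism classes of objects, whose restriction to schemes over `K` is the presheaf of
classes of the base-changed stack; the inequality is stated here for an arbitrary presheaf, which is
what the argument with composita of fields of definition gives.) -/
theorem result (k : Type u) [Field k] (K : Type u) [Field K] [Algebra k K]
    (P : (Over (Spec (CommRingCat.of k)))ᵒᵖ ⥤ Type w) :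
    EssDim.ed (k := K) ((Over.map (Spec.map (CommRingCat.ofHom (algebraMap k K)))).op ⋙ P) ≤ EssDim.ed P := by
  let Q := (Over.map (Spec.map (CommRingCat.ofHom (algebraMap k K)))).op ⋙ P
  refine iSup_le fun L => iSup_le fun _ => iSup_le fun _ => iSup_le fun ξ => ?_
  letI : Algebra k L := ((algebraMap K L).comp (algebraMap k K)).toAlgebra
  haveI : IsScalarTower k K L := IsScalarTower.of_algebraMap_eq fun x => rfl
  have hw : 𝟙 (Spec (CommRingCat.of L)) ≫
      (Spec.map (CommRingCat.ofHom (algebraMap K L)) ≫ Spec.map (CommRingCat.ofHom (algebraMap k K))) =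
      Spec.map (CommRingCat.ofHom (algebraMap k L)) := by
    rw [Category.id_comp, ← Spec.map_comp, ← CommRingCat.ofHom_comp]
  let e : SGA7.pt (K := k) L ⟶ (Over.map (Spec.map (CommRingCat.ofHom (algebraMap k K)))).obj (SGA7.pt (K := K) L) :=
    Over.homMk (𝟙 _) hw
  let ξ' : EssDim.FPt P L := P.map e.op ξ
  refine le_trans ?_ (le_iSup_of_le L (le_iSup_of_le inferInstance (le_iSup_of_le inferInstance
    (le_iSup_of_le ξ' le_rfl))))
  refine WithBot.coe_le_coe.2 (le_iInf fun F => ?_)
  obtain ⟨F, ξ₀, hξ₀⟩ := F
  let KF := IntermediateField.adjoin K (F : Set L)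
  refine le_trans (EssDim.edAt_le_of_descends (K := KF) ?_) (OrderHomClass.mono Cardinal.toENat (trdeg_adjoin_le k K L F))
  let incl : F →+* KF := (F.val : F →+* L).codRestrict KF.toSubfield.toSubring
    (fun x => IntermediateField.subset_adjoin K _ x.2)
  have hu : Spec.map (CommRingCat.ofHom incl) ≫ Spec.map (CommRingCat.ofHom (algebraMap k F)) =
      Spec.map (CommRingCat.ofHom (algebraMap K KF)) ≫ Spec.map (CommRingCat.ofHom (algebraMap k K)) := by
    rw [← Spec.map_comp, ← Spec.map_comp, ← CommRingCat.ofHom_comp, ← CommRingCat.ofHom_comp]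
    rfl
  let u : (Over.map (Spec.map (CommRingCat.ofHom (algebraMap k K)))).obj (SGA7.pt (K := K) KF) ⟶ SGA7.pt (K := k) F :=
    Over.homMk (Spec.map (CommRingCat.ofHom incl)) hu
  refine ⟨P.map u.op ξ₀, ?_⟩
  haveI : IsIso e.left := inferInstanceAs (IsIso (𝟙 _))
  haveI : IsIso ((Over.forget _).map e) := inferInstanceAs (IsIso e.left)
  haveI : IsIso e := isIso_of_reflects_iso e (Over.forget _)
  refine ((CategoryTheory.isIso_iff_bijective (P.map e.op)).1 inferInstance).1 ?_
  refine Eq.trans ?_ hξ₀
  change P.map e.op (P.map ((Over.map _).map (EssDim.resPt KF.val)).op (P.map u.op ξ₀)) = P.map (EssDim.resPt F.val).op ξ₀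
  rw [← Functor.map_comp_apply, ← Functor.map_comp_apply, ← op_comp, ← op_comp]
  refine congrArg (fun m => P.map (Quiver.Hom.op m) ξ₀) (Over.OverMorphism.ext ?_)
  show (𝟙 _ ≫ Spec.map (CommRingCat.ofHom (KF.val : KF →+* L))) ≫ Spec.map (CommRingCat.ofHom incl) = Spec.map _
  rw [Category.id_comp, ← Spec.map_comp, ← CommRingCat.ofHom_comp]
  rfl

end Groth.Agent.S19741
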