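import Mathlib.Tactic
import Mathlib.LinearAlgebra.Basis.VectorSpace
import Groth.Statements.S19749


set_option autoImplicit false
universe u
open scoped TensorProduct
open GrSegre

namespace Groth.Agent.S19749

/-- Let R and S be graded rings defined over a field k, both generated over k by their degree-one parts
and of positive Krull dimension, T = R # S, M a graded R-module and N a graded S-module, n an
integer with N_m ≠ 0 for every m ≥ n, and x ∈ M_n, y ∈ N_n. If x # y generates M # N as a T-module,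
then R_d x = M_{n+d} for every d ≥ 0 (every element of M_{n+d} is r x for some r ∈ R_d). Here a
graded ring defined over k is a commutative k-algebra of finite type, graded in nonnegative degrees
by k-subspaces with degree-zero part k·1; the Segre product T = R # S = ⊕_n R_n ⊗_k S_n is presented
abstractly as a graded k-algebra T with an injective k-algebra homomorphism ψ : T → R ⊗_k S carrying
T_n onto the k-span of the elementary tensors a ⊗ b with a ∈ R_n, b ∈ S_n; the Segre product M # N =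
⊕_n M_n ⊗_k N_n of a graded R-module M and a graded S-module N is presented abstractly as a graded
T-module P with an injective k-linear map φ : P → M ⊗_k N carrying P_n onto the k-span of the
tensors x ⊗ y with x ∈ M_n, y ∈ N_n and turning the action of t ∈ T into that of ψ(t) (acting
factorwise on M ⊗_k N), and x # y is the element of P mapped to x ⊗ y. -/
theorem result (k : Type u) [Field k] (R : Type u) [CommRing R] [Algebra k R] (𝒜 : ℤ → Submodule k R) [GradedAlgebra 𝒜] (hposR : ∀ n : ℤ, n < 0 → 𝒜 n = ⊥) (h0R : 𝒜 0 = Submodule.span k {(1 : R)}) [Algebra.FiniteType k R] (S : Type u) [CommRing S] [Algebra k S] (ℬ : ℤ → Submodule k S) [GradedAlgebra ℬ] (hposS : ∀ n : ℤ, n < 0 → ℬ n = ⊥) (h0S : ℬ 0 = Submodule.span k {(1 : S)}) [Algebra.FiniteType k S] (T : Type u) [CommRing T] [Algebra k T] (𝒯 : ℤ → Submodule k T) [GradedAlgebra 𝒯] (ψ : T →ₐ[k] TensorProduct k R S) (hT : GrSeg.IsSegreRing 𝒜 ℬ 𝒯 ψ) (hstdR : Ideal.span (⋃ n ∈ Set.Ioi (0 : ℤ), (𝒜 n : Set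 R)) = Ideal.span ((𝒜 1 : Submodule k R) : Set R)) (hstdS : Ideal.span (⋃ n ∈ Set.Ioi (0 : ℤ), (ℬ n : Set S)) = Ideal.span ((ℬ 1 : Submodule k S) : Set S)) (hr1 : 1 ≤ ringKrullDim R) (hs1 : 1 ≤ ringKrullDim S) (M : Type u) [AddCommGroup M] [Module R M] [Module k M] [IsScalarTower k R M] (ℳ : ℤ → AddSubgroup M) [DirectSum.Decomposition ℳ] [SetLike.GradedSMul 𝒜 ℳ] (N : Type u) [AddCommGroup N] [Module S N] [Module k N] [IsScalarTower k S N] (𝒩 : ℤ → AddSubgroup N) [DirectSum.Decomposition 𝒩] [SetLike.GradedSMul ℬ 𝒩] (P : Type u) [AddCommGroup P] [Module T P] [Module k P] [IsScalarTower k T P] (𝒬 : ℤ → AddSubgroup P) [DirectSum.Decomposition 𝒬] (φ : P →ₗ[k] TensorProduct k M N) (hP : GrSeg.IsSegreMod ψ ℳ 𝒩 𝒬 φ) (n : ℤ) (hNn : ∀ m : ℤ, n ≤ m → 𝒩 m ≠ ⊥) (x : M) (hx : x ∈ ℳ n) (y : N) (hy : y ∈ 𝒩 n) (p : P) (hp : φ p = x ⊗ₜ[k] y) (hgen : Submodule.span T {p} = ⊤) (d : ℤ) (hd : 0 ≤ d) (z : M) (hz : z ∈ ℳ (n + d)) : ∃ r ∈ 𝒜 d, r • x = z := by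
  classical
  obtain ⟨w, hw, hw0⟩ : ∃ w ∈ 𝒩 (n + d), w ≠ 0 := by
    by_contra h
    push Not at h
    exact hNn (n + d) (by omega) ((AddSubgroup.eq_bot_iff_forall _).2 h)
  obtain ⟨l, hl⟩ := Module.Projective.exists_dual_ne_zero k hw0
  let L : M ⊗[k] N →ₗ[k] M := TensorProduct.lift ((LinearMap.lsmul k M).flip.compl₂ ((l w)⁻¹ • l))
  have hL : ∀ (a : M) (b : N), L (a ⊗ₜ b) = ((l w)⁻¹ * l b) • a := fun a b => rfl
  obtain ⟨q, -, hqφ⟩ := (hP.image_piece (n + d)).superset (Submodule.subset_span ⟨z, hz, w, hw, rfl⟩)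
  obtain ⟨t, rfl⟩ := Submodule.mem_span_singleton.1 (hgen ▸ Submodule.mem_top : q ∈ Submodule.span T {p})
  rw [hP.map_smul, hp] at hqφ
  have hkey : ∀ m, ∀ u ∈ GrSeg.segrePiece k 𝒜 ℬ m, ∃ r ∈ 𝒜 m, L (GrSeg.act k R S M N u (x ⊗ₜ y)) = r • x := by
    intro m u hu
    induction hu using Submodule.span_induction with
    | mem u hu =>
      obtain ⟨a, ha, b, hb, rfl⟩ := hu
      refine ⟨((l w)⁻¹ * l (b • y)) • a, Submodule.smul_mem _ _ ha, ?_⟩
      rw [GrSeg.act_tmul, hL, smul_assoc]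
    | zero => exact ⟨0, zero_mem _, by simp⟩
    | add u v _ _ hu hv =>
      obtain ⟨r, hr, hr'⟩ := hu
      obtain ⟨s, hs, hs'⟩ := hv
      exact ⟨r + s, add_mem hr hs, by rw [map_add, LinearMap.add_apply, map_add, hr', hs', add_smul]⟩
    | smul c u _ hu =>
      obtain ⟨r, hr, hr'⟩ := hu
      exact ⟨c • r, Submodule.smul_mem _ _ hr, by rw [map_smul, LinearMap.smul_apply, map_smul, hr', smul_assoc]⟩
  choose r hr hr' using fun m => hkey m (ψ (DirectSum.decompose 𝒯 t m : T))
    ((hT.2 m).le (Submodule.mem_map_of_mem (f := ψ.toLinearMap) (SetLike.coe_mem (DirectSum.decompose 𝒯 t m))))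
  have hz' : z = ∑ m ∈ (DirectSum.decompose 𝒯 t).support, r m • x := by
    have h1 := congrArg L hqφ
    rw [hL, inv_mul_cancel₀ hl, one_smul, ← DirectSum.sum_support_decompose 𝒯 t, map_sum, map_sum,
      LinearMap.sum_apply, map_sum] at h1
    rw [← h1]
    exact Finset.sum_congr rfl fun m _ => hr' m
  have hcomp : ∀ m, (DirectSum.decompose ℳ (r m • x) (n + d) : M) = if m = d then r m • x else 0 := fun m => by
    have hmem : r m • x ∈ ℳ (m + n) := SetLike.GradedSMul.smul_mem (hr m) hx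
    split_ifs with hm
    · exact DirectSum.decompose_of_mem_same ℳ (by subst hm; rwa [add_comm n m])
    · exact DirectSum.decompose_of_mem_ne ℳ hmem (by omega)
  refine ⟨if d ∈ (DirectSum.decompose 𝒯 t).support then r d else 0, by split_ifs <;> [exact hr d; exact zero_mem _], ?_⟩
  rw [← DirectSum.decompose_of_mem_same ℳ hz, hz', DirectSum.decompose_sum, DirectSum.sum_apply,
    AddSubmonoidClass.coe_finset_sum]
  simp only [hcomp, Finset.sum_ite_eq']
  split_ifs <;> simp
end Groth.Agent.S19749
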