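import Groth.Statements.S19750
import Groth.Agent.L12.GrSegCM

set_option autoImplicit false
universe u
open scoped TensorProduct
open GrSegre

open Groth.L12.GrLCLib Groth.L12.GrSegLib

namespace Groth.Agent.S19750

/-- Let R and S be graded rings defined over a field k, both generated over k by their degree-one parts
and of positive Krull dimension, T = R # S with irrelevant ideal T_+, and let a ≥ b be integers.
Then the number of generators ν_T(R(a) # S(b)) = dim_k (R(a) # S(b)) / T_+ (R(a) # S(b)) equals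
dim_k R_{a−b}. Here a graded ring defined over k is a commutative k-algebra of finite type, graded
in nonnegative degrees by k-subspaces with degree-zero part k·1; the Segre product T = R # S = ⊕_n
R_n ⊗_k S_n is presented abstractly as a graded k-algebra T with an injective k-algebra homomorphism
ψ : T → R ⊗_k S carrying T_n onto the k-span of the elementary tensors a ⊗ b with a ∈ R_n, b ∈ S_n;
the Segre product R(a) # S(b) = ⊕_n R_{n+a} ⊗_k S_{n+b} of the shifted modules is presented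
abstractly as a graded T-module P with an injective k-linear map φ : P → R ⊗_k S carrying P_n onto
the k-span of the tensors x ⊗ y with x ∈ R_{n+a}, y ∈ S_{n+b} and turning the action of t ∈ T into
that of ψ(t); T_+ is the ideal spanned by the T_n with n > 0. -/
theorem result (k : Type u) [Field k] (R : Type u) [CommRing R] [Algebra k R] (𝒜 : ℤ → Submodule k R) [GradedAlgebra 𝒜] (hposR : ∀ n : ℤ, n < 0 → 𝒜 n = ⊥) (h0R : 𝒜 0 = Submodule.span k {(1 : R)}) [Algebra.FiniteType k R] (S : Type u) [CommRing S] [Algebra k S] (ℬ : ℤ → Submodule k S) [GradedAlgebra ℬ] (hposS : ∀ n : ℤ, n < 0 → ℬ n = ⊥) (h0S : ℬ 0 = Submodule.span k {(1 : S)}) [Algebra.FiniteType k S] (T : Type u) [CommRing T] [Algebra k T] (𝒯 : ℤ → Submodule k T) [GradedAlgebra 𝒯] (ψ : T →ₐ[k] TensorProduct k R S) (hT : GrSeg.IsSegreRing 𝒜 ℬ 𝒯 ψ) (hstdR : Ideal.span (⋃ n ∈ Set.Ioi (0 : ℤ), (𝒜 n : Set R)) = Ideal.span ((𝒜 1 : Submodule k R) : Set R)) (hstdS : Ideal.span (⋃ n ∈ Set.Ioi (0 : ℤ), (ℬ n : Set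 S)) = Ideal.span ((ℬ 1 : Submodule k S) : Set S)) (hr1 : 1 ≤ ringKrullDim R) (hs1 : 1 ≤ ringKrullDim S) (mT : HomogeneousIdeal 𝒯) (hmT : mT.toIdeal = Ideal.span (⋃ n ∈ Set.Ioi (0 : ℤ), (𝒯 n : Set T))) (a b : ℤ) (hab : b ≤ a) (P : Type u) [AddCommGroup P] [Module T P] [Module k P] [IsScalarTower k T P] (𝒬 : ℤ → AddSubgroup P) [DirectSum.Decomposition 𝒬] (φ : P →ₗ[k] TensorProduct k R S) (hP : GrSeg.IsSegreMod ψ (fun n : ℤ => 𝒜 (n + a)) (fun n : ℤ => ℬ (n + b)) 𝒬 φ) : Module.finrank k (P ⧸ (mT.toIdeal • (⊤ : Submodule T P))) = Module.finrank k (𝒜 (a - b)) := by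
  classical
  have hP' : GrSeg.IsSegreMod ψ (fun n : ℤ => 𝒜 (n + a)) (fun n : ℤ => ℬ (n + b)) 𝒬 φ := hP
  haveI hsm : SetLike.GradedSMul 𝒯 𝒬 := ⟨fun {i j t p} ht hp => by
    obtain ⟨q, hq, hqp⟩ : ∃ q ∈ 𝒬 (i + j), φ q = φ (t • p) := by
      refine seg_exists _ _ hP' ?_
      rw [hP.map_smul]
      have h1 : ψ t ∈ GrSeg.segrePiece k 𝒜 ℬ i := (hT.2 i).le ⟨t, ht, rfl⟩
      have h2 : φ p ∈ GrSeg.segrePiece k (fun n : ℤ => 𝒜 (n + a)) (fun n : ℤ => ℬ (n + b)) j := seg_mem_piece _ _ hP' hp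
      generalize ψ t = ξ at h1 ⊢
      generalize φ p = z at h2 ⊢
      induction h1 using Submodule.span_induction with
      | mem ξ hξ =>
        obtain ⟨u, hu, v, hv, rfl⟩ := hξ
        induction h2 using Submodule.span_induction with
        | mem z hz =>
          obtain ⟨x, hx, y, hy, rfl⟩ := hz
          rw [GrSeg.act_tmul]
          exact Submodule.subset_span ⟨_, (show u • x ∈ 𝒜 (i + j + a) by
            rw [add_assoc]; exact SetLike.mul_mem_graded hu hx), _, (show v • y ∈ ℬ (i + j + b) by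
            rw [add_assoc]; exact SetLike.mul_mem_graded hv hy), rfl⟩
        | zero => simp
        | add c e _ _ hc he => rw [map_add]; exact add_mem hc he
        | smul c e _ he => rw [map_smul]; exact Submodule.smul_mem _ c he
      | zero => simp
      | add c e _ _ hc he => rw [map_add, LinearMap.add_apply]; exact add_mem hc he
      | smul c e _ he => rw [map_smul, LinearMap.smul_apply]; exact Submodule.smul_mem _ c he
    exact hP.injective hqp ▸ hq⟩
  -- a one-step factorisation in a standard graded algebra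
  have step : ∀ (A : Type u) [CommRing A] [Algebra k A] (𝒟 : ℤ → Submodule k A) [GradedAlgebra 𝒟],
      Ideal.span (⋃ n ∈ Set.Ioi (0 : ℤ), (𝒟 n : Set A)) = Ideal.span ((𝒟 1 : Submodule k A) : Set A) →
      ∀ d : ℤ, 0 < d → ∀ x ∈ 𝒟 d, x ∈ Submodule.span k {z | ∃ l ∈ 𝒟 1, ∃ w ∈ 𝒟 (d - 1), z = l * w} := by
    intro A _ _ 𝒟 _ hst d hd x hx
    have hxI : x ∈ Ideal.span ((𝒟 1 : Submodule k A) : Set A) :=
      hst ▸ Ideal.subset_span (Set.mem_iUnion₂.2 ⟨d, hd, hx⟩)
    rw [← cp_same 𝒟 hx]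
    clear hx
    suffices ∀ c : A, cp 𝒟 d (c • x) ∈ Submodule.span k {z | ∃ l ∈ 𝒟 1, ∃ w ∈ 𝒟 (d - 1), z = l * w} by simpa using this 1
    induction hxI using Submodule.span_induction with
    | mem l hl =>
      intro c
      rw [cp_smul_mem 𝒟 𝒟 c (show l ∈ 𝒟 1 from hl), smul_eq_mul, mul_comm]
      exact Submodule.subset_span ⟨l, hl, _, cp_mem 𝒟 _ c, rfl⟩
    | zero => intro c; rw [smul_zero, map_zero]; exact zero_mem _
    | add u v _ _ hu hv => intro c; rw [smul_add, map_add]; exact add_mem (hu c) (hv c)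
    | smul e u _ hu => intro c; rw [smul_smul]; exact hu _
  have hlow : ∀ n < -b, ∀ p ∈ 𝒬 n, p = 0 := fun n hn p hp => hP.injective ((map_zero φ).symm ▸ by
    have h2 := seg_mem_piece _ _ hP' hp
    generalize φ p = z at h2 ⊢
    induction h2 using Submodule.span_induction with
    | mem z hz =>
      obtain ⟨x, hx, y, hy, rfl⟩ := hz
      replace hy : y ∈ ℬ (n + b) := hy
      rw [hposS (n + b) (by omega), Submodule.mem_bot] at hy
      rw [hy, TensorProduct.tmul_zero]
    | zero => rfl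
    | add c e _ _ hc he => rw [hc, he, add_zero]
    | smul c e _ he => rw [he, smul_zero])
  set U := mT.toIdeal • (⊤ : Submodule T P)
  have hhigh : ∀ n, -b < n → ∀ p ∈ 𝒬 n, p ∈ U := fun n hn p hp => by
    suffices ∀ z ∈ GrSeg.segrePiece k (fun n : ℤ => 𝒜 (n + a)) (fun n : ℤ => ℬ (n + b)) n, ∃ q ∈ U, φ q = z by
      obtain ⟨q, hq, hqp⟩ := this _ (seg_mem_piece _ _ hP' hp)
      exact hP.injective hqp ▸ hq
    intro z hz
    have hW : GrSeg.segrePiece k (fun n : ℤ => 𝒜 (n + a)) (fun n : ℤ => ℬ (n + b)) n ≤ (U.restrictScalars k).map φ := by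
      refine Submodule.span_le.2 ?_
      rintro _ ⟨x, hx, y, hy, rfl⟩
      have hx' := step R 𝒜 hstdR (n + a) (by omega) x hx
      have hy' := step S ℬ hstdS (n + b) (by omega) y hy
      induction hx' using Submodule.span_induction with
      | mem x hx2 =>
        obtain ⟨l, hl, w, hw, rfl⟩ := hx2
        clear hx hy
        induction hy' using Submodule.span_induction with
        | mem y hy2 =>
          obtain ⟨l', hl', w', hw', rfl⟩ := hy2
          obtain ⟨t, ht, hψt⟩ := (hT.2 1).ge (Submodule.subset_span ⟨l, hl, l', hl', rfl⟩)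
          obtain ⟨q, hq, hφq⟩ := seg_exists _ _ hP' (n := n - 1) (Submodule.subset_span
            ⟨w, (show w ∈ 𝒜 (n - 1 + a) by rwa [show n - 1 + a = n + a - 1 by ring]),
              w', (show w' ∈ ℬ (n - 1 + b) by rwa [show n - 1 + b = n + b - 1 by ring]), rfl⟩)
          refine ⟨t • q, Submodule.smul_mem_smul (hmT ▸ Ideal.subset_span (Set.mem_iUnion₂.2 ⟨1, Set.mem_Ioi.2 zero_lt_one, ht⟩)) trivial, ?_⟩
          rw [hP.map_smul, hφq, show ψ t = l ⊗ₜ[k] l' from hψt, GrSeg.act_tmul, smul_eq_mul, smul_eq_mul]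
        | zero => rw [TensorProduct.tmul_zero]; exact zero_mem _
        | add c e _ _ hc he => rw [TensorProduct.tmul_add]; exact add_mem hc he
        | smul c e _ he => rw [TensorProduct.tmul_smul]; exact Submodule.smul_mem _ c he
      | zero => rw [TensorProduct.zero_tmul]; exact zero_mem _
      | add c e hc' he' hc he =>
        rw [TensorProduct.add_tmul]
        have hmem : ∀ v ∈ Submodule.span k {z | ∃ l ∈ 𝒜 1, ∃ w ∈ 𝒜 (n + a - 1), z = l * w}, v ∈ 𝒜 (n + a) := fun v hv =>
          (Submodule.span_le.2 (by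
            rintro _ ⟨l, hl, w, hw, rfl⟩
            have := SetLike.mul_mem_graded (A := 𝒜) hl hw
            rwa [add_sub_cancel] at this) : Submodule.span k {z | ∃ l ∈ 𝒜 1, ∃ w ∈ 𝒜 (n + a - 1), z = l * w} ≤ 𝒜 (n + a)) hv
        exact add_mem (hc (hmem c hc')) (he (hmem e he'))
      | smul c e he' he =>
        rw [← TensorProduct.smul_tmul']
        refine Submodule.smul_mem _ c (he ?_)
        exact (Submodule.span_le.2 (by
            rintro _ ⟨l, hl, w, hw, rfl⟩
            have := SetLike.mul_mem_graded (A := 𝒜) hl hw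
            rwa [add_sub_cancel] at this) : Submodule.span k {z | ∃ l ∈ 𝒜 1, ∃ w ∈ 𝒜 (n + a - 1), z = l * w} ≤ 𝒜 (n + a)) he'
    obtain ⟨q, hq, hqz⟩ := hW hz
    exact ⟨q, hq, hqz⟩
  have hU0 : ∀ u ∈ U, cp 𝒬 (-b) u = 0 := fun u hu => by
    refine Submodule.smul_induction_on hu (fun t ht p _ => ?_) fun c e hc he => by rw [map_add, hc, he, add_zero]
    rw [hmT] at ht
    induction ht using Submodule.span_induction generalizing p with
    | mem t ht =>
      obtain ⟨i, hi, hti⟩ := Set.mem_iUnion₂.1 ht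
      rw [cp_smul_hom' 𝒯 𝒬 hti, hlow (-b - i) (by have : (0 : ℤ) < i := hi; omega) _ (cp_mem _ _ _), smul_zero]
    | zero => rw [zero_smul, map_zero]
    | add c e _ _ hc he => rw [add_smul, map_add, hc p trivial, he p trivial, add_zero]
    | smul c e _ he => rw [smul_eq_mul, mul_comm, mul_smul]; exact he _ trivial
  let π : P →ₗ[k] pieceK 𝒯 𝒬 (-b) :=
    { toFun := fun p => ⟨cp 𝒬 (-b) p, (mem_pieceK 𝒬).2 (cp_mem _ _ _)⟩
      map_add' := fun x y => Subtype.ext (map_add _ x y)
      map_smul' := fun c x => Subtype.ext (cp_smul_k 𝒯 𝒬 (-b) c x) }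
  let πU : (P ⧸ U.restrictScalars k) →ₗ[k] pieceK 𝒯 𝒬 (-b) :=
    (U.restrictScalars k).liftQ π fun u hu => Subtype.ext (hU0 u hu)
  have hbij : Function.Bijective πU := by
    refine ⟨(injective_iff_map_eq_zero πU).2 fun x hx => ?_, fun y => ⟨Submodule.Quotient.mk y.1, Subtype.ext (cp_same 𝒬 ((mem_pieceK 𝒬).1 y.2))⟩⟩
    obtain ⟨p, rfl⟩ := Submodule.Quotient.mk_surjective _ x
    refine (Submodule.Quotient.mk_eq_zero _).2 ?_
    obtain ⟨S', hS', -⟩ := exists_sum_cp 𝒬 p
    rw [← hS']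
    refine sum_mem fun g _ => ?_
    rcases lt_trichotomy g (-b) with h | rfl | h
    · rw [hlow g h _ (cp_mem _ _ _)]; exact zero_mem _
    · rw [show cp 𝒬 (-b) p = 0 from congrArg Subtype.val hx]; exact zero_mem _
    · exact hhigh g h _ (cp_mem _ _ _)
  have e1 : Module.finrank k (P ⧸ U) = Module.finrank k (pieceK 𝒯 𝒬 (-b)) :=
    (Submodule.Quotient.restrictScalarsEquiv k U).symm.finrank_eq.trans (LinearEquiv.ofBijective πU hbij).finrank_eq
  let j : 𝒜 (a - b) →ₗ[k] TensorProduct k R S :=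
    (TensorProduct.mk k R S).flip (1 : S) ∘ₗ (𝒜 (a - b)).subtype
  haveI : Nontrivial S := by
    by_contra h
    rw [not_nontrivial_iff_subsingleton] at h
    rw [ringKrullDim_eq_bot_of_subsingleton] at hs1
    exact absurd hs1 (by simp)
  have hj : Function.Injective j := by
    haveI := Module.Free.of_divisionRing k S
    exact (Algebra.TensorProduct.includeLeft_injective (S := k) (A := R) (algebraMap k S).injective).comp Subtype.val_injective
  have hrange : LinearMap.range (φ ∘ₗ (pieceK 𝒯 𝒬 (-b)).subtype) = LinearMap.range j := by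
    refine le_antisymm ?_ ?_
    · rintro _ ⟨p, rfl⟩
      have h2 := seg_mem_piece _ _ hP' ((mem_pieceK 𝒬).1 p.2)
      change φ p.1 ∈ _
      generalize φ p.1 = z at h2 ⊢
      induction h2 using Submodule.span_induction with
      | mem z hz =>
        obtain ⟨x, hx, y, hy, rfl⟩ := hz
        replace hy : y ∈ ℬ (-b + b) := hy
        replace hx : x ∈ 𝒜 (-b + a) := hx
        rw [neg_add_cancel] at hy
        rw [neg_add_eq_sub] at hx
        obtain ⟨c, rfl⟩ := Submodule.mem_span_singleton.1 (h0S.le hy)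
        exact ⟨⟨c • x, Submodule.smul_mem _ c hx⟩, TensorProduct.smul_tmul c x 1⟩
      | zero => exact zero_mem _
      | add c e _ _ hc he => exact add_mem hc he
      | smul c e _ he => exact Submodule.smul_mem _ c he
    · rintro _ ⟨x, rfl⟩
      obtain ⟨p, hp, hpx⟩ := seg_exists _ _ hP' (n := -b) (z := (x : R) ⊗ₜ[k] (1 : S)) (Submodule.subset_span
        ⟨x, (show (x : R) ∈ 𝒜 (-b + a) by rw [neg_add_eq_sub]; exact x.2), 1,
          (show (1 : S) ∈ ℬ (-b + b) by rw [neg_add_cancel]; exact SetLike.one_mem_graded ℬ), rfl⟩)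
      exact ⟨⟨p, (mem_pieceK 𝒬).2 hp⟩, hpx⟩
  rw [show Module.finrank k (P ⧸ (mT.toIdeal • (⊤ : Submodule T P))) = Module.finrank k (P ⧸ U) from rfl, e1,
    (LinearEquiv.ofInjective (φ ∘ₗ (pieceK 𝒯 𝒬 (-b)).subtype) (hP.injective.comp Subtype.val_injective : Function.Injective (φ ∘ₗ (pieceK 𝒯 𝒬 (-b)).subtype))).finrank_eq,
    hrange, ← (LinearEquiv.ofInjective j hj).finrank_eq]

end Groth.Agent.S19750
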