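import Groth.Statements.S1976
import Groth.Agent.L05.WE.Max

set_option autoImplicit false
universe u
open CategoryTheory
open EtAlg

namespace Groth.Agent.S1976

/-- (2) ⇔ (3): a K-algebra B over a field K is weakly etale exactly when it can be written as a filtered
colimit of etale K-algebras, and in that case its finitely generated K-subalgebras are etale. -/
theorem result (K : Type u) [Field K] (B : Type u) [CommRing B] [Algebra K B] :
    (Algebra.WeaklyEtale K B ↔ EtPBC.IsIndEtale K B) ∧
    (Algebra.WeaklyEtale K B → ∀ S : Subalgebra K B, S.FG → Algebra.Etale K S) := by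
  refine ⟨⟨fun h => Groth.L05.WE.isIndEtale_of_forall (@Groth.L05.WE.isSepRoot K _ B _ _ h),
    Groth.L27.IndEtale.weaklyEtale K B⟩, fun h S hS => ?_⟩
  obtain ⟨t, rfl⟩ := hS
  exact Groth.L05.WE.etale_adjoin _ t.finite_toSet fun x _ => @Groth.L05.WE.isSepRoot K _ B _ _ h x

end Groth.Agent.S1976
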