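import Groth.Statements.S19763
import Groth.Agent.L12.GrSegPoly

set_option autoImplicit false
universe u
open scoped TensorProduct
attribute [local instance] MvPolynomial.weightedGradedAlgebra
open GrSegre

open Groth.L12.GrLCLib Groth.L12.GrSegLib
open scoped KMod

namespace Groth.Agent.S19763

/-- Let R = k[X_1, …, X_r] and S = k[Y_1, …, Y_s] be polynomial rings over a field k with every variable
of degree 1, r ≥ 2 and s ≥ 2, T = R # S, and M = R(a), N = S(b) for integers a, b. Then (a) M # N is
a Cohen–Macaulay T-module if and only if s > a − b > −r; (b) if a − b ≥ s then depth (M # N) = s;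
(c) if a − b ≤ −r then depth (M # N) = r. Here the polynomial rings carry the standard grading by
k-subspaces of homogeneous polynomials (indexed by ℤ, all variables of weight 1); the Segre product
T = R # S = ⊕_n R_n ⊗_k S_n is presented abstractly as a graded k-algebra T with an injective
k-algebra homomorphism ψ : T → R ⊗_k S carrying T_n onto the k-span of the elementary tensors of
bidegree (n, n), T_+ is the ideal spanned by the T_n with n > 0, and R(a) # S(b) = ⊕_n R_{n+a} ⊗_k
S_{n+b} is presented abstractly as a graded T-module P with an injective k-linear map φ : P → R ⊗_k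
S carrying P_n onto the k-span of the tensors x ⊗ y with x ∈ R_{n+a}, y ∈ S_{n+b} and turning the
action of t ∈ T into that of ψ(t); a module over a ring is called Cohen–Macaulay when each of its
localizations at a prime ideal is zero or a Cohen–Macaulay module over the local ring (dimension of
the support equal to the depth), and the dimension of a module is the Krull dimension of its
support; the depth of P is its grade with respect to T_+ (the common length of the maximal P-regular
sequences in T_+). -/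
theorem result (k : Type u) [Field k] (r s : ℕ) (h2r : 2 ≤ r) (h2s : 2 ≤ s) (T : Type u) [CommRing T] [Algebra k T] (𝒯 : ℤ → Submodule k T) [GradedAlgebra 𝒯] (ψ : T →ₐ[k] TensorProduct k (MvPolynomial (Fin r) k) (MvPolynomial (Fin s) k)) (hT : GrSeg.IsSegreRing (MvPolynomial.weightedHomogeneousSubmodule k (fun _ : Fin r => (1 : ℤ))) (MvPolynomial.weightedHomogeneousSubmodule k (fun _ : Fin s => (1 : ℤ))) 𝒯 ψ) (mT : HomogeneousIdeal 𝒯) (hmT : mT.toIdeal = Ideal.span (⋃ n ∈ Set.Ioi (0 : ℤ), (𝒯 n : Set T))) (a b : ℤ) (P : Type u) [AddCommGroup P] [Module T P] [Module k P] [IsScalarTower k T P] (𝒬 : ℤ → AddSubgroup P) [DirectSum.Decomposition 𝒬] (φ : P →ₗ[k] TensorProduct k (MvPolynomial (Fin r) k) (MvPolynomial (Fin s) k)) (hP : GrSeg.IsSegreMod ψ (fun n : ℤ => (MvPolynomial.weightedHomogeneousSubmodule k (fun _ : Fin r => (1 : ℤ))) (n + a)) (fun n : ℤ => (MvPolynomial.weightedHomogeneousSubmodule k (fun _ : Fin s => (1 : ℤ))) (n + b)) 𝒬 φ) : ((∀ (q : Ideal T) [q.IsPrime], Subsingleton (LocalizedModule q.primeCompl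 P) ∨ LocCoh.IsCohenMacaulayModule (Localization.AtPrime q) (LocalizedModule q.primeCompl P)) ↔ (a - b < (s : ℤ) ∧ -(r : ℤ) < a - b)) ∧ ((s : ℤ) ≤ a - b → LocCoh.idealDepth mT.toIdeal P = (s : ℕ∞)) ∧ (a - b ≤ -(r : ℤ) → LocCoh.idealDepth mT.toIdeal P = (r : ℕ∞)) := by
  classical
  let 𝒜 := polyGr k r
  let ℬ := polyGr k s
  have hP' : GrSeg.IsSegreMod ψ (polyShift k r a) (polyShift k s b) 𝒬 φ := ⟨hP.injective, hP.image_piece, hP.map_smul⟩
  haveI := seg_gradedSMul (polyGr k r) (polyGr k s) (polyShift k r a) (polyShift k s b) hP' hT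
  haveI : IsNoetherian T P := isNoetherian_segreMod (polyGr k r) (polyGr k s) (polyShift k r a) (polyShift k s b) 𝒯 𝒬 hT hP'
  haveI := seg_finiteType hT poly_pos poly_zero poly_zero
  haveI : IsNoetherianRing T := Algebra.FiniteType.isNoetherianRing k T
  haveI hfinR : ∀ d, Module.Finite k (pieceK (polyGr k r) (polyShift k r a) d) := fun d => finite_pieceK _ poly_zero d
  haveI hfinS : ∀ d, Module.Finite k (pieceK (polyGr k s) (polyShift k s b) d) := fun d => finite_pieceK _ poly_zero d
  haveI : Nontrivial P := by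
    by_contra hP0
    rw [not_nontrivial_iff_subsingleton] at hP0
    have h := finrank_seg_piece (𝒜 := polyGr k r) (ℬ := polyGr k s) (𝒯 := 𝒯) hP' (max (-a) (-b))
    rw [Module.finrank_zero_of_subsingleton, eq_comm, Nat.mul_eq_zero, Submodule.finrank_eq_zero,
      Submodule.finrank_eq_zero, poly_piece_iff (by omega), poly_piece_iff (by omega)] at h
    omega
  obtain ⟨EM⟩ := nonempty_starInjRes (polyGr k r) (polyShift k r a)
  obtain ⟨EN⟩ := nonempty_starInjRes (polyGr k s) (polyShift k s b)
  obtain ⟨EP⟩ := nonempty_starInjRes 𝒯 𝒬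
  haveI : ∀ i d, Module.Finite k (Hk EM (irr (polyGr k r)) i d) := fun i d => finite_Hk EM _ poly_zero rfl i d
  haveI : ∀ i d, Module.Finite k (Hk EN (irr (polyGr k s)) i d) := fun i d => finite_Hk EN _ poly_zero rfl i d
  haveI : ∀ i d, Module.Finite k (Hk EP mT i d) := fun i d => finite_Hk EP _ (seg_deg0 hT poly_zero poly_zero) hmT i d
  have hz : ∀ i d, i ≠ r → Hk EM (irr (polyGr k r)) i d = ⊥ := fun i d hi => (lt_or_gt_of_ne hi).elim
    (fun h => (cm_iff_Hk EM rfl poly_pos poly_zero poly_supportDim).1 poly_cmAll i h d)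
    (fun h => Hk_eq_bot_of_dim_lt EM (n := r) poly_supportDim.le h d)
  have hz' : ∀ i d, i ≠ s → Hk EN (irr (polyGr k s)) i d = ⊥ := fun i d hi => (lt_or_gt_of_ne hi).elim
    (fun h => (cm_iff_Hk EN rfl poly_pos poly_zero poly_supportDim).1 poly_cmAll i h d)
    (fun h => Hk_eq_bot_of_dim_lt EN (n := s) poly_supportDim.le h d)
  have hbot : ∀ q < r + s - 1, ∀ d, Hk EP mT q d = ⊥ ↔
      (d + a < 0 ∨ Hk EN (irr (polyGr k s)) q d = ⊥) ∧ (Hk EM (irr (polyGr k r)) q d = ⊥ ∨ d + b < 0) := fun q hq d => by
    rw [← Submodule.finrank_eq_zero (R := k), seg_finrank_below poly_pos poly_zero poly_pos poly_zero hT hP'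
      (mR := irr (polyGr k r)) rfl (mS := irr (polyGr k s)) rfl EM EN h2r h2s poly_supportDim poly_supportDim
      poly_cmAll poly_cmAll hmT EP hq d, Nat.add_eq_zero_iff, Nat.mul_eq_zero, Nat.mul_eq_zero, Submodule.finrank_eq_zero,
      Submodule.finrank_eq_zero, Submodule.finrank_eq_zero, Submodule.finrank_eq_zero, poly_piece_iff (by omega),
      poly_piece_iff (by omega)]
  refine ⟨?_, fun hab => ?_, fun hab => ?_⟩
  · rw [show (∀ (q : Ideal T) [q.IsPrime], _) ↔ _ from seg_cm_iff_two poly_pos poly_zero poly_pos poly_zero hT hP'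
      (mR := irr (polyGr k r)) rfl (mS := irr (polyGr k s)) rfl EM EN h2r h2s poly_supportDim poly_supportDim
      poly_cmAll poly_cmAll]
    simp only [poly_piece_iff (show 1 ≤ r by omega), poly_piece_iff (show 1 ≤ s by omega),
      poly_Hk_iff (show 1 ≤ r by omega) a EM, poly_Hk_iff (show 1 ≤ s by omega) b EN]
    refine ⟨fun h => ⟨?_, ?_⟩, fun h d => ⟨?_, ?_⟩⟩
    · have := (h (-a)).1
      omega
    · have := (h (-b)).2
      omega
    · omega
    · omega
  · refine idealDepth_eq_of_Hk EP mT (fun q hq d => (hbot q (by omega) d).2 ⟨Or.inr (hz' q d (by omega)), ?_⟩)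
      (d := -a) (fun h => ?_)
    · by_cases hqr : q = r
      · rw [hqr, poly_Hk_iff (show 1 ≤ r by omega) a EM]
        omega
      · exact Or.inl (hz q d hqr)
    · have h1 := ((hbot s (by omega) (-a)).1 h).1
      rw [poly_Hk_iff (show 1 ≤ s by omega) b EN] at h1
      omega
  · refine idealDepth_eq_of_Hk EP mT (fun q hq d => (hbot q (by omega) d).2 ⟨?_, Or.inl (hz q d (by omega))⟩)
      (d := -b) (fun h => ?_)
    · by_cases hqs : q = s
      · rw [hqs, poly_Hk_iff (show 1 ≤ s by omega) b EN]
        omega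
      · exact Or.inr (hz' q d hqs)
    · have h1 := ((hbot r (by omega) (-b)).1 h).2
      rw [poly_Hk_iff (show 1 ≤ r by omega) a EM] at h1
      omega

end Groth.Agent.S19763
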