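import Groth.Statements.S19764
import Groth.Agent.L12.GrSegPoly

set_option autoImplicit false
universe u
open scoped TensorProduct
attribute [local instance] MvPolynomial.weightedGradedAlgebra
open GrSegre

open Groth.L12.GrLCLib Groth.L12.GrSegLib
open scoped KMod

namespace Groth.Agent.S19764

/-- Let R = k[X] and S = k[Y_1, …, Y_s] be polynomial rings over a field k with every variable of degree
1, s ≥ 2, T = R # S, and M = R(a), N = S(b) for integers a, b. Then (a) if a ≥ b, M # N is a
Cohen–Macaulay T-module; (b) if a < b, depth (M # N) = 1. (Part (a) of the published statement also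
identifies M # N with S(b); that identification is not stated here.) Here the polynomial rings carry
the standard grading by k-subspaces of homogeneous polynomials (indexed by ℤ, all variables of
weight 1); the Segre product T = R # S = ⊕_n R_n ⊗_k S_n is presented abstractly as a graded
k-algebra T with an injective k-algebra homomorphism ψ : T → R ⊗_k S carrying T_n onto the k-span of
the elementary tensors of bidegree (n, n), T_+ is the ideal spanned by the T_n with n > 0, and R(a)
# S(b) = ⊕_n R_{n+a} ⊗_k S_{n+b} is presented abstractly as a graded T-module P with an injective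
k-linear map φ : P → R ⊗_k S carrying P_n onto the k-span of the tensors x ⊗ y with x ∈ R_{n+a}, y ∈
S_{n+b} and turning the action of t ∈ T into that of ψ(t); a module over a ring is called
Cohen–Macaulay when each of its localizations at a prime ideal is zero or a Cohen–Macaulay module
over the local ring (dimension of the support equal to the depth), and the dimension of a module is
the Krull dimension of its support; the depth of P is its grade with respect to T_+ (the common
length of the maximal P-regular sequences in T_+). -/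
theorem result (k : Type u) [Field k] (s : ℕ) (h2s : 2 ≤ s) (T : Type u) [CommRing T] [Algebra k T] (𝒯 : ℤ → Submodule k T) [GradedAlgebra 𝒯] (ψ : T →ₐ[k] TensorProduct k (MvPolynomial (Fin 1) k) (MvPolynomial (Fin s) k)) (hT : GrSeg.IsSegreRing (MvPolynomial.weightedHomogeneousSubmodule k (fun _ : Fin 1 => (1 : ℤ))) (MvPolynomial.weightedHomogeneousSubmodule k (fun _ : Fin s => (1 : ℤ))) 𝒯 ψ) (mT : HomogeneousIdeal 𝒯) (hmT : mT.toIdeal = Ideal.span (⋃ n ∈ Set.Ioi (0 : ℤ), (𝒯 n : Set T))) (a b : ℤ) (P : Type u) [AddCommGroup P] [Module T P] [Module k P] [IsScalarTower k T P] (𝒬 : ℤ → AddSubgroup P) [DirectSum.Decomposition 𝒬] (φ : P →ₗ[k] TensorProduct k (MvPolynomial (Fin 1) k) (MvPolynomial (Fin s) k)) (hP : GrSeg.IsSegreMod ψ (fun n : ℤ => (MvPolynomial.weightedHomogeneousSubmodule k (fun _ : Fin 1 => (1 : ℤ))) (n + a)) (fun n : ℤ => (MvPolynomial.weightedHomogeneousSubmodule k (fun _ : Fin s => (1 : ℤ))) (n + b)) 𝒬 φ) : (b ≤ a → (∀ (q : Ideal T) [q.IsPrime], Subsingleton (LocalizedModule q.primeCompl P) ∨ LocCoh.IsCohenMacaulayModule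 (Localization.AtPrime q) (LocalizedModule q.primeCompl P))) ∧ (a < b → LocCoh.idealDepth mT.toIdeal P = (1 : ℕ∞)) := by
  classical
  let 𝒜 := polyGr k 1
  let ℬ := polyGr k s
  have hP' : GrSeg.IsSegreMod ψ (polyShift k 1 a) (polyShift k s b) 𝒬 φ := ⟨hP.injective, hP.image_piece, hP.map_smul⟩
  haveI := seg_gradedSMul (polyGr k 1) (polyGr k s) (polyShift k 1 a) (polyShift k s b) hP' hT
  haveI : IsNoetherian T P := isNoetherian_segreMod (polyGr k 1) (polyGr k s) (polyShift k 1 a) (polyShift k s b) 𝒯 𝒬 hT hP'
  haveI := seg_finiteType hT poly_pos poly_zero poly_zero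
  haveI : IsNoetherianRing T := Algebra.FiniteType.isNoetherianRing k T
  haveI hfinR : ∀ d, Module.Finite k (pieceK (polyGr k 1) (polyShift k 1 a) d) := fun d => finite_pieceK _ poly_zero d
  haveI hfinS : ∀ d, Module.Finite k (pieceK (polyGr k s) (polyShift k s b) d) := fun d => finite_pieceK _ poly_zero d
  haveI : Nontrivial P := by
    by_contra hP0
    rw [not_nontrivial_iff_subsingleton] at hP0
    have h := finrank_seg_piece (𝒜 := polyGr k 1) (ℬ := polyGr k s) (𝒯 := 𝒯) hP' (max (-a) (-b))
    rw [Module.finrank_zero_of_subsingleton, eq_comm, Nat.mul_eq_zero, Submodule.finrank_eq_zero,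
      Submodule.finrank_eq_zero, poly_piece_iff (by omega), poly_piece_iff (by omega)] at h
    omega
  obtain ⟨EM⟩ := nonempty_starInjRes (polyGr k 1) (polyShift k 1 a)
  obtain ⟨EN⟩ := nonempty_starInjRes (polyGr k s) (polyShift k s b)
  obtain ⟨EP⟩ := nonempty_starInjRes 𝒯 𝒬
  haveI : ∀ i d, Module.Finite k (Hk EM (irr (polyGr k 1)) i d) := fun i d => finite_Hk EM _ poly_zero rfl i d
  haveI : ∀ i d, Module.Finite k (Hk EN (irr (polyGr k s)) i d) := fun i d => finite_Hk EN _ poly_zero rfl i d
  haveI : ∀ i d, Module.Finite k (Hk EP mT i d) := fun i d => finite_Hk EP _ (seg_deg0 hT poly_zero poly_zero) hmT i d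
  have hlow := seg_low_one poly_pos poly_zero poly_pos poly_zero hT hP' (mR := irr (polyGr k 1)) rfl EM
    (s := s) (by omega) (poly_supportDim (N := 1)) poly_supportDim poly_cmAll poly_cmAll hmT EP
  refine ⟨fun hab => ?_, fun hab => ?_⟩
  · rw [show (∀ (q : Ideal T) [q.IsPrime], _) ↔ _ from (seg_cm_iff_one poly_pos poly_zero poly_pos poly_zero hT hP'
      (mR := irr (polyGr k 1)) rfl EM (s := s) (by omega) (poly_supportDim (N := 1)) poly_supportDim poly_cmAll poly_cmAll).1 h2s]
    intro d
    rw [poly_Hk_iff le_rfl a EM, poly_piece_iff (by omega)]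
    omega
  · refine idealDepth_eq_of_Hk EP mT (fun q hq d => (show q = 0 by omega) ▸ (hlow d).1) (d := -b) (fun h => ?_)
    have h1 := (hlow (-b)).2 h2s
    rw [h, finrank_bot, eq_comm, Nat.mul_eq_zero, Submodule.finrank_eq_zero, Submodule.finrank_eq_zero,
      poly_Hk_iff le_rfl a EM, poly_piece_iff (by omega)] at h1
    omega

end Groth.Agent.S19764
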