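import Groth.Statements.S19772
import Groth.Agent.L26.Degenerate.Closed
import Groth.Agent.L26.Degenerate.BaseChange

set_option autoImplicit false
universe u
open CategoryTheory MonoidalCategory CartesianMonoidalCategory MonObj GrpObj AlgebraicGeometry
open AbVar

namespace Groth.Agent.S19772

set_option maxHeartbeats 1600000
set_option backward.isDefEq.respectTransparency false
open CategoryTheory.Limits
open Groth.Agent.L26.Mumford (bcMod euler_bcMod)
open Groth.Agent.AV.TateBaseChange (bc st)
attribute [local instance] Groth.L08.Cube.clMonoid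

/-- Let X be an abelian variety over a field k (a proper, geometrically integral k-group scheme), L an
invertible O_X-module, H an ample invertible O_X-module, and Φ the Hilbert polynomial of L with
respect to H: the rational polynomial with Φ(n) = χ(X, L ⊗ H^{⊗ n}) for every natural number n. Let
i : K → X be a closed immersion exhibiting K as K(L) (the maximal closed subscheme over which the
Mumford bundle m^*L ⊗ p_1^*L⁻¹ ⊗ p_2^*L⁻¹, restricted to X ×_k K, is the inverse image of an
invertible module on K, with its universal property). Then the dimension of K (the Krull dimension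
of its underlying space) equals the root multiplicity of Φ at 0. -/
theorem result (k : Type u) [Field k] (X : Over (Spec (CommRingCat.of k)))
    [GrpObj X] [IsProper X.hom] [GeometricallyIntegral X.hom] (L : X.left.Modules) (hL : PicF.IsInvertible L)
    (K : Over (Spec (CommRingCat.of k))) (i : K ⟶ X) (hK : ThetaGrp.IsKL X L i)
    (H : X.left.Modules) (hH : CohB1.IsAmple H) (Φ : Polynomial ℚ)
    (hΦ : ∀ n : ℕ, Φ.eval (n : ℚ) =
      (@Curv2.euler k _ X.left ⟨X.hom⟩ (CohB1.tensorMod L (CohB1.tensorPow H n)) : ℚ)) :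
    topologicalKrullDim ↥K.left = ((Φ.rootMultiplicity 0 : ℕ) : WithBot ℕ∞) := by
  let Ω := AlgebraicClosure k
  let σ : Spec (CommRingCat.of Ω) ⟶ Spec (CommRingCat.of k) := st (k := k) Ω
  haveI : Smooth X.hom := Groth.L08.Albanese.smooth_of_geometricallyIntegral X
  haveI : IsProper (bc Ω X).hom := inferInstanceAs (IsProper (pullback.snd X.hom σ))
  haveI : GeometricallyIntegral (bc Ω X).hom := inferInstanceAs (GeometricallyIntegral (pullback.snd X.hom σ))
  haveI : IsAffineHom σ := inferInstanceAs (IsAffineHom (Spec.map _))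
  haveI : IsAffineHom (pullback.fst X.hom σ) := MorphismProperty.pullback_fst X.hom σ ‹IsAffineHom σ›
  haveI : IsCommMonObj (bc Ω X) := isCommMonObj_of_isProper_of_geometricallyIntegral (bc Ω X)
  haveI := hK.closed
  haveI : LocallyOfFiniteType K.hom := by rw [← Over.w i]; infer_instance
  have hK' : ThetaGrp.IsKL (bc Ω X) (bcMod Ω L)
      (show bc Ω K ⟶ bc Ω X from (Over.pullback σ).map i) :=
    Groth.Agent.L26.Degenerate.isKL_baseChange σ L hL hK
  let φ : PicF.Cl X.left →* PicF.Cl (bc Ω X).left :=
    { toFun := PicF.pullCl (pullback.fst X.hom σ), map_one' := Groth.L08.Cube.pullCl_one _,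
      map_mul' := Groth.L08.Cube.pullCl_mul _ }
  have hΦ' : ∀ n : ℕ, Φ.eval (n : ℚ) = (@Curv2.euler Ω _ (bc Ω X).left ⟨(bc Ω X).hom⟩
      (CohB1.tensorMod (bcMod Ω L) (CohB1.tensorPow (bcMod Ω H) n)) : ℚ) := fun n => by
    letI : X.left.Over (Spec (CommRingCat.of k)) := ⟨X.hom⟩
    letI : (bc Ω X).left.Over (Spec (CommRingCat.of Ω)) := ⟨(bc Ω X).hom⟩
    obtain ⟨e⟩ : Nonempty (bcMod Ω (CohB1.tensorMod L (CohB1.tensorPow H n)) ≅
        CohB1.tensorMod (bcMod Ω L) (CohB1.tensorPow (bcMod Ω H) n)) := by
      refine (PicGrp.cl_eq_cl_iff _ _).1 ?_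
      show φ (PicF.cl L * PicF.cl (CohB1.tensorPow H n)) = φ (PicF.cl L) * PicF.cl (CohB1.tensorPow (bcMod Ω H) n)
      rw [map_mul, Groth.L08.Cube.cl_tensorPow, Groth.L08.Cube.cl_tensorPow, map_pow]
      rfl
    rw [hΦ, ← euler_bcMod Ω (Groth.L18.GenLoc.isInvertible_tensor hL (Groth.L18.Ample.isInvertible_tensorPow hH.1 n))]
    exact congrArg Int.cast (Groth.L03.Euler.euler_iso e)
  rw [← Groth.Agent.L26.PicSm.dim_baseChange_field k Ω K.hom (CommRingCat.ofHom (algebraMap k Ω)) (bc Ω K).hom
      (pullback.fst K.hom σ) (IsPullback.of_hasPullback K.hom σ)]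
  exact Groth.Agent.L26.Degenerate.rootMultiplicity_closed (bcMod Ω L) (PicLoc.isInvertible_pullback _ hL) hK'
    (Groth.L18.Ample.isAmple_pullback_of_isAffineHom _ hH) hΦ'

end Groth.Agent.S19772
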