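import Groth.Statements.S19779
import Groth.Agent.L01.ApproxProjModules
import Groth.Agent.L05.Henselization.Pair
import Mathlib.RingTheory.LaurentSeries
import Mathlib.RingTheory.PowerSeries.Trunc
import Mathlib.RingTheory.PowerSeries.Inverse

set_option autoImplicit false
universe u
open Polynomial TensorProduct
open CAlg

namespace Groth.Agent.S19779

/-- For general linear groups, in the case R{t}[1/t] → R((t)), let R be a commutative ring, B = R{t} a
henselization of R[t] along (t), ψ : B → R[[t]] the R[t]-algebra map, L = B[1/t], and L' an
L-algebra identified with R((t)) compatibly with ψ. Then base change along L → L' is a bijection on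
isomorphism classes of finitely generated projective modules: two finitely generated projective
L-modules isomorphic over L' are isomorphic, and every finitely generated projective L'-module is
extended from one over L. (The published statement is the bijection H¹(R{t}[1/t], G) ≅ H¹(R((t)), G)
for every quasi-affine smooth group G; this row is the case of the general linear groups, stated for
finitely generated projective modules of arbitrary rank.) -/
theorem result (R : Type u) [CommRing R]
    (B : Type u) [CommRing B] [Algebra R[X] B] (hB : Hens2.IsPairHenselization R[X] (Ideal.span {(X : R[X])}) B)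
    (ψ : B →ₐ[R[X]] PowerSeries R)
    (L' : Type u) [CommRing L'] [Algebra (Localization.Away (algebraMap R[X] B X)) L'] (e : L' ≃+* LaurentSeries R)
    (he : ∀ b : B, e (algebraMap (Localization.Away (algebraMap R[X] B X)) L' (algebraMap B (Localization.Away (algebraMap R[X] B X)) b)) =
      HahnSeries.ofPowerSeries ℤ R (ψ b)) :
    (∀ (M N : Type u) [AddCommGroup M] [Module (Localization.Away (algebraMap R[X] B X)) M] [Module.Finite (Localization.Away (algebraMap R[X] B X)) M] [Module.Projective (Localization.Away (algebraMap R[X] B X)) M]
        [AddCommGroup N] [Module (Localization.Away (algebraMap R[X] B X)) N] [Module.Finite (Localization.Away (algebraMap R[X] B X)) N] [Module.Projective (Localization.Away (algebraMap R[X] B X)) N],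
        Nonempty (L' ⊗[Localization.Away (algebraMap R[X] B X)] M ≃ₗ[L'] L' ⊗[Localization.Away (algebraMap R[X] B X)] N) → Nonempty (M ≃ₗ[Localization.Away (algebraMap R[X] B X)] N)) ∧
    (∀ (M' : Type u) [AddCommGroup M'] [Module L' M'] [Module.Finite L' M'] [Module.Projective L' M'],
        ∃ (M : Type u) (_ : AddCommGroup M) (_ : Module (Localization.Away (algebraMap R[X] B X)) M),
          Module.Finite (Localization.Away (algebraMap R[X] B X)) M ∧ Module.Projective (Localization.Away (algebraMap R[X] B X)) M ∧
          Nonempty (L' ⊗[Localization.Away (algebraMap R[X] B X)] M ≃ₗ[L'] M')) := by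
  letI : Algebra B (PowerSeries R) := ψ.toRingHom.toAlgebra
  letI : Algebra (PowerSeries R) L' :=
    (e.symm.toRingHom.comp (HahnSeries.ofPowerSeries ℤ R)).toAlgebra
  letI : Algebra B L' := ((algebraMap (Localization.Away (algebraMap R[X] B X)) L').comp
    (algebraMap B (Localization.Away (algebraMap R[X] B X)))).toAlgebra
  haveI : IsScalarTower B (Localization.Away (algebraMap R[X] B X)) L' :=
    IsScalarTower.of_algebraMap_eq fun b => rfl
  haveI : IsScalarTower B (PowerSeries R) L' := IsScalarTower.of_algebraMap_eq fun b => by
    apply e.injective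
    show e (algebraMap (Localization.Away (algebraMap R[X] B X)) L' _) = e (e.symm _)
    rw [he, e.apply_symm_apply]
    rfl
  have hψX : algebraMap B (PowerSeries R) (algebraMap R[X] B X) = (PowerSeries.X : PowerSeries R) := by
    show ψ (algebraMap R[X] B X) = _
    rw [ψ.commutes, PowerSeries.algebraMap_apply', Algebra.algebraMap_self, PowerSeries.map_id]
    simp
  haveI hL' : IsLocalization.Away (algebraMap B (PowerSeries R) (algebraMap R[X] B X)) L' := by
    rw [hψX]
    exact IsLocalization.isLocalization_of_algEquiv (Submonoid.powers (PowerSeries.X : PowerSeries R))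
      (AlgEquiv.ofRingEquiv (f := e.symm) fun x => rfl : LaurentSeries R ≃ₐ[PowerSeries R] L')
  haveI : HenselianRing B (Ideal.span {algebraMap R[X] B X}) := by
    have := hB.1
    rwa [Ideal.map_span, Set.image_singleton] at this
  have h : L01.ApproxProj.Setup B (PowerSeries R) (Localization.Away (algebraMap R[X] B X)) L'
      (algebraMap R[X] B X) := by
    refine ⟨inferInstance, hL', (HenselianRing.jac (I := Ideal.span {algebraMap R[X] B X}))
      (Ideal.mem_span_singleton_self _), ?_, fun m s => ?_, fun m b hb => ?_⟩
    · rw [hψX, Ideal.mem_jacobson_bot]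
      exact fun y => PowerSeries.isUnit_iff_constantCoeff.2 (by simp)
    · refine ⟨algebraMap R[X] B (PowerSeries.trunc m s), ?_⟩
      rw [hψX, PowerSeries.X_pow_dvd_iff]
      intro i hi
      show PowerSeries.coeff i (s - ψ (algebraMap R[X] B (PowerSeries.trunc m s))) = 0
      rw [ψ.commutes, map_sub, PowerSeries.algebraMap_apply', Algebra.algebraMap_self, PowerSeries.map_id]
      simp [PowerSeries.coeff_trunc, hi]
    · obtain ⟨x, hx⟩ := (Groth.L05.Henselization.quotientMap_pow_bijective _ _ hB m).2
        (Ideal.Quotient.mk _ b)
      obtain ⟨q, rfl⟩ := Ideal.Quotient.mk_surjective x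
      rw [Ideal.quotientMap_mk, eq_comm, Ideal.Quotient.eq, Ideal.span_singleton_pow, Ideal.map_span,
        Set.image_singleton, map_pow, Ideal.mem_span_singleton] at hx
      have h2 : (PowerSeries.X : PowerSeries R) ^ m ∣ algebraMap R[X] (PowerSeries R) q := by
        obtain ⟨c, hc⟩ := hx
        rw [hψX] at hb
        have h3 : algebraMap R[X] (PowerSeries R) q = algebraMap B (PowerSeries R) b -
            PowerSeries.X ^ m * algebraMap B (PowerSeries R) c := by
          rw [← hψX, ← map_pow, ← map_mul, ← map_sub, ← hc, sub_sub_cancel]
          exact (ψ.commutes q).symm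
        rw [h3]
        exact dvd_sub hb (dvd_mul_right _ _)
      have h4 : (X : R[X]) ^ m ∣ q := by
        rw [Polynomial.X_pow_dvd_iff]
        intro i hi
        have := (PowerSeries.X_pow_dvd_iff.1 h2) i hi
        simpa [PowerSeries.algebraMap_apply', Algebra.algebraMap_self] using this
      have h5 := dvd_add hx ((map_pow (algebraMap R[X] B) X m).symm.dvd.trans (map_dvd (algebraMap R[X] B) h4))
      rwa [sub_add_cancel] at h5
  exact ⟨fun M N _ _ _ _ _ _ _ _ ⟨ε⟩ => L01.ApproxProj.nonempty_linearEquiv h M N ε,
    fun M' _ _ _ _ => L01.ApproxProj.exists_finiteProjective h M'⟩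


end Groth.Agent.S19779
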