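import Groth.Statements.S19790
import Groth.Agent.L04.MuBound.Cochar
-- import your own Groth.Agent.* helpers here

set_option autoImplicit false
set_option linter.style.haveILetI false
universe u
open CategoryTheory MonoidalCategory CartesianMonoidalCategory MonObj AlgebraicGeometry Opposite
open GIT

namespace Groth.Agent.S19790

/-- Let k be an algebraically closed field, G a connected reductive algebraic group over k, i : T → G a
maximal torus, X a scheme proper over k on which G acts by σ, and L an ample G-linearised line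
bundle on X in total-space form. Fix a norm on one-parameter subgroups as for the flag complex: a
symmetric biadditive form b on the one-parameter subgroups of T (a group under pointwise product)
with rational values, positive on every non-trivial one-parameter subgroup, and a real function ‖·‖
on the one-parameter subgroups of G such that for every one-parameter subgroup λ of T and every
k-point γ of G the conjugate u ↦ γ·i(λ(u))·γ⁻¹ has ‖γ·(i∘λ)·γ⁻¹‖ ≥ 0 and ‖γ·(i∘λ)·γ⁻¹‖² = b(λ, λ)
(every one-parameter subgroup of G is conjugate under G(k) to one of T, so this determines ‖·‖ on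
all of them; consistency forces b to be invariant under the Weyl group, and such forms exist). Then
there is a constant K such that |μ^L(x, λ)| ≤ K·‖λ‖ for every k-point x of X and every one-parameter
subgroup λ of G: whenever the numerical function of x at λ (the limit of λ(u)·x as u → 0 exists and
𝔾_m acts on the fibre of L over it with exponent m) takes the value m, |m| ≤ K·‖λ‖. In other words
the normalised function ν^L(x, λ) = μ^L(x, λ)/‖λ‖ is bounded in absolute value, uniformly in x and
λ. (The published statement is for any reductive G; this row takes G connected.) -/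
theorem result (k : Type u) [Field k] [IsAlgClosed k]
    (G X T : Over (Spec (CommRingCat.of k))) [GrpObj G] [GrpObj T] (hG : Red.IsReductive G)
    (i : T ⟶ G) [IsMonHom i] (hi : Red.IsMaximalTorus i) [IsProper X.hom]
    (a : AlgGrp.Action G X) (B : GLinSh.LinBun G a) (hB : HMNum.AmpleCover B)
    (b : (Red.Gm (Spec (CommRingCat.of k)) ⟶ T) → (Red.Gm (Spec (CommRingCat.of k)) ⟶ T) → ℚ)
    (hb_add : ∀ (l₁ l₂ l₃ : Red.Gm (Spec (CommRingCat.of k)) ⟶ T) [IsMonHom l₁] [IsMonHom l₂] [IsMonHom l₃],
      b (l₁ * l₂) l₃ = b l₁ l₃ + b l₂ l₃)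
    (hb_symm : ∀ (l₁ l₂ : Red.Gm (Spec (CommRingCat.of k)) ⟶ T) [IsMonHom l₁] [IsMonHom l₂], b l₁ l₂ = b l₂ l₁)
    (hb_pos : ∀ (l : Red.Gm (Spec (CommRingCat.of k)) ⟶ T) [IsMonHom l], l ≠ 1 → 0 < b l l)
    (nrm : (Red.Gm (Spec (CommRingCat.of k)) ⟶ G) → ℝ)
    (hnrm : ∀ (l : Red.Gm (Spec (CommRingCat.of k)) ⟶ T) [IsMonHom l] (g : 𝟙_ (Over (Spec (CommRingCat.of k))) ⟶ G),
      0 ≤ nrm ((toUnit _ ≫ g) * (l ≫ i) * (toUnit _ ≫ g)⁻¹) ∧
        nrm ((toUnit _ ≫ g) * (l ≫ i) * (toUnit _ ≫ g)⁻¹) ^ 2 = ((b l l : ℚ) : ℝ)) :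
    ∃ K : ℝ, ∀ (x : 𝟙_ (Over (Spec (CommRingCat.of k))) ⟶ X) (l : Red.Gm (Spec (CommRingCat.of k)) ⟶ G) [IsMonHom l] (m : ℤ),
      HMNum.IsMu B l x m → |(m : ℝ)| ≤ K * nrm l := by
  haveI := hi.1
  haveI := hi.2.1
  haveI := hG.1
  haveI : IsAffine G.left := isAffine_of_isAffineHom G.hom
  haveI : Smooth G.hom := hG.2.1
  haveI : QuasiCompact G.hom := inferInstance
  haveI : ConnectedSpace G.left := by
    obtain ⟨s⟩ : Nonempty ↥(Spec (CommRingCat.of k)) := inferInstance
    haveI : ConnectedSpace ↥(CategoryTheory.Limits.pullback G.hom (Red.geomPt s)) := (hG.2.2 s).2.2.1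
    exact (CategoryTheory.Limits.pullback.fst G.hom (Red.geomPt s)).surjective.connectedSpace
      (CategoryTheory.Limits.pullback.fst G.hom (Red.geomPt s)).continuous
  haveI : IsCommMonObj T := by
    rw [CategoryTheory.isCommMonObj_iff_isMulCommutative]
    exact fun X => ⟨⟨fun a b => (Groth.L08.Borel.torus_props hi.2.2.1).2.2.2.2 X a b⟩⟩
  have hmax := Groth.L24.TorusField.isMaxTorus_of_isMaximalTorus_field hi
  haveI := Groth.L04.MuBound.finite_cochar T hi.2.2.1
  let L := Additive (Groth.L04.MuBound.cochar T)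
  let val : L → (Red.Gm (Spec (CommRingCat.of k)) ⟶ T) := fun x => (Additive.toMul x).1
  have hval : ∀ x y : L, val (x + y) = val x * val y := fun _ _ => rfl
  have hm : ∀ x : L, IsMonHom (val x) := fun x => (Additive.toMul x).2
  let bb : L →+ L →+ ℚ := AddMonoidHom.mk' (fun x => AddMonoidHom.mk' (fun y => b (val x) (val y)) fun y z => by
      haveI := hm x; haveI := hm y; haveI := hm z; haveI := hm (y + z)
      rw [hb_symm (val x) (val (y + z)), hb_symm (val x) (val y), hb_symm (val x) (val z), hval, hb_add]) fun x y => by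
    refine AddMonoidHom.ext fun z => ?_
    haveI := hm x; haveI := hm y; haveI := hm z
    show b (val (x + y)) (val z) = b (val x) (val z) + b (val y) (val z)
    rw [hval, hb_add]
  have hsymm : ∀ x y, bb x y = bb y x := fun x y => by
    haveI := hm x; haveI := hm y
    exact hb_symm (val x) (val y)
  have hpos : ∀ x, x ≠ 0 → 0 < bb x x := fun x hx => by
    haveI := hm x
    exact hb_pos (val x) fun h => hx (Additive.toMul.injective (Subtype.ext h))
  obtain ⟨n, ℓ, hadd, hI⟩ := Groth.L18.MuTorus.exists_functionals B i hi.2.2.1 hB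
  let ll : Fin n → (L →+ ℚ) := fun j => AddMonoidHom.mk' (fun x => ℓ j (val x)) fun x y => by
    haveI := hm x; haveI := hm y
    rw [hval, hadd]
  choose K hK0 hK using fun j => Groth.L04.MuBound.exists_bound bb hsymm hpos (ll j)
  refine ⟨∑ j, K j, fun x l _ m hmu => ?_⟩
  obtain ⟨γ, lam, hlam, hl⟩ := Groth.L04.MuBound.exists_conj_cochar hmax l
  haveI := hlam
  haveI : IsMonHom (lam ≫ i) := inferInstance
  have hact : lift γ (lift γ⁻¹ x ≫ a.act) ≫ a.act = x := by
    rw [← Groth.L18.MuConj.act_mul, mul_inv_cancel, Groth.L18.MuConj.act_one]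
  have h' : HMNum.IsMu B (lam ≫ i) (lift γ⁻¹ x ≫ a.act) m := by
    refine (Groth.L18.MuConj.isMu_act_iff B (lift γ⁻¹ x ≫ a.act) l (lam ≫ i) γ ?_ m).1 (by rwa [hact])
    rw [hl]
    group
  obtain ⟨I, hI⟩ := hI (lift γ⁻¹ x ≫ a.act)
  obtain ⟨j, -, hj, -⟩ := (hI lam m).1 h'
  obtain ⟨hn0, hn2⟩ := hnrm lam γ
  rw [← hl] at hn0 hn2
  let x₀ : L := Additive.ofMul ⟨lam, hlam⟩
  have h1 : |(m : ℝ)| ≤ K j * Real.sqrt ((b lam lam : ℚ) : ℝ) := by
    have := hK j x₀
    rwa [show (ll j x₀ : ℚ) = (m : ℚ) from hj.symm, Rat.cast_intCast] at this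
  rw [← hn2, Real.sqrt_sq hn0] at h1
  exact h1.trans (mul_le_mul_of_nonneg_right
    (Finset.single_le_sum (fun j _ => hK0 j) (Finset.mem_univ j)) hn0)

end Groth.Agent.S19790
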