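import Groth.Agent.L18.GIT.MuConj
import Groth.Statements.S19791
-- import your own Groth.Agent.* helpers here

set_option autoImplicit false
universe u
open CategoryTheory MonoidalCategory CartesianMonoidalCategory MonObj AlgebraicGeometry Opposite
open GIT

namespace Groth.Agent.S19791

/-- Let k be an algebraically closed field, G a connected reductive algebraic group over k acting by σ
on a scheme X proper over k, L an ample G-linearised line bundle on X in total-space form, and ‖·‖ a
real-valued function on the one-parameter subgroups of G invariant under conjugation by k-points of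
G (‖γ·λ·γ⁻¹‖ = ‖λ‖; nothing else is assumed of ‖·‖). For a k-point x of X consider the set of real
numbers μ^L(x, λ)/‖λ‖, where λ runs over the non-trivial one-parameter subgroups of G and μ^L(x, λ)
= m means that the limit of λ(u)·x as u → 0 exists and 𝔾_m acts on the fibre of L over it with
exponent m; its infimum is the number M^L(x). Then for every k-point g of G the sets attached to g·x
and to x coincide, so that M^L(g·x) = M^L(x). (The published statement is for any reductive G, not
necessarily connected, acting on a projective variety; this row takes G connected and X any scheme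
proper over k.) -/
theorem result (k : Type u) [Field k] [IsAlgClosed k]
    (G X : Over (Spec (CommRingCat.of k))) [GrpObj G] (hG : Red.IsReductive G) [IsProper X.hom]
    (a : AlgGrp.Action G X) (B : GLinSh.LinBun G a) (hB : HMNum.AmpleCover B)
    (nrm : (Red.Gm (Spec (CommRingCat.of k)) ⟶ G) → ℝ)
    (hnrm : ∀ (l : Red.Gm (Spec (CommRingCat.of k)) ⟶ G) [IsMonHom l] (g : 𝟙_ (Over (Spec (CommRingCat.of k))) ⟶ G),
      nrm ((toUnit _ ≫ g) * l * (toUnit _ ≫ g)⁻¹) = nrm l)
    (x : 𝟙_ (Over (Spec (CommRingCat.of k))) ⟶ X) (g : 𝟙_ (Over (Spec (CommRingCat.of k))) ⟶ G) (q : ℝ) :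
    (∃ (l : Red.Gm (Spec (CommRingCat.of k)) ⟶ G) (_ : IsMonHom l) (m : ℤ),
        l ≠ 1 ∧ HMNum.IsMu B l (lift g x ≫ a.act) m ∧ q = (m : ℝ) / nrm l) ↔
      ∃ (l : Red.Gm (Spec (CommRingCat.of k)) ⟶ G) (_ : IsMonHom l) (m : ℤ),
        l ≠ 1 ∧ HMNum.IsMu B l x m ∧ q = (m : ℝ) / nrm l := by
  constructor
  · rintro ⟨l, _, m, hne, hmu, hq⟩
    haveI := Groth.L18.MuConj.isMonHom_conj l g
    refine ⟨(toUnit _ ≫ g)⁻¹ * l * (toUnit _ ≫ g), inferInstance, m, fun h => hne ?_,
      (Groth.L18.MuConj.isMu_act_iff B x l _ g rfl m).1 hmu, ?_⟩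
    · have h2 := congrArg (fun t => (toUnit _ ≫ g) * t * (toUnit _ ≫ g)⁻¹) h
      simpa [_root_.mul_assoc] using h2
    · rw [hq, ← hnrm ((toUnit _ ≫ g)⁻¹ * l * (toUnit _ ≫ g)) g]
      congr 2
      group
  · rintro ⟨l, _, m, hne, hmu, hq⟩
    haveI h1 := Groth.L18.MuConj.isMonHom_conj l g⁻¹
    have e : (toUnit (Red.Gm (Spec (CommRingCat.of k))) ≫ g⁻¹)⁻¹ * l * (toUnit _ ≫ g⁻¹) =
        (toUnit _ ≫ g) * l * (toUnit _ ≫ g)⁻¹ := by
      rw [GrpObj.comp_inv]
      group
    rw [e] at h1
    refine ⟨(toUnit _ ≫ g) * l * (toUnit _ ≫ g)⁻¹, h1, m, fun h => hne ?_,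
      (Groth.L18.MuConj.isMu_act_iff B x _ l g (by group) m).2 hmu, ?_⟩
    · have h2 := congrArg (fun t => (toUnit _ ≫ g)⁻¹ * t * (toUnit _ ≫ g)) h
      simpa [_root_.mul_assoc] using h2
    · rw [hq, hnrm l g]

end Groth.Agent.S19791
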