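import Groth.Statements.S19795
import Groth.Agent.L25.Extend.Gm
import Groth.Agent.L25.Locus.Torus

set_option autoImplicit false
open CategoryTheory MonoidalCategory CartesianMonoidalCategory MonObj GrpObj AlgebraicGeometry
universe u
open SGA3x

namespace Groth.Agent.S19795

set_option backward.isDefEq.respectTransparency.types false
set_option linter.style.haveILetI false

open CategoryTheory.Limits Groth.L25

set_option maxHeartbeats 800000 in
/-- Let S be an integral, normal, locally Noetherian scheme with function field K, f : Spec K ⟶ S the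
inclusion of the generic point, and T an S-torus. Then X_*(T)(S) = X_*(T)(K): every homomorphism of
K-groups (𝔾_{m,S}) ×_S Spec K ⟶ T ×_S Spec K is the base change along f of exactly one homomorphism
of S-groups 𝔾_{m,S} ⟶ T. (The published statement assumes S connected, normal and locally
Noetherian, which makes S integral.) -/
theorem result {S : Scheme.{u}} [IsIntegral S]
    [IsLocallyNoetherian S] (hnorm : ∀ x : ↥S, IsDomain (S.presheaf.stalk x) ∧ IsIntegrallyClosed (S.presheaf.stalk x))
    {T : Over S} [GrpObj T] (hT : Red.IsTorus T)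
    (lamK : Red.bc (S.fromSpecStalk (genericPoint S)) (Red.Gm S) ⟶ Red.bc (S.fromSpecStalk (genericPoint S)) T)
    [IsMonHom lamK] :
    ∃! lam : Red.Gm S ⟶ T, IsMonHom lam ∧ (Over.pullback (S.fromSpecStalk (genericPoint S))).map lam = lamK := by
  let η₀ := genericPoint S
  let r := Spec.map (S.residue η₀)
  let fS := S.fromSpecStalk η₀
  have hr : r ≫ fS = S.fromSpecResidueField η₀ := rfl
  haveI : IsIso (S.residue η₀) := by
    refine (ConcreteCategory.isIso_iff_bijective _).2 ⟨?_, S.residue_surjective _⟩
    letI : Field (S.presheaf.stalk η₀) := inferInstanceAs (Field S.functionField)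
    exact RingHom.injective (S.residue η₀).hom
  haveI : IsIso r := inferInstanceAs (IsIso (Spec.map (S.residue η₀)))
  let B := ActBC.bcCompIso r fS (Red.Gm S) hr
  let C := ActBC.bcCompIso r fS T hr
  let uη := B.inv ≫ (Over.pullback r).map lamK ≫ C.hom
  haveI : IsMonHom ((Over.pullback r).map lamK) :=
    ((Over.pullback r).mapGrp.map (Grp.homMk'' (A := Grp.mk (Red.bc fS (Red.Gm S))) (B := Grp.mk (Red.bc fS T)) lamK
      (IsMonHom.one_hom lamK) (IsMonHom.mul_hom lamK))).hom.isMonHom_hom
  haveI : Smooth (Red.Gm S).hom := Extend.smooth_gm S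
  haveI : IsSeparated T.hom := by
    haveI := Central.isAffineHom_of_multTypeFT (Locus.isMultTypeFT_of_isTorus hT)
    infer_instance
  haveI : IsReduced (Red.Gm S).left :=
    Extend.isReduced_of_normal (Extend.isNormalScheme_of_smooth (Red.Gm S).hom hnorm)
  obtain ⟨u, hu, hgen⟩ := Extend.exists_extension (Red.Gm S) T (Extend.connectedSpace_gm_fibre S) hnorm
    (Locus.isMultTypeFT_of_isTorus hT) uη
  have nat : ∀ w : Red.Gm S ⟶ T, (Over.pullback r).map ((Over.pullback fS).map w) =
      B.hom ≫ (Over.pullback (S.fromSpecResidueField η₀)).map w ≫ C.inv := fun w =>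
    ((Category.assoc _ _ _).symm.trans ((congrArg (· ≫ C.inv) (ActBC.bcCompIso_hom_naturality r fS hr w).symm).trans
      ((Category.assoc _ _ _).trans ((congrArg (_ ≫ ·) C.hom_inv_id).trans (Category.comp_id _))))).symm
  refine ⟨u, ⟨hu, ?_⟩, fun v ⟨_, hv⟩ => Extend.eq_of_generic v u ?_⟩
  · refine (Over.pullback r).map_injective ?_
    rw [nat, hgen]
    simp only [uη, Category.assoc, Iso.hom_inv_id, Category.comp_id, Iso.hom_inv_id_assoc]
  · rw [hgen, ← cancel_epi B.hom, ← cancel_mono C.inv, Category.assoc, ← nat, hv]
    simp only [uη, Category.assoc, Iso.hom_inv_id, Category.comp_id, Iso.hom_inv_id_assoc]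

end Groth.Agent.S19795
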