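import Groth.Statements.S19796
import Groth.Agent.L21.CastSev.Basic
import Groth.Agent.L21.Duality.Nondegenerate
import Groth.Agent.L26.Weil.Axes

set_option autoImplicit false
set_option backward.isDefEq.respectTransparency false
set_option linter.style.haveILetI false
universe u
open CategoryTheory CategoryTheory.Limits AlgebraicGeometry Opposite
open Curves

namespace Groth.Agent.S19796

/-- Let X be a smooth projective curve over an algebraically closed field k of characteristic 0
(integral, proper over k, of dimension one, all local rings regular) and ψ : X ⟶ P^r_k a k-morphism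
which is non-degenerate (every nonzero global section of O(1) pulls back to a nonzero section of
ψ^*O(1)), with deg ψ^*O(1) = 2r + c for some 0 ≤ c ≤ r - 2; equivalently ψ is the map of a
base-point-free linear system of dimension r and degree 2r + c. Suppose ψ is not birational onto its
image, in the following form: ψ = π ≫ η ≫ j where π : X ⟶ Γ is a k-morphism, finite and flat of
constant rank a ≥ 2, onto a smooth projective curve Γ over k, j : Y ⟶ P^r_k is an integral closed
subscheme and η : Γ ⟶ Y restricts to an isomorphism over a nonempty open subset of Y. Then a = 2 and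
the genus γ of Γ satisfies 2γ ≤ c. Degrees are χ(·) - χ(O_X). -/
theorem result (k : Type u) [Field k] [IsAlgClosed k] [CharZero k] (X : Scheme.{u}) [X.Over (Spec (CommRingCat.of k))]
    [IsIntegral X] [IsProper (X ↘ (Spec (CommRingCat.of k)))] (hdim : topologicalKrullDim X = 1)
    (hreg : ∀ x : X, IsRegularLocalRing (X.presheaf.stalk x))
    (r c : ℕ) (hc : c + 2 ≤ r)
    (Γ : Scheme.{u}) [Γ.Over (Spec (CommRingCat.of k))] [IsIntegral Γ] [IsProper (Γ ↘ (Spec (CommRingCat.of k)))]
    (hdimΓ : topologicalKrullDim Γ = 1) (hregΓ : ∀ y : Γ, IsRegularLocalRing (Γ.presheaf.stalk y))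
    (π : X ⟶ Γ) (hπ : π ≫ (Γ ↘ Spec (CommRingCat.of k)) = X ↘ Spec (CommRingCat.of k))
    [IsFinite π] [Flat π] (a : ℕ) (ha2 : 2 ≤ a) (ha : ∀ y : Γ, Scheme.Hom.finrank π y = a)
    (Y : Scheme.{u}) [IsIntegral Y] (j : Y ⟶ CohB1.ProjSpace r k) [IsClosedImmersion j] (η : Γ ⟶ Y)
    (hη : η ≫ j ≫ CohB1.ProjSpace.toSpec r k = Γ ↘ Spec (CommRingCat.of k))
    (hbir : ∃ U : Y.Opens, (U : Set Y).Nonempty ∧ IsIso (η ∣_ U))
    (hnd : ∀ s : LinSer.Sect (CohB1.ProjSpace r k) (Twist.twistProjSpace r k 1), s ≠ 0 → OmegaSh.pullSect (π ≫ η ≫ j) (Twist.twistProjSpace r k 1) ⊤ s ≠ 0)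
    (hdeg : Curv2.deg k X ((Scheme.Modules.pullback (π ≫ η ≫ j)).obj (Twist.twistProjSpace r k 1)) 1 = 2 * r + c) :
    a = 2 ∧ 2 * Curv2.genus k Γ ≤ (c : ℤ) := by
  haveI : Smooth (Γ ↘ Spec (CommRingCat.of k)) :=
    Groth.L26.Weil.smooth_of_regular_closed (Γ ↘ Spec (CommRingCat.of k)) fun y _ => hregΓ y
  haveI := Groth.L21.RR.isNoetherian_of_proper (X := Γ) k
  haveI := Groth.L21.RR.isNoetherian_of_proper (X := X) k
  have h0 : Groth.L21.RR.h k 0 (Coh.structureModule Γ) = 1 := Groth.L21.RR.h0_eq_one_of_isAlgClosed k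
  let M := (Scheme.Modules.pullback (η ≫ j)).obj (Twist.twistProjSpace r k 1)
  have hM : PicF.IsInvertible M :=
    Groth.L18.Ample.isInvertible_pullback _ (Groth.L16.ProjTwist.isInvertible_twistProjSpace r k 1)
  have hsec := Groth.L21.Duality.succ_le_h0_pullback_twist (η ≫ j) (by rw [Category.assoc]; exact hη)
    (fun s hs h => hnd s hs (Groth.L21.CastSev.pullSect_comp_eq_zero π (η ≫ j) (Twist.twistProjSpace r k 1) s h))
  have he := Groth.L21.CastSev.deg_pullback hdimΓ π hπ ha hM
  have he' := (Groth.L21.Duality.deg_congr (k := k) (L := (Scheme.Modules.pullback π).obj M)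
    ((Scheme.Modules.pullbackComp π (η ≫ j)).app (Twist.twistProjSpace r k 1))).symm.trans he
  replace he := hdeg.symm.trans he'
  change r + 1 ≤ Groth.L21.RR.h k 0 M at hsec
  have hle := Groth.L21.Duality.h0_le_deg_add (k := k) hdimΓ.le h0 hM (by omega)
  have ha' : a = 2 := by
    by_contra hne
    have h3 : (3 : ℤ) ≤ a := by omega
    have h4 : 0 ≤ ((a : ℤ) - 3) * Curv2.deg k Γ M 1 := mul_nonneg (by omega) (by omega)
    nlinarith
  subst ha'
  refine ⟨rfl, ?_⟩
  have h1 : Groth.L21.RR.h k 1 M = 0 := by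
    by_contra hne
    have h2 := Groth.L21.Duality.clifford hdimΓ h0 hM (by omega) (Nat.one_le_iff_ne_zero.2 hne)
    omega
  have hrr := Groth.L21.Duality.rr_deg (k := k) hdimΓ.le h0 M
  omega

end Groth.Agent.S19796
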