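import Groth.Statements.S19799
import Mathlib.LinearAlgebra.TensorProduct.RightExactness
import Mathlib.FieldTheory.IsAlgClosed.Basic
import Mathlib.RingTheory.Artinian.Ring
import Mathlib.RingTheory.Artinian.Module
import Mathlib.RingTheory.Ideal.Quotient.Nilpotent
import Mathlib.RingTheory.Ideal.Quotient.Operations
-- import your own Groth.Agent.* helpers here

set_option autoImplicit false
universe u v w
open scoped TensorProduct
open CAlg

namespace Groth.Agent.S19799

/-- A tensor product of reduced algebras over an algebraically closed field, one factor finite, is reduced. -/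
theorem eq_zero_of_isNilpotent (k : Type u) [Field k] [IsAlgClosed k] (R : Type v) [CommRing R] [Algebra k R]
    [Module.Finite k R] [_root_.IsReduced R] (S : Type w) [CommRing S] [Algebra k S] [_root_.IsReduced S]
    (z : R ⊗[k] S) (hz : IsNilpotent z) : z = 0 := by
  haveI : IsArtinianRing R := IsArtinianRing.of_finite k R
  let b := Module.Free.chooseBasis k S
  suffices h : ∀ φ : S →ₗ[k] k, (TensorProduct.rid k R) (φ.lTensor R z) = 0 by
    apply (TensorProduct.equivFinsuppOfBasisRight b (M := R)).injective
    ext i
    rw [map_zero, Finsupp.zero_apply, TensorProduct.equivFinsuppOfBasisRight_apply]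
    exact h _
  intro φ
  have hchar : ∀ m : Ideal R, m.IsMaximal → ∃ χ : R →ₐ[k] k, ∀ r, χ r = 0 → r ∈ m := by
    intro m hm
    letI := Ideal.Quotient.field m
    have hb := IsAlgClosed.algebraMap_bijective_of_isIntegral (k := k) (K := R ⧸ m)
    refine ⟨(AlgEquiv.ofBijective (Algebra.ofId k (R ⧸ m)) hb).symm.toAlgHom.comp (Ideal.Quotient.mkₐ k m),
      fun r hr => Ideal.Quotient.eq_zero_iff_mem.mp ?_⟩
    simpa using hr
  set c := (TensorProduct.rid k R) (φ.lTensor R z) with hc
  have hcm : ∀ m : Ideal R, m.IsMaximal → c ∈ m := by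
    intro m hm
    obtain ⟨χ, hχ⟩ := hchar m hm
    apply hχ
    let Φ : R ⊗[k] S →ₐ[k] S :=
      (Algebra.TensorProduct.lid k S).toAlgHom.comp (Algebra.TensorProduct.map χ (AlgHom.id k S))
    have h1 : Φ z = 0 := (hz.map Φ).eq_zero
    have h2 : ∀ y : R ⊗[k] S, χ ((TensorProduct.rid k R) (φ.lTensor R y)) = φ (Φ y) := by
      intro y
      induction y using TensorProduct.induction_on with
      | zero => simp
      | add a b ha hb => simp only [map_add, ha, hb]
      | tmul r s => simp [Φ, mul_comm]
    rw [hc, h2, h1, map_zero]
  have hj : c ∈ Ring.jacobson R := by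
    rw [Ring.jacobson_eq_sInf_isMaximal, Submodule.mem_sInf]
    exact hcm
  obtain ⟨n, hn⟩ := IsSemiprimaryRing.isNilpotent (R := R)
  exact IsReduced.eq_zero c ⟨n, by
    have := Ideal.pow_mem_pow hj n
    rwa [hn] at this⟩

/-- Let k be an algebraically closed field and A, B commutative k-algebras, each finite-dimensional as a
k-vector space. Then reduction commutes with tensor products: the kernel of the canonical surjection
A ⊗_k B ⟶ (A/nilradical A) ⊗_k (B/nilradical B) equals the nilradical of A ⊗_k B, so that this
surjection induces an isomorphism (A ⊗_k B)_red ≅ A_red ⊗_k B_red and in particular A_red ⊗_k B_red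
is reduced. -/
theorem result (k : Type u) [Field k]
    [IsAlgClosed k] (A : Type v) [CommRing A] [Algebra k A] [Module.Finite k A]
    (B : Type w) [CommRing B] [Algebra k B] [Module.Finite k B] :
    RingHom.ker (Algebra.TensorProduct.map (Ideal.Quotient.mkₐ k (nilradical A))
      (Ideal.Quotient.mkₐ k (nilradical B))).toRingHom = nilradical (A ⊗[k] B) := by
  refine le_antisymm ?_ fun x hx => ?_
  · rw [show RingHom.ker (Algebra.TensorProduct.map (Ideal.Quotient.mkₐ k (nilradical A))
        (Ideal.Quotient.mkₐ k (nilradical B))).toRingHom = _ from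
      Algebra.TensorProduct.map_ker _ _ (Ideal.Quotient.mkₐ_surjective k _) (Ideal.Quotient.mkₐ_surjective k _)]
    refine sup_le (Ideal.map_le_iff_le_comap.mpr fun a ha => ?_) (Ideal.map_le_iff_le_comap.mpr fun b hb => ?_)
    · have ha' : a ∈ nilradical A := by simpa [Ideal.Quotient.eq_zero_iff_mem] using ha
      exact mem_nilradical.mpr ((mem_nilradical.mp ha').map Algebra.TensorProduct.includeLeft)
    · have hb' : b ∈ nilradical B := by simpa [Ideal.Quotient.eq_zero_iff_mem] using hb
      exact mem_nilradical.mpr ((mem_nilradical.mp hb').map Algebra.TensorProduct.includeRight)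
  · have hx' := (mem_nilradical.mp hx).map (Algebra.TensorProduct.map (Ideal.Quotient.mkₐ k (nilradical A))
      (Ideal.Quotient.mkₐ k (nilradical B))).toRingHom
    rw [RingHom.mem_ker]
    haveI : _root_.IsReduced (A ⧸ nilradical A) :=
      (Ideal.isRadical_iff_quotient_reduced _).mp (Ideal.radical_isRadical _)
    haveI : _root_.IsReduced (B ⧸ nilradical B) :=
      (Ideal.isRadical_iff_quotient_reduced _).mp (Ideal.radical_isRadical _)
    haveI : Module.Finite k (A ⧸ nilradical A) :=
      Module.Finite.of_surjective (Ideal.Quotient.mkₐ k (nilradical A)).toLinearMap (Ideal.Quotient.mkₐ_surjective k _)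
    exact eq_zero_of_isNilpotent k _ _ _ hx'

end Groth.Agent.S19799
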