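import Groth.Statements.S19802
import Groth.Agent.L21.CastSev.Immersion

set_option autoImplicit false
set_option backward.isDefEq.respectTransparency false
set_option linter.style.haveILetI false
universe u
open CategoryTheory CategoryTheory.Limits AlgebraicGeometry Opposite
open Curves

namespace Groth.Agent.S19802

/-- Let F be a smooth projective curve over an algebraically closed field k of characteristic 0
(integral, proper over k, of dimension one, all local rings regular) of genus g = 4γ + 1 with γ ≥ 1,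
and let f_i : F ⟶ P_i (i = 1, 2) be two k-morphisms, finite and flat of constant rank 2, onto smooth
projective curves P_i of genus γ_i ≤ γ (two involutions of F with quotients of genus at most γ)
which are not isomorphic as covers: there is no k-isomorphism e : P₁ ≅ P₂ with f₁ ≫ e = f₂ (the
involutions are distinct). Then γ₁ = γ₂ = γ and the morphism F ⟶ P₁ ×_k P₂ induced by f₁ and f₂ is a
closed immersion. (The published statement also says that both P_i are hyperelliptic and identifies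
the linear system of the image; those clauses are not part of this row.) -/
theorem result (k : Type u) [Field k] [IsAlgClosed k] [CharZero k] (X : Scheme.{u}) [X.Over (Spec (CommRingCat.of k))]
    [IsIntegral X] [IsProper (X ↘ (Spec (CommRingCat.of k)))] (hdim : topologicalKrullDim X = 1)
    (hreg : ∀ x : X, IsRegularLocalRing (X.presheaf.stalk x))
    (γ : ℕ) (hγ : 1 ≤ γ) (hg : Curv2.genus k X = 4 * γ + 1)
    (P₁ : Scheme.{u}) [P₁.Over (Spec (CommRingCat.of k))] [IsIntegral P₁] [IsProper (P₁ ↘ (Spec (CommRingCat.of k)))]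
    (hdim₁ : topologicalKrullDim P₁ = 1) (hreg₁ : ∀ y : P₁, IsRegularLocalRing (P₁.presheaf.stalk y)) (hγ₁ : Curv2.genus k P₁ ≤ γ)
    (P₂ : Scheme.{u}) [P₂.Over (Spec (CommRingCat.of k))] [IsIntegral P₂] [IsProper (P₂ ↘ (Spec (CommRingCat.of k)))]
    (hdim₂ : topologicalKrullDim P₂ = 1) (hreg₂ : ∀ y : P₂, IsRegularLocalRing (P₂.presheaf.stalk y)) (hγ₂ : Curv2.genus k P₂ ≤ γ)
    (f₁ : X ⟶ P₁) (hf₁ : f₁ ≫ (P₁ ↘ Spec (CommRingCat.of k)) = X ↘ Spec (CommRingCat.of k))
    [IsFinite f₁] [Flat f₁] (hr₁ : ∀ y : P₁, Scheme.Hom.finrank f₁ y = 2)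
    (f₂ : X ⟶ P₂) (hf₂ : f₂ ≫ (P₂ ↘ Spec (CommRingCat.of k)) = X ↘ Spec (CommRingCat.of k))
    [IsFinite f₂] [Flat f₂] (hr₂ : ∀ y : P₂, Scheme.Hom.finrank f₂ y = 2)
    (hne : ¬ ∃ e : P₁ ≅ P₂, e.hom ≫ (P₂ ↘ Spec (CommRingCat.of k)) = (P₁ ↘ Spec (CommRingCat.of k)) ∧ f₁ ≫ e.hom = f₂) :
    Curv2.genus k P₁ = γ ∧ Curv2.genus k P₂ = γ ∧
      IsClosedImmersion (pullback.lift f₁ f₂ (hf₁.trans hf₂.symm) :
        X ⟶ pullback (P₁ ↘ Spec (CommRingCat.of k)) (P₂ ↘ Spec (CommRingCat.of k))) := by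
  haveI : Smooth (P₁ ↘ Spec (CommRingCat.of k)) :=
    Groth.L26.Weil.smooth_of_regular_closed (P₁ ↘ Spec (CommRingCat.of k)) fun y _ => hreg₁ y
  haveI : Smooth (P₂ ↘ Spec (CommRingCat.of k)) :=
    Groth.L26.Weil.smooth_of_regular_closed (P₂ ↘ Spec (CommRingCat.of k)) fun y _ => hreg₂ y
  haveI := Groth.L21.RR.isNoetherian_of_proper (X := X) k
  have key : ∀ {Q : Scheme.{u}} (g : X ⟶ Q) {N : Q.Modules}, PicF.IsInvertible N →
      Coh.IsQCoh ((Scheme.Modules.pullback g).obj N) := fun g _ hN =>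
    (Groth.L16.ProperFinite.isCoh_of_isInvertible (Groth.L18.Ample.isInvertible_pullback g hN)).1
  rcases Groth.L21.CastSev.datum_or_iso f₁ f₂ hdim hdim₁ hdim₂ hreg₁ hf₁ hf₂ hr₁ hr₂ two_ne_zero hreg₂ with
    (⟨N, s, t, hN, -, hle, hiso⟩ | ⟨N, s, t, hN, -, hle, hiso⟩) | h
  · refine ⟨by omega, by omega, ?_⟩
    haveI := hiso (by omega)
    haveI := key f₂ hN
    exact Groth.L21.CastSev.isClosedImmersion_lift f₁ f₂ s t hN (Groth.L21.CastSev.genBy_of_isIso f₁ _ _) _ _ _
  · refine ⟨by omega, by omega, ?_⟩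
    haveI := hiso (by omega)
    haveI := key f₁ hN
    haveI := Groth.L21.CastSev.isClosedImmersion_lift f₂ f₁ s t hN (Groth.L21.CastSev.genBy_of_isIso f₂ _ _)
      (P₂ ↘ Spec (CommRingCat.of k)) (P₁ ↘ Spec (CommRingCat.of k)) (hf₂.trans hf₁.symm)
    have h : pullback.lift f₁ f₂ (hf₁.trans hf₂.symm) = pullback.lift f₂ f₁ (hf₂.trans hf₁.symm) ≫
        (pullbackSymmetry (P₂ ↘ Spec (CommRingCat.of k)) (P₁ ↘ Spec (CommRingCat.of k))).hom := by
      apply pullback.hom_ext <;> simp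
    rw [h]
    infer_instance
  · exact absurd h hne

end Groth.Agent.S19802
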