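import Groth.Statements.S19803
import Groth.Agent.S19802
import Groth.Agent.L21.CastSev.Hyperelliptic

set_option autoImplicit false
set_option backward.isDefEq.respectTransparency false
set_option linter.style.haveILetI false
universe u
open CategoryTheory CategoryTheory.Limits AlgebraicGeometry Opposite
open Curves

namespace Groth.Agent.S19803

/-- Let F be a smooth projective curve over an algebraically closed field k of characteristic 0
(integral, proper over k, of dimension one, all local rings regular) of genus g = 4γ + 1 with γ ≥ 1,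
and let f_i : F ⟶ P_i (i = 1, 2) be two k-morphisms, finite and flat of constant rank 2, onto smooth
projective curves P_i of genus γ_i ≤ γ (two involutions of F with quotients of genus at most γ)
which are not isomorphic as covers: there is no k-isomorphism e : P₁ ≅ P₂ with f₁ ≫ e = f₂ (the
involutions are distinct). Then P₁ and P₂ are hyperelliptic in the sense that each carries an
invertible module of degree 2 with at least two linearly independent global sections (a g^1_2).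
Degrees are χ(·) - χ(O). -/
theorem result (k : Type u) [Field k] [IsAlgClosed k] [CharZero k] (X : Scheme.{u}) [X.Over (Spec (CommRingCat.of k))]
    [IsIntegral X] [IsProper (X ↘ (Spec (CommRingCat.of k)))] (hdim : topologicalKrullDim X = 1)
    (hreg : ∀ x : X, IsRegularLocalRing (X.presheaf.stalk x))
    (γ : ℕ) (hγ : 1 ≤ γ) (hg : Curv2.genus k X = 4 * γ + 1)
    (P₁ : Scheme.{u}) [P₁.Over (Spec (CommRingCat.of k))] [IsIntegral P₁] [IsProper (P₁ ↘ (Spec (CommRingCat.of k)))]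
    (hdim₁ : topologicalKrullDim P₁ = 1) (hreg₁ : ∀ y : P₁, IsRegularLocalRing (P₁.presheaf.stalk y)) (hγ₁ : Curv2.genus k P₁ ≤ γ)
    (P₂ : Scheme.{u}) [P₂.Over (Spec (CommRingCat.of k))] [IsIntegral P₂] [IsProper (P₂ ↘ (Spec (CommRingCat.of k)))]
    (hdim₂ : topologicalKrullDim P₂ = 1) (hreg₂ : ∀ y : P₂, IsRegularLocalRing (P₂.presheaf.stalk y)) (hγ₂ : Curv2.genus k P₂ ≤ γ)
    (f₁ : X ⟶ P₁) (hf₁ : f₁ ≫ (P₁ ↘ Spec (CommRingCat.of k)) = X ↘ Spec (CommRingCat.of k))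
    [IsFinite f₁] [Flat f₁] (hr₁ : ∀ y : P₁, Scheme.Hom.finrank f₁ y = 2)
    (f₂ : X ⟶ P₂) (hf₂ : f₂ ≫ (P₂ ↘ Spec (CommRingCat.of k)) = X ↘ Spec (CommRingCat.of k))
    [IsFinite f₂] [Flat f₂] (hr₂ : ∀ y : P₂, Scheme.Hom.finrank f₂ y = 2)
    (hne : ¬ ∃ e : P₁ ≅ P₂, e.hom ≫ (P₂ ↘ Spec (CommRingCat.of k)) = (P₁ ↘ Spec (CommRingCat.of k)) ∧ f₁ ≫ e.hom = f₂) :
    (∃ M₁ : P₁.Modules, PicF.IsInvertible M₁ ∧ Curv2.deg k P₁ M₁ 1 = 2 ∧ 2 ≤ Module.finrank k (Coh.HH P₁ M₁ 0)) ∧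
      ∃ M₂ : P₂.Modules, PicF.IsInvertible M₂ ∧ Curv2.deg k P₂ M₂ 1 = 2 ∧ 2 ≤ Module.finrank k (Coh.HH P₂ M₂ 0) := by
  haveI : Smooth (P₁ ↘ Spec (CommRingCat.of k)) :=
    Groth.L26.Weil.smooth_of_regular_closed (P₁ ↘ Spec (CommRingCat.of k)) fun y _ => hreg₁ y
  haveI : Smooth (P₂ ↘ Spec (CommRingCat.of k)) :=
    Groth.L26.Weil.smooth_of_regular_closed (P₂ ↘ Spec (CommRingCat.of k)) fun y _ => hreg₂ y
  haveI := Groth.L21.RR.isNoetherian_of_proper (X := X) k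
  obtain ⟨e₁, e₂, hcl⟩ := Groth.Agent.S19802.result k X hdim hreg γ hγ hg P₁ hdim₁ hreg₁ hγ₁ P₂ hdim₂ hreg₂ hγ₂
    f₁ hf₁ hr₁ f₂ hf₂ hr₂ hne
  have hinj : ∀ x x' : X, f₁ x' = f₁ x → f₂ x' = f₂ x → IsClosed ({x} : Set X) → IsClosed ({x'} : Set X) → x' = x := by
    intro x x' h₁ h₂ hx hx'
    haveI := hcl
    exact Groth.L21.CastSev.eq_of_lift_eq f₁ f₂ hf₁ hf₂ hx hx' h₁ h₂
  refine ⟨?_, ?_⟩
  · exact Groth.L21.CastSev.exists_g12 f₁ f₂ hdim hdim₁ hdim₂ hreg₁ hf₁ hf₂ hr₁ hr₂ two_ne_zero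
      (by rw [e₁, e₂, hg]; push_cast; ring) (e₁.trans e₂.symm)
      fun x x' hx h₁ h₂ => hinj x x' h₁ h₂ hx (Groth.L21.CastSev.isClosed_of_eq_fibre f₁ hx h₁)
  · exact Groth.L21.CastSev.exists_g12 f₂ f₁ hdim hdim₂ hdim₁ hreg₂ hf₂ hf₁ hr₂ hr₁ two_ne_zero
      (by rw [e₁, e₂, hg]; push_cast; ring) (e₂.trans e₁.symm)
      fun x x' hx h₂ h₁ => hinj x x' h₁ h₂ hx (Groth.L21.CastSev.isClosed_of_eq_fibre f₂ hx h₂)

end Groth.Agent.S19803
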