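import Groth.Statements.S19804
import Mathlib.RingTheory.Ideal.IdempotentFG
import Mathlib.RingTheory.Spectrum.Prime.Topology
import Mathlib.RingTheory.Finiteness.Projective
import Mathlib.Algebra.Azumaya.Defs
import Mathlib.RingTheory.TensorProduct.Basic
import Mathlib.Tactic

set_option autoImplicit false
open scoped TensorProduct
universe u v w
open Brauer

namespace Groth.Agent.S19804

/-- Let R be a commutative ring with Spec R connected, A an Azumaya R-algebra and e an idempotent
element of A. If for some nonzero commutative R-algebra R' the element 1 ⊗ e of R' ⊗_R A is 0, then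
e = 0; and if 1 ⊗ e = 1 in R' ⊗_R A, then e = 1. (The published statement is for an Azumaya algebra
over a connected scheme S and base change to an arbitrary nonempty S-scheme T; this row takes S and
T affine.) -/
theorem result {R : Type u} [CommRing R]
    [ConnectedSpace (PrimeSpectrum R)] {A : Type v} [Ring A] [Algebra R A] [IsAzumaya R A]
    (e : A) (he : IsIdempotentElem e) (R' : Type w) [CommRing R'] [Nontrivial R'] [Algebra R R'] :
    ((1 : R') ⊗ₜ[R] e = (0 : R' ⊗[R] A) → e = 0) ∧ ((1 : R') ⊗ₜ[R] e = (1 : R' ⊗[R] A) → e = 1) := by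
  classical
  have key : ∀ x : A, IsIdempotentElem x → (1 : R') ⊗ₜ[R] x = (0 : R' ⊗[R] A) → x = 0 := by
    intro x hx h0
    obtain ⟨n, f, g, hf, hg, hfg⟩ := Module.Finite.exists_comp_eq_id_of_projective R A
    let I : Ideal R := Ideal.span (Set.range (g x))
    have hIfg : I.FG := Submodule.fg_span (Set.finite_range _)
    have hxI : ∀ i, g x i ∈ I := fun i => Ideal.subset_span ⟨i, rfl⟩
    have hxsum : x = ∑ j, g x j • f (Pi.single j 1) := by
      conv_lhs => rw [show x = f (g x) from (LinearMap.congr_fun hfg x).symm]
      conv_lhs => rw [← Finset.univ_sum_single (g x), map_sum]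
      refine Finset.sum_congr rfl fun j _ => ?_
      rw [← map_smul, ← Pi.single_smul, smul_eq_mul, mul_one]
    have hidem : IsIdempotentElem I := by
      refine le_antisymm Ideal.mul_le_left (Ideal.span_le.2 ?_)
      rintro _ ⟨i, rfl⟩
      rw [SetLike.mem_coe]
      have h6 : g (x * x) i ∈ I * I := by
        rw [show x * x = (∑ j, g x j • f (Pi.single j 1)) * ∑ j, g x j • f (Pi.single j 1) from congrArg₂ (· * ·) hxsum hxsum,
          Finset.sum_mul, map_sum, Finset.sum_apply]
        refine Ideal.sum_mem _ fun j _ => ?_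
        rw [Finset.mul_sum, map_sum, Finset.sum_apply]
        refine Ideal.sum_mem _ fun l _ => ?_
        rw [smul_mul_smul_comm, map_smul, Pi.smul_apply, smul_eq_mul]
        exact Ideal.mul_mem_right _ _ (Ideal.mul_mem_mul (hxI j) (hxI l))
      rwa [hx.eq] at h6
    obtain ⟨ε, hε, hI⟩ := (Ideal.isIdempotentElem_iff_of_fg I hIfg).1 hidem
    have hker : ∀ i, algebraMap R R' (g x i) = 0 := fun i => by
      have h1 := congrArg (LinearMap.lTensor R' ((LinearMap.proj i).comp g)) h0
      rw [LinearMap.lTensor_tmul, map_zero] at h1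
      have h2 := congrArg (TensorProduct.rid R R') h1
      rw [TensorProduct.rid_tmul, map_zero] at h2
      rw [Algebra.algebraMap_eq_smul_one]
      exact h2
    have hI0 : I = ⊥ := by
      have hclopen : IsClopen (PrimeSpectrum.basicOpen ε : Set (PrimeSpectrum R)) :=
        ⟨by
          rw [PrimeSpectrum.basicOpen_eq_zeroLocus_of_isIdempotentElem ε hε]
          exact PrimeSpectrum.isClosed_zeroLocus _, PrimeSpectrum.isOpen_basicOpen⟩
      rcases isClopen_iff.1 hclopen with h | h
      · have h3 : PrimeSpectrum.basicOpen ε = ⊥ := SetLike.coe_injective h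
        rw [PrimeSpectrum.basicOpen_eq_bot_iff] at h3
        rw [hI, h3.eq_zero_of_isIdempotentElem hε] <;> simp
      · exfalso
        have h4 : I ≤ RingHom.ker (algebraMap R R') := Ideal.span_le.2 fun y ⟨i, hi⟩ => hi ▸ hker i
        obtain ⟨M, hM, hle⟩ := Ideal.exists_le_maximal _ (RingHom.ker_ne_top (algebraMap R R'))
        have h5 : (⟨M, hM.isPrime⟩ : PrimeSpectrum R) ∈ (PrimeSpectrum.basicOpen ε : Set (PrimeSpectrum R)) := h ▸ trivial
        exact h5 (hle (h4 (hI ▸ Ideal.mem_span_singleton_self ε)))
    have hg0 : g x = 0 := funext fun i => by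
      have := hxI i
      rw [hI0] at this
      exact this
    rw [show x = f (g x) from (LinearMap.congr_fun hfg x).symm, hg0, map_zero]
  refine ⟨key e he, fun h => ?_⟩
  refine (sub_eq_zero.1 (key (1 - e) he.one_sub ?_)).symm
  rw [TensorProduct.tmul_sub, h, Algebra.TensorProduct.one_def, sub_self]

end Groth.Agent.S19804
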