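import Groth.Statements.S19809
import Groth.Agent.L28.BinaryForm.Basic
import Mathlib.LinearAlgebra.Dual.Lemmas

set_option autoImplicit false
set_option linter.style.haveILetI false
universe u
open RatCurv MvPolynomial Groth.L28.BinaryForm

namespace Groth.Agent.S19809

/-- A smooth rational quintic curve C ⊂ P^3 has a one-parameter family of 3-secant lines. Stated, as for
the nondegenerate case, through binary forms: C is the image of P^1 under a 4-dimensional linear
series V of binary quintic forms which separates every length-2 subscheme of P^1 (for every nonzero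
quadratic form e, the forms of V together with the multiples of e span all quintic forms), so that
P^1 → P(V^*) = P^3 is a closed embedding; the linear forms on P^3 are the elements of V, a line L ⊂
P^3 is the 2-dimensional space of linear forms vanishing on it, and L ∩ C has length at least 3
exactly when that space is contained in g · K[s,t]_2 for a cubic form g. The conclusion: there are
infinitely many pairwise non-proportional nonzero cubic forms g with dim (V ∩ g · K[s,t]_2) ≥ 2,
i.e. for every finite set of cubics there is such a g proportional to none of them. (The ground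
field is algebraically closed of characteristic zero in place of the complex numbers; the third
printed assertion, on curves all of whose 3-secants are 4-secant, is not stated.) -/
theorem result (K : Type u) [Field K] [IsAlgClosed K]
    [CharZero K] (V : Submodule K (MvPolynomial (Fin 2) K))
    (hV : V ≤ MvPolynomial.homogeneousSubmodule (Fin 2) K 5) (hdim : Module.finrank K ↥V = 4)
    (hsep : ∀ e ∈ MvPolynomial.homogeneousSubmodule (Fin 2) K 2, e ≠ 0 →
      ∀ F ∈ MvPolynomial.homogeneousSubmodule (Fin 2) K 5, ∃ v ∈ V,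
        ∃ h ∈ MvPolynomial.homogeneousSubmodule (Fin 2) K 3, F = v + e * h)
    (F : Finset (MvPolynomial (Fin 2) K)) :
    ∃ g ∈ MvPolynomial.homogeneousSubmodule (Fin 2) K 3, g ≠ 0 ∧
      2 ≤ Module.finrank K ↥(V ⊓ (MvPolynomial.homogeneousSubmodule (Fin 2) K 2).map (LinearMap.mulLeft K g)) ∧
      ∀ g' ∈ F, ∀ c : K, g ≠ c • g' := by
  classical
  haveI : Module.Finite K V := Submodule.finiteDimensional_of_le hV
  obtain ⟨F0, hF0, hF0V⟩ : ∃ F0 ∈ S K 5, F0 ∉ V := SetLike.not_le_iff_exists.1 fun h => by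
    rw [le_antisymm hV h, finrank_S] at hdim
    omega
  set V1 := V ⊔ Submodule.span K {F0} with hV1
  have hV1le : V1 ≤ S K 5 := sup_le hV ((Submodule.span_singleton_le_iff_mem _ _).2 hF0)
  haveI : Module.Finite K V1 := Submodule.finiteDimensional_of_le hV1le
  have hV1dim : Module.finrank K V1 ≤ 5 := by
    refine (Submodule.finrank_add_le_finrank_add_finrank V (Submodule.span K {F0})).trans ?_
    rw [hdim, finrank_span_singleton (show F0 ≠ 0 from fun h => hF0V (by rw [h]; exact zero_mem V))]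
  obtain ⟨F1, hF1, hF1V⟩ : ∃ F1 ∈ S K 5, F1 ∉ V1 := SetLike.not_le_iff_exists.1 fun h => by
    rw [le_antisymm hV1le h, finrank_S] at hV1dim
    omega
  have hF0V' : F0 ∉ V ⊔ Submodule.span K {F1} := fun h => by
    obtain ⟨v, hv, w, hw, hvw⟩ := Submodule.mem_sup.1 h
    obtain ⟨c, rfl⟩ := Submodule.mem_span_singleton.1 hw
    rcases eq_or_ne c 0 with rfl | hc
    · exact hF0V (by simpa [← hvw] using hv)
    · refine hF1V ?_
      have : F1 = c⁻¹ • (F0 - v) := by rw [← hvw, add_sub_cancel_left, smul_smul, inv_mul_cancel₀ hc, one_smul]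
      rw [this]
      exact Submodule.smul_mem _ _ (sub_mem (Submodule.mem_sup_right (Submodule.mem_span_singleton_self F0))
        (Submodule.mem_sup_left hv))
  obtain ⟨φ0, hφ00, hφ0V⟩ := Submodule.exists_dual_map_eq_bot_of_notMem hF0V' inferInstance
  obtain ⟨φ1, hφ11, hφ1V⟩ := Submodule.exists_dual_map_eq_bot_of_notMem hF1V inferInstance
  have k0 : ∀ x ∈ V ⊔ Submodule.span K {F1}, φ0 x = 0 := fun x hx =>
    (Submodule.mem_bot K).1 (hφ0V ▸ Submodule.mem_map_of_mem hx)
  have k1 : ∀ x ∈ V1, φ1 x = 0 := fun x hx => (Submodule.mem_bot K).1 (hφ1V ▸ Submodule.mem_map_of_mem hx)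
  have hmem : ∀ x ∈ S K 5, φ0 x = 0 → φ1 x = 0 → x ∈ V := by
    intro x hx h0 h1
    have heq : V1 ⊔ Submodule.span K {F1} = S K 5 := by
      have hle : V1 ⊔ Submodule.span K {F1} ≤ S K 5 :=
        sup_le hV1le ((Submodule.span_singleton_le_iff_mem _ _).2 hF1)
      haveI := Submodule.finiteDimensional_of_le hle
      refine Submodule.eq_of_le_of_finrank_le hle ?_
      have hlt : V1 < V1 ⊔ Submodule.span K {F1} :=
        left_lt_sup.2 fun h => hF1V (h (Submodule.mem_span_singleton_self F1))
      have h1 := Submodule.finrank_lt_finrank_of_lt hlt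
      have hlt0 : V < V1 := left_lt_sup.2 fun h => hF0V (h (Submodule.mem_span_singleton_self F0))
      have h2 := Submodule.finrank_lt_finrank_of_lt hlt0
      rw [finrank_S]
      omega
    obtain ⟨y, hy, w, hw, rfl⟩ := Submodule.mem_sup.1 (heq ▸ hx)
    obtain ⟨b, rfl⟩ := Submodule.mem_span_singleton.1 hw
    rw [map_add, map_smul, k1 y hy, zero_add, smul_eq_mul] at h1
    obtain rfl : b = 0 := (mul_eq_zero.1 h1).resolve_right hφ11
    rw [zero_smul, add_zero] at h0 hx ⊢
    obtain ⟨v, hv, w, hw, rfl⟩ := Submodule.mem_sup.1 hy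
    obtain ⟨a, rfl⟩ := Submodule.mem_span_singleton.1 hw
    rw [map_add, map_smul, k0 v (Submodule.mem_sup_left hv), zero_add, smul_eq_mul] at h0
    obtain rfl : a = 0 := (mul_eq_zero.1 h0).resolve_right hφ00
    simpa using hv
  have hnotle : ∀ g ∈ S K 3, g ≠ 0 → ¬ ∀ q ∈ S K 2, g * q ∈ V := by
    intro g hg hg0 h
    obtain ⟨e, he, l, hl, rfl, he0⟩ := exists_quadratic_factor hg
    have h5 := sup_eq V hV hsep he (he0 hg0)
    have hle : mulS (e * l) 2 ≤ V ⊓ mulS e 3 := by
      rintro _ ⟨q, hq, rfl⟩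
      exact ⟨h q hq, l * q, mul_mem_S hl hq (by norm_num), (mul_assoc e l q).symm⟩
    haveI : Module.Finite K (V ⊓ mulS e 3 : Submodule K (MvPolynomial (Fin 2) K)) :=
      Submodule.finiteDimensional_of_le (inf_le_left.trans hV)
    have h3 := Submodule.finrank_mono hle
    have hsum := Submodule.finrank_sup_add_finrank_inf_eq V (mulS e 3)
    rw [h5, finrank_S, hdim, finrank_mulS (he0 hg0)] at hsum
    rw [finrank_mulS hg0] at h3
    omega
  have hsub : ∀ g' : MvPolynomial (Fin 2) K, {t : K | g' ∈ S K 3 ∧ g' ≠ 0 ∧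
      ∀ q ∈ S K 2, φ0 (g' * q) + t * φ1 (g' * q) = 0}.Subsingleton := by
    rintro g' t ⟨hg', hg'0, ht⟩ t' ⟨-, -, ht'⟩
    by_contra hne
    refine hnotle g' hg' hg'0 fun q hq => ?_
    have h1 : φ1 (g' * q) = 0 := by
      have : (t - t') * φ1 (g' * q) = 0 := by linear_combination ht q hq - ht' q hq
      exact (mul_eq_zero.1 this).resolve_left (sub_ne_zero.2 hne)
    refine hmem _ (mul_mem_S hg' hq (by norm_num)) ?_ h1
    simpa [h1] using ht q hq
  have hbad : (⋃ g' ∈ F, {t : K | g' ∈ S K 3 ∧ g' ≠ 0 ∧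
      ∀ q ∈ S K 2, φ0 (g' * q) + t * φ1 (g' * q) = 0}).Finite :=
    F.finite_toSet.biUnion fun g' _ => (hsub g').finite
  obtain ⟨t, ht⟩ := hbad.infinite_compl.nonempty
  let T : S K 3 →ₗ[K] Module.Dual K (S K 2) :=
    ((LinearMap.mul K (MvPolynomial (Fin 2) K)).compl₁₂ (S K 3).subtype (S K 2).subtype).compr₂ (φ0 + t • φ1)
  have hT : LinearMap.ker T ≠ ⊥ := LinearMap.ker_ne_bot_of_finrank_lt (by
    rw [Subspace.dual_finrank_eq, finrank_S, finrank_S]; norm_num)
  obtain ⟨⟨g, hg⟩, hgT, hg0⟩ := (Submodule.ne_bot_iff _).1 hT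
  replace hg0 : g ≠ 0 := fun h => hg0 (Subtype.ext h)
  have hgt : ∀ q ∈ S K 2, φ0 (g * q) + t * φ1 (g * q) = 0 := fun q hq =>
    LinearMap.congr_fun (LinearMap.mem_ker.1 hgT) ⟨q, hq⟩
  refine ⟨g, hg, hg0, ?_, fun g' hg'F c hgc => ?_⟩
  · let ψ : S K 2 →ₗ[K] K := φ1 ∘ₗ LinearMap.mulLeft K g ∘ₗ (S K 2).subtype
    have h2 : 2 ≤ Module.finrank K (LinearMap.ker ψ) := by
      have h1 := LinearMap.finrank_range_add_finrank_ker ψ
      have h0 := Submodule.finrank_le (LinearMap.range ψ)
      rw [finrank_S] at h1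
      rw [Module.finrank_self] at h0
      omega
    let ι : S K 2 →ₗ[K] MvPolynomial (Fin 2) K := LinearMap.mulLeft K g ∘ₗ (S K 2).subtype
    have hι : Function.Injective ι := fun a b h => Subtype.ext (mul_left_cancel₀ hg0 h)
    rw [(Submodule.equivMapOfInjective ι hι (LinearMap.ker ψ)).finrank_eq] at h2
    haveI : Module.Finite K (V ⊓ (S K 2).map (LinearMap.mulLeft K g) : Submodule K (MvPolynomial (Fin 2) K)) :=
      Submodule.finiteDimensional_of_le (inf_le_left.trans hV)
    refine h2.trans (Submodule.finrank_mono ?_)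
    rintro _ ⟨q, hq, rfl⟩
    refine ⟨hmem _ (mul_mem_S hg q.2 (by norm_num)) ?_ (LinearMap.mem_ker.1 hq), _, q.2, rfl⟩
    have := hgt q q.2
    rwa [show φ1 (g * q) = 0 from LinearMap.mem_ker.1 hq, mul_zero, add_zero] at this
  · have hc : c ≠ 0 := fun h => hg0 (by simp [hgc, h])
    have hg' : g' = c⁻¹ • g := by rw [hgc, smul_smul, inv_mul_cancel₀ hc, one_smul]
    refine ht (Set.mem_biUnion hg'F ⟨hg' ▸ Submodule.smul_mem _ _ hg, fun h => hg0 (by simp [hgc, h]), ?_⟩)
    intro q hq
    rw [hg', smul_mul_assoc, map_smul, map_smul, smul_eq_mul, smul_eq_mul]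
    linear_combination c⁻¹ * hgt q hq

end Groth.Agent.S19809
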