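import Groth.Statements.S19810
import Groth.Agent.L23.CohProp.LocConst
import Groth.Agent.L23.CohProp.Bases

set_option autoImplicit false
universe u
open CategoryTheory CategoryTheory.Limits AlgebraicGeometry Opposite
open CohProp

namespace Groth.Agent.S19810

/-- Sheaves of sets: let S be a Noetherian scheme, f : X → S a morphism of finite type and F a
constructible sheaf of sets on the small etale site of X. Then there is a dense open U of S such
that, writing f_U : X_U → U for the restriction of f over U and F_U for the inverse image of F on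
X_U, the direct image f_{U*} F_U is locally constant on U and its formation commutes with every base
change: the pair (f_U, F_U) is cohomologically proper relative to U in dimension ≤ 0. (The published
statement is for constructible ind-finite stacks and also asserts that f_{U*} F_U is constructible;
this row is its case of sheaves of sets, without the constructibility conclusion.) -/
theorem result {X S : Scheme.{u}}
    [IsNoetherian S] (f : X ⟶ S) [LocallyOfFiniteType f] [QuasiCompact f]
    (F : EtDesc.Sh X) (hF : CohProp.IsConstructibleSet F) :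
    ∃ U : S.Opens, Dense (U : Set S) ∧
      CohProp.IsLocConstSet ((EtDesc.pushSh (f ∣_ U)).obj ((EtDesc.pullSh (f ⁻¹ᵁ U).ι).obj F)) ∧
      CohProp.IsCohPropSet (𝟙 (U : Scheme.{u})) (f ∣_ U) ((EtDesc.pullSh (f ⁻¹ᵁ U).ι).obj F) := by
  haveI : CompactSpace X := QuasiCompact.compactSpace_of_compactSpace f
  haveI : IsLocallyNoetherian X := LocallyOfFiniteType.isLocallyNoetherian f
  haveI : AlgebraicGeometry.IsNoetherian X := { }
  have hb := Groth.L23.CohProp.hasBases_of_isConstructibleSet F hF
  obtain ⟨U₁, hU₁, hgeo⟩ := Groth.L23.CohProp.exists_dense_open_geo_id f _ hb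
  obtain ⟨U₂, hU₂, hgood⟩ := Groth.L23.CohProp.exists_dense_open_isCohPropSet f (𝟙 S) _ hb
  refine ⟨U₁ ⊓ U₂, hU₁.inter_of_isOpen_left hU₂ U₁.2, ?_, ?_⟩
  · haveI : AlgebraicGeometry.IsNoetherian (↑(U₁ ⊓ U₂) : Scheme.{u}) :=
      { toIsLocallyNoetherian := inferInstance,
        toCompactSpace := isCompact_iff_compactSpace.1 (TopologicalSpace.NoetherianSpace.isCompact _) }
    exact Groth.L23.CohProp.isLocConstSet_push (f ∣_ (U₁ ⊓ U₂)) _ F
      (Groth.L23.CohProp.geoPl_of_geo F f ((hgeo PUnit.unit).mono inf_le_left))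
  · exact Groth.L23.CohProp.isCohPropSet_of_good (U := U₁ ⊓ U₂) (f := f) (b := 𝟙 S) (f ∣_ (U₁ ⊓ U₂)) (𝟙 _)
      (f ⁻¹ᵁ (U₁ ⊓ U₂)).ι (U₁ ⊓ U₂).ι (U₁ ⊓ U₂).ι (isPullback_morphismRestrict f _).flip
      (IsPullback.of_vert_isIso ⟨by simp⟩) (fun x => x.2) ((hgood PUnit.unit).1.mono inf_le_right)

end Groth.Agent.S19810
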