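import Groth.Statements.S19814
import Groth.Agent.L19.Nori.Induced

set_option autoImplicit false
set_option backward.isDefEq.respectTransparency.types false
set_option backward.isDefEq.respectTransparency false
set_option linter.style.haveILetI false
universe u
open CategoryTheory CategoryTheory.Limits MonoidalCategory CartesianMonoidalCategory MonObj GrpObj AlgebraicGeometry
open NoriFGS

namespace Groth.Agent.S19814

/-- Let X and Y be schemes over a field k with rational points x and y, each possessing a fundamental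
group scheme with its universal pointed torsor, let f : X → Y be a k-morphism sending x to y, and
let φ be the homomorphism of fundamental group schemes induced by f. Then φ is trivial if and only
if, for every finite group scheme H over k and every H-torsor U over Y (locally trivial for the fpqc
topology) pointed over y which is Nori-reduced, the pull-back of U to X is a trivial torsor, i.e. U
acquires a section over f. (The published statement quantifies over all Nori-reduced finite torsors
over Y; this row quantifies over those pointed over y, as the printed proof does: for unpointed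
torsors the forward implication fails over a field that is not algebraically closed. The source's
standing convention for that chapter assumes the base field has characteristic p > 0; the printed
proof uses no characteristic hypothesis, so the row states it for any field.) -/
theorem result
    (k : Type u) [Field k] (X Y : Scheme.{u})
    [X.Over (Spec (CommRingCat.of k))] [Y.Over (Spec (CommRingCat.of k))]
    (x : Spec (CommRingCat.of k) ⟶ X) (y : Spec (CommRingCat.of k) ⟶ Y)
    (hx : x ≫ (X ↘ Spec (CommRingCat.of k)) = 𝟙 _) (hy : y ≫ (Y ↘ Spec (CommRingCat.of k)) = 𝟙 _)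
    (f : X ⟶ Y) (hf : f ≫ (Y ↘ Spec (CommRingCat.of k)) = X ↘ Spec (CommRingCat.of k)) (hfx : x ≫ f = y)
    (πX πY : Over (Spec (CommRingCat.of k))) [GrpObj πX] [GrpObj πY] (PX : Over X) (PY : Over Y)
    (aX : AlgGrp.Action (Red.bc (X ↘ Spec (CommRingCat.of k)) πX) PX)
    (aY : AlgGrp.Action (Red.bc (Y ↘ Spec (CommRingCat.of k)) πY) PY)
    (pX : Spec (CommRingCat.of k) ⟶ PX.left) (pY : Spec (CommRingCat.of k) ⟶ PY.left)
    (hX : NoriFGS.IsFGS x πX aX pX) (hY : NoriFGS.IsFGS y πY aY pY)
    (φ : πX ⟶ πY) (hφ : NoriFGS.IsInducedHom f hf aX pX aY pY φ) :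
    φ = toUnit πX ≫ η[πY] ↔
      ∀ (H : Over (Spec (CommRingCat.of k))) [GrpObj H] [IsFinite H.hom] (U : Over Y)
        (c : AlgGrp.Action (Red.bc (Y ↘ Spec (CommRingCat.of k)) H) U) (u : Spec (CommRingCat.of k) ⟶ U.left),
        NonAbH1.IsTorsorFor Scheme.fpqcPrecoverage c → u ≫ U.hom = y →
        NoriFGS.IsNoriReduced Scheme.fpqcPrecoverage c → NonAbH1.HasSectionOver U f := by
  open Groth.L19.Nori in
  haveI := isAffine_of_isProFinite hY.1
  constructor
  · intro hφ1 H _ _ U c u hc hu _
    obtain ⟨χ, _, h, hh, -⟩ := hY.2.2.2 H U c u hc hu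
    obtain ⟨_, _⟩ := hφ
    obtain ⟨t, d, -, -, -, hd, -⟩ :=
      exists_pullback_classify f hf hX ⟨‹_›, ‹_›⟩ hfx hc hu hh
    obtain ⟨s, -⟩ := Groth.L27.Torsor.descend (cov_toUnit hX.2.1) d fun Z z z' _ => by
      obtain ⟨γ, hγ⟩ := sm_exists aX hX.2.1.1 z z'
      rw [← hγ, (equivariant_iff _ d (φ ≫ χ)).1 hd, hφ1]
      have : γ ≫ (toUnit πX ≫ η[πY]) ≫ χ = 1 := by
        rw [Hom.one_def, Category.assoc, IsMonHom.one_hom χ, ← Category.assoc,
          toUnit_unique (γ ≫ toUnit πX) (toUnit _)]
      rw [this, sm_one]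
    refine ⟨s.left ≫ pullback.fst U.hom f, ?_⟩
    rw [Category.assoc, pullback.condition, ← Category.assoc]
    have hs : s.left ≫ pullback.snd U.hom f = 𝟙 X := Over.w s
    exact (congrArg (· ≫ f) hs).trans (Category.id_comp f)
  · intro hsec
    obtain ⟨_, _⟩ := hφ
    have hφ : NoriFGS.IsInducedHom f hf aX pX aY pY φ := ⟨‹_›, ‹_›⟩
    apply Over.OverMorphism.ext
    apply ext_of_isAffine
    ext a
    obtain ⟨H, _, _, χ, _, hker, hrange⟩ := exists_quotient hY.1 {a}
    obtain ⟨a', rfl⟩ := hrange a (Finset.mem_singleton_self _)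
    suffices φ ≫ χ = (toUnit πX ≫ η[πY]) ≫ χ by
      have e := congrArg (fun m => m.left.appTop.hom a') this
      simp only [Over.comp_left, Scheme.Hom.comp_appTop, CommRingCat.hom_comp, RingHom.comp_apply] at e ⊢
      exact e
    obtain ⟨U, c, u, h, hc, hu, hh⟩ := exists_push hY χ
    obtain ⟨s₀, hs₀⟩ := hsec H U c u hc hu (isNoriReduced_of_ker_bot hy hY hc hu hh hker)
    obtain ⟨t, d, htors, ht, htu, hd⟩ := exists_pullback_classify f hf hX hφ hfx hc hu hh
    let c' := (c.bc f).restrict (ActBC.bcCompIso f (Y ↘ Spec (CommRingCat.of k)) H hf).inv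
    let B := X ↘ Spec (CommRingCat.of k)
    let s : 𝟙_ (Over X) ⟶ Red.bc f U :=
      Over.homMk (pullback.lift s₀ (𝟙 X) (hs₀.trans (Category.id_comp f).symm)) (pullback.lift_snd _ _ _)
    let Z₁ : Over X := Over.mk x
    let tP : Z₁ ⟶ Red.bc f U := Over.homMk t ht
    let x₁ : Z₁ ⟶ 𝟙_ (Over X) := toUnit _
    obtain ⟨g, hg⟩ := sm_exists c' htors.1 (x₁ ≫ s) tP
    let G₀ : mp B (𝟙_ (Over X)) ⟶ H := Over.homMk (B ≫ g.left) (by
      show (B ≫ g.left) ≫ H.hom = 𝟙 X ≫ B
      rw [Category.assoc, Over.w g, Category.id_comp]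
      show B ≫ x ≫ B = B
      rw [hx]
      exact Category.comp_id B)
    let d₂ : PX ⟶ Red.bc f U := toUnit PX ≫ sm c' G₀ s
    have hd₂ : NoriFGS.IsPtTorsorHom aX pX c' t (toUnit πX ≫ η[H]) d₂ := by
      refine ⟨(equivariant_iff _ d₂ _).2 fun Z γ z => ?_, ?_⟩
      · have : γ ≫ toUnit πX ≫ η[H] = 1 := by
          rw [Hom.one_def, ← Category.assoc, toUnit_unique (γ ≫ toUnit πX) (toUnit _)]
        rw [this, sm_one]
        simp only [d₂, ← Category.assoc]
        rw [toUnit_unique (sm aX γ z ≫ toUnit PX) (z ≫ toUnit PX)]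
      · have e₁ : mpm B x₁ ≫ G₀ = g := by
          apply Over.OverMorphism.ext
          show x ≫ B ≫ g.left = g.left
          rw [← Category.assoc, hx]
          exact Category.id_comp _
        have e₂ : x₁ ≫ sm c' G₀ s = tP := by rw [comp_sm, e₁]; exact hg
        show pX ≫ PX.hom ≫ (sm c' G₀ s).left = t
        rw [← Category.assoc, hX.2.2.1]
        exact congrArg CommaMorphism.left e₂
    haveI : IsMonHom (toUnit πX ≫ η[H]) :=
      { one_hom := by rw [← Category.assoc, toUnit_unique (η[πX] ≫ toUnit πX) (𝟙 _), Category.id_comp]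
        mul_hom := by
          rw [← Category.assoc, toUnit_unique (μ[πX] ≫ toUnit πX) (toUnit _)]
          calc toUnit (πX ⊗ πX) ≫ η[H] = (1 : πX ⊗ πX ⟶ H) * 1 := by rw [_root_.mul_one, Hom.one_def]
            _ = _ := by
              rw [Hom.mul_def, Hom.one_def]
              congr 1
              apply CartesianMonoidalCategory.hom_ext <;> simp [toUnit_unique (fst πX πX ≫ toUnit πX) (toUnit _),
                toUnit_unique (snd πX πX ≫ toUnit πX) (toUnit _)] }
    obtain ⟨χ', _, d', -, huniq⟩ := hX.2.2.2 H (Red.bc f U) c' t htors ht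
    rw [(huniq _ _ hd).1, Category.assoc, IsMonHom.one_hom χ, (huniq _ _ hd₂).1]

end Groth.Agent.S19814
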