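import Groth.Statements.S19815
import Groth.Agent.L19.Nori.Flat

set_option autoImplicit false
set_option backward.isDefEq.respectTransparency.types false
set_option backward.isDefEq.respectTransparency false
set_option linter.style.haveILetI false
universe u
open CategoryTheory CategoryTheory.Limits MonoidalCategory CartesianMonoidalCategory MonObj GrpObj AlgebraicGeometry
open NoriFGS

namespace Groth.Agent.S19815

/-- Let X and Y be schemes over a field k with rational points x and y, each possessing a fundamental
group scheme with its universal pointed torsor, let f : X → Y be a k-morphism sending x to y, and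
let φ be the homomorphism of fundamental group schemes induced by f. Then φ is faithfully flat (flat
and surjective) if and only if, for every finite group scheme H over k and every H-torsor U over Y
(locally trivial for the fpqc topology) pointed over y which is Nori-reduced, the pull-back U ×_Y X,
with the base-changed action read as an action of the base change of H to X, is a Nori-reduced
torsor over X. (The published statement quantifies over all Nori-reduced finite torsors over Y; this
row quantifies over those pointed over y, as the printed proof does. The source's standing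
convention for that chapter assumes the base field has characteristic p > 0; the printed proof uses
no characteristic hypothesis, so the row states it for any field.) -/
theorem result
    (k : Type u) [Field k] (X Y : Scheme.{u})
    [X.Over (Spec (CommRingCat.of k))] [Y.Over (Spec (CommRingCat.of k))]
    (x : Spec (CommRingCat.of k) ⟶ X) (y : Spec (CommRingCat.of k) ⟶ Y)
    (hx : x ≫ (X ↘ Spec (CommRingCat.of k)) = 𝟙 _) (hy : y ≫ (Y ↘ Spec (CommRingCat.of k)) = 𝟙 _)
    (f : X ⟶ Y) (hf : f ≫ (Y ↘ Spec (CommRingCat.of k)) = X ↘ Spec (CommRingCat.of k)) (hfx : x ≫ f = y)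
    (πX πY : Over (Spec (CommRingCat.of k))) [GrpObj πX] [GrpObj πY] (PX : Over X) (PY : Over Y)
    (aX : AlgGrp.Action (Red.bc (X ↘ Spec (CommRingCat.of k)) πX) PX)
    (aY : AlgGrp.Action (Red.bc (Y ↘ Spec (CommRingCat.of k)) πY) PY)
    (pX : Spec (CommRingCat.of k) ⟶ PX.left) (pY : Spec (CommRingCat.of k) ⟶ PY.left)
    (hX : NoriFGS.IsFGS x πX aX pX) (hY : NoriFGS.IsFGS y πY aY pY)
    (φ : πX ⟶ πY) (hφ : NoriFGS.IsInducedHom f hf aX pX aY pY φ) :
    (Flat φ.left ∧ Surjective φ.left) ↔
      ∀ (H : Over (Spec (CommRingCat.of k))) [GrpObj H] [IsFinite H.hom] (U : Over Y)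
        (c : AlgGrp.Action (Red.bc (Y ↘ Spec (CommRingCat.of k)) H) U) (u : Spec (CommRingCat.of k) ⟶ U.left),
        NonAbH1.IsTorsorFor Scheme.fpqcPrecoverage c → u ≫ U.hom = y →
        NoriFGS.IsNoriReduced Scheme.fpqcPrecoverage c →
        NoriFGS.IsNoriReduced Scheme.fpqcPrecoverage
          ((c.bc f).restrict (ActBC.bcCompIso f (Y ↘ Spec (CommRingCat.of k)) H hf).inv) := by
  open Groth.L19.Nori in
  haveI := isAffine_of_isProFinite hX.1
  haveI := isAffine_of_isProFinite hY.1
  obtain ⟨_, hφ'⟩ := id hφ
  constructor
  · rintro ⟨_, _⟩ H _ _ U c u hc hu hNR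
    haveI := isAffine_of_isFinite H
    obtain ⟨χ, _, h, hh, -⟩ := hY.2.2.2 H U c u hc hu
    obtain ⟨t, d, htors, ht, -, hd⟩ := exists_pullback_classify f hf hX hφ hfx hc hu hh
    refine isNoriReduced_of_ker_bot hx hX htors ht hd ?_
    rw [Over.comp_left]
    exact ker_comp_bot _ _ (ker_bot_of_faithfullyFlat φ.left) (ker_bot_of_isNoriReduced hy hY hc hNR hh)
  · intro hall
    refine flat_surjective_of_ker_bot hX.1 hY.1 φ fun H _ _ χ _ hker => ?_
    obtain ⟨U, c, u, h, hc, hu, hh⟩ := exists_push hY χ
    obtain ⟨t, d, htors, ht, -, hd⟩ := exists_pullback_classify f hf hX hφ hfx hc hu hh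
    exact ker_bot_of_isNoriReduced hx hX htors
      (hall H U c u hc hu (isNoriReduced_of_ker_bot hy hY hc hu hh hker)) hd

end Groth.Agent.S19815
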