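import Groth.Statements.S19816
import Groth.Agent.L19.Nori.Induced

set_option autoImplicit false
set_option backward.isDefEq.respectTransparency.types false
set_option backward.isDefEq.respectTransparency false
set_option linter.style.haveILetI false
universe u
open CategoryTheory CategoryTheory.Limits MonoidalCategory CartesianMonoidalCategory MonObj GrpObj AlgebraicGeometry
open NoriFGS

namespace Groth.Agent.S19816

/-- Let X be a quasi-compact scheme over a field k with a rational point x which possesses a fundamental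
group scheme with its universal pointed torsor. Let G, G₁, G₂ be finite group schemes over k with
homomorphisms φ₁ : G₁ → G and φ₂ : G₂ → G, and let T, T₁, T₂ be torsors over X (locally trivial for
the fpqc topology) under the base changes to X of G, G₁, G₂, each pointed by a k-point lying over x;
let f₁ : T₁ → T and f₂ : T₂ → T be morphisms of pointed torsors along φ₁ and φ₂. Let Q be the fibre
product group scheme G₁ ×_G G₂ with its projections π₁, π₂. Then the fibre product T₁ ×_T T₂ carries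
an action of the base change of Q for which both projections to T₁ and T₂ are equivariant (along π₁,
π₂) and which makes it a torsor over X, locally trivial for the fpqc topology: the category of
pointed finite torsors over X is closed under fibre products. (The published statement is an
equivalence; this row is the implication from possessing a fundamental group scheme. The source's
standing convention for that chapter assumes the base field has characteristic p > 0; the printed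
proof uses no characteristic hypothesis, so the row states it for any field.) -/
theorem result
    (k : Type u) [Field k] (X : Scheme.{u}) [X.Over (Spec (CommRingCat.of k))]
    (x : Spec (CommRingCat.of k) ⟶ X) (hx : x ≫ (X ↘ Spec (CommRingCat.of k)) = 𝟙 _)
    (πN : Over (Spec (CommRingCat.of k))) [GrpObj πN] (P : Over X)
    (a : AlgGrp.Action (Red.bc (X ↘ Spec (CommRingCat.of k)) πN) P) (p : Spec (CommRingCat.of k) ⟶ P.left)
    (hP : NoriFGS.IsFGS x πN a p) [CompactSpace X]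
    (G G₁ G₂ : Over (Spec (CommRingCat.of k))) [GrpObj G] [GrpObj G₁] [GrpObj G₂]
    [IsFinite G.hom] [IsFinite G₁.hom] [IsFinite G₂.hom]
    (φ₁ : G₁ ⟶ G) (φ₂ : G₂ ⟶ G) [IsMonHom φ₁] [IsMonHom φ₂]
    (T T₁ T₂ : Over X)
    (b : AlgGrp.Action (Red.bc (X ↘ Spec (CommRingCat.of k)) G) T)
    (b₁ : AlgGrp.Action (Red.bc (X ↘ Spec (CommRingCat.of k)) G₁) T₁)
    (b₂ : AlgGrp.Action (Red.bc (X ↘ Spec (CommRingCat.of k)) G₂) T₂)
    (hT : NonAbH1.IsTorsorFor Scheme.fpqcPrecoverage b)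
    (hT₁ : NonAbH1.IsTorsorFor Scheme.fpqcPrecoverage b₁)
    (hT₂ : NonAbH1.IsTorsorFor Scheme.fpqcPrecoverage b₂)
    (t : Spec (CommRingCat.of k) ⟶ T.left) (t₁ : Spec (CommRingCat.of k) ⟶ T₁.left) (t₂ : Spec (CommRingCat.of k) ⟶ T₂.left)
    (ht : t ≫ T.hom = x) (ht₁ : t₁ ≫ T₁.hom = x) (ht₂ : t₂ ≫ T₂.hom = x)
    (f₁ : T₁ ⟶ T) (f₂ : T₂ ⟶ T)
    (hf₁ : NoriFGS.IsPtTorsorHom b₁ t₁ b t φ₁ f₁) (hf₂ : NoriFGS.IsPtTorsorHom b₂ t₂ b t φ₂ f₂)
    (Q : Over (Spec (CommRingCat.of k))) [GrpObj Q] (π₁ : Q ⟶ G₁) (π₂ : Q ⟶ G₂) [IsMonHom π₁] [IsMonHom π₂]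
    (hQ : IsPullback π₁ π₂ φ₁ φ₂) :
    ∃ c : AlgGrp.Action (Red.bc (X ↘ Spec (CommRingCat.of k)) Q) (pullback f₁ f₂),
      AlgGrp.Action.IsEquivariant c (b₁.restrict ((Over.pullback (X ↘ Spec (CommRingCat.of k))).map π₁)) (pullback.fst f₁ f₂) ∧
      AlgGrp.Action.IsEquivariant c (b₂.restrict ((Over.pullback (X ↘ Spec (CommRingCat.of k))).map π₂)) (pullback.snd f₁ f₂) ∧
      NonAbH1.IsTorsorFor Scheme.fpqcPrecoverage c := by
  obtain ⟨hft, hft'⟩ := And.intro ((Groth.L19.Nori.equivariant_iff b f₁ φ₁).1 hf₁.1)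
    ((Groth.L19.Nori.equivariant_iff b f₂ φ₂).1 hf₂.1)
  have good : ∀ (Z : Over X) (q : Groth.L19.Nori.mp (X ↘ Spec (CommRingCat.of k)) Z ⟶ Q)
      (z : Z ⟶ pullback f₁ f₂),
      Groth.L19.Nori.sm b₁ (q ≫ π₁) (z ≫ pullback.fst f₁ f₂) ≫ f₁ =
        Groth.L19.Nori.sm b₂ (q ≫ π₂) (z ≫ pullback.snd f₁ f₂) ≫ f₂ := by
    intro Z q z
    rw [hft, hft']
    simp only [Category.assoc, pullback.condition, hQ.w]
  obtain ⟨c, hc⟩ := Groth.L19.Nori.exists_action (T := pullback f₁ f₂)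
    (fun Z q z => pullback.lift _ _ (good Z q z))
    (fun Z Z' h q z => by
      apply pullback.hom_ext <;>
        simp only [Category.assoc, pullback.lift_fst, pullback.lift_snd, Groth.L19.Nori.comp_sm])
    (fun Z z => by
      apply pullback.hom_ext <;>
        simp only [pullback.lift_fst, pullback.lift_snd, MonObj.one_comp, Groth.L19.Nori.sm_one])
    (fun Z g g' z => by
      apply pullback.hom_ext <;>
        simp only [pullback.lift_fst, pullback.lift_snd, MonObj.mul_comp, Groth.L19.Nori.sm_mul])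
  refine ⟨c, (Groth.L19.Nori.equivariant_iff b₁ _ π₁).2 fun Z q z => by rw [hc, pullback.lift_fst],
    (Groth.L19.Nori.equivariant_iff b₂ _ π₂).2 fun Z q z => by rw [hc, pullback.lift_snd],
    Groth.L19.Nori.pseudo_of_sm c (fun Z z z' => ?_) (fun Z g g' z e => ?_), ?_⟩
  · obtain ⟨g₁, hg₁⟩ := Groth.L19.Nori.sm_exists b₁ hT₁.1 (z ≫ pullback.fst f₁ f₂) (z' ≫ pullback.fst f₁ f₂)
    obtain ⟨g₂, hg₂⟩ := Groth.L19.Nori.sm_exists b₂ hT₂.1 (z ≫ pullback.snd f₁ f₂) (z' ≫ pullback.snd f₁ f₂)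
    have e₁ := congrArg (· ≫ f₁) hg₁
    have e₂ := congrArg (· ≫ f₂) hg₂
    simp only [hft, hft', Category.assoc, pullback.condition] at e₁ e₂
    have e := Groth.L19.Nori.sm_inj b hT.1 (e₁.trans e₂.symm)
    refine ⟨hQ.lift g₁ g₂ e, ?_⟩
    rw [hc]
    apply pullback.hom_ext
    · rw [pullback.lift_fst, IsPullback.lift_fst, hg₁]
    · rw [pullback.lift_snd, IsPullback.lift_snd, hg₂]
  · simp only [hc] at e
    have e₁ := congrArg (· ≫ pullback.fst f₁ f₂) e
    have e₂ := congrArg (· ≫ pullback.snd f₁ f₂) e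
    simp only [pullback.lift_fst, pullback.lift_snd] at e₁ e₂
    exact hQ.hom_ext (Groth.L19.Nori.sm_inj b₁ hT₁.1 e₁) (Groth.L19.Nori.sm_inj b₂ hT₂.1 e₂)
  · obtain ⟨χ₁, _, h₁, hh₁, -⟩ := hP.2.2.2 G₁ T₁ b₁ t₁ hT₁ ht₁
    obtain ⟨χ₂, _, h₂, hh₂, -⟩ := hP.2.2.2 G₂ T₂ b₂ t₂ hT₂ ht₂
    obtain ⟨χ, _, h, -, huniq⟩ := hP.2.2.2 G T b t hT ht
    have e : h₁ ≫ f₁ = h₂ ≫ f₂ :=
      (huniq _ _ (Groth.L19.Nori.isPtTorsorHom_comp hh₁ hf₁)).2.trans
        (huniq _ _ (Groth.L19.Nori.isPtTorsorHom_comp hh₂ hf₂)).2.symm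
    obtain ⟨R, hR, hsec⟩ := hP.2.1.2
    refine ⟨R, hR, fun S' g hg => ?_⟩
    obtain ⟨s, hs⟩ := hsec g hg
    exact ⟨s ≫ (pullback.lift h₁ h₂ e).left, by rw [Category.assoc, Over.w, hs]⟩

end Groth.Agent.S19816
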