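import Groth.Statements.S19817
import Groth.Agent.L19.Nori.Induced
import Mathlib.LinearAlgebra.Dimension.Constructions
import Mathlib.LinearAlgebra.Dimension.Finite
import Mathlib.LinearAlgebra.FiniteDimensional.Lemmas

set_option autoImplicit false
set_option backward.isDefEq.respectTransparency.types false
set_option backward.isDefEq.respectTransparency false
set_option linter.style.haveILetI false
universe u
open CategoryTheory CategoryTheory.Limits MonoidalCategory CartesianMonoidalCategory MonObj GrpObj AlgebraicGeometry
open NoriFGS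

namespace Groth.Agent.S19817

/-- Let k be a field and X a scheme over k with a rational point x which possesses a fundamental group
scheme π with its universal pointed torsor. Suppose that there is a natural number M such that, for
every finite group scheme G over k and every G-torsor over X (locally trivial for the fpqc topology)
pointed over x which is Nori-reduced, the order of G, namely the dimension over k of the coordinate
ring Γ(G, O_G) (a k-algebra through the structure morphism G → Spec k), is at most M. Then π is
finite over k. -/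
theorem result
    (k : Type u) [Field k] (X : Scheme.{u}) [X.Over (Spec (CommRingCat.of k))]
    (x : Spec (CommRingCat.of k) ⟶ X) (hx : x ≫ (X ↘ Spec (CommRingCat.of k)) = 𝟙 _)
    (πN : Over (Spec (CommRingCat.of k))) [GrpObj πN] (P : Over X)
    (a : AlgGrp.Action (Red.bc (X ↘ Spec (CommRingCat.of k)) πN) P) (p : Spec (CommRingCat.of k) ⟶ P.left)
    (hP : NoriFGS.IsFGS x πN a p) (M : ℕ)
    (hM : ∀ (G : Over (Spec (CommRingCat.of k))) [GrpObj G] [IsFinite G.hom] (T : Over X)
      (b : AlgGrp.Action (Red.bc (X ↘ Spec (CommRingCat.of k)) G) T) (t : Spec (CommRingCat.of k) ⟶ T.left),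
      NonAbH1.IsTorsorFor Scheme.fpqcPrecoverage b → t ≫ T.hom = x →
      NoriFGS.IsNoriReduced Scheme.fpqcPrecoverage b →
      @Module.finrank k (Coh.Γtop G.left) _ _ (Module.compHom (Coh.Γtop G.left) (Coh.toGlobal G.hom)) ≤ M) :
    IsFinite πN.hom := by
  open Groth.L19.Nori in
  haveI := isAffine_of_isProFinite hP.1
  letI algA : Algebra k Γ(πN.left, ⊤) :=
    (RingHom.comp πN.hom.appTop.hom (Scheme.ΓSpecIso (CommRingCat.of k)).inv.hom).toAlgebra
  have hfin_iff : ∀ (H : Over (Spec (CommRingCat.of k))) [IsAffine H.left], IsFinite H.hom ↔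
      (RingHom.comp H.hom.appTop.hom (Scheme.ΓSpecIso (CommRingCat.of k)).inv.hom).Finite := fun H _ => by
    rw [HasAffineProperty.iff_of_isAffine (P := @IsFinite)]
    exact ⟨fun h => h.2.comp (RingHom.Finite.of_surjective _
      (Scheme.ΓSpecIso (CommRingCat.of k)).commRingCatIsoToRingEquiv.symm.surjective),
      fun h => ⟨inferInstance, RingHom.Finite.of_comp_finite h⟩⟩
  have hbound : ∀ s : Finset Γ(πN.left, ⊤), LinearIndependent k (Subtype.val : s → Γ(πN.left, ⊤)) → s.card ≤ M := by
    intro s hs
    obtain ⟨H, _, _, χ, _, hker, hrange⟩ := exists_quotient hP.1 s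
    obtain ⟨T, b, t, h, hb, ht, hh⟩ := exists_push hP χ
    have hle := hM H T b t hb ht (isNoriReduced_of_ker_bot hx hP hb ht hh hker)
    haveI := isAffine_of_isFinite H
    letI algH : Algebra k Γ(H.left, ⊤) :=
      (RingHom.comp H.hom.appTop.hom (Scheme.ΓSpecIso (CommRingCat.of k)).inv.hom).toAlgebra
    haveI : Module.Finite k Γ(H.left, ⊤) := (hfin_iff H).1 ‹IsFinite H.hom›
    let L : Γ(H.left, ⊤) →ₗ[k] Γ(πN.left, ⊤) :=
      { toFun := χ.left.appTop.hom
        map_add' := map_add _
        map_smul' := fun r z => by
          show χ.left.appTop.hom (H.hom.appTop.hom ((Scheme.ΓSpecIso (CommRingCat.of k)).inv.hom r) * z) =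
            πN.hom.appTop.hom ((Scheme.ΓSpecIso (CommRingCat.of k)).inv.hom r) * χ.left.appTop.hom z
          rw [map_mul]
          congr 1
          have e := congrArg (fun m => m.appTop.hom ((Scheme.ΓSpecIso (CommRingCat.of k)).inv.hom r)) (Over.w χ)
          simp only [Scheme.Hom.comp_appTop, CommRingCat.hom_comp, RingHom.comp_apply] at e
          exact e }
    have hsub : Submodule.span k (s : Set Γ(πN.left, ⊤)) ≤ LinearMap.range L :=
      Submodule.span_le.2 fun a ha => hrange a ha
    calc s.card = Module.finrank k (Submodule.span k (s : Set Γ(πN.left, ⊤))) := (finrank_span_finset_eq_card hs).symm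
      _ ≤ Module.finrank k (LinearMap.range L) := Submodule.finrank_mono hsub
      _ ≤ Module.finrank k Γ(H.left, ⊤) := LinearMap.finrank_range_le L
      _ ≤ M := hle
  have hrank : Module.rank k Γ(πN.left, ⊤) ≤ M := rank_le hbound
  haveI : Module.Finite k Γ(πN.left, ⊤) :=
    Module.rank_lt_aleph0_iff.1 (hrank.trans_lt Cardinal.natCast_lt_aleph0)
  exact (hfin_iff πN).2 ‹Module.Finite k Γ(πN.left, ⊤)›

end Groth.Agent.S19817
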