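import Groth.Statements.S19818
import Groth.Agent.L19.Nori.Induced
import Groth.Agent.S12837
import Groth.Agent.L09.TorsorSch
import Mathlib.AlgebraicGeometry.Morphisms.LocalFlatDescent
import Mathlib.AlgebraicGeometry.AlgClosed.Basic

set_option autoImplicit false
set_option backward.isDefEq.respectTransparency.types false
set_option backward.isDefEq.respectTransparency false
set_option linter.style.haveILetI false
universe u
open CategoryTheory CategoryTheory.Limits MonoidalCategory CartesianMonoidalCategory MonObj GrpObj AlgebraicGeometry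
open NoriFGS

namespace Groth.Agent.S19818

/-- Let k be an algebraically closed field, X a smooth, proper and integral curve over k (of dimension
one) with a rational point x, and let π be a fundamental group scheme of (X, x) with its universal
pointed torsor P. Let G be a connected reductive group over k and F a G-torsor over X (for the base
change of G to X, locally trivial for the fppf topology). Then F is essentially finite, meaning that
it admits a reduction of structure group to a finite group scheme: there are a finite group scheme Γ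
over k, a homomorphism ι : Γ → G and a Γ-torsor Q over X together with an ι-equivariant X-morphism Q
→ F (so that F is obtained from Q by extension of the structure group along ι), if and only if there
is a homomorphism ρ : π → G together with a ρ-equivariant X-morphism P → F (F is obtained from the
universal torsor by extension of the structure group along ρ). -/
theorem result
    (k : Type u) [Field k] [IsAlgClosed k] (X : Scheme.{u}) [X.Over (Spec (CommRingCat.of k))]
    [AlgebraicGeometry.IsIntegral X] [IsProper (X ↘ Spec (CommRingCat.of k))] [Smooth (X ↘ Spec (CommRingCat.of k))]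
    (hdim : topologicalKrullDim X = 1)
    (x : Spec (CommRingCat.of k) ⟶ X) (hx : x ≫ (X ↘ Spec (CommRingCat.of k)) = 𝟙 _)
    (πN : Over (Spec (CommRingCat.of k))) [GrpObj πN] (P : Over X)
    (a : AlgGrp.Action (Red.bc (X ↘ Spec (CommRingCat.of k)) πN) P) (p : Spec (CommRingCat.of k) ⟶ P.left)
    (hP : NoriFGS.IsFGS x πN a p)
    (G : Over (Spec (CommRingCat.of k))) [GrpObj G] (hG : Red.IsReductiveOver k G)
    (F : Over X) (aF : AlgGrp.Action (Red.bc (X ↘ Spec (CommRingCat.of k)) G) F)
    (hF : NonAbH1.IsTorsorFor Scheme.fppfPrecoverage aF) :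
    (∃ (Gf : Over (Spec (CommRingCat.of k))) (_ : GrpObj Gf) (_ : IsFinite Gf.hom) (i : Gf ⟶ G) (_ : IsMonHom i)
        (Q : Over X) (c : AlgGrp.Action (Red.bc (X ↘ Spec (CommRingCat.of k)) Gf) Q),
        NonAbH1.IsTorsorFor Scheme.fppfPrecoverage c ∧
          NonAbH1.IsPushforwardAlongSch ((Over.pullback (X ↘ Spec (CommRingCat.of k))).map i) c aF) ↔
      ∃ (ρ : πN ⟶ G) (_ : IsMonHom ρ),
        NonAbH1.IsPushforwardAlongSch ((Over.pullback (X ↘ Spec (CommRingCat.of k))).map ρ) a aF := by
  open Groth.L19.Nori in
  haveI := isAffine_of_isProFinite hP.1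
  haveI : IsAffine G.left := hG.1
  haveI : Smooth G.hom := hG.2.1
  haveI : IsAffineHom G.hom := inferInstance
  let B := X ↘ Spec (CommRingCat.of k)
  have bcA : ∀ (H : Over (Spec (CommRingCat.of k))) [IsAffineHom H.hom], IsAffineHom (Red.bc B H).hom :=
    fun H _ => MorphismProperty.pullback_snd (P := @IsAffineHom) _ _ inferInstance
  haveI := bcA G
  constructor
  · rintro ⟨Gf, _, _, i, _, Q, c, hc, q, hq⟩
    have hc' : NonAbH1.IsTorsorFor Scheme.fpqcPrecoverage c :=
      ⟨hc.1, by obtain ⟨R, hR, hs⟩ := hc.2; exact ⟨R, Scheme.fppfPrecoverage_le_fpqcPrecoverage X hR, hs⟩⟩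
    obtain ⟨_, _, hsurj, hqc⟩ := torsor_props hc'
    haveI : LocallyOfFiniteType (Red.bc B Gf).hom :=
      MorphismProperty.pullback_snd (P := @LocallyOfFiniteType) _ _ inferInstance
    haveI : LocallyOfFiniteType Q.hom := Groth.L09.TorsorSch.of_grp @LocallyOfFiniteType c hc' inferInstance
    haveI : Surjective (Limits.pullback.snd Q.hom x) := MorphismProperty.pullback_snd (P := @Surjective) _ _ hsurj
    haveI : Nonempty ↥(Limits.pullback Q.hom x) := by
      obtain ⟨z, -⟩ := (Limits.pullback.snd Q.hom x).surjective (IsLocalRing.closedPoint k)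
      exact ⟨z⟩
    haveI : JacobsonSpace ↥(Limits.pullback Q.hom x) :=
      LocallyOfFiniteType.jacobsonSpace (Limits.pullback.snd Q.hom x)
    obtain ⟨z, -, hz⟩ := nonempty_inter_closedPoints (X := ↥(Limits.pullback Q.hom x))
      (Z := Set.univ) Set.univ_nonempty isClosed_univ.isLocallyClosed
    let t : Spec (CommRingCat.of k) ⟶ Q.left :=
      pointOfClosedPoint (Limits.pullback.snd Q.hom x) z hz ≫ Limits.pullback.fst Q.hom x
    have ht : t ≫ Q.hom = x := by
      simp only [t, Category.assoc, Limits.pullback.condition, pointOfClosedPoint_comp_assoc]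
    obtain ⟨χ, _, h, hh, -⟩ := hP.2.2.2 Gf Q c t hc' ht
    refine ⟨χ ≫ i, inferInstance, h ≫ q, (pushforward_iff aF (h ≫ q) (χ ≫ i)).2 ?_⟩
    exact (equivariant_iff aF (h ≫ q) (χ ≫ i)).2 fun Z γ z => by
      rw [← Category.assoc, (equivariant_iff c h χ).1 hh.1,
        (equivariant_iff aF q i).1 ((pushforward_iff aF q i).1 hq), Category.assoc, Category.assoc]
  · rintro ⟨ρ, _, h, hh⟩
    haveI : IsAffineHom πN.hom := inferInstance
    haveI : QuasiCompact ρ.left := inferInstance
    obtain ⟨H, _, i, χ, _, _, hfac, _, hker, -, -⟩ := Groth.Agent.S3024.result k πN G ρ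
    haveI : IsAffine H.left := isAffine_of_isAffineHom i.left
    haveI : LocallyOfFiniteType H.hom := by rw [← Over.w i]; infer_instance
    haveI : IsFinite H.hom := by
      rw [IsFinite.iff_isIntegralHom_and_locallyOfFiniteType]
      refine ⟨?_, inferInstance⟩
      rw [HasAffineProperty.iff_of_isAffine (P := @IsIntegralHom)]
      refine ⟨inferInstance, ?_⟩
      intro b
      obtain ⟨K, _, _, χ', _, -, hrange⟩ := exists_quotient hP.1 {χ.left.appTop.hom b}
      obtain ⟨b', hb'⟩ := hrange _ (Finset.mem_singleton_self _)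
      haveI := isAffine_of_isFinite K
      obtain ⟨p', hp, hp'⟩ :=
        ((HasAffineProperty.iff_of_isAffine (P := @IsFinite)).1 ‹IsFinite K.hom›).2.to_isIntegral b'
      refine ⟨p', hp, ?_⟩
      have hw : χ.left.appTop.hom.comp H.hom.appTop.hom = χ'.left.appTop.hom.comp K.hom.appTop.hom := by
        rw [← CommRingCat.hom_comp, ← CommRingCat.hom_comp, ← Scheme.Hom.comp_appTop, ← Scheme.Hom.comp_appTop,
          Over.w, Over.w]
      apply appTop_injective_of_ker_bot χ.left hker
      show χ.left.appTop.hom (Polynomial.eval₂ H.hom.appTop.hom b p') = χ.left.appTop.hom 0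
      rw [Polynomial.hom_eval₂, hw, ← hb', ← Polynomial.hom_eval₂, hp', map_zero, map_zero]
    haveI := bcA H
    haveI := bcA πN
    obtain ⟨Q, c, t, h', hc, -, hh'⟩ := exists_push hP χ
    obtain ⟨r, ⟨hr, -⟩, -⟩ := Groth.Agent.S14541.result ((Over.pullback B).map χ) ((Over.pullback B).map i)
      a c aF hP.2.1 hc
      ⟨hF.1, by obtain ⟨R, hR, hs⟩ := hF.2; exact ⟨R, Scheme.fppfPrecoverage_le_fpqcPrecoverage X hR, hs⟩⟩
      h' ((pushforward_iff c h' χ).2 hh'.1) h (by rw [← Functor.map_comp, hfac]; exact hh)
    haveI : Flat (Red.bc B H).hom := MorphismProperty.pullback_snd (P := @Flat) _ _ (flat_over_field H)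
    haveI : LocallyOfFinitePresentation H.hom := inferInstance
    haveI : LocallyOfFinitePresentation (Red.bc B H).hom :=
      MorphismProperty.pullback_snd (P := @LocallyOfFinitePresentation) _ _ inferInstance
    exact ⟨H, inferInstance, inferInstance, i, inferInstance, Q, c,
      Groth.Agent.S12837.result _ _ c hc, r, hr⟩

end Groth.Agent.S19818
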