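import Groth.Statements.S19819
import Groth.Agent.L19.Nori.Induced

set_option autoImplicit false
set_option backward.isDefEq.respectTransparency.types false
set_option backward.isDefEq.respectTransparency false
set_option linter.style.haveILetI false
universe u
open CategoryTheory CategoryTheory.Limits MonoidalCategory CartesianMonoidalCategory MonObj GrpObj AlgebraicGeometry
open NoriFGS

namespace Groth.Agent.S19819

/-- Let X and Y be schemes over a field k with rational points x and y, each possessing a fundamental
group scheme with its universal pointed torsor, let f : X → Y be a k-morphism sending x to y, and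
let φ be the homomorphism of fundamental group schemes induced by f. Suppose that for every finite
group scheme G over k and every G-torsor T over X (locally trivial for the fpqc topology), pointed
over x and Nori-reduced, there are a finite group scheme H over k, an H-torsor U over Y pointed over
y and Nori-reduced, a homomorphism i : G → H which is a closed immersion and a closed immersion j :
T → U ×_Y X over X, equivariant along i for the base-changed action and sending the marked point of
T to the point of U ×_Y X lying over x and over the marked point of U (T is a pointed sub-torsor of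
the pull-back of U). Then φ is a closed immersion. (The published statement is an equivalence and
does not require the sub-torsor to pass through the marked points; the converse implication fails:
for a finite etale Galois situation with groups V ⊂ S, V the Klein four-group normal in the
symmetric group S on four letters, a subgroup of order two of V is not the intersection of V with
any normal subgroup of S, so the corresponding torsor of order two over X is not a sub-torsor of any
pull-back. The source's standing convention for that chapter assumes the base field has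
characteristic p > 0; the printed proof uses no characteristic hypothesis, so the row states it for
any field.) -/
theorem result
    (k : Type u) [Field k] (X Y : Scheme.{u})
    [X.Over (Spec (CommRingCat.of k))] [Y.Over (Spec (CommRingCat.of k))]
    (x : Spec (CommRingCat.of k) ⟶ X) (y : Spec (CommRingCat.of k) ⟶ Y)
    (hx : x ≫ (X ↘ Spec (CommRingCat.of k)) = 𝟙 _) (hy : y ≫ (Y ↘ Spec (CommRingCat.of k)) = 𝟙 _)
    (f : X ⟶ Y) (hf : f ≫ (Y ↘ Spec (CommRingCat.of k)) = X ↘ Spec (CommRingCat.of k)) (hfx : x ≫ f = y)
    (πX πY : Over (Spec (CommRingCat.of k))) [GrpObj πX] [GrpObj πY] (PX : Over X) (PY : Over Y)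
    (aX : AlgGrp.Action (Red.bc (X ↘ Spec (CommRingCat.of k)) πX) PX)
    (aY : AlgGrp.Action (Red.bc (Y ↘ Spec (CommRingCat.of k)) πY) PY)
    (pX : Spec (CommRingCat.of k) ⟶ PX.left) (pY : Spec (CommRingCat.of k) ⟶ PY.left)
    (hX : NoriFGS.IsFGS x πX aX pX) (hY : NoriFGS.IsFGS y πY aY pY)
    (φ : πX ⟶ πY) (hφ : NoriFGS.IsInducedHom f hf aX pX aY pY φ)
    (hsub : ∀ (G : Over (Spec (CommRingCat.of k))) [GrpObj G] [IsFinite G.hom] (T : Over X)
      (b : AlgGrp.Action (Red.bc (X ↘ Spec (CommRingCat.of k)) G) T) (t : Spec (CommRingCat.of k) ⟶ T.left),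
      NonAbH1.IsTorsorFor Scheme.fpqcPrecoverage b → t ≫ T.hom = x →
      NoriFGS.IsNoriReduced Scheme.fpqcPrecoverage b →
      ∃ (H : Over (Spec (CommRingCat.of k))) (_ : GrpObj H) (_ : IsFinite H.hom) (U : Over Y)
        (c : AlgGrp.Action (Red.bc (Y ↘ Spec (CommRingCat.of k)) H) U) (u : Spec (CommRingCat.of k) ⟶ U.left)
        (i : G ⟶ H) (_ : IsMonHom i) (_ : IsClosedImmersion i.left)
        (j : T ⟶ Red.bc f U) (_ : IsClosedImmersion j.left),
        NonAbH1.IsTorsorFor Scheme.fpqcPrecoverage c ∧ u ≫ U.hom = y ∧
        NoriFGS.IsNoriReduced Scheme.fpqcPrecoverage c ∧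
        AlgGrp.Action.IsEquivariant b
          (((c.bc f).restrict (ActBC.bcCompIso f (Y ↘ Spec (CommRingCat.of k)) H hf).inv).restrict
            ((Over.pullback (X ↘ Spec (CommRingCat.of k))).map i)) j ∧
        t ≫ j.left ≫ pullback.fst U.hom f = u) :
    IsClosedImmersion φ.left := by
  open Groth.L19.Nori in
  haveI := isAffine_of_isProFinite hX.1
  haveI := isAffine_of_isProFinite hY.1
  obtain ⟨_, hφ'⟩ := id hφ
  refine IsClosedImmersion.of_surjective_of_isAffine φ.left fun s => ?_
  obtain ⟨G, _, _, χ, _, hker, hrange⟩ := exists_quotient hX.1 {s}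
  obtain ⟨a, rfl⟩ := hrange s (Finset.mem_singleton_self _)
  obtain ⟨T, b, t, h, hb, ht, hh⟩ := exists_push hX χ
  obtain ⟨H, _, _, U, c, u, i, _, _, j, _, hc, hu, -, hj, hjt⟩ :=
    hsub G T b t hb ht (isNoriReduced_of_ker_bot hx hX hb ht hh hker)
  obtain ⟨χU, _, hU, hhU, -⟩ := hY.2.2.2 H U c u hc hu
  obtain ⟨t', d, htors, ht', htu, hd⟩ := exists_pullback_classify f hf hX hφ hfx hc hu hhU
  obtain ⟨χ', _, d', -, huniq⟩ := hX.2.2.2 H (Red.bc f U) _ t' htors ht'
  have hjt' : t ≫ j.left = t' := by
    apply pullback.hom_ext
    · rw [Category.assoc, hjt, htu]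
    · rw [Category.assoc]
      exact ((congrArg (t ≫ ·) (Over.w j)).trans ht).trans ht'.symm
  have e : φ ≫ χU = χ ≫ i :=
    (huniq _ _ hd).1.trans (huniq _ _ (isPtTorsorHom_comp hh ⟨hj, hjt'⟩)).1.symm
  haveI := isAffine_of_isFinite H
  obtain ⟨a', rfl⟩ := (IsClosedImmersion.isAffine_surjective_of_isAffine i.left).2 a
  refine ⟨χU.left.appTop a', ?_⟩
  have e' := congrArg (fun m => m.left.appTop.hom a') e
  simp only [Over.comp_left, Scheme.Hom.comp_appTop, CommRingCat.hom_comp, RingHom.comp_apply] at e'
  exact e'

end Groth.Agent.S19819
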