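import Groth.Statements.S19821
import Groth.Agent.L10.RelCan.DepthSheaf

set_option autoImplicit false
set_option linter.style.haveILetI false
set_option backward.defeqAttrib.useBackward true
set_option backward.isDefEq.respectTransparency.types false
set_option backward.isDefEq.respectTransparency false
set_option backward.defeqAttrib.useBackward true
set_option backward.isDefEq.respectTransparency false
universe u
open QGor

namespace Groth.Agent.S19821

open CategoryTheory AlgebraicGeometry in
/-- For a proper S₂-morphism Y → Spec A to a Noetherian affine base, of pure relative dimension d, with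
relative canonical sheaf ω (characterised by the d-dualizing property over A), and an open subset U
of the relative Gorenstein locus whose complement has codimension at least 2 in every fibre (the
local ring of the fibre at every point outside U has dimension ≥ 2), each reflexive power ω^{[m]}, m
∈ ℤ (the double dual of the m-th tensor power of ω, resp. of its dual for m < 0), is the direct
image of its restriction to U: the unit ω^{[m]} → j_* (ω^{[m]}|_U) of the restriction–direct-image
adjunction along j : U → Y is an isomorphism. (On U the sheaf ω is invertible, so ω^{[m]}|_U is the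
m-th tensor power of ω|_U; the source phrases the conclusion as ω^{[m]} ≅ j_*(ω_U^{⊗ m}).) -/
theorem result
    (A : Type u) [CommRing A] [IsNoetherianRing A] (Y : Scheme.{u}) [Y.Over (Spec (CommRingCat.of A))]
    [IsProper (Y ↘ Spec (CommRingCat.of A))] (d : ℕ)
    (hS : RelCanon.IsSkMor (Y ↘ Spec (CommRingCat.of A)) 2) (hd : Cyc.HasRelDim (Y ↘ Spec (CommRingCat.of A)) d)
    (ω : Y.Modules) (hω : RelCanon.IsDualizingSheaf A Y d ω)
    (U : Y.Opens) (hU : (U : Set Y) ⊆ RelCanon.gorLocus (Y ↘ Spec (CommRingCat.of A)))
    (hcod : ∀ y : Y, y ∉ U → (2 : WithBot ℕ∞) ≤ ringKrullDim (((Y ↘ Spec (CommRingCat.of A)).fiber ((Y ↘ Spec (CommRingCat.of A)) y)).presheaf.stalk ((Y ↘ Spec (CommRingCat.of A)).asFiber y)))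
    (m : ℤ) :
    IsIso ((Scheme.Modules.restrictAdjunction U.ι).unit.app (RelCanon.refPowZ ω m)) := by
  let f := Y ↘ Spec (CommRingCat.of A)
  haveI := hS.1
  haveI : IsLocallyNoetherian Y := LocallyOfFiniteType.isLocallyNoetherian f
  haveI : CompactSpace Y := QuasiCompact.compactSpace_of_compactSpace f
  haveI : IsNoetherian Y := {}
  have hω' : Coh.IsCoh ω := (Groth.L10.RelCan.isCoh_and_nontrivial d hd ω hω).1
  have hO : Coh.IsCoh (Coh.structureModule Y) := Groth.L16.CohClosedPush.isCoh_structure
  haveI : Coh.IsQCoh (Coh.structureModule Y) := hO.1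
  have hpow : ∀ (F : Y.Modules), Coh.IsCoh F → ∀ n, Coh.IsCoh (CohB1.tensorPow F n) := fun F hF n => by
    induction n with
    | zero => exact hO
    | succ n ih => exact Groth.L15.Ref.isCoh_tensorMod ih hF
  have key : ∀ P : Y.Modules, Coh.IsCoh P →
      IsIso ((Scheme.Modules.restrictAdjunction U.ι).unit.app (RefHull.ddual P)) := fun P hP => by
    haveI : Coh.IsQCoh (RefHull.ddual P) := (Groth.L15.Ref.isCoh_dual (Groth.L15.Ref.isCoh_dual hP)).1
    refine Groth.L10.RelCan.isIso_unit_of_pairs U _ fun x hx => ?_
    obtain ⟨b, hbm, c, hcm, hb, hc⟩ := Groth.L10.RelCan.exists_pair_stalk f hS x (hcod x hx)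
    let σ := Groth.L15.Ref.strE (X := Y) x
    obtain ⟨h1, h2⟩ := Groth.L10.RelCan.regular_pair_homSh (F := RefHull.dual P) (G := Coh.structureModule Y)
      (Groth.L15.Ref.isCoh_dual hP) x ((σ.isSMulRegular_congr b).1 hb)
      (((QuotSMulTop.congr b σ).isSMulRegular_congr c).1 hc)
    exact ⟨b, hbm, c, hcm, h1, h2⟩
  cases m with
  | ofNat n => exact key _ (hpow ω hω' n)
  | negSucc n => exact key _ (hpow _ (Groth.L15.Ref.isCoh_dual hω') (n + 1))

end Groth.Agent.S19821
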