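import Groth.Statements.S19823
import Groth.Agent.L10.RelCan.CommuteS2

set_option autoImplicit false
set_option linter.style.haveILetI false
set_option backward.defeqAttrib.useBackward true
set_option backward.isDefEq.respectTransparency.types false
set_option backward.isDefEq.respectTransparency false
set_option backward.defeqAttrib.useBackward true
set_option backward.isDefEq.respectTransparency false
universe u
open QGor

namespace Groth.Agent.S19823

open CategoryTheory AlgebraicGeometry in
/-- For a proper S₂-morphism Y → Spec A to a Noetherian affine base, of pure relative dimension d, with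
relative canonical sheaf ω (characterised by the d-dualizing property over A): if ω satisfies
relative S₂ over the base (flat over the base at every point, with S₂ restriction to each fibre),
then for every Noetherian ring B, every ring map A → B and every cartesian square Y' → Y over Spec B
→ Spec A with projection p, the module p^*ω is again d-dualizing for Y' over B; that is, p^*ω is the
relative canonical sheaf of Y' over B (stated through the characterising property, so as the
existence of an isomorphism, not as a property of a named base change map). -/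
theorem result
    (A : Type u) [CommRing A] [IsNoetherianRing A] (Y : Scheme.{u}) [Y.Over (Spec (CommRingCat.of A))]
    [IsProper (Y ↘ Spec (CommRingCat.of A))] (d : ℕ)
    (hS : RelCanon.IsSkMor (Y ↘ Spec (CommRingCat.of A)) 2) (hd : Cyc.HasRelDim (Y ↘ Spec (CommRingCat.of A)) d)
    (ω : Y.Modules) (hω : RelCanon.IsDualizingSheaf A Y d ω)
    (h2 : RelCanon.RelSk (Y ↘ Spec (CommRingCat.of A)) 2 ω) :
    RelCanon.CommutesWithBaseChangeNoeth A Y d ω := by
  haveI : CompactSpace Y := QuasiCompact.compactSpace_of_compactSpace (Y ↘ Spec (CommRingCat.of A))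
  haveI : QuasiSeparatedSpace Y := quasiSeparatedSpace_of_quasiSeparated (Y ↘ Spec (CommRingCat.of A))
  haveI := Groth.L10.RelCan.isLeftAdjoint_cohFunctor (A := A) (X := Y) (d := d)
    fun M hM => Groth.L10.RelCan.subsingleton_HH_above d hd M hM (d + 1) d.lt_succ_self
  haveI : Flat (Y ↘ Spec (CommRingCat.of A)) := hS.1
  have h0 := Groth.L10.RelCan.isDualizingSheaf_ω₀ A Y d
  obtain ⟨e⟩ := Groth.L10.RelCan.nonempty_iso hω h0
  have h2' : RelCanon.RelSk (Y ↘ Spec (CommRingCat.of A)) 2 (Groth.L10.RelCan.ω₀ A Y d) := fun y =>
    ⟨Groth.L29.DC.RelBC.isFlatOver_of_iso _ e (fun z => (h2 z).1) y,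
      Groth.L29.SchStalk.hasSk_congr (((Groth.L00.Stk.F _ ((Y ↘ Spec (CommRingCat.of A)).asFiber y)).mapIso
        ((Scheme.Modules.pullback ((Y ↘ Spec (CommRingCat.of A)).fiberι ((Y ↘ Spec (CommRingCat.of A)) y))).mapIso e)).toLinearEquiv)
        (h2 y).2⟩
  intro B _ _ φ Y' _ p hp
  letI : Algebra A B := φ.toAlgebra
  haveI : IsIso (Groth.L10.RelCan.cmp (X := Y) (d := d) (ModuleCat.of A B)) :=
    Groth.L10.RelCan.isIso_cmp_of_relSk d hd hS h0 h2' _
  exact Groth.L10.RelCan.isDualizingSheaf_baseChange hp ω hω

end Groth.Agent.S19823
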