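import Groth.Statements.S19827
import Groth.Agent.L10.RelCan.BaseChange
import Groth.Agent.L10.RelCan.RightExact
import Groth.Agent.L10.RelCan.CMCase

set_option autoImplicit false
set_option linter.style.haveILetI false
set_option backward.defeqAttrib.useBackward true
set_option backward.isDefEq.respectTransparency.types false
set_option backward.isDefEq.respectTransparency false
set_option backward.defeqAttrib.useBackward true
set_option backward.isDefEq.respectTransparency false
universe u
open QGor

namespace Groth.Agent.S19827

open CategoryTheory AlgebraicGeometry in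
/-- With the remark preceding it: for a proper Cohen–Macaulay morphism Y → Spec A to a Noetherian affine
base (flat, with Cohen–Macaulay local rings of the fibres at every point) of pure relative dimension
d, and ω its relative dualizing sheaf (an O_Y-module with the d-dualizing property over A): ω is
flat over the base at every point of Y; its restriction to each fibre Y_t is d-dualizing for Y_t
over κ(t) (existence form of ω ⊗ O_{Y_t} ≅ ω_{Y_t/κ(t)}); and the relative Gorenstein locus is
exactly the set of points at which ω is invertible (isomorphic to the structure sheaf on some open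
neighbourhood). -/
theorem result
    (A : Type u) [CommRing A] [IsNoetherianRing A] (Y : Scheme.{u}) [Y.Over (Spec (CommRingCat.of A))]
    [IsProper (Y ↘ Spec (CommRingCat.of A))] (d : ℕ)
    (hCM : ∀ y : Y, MoreMor.IsCMAt (Y ↘ Spec (CommRingCat.of A)) y) (hd : Cyc.HasRelDim (Y ↘ Spec (CommRingCat.of A)) d)
    (ω : Y.Modules) (hω : RelCanon.IsDualizingSheaf A Y d ω) :
    FlatMod.IsFlatOver (Y ↘ Spec (CommRingCat.of A)) ω ∧
    (∀ t : Spec (CommRingCat.of A), RelCanon.IsDualizingSheafFib (Y ↘ Spec (CommRingCat.of A)) d ω t) ∧
    (∀ y : Y, y ∈ RelCanon.gorLocus (Y ↘ Spec (CommRingCat.of A)) ↔ RelCanon.InvertibleAt ω y) := by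
  obtain ⟨hfl, -, -, hgor⟩ := Groth.L10.RelCan.cm_facts d hCM hd ω hω
  refine ⟨hfl, fun t => ?_, hgor⟩
  haveI : CompactSpace Y := QuasiCompact.compactSpace_of_compactSpace (Y ↘ Spec (CommRingCat.of A))
  haveI : QuasiSeparatedSpace Y := quasiSeparatedSpace_of_quasiSeparated (Y ↘ Spec (CommRingCat.of A))
  haveI := Groth.L10.RelCan.isLeftAdjoint_cohFunctor (A := A) (X := Y) (d := d)
    fun M hM => Groth.L10.RelCan.subsingleton_HH_above d hd M hM (d + 1) d.lt_succ_self
  let g := (Spec (CommRingCat.of A)).fromSpecResidueField t
  let φ : A →+* (Spec (CommRingCat.of A)).residueField t := (Spec.preimage g).hom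
  letI : Algebra A ((Spec (CommRingCat.of A)).residueField t) := φ.toAlgebra
  letI : ((Y ↘ Spec (CommRingCat.of A)).fiber t).Over (Spec (CommRingCat.of ((Spec (CommRingCat.of A)).residueField t))) :=
    ⟨(Y ↘ Spec (CommRingCat.of A)).fiberToSpecResidueField t⟩
  haveI := Groth.L10.RelCan.isIso_cmp_of_cm d hCM hd (ModuleCat.of A ((Spec (CommRingCat.of A)).residueField t))
  refine Groth.L10.RelCan.isDualizingSheaf_baseChange (p := (Y ↘ Spec (CommRingCat.of A)).fiberι t) ?_ ω hω
  have hg : Spec.map (CommRingCat.ofHom φ) = g := Spec.map_preimage g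
  change IsPullback _ _ _ (Spec.map (CommRingCat.ofHom φ))
  rw [hg]
  exact IsPullback.of_hasPullback _ _

end Groth.Agent.S19827
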