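import Groth.Statements.S19831
import Groth.Agent.L10.RelCan.IndexLift

set_option autoImplicit false
set_option linter.style.haveILetI false
set_option linter.unusedVariables false
set_option maxHeartbeats 1600000
set_option maxSynthPendingDepth 4
set_option backward.isDefEq.respectTransparency.types false
set_option backward.defeqAttrib.useBackward true
set_option backward.isDefEq.respectTransparency false
universe u
open QGor

namespace Groth.Agent.S19831

open CategoryTheory AlgebraicGeometry in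
/-- Let Y → Spec A be a proper S₂-morphism to a Noetherian affine base, of pure relative dimension d,
with relative canonical sheaf ω (characterised by the d-dualizing property over A), which is naively
ℚ-Gorenstein: every fibre is Gorenstein in codimension one and ℚ-Gorenstein (for every t and every
d-dualizing module ω_t on the fibre Y_t over κ(t) — its canonical sheaf — some reflexive power
ω_t^{[r]}, r > 0, is invertible at each point), and some ω^{[r]}, r > 0, is invertible at each point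
of Y. For a point y over t, with ω_t the canonical sheaf of Y_t as above, let m be the relative
Gorenstein index at y (least r > 0 with ω^{[r]} invertible at y) and r the Gorenstein index of Y_t
at y (least r > 0 with ω_t^{[r]} invertible at y). Assume the image of m in κ(t) is non-zero (m is
prime to the characteristic of the residue field). Then m = r. -/
theorem result
    (A : Type u) [CommRing A] [IsNoetherianRing A] (Y : Scheme.{u}) [Y.Over (Spec (CommRingCat.of A))]
    [IsProper (Y ↘ Spec (CommRingCat.of A))] (d : ℕ)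
    (hS : RelCanon.IsSkMor (Y ↘ Spec (CommRingCat.of A)) 2) (hd : Cyc.HasRelDim (Y ↘ Spec (CommRingCat.of A)) d)
    (ω : Y.Modules) (hω : RelCanon.IsDualizingSheaf A Y d ω)
    (hG : ∀ y : Y, y ∉ RelCanon.gorLocus (Y ↘ Spec (CommRingCat.of A)) →
      (2 : WithBot ℕ∞) ≤ ringKrullDim (((Y ↘ Spec (CommRingCat.of A)).fiber ((Y ↘ Spec (CommRingCat.of A)) y)).presheaf.stalk ((Y ↘ Spec (CommRingCat.of A)).asFiber y)))
    (hQf : ∀ (t : (Spec (CommRingCat.of A))) (ωt : ((Y ↘ Spec (CommRingCat.of A)).fiber t).Modules), @RelCanon.IsDualizingSheaf ((Spec (CommRingCat.of A)).residueField t) _ ((Y ↘ Spec (CommRingCat.of A)).fiber t) ⟨(Y ↘ Spec (CommRingCat.of A)).fiberToSpecResidueField t⟩ d ωt → RelCanon.IsQGorWith ωt)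
    (hN : RelCanon.IsQGorWith ω)
    (y : Y) (ωy : ((Y ↘ Spec (CommRingCat.of A)).fiber ((Y ↘ Spec (CommRingCat.of A)) y)).Modules) (hωy : @RelCanon.IsDualizingSheaf ((Spec (CommRingCat.of A)).residueField ((Y ↘ Spec (CommRingCat.of A)) y)) _ ((Y ↘ Spec (CommRingCat.of A)).fiber ((Y ↘ Spec (CommRingCat.of A)) y)) ⟨(Y ↘ Spec (CommRingCat.of A)).fiberToSpecResidueField ((Y ↘ Spec (CommRingCat.of A)) y)⟩ d ωy)
    (hm : (RelCanon.gorIndexWithAt ω y : (Spec (CommRingCat.of A)).residueField ((Y ↘ Spec (CommRingCat.of A)) y)) ≠ 0) :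
    RelCanon.gorIndexWithAt ω y = RelCanon.gorIndexWithAt ωy ((Y ↘ Spec (CommRingCat.of A)).asFiber y) := by
  classical
  let f := Y ↘ Spec (CommRingCat.of A)
  haveI := hS.1
  haveI : IsLocallyNoetherian Y := LocallyOfFiniteType.isLocallyNoetherian f
  haveI : CompactSpace Y := QuasiCompact.compactSpace_of_compactSpace f
  haveI : IsNoetherian Y := {}
  let k := (Spec (CommRingCat.of A)).residueField (f y)
  letI : Algebra A k := (Spec.preimage ((Spec (CommRingCat.of A)).fromSpecResidueField (f y))).hom.toAlgebra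
  letI : (f.fiber (f y)).Over (Spec (CommRingCat.of k)) := ⟨f.fiberToSpecResidueField (f y)⟩
  have hp : IsPullback (f.fiberι (f y)) ((f.fiber (f y)) ↘ Spec (CommRingCat.of k)) f
      (Spec.map (CommRingCat.ofHom (algebraMap A k))) := by
    rw [show Spec.map (CommRingCat.ofHom (algebraMap A k)) = (Spec (CommRingCat.of A)).fromSpecResidueField (f y) from
      Spec.map_preimage _]
    exact IsPullback.of_hasPullback _ _
  haveI : LocallyOfFiniteType ((f.fiber (f y)) ↘ Spec (CommRingCat.of k)) :=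
    MorphismProperty.of_isPullback hp inferInstance
  haveI : IsLocallyNoetherian (f.fiber (f y)) :=
    LocallyOfFiniteType.isLocallyNoetherian ((f.fiber (f y)) ↘ Spec (CommRingCat.of k))
  set m := RelCanon.gorIndexWithAt ω y with hmdef
  set r := RelCanon.gorIndexWithAt ωy (f.asFiber y) with hrdef
  have hm' : 0 < m ∧ RelCanon.InvertibleAt (RelCanon.refPowZ ω m) y := Nat.sInf_mem (hN y)
  have hr' : 0 < r ∧ RelCanon.InvertibleAt (RelCanon.refPowZ ωy r) (f.asFiber y) :=
    Nat.sInf_mem (hQf _ ωy hωy (f.asFiber y))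
  refine le_antisymm (Nat.sInf_le ⟨hr'.1, ?_⟩) (Nat.sInf_le ⟨hm'.1, ?_⟩)
  swap
  · refine Groth.L10.RelCan.invertibleAt_refPowZ_pullback hS hd ω hω hG hp ωy hωy (m : ℤ) (f.asFiber y) ?_
    rw [Scheme.Hom.fiberι_asFiber]
    exact hm'.2
  obtain ⟨G, hGc, hGeq, hinv⟩ := Groth.L10.RelCan.exists_predual hS hd ω hω (r : ℤ)
  obtain ⟨eR⟩ := Groth.L10.RelCan.nonempty_dual_pullback_refPowZ hS hd ω hω hG hp ωy hωy (r : ℤ) hGc hGeq hinv
  have hfib : RelCanon.InvertibleAt (RefHull.dual ((Scheme.Modules.pullback (f.fiberι (f y))).obj G)) (f.asFiber y) := by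
    obtain ⟨V, hV, ⟨e⟩⟩ := hr'.2
    exact ⟨V, hV, ⟨(Scheme.Modules.restrictFunctor V.ι).mapIso eR ≪≫ e⟩⟩
  show RelCanon.InvertibleAt (RelCanon.refPowZ ω (r : ℤ)) y
  rw [hGeq]
  refine Groth.L10.RelCan.invertibleAt_dual_of_power f hS hGc y hinv (fun z _ _ hz => hG z hz) m hm'.1.ne' hm ?_
    (Groth.L10.RelCan.exists_fibre_free f hGc y hfib)
  rw [← hGeq]
  have hωc : Coh.IsCoh ω := (Groth.L10.RelCan.isCoh_and_nontrivial d hd ω hω).1
  have hU := Groth.L10.RelCan.isInvertible_omega_gorOpen (A := A) hd ω hω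
  obtain ⟨e1⟩ := Groth.L10.RelCan.nonempty_refPowZ_refPowZ_restrict _ hU r m
  obtain ⟨e2⟩ := Groth.L10.RelCan.nonempty_refPowZ_refPowZ_restrict _ hU m r
  have hpow : ∀ (F : Y.Modules), Coh.IsCoh F → ∀ n, Coh.IsCoh (CohB1.tensorPow F n) := fun F hF n => by
    induction n with
    | zero => exact Groth.L16.CohClosedPush.isCoh_structure
    | succ n ih => exact Groth.L15.Ref.isCoh_tensorMod ih hF
  refine Groth.L10.RelCan.invertibleAt_ddual_of_restrict_iso f hS (Groth.L10.RelCan.gorOpen A Y)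
    (hpow _ (Groth.L10.RelCan.isCoh_refPowZ hωc (m : ℤ)) r) (hpow _ (Groth.L10.RelCan.isCoh_refPowZ hωc (r : ℤ)) m) y
    (fun z _ _ hz => hG z hz) (e1 ≪≫ eqToIso (by rw [Nat.mul_comm]) ≪≫ e2.symm) ?_
  obtain ⟨V, hV, ⟨e⟩⟩ := hm'.2
  obtain ⟨a⟩ := Groth.L10.RelCan.nonempty_refPowZ_restrict V.ι (RelCanon.refPowZ ω (m : ℤ)) (r : ℤ)
  obtain ⟨b⟩ := Groth.L10.RelCan.nonempty_refPowZ_congr e (r : ℤ)
  obtain ⟨c⟩ := Groth.L10.RelCan.nonempty_refPowZ_tensorPow (L := Coh.structureModule (V : Scheme.{u}))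
    (fun z => ⟨⊤, trivial, ⟨Scheme.Modules.restrictUnitIso _⟩⟩) r
  exact ⟨V, hV, ⟨a.symm ≪≫ b ≪≫ c ≪≫ Groth.L00.Tensor.tensorPowUnit _ r⟩⟩

end Groth.Agent.S19831
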