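import Groth.Statements.S19833
import Groth.Agent.L10.RelCan.FibrePow
import Groth.Agent.L13.FibSk.Basic

set_option autoImplicit false
set_option linter.style.haveILetI false
set_option linter.unusedVariables false
set_option maxHeartbeats 1600000
set_option maxSynthPendingDepth 4
set_option backward.isDefEq.respectTransparency.types false
set_option backward.defeqAttrib.useBackward true
set_option backward.isDefEq.respectTransparency false
universe u
open QGor

namespace Groth.Agent.S19833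

open CategoryTheory AlgebraicGeometry in
/-- Conditions (i)+(ii) ⟺ (v), and (i)+(ii) ⟹ (iii), in the following form: let Y → Spec A be a proper
S₂-morphism to a Noetherian affine base, of pure relative dimension d, with relative canonical sheaf
ω (characterised by the d-dualizing property over A); let Y° be the relative Gorenstein locus, as an
open subset with inclusion j, let y be a point and r > 0. The following are equivalent. (A) The
local ring of the fibre through y has dimension ≥ 2 at every point of that fibre outside Y° which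
specializes to y (local codimension of the non-Gorenstein locus of the fibre at y is ≥ 2), and the
direct image j_*((ω|_{Y°})^{⊗ r}) is invertible at y. (B) On some open neighbourhood U of y: ω^{[r]}
(the double dual of ω^{⊗ r}) is invertible at every point; at every point of U outside Y° the local
ring of the fibre has dimension ≥ 2; and at every z ∈ U, for every d-dualizing module ω' on the
fibre through z over κ(f(z)) (the canonical sheaf of the fibre), some ω'^{[s]} with s > 0 is
invertible at z and the least such s divides r (the fibre is ℚ-Gorenstein at z of index dividing r).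
(The source takes Y° to be any open subset of the relative Gorenstein locus; for the implication (B)
⟹ (A) the whole locus is needed — with Y° empty and Y = Spec A the condition in (A) on the fibre
fails — so Y° is the full relative Gorenstein locus here.) -/
theorem result
    (A : Type u) [CommRing A] [IsNoetherianRing A] (Y : Scheme.{u}) [Y.Over (Spec (CommRingCat.of A))]
    [IsProper (Y ↘ Spec (CommRingCat.of A))] (d : ℕ)
    (hS : RelCanon.IsSkMor (Y ↘ Spec (CommRingCat.of A)) 2) (hd : Cyc.HasRelDim (Y ↘ Spec (CommRingCat.of A)) d)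
    (ω : Y.Modules) (hω : RelCanon.IsDualizingSheaf A Y d ω)
    (Yo : Y.Opens) (hYo : (Yo : Set Y) = RelCanon.gorLocus (Y ↘ Spec (CommRingCat.of A))) (y : Y) (r : ℕ) (hr : 0 < r) :
    ((∀ z : Y, (Y ↘ Spec (CommRingCat.of A)) z = (Y ↘ Spec (CommRingCat.of A)) y → z ∉ Yo → z ⤳ y → (2 : WithBot ℕ∞) ≤ ringKrullDim (((Y ↘ Spec (CommRingCat.of A)).fiber ((Y ↘ Spec (CommRingCat.of A)) z)).presheaf.stalk ((Y ↘ Spec (CommRingCat.of A)).asFiber z))) ∧
      RelCanon.InvertibleAt ((Scheme.Modules.pushforward Yo.ι).obj (CohB1.tensorPow (ω.restrict Yo.ι) r)) y) ↔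
    (∃ U : Y.Opens, y ∈ U ∧ ∀ z : Y, z ∈ U →
      RelCanon.InvertibleAt (RelCanon.refPowZ ω r) z ∧
      (z ∉ Yo → (2 : WithBot ℕ∞) ≤ ringKrullDim (((Y ↘ Spec (CommRingCat.of A)).fiber ((Y ↘ Spec (CommRingCat.of A)) z)).presheaf.stalk ((Y ↘ Spec (CommRingCat.of A)).asFiber z))) ∧
      ∀ ωz : ((Y ↘ Spec (CommRingCat.of A)).fiber ((Y ↘ Spec (CommRingCat.of A)) z)).Modules, @RelCanon.IsDualizingSheaf ((Spec (CommRingCat.of A)).residueField ((Y ↘ Spec (CommRingCat.of A)) z)) _ ((Y ↘ Spec (CommRingCat.of A)).fiber ((Y ↘ Spec (CommRingCat.of A)) z)) ⟨(Y ↘ Spec (CommRingCat.of A)).fiberToSpecResidueField ((Y ↘ Spec (CommRingCat.of A)) z)⟩ d ωz →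
        RelCanon.IsQGorWithAt ωz ((Y ↘ Spec (CommRingCat.of A)).asFiber z) ∧ RelCanon.gorIndexWithAt ωz ((Y ↘ Spec (CommRingCat.of A)).asFiber z) ∣ r) := by
  let f := Y ↘ Spec (CommRingCat.of A)
  haveI := hS.1
  haveI : IsLocallyNoetherian Y := LocallyOfFiniteType.isLocallyNoetherian f
  haveI : CompactSpace Y := QuasiCompact.compactSpace_of_compactSpace f
  haveI : IsNoetherian Y := {}
  haveI : LocallyOfFinitePresentation f := LocallyOfFinitePresentation.iff_locallyOfFiniteType.mpr inferInstance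
  have hωc : Coh.IsCoh ω := (Groth.L10.RelCan.isCoh_and_nontrivial d hd ω hω).1
  have hmem : ∀ z : Y, z ∈ Yo ↔ z ∈ RelCanon.gorLocus f := fun z => Set.ext_iff.1 hYo z
  have hωU : PicF.IsInvertible (ω.restrict Yo.ι) := by
    rw [show Yo = Groth.L10.RelCan.gorOpen A Y from TopologicalSpace.Opens.ext hYo]
    exact Groth.L10.RelCan.isInvertible_omega_gorOpen hd ω hω
  let W := RelCanon.refPowZ ω (r : ℤ)
  have hWc : Coh.IsCoh W := Groth.L10.RelCan.isCoh_refPowZ hωc _
  haveI := hWc.1
  haveI : QuasiCompact Yo.ι := inferInstance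
  let η := (Scheme.Modules.restrictAdjunction Yo.ι).unit.app W
  obtain ⟨a1⟩ := Groth.L10.RelCan.nonempty_refPowZ_restrict Yo.ι ω (r : ℤ)
  obtain ⟨a2⟩ := Groth.L10.RelCan.nonempty_refPowZ_tensorPow hωU r
  let eN := (Scheme.Modules.pushforward Yo.ι).mapIso (a1.symm ≪≫ a2)
  constructor
  · rintro ⟨hcod, hN⟩
    have hcod' : ∀ z, z ⤳ y → f z = f y → z ∉ Yo →
        (2 : WithBot ℕ∞) ≤ ringKrullDim ((f.fiber (f z)).presheaf.stalk (f.asFiber z)) := fun z h1 h2 h3 => hcod z h2 h3 h1
    obtain ⟨U0, hyU0, -, -, hU0⟩ := Groth.L13.FibSk.main f (le_refl 2) y (hS.2.2 y) Yo 2 (fun z h1 h2 h3 => hcod z h1 h2 h3)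
    have hb := Groth.L10.RelCan.bijective_unit_of_pairs Yo W y fun x hx hxU =>
      Groth.L10.RelCan.pairs_refPowZ hωc (r : ℤ) x
        (Groth.L10.RelCan.exists_pair_generization f hS Yo y hcod' x hx hxU)
    obtain ⟨τ⟩ := Groth.L10.RelCan.exists_stalk_equiv_of_invertibleAt hN
    obtain ⟨V, hyV, ⟨eV⟩⟩ := Groth.L10.RelCan.invertibleAt_of_stalk hWc y
      ((LinearEquiv.ofBijective _ hb).trans (((Groth.L00.Stk.F Y y).mapIso eN).toLinearEquiv.trans τ))
    refine ⟨U0 ⊓ V, ⟨hyU0, hyV⟩, fun z hz => ⟨⟨V, hz.2, ⟨eV⟩⟩, fun h => hU0 z hz.1 h, fun ωz hωz => ?_⟩⟩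
    obtain ⟨hpair, U', hU', hωzc, hωzU, hpow⟩ := Groth.L10.RelCan.invertibleAt_refPowZ_fibre_of_local hS hd ω hω _ ωz hωz
      (f.asFiber z) (fun w hw hwg => hU0 w (hw.mem_open U0.2 (by rw [Scheme.Hom.fiberι_asFiber]; exact hz.1))
        fun h => hwg ((hmem w).1 h))
    have hr' : RelCanon.InvertibleAt (RelCanon.refPowZ ωz (r : ℤ)) (f.asFiber z) := hpow r (by
      rw [Scheme.Hom.fiberι_asFiber]
      exact ⟨V, hz.2, ⟨eV⟩⟩)
    refine ⟨⟨r, hr, hr'⟩, ?_⟩
    set s := RelCanon.gorIndexWithAt ωz (f.asFiber z) with hsdef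
    have hs : 0 < s ∧ RelCanon.InvertibleAt (RelCanon.refPowZ ωz (s : ℤ)) (f.asFiber z) :=
      Nat.sInf_mem (s := {k : ℕ | 0 < k ∧ RelCanon.InvertibleAt (RelCanon.refPowZ ωz k) (f.asFiber z)}) ⟨r, hr, hr'⟩
    haveI : IsProper (f.fiberToSpecResidueField (f z)) :=
      MorphismProperty.pullback_snd f ((Spec (CommRingCat.of A)).fromSpecResidueField (f z)) inferInstance
    haveI : IsLocallyNoetherian (f.fiber (f z)) :=
      LocallyOfFiniteType.isLocallyNoetherian (f.fiberToSpecResidueField (f z))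
    haveI : CompactSpace (f.fiber (f z)) := QuasiCompact.compactSpace_of_compactSpace (f.fiberToSpecResidueField (f z))
    haveI : IsNoetherian (f.fiber (f z)) := {}
    have hmod := Groth.L10.RelCan.invertibleAt_refPowZ_mod U' (f.asFiber z)
      (fun w hw hwU => hpair w hw fun h => hwU ((Set.ext_iff.1 hU' w).2 h)) hωzc hωzU hs.2 hr'
    refine Nat.dvd_of_mod_eq_zero ?_
    by_contra hne
    exact absurd (Nat.sInf_le (s := {k : ℕ | 0 < k ∧ RelCanon.InvertibleAt (RelCanon.refPowZ ωz k) (f.asFiber z)})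
      ⟨Nat.pos_of_ne_zero hne, hmod⟩) (not_le.2 (Nat.mod_lt _ hs.1))
  · rintro ⟨U, hyU, hU⟩
    refine ⟨fun z _ hz hzy => (hU z (hzy.mem_open U.2 hyU)).2.1 hz, ?_⟩
    obtain ⟨V, hyV, ⟨eV⟩⟩ := (hU y hyU).1
    let V3 := U ⊓ V
    have hb : ∀ z, z ∈ U → Function.Bijective (Groth.L10.RelCan.stk η z) := fun z hz =>
      Groth.L10.RelCan.bijective_unit_of_pairs Yo W z fun x hx hxU =>
        Groth.L10.RelCan.pairs_refPowZ hωc (r : ℤ) x
          (Groth.L10.RelCan.exists_pair_stalk f hS x ((hU x (hx.mem_open U.2 hz)).2.1 hxU))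
    haveI : Coh.IsQCoh ((Scheme.Modules.pushforward Yo.ι).obj ((Scheme.Modules.restrictFunctor Yo.ι).obj W)) :=
      haveI : Coh.IsQCoh ((Scheme.Modules.restrictFunctor Yo.ι).obj W) := Scheme.Modules.isQuasicoherent_restrictFunctor _ W
      Groth.L16.QcqsPush.isQCoh_push _ Yo.ι
    haveI : IsIso ((Scheme.Modules.restrictFunctor V3.ι).map η) :=
      Groth.L17.Approx.isIso_restrict_of_bijective η V3 fun O hO =>
        Groth.L15.Ref.app_bijective_of_stalk η fun z hz => hb z (hO hz).1
    have hle : V3 ≤ V := inf_le_right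
    exact ⟨V3, ⟨hyU, hyV⟩, ⟨(Scheme.Modules.restrictFunctor V3.ι).mapIso eN.symm ≪≫
      (asIso ((Scheme.Modules.restrictFunctor V3.ι).map η)).symm ≪≫
      (Scheme.Modules.restrictFunctorCongr (Y.homOfLE_ι hle).symm).app W ≪≫
      (Scheme.Modules.restrictFunctorComp (Y.homOfLE hle) V.ι).app W ≪≫
      (Scheme.Modules.restrictFunctor (Y.homOfLE hle)).mapIso eV ≪≫ Scheme.Modules.restrictUnitIso _⟩⟩

end Groth.Agent.S19833
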