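import Groth.Statements.S19834
import Groth.Agent.L10.RelCan.ExtSplit
import Groth.Agent.L07.FittStrict
import Groth.Agent.L16.CohSupport
import Groth.Agent.L10.ShriekLoc.StalkSemi
import Groth.Agent.L20.ModStalk

set_option autoImplicit false
set_option linter.style.haveILetI false
set_option linter.unusedVariables false
set_option maxHeartbeats 1600000
set_option maxSynthPendingDepth 4
set_option backward.isDefEq.respectTransparency.types false
set_option backward.defeqAttrib.useBackward true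
set_option backward.isDefEq.respectTransparency false
universe u
open QGor

namespace Groth.Agent.S19834

open CategoryTheory AlgebraicGeometry in
/-- For a proper S₂-morphism Y → Spec A to a Noetherian affine base, of pure relative dimension d, all
of whose fibres satisfy Serre's condition S₃ at every point, with relative canonical sheaf ω
(characterised by the d-dualizing property over A), the sheaf 𝓔xt¹_{O_Y}(ω, ω) vanishes; stated as:
every extension of ω|_V by ω|_V over an open V ⊆ Y is locally split, i.e. for every short exact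
sequence 0 → S₁ → S₂ → S₃ → 0 of O_V-modules with S₁ ≅ ω|_V and S₃ ≅ ω|_V and every point y ∈ V
there are an open W ⊆ V containing y and a morphism S₃|_W → S₂|_W that is a section of S₂|_W →
S₃|_W. -/
theorem result
    (A : Type u) [CommRing A] [IsNoetherianRing A] (Y : Scheme.{u}) [Y.Over (Spec (CommRingCat.of A))]
    [IsProper (Y ↘ Spec (CommRingCat.of A))] (d : ℕ)
    (hS : RelCanon.IsSkMor (Y ↘ Spec (CommRingCat.of A)) 2) (hd : Cyc.HasRelDim (Y ↘ Spec (CommRingCat.of A)) d)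
    (ω : Y.Modules) (hω : RelCanon.IsDualizingSheaf A Y d ω)
    (hS3 : ∀ y : Y, RelCanon.SkAt 3 (Coh.structureModule ((Y ↘ Spec (CommRingCat.of A)).fiber ((Y ↘ Spec (CommRingCat.of A)) y))) ((Y ↘ Spec (CommRingCat.of A)).asFiber y))
    (V : Y.Opens) (S : ShortComplex (V : Scheme.{u}).Modules) (hSe : S.ShortExact)
    (e₁ : S.X₁ ≅ ω.restrict V.ι) (e₃ : S.X₃ ≅ ω.restrict V.ι) (y : Y) (hy : y ∈ V) :
    ∃ (W : Y.Opens) (i : W ≤ V), y ∈ W ∧
      ∃ σ : S.X₃.restrict (Y.homOfLE i) ⟶ S.X₂.restrict (Y.homOfLE i),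
        σ ≫ (Scheme.Modules.restrictFunctor (Y.homOfLE i)).map S.g = 𝟙 _ := by
  obtain ⟨y', rfl⟩ : ∃ y' : (V : Scheme.{u}), V.ι y' = y := ⟨⟨y, hy⟩, rfl⟩
  haveI := hS.1
  haveI : IsLocallyNoetherian Y := LocallyOfFiniteType.isLocallyNoetherian (Y ↘ Spec (CommRingCat.of A))
  haveI : IsLocallyNoetherian (V : Scheme.{u}) := isLocallyNoetherian_of_isOpenImmersion V.ι
  have hωc : Coh.IsCoh ω := (Groth.L10.RelCan.isCoh_and_nontrivial d hd ω hω).1
  have hr : Coh.IsCoh (ω.restrict V.ι) := Groth.L07.FittStrict.isCoh_restrict ω hωc V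
  have h1 := Groth.L16.CohSupport.isCoh_of_iso e₁.symm hr
  have h3 := Groth.L16.CohSupport.isCoh_of_iso e₃.symm hr
  let e := ((Groth.L00.Stk.F (V : Scheme.{u}) y').mapIso (e₁ ≪≫ e₃.symm)).toLinearEquiv
  have hext0 := Groth.L10.RelCan.ext1Zero_dualizing hS hd ω hω hS3 (V.ι y')
  obtain ⟨E₀⟩ := Groth.L10.RelCan.nonempty_semi_restrict_symm V.ι ω y'
  let ℓ := ((Groth.L00.Stk.F (V : Scheme.{u}) y').mapIso e₃).toLinearEquiv
  have hext := hext0.of_semi (S := (V : Scheme.{u}).presheaf.stalk y') (N := S.X₃.presheaf.stalk y')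
    ⟨E₀.φ, E₀.surj, E₀.e.trans ℓ.symm.toAddEquiv, fun r m => by
      show ℓ.symm (E₀.e (r • m)) = E₀.φ r • ℓ.symm (E₀.e m)
      exact (congrArg ℓ.symm (E₀.map_smul r m)).trans (map_smul ℓ.symm _ _)⟩
  obtain ⟨N, hyN, g, hg⟩ := Groth.L10.RelCan.exists_split S hSe h1 h3 y' e hext
  refine ⟨V.ι ''ᵁ N, V.ι_image_le N, ⟨y', hyN, rfl⟩, ?_⟩
  generalize hi : V.ι_image_le N = i
  let T := Y.homOfLE i
  have hT : ∀ O, T ''ᵁ O ≤ N := by
    rintro O z ⟨w, -, rfl⟩
    obtain ⟨v, hv, hvw⟩ := w.2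
    have hh : V.ι (T w) = (V.ι ''ᵁ N).ι w := congrArg (fun φ => φ w) (Y.homOfLE_ι i)
    rwa [← V.ι.isOpenEmbedding.injective (hh.trans hvw.symm)] at hv
  let σ : S.X₃.restrict T ⟶ S.X₂.restrict T :=
    ⟨PresheafOfModules.homMk
      { app := fun O => AddCommGrpCat.ofHom (AddMonoidHom.mk' (Groth.L15.Ref.secOf g (hT O.unop)) fun a b =>
          Groth.L15.Ref.sec_ext (N := S.X₂) (W := T ''ᵁ O.unop) fun z hz => by simp only [map_add, Groth.L15.Ref.germ_secOf])
        naturality := fun {O O'} j => by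
          ext m
          refine Groth.L15.Ref.sec_ext (N := S.X₂) (W := T ''ᵁ O'.unop) fun z hz => ?_
          have hle : T ''ᵁ O'.unop ≤ T ''ᵁ O.unop := Set.image_mono j.unop.le
          show S.X₂.presheaf.germ (T ''ᵁ O'.unop) z hz
              (Groth.L15.Ref.secOf g (hT _) (Groth.L18.Frame.rs S.X₃ hle m)) =
            S.X₂.presheaf.germ (T ''ᵁ O'.unop) z hz
              (Groth.L18.Frame.rs S.X₂ hle (Groth.L15.Ref.secOf g (hT _) m))
          rw [Groth.L15.Ref.germ_secOf, Groth.L20.ModStalk.germ_rs, Groth.L20.ModStalk.germ_rs,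
            Groth.L15.Ref.germ_secOf] }
      fun O r m => Groth.L15.Ref.sec_ext (N := S.X₂) (W := T ''ᵁ O.unop) fun z hz => by
        let r' := (T.appIso O.unop).inv r
        show S.X₂.presheaf.germ (T ''ᵁ O.unop) z hz
            (Groth.L15.Ref.secOf g (hT _) (r' • (show Γ(S.X₃, T ''ᵁ O.unop) from m))) =
          S.X₂.presheaf.germ (T ''ᵁ O.unop) z hz
            (r' • Groth.L15.Ref.secOf g (hT _) (show Γ(S.X₃, T ''ᵁ O.unop) from m))
        rw [Groth.L15.Ref.germ_secOf, Groth.L20.ModStalk.germ_smul, Groth.L20.ModStalk.germ_smul,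
          Groth.L15.Ref.germ_secOf, map_smul]⟩
  refine ⟨σ, ?_⟩
  ext O m
  refine Groth.L15.Ref.sec_ext (N := S.X₃) (W := T ''ᵁ O) fun z hz => ?_
  show S.X₃.presheaf.germ (T ''ᵁ O) z hz (S.g.app (T ''ᵁ O) (Groth.L15.Ref.secOf g (hT _) m)) =
    S.X₃.presheaf.germ (T ''ᵁ O) z hz m
  refine (DerSch.stalkFunctor_map_germ z S.g (T ''ᵁ O) hz _).symm.trans ?_
  rw [Groth.L15.Ref.germ_secOf]
  exact hg z (hT O hz) _

end Groth.Agent.S19834
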