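import Groth.Statements.S19835
import Groth.Agent.S19823
import Groth.Agent.L10.RelCan.Invert

set_option autoImplicit false
set_option linter.style.haveILetI false
set_option backward.defeqAttrib.useBackward true
set_option backward.isDefEq.respectTransparency.types false
set_option backward.isDefEq.respectTransparency false
set_option backward.defeqAttrib.useBackward true
set_option backward.isDefEq.respectTransparency false
universe u
open QGor

namespace Groth.Agent.S19835

open CategoryTheory AlgebraicGeometry in
/-- For a proper S₂-morphism Y → Spec A to a Noetherian affine base, of pure relative dimension d, whose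
fibres are Gorenstein in codimension one, with relative canonical sheaf ω (characterised by the
d-dualizing property over A): if ω is invertible, then the morphism is ℚ-Gorenstein with respect to
ω (every reflexive power ω^{[m]}, m ∈ ℤ, satisfies relative S₂ over the base at every point: flat
over the base with S₂ restriction to the fibre), and every fibre is ℚ-Gorenstein of Gorenstein index
one, i.e. for every t every d-dualizing module on the fibre Y_t over κ(t) (the canonical sheaf of
the fibre) is invertible. -/
theorem result
    (A : Type u) [CommRing A] [IsNoetherianRing A] (Y : Scheme.{u}) [Y.Over (Spec (CommRingCat.of A))]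
    [IsProper (Y ↘ Spec (CommRingCat.of A))] (d : ℕ)
    (hS : RelCanon.IsSkMor (Y ↘ Spec (CommRingCat.of A)) 2) (hd : Cyc.HasRelDim (Y ↘ Spec (CommRingCat.of A)) d)
    (ω : Y.Modules) (hω : RelCanon.IsDualizingSheaf A Y d ω)
    (hG : ∀ y : Y, y ∉ RelCanon.gorLocus (Y ↘ Spec (CommRingCat.of A)) →
      (2 : WithBot ℕ∞) ≤ ringKrullDim (((Y ↘ Spec (CommRingCat.of A)).fiber ((Y ↘ Spec (CommRingCat.of A)) y)).presheaf.stalk ((Y ↘ Spec (CommRingCat.of A)).asFiber y)))
    (hinv : PicF.IsInvertible ω) :
    RelCanon.IsQGorMorWith (Y ↘ Spec (CommRingCat.of A)) ω ∧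
    ∀ (t : (Spec (CommRingCat.of A))) (ωt : ((Y ↘ Spec (CommRingCat.of A)).fiber t).Modules), @RelCanon.IsDualizingSheaf ((Spec (CommRingCat.of A)).residueField t) _ ((Y ↘ Spec (CommRingCat.of A)).fiber t) ⟨(Y ↘ Spec (CommRingCat.of A)).fiberToSpecResidueField t⟩ d ωt → PicF.IsInvertible ωt := by
  refine ⟨fun m y => Groth.L10.RelCan.relSkAt_of_isInvertible _ 2 hS (Groth.L10.RelCan.isInvertible_refPowZ hinv m) y,
    fun t ωt hωt => ?_⟩
  haveI : CompactSpace Y := QuasiCompact.compactSpace_of_compactSpace (Y ↘ Spec (CommRingCat.of A))
  haveI : QuasiSeparatedSpace Y := quasiSeparatedSpace_of_quasiSeparated (Y ↘ Spec (CommRingCat.of A))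
  have hcbc := Groth.Agent.S19823.result A Y d hS hd ω hω
    (fun y => Groth.L10.RelCan.relSkAt_of_isInvertible _ 2 hS hinv y)
  let f := Y ↘ Spec (CommRingCat.of A)
  let g := (Spec (CommRingCat.of A)).fromSpecResidueField t
  let φ : A →+* (Spec (CommRingCat.of A)).residueField t := (Spec.preimage g).hom
  letI : (f.fiber t).Over (Spec (CommRingCat.of ((Spec (CommRingCat.of A)).residueField t))) :=
    ⟨f.fiberToSpecResidueField t⟩
  have h := hcbc ((Spec (CommRingCat.of A)).residueField t) φ (f.fiber t) (f.fiberι t) (by
    rw [show Spec.map (CommRingCat.ofHom φ) = g from Spec.map_preimage g]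
    exact IsPullback.of_hasPullback _ _)
  obtain ⟨e⟩ := Groth.L10.RelCan.nonempty_iso h hωt
  exact Groth.L18.Ample.isInvertible_of_iso e (Groth.L18.Ample.isInvertible_pullback _ hinv)

end Groth.Agent.S19835
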