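import Groth.Statements.S19837
import Groth.Agent.L10.RelCan.AlongPower
import Groth.Agent.L10.RelCan.AlongVirtual

set_option autoImplicit false
set_option linter.style.haveILetI false
set_option linter.unusedVariables false
set_option maxHeartbeats 1600000
set_option maxSynthPendingDepth 4
set_option backward.isDefEq.respectTransparency.types false
set_option backward.defeqAttrib.useBackward true
set_option backward.isDefEq.respectTransparency false
universe u
open QGor

namespace Groth.Agent.S19837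

open CategoryTheory AlgebraicGeometry in
/-- Let Y → Spec A be a proper S₂-morphism to a Noetherian affine base, of pure relative dimension d,
with fibres Gorenstein in codimension one and relative canonical sheaf ω (characterised by the
d-dualizing property over A). Let t be a point of Spec A and L a coherent reflexive O_Y-module whose
reflexive powers L^{[m]} (m ∈ ℤ) all satisfy relative S₂ over the base at every point and whose
restriction to the fibre Y_t is d-dualizing over κ(t) (L ⊗ O_{Y_t} is isomorphic to the canonical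
sheaf of the fibre); this is the normalised form of 'virtually ℚ-Gorenstein along Y_t' with a global
L. If either (a) Y_t satisfies S₃ at every point, or (b) some ω^{[r]} with r > 0 and r non-zero in
κ(t) is invertible at every point of Y_t, then for every m ∈ ℤ the reflexive power ω^{[m]} satisfies
relative S₂ over the base at every point of Y_t (the morphism is ℚ-Gorenstein along Y_t). -/
theorem result
    (A : Type u) [CommRing A] [IsNoetherianRing A] (Y : Scheme.{u}) [Y.Over (Spec (CommRingCat.of A))]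
    [IsProper (Y ↘ Spec (CommRingCat.of A))] (d : ℕ)
    (hS : RelCanon.IsSkMor (Y ↘ Spec (CommRingCat.of A)) 2) (hd : Cyc.HasRelDim (Y ↘ Spec (CommRingCat.of A)) d)
    (ω : Y.Modules) (hω : RelCanon.IsDualizingSheaf A Y d ω)
    (hG : ∀ y : Y, y ∉ RelCanon.gorLocus (Y ↘ Spec (CommRingCat.of A)) →
      (2 : WithBot ℕ∞) ≤ ringKrullDim (((Y ↘ Spec (CommRingCat.of A)).fiber ((Y ↘ Spec (CommRingCat.of A)) y)).presheaf.stalk ((Y ↘ Spec (CommRingCat.of A)).asFiber y)))
    (t : (Spec (CommRingCat.of A))) (L : Y.Modules) (hL : Coh.IsCoh L) (hLr : RefHull.IsReflexive L)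
    (hL2 : ∀ m : ℤ, RelCanon.RelSk (Y ↘ Spec (CommRingCat.of A)) 2 (RelCanon.refPowZ L m))
    (hLt : RelCanon.IsDualizingSheafFib (Y ↘ Spec (CommRingCat.of A)) d L t)
    (hab : (∀ y : Y, (Y ↘ Spec (CommRingCat.of A)) y = t → RelCanon.SkAt 3 (Coh.structureModule ((Y ↘ Spec (CommRingCat.of A)).fiber ((Y ↘ Spec (CommRingCat.of A)) y))) ((Y ↘ Spec (CommRingCat.of A)).asFiber y)) ∨
      (∃ r : ℕ, 0 < r ∧ (r : (Spec (CommRingCat.of A)).residueField t) ≠ 0 ∧
        ∀ y : Y, (Y ↘ Spec (CommRingCat.of A)) y = t → RelCanon.InvertibleAt (RelCanon.refPowZ ω r) y)) :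
    ∀ m : ℤ, ∀ y : Y, (Y ↘ Spec (CommRingCat.of A)) y = t → RelCanon.RelSkAt (Y ↘ Spec (CommRingCat.of A)) 2 (RelCanon.refPowZ ω m) y := by
  open Groth.L10.RelCan in
  classical
  let f := Y ↘ Spec (CommRingCat.of A)
  haveI := hS.1
  haveI : IsLocallyNoetherian Y := LocallyOfFiniteType.isLocallyNoetherian f
  obtain ⟨eL1⟩ : Nonempty (RelCanon.refPowZ L ((1 : ℕ) : ℤ) ≅ L) := by
    haveI : IsIso (RefHull.bidualMap L) := hLr
    exact ⟨RefFun.ddualIso (Groth.L00.Tensor.tensorPowOne L) ≪≫ (asIso (RefHull.bidualMap L)).symm⟩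
  have hLf : ∀ y : Y, f y = t → FlatMod.IsFlatOverAt f L y := fun y _ =>
    (Groth.L10.RelCan.relSkAt_of_iso f eL1 (hL2 ((1 : ℕ) : ℤ) y)).1
  have hωc : Coh.IsCoh ω := (Groth.L10.RelCan.isCoh_and_nontrivial d hd ω hω).1
  obtain ⟨W, hW, hWt⟩ := Groth.L10.RelCan.exists_good hS hd ω hω L hL t hLf hLt
  have hinv : ∀ y : Y, f y = t → RelCanon.InvertibleAt (RefHull.homSh L ω) y := fun y hy => by
    rcases hab with ha | ⟨r, hr, hrk, hb⟩
    · exact Groth.L10.RelCan.invertibleAt_homSh_of_S3 hS hd ω hω L hL t hLf hLt W hW hWt y hy (ha y hy)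
    · refine Groth.L10.RelCan.invertibleAt_homSh_of_powers hS hd ω hω L hL t hLf hLt W hW hWt y hy r hr hrk ?_ (hb y hy)
      obtain ⟨v, rfl⟩ := Groth.L10.RelCan.exists_fiberι_eq f hy
      exact Groth.L10.RelCan.invertibleAt_of_flat_of_fibre f (Groth.L10.RelCan.isCoh_refPowZ hL _) t v
        (hL2 (r : ℤ) _).1
        (Groth.L10.RelCan.invertibleAt_pullback_refPowZ_virtual hS hd ω hω hG L hL t hLf hLt W hW hWt r
          (fun z _ => hL2 (r : ℤ) z) hb v)
  intro m y hy
  have hMc : Coh.IsCoh (RefHull.homSh L ω) := Groth.L15.Ref.isCoh_homSh L ω hL hωc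
  obtain ⟨N, hyN, ⟨eN⟩⟩ := hinv y hy
  let B : Y.Opens := ⟨{z | Function.Bijective (Groth.L10.RelCan.stk (Groth.L10.RelCan.evHom L ω) z)},
    Groth.L10.RelCan.exists_nhd_bijective (Groth.L15.Ref.isCoh_tensorMod hL hMc) hωc _⟩
  have hyB : y ∈ B :=
    Groth.L10.RelCan.bijective_ev_along hS hd ω hω L hL t hLf hLt W hW hWt y hy (hinv y hy)
  let U : Y.Opens := B ⊓ N
  obtain ⟨eNU⟩ := Groth.L10.RelCan.nonempty_triv_mono (show U ≤ N from inf_le_right) eN
  haveI := Groth.L10.RelCan.isIso_restrict_of_stk (Groth.L10.RelCan.evHom L ω) U fun z hz => hz.1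
  let e : L.restrict U.ι ≅ ω.restrict U.ι :=
    (Groth.L00.Tensor.tensorUnitRight _).symm ≪≫ Groth.L00.Tensor.tensorIso (Iso.refl _) eNU.symm ≪≫
      Groth.L00.Tensor.tensorRestrict U.ι L (RefHull.homSh L ω) ≪≫
      asIso ((Scheme.Modules.restrictFunctor U.ι).map (Groth.L10.RelCan.evHom L ω))
  obtain ⟨a1⟩ := Groth.L10.RelCan.nonempty_refPowZ_restrict U.ι L m
  obtain ⟨a2⟩ := Groth.L10.RelCan.nonempty_refPowZ_restrict U.ι ω m
  obtain ⟨a3⟩ := Groth.L10.RelCan.nonempty_refPowZ_congr e.symm m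
  let E : (RelCanon.refPowZ ω m).restrict U.ι ≅ (RelCanon.refPowZ L m).restrict U.ι := a2.symm ≪≫ a3 ≪≫ a1
  haveI : CompactSpace Y := QuasiCompact.compactSpace_of_compactSpace f
  haveI : AlgebraicGeometry.IsNoetherian Y := {}
  haveI := (Groth.L10.RelCan.isCoh_refPowZ hωc m).1
  haveI := (Groth.L10.RelCan.isCoh_refPowZ hL m).1
  obtain ⟨eS⟩ := Groth.L10.RelCan.nonempty_stalkEquiv_of_pairs U _ _ y
    (fun x hx hxU => absurd (hx.mem_open U.2 (show y ∈ U from ⟨hyB, hyN⟩)) hxU)
    (fun x hx hxU => absurd (hx.mem_open U.2 (show y ∈ U from ⟨hyB, hyN⟩)) hxU) E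
  exact Groth.L10.RelCan.relSkAt_of_stalkEquiv f (Groth.L10.RelCan.isCoh_refPowZ hL m)
    (Groth.L10.RelCan.isCoh_refPowZ hωc m) eS (hL2 m y)

end Groth.Agent.S19837
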