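import Groth.Statements.S19838
import Groth.Agent.L10.RelCan.QuasiGorFibre

set_option autoImplicit false
set_option linter.style.haveILetI false
set_option linter.unusedVariables false
set_option maxHeartbeats 1600000
set_option maxSynthPendingDepth 4
set_option backward.isDefEq.respectTransparency.types false
set_option backward.defeqAttrib.useBackward true
set_option backward.isDefEq.respectTransparency false
universe u
open QGor

namespace Groth.Agent.S19838

open CategoryTheory AlgebraicGeometry in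
/-- Let Y → Spec A be a proper S₂-morphism to a Noetherian affine base, of pure relative dimension d,
with relative canonical sheaf ω (characterised by the d-dualizing property over A), and t a point of
Spec A whose fibre Y_t is Gorenstein in codimension one and quasi-Gorenstein (every d-dualizing
module on Y_t over κ(t), i.e. its canonical sheaf, is invertible). If ω^{[r]} is invertible for some
r > 0 whose image in κ(t) is non-zero, then for every m ∈ ℤ the reflexive power ω^{[m]} satisfies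
relative S₂ over the base at every point of Y_t (the morphism is ℚ-Gorenstein along Y_t). -/
theorem result
    (A : Type u) [CommRing A] [IsNoetherianRing A] (Y : Scheme.{u}) [Y.Over (Spec (CommRingCat.of A))]
    [IsProper (Y ↘ Spec (CommRingCat.of A))] (d : ℕ)
    (hS : RelCanon.IsSkMor (Y ↘ Spec (CommRingCat.of A)) 2) (hd : Cyc.HasRelDim (Y ↘ Spec (CommRingCat.of A)) d)
    (ω : Y.Modules) (hω : RelCanon.IsDualizingSheaf A Y d ω)
    (t : (Spec (CommRingCat.of A)))
    (hG1 : ∀ y : Y, (Y ↘ Spec (CommRingCat.of A)) y = t → y ∉ RelCanon.gorLocus (Y ↘ Spec (CommRingCat.of A)) → (2 : WithBot ℕ∞) ≤ ringKrullDim (((Y ↘ Spec (CommRingCat.of A)).fiber ((Y ↘ Spec (CommRingCat.of A)) y)).presheaf.stalk ((Y ↘ Spec (CommRingCat.of A)).asFiber y)))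
    (hqg : ∀ ωt : ((Y ↘ Spec (CommRingCat.of A)).fiber t).Modules, @RelCanon.IsDualizingSheaf ((Spec (CommRingCat.of A)).residueField t) _ ((Y ↘ Spec (CommRingCat.of A)).fiber t) ⟨(Y ↘ Spec (CommRingCat.of A)).fiberToSpecResidueField t⟩ d ωt → PicF.IsInvertible ωt)
    (r : ℕ) (hr : 0 < r) (hrk : (r : (Spec (CommRingCat.of A)).residueField t) ≠ 0)
    (hinv : PicF.IsInvertible (RelCanon.refPowZ ω r)) :
    ∀ m : ℤ, ∀ y : Y, (Y ↘ Spec (CommRingCat.of A)) y = t → RelCanon.RelSkAt (Y ↘ Spec (CommRingCat.of A)) 2 (RelCanon.refPowZ ω m) y := by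
  intro m y hy
  subst hy
  let f := Y ↘ Spec (CommRingCat.of A)
  haveI := hS.1
  haveI : IsLocallyNoetherian Y := LocallyOfFiniteType.isLocallyNoetherian f
  haveI : CompactSpace Y := QuasiCompact.compactSpace_of_compactSpace f
  haveI : IsNoetherian Y := {}
  haveI : LocallyOfFiniteType (f.fiberToSpecResidueField (f y)) :=
    MorphismProperty.pullback_snd f ((Spec (CommRingCat.of A)).fromSpecResidueField (f y)) inferInstance
  haveI : IsLocallyNoetherian (f.fiber (f y)) :=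
    LocallyOfFiniteType.isLocallyNoetherian (f.fiberToSpecResidueField (f y))
  have hcod : ∀ z, z ⤳ y → f z = f y → z ∉ RelCanon.gorLocus f →
      (2 : WithBot ℕ∞) ≤ ringKrullDim ((f.fiber (f z)).presheaf.stalk (f.asFiber z)) := fun z _ hz hg => hG1 z hz hg
  have hωc : Coh.IsCoh ω := (Groth.L10.RelCan.isCoh_and_nontrivial d hd ω hω).1
  have hU := Groth.L10.RelCan.isInvertible_omega_gorOpen (A := A) hd ω hω
  let U := Groth.L10.RelCan.gorOpen A Y
  have hpow : ∀ (F : Y.Modules), Coh.IsCoh F → ∀ n, Coh.IsCoh (CohB1.tensorPow F n) := fun F hF n => by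
    induction n with
    | zero => exact Groth.L16.CohClosedPush.isCoh_structure
    | succ n ih => exact Groth.L15.Ref.isCoh_tensorMod ih hF
  let ω1 := RelCanon.refPowZ ω ((1 : ℕ) : ℤ)
  have hω1c : Coh.IsCoh ω1 := Groth.L10.RelCan.isCoh_refPowZ hωc _
  obtain ⟨G, hGc, hGeq, hinvG⟩ := Groth.L10.RelCan.exists_predual hS hd ω hω ((1 : ℕ) : ℤ)
  have h1 : RelCanon.InvertibleAt (RefHull.dual G) y := by
    refine Groth.L10.RelCan.invertibleAt_dual_of_power f hS hGc y hinvG hcod r hr.ne' hrk ?_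
      (Groth.L10.RelCan.exists_fibre_free f hGc y
        (Groth.L10.RelCan.invertibleAt_dual_pullback_of_quasiGor hS hd ω hω _ hG1 hqg hGc hGeq hinvG (f.asFiber y)))
    rw [← hGeq]
    obtain ⟨e1⟩ := Groth.L10.RelCan.nonempty_refPowZ_refPowZ_restrict U hU 1 r
    obtain ⟨e2⟩ := Groth.L10.RelCan.nonempty_refPowZ_restrict U.ι ω (r : ℤ)
    obtain ⟨e3⟩ := Groth.L10.RelCan.nonempty_refPowZ_tensorPow hU r
    exact Groth.L10.RelCan.invertibleAt_ddual_of_restrict_iso f hS U (hpow ω hωc r) (hpow ω1 hω1c r) y hcod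
      (e1 ≪≫ eqToIso (by rw [one_mul]) ≪≫ e3.symm ≪≫ e2) ((RelCanon.isInvertible_iff_invertibleAt _).1 hinv y)
  rw [← hGeq] at h1
  obtain ⟨V, hV, ⟨eV⟩⟩ := h1
  have hO : PicF.IsInvertible (Coh.structureModule (V : Scheme.{u})) :=
    fun z => ⟨⊤, trivial, ⟨Scheme.Modules.restrictUnitIso _⟩⟩
  obtain ⟨a⟩ := Groth.L10.RelCan.nonempty_refPowZ_restrict V.ι ω1 m
  obtain ⟨b⟩ := Groth.L10.RelCan.nonempty_refPowZ_congr eV m
  obtain ⟨W, hW, ⟨eW⟩⟩ := (RelCanon.isInvertible_iff_invertibleAt _).1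
    (Groth.L18.Ample.isInvertible_of_iso (b.symm ≪≫ a) (Groth.L10.RelCan.isInvertible_refPowZ hO m)) ⟨y, hV⟩
  have h1m : RelCanon.InvertibleAt (RelCanon.refPowZ ω1 m) y :=
    Groth.L10.RelCan.invertibleAt_of_pullback V.ι (Groth.L10.RelCan.isCoh_refPowZ hω1c m) ⟨y, hV⟩ (by
      exact (RelCanon.isInvertible_iff_invertibleAt _).1 (Groth.L18.Ample.isInvertible_of_iso
        ((Scheme.Modules.restrictFunctorIsoPullback V.ι).app _)
        (Groth.L18.Ample.isInvertible_of_iso (b.symm ≪≫ a) (Groth.L10.RelCan.isInvertible_refPowZ hO m))) ⟨y, hV⟩)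
  have hm : RelCanon.InvertibleAt (RelCanon.refPowZ ω m) y := by
    obtain ⟨c1⟩ := Groth.L10.RelCan.nonempty_refPowZ_restrict U.ι ω m
    obtain ⟨c2⟩ := Groth.L10.RelCan.nonempty_refPowZ_restrict U.ι ω1 m
    obtain ⟨c3⟩ := Groth.L10.RelCan.nonempty_refPowZ_restrict U.ι ω ((1 : ℕ) : ℤ)
    obtain ⟨c4⟩ := Groth.L10.RelCan.nonempty_refPowZ_tensorPow hU 1
    obtain ⟨c5⟩ := Groth.L10.RelCan.nonempty_refPowZ_congr
      (c3.symm ≪≫ c4 ≪≫ Groth.L00.Tensor.tensorPowOne (ω.restrict U.ι)) m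
    cases m with
    | ofNat n =>
      exact Groth.L10.RelCan.invertibleAt_ddual_of_restrict_iso f hS U (hpow ω1 hω1c n) (hpow ω hωc n) y hcod
        (c1.symm ≪≫ c5.symm ≪≫ c2) h1m
    | negSucc n =>
      exact Groth.L10.RelCan.invertibleAt_ddual_of_restrict_iso f hS U
        (hpow _ (Groth.L15.Ref.isCoh_dual hω1c) (n + 1)) (hpow _ (Groth.L15.Ref.isCoh_dual hωc) (n + 1)) y hcod
        (c1.symm ≪≫ c5.symm ≪≫ c2) h1m
  obtain ⟨τ⟩ := Groth.L10.RelCan.exists_stalk_equiv_of_invertibleAt hm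
  exact Groth.L10.RelCan.relSkAt_of_stalkEquiv f Groth.L16.CohClosedPush.isCoh_structure
    (Groth.L10.RelCan.isCoh_refPowZ hωc m) (τ.trans (Groth.L15.Ref.strE y))
    (Groth.L10.RelCan.relSkAt_of_isInvertible f 2 hS (fun z => ⟨⊤, trivial, ⟨Scheme.Modules.restrictUnitIso _⟩⟩) y)

end Groth.Agent.S19838
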