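import Groth.Statements.S19842
import Groth.Agent.L10.RelCan.ArtinCriteria

set_option autoImplicit false
set_option linter.style.haveILetI false
set_option linter.unusedVariables false
set_option maxHeartbeats 1600000
set_option maxSynthPendingDepth 4
set_option backward.defeqAttrib.useBackward true
set_option backward.isDefEq.respectTransparency.types false
set_option backward.isDefEq.respectTransparency false
set_option backward.defeqAttrib.useBackward true
set_option backward.isDefEq.respectTransparency false
universe u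
open QGor

namespace Groth.Agent.S19842

open CategoryTheory AlgebraicGeometry in
/-- (iii) ⇔ (iv): in the same situation — Y → Spec A a proper S₂-morphism to a Noetherian affine base,
of pure relative dimension d, fibres Gorenstein in codimension one, relative canonical sheaf ω
characterised by the d-dualizing property over A, a point y over t with Y_t ℚ-Gorenstein at y
(w.r.t. its canonical sheaf), m > 0 —, the reflexive power ω^{[m]} is invertible at y if and only if
for every Artinian local ring A', every surjective ring map from the local ring A_t onto A', every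
cartesian square Y' → Y over Spec A' → Spec A with projection p, every module ω' with the
d-dualizing property for Y' over A' and every point y' of Y' mapping to y, ω'^{[m]} is invertible at
y'. -/
theorem result
    (A : Type u) [CommRing A] [IsNoetherianRing A] (Y : Scheme.{u}) [Y.Over (Spec (CommRingCat.of A))]
    [IsProper (Y ↘ Spec (CommRingCat.of A))] (d : ℕ)
    (hS : RelCanon.IsSkMor (Y ↘ Spec (CommRingCat.of A)) 2) (hd : Cyc.HasRelDim (Y ↘ Spec (CommRingCat.of A)) d)
    (ω : Y.Modules) (hω : RelCanon.IsDualizingSheaf A Y d ω)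
    (hG : ∀ y : Y, y ∉ RelCanon.gorLocus (Y ↘ Spec (CommRingCat.of A)) →
      (2 : WithBot ℕ∞) ≤ ringKrullDim (((Y ↘ Spec (CommRingCat.of A)).fiber ((Y ↘ Spec (CommRingCat.of A)) y)).presheaf.stalk ((Y ↘ Spec (CommRingCat.of A)).asFiber y)))
    (y : Y) (t : (Spec (CommRingCat.of A))) (ht : (Y ↘ Spec (CommRingCat.of A)) y = t)
    (hQy : ∀ ωt : ((Y ↘ Spec (CommRingCat.of A)).fiber ((Y ↘ Spec (CommRingCat.of A)) y)).Modules, @RelCanon.IsDualizingSheaf ((Spec (CommRingCat.of A)).residueField ((Y ↘ Spec (CommRingCat.of A)) y)) _ ((Y ↘ Spec (CommRingCat.of A)).fiber ((Y ↘ Spec (CommRingCat.of A)) y)) ⟨(Y ↘ Spec (CommRingCat.of A)).fiberToSpecResidueField ((Y ↘ Spec (CommRingCat.of A)) y)⟩ d ωt → RelCanon.IsQGorWithAt ωt ((Y ↘ Spec (CommRingCat.of A)).asFiber y))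
    (m : ℕ) (hm : 0 < m) :
    RelCanon.InvertibleAt (RelCanon.refPowZ ω m) y ↔
    ∀ (A' : Type u) [CommRing A'] [IsArtinianRing A'] [IsLocalRing A']
      (ψ : Localization.AtPrime t.asIdeal →+* A') (hψ : Function.Surjective ψ)
      (Y' : Scheme.{u}) [Y'.Over (Spec (CommRingCat.of A'))] (p : Y' ⟶ Y)
      (hp : IsPullback p (Y' ↘ Spec (CommRingCat.of A')) (Y ↘ Spec (CommRingCat.of A))
        (Spec.map (CommRingCat.ofHom (ψ.comp (algebraMap A (Localization.AtPrime t.asIdeal))))))
      (ω' : Y'.Modules) (hω' : RelCanon.IsDualizingSheaf A' Y' d ω') (y' : Y') (hy' : p y' = y),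
      RelCanon.InvertibleAt (RelCanon.refPowZ ω' m) y' := by
  subst ht
  constructor
  · intro h A' _ _ _ ψ hψ Y' _ p hp ω' hω' y' hy'
    letI : Algebra A A' := (ψ.comp (algebraMap A
      (Localization.AtPrime ((Y ↘ Spec (CommRingCat.of A)) y).asIdeal))).toAlgebra
    exact Groth.L10.RelCan.invertibleAt_refPowZ_pullback hS hd ω hω hG hp ω' hω' m y' (hy' ▸ h)
  · intro h
    let f := Y ↘ Spec (CommRingCat.of A)
    have hR : RelCanon.RelSkAt f 2 (RelCanon.refPowZ ω m) y :=
      Groth.L10.RelCan.relSkAt_of_artinian hS hd ω hω hG m (fun A' _ _ _ _ Y' _ p hp ω' hω' y' hy' hψ => by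
        obtain ⟨ψ, hs, hc⟩ := hψ
        exact Groth.L10.RelCan.skAt_of_invertibleAt_bc hS hd ω hω m hp ω' hω' y'
          (h A' ψ hs Y' p (by rw [hc]; exact hp) ω' hω' y' hy'))
    let t := f y
    let L := Localization.AtPrime t.asIdeal
    let A' := L ⧸ IsLocalRing.maximalIdeal L
    letI : Field A' := Ideal.Quotient.field _
    letI : Algebra A A' := ((Ideal.Quotient.mk (IsLocalRing.maximalIdeal L)).comp (algebraMap A L)).toAlgebra
    let g := Spec.map (CommRingCat.ofHom (algebraMap A A'))
    have hgt : g (IsLocalRing.closedPoint A') = t := by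
      refine PrimeSpectrum.ext ?_
      show (IsLocalRing.maximalIdeal A').comap ((Ideal.Quotient.mk (IsLocalRing.maximalIdeal L)).comp (algebraMap A L)) = t.asIdeal
      rw [← Ideal.comap_comap,
        show (IsLocalRing.maximalIdeal A').comap (Ideal.Quotient.mk (IsLocalRing.maximalIdeal L)) = IsLocalRing.maximalIdeal L from
          IsLocalRing.eq_maximalIdeal (Ideal.comap_isMaximal_of_surjective _ Ideal.Quotient.mk_surjective)]
      exact IsLocalization.AtPrime.under_maximalIdeal L t.asIdeal
    letI : (Limits.pullback f g).Over (Spec (CommRingCat.of A')) := ⟨Limits.pullback.snd f g⟩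
    have hp : IsPullback (Limits.pullback.fst f g) ((Limits.pullback f g) ↘ Spec (CommRingCat.of A')) f g :=
      IsPullback.of_hasPullback f g
    haveI : IsProper ((Limits.pullback f g) ↘ Spec (CommRingCat.of A')) :=
      MorphismProperty.of_isPullback hp (inferInstanceAs (IsProper f))
    haveI := Groth.L10.RelCan.isLeftAdjoint (A := A') (Y := Limits.pullback f g) (d := d)
      (Groth.L22.Cyc.hasRelDim_baseChange hp hd)
    have hω' := Groth.L10.RelCan.isDualizingSheaf_ω₀ A' (Limits.pullback f g) d
    obtain ⟨y', hy', -⟩ :=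
      Scheme.Pullback.exists_preimage_pullback (f := f) (g := g) y (IsLocalRing.closedPoint A') hgt.symm
    have hinv := h A' (Ideal.Quotient.mk (IsLocalRing.maximalIdeal L)) Ideal.Quotient.mk_surjective (Limits.pullback f g) _ hp _ hω' y' hy'
    have key : ∀ z, (Limits.pullback.fst f g) y' = z →
        ∀ ψ : Localization.AtPrime (f z).asIdeal →+* A', Function.Surjective ψ →
        ψ.comp (algebraMap A (Localization.AtPrime (f z).asIdeal)) = algebraMap A A' →
        RelCanon.RelSkAt f 2 (RelCanon.refPowZ ω m) z → RelCanon.InvertibleAt (RelCanon.refPowZ ω m) z := by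
      rintro z rfl ψ hψs hψc hz
      let At := (Spec (CommRingCat.of A)).presheaf.stalk (f ((Limits.pullback.fst f g) y'))
      letI : Algebra A At := (StructureSheaf.toStalk A (f ((Limits.pullback.fst f g) y'))).hom.toAlgebra
      haveI : IsLocalization.AtPrime At (f ((Limits.pullback.fst f g) y')).asIdeal :=
        StructureSheaf.IsLocalization.to_stalk A _
      let ε : At ≃ₐ[A] Localization.AtPrime (f ((Limits.pullback.fst f g) y')).asIdeal :=
        IsLocalization.algEquiv (f ((Limits.pullback.fst f g) y')).asIdeal.primeCompl _ _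
      exact Groth.L10.RelCan.invertibleAt_of_residual hS hd ω hω hG m hp _ hω' y' (ψ.comp ε.toRingEquiv.toRingHom)
        (hψs.comp ε.surjective) ((RingHom.ext fun a => congrArg ψ (ε.commutes a) : (ψ.comp ε.toRingEquiv.toRingHom).comp (algebraMap A At) =
          ψ.comp (algebraMap A (Localization.AtPrime (f ((Limits.pullback.fst f g) y')).asIdeal))).trans hψc)
        (IsLocalRing.eq_maximalIdeal (RingHom.ker_isMaximal_of_surjective _ (hψs.comp ε.surjective))) hz hinv
    exact key y hy' (Ideal.Quotient.mk (IsLocalRing.maximalIdeal L)) Ideal.Quotient.mk_surjective rfl hR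

end Groth.Agent.S19842
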