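import Groth.Statements.S19846
import Groth.Agent.L10.RelCan.ExtFibre
import Groth.Agent.L03.HomDepth

set_option autoImplicit false
set_option linter.style.haveILetI false
set_option linter.unusedVariables false
set_option maxHeartbeats 1600000
set_option maxSynthPendingDepth 4
set_option backward.isDefEq.respectTransparency.types false
set_option backward.defeqAttrib.useBackward true
set_option backward.isDefEq.respectTransparency false
universe u
open QGor

namespace Groth.Agent.S19846

open CategoryTheory AlgebraicGeometry in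
/-- Let Y → Spec A be a proper S₂-morphism to a Noetherian affine base, of pure relative dimension d,
with relative canonical sheaf ω (characterised by the d-dualizing property over A); let Y° be the
relative Gorenstein locus, t a point of Spec A and ω_t a d-dualizing module on the fibre Y_t over
κ(t) (its canonical sheaf), with Y_t ℚ-Gorenstein: Gorenstein in codimension one (local rings of Y_t
of dimension ≥ 2 at points outside Y°) and some ω_t^{[r]}, r > 0, invertible at each point. If for
every m ≥ 1 there is a coherent O_Y-module M_m with M_m ⊗ O_{Y_t} ≅ ω_t^{[m]} and M_m|_{Y°} ≅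
(ω|_{Y°})^{⊗ m}, then for every m ≥ 0 the reflexive power ω^{[m]} satisfies relative S₂ over the
base at every point of Y_t. (The printed conclusion is that the morphism is ℚ-Gorenstein along Y_t;
the printed argument establishes the relative S₂ property for the non-negative powers, which is what
is stated.) -/
theorem result
    (A : Type u) [CommRing A] [IsNoetherianRing A] (Y : Scheme.{u}) [Y.Over (Spec (CommRingCat.of A))]
    [IsProper (Y ↘ Spec (CommRingCat.of A))] (d : ℕ)
    (hS : RelCanon.IsSkMor (Y ↘ Spec (CommRingCat.of A)) 2) (hd : Cyc.HasRelDim (Y ↘ Spec (CommRingCat.of A)) d)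
    (ω : Y.Modules) (hω : RelCanon.IsDualizingSheaf A Y d ω)
    (Yo : Y.Opens) (hYo : (Yo : Set Y) = RelCanon.gorLocus (Y ↘ Spec (CommRingCat.of A)))
    (t : (Spec (CommRingCat.of A))) (ωt : ((Y ↘ Spec (CommRingCat.of A)).fiber t).Modules) (hωt : @RelCanon.IsDualizingSheaf ((Spec (CommRingCat.of A)).residueField t) _ ((Y ↘ Spec (CommRingCat.of A)).fiber t) ⟨(Y ↘ Spec (CommRingCat.of A)).fiberToSpecResidueField t⟩ d ωt)
    (hG1 : ∀ y : Y, (Y ↘ Spec (CommRingCat.of A)) y = t → y ∉ Yo → (2 : WithBot ℕ∞) ≤ ringKrullDim (((Y ↘ Spec (CommRingCat.of A)).fiber ((Y ↘ Spec (CommRingCat.of A)) y)).presheaf.stalk ((Y ↘ Spec (CommRingCat.of A)).asFiber y)))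
    (hQ : RelCanon.IsQGorWith ωt)
    (M : ℕ → Y.Modules) (hMc : ∀ m : ℕ, 1 ≤ m → Coh.IsCoh (M m))
    (hMt : ∀ m : ℕ, 1 ≤ m →
      Nonempty ((Scheme.Modules.pullback ((Y ↘ Spec (CommRingCat.of A)).fiberι t)).obj (M m) ≅ RelCanon.refPowZ ωt m))
    (hMo : ∀ m : ℕ, 1 ≤ m → Nonempty ((M m).restrict Yo.ι ≅ CohB1.tensorPow (ω.restrict Yo.ι) m)) :
    ∀ (m : ℕ) (y : Y), (Y ↘ Spec (CommRingCat.of A)) y = t → RelCanon.RelSkAt (Y ↘ Spec (CommRingCat.of A)) 2 (RelCanon.refPowZ ω m) y := by
  intro m y hy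
  subst hy
  let f := Y ↘ Spec (CommRingCat.of A)
  haveI := hS.1
  haveI : IsLocallyNoetherian Y := LocallyOfFiniteType.isLocallyNoetherian f
  haveI : CompactSpace Y := QuasiCompact.compactSpace_of_compactSpace f
  haveI : IsNoetherian Y := {}
  haveI : LocallyOfFiniteType (f.fiberToSpecResidueField (f y)) :=
    MorphismProperty.pullback_snd f ((Spec (CommRingCat.of A)).fromSpecResidueField (f y)) inferInstance
  haveI : IsLocallyNoetherian (f.fiber (f y)) :=
    LocallyOfFiniteType.isLocallyNoetherian (f.fiberToSpecResidueField (f y))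
  have hωc : Coh.IsCoh ω := (Groth.L10.RelCan.isCoh_and_nontrivial d hd ω hω).1
  have hYo' : Yo = Groth.L10.RelCan.gorOpen A Y := TopologicalSpace.Opens.ext hYo
  have hωU : PicF.IsInvertible (ω.restrict Yo.ι) :=
    hYo' ▸ Groth.L10.RelCan.isInvertible_omega_gorOpen hd ω hω
  have hmem : ∀ z : Y, z ∈ Yo ↔ z ∈ RelCanon.gorLocus f := fun z => Set.ext_iff.1 hYo z
  have hdim : ∀ z, z ⤳ y → f z = f y → z ∉ RelCanon.gorLocus f →
      (2 : WithBot ℕ∞) ≤ ringKrullDim ((f.fiber (f z)).presheaf.stalk (f.asFiber z)) :=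
    fun z _ hz hg => hG1 z hz fun h => hg ((hmem z).1 h)
  have hS2 : RelCanon.SkAt 2 ((Scheme.Modules.pullback (f.fiberι (f y))).obj (Coh.structureModule Y)) (f.asFiber y) :=
    Groth.L10.RelCan.skAt_of_iso (Groth.L29.LocFree.pullbackUnitIso _).symm (hS.2.2 y)
  obtain ⟨P, hPc, ⟨eP⟩, hP2⟩ : ∃ P : Y.Modules, Coh.IsCoh P ∧
      Nonempty (P.restrict Yo.ι ≅ CohB1.tensorPow (ω.restrict Yo.ι) m) ∧
      RelCanon.SkAt 2 ((Scheme.Modules.pullback (f.fiberι (f y))).obj P) (f.asFiber y) := by
    cases m with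
    | zero =>
      exact ⟨Coh.structureModule Y, Groth.L16.CohClosedPush.isCoh_structure,
        ⟨Scheme.Modules.restrictUnitIso _⟩, hS2⟩
    | succ n =>
      obtain ⟨e⟩ := hMt (n + 1) n.succ_pos
      refine ⟨M (n + 1), hMc _ n.succ_pos, hMo _ n.succ_pos, Groth.L10.RelCan.skAt_of_iso e.symm ?_⟩
      have hpow : ∀ (G : (f.fiber (f y)).Modules), Coh.IsCoh G → ∀ k, Coh.IsCoh (CohB1.tensorPow G k) := fun G hG k => by
        induction k with
        | zero => exact Groth.L16.CohClosedPush.isCoh_structure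
        | succ k ih => exact Groth.L15.Ref.isCoh_tensorMod ih hG
      let Z := f.fiber (f y)
      let v := f.asFiber y
      letI : Z.Over (Spec (CommRingCat.of ((Spec (CommRingCat.of A)).residueField (f y)))) :=
        ⟨f.fiberToSpecResidueField (f y)⟩
      haveI : IsProper (Z ↘ Spec (CommRingCat.of ((Spec (CommRingCat.of A)).residueField (f y)))) :=
        MorphismProperty.pullback_snd f ((Spec (CommRingCat.of A)).fromSpecResidueField (f y)) inferInstance
      let k := (Spec (CommRingCat.of A)).residueField (f y)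
      letI : Algebra A k := (Spec.preimage ((Spec (CommRingCat.of A)).fromSpecResidueField (f y))).hom.toAlgebra
      have hp : IsPullback (f.fiberι (f y)) (Z ↘ Spec (CommRingCat.of k)) f
          (Spec.map (CommRingCat.ofHom (algebraMap A k))) := by
        rw [show Spec.map (CommRingCat.ofHom (algebraMap A k)) = (Spec (CommRingCat.of A)).fromSpecResidueField (f y) from
          Spec.map_preimage _]
        exact IsPullback.of_hasPullback _ _
      have hωtc : Coh.IsCoh ωt :=
        (Groth.L10.RelCan.isCoh_and_nontrivial d (Groth.L22.Cyc.hasRelDim_baseChange hp hd) ωt hωt).1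
      have hT : Coh.IsCoh (CohB1.tensorPow ωt (n + 1)) := hpow _ hωtc _
      haveI : Module.Finite (Z.presheaf.stalk v) ((Groth.L00.Stk.F Z v).obj (RefHull.dual (CohB1.tensorPow ωt (n + 1)))) :=
        Groth.L06.SupportStalk.finite_stalk _ (Groth.L15.Ref.isCoh_dual hT) v
      haveI : Module.Finite (Z.presheaf.stalk v) ((Groth.L00.Stk.F Z v).obj (Coh.structureModule Z)) :=
        Groth.L06.SupportStalk.finite_stalk _ Groth.L16.CohClosedPush.isCoh_structure v
      have h1 : LocCoh.HasSk 2 (Z.presheaf.stalk v) (Z.presheaf.stalk v) :=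
        Groth.L10.RelCan.hasSk_congr (M := (Groth.L00.Stk.F Z v).obj (Coh.structureModule Z))
          (Groth.L15.Ref.strE v).symm (hS.2.2 y)
      haveI : Module.Finite (Z.presheaf.stalk v)
          ((Groth.L00.Stk.F Z v).obj (RefHull.dual (RefHull.dual (CohB1.tensorPow ωt (n + 1))))) :=
        Groth.L06.SupportStalk.finite_stalk _ (Groth.L15.Ref.isCoh_dual (Groth.L15.Ref.isCoh_dual hT)) v
      haveI : Module.Finite (Z.presheaf.stalk v)
          ((Groth.L00.Stk.F Z v).obj (RefHull.dual (CohB1.tensorPow ωt (n + 1))) →ₗ[Z.presheaf.stalk v]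
            Z.presheaf.stalk v) :=
        Module.Finite.equiv (Groth.L10.RelCan.dualStalk (Groth.L15.Ref.isCoh_dual hT) v)
      exact Groth.L10.RelCan.hasSk_congr
        (Groth.L10.RelCan.dualStalk (Groth.L15.Ref.isCoh_dual hT) v).symm
        (Groth.L03.HomDepth.hasSk_hom _ _ 2 le_rfl h1)
  have hinv : ∀ (G : Y.Modules), Coh.IsCoh G → PicF.IsInvertible (G.restrict Yo.ι) →
      ∀ z, z ∈ RelCanon.gorLocus f → RelCanon.InvertibleAt G z := fun G hG hi z hz =>
    Groth.L10.RelCan.invertibleAt_of_pullback Yo.ι hG ⟨z, (hmem z).2 hz⟩ (by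
      exact (RelCanon.isInvertible_iff_invertibleAt _).1
        (Groth.L18.Ample.isInvertible_of_iso ((Scheme.Modules.restrictFunctorIsoPullback Yo.ι).app G) hi)
        ⟨z, (hmem z).2 hz⟩)
  have hPU : PicF.IsInvertible (P.restrict Yo.ι) :=
    Groth.L18.Ample.isInvertible_of_iso eP.symm (Groth.L18.Ample.isInvertible_tensorPow hωU m)
  have hpowY : ∀ n, Coh.IsCoh (CohB1.tensorPow ω n) := fun n => by
    induction n with
    | zero => exact Groth.L16.CohClosedPush.isCoh_structure
    | succ n ih => exact Groth.L15.Ref.isCoh_tensorMod ih hωc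
  have key := Groth.L10.RelCan.relSkAt_ddual_of_fibre f hS hPc y (hinv P hPc hPU)
    (hinv _ (Groth.L15.Ref.isCoh_dual hPc) (Groth.L18.Ample.isInvertible_of_iso (Groth.L10.RelCan.dualRestrict Yo.ι P)
      (Groth.L10.RelCan.isInvertible_dual hPU))) hdim hP2
  show RelCanon.RelSkAt f 2 (RefHull.ddual (CohB1.tensorPow ω m)) y
  exact Groth.L10.RelCan.relSkAt_of_restrict_iso f hS Yo hPc (hpowY m) y
    (fun z h1 h2 h3 => hdim z h1 h2 fun h => h3 ((hmem z).2 h))
    ((Groth.L10.RelCan.ddualRestrict Yo.ι _).symm ≪≫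
      RefFun.ddualIso ((Groth.L00.Tensor.tensorPowRestrict Yo.ι ω m).symm ≪≫ eP.symm) ≪≫
      Groth.L10.RelCan.ddualRestrict Yo.ι P) key

end Groth.Agent.S19846
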