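import Groth.Statements.S19849
import Groth.Agent.L15.Hyper.Finite
import Groth.Agent.L15.Ref.ExtPow
-- import your own Groth.Agent.* helpers here

set_option autoImplicit false
universe u
open DeRhamSh

namespace Groth.Agent.S19849

open CategoryTheory AlgebraicGeometry TopologicalSpace in
/-- Let A be a Noetherian ring and f : X → Spec A a proper morphism; let D be a de Rham complex of the
sheaf of differentials of f whose differentials are A-linear for the action of A through f. Then for
every integer i the algebraic de Rham cohomology H^i_dR(X/A) = H^i(X, D), as an A-module, is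
finitely generated. (The A-linearity of the differentials holds for the de Rham complex and is
carried as a hypothesis because the complex is given by its characterising data.) -/
theorem result (A : Type u) [CommRing A] [IsNoetherianRing A] (X : Scheme.{u})
    (f : X ⟶ Spec (CommRingCat.of A)) [IsProper f]
    (D : DeRhamSh.OmegaCx f)
    (h : KLinDR.TermwiseLinear (Coh.toGlobal f) D.K D.term D.iso)
    [HasDerivedCategory.{u} (Sheaf (Opens.grothendieckTopology X) AddCommGrpCat.{u})] (i : ℤ) :
    Module.Finite A (KLinDR.HdR (Coh.toGlobal f) D h i) := by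
  haveI : CompactSpace X := QuasiCompact.compactSpace_of_compactSpace f
  have key : ∀ x : X, ∃ (U : X.Opens) (N : ℕ), IsAffineOpen U ∧ x ∈ U ∧
      ∀ p, N < p → Subsingleton ↥(⋀[Γ(X, U)]^p Γ(Omega.sheaf f, U)) := fun x => by
    obtain ⟨U, hU, hxU, -⟩ := exists_isAffineOpen_mem_and_subset (x := x) (U := ⊤) trivial
    have hV := isAffineOpen_top (Spec (CommRingCat.of A))
    have e : U ≤ f ⁻¹ᵁ (⊤ : (Spec (CommRingCat.of A)).Opens) := fun y _ => trivial
    letI : Algebra Γ(Spec (CommRingCat.of A), ⊤) Γ(X, U) := (f.appLE ⊤ U e).hom.toAlgebra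
    haveI : Algebra.FiniteType Γ(Spec (CommRingCat.of A), ⊤) Γ(X, U) :=
      RingHom.finiteType_algebraMap.mp (f.finiteType_appLE hV hU e)
    obtain ⟨E⟩ := Groth.L15.OmegaCoh.exists_sections_equiv f hU hV e
    haveI : Module.Finite Γ(X, U) Ω[Γ(X, U)⁄Γ(Spec (CommRingCat.of A), ⊤)] := inferInstance
    haveI := Module.Finite.equiv E
    obtain ⟨N, g, hg⟩ := Module.Finite.exists_fin' Γ(X, U) Γ(Omega.sheaf f, U)
    exact ⟨U, N, hU, hxU, fun p hp => Groth.L15.Hyper.subsingleton_extPow_of_surjective g hg hp⟩
  choose U N hU hx hs using key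
  obtain ⟨t, ht⟩ := isCompact_univ.elim_finite_subcover (fun x : X => (U x : Set X)) (fun x => (U x).isOpen)
    (fun x _ => Set.mem_iUnion.2 ⟨x, hx x⟩)
  have hN : ∀ p, t.sup N < p → CategoryTheory.Limits.IsZero (D.K.X p) := fun p hp =>
    Groth.L15.Hyper.isZero_K_of_isZero_term D p
      (haveI := LocallyOfFiniteType.isLocallyNoetherian f; Groth.L15.Hyper.isZero_term D (Groth.L15.OmegaCoh.isCoh_omega f) p fun x => by
        obtain ⟨y, hy, hxy⟩ := Set.mem_iUnion₂.1 (ht (Set.mem_univ x))
        exact ⟨U y, hU y, hxy, hs y p (lt_of_le_of_lt (Finset.le_sup hy) hp)⟩)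
  refine Groth.L15.Hyper.finite_HT_terms h hN i fun p q => ?_
  letI : X.Over (Spec (CommRingCat.of A)) := ⟨f⟩
  haveI : IsProper (X ↘ Spec (CommRingCat.of A)) := (inferInstance : IsProper f)
  haveI : IsLocallyNoetherian X := LocallyOfFiniteType.isLocallyNoetherian f
  exact Groth.L16.ProperFinite.finite_HH A (Groth.L15.Ref.isCoh_extPow (Groth.L15.OmegaCoh.isCoh_omega f) (D.isExtPow p)) q

end Groth.Agent.S19849
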