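import Groth.Statements.S19856
import Mathlib.RingTheory.DiscreteValuationRing.Basic
import Mathlib.RingTheory.LocalRing.ResidueField.Basic
import Mathlib.Algebra.Ring.Action.Basic
import Mathlib.RingTheory.IntegralDomain
import Mathlib.RingTheory.Filtration
import Mathlib.GroupTheory.OrderOfElement

set_option autoImplicit false
universe u v
open CAlg

namespace Groth.Agent.S19856

/-- Ring-level form: let O be a discrete valuation ring and G a finite group acting faithfully on O by
ring automorphisms, such that every element of G acts trivially on the residue field of O (that is,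
g • a - a lies in the maximal ideal for all a) and such that the order of G is nonzero in the
residue field of O. Then G is cyclic. (The source states this for a finite group of order invertible
in an algebraically closed field k acting faithfully on a smooth connected k-variety and the
subgroup of elements fixing pointwise a codimension-one irreducible component of the ramification
locus, applied to the local ring at the generic point of that component; it is stated here for an
arbitrary discrete valuation ring with a faithful action. The source also shows that this subgroup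
is nontrivial; that geometric part is not stated.) -/
theorem result
    (O : Type u) [CommRing O] [IsDomain O] [IsDiscreteValuationRing O]
    (G : Type v) [Group G] [Finite G] [MulSemiringAction G O] [FaithfulSMul G O]
    (htriv : ∀ (g : G) (a : O), g • a - a ∈ IsLocalRing.maximalIdeal O)
    (hcard : ((Nat.card G : ℕ) : IsLocalRing.ResidueField O) ≠ 0) :
    IsCyclic G := by
  classical
  set m := IsLocalRing.maximalIdeal O
  obtain ⟨π, hπ⟩ := IsDiscreteValuationRing.exists_irreducible O
  have hmax : m = Ideal.span {π} := hπ.maximalIdeal_eq
  have hπm : π ∈ m := hmax ▸ Ideal.mem_span_singleton_self π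
  have hdiv : ∀ g : G, ∃ c : O, g • π = c * π := fun g => by
    have : g • π ∈ m := by simpa using m.add_mem (htriv g π) hπm
    rw [hmax, Ideal.mem_span_singleton] at this
    obtain ⟨c, hc⟩ := this
    exact ⟨c, by rw [hc, mul_comm]⟩
  choose c hc using hdiv
  have hres : ∀ (g : G) (a : O), IsLocalRing.residue O (g • a) = IsLocalRing.residue O a := fun g a =>
    sub_eq_zero.mp (by rw [← map_sub, IsLocalRing.residue_eq_zero_iff]; exact htriv g a)
  let θ : G →* IsLocalRing.ResidueField O :=
    { toFun := fun g => IsLocalRing.residue O (c g)
      map_one' := by
        have : c 1 = 1 := mul_right_cancel₀ hπ.ne_zero (by rw [← hc, one_smul, one_mul])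
        rw [this, map_one]
      map_mul' := fun g h => by
        have : c (g * h) = (g • c h) * c g := mul_right_cancel₀ hπ.ne_zero (by rw [← hc, mul_smul, hc h, smul_mul', hc g, mul_assoc])
        rw [this, map_mul, hres, mul_comm] }
  refine isCyclic_of_injective_ringHom θ ((injective_iff_map_eq_one θ).mpr fun g hg => ?_)
  -- an element with trivial character acts trivially
  have hgm : ∀ a ∈ m, g • a - a ∈ m ^ 2 := fun a ha => by
    rw [hmax, Ideal.mem_span_singleton] at ha
    obtain ⟨u, rfl⟩ := ha
    have hc1 : c g - 1 ∈ m := by
      rw [← IsLocalRing.residue_eq_zero_iff, map_sub, map_one, sub_eq_zero]; exact hg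
    rw [smul_mul', hc g, show c g * π * (g • u) - π * u = π * ((c g - 1) * (g • u) + (g • u - u)) by ring, pow_two]
    exact Ideal.mul_mem_mul hπm (m.add_mem (m.mul_mem_right _ hc1) (htriv g u))
  have hstab : ∀ n : ℕ, ∀ x ∈ m ^ n, g • x - x ∈ m ^ (n + 1) := by
    intro n
    induction n with
    | zero => intro x _; simpa using htriv g x
    | succ n ih =>
      intro x hx
      rw [pow_succ] at hx
      refine Submodule.mul_induction_on hx (fun a ha b hb => ?_) (fun a b ha hb => ?_)
      · rw [smul_mul', show (g • a) * (g • b) - a * b = (g • a - a) * (g • b) + a * (g • b - b) by ring]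
        have hgb : g • b ∈ m := by simpa using m.add_mem (htriv g b) hb
        refine Ideal.add_mem _ (by rw [pow_succ (n := n + 1)]; exact Ideal.mul_mem_mul (ih a ha) hgb) ?_
        rw [show n + 1 + 1 = n + 2 by omega, pow_add]
        exact Ideal.mul_mem_mul ha (hgm b hb)
      · rw [smul_add, add_sub_add_comm]; exact Ideal.add_mem _ ha hb
  have hdeep : ∀ n : ℕ, ∀ a : O, g • a - a ∈ m ^ n := by
    intro n
    induction n with
    | zero => intro a; simp
    | succ n ih =>
      intro a
      let d := g • a - a
      have hi : ∀ i : ℕ, (g ^ i) • a - a - (i : O) * d ∈ m ^ (n + 1) := by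
        intro i
        induction i with
        | zero => simp
        | succ i hi =>
          have hd : ∀ j : ℕ, (g ^ j) • d - d ∈ m ^ (n + 1) := by
            intro j
            induction j with
            | zero => simp
            | succ j hj =>
              have hdm : (g ^ j) • d ∈ m ^ n := by
                have := (m ^ n).add_mem (Ideal.pow_le_pow_right (Nat.le_succ n) hj) (ih a)
                simpa [d] using this
              have := (m ^ (n + 1)).add_mem (hstab n _ hdm) hj
              rw [pow_succ' g j, mul_smul]
              simpa using this
          have heq : (g ^ (i + 1)) • a - a - ((i + 1 : ℕ) : O) * d = ((g ^ i) • a - a - (i : O) * d) + ((g ^ i) • d - d) := by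
            simp only [d, smul_sub, ← mul_smul, ← pow_succ]
            push_cast
            ring
          rw [heq]
          exact Ideal.add_mem _ hi (hd i)
      have hN := hi (Nat.card G)
      rw [pow_card_eq_one', one_smul, sub_self, zero_sub, neg_mem_iff] at hN
      have hu : IsUnit ((Nat.card G : ℕ) : O) :=
        IsLocalRing.residue_ne_zero_iff_isUnit _ |>.mp (by rw [map_natCast]; exact hcard)
      obtain ⟨u, hu⟩ := hu.exists_left_inv
      have := (m ^ (n + 1)).mul_mem_left u hN
      rwa [← mul_assoc, hu, one_mul] at this
  refine FaithfulSMul.eq_of_smul_eq_smul (α := O) fun a => ?_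
  rw [one_smul]
  have h0 : g • a - a ∈ ⨅ n : ℕ, m ^ n := Submodule.mem_iInf _ |>.mpr fun n => hdeep n a
  rw [Ideal.iInf_pow_eq_bot_of_isLocalRing _ (IsLocalRing.maximalIdeal.isMaximal O).ne_top] at h0
  exact sub_eq_zero.mp h0

end Groth.Agent.S19856
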