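import Groth.Statements.S19857
import Groth.Agent.S8660
import Groth.Agent.L07.SyntMor
import Groth.Agent.L07.RegImmLocal
import Groth.Agent.L23.SchemeFacts

set_option autoImplicit false
set_option backward.isDefEq.respectTransparency.types false
set_option backward.isDefEq.respectTransparency false
set_option linter.style.haveILetI false
universe u
open Synt

namespace Groth.Agent.S19857

open CategoryTheory AlgebraicGeometry in
/-- Let S be a scheme, p : X ⟶ S and q : Y ⟶ S smooth morphisms and f : X ⟶ Y a morphism over S (f ≫ q =
p) which is flat. Then f is syntomic (affine-locally given by flat ring maps of finite presentation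
whose fibres are local complete intersections). -/
theorem result {X Y S : Scheme.{u}}
    (p : X ⟶ S) (q : Y ⟶ S) [Smooth p] [Smooth q] (f : X ⟶ Y) (hf : f ≫ q = p) [Flat f] :
    Synt.IsSyntomicMor f := by
  subst hf
  haveI : LocallyOfFinitePresentation (f ≫ q) := inferInstance
  haveI : LocallyOfFinitePresentation f := Groth.L23.lfp_of_comp_lft f q inferInstance
  have hp := (Groth.Agent.S8660.result (f ≫ q)).mpr (Groth.L07.SyntMor.isCIMorphism_of_smooth (f ≫ q))
  exact (Groth.L07.SyntScheme.isSyntomicMor_iff f).mpr ((Groth.Agent.S8660.result f).mp
    fun x => Groth.L07.RegImmAt.isKoszulAt_of_comp_smooth f q x (hp x))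

end Groth.Agent.S19857
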