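import Groth.Statements.S19858
import Groth.Agent.L06.NormalTensorApps
import Groth.Agent.L06.FibreComp

set_option autoImplicit false
set_option maxSynthPendingDepth 3
set_option linter.style.haveILetI false
universe u
open EGA4 TensorProduct

namespace Groth.Agent.S19858

/-- Let A → B → C be homomorphisms of Noetherian rings such that C is faithfully flat over B and the
composite A → C is a normal homomorphism (flat, with geometrically normal fibres). Then A → B is a
normal homomorphism. (In the source C is the adic completion of A along an ideal and A → C is
assumed normal; only the faithful flatness of B → C and the normality of A → C enter, so C is an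
arbitrary Noetherian ring here.) -/
theorem result (A B C : Type u)
    [CommRing A] [CommRing B] [CommRing C] [IsNoetherianRing A] [IsNoetherianRing B] [IsNoetherianRing C]
    [Algebra A B] [Algebra B C] [Algebra A C] [IsScalarTower A B C] [Module.FaithfullyFlat B C]
    (hAC : EGA4.IsNormalHom A C) : EGA4.IsNormalHom A B := by
  refine ⟨?_, fun p _ L _ _ hfin => ?_⟩
  · haveI := hAC.1
    exact Groth.L06.FibreComp.flat_of_comp A B C
  · letI : Algebra A L := ((algebraMap p.ResidueField L).comp (algebraMap A p.ResidueField)).toAlgebra
    haveI : IsScalarTower A p.ResidueField L := IsScalarTower.of_algebraMap_eq fun _ => rfl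
    have hC : EGA4.IsNormalRing (C ⊗[A] L) := Groth.L06.NormalAscent.isNormalRing_of_ringEquiv
      ((Algebra.TensorProduct.cancelBaseChange A p.ResidueField L L C).toRingEquiv.trans
        (Algebra.TensorProduct.comm A L C).toRingEquiv) (hAC.2 p L hfin)
    have hX : EGA4.IsNormalRing ((B ⊗[A] L) ⊗[B] C) := Groth.L06.NormalAscent.isNormalRing_of_ringEquiv
      ((Algebra.TensorProduct.comm B (B ⊗[A] L) C).toRingEquiv.trans
        (Algebra.TensorProduct.cancelBaseChange A B C C L).toRingEquiv).symm hC
    have hB : EGA4.IsNormalRing (B ⊗[A] L) := Groth.L06.NormalAscent.isNormalRing_of_faithfullyFlat hX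
    exact Groth.L06.NormalAscent.isNormalRing_of_ringEquiv
      ((Algebra.TensorProduct.cancelBaseChange A p.ResidueField L L B).toRingEquiv.trans
        (Algebra.TensorProduct.comm A L B).toRingEquiv).symm hB

end Groth.Agent.S19858
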