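import Groth.Statements.S19860
import Groth.Agent.L17.Strat.GenFibre

set_option autoImplicit false
universe u
open CategoryTheory CategoryTheory.Limits AlgebraicGeometry
open Variety

namespace Groth.Agent.S19860

/-- Let A be a Noetherian local integral domain, f : X ⟶ Spec A a proper morphism, L an invertible
O_X-module ample relative to f and F a coherent O_X-module. Then F is flat over Spec A if and only
if the Hilbert polynomials of F on the generic fibre and on the closed fibre coincide: for every n ≥
0 the Euler characteristic, over the fraction field, of the pullback of F ⊗ L^{⊗n} to the fibre over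
the generic point equals the Euler characteristic, over the residue field, of its pullback to the
fibre over the closed point. (The source works with k-schemes of finite type over an algebraically
closed field of characteristic zero, A a local integral k-algebra and f projective with a relatively
very ample O(1); the argument uses only that A is a Noetherian local domain and that some power of L
is relatively very ample, so it is stated here for proper f with an f-ample L and no base field.) -/
theorem result
    (A : Type u) [CommRing A] [IsDomain A] [IsNoetherianRing A] [IsLocalRing A]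
    (X : Scheme.{u}) (f : X ⟶ Spec (CommRingCat.of A)) [IsProper f]
    (L : X.Modules) (hL : RelAmple.IsRelAmple f L) (F : X.Modules) (hF : Coh.IsCoh F) :
    FlatMod.IsFlatOver f F ↔
      ∀ n : ℕ,
        @Curv2.euler ((Spec (CommRingCat.of A)).residueField (⊥ : PrimeSpectrum A)) _ (f.fiber (⊥ : PrimeSpectrum A))
          ⟨f.fiberToSpecResidueField (⊥ : PrimeSpectrum A)⟩
          ((Scheme.Modules.pullback (f.fiberι (⊥ : PrimeSpectrum A))).obj (CohB1.tensorMod F (CohB1.tensorPow L n))) =
        @Curv2.euler ((Spec (CommRingCat.of A)).residueField (IsLocalRing.closedPoint A)) _ (f.fiber (IsLocalRing.closedPoint A))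
          ⟨f.fiberToSpecResidueField (IsLocalRing.closedPoint A)⟩
          ((Scheme.Modules.pullback (f.fiberι (IsLocalRing.closedPoint A))).obj (CohB1.tensorMod F (CohB1.tensorPow L n))) := by
  have hLi := Groth.L17.Strat.isInvertible_of_isRelAmple hL
  constructor
  · intro hfl n
    obtain ⟨U, hU, h⟩ := Groth.L17.Strat.fib_locallyConstant_of_flat f L F hLi hF hL hfl (IsLocalRing.closedPoint A)
    exact h _ (((PrimeSpectrum.le_iff_specializes ⊥ (IsLocalRing.closedPoint A)).1 bot_le).mem_open U.2 hU) n
  · intro h
    obtain ⟨N, hN⟩ := Groth.L17.Strat.exists_fib_eq_rk_uniform f L F hLi hF hL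
    refine Groth.L17.Strat.isFlatOver_of_fib f L F hLi hF hL fun s => ⟨⊤, trivial, fun s' _ n => ?_⟩
    refine Groth.L17.Strat.fib_eq_of_eventually f L F hLi hF N (fun m hm => ?_) n
    have key : ∀ t : PrimeSpectrum A, Groth.L17.Strat.rk (Groth.L17.Strat.Mn f L F m) t =
        Groth.L17.Strat.rk (Groth.L17.Strat.Mn f L F m) (IsLocalRing.closedPoint A) := by
      intro t
      have hM := Groth.L17.Strat.isCoh_Mn f L F hLi hF m
      have h1 : Groth.L17.Strat.rk (Groth.L17.Strat.Mn f L F m) t ≤
          Groth.L17.Strat.rk (Groth.L17.Strat.Mn f L F m) (IsLocalRing.closedPoint A) :=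
        (IsLocalRing.specializes_closedPoint t).mem_open (Groth.L17.Strat.isOpen_rk_le hM _) (le_refl (Groth.L17.Strat.rk (Groth.L17.Strat.Mn f L F m) _))
      have h2 : Groth.L17.Strat.rk (Groth.L17.Strat.Mn f L F m) (⊥ : PrimeSpectrum A) ≤
          Groth.L17.Strat.rk (Groth.L17.Strat.Mn f L F m) t :=
        ((PrimeSpectrum.le_iff_specializes ⊥ t).1 bot_le).mem_open (Groth.L17.Strat.isOpen_rk_le hM _) (le_refl (Groth.L17.Strat.rk (Groth.L17.Strat.Mn f L F m) _))
      have h3 := h m
      replace h3 : (Groth.L17.Strat.rk (Groth.L17.Strat.Mn f L F m) (⊥ : PrimeSpectrum A) : ℤ) =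
          Groth.L17.Strat.rk (Groth.L17.Strat.Mn f L F m) (IsLocalRing.closedPoint A) := by
        rw [← hN m hm, ← hN m hm]; exact h3
      omega
    rw [hN m hm, hN m hm, key s', key s]

end Groth.Agent.S19860
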