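import Groth.Statements.S19863
import Groth.Agent.L06.RegularTensor
import Groth.Agent.S0543
import Mathlib.RingTheory.AdicCompletion.LocalRing
import Mathlib.RingTheory.AdicCompletion.AsTensorProduct
import Mathlib.RingTheory.Ideal.GoingDown
import Mathlib.RingTheory.Localization.LocalizationLocalization

set_option autoImplicit false
set_option linter.style.haveILetI false
universe u
open EGA4

namespace Groth.Agent.S19863

/-- Let A be a Noetherian ring, J a proper ideal of A, Â the J-adic completion and A_T the localization
of A at T = 1 + J. If the canonical map A → Â is a regular homomorphism (flat, with Noetherian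
geometrically regular fibres), then A_T is a regular ring if and only if Â is a regular ring
(Noetherian, with regular local rings at all primes). (The cases of the henselization of the pair
and of the weak completion are not stated here.) -/
theorem result
    (A : Type u) [CommRing A] [IsNoetherianRing A] (J : Ideal A) (hJ : J ≠ ⊤)
    (hf : CAlg.IsRegularHom A (AdicCompletion J A))
    (T : Submonoid A) (hT : T = MonoidHom.mker (Ideal.Quotient.mk J)) :
    IsRegularRing (Localization T) ↔ IsRegularRing (AdicCompletion J A) := by
  subst hT
  set φ := algebraMap A (AdicCompletion J A) with hφ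
  haveI : IsNoetherianRing (AdicCompletion J A) := Groth.Agent.S0543.result A J
  haveI := hf.1
  have hJfg : J.FG := IsNoetherian.noetherian J
  have hmem : ∀ x : A, x ∈ MonoidHom.mker (Ideal.Quotient.mk J) ↔ x - 1 ∈ J := fun x => by
    rw [MonoidHom.mem_mker, ← (Ideal.Quotient.mk J).map_one]
    exact Ideal.Quotient.eq
  let T := MonoidHom.mker (Ideal.Quotient.mk J : A →+* A ⧸ J)
  have key : ∀ (q : Ideal (Localization T)) [q.IsPrime],
      Nonempty (Localization.AtPrime q ≃+* Localization.AtPrime (q.comap (algebraMap A (Localization T)))) := by
    intro q _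
    haveI := IsLocalization.isLocalization_isLocalization_atPrime_isLocalization T (Localization.AtPrime q) q
    exact ⟨(IsLocalization.algEquiv (q.comap (algebraMap A (Localization T))).primeCompl
      (Localization.AtPrime q) (Localization.AtPrime (q.comap (algebraMap A (Localization T))))).toRingEquiv⟩
  have hcomap : ∀ (P : Ideal (AdicCompletion J A)) [P.IsPrime], ∃ (q : Ideal (Localization T)) (_ : q.IsPrime),
      q.comap (algebraMap A (Localization T)) = P.comap φ := by
    intro P _
    have hdisj : Disjoint (T : Set A) (P.comap φ : Set A) := by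
      rw [Set.disjoint_left]
      intro t ht htP
      haveI := AdicCompletion.isAdicComplete_self J hJfg
      have hj : φ (t - 1) ∈ Ideal.jacobson ⊥ :=
        IsAdicComplete.le_jacobson_bot _ (Ideal.mem_map_of_mem _ ((hmem t).mp ht))
      have := (Ideal.mem_jacobson_bot.mp hj) 1
      rw [mul_one, map_sub, map_one, sub_add_cancel] at this
      exact Ideal.IsPrime.ne_top' (P.eq_top_of_isUnit_mem htP this)
    exact ⟨_, IsLocalization.isPrime_of_isPrime_disjoint T (Localization T) _ inferInstance hdisj,
      IsLocalization.comap_map_of_isPrime_disjoint T (Localization T) inferInstance hdisj⟩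
  have transp : ∀ (I I' : Ideal A) [I.IsPrime] [I'.IsPrime], I = I' →
      IsRegularLocalRing (Localization.AtPrime I) → IsRegularLocalRing (Localization.AtPrime I') := by
    intro I I' _ _ h; subst h; exact id
  constructor
  · intro h
    haveI : IsRegularRing (Localization T) := h
    refine ⟨fun P _ => Groth.L06.RegularTensor.regular_point_iff hf P ?_⟩
    obtain ⟨q, hq, hqP⟩ := hcomap P
    obtain ⟨e⟩ := key q
    haveI := IsRegularRing.isRegularLocalRing_localization q
    exact transp _ _ hqP (IsRegularLocalRing.of_ringEquiv e)
  · intro h
    haveI : IsRegularRing (AdicCompletion J A) := h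
    refine ⟨fun q _ => ?_⟩
    obtain ⟨e⟩ := key q
    set p := q.comap (algebraMap A (Localization T)) with hp
    have hne : p ⊔ J ≠ ⊤ := by
      intro htop
      obtain ⟨a, ha, j, hj, haj⟩ := Submodule.mem_sup.mp ((Ideal.eq_top_iff_one _).mp htop)
      have haT : a ∈ T := (hmem a).mpr (by rw [← haj, sub_add_cancel_left]; exact J.neg_mem hj)
      exact Ideal.IsPrime.ne_top' (q.eq_top_of_isUnit_mem ha (IsLocalization.map_units (Localization T) ⟨a, haT⟩))
    obtain ⟨m, hm, hle⟩ := Ideal.exists_le_maximal _ hne
    have hP0 := AdicCompletion.isMaximal_map_of_le J m (le_sup_right.trans hle) hJfg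
    have hP0c : (m.map φ).comap φ = m :=
      (hm.eq_of_le (Ideal.comap_ne_top _ hP0.ne_top) Ideal.le_comap_map).symm
    haveI := hm.isPrime
    haveI := hP0.isPrime
    haveI : (m.map φ).LiesOver m := ⟨hP0c.symm⟩
    haveI : Algebra.HasGoingDown A (AdicCompletion J A) := Algebra.HasGoingDown.of_flat
    obtain ⟨P, -, hPp, hPo⟩ := Ideal.exists_ideal_le_liesOver_of_le (q := m) (m.map φ) (p := p) (le_sup_left.trans hle)
    have hreg := Groth.L06.RegularTensor.regular_descend_point (R := A) P
      (IsRegularRing.isRegularLocalRing_localization P)
    have hPo' : p = P.comap φ := hPo.over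
    haveI : IsRegularLocalRing (Localization.AtPrime p) := transp _ _ hPo'.symm hreg
    exact IsRegularLocalRing.of_ringEquiv e.symm

end Groth.Agent.S19863
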