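import Groth.Agent.L10.SheafModGroth
import Mathlib.Algebra.Homology.DerivedCategory.Ext.EnoughInjectives
import Mathlib.Algebra.Homology.DerivedCategory.Ext.ExactSequences
import Groth.Statements.S19865


set_option autoImplicit false
universe w u
open CategoryTheory CategoryTheory.Limits AlgebraicGeometry
open Deform

namespace Groth.Agent.S19865

/-- Every class is an extension class: let k be an algebraically closed field of characteristic zero and
X a projective k-scheme, given with a closed immersion ι into projective n-space over k compatible
with the structure maps; suppose the Ext groups of the abelian category of O_X-modules are w-small.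
Then every element e of Ext^1(Ω_{X/k}, O_X) (Ext in the category of O_X-modules, Ω_{X/k} the module
of differentials of the structure map) is the extension class of some short exact sequence 0 → O_X →
F → Ω_{X/k} → 0 of O_X-modules. (The source states an identification of Ext^1(Ω_X, O_X) with the set
of extensions of Ω_X by O_X; stated here is that every class arises from an extension, the direction
the source proves.) -/
theorem result
    (k : Type u) [Field k] [IsAlgClosed k] [CharZero k]
    (X : Scheme.{u}) [X.Over (Spec (CommRingCat.of k))] [IsProper (X ↘ Spec (CommRingCat.of k))]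
    (n : ℕ) (ι : X ⟶ CohB1.ProjSpace n k) [IsClosedImmersion ι]
    (hι : ι ≫ CohB1.ProjSpace.toSpec n k = X ↘ Spec (CommRingCat.of k))
    [HasExt.{w} X.Modules]
    (e : Abelian.Ext (Omega.sheaf (X ↘ Spec (CommRingCat.of k))) (Coh.structureModule X) 1) :
    ∃ (F : X.Modules) (i : Coh.structureModule X ⟶ F) (p : F ⟶ Omega.sheaf (X ↘ Spec (CommRingCat.of k)))
      (hip : i ≫ p = 0) (hS : (ShortComplex.mk i p hip).ShortExact), hS.extClass = e := by
  haveI : EnoughInjectives X.Modules := by
    haveI := Groth.L10.shMod_isGrothendieckAbelian X.ringCatSheaf
    exact inferInstanceAs (EnoughInjectives (SheafOfModules.{u} X.ringCatSheaf))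
  obtain ⟨J⟩ := EnoughInjectives.presentation (Coh.structureModule X)
  let S : ShortComplex X.Modules := ShortComplex.mk J.f (cokernel.π J.f) (cokernel.condition _)
  have hS : S.ShortExact :=
    { exact := ShortComplex.exact_of_g_is_cokernel _ (cokernelIsCokernel J.f)
      mono_f := J.mono
      epi_g := coequalizer.π_epi }
  haveI : Injective S.X₂ := J.injective
  have h0 : e.comp (Abelian.Ext.mk₀ S.f) (add_zero 1) = 0 :=
    Abelian.Ext.eq_zero_of_injective _
  obtain ⟨x, hx⟩ := Abelian.Ext.covariant_sequence_exact₁ _ hS e h0 (zero_add 1)
  obtain ⟨f, rfl⟩ := (Abelian.Ext.mk₀_bijective _ _).2 x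
  let i : Coh.structureModule X ⟶ pullback S.g f := pullback.lift S.f 0 (by simp [S])
  have hip : i ≫ pullback.snd S.g f = 0 := pullback.lift_snd _ _ _
  haveI : Mono S.f := hS.mono_f
  haveI : Epi S.g := hS.epi_g
  let S' := ShortComplex.mk i (pullback.snd S.g f) hip
  have hm : Mono i := by
    haveI : Mono (i ≫ pullback.fst S.g f) := by rw [pullback.lift_fst]; infer_instance
    exact mono_of_mono i (pullback.fst S.g f)
  have hS' : S'.ShortExact :=
    { exact := by
        haveI : Mono S'.f := hm
        refine ShortComplex.exact_of_f_is_kernel _ (KernelFork.IsLimit.ofι' S'.f S'.zero fun {W} k hk => ?_)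
        refine ⟨hS.exact.lift (k ≫ pullback.fst S.g f) ?_, ?_⟩
        · rw [Category.assoc, pullback.condition, ← Category.assoc]
          exact (congrArg (· ≫ f) hk).trans zero_comp
        · apply pullback.hom_ext
          · rw [Category.assoc]
            exact (congrArg (_ ≫ ·) (pullback.lift_fst _ _ _)).trans (hS.exact.lift_f _ _)
          · rw [Category.assoc]
            exact (congrArg (_ ≫ ·) (pullback.lift_snd _ _ _)).trans (comp_zero.trans hk.symm)
      mono_f := hm
      epi_g := by
        change Epi (pullback.snd S.g f)
        infer_instance }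
  refine ⟨pullback S.g f, i, pullback.snd S.g f, hip, hS', ?_⟩
  let φ : S' ⟶ S := { τ₁ := 𝟙 _, τ₂ := pullback.fst S.g f, τ₃ := f
                      comm₁₂ := (Category.id_comp _).trans (pullback.lift_fst _ _ _).symm
                      comm₂₃ := pullback.condition }
  have h := hS'.extClass_naturality hS φ
  rw [show φ.τ₁ = 𝟙 _ from rfl, Abelian.Ext.comp_mk₀_id] at h
  exact h.trans hx
end Groth.Agent.S19865
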