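import Groth.Statements.S19866
import Groth.Agent.L09.FibEquiv
import Mathlib.CategoryTheory.FiberedCategory.Grothendieck
import Mathlib.CategoryTheory.Bicategory.Functor.LocallyDiscrete

set_option autoImplicit false
universe v₁ v₂ u₁ u₂
open CategoryTheory
open FibCat

namespace Groth.Agent.S19866

universe va ua vb ub

lemma hext {B : Type u₁} [Category.{v₁} B] {𝒜 : BasedCategory.{va, ua} B} {ℬ : BasedCategory.{vb, ub} B}
    {A A' : 𝒜 ⥤ᵇ ℬ} (h : A.toFunctor = A'.toFunctor) : A = A' := by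
  cases A; cases A'
  cases h
  rfl

open Pseudofunctor Pseudofunctor.CoGrothendieck Opposite

variable {𝒮 : Type u₁} [Category.{v₁} 𝒮] (F : 𝒮ᵒᵖ ⥤ Cat.{v₂, u₂})

local notation "𝔽" => F.toPseudofunctor'

/-- lift at an object of the Grothendieck construction. -/
abbrev dom (x : CoGrothendieck 𝔽) {R : 𝒮} (f : R ⟶ x.base) : CoGrothendieck 𝔽 := domainCartesianLift x.fiber f

abbrev clift (x : CoGrothendieck 𝔽) {R : 𝒮} (f : R ⟶ x.base) : dom F x f ⟶ x := cartesianLift x.fiber f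

/-- a morphism whose fibre component is a transport identity. -/
def IsTriv {x y : CoGrothendieck 𝔽} (m : x ⟶ y) : Prop := ∃ w, m.fiber = eqToHom w

variable {F}

lemma IsTriv.ext {x y : CoGrothendieck 𝔽} {m n : x ⟶ y} (hm : IsTriv F m) (hn : IsTriv F n)
    (h : m.base = n.base) : m = n := by
  obtain ⟨w, hw⟩ := hm
  obtain ⟨w', hw'⟩ := hn
  refine CoGrothendieck.Hom.ext _ _ h ?_
  rw [hw, hw', eqToHom_trans]

lemma IsTriv.eqToHom {x y : CoGrothendieck 𝔽} (h : x = y) : IsTriv F (CategoryTheory.eqToHom h) := by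
  subst h
  refine ⟨?_, ?_⟩
  swap
  · simp [Functor.toPseudofunctor'_mapId]
    rfl

lemma IsTriv.comp {x y z : CoGrothendieck 𝔽} {m : x ⟶ y} {n : y ⟶ z} (hm : IsTriv F m) (hn : IsTriv F n) :
    IsTriv F (m ≫ n) := by
  obtain ⟨w, hw⟩ := hm
  obtain ⟨w', hw'⟩ := hn
  refine ⟨?_, ?_⟩
  swap
  · simp [hw, hw', eqToHom_map, Functor.toPseudofunctor'_mapComp]
    exact eqToHom_trans _ _

lemma IsTriv.clift (x : CoGrothendieck 𝔽) {R : 𝒮} (f : R ⟶ x.base) : IsTriv F (clift F x f) :=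
  ⟨rfl, rfl⟩

lemma base_eqToHom {x y : CoGrothendieck 𝔽} (h : x = y) :
    (CategoryTheory.eqToHom h).base = CategoryTheory.eqToHom (congrArg CoGrothendieck.base h) := by
  subst h; rfl

lemma lift_id (x : CoGrothendieck 𝔽) : ∃ h : dom F x (𝟙 x.base) = x, clift F x (𝟙 x.base) = eqToHom h := by
  have h : dom F x (𝟙 x.base) = x := by
    refine CoGrothendieck.ext rfl (heq_of_eq ?_)
    show (F.map (𝟙 x.base).op).toFunctor.obj x.fiber = x.fiber
    rw [op_id, F.map_id]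
    rfl
  exact ⟨h, (IsTriv.clift x _).ext (IsTriv.eqToHom h) (base_eqToHom h).symm⟩

lemma lift_comp (x : CoGrothendieck 𝔽) {T U : 𝒮} (f : T ⟶ x.base) (g : U ⟶ T) :
    ∃ h : dom F (dom F x f) g = dom F x (g ≫ f),
      clift F (dom F x f) g ≫ clift F x f = eqToHom h ≫ clift F x (g ≫ f) := by
  have h : dom F (dom F x f) g = dom F x (g ≫ f) := by
    refine CoGrothendieck.ext rfl (heq_of_eq ?_)
    show (F.map g.op).toFunctor.obj ((F.map f.op).toFunctor.obj x.fiber) = (F.map (g ≫ f).op).toFunctor.obj x.fiber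
    rw [op_comp, F.map_comp]
    rfl
  refine ⟨h, ((IsTriv.clift _ g).comp (IsTriv.clift x f)).ext ((IsTriv.eqToHom h).comp (IsTriv.clift x _)) ?_⟩
  rw [categoryStruct_comp_base, categoryStruct_comp_base, base_eqToHom]
  simp

lemma aux {A : Type*} [Category* A] {B : Type*} [Category* B] (Ψ : A ⥤ B) {x₁ x₁' x₂ x₃ : A} {b₁ b : B}
    (c₁ : x₁ ⟶ x₂) (c₂ : x₂ ⟶ x₃) (e : x₁ = x₁') (c₃ : x₁' ⟶ x₃) (he : c₁ ≫ c₂ = CategoryTheory.eqToHom e ≫ c₃)
    (h1 : b₁ = Ψ.obj x₁) (hb : Ψ.obj x₃ = b) (H : b₁ = Ψ.obj x₁') :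
    (CategoryTheory.eqToHom h1 ≫ Ψ.map c₁ ≫ CategoryTheory.eqToHom rfl) ≫ Ψ.map c₂ ≫ CategoryTheory.eqToHom hb =
      CategoryTheory.eqToHom H ≫ Ψ.map c₃ ≫ CategoryTheory.eqToHom hb := by
  subst e; subst h1; subst hb
  simp only [eqToHom_refl, Category.id_comp, Category.comp_id] at he ⊢
  rw [← Ψ.map_comp, he]

/-- Let p : 𝒳 → 𝒮 be a functor, F : 𝒮ᵒᵖ → Cat a strict functor, and suppose 𝒳 is isomorphic over 𝒮 to
the category of pairs (U, x), x an object of F(U), built from F: there are functors Φ : 𝒳 → ∫F and Ψ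
: ∫F → 𝒳 inverse to each other on the nose with Φ followed by the projection equal to p. Then 𝒳 has
a cleavage over 𝒮 which is a splitting: the chosen transport morphism over each identity is the
identity, and the chosen transport morphism of g at f^* a followed by that of f at a is the chosen
transport morphism of g ≫ f at a. In particular the inverse-image functors of that cleavage satisfy
(fg)^* = g^* f^* on the nose, which is the published conclusion; no fibredness hypothesis is needed,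
𝒳 being fibred as a consequence. -/
theorem result {𝒮 : Type u₁} [Category.{v₁} 𝒮] {𝒳 : Type u₂} [Category.{v₂} 𝒳]
    (p : 𝒳 ⥤ 𝒮) (F : 𝒮ᵒᵖ ⥤ Cat.{v₂, u₂})
    (Φ : 𝒳 ⥤ Pseudofunctor.CoGrothendieck F.toPseudofunctor')
    (Ψ : Pseudofunctor.CoGrothendieck F.toPseudofunctor' ⥤ 𝒳)
    (h₁ : Φ ⋙ Ψ = 𝟭 𝒳) (h₂ : Ψ ⋙ Φ = 𝟭 _)
    (h₃ : Φ ⋙ Pseudofunctor.CoGrothendieck.forget F.toPseudofunctor' = p) :
    ∃ K : FibCat.Cleavage p, K.IsSplitting := by
  let G := CategoryTheory.BasedCategory.ofFunctor (Pseudofunctor.CoGrothendieck.forget F.toPseudofunctor')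
  let 𝒳' := CategoryTheory.BasedCategory.ofFunctor p
  have hw : Ψ ⋙ p = Pseudofunctor.CoGrothendieck.forget F.toPseudofunctor' := by
    rw [← h₃, ← Functor.assoc, h₂]; rfl
  let Ψb : G ⥤ᵇ 𝒳' := { toFunctor := Ψ, w := hw }
  let Φb : 𝒳' ⥤ᵇ G := { toFunctor := Φ, w := h₃ }
  have hΨ : FibCat.IsEquivOver Ψb :=
    ⟨Φb, ⟨eqToIso (hext h₂)⟩, ⟨eqToIso (hext h₁)⟩⟩
  have hq : ∀ {S : 𝒮} {a : 𝒳}, p.obj a = S → (Φ.obj a).base = S := fun ha => by
    rw [← ha, ← h₃]; rfl
  have hback : ∀ a : 𝒳, Ψ.obj (Φ.obj a) = a := fun a => Functor.congr_obj h₁ a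
  have hΦΨ : ∀ q, Φ.obj (Ψ.obj q) = q := fun q => Functor.congr_obj h₂ q
  let K : FibCat.Cleavage p :=
    { obj := fun {R S a} ha f => Ψ.obj (dom F (Φ.obj a) (f ≫ eqToHom (hq ha).symm))
      lift := fun {R S a} ha f => Ψ.map (clift F (Φ.obj a) (f ≫ eqToHom (hq ha).symm)) ≫ eqToHom (hback a)
      isCartesian := fun {R S a} ha f => by
        subst ha
        have hfac : ∀ (T : 𝒮) (e : (Φ.obj a).base = T) (f : R ⟶ T), p.IsCartesian f
            (Ψ.map (clift F (Φ.obj a) (f ≫ eqToHom e.symm)) ≫ eqToHom (hback a)) := by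
          intro T e f
          subst e
          rw [show f ≫ eqToHom (rfl : (Φ.obj a).base = (Φ.obj a).base).symm = f from Category.comp_id f]
          haveI := Pseudofunctor.CoGrothendieck.isStronglyCartesian_homCartesianLift (Φ.obj a).fiber f
          haveI : (Pseudofunctor.CoGrothendieck.forget F.toPseudofunctor').IsStronglyCartesian f (clift F (Φ.obj a) f) := this
          haveI hc : p.IsStronglyCartesian f (Ψ.map (clift F (Φ.obj a) f)) :=
            Groth.L09.Fib.stronglyCartesian_map (𝒳 := G) (𝒴 := 𝒳') (F := Ψb) hΨ f (h := this) _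
          haveI : p.IsStronglyCartesian (𝟙 (Φ.obj a).base) (eqToHom (hback a)) := by
            haveI : p.IsHomLift (𝟙 (Φ.obj a).base) (eqToHom (hback a)) :=
              CategoryTheory.IsHomLift.eqToHom_domain_lift_id (hback a) (Functor.congr_obj hw (Φ.obj a))
            exact Functor.IsStronglyCartesian.of_isIso p (𝟙 _) (eqToHom (hback a))
          have h := Functor.IsStronglyCartesian.comp p (f := f) (g := 𝟙 (Φ.obj a).base)
            (φ := Ψ.map (clift F (Φ.obj a) f)) (ψ := eqToHom (hback a))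
          rw [Category.comp_id] at h
          infer_instance
        exact hfac (p.obj a) (hq rfl) f }
  have compat : ∀ (q : Pseudofunctor.CoGrothendieck F.toPseudofunctor') (a : 𝒳) (e : Φ.obj a = q) {R S : 𝒮}
      (ha : p.obj a = S) (hs : q.base = S) (f : R ⟶ S),
      ∃ (h : K.obj ha f = Ψ.obj (dom F q (f ≫ eqToHom hs.symm))) (h' : Ψ.obj q = a),
        K.lift ha f = eqToHom h ≫ Ψ.map (clift F q (f ≫ eqToHom hs.symm)) ≫ eqToHom h' := by
    intro q a e R S ha hs f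
    subst e
    exact ⟨rfl, hback a, (Category.id_comp _).symm⟩
  refine ⟨K, ⟨?_, ?_⟩⟩
  · intro S a ha
    obtain ⟨h, he⟩ := lift_id (F := F) (Φ.obj a)
    have hS : ∀ (T : 𝒮) (e : (Φ.obj a).base = T), ∃ h : dom F (Φ.obj a) (𝟙 T ≫ eqToHom e.symm) = Φ.obj a,
        clift F (Φ.obj a) (𝟙 T ≫ eqToHom e.symm) = eqToHom h := by
      intro T e; subst e; rw [show 𝟙 (Φ.obj a).base ≫ eqToHom (rfl : (Φ.obj a).base = (Φ.obj a).base).symm = 𝟙 _ from Category.comp_id _]; exact ⟨h, he⟩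
    obtain ⟨h', he'⟩ := hS S (hq ha)
    refine ⟨(congrArg Ψ.obj h').trans (hback a), ?_⟩
    show Ψ.map _ ≫ _ = _
    rw [he', eqToHom_map, eqToHom_trans]
  · intro S T U f g a ha
    obtain ⟨h1, h1', e1⟩ := compat (dom F (Φ.obj a) (f ≫ eqToHom (hq ha).symm)) (K.obj ha f) (hΦΨ _)
      (K.obj_proj ha f) rfl g
    obtain ⟨h, e⟩ := lift_comp (F := F) (Φ.obj a) (f ≫ eqToHom (hq ha).symm) g
    have h2 : dom F (Φ.obj a) (g ≫ f ≫ eqToHom (hq ha).symm) = dom F (Φ.obj a) ((g ≫ f) ≫ eqToHom (hq ha).symm) := by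
      rw [Category.assoc]
    have e2 : clift F (Φ.obj a) (g ≫ f ≫ eqToHom (hq ha).symm) =
        eqToHom h2 ≫ clift F (Φ.obj a) ((g ≫ f) ≫ eqToHom (hq ha).symm) := by
      refine IsTriv.ext (IsTriv.clift _ _) ((IsTriv.eqToHom h2).comp (IsTriv.clift _ _)) ?_
      rw [Pseudofunctor.CoGrothendieck.categoryStruct_comp_base, base_eqToHom]
      simp
    refine ⟨h1.trans ((congrArg (fun k => Ψ.obj (dom F (dom F (Φ.obj a) (f ≫ eqToHom (hq ha).symm)) k))
      (Category.comp_id g)).trans (congrArg Ψ.obj (h.trans h2))), ?_⟩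
    rw [e1]
    refine aux Ψ _ _ ((congrArg (dom F (dom F (Φ.obj a) (f ≫ eqToHom (hq ha).symm))) (Category.comp_id g)).trans (h.trans h2)) _ ?_ _ _ _
    refine IsTriv.ext ((IsTriv.clift _ _).comp (IsTriv.clift _ _)) ((IsTriv.eqToHom _).comp (IsTriv.clift _ _)) ?_
    · rw [Pseudofunctor.CoGrothendieck.categoryStruct_comp_base,
        Pseudofunctor.CoGrothendieck.categoryStruct_comp_base, base_eqToHom]
      simp

end Groth.Agent.S19866
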