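import Groth.Statements.S19868
import Groth.Agent.L08.PLieThree
import Mathlib.Algebra.DualNumber

set_option autoImplicit false
universe u v
open PLie

set_option maxHeartbeats 4000000

namespace Groth.Agent.S19868
open Groth.L08 DualNumber

open DualNumber in
/-- Let K be a field of prime characteristic p, K[ε] the ring of dual numbers (taken with its
characteristic-p structure) and a, …, i ∈ K. Let L be a Lie algebra over K[ε], free as a module with
basis x = bs 0, y = bs 1, z = bs 2 and brackets [x,y] = aε x + bε y + cε z, [x,z] = dε x + eε y + fε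
z, [y,z] = (1 + gε) x + hε y + iε z, a first-order deformation of the Heisenberg algebra (the Jacobi
identity forces b + f = 0). Then L carries a p-mapping over K[ε] if and only if b = c = e = 0 when p
= 2; for odd p there is no condition. (The published statement is about the singularity of the point
h_3 in the restrictable locus of the rank-one-centre stratum of the moduli scheme of based
three-dimensional Lie algebras over the prime field; this row states the restrictability criterion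
for the first-order deformations of h_3 asserted in its proof, over any field of characteristic p in
place of the prime field.) -/
theorem result (K : Type u) [Field K] (p : ℕ) [Fact p.Prime] [CharP K p]
    [CharP (DualNumber K) p] (a b c d e f g h i : K)
    (L : Type v) [LieRing L] [LieAlgebra (DualNumber K) L] (bs : Module.Basis (Fin 3) (DualNumber K) L)
    (hxy : ⁅bs 0, bs 1⁆ = (a • ε : DualNumber K) • bs 0 + (b • ε : DualNumber K) • bs 1 + (c • ε : DualNumber K) • bs 2)
    (hxz : ⁅bs 0, bs 2⁆ = (d • ε : DualNumber K) • bs 0 + (e • ε : DualNumber K) • bs 1 + (f • ε : DualNumber K) • bs 2)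
    (hyz : ⁅bs 1, bs 2⁆ = (1 + g • ε : DualNumber K) • bs 0 + (h • ε : DualNumber K) • bs 1 + (i • ε : DualNumber K) • bs 2) :
    Nonempty (PLie.PMap (DualNumber K) p L) ↔ (p = 2 → b = 0 ∧ c = 0 ∧ e = 0) := by
  have hxy' : ⁅bs 0, bs 1⁆ = PLie3.vec bs (a • ε : DualNumber K) (b • ε) (c • ε) := hxy
  have hxz' : ⁅bs 0, bs 2⁆ = PLie3.vec bs (d • ε : DualNumber K) (e • ε) (f • ε) := hxz
  have hyz' : ⁅bs 1, bs 2⁆ = PLie3.vec bs (1 + g • ε : DualNumber K) (h • ε) (i • ε) := hyz
  let X : Module.End (DualNumber K) L := LieAlgebra.ad (DualNumber K) L (PLie3.vec bs 1 0 0)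
  let Y : Module.End (DualNumber K) L := LieAlgebra.ad (DualNumber K) L (PLie3.vec bs 0 1 0)
  let Z : Module.End (DualNumber K) L := LieAlgebra.ad (DualNumber K) L (PLie3.vec bs 0 0 1)
  have had := PLie3.ad_vec bs hxy' hxz' hyz'
  have hf : f = -b := by
    have hJ := lie_jacobi (PLie3.vec bs (1 : (DualNumber K)) 0 0) (PLie3.vec bs 0 1 0) (PLie3.vec bs 0 0 1)
    simp only [PLie3.lie_vec bs hxy' hxz' hyz', PLie3.vec_add] at hJ
    rw [← PLie3.vec_zero bs, PLie3.vec_inj] at hJ
    have := congrArg TrivSqZeroExt.snd hJ.1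
    simp at this
    linear_combination -this
  have hX : X ^ 2 = 0 := by
    refine PLie3.end_ext bs ?_ ?_ ?_ <;>
      (simp only [X, pow_two, Module.End.mul_apply, had, LinearMap.zero_apply]
       rw [← PLie3.vec_zero bs, PLie3.vec_inj]
       refine ⟨?_, ?_, ?_⟩ <;> (apply TrivSqZeroExt.ext <;> simp [TrivSqZeroExt.snd_mul] <;> ring))
  have hY2 : ∀ u v w : (DualNumber K), (Y ^ 2) (PLie3.vec bs u v w) = PLie3.vec bs (u * (-c) • ε + w * (i - a) • ε)
      (w * (-b) • ε) (w * (-c) • ε) := by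
    intro u v w
    simp only [Y, pow_two, Module.End.mul_apply, had, PLie3.vec_inj]
    refine ⟨?_, ?_, ?_⟩ <;> (apply TrivSqZeroExt.ext <;> simp [TrivSqZeroExt.snd_mul] <;> ring)
  have hY3 : ∀ u v w : (DualNumber K), (Y ^ 3) (PLie3.vec bs u v w) = PLie3.vec bs (w * (-c) • ε) 0 0 := by
    intro u v w
    rw [pow_succ', Module.End.mul_apply, hY2]
    simp only [Y, had, PLie3.vec_inj]
    refine ⟨?_, ?_, ?_⟩ <;> (apply TrivSqZeroExt.ext <;> simp [TrivSqZeroExt.snd_mul] <;> ring)
  have hY4 : Y ^ 4 = 0 := by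
    refine PLie3.end_ext bs ?_ ?_ ?_ <;>
      (rw [pow_succ', Module.End.mul_apply, hY3, LinearMap.zero_apply]
       simp only [Y, had]
       rw [← PLie3.vec_zero bs, PLie3.vec_inj]
       refine ⟨?_, ?_, ?_⟩ <;> (apply TrivSqZeroExt.ext <;> simp [TrivSqZeroExt.snd_mul] <;> ring))
  have hZ2 : ∀ u v w : (DualNumber K), (Z ^ 2) (PLie3.vec bs u v w) = PLie3.vec bs (u * e • ε + v * (d + h) • ε)
      (v * e • ε) (v * f • ε) := by
    intro u v w
    simp only [Z, pow_two, Module.End.mul_apply, had, PLie3.vec_inj]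
    refine ⟨?_, ?_, ?_⟩ <;> (apply TrivSqZeroExt.ext <;> simp [TrivSqZeroExt.snd_mul] <;> ring)
  have hZ3 : ∀ u v w : (DualNumber K), (Z ^ 3) (PLie3.vec bs u v w) = PLie3.vec bs (v * (-e) • ε) 0 0 := by
    intro u v w
    rw [pow_succ', Module.End.mul_apply, hZ2]
    simp only [Z, had, PLie3.vec_inj]
    refine ⟨?_, ?_, ?_⟩ <;> (apply TrivSqZeroExt.ext <;> simp [TrivSqZeroExt.snd_mul] <;> ring)
  have hZ4 : Z ^ 4 = 0 := by
    refine PLie3.end_ext bs ?_ ?_ ?_ <;>
      (rw [pow_succ', Module.End.mul_apply, hZ3, LinearMap.zero_apply]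
       simp only [Z, had]
       rw [← PLie3.vec_zero bs, PLie3.vec_inj]
       refine ⟨?_, ?_, ?_⟩ <;> (apply TrivSqZeroExt.ext <;> simp [TrivSqZeroExt.snd_mul] <;> ring))
  have hp2 := (Fact.out : p.Prime).two_le
  constructor
  · rintro ⟨φ⟩ rfl
    obtain ⟨r, s, t, hu⟩ := PLie3.exists_vec bs (φ.toFun (PLie3.vec bs 0 1 0))
    obtain ⟨r', s', t', hu'⟩ := PLie3.exists_vec bs (φ.toFun (PLie3.vec bs 0 0 1))
    have h1 := fun w => LinearMap.congr_fun (φ.ad_map (PLie3.vec bs 0 1 0)) w
    have h2 := fun w => LinearMap.congr_fun (φ.ad_map (PLie3.vec bs 0 0 1)) w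
    have ey1 := h1 (PLie3.vec bs 0 1 0)
    have ey0 := h1 (PLie3.vec bs 1 0 0)
    have ey2 := h1 (PLie3.vec bs 0 0 1)
    have ez0 := h2 (PLie3.vec bs 1 0 0)
    have ez1 := h2 (PLie3.vec bs 0 1 0)
    have ez2 := h2 (PLie3.vec bs 0 0 1)
    rw [hu, had, show LieAlgebra.ad (DualNumber K) L (PLie3.vec bs 0 1 0) = Y from rfl, hY2, PLie3.vec_inj] at ey0 ey1 ey2
    rw [hu', had, show LieAlgebra.ad (DualNumber K) L (PLie3.vec bs 0 0 1) = Z from rfl, hZ2, PLie3.vec_inj] at ez0 ez1 ez2
    have A1 := congrArg TrivSqZeroExt.fst ey1.1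
    have A2 := congrArg TrivSqZeroExt.snd ey1.2.1
    have A3 := congrArg TrivSqZeroExt.snd ey0.1
    have A4 := congrArg TrivSqZeroExt.fst ey2.1
    have A5 := congrArg TrivSqZeroExt.snd ey2.2.1
    have B1 := congrArg TrivSqZeroExt.snd ez0.1
    have B2 := congrArg TrivSqZeroExt.fst ez1.1
    have B3 := congrArg TrivSqZeroExt.fst ez2.1
    simp [TrivSqZeroExt.snd_mul] at A1 A2 A3 A4 A5 B1 B2 B3
    simp only [A1, A4, B2, B3, zero_mul, mul_zero, neg_zero, add_zero, zero_add] at A2 A3 A5 B1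
    refine ⟨?_, ?_, ?_⟩
    · rcases mul_eq_zero.1 A2 with h0 | h0
      · exact h0
      · rw [h0] at A5; simpa using A5.symm
    · simpa using A3.symm
    · simpa using B1.symm
  · intro hc
    refine ⟨(Groth.L08.PLie.exists_pmap bs
      ![0, PLie3.vec bs 0 (if p = 2 then (i - a) • ε else if p = 3 then (-c) • ε else 0) 0,
        PLie3.vec bs 0 0 (if p = 2 then (-(d + h)) • ε else if p = 3 then e • ε else 0)] fun j => ?_).choose⟩
    fin_cases j
    · change LieAlgebra.ad (DualNumber K) L (bs 0) ^ p = LieAlgebra.ad (DualNumber K) L 0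
      rw [PLie3.basis0 bs, map_zero (LieAlgebra.ad (DualNumber K) L), ← Nat.sub_add_cancel hp2, pow_add, show LieAlgebra.ad (DualNumber K) L _ ^ 2 = 0 from hX,
        mul_zero]
    · change LieAlgebra.ad (DualNumber K) L (bs 1) ^ p = LieAlgebra.ad (DualNumber K) L (PLie3.vec bs 0 _ 0)
      rw [PLie3.basis1 bs, show LieAlgebra.ad (DualNumber K) L (PLie3.vec bs 0 1 0) = Y from rfl]
      rcases eq_or_ne p 2 with rfl | h2
      · obtain ⟨rfl, rfl, -⟩ := hc rfl
        refine PLie3.end_ext bs ?_ ?_ ?_ <;>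
          (rw [hY2, if_pos rfl, had, PLie3.vec_inj]
           refine ⟨?_, ?_, ?_⟩ <;> (apply TrivSqZeroExt.ext <;> simp [TrivSqZeroExt.snd_mul] <;> ring))
      rcases eq_or_ne p 3 with rfl | h3
      · refine PLie3.end_ext bs ?_ ?_ ?_ <;>
          (rw [hY3, if_neg h2, if_pos rfl, had, PLie3.vec_inj]
           refine ⟨?_, ?_, ?_⟩ <;> (apply TrivSqZeroExt.ext <;> simp [TrivSqZeroExt.snd_mul] <;> ring))
      rw [if_neg h2, if_neg h3, PLie3.vec_zero bs, map_zero, ← Nat.sub_add_cancel (show 4 ≤ p by omega), pow_add, hY4,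
        mul_zero]
    · change LieAlgebra.ad (DualNumber K) L (bs 2) ^ p = LieAlgebra.ad (DualNumber K) L (PLie3.vec bs 0 0 _)
      rw [PLie3.basis2 bs, show LieAlgebra.ad (DualNumber K) L (PLie3.vec bs 0 0 1) = Z from rfl]
      rcases eq_or_ne p 2 with rfl | h2
      · obtain ⟨rfl, rfl, rfl⟩ := hc rfl
        refine PLie3.end_ext bs ?_ ?_ ?_ <;>
          (rw [hZ2, if_pos rfl, had, PLie3.vec_inj]
           refine ⟨?_, ?_, ?_⟩ <;> (apply TrivSqZeroExt.ext <;> simp [TrivSqZeroExt.snd_mul, hf] <;> ring))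
      rcases eq_or_ne p 3 with rfl | h3
      · refine PLie3.end_ext bs ?_ ?_ ?_ <;>
          (rw [hZ3, if_neg h2, if_pos rfl, had, PLie3.vec_inj]
           refine ⟨?_, ?_, ?_⟩ <;> (apply TrivSqZeroExt.ext <;> simp [TrivSqZeroExt.snd_mul] <;> ring))
      rw [if_neg h2, if_neg h3, PLie3.vec_zero bs, map_zero, ← Nat.sub_add_cancel (show 4 ≤ p by omega), pow_add, hZ4,
        mul_zero]

end Groth.Agent.S19868
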