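import Groth.Statements.S19871
import Groth.Agent.L11.Weil.Basic

set_option autoImplicit false
universe u v
open CategoryTheory AlgebraicGeometry
open WeilCoh

namespace Groth.Agent.S19871

/-- Let `H` be a Weil cohomology theory with coefficients in a field `K` of characteristic zero on
nonsingular connected projective varieties over an algebraically closed field `k`; let `X`, `Y` be
such varieties and `P` a product `X × Y` with projections `p`, `q`, of dimension `dim X + dim Y`.
For an integer `r`, sending a class `φ ∈ H^{2 dim X + r}(P)` to the family, indexed by all integers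
`i`, of the `K`-linear maps `H^i(X) → H^{i+r}(Y)`, `x ↦ q_*(p^* x ∪ φ)`, is a bijection from `H^{2
dim X + r}(P)` onto the families of linear maps `(H^i(X) → H^{i+r}(Y))_i`, i.e. onto the degree-`r`
homomorphisms of graded vector spaces from `H•(X)` to `H•(Y)` (the factors with `i` outside `[0, 2
dim X]` are zero). The target degree is written `i + (2 dim X + r) + 2 dim Y − 2 dim P`, the
indexing of the push-forward; it equals `i + r` by the dimension hypothesis. (The published lemma
states a canonical isomorphism `Hom^r(H•X, H•Y) ≅ H^{2 dim X + r}(X × Y)(dim X)` obtained from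
Poincaré duality on `X` and the Künneth formula, for smooth projective varieties over an arbitrary
field with Tate twists; this row is its case of connected varieties over an algebraically closed
field, without twists, with the isomorphism written as the action of a class by pull-back, cup
product and push-forward.) -/
theorem result (k : Type u) [Field k] [IsAlgClosed k] (K : Type v) [Field K] [CharZero K]
    (T : WeilCoh.Theory k K) (X Y P : WeilCoh.Var k) (p : P ⟶ X) (q : P ⟶ Y) (hP : WeilCoh.IsProd p q)
    (hdim : WeilCoh.dim P.obj.left = WeilCoh.dim X.obj.left + WeilCoh.dim Y.obj.left) (r : ℤ) :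
    Function.Bijective (fun φ : ↥(T.gr P (2 * (WeilCoh.dim X.obj.left : ℤ) + r)) => fun i : ℤ =>
      (T.push q (i + (2 * (WeilCoh.dim X.obj.left : ℤ) + r))) ∘ₗ
        ((LinearMap.mulRight K (φ : T.H P)).restrict (p := T.gr P i) (q := T.gr P (i + (2 * (WeilCoh.dim X.obj.left : ℤ) + r)))
          (fun x hx => SetLike.mul_mem_graded hx φ.2)) ∘ₗ
        (T.pullDeg p i)) := by
  classical
  let D : ℤ := 2 * (WeilCoh.dim X.obj.left : ℤ) + r
  let s : ℤ → K := fun i => (-1 : K) ^ (i.natAbs * D.natAbs)
  have hss : ∀ i, s i * s i = 1 := fun i => by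
    simp only [s, ← pow_add]; exact Even.neg_one_pow ⟨_, rfl⟩
  have hcorr : ∀ (φ : ↥(T.gr P D)) (i : ℤ) (x : ↥(T.gr X i)) (y : T.H Y)
      (hy : y ∈ T.gr Y (Groth.L11.Weil.top P - (i + D))),
      T.tr Y (((T.push q (i + D)) ∘ₗ
        ((LinearMap.mulRight K (φ : T.H P)).restrict (p := T.gr P i) (q := T.gr P (i + D))
          (fun z hz => SetLike.mul_mem_graded hz φ.2)) ∘ₗ (T.pullDeg p i)) x * y) =
      s i * T.tr P ((φ : T.H P) * (T.pull p (x : T.H X) * T.pull q y)) := fun φ i x y hy => by
    simp only [LinearMap.comp_apply]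
    rw [Groth.L11.Weil.tr_push T q (i + D) _ y hy]
    change T.tr P (T.pull p (x : T.H X) * φ * T.pull q y) = _
    rw [Groth.L11.Weil.comm_of_mem T (T.pull_mem p i x x.2) φ.2, smul_mul_assoc, map_smul, smul_eq_mul]
    exact congrArg _ (congrArg _ (mul_assoc _ _ _))
  let e := LinearEquiv.ofBijective _ (T.kunneth p q hP)
  have he : ∀ x y, e (x ⊗ₜ[K] y) = T.pull p x * T.pull q y := fun x y => rfl
  refine ⟨fun φ φ' h => ?_, fun L => ?_⟩
  · have hom : ∀ (i : ℤ) (x : T.H X), x ∈ T.gr X i → ∀ (j : ℤ) (y : T.H Y), y ∈ T.gr Y j →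
        T.tr P (((φ : T.H P) - φ') * (T.pull p x * T.pull q y)) = 0 := by
      intro i x hx j y hy
      by_cases hj : D + (i + j) = Groth.L11.Weil.top P
      · have hy' : y ∈ T.gr Y (Groth.L11.Weil.top P - (i + D)) := Groth.L11.Weil.mem_congr T (by omega) hy
        have h1 := hcorr φ i ⟨x, hx⟩ y hy'
        have h2 := hcorr φ' i ⟨x, hx⟩ y hy'
        have h3 := LinearMap.congr_fun (congrFun h i) ⟨x, hx⟩
        have h5 := congrArg (fun z : ↥(T.gr Y (i + D + 2 * (WeilCoh.dim Y.obj.left : ℤ) - 2 * (WeilCoh.dim P.obj.left : ℤ))) =>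
          T.tr Y ((z : T.H Y) * y)) h3
        have h4 := mul_left_cancel₀ (left_ne_zero_of_mul_eq_one (hss i)) (h1.symm.trans (h5.trans h2))
        rw [sub_mul, map_sub]
        exact sub_eq_zero.mpr h4
      · exact T.tr_vanish P _ _ (Groth.L11.Weil.mul_mem T (sub_mem φ.2 φ'.2)
          (Groth.L11.Weil.mul_mem T (T.pull_mem p i x hx) (T.pull_mem q j y hy))) hj
    have hgen : ∀ x y, T.tr P (((φ : T.H P) - φ') * (T.pull p x * T.pull q y)) = 0 := by
      intro x y
      have hx : x ∈ ⨆ i, T.gr X i := by rw [(T.decomp X).submodule_iSup_eq_top]; trivial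
      induction hx using Submodule.iSup_induction' with
      | zero => simp
      | add a b _ _ ha hb => rw [map_add, add_mul, mul_add, map_add, ha, hb, add_zero]
      | mem i x hx =>
        have hy : y ∈ ⨆ i, T.gr Y i := by rw [(T.decomp Y).submodule_iSup_eq_top]; trivial
        induction hy using Submodule.iSup_induction' with
        | zero => simp
        | add a b _ _ ha hb => rw [map_add, mul_add, mul_add, map_add, ha, hb, add_zero]
        | mem j y hy => exact hom i x hx j y hy
    have hall : ∀ t, T.tr P (((φ : T.H P) - φ') * e t) = 0 := by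
      intro t
      induction t using TensorProduct.induction_on with
      | zero => rw [map_zero, mul_zero, map_zero]
      | tmul x y => rw [he]; exact hgen x y
      | add a b ha hb => rw [map_add, mul_add, map_add, ha, hb, add_zero]
    refine Subtype.ext (sub_eq_zero.mp (Groth.L11.Weil.eq_zero_of_tr T (m' := Groth.L11.Weil.top P - D)
      (add_sub_cancel _ _) (sub_mem φ.2 φ'.2) fun z _ => ?_))
    obtain ⟨t, rfl⟩ := e.surjective z
    exact hall t
  · let dec : (DirectSum ℤ fun i => ↥(T.gr X i)) ≃ₗ[K] T.H X :=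
      LinearEquiv.ofBijective (DirectSum.coeLinearMap (T.gr X)) (T.decomp X)
    let M : T.H X →ₗ[K] T.H Y :=
      (DirectSum.toModule K ℤ (T.H Y) fun i =>
        s i • ((Submodule.subtype _).comp (L i))) ∘ₗ dec.symm.toLinearMap
    have hM : ∀ (i : ℤ) (x : ↥(T.gr X i)), M x = s i • (L i x : T.H Y) := fun i x => by
      have : dec.symm (x : T.H X) = DirectSum.lof K ℤ (fun i => ↥(T.gr X i)) i x := by
        rw [LinearEquiv.symm_apply_eq]
        exact (DirectSum.coeLinearMap_lof (T.gr X) i x).symm
      simp only [M, LinearMap.comp_apply, LinearEquiv.coe_coe, this, DirectSum.toModule_lof]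
      rfl
    let Λ : T.H P →ₗ[K] K :=
      (TensorProduct.lift (((LinearMap.mul K (T.H Y)).comp M).compr₂ (T.tr Y))) ∘ₗ e.symm.toLinearMap
    have hΛ : ∀ x y, Λ (T.pull p x * T.pull q y) = T.tr Y (M x * y) := fun x y => by
      simp only [Λ, LinearMap.comp_apply, LinearEquiv.coe_coe, ← he, e.symm_apply_apply]
      rfl
    haveI := T.duality P D (Groth.L11.Weil.top P - D) (add_sub_cancel _ _)
    let φ : ↥(T.gr P D) := (WeilCoh.pairing K (T.gr P D) (T.gr P (Groth.L11.Weil.top P - D)) (T.tr P)).toPerfPair.symm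
      (Λ.domRestrict (T.gr P (Groth.L11.Weil.top P - D)))
    have hφ : ∀ z ∈ T.gr P (Groth.L11.Weil.top P - D), T.tr P ((φ : T.H P) * z) = Λ z := fun z hz =>
      LinearMap.congr_fun (LinearMap.apply_symm_toPerfPair_self
        (p := WeilCoh.pairing K (T.gr P D) (T.gr P (Groth.L11.Weil.top P - D)) (T.tr P)) _) ⟨z, hz⟩
    refine ⟨φ, funext fun i => LinearMap.ext fun x => Subtype.ext ?_⟩
    refine Groth.L11.Weil.eq_of_tr T (m' := Groth.L11.Weil.top P - (i + D)) (by simp only [Groth.L11.Weil.top, D]; omega)
      (Subtype.coe_prop _) (Subtype.coe_prop _) fun y hy => ?_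
    refine (hcorr φ i x y hy).trans ?_
    rw [hφ _ (Groth.L11.Weil.mem_congr T (by omega) (Groth.L11.Weil.mul_mem T (T.pull_mem p i x x.2) (T.pull_mem q _ y hy))),
      hΛ, hM, smul_mul_assoc, map_smul, smul_eq_mul, ← mul_assoc, hss, one_mul]

end Groth.Agent.S19871
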