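import Groth.Statements.S19878
import Groth.Agent.L17.ThickBasic
import Mathlib.RingTheory.Ideal.IdempotentFG
import Mathlib.AlgebraicGeometry.Morphisms.FiniteType

set_option autoImplicit false
universe u
open LVCorr

namespace Groth.Agent.S19878

open AlgebraicGeometry CategoryTheory CategoryTheory.Limits in
/-- Let k be a field, C a k-scheme of finite type, X a k-scheme and c = (c₁, c₂) : C → X ×_k X a
correspondence; let Fix(c) = C ×_{X ×_k X} X be its scheme of fixed points (pullback along the
diagonal), with projections i : Fix(c) → C and δ : Fix(c) → X. Let Z ⊂ X be the closed subscheme of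
a quasi-coherent ideal I and suppose c is contracting near Z in a neighbourhood of the fixed points:
there is an open W ⊆ C containing the image of Fix(c) such that on W the inverse image ideal of I
under c₁ is contained in the inverse image ideal of I under c₂ (c stabilizes Z on W) and some power
(I·O_W via c₁)^k₀ is contained in (I·O_W via c₂)^(k₀+1). Then every connected open subset β of
Fix(c) whose image under δ meets Z is contained, as a set, in δ⁻¹(Z). (The source works with
separated schemes of finite type over an algebraically closed field; this row assumes only that C is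
of finite type over a field k.) -/
theorem result {C X Fx : Scheme.{u}} (k : Type u) [Field k]
    (pC : C ⟶ Spec (CommRingCat.of k)) [LocallyOfFiniteType pC] [QuasiCompact pC]
    (pX : X ⟶ Spec (CommRingCat.of k)) (c₁ c₂ : C ⟶ X) (hc : c₁ ≫ pX = c₂ ≫ pX)
    (i : Fx ⟶ C) (δ : Fx ⟶ X) (hF : IsPullback i δ (pullback.lift c₁ c₂ hc) (pullback.diagonal pX))
    (I : X.IdealSheafData) (W : C.Opens) (hW : Set.range i.base ⊆ (W : Set C))
    (hle : I.comap (W.ι ≫ c₁) ≤ I.comap (W.ι ≫ c₂))
    (k₀ : ℕ) (hpow : I.comap (W.ι ≫ c₁) ^ k₀ ≤ I.comap (W.ι ≫ c₂) ^ (k₀ + 1))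
    (β : Fx.Opens) (hβ : _root_.IsConnected (β : Set Fx))
    (hβZ : (δ.base '' (β : Set Fx) ∩ (I.support : Set X)).Nonempty) :
    (β : Set Fx) ⊆ δ.base ⁻¹' (I.support : Set X) := by

    have h1 : i ≫ c₁ = δ := by
      have := congrArg (fun f => f ≫ pullback.fst pX pX) hF.w
      simp only [Category.assoc] at this
      erw [pullback.lift_fst, pullback.diagonal_fst, Category.comp_id] at this
      exact this
    have h2 : i ≫ c₂ = δ := by
      have := congrArg (fun f => f ≫ pullback.snd pX pX) hF.w
      simp only [Category.assoc] at this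
      erw [pullback.lift_snd, pullback.diagonal_snd, Category.comp_id] at this
      exact this
    let i' : Fx ⟶ W.toScheme := IsOpenImmersion.lift W.ι i (by rwa [Scheme.Opens.range_ι])
    have hi' : i' ≫ W.ι = i := IsOpenImmersion.lift_fac _ _ _
    have hL : ∀ n, (I.comap δ) ^ k₀ ≤ (I.comap δ) ^ (k₀ + n) := by
      have h0 : (I.comap δ) ^ k₀ ≤ (I.comap δ) ^ (k₀ + 1) := by
        have h := Scheme.IdealSheafData.comap_mono (f := i') hpow
        simp only [Groth.L17.Thick.comap_pow, ← Scheme.IdealSheafData.comap_comp, ← Category.assoc, hi', h1, h2] at h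
        exact h
      intro n
      induction n with
      | zero => exact le_rfl
      | succ n ih =>
        refine ih.trans fun U => ?_
        have h := Ideal.mul_mono_right (I := ((I.comap δ).ideal U) ^ n) (h0 U)
        simp only [Scheme.IdealSheafData.ideal_pow, Pi.pow_apply] at h ⊢
        calc (I.comap δ).ideal U ^ (k₀ + n) = (I.comap δ).ideal U ^ n * (I.comap δ).ideal U ^ k₀ := by
              rw [← pow_add, add_comm]
          _ ≤ (I.comap δ).ideal U ^ n * (I.comap δ).ideal U ^ (k₀ + 1) := h
          _ = (I.comap δ).ideal U ^ (k₀ + (n + 1)) := by rw [← pow_add]; congr 1; omega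
    haveI : IsLocallyNoetherian C := LocallyOfFiniteType.isLocallyNoetherian pC
    haveI : LocallyOfFiniteType i := MorphismProperty.of_isPullback hF.flip inferInstance
    haveI : IsLocallyNoetherian Fx := LocallyOfFiniteType.isLocallyNoetherian i
    have hopen : IsOpen ((I.comap δ).support : Set Fx) := by
      refine isOpen_iff_forall_mem_open.2 fun x hx => ?_
      obtain ⟨_, ⟨U, hU, rfl⟩, hxU, -⟩ :=
        Fx.isBasis_affineOpens.exists_subset_of_mem_open (Set.mem_univ x) isOpen_univ
      let U' : Fx.affineOpens := ⟨U, hU⟩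
      haveI : IsNoetherianRing Γ(Fx, U) := IsLocallyNoetherian.component_noetherian U'
      set N := (I.comap δ).ideal U'
      have hidem : IsIdempotentElem (N ^ k₀) := by
        refine le_antisymm Ideal.mul_le_left ?_
        rw [← pow_add]
        exact hL k₀ U'
      obtain ⟨e, he, hNe⟩ := (Ideal.isIdempotentElem_iff_of_fg _ (IsNoetherian.noetherian (N ^ k₀))).1 hidem
      have hxN : x ∈ Fx.zeroLocus (U := U) (N : Set Γ(Fx, U)) :=
        (Scheme.IdealSheafData.mem_supportSet_iff_of_mem (U := U') hxU).1 hx
      refine ⟨(Fx.basicOpen (1 - e) : Set Fx), fun y hy => ?_, (Fx.basicOpen (1 - e)).2, ?_⟩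
      · have hyU : y ∈ U := Fx.basicOpen_le _ hy
        refine (Scheme.IdealSheafData.mem_supportSet_iff_of_mem (U := U') hyU).2 ?_
        rw [Scheme.mem_zeroLocus_iff]
        intro a ha hya
        obtain ⟨r, hr⟩ := Ideal.mem_span_singleton'.1 (hNe ▸ Ideal.pow_mem_pow ha k₀)
        have hy' : y ∈ Fx.basicOpen (a ^ k₀ * (1 - e)) := by
          rw [Scheme.basicOpen_mul]
          refine ⟨?_, hy⟩
          rcases k₀ with _ | k
          · rw [pow_zero, Scheme.basicOpen_of_isUnit _ isUnit_one]
            exact hyU
          · rw [Fx.basicOpen_pow _ (Nat.succ_pos k)]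
            exact hya
        rw [← hr, mul_assoc, show e * (1 - e) = 0 by rw [mul_sub, mul_one, he.eq, sub_self], mul_zero,
          Scheme.basicOpen_zero] at hy'
        exact hy'
      · by_contra hx1
        have hxe : x ∈ Fx.basicOpen e := by
          have h : x ∈ Fx.basicOpen (e + (1 - e)) := by
            rw [add_sub_cancel, Scheme.basicOpen_of_isUnit _ isUnit_one]
            exact hxU
          exact (Fx.basicOpen_add_le e (1 - e) h).resolve_right hx1
        have he' : e ∈ N ^ k₀ := hNe ▸ Ideal.mem_span_singleton_self e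
        rcases k₀ with _ | k
        · have htop : N = ⊤ := top_le_iff.1 (by simpa [N] using hL 1 U')
          rw [Scheme.mem_zeroLocus_iff] at hxN
          exact hxN 1 (htop ▸ trivial) (by rw [Scheme.basicOpen_of_isUnit _ isUnit_one]; exact hxU)
        · rw [Scheme.mem_zeroLocus_iff] at hxN
          exact hxN e (Ideal.pow_le_self (Nat.succ_ne_zero k) he') hxe
    obtain ⟨y, ⟨z, hz, rfl⟩, hy⟩ := hβZ
    have hsupp : ((I.comap δ).support : Set Fx) = δ.base ⁻¹' (I.support : Set X) := by
      rw [Scheme.IdealSheafData.support_comap]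
      rfl
    rw [← hsupp]
    refine hβ.isPreconnected.subset_isClopen ⟨(I.comap δ).support.isClosed, hopen⟩ ⟨z, hz, ?_⟩
    rw [hsupp]
    exact hy

end Groth.Agent.S19878
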