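import Groth.Statements.S19879
import Groth.Agent.L04.Corr.FrobTwistGen
import Groth.Agent.L17.ThickBasic
import Mathlib.AlgebraicGeometry.Morphisms.FiniteType
import Mathlib.AlgebraicGeometry.Morphisms.QuasiFinite
import Mathlib.AlgebraicGeometry.Morphisms.Finite

set_option autoImplicit false
universe u
open LVCorr

namespace Groth.Agent.S19879

open TopologicalSpace Topology in

open AlgebraicGeometry CategoryTheory CategoryTheory.Limits in
/-- Let k₀ be a finite field with p^e elements, K an algebraic closure of k₀, C₀ a scheme of finite type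
over k₀, C = C₀ ×_{k₀} Spec K with its projections, and Fr : C → C the n-th power of the geometric
Frobenius (over K, compatible with the (e·n)-th power of the absolute p-Frobenius of C₀). Let X be
locally of finite type over K and c₁, c₂ : C → X morphisms over K with c₂ locally quasi-finite, and
let d < p^(e n) be such that for every closed point x of X, with J_x the inverse image under c₂ of
the ideal sheaf of the reduced point x, one has (√J_x)^d ⊂ J_x (so p^(e n) exceeds the ramification
degree of c₂). Then the scheme of fixed points of the twisted correspondence (c₁ ∘ Fr, c₂), namely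
the pullback of (c₁ ∘ Fr, c₂) : C → X ×_K X along the diagonal of X, has finite and discrete
underlying topological space. (In the source X, c₁ and c₂ are also defined over k₀ and all schemes
are separated; neither is needed here.) -/
theorem result {C C₀ X Fx : Scheme.{u}}
    (p : ℕ) [Fact p.Prime] (k₀ : Type u) [Field k₀] [Fintype k₀] [CharP k₀ p] (e : ℕ)
    (hq : Fintype.card k₀ = p ^ e) (K : Type u) [Field K] [Algebra k₀ K] [IsAlgClosure k₀ K]
    (f₀ : C₀ ⟶ Spec (CommRingCat.of k₀)) [LocallyOfFiniteType f₀] [QuasiCompact f₀] [FrobSch.IsCharP C₀ p]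
    (πC₀ : C ⟶ C₀) (πK : C ⟶ Spec (CommRingCat.of K))
    (hC : IsPullback πC₀ πK f₀ (Spec.map (CommRingCat.ofHom (algebraMap k₀ K))))
    (n : ℕ) (Fr : C ⟶ C)
    (hFr₀ : Fr ≫ πC₀ = πC₀ ≫ End.asHom (End.of (FrobSch.frob C₀ p) ^ (e * n)))
    (hFrK : Fr ≫ πK = πK)
    (pX : X ⟶ Spec (CommRingCat.of K)) [LocallyOfFiniteType pX]
    (c₁ c₂ : C ⟶ X) (hc₁ : c₁ ≫ pX = πK) (hc₂ : c₂ ≫ pX = πK)
    [LocallyQuasiFinite c₂] [LocallyOfFiniteType c₂]
    (hcomm : (Fr ≫ c₁) ≫ pX = c₂ ≫ pX) (d : ℕ) (hn : d < p ^ (e * n))
    (hd : ∀ (x : X) (hx : IsClosed ({x} : Set X)),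
      ((Scheme.IdealSheafData.vanishingIdeal ⟨{x}, hx⟩).comap c₂).radical ^ d ≤
        (Scheme.IdealSheafData.vanishingIdeal ⟨{x}, hx⟩).comap c₂)
    (i : Fx ⟶ C) (δ : Fx ⟶ X) (hF : IsPullback i δ (pullback.lift (Fr ≫ c₁) c₂ hcomm) (pullback.diagonal pX)) :
    Finite Fx ∧ DiscreteTopology Fx := by

    haveI : Algebra.IsAlgebraic k₀ K := IsAlgClosure.isAlgebraic
    haveI : IsAlgClosed K := IsAlgClosure.isAlgClosed k₀
    haveI : LocallyOfFiniteType πK := MorphismProperty.of_isPullback hC inferInstance
    haveI : QuasiCompact πK := MorphismProperty.of_isPullback hC inferInstance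
    haveI : IsLocallyNoetherian C := LocallyOfFiniteType.isLocallyNoetherian πK
    haveI : CompactSpace C := QuasiCompact.compactSpace_of_compactSpace πK
    haveI : IsNoetherian C := ⟨⟩
    haveI : JacobsonSpace X := LocallyOfFiniteType.jacobsonSpace pX
    haveI : JacobsonSpace C := LocallyOfFiniteType.jacobsonSpace πK
    haveI : IsImmersion i := MorphismProperty.of_isPullback hF.flip inferInstance
    haveI : LocallyOfFiniteType i := MorphismProperty.of_isPullback hF.flip inferInstance
    haveI : JacobsonSpace Fx := LocallyOfFiniteType.jacobsonSpace i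
    haveI : IsLocallyNoetherian Fx := LocallyOfFiniteType.isLocallyNoetherian i
    haveI : NoetherianSpace Fx := i.isEmbedding.isInducing.noetherianSpace
    have h1 : i ≫ Fr ≫ c₁ = δ := by
      have := congrArg (fun f => f ≫ pullback.fst pX pX) hF.w
      simp only [Category.assoc] at this
      erw [pullback.lift_fst, pullback.diagonal_fst, Category.comp_id] at this
      exact this
    have h2 : i ≫ c₂ = δ := by
      have := congrArg (fun f => f ≫ pullback.snd pX pX) hF.w
      simp only [Category.assoc] at this
      erw [pullback.lift_snd, pullback.diagonal_snd, Category.comp_id] at this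
      exact this
    haveI : LocallyOfFiniteType Fr := by
      haveI : LocallyOfFiniteType (Fr ≫ πK) := by rw [hFrK]; infer_instance
      exact locallyOfFiniteType_of_comp Fr πK
    haveI : LocallyOfFiniteType δ := h2 ▸ inferInstance
    have hopen : ∀ y : Fx, IsClosed ({y} : Set Fx) → IsOpen ({y} : Set Fx) := by
      intro y hy
      have hx : IsClosed ({δ.base y} : Set X) := δ.closePoints_subset_preimage_closedPoints hy
      set I := Scheme.IdealSheafData.vanishingIdeal (⟨{δ.base y}, hx⟩ : Closeds X) with hIdef
      have hIsupp : (I.support : Set X) = {δ.base y} := by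
        rw [hIdef, Scheme.IdealSheafData.coe_support_vanishingIdeal]
        rfl
      have hfib : (c₂.base ⁻¹' {δ.base y}).Finite :=
        ((hx.preimage c₂.continuous).isCompact).finite (c₂.isDiscrete_preimage_singleton _)
      have hfibclosed : ∀ b ∈ c₂.base ⁻¹' {δ.base y}, IsClosed ({b} : Set C) := fun b hb => by
        haveI := (c₂.isDiscrete_preimage_singleton (δ.base y)).to_subtype
        have h := (hx.preimage c₂.continuous).isClosedEmbedding_subtypeVal.isClosedMap {⟨b, hb⟩}
          (isClosed_discrete _)
        rwa [Set.image_singleton] at h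
      let B : Set C := {b ∈ c₂.base ⁻¹' {δ.base y} | c₁.base (Fr.base b) ≠ δ.base y}
      have hZ : IsClosed (Fr.base '' B) := by
        rw [← Set.biUnion_of_singleton (Fr.base '' B)]
        refine ((hfib.subset fun b hb => hb.1).image _).isClosed_biUnion ?_
        rintro _ ⟨b, hb, rfl⟩
        exact Fr.closePoints_subset_preimage_closedPoints (hfibclosed b hb.1)
      let M := Scheme.IdealSheafData.vanishingIdeal (⟨Fr.base '' B, hZ⟩ : Closeds C)
      have hMsupp : (M.support : Set C) = Fr.base '' B := by
        rw [Scheme.IdealSheafData.coe_support_vanishingIdeal]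
        rfl
      have hd' : (I.comap c₂).radical ^ d ≤ I.comap c₂ := hd _ hx
      obtain ⟨-, hp⟩ := Groth.L04.FrobTwist.comap_le' p k₀ K f₀ πC₀ πK hC (e * n) Fr hFr₀ hFrK
        (I.comap c₁ * M) (I.comap c₂) d hd' hn (by
          intro b hb
          simp only [Scheme.IdealSheafData.support_comap, Scheme.IdealSheafData.support_mul] at hb ⊢
          change c₂.base b ∈ (I.support : Set X) at hb
          change Fr.base b ∈ ((Closeds.preimage I.support c₁.continuous) ⊔ M.support : Closeds C)
          rw [hIsupp] at hb
          by_cases h : c₁.base (Fr.base b) = δ.base y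
          · left
            show c₁.base (Fr.base b) ∈ (I.support : Set X)
            rw [hIsupp]
            exact h
          · right
            show Fr.base b ∈ (M.support : Set C)
            rw [hMsupp]
            exact ⟨b, ⟨hb, h⟩, rfl⟩)
      have hyM : Fr.base (i.base y) ∉ (M.support : Set C) := by
        rw [hMsupp]
        rintro ⟨b, hb, hbe⟩
        refine hb.2 ?_
        rw [hbe, ← Scheme.Hom.comp_apply, ← Scheme.Hom.comp_apply, h1]
      let O : Fx.Opens :=
        ⟨((i ≫ Fr).base ⁻¹' (M.support : Set C))ᶜ, (M.support.isClosed.preimage (i ≫ Fr).continuous).isOpen_compl⟩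
      have hM : M.comap (O.ι ≫ i ≫ Fr) = ⊤ := by
        rw [← Scheme.IdealSheafData.support_eq_bot_iff, Scheme.IdealSheafData.support_comap]
        refine Closeds.ext (Set.eq_empty_iff_forall_notMem.2 fun z hz => ?_)
        exact z.2 hz
      have hpow : I.comap (O.ι ≫ δ) ^ d ≤ I.comap (O.ι ≫ δ) ^ (d + 1) := by
        have h := Scheme.IdealSheafData.comap_mono (f := O.ι ≫ i) hp
        simp only [Groth.L17.Thick.comap_pow, Groth.L22.Ideals.comap_mul, ← Scheme.IdealSheafData.comap_comp,
          Category.assoc, hM, h1, h2] at h
        rw [show (⊤ : O.toScheme.IdealSheafData) = 1 from rfl, mul_one] at h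
        exact h
      haveI : IsLocallyNoetherian O.toScheme := LocallyOfFiniteType.isLocallyNoetherian O.ι
      have hop := Groth.L04.FrobTwist.isOpen_support_of_pow_le _ d hpow
      rw [Scheme.IdealSheafData.support_comap] at hop
      have hop' : IsOpen ((O : Set Fx) ∩ δ.base ⁻¹' {δ.base y}) := by
        have := O.ι.isOpenEmbedding.isOpenMap _ hop
        convert this using 1
        ext z
        constructor
        · rintro ⟨hzO, hz⟩
          refine ⟨⟨z, hzO⟩, ?_, rfl⟩
          show δ.base z ∈ (I.support : Set X)
          rw [hIsupp]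
          exact hz
        · rintro ⟨⟨w, hw⟩, hwI, rfl⟩
          refine ⟨hw, ?_⟩
          change δ.base w ∈ (I.support : Set X) at hwI
          rw [hIsupp] at hwI
          exact hwI
      have hsub : ∀ z ∈ δ.base ⁻¹' {δ.base y}, i.base z ∈ c₂.base ⁻¹' {δ.base y} := fun z hz => by
        change c₂.base (i.base z) = δ.base y
        rw [← Scheme.Hom.comp_apply, h2]
        exact hz
      have hcl : IsClosed (δ.base ⁻¹' {δ.base y} \ {y}) := by
        rw [← Set.biUnion_of_singleton (δ.base ⁻¹' {δ.base y} \ {y})]
        refine Set.Finite.isClosed_biUnion ?_ fun z hz => ?_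
        · exact (Set.Finite.of_finite_image (hfib.subset (Set.image_subset_iff.2 hsub))
            i.isEmbedding.injective.injOn).subset Set.sdiff_subset
        · rw [show ({z} : Set Fx) = i.base ⁻¹' {i.base z} from
            (i.isEmbedding.injective.preimage_image (s := {z})).symm.trans (by rw [Set.image_singleton])]
          exact (hfibclosed _ (hsub z hz.1)).preimage i.continuous
      convert hop'.inter hcl.isOpen_compl using 1
      ext z
      constructor
      · rintro rfl
        exact ⟨⟨hyM, rfl⟩, fun h => h.2 rfl⟩
      · rintro ⟨⟨-, hz⟩, hz'⟩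
        by_contra hne
        exact hz' ⟨hz, hne⟩
    have huniv : closedPoints Fx = Set.univ := by
      by_contra hne
      have ho : IsOpen (closedPoints Fx) := by
        rw [← Set.biUnion_of_singleton (closedPoints Fx)]
        exact isOpen_biUnion fun z hz => hopen z hz
      obtain ⟨z, hz, hz'⟩ := nonempty_inter_closedPoints (Set.nonempty_compl.2 hne) ho.isClosed_compl.isLocallyClosed
      exact hz hz'
    haveI : DiscreteTopology Fx := discreteTopology_iff_isOpen_singleton.2 fun z =>
      hopen z (huniv ▸ Set.mem_univ z : z ∈ closedPoints Fx)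
    exact ⟨finite_of_compact_of_discrete, inferInstance⟩

end Groth.Agent.S19879
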