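import Groth.Statements.S19880
import Groth.Agent.L26.JacRat.GoodPts
import Groth.Agent.L26.JacRat.Albanese
import Groth.Agent.L21.SmoothCurveDim
import Groth.Agent.L16.SecComp.Smooth
import Groth.Agent.S18366

set_option autoImplicit false
universe u
open CategoryTheory CategoryTheory.Limits AlgebraicGeometry
open JacVar

namespace Groth.Agent.S19880

/-- Let k be a separably closed field, C a smooth proper geometrically connected curve of genus g > 0
over k with a k-rational point, and r > 2g an integer. Then for every effective divisor D of degree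
r on C there is an (r − g)-tuple γ = (P_1, …, P_{r−g}) of k-rational points of C with h⁰(D − P_1 − ⋯
− P_{r−g}) = 1; since every invertible module L of degree r > 2g − 2 is of the form O(D) with D
effective, this is stated as: for every invertible module L of degree r on C there are k-rational
points P_1, …, P_{r−g} with h⁰(C, L ⊗ I_{P_1} ⊗ ⋯ ⊗ I_{P_{r−g}}) = 1. (In the source this is the
statement that the symmetric power C^(r) is the union of the open pieces C^γ.) -/
theorem result (k : Type u) [Field k] [IsSepClosed k]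
    (C : Scheme.{u}) [C.Over (Spec (CommRingCat.of k))]
    [IsProper (C ↘ Spec (CommRingCat.of k))] [Smooth (C ↘ Spec (CommRingCat.of k))] [GeometricallyConnected (C ↘ Spec (CommRingCat.of k))]
    (hdim : topologicalKrullDim ↥C = 1)
    (g : ℕ) (hg : Curv2.genus k C = g) (hg0 : 0 < g)
    (σ₀ : Spec (CommRingCat.of k) ⟶ C) (hσ₀ : σ₀ ≫ (C ↘ Spec (CommRingCat.of k)) = 𝟙 _)
    (r : ℕ) (hr : 2 * g < r)
    (L : C.Modules) (hL : PicF.IsInvertible L) (hLdeg : Curv2.deg k C L 1 = (r : ℤ)) :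
    ∃ σ : Fin (r - g) → (Spec (CommRingCat.of k) ⟶ C), (∀ t, σ t ≫ (C ↘ Spec (CommRingCat.of k)) = 𝟙 _) ∧
      Module.finrank k (Coh.HH C (CohB1.tensorMod L (FGA.tensorList (List.ofFn fun t : Fin (r - g) =>
        ClSub.idealMod (σ t).ker))) 0) = 1 := by
  letI (Y : Scheme.{u}) : CommMonoid (PicF.Cl Y) := Groth.L08.Cube.clMonoid (Y := Y)
  haveI : Subsingleton ↥(Spec (CommRingCat.of k)) := inferInstanceAs (Subsingleton (PrimeSpectrum k))
  haveI : ConnectedSpace ↥(Spec (CommRingCat.of k)) := inferInstanceAs (ConnectedSpace (PrimeSpectrum k))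
  haveI : ConnectedSpace ↥C := GeometricallyConnected.connectedSpace_of_subsingleton (C ↘ Spec (CommRingCat.of k))
  haveI : IsIntegral C := Groth.L12.HypSq.isIntegral (k := k) (C := C)
  haveI := Groth.L21.SmoothCurve.smoothOfRelativeDimension_one (C ↘ Spec (CommRingCat.of k)) hdim
  let f := C ↘ Spec (CommRingCat.of k)
  letI (K : Type u) [Field K] (τ : Spec (CommRingCat.of K) ⟶ Spec (CommRingCat.of k)) :
      (PicF.XT (C ↘ Spec (CommRingCat.of k)) (Over.mk τ)).Over (Spec (CommRingCat.of K)) :=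
    Groth.Agent.L26.PicSm.curveOver (f := C ↘ Spec (CommRingCat.of k)) τ
  obtain ⟨n, hn⟩ : ∃ n, r = g + n := ⟨r - g, by omega⟩
  have hrg : r - g = n := by omega
  suffices h : ∃ σ : Fin n → (Spec (CommRingCat.of k) ⟶ C), (∀ t, σ t ≫ (C ↘ Spec (CommRingCat.of k)) = 𝟙 _) ∧
      Module.finrank k (Coh.HH C (CohB1.tensorMod L (FGA.tensorList (List.ofFn fun t : Fin n =>
        ClSub.idealMod (σ t).ker))) 0) = 1 by
    subst hrg
    exact h
  let T := Groth.Agent.L26.JacRat.cp (C ↘ Spec (CommRingCat.of k)) n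
  let pr := Groth.Agent.L26.JacRat.proj (C ↘ Spec (CommRingCat.of k)) n
  obtain ⟨l, hl, hlL⟩ := Groth.Agent.L26.PicRep.exists_invU
    (c := PicF.cl ((Scheme.Modules.pullback (pullback.fst (C ↘ Spec (CommRingCat.of k)) T.hom)).obj L))
    ⟨_, rfl, Groth.L18.Ample.isInvertible_pullback _ hL⟩
  let c := l * ∏ i, Groth.Agent.Elliptic.uI (pr i)
  have hc : c ∈ Groth.Agent.L26.PicRep.invU _ :=
    Subgroup.mul_mem _ hl (Subgroup.prod_mem _ fun i _ => Groth.Agent.L26.JacRat.uI_mem _)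
  let U : T.left.Opens := ⟨Groth.Agent.L26.PicRep.goodSet (C ↘ Spec (CommRingCat.of k)) T (c : PicF.Cl (PicF.XT (C ↘ Spec (CommRingCat.of k)) T)),
    Groth.Agent.L26.PicRep.isOpen_goodSet hc.1⟩
  have hUne : ((U : T.left.Opens) : Set T.left).Nonempty := by
    let K := AlgebraicClosure k
    let τ : Spec (CommRingCat.of K) ⟶ Spec (CommRingCat.of k) := Spec.map (CommRingCat.ofHom (algebraMap k K))
    haveI := Groth.Agent.L26.PicSm.curve_proper (f := C ↘ Spec (CommRingCat.of k)) τ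
    haveI := Groth.Agent.L26.PicSm.curve_smooth (f := C ↘ Spec (CommRingCat.of k)) τ
    haveI := Groth.Agent.L26.PicSm.curve_integral (f := C ↘ Spec (CommRingCat.of k)) τ
    haveI := Groth.L21.RR.isNoetherian_of_proper (X := PicF.XT (C ↘ Spec (CommRingCat.of k)) (Over.mk τ)) K
    have hd := Groth.Agent.L26.PicSm.curve_dim (f := C ↘ Spec (CommRingCat.of k)) τ
    have h0 := Groth.Agent.L26.PicSm.curve_h0 (f := C ↘ Spec (CommRingCat.of k)) τ
    have hgK : Curv2.genus K (PicF.XT (C ↘ Spec (CommRingCat.of k)) (Over.mk τ)) = g := (Groth.Agent.L26.JacRat.genus_geometric k K τ).trans hg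
    obtain ⟨N, hN, hdN, hh⟩ := Groth.L21.Duality.exists_h0_eq_one (k := K) hd h0 g hgK.ge
    obtain ⟨D, hD, ⟨eD⟩⟩ := Groth.L08.Cube.exists_inverse hN
    let LK : (PicF.XT (C ↘ Spec (CommRingCat.of k)) (Over.mk τ)).Modules :=
      (Scheme.Modules.pullback (pullback.fst (C ↘ Spec (CommRingCat.of k)) τ)).obj L
    have hLK : PicF.IsInvertible LK := Groth.L18.Ample.isInvertible_pullback _ hL
    have hdL : Curv2.deg K (PicF.XT (C ↘ Spec (CommRingCat.of k)) (Over.mk τ)) LK 1 = (r : ℤ) := by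
      rw [← hLdeg]
      exact Groth.L21.RR.deg_pullback (k := k) (K := K) (pullback.fst (C ↘ Spec (CommRingCat.of k)) τ)
        (IsPullback.of_hasPullback (C ↘ Spec (CommRingCat.of k)) τ) hL
    have hdD : Curv2.deg K (PicF.XT (C ↘ Spec (CommRingCat.of k)) (Over.mk τ)) D 1 = - (g : ℤ) := by
      have h := Groth.L21.Duality.deg_tensor (k := K) hd hN hD
      rw [Groth.L21.RR.deg_congr K eD 1, hdN] at h
      simp [Curv2.deg] at h ⊢
      omega
    have hM := Groth.L18.GenLoc.isInvertible_tensor hLK hD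
    have hdM : Curv2.deg K (PicF.XT (C ↘ Spec (CommRingCat.of k)) (Over.mk τ)) (CohB1.tensorMod LK D) 1 = (n : ℤ) := by
      rw [Groth.L21.Duality.deg_tensor (k := K) hd hLK hD, hdL, hdD, hn]
      push_cast
      ring
    have hpos : 0 < Groth.L21.RR.h K 0 (CohB1.tensorMod LK D) := by
      have h := Groth.L21.Duality.rr_deg (k := K) hd.le h0 (CohB1.tensorMod LK D)
      rw [hdM, hgK] at h
      omega
    haveI := Groth.L21.Duality.nontrivial_of_h0_pos (k := K) (L := CohB1.tensorMod LK D) hpos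
    obtain ⟨φM, hφM⟩ := Groth.L21.RR.exists_hom_ne_zero (L := CohB1.tensorMod LK D)
    let o : (Over.mk τ) ⟶ Over.mk (C ↘ Spec (CommRingCat.of k)) := Groth.Agent.Elliptic.origin (Over.mk τ) σ₀ hσ₀
    obtain ⟨p, hp0, hp⟩ := Groth.Agent.L26.PicSm.exists_lift_pw τ o n _ hM hdM ⟨φM, hφM⟩
    obtain ⟨a, ha⟩ := Groth.Agent.L26.JacRat.exists_tuple_of_pw p
    rw [hp0, Groth.Agent.L26.JacRat.prod_diffCl] at ha
    have hp' : PicF.cl LK * PicF.cl D * (Groth.Agent.Elliptic.uI o ^ n : (PicF.Cl (PicF.XT (C ↘ Spec (CommRingCat.of k)) (Over.mk τ)))ˣ) =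
        ((Groth.Agent.Elliptic.uI o ^ n * (∏ i, Groth.Agent.Elliptic.uI (a i))⁻¹ : (PicF.Cl (PicF.XT (C ↘ Spec (CommRingCat.of k)) (Over.mk τ)))ˣ) :
          PicF.Cl (PicF.XT (C ↘ Spec (CommRingCat.of k)) (Over.mk τ))) := hp.symm.trans (congrArg Units.val ha)
    rw [Units.val_mul, mul_comm (_ * _) ((Groth.Agent.Elliptic.uI o ^ n : (PicF.Cl (PicF.XT (C ↘ Spec (CommRingCat.of k)) (Over.mk τ)))ˣ) :
      PicF.Cl (PicF.XT (C ↘ Spec (CommRingCat.of k)) (Over.mk τ))), Units.mul_right_inj] at hp'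
    refine ⟨(Groth.Agent.L26.JacRat.tup a).left (IsLocalRing.closedPoint K), ?_⟩
    have e1 : PicF.pullCl (PicF.XTmap (C ↘ Spec (CommRingCat.of k)) (Groth.Agent.L26.JacRat.tup a)) (c : PicF.Cl (PicF.XT (C ↘ Spec (CommRingCat.of k)) T)) = PicF.cl N := by
      show ((Groth.Agent.L26.PicRep.mp (C ↘ Spec (CommRingCat.of k)) (Groth.Agent.L26.JacRat.tup a) c :
        (PicF.Cl (PicF.XT (C ↘ Spec (CommRingCat.of k)) (Over.mk τ)))ˣ) : PicF.Cl (PicF.XT (C ↘ Spec (CommRingCat.of k)) (Over.mk τ))) = _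
      simp only [c, map_mul, map_prod, Groth.Agent.Elliptic.map_uI, pr, Groth.Agent.L26.JacRat.tup_proj,
        Units.val_mul]
      show PicF.pullCl _ (l : PicF.Cl (PicF.XT (C ↘ Spec (CommRingCat.of k)) T)) * _ = _
      rw [hlL, show PicF.pullCl (PicF.XTmap (C ↘ Spec (CommRingCat.of k)) (Groth.Agent.L26.JacRat.tup a))
          (PicF.cl ((Scheme.Modules.pullback (pullback.fst (C ↘ Spec (CommRingCat.of k)) T.hom)).obj L)) = PicF.cl LK from
        (PicLoc.pullCl_comp _ _ (PicF.cl L)).symm.trans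
          (by rw [Groth.L02.Hilb.XTmap_fst]; rfl)]
      have hDN : PicF.cl N * PicF.cl D = 1 := Groth.Agent.AbDualLib.cl_congr eD
      calc PicF.cl LK * _ = PicF.cl LK * (PicF.cl N * PicF.cl D) *
            ((∏ i, Groth.Agent.Elliptic.uI (a i) : (PicF.Cl (PicF.XT (C ↘ Spec (CommRingCat.of k)) (Over.mk τ)))ˣ) : PicF.Cl (PicF.XT (C ↘ Spec (CommRingCat.of k)) (Over.mk τ))) := by
            rw [hDN, mul_one]
        _ = PicF.cl N * (PicF.cl LK * PicF.cl D *
            ((∏ i, Groth.Agent.Elliptic.uI (a i) : (PicF.Cl (PicF.XT (C ↘ Spec (CommRingCat.of k)) (Over.mk τ)))ˣ) : PicF.Cl (PicF.XT (C ↘ Spec (CommRingCat.of k)) (Over.mk τ)))) := by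
            simp only [mul_left_comm, mul_assoc]
        _ = _ := by rw [hp', Units.inv_mul, mul_one]
    refine (Groth.Agent.L26.PicRep.goodSet_pull (Groth.Agent.L26.JacRat.tup a) hc.1).le
      (?_ : (IsLocalRing.closedPoint K : (Over.mk τ).left) ∈ Groth.Agent.L26.PicRep.goodSet (C ↘ Spec (CommRingCat.of k)) (Over.mk τ) _)
    rw [e1]
    have h1 : Groth.L21.RR.h K 1 N = 0 := by
      have e := Groth.L21.Duality.rr_deg (k := K) hd.le h0 N
      rw [hdN, hgK, hh] at e
      omega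
    have hNc := Groth.L16.ProperFinite.isCoh_of_isInvertible hN
    exact (Groth.Agent.L26.PicRep.mem_goodSet_iff (L := N) rfl _).2
      ⟨(Groth.Agent.L26.JacRat.fiberRank_eq_h (K := K) (Y := PicF.XT (C ↘ Spec (CommRingCat.of k)) (Over.mk τ)) hNc 1 _).trans h1,
        (Groth.Agent.L26.JacRat.fiberRank_eq_h (K := K) (Y := PicF.XT (C ↘ Spec (CommRingCat.of k)) (Over.mk τ)) hNc 0 _).trans hh⟩
  haveI := Groth.Agent.L26.JacRat.isProper_cp (f := C ↘ Spec (CommRingCat.of k)) n
  haveI := Groth.Agent.L26.JacRat.smooth_cp (f := C ↘ Spec (CommRingCat.of k)) n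
  haveI : IsLocallyNoetherian T.left := LocallyOfFiniteType.isLocallyNoetherian T.hom
  haveI : GeometricallyReduced (U.ι ≫ T.hom) := Groth.L16.SecComp.geometricallyReduced_of_smooth _
  haveI : Nonempty ↥(U : Scheme.{u}) := hUne.to_subtype
  obtain ⟨x, hx⟩ := Groth.Agent.S18366.result k (U.ι ≫ T.hom)
  let q : Groth.Agent.L26.JacRat.onePt k ⟶ T := Over.homMk (x ≫ U.ι) (by rw [Category.assoc]; exact hx)
  have hq : ∀ t, q.left t ∈ U := fun t => by
    show (x ≫ U.ι) t ∈ U
    exact (x t).2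
  refine ⟨fun i => ((q ≫ pr i).left : Spec (CommRingCat.of k) ⟶ C), fun i => Over.w (q ≫ pr i), ?_⟩
  refine (Groth.Agent.L26.JacRat.h_of_good (X := C) hc q hq (Groth.L18.GenLoc.isInvertible_tensor hL ?_) ?_).2
  · refine Groth.Agent.AbDualLib.isInvertible_of_isInvertibleCl ?_
    rw [Groth.Agent.L26.JacRat.cl_tensorList_ofFn]
    choose w hw hwv using fun i => Groth.Agent.L26.PicRep.exists_invU
      (c := PicF.cl (ClSub.idealMod (q ≫ pr i).left.ker))
      ⟨_, rfl, Groth.Agent.Elliptic.isInvertible_ker (f := C ↘ Spec (CommRingCat.of k)) (Over.w (q ≫ pr i))⟩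
    have e := (Subgroup.prod_mem (Groth.Agent.L26.PicRep.invU C) fun i (_ : i ∈ Finset.univ) => hw i).1
    simpa only [Units.coe_prod, hwv] using e
  · rw [show PicF.cl (CohB1.tensorMod L (FGA.tensorList _)) = PicF.cl L * PicF.cl (FGA.tensorList _) from rfl,
      map_mul, Groth.Agent.L26.JacRat.cl_tensorList_ofFn, map_prod]
    simp only [c, map_mul, map_prod, Groth.Agent.Elliptic.map_uI, Units.val_mul, Units.coe_prod]
    congr 1
    · show _ = PicF.pullCl _ (l : PicF.Cl (PicF.XT (C ↘ Spec (CommRingCat.of k)) T))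
      rw [hlL]
      exact (PicLoc.pullCl_comp _ _ (PicF.cl L) |>.symm.trans (by rw [Groth.L02.Hilb.XTmap_fst]; rfl)).symm
    · refine Finset.prod_congr rfl fun i _ => ?_
      exact (Groth.Agent.L26.JacRat.val_uI_ptX (X := C) (q ≫ pr i).left (Over.w (q ≫ pr i))).symm.trans
        (congrArg (fun z => (Groth.Agent.Elliptic.uI z : PicF.Cl (PicF.XT (C ↘ Spec (CommRingCat.of k)) (Groth.Agent.L26.JacRat.onePt k))))
          (Groth.Agent.L26.JacRat.comp_ptX (X := C) q (pr i) _ _ rfl).symm)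

end Groth.Agent.S19880
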