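import Groth.Statements.S19882
import Groth.Agent.L27.Assoc.Restrict
import Groth.Agent.L27.EtaleLift
import Groth.Agent.L28.AcyComp.Iso
import Mathlib.LinearAlgebra.TensorProduct.Quotient

set_option autoImplicit false
set_option linter.style.haveILetI false
set_option backward.isDefEq.respectTransparency.types false
open CategoryTheory CategoryTheory.Limits AlgebraicGeometry Opposite
universe u
open EtZar

namespace Groth.Agent.S19882

/-- Let (A, I) be a Henselian pair with A of prime characteristic p, let F be a quasi-coherent module on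
X = Spec A with associated abelian sheaf G on the small étale site of X, and let i : Y = Spec(A/I) →
X be the closed immersion. Then the Zariski cohomology groups H^j(Y, (i⁻¹G)|_{Y_Zar}) of the
restriction to the opens of Y of the étale inverse image of G vanish for all j ≥ 1. (The source
states the vanishing of H^j(Z, F^h) for the Henselian scheme Z = Sph(A, I), whose underlying space
is that of Y, and identifies F^h with (i⁻¹G)|_{Y_Zar}; this row states the vanishing for the latter
sheaf. Continuity of the opens-to-étale-schemes functor is carried as an instance binder.) -/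
theorem result (A : Type u) [CommRing A]
    (I : Ideal A) [HenselianRing A I] (p : ℕ) [Fact p.Prime] [CharP A p]
    (F : (Spec (CommRingCat.of A)).Modules) [F.IsQuasicoherent] (G : EtCoh.Ab (Spec (CommRingCat.of A)))
    (hG : EtAssoc.IsAssoc F G) [EtZar.ZarCont (Spec (CommRingCat.of (A ⧸ I)))]
    (j : ℕ) (hj : 1 ≤ j) :
    Subsingleton (EtZar.H ((EtZar.resZar (Spec (CommRingCat.of (A ⧸ I)))).obj
      ((EtCoh.pull (Spec.map (CommRingCat.ofHom (Ideal.Quotient.mk I)))).obj G)) j) := by
  let Y := Spec (CommRingCat.of (A ⧸ I))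
  let i : Y ⟶ Spec (CommRingCat.of A) := Spec.map (CommRingCat.ofHom (Ideal.Quotient.mk I))
  haveI : Coh.IsQCoh F := ‹F.IsQuasicoherent›
  have hT : EtCoh.IsTorsion G := by
    obtain ⟨j'⟩ := Groth.L27.Assoc.nonempty_iso_sh F hG
    have hinj : ∀ U : (Spec (CommRingCat.of A)).Etale, Function.Injective (j'.hom.hom.app (op U)) := fun U =>
      haveI : IsIso (j'.hom.hom) := inferInstanceAs (IsIso ((sheafToPresheaf _ _).map j'.hom))
      (ConcreteCategory.bijective_of_isIso (j'.hom.hom.app (op U))).1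
    intro U s x
    refine ⟨U, 𝟙 U, ⟨x, rfl⟩, isOfFinAddOrder_iff_nsmul_eq_zero.2 ⟨p, (Fact.out : p.Prime).pos, ?_⟩⟩
    rw [op_id, Functor.map_id_apply]
    refine hinj U ?_
    rw [map_nsmul, map_zero]
    refine ULift.ext _ _ ?_
    show p • (j'.hom.hom.app (op U) s).down = 0
    generalize (j'.hom.hom.app (op U) s).down = y
    rw [← Nat.cast_smul_eq_nsmul Γ(U.left, ⊤)]
    have h0 : (p : Γ(U.left, ⊤)) = 0 := by
      have h := congrArg (((Scheme.ΓSpecIso (CommRingCat.of A)).inv ≫ U.hom.appTop).hom) (CharP.cast_eq_zero A p)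
      rwa [map_natCast, map_zero] at h
    rw [h0]
    exact zero_smul _ y
  refine Groth.L28.EtCartan.subsingleton_H_resZar Y _ (fun T hTaff q hq => ?_) j hj
  obtain ⟨m, rfl⟩ : ∃ m, q = m + 1 := ⟨q - 1, by omega⟩
  haveI := hTaff
  let v : T.left ⟶ Y := T.hom
  haveI : AlgebraicGeometry.Etale v := T.prop
  let φ : CommRingCat.of (A ⧸ I) ⟶ Γ(T.left, ⊤) := (Scheme.ΓSpecIso _).inv ≫ v.appTop
  have hv : v = T.left.isoSpec.hom ≫ Spec.map φ := by
    simp only [φ, Scheme.isoSpec, asIso_hom, Spec.map_comp, ← Scheme.toSpecΓ_naturality_assoc, ← SpecMap_ΓSpecIso_hom]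
    simp [Y]
  letI : Algebra (A ⧸ I) Γ(T.left, ⊤) := φ.hom.toAlgebra
  haveI : Algebra.Etale (A ⧸ I) Γ(T.left, ⊤) := by
    have h : AlgebraicGeometry.Etale (Spec.map φ) := by
      have e : Spec.map φ = T.left.isoSpec.inv ≫ v := by rw [hv, Iso.inv_hom_id_assoc]
      rw [e]
      infer_instance
    rw [HasRingHomProperty.Spec_iff (P := @AlgebraicGeometry.Etale)] at h
    exact h
  obtain ⟨C, _, _, hC, ⟨e⟩⟩ := Groth.L27.EtaleLift.exists_lift A I Γ(T.left, ⊤)
  haveI := hC
  let π : C →+* Γ(T.left, ⊤) := e.toAlgHom.toRingHom.comp (Algebra.TensorProduct.includeRight (R := A) (A := A ⧸ I) (B := C)).toRingHom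
  letI : Algebra C Γ(T.left, ⊤) := π.toAlgebra
  have hs : Function.Surjective (algebraMap C Γ(T.left, ⊤)) := fun y => by
    have h : Function.Surjective (TensorProduct.mk A (A ⧸ I) C 1) :=
      TensorProduct.mk_surjective (R := A) C (A ⧸ I) Ideal.Quotient.mk_surjective
    obtain ⟨z, hz⟩ := e.surjective y
    obtain ⟨c, hc⟩ := h z
    exact ⟨c, (congrArg e hc).trans hz⟩
  let t : Spec (CommRingCat.of C) ⟶ Spec (CommRingCat.of A) := Groth.L27.StalkRpush.toBase A C
  haveI : AlgebraicGeometry.Etale t := Groth.L27.StalkRpush.etale_toBase A C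
  have hspec := Groth.L27.ModEfface.subsingleton_H_spec C Γ(T.left, ⊤) t hs hT
    (Groth.L27.Assoc.etAcyclicAff F hG) m
  have w : T.left.isoSpec.hom ≫ Groth.L27.StalkRpush.toBase C Γ(T.left, ⊤) ≫ t = v ≫ i := by
    rw [hv, Category.assoc]
    refine congrArg (_ ≫ ·) ?_
    show Spec.map _ ≫ Spec.map _ = Spec.map φ ≫ Spec.map _
    rw [← Spec.map_comp, ← Spec.map_comp]
    refine congrArg Spec.map (CommRingCat.hom_ext (RingHom.ext fun a => ?_))
    show e ((1 : A ⧸ I) ⊗ₜ[A] algebraMap A C a) = φ (Ideal.Quotient.mk I a)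
    rw [show ((1 : A ⧸ I) ⊗ₜ[A] algebraMap A C a) = (Ideal.Quotient.mk I a) ⊗ₜ[A] (1 : C) by
      rw [Algebra.algebraMap_eq_smul_one, TensorProduct.tmul_smul, TensorProduct.smul_tmul', Algebra.smul_def, mul_one]
      rfl]
    exact e.commutes _
  haveI : PreservesFiniteLimits (EtCoh.pull T.left.isoSpec.hom) := Groth.L27.EtSite.preservesFiniteLimits_pull _
  have h' : Subsingleton (EtCoh.H T.left ((EtCoh.pull T.left.isoSpec.hom).obj
      ((EtCoh.pull (Groth.L27.StalkRpush.toBase C Γ(T.left, ⊤) ≫ t)).obj G)) (m + 1)) :=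
    (Groth.L28.AcyComp.bijective_Hpull T.left.isoSpec.hom _ (m + 1)).2.subsingleton
  exact Groth.L27.ModEfface.subsingleton_H_of_iso (((EtCore.pullComp v i).symm ≪≫ (EtCore.pullCongr w).symm ≪≫
    EtCore.pullComp T.left.isoSpec.hom _).app G) _ h'

end Groth.Agent.S19882
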