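import Groth.Statements.S19887
import Groth.Agent.L13.Nagata.Modification
import Groth.Agent.L23.SchKer

set_option autoImplicit false
universe u
open LVCorr

set_option backward.isDefEq.respectTransparency.types false
set_option linter.style.haveILetI false
set_option backward.isDefEq.respectTransparency.types false
open AlgebraicGeometry CategoryTheory CategoryTheory.Limits
namespace Groth.Agent.S19887

open AlgebraicGeometry CategoryTheory CategoryTheory.Limits in
/-- Let k be a field and R a discrete valuation ring with a k-algebra structure, with generic point η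
(an open point of Spec R). Let X be a separated k-scheme of finite type, X_R = X ×_k Spec R, and let
(X̃, φ) be a lift of X over R: X̃ is a separated R-scheme of finite type (locally of finite type and
quasi-compact over R) and φ : X̃ → X_R an R-morphism inducing an isomorphism over η. Then there
exist a scheme Ỹ and a proper morphism ψ : Ỹ → X̃ such that (1) (Ỹ, ψ ∘ φ) is a lift of X, i.e. ψ ∘
φ is an isomorphism over η, (2) Ỹ is proper over X̃, and (3) for every compactification of X, i.e.
every open immersion of X over k into a proper k-scheme X̄ (with X̄_R = X̄ ×_k Spec R and the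
induced morphism X_R → X̄_R), Ỹ embeds by an open immersion into a scheme Ỹ(X̄) proper over R and
lifting X̄ (an R-morphism Ỹ(X̄) → X̄_R that is an isomorphism over η) such that Ỹ → Ỹ(X̄) → X̄_R
equals Ỹ → X̃ → X_R → X̄_R. (The source works over an algebraically closed field k and a discrete
valuation ring over k with residue field k, and its compactifications are dense open immersions;
none of this is used.) -/
theorem result
    (k : Type u) [Field k] (R : Type u) [CommRing R] [IsDomain R] [IsDiscreteValuationRing R] [Algebra k R]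
    (η : (Spec (CommRingCat.of R)).Opens) (hη : (η : Set ↥(Spec (CommRingCat.of R))) = {genericPoint ↥(Spec (CommRingCat.of R))})
    (X : Scheme.{u}) (pX : X ⟶ Spec (CommRingCat.of k)) [IsSeparated pX] [LocallyOfFiniteType pX] [QuasiCompact pX]
    (XR : Scheme.{u}) (a : XR ⟶ X) (b : XR ⟶ Spec (CommRingCat.of R)) (hXR : IsPullback a b pX (Spec.map (CommRingCat.ofHom (algebraMap k R))))
    (Xt : Scheme.{u}) (q : Xt ⟶ Spec (CommRingCat.of R)) [IsSeparated q] [LocallyOfFiniteType q] [QuasiCompact q]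
    (φ : Xt ⟶ XR) (hφ : φ ≫ b = q) (hφη : IsIso (φ ∣_ (b ⁻¹ᵁ η))) :
    ∃ (Y : Scheme.{u}) (ψ : Y ⟶ Xt), IsProper ψ ∧ IsIso ((ψ ≫ φ) ∣_ (b ⁻¹ᵁ η)) ∧
      ∀ (Xb : Scheme.{u}) (pXb : Xb ⟶ Spec (CommRingCat.of k)) [IsProper pXb] (jX : X ⟶ Xb) [IsOpenImmersion jX]
        (hj : jX ≫ pXb = pX)
        (XbR : Scheme.{u}) (ab : XbR ⟶ Xb) (bb : XbR ⟶ Spec (CommRingCat.of R)) (hXbR : IsPullback ab bb pXb (Spec.map (CommRingCat.ofHom (algebraMap k R))))
        (jR : XR ⟶ XbR) (hjR₁ : jR ≫ ab = a ≫ jX) (hjR₂ : jR ≫ bb = b),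
        ∃ (Yb : Scheme.{u}) (qb : Yb ⟶ Spec (CommRingCat.of R)) (_ : IsProper qb) (φb : Yb ⟶ XbR) (_ : φb ≫ bb = qb)
          (_ : IsIso (φb ∣_ (bb ⁻¹ᵁ η))) (e : Y ⟶ Yb) (_ : IsOpenImmersion e),
          e ≫ φb = ψ ≫ φ ≫ jR := by
  let s := Spec.map (CommRingCat.ofHom (algebraMap k R))
  haveI : LocallyOfFiniteType b := MorphismProperty.of_isPullback hXR ‹LocallyOfFiniteType pX›
  haveI : QuasiCompact b := MorphismProperty.of_isPullback hXR ‹QuasiCompact pX›
  haveI : IsSeparated b := MorphismProperty.of_isPullback hXR ‹IsSeparated pX›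
  haveI : IsLocallyNoetherian XR := LocallyOfFiniteType.isLocallyNoetherian b
  haveI : CompactSpace XR := QuasiCompact.compactSpace_of_compactSpace b
  haveI : IsNoetherian XR := ⟨⟩
  haveI : IsSeparated (φ ≫ b) := by rw [hφ]; infer_instance
  haveI : IsSeparated φ := IsSeparated.of_comp φ b
  haveI : LocallyOfFiniteType (φ ≫ b) := by rw [hφ]; infer_instance
  haveI : LocallyOfFiniteType φ := locallyOfFiniteType_of_comp φ b
  haveI : QuasiCompact (φ ≫ b) := by rw [hφ]; infer_instance
  haveI : QuasiCompact φ := QuasiCompact.of_comp φ b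
  haveI := hφη
  let U : XR.Opens := b ⁻¹ᵁ η
  obtain ⟨J, X', T', β, c, h, hβ, hc, hJ, -, hh, hhb⟩ :=
    Groth.L13.Nagata.exists_openImmersion_blowUps φ U (TopologicalSpace.NoetherianSpace.isCompact _)
  have hcft : BlowUp.IsFiniteTypeIdeal (J.comap φ) := Groth.L13.Nagata.isFiniteType_comap hJ.1 φ
  haveI := Groth.L13.BU.isProper_blowUp hc hcft
  refine ⟨T', c, inferInstance, ?_, ?_⟩
  · rw [morphismRestrict_comp]
    refine IsIso.comp_isIso' (Groth.L13.Nagata.isIso_restrict_of_admissible hc ?_) hφη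
    refine Set.disjoint_left.2 fun y hy hyU => ?_
    rw [Scheme.IdealSheafData.support_comap] at hy
    exact Set.disjoint_left.1 hJ.2 (show φ y ∈ (J.support : Set XR) from hy) hyU
  intro Xb pXb _ jX _ hj XbR ab bb hXbR jR hjR₁ hjR₂
  haveI : IsProper bb := MorphismProperty.of_isPullback hXbR ‹IsProper pXb›
  haveI : IsLocallyNoetherian XbR := LocallyOfFiniteType.isLocallyNoetherian bb
  haveI : CompactSpace XbR := QuasiCompact.compactSpace_of_compactSpace bb
  haveI : IsNoetherian XbR := ⟨⟩
  have hpb : IsPullback a jR jX ab :=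
    IsPullback.of_bot (by rw [hjR₂, hj]; exact hXR) hjR₁.symm hXbR
  haveI : IsOpenImmersion jR := MorphismProperty.of_isPullback hpb ‹IsOpenImmersion jX›
  haveI : QuasiCompact (jR ≫ bb) := by rw [hjR₂]; infer_instance
  haveI : QuasiCompact jR := QuasiCompact.of_comp jR bb
  let Jb : XbR.IdealSheafData := (J.subschemeι ≫ jR).ker
  have hft : BlowUp.IsFiniteTypeIdeal Jb := fun V => by
    haveI : IsNoetherianRing Γ(XbR, V.1) := IsLocallyNoetherian.component_noetherian V
    exact IsNoetherian.noetherian _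
  have hcomap : Jb.comap jR = J := by
    show (J.subschemeι ≫ jR).ker.comap jR = J
    rw [Groth.L23.SchKer.comap_ker_of_quasiCompact]
    have hp : IsPullback J.subschemeι (𝟙 _) jR (J.subschemeι ≫ jR) :=
      IsPullback.of_vert_isIso_mono ⟨(Category.id_comp _).symm⟩
    rw [← hp.isoPullback_inv_fst, Scheme.Hom.ker_comp_of_isIso, Scheme.IdealSheafData.ker_subschemeι]
  have hdis : Disjoint (Jb.support : Set XbR) ((bb ⁻¹ᵁ η : XbR.Opens) : Set XbR) := by
    refine Set.disjoint_left.2 fun y hy hyη => ?_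
    rw [show (Jb.support : Set XbR) = closure (Set.range (J.subschemeι ≫ jR)) from
      Scheme.Hom.support_ker _] at hy
    obtain ⟨_, hmη, m, rfl⟩ := mem_closure_iff.1 hy _ (bb ⁻¹ᵁ η).2 hyη
    have hm : J.subschemeι m ∈ (J.support : Set XR) := by
      rw [← Scheme.IdealSheafData.range_subschemeι]; exact ⟨m, rfl⟩
    refine Set.disjoint_left.1 hJ.2 hm ?_
    show b (J.subschemeι m) ∈ η
    rw [← hjR₂, Scheme.Hom.comp_apply]
    exact hmη
  obtain ⟨Yb, βb, hβb⟩ := Groth.L13.BU.exists_isBlowUp Jb
  haveI := Groth.L13.BU.isProper_blowUp hβb hft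
  have hP : BlowUp.IsBlowUp (pullback.fst jR βb) J := hcomap ▸ Groth.L13.BU.isBlowUp_pullback jR hβb
  obtain ⟨l, hl, -⟩ := hP.2 X' β hβ.1
  haveI := Groth.L13.BU.isIso_of_blowUps hP hβ l hl
  haveI := hh
  refine ⟨Yb, βb ≫ bb, inferInstance, βb, rfl,
    Groth.L13.Nagata.isIso_restrict_of_admissible hβb hdis, h ≫ l ≫ pullback.snd jR βb,
    inferInstance, ?_⟩
  rw [Category.assoc, Category.assoc, ← pullback.condition, reassoc_of% hl, reassoc_of% hhb]


end Groth.Agent.S19887
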