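import Groth.Agent.L18.ValCrit2
import Groth.Statements.S19892
-- import your own Groth.Agent.* helpers here

set_option autoImplicit false
universe u
open CategoryTheory AlgebraicGeometry
open ValCrit

namespace Groth.Agent.S19892

/-- Let h : Z → Y and f : Y → X be morphisms of quasi-compact quasi-separated schemes, with h dominant
and f locally of finite type. Then f is proper if and only if the following refined valuative
criterion holds: for every point z of Z, every valuation ring R of the residue field κ(z) and every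
morphism φ : Spec R → X whose restriction to Spec κ(z) is the canonical morphism Spec κ(z) → Z → Y →
X, there is exactly one morphism Spec R → Y lying over φ and restricting to Spec κ(z) → Z → Y on the
generic point. (The published statement does not require h to be dominant; its proof uses that every
point of Y generalises to a point of h(Z), and for Z empty the criterion holds whatever f is, so
dominance of h is assumed here.) -/
theorem result {X Y Z : Scheme.{u}} (h : Z ⟶ Y) (f : Y ⟶ X)
    [CompactSpace ↥Z] [QuasiSeparatedSpace ↥Z] [CompactSpace ↥Y] [QuasiSeparatedSpace ↥Y]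
    [CompactSpace ↥X] [QuasiSeparatedSpace ↥X] (hd : DenseRange h.base)
    [LocallyOfFiniteType f] :
    IsProper f ↔
      ∀ (z : ↥Z) (R : ValuationSubring ↑(Z.residueField z)) (φ : Spec (CommRingCat.of ↥R) ⟶ X),
        Spec.map (CommRingCat.ofHom R.subtype) ≫ φ = Z.fromSpecResidueField z ≫ h ≫ f →
        ∃! φ' : Spec (CommRingCat.of ↥R) ⟶ Y,
          Spec.map (CommRingCat.ofHom R.subtype) ≫ φ' = Z.fromSpecResidueField z ≫ h ∧ φ' ≫ f = φ := by
  have : QuasiCompact h := inferInstance
  have : QuasiCompact f := inferInstance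
  have : QuasiSeparated f := inferInstance
  refine ⟨fun hp z R φ w => ?_, fun H => ?_⟩
  · rw [IsProper.eq_valuativeCriterion] at hp
    let S : ValuativeCommSq f :=
      ⟨R, Z.residueField z, Z.fromSpecResidueField z ≫ h, φ, ⟨(Category.assoc _ _ _).trans w.symm⟩⟩
    obtain ⟨⟨⟨l, hl₁, hl₂⟩⟩, hu⟩ := (hp.1.1.1 S).some
    exact ⟨l, ⟨hl₁, hl₂⟩, fun l' hl' => congrArg CommSq.LiftStruct.l (hu ⟨l', hl'.1, hl'.2⟩)⟩
  · refine .of_valuativeCriterion f (ValuativeCriterion.iff.mpr ⟨?_, ?_⟩)
    · refine Groth.L18.existence_of_residueField f fun y V φ w => ?_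
      obtain ⟨z, hz⟩ := Groth.L18.exists_specializes_of_denseRange h hd y
      exact Groth.L18.exists_lift_of_refined h f hz
        (fun R φ' w' => (H z R φ' w').exists)
        (fun R φ₁ φ₂ e₁ e₂ ef => (H z R (φ₁ ≫ f)
          (by rw [← Category.assoc, e₁, Category.assoc])).unique ⟨e₁, rfl⟩ ⟨e₂, ef.symm⟩) V φ w
    · refine Groth.L18.uniqueness_of_residueField f fun y V l₁ l₂ hf h₁ h₂ => ?_
      obtain ⟨z, hz⟩ := Groth.L18.exists_specializes_of_denseRange h hd y
      exact Groth.L18.ext_of_refined h f hz
        (fun R φ₁ φ₂ e₁ e₂ ef => (H z R (φ₁ ≫ f)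
          (by rw [← Category.assoc, e₁, Category.assoc])).unique ⟨e₁, rfl⟩ ⟨e₂, ef.symm⟩)
        V l₁ l₂ hf h₁ h₂

end Groth.Agent.S19892
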