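import Groth.Statements.S19893
import Groth.Agent.L08.Albanese.Isogeny
import Groth.Agent.L08.NormalQuot.Affine
import Groth.Agent.L08.SmallNorm.HasAff
import Groth.Agent.L18.GrpHomFinite
import Groth.Agent.L26.Poincare.Reducibility
import Groth.Agent.L26.AbDual.Bidual
import Groth.Agent.L26.AV.TateRankGeom
import Groth.Agent.L26.AV.GroupSep
import Groth.Agent.L26.AV.SmoothField
import Groth.Agent.L26.Theta.QuotAV

set_option autoImplicit false
universe u
open CategoryTheory CategoryTheory.Limits MonoidalCategory CartesianMonoidalCategory AlgebraicGeometry MonObj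
open Neron

namespace Groth.Agent.S19893

set_option backward.isDefEq.respectTransparency false
set_option linter.style.haveILetI false
set_option synthInstance.maxHeartbeats 200000
open MonoidalCategory CartesianMonoidalCategory
open scoped MonObj

/-- Let k be a field and P a pseudo-abelian variety over k, that is a smooth connected commutative
k-group scheme of finite type all of whose smooth connected affine closed subgroup schemes are
trivial. Suppose P is an extension 0 → E → P → V → 0 with E → P a closed immersion that is the
kernel of a surjective homomorphism P → V, where E is an abelian variety over k (proper, smooth,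
geometrically integral) and V is a smooth connected affine k-group whose base change to an algebraic
closure of k contains no non-trivial subtorus. Suppose L is a finite, purely inseparable field
extension of k such that the base change P_L is likewise an extension 0 → H → P_L → A → 0 with H a
smooth connected affine L-group having no non-trivial subtorus over an algebraic closure of L and A
an abelian variety over L of dimension g (so that g is the virtual abelian rank of P). Then the
dimension of E equals g. (Both extensions are taken as data: their existence is a result of the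
literature that the source quotes. The second assertion of the proposition, on good reduction, is
not part of this statement. The source works over the fraction field of an excellent discrete
valuation ring of characteristic p > 0; the assertion and its argument use only the field, so k is
an arbitrary field here.) -/
theorem result
    (k : Type u) [Field k]
    (P : Over (Spec (CommRingCat.of k))) [GrpObj P] [IsCommMonObj P]
    [Smooth P.hom] [LocallyOfFiniteType P.hom] [QuasiCompact P.hom] [ConnectedSpace ↥P.left]
    (hP : ∀ (H : Over (Spec (CommRingCat.of k))) [GrpObj H] (j : H ⟶ P) [IsMonHom j],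
      IsClosedImmersion j.left → Smooth H.hom → ConnectedSpace ↥H.left → IsAffine H.left → IsIso η[H])
    (E V : Over (Spec (CommRingCat.of k))) [GrpObj E] [GrpObj V]
    (iE : E ⟶ P) [IsMonHom iE] (q : P ⟶ V) [IsMonHom q]
    (hiE : IsClosedImmersion iE.left) (hkerE : AlgGrp.IsKernel iE q) (hq : Surjective q.left)
    [IsProper E.hom] [Smooth E.hom] [GeometricallyIntegral E.hom]
    [Smooth V.hom] [ConnectedSpace ↥V.left] [IsAffine V.left]
    (hV : Red.HasNoSubtorus (AlgebraicClosure k)
      (Red.bc (Spec.map (CommRingCat.ofHom (algebraMap k (AlgebraicClosure k)))) V))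
    (L : Type u) [Field L] [Algebra k L] [FiniteDimensional k L] [IsPurelyInseparable k L]
    (H A : Over (Spec (CommRingCat.of L))) [GrpObj H] [GrpObj A]
    (i : H ⟶ Red.bc (Spec.map (CommRingCat.ofHom (algebraMap k L))) P) [IsMonHom i] (π : Red.bc (Spec.map (CommRingCat.ofHom (algebraMap k L))) P ⟶ A) [IsMonHom π]
    (hi : IsClosedImmersion i.left) (hker : AlgGrp.IsKernel i π) (hπ : Surjective π.left)
    [Smooth H.hom] [ConnectedSpace ↥H.left] [IsAffine H.left]
    (hH : Red.HasNoSubtorus (AlgebraicClosure L) (Red.bc (Spec.map (CommRingCat.ofHom (algebraMap L (AlgebraicClosure L)))) H))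
    [IsProper A.hom] [Smooth A.hom] [GeometricallyIntegral A.hom]
    (g : ℕ) (hg : topologicalKrullDim ↥A.left = g) :
    topologicalKrullDim ↥E.left = g := by
  haveI := hiE
  haveI := hi
  haveI := hπ
  let j : Spec (CommRingCat.of L) ⟶ Spec (CommRingCat.of k) := Spec.map (CommRingCat.ofHom (algebraMap k L))
  let F := Over.pullback j
  let PL := Red.bc j P
  let EL := Red.bc j E
  let VL := Red.bc j V
  let iL : EL ⟶ PL := F.map iE
  let qL : PL ⟶ VL := F.map q
  haveI : IsMonHom iL := inferInstanceAs (IsMonHom (F.map iE))
  haveI : IsMonHom qL := inferInstanceAs (IsMonHom (F.map q))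
  have sqL : AlgGrp.IsKernel iL qL := Groth.L08.SmallNorm.isKernel_bc j hkerE
  haveI : IsProper EL.hom := inferInstanceAs (IsProper (pullback.snd E.hom j))
  haveI : GeometricallyIntegral EL.hom := inferInstanceAs (GeometricallyIntegral (pullback.snd E.hom j))
  haveI : Smooth VL.hom := inferInstanceAs (Smooth (pullback.snd V.hom j))
  haveI : LocallyOfFiniteType PL.hom := inferInstanceAs (LocallyOfFiniteType (pullback.snd P.hom j))
  haveI : QuasiCompact PL.hom := inferInstanceAs (QuasiCompact (pullback.snd P.hom j))
  haveI : IsAffineHom j := isAffineHom_of_isAffine j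
  haveI : IsAffineHom (pullback.fst V.hom j) := MorphismProperty.pullback_fst (P := @IsAffineHom) _ _ ‹_›
  haveI : IsAffine VL.left := isAffine_of_isAffineHom (pullback.fst V.hom j)
  haveI : IsClosedImmersion iL.left := by
    have hsq : iL.left ≫ pullback.fst P.hom j = pullback.fst E.hom j ≫ iE.left := pullback.lift_fst _ _ _
    have hw : iL.left ≫ pullback.snd P.hom j = pullback.snd E.hom j := pullback.lift_snd _ _ _
    have sq : IsPullback iL.left (pullback.fst E.hom j) (pullback.fst P.hom j) iE.left :=
      IsPullback.of_right (by rw [hw, Over.w iE]; exact (IsPullback.of_hasPullback E.hom j).flip) hsq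
        (IsPullback.of_hasPullback P.hom j).flip
    exact MorphismProperty.of_isPullback (P := @IsClosedImmersion) sq.flip hiE
  haveI : Surjective qL.left := by
    have hsq : qL.left ≫ pullback.fst V.hom j = pullback.fst P.hom j ≫ q.left := pullback.lift_fst _ _ _
    have hw : qL.left ≫ pullback.snd V.hom j = pullback.snd P.hom j := pullback.lift_snd _ _ _
    have sq : IsPullback qL.left (pullback.fst P.hom j) (pullback.fst V.hom j) q.left :=
      IsPullback.of_right (by rw [hw, Over.w q]; exact (IsPullback.of_hasPullback P.hom j).flip) hsq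
        (IsPullback.of_hasPullback V.hom j).flip
    exact MorphismProperty.of_isPullback (P := @Surjective) sq.flip hq
  haveI : IsReduced VL.left := Groth.Agent.AV.isReduced_of_smooth_field VL.hom
  haveI : Flat qL.left := Groth.L08.FlatHom.flat_of_surjective PL VL qL
  haveI : QuasiCompact qL.left := Groth.L08.AbelianGrp.quasiCompact_left qL
  -- the comparison map and its finite kernel
  let φ : EL ⟶ A := iL ≫ π
  obtain ⟨N, gN, iN, _, _, -, sqN⟩ := Groth.L08.AbelianGrp.exists_kernel φ
  obtain ⟨r, hr, -⟩ := hker.exists_lift (iN ≫ iL) (toUnit N) (by rw [Category.assoc]; exact sqN.w)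
  haveI : IsClosedImmersion r.left := by
    haveI : IsClosedImmersion (r.left ≫ i.left) := by
      rw [← Over.comp_left, hr, Over.comp_left]
      infer_instance
    exact IsClosedImmersion.of_comp r.left i.left
  haveI : IsAffine N.left := isAffine_of_isAffineHom r.left
  haveI : IsProper N.hom := by rw [← Over.w iN]; infer_instance
  haveI : IsFinite N.hom := IsFinite.iff_isProper_and_isAffineHom.2 ⟨inferInstance, isAffineHom_of_isAffine _⟩
  haveI : IsFinite φ.left := Groth.L18.GrpHomFinite.isFinite_of_kernel_finite φ iN sqN
  -- the quotient by the image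
  haveI : IsCommMonObj A := isCommMonObj_of_isProper_of_geometricallyIntegral A
  obtain ⟨C, gC, p, iC, _, _, hpi, _, hps, _, _⟩ := Groth.L08.AbelianGrp.exists_image φ
  obtain ⟨Q, gQ, qA, _, _, _, _, _, hQqc, _, sqA⟩ := Groth.L08.AbelianGrp.exists_quotient iC
  haveI : IsIntegral A.left := GeometricallyIntegral.isIntegral_of_subsingleton A.hom
  haveI : IsSeparated Q.hom := Groth.Agent.AV.isSeparated_of_grpObj Q
  haveI : IsProper Q.hom := Groth.Agent.ThetaQuot.isProper_of_surjective A.hom Q.hom qA.left (Over.w qA)
  obtain ⟨ρ, hρ, hρ1⟩ := Groth.Agent.Poincare.Reducibility.exists_desc_of_kills qL (π ≫ qA) fun T x hx => by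
    obtain ⟨y, hy, -⟩ := sqL.exists_lift x (toUnit T) (by rw [hx]; rfl)
    rw [← hy, Category.assoc, ← Category.assoc iL, show iL ≫ π = p ≫ iC from hpi.symm, Category.assoc, sqA.w,
      ← Category.assoc p, ← Category.assoc y, Hom.one_def]
    congr 1
    exact toUnit_unique _ _
  haveI : Surjective (qL.left ≫ ρ.left) := by
    rw [← Over.comp_left, hρ, Over.comp_left]
    infer_instance
  haveI : Surjective ρ.left := Surjective.of_comp qL.left ρ.left
  haveI : IsMonHom ρ := by
    refine ⟨hρ1, ?_⟩
    haveI : IsLocallyNoetherian VL.left := LocallyOfFiniteType.isLocallyNoetherian VL.hom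
    haveI : LocallyOfFiniteType (qL.left ≫ VL.hom) := by rw [Over.w]; infer_instance
    haveI : LocallyOfFiniteType qL.left := locallyOfFiniteType_of_comp qL.left VL.hom
    haveI : LocallyOfFinitePresentation qL.left := LocallyOfFinitePresentation.iff_locallyOfFiniteType.2 inferInstance
    obtain ⟨_, _, _⟩ := Groth.L08.GQuot.cover_tensor₂ qL
    haveI : Epi (qL ⊗ₘ qL) := Groth.L08.GQuot.epi_of_cover _
    rw [← cancel_epi (qL ⊗ₘ qL), ← Category.assoc, ← IsMonHom.mul_hom, Category.assoc, hρ, IsMonHom.mul_hom,
      ← Category.assoc, MonoidalCategory.tensorHom_comp_tensorHom, hρ]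
  haveI : LocallyOfFiniteType VL.hom := inferInstance
  haveI : IsAffine Q.left := Groth.L08.NormalQuot.isAffine_of_surjective_hom ρ
  haveI : IsFinite Q.hom := IsFinite.iff_isProper_and_isAffineHom.2 ⟨inferInstance, isAffineHom_of_isAffine _⟩
  have hQ : Subsingleton Q.left := ⟨by
    have hall : ∀ y : Q.left, qA.left (genericPoint A.left) = y := fun y => by
      obtain ⟨a, rfl⟩ := qA.left.surjective y
      refine Groth.L19.eq_of_specializes_of_isIntegralHom Q.hom
        ((genericPoint_spec A.left).specializes trivial |>.map qA.left.continuous) ?_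
      exact Subsingleton.elim (α := PrimeSpectrum L) _ _
    intro a b
    rw [← hall a, ← hall b]⟩
  haveI : Surjective φ.left := by
    have h1 : Set.range iC.left = Set.univ := by
      have hsq := sqA.map (Over.forget _)
      refine Set.eq_univ_of_forall fun a => ?_
      obtain ⟨s⟩ : Nonempty (Spec (CommRingCat.of L)) := inferInstanceAs (Nonempty (PrimeSpectrum L))
      obtain ⟨c, hc, -⟩ := Scheme.Pullback.exists_preimage_pullback (f := qA.left) (g := (η[Q] : 𝟙_ _ ⟶ Q).left)
        a s (Subsingleton.elim _ _)
      exact ⟨hsq.isoPullback.inv c, (Scheme.Hom.comp_apply hsq.isoPullback.inv iC.left c).symm.trans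
        ((congrArg (fun m => m c) hsq.isoPullback_inv_fst).trans hc)⟩
    refine ⟨fun a => ?_⟩
    obtain ⟨c, rfl⟩ : a ∈ Set.range iC.left := h1 ▸ trivial
    obtain ⟨e, rfl⟩ := p.left.surjective c
    exact ⟨e, by rw [← hpi]; rfl⟩
  obtain ⟨e, -, he⟩ := Groth.L08.GrpDim.exists_dim E
  haveI : IsCommMonObj E := isCommMonObj_of_isProper_of_geometricallyIntegral E
  have h2 : topologicalKrullDim EL.left = e := Groth.Agent.AV.TateRankGeom.dim_bc L he
  rw [Groth.Agent.Bidual.dim_eq_of_finite φ, hg] at h2
  rw [he, ← h2]

end Groth.Agent.S19893
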