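import Groth.Statements.S19898
import Mathlib.LinearAlgebra.PiTensorProduct.Basis
import Mathlib.LinearAlgebra.Determinant


set_option autoImplicit false
universe u
open scoped TensorProduct
open SymTen

namespace Groth.Agent.S19898
open TensorProduct

/-- Let R be a commutative ring and R' a commutative R-algebra that is free of rank d as an R-module.
Let (C, γ) be the degree-d divided power algebra of R' over R, given as an R-algebra C with a
multiplicative homogeneous degree-d polynomial law γ : R' → C that is universal among such laws; let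
φ : C → T^d_R(R') be the R-algebra homomorphism into the d-fold tensor power whose composite with γ
is the law x ↦ x ⊗ ⋯ ⊗ x, and π : C → R the R-algebra homomorphism whose composite with γ is the
norm law of R' over R. Let T^d_R(R') act on itself factor by factor and let I_d ⊂ T^d_R(R') be the
R-span of the pure tensors with two equal factors, so that T^d_R(R')/I_d is the top exterior power
Λ^d_R(R'), free of rank one. Then for every c ∈ C and every x ∈ T^d_R(R') the element φ(c)·x − π(c)
x lies in I_d: the symmetric tensor φ(c) acts on Λ^d_R(R') as multiplication by the scalar π(c),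
i.e. the homomorphism TS^d_R(R') → R given by the action on the top exterior power, composed with φ,
equals π. (The source states this for R' finite locally free of constant rank d; the free case is
the affine-local form.) -/
theorem result (R : Type u) [CommRing R] (R' : Type u) [CommRing R']
    [Algebra R R'] [Module.Free R R'] [Module.Finite R R'] (d : ℕ) (hd : Module.finrank R R' = d)
    {C : Type u} [CommRing C] [Algebra R C] (γ : PolLaw.MulLaw R R' C d) (hγ : PolLaw.IsGammaD γ)
    (φ : C →ₐ[R] (⨂[R] _ : Fin d, R')) (hφ : PolLaw.MulLaw.postcomp φ γ = SymTen.tpowLaw R R' d)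
    (π : C →ₐ[R] R) (hπ : PolLaw.MulLaw.postcomp π γ = PolLaw.normLaw R R' d hd)
    (c : C) (x : ⨂[R] _ : Fin d, R') :
    SymTen.tpowAct R R' R' d (φ c) x - π c • x ∈ SymTen.altSpan R R' d := by
  rcases subsingleton_or_nontrivial R with hR | hR
  · haveI : Subsingleton (⨂[R] _ : Fin d, R') := Module.subsingleton R _
    rw [Subsingleton.elim (_ - _) 0]
    exact zero_mem _
  classical
  let b : Module.Basis (Fin d) R R' := Module.finBasisOfFinrankEq R R' hd
  let I := SymTen.altSpan R R' d
  let q : R' [⋀^Fin d]→ₗ[R] ((⨂[R] _ : Fin d, R') ⧸ I) :=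
    { (Submodule.mkQ I).compMultilinearMap (PiTensorProduct.tprod R) with
      map_eq_zero_of_eq' := fun v i j h hij =>
        (Submodule.Quotient.mk_eq_zero _).2 (Submodule.subset_span ⟨v, i, j, hij, h, rfl⟩) }
  let D : (⨂[R] _ : Fin d, R') →ₗ[R] R := PiTensorProduct.lift b.det.toMultilinearMap
  let e : ⨂[R] _ : Fin d, R' := PiTensorProduct.tprod R b
  have hDe : D e = 1 := by simp [D, e, b.det_self]
  have hDI : ∀ z ∈ I, D z = 0 := fun z hz => by
    induction hz using Submodule.span_induction with
    | mem z hz =>
      obtain ⟨v, i, j, hij, h, rfl⟩ := hz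
      simpa [D] using b.det.map_eq_zero_of_eq v h hij
    | zero => exact map_zero D
    | add y z _ _ hy hz => rw [map_add, hy, hz, add_zero]
    | smul a y _ hy => rw [map_smul, hy, smul_zero]
  have hq : q = (LinearMap.toSpanSingleton R _ (q b)).compAlternatingMap b.det := by
    refine b.ext_alternating fun K hK => ?_
    rw [show (fun i => b (K i)) = b ∘ Equiv.ofBijective K (Finite.injective_iff_bijective.1 hK) from rfl,
      AlternatingMap.map_perm, AlternatingMap.map_perm]
    congr 1
    simp [b.det_self]
  have hmk : ∀ z, Submodule.mkQ I z = D z • Submodule.mkQ I e := fun z => by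
    have : Submodule.mkQ I = (LinearMap.toSpanSingleton R _ (Submodule.mkQ I e)).comp D := by
      refine PiTensorProduct.ext (MultilinearMap.ext fun v => ?_)
      have h1 : q v = b.det v • q b := by
        conv_lhs => rw [hq]
        rfl
      simp only [LinearMap.compMultilinearMap_apply, LinearMap.comp_apply, LinearMap.toSpanSingleton_apply, D, e,
        PiTensorProduct.lift.tprod, AlternatingMap.coe_multilinearMap]
      exact h1
    exact congrArg (fun f => f z) this
  have hmemI : ∀ z, D z = 0 → z ∈ I := fun z hz => by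
    rw [← Submodule.Quotient.mk_eq_zero, ← Submodule.mkQ_apply, hmk, hz, zero_smul]
  have hsingle : ∀ (K : Fin d → R'),
      ∏ j, PiTensorProduct.singleAlgHom (R := R) (A := fun _ : Fin d => R') j (K j) = PiTensorProduct.tprod R K := by
    intro K
    simp only [PiTensorProduct.singleAlgHom_apply, MonoidHom.mulSingle_apply]
    rw [← PiTensorProduct.tprod_prod]
    exact congrArg _ (Finset.univ_prod_mulSingle K)
  have hperm : ∀ (σ : Equiv.Perm (Fin d)) (c : C), SymTen.perm R R' d σ (φ c) = φ c := by
    intro σ c
    refine AlgHom.congr_fun ((hγ _ (SymTen.tpowLaw R R' d)).unique (y₁ := (SymTen.perm R R' d σ).comp φ) ?_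
      (congrArg PolLaw.MulLaw.law hφ)) c
    apply PolynomialLaw.ext
    funext S _ _ y
    change ((SymTen.perm R R' d σ).comp φ).toLinearMap.lTensor S (γ.law.toFun' S y) = _
    rw [AlgHom.comp_toLinearMap, LinearMap.lTensor_comp, LinearMap.comp_apply,
      show φ.toLinearMap.lTensor S (γ.law.toFun' S y) = (SymTen.tpowLaw R R' d).law.toFun' S y by rw [← hφ]; rfl,
      PolLaw.lTensor_algHom_apply, SymTen.tpowLaw, PolLaw.MulLaw.prodMap_toFun', map_prod]
    refine Fintype.prod_equiv σ _ _ fun j => ?_
    induction y using TensorProduct.induction_on with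
    | zero => simp
    | tmul s r =>
      simp only [Algebra.TensorProduct.map_tmul, AlgHom.id_apply, PiTensorProduct.singleAlgHom_apply,
        MonoidHom.mulSingle_apply, SymTen.perm_tprod]
      refine congrArg (fun f : Fin d → R' => s ⊗ₜ[R] PiTensorProduct.tprod R f) (funext fun i => ?_)
      simp [Pi.mulSingle_apply, Equiv.symm_apply_eq]
    | add y z hy hz => simp only [map_add, hy, hz]
  let bT : Module.Basis (Fin d → Fin d) R (⨂[R] _ : Fin d, R') := Basis.piTensorProduct fun _ => b
  have hbT : ∀ K, bT K = PiTensorProduct.tprod R fun i => b (K i) := fun K => Basis.piTensorProduct_apply _ _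
  have hinv : ∀ (t : ⨂[R] _ : Fin d, R') (i j : Fin d), i ≠ j →
      SymTen.perm R R' d (Equiv.swap i j) t = t → t ∈ I := by
    intro t i j hij ht
    let τ := Equiv.swap i j
    have hτ : ∀ K : Fin d → Fin d, (K ∘ τ) ∘ τ = K := fun K => funext fun l => by simp [τ]
    have hrep : ∀ (z : ⨂[R] _ : Fin d, R') K, bT.repr (SymTen.perm R R' d τ z) K = bT.repr z (K ∘ τ) := by
      intro z K
      rw [← bT.sum_repr z]
      simp only [map_sum, map_smul, Finsupp.coe_finsetSum, Finset.sum_apply, Finsupp.smul_apply]
      refine Finset.sum_congr rfl fun L _ => ?_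
      rw [hbT L, SymTen.perm_tprod, show τ.symm = τ from Equiv.symm_swap i j, ← hbT L,
        show (PiTensorProduct.tprod R fun l => b (L (τ l))) = bT (L ∘ τ) from (hbT (L ∘ τ)).symm,
        bT.repr_self, bT.repr_self, Finsupp.single_apply, Finsupp.single_apply,
        if_congr (show L ∘ τ = K ↔ L = K ∘ τ from ⟨fun h => by rw [← h, hτ], fun h => by rw [h, hτ]⟩) rfl rfl]
    rw [← Submodule.Quotient.mk_eq_zero, ← Submodule.mkQ_apply, ← bT.sum_repr t, map_sum]
    have hneg : ∀ K : Fin d → Fin d, Submodule.mkQ I (bT (K ∘ τ)) = - Submodule.mkQ I (bT K) := by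
      intro K
      rw [hbT, hbT]
      exact q.map_swap (fun l => b (K l)) hij
    refine Finset.sum_involution (fun K _ => K ∘ τ) (fun K _ => ?_) (fun K _ hne heq => ?_)
      (fun _ _ => Finset.mem_univ _) fun K _ => hτ K
    · rw [show bT.repr t (K ∘ τ) = bT.repr t K by rw [← hrep t K, ht], map_smul, map_smul, hneg, smul_neg,
        add_neg_cancel]
    · refine hne ?_
      rw [map_smul, hbT]
      have h0 : K i = K j := by
        conv_lhs => rw [← heq]
        simp [τ]
      rw [show Submodule.mkQ I (PiTensorProduct.tprod R fun l => b (K l)) = q (fun l => b (K l)) from rfl,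
        q.map_eq_zero_of_eq (fun l => b (K l)) (congrArg b h0) hij, smul_zero]
  have hφI : ∀ c, ∀ z ∈ I, φ c * z ∈ I := fun c z hz => by
    induction hz using Submodule.span_induction with
    | mem z hz =>
      obtain ⟨v, i, j, hij, h, rfl⟩ := hz
      refine hinv _ i j hij ?_
      rw [map_mul, hperm, SymTen.perm_tprod]
      refine congrArg (fun f : Fin d → R' => φ c * PiTensorProduct.tprod R f) (funext fun l => ?_)
      rw [Equiv.symm_swap]
      rcases eq_or_ne l i with rfl | hli
      · rw [Equiv.swap_apply_left, h]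
      rcases eq_or_ne l j with rfl | hlj
      · rw [Equiv.swap_apply_right, h]
      rw [Equiv.swap_apply_of_ne_of_ne hli hlj]
    | zero => rw [mul_zero]; exact zero_mem _
    | add y z _ _ hy hz => rw [mul_add]; exact add_mem hy hz
    | smul a y _ hy => rw [mul_smul_comm]; exact I.smul_mem a hy
  have hscal : ∀ c z, D (φ c * z) = D z * D (φ c * e) := fun c z => by
    have hz : z - D z • e ∈ I := hmemI _ (by rw [map_sub, map_smul, hDe, smul_eq_mul, mul_one, sub_self])
    have := hDI _ (hφI c _ hz)
    rwa [mul_sub, map_sub, mul_smul_comm, map_smul, smul_eq_mul, sub_eq_zero] at this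
  let r : C →ₐ[R] R := AlgHom.ofLinearMap (D ∘ₗ (LinearMap.mulRight R e) ∘ₗ φ.toLinearMap)
    (by simp [hDe]) fun a a' => by
      simp only [LinearMap.comp_apply, AlgHom.toLinearMap_apply, LinearMap.mulRight_apply]
      rw [map_mul φ, mul_assoc, hscal, mul_comm]
  have hr : r = π := by
    refine (hγ R (PolLaw.normLaw R R' d hd)).unique ?_ (congrArg PolLaw.MulLaw.law hπ)
    apply PolynomialLaw.ext
    funext S iS iA y
    letI : CommRing S := { __ := iS, __ := Algebra.semiringToRing R }
    change (D ∘ₗ (LinearMap.mulRight R e) ∘ₗ φ.toLinearMap).lTensor S (γ.law.toFun' S y) = _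
    rw [← LinearMap.comp_assoc, LinearMap.lTensor_comp, LinearMap.comp_apply,
      show φ.toLinearMap.lTensor S (γ.law.toFun' S y) = (SymTen.tpowLaw R R' d).law.toFun' S y by rw [← hφ]; rfl,
      PolLaw.normLaw_apply R R' d hd S y, SymTen.tpowLaw, PolLaw.MulLaw.prodMap_toFun']
    let bS : Module.Basis (Fin d) S (S ⊗[R] R') := Algebra.TensorProduct.basis S b
    obtain ⟨s, rfl⟩ : ∃ s : Fin d → S, y = ∑ a, s a • bS a := ⟨fun a => bS.repr y a, (bS.sum_repr y).symm⟩
    have hbS : ∀ a, bS a = (1 : S) ⊗ₜ[R] b a := fun a => Algebra.TensorProduct.basis_apply b a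
    have hpt : ∀ (f : Fin d → S) (g : Fin d → ⨂[R] _ : Fin d, R'),
        ∏ j, f j ⊗ₜ[R] g j = (∏ j, f j) ⊗ₜ[R] ∏ j, g j := by
      intro f g
      induction (Finset.univ : Finset (Fin d)) using Finset.induction_on with
      | empty => simp [Algebra.TensorProduct.one_def]
      | insert j t hj ih =>
        rw [Finset.prod_insert hj, Finset.prod_insert hj, Finset.prod_insert hj, ih,
          Algebra.TensorProduct.tmul_mul_tmul]
    have hdet : ∀ v : Fin d → R', bS.det (fun j => (1 : S) ⊗ₜ[R] v j) = algebraMap R S (b.det v) := by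
      intro v
      rw [Module.Basis.det_apply, Module.Basis.det_apply, RingHom.map_det]
      congr 1
      ext i j
      simp [Module.Basis.toMatrix_apply, bS, Algebra.TensorProduct.basis_repr_tmul, Algebra.algebraMap_eq_smul_one]
    have hnorm : Algebra.norm S (∑ a, s a • bS a) =
        ∑ K : Fin d → Fin d, (∏ j, s (K j)) • algebraMap R S (b.det fun j => b (K j) * b j) := by
      have h1 := bS.det_comp (LinearMap.mul S (S ⊗[R] R') (∑ a, s a • bS a)) bS
      rw [bS.det_self, mul_one] at h1
      rw [show Algebra.norm S (∑ a, s a • bS a) =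
        LinearMap.det (LinearMap.mul S (S ⊗[R] R') (∑ a, s a • bS a)) from Algebra.norm_apply S _, ← h1]
      rw [show (LinearMap.mul S (S ⊗[R] R') (∑ a, s a • bS a)) ∘ bS
          = fun j => ∑ a, s a • ((1 : S) ⊗ₜ[R] (b a * b j)) by
        funext j
        simp only [Function.comp_apply, LinearMap.mul_apply_apply, Finset.sum_mul, smul_mul_assoc, hbS,
          Algebra.TensorProduct.tmul_mul_tmul, mul_one]]
      rw [← AlternatingMap.coe_multilinearMap, MultilinearMap.map_sum]
      refine Finset.sum_congr rfl fun K _ => ?_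
      rw [MultilinearMap.map_smul_univ, AlternatingMap.coe_multilinearMap, hdet]
    rw [hnorm, TensorProduct.sum_tmul]
    simp only [hbS, TensorProduct.smul_tmul', smul_eq_mul, mul_one, map_sum, Algebra.TensorProduct.map_tmul,
      AlgHom.id_apply]
    rw [Fintype.prod_sum, map_sum]
    refine Finset.sum_congr rfl fun K _ => ?_
    rw [hpt, hsingle, LinearMap.lTensor_tmul, Algebra.algebraMap_eq_smul_one, mul_smul_comm, mul_one,
      TensorProduct.smul_tmul, smul_eq_mul, mul_one]
    simp [D, e, PiTensorProduct.tprod_mul_tprod, Pi.mul_def]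
  have hact : ∀ t z : ⨂[R] _ : Fin d, R', SymTen.tpowAct R R' R' d t z = t * z := by
    intro t z
    have h : SymTen.tpowAct R R' R' d = LinearMap.mul R (⨂[R] _ : Fin d, R') := by
      refine PiTensorProduct.ext (MultilinearMap.ext fun v => PiTensorProduct.ext (MultilinearMap.ext fun w => ?_))
      simp [SymTen.tpowAct, PiTensorProduct.tprod_mul_tprod, Pi.mul_def]
    rw [h]; rfl
  refine hmemI _ ?_
  rw [hact, map_sub, map_smul, hscal, ← hr, smul_eq_mul, mul_comm]
  simp [r]

end Groth.Agent.S19898
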