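import Groth.Statements.S19899
import Groth.Agent.L21.GenusZero.Seminormal
import Groth.Agent.L21.SemiCurve.Main
import Groth.Agent.L02.EquivQuot.Blocks
import Groth.Agent.L21.Smooth.Scheme

set_option autoImplicit false
set_option backward.isDefEq.respectTransparency false
set_option linter.style.haveILetI false
universe u
open CategoryTheory CategoryTheory.Limits AlgebraicGeometry
open Curves

namespace Groth.Agent.S19899

open TopologicalSpace

section

variable {k : Type u} [Field k] [IsAlgClosed k] {C C' : Scheme.{u}} [C.Over (Spec (CommRingCat.of k))]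
  [C'.Over (Spec (CommRingCat.of k))] [IsReduced C]

omit [IsAlgClosed k] in
theorem regular_of_mem (ν : C' ⟶ C) (hreg : ∀ z : C', IsRegularLocalRing (C'.presheaf.stalk z))
    {U : C.Opens} [IsIso (ν ∣_ U)] {x : C} (hx : x ∈ U) : IsRegularLocalRing (C.presheaf.stalk x) := by
  obtain ⟨z, hz⟩ := (ν ∣_ U).surjective ⟨x, hx⟩
  have hfz : ν z.1 = x := by rw [← morphismRestrict_base_coe, hz]
  subst hfz
  haveI : IsIso ((Arrow.mk ((ν ∣_ U).stalkMap z)).hom) := inferInstanceAs (IsIso ((ν ∣_ U).stalkMap z))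
  haveI : IsIso (ν.stalkMap z.1) :=
    ((MorphismProperty.isomorphisms CommRingCat).arrow_mk_iso_iff (morphismRestrictStalkMap ν U z)).1
      (inferInstanceAs (IsIso ((ν ∣_ U).stalkMap z)))
  haveI := hreg z.1
  exact IsRegularLocalRing.of_ringEquiv (asIso (ν.stalkMap z.1)).commRingCatIsoToRingEquiv.symm

/-- A morphism fixing the points over the singular locus descends. -/
theorem exists_descent [IsProper (C ↘ Spec (CommRingCat.of k))] [ConnectedSpace C]
    [Smooth (C' ↘ Spec (CommRingCat.of k))]
    (hd : topologicalKrullDim C ≤ 1) (hgen : Curv2.genus k C = 0) (ν : C' ⟶ C) [IsFinite ν]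
    (hν : ν ≫ (C ↘ Spec (CommRingCat.of k)) = C' ↘ Spec (CommRingCat.of k))
    {U : C.Opens} (hU : Dense (U : Set C)) (hU' : Dense ((ν ⁻¹ᵁ U : C'.Opens) : Set C')) [IsIso (ν ∣_ U)]
    [Surjective ν]
    (ψ : C' ⟶ C') (hψ : ψ ≫ (C' ↘ Spec (CommRingCat.of k)) = C' ↘ Spec (CommRingCat.of k))
    (hfix : ∀ x : C', ¬ IsRegularLocalRing (C.presheaf.stalk (ν x)) → ψ x = x) :
    ∃ φ : C ⟶ C, ν ≫ φ = ψ ≫ ν := by
  classical
  haveI := Groth.L21.RR.isNoetherian_of_proper (X := C) k
  have hn : Pi1.IsNormalScheme C' := fun x =>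
    ⟨Groth.L21.Smooth.isDomain_stalk (C' ↘ Spec (CommRingCat.of k)) x,
      Groth.L21.Smooth.isIntegrallyClosed_stalk (C' ↘ Spec (CommRingCat.of k)) x⟩
  have hsn := Groth.L21.GenusZero.isSeminormal k hd hgen ν hν hn hU
  let S := {x : C // ¬ IsRegularLocalRing (C.presheaf.stalk x)}
  have hSU : ∀ x : S, x.1 ∉ U := fun x h =>
    x.2 (regular_of_mem ν (Groth.L21.Smooth.regular_stalk (C' ↘ Spec (CommRingCat.of k))) h)
  have hclosed : ∀ x : S, IsClosed ({x.1} : Set C) := fun x => by
    by_contra hc
    exact hSU x (Groth.L21.RR.mem_of_dense_of_not_isClosed hd hU hc)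
  haveI : Finite S := by
    have hfin : ((U : Set C)ᶜ).Finite := Groth.L18.Curve.finite_of_forall_isClosed U.2.isClosed_compl fun x hx => by
      by_contra hc
      exact hx (Groth.L21.RR.mem_of_dense_of_not_isClosed hd hU hc)
    exact (hfin.subset fun x (hx : x ∈ {x : C | ¬ IsRegularLocalRing (C.presheaf.stalk x)}) => hSU ⟨x, hx⟩).to_subtype
  haveI : ∀ x : S, IsClosedImmersion (C.fromSpecResidueField x.1) := fun x =>
    (isClosed_singleton_iff_isClosedImmersion (x := x.1)).1 (hclosed x)
  let D : Scheme.{u} := ∐ fun x : S => Spec (C.residueField x.1)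
  let d : D ⟶ C := Sigma.desc fun x : S => C.fromSpecResidueField x.1
  haveI : IsClosedImmersion d := Groth.L02.EquivQuot.isClosedImmersion_sigmaDesc _ fun a b hab => by
    rw [Scheme.range_fromSpecResidueField, Scheme.range_fromSpecResidueField, Set.disjoint_singleton]
    exact fun e => hab (Subtype.ext e)
  have hrange : Set.range d = {x : C | ¬ IsRegularLocalRing (C.presheaf.stalk x)} := by
    ext p
    constructor
    · rintro ⟨t, rfl⟩
      obtain ⟨i, s, rfl⟩ := (sigmaOpenCover fun x : S => Spec (C.residueField x.1)).exists_eq t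
      show ¬ IsRegularLocalRing (C.presheaf.stalk (d (Sigma.ι (fun x : S => Spec (C.residueField x.1)) i s)))
      rw [← Scheme.Hom.comp_apply, Sigma.ι_desc, Scheme.fromSpecResidueField_apply]
      exact i.2
    · intro hp
      refine ⟨Sigma.ι (fun x : S => Spec (C.residueField x.1)) ⟨p, hp⟩ (IsLocalRing.closedPoint _), ?_⟩
      rw [← Scheme.Hom.comp_apply, Sigma.ι_desc, Scheme.fromSpecResidueField_apply]
  haveI : ∀ i, IsReduced ((sigmaOpenCover fun x : S => Spec (C.residueField x.1)).X i) := fun i =>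
    inferInstanceAs (IsReduced (Spec (C.residueField i.1)))
  haveI : IsReduced D := IsReduced.of_openCover _ (sigmaOpenCover fun x : S => Spec (C.residueField x.1))
  have h : Groth.L21.SemiCurve.Setup ν d :=
    ⟨inferInstance, inferInstance, hd, hsn, inferInstance, hn, ⟨U, hU, hU', inferInstance⟩, inferInstance,
      inferInstance, hrange⟩
  have hfibre : ∀ x : S, ν.fiberι x.1 ≫ ψ ≫ ν = ν.fiberι x.1 ≫ ν := by
    intro x
    haveI := h.isReduced_fiber x.1
    haveI : IsClosedImmersion (ν.fiberι x.1) := MorphismProperty.pullback_fst _ _ inferInstance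
    haveI : LocallyOfFiniteType ((ν.fiberι x.1 ≫ ψ ≫ ν) ≫ (C ↘ Spec (CommRingCat.of k))) := by
      simp only [Category.assoc, hν, hψ]; infer_instance
    refine ext_of_apply_eq (C ↘ Spec (CommRingCat.of k)) Set.univ isClosed_univ.isLocallyClosed dense_univ
      (fun t _ _ => ?_) (by simp only [Category.assoc, hν, hψ])
    have hx : ν (ν.fiberι x.1 t) = x.1 := (ν.range_fiberι x.1).le ⟨t, rfl⟩
    simp only [Scheme.Hom.comp_apply]
    rw [hfix _ (by rw [hx]; exact x.2)]
  have hw : pullback.fst ν d ≫ ψ ≫ ν = pullback.snd ν d ≫ d := by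
    refine Scheme.Cover.hom_ext ((sigmaOpenCover fun x : S => Spec (C.residueField x.1)).pullback₁ (pullback.snd ν d)) _ _ fun x => ?_
    change pullback.fst (pullback.snd ν d) (Sigma.ι (fun x : S => Spec (C.residueField x.1)) x) ≫ _ = _ ≫ pullback.snd ν d ≫ d
    let r := pullback.fst (pullback.snd ν d) (Sigma.ι (fun x : S => Spec (C.residueField x.1)) x)
    have hr : (r ≫ pullback.fst ν d) ≫ ν =
        pullback.snd (pullback.snd ν d) (Sigma.ι (fun x : S => Spec (C.residueField x.1)) x) ≫ C.fromSpecResidueField x.1 := by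
      rw [Category.assoc, pullback.condition, ← Category.assoc, pullback.condition, Category.assoc, Sigma.ι_desc]
    have hl : (pullback.lift _ _ hr : _ ⟶ ν.fiber x.1) ≫ ν.fiberι x.1 = r ≫ pullback.fst ν d := pullback.lift_fst _ _ _
    calc r ≫ pullback.fst ν d ≫ ψ ≫ ν = (r ≫ pullback.fst ν d) ≫ ψ ≫ ν := by rw [Category.assoc]
      _ = (r ≫ pullback.fst ν d) ≫ ν := by rw [← hl, Category.assoc, hfibre, Category.assoc]
      _ = r ≫ pullback.snd ν d ≫ d := by rw [Category.assoc, pullback.condition]
  obtain ⟨φ, hφ, -⟩ := h.isPinch.exists_desc (ψ ≫ ν) d hw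
  exact ⟨φ, hφ⟩

end


/-- Let k be an algebraically closed field and C a reduced, connected scheme proper over k of dimension
one with H¹(C, O_C) = 0 (a curve of arithmetic genus zero), and let ν : C' → C be its normalization,
given as a finite morphism over k from a smooth k-scheme C' that restricts to an isomorphism over a
dense open subset U of C whose preimage is dense in C'. Let ψ be an automorphism of C' over k fixing
every point of C' that lies over a singular point of C (a point whose local ring is not regular).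
Then ψ descends to C: there is a unique endomorphism φ of C with ν ∘ ψ = φ ∘ ν, and φ is an
automorphism. (The source states the resulting group isomorphism between the automorphisms of the
pointed curve C fixing each irreducible component and each singular point and the automorphisms of
C' fixing each component and each point above a marked or singular point; the descent statement here
is its non-trivial half and needs neither the marked points nor the condition on components.) -/
theorem result
    (k : Type u) [Field k] [IsAlgClosed k] (C : Scheme.{u}) [C.Over (Spec (CommRingCat.of k))]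
    [IsProper (C ↘ Spec (CommRingCat.of k))] [IsReduced C] [ConnectedSpace ↥C]
    (hdim : topologicalKrullDim ↥C = 1) (hgen : Curv2.genus k C = 0)
    (C' : Scheme.{u}) [C'.Over (Spec (CommRingCat.of k))] [Smooth (C' ↘ Spec (CommRingCat.of k))]
    (ν : C' ⟶ C) [IsFinite ν] (hν : ν ≫ (C ↘ Spec (CommRingCat.of k)) = C' ↘ Spec (CommRingCat.of k))
    (U : C.Opens) (hU : Dense (U : Set ↥C)) (hU' : Dense ((ν ⁻¹ᵁ U : C'.Opens) : Set ↥C'))
    [IsIso (ν ∣_ U)]
    (ψ : C' ≅ C') (hψ : ψ.hom ≫ (C' ↘ Spec (CommRingCat.of k)) = C' ↘ Spec (CommRingCat.of k))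
    (hfix : ∀ x : ↥C', ¬ IsRegularLocalRing (C.presheaf.stalk (ν.base x)) → ψ.hom.base x = x) :
    ∃! φ : C ⟶ C, ν ≫ φ = ψ.hom ≫ ν ∧ IsIso φ := by
  haveI : Surjective ν := ⟨fun x => by
    have hcl := ν.isClosedMap _ isClosed_univ
    rw [Set.image_univ] at hcl
    have hUr : (U : Set C) ⊆ Set.range ν := fun y hy => by
      obtain ⟨z, hz⟩ := (ν ∣_ U).surjective ⟨y, hy⟩
      exact ⟨z.1, by rw [← morphismRestrict_base_coe, hz]⟩
    exact hcl.closure_subset_iff.2 hUr (hU x)⟩
  haveI : C.IsSeparated := ⟨by rw [← terminal.comp_from (C ↘ Spec (CommRingCat.of k))]; infer_instance⟩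
  have hfix' : ∀ x : C', ¬ IsRegularLocalRing (C.presheaf.stalk (ν.base x)) → ψ.inv.base x = x := fun x hx => by
    conv_lhs => rw [← hfix x hx]
    show ψ.inv (ψ.hom x) = x
    rw [← Scheme.Hom.comp_apply, ψ.hom_inv_id]
    rfl
  obtain ⟨φ, hφ⟩ := exists_descent hdim.le hgen ν hν hU hU' ψ.hom hψ hfix
  obtain ⟨φ', hφ'⟩ := exists_descent hdim.le hgen ν hν hU hU' ψ.inv (by rw [Iso.inv_comp_eq, hψ]) hfix'
  have h1 : φ ≫ φ' = 𝟙 C := ext_of_isDominant ν (by
    rw [reassoc_of% hφ, hφ', ψ.hom_inv_id_assoc, Category.comp_id])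
  have h2 : φ' ≫ φ = 𝟙 C := ext_of_isDominant ν (by
    rw [reassoc_of% hφ', hφ, ψ.inv_hom_id_assoc, Category.comp_id])
  exact ⟨φ, ⟨hφ, ⟨φ', h1, h2⟩⟩, fun φ₂ h => ext_of_isDominant ν (h.1.trans hφ.symm)⟩

end Groth.Agent.S19899
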