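import Groth.Statements.S19901
import Groth.Agent.L09.LciMor.Basic
import Groth.Agent.L24.LocQ.Descent
import Groth.Agent.L24.Sub.SmoothPre

set_option autoImplicit false
universe u
open CategoryTheory AlgebraicGeometry
open AlgSt

set_option backward.isDefEq.respectTransparency false
set_option backward.isDefEq.respectTransparency.types false

namespace Groth.Agent.S19901

open Groth.L24 in
/-- Let f : 𝒳 → 𝒴, q : 𝒴 → 𝒵 and p : 𝒳 → 𝒵 be morphisms of algebraic stacks forming a 2-commutative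
triangle (a 2-isomorphism between q ∘ f and p is given). If q is smooth and p is a local complete
intersection morphism (Koszul), then f is a local complete intersection morphism. Smooth and local
complete intersection morphisms of algebraic stacks are read on one square of smooth scheme charts. -/
theorem result
    (S : Scheme.{u}) (𝒳 : AlgSt.Cat S) (𝒴 : AlgSt.Cat S) (𝒵 : AlgSt.Cat S)
    (h𝒳 : AlgSt.IsAlgStack Scheme.fppfPrecoverage 𝒳)
    (h𝒴 : AlgSt.IsAlgStack Scheme.fppfPrecoverage 𝒴)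
    (h𝒵 : AlgSt.IsAlgStack Scheme.fppfPrecoverage 𝒵)
    (f : 𝒳 ⥤ᵇ 𝒴) (q : 𝒴 ⥤ᵇ 𝒵) (p : 𝒳 ⥤ᵇ 𝒵) (e : BasedFunctor.comp f q ≅ p)
    (hq : AlgSt.LocQ (AlgSp.LocP @Smooth) q) (hp : AlgSt.LocQ AlgSp.IsLCIMor p) :
    AlgSt.LocQ AlgSp.IsLCIMor f := by
  refine LocQ.locQ_left_of_comp Groth.L09.LciMor.isSmoothLocalST_lci h𝒳 h𝒴 h𝒵 (g := q) ?_
    (Sub.locQ_congr e.symm hp)
  intro U V W z m h k hz hm j hh
  have : Smooth k.left :=
    St.prop_of_locP_map (LocQ.prop_of_chart Sub.isSmoothLocalST_smooth h𝒴.isStack.1 h𝒵.isStack.1 hq hz hm j)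
  refine Groth.L09.LciMor.locP_lci_map h (Groth.L09.LciMor.lci_cancel h.left k.left ?_)
  rw [← Over.comp_left]
  exact St.prop_of_locP_map (P := AlgSp.lci) hh

end Groth.Agent.S19901
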