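import Groth.Statements.S19902
import Groth.Agent.L24.Sub.SmoothPre
-- import your own Groth.Agent.* helpers here

set_option autoImplicit false
universe u
open CategoryTheory AlgebraicGeometry
open AlgSt
open Groth.L24.St Groth.L24.Sub Groth.L24

set_option backward.isDefEq.respectTransparency false
set_option backward.isDefEq.respectTransparency.types false

namespace Groth.Agent.S19902

/-- Let f : 𝒳 → 𝒴 be a morphism of algebraic stacks and 𝒰 ⊂ 𝒳 the largest open substack on which f is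
smooth. Formation of 𝒰 commutes with precomposing by smooth morphisms: for a smooth g : 𝒳' → 𝒳, the
inverse image of 𝒰 in 𝒳' is the largest open substack of 𝒳' on which f ∘ g is smooth. Open substacks
are given by their object predicates, the inverse image by composing the predicate with g on
objects, and smoothness is read on one square of smooth scheme charts. -/
theorem result
    (S : Scheme.{u}) (𝒳' : AlgSt.Cat S) (𝒳 : AlgSt.Cat S) (𝒴 : AlgSt.Cat S)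
    (h𝒳' : AlgSt.IsAlgStack Scheme.fppfPrecoverage 𝒳')
    (h𝒳 : AlgSt.IsAlgStack Scheme.fppfPrecoverage 𝒳)
    (h𝒴 : AlgSt.IsAlgStack Scheme.fppfPrecoverage 𝒴)
    (g : 𝒳' ⥤ᵇ 𝒳) (hg : AlgSt.LocQ (AlgSp.LocP @Smooth) g) (f : 𝒳 ⥤ᵇ 𝒴)
    (Q : 𝒳.obj → Prop) (hQ₁ : AlgSt.IsOpenSubstack 𝒳 Q Scheme.fppfPrecoverage)
    (hQ₂ : AlgSt.LocQ (AlgSp.LocP @Smooth) (BasedFunctor.comp (AlgSt.subIncl 𝒳 Q) f))
    (hQ₃ : ∀ Q' : 𝒳.obj → Prop, AlgSt.IsOpenSubstack 𝒳 Q' Scheme.fppfPrecoverage →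
      AlgSt.LocQ (AlgSp.LocP @Smooth) (BasedFunctor.comp (AlgSt.subIncl 𝒳 Q') f) → ∀ a, Q' a → Q a) :
    AlgSt.IsOpenSubstack 𝒳' (fun a ↦ Q (g.obj a)) Scheme.fppfPrecoverage ∧
      AlgSt.LocQ (AlgSp.LocP @Smooth)
        (BasedFunctor.comp (AlgSt.subIncl 𝒳' (fun a ↦ Q (g.obj a))) (BasedFunctor.comp g f)) ∧
      ∀ Q' : 𝒳'.obj → Prop, AlgSt.IsOpenSubstack 𝒳' Q' Scheme.fppfPrecoverage →
        AlgSt.LocQ (AlgSp.LocP @Smooth) (BasedFunctor.comp (AlgSt.subIncl 𝒳' Q') (BasedFunctor.comp g f)) →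
        ∀ a, Q' a → Q (g.obj a) := by
  have hp := isOpenSubstack_preimage h𝒳' h𝒳 g hQ₁
  have hsm := isSmoothLocalST_smooth (S := S)
  have hB := pBase_locP (S := S) Groth.L23.etLocal_smooth
  refine ⟨hp.1, locQ_smooth_comp hp.1.2.1 hQ₁.2.1 h𝒴 (locQ_liftSub hsm hB h𝒳' h𝒳 hg hQ₁) hQ₂,
    fun Q' hQ' hs a ha => ?_⟩
  let ι' := subIncl 𝒳' Q'
  let T := Points.map g '' Set.range (Points.map ι')
  have hT : IsOpen T := LocQ.isOpenMor_of_flat_lfp h𝒳' h𝒳 (locQ_flat_of_smooth hg) (locQ_lfp_of_smooth hg) _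
    (isOpen_range_of_isOpenSubstack h𝒳' hQ')
  have hW := isOpenSubstack_within h𝒳 hT
  have hmem : ∀ b : (fullSub 𝒳' Q').obj, Within T (g.obj b.obj) :=
    (forall_within_iff hQ'.2.1.isStack.1 h𝒳.isStack.1 T (BasedFunctor.comp ι' g)).2 (by
      rintro _ ⟨p, rfl⟩
      exact ⟨_, ⟨p, rfl⟩, by rw [map_comp_apply]⟩)
  have hWp := isOpenSubstack_preimage h𝒳' h𝒳 g hW
  let j : fullSub 𝒳' Q' ⥤ᵇ fullSub 𝒳' (fun b => Within T (g.obj b)) := liftSub _ ι' hmem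
  have hι' : RepByAlgSpWith (AlgSp.LocP @Smooth) ι' := repWith_mono (fun _ _ _ _ h =>
    Groth.L23.locP_of_repWith Groth.L23.etLocal_smooth (Groth.L23.repWith_mono
      (Q := (@Smooth : MorphismProperty Scheme.{u}))
      (fun φ (hφ : IsOpenImmersion φ) => have := hφ; inferInstanceAs (Smooth φ)) h)) hQ'.2.2
  have hj : AlgSt.LocQ (AlgSp.LocP @Smooth) j :=
    LocQ.locQ_of_repWith_locP Groth.L23.etLocal_smooth hQ'.2.1 hWp.1.2.1
      (smooth_of_comp_mono (i := subIncl 𝒳' fun b => Within T (g.obj b)) (repWith_mono_of_openImm hWp.1.2.2) hι')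
  have hG := locQ_smooth_comp hQ'.2.1 hWp.1.2.1 hW.2.1 hj (locQ_liftSub hsm hB h𝒳' h𝒳 hg hW)
  have hGs : IsSurjective (BasedFunctor.comp j
      (liftSub (Within T) (BasedFunctor.comp (subIncl 𝒳' fun b => Within T (g.obj b)) g) fun b => b.property)) :=
    fun q => by
      haveI : (subIncl 𝒳 (Within T)).toFunctor.Full := inferInstanceAs (ObjectProperty.ι _).Full
      obtain ⟨_, ⟨r, rfl⟩, hr⟩ := (range_within h𝒳.isStack.1 T).subset ⟨q, rfl⟩
      refine ⟨r, injective_map_of_fullFaithful hW.2.1.isStack.1 h𝒳.isStack.1 (subIncl 𝒳 (Within T)) ?_⟩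
      rw [← map_comp_apply, ← hr, ← map_comp_apply]
      rfl
  have h1 : AlgSt.LocQ (AlgSp.LocP @Smooth) (BasedFunctor.comp (subIncl 𝒳 (Within T)) f) :=
    LocQ.locQ_right_of_fppf Groth.L23.etLocal_smooth hsm
      (fun χ k _ _ _ h => Groth.L23.FppfSmooth.smooth_of_fppf_comp χ k h) hQ'.2.1 hW.2.1 h𝒴
      (locQ_flat_of_smooth hG) (locQ_lfp_of_smooth hG) hGs hs
  exact hQ₃ _ hW h1 _ (hmem ⟨a, ha⟩)

end Groth.Agent.S19902
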