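import Groth.Statements.S19908
import Groth.Agent.L09.OpenLocus.Main

set_option autoImplicit false
open CategoryTheory AlgebraicGeometry
universe u
open AlgSt

set_option backward.isDefEq.respectTransparency false
set_option backward.isDefEq.respectTransparency.types false

namespace Groth.Agent.S19908

open Groth.L24.St Groth.L09 Groth.L09.OpenLocus

set_option backward.isDefEq.respectTransparency false
set_option backward.isDefEq.respectTransparency.types false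

/-- Let `P`, `Q`, `R` be properties of morphisms of algebraic spaces over `S`, each stable under base
change and fppf local on the base, such that smooth morphisms have `R`, every morphism `f : X ⟶ Y`
of algebraic spaces with `Q` admits a largest open subspace `W ⊂ X` on which `f` has `P`, and for
such `f` and every `g : Y' ⟶ Y` with `R` the inverse image of `W` in `X ×_Y Y'` is the largest open
subspace on which the base change of `f` has `P`. Let `f : 𝒳 ⟶ 𝒴` be a 1-morphism of algebraic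
stacks over `S`, representable by algebraic spaces, with `Q`, and let `𝒳' ⊂ 𝒳` be the largest open
substack on which `f` has `P` (given by its object predicate `Q₀`). Then for every 1-morphism `z : 𝒵
⟶ 𝒴` of algebraic stacks representable by algebraic spaces with `R`, the inverse image of `𝒳'` in `𝒵
×_𝒴 𝒳` (the objects whose second component satisfies `Q₀`) is the largest open substack of `𝒵 ×_𝒴 𝒳`
on which the base change `𝒵 ×_𝒴 𝒳 ⟶ 𝒵` has `P`. (Stability under base change is asked for every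
pullback square of fppf sheaves whose four corners are algebraic spaces; part (A), the existence of
`𝒳'`, is a separate statement and enters here as the hypotheses on `Q₀`.) -/
theorem result {S : Scheme.{u}} {𝒳 𝒴 𝒵 : AlgSt.Cat S}
    (h𝒳 : AlgSt.IsAlgStack Scheme.fppfPrecoverage 𝒳) (h𝒴 : AlgSt.IsAlgStack Scheme.fppfPrecoverage 𝒴)
    (h𝒵 : AlgSt.IsAlgStack Scheme.fppfPrecoverage 𝒵)
    (P Q R : MorphismProperty (AlgSp.Sp S))
    (hPb : ∀ ⦃X₁ Y₁ X₂ Y₂ : AlgSp.Sp S⦄, AlgSp.IsAlgSpace X₁ → AlgSp.IsAlgSpace Y₁ → AlgSp.IsAlgSpace X₂ →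
      AlgSp.IsAlgSpace Y₂ → ∀ (a : X₁ ⟶ Y₁) (b : Y₂ ⟶ Y₁) (a' : X₂ ⟶ Y₂) (b' : X₂ ⟶ X₁),
      IsPullback b' a' a b → P a → P a')
    (hQb : ∀ ⦃X₁ Y₁ X₂ Y₂ : AlgSp.Sp S⦄, AlgSp.IsAlgSpace X₁ → AlgSp.IsAlgSpace Y₁ → AlgSp.IsAlgSpace X₂ →
      AlgSp.IsAlgSpace Y₂ → ∀ (a : X₁ ⟶ Y₁) (b : Y₂ ⟶ Y₁) (a' : X₂ ⟶ Y₂) (b' : X₂ ⟶ X₁),
      IsPullback b' a' a b → Q a → Q a')
    (hRb : ∀ ⦃X₁ Y₁ X₂ Y₂ : AlgSp.Sp S⦄, AlgSp.IsAlgSpace X₁ → AlgSp.IsAlgSpace Y₁ → AlgSp.IsAlgSpace X₂ →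
      AlgSp.IsAlgSpace Y₂ → ∀ (a : X₁ ⟶ Y₁) (b : Y₂ ⟶ Y₁) (a' : X₂ ⟶ Y₂) (b' : X₂ ⟶ X₁),
      IsPullback b' a' a b → R a → R a')
    (hP : AlgSp.IsLocalOnBase AlgSp.IsFppfCover P) (hQ : AlgSp.IsLocalOnBase AlgSp.IsFppfCover Q)
    (hR : AlgSp.IsLocalOnBase AlgSp.IsFppfCover R)
    (h₂ : ∀ (X Y : AlgSp.Space S) (g : X ⟶ Y), AlgSp.LocP @Smooth g.hom → R g.hom)
    (h₃ : ∀ (X Y : AlgSp.Space S) (f : X ⟶ Y), Q f.hom →
      ∃ (W : AlgSp.Space S) (w : W ⟶ X), (AlgSp.RepWith @IsOpenImmersion w.hom ∧ P (w ≫ f).hom ∧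
          ∀ (W₁ : AlgSp.Space S) (w₁ : W₁ ⟶ X), AlgSp.RepWith @IsOpenImmersion w₁.hom → P (w₁ ≫ f).hom →
            ∃ k : W₁ ⟶ W, k ≫ w = w₁))
    (h₄ : ∀ (X Y X' Y' : AlgSp.Space S) (f : X ⟶ Y) (g : Y' ⟶ Y) (f' : X' ⟶ Y') (g' : X' ⟶ X),
      IsPullback g'.hom f'.hom f.hom g.hom → Q f.hom → R g.hom →
      ∀ (W : AlgSp.Space S) (w : W ⟶ X), (AlgSp.RepWith @IsOpenImmersion w.hom ∧ P (w ≫ f).hom ∧
          ∀ (W₁ : AlgSp.Space S) (w₁ : W₁ ⟶ X), AlgSp.RepWith @IsOpenImmersion w₁.hom → P (w₁ ≫ f).hom →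
            ∃ k : W₁ ⟶ W, k ≫ w = w₁) →
        ∀ (W' : AlgSp.Space S) (w' : W' ⟶ X') (k : W' ⟶ W), IsPullback k.hom w'.hom w.hom g'.hom →
          (AlgSp.RepWith @IsOpenImmersion w'.hom ∧ P (w' ≫ f').hom ∧
          ∀ (W₁ : AlgSp.Space S) (w₁ : W₁ ⟶ X'), AlgSp.RepWith @IsOpenImmersion w₁.hom → P (w₁ ≫ f').hom →
            ∃ k : W₁ ⟶ W', k ≫ w' = w₁))
    (f : 𝒳 ⥤ᵇ 𝒴) (hf : AlgSt.RepByAlgSpWith Q f)
    (Q₀ : 𝒳.obj → Prop) (hQ₀ : AlgSt.IsOpenSubstack 𝒳 Q₀ Scheme.fppfPrecoverage)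
    (hQ₀P : AlgSt.RepByAlgSpWith P (BasedFunctor.comp (AlgSt.subIncl 𝒳 Q₀) f))
    (hQ₀max : ∀ Q₁ : 𝒳.obj → Prop, AlgSt.IsOpenSubstack 𝒳 Q₁ Scheme.fppfPrecoverage →
      AlgSt.RepByAlgSpWith P (BasedFunctor.comp (AlgSt.subIncl 𝒳 Q₁) f) → ∀ y, Q₁ y → Q₀ y)
    (z : 𝒵 ⥤ᵇ 𝒴) (hz : AlgSt.RepByAlgSpWith R z) :
    AlgSt.IsOpenSubstack (FibCat.fp z f) (fun b ↦ Q₀ b.obj.snd) Scheme.fppfPrecoverage ∧
      AlgSt.RepByAlgSpWith P
        (BasedFunctor.comp (AlgSt.subIncl (FibCat.fp z f) fun b ↦ Q₀ b.obj.snd) (FibCat.fpFst z f)) ∧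
        ∀ Q₁ : (FibCat.fp z f).obj → Prop, AlgSt.IsOpenSubstack (FibCat.fp z f) Q₁ Scheme.fppfPrecoverage →
          AlgSt.RepByAlgSpWith P (BasedFunctor.comp (AlgSt.subIncl (FibCat.fp z f) Q₁) (FibCat.fpFst z f)) →
            ∀ b, Q₁ b → Q₀ b.obj.snd := by
  have hS : Setup P Q R := ⟨hPb, hQb, hRb, hP, hQ, hR, h₂, h₃, h₄⟩
  obtain ⟨Q', hQ', hQ'P, hQ'max, G, y, Λ, hy, hys, hΛ, hr⟩ := hS.exists_substack h𝒳 h𝒴 hf
  let T := Set.range (Points.map (subIncl 𝒳 Q₀))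
  have hT : T = Points.map (FibCat.fpSnd y f) '' Λ := by
    rw [← hr]
    exact ((Groth.L24.Sub.subset_iff h𝒳 hQ₀ hQ').1 (hQ'max Q₀ hQ₀ hQ₀P)).antisymm
      ((Groth.L24.Sub.subset_iff h𝒳 hQ' hQ₀).1 (hQ₀max Q' hQ' hQ'P))
  have hN := isAlgStack_fp h𝒵 h𝒳 h𝒴 z f
  obtain ⟨hpre, hprer⟩ := Groth.L24.Sub.isOpenSubstack_preimage hN h𝒳 (FibCat.fpSnd z f) hQ₀
  let ι' := subIncl (FibCat.fp z f) fun b ↦ Q₀ b.obj.snd
  refine ⟨hpre, ?_, fun Q₁ hQ₁ hQ₁P => ?_⟩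
  · let Ψ : fullSub (FibCat.fp z f) (fun b ↦ Q₀ b.obj.snd) ⥤ᵇ FibCat.fp z (BasedFunctor.comp (subIncl 𝒳 Q₀) f) :=
      FibCat.fpLift (BasedFunctor.comp ι' (FibCat.fpFst z f))
        (Groth.L24.Sub.liftSub Q₀ (BasedFunctor.comp ι' (FibCat.fpSnd z f)) fun b => b.property)
        (whiskerL ι' (FibCat.fpIso z f))
    have hff : Ψ.toFunctor.Full := ⟨fun {b b'} m =>
      ⟨ObjectProperty.homMk (fpHom m.hom.fst m.hom.snd.hom m.hom.w), fp_ext rfl rfl⟩⟩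
    have hfa : Ψ.toFunctor.Faithful := ⟨fun {b b'} {m m'} h => ObjectProperty.hom_ext _
      (fp_ext (congrArg (fun t => t.hom.fst) h) (congrArg (fun t => t.hom.snd.hom) h))⟩
    have hΨ : FibCat.IsEquivOver Ψ := isEquivOver_of_overId Ψ fun η =>
      ⟨⟨fpObj η.obj.fst η.obj.snd.obj η.obj.iso (fp_overId η), η.obj.snd.property⟩,
        fpIsoMk (Iso.refl _) (Iso.refl _) (by
          show z.map (𝟙 _) ≫ η.obj.iso.hom = η.obj.iso.hom ≫ (BasedFunctor.comp (subIncl 𝒳 Q₀) f).map (𝟙 _)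
          erw [z.toFunctor.map_id, (BasedFunctor.comp (subIncl 𝒳 Q₀) f).toFunctor.map_id, Category.id_comp,
            Category.comp_id]),
        overId_fp _ (overId_id _)⟩
    exact (repWith_precomp hΨ _).2 (repWith_fpFst z hQ₀P)
  · refine (Groth.L24.Sub.subset_iff hN hQ₁ hpre).2 ?_
    rw [hprer]
    intro t ht
    show Points.map (FibCat.fpSnd z f) t ∈ T
    rw [hT]
    have hgG : FibCat.IsFibGrpd (ofSp G.obj).p := ofSp_isFibGrpd G.obj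
    obtain ⟨M, hM⟩ := exists_wit_prop (z := y) h𝒵.isStack.1 h𝒴.isStack.1 hRb hR hz
    let h := BasedFunctor.comp M.e (FibCat.fpSnd y z)
    let i : BasedFunctor.comp (ofSpMap M.a.hom) y ≅ BasedFunctor.comp h z :=
      whiskerR M.i.symm y ≪≫ whiskerL M.e (FibCat.fpIso y z)
    obtain ⟨Λ₂, ⟨w₂, W, j, hW, rfl⟩, hiff⟩ := hΛ.exists_baseChange h𝒳.isStack.1 h𝒴.isStack.1 hQb hQ hf h₄
      M.a hM i
    obtain ⟨c, hc, -, ⟨ic⟩⟩ := exists_inverse (fpPaste_isEquivOver h z f)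
    let w₃ : Wit (FibCat.fpFst z f) h :=
      ⟨w₂.F, w₂.a, BasedFunctor.comp w₂.e c, isEquivOver_comp w₂.he hc,
        whiskerR (whiskerL w₂.e ic) (FibCat.fpFst (BasedFunctor.comp h z) f) ≪≫ w₂.i⟩
    have hsub := IsLoc.preimage_subset (Λ := Set.range (w₃.pts ∘ AlgSp.Points.map j.hom)) ⟨w₃, W, j, hW, rfl⟩
      hN.isStack.1 h𝒵.isStack.1 hPb hP hQ₁.2.1.isStack.1 hQ₁.2.2 hQ₁P
    have hhs : IsSurjective h := isSurjective_comp (isSurjective_of_isEquivOver M.he)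
      (isSurjective_of_repWith (L09.Fib.fp_isFibGrpd hgG h𝒵.isStack.1 h𝒴.isStack.1) h𝒵.isStack.1
        (repWith_fpSnd z hys))
    obtain ⟨m, hm⟩ := hhs (Points.map (FibCat.fpFst z f) t)
    obtain ⟨ξ, -, hξ⟩ := exists_points_fp hN.isStack.1 h𝒵.isStack.1 (ofSp_isFibGrpd M.F.obj) (FibCat.fpFst z f) h
      m t hm
    obtain ⟨v, hv⟩ := hsub (show Points.map (FibCat.fpSnd h (FibCat.fpFst z f)) ξ ∈ _ by rw [hξ]; exact ht)
    have hmem : Points.map (fpPaste h z f) ξ ∈ Set.range (w₂.pts ∘ AlgSp.Points.map j.hom) := ⟨v, by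
      rw [← hv]
      show w₂.pts (AlgSp.Points.map j.hom v) = Points.map (fpPaste h z f) (Points.map (BasedFunctor.comp w₂.e c)
        (ptMap _ (AlgSp.Points.map j.hom v)))
      rw [← map_comp_apply]
      exact (congrFun (map_congr (whiskerL w₂.e ic)) _).symm⟩
    have htr : FibCat.IsEquivOver (transfer f M.a i) :=
      isEquivOver_comp (fpPaste_isEquivOver _ _ _) (fpMap_isEquivOver (isEquivOver_id _) (isEquivOver_id _) _ _)
    obtain ⟨ω, hω⟩ := (bijective_map_of_isEquivOver htr).surjective (Points.map (fpPaste h z f) ξ)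
    refine ⟨_, (hiff ω).1 (hω ▸ hmem), ?_⟩
    have h5 := congrArg (Points.map (FibCat.fpSnd (BasedFunctor.comp h z) f)) hω
    rw [← hξ, ← map_comp_apply, ← map_comp_apply]
    rw [← map_comp_apply, ← map_comp_apply] at h5
    exact h5

end Groth.Agent.S19908
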