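import Groth.Statements.S19909
import Groth.Agent.L09.OpenLocus.SmoothBC

set_option autoImplicit false
universe u
open CategoryTheory AlgebraicGeometry
open AlgSt

set_option backward.isDefEq.respectTransparency false
set_option backward.isDefEq.respectTransparency.types false

namespace Groth.Agent.S19909

open CategoryTheory.Limits Groth Groth.L24 Groth.L24.St Groth.L09.SmoothLocusBC

set_option backward.isDefEq.respectTransparency false
set_option backward.isDefEq.respectTransparency.types false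

/-- Let f : 𝒳 → 𝒴 be a morphism of algebraic stacks and 𝒰 ⊂ 𝒳 the largest open substack on which f is
smooth. Formation of 𝒰 commutes with base change along y : 𝒴' → 𝒴 when y is flat and locally of
finite presentation, or when y is flat and f is locally of finite presentation: the inverse image of
𝒰 in 𝒴' ×_𝒴 𝒳 is the largest open substack on which the projection to 𝒴' is smooth. Open substacks
are given by their object predicates, the inverse image by reading the predicate on the second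
component, and flat, locally of finite presentation and smooth are read on one square of smooth
scheme charts. -/
theorem result
    (S : Scheme.{u}) (𝒳 : AlgSt.Cat S) (𝒴 : AlgSt.Cat S) (𝒴' : AlgSt.Cat S)
    (h𝒳 : AlgSt.IsAlgStack Scheme.fppfPrecoverage 𝒳)
    (h𝒴 : AlgSt.IsAlgStack Scheme.fppfPrecoverage 𝒴)
    (h𝒴' : AlgSt.IsAlgStack Scheme.fppfPrecoverage 𝒴')
    (f : 𝒳 ⥤ᵇ 𝒴) (y : 𝒴' ⥤ᵇ 𝒴) (hy : AlgSt.LocQ (AlgSp.LocP @Flat) y)
    (hfp : AlgSt.LocQ (AlgSp.LocP @LocallyOfFinitePresentation) y ∨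
      AlgSt.LocQ (AlgSp.LocP @LocallyOfFinitePresentation) f)
    (Q : 𝒳.obj → Prop) (hQ₁ : AlgSt.IsOpenSubstack 𝒳 Q Scheme.fppfPrecoverage)
    (hQ₂ : AlgSt.LocQ (AlgSp.LocP @Smooth) (BasedFunctor.comp (AlgSt.subIncl 𝒳 Q) f))
    (hQ₃ : ∀ Q' : 𝒳.obj → Prop, AlgSt.IsOpenSubstack 𝒳 Q' Scheme.fppfPrecoverage →
      AlgSt.LocQ (AlgSp.LocP @Smooth) (BasedFunctor.comp (AlgSt.subIncl 𝒳 Q') f) → ∀ a, Q' a → Q a) :
    AlgSt.IsOpenSubstack (FibCat.fp y f) (fun b ↦ Q b.obj.snd) Scheme.fppfPrecoverage ∧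
      AlgSt.LocQ (AlgSp.LocP @Smooth)
        (BasedFunctor.comp (AlgSt.subIncl (FibCat.fp y f) fun b ↦ Q b.obj.snd) (FibCat.fpFst y f)) ∧
      ∀ Q' : (FibCat.fp y f).obj → Prop, AlgSt.IsOpenSubstack (FibCat.fp y f) Q' Scheme.fppfPrecoverage →
        AlgSt.LocQ (AlgSp.LocP @Smooth) (BasedFunctor.comp (AlgSt.subIncl (FibCat.fp y f) Q') (FibCat.fpFst y f)) →
        ∀ b, Q' b → Q b.obj.snd := by
  have hN := isAlgStack_fp h𝒴' h𝒳 h𝒴 y f
  obtain ⟨hpre, hprer⟩ := Sub.isOpenSubstack_preimage hN h𝒳 (FibCat.fpSnd y f) hQ₁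
  let ι' := subIncl (FibCat.fp y f) fun b ↦ Q b.obj.snd
  refine ⟨hpre, ?_, fun Q' hQ' hsm => ?_⟩
  · let Ψ : fullSub (FibCat.fp y f) (fun b ↦ Q b.obj.snd) ⥤ᵇ FibCat.fp y (BasedFunctor.comp (subIncl 𝒳 Q) f) :=
      FibCat.fpLift (BasedFunctor.comp ι' (FibCat.fpFst y f))
        (Sub.liftSub Q (BasedFunctor.comp ι' (FibCat.fpSnd y f)) fun b => b.property)
        (whiskerL ι' (FibCat.fpIso y f))
    have hff : Ψ.toFunctor.Full := ⟨fun {b b'} m =>
      ⟨ObjectProperty.homMk (fpHom m.hom.fst m.hom.snd.hom m.hom.w), fp_ext rfl rfl⟩⟩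
    have hfa : Ψ.toFunctor.Faithful := ⟨fun {b b'} {m m'} h => ObjectProperty.hom_ext _
      (fp_ext (congrArg (fun t => t.hom.fst) h) (congrArg (fun t => t.hom.snd.hom) h))⟩
    have hΨ : FibCat.IsEquivOver Ψ := isEquivOver_of_overId Ψ fun η =>
      ⟨⟨fpObj η.obj.fst η.obj.snd.obj η.obj.iso (fp_overId η), η.obj.snd.property⟩,
        fpIsoMk (Iso.refl _) (Iso.refl _) (by
          show y.map (𝟙 _) ≫ η.obj.iso.hom = η.obj.iso.hom ≫ (BasedFunctor.comp (subIncl 𝒳 Q) f).map (𝟙 _)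
          erw [y.toFunctor.map_id, (BasedFunctor.comp (subIncl 𝒳 Q) f).toFunctor.map_id, Category.id_comp,
            Category.comp_id]),
        overId_fp _ (overId_id _)⟩
    exact Sub.locQ_precomp_equiv hΨ (LocQ.locQ_fpFst Sub.isSmoothLocalST_smooth
      (pBase_locP Groth.L23.etLocal_smooth) hQ₁.2.1 h𝒴 h𝒴' y hQ₂)
  · refine (Sub.subset_iff hN hQ' hpre).2 ?_
    rw [hprer]
    intro t ht
    show Points.map (FibCat.fpSnd y f) t ∈ Set.range (Points.map (subIncl 𝒳 Q))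
    obtain ⟨V, y₀, hy₀, hys₀⟩ := h𝒴.atlas
    obtain ⟨V', m, k, hm, -, ⟨im⟩, hy', ⟨κ⟩, hys'⟩ := LocQ.exists_chart h𝒴' h𝒴 y y₀ hy₀
    obtain ⟨U, ℓ, h, hℓ, hℓs, ⟨i⟩, hx, -, -⟩ := LocQ.exists_chart h𝒳 h𝒴 f y₀ hy₀
    obtain ⟨L, hL, ⟨j⟩, ⟨j'⟩⟩ := exists_chart_baseChange' (f := f) κ i
    let y' := BasedFunctor.comp m (FibCat.fpFst y y₀)
    let x' := BasedFunctor.comp L (FibCat.fpFst (FibCat.fpFst y f) y')
    have hgL := L09.Fib.fp_isFibGrpd hN.isStack.1 (overCat_isFibGrpd V') h𝒴'.isStack.1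
      (F := FibCat.fpFst y f) (G := y')
    have hxs : IsSurjective x' := isSurjective_comp (isSurjective_of_repWith (overCat_isFibGrpd _) hgL (hL hℓs))
      (isSurjective_fpFst (overCat_isFibGrpd V') h𝒴'.isStack.1 hN.isStack.1 _
        (isSurjective_of_repWith (overCat_isFibGrpd V') h𝒴'.isStack.1 (hys' hys₀)))
    let O : (pullback h k).left.Opens := ⟨Points.ofChart x' ⁻¹' Set.range (Points.map (subIncl (FibCat.fp y f) Q')),
      (Sub.isOpen_range_of_isOpenSubstack hN hQ').preimage (continuous_ofChart hN x')⟩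
    have hsO : Smooth (O.ι ≫ (pullback.snd h k).left) :=
      smooth_preimage hN h𝒴' hQ' hsm hy' (hL hℓ) j O (by rintro _ ⟨v, hv, rfl⟩; exact hv)
    obtain ⟨u, hu⟩ := (isSurjective_iff_ofChart x').1 hxs t
    have huO : u ∈ O := show Points.ofChart x' u ∈ _ by rw [hu]; exact ht
    let e := ((IsPullback.of_hasPullback h k).map (Over.forget S)).isoPullback
    have hef : e.inv ≫ (pullback.fst h k).left = pullback.fst h.left k.left :=
      ((IsPullback.of_hasPullback h k).map (Over.forget S)).isoPullback_inv_fst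
    have hes : e.inv ≫ (pullback.snd h k).left = pullback.snd h.left k.left :=
      ((IsPullback.of_hasPullback h k).map (Over.forget S)).isoPullback_inv_snd
    have : Flat k.left := prop_of_locP_map
      (LocQ.prop_of_chart LocQ.isSmoothLocalST_flat h𝒴'.isStack.1 h𝒴.isStack.1 hy hy₀ hm im)
    have hfp' : LocallyOfFinitePresentation k.left ∨ LocallyOfFinitePresentation h.left := hfp.imp
      (fun h1 => prop_of_locP_map (LocQ.prop_of_chart LocQ.isSmoothLocalST_lfp h𝒴'.isStack.1 h𝒴.isStack.1 h1 hy₀ hm im))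
      (fun h1 => prop_of_locP_map (LocQ.prop_of_chart LocQ.isSmoothLocalST_lfp h𝒳.isStack.1 h𝒴.isStack.1 h1 hy₀ hℓ i))
    let O₀ : (Limits.pullback h.left k.left).Opens := e.inv ⁻¹ᵁ O
    have : Smooth (O₀.ι ≫ pullback.snd h.left k.left) := by
      rw [← hes, ← morphismRestrict_ι_assoc]
      infer_instance
    have hu₀ : e.inv (e.hom u) = u := by rw [← Scheme.Hom.comp_apply, Iso.hom_inv_id]; rfl
    obtain ⟨U₁, hU₁, hU₁s⟩ := smooth_nhd h.left k.left hfp' O₀ ⟨e.hom u, show e.inv (e.hom u) ∈ O by rw [hu₀]; exact huO⟩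
    refine subset_of_smooth h𝒳 hQ₁ hQ₃ (whiskerL ℓ (FibCat.fpIso f y₀) ≪≫ whiskerR i y₀) hx hy₀ U₁ hU₁s ⟨_, hU₁, ?_⟩
    have e3 : Limits.pullback.fst h.left k.left (e.hom u) = (pullback.fst h k).left u :=
      (congrArg (fun m : Limits.pullback h.left k.left ⟶ U.left => m (e.hom u)) hef).symm.trans
        (congrArg (pullback.fst h k).left hu₀)
    show Points.ofChart (BasedFunctor.comp ℓ (FibCat.fpFst f y₀)) (Limits.pullback.fst h.left k.left (e.hom u)) = _
    rw [e3, ← ofChart_overMap_comp, ← hu, ← ofChart_congr j']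
    exact (congrFun (map_comp_ofChart x' (FibCat.fpSnd y f)) u).symm

end Groth.Agent.S19909
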