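import Groth.Statements.S19912
import Groth.Agent.L01.Regular
import Mathlib.RingTheory.DedekindDomain.Ideal.Lemmas
-- import your own Groth.Agent.* helpers here

set_option autoImplicit false
universe u
open CategoryTheory CategoryTheory.Limits AlgebraicGeometry
open Models

namespace Groth.Agent.S19912

theorem stalkClosedPointTo_toGlobal {R V : Type u} [CommRing R] [CommRing V] [IsLocalRing V]
    (g : Spec (CommRingCat.of V) ⟶ Spec (CommRingCat.of R)) (φ : CommRingCat.of R ⟶ CommRingCat.of V)
    (h : g = Spec.map φ) :
    (Scheme.ΓSpecIso (CommRingCat.of R)).inv ≫ (Spec (CommRingCat.of R)).presheaf.germ ⊤ _ trivial ≫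
      Scheme.stalkClosedPointTo g = φ := by
  subst h
  rw [Scheme.germ_stalkClosedPointTo_Spec, Iso.inv_hom_id_assoc]

/-- Let R be a discrete valuation ring with fraction field K and YR a scheme over Spec R. Let V be a
discrete valuation ring which is an R-algebra in such a way that the maximal ideal of R generates
the maximal ideal of V (ramification index one), and let σ : Spec V -> YR be a morphism over Spec R
sending the closed point of Spec V to y. If the local ring of YR at y is regular, then the local
ring at y of the special fibre of YR, namely O_{YR,y}/𝔪_R O_{YR,y}, is regular. (The published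
statement takes YR a normal projective flat model of a smooth projective geometrically connected
curve Y over K and phrases the hypothesis through a point Q of Y rational over an extension L of K
unramified over K with y in the closure of Q: by the valuative criterion such a point yields a
morphism as above from the spectrum of the localization of the integral closure of R in L at a
maximal ideal over y, which is the form used here.) -/
theorem result
    (R : Type u) [CommRing R] [IsDomain R] [IsDiscreteValuationRing R]
    (YR : Over (Spec (CommRingCat.of R)))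
    (V : Type u) [CommRing V] [IsDomain V] [IsDiscreteValuationRing V] [Algebra R V]
    (hV : Ideal.map (algebraMap R V) (IsLocalRing.maximalIdeal R) = IsLocalRing.maximalIdeal V)
    (σ : Spec (CommRingCat.of V) ⟶ YR.left)
    (hσ : σ ≫ YR.hom = Spec.map (CommRingCat.ofHom (algebraMap R V)))
    (y : YR.left) (hy : σ.base (IsLocalRing.closedPoint V) = y)
    (hreg : IsRegularLocalRing (YR.left.presheaf.stalk y)) :
    IsRegularLocalRing (YR.left.presheaf.stalk y ⧸
      Ideal.map (Models.stalkHom R YR y) (IsLocalRing.maximalIdeal R)) := by
  subst hy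
  haveI := hreg
  let ψ := Scheme.stalkClosedPointTo σ
  obtain ⟨ϖ, hϖ⟩ := IsDiscreteValuationRing.exists_irreducible R
  let t := Models.stalkHom R YR (σ.base (IsLocalRing.closedPoint V)) ϖ
  have ht : ψ.hom t = algebraMap R V ϖ := by
    have h1 := stalkClosedPointTo_toGlobal (σ ≫ YR.hom) _ hσ
    rw [Scheme.stalkClosedPointTo_comp] at h1
    erw [Scheme.Hom.germ_stalkMap_assoc] at h1
    exact congrArg (fun g => g.hom ϖ) h1
  have hmax : IsLocalRing.maximalIdeal V = Ideal.span {algebraMap R V ϖ} := by
    rw [← hV, hϖ.maximalIdeal_eq, Ideal.map_span, Set.image_singleton]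
  have hVm : algebraMap R V ϖ ∈ IsLocalRing.maximalIdeal V := hmax ▸ Ideal.mem_span_singleton_self _
  have htm : t ∈ IsLocalRing.maximalIdeal _ := (IsLocalRing.mem_maximalIdeal _).mpr fun h =>
    (IsLocalRing.mem_maximalIdeal _).mp hVm (ht ▸ h.map ψ.hom)
  have ht2 : t ∉ IsLocalRing.maximalIdeal _ ^ 2 := fun h => by
    have h1 := Ideal.mem_map_of_mem ψ.hom h
    rw [Ideal.map_pow, ht] at h1
    have h2 := Ideal.pow_right_mono (((IsLocalRing.local_hom_TFAE ψ.hom).out 0 2).mp (Scheme.isLocalHom_stalkClosedPointTo σ)) 2 h1
    have h3 : IsLocalRing.maximalIdeal V ≤ IsLocalRing.maximalIdeal V ^ 2 :=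
      hmax.le.trans ((Ideal.span_singleton_le_iff_mem _).mpr h2)
    exact (Ideal.pow_succ_lt_pow (IsDiscreteValuationRing.not_a_field V) 1).not_ge (by simpa using h3)
  rw [show Ideal.map (Models.stalkHom R YR (σ.base (IsLocalRing.closedPoint V))) (IsLocalRing.maximalIdeal R) =
    Ideal.span {t} by rw [hϖ.maximalIdeal_eq, Ideal.map_span, Set.image_singleton]]
  exact (Groth.L01.regular_quotient_of_notMem_sq htm ht2).1

end Groth.Agent.S19912
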