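import Groth.Statements.S19917
import Groth.Agent.L15.TameGal.Core
import Mathlib.RingTheory.RamificationInertia.Basic
import Mathlib.RingTheory.DedekindDomain.IntegralClosure
-- import your own Groth.Agent.* helpers here

set_option autoImplicit false
universe u
open CategoryTheory CategoryTheory.Limits AlgebraicGeometry MonObj
open SGA7

namespace Groth.Agent.S19917

/-- Let R be a discrete valuation ring with fraction field K and residue field k, Ω a separable closure
of K and W a valuation subring of Ω lying over R. Assume that every K-automorphism of Ω belongs to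
the inertia group at W, i.e. K coincides with its maximal extension inside Ω at which the
restriction of W is unramified over R. Let r ≥ 1 be an integer whose image in k is non-zero. Then
there is exactly one intermediate field L of Ω over K with [L : K] = r and L Galois over K; moreover
every such L is totally (and tamely) ramified over R: every maximal ideal of the integral closure of
R in L has ramification index r over R. -/
theorem result (R K Ω : Type u) [CommRing R] [IsDomain R]
    [IsDiscreteValuationRing R] [Field K] [Algebra R K] [IsFractionRing R K] [Field Ω] [Algebra K Ω]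
    [IsSepClosure K Ω] [Algebra R Ω] [IsScalarTower R K Ω]
    (W : ValuationSubring Ω) (hW : SGA7.LiesOver K R W)
    (hI : ∀ σ : Ω ≃ₐ[K] Ω, SGA7.IsInertia W σ)
    (r : ℕ) (hr : 0 < r) (hrk : (r : IsLocalRing.ResidueField R) ≠ 0) :
    (∃! L : IntermediateField K Ω, Module.finrank K L = r ∧ IsGalois K L) ∧
      ∀ L : IntermediateField K Ω, Module.finrank K L = r → IsGalois K L →
        ∀ P : Ideal (integralClosure R L), P.IsMaximal → P.ramificationIdx R = r := by
  have hι : ∀ a : R, algebraMap R Ω a = algebraMap K Ω (algebraMap R K a) :=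
    IsScalarTower.algebraMap_apply R K Ω
  have h : Groth.L15.TameGal.Inertial R K W := ⟨hW.1, hW.2, fun σ x hx => hI σ x hx⟩
  obtain ⟨ϖ, hϖ⟩ := IsDiscreteValuationRing.exists_irreducible R
  obtain ⟨ρ, hρ⟩ := Groth.L15.TameGal.exists_root K hrk (algebraMap K Ω (algebraMap R K ϖ))
  haveI : IsGalois K Ω := Groth.L15.TameGal.isGalois
  have hπ0 : algebraMap K Ω (algebraMap R K ϖ) ≠ 0 :=
    (_root_.map_ne_zero _).mpr ((map_ne_zero_iff _ (IsFractionRing.injective R K)).mpr hϖ.ne_zero)
  have hρ0 : ρ ≠ 0 := fun h0 => hπ0 (by rw [← hρ, h0, zero_pow hr.ne'])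
  have hmono := Polynomial.monic_X_pow_sub_C (algebraMap R K ϖ) hr.ne'
  have hirr := Groth.L15.TameGal.irreducible_X_pow_sub (K := K) hϖ hr
  have hmin : minpoly K ρ = Polynomial.X ^ r - Polynomial.C (algebraMap R K ϖ) :=
    (minpoly.eq_of_irreducible_of_monic hirr (by simp [hρ]) hmono).symm
  let L := IntermediateField.adjoin K ({ρ} : Set Ω)
  have hρL : ρ ∈ L := IntermediateField.mem_adjoin_simple_self K ρ
  have hρint : IsIntegral K ρ := Algebra.IsIntegral.isIntegral ρ
  haveI : FiniteDimensional K L := IntermediateField.adjoin.finiteDimensional hρint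
  have hdeg : Module.finrank K L = r := by
    rw [IntermediateField.adjoin.finrank hρint, hmin, Polynomial.natDegree_X_pow_sub_C]
  haveI hnormal : Normal K L := by
    rw [IntermediateField.normal_iff_forall_map_le']
    intro σ
    rw [IntermediateField.adjoin_map, IntermediateField.adjoin_le_iff]
    rintro _ ⟨x, rfl, rfl⟩
    have hμ : (σ x / x) ^ r = 1 := by
      rw [div_pow, ← map_pow, hρ, AlgEquiv.commutes, div_self hπ0]
    obtain ⟨k, hk⟩ := IntermediateField.mem_bot.mp ((InfiniteGalois.mem_bot_iff_fixed (σ x / x)).mpr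
      fun τ => Groth.L15.TameGal.mu_fix h hrk τ hμ)
    show σ x ∈ L
    rw [← div_mul_cancel₀ (σ x) hρ0, ← hk]
    exact mul_mem (algebraMap_mem L k) hρL
  have hgal : IsGalois K L := ⟨⟩
  have huniq : ∀ L' : IntermediateField K Ω, Module.finrank K L' = r → IsGalois K L' → L' = L := by
    intro L' hd' hg'
    haveI : FiniteDimensional K L' := FiniteDimensional.of_finrank_pos (hd' ▸ hr)
    refine IntermediateField.eq_of_le_of_finrank_eq ?_ (hd'.trans hdeg.symm)
    rw [← InfiniteGalois.fixedField_fixingSubgroup L]
    intro x hx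
    rw [IntermediateField.mem_fixedField_iff]
    intro σ hσ
    obtain ⟨y, y', rfl⟩ := Groth.L15.TameGal.eq_pow_mul_pow h hϖ hrk hρ
      ((IntermediateField.mem_fixingSubgroup_iff _ _).mp hσ ρ hρL)
    have h1 : ∀ g : Gal(L'/K), g ^ r = 1 := fun g => by
      rw [← hd', ← IsGalois.card_aut_eq_finrank K L']
      exact pow_card_eq_one'
    have h2 := AlgEquiv.restrictNormal_commutes (y ^ r * y' ^ r) L' ⟨x, hx⟩
    have h3 : AlgEquiv.restrictNormalHom L' (y ^ r * y' ^ r) = 1 := by
      rw [map_mul, map_pow, map_pow, h1, h1, _root_.one_mul]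
    rw [show AlgEquiv.restrictNormal (y ^ r * y' ^ r) L' = 1 from h3] at h2
    exact h2.symm
  refine ⟨⟨L, ⟨hdeg, hgal⟩, fun L' hL' => huniq L' hL'.1 hL'.2⟩, ?_⟩
  intro L' hd' hg' P hP
  obtain rfl := huniq L' hd' hg'
  clear hd' hg'
  haveI := hP
  haveI : Algebra.IsSeparable K L := inferInstance
  haveI : Module.Finite R (integralClosure R L) := IsIntegralClosure.finite R K L (integralClosure R L)
  haveI : IsDedekindDomain (integralClosure R L) := IsIntegralClosure.isDedekindDomain R K L (integralClosure R L)
  have hinj : Function.Injective (algebraMap R L) := by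
    rw [IsScalarTower.algebraMap_eq R K L]
    exact (algebraMap K L).injective.comp (IsFractionRing.injective R K)
  haveI : Module.IsTorsionFree R L := Module.isTorsionFree_iff_algebraMap_injective.mpr hinj
  haveI : Module.IsTorsionFree R (integralClosure R L) :=
    Module.isTorsionFree_iff_algebraMap_injective.mpr fun a b hab => hinj (congrArg Subtype.val hab)
  have hrank : Module.finrank R (integralClosure R L) = r :=
    (IsIntegralClosure.rank R K L (integralClosure R L)).trans hdeg
  have hpow : (⟨ρ, hρL⟩ : L) ^ r = algebraMap R L ϖ := by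
    refine Subtype.ext ?_
    rw [SubmonoidClass.coe_pow]
    exact hρ.trans (hι ϖ).symm
  have hρi : IsIntegral R (⟨ρ, hρL⟩ : L) := IsIntegral.of_pow hr (hpow ▸ isIntegral_algebraMap)
  let ρB : integralClosure R L := ⟨⟨ρ, hρL⟩, hρi⟩
  have hpowB : ρB ^ r = algebraMap R (integralClosure R L) ϖ := Subtype.ext hpow
  have hunder : P.under R = IsLocalRing.maximalIdeal R :=
    IsLocalRing.eq_maximalIdeal (Ideal.IsMaximal.under R P)
  haveI : P.LiesOver (IsLocalRing.maximalIdeal R) := ⟨hunder.symm⟩
  have hp0 : IsLocalRing.maximalIdeal R ≠ ⊥ := IsDiscreteValuationRing.not_a_field R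
  have hmap0 : (IsLocalRing.maximalIdeal R).map (algebraMap R (integralClosure R L)) ≠ ⊥ :=
    Ideal.map_ne_bot_of_ne_bot hp0
  have hϖP : ρB ∈ P := by
    refine hP.isPrime.mem_of_pow_mem r ?_
    rw [hpowB, ← Ideal.mem_comap]
    show ϖ ∈ P.under R
    rw [hunder]
    exact hϖ.maximalIdeal_eq ▸ Ideal.mem_span_singleton_self ϖ
  refine le_antisymm ?_ ?_
  · haveI : Fintype ((IsLocalRing.maximalIdeal R).primesOver (integralClosure R L)) :=
      (IsDedekindDomain.primesOver_finite (IsLocalRing.maximalIdeal R) (integralClosure R L)).fintype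
    have hsum := Ideal.sum_ramification_inertia_eq_finrank (IsLocalRing.maximalIdeal R) (S := integralClosure R L)
    rw [hrank] at hsum
    refine le_trans (Nat.le_mul_of_pos_right _ (Ideal.inertiaDeg_pos (q := P) (R := R))) ?_
    rw [← hsum]
    exact Finset.single_le_sum (f := fun q : (IsLocalRing.maximalIdeal R).primesOver (integralClosure R L) =>
      q.1.ramificationIdx R * q.1.inertiaDeg R) (fun _ _ => Nat.zero_le _)
      (Finset.mem_univ ⟨P, hP.isPrime, inferInstance⟩)
  · have hP0 : P ≠ ⊥ := ne_bot_of_le_ne_bot hmap0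
      (Ideal.map_le_iff_le_comap.mpr hunder.ge)
    rw [Ideal.IsDedekindDomain.ramificationIdx_eq_multiplicity (IsLocalRing.maximalIdeal R) P hmap0]
    refine FiniteMultiplicity.le_multiplicity_of_pow_dvd
      (FiniteMultiplicity.of_prime_left (Ideal.prime_of_isPrime hP0 inferInstance) hmap0) ?_
    rw [Ideal.dvd_iff_le, hϖ.maximalIdeal_eq, Ideal.map_span, Set.image_singleton, Ideal.span_singleton_le_iff_mem,
      ← hpowB]
    exact Ideal.pow_mem_pow hϖP r

end Groth.Agent.S19917
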