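import Groth.Statements.S19919
import Groth.Agent.L07.DPowFlat

set_option autoImplicit false
set_option linter.style.haveILetI false
universe u v w
open DPow

namespace Groth.Agent.S19919

/-- Let R be a commutative ring and P = R⟨X_1, …, X_N⟩ the divided power polynomial algebra over R,
presented concretely as an R-algebra P with elements x i n = X_i^[n] (i < N, n ≥ 0) such that
X_i^[0] = 1, X_i^[n] · X_i^[m] = C(n+m, n) X_i^[n+m], and the monomials ∏_i X_i^[e_i] form an
R-basis of P; let P_+ be the ideal generated by the X_i^[n] with n ≥ 1 and γ the divided power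
structure on P_+ with γ_n(X_i^[1]) = X_i^[n]. Then (P, P_+, γ) is the free divided power R-algebra
on N variables: for every commutative R-algebra S, every ideal J of S with a divided power structure
δ and every family s_1, …, s_N of elements of J there is exactly one R-algebra homomorphism φ : P →
S that is a divided power morphism from (P_+, γ) to (J, δ) and satisfies φ(X_i^[1]) = s_i for all i. -/
theorem result (R : Type u) [CommRing R] (N : ℕ)
    (P : Type v) [CommRing P] [Algebra R P] (x : Fin N → ℕ → P)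
    (hx0 : ∀ i, x i 0 = 1)
    (hxmul : ∀ i n m, x i n * x i m = ((n + m).choose n : P) * x i (n + m))
    (b : Module.Basis (Fin N →₀ ℕ) R P) (hb : ∀ e : Fin N →₀ ℕ, b e = e.prod (fun i k => x i k))
    (γ : DividedPowers (Ideal.span {y : P | ∃ (i : Fin N) (n : ℕ), 1 ≤ n ∧ y = x i n}))
    (hγ : ∀ (i : Fin N) (n : ℕ), γ.dpow n (x i 1) = x i n)
    (S : Type w) [CommRing S] [Algebra R S] (J : Ideal S) (δ : DividedPowers J)
    (s : Fin N → S) (hs : ∀ i, s i ∈ J) :
    ∃! φ : P →ₐ[R] S, γ.IsDPMorphism δ φ.toRingHom ∧ ∀ i, φ (x i 1) = s i := by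
  classical
  have hgenmem : ∀ i, x i 1 ∈ Ideal.span {y : P | ∃ (i : Fin N) (n : ℕ), 1 ≤ n ∧ y = x i n} :=
    fun i => Ideal.subset_span ⟨i, 1, le_rfl, rfl⟩
  let F : (Fin N →₀ ℕ) → S := fun e => ∏ i, δ.dpow (e i) (s i)
  let φ₀ : P →ₗ[R] S := b.constr R F
  have hprod : ∀ e : Fin N →₀ ℕ, b e = ∏ i, x i (e i) := fun e => by
    rw [hb, Finsupp.prod_fintype _ _ hx0]
  have hφb : ∀ e, φ₀ (b e) = F e := fun e => b.constr_basis R F e
  have hx : ∀ i n, φ₀ (x i n) = δ.dpow n (s i) := by
    intro i n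
    have he : b (Finsupp.single i n) = x i n := by
      rw [hb, Finsupp.prod_single_index (hx0 i)]
    rw [← he, hφb]
    simp only [F]
    rw [Finset.prod_eq_single i]
    · simp
    · intro j _ hj
      rw [Finsupp.single_eq_of_ne hj, δ.dpow_zero (hs j)]
    · simp
  have hone : φ₀ 1 = 1 := by
    have he : b 0 = (1 : P) := by rw [hb, Finsupp.prod_zero_index]
    rw [← he, hφb]
    simp [F, δ.dpow_zero (hs _)]
  have hmul : ∀ p q, φ₀ (p * q) = φ₀ p * φ₀ q := by
    suffices h : ((LinearMap.mul R P).compr₂ φ₀) = (LinearMap.mul R S).compl₁₂ φ₀ φ₀ from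
      fun p q => LinearMap.congr_fun (LinearMap.congr_fun h p) q
    refine b.ext fun e => b.ext fun e' => ?_
    show φ₀ (b e * b e') = φ₀ (b e) * φ₀ (b e')
    rw [hφb, hφb, hprod, hprod, ← Finset.prod_mul_distrib]
    simp only [hxmul]
    rw [Finset.prod_mul_distrib, ← Nat.cast_prod, ← nsmul_eq_mul, map_nsmul,
      show ∏ i, x i (e i + e' i) = b (e + e') from by rw [hprod]; simp, hφb, nsmul_eq_mul]
    simp only [F, ← Finset.prod_mul_distrib, Nat.cast_prod]
    refine Finset.prod_congr rfl fun i _ => ?_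
    rw [δ.mul_dpow (hs i), Finsupp.add_apply]
  let φ : P →ₐ[R] S := AlgHom.ofLinearMap φ₀ hone hmul
  have hφx : ∀ i n, φ (x i n) = δ.dpow n (s i) := hx
  have hφ1 : ∀ i, φ (x i 1) = s i := fun i => by rw [hφx, δ.dpow_one (hs i)]
  refine ⟨φ, ⟨DividedPowers.IsDPMorphism.on_span γ δ rfl ?_ ?_, hφ1⟩, ?_⟩
  · rintro _ ⟨i, n, hn, rfl⟩
    show φ (x i n) ∈ J
    rw [hφx]
    exact δ.dpow_mem (by omega) (hs i)
  · rintro m _ ⟨i, n, hn, rfl⟩
    show φ (γ.dpow m (x i n)) = δ.dpow m (φ (x i n))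
    rw [← hγ i n, γ.dpow_comp (by omega) (hgenmem i), map_mul, map_natCast, hγ, hγ, hφx, hφx,
      δ.dpow_comp (by omega) (hs i)]
  · rintro ψ ⟨hψ, hψ1⟩
    have hψx : ∀ i n, ψ (x i n) = δ.dpow n (s i) := by
      intro i n
      have := hψ.map_dpow (n := n) (hgenmem i)
      rw [hγ] at this
      calc ψ (x i n) = δ.dpow n (ψ (x i 1)) := this
        _ = _ := by rw [hψ1]
    refine AlgHom.toLinearMap_injective (b.ext fun e => ?_)
    show ψ (b e) = φ (b e)
    simp only [hprod, map_prod, hψx, hφx]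

end Groth.Agent.S19919
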