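import Groth.Statements.S1992
import Mathlib.RingTheory.Polynomial.ScaleRoots
import Mathlib.RingTheory.Localization.Integer
import Mathlib.Algebra.Polynomial.Lifts
import Mathlib.FieldTheory.IsSepClosed
import Mathlib.RingTheory.Localization.AtPrime.Basic

set_option autoImplicit false
universe u
open Polynomial
open EtAlg

namespace Groth.Agent.S1992

/-- Let A be an absolutely integrally closed ring, i.e. every monic polynomial over A is a product of
linear factors X - a. Then for every prime p of A the localization A_p is a strictly henselian local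
ring (henselian with separably closed residue field). -/
theorem result (A : Type u) [CommRing A]
    (hA : ∀ f : A[X], f.Monic → ∃ s : Multiset A, f = (s.map fun a => X - C a).prod)
    (p : Ideal A) [p.IsPrime] :
    EtCoh.IsStrictlyHenselianLocalRing (Localization.AtPrime p) := by
  classical
  let L := Localization.AtPrime p
  let φ := algebraMap A L
  have split : ∀ f : L[X], f.Monic → ∃ (s : A) (r : Multiset A), IsUnit (φ s) ∧ r.card = f.natDegree ∧
      ∀ x : L, φ s ^ f.natDegree * f.eval x = (r.map fun a => φ s * x - φ a).prod := by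
    intro f hf
    obtain ⟨s, hs⟩ := IsLocalization.exist_integer_multiples p.primeCompl (Finset.range f.natDegree) f.coeff
    have hlift : Polynomial.scaleRoots f (φ s.1) ∈ Polynomial.lifts φ := by
      rw [Polynomial.lifts_iff_coeff_lifts]
      intro i
      rcases lt_trichotomy i f.natDegree with hi | hi | hi
      · obtain ⟨a, ha⟩ := hs i (Finset.mem_range.2 hi)
        refine ⟨a * s.1 ^ (f.natDegree - i - 1), ?_⟩
        rw [Polynomial.coeff_scaleRoots, map_mul, map_pow]
        show φ a * _ = _
        rw [show φ a = (s : A) • f.coeff i from ha, Algebra.smul_def,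
          show f.natDegree - i = (f.natDegree - i - 1) + 1 from by omega, pow_succ]
        simp only [Nat.add_sub_cancel]
        ring
      · refine ⟨1, ?_⟩
        rw [hi, Polynomial.coeff_scaleRoots, hf.coeff_natDegree, Nat.sub_self, pow_zero, mul_one, map_one]
      · refine ⟨0, ?_⟩
        rw [Polynomial.coeff_scaleRoots, Polynomial.coeff_eq_zero_of_natDegree_lt hi, zero_mul, map_zero]
    obtain ⟨g, hg, hgd, hgm⟩ := Polynomial.lifts_and_natDegree_eq_and_monic hlift
      ((Polynomial.monic_scaleRoots_iff _).2 hf)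
    obtain ⟨r, hr⟩ := hA g hgm
    refine ⟨s.1, r, IsLocalization.map_units L s, ?_, fun x => ?_⟩
    · haveI : Nontrivial A := Ideal.Quotient.mk_surjective.nontrivial (f := Ideal.Quotient.mk p)
      rw [← Polynomial.natDegree_scaleRoots f (φ s.1), ← hgd, hr,
        Polynomial.natDegree_multiset_prod_X_sub_C_eq_card]
    · rw [← Polynomial.scaleRoots_eval_mul, ← hg, hr, Polynomial.map_multiset_prod,
        Polynomial.eval_multiset_prod, Multiset.map_map, Multiset.map_map]
      simp [φ]
  have root : ∀ f : L[X], f.Monic → ∀ a₀ : L, f.eval a₀ ∈ IsLocalRing.maximalIdeal L →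
      ∃ a, f.IsRoot a ∧ a - a₀ ∈ IsLocalRing.maximalIdeal L := by
    intro f hf a₀ h₀
    obtain ⟨s, r, hu, -, hr⟩ := split f hf
    have hmem : (r.map fun a => φ s * a₀ - φ a).prod ∈ IsLocalRing.maximalIdeal L := by
      rw [← hr]; exact Ideal.mul_mem_left _ _ h₀
    obtain ⟨z, hz, hzm⟩ := (Ideal.IsPrime.multiset_prod_mem_iff_exists_mem (IsLocalRing.maximalIdeal.isMaximal L).isPrime _).1 hmem
    obtain ⟨α, hα, rfl⟩ := Multiset.mem_map.1 hz
    refine ⟨hu.unit⁻¹ * φ α, (hu.pow f.natDegree).mul_right_eq_zero.1 ?_, ?_⟩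
    · rw [hr]; refine Multiset.prod_eq_zero (Multiset.mem_map.2 ?_)
      exact ⟨α, hα, by rw [← mul_assoc, IsUnit.mul_val_inv, one_mul, sub_self]⟩
    · have e : (hu.unit⁻¹ : Lˣ) * φ α - a₀ = -((hu.unit⁻¹ : Lˣ) * (φ s * a₀ - φ α)) := by
        rw [mul_sub, ← mul_assoc, IsUnit.val_inv_mul, one_mul, neg_sub]
      rw [e]
      exact neg_mem (Ideal.mul_mem_left _ _ hzm)
  haveI hh : HenselianLocalRing L := ⟨fun f hf a₀ h₀ _ => root f hf a₀ h₀⟩
  refine ⟨hh, ?_⟩
  haveI : IsAlgClosed (IsLocalRing.ResidueField L) := by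
    refine IsAlgClosed.of_exists_root _ fun q hq hqi => ?_
    obtain ⟨f, hfq, hfd, hfm⟩ := Polynomial.lifts_and_natDegree_eq_and_monic
      (Polynomial.map_surjective _ IsLocalRing.residue_surjective q) hq
    obtain ⟨s, r, hu, hc, hr⟩ := split f hfm
    have hpos : 0 < r.card := by rw [hc, hfd]; exact hqi.natDegree_pos
    obtain ⟨α, hα⟩ := Multiset.card_pos_iff_exists_mem.1 hpos
    refine ⟨IsLocalRing.residue L (hu.unit⁻¹ * φ α), ?_⟩
    rw [← hfq, Polynomial.eval_map, Polynomial.eval₂_hom]
    have h0 : f.eval ((hu.unit⁻¹ : Lˣ) * φ α : L) = 0 := (hu.pow f.natDegree).mul_right_eq_zero.1 (by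
      rw [hr]; refine Multiset.prod_eq_zero (Multiset.mem_map.2 ?_)
      exact ⟨α, hα, by rw [← mul_assoc, IsUnit.mul_val_inv, one_mul, sub_self]⟩)
    rw [h0, map_zero]
  exact IsSepClosed.of_isAlgClosed _

end Groth.Agent.S1992
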