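import Groth.Statements.S1993
import Groth.Agent.L05.Henselization.Local

set_option autoImplicit false
universe u
open EtAlg

namespace Groth.Agent.S1993

/-- Let A be a local ring with maximal ideal m and B a local A-algebra with local structure map. Then B
is a henselization of the pair (A, m) if and only if B is a henselization of the local ring A (both
in the sense of the universal properties). -/
theorem result (A B : Type u) [CommRing A] [IsLocalRing A] [CommRing B]
    [IsLocalRing B] [Algebra A B] [IsLocalHom (algebraMap A B)] :
    Hens2.IsPairHenselization A (IsLocalRing.maximalIdeal A) B ↔ Hensel.IsHenselization A B := by
  refine ⟨Groth.L05.Henselization.isHenselization_of_isPairHenselization A, fun h => ?_⟩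
  haveI := h
  exact Groth.L05.Henselization.isPairHenselization_of_isHenselization

end Groth.Agent.S1993
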