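import Groth.Statements.S19946
import Groth.Agent.L26.Theta.AbVar

set_option autoImplicit false
universe u
open CategoryTheory MonoidalCategory CartesianMonoidalCategory MonObj GrpObj AlgebraicGeometry
open ThetaGrp

namespace Groth.Agent.S19946

open Groth.Agent.ThetaPts Groth.Agent.ThetaPairing Groth.Agent.ThetaAV

/-- Let X be an abelian variety over a field k (a proper, geometrically integral, commutative k-group
scheme) and L an invertible O_X-module whose subscheme K(L) is all of X: the identity of X has the
universal property of K(L), i.e. for every k-scheme Z and every Z-valued point z of X the Mumford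
bundle m^*L ⊗ p_1^*L⁻¹ ⊗ p_2^*L⁻¹ restricted along X ×_k Z → X ×_k X is the inverse image of an
invertible module on Z (equivalently, the class of L lies in Pic⁰_{X/k}). Then the commutator
pairing e_L of the theta group is identically 1: for every k-scheme T, any two points (x₁, φ₁), (x₂,
φ₂) of G(L)(T) (x_i a T-valued point of X, φ_i : L_T ≅ t_{x_i}^*L_T) commute. -/
theorem result (k : Type u) [Field k]
    (A : Over (Spec (CommRingCat.of k))) [GrpObj A] [IsCommMonObj A] [IsProper A.hom] [GeometricallyIntegral A.hom]
    (L : A.left.Modules) (hL : PicF.IsInvertible L)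
    (hK : ThetaGrp.IsKL A L (𝟙 A))
    (T : Over (Spec (CommRingCat.of k))) (β₁ β₂ : ThetaGrp.thetaPts A L T) :
    β₁ * β₂ = β₂ * β₁ := by
  have hl : ∀ {T' : Over (Spec (CommRingCat.of k))} (x : T' ⟶ A), LocLift L x :=
    fun x => (locLift_iff L hL (𝟙 A) hK x).1 ⟨x, Category.comp_id x⟩
  obtain ⟨e, he⟩ := exists_isPair bijective_snd hL (hl (fst A A)) (hl (snd A A))
  obtain ⟨c, rfl⟩ := exists_const e
  obtain ⟨x, hx⟩ := exists_isOverPt β₁
  obtain ⟨y, hy⟩ := exists_isOverPt β₂
  let o : 𝟙_ (Over (Spec (CommRingCat.of k))) ⟶ A ⊗ A := lift 1 1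
  have h1 := he.comp o
  rw [← res_comp, lift_fst, lift_snd, toUnit_unique (o ≫ toUnit _) (𝟙 _), res_id] at h1
  have hc : c = 1 := h1.unique bijective_snd hL (hl _) (hl _) (isPair_one_left bijective_snd hL _)
  subst hc
  rw [map_one] at he
  have h2 := he.comp (lift x y)
  rw [lift_fst, lift_snd, map_one] at h2
  exact h2.commute hx hy

end Groth.Agent.S19946
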