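import Groth.Statements.S19947
import Groth.Agent.L26.Theta.Effective
import Groth.Agent.L26.Theta.Level
import Groth.Agent.L26.Theta.Kernel

set_option autoImplicit false
universe u
open CategoryTheory MonoidalCategory CartesianMonoidalCategory MonObj GrpObj AlgebraicGeometry
open ThetaGrp

namespace Groth.Agent.S19947

open MonoidalCategory CartesianMonoidalCategory MonObj GrpObj

/-- Let f : X → Y be a surjective homomorphism of abelian varieties over a field k (proper,
geometrically integral, commutative k-group schemes), i : N → X its kernel (a homomorphism of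
k-group schemes forming a cartesian square with the unit section of Y), L an invertible O_X-module,
and G a k-group scheme with a point u ∈ G(L)(G) representing the theta group of L (every point of
G(L)(T) is the base change of u along a unique T → G, multiplicatively). Then L descends to Y, i.e.
there is an invertible O_Y-module M with f^*M ≅ L, if and only if the inclusion i lifts to a
homomorphism of group schemes j : N → G over X: for every k-scheme T and every T-valued point n of
N, the base change of u along j(n) lies over the translation by i(n). (The source states a bijection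
between the isomorphism classes of such M and the set of such homomorphisms; this row states that
one set is non-empty exactly when the other is.) -/
theorem result (k : Type u) [Field k]
    (A : Over (Spec (CommRingCat.of k))) [GrpObj A] [IsCommMonObj A] [IsProper A.hom] [GeometricallyIntegral A.hom]
    (B : Over (Spec (CommRingCat.of k))) [GrpObj B] [IsCommMonObj B] [IsProper B.hom] [GeometricallyIntegral B.hom]
    (f : A ⟶ B) [IsMonHom f] (hf : Surjective f.left)
    (N : Over (Spec (CommRingCat.of k))) [GrpObj N] (i : N ⟶ A) [IsMonHom i] (hN : AlgGrp.IsKernel i f)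
    (L : A.left.Modules) (hL : PicF.IsInvertible L)
    (G : Over (Spec (CommRingCat.of k))) [GrpObj G] (u : ThetaGrp.thetaPts A L G)
    (hG : ThetaGrp.IsThetaGrpSch A L G u) :
    (∃ M : B.left.Modules, PicF.IsInvertible M ∧ Nonempty ((Scheme.Modules.pullback f.left).obj M ≅ L)) ↔
      ∃ j : N ⟶ G, IsMonHom j ∧
        ∀ (T : Over (Spec (CommRingCat.of k))) (n : T ⟶ N) (β : ThetaGrp.thetaPts A L T),
          ThetaGrp.IsBaseChange β (n ≫ j) u → ThetaGrp.IsOverPt β (n ≫ i) := by
  have hA := fun T => ThetaAV.bijective_snd (A := A) T
  constructor
  · rintro ⟨M, -, ⟨e⟩⟩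
    have hi : i ≫ f = 1 := by simpa using ThetaAV.comp_kernel_eq_one hN (𝟙 N)
    obtain ⟨j, hj, key⟩ := ThetaLevel.exists_level f hA hL e hi hG
    exact ⟨j, hj, fun T n β hβ => (key T n β hβ).1⟩
  · rintro ⟨j, hj, hover⟩
    obtain ⟨_, _⟩ := ThetaAV.flat_lfp (f := f) hf
    obtain ⟨D⟩ := ThetaEff.exists_datum hA hL i j hover f hN hG
    obtain ⟨M, hM, ⟨e⟩⟩ := InvDescent.exists_descended (D := D) hL
    exact ⟨M, hM, ⟨e.symm⟩⟩

end Groth.Agent.S19947
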