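import Groth.Statements.S19952
import Groth.Agent.L26.Theta.GFinite
import Groth.Agent.L26.Theta.QuotAV
import Groth.Agent.L26.Theta.Effective
import Groth.Agent.L26.InvDescent.Descended
import Groth.Agent.S3030
import Groth.Agent.S1843

set_option autoImplicit false
universe u
open CategoryTheory MonoidalCategory CartesianMonoidalCategory MonObj GrpObj AlgebraicGeometry
open ThetaGrp

namespace Groth.Agent.S19952

open Groth.Agent.ThetaPts Groth.Agent.ThetaPairing

/-- Let X be an abelian variety over a field k (a proper, geometrically integral, commutative k-group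
scheme), L an invertible O_X-module, and G a k-group scheme with a point u ∈ G(L)(G) representing
the theta group of L (every point of G(L)(T) is the base change of u along a unique T → G,
multiplicatively). Let j : H → G be a level subgroup — H a k-group scheme, j a homomorphism of group
schemes and an immersion, such that a point of H whose image lies over the identity translation is
trivial — and let i_H : H → X be the morphism it lies over: for every k-scheme T and T-valued point
h of H the base change of u along j(h) lies over the translation by i_H(h). Then there are an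
abelian variety Y over k (proper, geometrically integral k-group scheme), a surjective homomorphism
f : X → Y whose kernel is i_H (i_H and f form a cartesian square with the unit section of Y), and an
invertible O_Y-module M with f^*M ≅ L. (The source states a bijection between level subgroups and
isomorphism classes of such pairs (f, M); this row is the existence of a pair for a given level
subgroup.) -/
theorem result (k : Type u) [Field k]
    (A : Over (Spec (CommRingCat.of k))) [GrpObj A] [IsCommMonObj A] [IsProper A.hom] [GeometricallyIntegral A.hom]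
    (L : A.left.Modules) (hL : PicF.IsInvertible L)
    (G : Over (Spec (CommRingCat.of k))) [GrpObj G] (u : ThetaGrp.thetaPts A L G)
    (hG : ThetaGrp.IsThetaGrpSch A L G u)
    (H : Over (Spec (CommRingCat.of k))) [GrpObj H] (j : H ⟶ G) (hj : ThetaGrp.IsLevelSubgrp u j)
    (iH : H ⟶ A)
    (hover : ∀ (T : Over (Spec (CommRingCat.of k))) (h : T ⟶ H) (β : ThetaGrp.thetaPts A L T),
      ThetaGrp.IsBaseChange β (h ≫ j) u → ThetaGrp.IsOverPt β (h ≫ iH)) :
    ∃ (B : Over (Spec (CommRingCat.of k))) (_ : GrpObj B) (f : A ⟶ B),
      IsProper B.hom ∧ GeometricallyIntegral B.hom ∧ IsMonHom f ∧ Surjective f.left ∧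
      AlgGrp.IsKernel iH f ∧
      ∃ M : B.left.Modules, PicF.IsInvertible M ∧ Nonempty ((Scheme.Modules.pullback f.left).obj M ≅ L) := by
  have hA := fun T => ThetaAV.bijective_snd (A := A) T
  obtain ⟨hjI, hjM, hlev⟩ := hj
  have hbc := fun (T : Over (Spec (CommRingCat.of k))) (h : T ⟶ H) => (hG.exists_bc T (h ≫ j)).exists
  have hmul : ∀ (T : Over (Spec (CommRingCat.of k))) (h h' : T ⟶ H),
      (h * h') ≫ iH = (h ≫ iH) * (h' ≫ iH) := fun T h h' => by
    obtain ⟨β₁, h₁⟩ := hbc T h
    obtain ⟨β₂, h₂⟩ := hbc T h'
    have h12 := hG.mul T _ _ _ _ h₁ h₂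
    rw [← MonObj.mul_comp] at h12
    have := isOverPt_mul (hover T h β₁ h₁) (hover T h' β₂ h₂)
    first
      | exact isOverPt_unique (hover T _ _ h12) this
      | exact (isOverPt_unique (hover T _ _ h12) this).trans (mul_comm _ _)
  have hone : ∀ T : Over (Spec (CommRingCat.of k)), (1 : T ⟶ H) ≫ iH = 1 := fun T => by
    have := hmul T 1 1
    rwa [_root_.one_mul, eq_comm, mul_eq_left] at this
  haveI : IsMonHom iH := by
    refine ⟨?_, ?_⟩
    · rw [show η[H] = (1 : 𝟙_ _ ⟶ H) by simp [Hom.one_def], hone]
      simp [Hom.one_def]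
    · have := hmul (H ⊗ H) (fst _ _) (snd _ _)
      rw [Hom.mul_def, Hom.mul_def, lift_fst_snd, Category.id_comp] at this
      rw [this, ← lift_map, lift_fst_snd, Category.id_comp]
  haveI : Mono iH := ⟨fun {T} h h' e => by
    obtain ⟨β, hβ⟩ := hbc T (h * h'⁻¹)
    have h1 := hover T _ β hβ
    rw [MonObj.mul_comp, e, GrpObj.inv_comp, mul_inv_cancel] at h1
    exact mul_inv_eq_one.1 (hlev T _ β hβ h1)⟩
  obtain ⟨hnoeth, hlft⟩ := ThetaFinite.noetherianSpace_and_lft hL hG.univ
  haveI : LocallyOfFiniteType H.hom := by rw [← Over.w j]; infer_instance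
  haveI : TopologicalSpace.NoetherianSpace H.left := j.left.isEmbedding.isInducing.noetherianSpace
  haveI : QuasiCompact iH.left := inferInstance
  obtain ⟨Q, _, p, hpM, hpF, hpS, hpP, hpK, hQs, -, hQsm⟩ := Groth.Agent.S3030.result k H A iH (fun T g n =>
    ⟨n, by rw [mul_comm g, _root_.mul_assoc, mul_inv_cancel, _root_.mul_one]⟩)
  haveI := hQsm (Groth.Agent.S1843.smooth_hom A)
  haveI : LocallyOfFiniteType Q.hom := inferInstance
  haveI := hpS
  have hQp : IsProper Q.hom := ThetaQuot.isProper_of_surjective A.hom Q.hom p.left (Over.w p)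
  have hQi : GeometricallyIntegral Q.hom :=
    ThetaQuot.geometricallyIntegral_of_flat_surjective A.hom Q.hom p.left (Over.w p)
  haveI := hpM
  obtain ⟨D⟩ := ThetaEff.exists_datum hA hL iH j hover p hpK hG
  obtain ⟨M, hM, ⟨e⟩⟩ := InvDescent.exists_descended (D := D) hL
  exact ⟨Q, inferInstance, p, hQp, hQi, hpM, hpS, hpK, M, hM, ⟨e.symm⟩⟩

end Groth.Agent.S19952
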