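import Groth.Statements.S19953
import Groth.Agent.L26.Theta.Level
import Groth.Agent.L26.Theta.Kernel

set_option autoImplicit false
universe u
open CategoryTheory MonoidalCategory CartesianMonoidalCategory MonObj GrpObj AlgebraicGeometry
open ThetaGrp

namespace Groth.Agent.S19953

open MonoidalCategory CartesianMonoidalCategory MonObj GrpObj
open Groth.Agent.ThetaPts

/-- Let f : X → Y be a surjective homomorphism of abelian varieties over a field k (proper,
geometrically integral, commutative k-group schemes), i : N → X its kernel (a homomorphism forming a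
cartesian square with the unit section of Y), L an invertible O_X-module, M an invertible O_Y-module
with f^*M ≅ L, and G a k-group scheme with a point u ∈ G(L)(G) representing the theta group of L
(every point of G(L)(T) is the base change of u along a unique T → G, multiplicatively). Then there
is a level subgroup of G(L) whose image in K(L) is Ker(f): a homomorphism of group schemes j : N → G
that is an immersion, such that a point of N whose image lies over the identity translation is
trivial, and that lies over i (for every k-scheme T and T-valued point n of N, the base change of u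
along j(n) lies over the translation by i(n)). -/
theorem result (k : Type u) [Field k]
    (A : Over (Spec (CommRingCat.of k))) [GrpObj A] [IsCommMonObj A] [IsProper A.hom] [GeometricallyIntegral A.hom]
    (B : Over (Spec (CommRingCat.of k))) [GrpObj B] [IsCommMonObj B] [IsProper B.hom] [GeometricallyIntegral B.hom]
    (f : A ⟶ B) [IsMonHom f] (hf : Surjective f.left)
    (N : Over (Spec (CommRingCat.of k))) [GrpObj N] (i : N ⟶ A) [IsMonHom i] (hN : AlgGrp.IsKernel i f)
    (L : A.left.Modules) (hL : PicF.IsInvertible L)
    (M : B.left.Modules) (hM : PicF.IsInvertible M)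
    (hLM : Nonempty ((Scheme.Modules.pullback f.left).obj M ≅ L))
    (G : Over (Spec (CommRingCat.of k))) [GrpObj G] (u : ThetaGrp.thetaPts A L G)
    (hG : ThetaGrp.IsThetaGrpSch A L G u) :
    ∃ j : N ⟶ G, IsMonHom j ∧ ThetaGrp.IsLevelSubgrp u j ∧
      ∀ (T : Over (Spec (CommRingCat.of k))) (n : T ⟶ N) (β : ThetaGrp.thetaPts A L T),
        ThetaGrp.IsBaseChange β (n ≫ j) u → ThetaGrp.IsOverPt β (n ≫ i) := by
  obtain ⟨e⟩ := hLM
  have hi : i ≫ f = 1 := by simpa using ThetaAV.comp_kernel_eq_one hN (𝟙 N)
  have hA := fun T => ThetaAV.bijective_snd (A := A) T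
  obtain ⟨j, hj, key⟩ := ThetaLevel.exists_level f hA hL e hi hG
  refine ⟨j, hj, ⟨?_, hj, ?_⟩, fun T n β hβ => (key T n β hβ).1⟩
  · haveI : IsClosedImmersion (η[B].left ≫ B.hom) := by rw [Over.w η[B]]; exact inferInstanceAs (IsClosedImmersion (𝟙 _))
    haveI : IsClosedImmersion η[B].left := IsClosedImmersion.of_comp η[B].left B.hom
    haveI : IsClosedImmersion i.left := MorphismProperty.of_isPullback (P := @IsClosedImmersion)
      (hN.map (Over.forget _)).flip (show IsClosedImmersion η[B].left from inferInstance)
    obtain ⟨x, hx⟩ := exists_isOverPt u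
    have hjx : j ≫ x = i := by
      obtain ⟨b, hb, -⟩ := hG.exists_bc N j
      have h1 := (key N (𝟙 N) b (by rw [Category.id_comp]; exact hb)).1
      rw [Category.id_comp] at h1
      exact isOverPt_unique (isOverPt_of_isBaseChange hb hx) h1
    haveI : IsImmersion (j.left ≫ x.left) := by rw [← Over.comp_left, hjx]; infer_instance
    exact IsImmersion.of_comp j.left x.left
  · intro T h β hβ h1
    have h2 : h ≫ i = 1 := isOverPt_unique (key T h β hβ).1 h1
    refine hN.hom_ext ?_ (toUnit_unique _ _)
    rw [h2, MonObj.one_comp]

end Groth.Agent.S19953
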