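import Groth.Statements.S19954
import Groth.Agent.L26.Theta.Pull
import Groth.Agent.L26.Theta.AbVar

set_option autoImplicit false
universe u
open CategoryTheory MonoidalCategory CartesianMonoidalCategory MonObj GrpObj AlgebraicGeometry
open ThetaGrp

namespace Groth.Agent.S19954

open MonoidalCategory CartesianMonoidalCategory MonObj GrpObj
open Groth.Agent.ThetaPts Groth.Agent.ThetaPairing Groth.Agent.ThetaPull

/-- Let f : X → Y be a homomorphism of abelian varieties over a field k (proper, geometrically integral,
commutative k-group schemes), L an invertible O_Y-module, and i_K : K → Y a closed immersion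
exhibiting K as K(L), the maximal closed subscheme of Y over which the Mumford bundle m^*L ⊗
p_1^*L⁻¹ ⊗ p_2^*L⁻¹, restricted to Y ×_k K, is the inverse image of an invertible module on K, with
its universal property. The identity e_{f^*L} = e_L ∘ (f, f) on f⁻¹(K(L)) is stated here through the
vanishing of the two commutator pairings: for a k-scheme H and a k-morphism i_H : H → X such that f
∘ i_H factors through i_K, the pairing e_L is trivial on the image of H in Y — for every k-scheme T,
any two points of G(L)(T) lying over the translations by f(i_H(h₁)), f(i_H(h₂)) for T-valued points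
h₁, h₂ of H commute — if and only if e_{f^*L} is trivial on H: any two points of G(f^*L)(T) lying
over the translations by i_H(h₁), i_H(h₂) commute. -/
theorem result (k : Type u) [Field k]
    (A : Over (Spec (CommRingCat.of k))) [GrpObj A] [IsCommMonObj A] [IsProper A.hom] [GeometricallyIntegral A.hom]
    (B : Over (Spec (CommRingCat.of k))) [GrpObj B] [IsCommMonObj B] [IsProper B.hom] [GeometricallyIntegral B.hom]
    (f : A ⟶ B) [IsMonHom f]
    (L : B.left.Modules) (hL : PicF.IsInvertible L)
    (K : Over (Spec (CommRingCat.of k))) (iK : K ⟶ B) (hK : ThetaGrp.IsKL B L iK)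
    (H : Over (Spec (CommRingCat.of k))) (iH : H ⟶ A) (hH : ∃ y : H ⟶ K, y ≫ iK = iH ≫ f) :
    ThetaGrp.IsIsotropic L (iH ≫ f) ↔
      ThetaGrp.IsIsotropic ((Scheme.Modules.pullback f.left).obj L) iH := by
  have hL' := Groth.L18.Ample.isInvertible_pullback f.left hL
  let e : (Scheme.Modules.pullback f.left).obj L ≅ (Scheme.Modules.pullback f.left).obj L := Iso.refl _
  have hA := fun T => ThetaAV.bijective_snd (A := A) T
  have hB := fun T => ThetaAV.bijective_snd (A := B) T
  have hloc : ∀ (T : Over (Spec (CommRingCat.of k))) (x : T ⟶ H), LocLift L ((x ≫ iH) ≫ f) := fun T x => by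
    obtain ⟨y, hy⟩ := hH
    exact (ThetaAV.locLift_iff L hL iK hK _).1 ⟨x ≫ y, by rw [Category.assoc, hy, Category.assoc]⟩
  constructor
  · intro h T x y α₁ α₂ h₁ h₂
    obtain ⟨a, hM, hLp⟩ := exists_isPair_pull f e hA hB hL' hL (hloc T x) (hloc T y)
    have ha : a = 1 := hM.eq_one hB hL (hloc T x) (hloc T y) fun T' g β₁ β₂ o₁ o₂ =>
      h T' (g ≫ x) (g ≫ y) β₁ β₂ (by simpa only [Category.assoc] using o₁) (by simpa only [Category.assoc] using o₂)
    subst ha
    exact hLp.commute h₁ h₂
  · intro h T x y β₁ β₂ h₁ h₂
    rw [← Category.assoc] at h₁ h₂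
    obtain ⟨a, hM, hLp⟩ := exists_isPair_pull f e hA hB hL' hL (hloc T x) (hloc T y)
    have ha : a = 1 := hLp.eq_one hA hL' (locLift_of_comp f e (hloc T x)) (locLift_of_comp f e (hloc T y))
      fun T' g α₁ α₂ o₁ o₂ =>
        h T' (g ≫ x) (g ≫ y) α₁ α₂ (by simpa only [Category.assoc] using o₁) (by simpa only [Category.assoc] using o₂)
    subst ha
    exact hM.commute h₁ h₂

end Groth.Agent.S19954
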