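import Groth.Statements.S19956
import Groth.Agent.L26.Theta.Kernel
import Groth.Agent.L26.Theta.Trans

set_option autoImplicit false
universe u
open CategoryTheory MonoidalCategory CartesianMonoidalCategory MonObj GrpObj AlgebraicGeometry
open ThetaGrp

namespace Groth.Agent.S19956

open MonoidalCategory CartesianMonoidalCategory MonObj GrpObj
open Groth.Agent.ThetaPts Groth.Agent.ThetaPairing Groth.Agent.ThetaPull

/-- Let f : X → Y be a surjective homomorphism of abelian varieties over a field k (proper,
geometrically integral, commutative k-group schemes), i : N → X its kernel (a homomorphism forming a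
cartesian square with the unit section of Y), M an invertible O_Y-module and L = f^*M. Let G be a
k-group scheme with a point u ∈ G(L)(G) representing the theta group of L (every point of G(L)(T) is
the base change of u along a unique T → G, multiplicatively), and j : N → G a level subgroup lying
over i: a homomorphism of group schemes and an immersion such that a point of N whose image lies
over the identity translation is trivial, and such that for every T-valued point n of N the base
change of u along j(n) lies over the translation by i(n). Let i_M : K_M → Y be a closed immersion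
exhibiting K_M as K(M) (the maximal closed subscheme of Y over which the Mumford bundle of M,
restricted to Y ×_k K_M, is the inverse image of an invertible module on K_M, with its universal
property). For a k-scheme T, a T-valued point g of G and the T-valued point x of X under it (the
base change of u along g lies over the translation by x): g lies in the centralizer of j(N) — for
every T' → T and every T'-valued point n of N, the restriction of g commutes with j(n) in the group
G(T') — if and only if f(x) factors through i_M. (The source states this for the level subgroup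
attached to the descent M; by the source's description of f⁻¹(K(M)) as Ker(f)^⊥ both sides depend
only on Ker(f), so it is stated for any level structure over i. The identification of G(M) with the
centralizer modulo j(N) is not part of this statement.) -/
theorem result (k : Type u) [Field k]
    (A : Over (Spec (CommRingCat.of k))) [GrpObj A] [IsCommMonObj A] [IsProper A.hom] [GeometricallyIntegral A.hom]
    (B : Over (Spec (CommRingCat.of k))) [GrpObj B] [IsCommMonObj B] [IsProper B.hom] [GeometricallyIntegral B.hom]
    (f : A ⟶ B) [IsMonHom f] (hf : Surjective f.left)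
    (N : Over (Spec (CommRingCat.of k))) [GrpObj N] (i : N ⟶ A) [IsMonHom i] (hN : AlgGrp.IsKernel i f)
    (M : B.left.Modules) (hM : PicF.IsInvertible M)
    (G : Over (Spec (CommRingCat.of k))) [GrpObj G]
    (u : ThetaGrp.thetaPts A ((Scheme.Modules.pullback f.left).obj M) G)
    (hG : ThetaGrp.IsThetaGrpSch A ((Scheme.Modules.pullback f.left).obj M) G u)
    (j : N ⟶ G) [IsMonHom j] (hj : ThetaGrp.IsLevelSubgrp u j)
    (hover : ∀ (T : Over (Spec (CommRingCat.of k))) (n : T ⟶ N)
      (β : ThetaGrp.thetaPts A ((Scheme.Modules.pullback f.left).obj M) T),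
      ThetaGrp.IsBaseChange β (n ≫ j) u → ThetaGrp.IsOverPt β (n ≫ i))
    (KM : Over (Spec (CommRingCat.of k))) (iM : KM ⟶ B) (hKM : ThetaGrp.IsKL B M iM)
    (T : Over (Spec (CommRingCat.of k))) (g : T ⟶ G) (x : T ⟶ A)
    (β : ThetaGrp.thetaPts A ((Scheme.Modules.pullback f.left).obj M) T)
    (hβ : ThetaGrp.IsBaseChange β g u) (hx : ThetaGrp.IsOverPt β x) :
    (∀ (T' : Over (Spec (CommRingCat.of k))) (t : T' ⟶ T) (n : T' ⟶ N),
        (t ≫ g) * (n ≫ j) = (n ≫ j) * (t ≫ g)) ↔
      ∃ y : T ⟶ KM, y ≫ iM = x ≫ f := by
  let L := (Scheme.Modules.pullback f.left).obj M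
  have hL : PicF.IsInvertible L := Groth.L18.Ample.isInvertible_pullback f.left hM
  have hA := fun T => ThetaAV.bijective_snd (A := A) T
  let e : (Scheme.Modules.pullback f.left).obj M ≅ L := Iso.refl _
  have hB := fun T => ThetaAV.bijective_snd (A := B) T
  rw [ThetaAV.locLift_iff M hM iM hKM]
  constructor
  · intro hc
    obtain ⟨_, _⟩ := ThetaAV.flat_lfp (f := f) hf
    suffices hp : ThetaGrp.IsPerpPt L i x by
      obtain ⟨β', hβ'⟩ := exists_descend f hf hM e hN hx hp
      exact LocLift.of_lift hβ'
    intro T' t n α₁ α₂ h₁ h₂
    obtain ⟨b₁, hb₁, o₁⟩ := exists_restrict hx t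
    obtain ⟨b₂, hb₂, -⟩ := hG.exists_bc T' (n ≫ j)
    have hb₁' := isBaseChange_trans hA hL hb₁ hβ
    have e₁ := hG.mul T' _ _ _ _ hb₁' hb₂
    rw [hc T' t n] at e₁
    have hcomm : b₁ * b₂ = b₂ * b₁ :=
      (hG.exists_bc T' _).unique e₁ (hG.mul T' _ _ _ _ hb₂ hb₁')
    exact commute_congr hA hL o₁ (hover T' n b₂ hb₂) h₁ h₂ hcomm
  · intro hloc T' t n
    have hperp := isPerpPt_of_locLift f e hA hB hL hM (fun _ y => ThetaAV.comp_kernel_eq_one hN y) hloc
    obtain ⟨b₁, hb₁, o₁⟩ := exists_restrict hx t
    obtain ⟨b₂, hb₂, -⟩ := hG.exists_bc T' (n ≫ j)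
    have hb₁' := isBaseChange_trans hA hL hb₁ hβ
    have hcomm : b₁ * b₂ = b₂ * b₁ := hperp T' t n b₁ b₂ o₁ (hover T' n b₂ hb₂)
    have e₂ := hG.mul T' _ _ _ _ hb₂ hb₁'
    rw [← hcomm] at e₂
    exact (hG.univ T' _).unique (hG.mul T' _ _ _ _ hb₁' hb₂) e₂

end Groth.Agent.S19956
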