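import Groth.Statements.S19957
import Groth.Agent.L24.Split.Sets

set_option autoImplicit false
universe u
open CategoryTheory CategoryTheory.Limits AlgebraicGeometry
open Grpd

namespace Groth.Agent.S19957

/-- Let (U, R, s, t, c) be a groupoid scheme over S with U affine and s, t separated, flat and locally
of finite presentation, and let u ∈ U be a point such that the set of points of the stabilizer G → U
(the base change of j = (t, s) : R → U ×_S U along the diagonal of U) lying over u is finite and s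
is quasi-finite at the image in R of each of these points. Then there exist an etale morphism U' → U
with U' affine and a point u' of U' lying over u with trivial residue field extension κ(u) = κ(u'),
such that the restriction R' of R to U' (the groupoid scheme on U' whose arrows form the base change
of j along U' ×_S U' → U ×_S U) is split over u': there is an open subscheme P ⊂ R' which is a
subgroupoid (the identity of U', the inverse of P and the composition of composable pairs of P land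
in P), with s'|_P and t'|_P finite, and containing the image in R' of every point of the stabilizer
G' → U' of R' lying over u'. -/
theorem result (S : Scheme.{u}) (G : Grpd.GroupoidScheme S) [IsAffine G.U]
    [IsSeparated G.s] [IsSeparated G.t] [Flat G.s] [Flat G.t]
    [LocallyOfFinitePresentation G.s] [LocallyOfFinitePresentation G.t]
    (u : ↥G.U) (hfin : Set.Finite {g : ↥G.stabilizer | G.stabilizerToU g = u})
    (hqf : ∀ g : ↥G.stabilizer, G.stabilizerToU g = u →
      Dual3.QuasiFiniteAt G.s ((pullback.fst G.j G.diag : G.stabilizer ⟶ G.R) g)) :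
    ∃ (G' : Grpd.GroupoidScheme S) (φ : Grpd.GroupoidScheme.Hom G' G) (u' : ↥G'.U),
      IsAffine G'.U ∧ Etale φ.fU ∧ φ.fU u' = u ∧ IsIso (φ.fU.residueFieldMap u') ∧
      IsPullback φ.fR G'.j G.j
        (pullback.map G'.pU G'.pU G.pU G.pU φ.fU φ.fU (𝟙 S)
          ((Category.comp_id _).trans φ.fU_over.symm) ((Category.comp_id _).trans φ.fU_over.symm)) ∧
      ∃ (P : Scheme.{u}) (ιP : P ⟶ G'.R), IsOpenImmersion ιP ∧
        (∃ eP : G'.U ⟶ P, eP ≫ ιP = G'.e) ∧ (∃ iP : P ⟶ P, iP ≫ ιP = ιP ≫ G'.i) ∧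
        (∃ cP : pullback (ιP ≫ G'.s) (ιP ≫ G'.t) ⟶ P,
          cP ≫ ιP = pullback.map (ιP ≫ G'.s) (ιP ≫ G'.t) G'.s G'.t ιP ιP (𝟙 G'.U)
            (Category.comp_id _) (Category.comp_id _) ≫ G'.c) ∧
        IsFinite (ιP ≫ G'.s) ∧ IsFinite (ιP ≫ G'.t) ∧
        ∀ g' : ↥G'.stabilizer, G'.stabilizerToU g' = u' →
          ∃ p : ↥P, ιP p = (pullback.fst G'.j G'.diag : G'.stabilizer ⟶ G'.R) g' := by
  have hsF : ∀ x ∈ L02.Grpd.stabι G '' {γ | G.stabilizerToU γ = u}, G.s x = u := by
    rintro _ ⟨γ, hγ, rfl⟩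
    rw [← Scheme.Hom.comp_apply, L02.Grpd.stabι_s]; exact hγ
  obtain ⟨G', φ, u', h1, h2, h3, h4, h5, P, ιP, k1, k2, k3, k4, k5, k6, k7⟩ :=
    Groth.L24.Split.exists_split (G := G) u (F := L02.Grpd.stabι G '' {γ | G.stabilizerToU γ = u}) (hfin.image _)
      hsF
      (fun x ⟨γ, hγ, e⟩ => by rw [← e, ← Scheme.Hom.comp_apply, L02.Grpd.stabι_t]; exact hγ)
      (fun x ⟨γ, hγ, e⟩ => by
        rw [← e]; exact Scheme.Hom.quasiFiniteAt_iff_isOpen_singleton_asFiber.2 (hqf γ hγ))
      ⟨G.eStab u, by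
        show G.stabilizerToU (G.eStab u) = u
        rw [← Scheme.Hom.comp_apply, show G.eStab ≫ G.stabilizerToU = 𝟙 _ from pullback.lift_snd _ _ _]; rfl,
        by rw [← Scheme.Hom.comp_apply]; exact congrArg (fun m : G.U ⟶ G.R => m u) (pullback.lift_fst _ _ _)⟩
      (fun g z h hz => by
        have hzu : (z ≫ G.s) default = u := by rw [Scheme.Hom.comp_apply]; exact hsF _ hz
        have hzst : z ≫ G.s = z ≫ G.t := (Groth.L24.Split.mem_stab_image u z hzu).1 hz
        have hgu : (g ≫ G.s) default = u := by rw [h, ← hzst]; exact hzu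
        have hmu : (L02.Grpd.mul G g z h ≫ G.s) default = u := by rw [L02.Grpd.mul_s]; exact hzu
        rw [Groth.L24.Split.mem_stab_image u g hgu, Groth.L24.Split.mem_stab_image u _ hmu, L02.Grpd.mul_s,
          L02.Grpd.mul_t, h, hzst])
  refine ⟨G', φ, u', h1, h2, h3, h4, h5, P, ιP, k1, k2, k3, k4, k5, k6, fun g' hg => k7 _ ?_ ?_ ?_⟩
  · show G'.s (L02.Grpd.stabι G' g') = u'
    rw [← Scheme.Hom.comp_apply, L02.Grpd.stabι_s]; exact hg
  · show G'.t (L02.Grpd.stabι G' g') = u'
    rw [← Scheme.Hom.comp_apply, L02.Grpd.stabι_t]; exact hg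
  · show φ.fR (L02.Grpd.stabι G' g') ∈ _
    have e : (L02.Grpd.stabι G' ≫ φ.fR) ≫ G.t = (L02.Grpd.stabι G' ≫ φ.fR) ≫ G.s := by
      rw [Category.assoc, Category.assoc, φ.comm_t, φ.comm_s, ← Category.assoc, ← Category.assoc,
        L02.Grpd.stabι_t, L02.Grpd.stabι_s]
    obtain ⟨k, hk⟩ : ∃ k, k ≫ L02.Grpd.stabι G = L02.Grpd.stabι G' ≫ φ.fR :=
      ⟨L02.Grpd.stabLift G _ e, pullback.lift_fst _ _ _⟩
    refine ⟨k g', ?_, by rw [← Scheme.Hom.comp_apply, hk, Scheme.Hom.comp_apply]⟩
    show G.stabilizerToU (k g') = u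
    rw [← L02.Grpd.stabι_s G, ← Scheme.Hom.comp_apply, reassoc_of% hk, φ.comm_s, ← Category.assoc,
      L02.Grpd.stabι_s, Scheme.Hom.comp_apply, hg, h3]

end Groth.Agent.S19957
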