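import Groth.Statements.S1996
import Groth.Agent.L25.Translate
import Mathlib.RingTheory.Etale.Weakly
import Mathlib.RingTheory.RingHom.Flat

set_option autoImplicit false
universe u
open EtAlg

namespace Groth.Agent.S1996

/-- Let A -> B -> C be ring maps with B -> C faithfully flat. Weak etaleness of A -> C then implies weak
etaleness of A -> B. -/
theorem result (A B C : Type u) [CommRing A] [CommRing B] [CommRing C] [Algebra A B]
    [Algebra B C] [Algebra A C] [IsScalarTower A B C] [Module.FaithfullyFlat B C] [Algebra.WeaklyEtale A C] :
    Algebra.WeaklyEtale A B := by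
  refine ⟨Groth.L25.Translate.flat_of_comp_faithfullyFlat (R := A) (S := B) (T := C), ?_⟩
  let μB := (Algebra.TensorProduct.lmul' A (S := B)).toRingHom
  let φ : B →ₐ[A] C := IsScalarTower.toAlgHom A B C
  have hφ : φ.Flat := RingHom.flat_algebraMap_iff.mpr (inferInstanceAs (Module.Flat B C))
  have hμ : ((algebraMap B C).comp μB).Flat := by
    have e : (algebraMap B C).comp μB = (Algebra.TensorProduct.lmul' A (S := C)).toRingHom.comp
        (Algebra.TensorProduct.map φ φ).toRingHom := RingHom.ext fun z => by
      induction z using TensorProduct.induction_on with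
      | zero => simp
      | add z w hz hw => rw [map_add, map_add, hz, hw]
      | tmul x y => simp [μB, φ]
    rw [e]
    exact RingHom.Flat.comp (RingHom.Flat.tensorProductMap hφ hφ) (Algebra.WeaklyEtale.flat_lmul' A C)
  letI : Algebra (TensorProduct A B B) B := μB.toAlgebra
  letI : Algebra (TensorProduct A B B) C := ((algebraMap B C).comp μB).toAlgebra
  haveI : Module.Flat (TensorProduct A B B) C := hμ
  haveI : IsScalarTower (TensorProduct A B B) B C := IsScalarTower.of_algebraMap_eq' rfl
  exact Groth.L25.Translate.flat_of_comp_faithfullyFlat (R := TensorProduct A B B) (S := B) (T := C)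

end Groth.Agent.S1996
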