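import Groth.Statements.S19966
import Groth.Agent.L24.CoarseQuot.OrbitAffine
import Groth.Agent.L24.CoarseQuot.Sep
import Groth.Agent.L24.CoarseQuot.Lft

set_option autoImplicit false
universe u
open AlgSt

namespace Groth.Agent.S19966

open CategoryTheory AlgebraicGeometry in
/-- Let S be a scheme and 𝒳 an algebraic stack over S for the fppf topology whose diagonal over S is
quasi-compact and separated, and suppose there is a finite locally free surjective morphism (Sch/U)
→ 𝒳 (representable, finite, flat, locally of finite presentation and surjective) from a scheme U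
which is quasi-projective Zariski-locally over S. Then there are a scheme Y over S and a morphism π
from 𝒳 to (the stack of) Y which is a coarse moduli space: universal for morphisms to algebraic
spaces over S and bijective on isomorphism classes of objects over every algebraically closed field.
Moreover π is separated and a universal homeomorphism; for every algebraic space M' and every flat
M' → Y the base change of π to M' is again a coarse moduli space; if 𝒳 is separated over S then Y →
S is separated; and if S is locally Noetherian and 𝒳 is locally of finite type over S then Y → S is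
locally of finite type. (The source allows any finite locally free scheme cover in which every orbit
lies in an affine open of U, of which a cover quasi-projective Zariski-locally over S is the stated
instance, takes the diagonal condition absolutely, and also records that π is proper when 𝒳 is
locally of finite type; that clause is not restated.) -/
theorem result
    (S : Scheme.{u}) (𝒳 : AlgSt.Cat S) (h𝒳 : AlgSt.IsAlgStack Scheme.fppfPrecoverage 𝒳)
    (hΔ : AlgSt.RepByAlgSpWith (AlgSp.IsSeparatedMor ⊓ AlgSp.IsQuasiCompactMor) (FibCat.diag (FibCat.toSelf 𝒳)))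
    (U : Over S) (hU : RedSub.IsLocallyQuasiProjective U) (c : FibCat.overCat U ⥤ᵇ 𝒳)
    (hc : AlgSt.RepByAlgSpWith
      (AlgSp.IsFiniteMor ⊓ AlgSp.LocP (@Flat ⊓ @LocallyOfFinitePresentation) ⊓ AlgSp.IsSurjectiveMor) c) :
    ∃ (Y : Over S) (π : 𝒳 ⥤ᵇ AlgSt.ofSch Y),
      AlgSt.IsCoarseModuli π ∧ AlgSt.IsSeparatedMor π ∧ AlgSt.IsUnivHomeo Scheme.fppfPrecoverage π ∧
      (∀ (M' : AlgSp.Sp S), AlgSp.IsAlgSpace M' → ∀ g : M' ⟶ (AlgSp.yon S).obj Y, AlgSp.LocP @Flat g →
        AlgSt.IsCoarseModuli (FibCat.fpFst (AlgSt.ofSpMap g) π)) ∧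
      (AlgSt.IsSeparatedOver 𝒳 → IsSeparated Y.hom) ∧
      (IsLocallyNoetherian S → AlgSt.LocQ (AlgSp.LocP @LocallyOfFiniteType) (FibCat.toSelf 𝒳) →
        LocallyOfFiniteType Y.hom) := by
  have hg := h𝒳.isStack.1
  have hfin : AlgSt.RepByAlgSpWith AlgSp.IsFiniteMor c := Groth.L24.St.repWith_mono (fun _ _ _ _ h => h.1.1) hc
  have hfl : AlgSt.RepByAlgSpWith (AlgSp.LocP @Flat) c :=
    Groth.L24.St.repWith_mono (fun _ _ _ _ h => Groth.L23.locP_mono (fun φ hφ => hφ.1) h.1.2) hc
  have hlfp : AlgSt.RepByAlgSpWith (AlgSp.LocP @LocallyOfFinitePresentation) c :=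
    Groth.L24.St.repWith_mono (fun _ _ _ _ h => Groth.L23.locP_mono (fun φ hφ => hφ.2) h.1.2) hc
  have hcs : AlgSt.RepByAlgSpWith AlgSp.IsSurjectiveMor c := Groth.L24.St.repWith_mono (fun _ _ _ _ h => h.2) hc
  obtain ⟨P, h₁, h₂, h₃⟩ := Groth.L24.ChartGrpd.exists_rep hg h𝒳.isStack hfin hfl hlfp
  have hcov := fun A => Groth.L24.ChartDesc.chartable_mem c hg hfl hlfp hcs A
  have hchart := Groth.L24.ChartDesc.exists_chart c hg hfl hlfp hcs
  have : IsFinite P.grpd.s := h₁
  obtain ⟨D⟩ := Groth.L24.CoarseQuot.exists_data P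
    (fun a => Groth.L24.CoarseQuot.exists_affine_orbit P.grpd hU a)
  have hb := D.geomPtBij hcov hchart
  have hu := D.isUnifCatModuli hcov
  refine ⟨D.Y, D.proj hcov, ⟨hu.1, hb⟩, D.separated hcov h𝒳 hfin hfl hlfp hcs, D.univHomeo hcov h𝒳 hcs hchart,
    fun M' hM' g hg' => ⟨hu.2 M' hM' g hg', Groth.L24.CoarseQuot.geomPtBij_fpFst hg hb g⟩,
    D.isSeparated_space hcov, fun hN hl => ?_⟩
  have := Groth.L24.CoarseQuot.lft_chart hg hfin hl
  exact D.lft_space

end Groth.Agent.S19966
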