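import Groth.Statements.S19968
import Groth.Agent.L18.AmpleAvoid
-- import your own Groth.Agent.* helpers here

set_option autoImplicit false
universe u
open CategoryTheory AlgebraicGeometry Opposite
open LinSer

namespace Groth.Agent.S19968

/-- Rational points impose at most one condition each on a complete linear system. Let k be a field, X a
scheme over k, L an invertible O_X-module, and p_1, …, p_n morphisms Spec k → X over k (k-rational
points). Suppose there are n + 1 global sections of L, given as morphisms t_0, …, t_n : O_X → L,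
whose values in Γ(X, L) are linearly independent over k. Then there is a nonzero morphism s : O_X →
L such that no p_i lands in the open X_s where s generates L; that is, s vanishes at every p_i and
the p_i lie on a common member of the complete linear system of L. (The source has X an irreducible
projective variety over the complex numbers, L base-point-free and the points closed, and phrases
this as surjectivity of the incidence correspondence onto X^n for n at most the dimension of the
linear system; only rationality of the points and the dimension count are used, and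
base-point-freeness plays no part in this item.) -/
theorem result
    (k : Type u) [Field k] (X : Scheme.{u}) [X.Over (Spec (CommRingCat.of k))]
    (L : X.Modules) (hL : PicF.IsInvertible L)
    (n : ℕ) (p : Fin n → (Spec (CommRingCat.of k) ⟶ X))
    (hp : ∀ i, p i ≫ (X ↘ Spec (CommRingCat.of k)) = 𝟙 _)
    (t : Fin (n + 1) → (Coh.structureModule X ⟶ L))
    (ht : LinSer.LinIndep k X L (fun j => (L.unitHomEquiv (t j)).val (op ⊤))) :
    ∃ s : Coh.structureModule X ⟶ L, s ≠ 0 ∧
      ∀ i, (p i) (IsLocalRing.closedPoint k) ∉ CohB1.genLocus L s := by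
  classical
  choose W e hW he using fun i => Groth.L18.Frame.exists_frame hL ((p i) (IsLocalRing.closedPoint k))
  have htop : ∀ i, (⊤ : (Spec (CommRingCat.of k)).Opens) ≤ (p i) ⁻¹ᵁ W i := fun i z _ => by
    obtain rfl : z = IsLocalRing.closedPoint k := Subsingleton.elim _ _
    exact hW i
  let val : ∀ i, Γ(X, W i) →+* k := fun i => ((Scheme.ΓSpecIso (CommRingCat.of k)).hom.hom).comp ((p i).appLE (W i) ⊤ (htop i)).hom
  have hval : ∀ i (a : k), val i (X.presheaf.map (homOfLE le_top).op (Coh.toGlobal (X ↘ Spec (CommRingCat.of k)) a)) = a := by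
    intro i a
    have h : ((p i) ≫ (X ↘ Spec (CommRingCat.of k))).appTop = 𝟙 _ := by rw [hp i]; rfl
    have h2 : X.presheaf.map (homOfLE le_top).op ≫ (p i).appLE (W i) ⊤ (htop i) = (p i).appTop := by
      rw [Scheme.Hom.map_appLE]
      exact Scheme.Hom.appLE_eq_app _
    show (Scheme.ΓSpecIso (CommRingCat.of k)).hom ((X.presheaf.map (homOfLE le_top).op ≫ (p i).appLE (W i) ⊤ (htop i))
      ((X ↘ Spec (CommRingCat.of k)).appTop ((Scheme.ΓSpecIso (CommRingCat.of k)).inv a))) = a
    rw [h2]
    have h3 := ConcreteCategory.congr_hom h ((Scheme.ΓSpecIso (CommRingCat.of k)).inv a)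
    rw [Scheme.Hom.comp_appTop] at h3
    exact (congrArg _ h3).trans (Iso.inv_hom_id_apply (Scheme.ΓSpecIso (CommRingCat.of k)) a)
  choose a ha using fun i j => (he i).exists_coeff le_rfl (Groth.L18.Frame.rs L le_top (Groth.L18.GenLoc.secOf (t j)))
  let Φ : (Fin (n + 1) → k) →ₗ[k] (Fin n → k) :=
    LinearMap.pi fun i => ∑ j, (val i (a i j)) • LinearMap.proj j
  have hker : LinearMap.ker Φ ≠ ⊥ := LinearMap.ker_ne_bot_of_finrank_lt (by simp)
  obtain ⟨c, hc, hc0⟩ := Submodule.exists_mem_ne_zero_of_ne_bot hker
  let σ : Γ(L, ⊤) := ∑ j, (show Γ(X, ⊤) from Coh.toGlobal (X ↘ Spec (CommRingCat.of k)) (c j)) • Groth.L18.GenLoc.secOf (t j)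
  refine ⟨Groth.L16.homOfSection L σ, fun h0 => hc0 (ht c ?_), fun i hmem => ?_⟩
  · have h : Groth.L18.GenLoc.secOf (Groth.L16.homOfSection L σ) = 0 := by rw [h0]; rfl
    rw [Groth.L18.GenLoc.secOf_homOfSection] at h
    exact h
  · let α : Γ(X, W i) := ∑ j, X.presheaf.map (homOfLE le_top).op (Coh.toGlobal (X ↘ Spec (CommRingCat.of k)) (c j)) * a i j
    have hα : α • e i = Groth.L18.Frame.rs L le_top (Groth.L18.GenLoc.secOf (Groth.L16.homOfSection L σ)) := by
      rw [Groth.L18.GenLoc.secOf_homOfSection, Finset.sum_smul]
      refine Eq.trans ?_ (map_sum (L.presheaf.map (homOfLE (le_top : W i ≤ ⊤)).op).hom _ _).symm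
      refine Finset.sum_congr rfl fun j _ => ?_
      have := ha i j
      simp only [Groth.L18.Frame.rs_self] at this
      rw [mul_smul, this]
      exact (Groth.L18.Frame.rs_smul L le_top _ _).symm
    have hu := (Groth.L18.Ample.mem_genLocus_iff _ (he i) hα (hW i)).1 hmem
    have hα0 : val i α = 0 := by
      rw [map_sum]
      have := congrFun (LinearMap.mem_ker.1 hc) i
      simp only [Φ, LinearMap.pi_apply, LinearMap.sum_apply, LinearMap.smul_apply, LinearMap.proj_apply, Pi.zero_apply] at this
      rw [← this]
      refine Finset.sum_congr rfl fun j _ => ?_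
      rw [map_mul, hval, smul_eq_mul, mul_comm]
    have hu' : IsUnit (((p i).appLE (W i) ⊤ (htop i)) α) := by
      refine RingedSpace.isUnit_of_isUnit_germ _ (U := (⊤ : (Spec (CommRingCat.of k)).Opens)) _ fun z hz => ?_
      obtain rfl : z = IsLocalRing.closedPoint k := Subsingleton.elim _ _
      have h4 := hu.map ((p i).stalkMap (IsLocalRing.closedPoint k)).hom
      have h5 : IsUnit ((Spec (CommRingCat.of k)).presheaf.germ ((p i) ⁻¹ᵁ W i) (IsLocalRing.closedPoint k) (hW i)
          ((p i).app (W i) α)) := by
        rw [← Scheme.Hom.germ_stalkMap_apply (p i) (W i) (IsLocalRing.closedPoint k) (hW i) α]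
        exact h4
      rw [Scheme.Hom.appLE, CommRingCat.comp_apply]
      convert h5 using 1
      exact TopCat.Presheaf.germ_res_apply (Spec (CommRingCat.of k)).presheaf (homOfLE (htop i)) _ hz _
    exact (hu'.map (Scheme.ΓSpecIso (CommRingCat.of k)).hom.hom).ne_zero hα0

end Groth.Agent.S19968
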