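import Groth.Statements.S19969
import Groth.Agent.L08.FactorLocus
import Groth.Agent.L25.Actions

set_option autoImplicit false
set_option backward.isDefEq.respectTransparency.types false
set_option backward.isDefEq.respectTransparency false
set_option linter.style.haveILetI false
set_option maxHeartbeats 1600000
universe u
open CategoryTheory MonoidalCategory CartesianMonoidalCategory AlgebraicGeometry
open AlgGrp

namespace Groth.Agent.S19969

/-- The point `g` is fixed by the family `a`. -/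
def Agree {k : Type u} [Field k] {X Y : Over (Spec (CommRingCat.of k))} (a : Y ⊗ X ⟶ X) (T : Scheme.{u})
    (g : T ⟶ X.left) : Prop :=
  ∀ (T' : Over (Spec (CommRingCat.of k))) (c : T'.left ⟶ T) (x : T' ⟶ X), x.left = c ≫ g →
    (Y ◁ x) ≫ a = snd Y T' ≫ x

theorem agree_iff {k : Type u} [Field k] {X Y : Over (Spec (CommRingCat.of k))} (a : Y ⊗ X ⟶ X)
    (T : Over (Spec (CommRingCat.of k))) (x : T ⟶ X) : Agree a T.left x.left ↔ (Y ◁ x) ≫ a = snd Y T ≫ x := by
  refine ⟨fun h => h T (𝟙 _) x (Category.id_comp _).symm, fun h T' c x' hc => ?_⟩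
  obtain ⟨e, he⟩ : ∃ e : T' ⟶ T, e ≫ x = x' :=
    ⟨Over.homMk c (by rw [← Over.w x, ← Category.assoc, ← hc, Over.w x']), Over.OverMorphism.ext hc.symm⟩
  rw [← he, MonoidalCategory.whiskerLeft_comp, Category.assoc, h, ← Category.assoc, whiskerLeft_snd, Category.assoc]

theorem agree_comp {k : Type u} [Field k] {X Y : Over (Spec (CommRingCat.of k))} (a : Y ⊗ X ⟶ X)
    (T T' : Scheme.{u}) (h : T' ⟶ T) (g : T ⟶ X.left) (hg : Agree a T g) : Agree a T' (h ≫ g) :=
  fun T'' c x hx => hg T'' (c ≫ h) x (by rw [hx, Category.assoc])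

/-- Let k be a field, X and Y arbitrary k-schemes and a : Y ×_k X → X a k-morphism such that every open
subscheme U of X is stable under a, in the sense that the preimage of U under the projection Y ×_k X
→ X is contained in the preimage of U under a. Consider the subfunctor X^a of X whose T-valued
points, for a k-scheme T, are the k-morphisms x : T → X with a ∘ (id_Y × x) = x ∘ pr_T as morphisms
Y ×_k T → X. Then X^a is represented by a closed subscheme of X: there is a closed immersion j : Z →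
X over k lying in X^a(Z) through which every element of X^a(T) factors. Neither separatedness of X
nor any finiteness condition on X or Y is assumed. -/
theorem result (k : Type u) [Field k]
    (X Y : Over (Spec (CommRingCat.of k))) (a : Y ⊗ X ⟶ X)
    (hstab : ∀ U : X.left.Opens, (CartesianMonoidalCategory.snd Y X).left ⁻¹ᵁ U ≤ a.left ⁻¹ᵁ U) :
    ∃ (Z : Over (Spec (CommRingCat.of k))) (j : Z ⟶ X), IsClosedImmersion j.left ∧
      (Y ◁ j) ≫ a = CartesianMonoidalCategory.snd Y Z ≫ j ∧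
      ∀ (T : Over (Spec (CommRingCat.of k))) (x : T ⟶ X),
        (Y ◁ x) ≫ a = CartesianMonoidalCategory.snd Y T ≫ x → ∃ z : T ⟶ Z, z ≫ j = x := by
  let P := Agree a
  have hP := agree_iff a
  suffices H : ∃ (T : Scheme.{u}) (t : T ⟶ X.left), IsClosedImmersion t ∧
      ∀ (W : Scheme.{u}) (g : W ⟶ X.left), (∃ g' : W ⟶ T, g' ≫ t = g) ↔ P W g by
    obtain ⟨Z, j, hj, h⟩ := H
    let Z₀ : Over (Spec (CommRingCat.of k)) := Over.mk (j ≫ X.hom)
    let j₀ : Z₀ ⟶ X := Over.homMk j rfl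
    refine ⟨Z₀, j₀, hj, ?_, fun T x hx => ?_⟩
    · exact (agree_iff a Z₀ j₀).1 ((h Z₀.left j).1 ⟨𝟙 _, Category.id_comp _⟩)
    · obtain ⟨z, hz⟩ := (h T.left x.left).2 ((agree_iff a T x).2 hx)
      exact ⟨Over.homMk z (by show z ≫ j ≫ X.hom = T.hom; rw [← Category.assoc, hz, Over.w]), Over.OverMorphism.ext hz⟩
  refine Groth.L13.FixedLocus.exists_closedImmersion_of_affine P ?_ ?_ ?_
  · exact agree_comp a
  · intro T g hg
    choose W hW hWP using hg
    let T₀ : Over (Spec (CommRingCat.of k)) := Over.mk (g ≫ X.hom)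
    let x : T₀ ⟶ X := Over.homMk g rfl
    refine (hP T₀ x).2 ?_
    apply Over.OverMorphism.ext
    refine ((Y ⊗ T₀).left.openCoverOfIsOpenCover (fun z : T => (snd Y T₀).left ⁻¹ᵁ W z)
      (TopologicalSpace.IsOpenCover.mk (top_le_iff.1 fun w _ =>
        TopologicalSpace.Opens.mem_iSup.2 ⟨(snd Y T₀).left w, hW ((snd Y T₀).left w)⟩))).hom_ext _ _ fun (z : T) => ?_
    let D : (Y ⊗ T₀).left.Opens := (snd Y T₀).left ⁻¹ᵁ W z
    let Tz : Over (Spec (CommRingCat.of k)) := Over.mk ((W z).ι ≫ g ≫ X.hom)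
    let c : Tz ⟶ T₀ := Over.homMk (W z).ι rfl
    let l : Over.mk (D.ι ≫ (Y ⊗ T₀).hom) ⟶ Tz := Over.homMk ((snd Y T₀).left ∣_ W z) (by
      show ((snd Y T₀).left ∣_ W z) ≫ (W z).ι ≫ g ≫ X.hom = D.ι ≫ (Y ⊗ T₀).hom
      rw [morphismRestrict_ι_assoc]
      exact congrArg (D.ι ≫ ·) (Over.w (snd Y T₀)))
    let d : Over.mk (D.ι ≫ (Y ⊗ T₀).hom) ⟶ Y ⊗ T₀ := Over.homMk D.ι rfl
    let m : Over.mk (D.ι ≫ (Y ⊗ T₀).hom) ⟶ Y ⊗ Tz := lift (d ≫ fst Y T₀) l
    have hm : m ≫ (Y ◁ c) = d := by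
      apply CartesianMonoidalCategory.hom_ext
      · simp [m]
      · rw [Category.assoc, whiskerLeft_snd, lift_snd_assoc]
        exact Over.OverMorphism.ext (morphismRestrict_ι _ _)
    have h1 : (Y ◁ (c ≫ x)) ≫ a = snd Y Tz ≫ c ≫ x := (hP Tz (c ≫ x)).1 (hWP z)
    have h2 : d ≫ (Y ◁ x) ≫ a = d ≫ snd Y T₀ ≫ x := by
      rw [← hm, Category.assoc, Category.assoc, ← MonoidalCategory.whiskerLeft_comp_assoc, h1,
        ← Category.assoc (Y ◁ c), whiskerLeft_snd, Category.assoc]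
    exact congrArg (fun φ => φ.left) h2
  · intro U
    let U₀ : Over (Spec (CommRingCat.of k)) := Over.mk (U.1.ι ≫ X.hom)
    let j : U₀ ⟶ X := Over.homMk U.1.ι rfl
    haveI : IsAffine U.1.toScheme := U.2
    haveI : IsSeparated U₀.hom := inferInstanceAs (IsSeparated (U.1.ι ≫ X.hom))
    haveI : IsOpenImmersion j.left := inferInstanceAs (IsOpenImmersion U.1.ι)
    have hr : Set.range ((Y ◁ j) ≫ a).left ⊆ Set.range U.1.ι := by
      rintro _ ⟨w, rfl⟩
      rw [Scheme.Opens.range_ι]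
      refine hstab U.1 ?_
      show ((Y ◁ j) ≫ snd Y X).left w ∈ U.1
      rw [whiskerLeft_snd]
      exact ((snd Y U₀).left w).2
    let a' : Y ⊗ U₀ ⟶ U₀ := Over.homMk (IsOpenImmersion.lift U.1.ι ((Y ◁ j) ≫ a).left hr) (by
      show IsOpenImmersion.lift U.1.ι ((Y ◁ j) ≫ a).left hr ≫ U.1.ι ≫ X.hom = _
      rw [IsOpenImmersion.lift_fac_assoc]
      exact Over.w ((Y ◁ j) ≫ a))
    have ha' : a' ≫ j = (Y ◁ j) ≫ a := Over.OverMorphism.ext (IsOpenImmersion.lift_fac _ _ _)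
    obtain ⟨Z, t, ht, hZ⟩ := Groth.L08.FactorLocus.exists_closedImmersion_agree a' (snd Y U₀)
    haveI : IsClosedImmersion (t.left : Z.left ⟶ U.1.toScheme) := ht
    obtain ⟨I, hI⟩ := Groth.L08.FactorLocus.exists_ideal_factor (M := Γ(X.left, U.1)) (t.left : Z.left ⟶ U.1.toScheme) U.2.isoSpec.inv
    refine ⟨I, fun R φ => ?_⟩
    rw [← hI R φ]
    let T₀ : Over (Spec (CommRingCat.of k)) := Over.mk ((Spec.map φ ≫ U.2.isoSpec.inv) ≫ U.1.ι ≫ X.hom)
    let y : T₀ ⟶ U₀ := Over.homMk (Spec.map φ ≫ U.2.isoSpec.inv) rfl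
    have hy : (y ≫ j).left = Spec.map φ ≫ U.2.fromSpec := by
      show (Spec.map φ ≫ U.2.isoSpec.inv) ≫ U.1.ι = _
      rw [Category.assoc, IsAffineOpen.isoSpec_inv_ι]
    rw [← hy]; refine (hP T₀ (y ≫ j)).trans ?_
    have hZ' : (∃ w : Spec R ⟶ Z.left, w ≫ t.left = Spec.map φ ≫ U.2.isoSpec.inv) ↔ ∃ z : T₀ ⟶ Z, z ≫ t = y :=
      ⟨fun ⟨w, hw⟩ => ⟨Over.homMk w (by rw [← Over.w t, ← Category.assoc, hw]; rfl), Over.OverMorphism.ext hw⟩,
        fun ⟨z, hz⟩ => ⟨z.left, congrArg (fun φ => φ.left) hz⟩⟩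
    rw [hZ', hZ T₀ y, whiskerLeft_snd]
    haveI : Mono j := Over.mono_of_mono_left j
    rw [← cancel_mono j, Category.assoc, ha', MonoidalCategory.whiskerLeft_comp, Category.assoc, Category.assoc]

end Groth.Agent.S19969
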