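import Groth.Statements.S1997
import Mathlib.Algebra.Category.Ring.Epi
import Mathlib.RingTheory.Flat.Tensor
import Mathlib.RingTheory.IntegralClosure.IntegrallyClosed
import Mathlib.RingTheory.IntegralClosure.IsIntegralClosure.Basic
import Mathlib.RingTheory.Adjoin.Polynomial.Basic

set_option autoImplicit false
universe u
open CategoryTheory
open EtAlg

namespace Groth.Agent.S1997

/-- Let A be a ring all of whose ideals are flat (weak dimension at most one) and A -> B a flat,
injective ring map which is an epimorphism in the category of commutative rings. Then A is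
integrally closed in B. -/
theorem result (A B : Type u) [CommRing A] [CommRing B] [Algebra A B]
    (hA : ∀ I : Ideal A, Module.Flat A I) [Module.Flat A B] (hinj : Function.Injective (algebraMap A B))
    (hepi : Epi (CommRingCat.ofHom (algebraMap A B))) : IsIntegrallyClosedIn A B := by
  haveI : Algebra.IsEpi A B := CommRingCat.epi_iff_epi.mp hepi
  have hsub : ∀ N : Submodule A B, Module.Flat A N := fun N => by
    rw [Module.Flat.iff_lift_lsmul_comp_subtype_injective]
    intro I hI
    haveI := hA I
    have h1 := Module.Flat.lTensor_preserves_injective_linearMap (M := I) N.subtype N.injective_subtype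
    have h2 : Function.Injective (TensorProduct.lift ((LinearMap.lsmul A B).comp I.subtype)) :=
      Module.Flat.iff_lift_lsmul_comp_subtype_injective.mp ‹Module.Flat A B› hI
    have h3 : N.subtype ∘ₗ TensorProduct.lift ((LinearMap.lsmul A N).comp I.subtype) =
        TensorProduct.lift ((LinearMap.lsmul A B).comp I.subtype) ∘ₗ N.subtype.lTensor I :=
      TensorProduct.ext' fun i n => by simp
    refine Function.Injective.of_comp (f := N.subtype) ?_
    rw [← LinearMap.coe_comp, h3, LinearMap.coe_comp]
    exact h2.comp h1
  refine isIntegrallyClosedIn_iff.mpr ⟨hinj, fun {x} hx => ?_⟩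
  let C : Subalgebra A B := Algebra.adjoin A {x}
  haveI : Module.Finite A C := Module.Finite.iff_fg.mpr hx.fg_adjoin_singleton
  haveI : Module.Flat A C := hsub C.toSubmodule
  haveI : Algebra.IsEpi A C := by
    refine (Algebra.isEpi_iff_forall_one_tmul_eq A C).mpr fun c => ?_
    have h1 : Function.Injective (C.val.toLinearMap.lTensor C) :=
      Module.Flat.lTensor_preserves_injective_linearMap _ Subtype.val_injective
    have h2 : Function.Injective (C.val.toLinearMap.rTensor B) :=
      Module.Flat.rTensor_preserves_injective_linearMap _ Subtype.val_injective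
    refine (h2.comp h1) ?_
    simp only [Function.comp_apply, LinearMap.lTensor_tmul, LinearMap.rTensor_tmul]
    exact (Algebra.isEpi_iff_forall_one_tmul_eq A B).mp inferInstance (c : B)
  obtain ⟨a, ha⟩ := (Algebra.isEpi_iff_surjective_algebraMap_of_finite.mp ‹Algebra.IsEpi A C›)
    ⟨x, Algebra.self_mem_adjoin_singleton A x⟩
  exact ⟨a, congrArg Subtype.val ha⟩

end Groth.Agent.S1997
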