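import Groth.Statements.S19971
import Groth.Agent.L26.AV.Degree
import Groth.Agent.L00.IsogenyDual
import Groth.Agent.L20.FibreScheme
import Groth.Agent.L26.AbSch.Bilinear
import Groth.Agent.L27.FppfCmp.LocExact
-- import your own Groth.Agent.* helpers here

set_option autoImplicit false
set_option backward.isDefEq.respectTransparency.types false
set_option linter.style.haveILetI false
universe u
open CategoryTheory CategoryTheory.Limits MonoidalCategory CartesianMonoidalCategory MonObj AlgebraicGeometry
open AbSch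

namespace Groth.Agent.S19971

/-- Multiplication by a positive integer on an abelian scheme is an epimorphism of fppf sheaves. -/
theorem epi_nsmul {S : Scheme.{u}} (A : Over S) [GrpObj A] [IsCommMonObj A] [Smooth A.hom] [IsProper A.hom]
    (hA : ∀ s : S, ConnectedSpace ↥(A.hom.fiber s)) (n : ℕ) (hn : 1 ≤ n) :
    Epi (n • 𝟙 (CGrpSh.pts Scheme.fppfPrecoverage A)) := by
  haveI := Groth.Agent.AbSchHom.geometricallyConnected_of_fibres A hA
  haveI : GeometricallyReduced A.hom := Groth.Agent.AV.geometricallyReduced_of_smooth A.hom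
  haveI : IsMonHom (𝟙 A ^ n) := by
    have h := EndAV.Hom.isMonHom_toHom (n • EndAV.Hom.of (𝟙 A))
    rwa [EndAV.Hom.toHom_nsmul, EndAV.Hom.toHom_of] at h
  obtain ⟨_, _⟩ := Groth.L00.IsogDual.surjective_and_quasiFinite_pow A n hn
  haveI : Flat (𝟙 A ^ n).left := (Groth.L08.FlatHom.flat_of_surjective_fibres A A (𝟙 A ^ n)).1
  haveI : LocallyOfFinitePresentation ((𝟙 A ^ n).left ≫ A.hom) := by rw [Over.w]; infer_instance
  haveI : LocallyOfFiniteType A.hom := inferInstance
  haveI : LocallyOfFinitePresentation (𝟙 A ^ n).left :=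
    Groth.L20.locallyOfFinitePresentation_of_comp (𝟙 A ^ n).left A.hom
  rw [← Sheaf.isLocallySurjective_iff_epi']
  refine ⟨fun {T} y => ?_⟩
  let y' : T ⟶ A := y.down.toMul
  rw [GrothendieckTopology.mem_over_iff]
  let q := pullback.fst y'.left (𝟙 A ^ n).left
  haveI : Flat q := MorphismProperty.pullback_fst _ _ ‹Flat (𝟙 A ^ n).left›
  haveI : Surjective q := MorphismProperty.pullback_fst _ _ ‹Surjective (𝟙 A ^ n).left›
  haveI : LocallyOfFinitePresentation q :=
    MorphismProperty.pullback_fst _ _ ‹LocallyOfFinitePresentation (𝟙 A ^ n).left›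
  refine GrothendieckTopology.superset_covering _ ?_
    (Precoverage.generate_mem_toGrothendieck q.singleton_mem_fppfPrecoverage)
  rw [Sieve.generate_le_iff]
  rintro _ _ ⟨⟩
  rw [Sieve.overEquiv_iff]
  let z : Over.mk (q ≫ T.hom) ⟶ A := Over.homMk (pullback.snd y'.left (𝟙 A ^ n).left) (by
    simp only [Over.mk_hom, q]
    rw [← Over.w (𝟙 A ^ n), ← Category.assoc, ← pullback.condition, Category.assoc, Over.w y'])
  refine ⟨ULift.up (Additive.ofMul z), ?_⟩
  let E := sheafToPresheaf (QuotSh.J Scheme.fppfPrecoverage S) AddCommGrpCat.{u + 1} ⋙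
    (evaluation _ _).obj (Opposite.op (Over.mk (q ≫ T.hom)))
  have hE : (n • 𝟙 (CGrpSh.pts Scheme.fppfPrecoverage A) : CGrpSh.pts Scheme.fppfPrecoverage A ⟶
      CGrpSh.pts Scheme.fppfPrecoverage A).hom.app (Opposite.op (Over.mk (q ≫ T.hom)))
      (ULift.up (Additive.ofMul z)) = n • ULift.up.{u + 1} (Additive.ofMul z) := by
    show E.map (n • 𝟙 (CGrpSh.pts Scheme.fppfPrecoverage A)) (ULift.up (Additive.ofMul z)) = _
    rw [Functor.map_nsmul, E.map_id]
    rfl
  refine hE.trans (ULift.ext _ _ (congrArg Additive.ofMul ?_))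
  show z ^ n = _
  rw [← Category.comp_id z, ← MonObj.comp_pow]
  exact Over.OverMorphism.ext pullback.condition.symm

/-- Let S be a scheme and A, B, C abelian S-schemes (commutative S-group schemes which are smooth and
proper over S with connected fibres). Then the group of morphisms from A to the S-sheaf of
extensions of B by C is torsion-free: on the big fppf site of S, if φ is a morphism of abelian
sheaves from the sheaf of points of A to the first Ext sheaf from the sheaf of points of B with
values in the sheaf of points of C, and n · φ = 0 for some nonzero integer n, then φ = 0. -/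
theorem result {S : Scheme.{u}} (A B C : Over S)
    [GrpObj A] [IsCommMonObj A] [Smooth A.hom] [IsProper A.hom]
    (hA : ∀ s : S, ConnectedSpace ↥(A.hom.fiber s))
    [GrpObj B] [IsCommMonObj B] [Smooth B.hom] [IsProper B.hom]
    (hB : ∀ s : S, ConnectedSpace ↥(B.hom.fiber s))
    [GrpObj C] [IsCommMonObj C] [Smooth C.hom] [IsProper C.hom]
    (hC : ∀ s : S, ConnectedSpace ↥(C.hom.fiber s))
    (φ : (CGrpSh.pts Scheme.fppfPrecoverage A) ⟶ (HomSh.extSh (QuotSh.J Scheme.fppfPrecoverage S) (CGrpSh.pts Scheme.fppfPrecoverage B) 1).obj (CGrpSh.pts Scheme.fppfPrecoverage C))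
    (n : ℤ) (hn : n ≠ 0) (h : n • φ = 0) : φ = 0 := by
  haveI := epi_nsmul A hA n.natAbs (Int.natAbs_pos.2 hn)
  have h' : n.natAbs • φ = 0 := by
    rcases Int.natAbs_eq n with e | e
    · rw [← natCast_zsmul, ← e]; exact h
    · rw [← natCast_zsmul, show (n.natAbs : ℤ) = -n by omega, neg_smul, h, neg_zero]
  rw [← cancel_epi (n.natAbs • 𝟙 (CGrpSh.pts Scheme.fppfPrecoverage A)), comp_zero,
    Preadditive.nsmul_comp, Category.id_comp, h']

end Groth.Agent.S19971
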