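import Groth.Statements.S19975
import Groth.Agent.L27.Colim.Etale
import Groth.Agent.L27.EtSite.Common
import Groth.Agent.L27.EtSite.Points
import Groth.Agent.L27.EtSite.HofPush
import Mathlib.CategoryTheory.Functor.OfSequence

set_option autoImplicit false
set_option linter.style.haveILetI false
set_option maxHeartbeats 800000
universe u
open CategoryTheory CategoryTheory.Limits Opposite AlgebraicGeometry
open EtCoh

set_option backward.isDefEq.respectTransparency false
set_option backward.isDefEq.respectTransparency.types false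

namespace Groth.Agent.S19975

variable {X : Scheme.{u}}

/-- Affine open neighbourhoods in the small etale site. -/
theorem exists_affine_nbhd (U : X.Etale) (x : U.left) :
    ∃ (V : X.Etale) (g : V ⟶ U) (v : V.left), IsAffine V.left ∧ g.left.base v = x := by
  obtain ⟨_, ⟨(O : U.left.Opens), hO, rfl⟩, hx, -⟩ := U.left.isBasis_affineOpens.exists_subset_of_mem_open
    (Set.mem_univ x) isOpen_univ
  haveI : AlgebraicGeometry.Etale U.hom := U.prop
  exact ⟨Scheme.Etale.mk (Scheme.Opens.ι O ≫ U.hom), MorphismProperty.Over.homMk (Scheme.Opens.ι O) rfl, (⟨x, hx⟩ : (O : U.left.Opens)), hO, rfl⟩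

/-- A map of etale sheaves bijective on affine objects is an isomorphism. -/
theorem isIso_of_affine {F G : EtCoh.Ab X} (ψ : F ⟶ G)
    (h : ∀ U : X.Etale, IsAffine U.left → Function.Bijective (ψ.hom.app (op U))) : IsIso ψ := by
  haveI : X.smallEtaleTopology.HasSheafCompose (forget AddCommGrpCat.{u + 1}) := inferInstance
  refine (Sheaf.isLocallyBijective_iff_isIso (A := AddCommGrpCat.{u + 1}) ψ).1 ⟨?_, ?_⟩
  · exact Presheaf.isLocallyInjective_of_injective _ ψ.hom fun U a b hab => by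
      refine Groth.L27.EtSite.ext_of_locally (A := AddCommGrpCat.{u + 1}) F fun x => ?_
      obtain ⟨V, g, v, hV, hv⟩ := exists_affine_nbhd U.unop x
      exact ⟨V, g, v, hv, (h V hV).1 ((NatTrans.naturality_apply ψ.hom g.op a).trans
        ((congrArg _ hab).trans (NatTrans.naturality_apply ψ.hom g.op b).symm))⟩
  · refine ⟨fun {U} s => (Groth.L27.EtSite.mem_topology_iff _).2 fun x => ?_⟩
    obtain ⟨V, g, v, hV, hv⟩ := exists_affine_nbhd U x
    exact ⟨V, g, v, (h V hV).2 _, hv⟩

theorem qcqs_of_affine (U : X.Etale) (hU : IsAffine U.left) : Groth.L27.Colim.Qcqs U :=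
  haveI := hU
  ⟨inferInstance, inferInstance⟩

theorem smul_inv_step {F G : EtCoh.Ab X} (φ : F ⟶ G) (a b : ℤ) [IsIso (a • 𝟙 G)] [IsIso ((a * b) • 𝟙 G)] :
    (b • 𝟙 F) ≫ φ ≫ inv ((a * b) • 𝟙 G) = φ ≫ inv (a • 𝟙 G) := by
  have h : (a * b) • (φ ≫ inv ((a * b) • 𝟙 G)) = φ := by
    conv_rhs => rw [← Category.comp_id φ, ← IsIso.inv_hom_id ((a * b) • 𝟙 G)]
    rw [Preadditive.comp_zsmul, Preadditive.comp_zsmul, Category.comp_id]
  rw [IsIso.eq_comp_inv, Preadditive.zsmul_comp, Category.id_comp, Preadditive.comp_zsmul, Category.comp_id,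
    smul_smul]
  exact h

/-- An additive functor applied to a multiple of the identity. -/
theorem map_zsmul_id_apply {F : EtCoh.Ab X} (H : EtCoh.Ab X ⥤ AddCommGrpCat.{u + 1}) [H.Additive] (m : ℤ) (y : H.obj F) :
    H.map (m • 𝟙 F) y = m • y := by
  rw [Functor.map_zsmul, CategoryTheory.Functor.map_id]
  rfl


/-- In the case of the small etale topos of a quasi-compact quasi-separated scheme X (X is then a
coherent object of it), let R = S⁻¹ℤ be a localization of the ring of integers at a multiplicative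
subset S, and let φ : F ⟶ G be a morphism of abelian etale sheaves on X which exhibits G as F ⊗ R:
over every affine scheme U etale over X, the map on sections F(U) → G(U) is a localization of
ℤ-modules at S. Then for every i the induced map on etale cohomology Hⁱ(X, F) → Hⁱ(X, G) is a
localization at S, i.e. the natural map Hⁱ(X, F) ⊗ R → Hⁱ(X, F ⊗ R) is invertible. (The source
states this for a coherent object of an arbitrary topos; the tensor product F ⊗ R is rendered
through its characterisation on affine etale schemes over X.) -/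
theorem result (X : Scheme.{u})
    [CompactSpace X] [QuasiSeparatedSpace X] (S : Submonoid ℤ)
    (F G : EtCoh.Ab X) (φ : F ⟶ G)
    (hφ : ∀ U : X.Etale, IsAffine U.left →
      IsLocalizedModule S (φ.hom.app (op U)).hom.toIntLinearMap)
    (i : ℕ) : IsLocalizedModule S ((EtCoh.HF X i).map φ).hom.toIntLinearMap := by
  classical
  haveI hadd : (EtCoh.HF X i).Additive := ⟨fun {A B} {f g} => by
    refine AddCommGrpCat.ext fun e => ?_
    show _ = (EtCoh.HF X i).map f e + (EtCoh.HF X i).map g e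
    rw [Groth.L27.EtSite.HF_map_apply, Groth.L27.EtSite.HF_map_apply,
      Groth.L27.EtSite.HF_map_apply, Abelian.Ext.mk₀_add, Abelian.Ext.comp_add]⟩
  haveI hiso : ∀ s : S, IsIso ((s : ℤ) • 𝟙 G) := fun s => isIso_of_affine _ fun U hU =>
    (Module.End.isUnit_iff _).1 ((hφ U hU).map_units s)
  -- an exhausting sequence in `S`
  obtain ⟨e, he⟩ := exists_surjective_nat S
  let s : ℕ → S := fun n => e n.unpair.1
  have hs : ∀ (x : S) (n : ℕ), ∃ m, n ≤ m ∧ s m = x := fun x n => by
    obtain ⟨a, ha⟩ := he x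
    exact ⟨Nat.pair a n, Nat.right_le_pair a n, by simp [s, ha]⟩
  let t : ℕ → S := fun n => ∏ k ∈ Finset.range n, s k
  have ht : ∀ n, t (n + 1) = t n * s n := fun n => Finset.prod_range_succ _ _
  let D₀ : ℕ ⥤ EtCoh.Ab X := Functor.ofSequence (X := fun _ => F) fun n => (s n : ℤ) • 𝟙 F
  let ι₀ : D₀ ⟶ (Functor.const ℕ).obj G := NatTrans.ofSequence (fun n => φ ≫ inv ((t n : ℤ) • 𝟙 G)) fun n => by
    rw [Functor.ofSequence_map_homOfLE_succ, Functor.const_obj_map]
    refine Eq.trans ?_ (Category.comp_id _).symm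
    haveI : IsIso (((t n : ℤ) * (s n : ℤ)) • 𝟙 G) := hiso (t n * s n)
    refine Eq.trans ?_ (smul_inv_step φ (t n : ℤ) (s n : ℤ))
    congr 3
    exact congrArg (fun k : S => (k : ℤ) • 𝟙 G) (ht n)
  haveI : IsDirectedOrder (ULift.{u} ℕ) := ⟨fun a b => ⟨⟨max a.down b.down⟩, le_max_left _ _, le_max_right _ _⟩⟩
  haveI : Nonempty (ULift.{u} ℕ) := ⟨⟨0⟩⟩
  let down : ULift.{u} ℕ ⥤ ℕ := Monotone.functor (f := ULift.down) (fun _ _ h => h)
  let c : Cocone (down ⋙ D₀) := ⟨G, { app := fun j => ι₀.app j.down, naturality := fun j k f => ι₀.naturality (down.map f) }⟩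
  haveI : HasColimitsOfSize.{u, u} (EtCoh.Ab X) := hasColimitsOfSizeShrink.{u, u, u + 1, u + 1} _
  have hψ : ∀ (n : ℕ) (U : X.Etale) (y : F.obj.obj (op U)),
      (t n : ℤ) • (ι₀.app n).hom.app (op U) y = φ.hom.app (op U) y := fun n U y => by
    have h : ι₀.app n ≫ ((t n : ℤ) • 𝟙 G) = φ := by
      show (φ ≫ inv ((t n : ℤ) • 𝟙 G)) ≫ _ = φ
      rw [Category.assoc, IsIso.inv_hom_id, Category.comp_id]
    exact congr($h |>.hom.app (op U) y)
  -- the colimit
  let d := colimit.desc (down ⋙ D₀) c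
  haveI : IsIso d := isIso_of_affine d fun U hU => by
    have hq := qcqs_of_affine U hU
    haveI := hφ U hU
    have hd : ∀ j y, d.hom.app (op U) ((colimit.ι (down ⋙ D₀) j).hom.app (op U) y) =
        (ι₀.app j.down).hom.app (op U) y := fun j y => congr($(colimit.ι_desc c j).hom.app (op U) y)
    have hinj : ∀ (m : S) (z : G.obj.obj (op U)), (m : ℤ) • z = 0 → z = 0 := fun m z hz =>
      ((Module.End.isUnit_iff _).1 ((hφ U hU).map_units m)).1 (hz.trans (map_zero _).symm)
    refine ⟨(injective_iff_map_eq_zero _).2 fun z hz => ?_, fun z => ?_⟩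
    · obtain ⟨⟨n⟩, y, rfl⟩ := Groth.L27.Colim.exists_rep Groth.L27.Colim.good (colimit.isColimit (down ⋙ D₀)) hq z
      have hz' : (colimit.ι (down ⋙ D₀) ⟨n⟩ ≫ d).hom.app (op U) y = 0 := hz
      have hz'' : (ι₀.app n).hom.app (op U) y = 0 := (hd ⟨n⟩ y).symm.trans hz'
      have h0 : φ.hom.app (op U) y = φ.hom.app (op U) 0 := by rw [map_zero, ← hψ n, hz'', smul_zero]
      obtain ⟨x, hx⟩ := (IsLocalizedModule.eq_iff_exists S (φ.hom.app (op U)).hom.toIntLinearMap).1 h0
      obtain ⟨m, hnm, rfl⟩ := hs x n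
      let y' := ((down ⋙ D₀).map (homOfLE hnm : (⟨n⟩ : ULift.{u} ℕ) ⟶ ⟨m⟩)).hom.app (op U) y
      have hy' : (s m : ℤ) • y' = 0 := by
        rw [← map_zsmul]
        exact (congrArg _ (hx.trans (smul_zero _))).trans (map_zero _)
      have hstep : ((down ⋙ D₀).map (homOfLE (Nat.le_succ m) : (⟨m⟩ : ULift.{u} ℕ) ⟶ ⟨m + 1⟩)).hom.app (op U) y' = 0 := by
        show (D₀.map (homOfLE (Nat.le_add_right m 1))).hom.app (op U) y' = 0
        rw [Functor.ofSequence_map_homOfLE_succ]
        exact hy'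
      rw [← Groth.L27.Colim.ι_map (c := colimit.cocone (down ⋙ D₀)) (homOfLE hnm : (⟨n⟩ : ULift.{u} ℕ) ⟶ ⟨m⟩),
        ← Groth.L27.Colim.ι_map (c := colimit.cocone (down ⋙ D₀)) (homOfLE (Nat.le_succ m) : (⟨m⟩ : ULift.{u} ℕ) ⟶ ⟨m + 1⟩)]
      exact (congrArg _ hstep).trans (map_zero _)
    · obtain ⟨⟨x, a⟩, hx⟩ := IsLocalizedModule.surj S (φ.hom.app (op U)).hom.toIntLinearMap z
      obtain ⟨m, -, rfl⟩ := hs a 0
      refine ⟨(colimit.ι (down ⋙ D₀) ⟨m + 1⟩).hom.app (op U) ((t m : ℤ) • x), (hd _ _).trans ?_⟩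
      refine sub_eq_zero.1 (hinj (t (m + 1)) _ ?_)
      rw [smul_sub, sub_eq_zero, hψ, map_zsmul]
      show _ = ((t (m + 1) : S) : ℤ) • z
      rw [ht, show ((t m * s m : S) : ℤ) = (t m : ℤ) * (s m : ℤ) from rfl, mul_smul]
      exact congrArg _ hx.symm
  haveI : IsIso ((colimit.isColimit (down ⋙ D₀)).desc c) := ‹IsIso d›
  have hc : IsColimit c := IsColimit.ofPointIso (colimit.isColimit (down ⋙ D₀))
  haveI := Groth.L27.Colim.preservesColimitsOfShape_HF X i (ULift.{u} ℕ)
  have hH := isColimitOfPreserves (EtCoh.HF X i) hc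
  haveI : PreservesFilteredColimitsOfSize.{u, u} (forget AddCommGrpCat.{u + 1}) :=
    preservesFilteredColimitsOfSize_of_univLE.{u + 1, u + 1} _
  let L := (EtCoh.HF X i).map φ
  have hu : ∀ m : S, Function.Bijective fun z : (EtCoh.HF X i).obj G => (m : ℤ) • z := fun m => by
    have := ConcreteCategory.bijective_of_isIso ((EtCoh.HF X i).map ((m : ℤ) • 𝟙 G))
    convert this using 1
    funext z
    exact (map_zsmul_id_apply (EtCoh.HF X i) _ z).symm
  have hL : ∀ (n : ℕ) (y : (EtCoh.HF X i).obj F), (t n : ℤ) • (EtCoh.HF X i).map (ι₀.app n) y = L y := fun n y => by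
    rw [← map_zsmul_id_apply (EtCoh.HF X i)]
    show _ = (EtCoh.HF X i).map φ y
    rw [← ConcreteCategory.comp_apply, ← Functor.map_comp]
    refine congrArg (fun ψ : F ⟶ G => (EtCoh.HF X i).map ψ y) ?_
    show (φ ≫ inv ((t n : ℤ) • 𝟙 G)) ≫ ((t n : ℤ) • 𝟙 G) = φ
    rw [Category.assoc, IsIso.inv_hom_id, Category.comp_id]
  refine ⟨fun m => (Module.End.isUnit_iff _).2 (hu m), fun z => ?_, fun {a b} hab => ?_⟩
  · obtain ⟨⟨n⟩, y, hy⟩ := Concrete.isColimit_exists_rep _ hH z
    exact ⟨⟨y, t n⟩, (congrArg ((t n : ℤ) • ·) hy.symm).trans (hL n y)⟩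
  · have h0 : ((EtCoh.HF X i).mapCocone c).ι.app ⟨0⟩ (a - b) = 0 := by
      refine (hu (t 0)).1 ?_
      show (t 0 : ℤ) • (EtCoh.HF X i).map (ι₀.app 0) (a - b) = (t 0 : ℤ) • 0
      rw [hL, smul_zero, map_sub, sub_eq_zero]
      exact hab
    obtain ⟨⟨n⟩, f, g, hfg⟩ := (Concrete.isColimit_rep_eq_iff_exists _ hH (i := (⟨0⟩ : ULift.{u} ℕ)) (j := (⟨0⟩ : ULift.{u} ℕ)) (a - b) 0).1
      (h0.trans (map_zero _).symm)
    have key : ∀ (n : ℕ) (hn : 0 ≤ n) (y : (EtCoh.HF X i).obj F),
        (EtCoh.HF X i).map (D₀.map (homOfLE hn)) y = (t n : ℤ) • y := by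
      intro n
      induction n with
      | zero =>
        intro hn y
        rw [show homOfLE hn = 𝟙 (0 : ℕ) from Subsingleton.elim _ _, CategoryTheory.Functor.map_id, CategoryTheory.Functor.map_id]
        show y = (1 : ℤ) • y
        rw [one_smul]
      | succ n ih =>
        intro hn y
        rw [show homOfLE hn = homOfLE (Nat.zero_le n) ≫ homOfLE (Nat.le_add_right n 1) from Subsingleton.elim _ _,
          Functor.map_comp, Functor.map_comp, ConcreteCategory.comp_apply, ih, Functor.ofSequence_map_homOfLE_succ,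
          ht]
        refine (map_zsmul_id_apply (F := F) (EtCoh.HF X i) _ _).trans ?_
        rw [smul_smul, mul_comm]
        rfl
    refine ⟨t n, sub_eq_zero.1 ?_⟩
    rw [← smul_sub]
    show (t n : ℤ) • (a - b) = 0
    rw [← key n (Nat.zero_le n)]
    exact (hfg.trans (map_zero _))

end Groth.Agent.S19975
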