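import Groth.Statements.S19978
import Groth.Agent.L08.AlbLarge.Span
import Groth.Agent.L08.AlbLarge.ConstGrp
import Groth.Agent.L08.Chev.Comp
import Groth.Agent.L08.Chev.Core
import Groth.Agent.L19.AlgGrpBasic.OrbitClosure
import Groth.Agent.L26.Poincare.Reducibility
import Groth.Agent.L01.Unip.Affine
-- import your own Groth.Agent.* helpers here

set_option autoImplicit false
set_option backward.isDefEq.respectTransparency.types false
set_option linter.style.haveILetI false
universe u
open CategoryTheory MonoidalCategory CartesianMonoidalCategory MonObj GrpObj AlgebraicGeometry CategoryTheory.Limits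
open AbVar

namespace Groth.Agent.S19978

/-- Over an algebraically closed field k, let X be an integral separated k-scheme of finite type which
is proper over k. Call large group a commutative separated k-group scheme G locally of finite type
given with a connected open subgroup scheme G⁰ (its neutral component) which is semiabelian: G⁰ has
a closed subgroup scheme T that is a torus and is the kernel of a flat surjective homomorphism from
G⁰ onto an abelian variety (a proper smooth connected k-group scheme). Let A be a large group, with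
neutral component A⁰, and u : X → A a k-morphism which is universal for morphisms to large groups
(every k-morphism from X to a large group G is u followed by a unique homomorphism A → G), i.e. (A,
u) is the Albanese scheme of X. Then A⁰ is proper over k: the neutral component of the Albanese
scheme of a proper scheme is an abelian variety. (The published statement is for any proper reduced
scheme of finite type over a perfect field; this row states the case of an integral scheme over an
algebraically closed field.) -/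
theorem result (k : Type u) [Field k] [IsAlgClosed k]
    (X : Over (Spec (CommRingCat.of k))) [IsIntegral X.left] [IsProper X.hom]
    (A : Over (Spec (CommRingCat.of k))) [GrpObj A] [IsCommMonObj A] [IsSeparated A.hom] [LocallyOfFiniteType A.hom]
    (A0 : Over (Spec (CommRingCat.of k))) [GrpObj A0] (e₀ : A0 ⟶ A) [IsMonHom e₀] [IsOpenImmersion e₀.left]
    [ConnectedSpace ↥A0.left]
    (T₀ : Over (Spec (CommRingCat.of k))) [GrpObj T₀] (i₀ : T₀ ⟶ A0) [IsMonHom i₀] [IsClosedImmersion i₀.left]
    (hT₀ : Red.IsTorus T₀)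
    (B₀ : Over (Spec (CommRingCat.of k))) [GrpObj B₀] [IsProper B₀.hom] [Smooth B₀.hom] [ConnectedSpace ↥B₀.left]
    (q₀ : A0 ⟶ B₀) [IsMonHom q₀] [Surjective q₀.left] [Flat q₀.left] (hker₀ : AlgGrp.IsKernel i₀ q₀)
    (u : X ⟶ A)
    (huniv : ∀ (G : Over (Spec (CommRingCat.of k))) [GrpObj G] [IsCommMonObj G] [IsSeparated G.hom] [LocallyOfFiniteType G.hom]
      (G0 : Over (Spec (CommRingCat.of k))) [GrpObj G0] (e : G0 ⟶ G) [IsMonHom e] [IsOpenImmersion e.left]
      [ConnectedSpace ↥G0.left]
      (T : Over (Spec (CommRingCat.of k))) [GrpObj T] (i : T ⟶ G0) [IsMonHom i] [IsClosedImmersion i.left]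
      (_ : Red.IsTorus T)
      (B : Over (Spec (CommRingCat.of k))) [GrpObj B] [IsProper B.hom] [Smooth B.hom] [ConnectedSpace ↥B.left]
      (q : G0 ⟶ B) [IsMonHom q] [Surjective q.left] [Flat q.left] (_ : AlgGrp.IsKernel i q)
      (φ : X ⟶ G), ∃! h : A ⟶ G, IsMonHom h ∧ u ≫ h = φ) :
    IsProper A0.hom := by
  classical
  haveI : LocallyOfFiniteType A0.hom := by rw [← Over.w e₀]; infer_instance
  haveI : IsLocallyNoetherian A0.left := LocallyOfFiniteType.isLocallyNoetherian A0.hom
  haveI : IrreducibleSpace A0.left := Groth.L25.Component.irreducibleSpace A0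
  haveI : CompactSpace A0.left := Groth.L25.Component.compactSpace A0
  haveI : Mono e₀ := Over.mono_of_mono_left e₀
  haveI : IsCommMonObj A0 := Groth.Agent.Poincare.Reducibility.isCommMonObj_of_mono e₀
  -- the neutral component is the connected component
  have hrange : connectedComponent (Groth.L25.Component.one A) ⊆ Set.range e₀.left := by
    obtain ⟨H0, gH, k0, hk0⟩ := Groth.L08.Chev.exists_idComp A
    haveI := hk0.openImm
    haveI := hk0.hom
    haveI := hk0.connectedSpace
    haveI : LocallyOfFiniteType H0.hom := by rw [← Over.w k0]; infer_instance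
    haveI : IsLocallyNoetherian H0.left := LocallyOfFiniteType.isLocallyNoetherian H0.hom
    haveI : IrreducibleSpace H0.left := Groth.L25.Component.irreducibleSpace H0
    obtain ⟨l, hle⟩ := hk0.exists_lift_hom (T := A0) e₀
    haveI : Mono k0 := Over.mono_of_mono_left k0
    haveI : IsMonHom (l ≫ k0) := by rw [hle]; infer_instance
    haveI : IsMonHom l := Groth.L08.Chev.isMonHom_of_comp l k0
    haveI : IsOpenImmersion l.left := by
      haveI : IsOpenImmersion (l.left ≫ k0.left) := by rw [← Over.comp_left, hle]; infer_instance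
      exact IsOpenImmersion.of_comp l.left k0.left
    haveI : QuasiCompact H0.hom := by
      haveI : CompactSpace H0.left := Groth.L25.Component.compactSpace H0
      exact (HasAffineProperty.iff_of_isAffine (P := @QuasiCompact)).2 inferInstance
    haveI : QuasiCompact A0.hom := (HasAffineProperty.iff_of_isAffine (P := @QuasiCompact)).2 inferInstance
    haveI : QuasiCompact l.left := Groth.L08.AbelianGrp.quasiCompact_left l
    haveI := Groth.L25.Translate.surjective_of_denseRange l
      (l.left.isOpenEmbedding.isOpen_range.dense ⟨_, ⟨Groth.L25.Component.one A0, rfl⟩⟩)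
    intro y hy
    rw [← hk0.range] at hy
    obtain ⟨b, rfl⟩ := hy
    obtain ⟨a, rfl⟩ := l.left.surjective b
    exact ⟨a, congr(($hle).left a).symm⟩
  -- a rational point and the span of the differences
  haveI : JacobsonSpace X.left := LocallyOfFiniteType.jacobsonSpace X.hom
  obtain ⟨p, -, hp⟩ := nonempty_inter_closedPoints (X := X.left) (Z := Set.univ) Set.univ_nonempty isOpen_univ.isLocallyClosed
  obtain ⟨x₀, -⟩ := Groth.L19.AlgGrpBasic.exists_point_of_closed (G := X) hp
  haveI := Groth.L25.GeomIrred.geometricallyIrreducible_of_isAlgClosed X.hom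
  haveI : IrreducibleSpace (X ⊗ X).left := Groth.L19.AlgGrpBasic.irreducibleSpace_tensor X X
  haveI : IsReduced (X ⊗ X).left := Groth.L08.Rosen.isReduced_tensor X X
  haveI : IsIntegral (X ⊗ X).left := isIntegral_of_irreducibleSpace_of_isReduced _
  haveI : IsProper (X ⊗ X).hom := by
    show IsProper (Limits.pullback.fst X.hom X.hom ≫ X.hom)
    infer_instance
  let w : X ⊗ X ⟶ A := (fst X X ≫ u) * (snd X X ≫ u)⁻¹
  have hw1 : lift x₀ x₀ ≫ w = 1 := by
    rw [MonObj.comp_mul, GrpObj.comp_inv, lift_fst_assoc, lift_snd_assoc, mul_inv_cancel]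
  have hwr : Set.range w.left ⊆ Set.range e₀.left := by
    refine Set.Subset.trans ?_ hrange
    refine (isPreconnected_range w.left.continuous).subset_connectedComponent ⟨(lift x₀ x₀).left (IsLocalRing.closedPoint k), ?_⟩
    rw [← Scheme.Hom.comp_apply, ← Over.comp_left, hw1, Hom.one_def, toUnit_unique (toUnit (𝟙_ _)) (𝟙 _), Category.id_comp]
    rfl
  let w' : X ⊗ X ⟶ A0 := Over.homMk (IsOpenImmersion.lift e₀.left w.left hwr) (by
    rw [← Over.w e₀, IsOpenImmersion.lift_fac_assoc, Over.w])
  have hw' : w' ≫ e₀ = w := Over.OverMorphism.ext (IsOpenImmersion.lift_fac _ _ _)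
  have hy0 : lift x₀ x₀ ≫ w' = 1 := by rw [← cancel_mono e₀, Category.assoc, hw', hw1, MonObj.one_comp]
  have hσ : (β_ X X).hom ≫ w' = w'⁻¹ := by
    rw [← cancel_mono e₀, Category.assoc, hw', GrpObj.inv_comp, hw', MonObj.comp_mul, GrpObj.comp_inv,
      braiding_hom_fst_assoc, braiding_hom_snd_assoc, _root_.mul_inv_rev, _root_.inv_inv]
  obtain ⟨E, gE, j, _, _, _, _, _, l, hl⟩ := Groth.L08.AlbLarge.exists_proper_subgroup w' (lift x₀ x₀) hy0 (β_ X X).hom hσ
  haveI : Mono j := Over.mono_of_mono_left j
  haveI : IsCommMonObj E := Groth.Agent.Poincare.Reducibility.isCommMonObj_of_mono j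
  -- the test group `E × ℤ`
  let S := Spec (CommRingCat.of k)
  let C := TwC.const S (Multiplicative ℤ)
  let G := E ⊗ C
  haveI : LocallyOfFiniteType C.hom :=
    IsZariskiLocalAtSource.sigmaDesc (P := @LocallyOfFiniteType) fun _ => inferInstance
  haveI : LocallyOfFiniteType G.hom := by
    show LocallyOfFiniteType (Limits.pullback.fst E.hom C.hom ≫ E.hom)
    infer_instance
  haveI : IsSeparated G.hom := Groth.L08.AbelianGrp.isSeparated G
  haveI hη : IsOpenImmersion (η[C] : 𝟙_ (Over S) ⟶ C).left := by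
    have e : (η[C] : 𝟙_ (Over S) ⟶ C) = TwC.pt S (Multiplicative ℤ) 1 := by
      have h := Groth.L08.AlbLarge.pt_one (S := S) (M := Multiplicative ℤ) (T := 𝟙_ (Over S))
      rw [toUnit_unique (toUnit (𝟙_ _)) (𝟙 _), Category.id_comp, Hom.one_def, toUnit_unique (toUnit (𝟙_ _)) (𝟙 _),
        Category.id_comp] at h
      exact h.symm
    rw [e]
    exact inferInstanceAs (IsOpenImmersion (Limits.Sigma.ι (fun _ : Multiplicative ℤ => S) 1))
  let e : E ⟶ G := lift (𝟙 E) 1
  haveI : IsMonHom (1 : E ⟶ C) := Groth.L08.AlbLarge.isMonHom_one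
  haveI : IsMonHom e := Groth.L08.Albanese.isMonHom_lift (𝟙 E) (1 : E ⟶ C)
  haveI : IsOpenImmersion e.left := by
    have he : e = (ρ_ E).inv ≫ (E ◁ η[C]) := by ext <;> simp [e, Hom.one_def]
    haveI : IsOpenImmersion (E ◁ η[C]).left :=
      MorphismProperty.of_isPullback (P := @IsOpenImmersion)
        ((Groth.L25.GrpBasics.isPullback_whiskerLeft E η[C]).map (Over.forget _)).flip hη
    haveI : IsIso (ρ_ E).inv.left := inferInstanceAs (IsIso ((Over.forget _).map (ρ_ E).inv))
    rw [he, Over.comp_left]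
    infer_instance
  let T := Red.DS S (Fin 0 → ℤ)
  haveI : IsIso T.hom := by
    haveI : IsIso (Red.diag (ULift.{u} ℤ) (Fin 0 → ℤ)).hom := by
      show IsIso (Spec.map (CommRingCat.ofHom (algebraMap (ULift.{u} ℤ) (MonoidAlgebra (ULift.{u} ℤ) (Multiplicative (Fin 0 → ℤ))))))
      haveI : IsIso (CommRingCat.ofHom (algebraMap (ULift.{u} ℤ) (MonoidAlgebra (ULift.{u} ℤ) (Multiplicative (Fin 0 → ℤ))))) := by
        haveI : Subsingleton (Fin 0 → ℤ) := inferInstance
        haveI : Unique (Multiplicative (Fin 0 → ℤ)) := ⟨⟨1⟩, fun a => Subsingleton.elim (α := Fin 0 → ℤ) a _⟩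
        refine (ConcreteCategory.isIso_iff_bijective _).2 ⟨fun a b h => ?_, fun f => ⟨f.coeff 1, MonoidAlgebra.ext (Finsupp.ext fun m => ?_)⟩⟩
        · have := congr(MonoidAlgebra.coeff $h 1)
          simpa [MonoidAlgebra.coe_algebraMap] using this
        · rw [Unique.eq_default m, Unique.eq_default (1 : Multiplicative (Fin 0 → ℤ))]
          simp [MonoidAlgebra.coe_algebraMap, Unique.eq_default (1 : Multiplicative (Fin 0 → ℤ))]
      infer_instance
    exact inferInstanceAs (IsIso (Limits.pullback.snd (Red.diag (ULift.{u} ℤ) (Fin 0 → ℤ)).hom _))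
  haveI : IsIso (toUnit T) := by
    haveI : IsIso ((Over.forget S).map (toUnit T)) := by
      show IsIso (toUnit T).left
      rw [show (toUnit T).left = T.hom from (Category.comp_id _).symm.trans (Over.w (toUnit T))]
      infer_instance
    exact isIso_of_reflects_iso (toUnit T) (Over.forget S)
  haveI : IsClosedImmersion η[E].left := Groth.L08.AbelianGrp.isClosedImmersion_one E
  haveI : IsClosedImmersion (toUnit T ≫ η[E]).left := by
    haveI : IsIso (toUnit T).left := inferInstanceAs (IsIso ((Over.forget _).map (toUnit T)))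
    rw [Over.comp_left]; infer_instance
  have hker : AlgGrp.IsKernel (toUnit T ≫ η[E]) (𝟙 E) :=
    IsPullback.of_vert_isIso ⟨Category.comp_id _⟩
  haveI : IsMonHom (toUnit T ≫ η[E]) := by
    rw [← Hom.one_def]; exact Groth.L08.AlbLarge.isMonHom_one
  haveI : Surjective (𝟙 E : E ⟶ E).left := inferInstanceAs (Surjective (𝟙 E.left))
  haveI : Flat (𝟙 E : E ⟶ E).left := inferInstanceAs (Flat (𝟙 E.left))
  let φ : X ⟶ G := lift (lift (𝟙 X) (toUnit X ≫ x₀) ≫ l) (toUnit X ≫ TwC.pt S (Multiplicative ℤ) (Multiplicative.ofAdd 1))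
  obtain ⟨h, ⟨hh, hhu⟩, -⟩ := huniv G E e T (toUnit T ≫ η[E]) (Groth.L01.Unip.isTorus_DS S 0) E (𝟙 E) hker φ
  haveI := hh
  -- the retraction
  let c : Multiplicative ℤ →* (𝟙_ (Over S) ⟶ A) := zpowersHom _ (x₀ ≫ u)
  haveI := Groth.L08.AlbLarge.isMonHom_ofPts c
  let g : G ⟶ A := (fst E C ≫ j ≫ e₀) * (snd E C ≫ Groth.L08.AlbLarge.ofPts c)
  haveI : IsMonHom g := Groth.Agent.Poincare.Reducibility.isMonHom_mul _ _
  have hφg : φ ≫ g = u := by
    rw [MonObj.comp_mul, lift_fst_assoc, lift_snd_assoc, Category.assoc, reassoc_of% hl, hw', Category.assoc,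
      Groth.L08.AlbLarge.pt_ofPts, MonObj.comp_mul, GrpObj.comp_inv, lift_fst_assoc, lift_snd_assoc, Category.id_comp]
    show u * ((toUnit X ≫ x₀) ≫ u)⁻¹ * (toUnit X ≫ ((x₀ ≫ u) ^ (1 : ℤ))) = u
    rw [zpow_one, Category.assoc, inv_mul_cancel_right]
  obtain ⟨r, -, hruniq⟩ := huniv A A0 e₀ T₀ i₀ hT₀ B₀ q₀ hker₀ u
  have hret : h ≫ g = 𝟙 A :=
    (hruniq (h ≫ g) ⟨inferInstance, by rw [reassoc_of% hhu, hφg]⟩).trans
      (hruniq (𝟙 A) ⟨inferInstance, Category.comp_id u⟩).symm
  have hsnd : e₀ ≫ h ≫ snd E C = 1 := by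
    let o := Groth.L25.Component.one A0
    haveI : IsMonHom (e₀ ≫ h ≫ snd E C) := inferInstance
    rw [Groth.L08.AlbLarge.eq_pt_of_preconnected (e₀ ≫ h ≫ snd E C) o]
    have : Groth.L08.AlbLarge.label (e₀ ≫ h ≫ snd E C) o = 1 := by
      have h1 := Groth.L08.AlbLarge.label_comp η[A0] (e₀ ≫ h ≫ snd E C) (IsLocalRing.closedPoint k)
      rw [IsMonHom.one_hom] at h1
      refine h1.symm.trans ?_
      have h2 := Groth.L08.AlbLarge.label_one (S := S) (M := Multiplicative ℤ) (T := 𝟙_ (Over S)) (IsLocalRing.closedPoint k)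
      rwa [Hom.one_def, toUnit_unique (toUnit (𝟙_ _)) (𝟙 _), Category.id_comp] at h2
    rw [this, Groth.L08.AlbLarge.pt_one]
  let m : A0 ⟶ E := e₀ ≫ h ≫ fst E C
  have hm : m ≫ j = 𝟙 A0 := by
    rw [← cancel_mono e₀, Category.id_comp]
    conv_rhs => rw [← Category.comp_id e₀, ← hret]
    simp only [g, MonObj.comp_mul]
    rw [reassoc_of% hsnd]
    simp only [m, Category.assoc, MonObj.one_comp, _root_.mul_one]
  haveI : IsSplitEpi j := IsSplitEpi.mk' ⟨m, hm⟩
  haveI : IsIso j := isIso_of_mono_of_isSplitEpi j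
  haveI : IsIso (inv j).left := inferInstanceAs (IsIso ((Over.forget _).map (inv j)))
  rw [← Over.w (inv j)]
  infer_instance

end Groth.Agent.S19978
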