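import Groth.Statements.S1998
import Groth.Agent.L05.Hensel.Uniq

set_option autoImplicit false
universe u
open EtAlg

namespace Groth.Agent.S1998

/-- Let (A_j, I_j) be a directed system of henselian pairs (ring maps A_j -> A_k for j ≤ k carrying I_j
into I_k). Then the direct limit A of the A_j together with the ideal generated by the images of the
I_j is a henselian pair. -/
theorem result {ι : Type u} [Preorder ι] [IsDirected ι (· ≤ ·)] [Nonempty ι]
    (G : ι → Type u) [∀ i, CommRing (G i)] (f : ∀ i j, i ≤ j → G i →+* G j)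
    [DirectedSystem G fun i j h => f i j h] (I : ∀ i, Ideal (G i))
    (hI : ∀ i j (h : i ≤ j), (I i).map (f i j h) ≤ I j) (hh : ∀ i, HenselianRing (G i) (I i)) :
    HenselianRing (Ring.DirectLimit G fun i j h => f i j h)
      (⨆ i, (I i).map (Ring.DirectLimit.of G (fun i j h => f i j h) i)) := by
  classical
  set L := Ring.DirectLimit G fun i j h => f i j h
  let ι' : ∀ i, G i →+* L := Ring.DirectLimit.of G (fun i j h => f i j h)
  set K : Ideal L := ⨆ i, (I i).map (ι' i)
  have hmono : ∀ i j, i ≤ j → (I i).map (ι' i) ≤ (I j).map (ι' j) := by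
    intro i j hij
    rw [show ι' i = (ι' j).comp (f i j hij) from RingHom.ext fun x =>
      (Ring.DirectLimit.of_f hij x).symm, ← Ideal.map_map]
    exact Ideal.map_mono (hI i j hij)
  have hdir : Directed (· ≤ ·) fun i => (I i).map (ι' i) := fun i j => by
    obtain ⟨k, hik, hjk⟩ := directed_of (· ≤ ·) i j
    exact ⟨k, hmono i k hik, hmono j k hjk⟩
  -- elements of `K` come from the ideals at some stage
  have hmem : ∀ x ∈ K, ∃ i, ∃ a ∈ I i, ι' i a = x := by
    intro x hx
    obtain ⟨i, hi⟩ := (Submodule.mem_iSup_of_directed _ hdir).mp hx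
    clear hx
    induction hi using Submodule.span_induction with
    | mem z hz => obtain ⟨a, ha, rfl⟩ := hz; exact ⟨i, a, ha, rfl⟩
    | zero => exact ⟨i, 0, zero_mem _, map_zero _⟩
    | add y z _ _ hy hz =>
      obtain ⟨i₁, a, ha, rfl⟩ := hy; obtain ⟨i₂, b, hb, rfl⟩ := hz
      obtain ⟨k, h₁, h₂⟩ := directed_of (· ≤ ·) i₁ i₂
      refine ⟨k, f i₁ k h₁ a + f i₂ k h₂ b, add_mem (hI _ _ h₁ (Ideal.mem_map_of_mem _ ha))
        (hI _ _ h₂ (Ideal.mem_map_of_mem _ hb)), ?_⟩
      rw [map_add]
      exact congrArg₂ (· + ·) (Ring.DirectLimit.of_f h₁ a) (Ring.DirectLimit.of_f h₂ b)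
    | smul c z _ hz =>
      obtain ⟨i₁, a, ha, rfl⟩ := hz
      obtain ⟨i₂, b, rfl⟩ := Ring.DirectLimit.exists_of c
      obtain ⟨k, h₁, h₂⟩ := directed_of (· ≤ ·) i₁ i₂
      refine ⟨k, f i₂ k h₂ b * f i₁ k h₁ a,
        Ideal.mul_mem_left _ _ (hI _ _ h₁ (Ideal.mem_map_of_mem _ ha)), ?_⟩
      rw [map_mul, smul_eq_mul]
      exact congrArg₂ (· * ·) (Ring.DirectLimit.of_f h₂ b) (Ring.DirectLimit.of_f h₁ a)
  refine Groth.L05.henselianRing_of_gabberRoots ⟨?_, ?_⟩
  · intro x hx
    rw [Ideal.mem_jacobson_bot]
    intro y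
    obtain ⟨i, a, ha, hax⟩ := hmem _ (K.mul_mem_right y hx)
    have := (Groth.L05.isUnit_of_sub_one_mem (hh i).jac (a := a + 1) (by simpa using ha)).map (ι' i)
    rwa [map_add, map_one, hax] at this
  · intro p n hn hp hmap
    have hd : ∀ m, p.coeff m - (Polynomial.X ^ n * (Polynomial.X - 1) : Polynomial L).coeff m ∈ K := by
      intro m
      rw [← Ideal.Quotient.eq, ← Polynomial.coeff_map, ← Polynomial.coeff_map, hmap]
      simp
    cases subsingleton_or_nontrivial L
    · exact ⟨1, by simp, Subsingleton.elim _ _⟩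
    have hK1 : Nontrivial (L ⧸ K) := by
      refine Ideal.Quotient.nontrivial_iff.mpr fun htop => ?_
      obtain ⟨i, c, hc, hc1⟩ := hmem 1 (htop ▸ Submodule.mem_top)
      have h0 : (0 : G i) + 1 = 1 := zero_add 1
      have hu := Groth.L05.isUnit_of_sub_one_mem (hh i).jac (a := 1 - c)
        (by simpa using (I i).neg_mem hc)
      have := hu.map (ι' i)
      rw [map_sub, map_one, hc1, sub_self] at this
      exact not_isUnit_zero this
    have hm1 : (Polynomial.X - 1 : Polynomial (L ⧸ K)).Monic := by
      simpa using Polynomial.monic_X_sub_C (1 : L ⧸ K)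
    have hm1' : (Polynomial.X - 1 : Polynomial L).Monic := by
      simpa using Polynomial.monic_X_sub_C (1 : L)
    have hdp : p.natDegree = n + 1 := by
      rw [← hp.natDegree_map (Ideal.Quotient.mk K), hmap,
        (Polynomial.monic_X_pow n).natDegree_mul hm1, Polynomial.natDegree_X_pow]
      simpa using Polynomial.natDegree_X_sub_C (1 : L ⧸ K)
    have hdX : (Polynomial.X ^ n * (Polynomial.X - 1) : Polynomial L).natDegree = n + 1 := by
      rw [(Polynomial.monic_X_pow n).natDegree_mul hm1', Polynomial.natDegree_X_pow]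
      simpa using Polynomial.natDegree_X_sub_C (1 : L)
    have hhigh : ∀ m, n < m → p.coeff m -
        (Polynomial.X ^ n * (Polynomial.X - 1) : Polynomial L).coeff m = 0 := fun m hm => by
      rcases eq_or_lt_of_le (Nat.succ_le_of_lt hm) with h' | h'
      · have e1 : p.coeff (n + 1) = 1 := hdp ▸ hp.coeff_natDegree
        have e2 : (Polynomial.X ^ n * (Polynomial.X - 1) : Polynomial L).coeff (n + 1) = 1 :=
          hdX ▸ ((Polynomial.monic_X_pow n).mul hm1').coeff_natDegree
        rw [show m = n + 1 from h'.symm, e1, e2, sub_self]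
      · rw [Polynomial.coeff_eq_zero_of_natDegree_lt (by omega),
          Polynomial.coeff_eq_zero_of_natDegree_lt (by omega), sub_zero]
    choose ix a ha hax using fun m => hmem _ (hd m)
    obtain ⟨k, hk⟩ := Finset.exists_le ((Finset.range (n + 1)).image ix)
    let b : ℕ → G k := fun m =>
      if h : m ∈ Finset.range (n + 1) then f (ix m) k (hk _ (Finset.mem_image_of_mem _ h)) (a m) else 0
    have hbI : ∀ m, b m ∈ I k := fun m => by
      simp only [b]
      split
      · exact hI _ _ _ (Ideal.mem_map_of_mem _ (ha m))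
      · exact zero_mem _
    let r : Polynomial (G k) := ∑ m ∈ Finset.range (n + 1), Polynomial.C (b m) * Polynomial.X ^ m
    let g : Polynomial (G k) := Polynomial.X ^ n * (Polynomial.X - 1) + r
    have : Nontrivial (G k) := (ι' k).domain_nontrivial
    have hm1'' : (Polynomial.X - 1 : Polynomial (G k)).Monic := by
      simpa using Polynomial.monic_X_sub_C (1 : G k)
    have hgm : g.Monic := by
      refine ((Polynomial.monic_X_pow n).mul hm1'').add_of_left ?_
      have hdd : (Polynomial.X ^ n * (Polynomial.X - 1) : Polynomial (G k)).degree =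
          ((n + 1 : ℕ) : WithBot ℕ) := by
        rw [Polynomial.degree_eq_natDegree ((Polynomial.monic_X_pow n).mul hm1'').ne_zero,
          (Polynomial.monic_X_pow n).natDegree_mul hm1'', Polynomial.natDegree_X_pow]
        congr 2
        simpa using Polynomial.natDegree_X_sub_C (1 : G k)
      rw [hdd]
      refine (Polynomial.degree_sum_le _ _).trans_lt ((Finset.sup_lt_iff (WithBot.bot_lt_coe _)).mpr ?_)
      intro m hm
      exact (Polynomial.degree_C_mul_X_pow_le m _).trans_lt
        (WithBot.coe_lt_coe.mpr (Finset.mem_range.mp hm))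
    have hrK : r.map (Ideal.Quotient.mk (I k)) = 0 := by
      simp only [r, Polynomial.map_sum, Polynomial.map_mul, Polynomial.map_C]
      exact Finset.sum_eq_zero fun m _ => by
        rw [Ideal.Quotient.eq_zero_iff_mem.mpr (hbI m), map_zero, zero_mul]
    have hgp : g.map (ι' k) = p := by
      have hr : r.map (ι' k) = p - Polynomial.X ^ n * (Polynomial.X - 1) := by
        have hdeg : (p - Polynomial.X ^ n * (Polynomial.X - 1)).natDegree < n + 1 :=
          Nat.lt_succ_of_le (Polynomial.natDegree_le_iff_coeff_eq_zero.mpr fun m hm => by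
            rw [Polynomial.coeff_sub]; exact hhigh m hm)
        conv_rhs => rw [Polynomial.as_sum_range_C_mul_X_pow' _ hdeg]
        simp only [r, Polynomial.map_sum, Polynomial.map_mul, Polynomial.map_C, Polynomial.map_pow,
          Polynomial.map_X]
        refine Finset.sum_congr rfl fun m hm => ?_
        simp only [b, dif_pos hm, Polynomial.coeff_sub]
        congr 2
        exact (Ring.DirectLimit.of_f _ (a m)).trans (hax m)
      simp [g, Polynomial.map_add, hr]
    obtain ⟨α, hα, hroot⟩ := (@Groth.L05.gabberRoots_of_henselianRing _ _ (I k) (hh k)).2 g n hn hgm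
      (by simp [g, hrK])
    refine ⟨ι' k α, ?_, ?_⟩
    · rw [← map_one (ι' k), ← map_sub]
      exact Ideal.mem_iSup_of_mem k (Ideal.mem_map_of_mem _ hα)
    · rw [← hgp]
      exact hroot.map

end Groth.Agent.S1998
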