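import Groth.Statements.S19986
import Groth.Agent.L07.GeomRk.DepthAlong
-- import your own Groth.Agent.* helpers here

set_option autoImplicit false
universe u
open CategoryTheory CategoryTheory.Limits AlgebraicGeometry TopologicalSpace Topology
open CInt

namespace Groth.Agent.S19986

/-- Let f : X ⟶ S be locally of finite presentation, Y a closed subset of X which is locally
constructible in X, and F a finitely presented quasi-coherent O_X-module flat over S. Then the
function on Y sending y to the depth of the fibre module F_{f(y)} along Y ∩ X_{f(y)} at y (with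
values in ℕ ∪ {∞}) is locally constructible on the topological space Y: every point of Y has an open
neighbourhood V in Y on which the function takes only finitely many values and on which every level
set is a constructible subset of V (a member of the Boolean algebra generated by the retrocompact
open subsets of V). -/
theorem result {X S : Scheme.{u}} (f : X ⟶ S)
    [LocallyOfFinitePresentation f] (Y : Closeds ↥X) (hY : IsLocallyConstructible (Y : Set ↥X))
    (F : X.Modules) (hqc : Coh.IsQCoh F) (hfp : CohB1.IsFP F) (hfl : FlatMod.IsFlatOver f F)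
    (y₀ : ↥(Y : Set ↥X)) :
    ∃ V : Opens ↥(Y : Set ↥X), y₀ ∈ V ∧
      ((fun y : ↥(Y : Set ↥X) => CInt.fiberDepthAlong f F (Y : Set ↥X) y.1) '' (V : Set ↥(Y : Set ↥X))).Finite ∧
      ∀ t : ℕ∞, IsConstructible
        {v : ↥V | CInt.fiberDepthAlong f F (Y : Set ↥X) v.1.1 = t} := by
  classical
  obtain ⟨U, N, hU, hyU, hN⟩ := (L02.FibDepth.pd f F hfp).exists_bdd y₀.1
  obtain ⟨W, hW, hyW, hWU⟩ := exists_isAffineOpen_mem_and_subset (x := y₀.1) (U := ⟨U, hU⟩) hyU
  let V : Opens ↥(Y : Set ↥X) := ⟨Subtype.val ⁻¹' (W : Set X), W.2.preimage continuous_subtype_val⟩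
  refine ⟨V, hyW, ?_, fun t => ?_⟩
  · refine Set.Finite.subset (((Finset.range (N + 2)).finite_toSet.image (Nat.cast : ℕ → ℕ∞)).insert ⊤) ?_
    rintro _ ⟨y, hyV, rfl⟩
    by_cases hb : y.1 ∈ Groth.L07.DepthAlong.bad f F hfp (Y : Set ↥X) (N + 1)
    · have h := (not_iff_not.2 (Groth.L07.DepthAlong.natCast_le_iff f F hfp (Y : Set ↥X) (N + 1) y.1)).2 (not_not.2 hb)
      rw [not_le] at h
      obtain ⟨k, hk⟩ := ENat.ne_top_iff_exists.1 (ne_top_of_lt h)
      refine Or.inr ⟨k, Finset.mem_coe.2 (Finset.mem_range.2 ?_), hk⟩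
      rw [← hk] at h
      have : k < N + 1 := by exact_mod_cast h
      omega
    · left
      refine iInf_eq_top.2 fun ⟨z, hzY, hzy, hp⟩ => ?_
      by_contra hne
      obtain ⟨k, hk⟩ := ENat.ne_top_iff_exists.1 hne
      have h1 := (Groth.L07.DepthAlong.natCast_le_fiberDepth_iff f F hfp z (k + 1)).not.1 (by
        rw [← hk]; exact_mod_cast Nat.not_succ_le_self k)
      obtain ⟨hzS, hlt⟩ := _root_.not_imp.1 h1
      have := ((hN z (hzy.mem_open hU (hWU hyV))).2 hzS).2
      exact hb ⟨z, hzY, hzy, hp, hzS, by omega⟩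
  let g : ↥V → ↥W := fun v => ⟨v.1.1, v.2⟩
  have hg : Topology.IsClosedEmbedding g := by
    refine ⟨Topology.IsEmbedding.of_comp (by fun_prop) continuous_subtype_val
      (show Topology.IsEmbedding (Subtype.val ∘ g) from
        (Topology.IsEmbedding.subtypeVal.comp Topology.IsEmbedding.subtypeVal :
          Topology.IsEmbedding ((Subtype.val : ↥(Y : Set ↥X) → ↥X) ∘ (Subtype.val : ↥V → ↥(Y : Set ↥X))))), ?_⟩
    convert Y.isClosed.preimage (continuous_subtype_val (p := fun x => x ∈ W))
    exact Set.Subset.antisymm (fun _ ⟨v, hv⟩ => hv ▸ v.1.2) fun w hw => ⟨⟨⟨w.1, hw⟩, w.2⟩, rfl⟩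
  haveI := isCompact_iff_compactSpace.1 hW.isCompact
  haveI : PrespectralSpace (W : Scheme.{u}) := inferInstance
  haveI : IsAffine (W : Scheme.{u}) := hW
  have hc : ∀ E : Set X, IsLocallyConstructible E → IsConstructible (X := ↥W) (Subtype.val ⁻¹' E) := fun E hE =>
    (hE.preimage_of_isOpenEmbedding W.ι.isOpenEmbedding).isConstructible (X := (W : Scheme.{u}))
  have hr : IsCompact (Set.range g)ᶜ := by
    rw [show Set.range g = (Subtype.val ⁻¹' (Y : Set ↥X) : Set ↥W) from
      Set.Subset.antisymm (fun _ ⟨v, hv⟩ => hv ▸ v.1.2) fun w hw => ⟨⟨⟨w.1, hw⟩, w.2⟩, rfl⟩]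
    exact Groth.L20.AdmSep.isCompact_of_isConstructible (hc _ hY).compl
  have key : ∀ n : ℕ, IsConstructible {v : ↥V | (n : ℕ∞) ≤ CInt.fiberDepthAlong f F (Y : Set ↥X) v.1.1} := fun n => by
    convert ((hc _ (Groth.L07.DepthAlong.isLocallyConstructible_bad f F hfp hY n)).compl).preimage_of_isClosedEmbedding hg hr
    exact Set.ext fun v => Groth.L07.DepthAlong.natCast_le_iff f F hfp (Y : Set ↥X) n v.1.1
  induction t using ENat.recTopCoe with
  | top =>
    convert key (N + 1) using 1
    ext v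
    refine ⟨fun h => le_of_le_of_eq le_top (h : _ = ⊤).symm, fun h => ?_⟩
    refine iInf_eq_top.2 fun ⟨z, hzY, hzy, hp⟩ => ?_
    by_contra hne
    obtain ⟨k, hk⟩ := ENat.ne_top_iff_exists.1 hne
    have h1 := (Groth.L07.DepthAlong.natCast_le_fiberDepth_iff f F hfp z (k + 1)).not.1 (by
      rw [← hk]; exact_mod_cast Nat.not_succ_le_self k)
    obtain ⟨hzS, hlt⟩ := _root_.not_imp.1 h1
    have := ((hN z (hzy.mem_open hU (hWU v.2))).2 hzS).2
    exact (Groth.L07.DepthAlong.natCast_le_iff f F hfp (Y : Set ↥X) (N + 1) v.1.1).1 h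
      ⟨z, hzY, hzy, hp, hzS, by omega⟩
  | coe n =>
    convert (key n).sdiff (key (n + 1)) using 1
    ext v
    simp only [Set.mem_ofPred_eq, Set.mem_sdiff]
    refine ⟨fun h => ⟨h.ge, by rw [h]; exact_mod_cast Nat.not_succ_le_self n⟩, fun ⟨h1, h2⟩ => ?_⟩
    refine le_antisymm (Order.le_of_lt_add_one ?_) h1
    exact_mod_cast not_le.1 h2

end Groth.Agent.S19986
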