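import Groth.Statements.S1999
import Groth.Agent.L05.Inertia.Tame

set_option autoImplicit false
universe u
open scoped Pointwise
open EtAlg

namespace Groth.Agent.S1999

/-- Parts (2)–(5) in the case of part (6): let A be a discrete valuation ring with fraction field K, L/K
a finite Galois extension with group G, B the integral closure of A in L, m a maximal ideal of B
whose residue field is separable over that of A, and e the ramification index of m over A. Let D be
the decomposition group (stabilizer of m), I the inertia group (elements acting trivially on B/m)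
and P the wild inertia group, here the elements of D acting trivially on B/m² (the description valid
in the separable residue field case). Then P ≤ I, P is normal in D, P is a p-group if the residue
characteristic is p > 0 and trivial if it is 0, and I/P is cyclic of order the prime-to-p part of e
and isomorphic to a subgroup of the e-th roots of unity of B/m — more precisely to the full group of
e-th roots of unity of B/m. -/
theorem result (A K L B : Type u) [CommRing A] [IsDomain A] [IsDiscreteValuationRing A]
    [CommRing B] [IsDomain B] [Field K] [Field L] [Algebra A K] [Algebra B L] [IsFractionRing A K] [IsFractionRing B L]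
    [Algebra A B] [Algebra K L] [Algebra A L] [IsScalarTower A K L] [IsScalarTower A B L] [IsIntegralClosure B A L]
    [FiniteDimensional K L] [IsGalois K L] (m : Ideal B) [m.IsMaximal]
    [Algebra.IsSeparable (A ⧸ m.comap (algebraMap A B)) (B ⧸ m)] :
    letI := IsIntegralClosure.MulSemiringAction A K L B
    let D : Subgroup (L ≃ₐ[K] L) := MulAction.stabilizer (L ≃ₐ[K] L) m
    let I : Subgroup (L ≃ₐ[K] L) := m.inertia (L ≃ₐ[K] L)
    let P : Subgroup (L ≃ₐ[K] L) := D ⊓ (m ^ 2).inertia (L ≃ₐ[K] L)
    let e : ℕ := Ideal.ramificationIdx' (IsLocalRing.maximalIdeal A) m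
    P ≤ I ∧ I ≤ D ∧ (P.subgroupOf D).Normal ∧
    (∀ p : ℕ, p.Prime → CharP (A ⧸ m.comap (algebraMap A B)) p → IsPGroup p P) ∧
    (CharZero (A ⧸ m.comap (algebraMap A B)) → P = ⊥) ∧
    (∀ [(P.subgroupOf I).Normal],
      IsCyclic (I ⧸ P.subgroupOf I) ∧
      (∀ p : ℕ, p.Prime → CharP (A ⧸ m.comap (algebraMap A B)) p → Nat.card (I ⧸ P.subgroupOf I) = e / p ^ e.factorization p) ∧
      (CharZero (A ⧸ m.comap (algebraMap A B)) → Nat.card (I ⧸ P.subgroupOf I) = e) ∧
      Nonempty (I ⧸ P.subgroupOf I ≃* ↥(rootsOfUnity e (B ⧸ m)))) := by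
  letI := IsIntegralClosure.MulSemiringAction A K L B
  intro D I P e
  haveI : IsDedekindDomain B := IsIntegralClosure.isDedekindDomain A K L B
  haveI : Module.Finite A B := IsIntegralClosure.finite A K L B
  haveI : IsGaloisGroup (L ≃ₐ[K] L) A B := IsGaloisGroup.of_isFractionRing _ A B K L
  haveI : FaithfulSMul (L ≃ₐ[K] L) B := IsGaloisGroup.faithful A
  haveI : Algebra.IsIntegral A B := Algebra.IsIntegral.of_finite A B
  have hAB : Function.Injective (algebraMap A B) := fun x y h =>
    IsFractionRing.injective A K ((algebraMap K L).injective (by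
      rw [← IsScalarTower.algebraMap_apply A K L, ← IsScalarTower.algebraMap_apply A K L,
        IsScalarTower.algebraMap_apply A B L, h, ← IsScalarTower.algebraMap_apply]))
  haveI : FaithfulSMul A B := (faithfulSMul_iff_algebraMap_injective A B).2 hAB
  haveI : Module.IsTorsionFree A B := inferInstance
  haveI : (m.comap (algebraMap A B)).IsMaximal := Ideal.isMaximal_comap_of_isIntegral_of_isMaximal m
  have hcomap : m.comap (algebraMap A B) = IsLocalRing.maximalIdeal A :=
    IsLocalRing.eq_maximalIdeal inferInstance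
  haveI : m.LiesOver (IsLocalRing.maximalIdeal A) := ⟨hcomap.symm⟩
  have hsep : ∀ q : Ideal A, q = m.comap (algebraMap A B) → ∀ [m.LiesOver q],
      Algebra.IsSeparable (A ⧸ q) (B ⧸ m) := by
    rintro q rfl _
    assumption
  haveI : Algebra.IsSeparable (A ⧸ IsLocalRing.maximalIdeal A) (B ⧸ m) := hsep _ hcomap.symm
  have hm0 : m ≠ ⊥ := by
    intro h
    refine IsDiscreteValuationRing.not_a_field A (le_bot_iff.1 fun a ha => ?_)
    rw [← hcomap, Ideal.mem_comap, h, Ideal.mem_bot] at ha
    exact hAB (by rw [ha, map_zero])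
  have hPI : P ≤ I := Groth.L05.Inertia.stabilizer_inf_inertia_sq_le
  have hID : I ≤ D := Ideal.inertia_le_stabilizer m
  have hpg : ∀ p : ℕ, p.Prime → CharP (A ⧸ m.comap (algebraMap A B)) p → IsPGroup p P := by
    intro p hp hc
    haveI : CharP (B ⧸ m) p := charP_of_injective_algebraMap (R := A ⧸ m.comap (algebraMap A B)) Ideal.algebraMap_quotient_injective p
    exact Groth.L05.Inertia.isPGroup_wild hp
  have hbot : CharZero (A ⧸ m.comap (algebraMap A B)) → P = ⊥ := by
    intro hc
    haveI : CharZero (B ⧸ m) := charZero_of_injective_algebraMap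
      (R := A ⧸ m.comap (algebraMap A B)) Ideal.algebraMap_quotient_injective
    exact Groth.L05.Inertia.wild_eq_bot
  refine ⟨hPI, hID, Groth.L05.Inertia.normal_wild m, hpg, hbot, ?_⟩
  intro hN
  letI : Field (B ⧸ m) := Ideal.Quotient.field m
  obtain ⟨π, θ, hπ, hgen, hθ⟩ := Groth.L05.Inertia.exists_tameChar (G := L ≃ₐ[K] L) m hm0
  have hker : θ.ker = P.subgroupOf I := by
    ext σ
    rw [MonoidHom.mem_ker, hθ, Subgroup.mem_subgroupOf]
    constructor
    · intro h
      exact ⟨hID σ.2, fun x => Groth.L05.Inertia.smul_sub_self_mem_sq (A := A) m hπ hgen σ.2 h x⟩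
    · intro h
      exact h.2 π
  let φ : I ⧸ P.subgroupOf I ≃* θ.range :=
    (QuotientGroup.quotientMulEquivOfEq hker.symm).trans (QuotientGroup.quotientKerEquivRange θ)
  have hcyc : IsCyclic (I ⧸ P.subgroupOf I) :=
    isCyclic_of_injective_ringHom (R := B ⧸ m)
      ((Units.coeHom _).comp (θ.range.subtype.comp φ.toMonoidHom))
      (Units.val_injective.comp (Subtype.val_injective.comp φ.injective))
  have hcardI : Nat.card I = e := by
    rw [Groth.L05.Inertia.card_inertia (R := A) (IsLocalRing.maximalIdeal A) m,
      Ideal.ramificationIdxIn_eq_ramificationIdx (IsLocalRing.maximalIdeal A) m (L ≃ₐ[K] L)]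
    exact (Ideal.ramificationIdx'_eq_ramificationIdx (IsLocalRing.maximalIdeal A) m
      (IsDiscreteValuationRing.not_a_field A)).symm
  have hmul : e = Nat.card P * Nat.card (I ⧸ P.subgroupOf I) := by
    rw [← hcardI, Subgroup.card_eq_card_quotient_mul_card_subgroup (P.subgroupOf I), mul_comm,
      Nat.card_congr (Subgroup.subgroupOfEquivOfLe hPI).toEquiv]
  haveI : Finite θ.range := Finite.of_equiv _ φ.toEquiv
  have hq : Nat.card (I ⧸ P.subgroupOf I) = Nat.card θ.range := Nat.card_congr φ.toEquiv
  have hp_case : ∀ p : ℕ, p.Prime → CharP (A ⧸ m.comap (algebraMap A B)) p →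
      ∃ a, e = p ^ a * Nat.card θ.range ∧ ¬ p ∣ Nat.card θ.range ∧
        Nat.card (I ⧸ P.subgroupOf I) = e / p ^ e.factorization p := by
    intro p hp hc
    haveI : Fact p.Prime := ⟨hp⟩
    haveI : CharP (B ⧸ m) p := charP_of_injective_algebraMap (R := A ⧸ m.comap (algebraMap A B)) Ideal.algebraMap_quotient_injective p
    obtain ⟨a, ha⟩ := IsPGroup.iff_card.1 (hpg p hp hc)
    have hnd := Groth.L05.Inertia.not_dvd_card_units_subgroup θ.range p
    have he : e = p ^ a * Nat.card θ.range := by rw [hmul, ha, hq]
    refine ⟨a, he, hnd, ?_⟩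
    have hfac : e.factorization p = a := by
      rw [he, Nat.factorization_mul (pow_ne_zero _ hp.ne_zero) Nat.card_pos.ne', Finsupp.add_apply,
        hp.factorization_pow, Finsupp.single_eq_same, Nat.factorization_eq_zero_of_not_dvd hnd,
        add_zero]
    rw [hfac, he, hq, Nat.mul_div_cancel_left _ (pow_pos hp.pos a)]
  have h0_case : CharZero (A ⧸ m.comap (algebraMap A B)) → Nat.card (I ⧸ P.subgroupOf I) = e := by
    intro hc
    rw [hmul, hbot hc, Subgroup.card_bot, one_mul]
  refine ⟨hcyc, fun p hp hc => ?_, h0_case, ?_⟩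
  · obtain ⟨a, -, -, h⟩ := hp_case p hp hc
    exact h
  have hrange : θ.range = rootsOfUnity e (B ⧸ m) := by
    obtain ⟨p, hc⟩ := CharP.exists (A ⧸ m.comap (algebraMap A B))
    rcases CharP.char_is_prime_or_zero (A ⧸ m.comap (algebraMap A B)) p with hp | h0
    · haveI : Fact p.Prime := ⟨hp⟩
      haveI : CharP (B ⧸ m) p := charP_of_injective_algebraMap (R := A ⧸ m.comap (algebraMap A B)) Ideal.algebraMap_quotient_injective p
      obtain ⟨a, he, -, -⟩ := hp_case p hp hc
      exact Groth.L05.Inertia.eq_rootsOfUnity θ.range e p a he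
    · subst h0
      haveI := CharP.charP_to_charZero (A ⧸ m.comap (algebraMap A B))
      haveI : CharZero (B ⧸ m) := charZero_of_injective_algebraMap
        (R := A ⧸ m.comap (algebraMap A B)) Ideal.algebraMap_quotient_injective
      refine Groth.L05.Inertia.eq_rootsOfUnity θ.range e 1 0 ?_
      rw [← h0_case inferInstance, hq, pow_zero, one_mul]
  exact ⟨φ.trans (MulEquiv.subgroupCongr hrange)⟩

end Groth.Agent.S1999
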