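import Groth.Statements.S19990
import Groth.Agent.S16720
import Groth.Agent.L24.Multi.SmoothBase
import Groth.Agent.L24.Multi.StackPoint
import Groth.Agent.L24.Hensel.Lift
import Groth.Agent.L24.St.SieveDescent
import Mathlib.FieldTheory.SeparableClosure

set_option autoImplicit false
universe u
open CategoryTheory CategoryTheory.Limits AlgebraicGeometry
open Gerb

namespace Groth.Agent.S19990

/-- Let R be a strictly henselian local ring, M a finite abelian group and D(M) the diagonalizable group
scheme over R with character group M. Let ℋ be an algebraic stack over R which is an fppf gerbe over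
Spec R, banded by D(M): the automorphism groups of its objects over the identity are identified with
the points of D(M), compatibly with all morphisms of ℋ. Then ℋ(R) is non-empty: ℋ has an object
lying over Spec R. The published statement is for a gerbe banded by an arbitrary finite linearly
reductive group scheme G over R, and its argument reduces, through rigidification by the connected
diagonalizable part of G, to the vanishing of the degree-two fppf cohomology of R with coefficients
in a product of groups of roots of unity, which the Kummer sequence gives; this row states the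
special case G = D(M) of a finite diagonalizable band, to which that Kummer argument applies
directly (bands by non-commutative groups are not available here). -/
theorem result (R : Type u) [CommRing R]
    [HenselianLocalRing R] [IsSepClosed (IsLocalRing.ResidueField R)] (M : Type) [AddCommGroup M] [Finite M]
    (ℋ : AlgSt.Cat (Spec (CommRingCat.of R))) (hℋ : AlgSt.IsAlgStack Scheme.fppfPrecoverage ℋ)
    (hger : Gerb.IsGerbe (QuotSh.J Scheme.fppfPrecoverage (Spec (CommRingCat.of R))) ℋ)
    (β : Gerb.Banding ℋ (yonedaGrpObj (Red.diag R M))) :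
    Nonempty (ℋ.p.Fiber (Over.mk (𝟙 (Spec (CommRingCat.of R))))) := by
  open Groth.L24.St in
  have hgrp := hℋ.isStack.1
  have hsm : AlgSt.LocQ (AlgSp.LocP @Smooth) (FibCat.toSelf ℋ) :=
    (Groth.Agent.S16720.result _ _ _ hℋ Groth.L24.St.isAlgStack_selfOver (FibCat.toSelf ℋ) hger.2).2
  obtain ⟨U, x, hx, hxs⟩ := hℋ.atlas
  have hU : Smooth U.hom := Groth.L24.Multi.smooth_hom_of_locQ hgrp hsm hx
  -- an object over a scheme meeting the closed point
  obtain ⟨C, hC, hobj⟩ := hger.2.1 (Over.mk (𝟙 (Spec (CommRingCat.of R))))
  obtain ⟨V, g, hg⟩ := Groth.L24.St.exists_family_of_mem_J hC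
  obtain ⟨hgC, -, -, w, hw⟩ := hg (IsLocalRing.closedPoint R)
  obtain ⟨η, γ, hγ⟩ := hobj _ hgC
  obtain ⟨zV, -, -⟩ := Groth.L24.St.exists_overCat_functor hgrp η
    (((FibCat.toSelf ℋ).w_obj η).symm.trans (@IsHomLift.domain_eq _ _ _ _ _ _ _ _ _ (g (IsLocalRing.closedPoint R)) γ hγ))
  let str := (V (IsLocalRing.closedPoint R)).left.fromSpecResidueField w ≫ (V (IsLocalRing.closedPoint R)).hom
  let r : Over.mk str ⟶ V (IsLocalRing.closedPoint R) :=
    Over.homMk ((V (IsLocalRing.closedPoint R)).left.fromSpecResidueField w) rfl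
  obtain ⟨L, _, _, -, -, v, -⟩ := Groth.L24.Multi.exists_stack_point hgrp hx hxs _ str
    (BasedFunctor.comp (AlgSt.overMap r) zV)
  -- the closed fibre of the atlas is not empty
  have hpt : ∃ u : ↥U.left, U.hom u = IsLocalRing.closedPoint R := by
    obtain ⟨t⟩ : Nonempty ↥(Spec (CommRingCat.of L)) := inferInstance
    refine ⟨v.left t, ?_⟩
    have h1 : U.hom (v.left t) = str (Spec.map (CommRingCat.ofHom (algebraMap _ L)) t) :=
      congrArg (fun f => f t) (Over.w v)
    rw [h1]
    show (V (IsLocalRing.closedPoint R)).hom ((V (IsLocalRing.closedPoint R)).left.fromSpecResidueField w _) = _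
    rw [Scheme.fromSpecResidueField_apply]
    exact (congrArg (fun f => f w) (Over.w (g (IsLocalRing.closedPoint R)))).symm.trans hw
  obtain ⟨u, hu⟩ := hpt
  let q : R →+* IsLocalRing.ResidueField R := IsLocalRing.residue R
  obtain ⟨c, hc⟩ : ∃ c, Spec.map (CommRingCat.ofHom q) c = IsLocalRing.closedPoint R := by
    obtain ⟨c⟩ : Nonempty (PrimeSpectrum (IsLocalRing.ResidueField R)) := inferInstance
    exact ⟨c, IsLocalRing.PrimeSpectrum.comap_residue R c⟩
  obtain ⟨z, -, -⟩ := Scheme.Pullback.exists_preimage_pullback (f := U.hom)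
    (g := Spec.map (CommRingCat.ofHom q)) u c (hu.trans hc.symm)
  have : Nonempty ↥(Limits.pullback U.hom (Spec.map (CommRingCat.ofHom q))) := ⟨z⟩
  have : Smooth (Limits.pullback.snd U.hom (Spec.map (CommRingCat.ofHom q))) := MorphismProperty.pullback_snd _ _ hU
  obtain ⟨L', _, _, _, _, s, hs⟩ := Groth.L24.Multi.exists_sep_section (k := IsLocalRing.ResidueField R)
    (Limits.pullback.snd U.hom (Spec.map (CommRingCat.ofHom q)))
  let e : IsLocalRing.ResidueField R ≃+* L' := RingEquiv.ofBijective (algebraMap _ L')
    ⟨FaithfulSMul.algebraMap_injective (IsLocalRing.ResidueField R) L', IsSepClosed.algebraMap_surjective (IsLocalRing.ResidueField R) L'⟩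
  let x₀ := Spec.map (CommRingCat.ofHom e.symm.toRingHom) ≫ s ≫ Limits.pullback.fst _ _
  have hx₀ : x₀ ≫ U.hom = Spec.map (CommRingCat.ofHom q) := by
    simp only [x₀, Category.assoc, Limits.pullback.condition]
    rw [← Category.assoc s, hs, ← Category.assoc, ← Spec.map_comp]
    rw [show CommRingCat.ofHom (algebraMap (IsLocalRing.ResidueField R) L') ≫ CommRingCat.ofHom e.symm.toRingHom = 𝟙 _ from
      CommRingCat.hom_ext (RingHom.ext fun a => e.symm_apply_apply a)]
    rw [Spec.map_id]
    exact Category.id_comp _
  have := Groth.L24.Hensel.henselianRing_of_ne_top (R := R) Groth.L24.Hensel.maximalIdeal_ne_top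
  obtain ⟨σ, hσ, -⟩ := Groth.L24.Hensel.exists_section_of_smooth Groth.L24.Hensel.maximalIdeal_ne_top U.hom x₀ hx₀
  exact ⟨⟨x.obj (Over.mk (Over.homMk σ hσ : Over.mk (𝟙 (Spec (CommRingCat.of R))) ⟶ U)), x.w_obj _⟩⟩

end Groth.Agent.S19990
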