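import Groth.Statements.S20000
import Groth.Agent.L26.Neron.GaDescent
import Mathlib.AlgebraicGeometry.SpreadingOut

set_option autoImplicit false
universe u
open Neron

namespace Groth.Agent.S20000

open CategoryTheory CategoryTheory.Limits AlgebraicGeometry
open MonoidalCategory CartesianMonoidalCategory Groth.L14.RankOne Groth.Agent.Neron.GaDescent
open scoped MonObj

open CategoryTheory AlgebraicGeometry in
/-- Let `κ` be an arbitrary field and `G`, `G''` smooth connected commutative group schemes of finite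
type over `κ`. Let `q : G → G''` be a homomorphism which is flat and surjective, and `i : 𝔾_a → G` a
homomorphism exhibiting the additive group as the kernel of `q` (so `0 → 𝔾_a → G → G'' → 0` is exact
in the fppf topology). If `G''` is unirational, i.e. admits a dominant `κ`-morphism from a nonempty
open subscheme of an affine space over `κ`, then so does `G`. (The published statement allows the
kernel to be any repeated extension of copies of `𝔾_a`; this row is the case of a single copy, from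
which the general case follows by induction on the length.) -/
theorem result
    (κ : Type u) [Field κ]
    (G G'' : Over (Spec (CommRingCat.of κ))) [GrpObj G] [IsCommMonObj G] [GrpObj G''] [IsCommMonObj G'']
    [Smooth G.hom] [LocallyOfFiniteType G.hom] [QuasiCompact G.hom] [ConnectedSpace G.left]
    [Smooth G''.hom] [LocallyOfFiniteType G''.hom] [QuasiCompact G''.hom] [ConnectedSpace G''.left]
    (q : G ⟶ G'') [IsMonHom q] [Flat q.left] (hq : Function.Surjective q.left.base)
    (i : Red.Ga (Spec (CommRingCat.of κ)) ⟶ G) [IsMonHom i] (hker : AlgGrp.IsKernel i q)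
    (huni : ∃ (n : ℕ) (V : (AffineSpace (ULift.{u} (Fin n)) (Spec (CommRingCat.of κ))).Opens)
        (ψ : (V : Scheme.{u}) ⟶ G''.left),
      (V : Set (AffineSpace (ULift.{u} (Fin n)) (Spec (CommRingCat.of κ)))).Nonempty ∧ DenseRange ψ.base ∧
      ψ ≫ G''.hom = V.ι ≫ (AffineSpace (ULift.{u} (Fin n)) (Spec (CommRingCat.of κ)) ↘ Spec (CommRingCat.of κ))) :
    ∃ (n : ℕ) (V : (AffineSpace (ULift.{u} (Fin n)) (Spec (CommRingCat.of κ))).Opens)
        (ψ : (V : Scheme.{u}) ⟶ G.left),
      (V : Set (AffineSpace (ULift.{u} (Fin n)) (Spec (CommRingCat.of κ)))).Nonempty ∧ DenseRange ψ.base ∧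
      ψ ≫ G.hom = V.ι ≫ (AffineSpace (ULift.{u} (Fin n)) (Spec (CommRingCat.of κ)) ↘ Spec (CommRingCat.of κ)) := by
  let k : CommRingCat.{u} := CommRingCat.of κ
  obtain ⟨n, V, ψ, hV, hψ, hψo⟩ := huni
  let A := AffineSpace (ULift.{u} (Fin n)) (Spec (CommRingCat.of κ))
  haveI : Nonempty ↥(V : Scheme.{u}) := hV.to_subtype
  haveI : IsIntegral (V : Scheme.{u}) := isIntegral_of_isOpenImmersion V.ι
  let η₀ := genericPoint ↥(V : Scheme.{u})
  let K := (V : Scheme.{u}).functionField
  let j : Spec (CommRingCat.of (K : Type u)) ⟶ Spec (CommRingCat.of κ) := (V : Scheme.{u}).fromSpecStalk η₀ ≫ V.ι ≫ A ↘ Spec (CommRingCat.of κ)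
  let y : Sp j K ⟶ G'' := Over.homMk ((V : Scheme.{u}).fromSpecStalk η₀ ≫ ψ) (by simp [j, hψo, A])
  obtain ⟨g, hg⟩ := hq (y.left (IsLocalRing.closedPoint (K : Type u)))
  obtain ⟨p, hp1, hp2⟩ := Scheme.Pullback.exists_preimage_pullback (f := q.left) (g := y.left) g _ hg
  let P := pullback q.left y.left
  let L := P.residueField p
  let φ : CommRingCat.of (K : Type u) ⟶ L := Spec.preimage (P.fromSpecResidueField p ≫ pullback.snd q.left y.left)
  have hφ : Spec.map φ = P.fromSpecResidueField p ≫ pullback.snd q.left y.left := Spec.map_preimage _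
  letI : Algebra (K : Type u) (L : Type u) := φ.hom.toAlgebra
  have hw : P.fromSpecResidueField p ≫ pullback.fst q.left y.left ≫ q.left = Spec.map φ ≫ y.left := by
    rw [hφ, Category.assoc, pullback.condition]
  let z : Sp j (L : Type u) ⟶ G := Over.homMk (P.fromSpecResidueField p ≫ pullback.fst q.left y.left) (by
    have := congrArg (· ≫ G''.hom) hw
    simp only [Category.assoc, Over.w, Over.w q] at this
    simp only [Over.mk_hom, Category.assoc] at this ⊢
    rw [show Spec.map (CommRingCat.ofHom (algebraMap (K : Type u) (K : Type u))) = 𝟙 _ from Spec.map_id _,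
      Category.id_comp] at this
    exact this)
  obtain ⟨x, hx⟩ := exists_lift q i hker j y z (Over.OverMorphism.ext (by
    show (P.fromSpecResidueField p ≫ pullback.fst q.left y.left) ≫ q.left = Spec.map φ ≫ y.left
    rw [Category.assoc, hw]))
  -- spreading out
  obtain ⟨U, hU, f, hf, hfG⟩ := spread_out_of_isGermInjective' (V.ι ≫ A ↘ Spec (CommRingCat.of κ)) G.hom (x := η₀) x.left
    (by simpa [j] using Over.w x)
  let η₁ : ↥(U : Scheme.{u}) := ⟨η₀, hU⟩
  haveI : Nonempty ↥(U : Scheme.{u}) := ⟨η₁⟩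
  haveI : IsIntegral (U : Scheme.{u}) := isIntegral_of_isOpenImmersion U.ι
  haveI : IsIso (U.ι.stalkMap η₁) := inferInstance
  have hfq : (U : Scheme.{u}).fromSpecStalk η₁ ≫ f ≫ q.left = (U : Scheme.{u}).fromSpecStalk η₁ ≫ U.ι ≫ ψ := by
    rw [← cancel_epi (Spec.map (inv (U.ι.stalkMap η₁)))]
    have h1 : x.left ≫ q.left = (V : Scheme.{u}).fromSpecStalk η₀ ≫ ψ := congrArg (fun t : Sp j K ⟶ G'' => t.left) hx
    rw [hf, ← Scheme.Opens.fromSpecStalkOfMem_ι U η₀ hU, Category.assoc, Category.assoc] at h1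
    simp only [Scheme.Opens.fromSpecStalkOfMem, Category.assoc] at h1 ⊢
    exact h1
  obtain ⟨U₁, hU₁, hU₁q⟩ := spread_out_unique_of_isGermInjective' _ _ hfq
  let V' : A.Opens := V.ι ''ᵁ (U.ι ''ᵁ U₁)
  let π : AffineSpace (ULift.{u} (Fin (n + 1))) (Spec (CommRingCat.of κ)) ⟶ A :=
    AffineSpace.reindex (fun m => ULift.up m.down.castSucc) _
  let W := π ⁻¹ᵁ V'
  let e : (U₁ : Scheme.{u}) ⟶ A := U₁.ι ≫ U.ι ≫ V.ι
  have hWr : Set.range (W.ι ≫ π) ⊆ Set.range e := by
    rintro _ ⟨w, rfl⟩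
    obtain ⟨v, ⟨u, hu, rfl⟩, hv⟩ := w.2
    exact ⟨⟨u, hu⟩, hv⟩
  let l : (W : Scheme.{u}) ⟶ U₁ := IsOpenImmersion.lift e (W.ι ≫ π) hWr
  have hl : l ≫ e = W.ι ≫ π := IsOpenImmersion.lift_fac _ _ _
  let T : Over (Spec (CommRingCat.of κ)) := Over.mk (W.ι ≫ AffineSpace (ULift.{u} (Fin (n + 1))) (Spec (CommRingCat.of κ)) ↘ _)
  let a : T ⟶ G := Over.homMk (l ≫ U₁.ι ≫ f) (by
    simp only [Category.assoc, hfG]
    show l ≫ U₁.ι ≫ U.ι ≫ V.ι ≫ A ↘ Spec (CommRingCat.of κ) = W.ι ≫ _
    have := congrArg (· ≫ A ↘ Spec (CommRingCat.of κ)) hl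
    simp only [e, Category.assoc] at this
    rw [this, AffineSpace.reindex_over])
  let last : ULift.{u} (Fin (n + 1)) := ULift.up (Fin.last n)
  let t : T ⟶ Red.Ga (Spec (CommRingCat.of κ)) := Groth.L25.GaPts.ptOfElt (W.ι.appTop (AffineSpace.coord _ last))
  let Ψ : T ⟶ G := a * (t ≫ i)
  -- points
  have key : ∀ (g : G.left) (v : (U₁ : Scheme.{u})), q.left g = ψ (U.ι (U₁.ι v)) → g ∈ Set.range Ψ.left := by
    intro g v hgv
    obtain ⟨p, hp1, hp2⟩ := Scheme.Pullback.exists_preimage_pullback (f := q.left) (g := U₁.ι ≫ U.ι ≫ ψ) g v hgv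
    let R := pullback q.left (U₁.ι ≫ U.ι ≫ ψ)
    let c := R.fromSpecResidueField p
    let X : Over (Spec (CommRingCat.of κ)) := Over.mk (c ≫ pullback.fst _ _ ≫ G.hom)
    let zg : X ⟶ G := Over.homMk (c ≫ pullback.fst _ _) (Category.assoc _ _ _)
    have hov : (c ≫ pullback.snd _ _) ≫ e ≫ A ↘ Spec (CommRingCat.of κ) = X.hom := by
      show _ = c ≫ pullback.fst _ _ ≫ G.hom
      rw [← Over.w q, pullback.condition_assoc]
      simp [e, hψo, A]
    let zs : X ⟶ G := Over.homMk ((c ≫ pullback.snd _ _) ≫ U₁.ι ≫ f) (by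
      simp only [e, hfG, Category.assoc] at hov ⊢
      exact hov)
    obtain ⟨d, hd⟩ := exists_ker q i hker (zs⁻¹ * zg) 1 (by
      rw [MonObj.mul_comp, GrpObj.inv_comp, MonObj.one_comp, inv_mul_eq_one]
      apply Over.OverMorphism.ext
      show ((c ≫ pullback.snd _ _) ≫ U₁.ι ≫ f) ≫ q.left = (c ≫ pullback.fst _ _) ≫ q.left
      simp only [Category.assoc, hU₁q, pullback.condition])
    let vec : ULift.{u} (Fin (n + 1)) → Γ(X.left, ⊤) := fun m =>
      Fin.lastCases (Red.gaFn d) (fun m' => ((c ≫ pullback.snd _ _) ≫ e).appTop (AffineSpace.coord _ ⟨m'⟩)) m.down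
    let h := AffineSpace.homOfVector X.hom vec
    have hπ : h ≫ π = (c ≫ pullback.snd _ _) ≫ e := by
      apply AffineSpace.hom_ext
      · rw [Category.assoc, AffineSpace.reindex_over, AffineSpace.homOfVector_over, Category.assoc, hov]
      · intro m
        rw [Scheme.Hom.comp_appTop]
        show h.appTop (π.appTop _) = _
        rw [AffineSpace.reindex_appTop_coord, AffineSpace.homOfVector_appTop_coord]
        simp [vec]
    have hhW : Set.range h ⊆ Set.range W.ι := by
      rintro _ ⟨x, rfl⟩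
      rw [Scheme.Opens.range_ι]
      show (h ≫ π) x ∈ V'
      rw [hπ]
      exact ⟨_, ⟨_, ((c ≫ pullback.snd _ _) x).2, rfl⟩, rfl⟩
    let hW := IsOpenImmersion.lift W.ι h hhW
    have hhWι : hW ≫ W.ι = h := IsOpenImmersion.lift_fac _ _ _
    let b : X ⟶ T := Over.homMk hW (by
      show hW ≫ W.ι ≫ _ = _
      rw [reassoc_of% hhWι, AffineSpace.homOfVector_over])
    have hb1 : b ≫ a = zs := by
      apply Over.OverMorphism.ext
      have : hW ≫ l = c ≫ pullback.snd _ _ := by
        rw [← cancel_mono e, Category.assoc, hl, reassoc_of% hhWι, hπ]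
      show hW ≫ l ≫ U₁.ι ≫ f = _
      rw [reassoc_of% this]
      simp [zs]
    have hb2 : b ≫ t = d := by
      apply Groth.L25.GaPts.gaFn_injective
      show Red.gaFn (b ≫ t) = Red.gaFn d
      rw [Groth.L25.GaPts.gaFn_comp, Groth.L25.GaPts.gaFn_ptOfElt]
      show (W.ι.appTop ≫ hW.appTop) _ = _
      rw [← Scheme.Hom.comp_appTop, hhWι, AffineSpace.homOfVector_appTop_coord]
      simp [vec, last]
    have hbΨ : b ≫ Ψ = zg := by
      rw [MonObj.comp_mul, hb1, reassoc_of% hb2, hd, div_one, mul_inv_cancel_left]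
    let cp := IsLocalRing.closedPoint (R.residueField p : Type u)
    refine ⟨b.left cp, ?_⟩
    show (b ≫ Ψ).left cp = g
    rw [hbΨ, ← hp1]
    show (pullback.fst q.left (U₁.ι ≫ U.ι ≫ ψ)) (c cp) = _
    exact congrArg _ (R.fromSpecResidueField_apply p cp)
  have hdU : DenseRange (U₁.ι ≫ U.ι ≫ ψ) := by
    have hd : DenseRange (U₁.ι ≫ U.ι) := by
      refine IsOpen.dense (U₁.ι ≫ U.ι).isOpenEmbedding.isOpen_range ?_
      exact ⟨η₀, ⟨⟨η₀, hU⟩, hU₁⟩, rfl⟩
    have := DenseRange.comp hψ hd ψ.continuous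
    exact this
  haveI : LocallyOfFinitePresentation q.left := by
    haveI : IsLocallyNoetherian G''.left := LocallyOfFiniteType.isLocallyNoetherian G''.hom
    haveI : LocallyOfFiniteType (q.left ≫ G''.hom) := by rw [Over.w]; infer_instance
    haveI : LocallyOfFiniteType q.left := locallyOfFiniteType_of_comp q.left G''.hom
    infer_instance
  haveI : UniversallyOpen q.left := UniversallyOpen.of_flat q.left
  have hΨ : DenseRange Ψ.left := by
    refine Dense.mono ?_ (hdU.preimage q.left.isOpenMap)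
    rintro g ⟨v, hv⟩
    exact key g v hv.symm
  haveI : Nonempty G.left := inferInstance
  obtain ⟨w⟩ : Nonempty ↥(W : Scheme.{u}) := hΨ.nonempty
  exact ⟨n + 1, W, Ψ.left, ⟨w.1, w.2⟩, hΨ, Over.w Ψ⟩

end Groth.Agent.S20000
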