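import Groth.Statements.S20003
import Groth.Agent.L29.GV.DualBound
import Groth.Agent.L29.GV.PhiShift
import Groth.Agent.L10.FMBC.Equiv
import Groth.Agent.S0341
import Groth.Agent.S16381
-- import your own Groth.Agent.* helpers here

set_option autoImplicit false
set_option linter.style.haveILetI false
set_option backward.defeqAttrib.useBackward true
set_option backward.isDefEq.respectTransparency false
set_option backward.isDefEq.respectTransparency.types false
universe u
open CategoryTheory CategoryTheory.Limits AlgebraicGeometry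
attribute [local instance] HasDerivedCategory.standard
open FMK

namespace Groth.Agent.S20003

/-- Let k be an algebraically closed field, X and Y proper schemes over k with structure morphisms a and
b, X with Cohen–Macaulay local rings and equidimensional of dimension d, Y with Gorenstein local
rings. Let Ra_* on D_QCoh have the right adjoint a^× (given as data with its adjunction), O an
object of D_QCoh(Spec k) isomorphic to the structure sheaf in degree 0, and ω_X = H^{−d}(a^×O) the
dualizing module of X; write RΔ(F) = RHom(F, ω_X). Let P be a cochain complex of modules on X ×_k Y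
defining a perfect object and P' a cochain complex representing its derived dual RHom(P, O_{X×Y});
for a kernel K write Φ_K = Rpr_{Y,*}(Lpr_X^*(−) ⊗^L K) and R^iΦ_K = H^i ∘ Φ_K, the derived functors
involved being assumed to exist. Let F be a cochain complex of O_X-modules defining a perfect object
which is GV with respect to P: R^iΦ_P F = 0 for i < 0 and, for i ≥ 0, the local ring of Y at every
point of the support of R^iΦ_P F has dimension ≥ i. Suppose that Φ_{P'}(RΔ F)[d] is isomorphic in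
D(O_Y) to a coherent O_Y-module G placed in degree 0 whose stalks are torsion-free
(non-zero-divisors of O_{Y,y} act injectively on G_y for every y). Then F is M-regular with respect
to P: for every i > 0, the local ring of Y at every point of the support of R^iΦ_P F has dimension ≥
i + 1. (The published statement asserts the equivalence of M-regularity with this torsion-freeness
and with an injectivity condition on a natural map; this row is the implication from
torsion-freeness, and takes the sheaf G as given rather than deducing that the transform is a sheaf.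
The published statement takes X and Y projective over k; this row takes them proper, the
first-syzygy step being local on Y.) -/
theorem result (k : Type u) [Field k] [IsAlgClosed k]
    (X Y : Scheme.{u}) (a : X ⟶ Spec (CommRingCat.of k)) (b : Y ⟶ Spec (CommRingCat.of k)) [IsProper a] [IsProper b]
    (hXcm : ∀ x : ↥X, LocCoh.IsCohenMacaulayLocalRing ↑(X.presheaf.stalk x))
    (hYg : ∀ y : ↥Y, LocCoh.IsGorensteinLocalRing ↑(Y.presheaf.stalk y))
    (d : ℕ) (hd : topologicalKrullDim ↥X = (d : WithBot ℕ∞))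
    (hXeq : ∀ Z ∈ irreducibleComponents ↥X, topologicalKrullDim ↥Z = (d : WithBot ℕ∞))
    [DCoh.HasRpush a] (ha : DCoh.RpushPreservesQCoh a)
    (adx : DCoh.DQCoh (Spec (CommRingCat.of k)) ⥤ DCoh.DQCoh X) (adj : DCoh.RpushQ a ha ⊣ adx)
    (O : DCoh.DQCoh (Spec (CommRingCat.of k)))
    (hO : Nonempty (O.obj ≅ DCoh.inD (Spec (CommRingCat.of k)) (Coh.structureModule (Spec (CommRingCat.of k)))))
    (P : CochainComplex (pullback a b).Modules ℤ) (hP : DCoh.IsPerfect (DCoh.toD (pullback a b) P))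
    [DCoh.HasLpull (pullback.fst a b)] [DCoh.HasLTensorCx P] [DCoh.HasRSheafHom P] [DCoh.HasRpush (pullback.snd a b)]
    (P' : CochainComplex (pullback a b).Modules ℤ) [DCoh.HasLTensorCx P']
    (hP' : Nonempty (DCoh.toD (pullback a b) P' ≅
      (DCoh.RSheafHom P).obj (DCoh.inD (pullback a b) (Coh.structureModule (pullback a b)))))
    (F : CochainComplex X.Modules ℤ) (hF : DCoh.IsPerfect (DCoh.toD X F)) [DCoh.HasLTensorCx F] [DCoh.HasRSheafHom F]
    (hGVneg : ∀ i : ℤ, i < 0 → IsZero (DCoh.HD ((FMK.phi a b P).obj (DCoh.toD X F)) i))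
    (hGV : ∀ (i : ℕ) (y : ↥Y), y ∈ CohB1.support (DCoh.HD ((FMK.phi a b P).obj (DCoh.toD X F)) (i : ℤ)) →
      ((i : ℕ) : WithBot ℕ∞) ≤ ringKrullDim ↑(Y.presheaf.stalk y))
    (G : Y.Modules) (hGc : Coh.IsCoh G)
    (hG : Nonempty (DCoh.inD Y G ≅ (shiftFunctor (DCoh.D Y) (d : ℤ)).obj ((FMK.phi a b P').obj
      ((DCoh.RSheafHom F).obj (DCoh.inD X (DCoh.HD (adx.obj O).obj (-(d : ℤ))))))))
    (htf : ∀ (y : ↥Y) (r : ↑(Y.presheaf.stalk y)), r ∈ nonZeroDivisors ↑(Y.presheaf.stalk y) →
      ∀ m : ↑(G.presheaf.stalk y), r • m = 0 → m = 0)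
    (i : ℕ) (hi : 0 < i) (y : ↥Y)
    (hy : y ∈ CohB1.support (DCoh.HD ((FMK.phi a b P).obj (DCoh.toD X F)) (i : ℤ))) :
    ((i + 1 : ℕ) : WithBot ℕ∞) ≤ ringKrullDim ↑(Y.presheaf.stalk y) := by
  open Groth.L00 Groth.L29.DC Groth.L29.BCAdj Groth.L29.GV in
  haveI := fun {V : Scheme.{u}} (F : CochainComplex V.Modules ℤ) => KFlat.hasLTensorCx F
  haveI := fun {V : Scheme.{u}} (F : CochainComplex V.Modules ℤ) => RHom.hasRSheafHom F
  haveI : IsLocallyNoetherian Y := LocallyOfFiniteType.isLocallyNoetherian b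
  haveI : CompactSpace Y := QuasiCompact.compactSpace_of_compactSpace b
  haveI : IsNoetherian Y := {}
  haveI : Flat a := Groth.L07.SyntOverField.flat_over_field a
  haveI : LocallyOfFinitePresentation a := LocallyOfFinitePresentation.iff_locallyOfFiniteType.mpr inferInstance
  have hYcm : ∀ y : ↥Y, LocCoh.IsCohenMacaulayLocalRing ↑(Y.presheaf.stalk y) := fun y =>
    haveI := hYg y
    Groth.Agent.S0341.result _
  obtain ⟨K, hKflat, ⟨eK⟩⟩ := Groth.L07.BvdB.DualHom.exists_kflat_rep ((FMK.phi a b P).obj (DCoh.toD X F))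
  have hKp : DCoh.IsPerfect (DCoh.toD Y K) :=
    isPerfect_of_iso eK.symm (Groth.L10.FMBC.isPerfect_phi a b P hP _ hF)
  obtain ⟨e⟩ := Groth.Agent.S16381.result k X Y a b hXcm hYcm d hd hXeq ha adx adj O hO P hP P' hP' F hF K ⟨eK⟩
  obtain ⟨sh⟩ := nonempty_phi_shift a b P'
    ((DCoh.RSheafHom F).obj (DCoh.inD X (DCoh.HD (adx.obj O).obj (-(d : ℤ))))) (d : ℤ)
  obtain ⟨g⟩ := hG
  let eD : (DCoh.RSheafHom K).obj (OD Y) ≅ DCoh.inD Y G := e ≪≫ sh ≪≫ g.symm
  obtain ⟨D, hD, ⟨dD⟩⟩ := Groth.L07.BvdB.DualHom.exists_kflat_rep ((DCoh.RSheafHom K).obj (OD Y))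
  obtain ⟨hDp, -⟩ := Groth.L10.DualNat.nonempty_RSheafHom_iso_LT K hKp D ⟨dD⟩
  obtain ⟨o⟩ := EvalMain.nonempty_O0_iso (X := Y)
  obtain ⟨σ⟩ := Groth.L10.DualNat.nonempty_LT_iso_RHom K D hKflat hKp
    ⟨dD ≪≫ (DCoh.RSheafHom K).mapIso o.symm⟩
  obtain ⟨u⟩ := Groth.L29.PushDual.nonempty_LT_unit K hKflat
  let biD : (FMK.phi a b P).obj (DCoh.toD X F) ≅ (DCoh.RSheafHom D).obj (OD Y) := eK.symm ≪≫ u.symm ≪≫ σ.app _
  let hH : ∀ j : ℤ, DCoh.HD (DCoh.toD Y D) j ≅ DCoh.HD (DCoh.inD Y G) j := fun j =>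
    (DerivedCategory.homologyFunctor Y.Modules j).mapIso (dD ≪≫ eD)
  have hlow : ∀ j : ℤ, j < 0 → IsZero (DCoh.HD (DCoh.toD Y D) j) := fun j hj =>
    (DerivedCategory.isZero_of_isGE (DCoh.inD Y G) 0 j hj).of_iso (hH j)
  let ε := (Groth.L00.Stk.F Y y).mapIso
    (hH 0 ≪≫ (DerivedCategory.singleFunctorCompHomologyFunctorIso Y.Modules 0).app G)
  have htf' : ∀ r ∈ nonZeroDivisors (Y.presheaf.stalk y),
      ∀ m : (DCoh.HD (DCoh.toD Y D) 0).presheaf.stalk y, r • m = 0 → m = 0 := by
    intro r hr m hm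
    have h1 : ε.hom m = 0 := htf y r hr (ε.hom m) ((map_smul ε.hom.hom r m).symm.trans (by
      rw [hm]; exact map_zero ε.hom.hom))
    exact (ConcreteCategory.bijective_of_isIso ε.hom).1 (h1.trans (map_zero ε.hom.hom).symm)
  by_contra hlt
  have hle : ringKrullDim ↑(Y.presheaf.stalk y) ≤ ((i : ℕ) : WithBot ℕ∞) := by
    obtain hb | ⟨m, hm⟩ : ringKrullDim ↑(Y.presheaf.stalk y) = ⊥ ∨
        ∃ m : ℕ∞, ringKrullDim ↑(Y.presheaf.stalk y) = m := by
      cases ringKrullDim ↑(Y.presheaf.stalk y) with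
      | bot => exact Or.inl rfl
      | coe m => exact Or.inr ⟨m, rfl⟩
    · exact absurd hb ringKrullDim_ne_bot
    · rw [hm, not_le] at hlt
      obtain ⟨n, rfl⟩ := WithTop.ne_top_iff_exists.1 (ne_top_of_lt (WithBot.coe_lt_coe.1 hlt))
      rw [hm]
      have h' : n < i + 1 := ENat.coe_lt_coe.1 (WithBot.coe_lt_coe.1 hlt)
      exact WithBot.coe_le_coe.2 (ENat.coe_le_coe.2 (by omega))
  refine notMem_support_dual_of_amp D hDp y (0 - ((i - 1 : ℕ) : ℤ))
    (exists_nhd_amp_torsionFree _ hDp 0 hlow y htf' i hle) (i : ℤ) (by omega) ?_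
  exact (Groth.L21.Mod.support_congr ((DerivedCategory.homologyFunctor Y.Modules (i : ℤ)).mapIso biD)).subset hy

end Groth.Agent.S20003
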