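import Groth.Statements.S20004
import Groth.Agent.L13.Wild.AutExtend

set_option autoImplicit false
universe u v w
open WildQuot

namespace Groth.Agent.S20004

/-- Let `A` be a complete regular local ring of Krull dimension at least `2` and prime characteristic
`p`; let `k` be a field with `k → A` mapping onto the residue field, such that `k` has no Galois
extension of degree `p`; let `G` be a group of order `p` acting on `A` by `k`-algebra automorphisms,
ramified precisely at the origin (for every non-maximal prime `P`, the inertia subgroup of `P` is
trivial). Let `R` be a `k`-algebra with an injective structure map `R → A` whose image is fixed by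
`G` (so `R ⊆ A^G`), with `A` finite over `R`. Galois extensions of fraction fields are expressed
through automorphism counts: since `A` and `A^G` are normal domains finite over `R`,
`Frac(A^G)/Frac(R)` is Galois exactly when `p` times the number of `k`-algebra automorphisms of
`A^G` fixing the image of `R` equals the rank `[Frac A : Frac R]` of `A` over `R`, and
`Frac(A)/Frac(R)` is Galois exactly when the number of `R`-algebra automorphisms of `A` equals that
rank. The row: the first equality implies the second. (The published statement assumes `R ⊆ A^G`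
finite with `Frac(A^G)/Frac(R)` Galois and concludes that `Frac(A)/Frac(R)` is Galois; here `R` is
taken to contain `k`, as the norm subrings of the source do.) -/
theorem result
    (p : ℕ) [Fact p.Prime] (A : Type u) [CommRing A] [IsRegularLocalRing A] [CharP A p]
    [IsAdicComplete (IsLocalRing.maximalIdeal A) A] (hdim : 2 ≤ ringKrullDim A)
    (k : Type v) [Field k] [Algebra k A]
    (hk : Function.Surjective (IsLocalRing.residue A ∘ algebraMap k A))
    (hkp : ∀ (L : Type v) [Field L] [Algebra k L], IsGalois k L → Module.finrank k L ≠ p)
    (G : Type w) [Group G] [Finite G] [MulSemiringAction G A] (hcard : Nat.card G = p)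
    [SMulCommClass G k A]
    (hram : ∀ P : Ideal A, P.IsPrime → P ≠ IsLocalRing.maximalIdeal A → P.inertia G = ⊥)
    (R : Type v) [CommRing R] [Algebra k R] [Algebra R A] [IsScalarTower k R A] [Module.Finite R A]
    (hRinj : Function.Injective (algebraMap R A))
    (hRG : ∀ (σ : G) (r : R), σ • algebraMap R A r = algebraMap R A r)
    (hgal : p * Nat.card {φ : FixedPoints.subalgebra k A G ≃ₐ[k] FixedPoints.subalgebra k A G //
        ∀ b : FixedPoints.subalgebra k A G, (b : A) ∈ Set.range (algebraMap R A) → (φ b : A) = b} =
      Module.finrank R A) :
    Nat.card (A ≃ₐ[R] A) = Module.finrank R A := by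
  classical
  have := Groth.L01.isDomain_of_regular A
  have hp : p.Prime := Fact.out
  have : IsDomain R := hRinj.isDomain
  have : FaithfulSMul R A := (faithfulSMul_iff_algebraMap_injective R A).2 hRinj
  let L := FractionRing A
  let K := FractionRing R
  letI := FractionRing.liftAlgebra R L
  have : Algebra.IsIntegral R A := Algebra.IsIntegral.of_finite R A
  have hrk : Module.finrank K L = Module.finrank R A := IsFractionRing.finrank_eq R K A L
  have hfd : Module.Finite K L := by
    refine Module.Finite.of_isLocalization R A (Rₚ := K) (Sₚ := L) (nonZeroDivisors R)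
  have hpos : 0 < Module.finrank R A := hrk ▸ Module.finrank_pos
  let F : (A ≃ₐ[R] A) → (L →ₐ[K] L) := fun e => (IsFractionRing.fieldEquivOfAlgEquivHom K L e).toAlgHom
  have hF : Function.Injective F := fun e e' h => IsFractionRing.fieldEquivOfAlgEquivHom_injective R A K L
    (AlgEquiv.ext fun x => AlgHom.congr_fun h x)
  have : Finite (A ≃ₐ[R] A) := Finite.of_injective F hF
  have hle : Nat.card (A ≃ₐ[R] A) ≤ Module.finrank R A :=
    hrk ▸ (Nat.card_le_card_of_injective F hF).trans (card_algHom_le_finrank K L L)
  refine le_antisymm hle ?_
  let S := {φ : FixedPoints.subalgebra k A G ≃ₐ[k] FixedPoints.subalgebra k A G //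
    ∀ b : FixedPoints.subalgebra k A G, (b : A) ∈ Set.range (algebraMap R A) → (φ b : A) = b}
  have : Finite S := by
    refine Nat.finite_of_card_ne_zero fun h => ?_
    rw [show Nat.card S = 0 from h, mul_zero] at hgal
    omega
  choose ψ hψ using fun s : S => Groth.L13.Wild.AutExtend.exists_extension hdim hk hkp hcard hram s.1
  have hG := Groth.L13.Wild.AutExtend.isGaloisGroup_invariants (k := k) hdim hcard hram
  have hfaith : FaithfulSMul G A := hG.faithful
  let Φ : G × S → (A ≃ₐ[R] A) := fun x =>
    AlgEquiv.ofRingEquiv (f := (MulSemiringAction.toRingEquiv G A x.1).trans (ψ x.2).toRingEquiv) fun r => by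
      show ψ x.2 (x.1 • algebraMap R A r) = algebraMap R A r
      rw [hRG]
      have hmem : algebraMap R A r ∈ FixedPoints.subalgebra k A G := fun g => hRG g r
      exact (hψ x.2 ⟨_, hmem⟩).trans (x.2.2 ⟨_, hmem⟩ ⟨r, rfl⟩)
  have hΦ : Function.Injective Φ := by
    rintro ⟨g, s⟩ ⟨g', s'⟩ h
    have h' : ∀ a : A, ψ s (g • a) = ψ s' (g' • a) := fun a => AlgEquiv.congr_fun h a
    have hs : s = s' := Subtype.ext (AlgEquiv.ext fun b => Subtype.ext (by
      rw [← hψ, ← hψ]
      conv_lhs => rw [← b.2 g]
      conv_rhs => rw [← b.2 g']
      exact h' b))
    subst hs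
    exact Prod.ext (eq_of_smul_eq_smul fun a : A => (ψ s).injective (h' a)) rfl
  have := Nat.card_le_card_of_injective Φ hΦ
  rw [Nat.card_prod, hcard, hgal] at this
  exact this

end Groth.Agent.S20004
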