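import Groth.Statements.S20010
import Mathlib.AlgebraicGeometry.AffineTransitionLimit
import Mathlib.CategoryTheory.Filtered.Final
import Mathlib.AlgebraicGeometry.Morphisms.QuasiSeparated

set_option autoImplicit false
universe u
open CategoryTheory CategoryTheory.Limits AlgebraicGeometry TopologicalSpace
open ModPair

namespace Groth.Agent.S20010

/-- Let (X_i) be a cofiltered system of schemes with affine transition morphisms such that X_{i₀} is
quasi-compact and quasi-separated for some index i₀, let X be its limit, and let {U_a ⟶ X} be a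
family of quasi-compact open immersions (open immersions of finite presentation) which is jointly
surjective (a covering family for the Zariski class). Then the covering descends: for some index i
there is a finite jointly surjective family {V_j ⟶ X_i}_{j < n} of quasi-compact open immersions
such that every V_j ×_{X_i} X is one of the U_a, i.e. for each j some U_{a_j} ⟶ X is the base change
of V_j ⟶ X_i along X ⟶ X_i. -/
theorem result {I : Type u} [SmallCategory I] [IsCofiltered I]
    (D : I ⥤ Scheme.{u}) (c : Cone D) (hc : IsLimit c)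
    [∀ (i j : I) (t : i ⟶ j), IsAffineHom (D.map t)] (i₀ : I) [CompactSpace (D.obj i₀)]
    [QuasiSeparatedSpace (D.obj i₀)] {ι : Type u} (U : ι → Scheme.{u}) (u : ∀ a, U a ⟶ c.pt)
    [∀ a, IsOpenImmersion (u a)] [∀ a, QuasiCompact (u a)] (hcov : ∀ x : c.pt, ∃ (a : ι) (y : U a), (u a).base y = x) :
    ∃ (i : I) (n : ℕ) (V : Fin n → Scheme.{u}) (v : ∀ j, V j ⟶ D.obj i) (a : Fin n → ι)
      (e : ∀ j, U (a j) ⟶ V j),
      (∀ j, IsOpenImmersion (v j) ∧ QuasiCompact (v j)) ∧
      (∀ x : D.obj i, ∃ (j : Fin n) (y : V j), (v j).base y = x) ∧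
      ∀ j, IsPullback (e j) (u (a j)) (v j) (c.π.app i) := by
  classical
  let F := Over.forget i₀ ⋙ D
  let c' : Cone F := c.whisker (Over.forget i₀)
  have hc' : IsLimit c' := (Functor.Initial.isLimitWhiskerEquiv (Over.forget i₀) c).symm hc
  haveI : ∀ {a b : Over i₀} (t : a ⟶ b), IsAffineHom (F.map t) := fun t => ‹∀ (i j : I) (t : i ⟶ j), IsAffineHom (D.map t)› _ _ t.left
  have hcpt : ∀ a : Over i₀, CompactSpace (F.obj a) := fun a =>
    QuasiCompact.compactSpace_of_compactSpace (D.map a.hom)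
  have hqs : ∀ a : Over i₀, QuasiSeparatedSpace (F.obj a) := fun a =>
    quasiSeparatedSpace_of_quasiSeparated (D.map a.hom)
  haveI := hcpt
  haveI := hqs
  haveI : CompactSpace c.pt := Scheme.compactSpace_of_isLimit F c' hc'
  have hU : ∀ b, IsCompact ((u b).opensRange : Set c.pt) := fun b => by
    haveI : CompactSpace (U b) := QuasiCompact.compactSpace_of_compactSpace (u b)
    exact isCompact_range (u b).continuous
  obtain ⟨s, hs⟩ := isCompact_univ.elim_finite_subcover (fun b => ((u b).opensRange : Set c.pt))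
    (fun b => (u b).opensRange.isOpen) (fun x _ => by
      obtain ⟨b, y, hy⟩ := hcov x
      exact Set.mem_iUnion.2 ⟨b, y, hy⟩)
  let a : Fin s.card → ι := fun j => (s.equivFin.symm j).1
  choose k W hWc hW using fun j => exists_preimage_eq F c' hc' ((u (a j)).opensRange) (hU (a j))
  obtain ⟨k₀, fk⟩ := IsCofiltered.inf_objs_exists (Finset.univ.image k)
  replace fk : ∀ j, k₀ ⟶ k j := fun j => (fk (by simp)).some
  have hcov' : c'.π.app k₀ ⁻¹ᵁ (⨆ j, F.map (fk j) ⁻¹ᵁ W j) = ⊤ := by
    simp_rw [Scheme.Hom.preimage_iSup, ← Scheme.Hom.comp_preimage, c'.w, hW]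
    refine top_le_iff.1 fun x hx => ?_
    obtain ⟨b, hb⟩ := Set.mem_iUnion.1 (hs hx)
    obtain ⟨hbs, hxb⟩ := Set.mem_iUnion.1 hb
    refine TopologicalSpace.Opens.mem_iSup.2 ⟨s.equivFin ⟨b, hbs⟩, ?_⟩
    show x ∈ (u (s.equivFin.symm (s.equivFin ⟨b, hbs⟩)).1).opensRange
    rw [Equiv.symm_apply_apply]
    exact hxb
  obtain ⟨m, fm, hm⟩ := exists_map_eq_top F c' hc' _ hcov'
  let V : Fin s.card → (F.obj m).Opens := fun j => F.map (fm ≫ fk j) ⁻¹ᵁ W j
  have hV : ∀ j, c.π.app m.left ⁻¹ᵁ V j = (u (a j)).opensRange := fun j => by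
    show c'.π.app m ⁻¹ᵁ F.map (fm ≫ fk j) ⁻¹ᵁ W j = _
    rw [← Scheme.Hom.comp_preimage, c'.w, hW]
  let e : ∀ j, U (a j) ⟶ (V j).toScheme := fun j =>
    ((u (a j)).isoOpensRange ≪≫ c.pt.isoOfEq (hV j).symm).hom ≫ c.π.app m.left ∣_ V j
  refine ⟨m.left, s.card, fun j => (V j).toScheme, fun j => (V j).ι, a, e,
    fun j => ⟨inferInstanceAs (IsOpenImmersion (V j).ι), ?_⟩, fun x => ?_, fun j => ?_⟩
  · haveI : QuasiSeparatedSpace (D.obj m.left) := hqs m
    haveI : CompactSpace (V j) :=
      isCompact_iff_compactSpace.1 (QuasiCompact.isCompact_preimage (f := F.map (fm ≫ fk j)) _ (W j).2 (hWc j))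
    haveI : CompactSpace (D.obj m.left) := hcpt m
    exact quasiCompact_of_compactSpace (V j).ι
  · have hx : x ∈ F.map fm ⁻¹ᵁ (⨆ j, F.map (fk j) ⁻¹ᵁ W j) := hm ▸ trivial
    rw [Scheme.Hom.preimage_iSup] at hx
    obtain ⟨j, hj⟩ := TopologicalSpace.Opens.mem_iSup.1 hx
    refine ⟨j, ⟨x, ?_⟩, rfl⟩
    show x ∈ F.map (fm ≫ fk j) ⁻¹ᵁ W j
    rwa [Functor.map_comp, Scheme.Hom.comp_preimage]
  · refine IsPullback.of_iso (isPullback_morphismRestrict (c.π.app m.left) (V j))
      ((u (a j)).isoOpensRange ≪≫ c.pt.isoOfEq (hV j).symm).symm (Iso.refl _) (Iso.refl _) (Iso.refl _) ?_ ?_ ?_ ?_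
    · exact (Category.comp_id _).trans (by simp [e])
    · simp [e]
    · exact (Category.comp_id _).trans (Category.id_comp _).symm
    · simp

end Groth.Agent.S20010
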