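import Groth.Statements.S20014
import Groth.Agent.L19.NormalSections
import Groth.Agent.L21.Curve.NormalConnected
import Mathlib.AlgebraicGeometry.Morphisms.FiniteType
import Mathlib.AlgebraicGeometry.Morphisms.Proper
-- import your own Groth.Agent.* helpers here

set_option autoImplicit false
universe u
open CategoryTheory CategoryTheory.Limits AlgebraicGeometry
open RatSing

namespace Groth.Agent.S20014

/-- A scheme whose ring of global functions is a domain is connected. -/
theorem connectedSpace_of_isDomain {Y : Scheme.{u}} [IsDomain Γ(Y, ⊤)] : ConnectedSpace Y := by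
  have hne : Nonempty Y := by
    by_contra h
    haveI := not_nonempty_iff.1 h
    exact not_subsingleton Γ(Y, ⊤) inferInstance
  refine connectedSpace_iff_clopen.mpr ⟨hne, fun C hC => ?_⟩
  let U : Bool → Y.Opens := fun b => if b then ⟨C, hC.2⟩ else ⟨Cᶜ, hC.1.isOpen_compl⟩
  let s : ∀ b, Γ(Y, U b) := fun b => if b then 1 else 0
  have hcomp : TopCat.Presheaf.IsCompatible Y.presheaf U s := by
    intro a b
    rcases a with _ | _ <;> rcases b with _ | _ <;> first | rfl |
      exact (by
        refine @Subsingleton.elim _ ?_ _ _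
        have he : (⟨Cᶜ, hC.1.isOpen_compl⟩ : Y.Opens) ⊓ ⟨C, hC.2⟩ = ⊥ := by ext x; simp
        first
          | (show Subsingleton Γ(Y, _); rw [show U false ⊓ U true = ⊥ from he]; infer_instance)
          | (show Subsingleton Γ(Y, _); rw [show U true ⊓ U false = ⊥ from (inf_comm _ _).trans he]; infer_instance))
  obtain ⟨g₀, hg₀, huniq⟩ := TopCat.Sheaf.existsUnique_gluing' Y.sheaf U ⊤ (fun b => homOfLE le_top)
    (fun x _ => TopologicalSpace.Opens.mem_iSup.2 (by
      by_cases hx : x ∈ C
      · exact ⟨true, hx⟩
      · exact ⟨false, hx⟩)) s hcomp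
  let g : Γ(Y, ⊤) := g₀
  have hg : ∀ b, (Y.presheaf.map (homOfLE (le_top : U b ≤ ⊤)).op).hom g = s b := hg₀
  have hgg : g * g = g := huniq _ fun b => by
    show (Y.presheaf.map (homOfLE (le_top : U b ≤ ⊤)).op).hom (g * g) = s b
    rw [map_mul, hg b]
    cases b <;> simp [s]
  rcases mul_right_eq_self₀.mp hgg with h | h
  · refine Or.inr (Set.eq_univ_of_forall fun x => by_contra fun hx => ?_)
    have h1 := hg false
    rw [h, map_one] at h1
    have h2 := congrArg (Y.presheaf.germ (U false) x hx) h1
    simp only [s, map_one, map_zero, if_true, if_false, Bool.false_eq_true] at h2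
    exact one_ne_zero (α := Y.presheaf.stalk x) (by first | exact h2 | exact h2.symm)
  · refine Or.inl (Set.eq_empty_of_forall_notMem fun x hx => ?_)
    have h1 := hg true
    rw [h, map_zero] at h1
    have h2 := congrArg (Y.presheaf.germ (U true) x hx) h1
    simp only [s, map_one, map_zero, if_true, if_false, Bool.false_eq_true] at h2
    exact one_ne_zero (α := Y.presheaf.stalk x) (by first | exact h2 | exact h2.symm)

/-- A ring isomorphic to an integrally closed domain is one. -/
theorem domain_closed_of_equiv {A B : Type u} [CommRing A] [CommRing B] (e : A ≃+* B) [IsDomain B]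
    [IsIntegrallyClosed B] : IsDomain A ∧ IsIntegrallyClosed A := by
  haveI : IsDomain A := e.toMulEquiv.isDomain B
  exact ⟨inferInstance, IsIntegrallyClosed.of_equiv e.symm⟩

/-- Let k be a field, X an integral k-scheme which is separated and of finite type over k, and f : X̃ →
X a proper morphism of k-schemes which is birational — an isomorphism over some nonempty open subset
of X — and for which O_X → f_*O_X̃ is an isomorphism (Γ(V, O_X) → Γ(f⁻¹V, O_X̃) bijective for every
open V of X). If X̃ is normal (every local ring an integrally closed domain), then X is normal. (In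
the text this is the last clause of a lemma whose other hypotheses — X̃ Cohen–Macaulay, vanishing of
the higher direct images of O_X̃ and of the dualizing sheaf — and whose standing assumption that k
is perfect of positive characteristic play no role in this clause; they are omitted here.) -/
theorem result (k : Type u) [Field k]
    (X Xt : Scheme.{u}) [X.Over (Spec (CommRingCat.of k))] [Xt.Over (Spec (CommRingCat.of k))]
    [IsIntegral X] [IsSeparated (X ↘ Spec (CommRingCat.of k))]
    [LocallyOfFiniteType (X ↘ Spec (CommRingCat.of k))] [QuasiCompact (X ↘ Spec (CommRingCat.of k))]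
    (f : Xt ⟶ X) (hf : f ≫ (X ↘ Spec (CommRingCat.of k)) = Xt ↘ Spec (CommRingCat.of k)) [IsProper f]
    (U : X.Opens) (hU : (U : Set X).Nonempty) (hbir : IsIso (f ∣_ U))
    (hfib : ∀ V : X.Opens, IsIso (f.app V))
    (hXt : Pi1.IsNormalScheme Xt) : Pi1.IsNormalScheme X := by
  intro x
  obtain ⟨V, hV, hxV, -⟩ := exists_isAffineOpen_mem_and_subset (x := x) (U := (⊤ : X.Opens)) trivial
  haveI : Nonempty V := ⟨⟨x, hxV⟩⟩
  let W := f ⁻¹ᵁ V
  haveI := hfib V
  haveI : IsDomain Γ(X, V) := IsIntegral.component_integral V
  haveI : IsDomain Γ(Xt, W) := (asIso (f.app V)).commRingCatIsoToRingEquiv.symm.toMulEquiv.isDomain _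
  haveI : IsDomain Γ(W.toScheme, ⊤) := W.topIso.commRingCatIsoToRingEquiv.toMulEquiv.isDomain _
  haveI : ConnectedSpace W.toScheme := connectedSpace_of_isDomain
  haveI : IsLocallyNoetherian X := LocallyOfFiniteType.isLocallyNoetherian (X ↘ Spec (CommRingCat.of k))
  haveI : IsLocallyNoetherian Xt := LocallyOfFiniteType.isLocallyNoetherian f
  haveI : IsLocallyNoetherian W.toScheme := LocallyOfFiniteType.isLocallyNoetherian W.ι
  haveI : CompactSpace W.toScheme := isCompact_iff_compactSpace.mp
    (f.isCompact_preimage hV.isCompact)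
  haveI : IsNoetherian W.toScheme := ⟨⟩
  have hn : ∀ z : W.toScheme, IsDomain (W.toScheme.presheaf.stalk z) ∧
      IsIntegrallyClosed (W.toScheme.presheaf.stalk z) := fun z => by
    haveI := (hXt (W.ι z)).1
    haveI := (hXt (W.ι z)).2
    exact domain_closed_of_equiv (asIso (W.ι.stalkMap z)).commRingCatIsoToRingEquiv.symm
  haveI : IsIntegral W.toScheme := Groth.L21.NormalTotal.isIntegral_of_connected fun z => (hn z).1
  haveI : Nonempty (⊤ : W.toScheme.Opens) := ⟨⟨Classical.arbitrary _, trivial⟩⟩
  haveI : IsIntegrallyClosed Γ(W.toScheme, ⊤) :=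
    Groth.L19.NormalSec.isIntegrallyClosed_sections (fun z => (hn z).2) ⊤
  haveI : IsIntegrallyClosed Γ(Xt, W) := IsIntegrallyClosed.of_equiv W.topIso.commRingCatIsoToRingEquiv
  haveI : IsIntegrallyClosed Γ(X, V) :=
    IsIntegrallyClosed.of_equiv (asIso (f.app V)).commRingCatIsoToRingEquiv.symm
  letI := X.presheaf.algebra_section_stalk (⟨x, hxV⟩ : ↥V)
  haveI := hV.isLocalization_stalk ⟨x, hxV⟩
  exact ⟨inferInstance, isIntegrallyClosed_of_isLocalization (X.presheaf.stalk x)
    (hV.primeIdealOf ⟨x, hxV⟩).asIdeal.primeCompl (Ideal.primeCompl_le_nonZeroDivisors _)⟩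

end Groth.Agent.S20014
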