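import Groth.Statements.S20016
import Groth.Agent.L22.FlatPullback
import Groth.Agent.L13.ModPair.Basic
import Mathlib.RingTheory.Smooth.IntegralClosure
import Mathlib.RingTheory.Localization.BaseChange

set_option autoImplicit false
universe u
open CategoryTheory AlgebraicGeometry TopologicalSpace Opposite
open ModPair

namespace Groth.Agent.S20016

open scoped TensorProduct in
/-- Integral closedness in a localization ascends along smooth maps. -/
theorem mem_range_of_smooth {R S Rf Sf : Type u} [CommRing R] [CommRing S] [Algebra R S] [Algebra.Smooth R S]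
    [CommRing Rf] [Algebra R Rf] (f : R) [IsLocalization.Away f Rf]
    [CommRing Sf] [Algebra S Sf] [IsLocalization.Away (algebraMap R S f) Sf]
    (h : ∀ b : Rf, IsIntegral R b → b ∈ Set.range (algebraMap R Rf))
    (y : Sf) (hy : IsIntegral S y) : y ∈ Set.range (algebraMap S Sf) := by
  haveI : IsLocalization.Away (algebraMap R S f) (S ⊗[R] Rf) :=
    IsLocalization.Away.tensor (R := R) (S := S) f Rf
  let e : Sf ≃ₐ[S] S ⊗[R] Rf := IsLocalization.algEquiv (Submonoid.powers (algebraMap R S f)) _ _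
  obtain ⟨z, hz⟩ := (TensorProduct.toIntegralClosure_bijective_of_smooth (R := R) (S := S) (B := Rf)).2
    ⟨e y, hy.map e⟩
  have hz' : e y ∈ Set.range (algebraMap S (S ⊗[R] Rf)) := by
    rw [show e y = (TensorProduct.toIntegralClosure R S Rf z : S ⊗[R] Rf) from congr_arg Subtype.val hz.symm]
    clear hz
    induction z with
    | zero => exact ⟨0, by simp⟩
    | add a b ha hb =>
      obtain ⟨u, hu⟩ := ha
      obtain ⟨v, hv⟩ := hb
      exact ⟨u + v, by rw [map_add, map_add, hu, hv]; rfl⟩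
    | tmul s b =>
      obtain ⟨r, hr⟩ := h b.1 b.2
      refine ⟨r • s, ?_⟩
      show (r • s) ⊗ₜ[R] (1 : Rf) = s ⊗ₜ[R] b.1
      rw [← hr, TensorProduct.smul_tmul, Algebra.smul_def, mul_one]
  obtain ⟨s, hs⟩ := hz'
  exact ⟨s, e.injective (by rw [e.commutes, hs])⟩


/-- Let (X, I_X) be a modulus pair — a scheme X with the quasi-coherent ideal sheaf I_X of an effective
Cartier divisor — with interior X° (the open complement of the support of I_X), and suppose O_X is
integrally closed in O_{X°}: for every affine open U of X, every section of O_X over U ∩ X° which is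
integral over Γ(U, O_X) along the restriction map is the restriction of a section over U. Let g : Y
⟶ X be an étale morphism and Y° = g⁻¹(X°). Then O_Y is integrally closed in O_{Y°}: for every affine
open V of Y, every section of O_Y over V ∩ Y° which is integral over Γ(V, O_Y) along the restriction
map is the restriction of a section over V. (The text does not spell out the phrase integrally
closed for sheaves; it is rendered here affine-locally through restriction maps.) -/
theorem result {X Y : Scheme.{u}}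
    (IX : X.IdealSheafData) (hX : BlowUp.IsEffCartierIdeal IX)
    (hint : ∀ U ∈ X.affineOpens, ∀ s : Γ(X, U ⊓ ModPair.interior IX),
      (X.presheaf.map (homOfLE (inf_le_left : U ⊓ ModPair.interior IX ≤ U)).op).hom.IsIntegralElem s →
        s ∈ Set.range (X.presheaf.map (homOfLE (inf_le_left : U ⊓ ModPair.interior IX ≤ U)).op).hom)
    (g : Y ⟶ X) [Etale g] :
    ∀ V ∈ Y.affineOpens, ∀ t : Γ(Y, V ⊓ g ⁻¹ᵁ ModPair.interior IX),
      (Y.presheaf.map (homOfLE (inf_le_left : V ⊓ g ⁻¹ᵁ ModPair.interior IX ≤ V)).op).hom.IsIntegralElem t →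
        t ∈ Set.range (Y.presheaf.map (homOfLE (inf_le_left : V ⊓ g ⁻¹ᵁ ModPair.interior IX ≤ V)).op).hom := by
  intro V hV t ht
  classical
  have hY := Groth.L22.Ideals.isEffCartier_comap_of_flat g hX
  haveI := Groth.L13.MP.quasiCompact_interior hY
  haveI := Groth.L13.MP.dominant_interior hY
  have hWeq : ModPair.interior (IX.comap g) = g ⁻¹ᵁ ModPair.interior IX := Groth.L13.MP.interior_comap IX g
  haveI : QuasiCompact (g ⁻¹ᵁ ModPair.interior IX).ι := hWeq ▸ inferInstance
  haveI : IsSchemeTheoreticallyDominant (g ⁻¹ᵁ ModPair.interior IX).ι := hWeq ▸ inferInstance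
  -- local preimages
  have key : ∀ y : V, ∃ (V' : Y.Opens) (hle : V' ≤ V) (s : Γ(Y, V')), y.1 ∈ V' ∧
      Y.presheaf.map (homOfLE (inf_le_left : V' ⊓ g ⁻¹ᵁ ModPair.interior IX ≤ V')).op s =
        Y.presheaf.map (homOfLE (inf_le_inf_right _ hle : V' ⊓ g ⁻¹ᵁ ModPair.interior IX ≤ V ⊓ g ⁻¹ᵁ ModPair.interior IX)).op t := by
    intro y
    obtain ⟨U, hyU, f, hf, hfI, -⟩ := Groth.L22.Ideals.exists_generator hX (g.base y.1)
    obtain ⟨V', hV', hyV', hsub⟩ := exists_isAffineOpen_mem_and_subset (x := y.1) (U := V ⊓ g ⁻¹ᵁ U.1)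
      ⟨y.2, hyU⟩
    have hleV : V' ≤ V := hsub.trans inf_le_left
    have hleU : V' ≤ g ⁻¹ᵁ U.1 := hsub.trans inf_le_right
    have hU0 : U.1 ⊓ ModPair.interior IX = X.basicOpen f := Groth.L13.MP.interior_inf_eq_basicOpen hfI
    let φ := (g.appLE U.1 V' hleU).hom
    have hV0 : V' ⊓ g ⁻¹ᵁ ModPair.interior IX = Y.basicOpen (g.appLE U.1 V' hleU f) := by
      rw [Scheme.Hom.appLE, CommRingCat.comp_apply, Scheme.basicOpen_res, ← Scheme.preimage_basicOpen,
        ← hU0, Scheme.Hom.preimage_inf, ← inf_assoc, inf_eq_left.2 hleU]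
    have hsm : φ.Smooth := g.smooth_appLE U.2 hV' hleU
    letI := φ.toAlgebra
    haveI : Algebra.Smooth Γ(X, U.1) Γ(Y, V') := RingHom.smooth_algebraMap.1 hsm
    let rX := X.presheaf.map (homOfLE (inf_le_left : U.1 ⊓ ModPair.interior IX ≤ U.1)).op
    let rY := Y.presheaf.map (homOfLE (inf_le_left : V' ⊓ g ⁻¹ᵁ ModPair.interior IX ≤ V')).op
    letI := rX.hom.toAlgebra
    letI := rY.hom.toAlgebra
    haveI : IsLocalization.Away f Γ(X, U.1 ⊓ ModPair.interior IX) :=
      U.2.isLocalization_of_eq_basicOpen f (homOfLE inf_le_left) hU0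
    haveI : IsLocalization.Away (algebraMap Γ(X, U.1) Γ(Y, V') f) Γ(Y, V' ⊓ g ⁻¹ᵁ ModPair.interior IX) :=
      hV'.isLocalization_of_eq_basicOpen _ (homOfLE inf_le_left) hV0
    obtain ⟨s, hs⟩ := mem_range_of_smooth (R := Γ(X, U.1)) (S := Γ(Y, V'))
      (Rf := Γ(X, U.1 ⊓ ModPair.interior IX)) (Sf := Γ(Y, V' ⊓ g ⁻¹ᵁ ModPair.interior IX)) f
      (fun b hb => hint U.1 U.2 b hb) _ (show IsIntegral Γ(Y, V')
        (Y.presheaf.map (homOfLE (inf_le_inf_right _ hleV : V' ⊓ g ⁻¹ᵁ ModPair.interior IX ≤ V ⊓ g ⁻¹ᵁ ModPair.interior IX)).op t) from by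
        obtain ⟨p, hp, hp'⟩ := ht
        refine ⟨p.map (Y.presheaf.map (homOfLE hleV).op).hom, hp.map _, ?_⟩
        rw [Polynomial.eval₂_map]
        have hcomp : (rY.hom).comp (Y.presheaf.map (homOfLE hleV).op).hom =
            (Y.presheaf.map (homOfLE (inf_le_inf_right _ hleV : V' ⊓ g ⁻¹ᵁ ModPair.interior IX ≤ V ⊓ g ⁻¹ᵁ ModPair.interior IX)).op).hom.comp
              (Y.presheaf.map (homOfLE (inf_le_left : V ⊓ g ⁻¹ᵁ ModPair.interior IX ≤ V)).op).hom := by
          rw [← CommRingCat.hom_comp, ← CommRingCat.hom_comp, ← Functor.map_comp, ← Functor.map_comp]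
          rfl
        rw [RingHom.algebraMap_toAlgebra, hcomp, ← Polynomial.hom_eval₂, hp', map_zero])
    exact ⟨V', hleV, s, hyV', hs⟩
  choose V' hle s hy hs using key
  -- the local preimages agree
  have hcompat : TopCat.Presheaf.IsCompatible Y.sheaf.1 V' s := by
    intro a b
    refine sub_eq_zero.1 (Groth.L13.MP.eq_zero_of_res (W := g ⁻¹ᵁ ModPair.interior IX)
      (Y.presheaf.map (homOfLE (inf_le_left : V' a ⊓ V' b ≤ V' a)).op (s a) -
        Y.presheaf.map (homOfLE (inf_le_right : V' a ⊓ V' b ≤ V' b)).op (s b)) fun y hy' hyW => ?_)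
    have ea := congr_arg (Y.presheaf.germ _ y (show y ∈ V' a ⊓ g ⁻¹ᵁ ModPair.interior IX from ⟨hy'.1, hyW⟩)) (hs a)
    have eb := congr_arg (Y.presheaf.germ _ y (show y ∈ V' b ⊓ g ⁻¹ᵁ ModPair.interior IX from ⟨hy'.2, hyW⟩)) (hs b)
    rw [Y.presheaf.germ_res_apply, Y.presheaf.germ_res_apply] at ea eb
    rw [map_sub, sub_eq_zero]
    change Y.presheaf.germ _ y hy' (Y.presheaf.map _ (s a)) = Y.presheaf.germ _ y hy' (Y.presheaf.map _ (s b))
    rw [Y.presheaf.germ_res_apply, Y.presheaf.germ_res_apply]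
    exact ea.trans eb.symm
  obtain ⟨σ, hσ, -⟩ := Y.sheaf.existsUnique_gluing' V' V (fun a => homOfLE (hle a))
    (fun y hyV => TopologicalSpace.Opens.mem_iSup.2 ⟨⟨y, hyV⟩, hy ⟨y, hyV⟩⟩) s hcompat
  refine ⟨σ, TopCat.Presheaf.section_ext Y.sheaf _ _ t fun y hy' => ?_⟩
  have e := congr_arg (Y.presheaf.germ _ y (show y ∈ V' ⟨y, hy'.1⟩ ⊓ g ⁻¹ᵁ ModPair.interior IX from ⟨hy _, hy'.2⟩)) (hs ⟨y, hy'.1⟩)
  rw [Y.presheaf.germ_res_apply, Y.presheaf.germ_res_apply, ← hσ ⟨y, hy'.1⟩] at e
  change Y.presheaf.germ _ y hy' (Y.presheaf.map _ σ) = Y.presheaf.germ _ y hy' t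
  rw [Y.presheaf.germ_res_apply]
  refine Eq.trans ?_ e
  exact (Y.presheaf.germ_res_apply (homOfLE (hle ⟨y, hy'.1⟩)) y (hy _) σ).symm

end Groth.Agent.S20016
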