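import Groth.Statements.S20017
import Groth.Agent.L09.NormalExt
import Groth.Agent.L09.OverS
import Groth.Agent.L09.TorsorSch
import Groth.Agent.L09.GenericSection
import Groth.Agent.L23.AffineMor
import Groth.Agent.L23.Descent

set_option autoImplicit false
universe u
open CategoryTheory AlgebraicGeometry
open NonAbH1

open MonoidalCategory CartesianMonoidalCategory Groth.L09.TorsorPts Groth.L09

set_option linter.style.haveILetI false
set_option backward.isDefEq.respectTransparency.types false

namespace Groth.Agent.S20017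

lemma equivalence_equivIso {S : Scheme.{u}} (G : Over S) [GrpObj G] (K : Precoverage Scheme.{u}) :
    Equivalence (fun P Q : TorsorSch G K => Nonempty (EquivIso P.act Q.act)) where
  refl P := ⟨⟨Iso.refl _, by simp⟩⟩
  symm := by
    rintro P Q ⟨e⟩
    refine ⟨⟨e.iso.symm, ?_⟩⟩
    show Q.act.act ≫ e.iso.inv = (G ◁ e.iso.inv) ≫ P.act.act
    rw [Iso.comp_inv_eq, Category.assoc, e.comm, ← Category.assoc, ← MonoidalCategory.whiskerLeft_comp,
      Iso.inv_hom_id, MonoidalCategory.whiskerLeft_id, Category.id_comp]
  trans := by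
    rintro P Q T ⟨e⟩ ⟨e'⟩
    refine ⟨⟨e.iso ≪≫ e'.iso, ?_⟩⟩
    rw [Iso.trans_hom, reassoc_of% e.comm, e'.comm, MonoidalCategory.whiskerLeft_comp,
      Category.assoc]

/-- Let X be a normal integral scheme (integral, with every local ring integrally closed), G a group
scheme over X whose structure morphism is finite and flat, and U ⊆ X a dense open subscheme. Then
the restriction map H¹(X, G) → H¹(U, G|_U) on classes of fppf G-torsors — X-schemes with a G-action
which are pseudo-torsors and acquire sections on the members of some fppf covering family, up to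
equivariant isomorphism — given by base change along the open immersion U → X, is injective. (G is
not assumed commutative; injectivity is that of a map of pointed sets.) -/
theorem result
    (X : Scheme.{u}) [AlgebraicGeometry.IsIntegral X] (hX : Pi1.IsNormalScheme X)
    (G : Over X) [GrpObj G] [IsFinite G.hom] [Flat G.hom]
    (U : X.Opens) (hU : Dense (U : Set X)) :
    Function.Injective (NonAbH1.H1Sch.bcMap U.ι G Scheme.fppfPrecoverage) := by
  intro p q h
  induction p using Quot.ind with | _ P => ?_
  induction q using Quot.ind with | _ Q => ?_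
  obtain ⟨e⟩ := ((equivalence_equivIso _ _).eqvGen_iff).mp (Quot.eqvGen_exact h)
  apply Quot.sound
  haveI : Nonempty U := by
    obtain ⟨x, hx⟩ := hU.nonempty
    exact ⟨⟨x, hx⟩⟩
  have hPt : NonAbH1.IsTorsorFor Scheme.fpqcPrecoverage P.act :=
    ⟨P.isTorsor.1, P.isTorsor.2.imp fun R hR =>
      ⟨Scheme.fppfPrecoverage_le_fpqcPrecoverage _ hR.1, hR.2⟩⟩
  have hQt : NonAbH1.IsTorsorFor Scheme.fpqcPrecoverage Q.act :=
    ⟨Q.isTorsor.1, Q.isTorsor.2.imp fun R hR =>
      ⟨Scheme.fppfPrecoverage_le_fpqcPrecoverage _ hR.1, hR.2⟩⟩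
  haveI := Groth.L25.Actions.descendsAlong_flat_fpqc.{u}
  haveI : Flat P.X.hom := Groth.L09.TorsorSch.of_grp @Flat P.act hPt inferInstance
  haveI : Surjective P.X.hom := Groth.L09.TorsorSch.of_grp @Surjective P.act hPt
    (Groth.L25.Actions.surjective_grp G)
  haveI : IsAffineHom P.X.hom :=
    Groth.L09.TorsorSch.of_grp @IsAffineHom P.act hPt inferInstance
  haveI : IsAffineHom Q.X.hom :=
    Groth.L09.TorsorSch.of_grp @IsAffineHom Q.act hQt inferInstance
  haveI : UniversallyClosed P.X.hom :=
    Groth.L09.TorsorSch.of_grp @UniversallyClosed P.act hPt inferInstance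
  haveI : UniversallyClosed Q.X.hom :=
    Groth.L09.TorsorSch.of_grp @UniversallyClosed Q.act hQt inferInstance
  let k : NormalExt.gen X ⟶ Over.mk U.ι :=
    Over.homMk (GenericSection.genOf U) (IsOpenImmersion.lift_fac _ _ _)
  obtain ⟨f, hf⟩ := NormalExt.exists_equivariant hX (aP := P.act) (aQ := Q.act) P.isTorsor.1
    ((P.X ◁ k) ≫ OverS.overS e.iso.hom) (fun {Z} g x t => by
      rw [lift_whiskerLeft_assoc, lift_whiskerLeft_assoc,
        OverS.overS_equiv e.iso.hom e.comm g x (t ≫ k)])
  haveI : IsIso f :=
    Groth.L09.TorsorSch.isIso_of_isEquivariant P.act Q.act hPt Q.isTorsor.1 f hf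
  exact ⟨⟨asIso f, hf⟩⟩

end Groth.Agent.S20017
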