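import Groth.Statements.S20018
import Mathlib.RingTheory.PowerSeries.Trunc
import Mathlib.Tactic.LinearCombination

set_option autoImplicit false
open CAlg

namespace Groth.Agent.S20018

open PowerSeries in
/-- Product expansion of big Witt vectors: let R be a commutative ring and x ∈ 1 + tR[[t]] a formal
power series with constant term 1. Then x can be written uniquely as an infinite product ∏_{i ≥ 1}
(1 - α_i t^i) with α_i ∈ R. The infinite product is expressed through its truncations: there is a
unique sequence α : ℕ → R (α i standing for the coefficient attached to t^{i+1}) such that for every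
N the series x and the finite product ∏_{i=0}^{N} (1 - α_i t^{i+1}) agree modulo t^{N+2}. -/
theorem result
    (R : Type*) [CommRing R] (x : PowerSeries R) (hx : PowerSeries.constantCoeff x = 1) :
    ∃! α : ℕ → R, ∀ N : ℕ,
      PowerSeries.trunc (N + 2) x =
        PowerSeries.trunc (N + 2) (∏ i ∈ Finset.range (N + 1),
          (1 - PowerSeries.C (α i) * PowerSeries.X ^ (i + 1) : PowerSeries R)) := by
  classical
  let P : (ℕ → R) → ℕ → PowerSeries R := fun α N => ∏ i ∈ Finset.range N, (1 - PowerSeries.C (α i) * PowerSeries.X ^ (i + 1) : PowerSeries R)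
  have hP0 : ∀ α N, PowerSeries.constantCoeff (P α N) = 1 := fun α N => by
    rw [map_prod]; exact Finset.prod_eq_one fun i _ => by simp
  have hstep : ∀ α N m, (PowerSeries.coeff m) (P α (N + 1)) =
      (PowerSeries.coeff m) (P α N) - if N + 1 ≤ m then α N * (PowerSeries.coeff (m - (N + 1))) (P α N) else 0 := by
    intro α N m
    simp only [P]
    rw [Finset.prod_range_succ, mul_sub, mul_one, map_sub, ← mul_assoc, PowerSeries.coeff_mul_X_pow']
    congr 1
    split_ifs
    · rw [PowerSeries.coeff_mul_C, mul_comm]
    · rfl
  have hstab : ∀ α M, ∀ m ≤ M, (PowerSeries.coeff m) (P α M) = (PowerSeries.coeff m) (P α m) := by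
    intro α M m hm
    induction M, hm using Nat.le_induction with
    | base => rfl
    | succ M hM ih => rw [hstep, if_neg (by omega), sub_zero, ih]
  have hiff : ∀ α : ℕ → R, (∀ N : ℕ, PowerSeries.trunc (N + 2) x = PowerSeries.trunc (N + 2) (P α (N + 1))) ↔
      ∀ n, α n = (PowerSeries.coeff (n + 1)) (P α n) - (PowerSeries.coeff (n + 1)) x := by
    intro α
    have hd : ∀ n, (PowerSeries.coeff (n + 1)) (P α (n + 1)) = (PowerSeries.coeff (n + 1)) (P α n) - α n := fun n => by
      rw [hstep, if_pos le_rfl, Nat.sub_self, PowerSeries.coeff_zero_eq_constantCoeff, hP0, mul_one]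
    constructor
    · intro h n
      have h1 := congrArg (fun p => Polynomial.coeff p (n + 1)) (h n)
      simp only [PowerSeries.coeff_trunc, if_pos (show n + 1 < n + 2 by omega), hd] at h1
      rw [h1]; ring
    · intro h N
      ext m
      simp only [PowerSeries.coeff_trunc]
      split_ifs with hm
      · cases m with
        | zero => rw [PowerSeries.coeff_zero_eq_constantCoeff, hP0, hx]
        | succ n =>
          rw [hstab α (N + 1) (n + 1) (by omega), hd, h n]; ring
      · rfl
  -- recursion for the coefficients
  let L : ℕ → List R := fun n => n.rec [] fun i l => l ++ [(PowerSeries.coeff (i + 1)) (P (fun j => l.getD j 0) i) - (PowerSeries.coeff (i + 1)) x]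
  let α : ℕ → R := fun i => (L (i + 1)).getD i 0
  have hlen : ∀ n, (L n).length = n := by
    intro n
    induction n with
    | zero => rfl
    | succ n ih => show (L n ++ _).length = n + 1; simp [ih]
  have hL : ∀ n, ∀ j < n, (L n).getD j 0 = α j := by
    intro n
    induction n with
    | zero => omega
    | succ n ih =>
      intro j hj
      rcases Nat.lt_succ_iff_lt_or_eq.mp hj with h | rfl
      · show (L n ++ _).getD j 0 = _
        rw [List.getD_eq_getElem?_getD, List.getElem?_append_left (by rw [hlen]; exact h), ← List.getD_eq_getElem?_getD, ih j h]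
      · rfl
  have hPc : ∀ (β γ : ℕ → R) n, (∀ j < n, β j = γ j) → P β n = P γ n := fun β γ n h =>
    Finset.prod_congr rfl fun i hi => by rw [h i (Finset.mem_range.mp hi)]
  have hα : ∀ n, α n = (PowerSeries.coeff (n + 1)) (P α n) - (PowerSeries.coeff (n + 1)) x := fun n => by
    show (L n ++ [_]).getD n 0 = _
    rw [List.getD_eq_getElem?_getD, List.getElem?_append_right (by rw [hlen]), hlen, Nat.sub_self]
    show (PowerSeries.coeff (n + 1)) (P (fun j => (L n).getD j 0) n) - _ = _
    rw [hPc _ α n (hL n)]
  refine ⟨α, (hiff α).mpr hα, fun β hβ => funext fun n => ?_⟩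
  induction n using Nat.strong_induction_on with
  | _ n ih => rw [(hiff β).mp hβ n, hα n, hPc β α n ih]

end Groth.Agent.S20018
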