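import Mathlib.Tactic
import Mathlib.LinearAlgebra.Basis.VectorSpace
import Groth.Statements.S20022


set_option autoImplicit false
universe u
open GrLC

namespace Groth.Agent.S20022

/-- Let R be a commutative ℤ-graded ring whose degree-zero subring R_0 is a field k and which is the
Laurent polynomial ring k[T, T⁻¹] on a homogeneous invertible element T of positive degree d, in the
following intrinsic sense: T is a unit lying in R_d, and every nonzero homogeneous element of degree
n equals a·T^j for some a ∈ R_0 and some integer j with j·d = n (so R_n = 0 unless d divides n, and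
R_{jd} = k·T^j). Then every graded R-module M is free in the graded sense: M has an R-basis
consisting of homogeneous elements. (The other case of condition (2), R = k concentrated in degree
zero, is not included.) -/
theorem result (R : Type u) [CommRing R]
    (𝒜 : ℤ → AddSubgroup R) [GradedRing 𝒜] (h0 : IsField (GrLC.deg0 𝒜))
    (d : ℤ) (hd : 0 < d) (T : Rˣ) (hT : (T : R) ∈ 𝒜 d)
    (hA : ∀ (n : ℤ) (x : R), x ∈ 𝒜 n → x ≠ 0 →
      ∃ j : ℤ, ∃ a ∈ 𝒜 0, j * d = n ∧ x = a * ((T ^ j : Rˣ) : R))
    (M : Type u) [AddCommGroup M] [Module R M] (ℳ : ℤ → AddSubgroup M)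
    [DirectSum.Decomposition ℳ] [SetLike.GradedSMul 𝒜 ℳ] :
    ∃ (κ : Type u) (b : Module.Basis κ R M), ∀ i : κ, SetLike.IsHomogeneousElem ℳ (b i) := by
  classical
  have hrpow : ∀ j : ℤ, ((T ^ j : Rˣ) : R) ∈ 𝒜 (j * d) := by
    have hinv : ((T⁻¹ : Rˣ) : R) ∈ 𝒜 (-d) := by
      have h1 : (T : R) * (DirectSum.decompose 𝒜 ((T⁻¹ : Rˣ) : R) (-d) : R) = 1 := by
        have h2 := DirectSum.coe_decompose_mul_add_of_left_mem 𝒜 (j := -d) (b := ((T⁻¹ : Rˣ) : R)) hT
        rw [Units.mul_inv, add_neg_cancel, DirectSum.decompose_of_mem_same 𝒜 (SetLike.GradedOne.one_mem)] at h2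
        exact h2.symm
      have h3 := congrArg (((T⁻¹ : Rˣ) : R) * ·) h1
      simp only [← mul_assoc, Units.inv_mul, one_mul, mul_one] at h3
      rw [← h3]
      exact SetLike.coe_mem _
    intro j
    induction j using Int.induction_on with
    | zero => simpa using SetLike.GradedOne.one_mem (A := 𝒜)
    | succ i hi =>
      have := SetLike.mul_mem_graded (A := 𝒜) hi hT
      rw [zpow_add_one, Units.val_mul, add_mul, one_mul]
      exact this
    | pred i hi =>
      have := SetLike.mul_mem_graded (A := 𝒜) hi hinv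
      rw [zpow_sub_one, Units.val_mul, sub_mul, one_mul, sub_eq_add_neg]
      exact this
  letI : Field (GrLC.deg0 𝒜) := h0.toField
  let Mc : Fin d.toNat → Submodule (GrLC.deg0 𝒜) M := fun q =>
    { carrier := (ℳ (q : ℤ) : Set M)
      add_mem' := fun ha hb => add_mem ha hb
      zero_mem' := zero_mem _
      smul_mem' := fun c x hx => by
        have := SetLike.GradedSMul.smul_mem (A := 𝒜) (B := ℳ) (show (c : R) ∈ 𝒜 0 from c.2) hx
        rw [zero_vadd] at this
        exact this }
  let bs := fun q => Module.Free.chooseBasis (GrLC.deg0 𝒜) (Mc q)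
  let κ := Σ q : Fin d.toNat, Module.Free.ChooseBasisIndex (GrLC.deg0 𝒜) (Mc q)
  let v : κ → M := fun p => ((bs p.1 p.2 : Mc p.1) : M)
  have hv : ∀ p : κ, v p ∈ ℳ (p.1 : ℤ) := fun p => (bs p.1 p.2).2
  have hdn : (d.toNat : ℤ) = d := Int.toNat_of_nonneg hd.le
  have hli : LinearIndependent R v := by
    rw [linearIndependent_iff']
    intro s c hc p hp
    have hcomp : ∀ n : ℤ, (DirectSum.decompose 𝒜 (c p) n : R) = 0 := by
      intro n
      by_contra hne
      obtain ⟨j, a, ha, hjn, hxa⟩ := hA n _ (SetLike.coe_mem _) hne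
      let a' : ∀ p' : κ, R := fun p' => (DirectSum.decompose 𝒜 (c p') (n + (p.1 : ℤ) - (p'.1 : ℤ)) : R) * ((T ^ (-j) : Rˣ) : R)
      have hz : ∀ p' : κ, p'.1 ≠ p.1 → (DirectSum.decompose 𝒜 (c p') (n + (p.1 : ℤ) - (p'.1 : ℤ)) : R) = 0 := by
        intro p' hne'
        by_contra h
        obtain ⟨j', a', -, hj', -⟩ := hA _ _ (SetLike.coe_mem _) h
        refine hne' (Fin.ext ?_)
        have h1 := p.1.2
        have h2 := p'.1.2
        have h3 : (j' - j) * d = (p.1 : ℤ) - (p'.1 : ℤ) := by rw [sub_mul, hj', hjn]; ring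
        have h4 : j' - j = 0 := by
          by_contra h5
          have : (p.1 : ℤ) < d := by omega
          have : (p'.1 : ℤ) < d := by omega
          rcases lt_or_gt_of_ne h5 with h6 | h6
          · nlinarith
          · nlinarith
        rw [h4, zero_mul] at h3
        omega
      have hsum : ∑ p' ∈ s, (DirectSum.decompose 𝒜 (c p') (n + (p.1 : ℤ) - (p'.1 : ℤ)) : R) • v p' = 0 := by
        have h1 := congrArg (fun z => (DirectSum.decompose ℳ z (n + (p.1 : ℤ)) : M)) hc
        simp only [DirectSum.decompose_sum, DirectSum.sum_apply, DirectSum.decompose_zero, DirectSum.zero_apply,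
          ZeroMemClass.coe_zero, AddSubmonoidClass.coe_finset_sum] at h1
        refine Eq.trans (Finset.sum_congr rfl fun p' _ => ?_) h1
        conv_rhs => rw [← DirectSum.sum_support_decompose 𝒜 (c p')]
        simp only [Finset.sum_smul, DirectSum.decompose_sum, DirectSum.sum_apply, AddSubmonoidClass.coe_finset_sum]
        rw [Finset.sum_eq_single (n + (p.1 : ℤ) - (p'.1 : ℤ))]
        · refine (DirectSum.decompose_of_mem_same ℳ ?_).symm
          have := SetLike.GradedSMul.smul_mem (A := 𝒜) (B := ℳ)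
            (SetLike.coe_mem (DirectSum.decompose 𝒜 (c p') (n + (p.1 : ℤ) - (p'.1 : ℤ)))) (hv p')
          rwa [vadd_eq_add, sub_add_cancel] at this
        · intro i _ hi
          have := SetLike.GradedSMul.smul_mem (A := 𝒜) (B := ℳ)
            (SetLike.coe_mem (DirectSum.decompose 𝒜 (c p') i)) (hv p')
          rw [vadd_eq_add] at this
          exact DirectSum.decompose_of_mem_ne ℳ this (by omega)
        · intro hi
          rw [DFinsupp.notMem_support_iff.1 hi]
          simp
      obtain ⟨q, l⟩ := p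
      have ha0 : ∀ l', ((DirectSum.decompose 𝒜 (c ⟨q, l'⟩) n : R) * ((T ^ (-j) : Rˣ) : R)) ∈ 𝒜 0 := fun l' => by
        have := SetLike.mul_mem_graded (A := 𝒜) (SetLike.coe_mem (DirectSum.decompose 𝒜 (c ⟨q, l'⟩) n)) (hrpow (-j))
        rwa [neg_mul, hjn, add_neg_cancel] at this
      have hb := linearIndependent_iff'.1 (bs q).linearIndependent
        (s.preimage (fun l' => (⟨q, l'⟩ : κ)) (fun a _ b _ e => eq_of_heq (Sigma.mk.inj e).2)) (fun l' => ⟨_, ha0 l'⟩) ?_ l (Finset.mem_preimage.2 hp)
      · have hb' : (DirectSum.decompose 𝒜 (c ⟨q, l⟩) n : R) * ((T ^ (-j) : Rˣ) : R) = 0 := congrArg Subtype.val hb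
        exact hne ((Units.mul_left_eq_zero _).1 hb')
      refine Subtype.ext ?_
      rw [Submodule.coe_sum, ZeroMemClass.coe_zero]
      refine Eq.trans (Eq.trans ?_ (Finset.sum_preimage' (fun l' => (⟨q, l'⟩ : κ)) s
        (fun a _ b _ e => eq_of_heq (Sigma.mk.inj e).2)
        (fun p' : κ => ((DirectSum.decompose 𝒜 (c p') n : R) * ((T ^ (-j) : Rˣ) : R)) • v p'))) ?_
      · rfl
      refine Eq.trans ?_ (show ((T ^ (-j) : Rˣ) : R) • (0 : M) = 0 from smul_zero _)
      rw [← hsum, Finset.smul_sum, Finset.sum_filter]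
      refine Finset.sum_congr rfl fun p' _ => ?_
      by_cases hq : p'.1 = q
      · rw [if_pos ⟨p'.2 |> fun z => hq ▸ z, by subst hq; rfl⟩, hq, add_sub_cancel_right, smul_smul, mul_comm]
      · rw [if_neg (fun ⟨z, hz'⟩ => hq (congrArg Sigma.fst hz').symm), hz p' hq, zero_smul, smul_zero]
    rw [← DirectSum.sum_support_decompose 𝒜 (c p)]
    exact Finset.sum_eq_zero fun n _ => hcomp n
  have hsp : ⊤ ≤ Submodule.span R (Set.range v) := by
    intro x _
    rw [← DirectSum.sum_support_decompose ℳ x]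
    refine Submodule.sum_mem _ fun n _ => ?_
    have hr0 : 0 ≤ n % d := Int.emod_nonneg n hd.ne'
    have hr1 : n % d < d := Int.emod_lt_of_pos n hd
    let q : Fin d.toNat := ⟨(n % d).toNat, by omega⟩
    have hq : (q : ℤ) = n % d := Int.toNat_of_nonneg hr0
    have hy : ((T ^ (-(n / d)) : Rˣ) : R) • (DirectSum.decompose ℳ x n : M) ∈ ℳ (q : ℤ) := by
      have := SetLike.GradedSMul.smul_mem (A := 𝒜) (B := ℳ) (hrpow (-(n / d))) (SetLike.coe_mem (DirectSum.decompose ℳ x n))
      rw [vadd_eq_add, show -(n / d) * d + n = (q : ℤ) by rw [hq, Int.emod_def]; ring] at this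
      exact this
    have h1 : ((T ^ (-(n / d)) : Rˣ) : R) • (DirectSum.decompose ℳ x n : M) ∈ Submodule.span R (Set.range v) := by
      have h2 := (bs q).linearCombination_repr ⟨_, hy⟩
      have h3 := congrArg (fun z : Mc q => (z : M)) h2
      simp only [Finsupp.linearCombination_apply, Finsupp.sum, Submodule.coe_sum, Submodule.coe_smul] at h3
      rw [← h3]
      exact Submodule.sum_mem _ fun l _ => Submodule.smul_mem _ ((_ : GrLC.deg0 𝒜) : R) (Submodule.subset_span ⟨⟨q, l⟩, rfl⟩)
    have h4 := Submodule.smul_mem _ ((T ^ (n / d) : Rˣ) : R) h1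
    rwa [smul_smul, ← Units.val_mul, ← zpow_add, add_neg_cancel, zpow_zero, Units.val_one, one_smul] at h4
  exact ⟨κ, Module.Basis.mk hli hsp, fun p => ⟨(p.1 : ℤ), by rw [Module.Basis.mk_apply]; exact hv p⟩⟩
end Groth.Agent.S20022
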