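import Groth.Statements.S20024
import Groth.Agent.L14.WittFil.Teich
import Mathlib.RingTheory.WittVector.Identities

set_option autoImplicit false
universe u
open WittFil

namespace Groth.Agent.S20024

/-- Case q = 0: let p be a prime, S a commutative ring of characteristic p and B a commutative S-algebra
(in the source B = S[[π]][1/π]), u a unit of B (the uniformizer π), m, s natural numbers, i, l
integers and c a p-typical Witt vector over S. Write Φ_v(c) for the length-m truncation of V^s(c ·
[v]), where c is mapped to the Witt vectors of B, [v] is the Teichmüller representative of v ∈ B and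
V is the Verschiebung; for n = p^(m−1−s) · i the degree-zero piece F_n^{m,0}(S) is the set of all
Φ_{u^i}(c). Then multiplication by the truncated Teichmüller representative [u^l] satisfies [u^l] ·
Φ_{u^i}(c) = Φ_{u^(i + p^s l)}(c); consequently [u^l] · F_n^{m,0}(S) = F_{n + p^(m−1) l}^{m,0}(S).
(Only the part of the lemma in differential degree q = 0 is stated; the source's S is a regular
local F-finite F_p-algebra, and the identity holds for any S-algebra B of characteristic p.) -/
theorem result (p : ℕ) [Fact p.Prime] {S B : Type u}
    [CommRing S] [CharP S p] [CommRing B] [Algebra S B] (m s : ℕ) (u : Bˣ) (i l : ℤ)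
    (c : WittVector p S) :
    WittVector.truncate m (WittVector.teichmuller p ((u ^ l : Bˣ) : B)) *
        WittFil.vShiftTeich p m s ((u ^ i : Bˣ) : B) c =
      WittFil.vShiftTeich p m s ((u ^ (i + (p : ℤ) ^ s * l) : Bˣ) : B) c := by
  refine TruncatedWittVector.ext fun j => ?_
  rw [WittFil.vShiftTeich, WittFil.vShiftTeich, ← map_mul, WittVector.coeff_truncate, WittVector.coeff_truncate,
    Groth.L14.WittFilTeich.coeff_mul]
  rcases Nat.lt_or_ge (j : ℕ) s with h | h
  · rw [WittVector.iterate_verschiebung_coeff_eq_zero _ h, WittVector.iterate_verschiebung_coeff_eq_zero _ h, mul_zero]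
  · obtain ⟨k, hk⟩ : ∃ k, (j : ℕ) = k + s := ⟨(j : ℕ) - s, by omega⟩
    rw [hk, WittVector.iterate_verschiebung_coeff, WittVector.iterate_verschiebung_coeff,
      mul_comm (WittVector.map _ c), mul_comm (WittVector.map _ c),
      Groth.L14.WittFilTeich.coeff_mul, Groth.L14.WittFilTeich.coeff_mul, ← mul_assoc]
    congr 1
    simp only [← Units.val_pow_eq_pow_val, ← Units.val_mul, ← zpow_natCast, ← zpow_mul, ← zpow_add]
    congr 2
    push_cast
    ring

end Groth.Agent.S20024
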