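import Groth.Statements.S20025
import Mathlib.LinearAlgebra.Matrix.NonsingularInverse
import Mathlib.Algebra.Polynomial.BigOperators
import Mathlib.Algebra.Polynomial.AlgebraMap
import Mathlib.Algebra.Polynomial.Degree.Domain
import Mathlib.Tactic.Ring
import Mathlib.Tactic.LinearCombination
import Mathlib.Tactic.FieldSimp
import Mathlib.Algebra.BigOperators.Fin

set_option autoImplicit false
universe u
open InvQ

namespace Groth.Agent.S20025

variable {k : Type u} [Field k]

/-- a root's linear form -/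
noncomputable def L (l m : k) : MvPolynomial (Fin 2) k :=
  MvPolynomial.C m * MvPolynomial.X 0 - MvPolynomial.C l * MvPolynomial.X 1

theorem L_smul (l m r : k) : L (r * l) (r * m) = MvPolynomial.C r * L l m := by
  simp only [L, map_mul]; ring

theorem L_ext {l m a b l₀ m₀ l₂ m₂ : k} (h1 : m = a * m₀ + b * m₂) (h2 : l = a * l₀ + b * l₂) :
    L l m = MvPolynomial.C a * L l₀ m₀ + MvPolynomial.C b * L l₂ m₂ := by
  subst h1 h2
  simp only [L, map_add, map_mul]; ring

theorem prop_of_eq {l m l' m' : k} (h0 : l ≠ 0 ∨ m ≠ 0) (h1 : l' ≠ 0 ∨ m' ≠ 0) (h : l * m' = l' * m) :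
    ∃ s : k, s ≠ 0 ∧ L l' m' = MvPolynomial.C s * L l m := by
  rcases h0 with hl | hm
  · refine ⟨l' / l, div_ne_zero (fun h' => ?_) hl, ?_⟩
    · rw [h', zero_mul] at h
      exact h1.elim (fun h1 => h1 h') (fun h1 => h1 ((mul_eq_zero.1 h).resolve_left hl))
    · rw [← L_smul, div_mul_cancel₀ _ hl]
      congr 1
      rw [div_mul_eq_mul_div, eq_div_iff hl]; linear_combination h
  · refine ⟨m' / m, div_ne_zero (fun h' => ?_) hm, ?_⟩
    · rw [h', mul_zero, eq_comm] at h
      exact h1.elim (fun h1 => h1 ((mul_eq_zero.1 h).resolve_right hm)) (fun h1 => h1 h')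
    · rw [← L_smul, div_mul_cancel₀ _ hm]
      congr 1
      rw [div_mul_eq_mul_div, eq_div_iff hm]; linear_combination -h

theorem subst_row (M : Matrix (Fin 2) (Fin 2) k) (i : Fin 2) :
    W4c6intromoduli.subst M (MvPolynomial.X i) = L (-M i 1) (M i 0) := by
  rw [W4c6intromoduli.subst, MvPolynomial.aeval_X, Fin.sum_univ_two, L, map_neg]; ring

theorem not_both (k : Type u) [Field k] (la mu : Fin 4 → k) :
    ¬ ((∃ (M : Matrix (Fin 2) (Fin 2) k) (c : k), IsUnit M.det ∧ c ≠ 0 ∧
        W4c6intromoduli.binForm la mu =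
          MvPolynomial.C c * W4c6intromoduli.subst M
            (MvPolynomial.X 0 ^ 2 * MvPolynomial.X 1 * (MvPolynomial.X 0 - MvPolynomial.X 1))) ∧
      (∃ (M : Matrix (Fin 2) (Fin 2) k) (c : k), IsUnit M.det ∧ c ≠ 0 ∧
        W4c6intromoduli.binForm la mu =
          MvPolynomial.C c * W4c6intromoduli.subst M
            (MvPolynomial.X 0 ^ 2 * MvPolynomial.X 1 ^ 2))) := by
  rintro ⟨⟨M, c, hM, hc, h1⟩, M', c', -, hc', h2⟩
  let v : Fin 2 → Polynomial k := ![Polynomial.X, 1]
  let φ : MvPolynomial (Fin 2) k →ₐ[k] Polynomial k :=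
    MvPolynomial.aeval fun i => ∑ j, Polynomial.C (M⁻¹ i j) * v j
  have hφ : ∀ i, φ (W4c6intromoduli.subst M (MvPolynomial.X i)) = v i := by
    intro i
    have hinv : ∀ l, ∑ j, M i j * M⁻¹ j l = if i = l then 1 else 0 := fun l => by
      rw [← Matrix.mul_apply, Matrix.mul_nonsing_inv M hM, Matrix.one_apply]
    simp only [φ, W4c6intromoduli.subst, MvPolynomial.aeval_X, map_sum, map_mul, MvPolynomial.aeval_C,
      Polynomial.algebraMap_eq, Finset.mul_sum, ← mul_assoc]
    rw [Finset.sum_comm]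
    simp only [← Finset.sum_mul, ← Polynomial.C_mul, ← map_sum, hinv]
    simp [apply_ite Polynomial.C, ite_mul]
  have h := congrArg φ (h1.symm.trans h2)
  have hC : ∀ r : k, φ (MvPolynomial.C r) = Polynomial.C r := fun r => φ.commutes r
  simp only [map_mul, map_pow, map_sub, hφ, hC, v, Matrix.cons_val_zero, Matrix.cons_val_one, Matrix.cons_val_fin_one, mul_one] at h
  rw [← mul_pow] at h
  set Q := φ (W4c6intromoduli.subst M' (MvPolynomial.X 0)) * φ (W4c6intromoduli.subst M' (MvPolynomial.X 1))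
  have h3 : (Polynomial.C c * (Polynomial.X ^ 2 * (Polynomial.X - 1))).natDegree = 3 := by
    rw [Polynomial.natDegree_C_mul hc, ← Polynomial.C_1, Polynomial.natDegree_mul (pow_ne_zero _ Polynomial.X_ne_zero)
      (Polynomial.X_sub_C_ne_zero (1 : k)), Polynomial.natDegree_X_pow, Polynomial.natDegree_X_sub_C]
  rw [h, Polynomial.natDegree_C_mul hc', Polynomial.natDegree_pow] at h3
  omega

open InvQ in

/-- For the special fibre of the invariant map, over a field in which 2 and 3 are nonzero, consider a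
split binary quartic f = ∏_i (μ_i X₀ − λ_i X₁) given by four root points (λ_i, μ_i) ≠ (0, 0), with a
double zero (vanishing discriminant ∏_{i<j} (λ_j μ_i − λ_i μ_j)²) and no triple zero (no three root
points pairwise proportional); these are the forms of the fibre over the special point P³/Q² = 6 of
the invariant map. Then exactly one of the two alternatives holds: f is a nonzero constant times the
form X₀² X₁ (X₀ − X₁) after an invertible linear substitution of the variables, or f is a nonzero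
constant times X₀² X₁² after such a substitution. So this fibre consists of exactly two classes
under substitutions and scalars (one double zero and two simple zeros; two double zeros). (The
dimensions of the two orbits and which of them is open or closed in the fibre are not part of this
row; stated for split forms over any such field.) -/
theorem result (k : Type u) [Field k]
    (h2 : (2 : k) ≠ 0) (h3 : (3 : k) ≠ 0) (la mu : Fin 4 → k)
    (hne : ∀ i, la i ≠ 0 ∨ mu i ≠ 0) (hd : W4c6intromoduli.disc la mu = 0)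
    (h3z : ∀ i j l : Fin 4, i ≠ j → j ≠ l → i ≠ l →
      ¬ (la i * mu j = la j * mu i ∧ la j * mu l = la l * mu j)) :
    Xor
      (∃ (M : Matrix (Fin 2) (Fin 2) k) (c : k), IsUnit M.det ∧ c ≠ 0 ∧
        W4c6intromoduli.binForm la mu =
          MvPolynomial.C c * W4c6intromoduli.subst M
            (MvPolynomial.X 0 ^ 2 * MvPolynomial.X 1 * (MvPolynomial.X 0 - MvPolynomial.X 1)))
      (∃ (M : Matrix (Fin 2) (Fin 2) k) (c : k), IsUnit M.det ∧ c ≠ 0 ∧
        W4c6intromoduli.binForm la mu =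
          MvPolynomial.C c * W4c6intromoduli.subst M
            (MvPolynomial.X 0 ^ 2 * MvPolynomial.X 1 ^ 2)) := by
  have hnot := not_both k la mu
  obtain ⟨p, hp, hpz⟩ := Finset.prod_eq_zero_iff.1 hd
  have hij : p.1 ≠ p.2 := ne_of_lt (Finset.mem_filter.1 hp).2
  rw [pow_eq_zero_iff two_ne_zero, sub_eq_zero] at hpz
  obtain ⟨σ, h0, h1⟩ : ∃ σ : Equiv.Perm (Fin 4), σ 0 = p.1 ∧ σ 1 = p.2 := by
    have : ∀ i j : Fin 4, i ≠ j → ∃ σ : Equiv.Perm (Fin 4), σ 0 = i ∧ σ 1 = j := by decide
    exact this _ _ hij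
  have h01 : la (σ 0) * mu (σ 1) = la (σ 1) * mu (σ 0) := by rw [h0, h1]; exact hpz.symm
  have hne01 : σ 0 ≠ σ 1 := σ.injective.ne (by decide)
  have h02 : la (σ 0) * mu (σ 2) ≠ la (σ 2) * mu (σ 0) := fun h =>
    h3z (σ 1) (σ 0) (σ 2) hne01.symm (σ.injective.ne (by decide)) (σ.injective.ne (by decide)) ⟨h01.symm, h⟩
  have h03 : la (σ 0) * mu (σ 3) ≠ la (σ 3) * mu (σ 0) := fun h =>
    h3z (σ 1) (σ 0) (σ 3) hne01.symm (σ.injective.ne (by decide)) (σ.injective.ne (by decide)) ⟨h01.symm, h⟩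
  have hbin : W4c6intromoduli.binForm la mu =
      L (la (σ 0)) (mu (σ 0)) * L (la (σ 1)) (mu (σ 1)) * L (la (σ 2)) (mu (σ 2)) * L (la (σ 3)) (mu (σ 3)) := by
    rw [W4c6intromoduli.binForm, ← Equiv.prod_comp σ, Fin.prod_univ_four]; rfl
  obtain ⟨s, hs0, hs⟩ := prop_of_eq (hne (σ 0)) (hne (σ 1)) h01
  by_cases h23 : la (σ 2) * mu (σ 3) = la (σ 3) * mu (σ 2)
  · obtain ⟨t, ht0, ht⟩ := prop_of_eq (hne (σ 2)) (hne (σ 3)) h23
    refine Or.inr ⟨?hex, fun h => hnot ⟨h, ?hex⟩⟩
    refine ⟨!![mu (σ 0), -la (σ 0); mu (σ 2), -la (σ 2)], s * t, ?_, mul_ne_zero hs0 ht0, ?_⟩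
    · rw [isUnit_iff_ne_zero, Matrix.det_fin_two_of]
      intro h; apply h02; linear_combination h
    · rw [hbin, hs, ht]
      simp only [map_mul, map_pow, subst_row, Matrix.of_apply, Matrix.cons_val_zero, Matrix.cons_val_one,
        Matrix.cons_val_fin_one, Matrix.cons_val', neg_neg]
      ring
  · obtain ⟨a, b, ha, hb, hab⟩ : ∃ a b : k, a ≠ 0 ∧ b ≠ 0 ∧
        L (la (σ 3)) (mu (σ 3)) = MvPolynomial.C a * L (la (σ 0)) (mu (σ 0)) + MvPolynomial.C b * L (la (σ 2)) (mu (σ 2)) := by
      have D : mu (σ 0) * la (σ 2) - la (σ 0) * mu (σ 2) ≠ 0 := fun h => h02 (by linear_combination -h)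
      refine ⟨(mu (σ 3) * la (σ 2) - la (σ 3) * mu (σ 2)) / (mu (σ 0) * la (σ 2) - la (σ 0) * mu (σ 2)),
        (mu (σ 0) * la (σ 3) - la (σ 0) * mu (σ 3)) / (mu (σ 0) * la (σ 2) - la (σ 0) * mu (σ 2)),
        div_ne_zero (fun h => h23 (by linear_combination h)) D,
        div_ne_zero (fun h => h03 (by linear_combination -h)) D, ?_⟩
      apply L_ext <;> rw [div_mul_eq_mul_div, div_mul_eq_mul_div, ← add_div, eq_div_iff D] <;> ring
    refine Or.inl ⟨?hex', fun h => hnot ⟨?hex', h⟩⟩
    refine ⟨!![a * mu (σ 0), -(a * la (σ 0)); -b * mu (σ 2), -(-b * la (σ 2))], s / (a ^ 2 * -b), ?_,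
      div_ne_zero hs0 (mul_ne_zero (pow_ne_zero _ ha) (neg_ne_zero.2 hb)), ?_⟩
    · rw [isUnit_iff_ne_zero, Matrix.det_fin_two_of]
      intro h
      have h' : (a * b) * (la (σ 2) * mu (σ 0) - la (σ 0) * mu (σ 2)) = 0 := by linear_combination h
      exact h02 (by linear_combination -((mul_eq_zero.1 h').resolve_left (mul_ne_zero ha hb)))
    · rw [hbin, hs, hab]
      simp only [map_mul, map_pow, map_sub, subst_row, Matrix.of_apply, Matrix.cons_val_zero, Matrix.cons_val_one,
        Matrix.cons_val_fin_one, Matrix.cons_val', neg_neg]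
      have hL : ∀ r : k, L (r * la (σ 0)) (r * mu (σ 0)) = MvPolynomial.C r * L (la (σ 0)) (mu (σ 0)) := L_smul _ _
      rw [hL, L_smul (la (σ 2)) (mu (σ 2)) (-b)]
      have hc : MvPolynomial.C (σ := Fin 2) (s / (a ^ 2 * -b)) * (MvPolynomial.C a ^ 2 * -MvPolynomial.C b) = MvPolynomial.C s := by
        rw [← map_pow, ← map_neg, ← map_mul, ← map_mul, div_mul_cancel₀ _ (mul_ne_zero (pow_ne_zero _ ha) (neg_ne_zero.2 hb))]
      simp only [map_neg]
      linear_combination -(L (la (σ 0)) (mu (σ 0)) ^ 2 * L (la (σ 2)) (mu (σ 2)) *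
        (MvPolynomial.C a * L (la (σ 0)) (mu (σ 0)) + MvPolynomial.C b * L (la (σ 2)) (mu (σ 2)))) * hc

end Groth.Agent.S20025
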