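import Groth.Statements.S20027
import Groth.Agent.L12.GrLCPolyEnd
import Groth.Agent.L12.GrLCType
-- import your own Groth.Agent.* helpers here

set_option autoImplicit false
universe u
open GrLC

namespace Groth.Agent.S20027

open Groth.L12.GrLCLib DirectSum MvPolynomial
open scoped Groth.L12.GrLCLib.Asub

attribute [local instance] MvPolynomial.weightedGradedAlgebra

/-- Let k be a field, s ≥ 1, d ≥ 1, and R = k[X_1, …, X_s] graded with every variable in degree 1.
Present the Veronese subring R^(d) = ⊕_j R_{jd} as a commutative ring R' with an injective ring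
homomorphism φ : R' → R whose image is the set of polynomials whose homogeneous components in all
degrees not divisible by d are zero, and let m' be the maximal ideal of R' that is the preimage of
the ideal of polynomials with zero constant term (the irrelevant ideal of R^(d)). Let n be the least
integer such that n ≥ s and d divides n. Then the type of R^(d), namely the Bass number μ_s(m', R')
= dim over the residue field of Ext^s over the local ring R'_{m'} from its residue field to R'_{m'}
(here s = dim R'), equals the binomial coefficient (n − 1 choose s − 1). -/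
theorem result (k : Type u) [Field k] (s d : ℕ) (hs : 1 ≤ s)
    (hd : 1 ≤ d) (R' : Type u) [CommRing R'] (φ : R' →+* MvPolynomial (Fin s) k)
    (hφ : Function.Injective φ)
    (hrange : ∀ p : MvPolynomial (Fin s) k, p ∈ φ.range ↔
      ∀ j : ℕ, ¬ d ∣ j → MvPolynomial.homogeneousComponent j p = 0)
    (m' : Ideal R') [m'.IsMaximal]
    (hm' : m' = Ideal.comap φ (RingHom.ker (MvPolynomial.constantCoeff : MvPolynomial (Fin s) k →+* k)))
    (n : ℕ) (hsn : s ≤ n) (hdn : d ∣ n) (hmin : ∀ n' : ℕ, s ≤ n' → d ∣ n' → n ≤ n') :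
    GrLC.bassNum m' R' s = (Nat.choose (n - 1) (s - 1) : ℕ∞) := by
  classical
  let P := MvPolynomial (Fin s) k
  let w : Fin s → ℤ := fun _ => 1
  let 𝒲 := asub (weightedHomogeneousSubmodule k w)
  haveI : LocCoh.IsGorensteinRing P := isGorensteinRing_mvPolynomial k (Fin s)
  haveI : LocCoh.IsCohenMacaulayRing P :=
    { isCohenMacaulayLocalRing_localization := fun p _ => by
        haveI := LocCoh.IsGorensteinRing.isGorensteinLocalRing_localization (A := P) p
        exact Groth.Agent.S0341.result _ }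
  have hwd : ∀ e : Fin s →₀ ℕ, Finsupp.weight w e = (e.degree : ℤ) := fun e => by
    rw [Finsupp.weight_apply, Finsupp.sum_fintype _ _ (by simp), Finsupp.degree_eq_sum]
    push_cast
    simp [w]
  have hmem : ∀ (g : ℤ) (p : P), p ∈ 𝒲 g ↔ ∀ e, coeff e p ≠ 0 → (e.degree : ℤ) = g := fun g p =>
    ⟨fun hp e he => (hwd e).symm.trans (hp he), fun hp e he => (hwd e).trans (hp e he)⟩
  have hpos : ∀ g : ℤ, g < 0 → 𝒲 g = ⊥ := fun g hg => (AddSubgroup.eq_bot_iff_forall _).2 fun p hp => by
    ext e
    by_contra h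
    have h1 := (hmem g p).1 hp e (by simpa using h)
    omega
  have hC0 : ∀ p ∈ 𝒲 0, ∃ c : k, MvPolynomial.C c = p := fun p hp => ⟨coeff 0 p, by
    ext e
    rw [coeff_C]
    by_cases he : 0 = e
    · subst he; simp
    · rw [if_neg he]
      by_contra h
      exact he ((Finsupp.degree_eq_zero_iff e).1 (by exact_mod_cast (hmem 0 p).1 hp e (Ne.symm h))).symm⟩
  have hCmem : ∀ c : k, (MvPolynomial.C c : P) ∈ 𝒲 0 := fun c => isWeightedHomogeneous_C w c
  have h0 : IsField (GrLC.deg0 𝒲) := by
    refine ⟨⟨0, 1, fun h => zero_ne_one (congrArg Subtype.val h)⟩, mul_comm, fun {a} ha => ?_⟩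
    obtain ⟨c, hc⟩ := hC0 a.1 a.2
    have hc0 : c ≠ 0 := fun h => ha (Subtype.ext (by rw [← hc, h, map_zero]; rfl))
    exact ⟨⟨MvPolynomial.C c⁻¹, hCmem _⟩, Subtype.ext (by change a.1 * MvPolynomial.C c⁻¹ = 1; rw [← hc, ← map_mul, mul_inv_cancel₀ hc0, map_one])⟩
  let M := posIdeal 𝒲
  have hM : GrLC.IsStarLocal 𝒲 M := posIdeal_isStarLocal hpos h0
  have hMsp : M.toIdeal = Ideal.span (⋃ g ∈ Set.Ioi (0 : ℤ), (𝒲 g : Set P)) := rfl
  have hstd : Ideal.span (⋃ g ∈ Set.Ioi (0 : ℤ), (𝒲 g : Set P)) = Ideal.span ((𝒲 1 : AddSubgroup P) : Set P) := by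
    refine le_antisymm (Ideal.span_le.2 fun p hp => ?_) (Ideal.span_mono fun p hp =>
      Set.mem_iUnion₂.2 ⟨1, (by simp only [Set.mem_Ioi]; omega), hp⟩)
    obtain ⟨g, hg, hpg⟩ := Set.mem_iUnion₂.1 hp
    refine (Ideal.span_mono (s := (X : Fin s → P) '' Set.univ) ?_) ?_
    · rintro _ ⟨i, -, rfl⟩
      exact isWeightedHomogeneous_X k w i
    · rw [mem_ideal_span_X_image]
      intro e he
      by_contra hcon
      push Not at hcon
      have h1 : e = 0 := Finsupp.ext fun i => hcon i trivial
      subst h1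
      have h2 := (hmem g p).1 hpg 0 (mem_support_iff.1 he)
      simp only [map_zero, Nat.cast_zero] at h2
      exact absurd (show (0 : ℤ) < g from hg) (by omega)
  have hdim : ringKrullDim P = s := by
    rw [MvPolynomial.ringKrullDim_of_isNoetherianRing, ringKrullDim_eq_zero_of_field]; simp
  obtain ⟨I⟩ := nonempty_starInjRes 𝒲 𝒲
  have ha : GrLC.endDeg (I.Hgr M s) = (((-(s : ℤ) : ℤ) : WithTop ℤ) : WithBot (WithTop ℤ)) := by
    rw [endDeg_poly k s w (fun _ => one_pos) M hM hMsp I]
    simp [w]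
  -- the grading of the subring
  letI := φ.toAlgebra
  let 𝒱 : ℤ → AddSubgroup R' := fun j => (𝒲 (j * d)).comap φ.toAddMonoidHom
  have hlift : ∀ (j : ℤ) (p : P), p ∈ 𝒲 (j * d) → ∃ r : R', φ r = p := fun j p hp =>
    (hrange p).2 fun i hi => by
      ext e
      rw [coeff_homogeneousComponent, coeff_zero]
      split_ifs with he
      · by_contra h
        have h1 := (hmem _ p).1 hp e h
        rw [he] at h1
        exact hi (Int.natCast_dvd_natCast.1 ⟨j, by rw [h1, mul_comm]⟩)
      · rfl
  have hcp : ∀ (j : ℤ) (r : R'), ∃ r', φ r' = cp 𝒲 (j * d) (φ r) := fun j r => hlift j _ (cp_mem _ _ _)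
  choose pr hpr using hcp
  have hd0 : (d : ℤ) ≠ 0 := by omega
  have hint : DirectSum.IsInternal 𝒱 := by
    refine isInternal_of_pr 𝒱 (fun j => AddMonoidHom.mk' (pr j) fun a b => hφ (by
      rw [map_add, hpr, hpr, hpr, map_add, map_add])) (fun j r hr => hφ ?_) (fun j l hjl r hr => hφ ?_) fun r => ?_
    · change φ (pr j r) = φ r
      rw [hpr, cp_same 𝒲 (show φ r ∈ 𝒲 (j * d) from hr)]
    · change φ (pr l r) = φ 0
      rw [hpr, map_zero, cp_ne 𝒲 (show φ r ∈ 𝒲 (j * d) from hr) fun e => hjl (mul_right_cancel₀ hd0 e)]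
    · have hterm : ∀ e ∈ (φ r).support, ∃ x ∈ ⨆ g, 𝒱 g, φ x = monomial e (coeff e (φ r)) := fun e he => by
        have hde : d ∣ e.degree := by
          by_contra hde
          have h1 := congrArg (coeff e) ((hrange (φ r)).1 ⟨r, rfl⟩ _ hde)
          rw [coeff_homogeneousComponent, if_pos rfl, coeff_zero] at h1
          exact mem_support_iff.1 he h1
        obtain ⟨j, hj⟩ := hde
        have hmon : monomial e (coeff e (φ r)) ∈ 𝒲 ((j : ℤ) * d) := (hmem _ _).2 fun e' he' => by
          rw [coeff_monomial] at he'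
          split_ifs at he' with h
          · subst h; rw [hj]; push_cast; ring
          · exact absurd rfl he'
        obtain ⟨x, hx⟩ := hlift _ _ hmon
        exact ⟨x, AddSubgroup.mem_iSup_of_mem (j : ℤ) (by
          change φ x ∈ 𝒲 _
          rw [hx]; exact hmon), hx⟩
      choose x hx hxe using hterm
      rw [show r = ∑ e ∈ (φ r).support.attach, x e.1 e.2 from hφ (by
        rw [map_sum, Finset.sum_congr rfl fun e _ => hxe e.1 e.2,
          Finset.sum_attach _ fun e => monomial e (coeff e (φ r))]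
        exact (φ r).as_sum)]
      exact sum_mem fun e _ => hx e.1 e.2
  haveI : SetLike.GradedMonoid 𝒱 :=
    { one_mem := by
        change φ 1 ∈ 𝒲 (0 * d)
        rw [map_one, zero_mul]
        exact SetLike.one_mem_graded 𝒲
      mul_mem := fun i j a b ha hb => by
        change φ (a * b) ∈ 𝒲 ((i + j) * d)
        rw [map_mul, add_mul]
        exact SetLike.mul_mem_graded (A := 𝒲) ha hb }
  letI : GradedRing 𝒱 := { ‹SetLike.GradedMonoid 𝒱›, hint.chooseDecomposition with }
  have hver : IsVer 𝒲 𝒱 d :=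
    { pos := hd
      inj := hφ
      mem := fun j r hr => hr
      surj := fun j p hp => by
        obtain ⟨r, hr⟩ := hlift j p hp
        exact ⟨r, show φ r ∈ 𝒲 (j * d) by rw [hr]; exact hp, hr⟩ }
  haveI := isNoetherianRing_ver hver
  have hpos' := pos_ver hver hpos
  have hV : GrLC.IsStarLocal 𝒱 (posIdeal 𝒱) := posIdeal_isStarLocal hpos' (isField_deg0_ver hver h0)
  haveI hVmax : (posIdeal 𝒱).toIdeal.IsMaximal := starLocal_isMaximal hpos' hV
  have heq : (posIdeal 𝒱).toIdeal = m' := by
    refine hVmax.eq_of_le ‹m'.IsMaximal›.ne_top (Ideal.span_le.2 fun r hr => ?_)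
    obtain ⟨j, hj, hrj⟩ := Set.mem_iUnion₂.1 hr
    rw [hm', SetLike.mem_coe, Ideal.mem_comap, RingHom.mem_ker, constantCoeff_eq]
    by_contra h
    have h1 := (hmem (j * d) (φ r)).1 hrj 0 h
    simp only [map_zero, Nat.cast_zero] at h1
    have hj' : (0 : ℤ) < j := hj
    rcases mul_eq_zero.1 h1.symm with h2 | h2 <;> omega
  subst heq
  have hnd : n < s + d := by
    by_contra hge
    have h1 := hmin (n - d) (by omega) (Nat.dvd_sub hdn dvd_rfl)
    omega
  rw [bassNum_ver hver hpos h0 hM hMsp hstd s hdim I (-(s : ℤ)) ha ((n - s : ℕ) : ℤ) (Int.natCast_nonneg _)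
    (by omega) (by
      obtain ⟨c, hc⟩ := hdn
      exact ⟨-(c : ℤ), by rw [Nat.cast_sub hsn, hc]; push_cast; ring⟩) (posIdeal 𝒱) rfl]
  congr 1
  -- the dimension of a piece
  set t := n - s with ht
  let H := homogeneousSubmodule (Fin s) k t
  have hset : ∀ e : Fin s →₀ ℕ, e.degree = t ↔ e ∈ Finset.univ.finsuppAntidiag t := fun e => by
    rw [Finset.mem_finsuppAntidiag, Finsupp.degree_eq_sum]
    simp
  have hrank : Module.finrank k H = Nat.choose (n - 1) (s - 1) := by
    haveI : Fintype {e : Fin s →₀ ℕ | e.degree = t} :=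
      Fintype.ofFinset (Finset.univ.finsuppAntidiag t) fun e => (hset e).symm
    let b : Module.Basis {e : Fin s →₀ ℕ | e.degree = t} k H :=
      (basisRestrictSupport k _).map
        (LinearEquiv.ofEq _ _ (homogeneousSubmodule_eq_finsupp_supported (σ := Fin s) (R := k) t).symm)
    rw [Module.finrank_eq_nat_card_basis b]
    refine (Nat.subtype_card (Finset.univ.finsuppAntidiag t) fun e => (hset e).symm).trans ?_
    rw [Finset.card_finsuppAntidiag_nat_eq_choose, Finset.card_univ, Fintype.card_fin, ← Nat.choose_symm (by omega)]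
    congr 1 <;> omega
  rw [← hrank]
  have hHmem : ∀ p : P, p ∈ H ↔ p ∈ 𝒲 (t : ℤ) := fun p => by
    rw [mem_homogeneousSubmodule, hmem]
    exact ⟨fun hp e he => by exact_mod_cast (show e.degree = t by
        rw [← hp he, Finsupp.degree_eq_weight_one]; rfl),
      fun hp e he => by
        rw [← show e.degree = t by exact_mod_cast hp e he, Finsupp.degree_eq_weight_one]; rfl⟩
  let ι0 : k →+* GrLC.deg0 𝒲 := (MvPolynomial.C : k →+* P).codRestrict (GrLC.deg0 𝒲) hCmem
  let f : H →+ GrLC.comp 𝒲 𝒲 (t : ℤ) := AddMonoidHom.mk' (fun p => ⟨p.1, (hHmem p.1).1 p.2⟩) fun _ _ => rfl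
  have hf : Function.Bijective f := ⟨fun a b e => Subtype.ext (congrArg Subtype.val e :), fun p => ⟨⟨p.1, (hHmem p.1).2 p.2⟩, rfl⟩⟩
  have hι : Function.Bijective ι0 := ⟨fun a b e => C_injective _ _ (congrArg Subtype.val e), fun p => by
    obtain ⟨c, hc⟩ := hC0 p.1 p.2
    exact ⟨c, Subtype.ext hc⟩⟩
  refine (congrArg Cardinal.toNat (rank_eq_of_equiv_equiv ι0 (AddEquiv.ofBijective f hf) hι fun c p => ?_)).symm
  exact Subtype.ext (C_mul' (a := c) (p := p.1)).symm

end Groth.Agent.S20027
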