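import Groth.Statements.S20029
import Groth.Agent.L13.HdgDiv.Abs
import Groth.Agent.L05.EulerDiv.PowerFibre
import Groth.Agent.L17.AffinePush
import Groth.Agent.L22.EnrSev.Basic
-- import your own Groth.Agent.* helpers here

set_option autoImplicit false
set_option backward.isDefEq.respectTransparency false
set_option linter.style.haveILetI false
set_option backward.isDefEq.respectTransparency.types false
universe u
open CategoryTheory CategoryTheory.Limits AlgebraicGeometry
open Coh

namespace Groth.Agent.S20029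

/-- Let k be a field of characteristic p > 0 whose Frobenius endomorphism is finite, X a scheme smooth
and proper over k of relative dimension N, and 𝓘 a quasi-coherent ideal of X whose ideal module is
invertible with an ample tensor-inverse L, such that the closed subscheme Y defined by 𝓘, with
inclusion i : Y → X, is smooth over k (a smooth hypersurface section; no boundary divisor). Suppose
Y is sufficiently ample with respect to X: for every q ≥ 0 and every O_X-module Ω which is a q-th
exterior power of the sheaf of absolute differentials Ω_{X/ℤ}, one has H^i(X, 𝓘^{⊗ n} ⊗ Ω) = 0 for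
all n ≥ 1 and all i with i + q ≤ N − 1. Then the analogous vanishing holds on Y one degree lower:
for every q ≥ 0 and every O_Y-module Ω' which is a q-th exterior power of the absolute differentials
Ω_{Y/ℤ}, H^i(Y, (i^*𝓘)^{⊗ n} ⊗ Ω') = 0 for all n ≥ 1 and all i with i + q ≤ N − 2, where i^*𝓘 is the
module pullback of the ideal module along i (the conormal sheaf O_Y(−Y)). -/
theorem result
    (k : Type u) [Field k] (p : ℕ) [Fact p.Prime] [CharP k p] (hF : (frobenius k p).Finite)
    (X : Scheme.{u}) (f : X ⟶ Spec (CommRingCat.of k)) [IsProper f] (N : ℕ)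
    [SmoothOfRelativeDimension N f]
    (𝓘 : X.IdealSheafData) (L : X.Modules) (hL : ClSub.IsInverseOf L (ClSub.idealMod 𝓘)) (hamp : CohB1.IsAmple L)
    [Smooth (𝓘.subschemeι ≫ f)]
    (hsa : ∀ (q : ℕ) (Ω : X.Modules), ExtPow.IsExtPow q (Omega.sheaf (specULiftZIsTerminal.from X)) Ω → ∀ n i : ℕ, 1 ≤ n → i + q + 1 ≤ N → Subsingleton (Coh.HH X (CohB1.tensorMod (CohB1.tensorPow (ClSub.idealMod 𝓘) n) Ω) i)) :
    ∀ (q : ℕ) (Ω' : (𝓘.subscheme).Modules),
      ExtPow.IsExtPow q (Omega.sheaf (specULiftZIsTerminal.from 𝓘.subscheme)) Ω' →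
      ∀ n i : ℕ, 1 ≤ n → i + q + 2 ≤ N →
        Subsingleton (Coh.HH 𝓘.subscheme
          (CohB1.tensorMod (CohB1.tensorPow ((Scheme.Modules.pullback 𝓘.subschemeι).obj (ClSub.idealMod 𝓘)) n) Ω') i) := by
  haveI : Smooth f := SmoothOfRelativeDimension.smooth N f
  obtain ⟨e⟩ := id hL
  have hI : PicF.IsInvertible (ClSub.idealMod 𝓘) := Groth.L22.EnrSev.isInvertible_of_inverse hamp.1 e
  obtain ⟨D, hΩ, hΩ'⟩ := Groth.L13.HdgDiv.exists_absData p f hF 𝓘 hI
  intro q Ω' hq n i hn hi
  have hE : ∀ p q j, p + q < N → 1 ≤ j →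
      Subsingleton (Coh.HH X (CohB1.tensorMod (D.E p) (CohB1.tensorPow (ClSub.idealMod 𝓘) j)) q) :=
    fun a b j hab hj => Groth.L22.EnrSev.subsingleton_of_iso (Groth.L00.Tensor.tensorComm _ _) b
      (hsa a _ (hΩ ▸ D.isE a) j b hj (by omega))
  have h := D.neg_van hE (p := q) (q := i) (j := n) (by omega) hn
  haveI := Groth.L15.PnHodge.isQCoh_of_locFree D.free'
  obtain ⟨eF⟩ := Groth.L12.ExtSh.nonempty_iso_of_isExtPow (D.isF q) (hΩ'.symm ▸ hq)
  obtain ⟨eP⟩ := Groth.L05.EulerDiv.nonempty_pullback_tensorPow 𝓘.subschemeι (ClSub.idealMod 𝓘) n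
  obtain ⟨eH⟩ := Groth.L17.nonempty_HH_push_of_isClosedImmersion 𝓘.subschemeι
    (CohB1.tensorMod (CohB1.tensorPow ((Scheme.Modules.pullback 𝓘.subschemeι).obj (ClSub.idealMod 𝓘)) n) Ω') i
  refine eH.toEquiv.subsingleton_congr.2 ?_
  exact Groth.L22.EnrSev.subsingleton_of_iso (Groth.L00.Tensor.tensorComm _ _ ≪≫
    Groth.L00.Tensor.tensorIso (Iso.refl _) ((Coh.push _).mapIso eF) ≪≫
      Groth.L13.HdgDiv.projection _ _ _ ≪≫
      (Coh.push _).mapIso (Groth.L00.Tensor.tensorIso eP (Iso.refl _))) i h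

end Groth.Agent.S20029
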