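import Groth.Statements.S2004
import Groth.Agent.L05.Glue.Torsion

set_option autoImplicit false
universe u
open TensorProduct
open EtAlg

namespace Groth.Agent.S2004

/-- Let R -> R' induce bijections R/f^n R -> R'/f^n R' for all n > 0. Then (R -> R', f) is a glueing
pair if and only if R -> R' maps the f-power torsion of R bijectively onto the f-power torsion of R'
(stated as: injective on f-power torsion elements, and every f-power torsion element of R' is the
image of one of R). -/
theorem result (R R' : Type u) [CommRing R] [CommRing R'] [Algebra R R'] (f : R)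
    (hq : EtGlue.QuotPowBijective R R' f) :
    EtGlue.IsGlueingPair R R' f ↔
      ((∀ x : R, (∃ n : ℕ, f ^ n * x = 0) → algebraMap R R' x = 0 → x = 0) ∧
       (∀ x' : R', (∃ n : ℕ, algebraMap R R' f ^ n * x' = 0) →
          ∃ x : R, (∃ n : ℕ, f ^ n * x = 0) ∧ algebraMap R R' x = x')) := by
  have h : ∀ (n : ℕ) (x' : R'), f ^ n • x' = algebraMap R R' f ^ n * x' := fun n x' => by
    rw [Algebra.smul_def, map_pow]
  rw [Groth.L05.Glue.isGlueingPair_iff hq]
  simp only [Groth.L05.Glue.InjTors, Groth.L05.Glue.SurjTors, Groth.L05.Glue.IsTors, h,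
    Algebra.linearMap_apply, smul_eq_mul]

end Groth.Agent.S2004
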