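import Groth.Statements.S2008
import Mathlib.RingTheory.Flat.FaithfullyFlat.Algebra
import Mathlib.RingTheory.TensorProduct.Quotient

set_option autoImplicit false
universe u
open TensorProduct
open EtAlg

namespace Groth.Agent.S2008

/-- For a ring map R -> S and an ideal I of R the following are equivalent: (1) S is flat over R and
S/IS is faithfully flat over R/I; (2) S is flat over R and Spec(S/IS) -> Spec(R/I) is surjective;
(3) S is flat over R and S ⊗_R M is nonzero for every nonzero R-module M killed by I; (4) S is flat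
over R and S ⊗_R M is nonzero for every nonzero I-power torsion R-module M. (Faithfulness of base
change on these subcategories is stated as detection of nonzero objects, which is equivalent for an
exact functor.) -/
theorem result (R S : Type u) [CommRing R] [CommRing S] [Algebra R S] (I : Ideal R) :
    List.TFAE [
      Module.Flat R S ∧ Module.FaithfullyFlat (R ⧸ I) (S ⧸ I.map (algebraMap R S)),
      Module.Flat R S ∧ Function.Surjective (PrimeSpectrum.comap (Ideal.quotientMap (I.map (algebraMap R S)) (algebraMap R S) Ideal.le_comap_map)),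
      Module.Flat R S ∧ ∀ (M : Type u) [AddCommGroup M] [Module R M], (∀ (a : R) (m : M), a ∈ I → a • m = 0) →
        Nontrivial M → Nontrivial (S ⊗[R] M),
      Module.Flat R S ∧ ∀ (M : Type u) [AddCommGroup M] [Module R M], (∀ m : M, ∃ n : ℕ, ∀ a ∈ I ^ n, a • m = 0) →
        Nontrivial M → Nontrivial (S ⊗[R] M)] := by
  classical
  tfae_have 1 → 2 := fun ⟨h1, h2⟩ => ⟨h1, by
    have := h2
    exact PrimeSpectrum.comap_surjective_of_faithfullyFlat (A := R ⧸ I) (B := S ⧸ I.map (algebraMap R S))⟩
  tfae_have 2 → 3 := by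
    rintro ⟨h1, h2⟩
    refine ⟨h1, fun M _ _ hM hne => ?_⟩
    obtain ⟨x, hx⟩ := exists_ne (0 : M)
    have hJ : LinearMap.ker (LinearMap.toSpanSingleton R M x) ≠ ⊤ := fun h => hx (by
      have h1 : (1 : R) ∈ LinearMap.ker (LinearMap.toSpanSingleton R M x) := h ▸ Submodule.mem_top
      simpa using h1)
    obtain ⟨m, hm, hJm⟩ := Ideal.exists_le_maximal _ hJ
    have hIm : I ≤ m := le_trans (fun a ha => by simpa using hM a x ha) hJm
    haveI : (m.map (Ideal.Quotient.mk I)).IsPrime :=
      Ideal.map_isPrime_of_surjective Ideal.Quotient.mk_surjective (by rwa [Ideal.mk_ker])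
    obtain ⟨Q, hQ⟩ := h2 ⟨m.map (Ideal.Quotient.mk I), inferInstance⟩
    let J : Ideal R := LinearMap.ker (LinearMap.toSpanSingleton R M x)
    have hJS : J.map (algebraMap R S) ≠ ⊤ := fun h => by
      have h1 : J.map (algebraMap R S) ≤ Q.asIdeal.comap (Ideal.Quotient.mk _) := by
        refine Ideal.map_le_iff_le_comap.mpr fun a ha => ?_
        have h2 : Ideal.Quotient.mk I a ∈ m.map (Ideal.Quotient.mk I) :=
          Ideal.mem_map_of_mem _ (hJm ha)
        rw [← show (PrimeSpectrum.comap _ Q).asIdeal = m.map (Ideal.Quotient.mk I) from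
          congrArg PrimeSpectrum.asIdeal hQ] at h2
        exact h2
      exact (Ideal.IsPrime.comap (Ideal.Quotient.mk _)).ne_top (top_le_iff.mp (h ▸ h1))
    haveI : Nontrivial (S ⧸ J.map (algebraMap R S)) := Ideal.Quotient.nontrivial_iff.mpr hJS
    haveI : Nontrivial (S ⊗[R] (R ⧸ J)) :=
      (Algebra.TensorProduct.quotIdealMapEquivTensorQuot S J).symm.toEquiv.nontrivial
    exact (Module.Flat.lTensor_preserves_injective_linearMap (M := S)
      (Submodule.liftQ J (LinearMap.toSpanSingleton R M x) le_rfl)
      (LinearMap.ker_eq_bot.mp (Submodule.ker_liftQ_eq_bot _ _ _ le_rfl))).nontrivial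
  tfae_have 3 → 4 := by
    rintro ⟨h1, h2⟩
    refine ⟨h1, fun M _ _ hM hne => ?_⟩
    obtain ⟨x, hx⟩ := exists_ne (0 : M)
    obtain ⟨n, hn⟩ := hM x
    obtain ⟨y, hy0, hy⟩ : ∃ y : M, y ≠ 0 ∧ ∀ a ∈ I, a • y = 0 := by
      by_contra hcon
      push Not at hcon
      have key : ∀ k ≤ n, ∀ y : M, (∀ a ∈ I ^ k, a • y = 0) → y = 0 := by
        intro k
        induction k with
        | zero => intro _ y hy; simpa using hy 1 (by simp)
        | succ k ih =>
          intro hk y hy
          by_contra hne
          obtain ⟨a, ha, hay⟩ := hcon y hne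
          refine hay (ih (by omega) _ fun b hb => ?_)
          rw [smul_smul]
          exact hy _ (pow_succ I k ▸ Ideal.mul_mem_mul hb ha)
      exact hx (key n le_rfl x hn)
    haveI : Nontrivial (Submodule.span R {y}) :=
      ⟨⟨⟨y, Submodule.subset_span rfl⟩, 0, fun h => hy0 (congrArg Subtype.val h)⟩⟩
    haveI := h2 (Submodule.span R {y}) (fun a z ha => Subtype.ext (by
      obtain ⟨c, hc⟩ := Submodule.mem_span_singleton.mp z.2
      rw [SetLike.val_smul, ← hc, smul_smul, mul_comm, ← smul_smul, hy a ha, smul_zero]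
      rfl)) inferInstance
    exact (Module.Flat.lTensor_preserves_injective_linearMap (M := S)
      (Submodule.span R {y}).subtype Subtype.val_injective).nontrivial
  tfae_have 4 → 1 := by
    rintro ⟨h1, h2⟩
    refine ⟨h1, ?_⟩
    haveI : Module.Flat (R ⧸ I) (S ⧸ I.map (algebraMap R S)) :=
      Module.Flat.of_linearEquiv (M := (R ⧸ I) ⊗[R] S)
        ((((Algebra.TensorProduct.comm R (R ⧸ I) S).trans
          ((Algebra.TensorProduct.quotIdealMapEquivTensorQuot S I).symm.restrictScalars R)).extendScalarsOfSurjective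
            (S := R ⧸ I) Ideal.Quotient.mk_surjective).toLinearEquiv).symm
    refine ⟨fun m hm htop => ?_⟩
    rw [Ideal.smul_top_eq_map, Submodule.restrictScalars_eq_top_iff] at htop
    let J : Ideal R := m.comap (Ideal.Quotient.mk I)
    haveI : J.IsMaximal := Ideal.comap_isMaximal_of_surjective _ Ideal.Quotient.mk_surjective
    have hIJ : I ≤ J := fun a ha => by
      show Ideal.Quotient.mk I a ∈ m
      rw [Ideal.Quotient.eq_zero_iff_mem.mpr ha]
      exact zero_mem m
    haveI := h2 (R ⧸ J) (fun z => ⟨1, fun a ha => by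
      rw [pow_one] at ha
      rw [Algebra.smul_def, Ideal.Quotient.algebraMap_eq, Ideal.Quotient.eq_zero_iff_mem.mpr (hIJ ha),
        zero_mul]⟩) inferInstance
    haveI : Nontrivial (S ⧸ J.map (algebraMap R S)) :=
      (Algebra.TensorProduct.quotIdealMapEquivTensorQuot S J).toEquiv.nontrivial
    refine Ideal.Quotient.nontrivial_iff.mp ‹Nontrivial (S ⧸ J.map (algebraMap R S))› ?_
    have h3 : (J.map (algebraMap R S)).map (Ideal.Quotient.mk (I.map (algebraMap R S))) = ⊤ := by
      rw [← htop, Ideal.map_map]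
      conv_rhs => rw [← Ideal.map_comap_of_surjective _ Ideal.Quotient.mk_surjective m, Ideal.map_map]
      rfl
    have h4 := congrArg (Ideal.comap (Ideal.Quotient.mk (I.map (algebraMap R S)))) h3
    rwa [Ideal.comap_map_of_surjective' _ Ideal.Quotient.mk_surjective, Ideal.comap_top,
      Ideal.mk_ker, sup_eq_left.mpr (Ideal.map_mono hIJ)] at h4
  tfae_finish

end Groth.Agent.S2008
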