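import Groth.Statements.S2009
import Mathlib.LinearAlgebra.TensorProduct.RightExactness
import Mathlib.RingTheory.Flat.Basic
-- import your own Groth.Agent.* helpers here

set_option autoImplicit false
universe u
open TensorProduct
open EtAlg

namespace Groth.Agent.S2009
open TensorProduct

variable {R S : Type u} [CommRing R] [CommRing S] [Algebra R S] {I : Ideal R}

theorem bijective_of_killed (hbij : Function.Bijective
      (Ideal.quotientMap (I.map (algebraMap R S)) (algebraMap R S) Ideal.le_comap_map))
    (M : Type u) [AddCommGroup M] [Module R M] (h : ∀ a ∈ I, ∀ m : M, a • m = 0) :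
    Function.Bijective (TensorProduct.mk R S M 1) := by
  let J : Submodule R S := (I.map (algebraMap R S)).restrictScalars R
  let θ : (R ⧸ I) →ₗ[R] S ⧸ J := Submodule.liftQ I (J.mkQ ∘ₗ Algebra.linearMap R S) fun a ha => by
    rw [LinearMap.mem_ker, LinearMap.comp_apply, Submodule.mkQ_apply, Submodule.Quotient.mk_eq_zero]
    exact Ideal.mem_map_of_mem _ ha
  have hθ : Function.Bijective θ := by
    refine ⟨(injective_iff_map_eq_zero _).mpr fun x hx => ?_, fun y => ?_⟩
    · obtain ⟨r, rfl⟩ := Ideal.Quotient.mk_surjective x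
      apply hbij.1
      rw [Ideal.quotientMap_mk, map_zero, Ideal.Quotient.eq_zero_iff_mem]
      exact (Submodule.Quotient.mk_eq_zero J).mp hx
    · obtain ⟨z, rfl⟩ := Submodule.mkQ_surjective J y
      obtain ⟨x, hx⟩ := hbij.2 (Ideal.Quotient.mk (I.map (algebraMap R S)) z)
      obtain ⟨r, rfl⟩ := Ideal.Quotient.mk_surjective x
      rw [Ideal.quotientMap_mk, Ideal.Quotient.eq] at hx
      exact ⟨Ideal.Quotient.mk I r, (Submodule.Quotient.eq J).mpr hx⟩
  let ψ : S →ₗ[R] R ⧸ I := (LinearEquiv.ofBijective θ hθ).symm.toLinearMap ∘ₗ J.mkQ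
  have hψ : ∀ r : R, ψ (algebraMap R S r) = Ideal.Quotient.mk I r := fun r =>
    (LinearEquiv.ofBijective θ hθ).symm_apply_apply (Ideal.Quotient.mk I r)
  let β : (R ⧸ I) →ₗ[R] M →ₗ[R] M := Submodule.liftQ I (LinearMap.lsmul R M) fun a ha =>
    LinearMap.ext fun m => h a ha m
  let inv : S ⊗[R] M →ₗ[R] M := TensorProduct.lift (β ∘ₗ ψ)
  have hl : ∀ m, inv (1 ⊗ₜ m) = m := fun m => by
    show β (ψ 1) m = m
    rw [← map_one (algebraMap R S), hψ]
    exact one_smul R m
  have hr : ∀ z : S ⊗[R] M, ∃ m, (1 : S) ⊗ₜ[R] m = z := by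
    intro z
    induction z using TensorProduct.induction_on with
    | zero => exact ⟨0, TensorProduct.tmul_zero _ _⟩
    | add a b ha hb =>
      obtain ⟨a, rfl⟩ := ha
      obtain ⟨b, rfl⟩ := hb
      exact ⟨a + b, TensorProduct.tmul_add _ _ _⟩
    | tmul s m =>
      obtain ⟨x, hx⟩ := hbij.2 (Ideal.Quotient.mk _ s)
      obtain ⟨r, rfl⟩ := Ideal.Quotient.mk_surjective x
      rw [Ideal.quotientMap_mk, Ideal.Quotient.eq] at hx
      have h0 : ∀ t ∈ I.map (algebraMap R S), t ⊗ₜ[R] m = 0 := by
        intro t ht
        refine Submodule.span_induction ?_ (TensorProduct.zero_tmul _ _)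
          (fun a b _ _ ha hb => by rw [TensorProduct.add_tmul, ha, hb, add_zero]) ?_ ht
        · rintro _ ⟨a, ha, rfl⟩
          rw [Algebra.algebraMap_eq_smul_one, TensorProduct.smul_tmul, h a ha, TensorProduct.tmul_zero]
        · intro c a _ ha
          have := congrArg (c • ·) ha
          simpa [TensorProduct.smul_tmul'] using this
      refine ⟨r • m, ?_⟩
      have := h0 _ hx
      rw [TensorProduct.sub_tmul, sub_eq_zero] at this
      rw [← this, Algebra.algebraMap_eq_smul_one, TensorProduct.smul_tmul]
  refine ⟨fun a b hab => ?_, fun z => hr z⟩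
  rw [← hl a, ← hl b]
  exact congrArg inv hab

theorem bijective_of_pow_killed [Module.Flat R S] (hbij : Function.Bijective
      (Ideal.quotientMap (I.map (algebraMap R S)) (algebraMap R S) Ideal.le_comap_map)) :
    ∀ (n : ℕ) (M : Type u) [AddCommGroup M] [Module R M], (∀ a ∈ I ^ n, ∀ m : M, a • m = 0) →
      Function.Bijective (TensorProduct.mk R S M 1) := by
  intro n
  induction n with
  | zero =>
    intro M _ _ h
    exact bijective_of_killed hbij M fun a _ m => by
      rw [← one_smul R m, h 1 (by simp) m, smul_zero]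
  | succ n ih =>
    intro M _ _ h
    let N : Submodule R M := I • ⊤
    have hN : Function.Bijective (TensorProduct.mk R S N 1) := ih N fun a ha x => Subtype.ext (by
      show a • (x : M) = 0
      refine Submodule.smul_induction_on (p := fun v => a • v = 0) x.2 (fun r hr v _ => ?_)
        (fun u v hu hv => by rw [smul_add, hu, hv, add_zero])
      rw [smul_smul]
      exact h _ (pow_succ I n ▸ Ideal.mul_mem_mul ha hr) v)
    have hQ : Function.Bijective (TensorProduct.mk R S (M ⧸ N) 1) := bijective_of_killed hbij _ fun a ha q => by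
      obtain ⟨m, rfl⟩ := Submodule.mkQ_surjective N q
      rw [← map_smul, Submodule.mkQ_apply, Submodule.Quotient.mk_eq_zero]
      exact Submodule.smul_mem_smul ha trivial
    refine ⟨(injective_iff_map_eq_zero _).mpr fun m hm => ?_, fun z => ?_⟩
    · have h1 : N.mkQ m = 0 := hQ.1 (by
        rw [map_zero]
        have := congrArg (N.mkQ.lTensor S) hm
        simpa using this)
      rw [Submodule.mkQ_apply, Submodule.Quotient.mk_eq_zero] at h1
      have h2 : (⟨m, h1⟩ : N) = 0 := hN.1 (by
        rw [map_zero]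
        apply Module.Flat.lTensor_preserves_injective_linearMap (M := S) N.subtype Subtype.val_injective
        rw [map_zero]
        exact hm)
      exact congrArg Subtype.val h2
    · obtain ⟨q, hq⟩ := hQ.2 (N.mkQ.lTensor S z)
      obtain ⟨m, rfl⟩ := Submodule.mkQ_surjective N q
      obtain ⟨w, hw⟩ := (lTensor_exact S (LinearMap.exact_subtype_mkQ N) N.mkQ_surjective
        (z - (1 : S) ⊗ₜ m)).mp (by
          rw [map_sub, LinearMap.lTensor_tmul, sub_eq_zero]
          exact hq.symm)
      obtain ⟨v, rfl⟩ := hN.2 w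
      refine ⟨m + v, ?_⟩
      show (1 : S) ⊗ₜ[R] (m + (v : M)) = z
      rw [TensorProduct.tmul_add, ← eq_sub_iff_add_eq']
      exact hw

/-- Let R -> S be flat with S/IS faithfully flat over R/I. Then the natural map M -> S ⊗_R M is
bijective for every I-power torsion R-module M if and only if R/I -> S/IS is bijective. -/
theorem result (R S : Type u) [CommRing R] [CommRing S] [Algebra R S] (I : Ideal R)
    [Module.Flat R S] [Module.FaithfullyFlat (R ⧸ I) (S ⧸ I.map (algebraMap R S))] :
    (∀ (M : Type u) [AddCommGroup M] [Module R M], (∀ m : M, ∃ n : ℕ, ∀ a ∈ I ^ n, a • m = 0) →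
      Function.Bijective (TensorProduct.mk R S M 1)) ↔
    Function.Bijective (Ideal.quotientMap (I.map (algebraMap R S)) (algebraMap R S) Ideal.le_comap_map) := by
  refine ⟨fun h => ?_, fun hbij M _ _ htor => ⟨?_, fun z => ?_⟩⟩
  · have hb := h (R ⧸ I) fun q => ⟨1, fun a ha => by
      obtain ⟨r, rfl⟩ := Ideal.Quotient.mk_surjective q
      rw [← Ideal.Quotient.mk_eq_mk, ← Submodule.Quotient.mk_smul, Ideal.Quotient.mk_eq_mk,
        Ideal.Quotient.eq_zero_iff_mem, smul_eq_mul]
      exact I.mul_mem_right _ (by simpa using ha)⟩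
    let γ : S ⊗[R] (R ⧸ I) →ₗ[R] S ⧸ I.map (algebraMap R S) := TensorProduct.lift
      (LinearMap.mk₂ R (fun s x => Ideal.Quotient.mk _ s *
        Ideal.quotientMap (I.map (algebraMap R S)) (algebraMap R S) Ideal.le_comap_map x)
        (fun a b x => by rw [map_add, add_mul])
        (fun c a x => by
          rw [Algebra.smul_def, map_mul, mul_assoc, Algebra.smul_def, IsScalarTower.algebraMap_apply R S]
          rfl)
        (fun a x y => by rw [map_add, mul_add])
        (fun c a x => by
          rw [Algebra.smul_def, map_mul, ← mul_assoc, Algebra.smul_def, ← mul_assoc, mul_comm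
            (Ideal.Quotient.mk _ a)]
          rfl))
    let δ : S →ₗ[R] S ⊗[R] (R ⧸ I) := (TensorProduct.mk R S (R ⧸ I)).flip 1
    refine ⟨(injective_iff_map_eq_zero _).mpr fun x hx => hb.1 ?_, fun y => ?_⟩
    · obtain ⟨r, rfl⟩ := Ideal.Quotient.mk_surjective x
      rw [Ideal.quotientMap_mk, Ideal.Quotient.eq_zero_iff_mem] at hx
      rw [map_zero]
      have h0 : ∀ t ∈ I.map (algebraMap R S), t ⊗ₜ[R] (1 : R ⧸ I) = 0 := by
        intro t ht
        refine Submodule.span_induction ?_ (TensorProduct.zero_tmul _ _)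
          (fun a b _ _ ha hb => by rw [TensorProduct.add_tmul, ha, hb, add_zero]) ?_ ht
        · rintro _ ⟨a, ha, rfl⟩
          rw [Algebra.algebraMap_eq_smul_one, TensorProduct.smul_tmul]
          show (1 : S) ⊗ₜ[R] (a • (1 : R ⧸ I)) = 0
          rw [Algebra.smul_def, mul_one, Ideal.Quotient.algebraMap_eq, Ideal.Quotient.eq_zero_iff_mem.mpr ha,
            TensorProduct.tmul_zero]
        · intro c a _ ha
          have := congrArg (c • ·) ha
          simpa [TensorProduct.smul_tmul'] using this
      have h1 := h0 _ hx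
      rw [Algebra.algebraMap_eq_smul_one, TensorProduct.smul_tmul, Algebra.smul_def, mul_one] at h1
      exact h1
    · obtain ⟨s, rfl⟩ := Ideal.Quotient.mk_surjective y
      obtain ⟨x, hx⟩ := hb.2 (δ s)
      refine ⟨x, ?_⟩
      have h1 := congrArg γ hx
      simpa [γ, δ] using h1
  · refine (injective_iff_map_eq_zero _).mpr fun m hm => ?_
    obtain ⟨n, hn⟩ := htor m
    let N := Submodule.span R {m}
    have h1 : (⟨m, Submodule.mem_span_singleton_self m⟩ : N) = 0 :=
      (bijective_of_pow_killed hbij n N fun a ha v => by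
        obtain ⟨c, hc⟩ := Submodule.mem_span_singleton.mp v.2
        refine Subtype.ext ?_
        show a • (v : M) = 0
        rw [← hc, smul_comm, hn a ha, smul_zero]).1 (by
          rw [map_zero]
          apply Module.Flat.lTensor_preserves_injective_linearMap (M := S) N.subtype Subtype.val_injective
          rw [map_zero]
          exact hm)
    exact congrArg Subtype.val h1
  · induction z using TensorProduct.induction_on with
    | zero => exact ⟨0, map_zero _⟩
    | add a b ha hb =>
      obtain ⟨a, rfl⟩ := ha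
      obtain ⟨b, rfl⟩ := hb
      exact ⟨a + b, map_add _ _ _⟩
    | tmul s m =>
      obtain ⟨n, hn⟩ := htor m
      let N := Submodule.span R {m}
      obtain ⟨v, hv⟩ := (bijective_of_pow_killed hbij n N fun a ha v => by
        obtain ⟨c, hc⟩ := Submodule.mem_span_singleton.mp v.2
        refine Subtype.ext ?_
        show a • (v : M) = 0
        rw [← hc, smul_comm, hn a ha, smul_zero]).2 (s ⊗ₜ ⟨m, Submodule.mem_span_singleton_self m⟩)
      exact ⟨v, by simpa using congrArg (N.subtype.lTensor S) hv⟩

end Groth.Agent.S2009
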