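import Groth.Statements.S2011
import Mathlib.RingTheory.Jacobson.Ring
import Groth.Agent.L00.ArtinTate
-- import your own Groth.Agent.* helpers here

set_option autoImplicit false
universe u
open EtAlg

namespace Groth.Agent.S2011

/-- Let A be a Noetherian ring and I an ideal contained in the Jacobson radical of A (a Zariski pair).
Then for every f in I the localization A_f is a Jacobson ring. -/
theorem result (A : Type u) [CommRing A] [IsNoetherianRing A] (I : Ideal A)
    (hI : I ≤ (⊥ : Ideal A).jacobson) (f : A) (hf : f ∈ I) : IsJacobsonRing (Localization.Away f) := by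
  classical
  rw [isJacobsonRing_iff_prime_eq]
  intro P hP
  refine le_antisymm (fun g hg => ?_) Ideal.le_jacobson
  by_contra hgP
  obtain ⟨a, s, rfl⟩ := IsLocalization.exists_mk'_eq (Submonoid.powers f) g
  let φ := algebraMap A (Localization.Away f)
  let P0 := P.comap φ
  have hfP : f ∉ P0 := fun h => hP.ne_top (Ideal.eq_top_of_isUnit_mem _ h (IsLocalization.Away.algebraMap_isUnit f))
  have haP : a ∉ P0 := fun h => hgP ((IsLocalization.mk'_mem_iff).2 h)
  obtain ⟨r, ⟨hr, hPr, hfr, har⟩, hrmax⟩ := (wellFounded_gt (α := Ideal A)).has_min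
    {r : Ideal A | r.IsPrime ∧ P0 ≤ r ∧ f ∉ r ∧ a ∉ r} ⟨P0, inferInstance, le_rfl, hfP, haP⟩
  haveI := hr
  have hfa : f * a ∉ r := fun h => (hr.mem_or_mem h).elim hfr har
  have hab : ∀ q : Ideal A, q.IsPrime → r ≤ q → q ≠ r → f * a ∈ q := fun q hq hrq hne => by
    by_contra hc
    exact hrmax q ⟨hq, hPr.trans hrq, fun h => hc (q.mul_mem_right _ h), fun h => hc (q.mul_mem_left _ h)⟩
      (lt_of_le_of_ne hrq (Ne.symm hne))
  have hdisj : Disjoint (Submonoid.powers f : Set A) (r : Set A) := by
    rw [Set.disjoint_left]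
    rintro _ ⟨n, rfl⟩ h
    exact hfr (hr.mem_of_pow_mem n h)
  let rS := r.map φ
  haveI hrS : rS.IsPrime := IsLocalization.isPrime_of_isPrime_disjoint (Submonoid.powers f) _ r hr hdisj
  have hrc : rS.comap φ = r := IsLocalization.comap_map_of_isPrime_disjoint (Submonoid.powers f) _ hr hdisj
  have hmax : rS.IsMaximal := by
    refine ⟨⟨hrS.ne_top, fun J hJ => ?_⟩⟩
    by_contra hJt
    obtain ⟨M, hM, hJM⟩ := J.exists_le_maximal hJt
    have hlt : rS < M := lt_of_lt_of_le hJ hJM
    have hne : M.comap φ ≠ r := fun e => hlt.ne (by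
      rw [← IsLocalization.map_comap (Submonoid.powers f) (Localization.Away f) M]
      exact congrArg (Ideal.map φ) e.symm)
    have hle : r ≤ M.comap φ := hrc ▸ Ideal.comap_mono hlt.le
    obtain ⟨m, hm, hMm⟩ := (M.comap φ).exists_le_maximal (Ideal.comap_ne_top _ hM.ne_top)
    have := Groth.L00.ArtinTate.eq_of_le hfa hab hle hne hMm
    have hfm : f ∈ m := by
      have h1 : (⊥ : Ideal A).jacobson ≤ m := sInf_le ⟨bot_le, hm⟩
      exact h1 (hI hf)
    exact hM.ne_top (Ideal.eq_top_of_isUnit_mem _ (Ideal.mem_comap.1 (this.symm ▸ hfm)) (IsLocalization.Away.algebraMap_isUnit f))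
  have hPrS : P ≤ rS := by
    rw [← IsLocalization.map_comap (Submonoid.powers f) (Localization.Away f) P]
    exact Ideal.map_mono hPr
  have := (Ideal.mem_sInf.1 hg) ⟨hPrS, hmax⟩
  apply har
  rw [← hrc, Ideal.mem_comap]
  exact (IsLocalization.mk'_mem_iff).1 this

end Groth.Agent.S2011
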