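import Groth.Statements.S2012
import Groth.Agent.L05.Hfp.Surjection
import Mathlib.RingTheory.IntegralClosure.IsIntegralClosure.Basic

set_option autoImplicit false
universe u
open EtAlg

namespace Groth.Agent.S2012

/-- Let A be a ring and I an ideal contained in its Jacobson radical. Let B be an A-algebra which is
flat, integral and of finite presentation over A and such that A/I -> B/IB is bijective. Then A -> B
is bijective. -/
theorem result (A B : Type u) [CommRing A] [CommRing B] [Algebra A B]
    (I : Ideal A) (hI : I ≤ (⊥ : Ideal A).jacobson) [Module.Flat A B] [Algebra.IsIntegral A B] [Algebra.FinitePresentation A B]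
    (hq : Function.Bijective (Ideal.quotientMap (I.map (algebraMap A B)) (algebraMap A B) Ideal.le_comap_map)) :
    Function.Bijective (algebraMap A B) := by
  haveI : Module.Finite A B := Algebra.IsIntegral.finite
  have hs : Function.Surjective (algebraMap A B) := by
    have hle : (⊤ : Submodule A B) ≤ LinearMap.range (Algebra.linearMap A B) := by
      refine Submodule.le_of_le_smul_of_le_jacobson_bot Module.Finite.fg_top hI fun b _ => ?_
      obtain ⟨q, hqb⟩ := hq.2 (Ideal.Quotient.mk _ b)
      obtain ⟨a, rfl⟩ := Ideal.Quotient.mk_surjective q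
      rw [Ideal.quotientMap_mk, Ideal.Quotient.eq] at hqb
      refine Submodule.mem_sup.mpr ⟨algebraMap A B a, ⟨a, rfl⟩, b - algebraMap A B a, ?_, by ring⟩
      rw [Ideal.smul_top_eq_map, Submodule.restrictScalars_mem, ← neg_sub]
      exact neg_mem hqb
    exact fun b => hle trivial
  have hk : RingHom.ker (Algebra.ofId A B) ≤ I.map (algebraMap A A) := fun a ha => by
    rw [Algebra.algebraMap_self, Ideal.map_id, ← Ideal.Quotient.eq_zero_iff_mem]
    refine hq.1 ?_
    rw [map_zero, Ideal.quotientMap_mk, Ideal.Quotient.eq_zero_iff_mem]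
    rw [show algebraMap A B a = 0 from ha]
    exact zero_mem _
  have h0 : RingHom.ker (Algebra.ofId A B) = ⊥ := by
    refine Submodule.eq_bot_of_le_smul_of_le_jacobson_bot (I.map (algebraMap A A)) _
      (Algebra.FinitePresentation.ker_fG_of_surjective (Algebra.ofId A B) hs) ?_ ?_
    · rw [smul_eq_mul]
      exact Groth.L05.Hfp.ker_le_smul_ker I (Algebra.ofId A B) hs hk
    · rwa [Algebra.algebraMap_self, Ideal.map_id]
  exact ⟨(RingHom.injective_iff_ker_eq_bot _).mpr h0, hs⟩

end Groth.Agent.S2012
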