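import Groth.Statements.S2014
import Mathlib.RingTheory.OrderOfVanishing.Basic
import Mathlib.Tactic.Linarith
import Mathlib.RingTheory.Ideal.MinimalPrime.Noetherian
import Mathlib.RingTheory.Ideal.Quotient.Operations
import Mathlib.RingTheory.KrullDimension.LocalRing
import Mathlib.Algebra.Module.Submodule.Pointwise

set_option autoImplicit false
universe u
open EtAlg

namespace Groth.Agent.S2014

/-- Let R be a Noetherian local ring of Krull dimension 1 and x an element of the maximal ideal
contained in no minimal prime of R. Then the number of minimal prime ideals of R is at most the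
length of R/xR as an R-module. -/
theorem result (R : Type u) [CommRing R] [IsNoetherianRing R] [IsLocalRing R]
    (hdim : ringKrullDim R = 1) (x : R) (hx : x ∈ IsLocalRing.maximalIdeal R) (hmin : ∀ p ∈ minimalPrimes R, x ∉ p) :
    (Set.ncard (minimalPrimes R) : ℕ∞) ≤ Module.length R (R ⧸ Ideal.span {x}) := by
  classical
  haveI : Fintype (minimalPrimes R) := (minimalPrimes.finite_of_isNoetherianRing R).fintype
  have hn : Set.ncard (minimalPrimes R) = Fintype.card (minimalPrimes R) := by
    rw [← Nat.card_coe_set_eq, Nat.card_eq_fintype_card]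
  haveI : ∀ p : minimalPrimes R, (p.1 : Ideal R).IsPrime := fun p => Ideal.minimalPrimes_isPrime p.2
  let N := ∀ p : minimalPrimes R, R ⧸ p.1
  let φ : R →ₗ[R] N := LinearMap.pi fun p => Submodule.mkQ p.1
  -- a power of `x` carries `N` into the image of `R`
  have hc : ∀ p : minimalPrimes R, ∃ c : ℕ, ∀ v : R ⧸ p.1, x ^ c • (Pi.single p v : N) ∈ LinearMap.range φ := by
    intro p
    let J : Ideal R := ⨅ q ∈ {q : minimalPrimes R | q ≠ p}, q.1
    have hrad : x ∈ (p.1 ⊔ J).radical := by
      rw [Ideal.radical_eq_sInf, Ideal.mem_sInf]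
      rintro P ⟨hP, hPp⟩
      haveI := hPp
      have hJP : J ≤ P := le_sup_right.trans hP
      obtain ⟨q, hq, hqP⟩ : ∃ q : minimalPrimes R, q ≠ p ∧ q.1 ≤ P := by
        have h1 : (Finset.univ.filter fun q : minimalPrimes R => q ≠ p).inf (fun q => q.1) ≤ P := by
          refine le_trans ?_ hJP
          simp only [J, le_iInf_iff]
          intro q hq
          exact Finset.inf_le (by simpa using hq)
        obtain ⟨q, hq, hqP⟩ := (Ideal.IsPrime.inf_le' hPp).1 h1
        exact ⟨q, (Finset.mem_filter.1 hq).2, hqP⟩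
      have hne : P ≠ p.1 := fun h => hq (Subtype.ext (le_antisymm (h ▸ hqP) (p.2.2 ⟨Ideal.minimalPrimes_isPrime q.2, bot_le⟩ (h ▸ hqP))))
      have hlt : p.1 < P := lt_of_le_of_ne (le_sup_left.trans hP) (Ne.symm hne)
      by_contra hxP
      have hmax : P < IsLocalRing.maximalIdeal R :=
        lt_of_le_of_ne (IsLocalRing.le_maximalIdeal hPp.ne_top) fun h => hxP (h ▸ hx)
      let l : LTSeries (PrimeSpectrum R) :=
        ((RelSeries.singleton _ (⟨p.1, inferInstance⟩ : PrimeSpectrum R)).snoc ⟨P, hPp⟩ hlt).snoc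
          (IsLocalRing.closedPoint R) (by rw [RelSeries.last_snoc]; exact (show (⟨P, hPp⟩ : PrimeSpectrum R) < IsLocalRing.closedPoint R from hmax))
      have := Order.LTSeries.length_le_krullDim l
      rw [show Order.krullDim (PrimeSpectrum R) = ringKrullDim R from rfl, hdim] at this
      simp [l] at this
    obtain ⟨c, hcx⟩ := hrad
    obtain ⟨a, ha, b, hb, hab⟩ := Submodule.mem_sup.1 hcx
    refine ⟨c, fun v => ?_⟩
    obtain ⟨v, rfl⟩ := Ideal.Quotient.mk_surjective v
    refine ⟨b * v, funext fun q => ?_⟩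
    rcases eq_or_ne q p with rfl | hq
    · simp only [φ, LinearMap.pi_apply, Submodule.mkQ_apply, Pi.smul_apply, Pi.single_eq_same]
      rw [← hab]
      show Ideal.Quotient.mk q.1 (b * v) = Ideal.Quotient.mk q.1 ((a + b) * v)
      rw [add_mul, map_add, Ideal.Quotient.eq_zero_iff_mem.2 (Ideal.mul_mem_right v _ ha), zero_add]
    · simp only [φ, LinearMap.pi_apply, Submodule.mkQ_apply, Pi.smul_apply, Pi.single_eq_of_ne hq, smul_zero]
      exact (Submodule.Quotient.mk_eq_zero _).2 (Ideal.mul_mem_right v _ (by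
        simp only [J, Submodule.mem_iInf] at hb
        exact hb q hq))
  choose c hc using hc
  let C := Finset.univ.sup c
  have hC : ∀ z : N, x ^ C • z ∈ LinearMap.range φ := fun z => by
    rw [← Finset.univ_sum_single z, Finset.smul_sum]
    refine Submodule.sum_mem _ fun p _ => ?_
    obtain ⟨d, hd⟩ := Nat.exists_eq_add_of_le (Finset.le_sup (f := c) (Finset.mem_univ p))
    show x ^ (Finset.univ.sup c) • _ ∈ _
    rw [hd, pow_add, mul_comm, mul_smul]
    exact Submodule.smul_mem _ _ (hc p (z p))
  -- upper bound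
  have hup : ∀ m : ℕ, Ring.ord R (x ^ m) ≤ m • Ring.ord R x := by
    intro m
    induction m with
    | zero => simp [Ring.ord_of_isUnit isUnit_one]
    | succ m ih =>
      have h1 : Ring.ord R (x * x ^ m) ≤ Ring.ord R x + Ring.ord R (x ^ m) := by
        let f := Ideal.mulQuot x (Ideal.span {x ^ m})
        let g := Ideal.quotOfMul x (Ideal.span {x ^ m})
        have he : Function.Exact (LinearMap.range f).subtype g := by
          rw [LinearMap.exact_iff, Submodule.range_subtype]
          exact LinearMap.exact_iff.1 (Ideal.exact_mulQuot_quotOfMul _)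
        have hlen := Module.length_eq_add_of_exact (LinearMap.range f).subtype g (Submodule.subtype_injective _)
          (Ideal.quotOfMul_surjective _) he
        open Pointwise in
        have hsp : (x • Ideal.span {x ^ m} : Ideal R) = Ideal.span {x * x ^ m} := by
          rw [← Submodule.singleton_set_smul (Ideal.span {x ^ m}) x, ← Ideal.submodule_span_eq,
            Submodule.set_smul_span]
          simp
        have e := (Submodule.quotEquivOfEq _ _ hsp).length_eq
        unfold Ring.ord
        rw [← e, hlen, add_comm]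
        exact add_le_add le_rfl (Module.length_le_of_surjective f.rangeRestrict f.surjective_rangeRestrict)
      rw [pow_succ', succ_nsmul']
      exact h1.trans (add_le_add le_rfl ih)
  -- lower bound
  have hlow : ∀ k : ℕ, (k * Fintype.card (minimalPrimes R) : ℕ∞) ≤ Ring.ord R (x ^ (C + k)) := by
    intro k
    let P : Submodule R (LinearMap.range φ) := (LinearMap.range (LinearMap.lsmul R N (x ^ (C + k)))).comap (LinearMap.range φ).subtype
    let ψ : R ⧸ Ideal.span {x ^ (C + k)} →ₗ[R] (LinearMap.range φ ⧸ P) :=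
      Submodule.liftQ _ (P.mkQ ∘ₗ φ.rangeRestrict) (fun r hr => by
        obtain ⟨s, rfl⟩ := Ideal.mem_span_singleton'.1 hr
        rw [LinearMap.mem_ker, LinearMap.comp_apply, Submodule.mkQ_apply, Submodule.Quotient.mk_eq_zero]
        refine ⟨φ s, ?_⟩
        show x ^ (C + k) • φ s = φ (s * x ^ (C + k))
        rw [← map_smul, smul_eq_mul, mul_comm])
    have hψ : Function.Surjective ψ := fun z => by
      obtain ⟨⟨_, r, rfl⟩, rfl⟩ := Submodule.mkQ_surjective P z
      exact ⟨Submodule.Quotient.mk r, rfl⟩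
    let θ : N →ₗ[R] (LinearMap.range φ ⧸ P) :=
      P.mkQ ∘ₗ LinearMap.codRestrict (LinearMap.range φ) (LinearMap.lsmul R N (x ^ C)) hC
    have hker : LinearMap.ker θ ≤ LinearMap.range (LinearMap.lsmul R N (x ^ k)) := by
      intro z hz
      rw [LinearMap.mem_ker, LinearMap.comp_apply, Submodule.mkQ_apply, Submodule.Quotient.mk_eq_zero] at hz
      obtain ⟨w, hw⟩ := hz
      refine ⟨w, funext fun p => ?_⟩
      have h1 : (x ^ (C + k) • w) p = (x ^ C • z) p := congrFun hw p
      have hx0 : Ideal.Quotient.mk p.1 (x ^ C) ≠ 0 := fun h => hmin _ p.2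
        ((Ideal.minimalPrimes_isPrime p.2).mem_of_pow_mem _ (Ideal.Quotient.eq_zero_iff_mem.1 h))
      refine mul_left_cancel₀ hx0 ?_
      simp only [LinearMap.lsmul_apply, Pi.smul_apply] at h1 ⊢
      simp only [← Ideal.Quotient.algebraMap_eq, ← Algebra.smul_def]
      rw [Pi.smul_apply, ← mul_smul, ← pow_add]
      exact h1
    let Qp : minimalPrimes R → Type u := fun p => (R ⧸ p.1) ⧸ Ideal.span {Ideal.Quotient.mk p.1 x ^ k}
    let π : N →ₗ[R] ∀ p, Qp p := LinearMap.piMap fun p =>
      (Ideal.Quotient.mkₐ R (Ideal.span {Ideal.Quotient.mk p.1 x ^ k})).toLinearMap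
    have hπ : Function.Surjective π := fun z => by
      choose w hw using fun p => Ideal.Quotient.mk_surjective (z p)
      exact ⟨w, funext hw⟩
    have hkπ : LinearMap.ker θ ≤ LinearMap.ker π := hker.trans (by
      rintro _ ⟨w, rfl⟩
      rw [LinearMap.mem_ker]
      funext p
      show Ideal.Quotient.mk _ (x ^ k • w p) = 0
      rw [Ideal.Quotient.eq_zero_iff_mem, Algebra.smul_def, Ideal.Quotient.algebraMap_eq, map_pow]
      exact Ideal.mul_mem_right _ _ (Ideal.mem_span_singleton_self _))
    have h2 : Module.length R (∀ p, Qp p) ≤ Module.length R (N ⧸ LinearMap.ker θ) :=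
      Module.length_le_of_surjective ((LinearMap.ker θ).liftQ π hkπ) (fun z => by
        obtain ⟨w, rfl⟩ := hπ z
        exact ⟨Submodule.Quotient.mk w, rfl⟩)
    have h3 : Module.length R (N ⧸ LinearMap.ker θ) ≤ Ring.ord R (x ^ (C + k)) :=
      (Module.length_le_of_injective ((LinearMap.ker θ).liftQ θ le_rfl)
        (LinearMap.ker_eq_bot.1 (Submodule.ker_liftQ_eq_bot _ _ _ le_rfl))).trans
        (Module.length_le_of_surjective ψ hψ)
    refine le_trans ?_ (h2.trans h3)
    rw [Module.length_pi_of_fintype, mul_comm]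
    refine le_of_eq_of_le (by simp) (Finset.sum_le_sum (f := fun _ => (k : ℕ∞)) fun p _ => ?_)
    have hD : Ring.ord (R ⧸ p.1) (Ideal.Quotient.mk p.1 x ^ k) = k • Ring.ord (R ⧸ p.1) (Ideal.Quotient.mk p.1 x) :=
      Ring.ord_pow (mem_nonZeroDivisors_iff_ne_zero.2 fun h => hmin _ p.2 (Ideal.Quotient.eq_zero_iff_mem.1 h)) k
    rw [Module.length_eq_of_surjective (R := R ⧸ p.1) Ideal.Quotient.mk_surjective]
    show (k : ℕ∞) ≤ Ring.ord (R ⧸ p.1) (Ideal.Quotient.mk p.1 x ^ k)
    rw [hD, nsmul_eq_mul]
    refine le_mul_of_one_le_right' ?_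
    haveI : Nontrivial ((R ⧸ p.1) ⧸ Ideal.span {Ideal.Quotient.mk p.1 x}) := by
      rw [Ideal.Quotient.nontrivial_iff, Ne, Ideal.span_singleton_eq_top]
      intro hu
      obtain ⟨y, hy⟩ := hu.exists_right_inv
      obtain ⟨y, rfl⟩ := Ideal.Quotient.mk_surjective y
      rw [← map_mul, ← map_one (Ideal.Quotient.mk p.1), Ideal.Quotient.eq] at hy
      have h4 := Ideal.sub_mem _ (Ideal.mul_mem_right y (IsLocalRing.maximalIdeal R) hx)
        (IsLocalRing.le_maximalIdeal (Ideal.minimalPrimes_isPrime p.2).ne_top hy)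
      rw [sub_sub_cancel] at h4
      exact (IsLocalRing.maximalIdeal.isMaximal R).ne_top ((Ideal.eq_top_iff_one _).2 h4)
    exact Order.one_le_iff_pos.2 Module.length_pos
  rw [hn]
  change _ ≤ Ring.ord R x
  by_contra hlt
  obtain ⟨L, hL⟩ := ENat.ne_top_iff_exists.1 (ne_top_of_lt (not_le.1 hlt))
  rw [← hL, not_le, Nat.cast_lt] at hlt
  have h := (hlow (C * L + 1)).trans (hup _)
  rw [← hL, nsmul_eq_mul, ← Nat.cast_mul, ← Nat.cast_mul, Nat.cast_le] at h
  nlinarith [Nat.mul_le_mul_left (C * L + 1) (Nat.succ_le_of_lt hlt)]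

end Groth.Agent.S2014
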