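import Groth.Statements.S2017
import Groth.Agent.L05.Gluing.ArtinTate

set_option autoImplicit false
universe u
open EtAlg

namespace Groth.Agent.S2017

/-- Let R be a Noetherian ring, A, B, C R-algebras of finite type, f : A -> B a surjective R-algebra map
and g : C -> B an R-algebra map making B a finite C-module. Then the fibre product A ×_B C (the
equalizer of f ∘ pr₁ and g ∘ pr₂ in A × C) is an R-algebra of finite type. -/
theorem result (R A B C : Type u) [CommRing R] [IsNoetherianRing R] [CommRing A] [CommRing B]
    [CommRing C] [Algebra R A] [Algebra R B] [Algebra R C] [Algebra.FiniteType R A] [Algebra.FiniteType R B]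
    [Algebra.FiniteType R C] (f : A →ₐ[R] B) (hf : Function.Surjective f) (g : C →ₐ[R] B)
    (hg : (g.toRingHom).Finite) :
    Algebra.FiniteType R ↥(AlgHom.equalizer (f.comp (AlgHom.fst R A C)) (g.comp (AlgHom.snd R A C))) := by
  classical
  letI : Algebra C B := g.toRingHom.toAlgebra
  haveI : Module.Finite C B := hg
  obtain ⟨sB, hsB⟩ := (Module.Finite.fg_top : (⊤ : Submodule C B).FG)
  choose a ha using hf
  set E := AlgHom.equalizer (f.comp (AlgHom.fst R A C)) (g.comp (AlgHom.snd R A C)) with hE
  let s : Set (A × C) := {((1 : A), (0 : C)), ((0 : A), (1 : C))} ∪ (fun b => (a b, (0 : C))) '' (sB : Set B)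
  haveI : Algebra.FiniteType R (A × C) := inferInstance
  refine Groth.L05.Gluing.finiteType_subalgebra_of_span inferInstance E s
    (((Set.finite_singleton _).insert _).union (sB.finite_toSet.image _)) (eq_top_iff.2 ?_)
  rintro ⟨x, c⟩ -
  have hlift : ∀ c : C, (a (g c), c) ∈ E := fun c => ha (g c)
  have hker : ∀ x : A, f x = 0 → (x, (0 : C)) ∈ E := fun x hx => show f x = g 0 by rw [hx, map_zero]
  have h0 : ((0 : A), c) ∈ Submodule.span E s := by
    have : ((0 : A), c) = (⟨(a (g c), c), hlift c⟩ : E) • ((0 : A), (1 : C)) := by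
      rw [Subalgebra.smul_def]
      simp
    rw [this]
    exact Submodule.smul_mem _ _ (Submodule.subset_span (Or.inl (by simp)))
  have h1 : ∀ x : A, f x = 0 → (x, (0 : C)) ∈ Submodule.span E s := fun x hx => by
    have : (x, (0 : C)) = (⟨(x, (0 : C)), hker x hx⟩ : E) • ((1 : A), (0 : C)) := by
      rw [Subalgebra.smul_def]
      simp
    rw [this]
    exact Submodule.smul_mem _ _ (Submodule.subset_span (Or.inl (by simp)))
  have h2 : ∀ b : B, ∀ x : A, f x = b → (x, (0 : C)) ∈ Submodule.span E s := by
    intro b
    induction (hsB ▸ Submodule.mem_top : b ∈ Submodule.span C (sB : Set B)) using Submodule.span_induction with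
    | mem b hb =>
      intro x hx
      have h3 := h1 (x - a b) (by rw [map_sub, hx, ha, sub_self])
      have h4 : (a b, (0 : C)) ∈ Submodule.span E s := Submodule.subset_span (Or.inr ⟨b, hb, rfl⟩)
      simpa using Submodule.add_mem _ h3 h4
    | zero => exact h1
    | add u v _ _ hu hv =>
      intro x hx
      have h3 := Submodule.add_mem _ (hu (a u) (ha u)) (hv (x - a u) (by rw [map_sub, hx, ha, add_sub_cancel_left]))
      simpa using h3
    | smul r u _ hu =>
      intro x hx
      have h3 := Submodule.smul_mem _ (⟨(a (g r), r), hlift r⟩ : E) (hu (a u) (ha u))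
      have h4 := h1 (x - a (g r) * a u) (by rw [map_sub, hx, map_mul, ha, ha, Algebra.smul_def]; exact sub_self _)
      rw [Subalgebra.smul_def] at h3
      simpa using Submodule.add_mem _ h4 h3
  simpa using Submodule.add_mem _ (h2 (f x) x rfl) h0

end Groth.Agent.S2017
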