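import Groth.Statements.S2018
import Mathlib.RingTheory.IntegralClosure.IsIntegral.Basic
import Mathlib.Algebra.Polynomial.Lifts

set_option autoImplicit false
universe u
open EtAlg

namespace Groth.Agent.S2018

/-- Let g : A' -> A be a surjective ring map and f : B -> A an integral ring map. Then the projection
from the fibre product B ×_A A' (the equalizer of f ∘ pr₁ and g ∘ pr₂ in B × A') to A' is integral. -/
theorem result (A A' B : Type u) [CommRing A] [CommRing A'] [CommRing B] (g : A' →+* A)
    (hg : Function.Surjective g) (f : B →+* A) (hf : f.IsIntegral) :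
    ((RingHom.snd B A').comp ((f.comp (RingHom.fst B A')).eqLocus (g.comp (RingHom.snd B A'))).subtype).IsIntegral := by
  intro a'
  set E := (f.comp (RingHom.fst B A')).eqLocus (g.comp (RingHom.snd B A')) with hE
  let ψ : E →+* A' := (RingHom.snd B A').comp E.subtype
  have hk : ∀ k : A', g k = 0 → ∃ e : E, ψ e = k := fun k hk0 =>
    ⟨⟨(0, k), by show f 0 = g k; rw [map_zero, hk0]⟩, rfl⟩
  rcases subsingleton_or_nontrivial A with hA | hA
  · obtain ⟨e, he⟩ := hk a' (Subsingleton.elim _ _)
    rw [← he]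
    exact RingHom.isIntegralElem_map ψ
  obtain ⟨P, hP, hP0⟩ := hf (g a')
  choose c hc using hg
  let Q : Polynomial E := Polynomial.X ^ P.natDegree +
    ∑ i : Fin P.natDegree, Polynomial.C ⟨(P.coeff i, c (f (P.coeff i))), (hc _).symm⟩ * Polynomial.X ^ (i : ℕ)
  have hdeg : P.natDegree ≠ 0 := by
    intro h0
    rw [Polynomial.eq_one_of_monic_natDegree_zero hP h0, Polynomial.eval₂_one] at hP0
    exact one_ne_zero hP0
  have hQ : Q.Monic := Polynomial.monic_X_pow_add (Polynomial.degree_sum_fin_lt _)
  have hQ0 : g (Q.eval₂ ψ a') = 0 := by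
    rw [← hP0]
    conv_rhs => rw [hP.as_sum, Finset.sum_range]
    simp only [Q, Polynomial.eval₂_add, Polynomial.eval₂_pow, Polynomial.eval₂_X,
      Polynomial.eval₂_finsetSum, Polynomial.eval₂_mul, Polynomial.eval₂_C, map_add, map_sum,
      map_mul, map_pow]
    congr 1
    refine Finset.sum_congr rfl fun i _ => ?_
    show g (c (f (P.coeff i))) * g a' ^ (i : ℕ) = _
    rw [hc]
  obtain ⟨k, hk⟩ := hk _ hQ0
  refine ⟨Q - Polynomial.C k, hQ.sub_of_left ?_, ?_⟩
  · refine Polynomial.degree_C_le.trans_lt ?_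
    haveI : Nontrivial E := ⟨⟨0, 1, fun h01 => hdeg ((fun (hs : Subsingleton B) => Polynomial.natDegree_of_subsingleton)
      (subsingleton_of_zero_eq_one (congrArg (fun e : E => e.1.1) h01)))⟩⟩
    simp only [Q]
    rw [Polynomial.degree_add_eq_left_of_degree_lt ((Polynomial.degree_sum_fin_lt _).trans_le (Polynomial.degree_X_pow _).ge),
      Polynomial.degree_X_pow]
    exact_mod_cast Nat.pos_of_ne_zero hdeg
  · show (Q - Polynomial.C k).eval₂ ψ a' = 0
    rw [Polynomial.eval₂_sub, Polynomial.eval₂_C, hk, sub_self]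

end Groth.Agent.S2018
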