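import Groth.Statements.S4573
import Groth.Agent.L06.FormSmoothField2

set_option autoImplicit false
set_option linter.style.haveILetI false
set_option maxSynthPendingDepth 3
universe u
open TensorProduct IsLocalRing
open EGA41

namespace Groth.Agent.S4573

/-- Let k be a field of characteristic exponent p and A a Noetherian local k-algebra. Then A is formally
smooth over k for the adic topology of its maximal ideal if and only if, for every finite extension
k' of k with k'^p ⊆ k, the ring k' ⊗_k A is regular. -/
theorem result {k A : Type u} [Field k] (p : ℕ)
    [ExpChar k p] [CommRing A] [IsLocalRing A] [IsNoetherianRing A] [Algebra k A] :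
    CAlgX.IsAdicFormallySmooth k A (maximalIdeal A) ↔
      ∀ (k' : Type u) [Field k'] [Algebra k k'], Module.Finite k k' →
        (∀ x : k', x ^ p ∈ (algebraMap k k').range) → IsRegularRing (k' ⊗[k] A) := by
  rw [Groth.L06.FormSmooth.adicSmooth_iff_regular_injective]
  constructor
  · intro h k' _ _ hf _
    exact (Groth.L06.FormSmooth.adicSmooth_iff_geometricallyRegular k A).mp
      ((Groth.L06.FormSmooth.adicSmooth_iff_regular_injective k A).mpr h) k' hf
  intro h
  haveI : IsRegularRing (k ⊗[k] A) := h k inferInstance fun x => ⟨x ^ p, rfl⟩
  haveI : IsRegularRing A := IsRegularRing.of_ringEquiv (Algebra.TensorProduct.lid k A).toRingEquiv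
  haveI : IsRegularLocalRing A := IsRegularLocalRing.of_isRegularRing_of_isLocalRing A
  refine ⟨inferInstance, ?_⟩
  cases ‹ExpChar k p› with
  | zero => exact Groth.L06.FormSmooth.injective_diffMap_zero k A
  | prime hprime =>
    haveI := Fact.mk hprime
    exact Groth.L06.FormSmooth.injective_diffMap_of_pRootRegular p h

end Groth.Agent.S4573
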