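import Groth.Statements.S2040
import Groth.Agent.L06.FormSmoothLiftQuot

set_option autoImplicit false
set_option linter.style.haveILetI false
set_option maxSynthPendingDepth 3
universe u
open CAlg

namespace Groth.Agent.S2040

open scoped TensorProduct

/-- For a complete Noetherian local ring `A` with residue field `k`, and a complete Noetherian local
`k`-algebra `B` which is formally smooth over `k` for the adic topology of its maximal ideal, there
is a Noetherian complete local ring `C` with a local homomorphism `A → C`, formally smooth for the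
adic topology of the maximal ideal of `C`, whose special fibre `C ⊗ k` is isomorphic to `B` over
`k`. -/
theorem result {A B : Type u} [CommRing A] [IsLocalRing A]
    [IsNoetherianRing A] [IsAdicComplete (IsLocalRing.maximalIdeal A) A] [CommRing B] [IsLocalRing B]
    [IsNoetherianRing B] [IsAdicComplete (IsLocalRing.maximalIdeal B) B]
    [Algebra (IsLocalRing.maximalIdeal A).ResidueField B]
    (hB : CAlgX.IsAdicFormallySmooth (IsLocalRing.maximalIdeal A).ResidueField B (IsLocalRing.maximalIdeal B)) :
    ∃ (C : Type u) (_ : CommRing C) (_ : IsLocalRing C) (_ : Algebra A C),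
      IsNoetherianRing C ∧ IsAdicComplete (IsLocalRing.maximalIdeal C) C ∧ IsLocalHom (algebraMap A C) ∧
        CAlgX.IsAdicFormallySmooth A C (IsLocalRing.maximalIdeal C) ∧
        Nonempty ((IsLocalRing.maximalIdeal A).Fiber C ≃ₐ[(IsLocalRing.maximalIdeal A).ResidueField] B) := by
  let k := (IsLocalRing.maximalIdeal A).ResidueField
  have hk : Function.Surjective (algebraMap A k) := Groth.L06.FormSmooth.residueField_surjective
  have hgeo := (Groth.L06.FormSmooth.adicSmooth_iff_geometricallyRegular k B).mp hB
  haveI : IsRegularRing (k ⊗[k] B) := hgeo k inferInstance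
  haveI : IsRegularRing B := IsRegularRing.of_ringEquiv (Algebra.TensorProduct.lid k B).toRingEquiv
  haveI : IsRegularLocalRing B := IsRegularLocalRing.of_isRegularRing_of_isLocalRing B
  have hf : (IsLocalRing.maximalIdeal A).map ((algebraMap k B).comp (algebraMap A k)) = ⊥ := by
    rw [← Ideal.map_map, show (IsLocalRing.maximalIdeal A).map (algebraMap A k) = ⊥ from
      (Ideal.map_eq_bot_iff_le_ker _).mpr (Groth.L06.FormSmooth.ker_algebraMap_eq hk).ge, Ideal.map_bot]
  obtain ⟨C, _, _, _, _, _, π, hc, hflat, hπ, hcomm, hker⟩ :=
    Groth.L06.FormSmooth.exists_flat_lift ((algebraMap k B).comp (algebraMap A k)) hf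
  obtain ⟨e, -⟩ := Groth.L06.FormSmooth.exists_fibreEquiv (k := k) hk π hπ hcomm hker
  haveI := hflat
  exact ⟨C, inferInstance, inferInstance, inferInstance, inferInstance, hc, inferInstance,
    (Groth.L06.FormSmooth.adicSmooth_iff_flat_geomRegular hk).mpr
      ⟨hflat, Groth.L06.FormSmooth.geomRegular_congr e.symm hgeo⟩, ⟨e⟩⟩

end Groth.Agent.S2040
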