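import Mathlib.RingTheory.Etale.Basic
import Mathlib.RingTheory.Ideal.Over
import Mathlib.RingTheory.TensorProduct.Basic
import Mathlib.RingTheory.IntegralClosure.IsIntegralClosure.Basic
import Groth.Agent.L02.CAlg.GoodStage

set_option autoImplicit false
namespace CAlg
end CAlg
universe u
open CAlg

namespace Groth.Agent.S2041

open TensorProduct in
/-- Let `I ⊆ A` be an ideal, `A → B` integral and `ē` an idempotent of `B/IB`. Then there is an étale
`A`-algebra `A'` with `A/I → A'/IA'` bijective and an idempotent of `A' ⊗ B` whose class modulo `I`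
agrees with that of any lift of `ē`. -/
theorem result {A B : Type u} [CommRing A] [CommRing B] [Algebra A B]
    [Algebra.IsIntegral A B] (I : Ideal A) (e : B ⧸ I.map (algebraMap A B)) (he : IsIdempotentElem e) :
    ∃ (A' : Type u) (_ : CommRing A') (_ : Algebra A A'), Algebra.Etale A A' ∧
      Function.Bijective (algebraMap (A ⧸ I) (A' ⧸ I.map (algebraMap A A'))) ∧
      ∃ e' : A' ⊗[A] B, IsIdempotentElem e' ∧
        ∀ b : B, Ideal.Quotient.mk (I.map (algebraMap A B)) b = e →
          e' - 1 ⊗ₜ b ∈ I.map (algebraMap A (A' ⊗[A] B)) := by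
  obtain ⟨u, rfl⟩ := Ideal.Quotient.mk_surjective e
  have hu : u * u - u ∈ I.map (algebraMap A B) := by
    rw [← Ideal.Quotient.eq, map_mul]; exact he
  obtain ⟨A', _, _, σ, het, hσ, e', he', hmem⟩ := Groth.L02.GoodStage.exists_idem (I := I) u hu
  refine ⟨A', _, _, het, Groth.L02.GoodStage.bijective_of_ker σ hσ, e', he', fun b hb => ?_⟩
  rw [Ideal.Quotient.eq] at hb
  have h := Ideal.mem_map_of_mem
    (Algebra.TensorProduct.includeRight : B →ₐ[A] A' ⊗[A] B).toRingHom hb
  rw [Ideal.map_map, AlgHom.toRingHom_eq_coe, AlgHom.comp_algebraMap] at h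
  have h2 := sub_mem hmem h
  simp only [AlgHom.coe_toRingHom, map_sub, Algebra.TensorProduct.includeRight_apply,
    RingHom.coe_coe, sub_sub, add_sub_cancel] at h2
  exact h2

end Groth.Agent.S2041
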