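import Mathlib.RingTheory.Etale.Basic
import Mathlib.RingTheory.Ideal.Over
import Mathlib.RingTheory.TensorProduct.Basic
import Mathlib.RingTheory.Smooth.Basic
import Groth.Agent.L02.CAlg.GoodStage
import Groth.Agent.L05.Hensel.Smooth

set_option autoImplicit false
namespace CAlg
end CAlg
universe u
open CAlg

open TensorProduct
namespace Groth.Agent.S2043

/-- Let `I ⊆ A` be an ideal, `B` a smooth `A`-algebra and `B → A/I` an `A`-algebra map. Then there is an
étale `A`-algebra `A'` with `A/I → A'/IA'` bijective and an `A`-algebra map `B → A'` lifting the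
given map. -/
theorem result {A B : Type u} [CommRing A] [CommRing B] [Algebra A B]
    [Algebra.Smooth A B] (I : Ideal A) (σ : B →ₐ[A] A ⧸ I) :
    ∃ (A' : Type u) (_ : CommRing A') (_ : Algebra A A'), Algebra.Etale A A' ∧
      Function.Bijective (algebraMap (A ⧸ I) (A' ⧸ I.map (algebraMap A A'))) ∧
      ∃ τ : B →ₐ[A] A', ∀ b : B,
        Ideal.Quotient.mk (I.map (algebraMap A A')) (τ b) =
          algebraMap (A ⧸ I) (A' ⧸ I.map (algebraMap A A')) (σ b) := by
  let H := Groth.L05.Henselization.PairHens A I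
  let J := I.map (algebraMap A H)
  have : HenselianRing H J := Groth.L02.GoodStage.henselian I
  let ψ : B →ₐ[A] H ⧸ J :=
    (Ideal.Quotient.liftₐ I (Algebra.ofId A (H ⧸ J)) fun i hi =>
      Ideal.Quotient.eq_zero_iff_mem.mpr (Ideal.mem_map_of_mem _ hi)).comp σ
  let σ' : TensorProduct A H B →ₐ[H] H ⧸ J :=
    Algebra.TensorProduct.lift (Algebra.ofId H (H ⧸ J)) ψ fun _ _ => Commute.all _ _
  obtain ⟨τ', hτ'⟩ := Groth.L05.exists_algHom_lift_smooth J σ'
  let φ : B →ₐ[A] H := (τ'.restrictScalars A).comp Algebra.TensorProduct.includeRight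
  obtain ⟨E, _, _, α, β, hE, hβ⟩ :=
    (Groth.L27.IndEtale.isIndEtale_iff_exists_factor A H).mp
      (Groth.L05.Henselization.isIndEtale (A := A) (K := A ⧸ I)) B φ
  obtain ⟨A', _, _, het, σA, g, hσA, hgc⟩ := Groth.L05.Henselization.exists_refine I
    ((Groth.L05.Henselization.ε A (A ⧸ I)).comp β)
  refine ⟨A', _, _, het, Groth.L02.GoodStage.bijective_of_ker σA hσA, g.comp α, fun b => ?_⟩
  rw [Groth.L02.GoodStage.mk_eq_of_ker σA hσA]
  congr 1
  show σA (g (α b)) = σ b
  rw [show σA (g (α b)) = Groth.L05.Henselization.ε A (A ⧸ I) (β (α b)) from DFunLike.congr_fun hgc (α b),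
    show β (α b) = φ b from DFunLike.congr_fun hβ b]
  refine Groth.L02.GoodStage.ε_eq_of_mk_eq ?_
  show Ideal.Quotient.mk J (τ' (1 ⊗ₜ[A] b)) = _
  rw [show Ideal.Quotient.mk J (τ' (1 ⊗ₜ[A] b)) = σ' (1 ⊗ₜ[A] b) from DFunLike.congr_fun hτ' _]
  simp only [σ', Algebra.TensorProduct.lift_tmul, map_one, one_mul]
  obtain ⟨a, ha⟩ := Ideal.Quotient.mk_surjective (σ b)
  show (Ideal.Quotient.liftₐ I (Algebra.ofId A (H ⧸ J)) fun i hi =>
      Ideal.Quotient.eq_zero_iff_mem.mpr (Ideal.mem_map_of_mem _ hi)) (σ b) = _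
  rw [← ha]
  rfl

end Groth.Agent.S2043
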