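import Mathlib.RingTheory.Etale.Basic
import Mathlib.RingTheory.Ideal.Over
import Mathlib.RingTheory.TensorProduct.Basic
import Mathlib.RingTheory.Finiteness.Defs
import Mathlib.Algebra.Module.Projective
import Groth.Agent.L02.CAlg.GoodStage

set_option autoImplicit false
namespace CAlg
end CAlg
universe u
open CAlg

namespace Groth.Agent.S2044

open TensorProduct in
/-- Let `I ⊆ A` be an ideal and `P` a finite projective `A/I`-module. Then there is an étale `A`-algebra
`A'` with `A/I → A'/IA'` bijective and a finite projective `A'`-module whose reduction modulo `IA'`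
is the base change of `P`. -/
theorem result {A : Type u} [CommRing A] (I : Ideal A) (P : Type u)
    [AddCommGroup P] [Module (A ⧸ I) P] [Module.Finite (A ⧸ I) P] [Module.Projective (A ⧸ I) P] :
    ∃ (A' : Type u) (_ : CommRing A') (_ : Algebra A A'), Algebra.Etale A A' ∧
      Function.Bijective (algebraMap (A ⧸ I) (A' ⧸ I.map (algebraMap A A'))) ∧
      ∃ (P' : Type u) (_ : AddCommGroup P') (_ : Module A' P'), Module.Finite A' P' ∧
        Module.Projective A' P' ∧
        Nonempty (((A' ⧸ I.map (algebraMap A A')) ⊗[A'] P') ≃ₗ[A' ⧸ I.map (algebraMap A A')]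
          ((A' ⧸ I.map (algebraMap A A')) ⊗[A ⧸ I] P)) := by
  obtain ⟨n, Ebar, hE, ⟨iP⟩⟩ := Groth.L02.GoodStage.exists_idempotent_matrix (R := A ⧸ I) P
  obtain ⟨A', _, _, σ, het, hσ, e, he, hem⟩ := Groth.L02.GoodStage.exists_idem_matrix_lift Ebar hE
  refine ⟨A', _, _, het, Groth.L02.GoodStage.bijective_of_ker σ hσ,
    LinearMap.range (Matrix.toLin' e), inferInstance, inferInstance, ?_, ?_, ?_⟩
  · exact Module.Finite.range _
  · refine Module.Projective.of_split (LinearMap.range (Matrix.toLin' e)).subtype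
      (Matrix.toLin' e).rangeRestrict (LinearMap.ext fun ⟨v, w, hw⟩ => Subtype.ext ?_)
    show Matrix.toLin' e v = v
    rw [← hw, ← LinearMap.comp_apply, ← Matrix.toLin'_mul, show e * e = e from he]
  · obtain ⟨u⟩ := Groth.L02.GoodStage.baseChange_range_equiv
      (A' ⧸ I.map (algebraMap A A')) e he
    obtain ⟨v⟩ := Groth.L02.GoodStage.baseChange_range_equiv
      (A' ⧸ I.map (algebraMap A A')) Ebar hE
    have hmat : e.map (algebraMap A' (A' ⧸ I.map (algebraMap A A'))) =
        Ebar.map (algebraMap (A ⧸ I) (A' ⧸ I.map (algebraMap A A'))) := by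
      ext i j
      rw [← hem]
      exact Groth.L02.GoodStage.mk_eq_of_ker σ hσ (e i j)
    exact ⟨(u.trans (LinearEquiv.ofEq _ _ (by rw [hmat]))).trans
      (v.symm.trans (LinearEquiv.baseChange (A ⧸ I) (A' ⧸ I.map (algebraMap A A')) _ _ iP.symm))⟩

end Groth.Agent.S2044
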