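import Groth.Statements.S2046
import Groth.Agent.L06.AndreApps
import Groth.Agent.L06.GRingCrit
import Groth.Agent.L02.CAlg.RegularDescend
import Groth.Agent.L05.Henselization.Noeth

set_option autoImplicit false
set_option maxSynthPendingDepth 3
set_option linter.style.haveILetI false
universe u
open CAlg

namespace Groth.Agent.S2046

/-- If `R` is a Noetherian local G-ring then its strict henselization is a G-ring. -/
theorem result {R S : Type u} [CommRing R] [IsLocalRing R] [IsNoetherianRing R]
    (hR : CAlg.IsGRing R) [CommRing S] [IsLocalRing S] [Algebra R S] [IsLocalHom (algebraMap R S)]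
    [Hensel.IsStrictHenselization R S] : CAlg.IsGRing S := by
  obtain ⟨-, hR'⟩ := hR
  haveI : IsNoetherianRing S := (Groth.L05.Henselization.isNoetherianRing_iff_strict R S).mp inferInstance
  haveI : Module.Flat R S := Groth.L05.Henselization.flat_of_isStrictHenselization R S
  haveI : Algebra.IsSeparable (IsLocalRing.ResidueField R) (IsLocalRing.ResidueField S) :=
    (Hensel.IsStrictHenselization.isSepClosure (R := R) (S := S)).separable
  have h1 : CAlg.IsRegularHom R (AdicCompletion (IsLocalRing.maximalIdeal R) R) := by
    haveI : IsLocalization.AtPrime R (IsLocalRing.maximalIdeal R) := IsLocalization.self fun x hx =>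
      (IsUnit.mem_submonoid_iff x).mpr (by simpa [Ideal.primeCompl] using hx)
    exact Groth.L06.GRingTransport.isRegularHom_completion_of_ringEquiv
      (IsLocalization.algEquiv (IsLocalRing.maximalIdeal R).primeCompl
        (Localization.AtPrime (IsLocalRing.maximalIdeal R)) R).toRingEquiv (hR' _)
  let Sh := AdicCompletion (IsLocalRing.maximalIdeal S) S
  haveI : IsNoetherianRing Sh := Groth.Agent.S0543.result S _
  haveI : Module.FaithfullyFlat S Sh := Groth.L06.NormalAscent.faithfullyFlat_cpl S
  haveI : IsLocalHom (algebraMap R Sh) := by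
    rw [IsScalarTower.algebraMap_eq R S Sh]
    infer_instance
  haveI : Module.Flat R Sh := Module.Flat.trans R S Sh
  have hm : (IsLocalRing.maximalIdeal R).map (algebraMap R Sh) = IsLocalRing.maximalIdeal Sh := by
    rw [IsScalarTower.algebraMap_eq R S Sh, ← Ideal.map_map,
      Groth.L05.Henselization.map_maximalIdeal_of_isStrictHenselization R S]
    exact AdicCompletion.maximalIdeal_eq_map.symm
  haveI : Algebra.IsSeparable (IsLocalRing.ResidueField R) (IsLocalRing.ResidueField Sh) := by
    refine Algebra.IsSeparable.of_equiv_equiv (RingEquiv.refl _)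
      (RingEquiv.ofBijective (IsLocalRing.ResidueField.map (algebraMap S Sh))
        ⟨(IsLocalRing.ResidueField.map (algebraMap S Sh)).injective, fun z => ?_⟩) (RingHom.ext fun x => ?_)
    · obtain ⟨w, rfl⟩ := IsLocalRing.residue_surjective z
      obtain ⟨q, hq⟩ := Ideal.Quotient.mk_surjective (AdicCompletion.evalₐ (IsLocalRing.maximalIdeal S) 1 w)
      refine ⟨IsLocalRing.residue S q, ?_⟩
      rw [IsLocalRing.ResidueField.map_residue]
      refine Ideal.Quotient.eq.mpr ?_
      rw [← neg_sub, neg_mem_iff, AdicCompletion.maximalIdeal_eq_map]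
      suffices h : w - algebraMap S Sh q ∈ (IsLocalRing.maximalIdeal S ^ 1).map (algebraMap S Sh) by
        rwa [pow_one] at h
      rw [← Submodule.restrictScalars_mem S, ← Ideal.smul_top_eq_map,
        AdicCompletion.pow_smul_top_eq_ker_eval (IsNoetherian.noetherian _), LinearMap.mem_ker]
      have h0 : AdicCompletion.evalₐ (IsLocalRing.maximalIdeal S) 1 (w - algebraMap S Sh q) = 0 := by
        rw [map_sub, AlgHom.commutes, ← hq]
        exact sub_self _
      rw [← AdicCompletion.factor_evalₐ_eq_eval (IsLocalRing.maximalIdeal S) _ (by rw [smul_eq_mul, Ideal.mul_top]), h0,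
        map_zero]
    · obtain ⟨a, rfl⟩ := IsLocalRing.residue_surjective x
      rfl
  have h2 : CAlg.IsRegularHom R Sh :=
    Groth.L06.AndreRegular.isRegularHom_of_adicSmooth_of_completion h1
      (Groth.L06.AndreRegular.adicSmooth_of_separable_residue hm)
  have h3 : CAlg.IsRegularHom S Sh := Groth.L02.RegularDescend.isRegularHom_of_indEtale
    (Groth.L05.Henselization.isIndEtale_of_isStrictHenselization R S) h2
  refine Groth.L06.GRingCrit.isGRing_of_maximal fun m _ => ?_
  haveI : IsLocalization.AtPrime S m := IsLocalization.self fun x hx =>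
    (IsUnit.mem_submonoid_iff x).mpr (by
      have hx' : x ∉ IsLocalRing.maximalIdeal S := fun h => hx (by
        rwa [← IsLocalRing.eq_maximalIdeal (I := m) inferInstance] at h)
      simpa using hx')
  exact Groth.L06.GRingTransport.isRegularHom_completion_of_ringEquiv
    (IsLocalization.algEquiv m.primeCompl S (Localization.AtPrime m)).toRingEquiv h3

end Groth.Agent.S2046
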