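import Groth.Statements.S2048
import Groth.Agent.L01.DerDet
import Groth.Agent.L06.J0Complete

set_option autoImplicit false
universe u
open CAlg

namespace Groth.Agent.S2048

/-- Let `p` be a prime and `B` a domain of characteristic `p`, finitely generated as an algebra over
some complete Noetherian local ring. If `f ∈ B` has no `p`-th root in the fraction field of `B`,
then some derivation `D : B → B` has `D(f) ≠ 0`. -/
theorem result {R B : Type u} [CommRing R] [IsLocalRing R]
    [IsNoetherianRing R] [IsAdicComplete (IsLocalRing.maximalIdeal R) R] [CommRing B] [IsDomain B]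
    [Algebra R B] [Algebra.FiniteType R B] (p : ℕ) [Fact p.Prime] [CharP B p] (f : B)
    (hf : ∀ x : FractionRing B, x ^ p ≠ algebraMap B (FractionRing B) f) :
    ∃ D : Derivation ℤ B B, D f ≠ 0 := by
  let P : Ideal R := RingHom.ker (algebraMap R B)
  haveI : P.IsPrime := RingHom.ker_isPrime _
  haveI : IsLocalRing (R ⧸ P) := IsLocalRing.of_surjective' _ Ideal.Quotient.mk_surjective
  haveI := Groth.L01.NagataComplete.isAdicComplete_quotient P
  letI : Algebra (R ⧸ P) B := (RingHom.kerLift (algebraMap R B)).toAlgebra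
  haveI : IsScalarTower R (R ⧸ P) B := IsScalarTower.of_algebraMap_eq fun a => rfl
  haveI : Algebra.FiniteType (R ⧸ P) B := Algebra.FiniteType.of_restrictScalars_finiteType R _ _
  obtain ⟨Λ, _, n, φ, hΛ, hinj, hfin, -⟩ := Groth.Agent.S0581.result (R ⧸ P)
  rcases hΛ with hk | hC
  · letI := hk.toField
    haveI : IsDomain (MvPowerSeries (Fin n) Λ) := NoZeroDivisors.to_isDomain _
    let T := MvPowerSeries (Fin n) Λ
    letI : Algebra T (R ⧸ P) := φ.toAlgebra
    haveI : Module.Finite T (R ⧸ P) := hfin
    letI : Algebra T B := ((algebraMap (R ⧸ P) B).comp φ).toAlgebra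
    haveI : IsScalarTower T (R ⧸ P) B := IsScalarTower.of_algebraMap_eq' rfl
    haveI : Algebra.FiniteType T B := Algebra.FiniteType.trans (S := R ⧸ P) inferInstance ‹_›
    haveI : FaithfulSMul T B := (faithfulSMul_iff_algebraMap_injective T B).mpr
      ((RingHom.kerLift_injective _).comp hinj)
    haveI : CharP T p := (RingHom.charP_iff (algebraMap T B) (FaithfulSMul.algebraMap_injective T B) p).mpr ‹_›
    haveI : CharP Λ p := (RingHom.charP_iff (algebraMap Λ T) (algebraMap Λ T).injective p).mpr ‹_›
    letI : Algebra (FractionRing T) (FractionRing B) := FractionRing.liftAlgebra T (FractionRing B)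
    exact Groth.L01.DerDet.exists_derivation p
      (Groth.L01.DerDet.det_powerSeries Λ p n (FractionRing T)) f hf
  · obtain ⟨hd, hdvr, hc, p₀, hp₀, hm⟩ := hC
    haveI : IsDomain (MvPowerSeries (Fin n) Λ) := NoZeroDivisors.to_isDomain _
    exfalso
    have hψ : Function.Injective (((RingHom.kerLift (algebraMap R B)).comp φ).comp (MvPowerSeries.C (σ := Fin n) (R := Λ))) :=
      ((RingHom.kerLift_injective _).comp hinj).comp MvPowerSeries.C_injective
    haveI : CharP Λ p := (RingHom.charP_iff _ hψ p).mpr ‹_›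
    have hne : (p₀ : Λ) ≠ 0 := fun h => IsDiscreteValuationRing.not_a_field Λ (by rw [hm, h, Ideal.span_singleton_eq_bot])
    have hmem : (p₀ : Λ) ∈ IsLocalRing.maximalIdeal Λ := hm ▸ Ideal.mem_span_singleton_self _
    have hcop : Nat.Coprime p₀ p := (Nat.coprime_primes hp₀ Fact.out).mpr fun h => hne (h ▸ CharP.cast_eq_zero Λ p)
    obtain ⟨a, b, hab⟩ := (Nat.isCoprime_iff_coprime.mpr hcop : IsCoprime (p₀ : ℤ) p)
    have := congrArg (Int.cast : ℤ → Λ) hab
    push_cast at this
    rw [CharP.cast_eq_zero Λ p, mul_zero, add_zero] at this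
    exact (IsLocalRing.maximalIdeal.isMaximal Λ).ne_top ((Ideal.eq_top_iff_one _).mpr (this ▸ Ideal.mul_mem_left _ _ hmem))


end Groth.Agent.S2048
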