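import Groth.Statements.S2055
import Groth.Agent.L01.TorsionBC

set_option autoImplicit false
universe u
open CAlg

namespace Groth.Agent.S2055

section Helpers

open TensorProduct CategoryTheory Groth.L01.TorsionBC

theorem baseChange_bijective {R S M N : Type u} [CommRing R] [CommRing S] [Algebra R S]
    [AddCommGroup M] [Module R M] [AddCommGroup N] [Module R N]
    (h : Function.Bijective fun f : M →ₗ[R] N => eta R S N ∘ₗ f) :
    Function.Bijective (fun f : M →ₗ[R] N => LinearMap.baseChange S f) := by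
  have : (fun f : M →ₗ[R] N => LinearMap.baseChange S f) =
      (LinearMap.liftBaseChangeEquiv S) ∘ (fun f : M →ₗ[R] N => eta R S N ∘ₗ f) := funext fun f =>
    TensorProduct.AlgebraTensorModule.ext fun b y => by simp [TensorProduct.smul_tmul']
  rw [this]
  exact (LinearMap.liftBaseChangeEquiv S).bijective.comp h

theorem hom_bijective {A B : Type u} [CommRing A] [CommRing B] [Algebra A B] [Module.Flat A B]
    {I : Ideal A} (hI : I.FG)
    (hs : Function.Surjective ((Ideal.Quotient.mk (I.map (algebraMap A B))).comp (algebraMap A B)))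
    (hk : RingHom.ker ((Ideal.Quotient.mk (I.map (algebraMap A B))).comp (algebraMap A B)) = I)
    {M N : Type u} [AddCommGroup M] [Module A M] [AddCommGroup N] [Module A N]
    (h : LocCoh.IsPowerTorsion I M ∨ LocCoh.IsPowerTorsion I N) :
    Function.Bijective fun f : M →ₗ[A] N => eta A B N ∘ₗ f := by
  rcases h with hM | hN
  · have hb := bijective_postcomp_torsion hI hs hk M hM N 0
    constructor
    · intro f g hfg
      have h1 : (Abelian.Ext.mk₀ (ModuleCat.ofHom f)) = Abelian.Ext.mk₀ (ModuleCat.ofHom g) := hb.1 (by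
        show Abelian.Ext.comp _ _ _ = Abelian.Ext.comp _ _ _
        rw [Abelian.Ext.mk₀_comp_mk₀, Abelian.Ext.mk₀_comp_mk₀]
        exact congrArg Abelian.Ext.mk₀ (ModuleCat.hom_ext hfg))
      exact congrArg ModuleCat.Hom.hom ((Abelian.Ext.mk₀_bijective _ _).1 h1)
    · intro g
      obtain ⟨x, hx⟩ := hb.2 (Abelian.Ext.mk₀ (ModuleCat.ofHom g))
      obtain ⟨f, rfl⟩ := Abelian.Ext.homEquiv₀.symm.surjective x
      change (Abelian.Ext.mk₀ f).comp (Abelian.Ext.mk₀ _) _ = _ at hx
      rw [Abelian.Ext.mk₀_comp_mk₀] at hx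
      exact ⟨f.hom, congrArg ModuleCat.Hom.hom ((Abelian.Ext.mk₀_bijective _ _).1 hx)⟩
  · let e := LinearEquiv.ofBijective (eta A B N) (bijective_of_torsion hs hk N hN)
    exact ⟨fun f g hfg => LinearMap.ext fun x => e.injective (LinearMap.congr_fun hfg x),
      fun g => ⟨e.symm.toLinearMap ∘ₗ g, LinearMap.ext fun x => e.apply_symm_apply _⟩⟩

end Helpers

open CAlg
open TensorProduct in



/-- Let `R → S` be flat and `I ⊆ R` a finitely generated ideal with `R/I → S/IS` bijective. If one of
the `R`-modules `M`, `N` has every element killed by a power of `I`, then base change of linear maps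
`Hom_R(M, N) → Hom_S(S ⊗ M, S ⊗ N)` is bijective. -/
theorem result {R S M N : Type u} [CommRing R] [CommRing S]
    [Algebra R S] [Module.Flat R S] (I : Ideal R) (hI : I.FG)
    (hq : Function.Bijective (algebraMap (R ⧸ I) (S ⧸ I.map (algebraMap R S))))
    [AddCommGroup M] [Module R M] [AddCommGroup N] [Module R N]
    (hMN : (∀ x : M, ∃ n : ℕ, ∀ a ∈ I ^ n, a • x = 0) ∨ (∀ y : N, ∃ n : ℕ, ∀ a ∈ I ^ n, a • y = 0)) :
    Function.Bijective (fun f : M →ₗ[R] N => LinearMap.baseChange S f) := by
  refine baseChange_bijective (hom_bijective hI ?_ ?_ hMN)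
  · intro y
    obtain ⟨a, ha⟩ := hq.2 y
    obtain ⟨a, rfl⟩ := Ideal.Quotient.mk_surjective a
    exact ⟨a, ha⟩
  · refine le_antisymm (fun a ha => ?_) fun a ha => ?_
    · refine Ideal.Quotient.eq_zero_iff_mem.1 (hq.1 (Eq.trans ?_ (map_zero _).symm))
      exact RingHom.mem_ker.1 ha
    · rw [RingHom.mem_ker, RingHom.comp_apply, Ideal.Quotient.eq_zero_iff_mem]
      exact Ideal.mem_map_of_mem _ ha


end Groth.Agent.S2055
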