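import Groth.Statements.S2058
import Mathlib.RingTheory.RegularLocalRing.Defs
import Mathlib.RingTheory.Regular.RegularSequence
import Mathlib.RingTheory.Ideal.AssociatedPrime.Finiteness
import Mathlib.RingTheory.HopkinsLevitzki

set_option autoImplicit false
universe u
open CAlg

namespace Groth.Agent.S2058

open IsLocalRing


/-- Let R be a Noetherian local ring which is not Artinian, is not a regular local ring of dimension
one, and has depth at most one. Then there is a finite ring map R → R' with R' ≠ 0, not bijective,
whose kernel and cokernel are killed by a power of the maximal ideal of R, such that the maximal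
ideal of R is not an associated prime of the R-module R'. (This says that the four cases for a
Noetherian local ring — Artinian, regular of dimension one, depth at least two, or admitting such a
map — cover everything; that they are mutually exclusive is not asserted.) -/
theorem result {R : Type u} [CommRing R] [IsLocalRing R] [IsNoetherianRing R]
    (h1 : ¬ IsArtinianRing R) (h2 : ¬ (IsRegularLocalRing R ∧ ringKrullDim R = 1))
    (h3 : LocCoh.depth R R ≤ 1) :
    ∃ (R' : Type u) (_ : CommRing R') (_ : Algebra R R'), Nontrivial R' ∧ Module.Finite R R' ∧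
      ¬ Function.Bijective (algebraMap R R') ∧
      (∃ n : ℕ, (∀ x : R, algebraMap R R' x = 0 → ∀ a ∈ IsLocalRing.maximalIdeal R ^ n, a * x = 0) ∧
        (∀ y : R', ∀ a ∈ IsLocalRing.maximalIdeal R ^ n, a • y ∈ Set.range (algebraMap R R'))) ∧
      IsLocalRing.maximalIdeal R ∉ associatedPrimes R R' := by
  classical
  have key : ∀ (N : Type u) [AddCommGroup N] [Module R N] [Module.Finite R N],
      (∀ z ∈ maximalIdeal R, ¬ IsSMulRegular N z) → ∃ n : N, n ≠ 0 ∧ ∀ a ∈ maximalIdeal R, a • n = 0 := by
    intro N _ _ _ hz
    have hsub : (maximalIdeal R : Set R) ⊆ ⋃ P ∈ ((associatedPrimes.finite R N).toFinset : Set (Ideal R)), (P : Set R) := by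
      intro z hzm
      have := hz z hzm
      rw [isSMulRegular_iff_right_eq_zero_of_smul] at this
      push Not at this
      obtain ⟨n, hn, hn0⟩ := this
      obtain ⟨P, hP, hle⟩ := exists_le_isAssociatedPrime_of_isNoetherianRing R n hn0
      exact Set.mem_biUnion (x := P) (by simpa [AssociatedPrimes.mem_iff] using hP) (hle (by simpa [Submodule.mem_colon_singleton] using hn))
    obtain ⟨P, hP, hmP⟩ := (Ideal.subset_union_prime ⊥ ⊥ (fun P hP _ _ => by
      simp only [Set.Finite.mem_toFinset] at hP; exact hP.isPrime)).mp hsub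
    have hP' : IsAssociatedPrime P N := by simpa [AssociatedPrimes.mem_iff] using hP
    have e : maximalIdeal R = P := (maximalIdeal.isMaximal R).eq_of_le hP'.isPrime.ne_top hmP
    obtain ⟨-, n, hn⟩ := isAssociatedPrime_iff.mp hP'
    refine ⟨n, fun h => hP'.isPrime.ne_top ?_, fun a ha => ?_⟩
    · rw [hn, h]; simp
    · simpa [e, hn, Submodule.mem_colon_singleton] using ha
  by_cases hreg : ∀ z ∈ maximalIdeal R, ¬ IsSMulRegular R z
  · let G : ℕ →o Ideal R := ⟨fun n => (⊥ : Ideal R).colon ((maximalIdeal R ^ n : Ideal R) : Set R),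
      fun a b h r hr => Submodule.mem_colon.mpr fun p hp => Submodule.mem_colon.mp hr p (Ideal.pow_le_pow_right h hp)⟩
    obtain ⟨N, hN⟩ := monotone_stabilizes_iff_noetherian.mpr (inferInstance : IsNoetherian R R) G
    have memG : ∀ n r, r ∈ G n ↔ ∀ p ∈ maximalIdeal R ^ n, r * p = 0 := fun n r => by
      show r ∈ (⊥ : Ideal R).colon _ ↔ _
      simp [Submodule.mem_colon, Submodule.mem_annihilator]
    have hstab : G (N + 1 + 1) = G (N + 1) := (hN _ (by omega)).symm.trans (hN _ (by omega))
    have htop : G (N + 1) ≠ ⊤ := by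
      intro h
      refine h1 ((isArtinianRing_iff_isNilpotent_maximalIdeal R).mpr ⟨N + 1, ?_⟩)
      refine le_bot_iff.mp fun p hp => ?_
      have := (memG (N + 1) 1).mp (h ▸ Submodule.mem_top) p hp
      simpa using this
    obtain ⟨n0, hn0, hkill⟩ := key R hreg
    have hn0G : n0 ∈ G (N + 1) := (memG _ _).mpr fun p hp => by
      have := hkill p (Ideal.pow_le_self (by omega) hp)
      rwa [smul_eq_mul, mul_comm] at this
    haveI : Nontrivial (R ⧸ G (N + 1)) := Ideal.Quotient.nontrivial_iff.mpr htop
    refine ⟨R ⧸ G (N + 1), inferInstance, inferInstance, inferInstance, inferInstance, fun hb => hn0 ?_,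
      ⟨N + 1, fun r hr a ha => ?_, fun r a _ => ?_⟩, fun hass => ?_⟩
    · exact hb.1 (by rw [map_zero]; exact Ideal.Quotient.eq_zero_iff_mem.mpr hn0G)
    · rw [mul_comm]; exact (memG _ _).mp (Ideal.Quotient.eq_zero_iff_mem.mp hr) a ha
    · exact Ideal.Quotient.mk_surjective (I := G (N + 1)) _
    · obtain ⟨-, r, hr⟩ := isAssociatedPrime_iff.mp hass
      obtain ⟨r, rfl⟩ := Ideal.Quotient.mk_surjective r
      have hr0 : r ∈ G (N + 1 + 1) := (memG _ _).mpr fun p hp => by
        rw [pow_succ] at hp
        refine Submodule.mul_induction_on hp (fun q hq a ha => ?_) (fun u v hu hv => by rw [mul_add, hu, hv, add_zero])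
        rw [hr, Submodule.mem_colon_singleton, Submodule.mem_bot] at ha
        rw [Algebra.smul_def, Ideal.Quotient.algebraMap_eq, ← map_mul, Ideal.Quotient.eq_zero_iff_mem] at ha
        rw [← (memG _ _).mp ha q hq]; ring
      rw [hstab, ← Ideal.Quotient.eq_zero_iff_mem] at hr0
      apply (maximalIdeal.isMaximal R).ne_top
      rw [hr, hr0]; simp
  · push Not at hreg
    obtain ⟨x, hxm, hx⟩ := hreg
    obtain ⟨y, hy, hmy⟩ : ∃ y : R, (∀ w, x * w ≠ y) ∧ ∀ a ∈ maximalIdeal R, ∃ w, x * w = a * y := by
      obtain ⟨n, hn, hk⟩ := key (QuotSMulTop x R) fun z hz hzreg => by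
        have h2d : (2 : ℕ∞) ≤ LocCoh.depth R R := by
          unfold LocCoh.depth LocCoh.idealDepth
          split
          · exact le_top
          · refine le_iSup₂_of_le [x, z] ⟨?_, fun r hr => ?_⟩ (by simp)
            swap
            · rcases List.mem_cons.mp hr with rfl | hr
              · exact hxm
              · exact List.mem_singleton.mp hr ▸ hz
            exact (RingTheory.Sequence.isWeaklyRegular_cons_iff R x [z]).mpr
              ⟨hx, (RingTheory.Sequence.isWeaklyRegular_singleton_iff _ z).mpr hzreg⟩
        exact absurd (h2d.trans h3) (by norm_num)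
      obtain ⟨y, rfl⟩ := Submodule.Quotient.mk_surjective _ n
      refine ⟨y, fun w e => hn ?_, fun a ha => ?_⟩
      · exact (Submodule.Quotient.mk_eq_zero _).mpr ((Submodule.mem_smul_pointwise_iff_exists _ _ _).mpr ⟨w, trivial, e⟩)
      · have := hk a ha
        rw [← Submodule.Quotient.mk_smul, Submodule.Quotient.mk_eq_zero] at this
        obtain ⟨w, -, hw⟩ := (Submodule.mem_smul_pointwise_iff_exists _ _ _).mp this
        exact ⟨w, hw⟩
    have hxc : ∀ u v, x * u = x * v → u = v := fun u v h => hx h
    have hwm : ∀ a ∈ maximalIdeal R, ∀ w, x * w = a * y → w ∈ maximalIdeal R := by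
      intro a ha w hw
      by_contra hu
      obtain ⟨u, rfl⟩ : IsUnit w := by
        by_contra h; exact hu ((IsLocalRing.mem_maximalIdeal w).mpr h)
      apply h2
      have hspan : maximalIdeal R = Ideal.span {a} := by
        refine le_antisymm (fun b hb => ?_) ((Ideal.span_singleton_le_iff_mem _).mpr ha)
        obtain ⟨w', hw'⟩ := hmy b hb
        have e : b * ↑u = a * w' := hxc _ _ (by linear_combination b * hw - a * hw')
        refine Ideal.mem_span_singleton'.mpr ⟨w' * ↑u⁻¹, ?_⟩
        linear_combination (-(↑u⁻¹ : R)) * e + b * u.mul_inv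
      have hle : (maximalIdeal R).spanFinrank ≤ 1 := by
        rw [hspan]; exact (Submodule.spanFinrank_span_le_ncard_of_finite (Set.finite_singleton a)).trans (by simp)
      have h0 : (1 : WithBot ℕ∞) ≤ ringKrullDim R := by
        by_contra h
        push Not at h
        refine h1 (isArtinianRing_iff_krullDimLE_zero.mpr ?_)
        rw [Ring.krullDimLE_iff]
        revert h
        generalize ringKrullDim R = d
        intro h
        cases d with
        | bot => exact bot_le
        | coe d =>
          norm_cast at h ⊢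
          exact (ENat.lt_one_iff_eq_zero.mp h).le
      have hd := ringKrullDim_le_spanFinrank_maximalIdeal R
      have hle' : ((maximalIdeal R).spanFinrank : WithBot ℕ∞) ≤ 1 := by exact_mod_cast hle
      exact ⟨IsRegularLocalRing.of_spanFinrank_maximalIdeal_le R (hle'.trans h0), le_antisymm (hd.trans hle') h0⟩
    let L := Localization.Away x
    have hφ : Function.Injective (algebraMap R L) := IsLocalization.injective (M := Submonoid.powers x) L
      (Submonoid.powers_le.mpr (mem_nonZeroDivisors_iff_right.mpr fun z hz => hxc z 0 (by rw [mul_comm, hz, mul_zero])))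
    have hxu : IsUnit (algebraMap R L x) := IsLocalization.Away.algebraMap_isUnit x
    let S : Subalgebra R L :=
      { carrier := {l | ∀ a ∈ maximalIdeal R, ∃ w ∈ maximalIdeal R, algebraMap R L a * l = algebraMap R L w}
        mul_mem' := fun {l l'} hl hl' a ha => by
          obtain ⟨w, hw, e⟩ := hl a ha
          obtain ⟨w', hw', e'⟩ := hl' w hw
          exact ⟨w', hw', by rw [← mul_assoc, e, e']⟩
        add_mem' := fun {l l'} hl hl' a ha => by
          obtain ⟨w, hw, e⟩ := hl a ha
          obtain ⟨w', hw', e'⟩ := hl' a ha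
          exact ⟨w + w', add_mem hw hw', by rw [mul_add, e, e', map_add]⟩
        algebraMap_mem' := fun r a ha => ⟨a * r, Ideal.mul_mem_right _ _ ha, (map_mul _ _ _).symm⟩ }
    obtain ⟨t, ht⟩ : ∃ t : L, algebraMap R L x * t = algebraMap R L y :=
      ⟨↑hxu.unit⁻¹ * algebraMap R L y, by rw [← mul_assoc, IsUnit.mul_val_inv, one_mul]⟩
    have htS : t ∈ S := fun a ha => by
      obtain ⟨w, hw⟩ := hmy a ha
      refine ⟨w, hwm a ha w hw, hxu.mul_left_cancel ?_⟩
      rw [mul_left_comm, ht, ← map_mul, ← map_mul, hw]
    let f : S →ₗ[R] L := (LinearMap.mul R L (algebraMap R L x)).comp S.val.toLinearMap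
    have hfr : LinearMap.range f ≤ LinearMap.range (Algebra.linearMap R L) := by
      rintro _ ⟨s, rfl⟩
      obtain ⟨w, -, e⟩ := s.2 x hxm
      exact ⟨w, e.symm⟩
    haveI : Module.Finite R S := by
      haveI : IsNoetherian R ↥(LinearMap.range (Algebra.linearMap R L)) := isNoetherian_of_fg_of_noetherian _
        (by rw [LinearMap.range_eq_map]; exact (Module.Finite.fg_top).map _)
      refine Module.Finite.of_injective (f.codRestrict (LinearMap.range (Algebra.linearMap R L))
        fun s => hfr ⟨s, rfl⟩) fun s s' e => Subtype.ext (hxu.mul_left_cancel ?_)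
      exact congrArg Subtype.val e
    haveI : Nontrivial L := hφ.nontrivial
    refine ⟨S, inferInstance, inferInstance, inferInstance, inferInstance, fun hb => ?_,
      ⟨1, fun r hr a _ => ?_, fun s a ha => ?_⟩, fun hass => ?_⟩
    · obtain ⟨r, hr⟩ := hb.2 ⟨t, htS⟩
      refine hy r (hφ ?_)
      rw [map_mul, ← ht]
      congr 1
      exact congrArg Subtype.val hr
    · have : r = 0 := hφ (by rw [map_zero]; exact congrArg Subtype.val hr)
      rw [this, mul_zero]
    · rw [pow_one] at ha
      obtain ⟨w, -, e⟩ := s.2 a ha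
      exact ⟨w, Subtype.ext (by rw [SetLike.val_smul, Algebra.smul_def]; exact e.symm)⟩
    · obtain ⟨-, s, hs⟩ := isAssociatedPrime_iff.mp hass
      have := hxm
      rw [hs, Submodule.mem_colon_singleton, Submodule.mem_bot] at this
      have h' : algebraMap R L x * (s : L) = 0 := by
        rw [← Algebra.smul_def, ← SetLike.val_smul, this]; rfl
      apply (maximalIdeal.isMaximal R).ne_top
      rw [hs, show s = 0 from Subtype.ext ((hxu.mul_right_eq_zero).mp h')]; simp

end Groth.Agent.S2058
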