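import Groth.Statements.S2059
import Mathlib.RingTheory.Jacobson.Ring
import Mathlib.RingTheory.Jacobson.Artinian
import Mathlib.RingTheory.Algebraic.LinearIndependent
import Mathlib.RingTheory.Adjoin.Basic
import Mathlib.RingTheory.Localization.Away.Basic
import Mathlib.LinearAlgebra.Dimension.Constructions
import Mathlib.SetTheory.Cardinal.Basic
import Mathlib.RingTheory.Algebraic.Integral

set_option autoImplicit false
universe u
open CAlg

namespace Groth.Agent.S2059

theorem alg_of_finite {k S : Type u} [Field k] [CommRing S] [Algebra k S] (s : Set S) (hs : Algebra.adjoin k s = ⊤)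
    (hf : s.Finite) (m : Ideal S) [m.IsMaximal] : Algebra.IsAlgebraic k (S ⧸ m) := by
  haveI : Algebra.FiniteType k S := ⟨⟨hf.toFinset, by rw [Set.Finite.coe_toFinset]; exact hs⟩⟩
  letI := Ideal.Quotient.field m
  haveI : Module.Finite k (S ⧸ m) := finite_of_finite_type_of_isJacobsonRing k (S ⧸ m)
  exact inferInstance

theorem alg {k S : Type u} [Field k] [CommRing S] [Algebra k S] (s : Set S) (hs : Algebra.adjoin k s = ⊤)
    (hcard : Cardinal.mk s < Cardinal.mk k) (m : Ideal S) [m.IsMaximal] : Algebra.IsAlgebraic k (S ⧸ m) := by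
  classical
  by_cases hsf : s.Finite
  · exact alg_of_finite s hs hsf m
  letI := Ideal.Quotient.field m
  refine ⟨fun x => by_contra fun hx => ?_⟩
  have h1 := Transcendental.linearIndependent_sub_inv (F := k) (x := x) hx
  have h2 := h1.cardinal_le_rank
  let q := Ideal.Quotient.mkₐ k m
  let G : Set (S ⧸ m) := q '' (Submonoid.closure s : Set S)
  have hG : Submodule.span k G = ⊤ := by
    have hSs : Submodule.span k (Submonoid.closure s : Set S) = ⊤ := by
      rw [← Algebra.adjoin_eq_span, hs, Algebra.top_toSubmodule]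
    show Submodule.span k (q.toLinearMap '' (Submonoid.closure s : Set S)) = ⊤
    rw [← Submodule.map_span, hSs, Submodule.map_top, LinearMap.range_eq_top]
    exact Ideal.Quotient.mk_surjective
  have h3 : Cardinal.mk G ≤ Cardinal.mk s := by
    haveI : Nonempty s := (Set.not_finite.mp hsf).nonempty.to_subtype
    refine Cardinal.mk_image_le.trans ?_
    have hsub : (Submonoid.closure s : Set S) ⊆ Set.range fun l : List s => (l.map Subtype.val).prod := by
      intro y hy
      obtain ⟨l, hl, rfl⟩ := Submonoid.exists_list_of_mem_closure hy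
      exact ⟨l.attach.map fun z => ⟨z.1, hl z.1 z.2⟩, by simp [List.map_map, Function.comp_def]⟩
    refine ((Cardinal.mk_le_mk_of_subset hsub).trans Cardinal.mk_range_le).trans ?_
    refine (Cardinal.mk_list_le_max s).trans (max_le ?_ le_rfl)
    rw [Cardinal.aleph0_le_mk_iff]; exact Set.infinite_coe_iff.mpr hsf
  have h4 : Module.rank k (S ⧸ m) ≤ Cardinal.mk G := by
    rw [← rank_top k (S ⧸ m), ← hG]; exact rank_span_le G
  exact absurd (h2.trans (h4.trans h3)) (not_le.mpr hcard)


/-- Let `k` be a field and `S` a `k`-algebra generated by a set of cardinality smaller than that of `k`.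
Then for every maximal ideal `𝔪` of `S` the residue field `S/𝔪` is algebraic over `k`, and `S` is a
Jacobson ring. -/
theorem result {k S : Type u} [Field k] [CommRing S] [Algebra k S]
    (s : Set S) (hs : Algebra.adjoin k s = ⊤) (hcard : Cardinal.mk s < Cardinal.mk k) :
    (∀ (m : Ideal S) [m.IsMaximal], Algebra.IsAlgebraic k (S ⧸ m)) ∧ IsJacobsonRing S := by
  classical
  refine ⟨fun m _ => alg s hs hcard m, ?_⟩
  rw [isJacobsonRing_iff_prime_eq]
  intro P hP
  refine le_antisymm (fun f hf => ?_) Ideal.le_jacobson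
  by_contra hfP
  let L := Localization.Away f
  have hne : P.map (algebraMap S L) ≠ ⊤ := by
    intro h
    have h1 : algebraMap S L 1 ∈ P.map (algebraMap S L) := by rw [h]; exact Submodule.mem_top
    rw [IsLocalization.algebraMap_mem_map_algebraMap_iff (Submonoid.powers f)] at h1
    obtain ⟨_, ⟨n, rfl⟩, hz⟩ := h1
    rw [mul_one] at hz
    exact hfP (hP.mem_of_pow_mem n hz)
  obtain ⟨M, hM, hMle⟩ := Ideal.exists_le_maximal _ hne
  haveI := hM
  let t : Set L := insert (IsLocalization.Away.invSelf f) (algebraMap S L '' s)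
  have ht : Algebra.adjoin k t = ⊤ := by
    rw [eq_top_iff]
    intro z _
    obtain ⟨⟨a, ⟨_, n, rfl⟩⟩, rfl⟩ := IsLocalization.mk'_surjective (Submonoid.powers f) z
    have ha : algebraMap S L a ∈ Algebra.adjoin k t := by
      have : a ∈ Algebra.adjoin k s := hs ▸ Algebra.mem_top
      have h2 : algebraMap S L a ∈ (Algebra.adjoin k s).map (IsScalarTower.toAlgHom k S L) := ⟨a, this, rfl⟩
      rw [AlgHom.map_adjoin] at h2
      exact Algebra.adjoin_mono (Set.subset_insert _ _) h2
    have heq : IsLocalization.mk' L a (⟨f ^ n, n, rfl⟩ : Submonoid.powers f) = algebraMap S L a * IsLocalization.Away.invSelf f ^ n := by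
      rw [IsLocalization.mk'_eq_iff_eq_mul, map_pow, mul_assoc, ← mul_pow, mul_comm (IsLocalization.Away.invSelf f), IsLocalization.Away.mul_invSelf, one_pow, mul_one]
    refine (show IsLocalization.mk' L a (⟨f ^ n, n, rfl⟩ : Submonoid.powers f) ∈ Algebra.adjoin k t from ?_)
    rw [heq]
    exact mul_mem ha (pow_mem (Algebra.subset_adjoin (Set.mem_insert _ _)) n)
  have hcard' : Cardinal.mk t < Cardinal.mk k ∨ t.Finite := by
    by_cases hsf : s.Finite
    · exact Or.inr ((hsf.image _).insert _)
    · refine Or.inl ?_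
      have hinf : Cardinal.aleph0 ≤ Cardinal.mk s := by
        rw [Cardinal.aleph0_le_mk_iff]; exact Set.infinite_coe_iff.mpr hsf
      calc Cardinal.mk t ≤ Cardinal.mk (algebraMap S L '' s) + 1 := Cardinal.mk_insert_le
        _ ≤ Cardinal.mk s + 1 := add_le_add Cardinal.mk_image_le le_rfl
        _ = Cardinal.mk s := Cardinal.add_one_eq hinf
        _ < Cardinal.mk k := hcard
  have halgM : Algebra.IsAlgebraic k (L ⧸ M) := by
    rcases hcard' with h | h
    · exact alg t ht h M
    · exact alg_of_finite t ht h M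
  let m : Ideal S := M.comap (algebraMap S L)
  haveI : m.IsPrime := inferInstance
  let φ : (S ⧸ m) →ₐ[k] (L ⧸ M) := Ideal.quotientMapₐ M (IsScalarTower.toAlgHom k S L) le_rfl
  have hφ : Function.Injective φ := Ideal.quotientMap_injective
  haveI : Algebra.IsAlgebraic k (S ⧸ m) := Algebra.IsAlgebraic.of_injective φ hφ
  have hmax : m.IsMaximal := Ideal.Quotient.maximal_of_isField _
    (isField_of_isIntegral_of_isField' (R := k) (S := S ⧸ m) (Field.toIsField k))
  have hfm : f ∈ m := (Submodule.mem_sInf.mp hf) m ⟨fun x hx => hMle (Ideal.mem_map_of_mem _ hx), hmax⟩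
  exact hM.ne_top (Ideal.eq_top_of_isUnit_mem _ hfm (IsLocalization.Away.algebraMap_isUnit f))

end Groth.Agent.S2059
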