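import Groth.Statements.S2061
import Groth.Agent.L04.RegularPd
import Groth.Agent.S0562
-- import your own Groth.Agent.* helpers here

set_option autoImplicit false
universe u
open CategoryTheory
open CAlg

namespace Groth.Agent.S2061

/-- For a Noetherian local ring `R` write `𝔪` for its maximal ideal and `κ` for its residue field. The
projective dimension of `κ` as an `R`-module is at least the `κ`-dimension of `𝔪/𝔪²`: if `κ` has
projective dimension less than `d` then `dim_κ 𝔪/𝔪² < d`. -/
theorem result {R : Type u} [CommRing R] [IsLocalRing R]
    [IsNoetherianRing R] (d : ℕ)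
    (hd : HasProjectiveDimensionLT (ModuleCat.of R (IsLocalRing.ResidueField R)) d) :
    Module.finrank (IsLocalRing.ResidueField R) (IsLocalRing.CotangentSpace R) < d := by
  haveI : IsRegularLocalRing R := Groth.Agent.S0562.result R d hd
  have hdim := (IsRegularLocalRing.iff_finrank_cotangentSpace R).mp ‹_›
  obtain ⟨rs, hlen, hreg, hgen⟩ := Groth.L04.exists_regular_generators hdim.symm
  have h := ModuleCat.projectiveDimension_quotient_eq_length.{u} rs hreg
  let e : Shrink.{u} (R ⧸ Ideal.ofList rs) ≃ₗ[R] IsLocalRing.ResidueField R :=
    (Shrink.linearEquiv R _).trans (Submodule.quotEquivOfEq _ _ hgen)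
  rw [CategoryTheory.projectiveDimension_eq_of_iso e.toModuleIso, hlen] at h
  by_contra hlt
  rw [not_lt] at hlt
  rcases d with _ | d
  · rw [CategoryTheory.hasProjectiveDimensionLT_zero_iff_isZero, ModuleCat.isZero_iff_subsingleton] at hd
    exact not_subsingleton (IsLocalRing.ResidueField R) hd
  · have h1 := (CategoryTheory.projectiveDimension_le_iff _ d).2 hd
    rw [h] at h1
    have h2 : Module.finrank (IsLocalRing.ResidueField R) (IsLocalRing.CotangentSpace R) ≤ d := by exact_mod_cast h1
    omega

end Groth.Agent.S2061
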