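import Groth.Prelude.Def_DRing2
import Mathlib.Algebra.Homology.DerivedCategory.HomologySequence
import Mathlib.CategoryTheory.Triangulated.Pretriangulated
import Mathlib.RingTheory.Finiteness.Defs
import Mathlib.Algebra.Module.FinitePresentation
import Groth.Agent.L02.PC.Coherent

set_option autoImplicit false
namespace CAlg
end CAlg
universe u
open CategoryTheory
attribute [local instance] HasDerivedCategory.standard
open CAlg

namespace Groth.Agent.S2066

/-- An object `K` of `D(A)` is `m`-pseudo-coherent for every integer `m` if and only if some bounded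
above complex of finite free modules represents it in `D(A)` ((1) iff (2)), and also if and only if
some bounded above complex of finite projective modules represents it ((2) iff (3)). -/
theorem result {A : Type u} [CommRing A] (K : Dual.D A) :
    ((∀ m : ℤ, DRing.IsPseudoCoherent A m K) ↔ DRing.IsPseudoCoherent' A K) ∧
      ((∀ m : ℤ, DRing.IsPseudoCoherent A m K) ↔ ∃ (E : DRing.Cx A) (b : ℤ), DRing.VanishesAbove E b ∧
        DRing.TermwiseFiniteProjective E ∧ Nonempty (DRing.toD E ≅ K)) := by
  refine ⟨⟨Groth.L02.PC.pc'_of_forall, fun h m => Groth.L02.PC.pc_of_pc' h m⟩, fun h => ?_, ?_⟩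
  · obtain ⟨E, b, h1, h2, e⟩ := Groth.L02.PC.pc'_of_forall h
    refine ⟨E, b, h1, fun i => ?_, e⟩
    obtain ⟨_, _⟩ := h2 i
    exact ⟨inferInstance, inferInstance⟩
  · rintro ⟨E, b, h1, h2, ⟨e⟩⟩ m
    exact Groth.L02.PC.pc_of_iso e (Groth.L02.PC.pc_of_finiteProjective h1 h2 m)

end Groth.Agent.S2066
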