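import Groth.Statements.S2071
import Mathlib.FieldTheory.PurelyInseparable.Basic
import Mathlib.FieldTheory.IsAlgClosed.AlgebraicClosure
import Mathlib.FieldTheory.PrimeField
import Mathlib.FieldTheory.Finite.Basic
import Mathlib.NumberTheory.NumberField.InfinitePlace.Embeddings
import Mathlib.Analysis.Complex.Polynomial.Basic
import Mathlib.Algebra.Algebra.ZMod

set_option autoImplicit false
universe u
open CAlg

namespace Groth.Agent.S2071

/-- For a field extension `k'/k`, every element of `k'` has a positive power in `k` if and only if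
either `k' = k`, or the characteristic is a prime `p` and either `k'/k` is purely inseparable or
`k'` is algebraic over its prime field. -/
theorem result {k k' : Type u} [Field k] [Field k'] [Algebra k k'] :
    (∀ x : k', ∃ n : ℕ, 0 < n ∧ x ^ n ∈ Set.range (algebraMap k k')) ↔
      Function.Surjective (algebraMap k k') ∨
        ∃ p : ℕ, p.Prime ∧ CharP k' p ∧
          (IsPurelyInseparable k k' ∨ Algebra.IsAlgebraic (⊥ : Subfield k') k') := by
  constructor
  · intro hpow
    by_cases hsurj : Function.Surjective (algebraMap k k')
    · exact Or.inl hsurj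
    right
    have hint : ∀ x : k', IsIntegral k x := fun x => by
      obtain ⟨n, hn, c, hc⟩ := hpow x
      exact IsIntegral.of_pow hn (hc ▸ isIntegral_algebraMap)
    have : Algebra.IsAlgebraic k k' := ⟨fun x => (hint x).isAlgebraic⟩
    by_cases hpi : IsPurelyInseparable k k'
    · obtain ⟨p, hp⟩ := CharP.exists k'
      rcases CharP.char_is_prime_or_zero k' p with hprime | rfl
      · exact ⟨p, hprime, hp, Or.inl hpi⟩
      · exfalso
        have : CharZero k' := CharP.charP_to_charZero k'
        have : CharZero k := (algebraMap k k').charZero_iff (algebraMap k k').injective |>.mpr this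
        apply hsurj
        intro x
        exact IsPurelyInseparable.inseparable k x (Algebra.IsSeparable.isSeparable k x)
    rw [isPurelyInseparable_iff] at hpi
    push Not at hpi
    obtain ⟨x, hx⟩ := hpi
    obtain ⟨hxs, hxr⟩ := hx (hint x)
    let E := AlgebraicClosure k'
    let ι : k' →ₐ[k] E := IsScalarTower.toAlgHom k k' E
    obtain ⟨σ, hσ⟩ : ∃ σ : k' →ₐ[k] E, σ x ≠ ι x := by
      by_contra! hall
      apply hxr
      have hroots : (minpoly k x).rootSet E = {ι x} := by
        rw [← Algebra.IsAlgebraic.range_eval_eq_rootSet_minpoly E x]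
        exact Set.ext fun z => ⟨fun ⟨σ, h⟩ => h ▸ hall σ, fun h => ⟨ι, h.symm⟩⟩
      have hc := Polynomial.card_rootSet_eq_natDegree hxs (IsAlgClosed.splits ((minpoly k x).map (algebraMap k E)))
      simp only [hroots, Fintype.card_unique] at hc
      exact minpoly.natDegree_eq_one_iff.mp hc.symm
    have hkey : ∀ z : k', z ≠ 0 → ∃ n : ℕ, 0 < n ∧ (σ z / ι z) ^ n = 1 := fun z hz => by
      obtain ⟨n, hn, c, hc⟩ := hpow z
      refine ⟨n, hn, ?_⟩
      rw [div_pow, ← map_pow, ← map_pow, ← hc, AlgHom.commutes, AlgHom.commutes, div_self]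
      rw [← ι.commutes c, hc, map_ne_zero]
      exact pow_ne_zero n hz
    have hne : ∀ t : k, x + algebraMap k k' t ≠ 0 := fun t h =>
      hxr ⟨-t, by rw [map_neg, ← eq_neg_of_add_eq_zero_left h]⟩
    set X := ι x with hX
    set Y := σ x with hY
    have hden : ∀ t : k, X + algebraMap k E t ≠ 0 := fun t => by
      rw [hX, ← ι.commutes t, ← map_add, map_ne_zero]; exact hne t
    have hroot : ∀ t : k, ∃ n : ℕ, 0 < n ∧ ((Y + algebraMap k E t) / (X + algebraMap k E t)) ^ n = 1 := fun t => by
      have := hkey _ (hne t)
      rwa [map_add, map_add, σ.commutes, ι.commutes] at this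
    let ζ : k → E := fun t => (Y + algebraMap k E t) / (X + algebraMap k E t)
    have hζ : ∀ t, ζ t * (X + algebraMap k E t) = Y + algebraMap k E t := fun t => div_mul_cancel₀ _ (hden t)
    have hζ1 : ∀ t, ζ t ≠ 1 := fun t h => hσ (by
      have := hζ t; rw [h, one_mul] at this; exact (add_right_cancel this).symm)
    have hrel : ∀ t, X * (ζ 0 - ζ t) = algebraMap k E t * (ζ t - 1) := fun t => by
      have h0 := hζ 0; rw [map_zero, add_zero, add_zero] at h0
      linear_combination h0 - hζ t
    -- everything is algebraic over the prime field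
    have halg : ∀ (F : Type) [Field F] [Algebra F E], ∀ z : k', IsIntegral F (ι z) := by
      intro F _ _
      have hz : ∀ t, IsIntegral F (ζ t) := fun t => by
        obtain ⟨n, hn, h⟩ := hroot t
        exact IsIntegral.of_pow hn (h ▸ isIntegral_one)
      have hd : ∀ t, t ≠ 0 → ζ 0 - ζ t ≠ 0 := fun t ht h => by
        have := hrel t
        rw [h, mul_zero, eq_comm, mul_eq_zero, sub_eq_zero] at this
        rcases this with h' | h'
        · exact ht ((map_eq_zero _).mp h')
        · exact hζ1 t h'
      let A := algebraicClosure F E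
      have hmem : ∀ {a : E}, IsIntegral F a → a ∈ A := fun h => mem_algebraicClosure_iff'.mpr h
      have hXA : X ∈ A := by
        have := hrel 1
        rw [map_one, one_mul, ← eq_div_iff (hd 1 one_ne_zero)] at this
        rw [this]
        exact A.div_mem (A.sub_mem (hmem (hz 1)) A.one_mem) (A.sub_mem (hmem (hz 0)) (hmem (hz 1)))
      have hkA : ∀ t : k, algebraMap k E t ∈ A := fun t => by
        have := hrel t
        rw [← div_eq_iff (sub_ne_zero.mpr (hζ1 t))] at this
        rw [← this]
        exact A.div_mem (A.mul_mem hXA (A.sub_mem (hmem (hz 0)) (hmem (hz t)))) (A.sub_mem (hmem (hz t)) A.one_mem)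
      intro z
      obtain ⟨n, hn, c, hc⟩ := hpow z
      refine IsIntegral.of_pow hn ?_
      rw [← map_pow, ← hc, ι.commutes]
      exact mem_algebraicClosure_iff'.mp (hkA c)
    obtain ⟨p, hp⟩ := CharP.exists k'
    rcases CharP.char_is_prime_or_zero k' p with hprime | rfl
    · refine ⟨p, hprime, hp, Or.inr ⟨fun z => ?_⟩⟩
      have : Fact p.Prime := ⟨hprime⟩
      have : CharP E p := charP_of_injective_algebraMap (algebraMap k' E).injective p
      letI : Algebra (ZMod p) E := ZMod.algebra E p
      letI : Algebra (ZMod p) k' := ZMod.algebra k' p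
      let j : k' →ₐ[ZMod p] E := ⟨algebraMap k' E, fun r => RingHom.congr_fun (RingHom.ext_zmod ((algebraMap k' E).comp (algebraMap (ZMod p) k')) (algebraMap (ZMod p) E)) r⟩
      obtain ⟨P, hP, h0⟩ := (isIntegral_algHom_iff j (algebraMap k' E).injective).mp (halg (ZMod p) z)
      refine ⟨P.map (ZMod.castHom dvd_rfl (⊥ : Subfield k')), (hP.map _).ne_zero, ?_⟩
      rw [Polynomial.aeval_def, Polynomial.eval₂_map, ← h0]
      exact congrArg (Polynomial.eval₂ · z P) (RingHom.ext_zmod _ _)
    · exfalso
      have : CharZero k' := CharP.charP_to_charZero k'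
      have : CharZero E := charZero_of_injective_algebraMap (algebraMap k' E).injective
      have : CharZero k := (algebraMap k k').charZero_iff (algebraMap k k').injective |>.mpr ‹_›
      have hXi : IsIntegral ℚ X := halg ℚ x
      have hYi : IsIntegral ℚ Y := by
        obtain ⟨n, hn, h⟩ := hroot 0
        rw [map_zero, add_zero, add_zero] at h
        refine IsIntegral.of_pow hn ?_
        have hXn : Y ^ n = X ^ n := by rwa [div_pow, div_eq_one_iff_eq (pow_ne_zero n (by simpa using hden 0))] at h
        rw [hXn]; exact hXi.pow n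
      let L := IntermediateField.adjoin ℚ ({X, Y} : Set E)
      have : FiniteDimensional ℚ L := IntermediateField.finiteDimensional_adjoin (by
        rintro a (rfl | rfl) <;> assumption)
      have : NumberField L := ⟨⟩
      let X' : L := ⟨X, IntermediateField.subset_adjoin ℚ _ (Set.mem_insert _ _)⟩
      let Y' : L := ⟨Y, IntermediateField.subset_adjoin ℚ _ (Set.mem_insert_of_mem _ rfl)⟩
      let q : ℕ → L := fun t => (Y' + t) / (X' + t)
      have hq : ∀ t, (q t : E) = ζ t := fun t => by
        show _ = (Y + algebraMap k E t) / (X + algebraMap k E t)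
        rw [map_natCast]
        push_cast [q]
        rfl
      have hinj : Function.Injective q := fun a b hab => by
        have hab' : ζ (a : k) = ζ (b : k) := by rw [← hq, ← hq, hab]
        have ha := hζ (a : k)
        have hb := hζ (b : k)
        rw [hab'] at ha
        rw [map_natCast] at ha hb
        have : ((a : E) - b) * (ζ b - 1) = 0 := by linear_combination ha - hb
        exact_mod_cast sub_eq_zero.mp ((mul_eq_zero.mp this).resolve_right (sub_ne_zero.mpr (hζ1 _)))
      refine Set.infinite_range_of_injective hinj
        ((NumberField.Embeddings.finite_of_norm_le L ℂ 1).subset ?_)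
      rintro _ ⟨t, rfl⟩
      obtain ⟨n, hn, h⟩ := hroot (t : k)
      have h1 : q t ^ n = 1 := Subtype.ext (by push_cast; rw [hq]; exact h)
      exact ⟨IsIntegral.of_pow hn (h1 ▸ isIntegral_one),
        fun φ => (Complex.norm_eq_one_of_pow_eq_one (by rw [← map_pow, h1, map_one]) hn.ne').le⟩
  · intro h x
    rcases h with h | ⟨p, hprime, hp, h | h⟩
    · exact ⟨1, one_pos, by rw [pow_one]; exact h x⟩
    · have : Fact p.Prime := ⟨hprime⟩
      have : CharP k p := (algebraMap k k').charP (algebraMap k k').injective p
      obtain ⟨n, c, hc⟩ := IsPurelyInseparable.pow_mem k p x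
      exact ⟨p ^ n, pow_pos hprime.pos n, c, hc⟩
    · by_cases hx : x = 0
      · exact ⟨1, one_pos, 0, by simp [hx]⟩
      have : Fact p.Prime := ⟨hprime⟩
      letI : Algebra (ZMod p) k' := ZMod.algebra k' p
      have : Finite (⊥ : Subfield k') := by
        have e := Subfield.bot_eq_of_zMod_algebra (K := k') p
        exact Set.Finite.to_subtype (by rw [e]; exact Set.finite_range _)
      let M := IntermediateField.adjoin (⊥ : Subfield k') {x}
      have : FiniteDimensional (⊥ : Subfield k') M :=
        IntermediateField.adjoin.finiteDimensional (h.isAlgebraic x).isIntegral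
      have : Finite M := Module.finite_of_finite (⊥ : Subfield k')
      have := Fintype.ofFinite M
      refine ⟨Fintype.card M - 1, Nat.sub_pos_of_lt Fintype.one_lt_card, 1, ?_⟩
      have := FiniteField.pow_card_sub_one_eq_one (K := M) ⟨x, IntermediateField.mem_adjoin_simple_self _ x⟩
        (fun e => hx (congrArg Subtype.val e))
      simpa using (congrArg Subtype.val this).symm

end Groth.Agent.S2071
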