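import Mathlib.RingTheory.AlgebraicIndependent.Basic
import Mathlib.RingTheory.FiniteType
import Mathlib.RingTheory.IntegralClosure.IsIntegralClosure.Basic
import Mathlib.RingTheory.Adjoin.Basic
import Mathlib.RingTheory.NoetherNormalization
import Mathlib.RingTheory.FiniteStability
import Mathlib.RingTheory.MvPolynomial.Localization
import Mathlib.RingTheory.Localization.Integral
import Mathlib.RingTheory.Localization.BaseChange
import Mathlib.RingTheory.AlgebraicIndependent.Basic
import Mathlib.RingTheory.Polynomial.ScaleRoots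

set_option autoImplicit false
namespace CAlg
end CAlg
universe u
open CAlg

namespace Groth.Agent.S2073

/-- Let `R` be a domain and `R → S` an injective ring map of finite type. Then there are elements `y_1,
…, y_d` of `S` algebraically independent over `R`, a finitely generated `R`-subalgebra `S'` of `S`
containing them and integral over `R[y_1, …, y_d]`, and a nonzero `f ∈ R` such that every element of
`S` lands in `S'` after multiplication by a power of `f`. -/
theorem result {R S : Type u} [CommRing R] [IsDomain R] [CommRing S] [Algebra R S]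
    [Algebra.FiniteType R S] (hinj : Function.Injective (algebraMap R S)) :
    ∃ (d : ℕ) (y : Fin d → S) (S' : Subalgebra R S), AlgebraicIndependent R y ∧ (∀ i, y i ∈ S') ∧ S'.FG ∧
      (∀ s ∈ S', IsIntegral (Algebra.adjoin R (Set.range y)) s) ∧
      ∃ f : R, f ≠ 0 ∧ ∀ s : S, ∃ n : ℕ, (f ^ n) • s ∈ S' := by
  classical
  let K := FractionRing R
  let M := nonZeroDivisors R
  let Q := TensorProduct R K S
  let ι : S →ₐ[R] Q := Algebra.TensorProduct.includeRight
  haveI : IsLocalizedModule M (TensorProduct.mk R K S 1) := inferInstance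
  have hkil : ∀ s, ι s = 0 → ∃ m : M, (m : R) • s = 0 := fun s hs => by
    obtain ⟨m, hm⟩ := (IsLocalizedModule.eq_zero_iff M (TensorProduct.mk R K S 1)).mp hs
    exact ⟨m, hm⟩
  haveI : Nontrivial Q := by
    refine ⟨⟨1, 0, fun h => ?_⟩⟩
    obtain ⟨m, hm⟩ := hkil 1 (h : (1 : K) ⊗ₜ[R] (1 : S) = 0)
    rw [Algebra.smul_def, mul_one] at hm
    exact nonZeroDivisors.ne_zero m.2 (hinj (by rw [hm, map_zero]))
  obtain ⟨d, g, hg, hgint⟩ := exists_integral_inj_algHom_of_fg K Q
  have hsurj : ∀ i, ∃ (s : S) (m : M), ι s = algebraMap R K m • g (MvPolynomial.X i) := fun i => by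
    obtain ⟨⟨s, m⟩, hs⟩ := IsLocalizedModule.surj M (TensorProduct.mk R K S 1) (g (MvPolynomial.X i))
    exact ⟨s, m, by rw [algebraMap_smul]; exact hs.symm⟩
  choose y m hm using hsurj
  let sc : MvPolynomial (Fin d) K →ₐ[K] MvPolynomial (Fin d) K :=
    MvPolynomial.aeval fun i => algebraMap R K (m i) • MvPolynomial.X i
  let sc' : MvPolynomial (Fin d) K →ₐ[K] MvPolynomial (Fin d) K :=
    MvPolynomial.aeval fun i => (algebraMap R K (m i))⁻¹ • MvPolynomial.X i
  have hu : ∀ i, algebraMap R K (m i) ≠ 0 := fun i =>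
    (IsLocalization.map_units K (m i)).ne_zero
  have hsc : sc'.comp sc = AlgHom.id _ _ := MvPolynomial.algHom_ext fun i => by
    simp only [sc, sc', AlgHom.comp_apply, MvPolynomial.aeval_X, map_smul, smul_smul,
      mul_inv_cancel₀ (hu i), one_smul, AlgHom.id_apply]
  have hsc2 : sc.comp sc' = AlgHom.id _ _ := MvPolynomial.algHom_ext fun i => by
    simp only [sc, sc', AlgHom.comp_apply, MvPolynomial.aeval_X, map_smul, smul_smul,
      inv_mul_cancel₀ (hu i), one_smul, AlgHom.id_apply]
  let h : MvPolynomial (Fin d) K →ₐ[K] Q := g.comp sc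
  let ψ : (MvPolynomial (Fin d) R) →ₐ[R] S := MvPolynomial.aeval y
  letI : Algebra (MvPolynomial (Fin d) R) (MvPolynomial (Fin d) K) := MvPolynomial.algebraMvPolynomial
  have hcomp : (h.toRingHom.comp (algebraMap (MvPolynomial (Fin d) R) (MvPolynomial (Fin d) K))) = ι.toRingHom.comp ψ.toRingHom := by
    refine MvPolynomial.ringHom_ext (fun r => ?_) fun i => ?_
    · show g (sc (MvPolynomial.map (algebraMap R K) (MvPolynomial.C r))) = ι (ψ (MvPolynomial.C r))
      have e1 : sc (MvPolynomial.C (algebraMap R K r)) = MvPolynomial.C (algebraMap R K r) := sc.commutes _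
      have e2 : g (MvPolynomial.C (algebraMap R K r)) = algebraMap K Q (algebraMap R K r) := g.commutes _
      have e3 : ψ (MvPolynomial.C r) = algebraMap R S r := ψ.commutes r
      rw [MvPolynomial.map_C, e1, e2, e3, ι.commutes]
      exact (IsScalarTower.algebraMap_apply R K Q r).symm
    · show g (sc (MvPolynomial.map (algebraMap R K) (MvPolynomial.X i))) = ι (ψ (MvPolynomial.X i))
      rw [MvPolynomial.map_X, MvPolynomial.aeval_X, MvPolynomial.aeval_X, map_smul, hm]
  have hind : AlgebraicIndependent R y := by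
    rw [AlgebraicIndependent, injective_iff_map_eq_zero]
    intro p hp
    have h1 : g (sc (algebraMap (MvPolynomial (Fin d) R) (MvPolynomial (Fin d) K) p)) = 0 := by
      have := RingHom.congr_fun hcomp p
      simp only [RingHom.comp_apply] at this
      refine this.trans ?_
      show ι (ψ p) = 0
      rw [show ψ p = 0 from hp, map_zero]
    have h2 := congrArg sc' ((map_eq_zero_iff g hg).mp h1)
    rw [map_zero, ← AlgHom.comp_apply, hsc, AlgHom.id_apply] at h2
    exact MvPolynomial.map_injective _ (IsFractionRing.injective R K) (h2.trans (map_zero _).symm)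
  letI : Algebra (MvPolynomial (Fin d) R) Q := (ι.toRingHom.comp ψ.toRingHom).toAlgebra
  letI : Algebra (MvPolynomial (Fin d) K) Q := h.toRingHom.toAlgebra
  haveI : IsScalarTower (MvPolynomial (Fin d) R) (MvPolynomial (Fin d) K) Q := IsScalarTower.of_algebraMap_eq fun p =>
    (RingHom.congr_fun hcomp p).symm
  have hint : ∀ x : S, ∃ r : R, r ≠ 0 ∧ IsIntegral (Algebra.adjoin R (Set.range y)) (r • x) := by
    intro x
    have hxint : IsIntegral (MvPolynomial (Fin d) K) (ι x) := by
      obtain ⟨p, hp1, hp2⟩ := hgint (ι x)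
      refine ⟨p.map sc'.toRingHom, hp1.map _, ?_⟩
      rw [Polynomial.eval₂_map]
      convert! hp2 using 2
      refine RingHom.ext fun q => ?_
      show g (sc (sc' q)) = g q
      exact congrArg g (AlgHom.congr_fun hsc2 q)
    obtain ⟨⟨c, hc⟩, hci⟩ := hxint.exists_multiple_integral_of_isLocalization
      (R := (MvPolynomial (Fin d) R)) (Rₘ := MvPolynomial (Fin d) K) (M := M.map (MvPolynomial.C (σ := Fin d) (R := R))) (ι x)
    obtain ⟨r, hr, rfl⟩ := hc
    obtain ⟨p, hp1, hp2⟩ := hci
    letI : Algebra (MvPolynomial (Fin d) R) S := ψ.toRingHom.toAlgebra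
    have hrx : ι (r • x) = (MvPolynomial.C r : (MvPolynomial (Fin d) R)) • ι x := by
      rw [Algebra.smul_def r x, map_mul, Algebra.smul_def]
      show ι (algebraMap R S r) * ι x = ι (ψ (MvPolynomial.C r)) * ι x
      rw [show ψ (MvPolynomial.C r) = algebraMap R S r from ψ.commutes r]
    have h0 : ι (Polynomial.eval₂ ψ.toRingHom (r • x) p) = 0 := by
      show ι.toRingHom _ = 0
      rw [Polynomial.hom_eval₂]
      show Polynomial.eval₂ (algebraMap (MvPolynomial (Fin d) R) Q) (ι (r • x)) p = 0
      rw [hrx]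
      exact hp2
    obtain ⟨n, hn⟩ := hkil _ h0
    refine ⟨(n : R) * r, mul_ne_zero (nonZeroDivisors.ne_zero n.2) (nonZeroDivisors.ne_zero hr), ?_⟩
    rw [mul_smul]
    have hmonic := (Polynomial.monic_scaleRoots_iff (MvPolynomial.C (n : R) : (MvPolynomial (Fin d) R))).mpr hp1
    let ψ' : (MvPolynomial (Fin d) R) →ₐ[R] Algebra.adjoin R (Set.range y) :=
      MvPolynomial.aeval fun i => ⟨y i, Algebra.subset_adjoin ⟨i, rfl⟩⟩
    refine ⟨(p.scaleRoots (MvPolynomial.C (n : R))).map ψ'.toRingHom, hmonic.map _, ?_⟩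
    rw [Polynomial.eval₂_map, show (algebraMap (Algebra.adjoin R (Set.range y)) S).comp ψ'.toRingHom =
      ψ.toRingHom from MvPolynomial.ringHom_ext
        (fun a => by simp [ψ, ψ', MvPolynomial.aeval_C]) (fun i => by simp [ψ, ψ', MvPolynomial.aeval_X])]
    rw [show (n : R) • r • x = ψ.toRingHom (MvPolynomial.C (n : R)) * (r • x) by
      simp [ψ, Algebra.smul_def, MvPolynomial.aeval_C], Polynomial.scaleRoots_eval₂_mul]
    rcases p.natDegree.eq_zero_or_pos with hd0 | hd0
    · rw [Polynomial.eq_one_of_monic_natDegree_zero hp1 hd0] at hp2 ⊢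
      simp at hp2
    · have hC : ψ.toRingHom (MvPolynomial.C (n : R)) = algebraMap R S n := by simp [ψ, MvPolynomial.aeval_C]
      rw [hC, ← Nat.succ_pred_eq_of_pos hd0, pow_succ, mul_assoc, ← Algebra.smul_def (n : R), hn,
        mul_zero]
  obtain ⟨t, ht⟩ := (inferInstance : Algebra.FiniteType R S).out
  choose r hr hri using fun x => hint x
  let f := ∏ x ∈ t, r x
  have hf : f ≠ 0 := Finset.prod_ne_zero_iff.mpr fun x _ => hr x
  let A := Algebra.adjoin R (Set.range y)
  let S' := Algebra.adjoin R (Set.range y ∪ (fun x => f • x) '' (t : Set S))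
  refine ⟨d, y, S', hind, fun i => Algebra.subset_adjoin (Or.inl ⟨i, rfl⟩), ?_, ?_, f, hf, ?_⟩
  · exact Subalgebra.fg_def.mpr ⟨_, (Set.finite_range y).union (t.finite_toSet.image _), rfl⟩
  · intro s hs
    induction hs using Algebra.adjoin_induction with
    | mem x hx =>
      rcases hx with hx | ⟨x, hx, rfl⟩
      · exact isIntegral_algebraMap (x := (⟨x, Algebra.subset_adjoin hx⟩ : A))
      · show IsIntegral _ (f • x)
        have : f • x = (∏ z ∈ t.erase x, r z) • r x • x := by
          rw [smul_smul, Finset.prod_erase_mul t r hx]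
        rw [this, ← algebraMap_smul A]
        exact (hri x).smul _
    | algebraMap a => exact isIntegral_algebraMap (x := (algebraMap R A a))
    | add _ _ _ _ h1 h2 => exact h1.add h2
    | mul _ _ _ _ h1 h2 => exact h1.mul h2
  · intro s
    have hs : s ∈ Algebra.adjoin R (t : Set S) := by rw [ht]; trivial
    induction hs using Algebra.adjoin_induction with
    | mem x hx => exact ⟨1, by rw [pow_one]; exact Algebra.subset_adjoin (Or.inr ⟨x, hx, rfl⟩)⟩
    | algebraMap a => exact ⟨0, by rw [pow_zero, one_smul]; exact S'.algebraMap_mem a⟩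
    | add a b _ _ h1 h2 =>
      obtain ⟨i, hi⟩ := h1
      obtain ⟨j, hj⟩ := h2
      refine ⟨i + j, ?_⟩
      rw [smul_add]
      refine S'.add_mem ?_ ?_
      · rw [add_comm, pow_add, mul_smul]; exact S'.smul_mem hi _
      · rw [pow_add, mul_smul]; exact S'.smul_mem hj _
    | mul a b _ _ h1 h2 =>
      obtain ⟨i, hi⟩ := h1
      obtain ⟨j, hj⟩ := h2
      exact ⟨i + j, by rw [pow_add, ← smul_mul_smul_comm]; exact S'.mul_mem hi hj⟩

end Groth.Agent.S2073
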