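import Groth.Statements.S2076
import Groth.Agent.L19.Limit.Factor

set_option autoImplicit false
set_option backward.isDefEq.respectTransparency.types false
set_option backward.isDefEq.respectTransparency false
universe u
open CategoryTheory AlgebraicGeometry
open Lim

namespace Groth.Agent.S2076

/-- Let `X = lim X_i` be a cofiltered limit of quasi-compact schemes over `S` with affine transition
morphisms and `h : Y → X` a closed immersion with `Y → S` locally of finite type. Then `Y → X_i` is
a closed immersion for some `i`. -/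
theorem result {I : Type u} [SmallCategory I] [IsCofiltered I] (S : Scheme.{u})
    (D : I ⥤ Over S) (c : Limits.Cone D) (hc : Limits.IsLimit c)
    [∀ (i j : I) (f : i ⟶ j), IsAffineHom (D.map f).left] [∀ i, CompactSpace (D.obj i).left]
    {Y : Scheme.{u}} (h : Y ⟶ c.pt.left) [IsClosedImmersion h] [LocallyOfFiniteType (h ≫ c.pt.hom)] :
    ∃ i : I, IsClosedImmersion (h ≫ (c.π.app i).left) := by
  haveI : IsConnected I := IsCofiltered.isConnected I
  obtain ⟨i₀⟩ := IsCofiltered.nonempty (C := I)
  let D' := D ⋙ Over.forget S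
  haveI : ∀ {i j} (f : i ⟶ j), IsAffineHom (D'.map f) := fun f => inferInstanceAs (IsAffineHom (D.map f).left)
  haveI : CompactSpace (D'.obj i₀) := inferInstanceAs (CompactSpace (D.obj i₀).left)
  let h' : Y ⟶ ((Over.forget S).mapCone c).pt := h
  haveI : IsClosedImmersion h' := inferInstanceAs (IsClosedImmersion h)
  haveI : LocallyOfFiniteType (h' ≫ ((Over.forget S).mapCone c).π.app i₀) := by
    show LocallyOfFiniteType (h ≫ (c.π.app i₀).left)
    haveI : LocallyOfFiniteType ((h ≫ (c.π.app i₀).left) ≫ (D.obj i₀).hom) := by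
      rw [Category.assoc, Over.w (c.π.app i₀)]
      exact ‹LocallyOfFiniteType (h ≫ c.pt.hom)›
    exact locallyOfFiniteType_of_comp _ (D.obj i₀).hom
  obtain ⟨j, -, hj⟩ := Groth.L19.Limit.exists_isClosedImmersion_comp
    (Limits.isLimitOfPreserves (Over.forget S) hc) i₀ h'
  exact ⟨j, hj⟩

end Groth.Agent.S2076
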