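import Groth.Statements.S2077
import Groth.Agent.S0590
import Groth.Agent.L18.PBundle.VeryAmplePair

set_option linter.style.haveILetI false
set_option backward.isDefEq.respectTransparency false
set_option backward.isDefEq.respectTransparency.types false
open CategoryTheory.Limits TopologicalSpace Opposite

set_option autoImplicit false
universe u
open CategoryTheory AlgebraicGeometry
open Lim

namespace Groth.Agent.S2077

/-- Let `f : X → S` be locally of finite type with `X` quasi-compact and quasi-separated. Then there are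
a morphism `f' : X' → S` of finite presentation (locally of finite presentation, quasi-compact,
quasi-separated) and an immersion `X → X'` over `S`. -/
theorem result {X S : Scheme.{u}} (f : X ⟶ S) [LocallyOfFiniteType f]
    [CompactSpace X] [QuasiSeparatedSpace X] :
    ∃ (X' : Scheme.{u}) (f' : X' ⟶ S) (j : X ⟶ X'), LocallyOfFinitePresentation f' ∧ QuasiCompact f' ∧
      QuasiSeparated f' ∧ IsImmersion j ∧ j ≫ f' = f := by
  obtain ⟨I, _, _, _, D, c, hc, haff, hft, ⟨e⟩⟩ := Groth.Agent.S0590.result X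
  haveI : ∀ {i j : Iᵒᵖ} (a : i ⟶ j), IsAffineHom (D.map a) := fun a => haff _ _ a
  haveI : ∀ i, CompactSpace (D.obj i) := fun i => (hft i).1
  haveI : IsNoetherianRing (ULift.{u} ℤ) := isNoetherianRing_of_ringEquiv ℤ ULift.ringEquiv.symm
  haveI : IsLocallyNoetherian (Spec (CommRingCat.of (ULift.{u} ℤ))) := inferInstance
  haveI : ∀ i, LocallyOfFiniteType (IsTerminal.from specULiftZIsTerminal (D.obj i)) := fun i => (hft i).2
  haveI : ∀ i, IsLocallyNoetherian (D.obj i) := fun i =>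
    LocallyOfFiniteType.isLocallyNoetherian (IsTerminal.from specULiftZIsTerminal (D.obj i))
  haveI : ∀ i, QuasiSeparatedSpace (D.obj i) := fun i => inferInstance
  let f' : c.pt ⟶ S := e.hom ≫ f
  haveI : LocallyOfFiniteType f' := inferInstanceAs (LocallyOfFiniteType (e.hom ≫ f))
  haveI : CompactSpace c.pt := Scheme.compactSpace_of_isLimit D c hc
  -- affine charts
  have hch : ∀ x : c.pt, ∃ (V : S.Opens) (U : c.pt.Opens), IsAffineOpen V ∧ IsAffineOpen U ∧ x ∈ U ∧ U ≤ f' ⁻¹ᵁ V :=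
    fun x => by
      obtain ⟨V, hV, hxV, -⟩ := Opens.isBasis_iff_nbhd.mp S.isBasis_affineOpens (Opens.mem_top (f' x))
      obtain ⟨U, hU, hxU, hle⟩ := Opens.isBasis_iff_nbhd.mp c.pt.isBasis_affineOpens (show x ∈ f' ⁻¹ᵁ V from hxV)
      exact ⟨V, U, hV, hU, hxU, hle⟩
  choose V U hV hU hxU hle using hch
  obtain ⟨s, hs⟩ := (isCompact_univ (X := c.pt)).elim_finite_subcover (fun x => (U x : Set c.pt))
    (fun x => (U x).2) (fun x _ => Set.mem_iUnion.2 ⟨x, hxU x⟩)
  have hcovU : IsOpenCover fun a : s => U a.1 := IsOpenCover.mk (eq_top_iff.2 fun x _ => by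
    obtain ⟨a, ha, hxa⟩ := Set.mem_iUnion₂.1 (hs (Set.mem_univ x))
    exact Opens.mem_iSup.2 ⟨⟨a, ha⟩, hxa⟩)
  obtain ⟨i, W, -, hW⟩ := Scheme.exists_isOpenCover_and_isAffine_of_finite D c hc
    (fun a : s => U a.1) hcovU (fun a => hU a.1)
  -- finitely many generators
  have hgen : ∀ a : s, ∃ T : Finset Γ(c.pt, U a.1), ∀ R : Subring Γ(c.pt, U a.1),
      (∀ r, f'.appLE (V a.1) (U a.1) (hle a.1) r ∈ R) → (∀ t ∈ T, t ∈ R) → R = ⊤ := fun a => by
    have h1 := f'.finiteType_appLE (hV a.1) (hU a.1) (hle a.1)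
    algebraize [(f'.appLE (V a.1) (U a.1) (hle a.1)).hom]
    obtain ⟨T, hT⟩ := h1.out
    refine ⟨T, fun R hR hT' => eq_top_iff.2 fun x hx₀ => ?_⟩
    clear hx₀
    have hx : x ∈ Algebra.adjoin Γ(S, V a.1) (T : Set Γ(c.pt, U a.1)) := hT ▸ Algebra.mem_top
    induction hx using Algebra.adjoin_induction with
    | mem x hx => exact hT' x hx
    | algebraMap r => exact hR r
    | add x y _ _ hx hy => exact add_mem hx hy
    | mul x y _ _ hx hy => exact mul_mem hx hy
  choose T hT using hgen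
  -- generators come from a stage
  have hstage : ∀ (a : s) (t : Γ(c.pt, U a.1)), ∃ (j : Iᵒᵖ) (φ : j ⟶ i) (z : Γ(D.obj j, D.map φ ⁻¹ᵁ W a)),
      ((c.π.app j).appLE (D.map φ ⁻¹ᵁ W a) (U a.1)
        (by rw [← Scheme.Hom.comp_preimage, c.w]; exact (hW a).2.le)) z = t := fun a t => by
    haveI : ∀ j, IsAffine ((opensDiagram D i (W a)).obj j) := fun j => (hW a).1.preimage _
    have hle' : c.π.app i ⁻¹ᵁ W a ≤ U a.1 := (hW a).2.ge
    let t₀ : Γ(c.pt, c.π.app i ⁻¹ᵁ W a) := c.pt.presheaf.map (homOfLE hle').op t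
    obtain ⟨j, z, hz⟩ := exists_appTop_π_eq_of_isAffine_of_isLimit (opensDiagram D i (W a))
      (opensCone D c i (W a)) (isLimitOpensCone D c hc i (W a)) ((c.π.app i ⁻¹ᵁ W a).topIso.inv t₀)
    refine ⟨j.left, j.hom, (D.map j.hom ⁻¹ᵁ W a).topIso.hom z, ?_⟩
    have h2 : ((c.π.app j.left).resLE (D.map j.hom ⁻¹ᵁ W a) (c.π.app i ⁻¹ᵁ W a)
        (by rw [← Scheme.Hom.comp_preimage, c.w])).app ⊤ z = (c.π.app i ⁻¹ᵁ W a).topIso.inv t₀ := hz
    rw [Scheme.Hom.resLE_app_top, CommRingCat.comp_apply, CommRingCat.comp_apply] at h2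
    have h3 := (c.π.app i ⁻¹ᵁ W a).topIso.commRingCatIsoToRingEquiv.symm.injective h2
    have hle'' : U a.1 ≤ c.π.app i ⁻¹ᵁ W a := (hW a).2.le
    rw [← Scheme.Hom.appLE_map _ _ (homOfLE hle'').op]
    show c.pt.presheaf.map (homOfLE hle'').op _ = t
    refine (congrArg (c.pt.presheaf.map (homOfLE hle'').op) h3).trans ?_
    show c.pt.presheaf.map (homOfLE hle'').op (c.pt.presheaf.map (homOfLE hle').op t) = t
    rw [← CommRingCat.comp_apply, ← Functor.map_comp, Subsingleton.elim (_ ≫ _) (𝟙 _), c.pt.presheaf.map_id]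
    rfl
  choose j φ z hz using hstage
  classical
  obtain ⟨k₀, hk₀⟩ := IsCofiltered.inf_objs_exists
    (insert i ((Finset.univ : Finset s).biUnion fun a => (T a).image (j a)))
  let ψ : k₀ ⟶ i := (hk₀ (Finset.mem_insert_self _ _)).some
  let W' : s → (D.obj k₀).Opens := fun a => D.map ψ ⁻¹ᵁ W a
  have hW' : ∀ a, IsAffineOpen (W' a) := fun a => (hW a).1.preimage _
  have hU' : ∀ a, c.π.app k₀ ⁻¹ᵁ W' a = U a.1 := fun a => by
    rw [← Scheme.Hom.comp_preimage, c.w]; exact (hW a).2.symm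
  -- the morphism to the product
  let s₀ := IsTerminal.from specULiftZIsTerminal S
  let p₀ := IsTerminal.from specULiftZIsTerminal (D.obj k₀)
  let g : c.pt ⟶ pullback s₀ p₀ := pullback.lift f' (c.π.app k₀) (specULiftZIsTerminal.hom_ext _ _)
  haveI : QuasiCompact p₀ := quasiCompact_of_compactSpace p₀
  haveI : QuasiSeparated p₀ := inferInstance
  haveI : LocallyOfFinitePresentation p₀ := inferInstance
  let O : s → (pullback s₀ p₀).Opens := fun a => pullback.fst s₀ p₀ ⁻¹ᵁ V a.1 ⊓ pullback.snd s₀ p₀ ⁻¹ᵁ W' a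
  have hO : ∀ a, IsAffineOpen (O a) := fun a => Groth.L18.PBundle.isAffineOpen_pullback_inf s₀ p₀ (hV a.1) (hW' a)
  have hgO : ∀ a, g ⁻¹ᵁ O a = U a.1 := fun a => by
    show (g ≫ pullback.fst s₀ p₀) ⁻¹ᵁ V a.1 ⊓ (g ≫ pullback.snd s₀ p₀) ⁻¹ᵁ W' a = U a.1
    rw [pullback.lift_fst, pullback.lift_snd, hU']
    exact inf_eq_right.2 (hle a.1)
  have hsurj : ∀ a, Function.Surjective (g.appLE (O a) (U a.1) (hgO a).ge) := fun a => by
    have h := hT a (g.appLE (O a) (U a.1) (hgO a).ge).hom.range ?_ ?_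
    · exact RingHom.range_eq_top.1 h
    · intro r
      refine ⟨(pullback.fst s₀ p₀).appLE (V a.1) (O a) inf_le_left r, ?_⟩
      show ((pullback.fst s₀ p₀).appLE (V a.1) (O a) inf_le_left ≫ g.appLE (O a) (U a.1) (hgO a).ge) r = _
      simp only [Scheme.Hom.appLE_comp_appLE, g, pullback.lift_fst]
    · intro t ht
      let q : k₀ ⟶ j a t := (hk₀ (Finset.mem_insert_of_mem
        (Finset.mem_biUnion.2 ⟨a, Finset.mem_univ _, Finset.mem_image_of_mem _ ht⟩))).some
      have hq : W' a ≤ D.map q ⁻¹ᵁ (D.map (φ a t) ⁻¹ᵁ W a) := by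
        rw [← Scheme.Hom.comp_preimage, ← D.map_comp, Subsingleton.elim (q ≫ φ a t) ψ]
      refine ⟨(pullback.snd s₀ p₀).appLE (W' a) (O a) inf_le_right
        ((D.map q).appLE _ (W' a) hq (z a t)), ?_⟩
      show (((D.map q).appLE _ (W' a) hq ≫ (pullback.snd s₀ p₀).appLE (W' a) (O a) inf_le_right) ≫
        g.appLE (O a) (U a.1) (hgO a).ge) (z a t) = t
      conv_rhs => rw [← hz a t]
      simp only [Scheme.Hom.appLE_comp_appLE, Category.assoc, g, pullback.lift_snd, pullback.lift_snd_assoc, c.w]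
      rfl
  haveI : IsImmersion g := by
    let O' := ⨆ a, O a
    have hr : Set.range g ⊆ Set.range O'.ι := by
      rintro _ ⟨x, rfl⟩
      rw [Scheme.Opens.range_ι]
      obtain ⟨a, ha⟩ := hcovU.exists_mem x
      exact Opens.mem_iSup.2 ⟨a, (hgO a).ge ha⟩
    let g' := IsOpenImmersion.lift O'.ι g hr
    have hg' : g' ≫ O'.ι = g := IsOpenImmersion.lift_fac _ _ _
    haveI : IsClosedImmersion g' := by
      have hcov : IsOpenCover fun a : s => O'.ι ⁻¹ᵁ O a := IsOpenCover.mk (eq_top_iff.2 fun y _ => by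
        obtain ⟨a, ha⟩ := Opens.mem_iSup.1 y.2
        exact Opens.mem_iSup.2 ⟨a, ha⟩)
      refine (IsZariskiLocalAtTarget.iff_of_iSup_eq_top (P := @IsClosedImmersion) _ hcov.iSup_eq_top).2 fun a => ?_
      have hUa : g' ⁻¹ᵁ (O'.ι ⁻¹ᵁ O a) = U a.1 := by rw [← Scheme.Hom.comp_preimage, hg', hgO]
      have haO : IsAffineOpen (O'.ι ⁻¹ᵁ O a) := (hO a).preimage_of_isOpenImmersion O'.ι (by
        intro y hy
        rw [Scheme.Opens.opensRange_ι]
        exact Opens.mem_iSup.2 ⟨a, hy⟩)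
      haveI : IsAffine (O'.ι ⁻¹ᵁ O a).toScheme := haO
      haveI : IsAffine (g' ⁻¹ᵁ (O'.ι ⁻¹ᵁ O a)).toScheme := by rw [hUa]; exact hU a.1
      refine IsClosedImmersion.of_surjective_of_isAffine _ ?_
      rw [morphismRestrict_appTop]
      have key : Function.Surjective (g'.appLE (O'.ι ⁻¹ᵁ O a) (U a.1) hUa.ge) := fun x => by
        obtain ⟨y, hy⟩ := hsurj a x
        refine ⟨(O'.ι).app (O a) y, ?_⟩
        show ((O'.ι).app (O a) ≫ g'.appLE (O'.ι ⁻¹ᵁ O a) (U a.1) hUa.ge) y = x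
        simp only [Scheme.Hom.app_eq_appLE, Scheme.Hom.appLE_comp_appLE, hg']
        exact hy
      have gen : ∀ (O₁ : O'.toScheme.Opens) (U₁ : c.pt.Opens), O₁ = O'.ι ⁻¹ᵁ O a → U₁ = U a.1 →
          ∀ e, Function.Surjective (g'.appLE O₁ U₁ e) := by
        rintro _ _ rfl rfl e
        exact key
      exact gen _ _ (Scheme.Opens.ι_image_top _) ((Scheme.Opens.ι_image_top _).trans hUa) (le_of_eq (by
        rw [Scheme.Opens.ι_image_top, Scheme.Opens.ι_image_top]))
    rw [← hg']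
    infer_instance
  exact ⟨pullback s₀ p₀, pullback.fst s₀ p₀, e.inv ≫ g, inferInstance, inferInstance, inferInstance,
    inferInstance, by rw [Category.assoc, pullback.lift_fst]; exact e.inv_hom_id_assoc f⟩

end Groth.Agent.S2077
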