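import Groth.Statements.S2080
import Groth.Agent.L19.GenericFinite

set_option autoImplicit false
set_option backward.isDefEq.respectTransparency.types false
set_option backward.isDefEq.respectTransparency false
set_option linter.style.haveILetI false
universe u
open CategoryTheory AlgebraicGeometry
open Mor

namespace Groth.Agent.S2080

/-- Let `f : X → Y` be locally of finite type, quasi-compact and quasi-separated, and `η` a generic
point of an irreducible component of `Y`. Then `f⁻¹{η}` is finite if and only if there is an affine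
open `V ∋ η` such that `f⁻¹(V) → V` is finite. -/
theorem result {X Y : Scheme.{u}} (f : X ⟶ Y) [LocallyOfFiniteType f]
    [QuasiCompact f] [QuasiSeparated f] (η : Y) (hη : closure {η} ∈ irreducibleComponents (Y : Type u)) :
    (f.base ⁻¹' {η}).Finite ↔ ∃ V : Y.Opens, IsAffineOpen V ∧ η ∈ V ∧ IsFinite (f ∣_ V) := by
  have hmin : ∀ y : Y, y ⤳ η → y = η := fun y => Groth.L19.GenericIso.eq_of_specializes hη
  constructor
  · intro hfin
    obtain ⟨_, ⟨W, hW, rfl⟩, hηW, -⟩ := Y.isBasis_affineOpens.exists_subset_of_mem_open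
      (Set.mem_univ η) isOpen_univ
    change Y.Opens at W
    have hqs : IsQuasiSeparated ((f ⁻¹ᵁ W : X.Opens) : Set X) :=
      f.isQuasiSeparated_preimage (IsAffineOpen.isQuasiSeparated hW)
    haveI : QuasiSeparatedSpace ↥(f ⁻¹ᵁ W : X.Opens).toScheme :=
      (isQuasiSeparated_iff_quasiSeparatedSpace _ (f ⁻¹ᵁ W).isOpen).mp hqs
    let F : Set (f ⁻¹ᵁ W : X.Opens).toScheme := (f ⁻¹ᵁ W).ι ⁻¹' (f ⁻¹' {η})
    obtain ⟨A, hA, hFA, -⟩ := Groth.L23.Gen.exists_affine_of_finite (F := F)
      (hfin.preimage (f ⁻¹ᵁ W).ι.isEmbedding.injective.injOn) (fun a ha y hy => by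
        have h1 : f y.1 = η := hmin _ ((hy.map ((f ⁻¹ᵁ W).ι ≫ f).continuous).trans (specializes_of_eq ha))
        exact Subtype.ext (Groth.L19.GenericFinite.eq_of_specializes_of_quasiFiniteAt f
          (Groth.L19.GenericFinite.quasiFiniteAt_of_finite_fibre f y.1 (h1 ▸ hfin))
          (hy.map (f ⁻¹ᵁ W).ι.continuous) (h1.trans ha.symm))) ⊤ (Set.subset_univ _)
    refine Groth.L19.GenericFinite.exists_affine_nhd_isFinite f hmin hfin ((f ⁻¹ᵁ W).ι ''ᵁ A)
      (hA.image_of_isOpenImmersion _) fun a ha => ?_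
    have haW : a ∈ f ⁻¹ᵁ W := by
      show f a ∈ W
      rw [show f a = η from ha]; exact hηW
    exact ⟨⟨a, haW⟩, hFA (show (⟨a, haW⟩ : (f ⁻¹ᵁ W : X.Opens).toScheme) ∈ F from ha), rfl⟩
  · rintro ⟨V, -, hηV, hV⟩
    refine (((f ∣_ V).finite_preimage_singleton ⟨η, hηV⟩).image (f ⁻¹ᵁ V).ι).subset fun x hx => ?_
    obtain rfl : f x = η := hx
    exact ⟨⟨x, hηV⟩, Subtype.ext (morphismRestrict_base_coe f V ⟨x, hηV⟩), rfl⟩

end Groth.Agent.S2080
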