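import Groth.Statements.S2084
import Groth.Agent.S0603

set_option autoImplicit false
universe u
open CAlg

namespace Groth.Agent.S2084

/-- Let `R` be a Noetherian local ring admitting a finite Cohen–Macaulay module whose support is all of
`Spec R`. Then every maximal chain of prime ideals (starting at a minimal prime, ending at the
maximal ideal, with no prime strictly between consecutive members) has length equal to the dimension
of `R`. -/
theorem result {R M : Type u} [CommRing R] [IsLocalRing R] [IsNoetherianRing R]
    [AddCommGroup M] [Module R M] [Module.Finite R M] (hM : LocCoh.IsCohenMacaulayModule R M)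
    (hsupp : Module.support R M = Set.univ) (s : LTSeries (PrimeSpectrum R))
    (hhead : s.head.asIdeal ∈ minimalPrimes R) (hlast : s.last.asIdeal = IsLocalRing.maximalIdeal R)
    (hsat : ∀ i : Fin s.length, s (Fin.castSucc i) ⋖ s (Fin.succ i)) :
    (s.length : WithBot ℕ∞) = ringKrullDim R := by
  haveI : Nontrivial M := Groth.L04.nontrivial_of_isCohenMacaulayModule hM
  have hstep : ∀ p q : PrimeSpectrum R, p ⋖ q → (q.asIdeal.height : WithBot ℕ∞) ≤ 1 + (p.asIdeal.height : WithBot ℕ∞) := by
    intro p q hcov
    haveI := p.isPrime
    haveI := q.isPrime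
    let A := Localization.AtPrime q.asIdeal
    let N := LocalizedModule q.asIdeal.primeCompl M
    haveI : IsNoetherianRing A := IsLocalization.isNoetherianRing q.asIdeal.primeCompl A inferInstance
    haveI : Module.Finite A N := Module.Finite.of_isLocalizedModule q.asIdeal.primeCompl (LocalizedModule.mkLinearMap q.asIdeal.primeCompl M)
    have hCM : LocCoh.IsCohenMacaulayModule A N :=
      Groth.L04.isCohenMacaulayModule_localized hM q.asIdeal (by rw [hsupp]; trivial)
    have hsuppN : Module.support A N = Set.univ := Set.eq_univ_of_forall fun Q =>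
      (Groth.L04.support_localization q.asIdeal Q (L := M)).2 (by rw [hsupp]; trivial)
    have hdisj : Disjoint (q.asIdeal.primeCompl : Set R) (p.asIdeal : Set R) :=
      Set.disjoint_left.2 fun x hx hxp => hx (hcov.le hxp)
    haveI hp' := IsLocalization.isPrime_of_isPrime_disjoint q.asIdeal.primeCompl A p.asIdeal p.isPrime hdisj
    have hcomap := IsLocalization.under_map_of_isPrime_disjoint q.asIdeal.primeCompl A p.isPrime hdisj
    set p' := p.asIdeal.map (algebraMap R A)
    have hh : p'.height = p.asIdeal.height := by
      rw [← IsLocalization.height_comap q.asIdeal.primeCompl]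
      exact congrArg Ideal.height hcomap
    have h1 := Groth.L04.supportDim_eq_add_idealDepth hp'.ne_top hCM
    have h2 : Module.supportDim A (N ⧸ p' • (⊤ : Submodule A N)) ≤ 1 := by
      have h3 : Module.supportDim A (N ⧸ p' • (⊤ : Submodule A N)) ≤ Module.supportDim A (A ⧸ p') := by
        refine Order.krullDim_le_of_strictMono (Set.inclusion ?_) fun _ _ h => h
        rw [Module.support_quotient, Module.support_eq_zeroLocus (M := A ⧸ p'), Ideal.annihilator_quotient]
        exact Set.inter_subset_right
      refine h3.trans ?_
      rw [Module.supportDim_quotient_eq_ringKrullDim, Groth.L04.ringKrullDim_localization_quotient hcov.le]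
      exact WithBot.coe_le_coe.2 (Groth.Agent.S0603.height_map_le_one_of_covBy hcov)
    have h4 : ((LocCoh.idealDepth p' N : ℕ∞) : WithBot ℕ∞) ≤ (p.asIdeal.height : WithBot ℕ∞) := by
      rw [← hh]
      let B := Localization.AtPrime p'
      let P := LocalizedModule p'.primeCompl N
      let φ := LocalizedModule.mkLinearMap p'.primeCompl N
      haveI : IsNoetherianRing B := IsLocalization.isNoetherianRing p'.primeCompl B inferInstance
      haveI : Module.Finite B P := Module.Finite.of_isLocalizedModule p'.primeCompl φ
      haveI : Nontrivial P := (Module.mem_support_iff (p := ⟨p', hp'⟩)).1 (by rw [hsuppN]; trivial)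
      haveI := Groth.L04.nontrivial_of_isCohenMacaulayModule hCM
      obtain ⟨rs, -, hrs, hrsp, z, hz0, hz⟩ := Groth.L04.exists_maximal_regular
        (Groth.L04.smul_top_ne_top_of_nontrivial (M := N) hp'.ne_top) (RingTheory.Sequence.IsWeaklyRegular.nil A N) (by simp)
      rw [Groth.L04.idealDepth_eq_length hrs hrsp hz0 hz]
      have hlen : ((rs.map (algebraMap A B)).length : ℕ∞) ≤ LocCoh.depth B P :=
        Groth.L04.length_le_idealDepth (hrs.of_isLocalizedModule B p'.primeCompl φ) fun r hr => by
          obtain ⟨r, hr', rfl⟩ := List.mem_map.1 hr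
          exact (IsLocalization.AtPrime.to_map_mem_maximal_iff _ p' r).2 (hrsp r hr')
      rw [List.length_map] at hlen
      calc ((rs.length : ℕ∞) : WithBot ℕ∞) ≤ ((LocCoh.depth B P : ℕ∞) : WithBot ℕ∞) := WithBot.coe_le_coe.2 hlen
        _ ≤ Module.supportDim B P := Groth.L04.depth_le_supportDim
        _ ≤ ringKrullDim B := Module.supportDim_le_ringKrullDim B P
        _ = _ := IsLocalization.AtPrime.ringKrullDim_eq_height p' B
    have h5 : ringKrullDim A = (q.asIdeal.height : WithBot ℕ∞) := IsLocalization.AtPrime.ringKrullDim_eq_height q.asIdeal A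
    rw [← h5, ← show Module.supportDim A N = ringKrullDim A from ?_, h1]
    · exact add_le_add h2 h4
    · unfold Module.supportDim
      rw [hsuppN]
      exact Order.krullDim_eq_of_orderIso OrderIso.Set.univ
  have hi : ∀ (i : ℕ) (hi : i < s.length + 1), ((s ⟨i, hi⟩).asIdeal.height : WithBot ℕ∞) ≤ (i : WithBot ℕ∞) := by
    intro i
    induction i with
    | zero =>
      intro hi
      show (s.head.asIdeal.height : WithBot ℕ∞) ≤ _
      rw [Ideal.height_eq_zero_iff.2 hhead]
      simp
    | succ i ih =>
      intro hi
      refine (hstep _ _ (hsat ⟨i, by omega⟩)).trans ((add_le_add le_rfl (ih (by omega))).trans ?_)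
      exact_mod_cast (show 1 + i ≤ i + 1 by omega)
  refine le_antisymm (Order.LTSeries.length_le_krullDim s) ?_
  rw [← IsLocalRing.maximalIdeal_height_eq_ringKrullDim, ← hlast]
  exact hi s.length (Nat.lt_succ_self _)

end Groth.Agent.S2084
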