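import Groth.Statements.S2085
import Groth.Agent.L06.SkNoEmbedded
import Mathlib.RingTheory.Ideal.AssociatedPrime.Localization

set_option autoImplicit false
universe u
open CAlg

namespace Groth.Agent.S2085

open IsLocalRing


/-- Let `M` be a finite module over a Noetherian ring `R`. Then every associated prime of `M` is minimal
in the support of `M` (no embedded primes) if and only if `M` satisfies Serre's condition `(S_1)`. -/
theorem result {R M : Type u} [CommRing R] [IsNoetherianRing R] [AddCommGroup M] [Module R M]
    [Module.Finite R M] :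
    (∀ p ∈ associatedPrimes R M, p ∈ (Module.annihilator R M).minimalPrimes) ↔ LocCoh.HasSk 1 R M := by
  constructor
  · intro h p _
    let Rp := Localization.AtPrime p
    let Mp := LocalizedModule p.primeCompl M
    let φ := LocalizedModule.mkLinearMap p.primeCompl M
    by_cases hnt : Nontrivial Mp
    swap
    · rw [not_nontrivial_iff_subsingleton] at hnt
      rw [Module.supportDim_eq_bot_of_subsingleton]
      simp
    haveI : IsNoetherianRing Rp := IsLocalization.isNoetherianRing p.primeCompl Rp inferInstance
    haveI : Module.Finite Rp Mp := Module.Finite.of_isLocalizedModule p.primeCompl φ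
    rcases Groth.L04.exists_regular_or_killed (maximalIdeal Rp) Mp with ⟨r, hr, hreg⟩ | ⟨z, hz, hzm⟩
    · exact le_trans (min_le_left _ _) (WithBot.coe_le_coe.2 (Groth.L04.one_le_idealDepth_of_regular hr hreg))
    refine le_trans (min_le_right _ _) (le_trans ?_ (WithBot.coe_le_coe.2 zero_le))
    have hmem : maximalIdeal Rp ∈ associatedPrimes Rp Mp := by
      refine isAssociatedPrime_iff.2 ⟨inferInstance, z, le_antisymm
        (fun a ha => Submodule.mem_colon_singleton.2 (hzm a ha)) (fun a ha => ?_)⟩
      rw [Submodule.mem_colon_singleton, Submodule.mem_bot] at ha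
      by_contra h0
      exact hz ((IsLocalRing.notMem_maximalIdeal.1 h0).smul_eq_zero.1 ha)
    have hp : p ∈ associatedPrimes R M := by
      rw [← Module.associatedPrimes.preimage_comap_associatedPrimes_eq_associatedPrimes_of_isLocalizedModule p.primeCompl Rp φ,
        Set.mem_preimage] at hmem
      have h2 : Ideal.comap (algebraMap R Rp) (maximalIdeal Rp) = p := IsLocalization.AtPrime.under_maximalIdeal Rp p
      rwa [h2] at hmem
    have hsupp := h p hp
    have key : ∀ Q : Module.support Rp Mp, Q.1.asIdeal = maximalIdeal Rp := fun Q => by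
      have hQN : PrimeSpectrum.comap (algebraMap R Rp) Q.1 ∈ Module.support R M := by
        obtain ⟨x, hx⟩ := Module.mem_support_iff'.1 Q.2
        obtain ⟨⟨x0, s⟩, hs⟩ := IsLocalizedModule.surj p.primeCompl φ x
        refine Module.mem_support_iff'.2 ⟨x0, fun r hr h0 => hx (algebraMap R Rp (r * s)) ?_ ?_⟩
        · intro hmem
          rcases (Q.1.isPrime.comap (algebraMap R Rp)).mem_or_mem (show r * (s : R) ∈ Q.1.asIdeal.comap (algebraMap R Rp) from hmem) with h4 | h4
          · exact hr h4
          · exact s.2 ((Ideal.comap_mono (le_maximalIdeal Q.1.isPrime.ne_top)).trans_eq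
              (IsLocalization.AtPrime.under_maximalIdeal Rp p) h4)
        · rw [algebraMap_smul, mul_smul, ← Submonoid.smul_def, hs, ← map_smul, h0, map_zero]
      have hle : Q.1.asIdeal.comap (algebraMap R Rp) ≤ p :=
        (Ideal.comap_mono (le_maximalIdeal Q.1.isPrime.ne_top)).trans_eq (IsLocalization.AtPrime.under_maximalIdeal Rp p)
      have hge := hsupp.2 ⟨Q.1.isPrime.comap _, Module.mem_support_iff_of_finite.1 hQN⟩ hle
      refine le_antisymm (le_maximalIdeal Q.1.isPrime.ne_top) ?_
      rw [← Localization.AtPrime.map_eq_maximalIdeal, Ideal.map_le_iff_le_comap]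
      exact hge
    refine Order.krullDim_nonpos_iff_forall_isMin.2 fun Q Q' hQ' => ?_
    exact le_of_eq (Subtype.ext (PrimeSpectrum.ext ((key Q).trans (key Q').symm)))
  · intro h q hq
    have hann : Module.annihilator R M ≤ q := hq.annihilator_le.trans' (le_of_eq Submodule.annihilator_top.symm)
    haveI := hq.isPrime
    obtain ⟨p, hp, hpq⟩ := Ideal.exists_minimalPrimes_le hann
    have hp' := Module.associatedPrimes.minimalPrimes_annihilator_subset_associatedPrimes R M hp
    have hbot : (Ideal.ofList ([] : List R) • (⊤ : Submodule R M)) = ⊥ := by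
      rw [Ideal.ofList_nil, Submodule.bot_smul]
    let e : (M ⧸ (Ideal.ofList ([] : List R) • (⊤ : Submodule R M))) ≃ₗ[R] M := Submodule.quotEquivOfEqBot _ hbot
    have := Groth.L06.SkNoEmbedded.noEmbedded (bs := []) h (by simp) (p := p) (q := q)
      (by rw [LinearEquiv.AssociatedPrimes.eq e]; exact hp') (by rw [LinearEquiv.AssociatedPrimes.eq e]; exact hq) hpq
      (RingTheory.Sequence.IsWeaklyRegular.nil _ _)
    exact this ▸ hp

end Groth.Agent.S2085
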