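import Mathlib.RingTheory.LocalRing.ResidueField.Basic
import Mathlib.RingTheory.Flat.Basic
import Mathlib.RingTheory.LocalRing.RingHom.Basic
import Mathlib.RingTheory.Ideal.Maps
import Groth.Agent.L02.Gonflement.Main

set_option autoImplicit false
namespace CAlg
end CAlg
universe u
open CAlg

namespace Groth.Agent.S2088

/-- Let `(R, 𝔪, k)` be a local ring and `K/k` a field extension. Then there is a flat local homomorphism
of local rings `R → R'` with `𝔪R' = 𝔪_{R'}` whose residue field is isomorphic to `K` over `k`. -/
theorem result {R K : Type u} [CommRing R] [IsLocalRing R] [Field K]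
    [Algebra (IsLocalRing.ResidueField R) K] :
    ∃ (R' : Type u) (_ : CommRing R') (_ : IsLocalRing R') (_ : Algebra R R') (_ : IsLocalHom (algebraMap R R')),
      Module.Flat R R' ∧ (IsLocalRing.maximalIdeal R).map (algebraMap R R') = IsLocalRing.maximalIdeal R' ∧
      Nonempty (IsLocalRing.ResidueField R' ≃ₐ[IsLocalRing.ResidueField R] K) := by
  obtain ⟨B, _, _, j, σ, hσj, hj, hloc, hflat, hm, hker, hσ, hN⟩ :=
    Groth.L02.Gonflement.exists_flat_local_extension
      ((algebraMap (IsLocalRing.ResidueField R) K).comp (IsLocalRing.residue R))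
  letI : Algebra R B := j.toAlgebra
  haveI : IsLocalHom (algebraMap R B) := hj
  refine ⟨B, inferInstance, inferInstance, inferInstance, inferInstance,
    RingHom.flat_algebraMap_iff.mp hflat, hm, ⟨AlgEquiv.ofBijective
      { toRingHom := IsLocalRing.ResidueField.lift σ, commutes' := fun x => ?_ }
      ⟨(IsLocalRing.ResidueField.lift σ).injective, fun k => ?_⟩⟩⟩
  · obtain ⟨r, rfl⟩ := IsLocalRing.residue_surjective x
    exact RingHom.congr_fun hσj r
  · obtain ⟨b, rfl⟩ := hσ k
    exact ⟨IsLocalRing.residue B b, rfl⟩

end Groth.Agent.S2088
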