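import Groth.Statements.S2090
import Groth.Agent.S6879
import Mathlib.RingTheory.Ideal.AssociatedPrime.Basic
-- import your own Groth.Agent.* helpers here

set_option autoImplicit false
universe u
open CAlg

namespace Groth.Agent.S2090

/-- An element of a localization killed by the maximal ideal vanishes off the associated primes. -/
theorem eq_zero_of_killed {R N : Type u} [CommRing R] [IsNoetherianRing R] [AddCommGroup N] [Module R N]
    (p : Ideal R) [p.IsPrime] (hp : p ∉ associatedPrimes R N) (d : LocalizedModule p.primeCompl N)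
    (h : ∀ a ∈ p, algebraMap R (Localization.AtPrime p) a • d = 0) : d = 0 := by
  classical
  induction d using LocalizedModule.induction_on with
  | h v t =>
    obtain ⟨s, hs⟩ := IsNoetherian.noetherian p
    have hv : ∀ a ∈ s, ∃ c : p.primeCompl, (c : R) • a • v = 0 := fun a ha => by
      have h1 := h a (hs ▸ Submodule.subset_span ha)
      rw [algebraMap_smul, LocalizedModule.smul'_mk, ← LocalizedModule.zero_mk t, LocalizedModule.mk_eq] at h1
      obtain ⟨c, hc⟩ := h1
      refine ⟨c * t, ?_⟩
      simp only [Submonoid.smul_def, smul_zero] at hc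
      rw [Submonoid.coe_mul, mul_smul]
      exact hc
    choose! c hc using hv
    let T : R := ∏ a ∈ s, (c a : R)
    have hT : T ∉ p := by
      rw [Ideal.IsPrime.prod_mem_iff]
      rintro ⟨a, -, ha⟩
      exact (c a).2 ha
    have hkill : ∀ a ∈ p, a • T • v = 0 := by
      intro a ha
      rw [← hs] at ha
      induction ha using Submodule.span_induction with
      | mem x hx =>
        rw [smul_smul, mul_comm, show T = (∏ a ∈ s.erase x, (c a : R)) * c x from (Finset.prod_erase_mul s _ hx).symm,
          mul_assoc, mul_smul, mul_smul, hc x hx,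
          smul_zero]
      | zero => rw [zero_smul]
      | add x y _ _ hx hy => rw [add_smul, hx, hy, add_zero]
      | smul r x _ hx => rw [smul_eq_mul, mul_smul, hx, smul_zero]
    by_contra hne
    refine hp (isAssociatedPrime_iff.2 ⟨inferInstance, T • v, le_antisymm
      (fun a ha => Submodule.mem_colon_singleton.2 ((Submodule.mem_bot R).2 (hkill a ha))) fun a ha => ?_⟩)
    rw [Submodule.mem_colon_singleton, Submodule.mem_bot, smul_smul] at ha
    by_contra hap
    refine hne ?_
    rw [← LocalizedModule.zero_mk t, LocalizedModule.mk_eq]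
    refine ⟨⟨a * T, fun hh => ((inferInstance : p.IsPrime).mem_or_mem hh).elim hap hT⟩, ?_⟩
    simp only [Submonoid.smul_def, smul_zero]
    rw [smul_comm, ha, smul_zero]

/-- Let `R` be Noetherian and `φ : M → N` a map of `R`-modules with `M` finite. Suppose that for every
prime `𝔭` either `φ_𝔭` is bijective, or `M_𝔭` has depth at least two and `𝔭` is not an associated
prime of `N`. Then `φ` is bijective. -/
theorem result {R M N : Type u} [CommRing R] [IsNoetherianRing R] [AddCommGroup M]
    [Module R M] [Module.Finite R M] [AddCommGroup N] [Module R N] (φ : M →ₗ[R] N)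
    (h : ∀ (p : Ideal R) [p.IsPrime],
      Function.Bijective (LocalizedModule.map p.primeCompl φ) ∨
        (2 ≤ LocCoh.depth (Localization.AtPrime p) (LocalizedModule p.primeCompl M) ∧
          p ∉ associatedPrimes R N)) :
    Function.Bijective φ := by
  have hinj : Function.Injective φ := by
    rw [injective_iff_map_eq_zero]
    intro v hv
    by_contra hv0
    obtain ⟨p, hp, hle⟩ := exists_le_isAssociatedPrime_of_isNoetherianRing R (⟨v, hv⟩ : LinearMap.ker φ)
      (fun e => hv0 (congrArg Subtype.val e))
    haveI := hp.isPrime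
    obtain ⟨-, ⟨w, hw⟩, hwp⟩ := isAssociatedPrime_iff.1 hp
    have hann : ∀ a, a • w = 0 ↔ a ∈ p := fun a => by
      rw [hwp, Submodule.mem_colon_singleton, Submodule.mem_bot, Subtype.ext_iff]; rfl
    have hw0 : LocalizedModule.mkLinearMap p.primeCompl M w ≠ 0 := by
      intro e
      obtain ⟨⟨c, hc⟩, e⟩ := (IsLocalizedModule.eq_zero_iff p.primeCompl _).1 e
      exact hc ((hann c).1 e)
    rcases h p with hb | ⟨hd, -⟩
    · refine hw0 (hb.1 ?_)
      rw [map_zero]
      refine (IsLocalizedModule.map_apply p.primeCompl (LocalizedModule.mkLinearMap p.primeCompl M)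
        (LocalizedModule.mkLinearMap p.primeCompl N) φ w).trans ?_
      rw [LinearMap.mem_ker.1 hw, map_zero]
    · haveI : Nontrivial (LocalizedModule p.primeCompl M) := ⟨_, _, hw0⟩
      obtain ⟨x, hx, -, -, hxr, -⟩ := Groth.Agent.S6879.exists_pair _ _ hd
      refine hw0 (hxr.right_eq_zero_of_smul ?_)
      obtain ⟨a, t, rfl⟩ := IsLocalization.exists_mk'_eq p.primeCompl x
      rw [IsLocalization.mk'_eq_mul_mk'_one, mul_comm, mul_smul, algebraMap_smul, ← map_smul,
        (hann a).2 ((IsLocalization.AtPrime.mk'_mem_maximal_iff _ p a t).1 hx), map_zero, smul_zero]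
  refine ⟨hinj, fun n => ?_⟩
  by_contra hn
  obtain ⟨p, hp, -⟩ := exists_le_isAssociatedPrime_of_isNoetherianRing R
    (Submodule.Quotient.mk n : N ⧸ LinearMap.range φ) (fun e => hn ((Submodule.Quotient.mk_eq_zero _).1 e))
  haveI := hp.isPrime
  obtain ⟨-, q, hq⟩ := isAssociatedPrime_iff.1 hp
  obtain ⟨n, rfl⟩ := Submodule.Quotient.mk_surjective _ q
  have hann : ∀ a : R, a • n ∈ LinearMap.range φ ↔ a ∈ p := fun a => by
    rw [hq, Submodule.mem_colon_singleton, Submodule.mem_bot, ← Submodule.Quotient.mk_smul, Submodule.Quotient.mk_eq_zero]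
  let f := LocalizedModule.map p.primeCompl φ
  let mM := LocalizedModule.mkLinearMap p.primeCompl M
  let mN := LocalizedModule.mkLinearMap p.primeCompl N
  have hf : Function.Injective f := LocalizedModule.map_injective _ _ hinj
  have hmap : ∀ v, f (mM v) = mN (φ v) := fun v => IsLocalizedModule.map_apply p.primeCompl mM mN φ v
  have hdesc : mN n ∉ LinearMap.range f := by
    rintro ⟨z, hz⟩
    obtain ⟨⟨v, s⟩, hv⟩ := IsLocalizedModule.surj p.primeCompl mM z
    have h1 : mN (φ v) = mN ((s : R) • n) := by
      rw [map_smul, ← hmap, ← hv, Submonoid.smul_def, LinearMap.map_smul_of_tower, hz]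
    obtain ⟨c, hc⟩ := IsLocalizedModule.exists_of_eq (S := p.primeCompl) h1
    exact p.primeCompl.mul_mem c.2 s.2 ((hann (c * s)).1 ⟨(c : R) • v, by rw [map_smul, mul_smul]; exact hc⟩)
  rcases h p with hb | ⟨hd, hass⟩
  · exact hdesc (hb.2 _)
  · have hkill : ∀ a ∈ p, algebraMap R (Localization.AtPrime p) a • mN n ∈ LinearMap.range f := by
      intro a ha
      obtain ⟨v, hv⟩ := (hann a).2 ha
      exact ⟨mM v, by rw [hmap, hv, algebraMap_smul, map_smul]⟩
    have hkill' : ∀ r ∈ IsLocalRing.maximalIdeal (Localization.AtPrime p), r • mN n ∈ LinearMap.range f := by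
      intro r hr
      obtain ⟨a, t, rfl⟩ := IsLocalization.exists_mk'_eq p.primeCompl r
      rw [IsLocalization.mk'_eq_mul_mk'_one, mul_comm, mul_smul]
      exact Submodule.smul_mem _ _ (hkill a ((IsLocalization.AtPrime.mk'_mem_maximal_iff _ p a t).1 hr))
    rcases subsingleton_or_nontrivial (LocalizedModule p.primeCompl M) with hM | hM
    · refine hdesc ⟨0, ?_⟩
      rw [map_zero]
      refine (eq_zero_of_killed p hass _ fun a ha => ?_).symm
      obtain ⟨z, hz⟩ := hkill a ha
      rw [← hz, Subsingleton.elim z 0, map_zero]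
    · obtain ⟨x, hx, y, hy, hxr, hyr⟩ := Groth.Agent.S6879.exists_pair _ _ hd
      obtain ⟨m₁, h1⟩ := hkill' x hx
      obtain ⟨m₂, h2⟩ := hkill' y hy
      have he : y • m₁ = x • m₂ := hf (by rw [map_smul, map_smul, h1, h2, smul_comm])
      have h3 : (Submodule.Quotient.mk m₁ : QuotSMulTop x (LocalizedModule p.primeCompl M)) = 0 := by
        refine hyr.right_eq_zero_of_smul ?_
        rw [← Submodule.Quotient.mk_smul, he, Submodule.Quotient.mk_eq_zero]
        exact Submodule.smul_mem_pointwise_smul m₂ x ⊤ trivial
      rw [Submodule.Quotient.mk_eq_zero, Submodule.mem_smul_pointwise_iff_exists] at h3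
      obtain ⟨m', -, hm'⟩ := h3
      have hxd : x • (mN n - f m') = 0 := by
        rw [smul_sub, ← map_smul f, hm', h1, sub_self]
      refine hdesc ⟨m', (sub_eq_zero.1 (eq_zero_of_killed p hass _ fun a ha => ?_)).symm⟩
      obtain ⟨z, hz⟩ := hkill a ha
      have hw : algebraMap R (Localization.AtPrime p) a • (mN n - f m') =
          f (z - algebraMap R (Localization.AtPrime p) a • m') := by
        rw [smul_sub, map_sub, map_smul f, hz]
      rw [hw]
      have h4 : x • (z - algebraMap R (Localization.AtPrime p) a • m') = 0 := hf (by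
        rw [map_smul, ← hw, smul_comm, hxd, smul_zero, map_zero])
      rw [hxr.right_eq_zero_of_smul h4, map_zero]

end Groth.Agent.S2090
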