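import Mathlib.RingTheory.AdicCompletion.Algebra
import Mathlib.RingTheory.Ideal.AssociatedPrime.Basic
import Mathlib.RingTheory.RegularLocalRing.Defs
import Mathlib.RingTheory.Nilpotent.Defs
import Mathlib.RingTheory.LocalRing.MaximalIdeal.Basic
import Mathlib.RingTheory.Ideal.MinimalPrime.Basic
import Groth.Agent.L01.AnalUnram
import Groth.Agent.L07.RegularQuotient
import Mathlib.RingTheory.DiscreteValuationRing.Basic
import Mathlib.RingTheory.RegularLocalRing.Defs
import Mathlib.RingTheory.Ideal.KrullsHeightTheorem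

set_option autoImplicit false
namespace CAlg
end CAlg
universe u
open CAlg

namespace Groth.Agent.S2093

/-- Let `(R, 𝔪)` be a Noetherian local domain and `x ∈ 𝔪` nonzero such that `R/xR` has no embedded
associated primes, and for every associated prime `𝔭` of `R/xR` the local ring `R_𝔭` is regular and
the completion of `R/𝔭` is reduced. Then the completion of `R` is reduced. -/
theorem result {R : Type u} [CommRing R] [IsDomain R] [IsLocalRing R]
    [IsNoetherianRing R] (x : R) (hx : x ≠ 0) (hxm : x ∈ IsLocalRing.maximalIdeal R)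
    (hemb : ∀ p ∈ associatedPrimes R (R ⧸ Ideal.span {x}), p ∈ (Ideal.span {x}).minimalPrimes)
    (hreg : ∀ p ∈ associatedPrimes R (R ⧸ Ideal.span {x}), ∀ (_ : p.IsPrime),
      IsRegularLocalRing (Localization.AtPrime p) ∧
        IsReduced (AdicCompletion ((IsLocalRing.maximalIdeal R).map (Ideal.Quotient.mk p)) (R ⧸ p))) :
    IsReduced (AdicCompletion (IsLocalRing.maximalIdeal R) R) := by
  haveI := Groth.L01.AnalUnram.isNoetherianRing_completion R
  have hT : (IsLocalRing.maximalIdeal R).map
      (algebraMap R (AdicCompletion (IsLocalRing.maximalIdeal R) R)) ≤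
        IsLocalRing.maximalIdeal (AdicCompletion (IsLocalRing.maximalIdeal R) R) :=
    (Groth.L01.AnalUnram.completion_map_maximalIdeal R).le
  refine Groth.L01.AnalUnram.isReduced_of_flat (B := R) hx ?_ fun P hP => ?_
  · rw [IsLocalRing.jacobson_eq_maximalIdeal ⊥ bot_ne_top]
    exact hT (Ideal.mem_map_of_mem _ hxm)
  haveI hPp : P.IsPrime := hP.isPrime
  obtain ⟨hR, hred⟩ := hreg P hP hPp
  constructor
  · -- reducedness of the fibre
    haveI : Nontrivial (R ⧸ P) := Ideal.Quotient.nontrivial_iff.mpr hPp.ne_top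
    haveI : IsLocalRing (R ⧸ P) :=
      IsLocalRing.of_surjective' (Ideal.Quotient.mk P) Ideal.Quotient.mk_surjective
    obtain ⟨e⟩ := Groth.L07.RegQuot.exists_completionQuotEquiv (Ideal.Quotient.mk P)
      Ideal.Quotient.mk_surjective
    rw [Ideal.mk_ker] at e
    haveI := hred
    rw [IsLocalRing.map_maximalIdeal_of_surjective _ Ideal.Quotient.mk_surjective] at hred
    haveI := hred
    exact isReduced_of_injective e.toRingHom e.injective
  · -- the local ring at P is a discrete valuation ring
    have hmin : P ∈ (Ideal.span {x}).minimalPrimes := hemb P hP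
    have hxP : x ∈ P := hmin.1.2 (Ideal.mem_span_singleton_self x)
    have hP0 : P ≠ ⊥ := fun h => hx (Ideal.mem_bot.mp (h ▸ hxP))
    have hh : P.height ≤ 1 :=
      Ideal.height_le_one_of_isPrincipal_of_mem_minimalPrimes (Ideal.span {x}) P hmin
    let L := Localization.AtPrime P
    haveI : IsDomain L := IsLocalization.isDomain_localization P.primeCompl_le_nonZeroDivisors
    have hdimle : ringKrullDim L ≤ 1 := by
      rw [IsLocalization.AtPrime.ringKrullDim_eq_height P L]
      exact_mod_cast hh
    haveI : Ring.KrullDimLE 1 L := Ring.krullDimLE_iff.mpr (by exact_mod_cast hdimle)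
    have hprinc : (IsLocalRing.maximalIdeal L).IsPrincipal := by
      have hle : ((IsLocalRing.maximalIdeal L).spanFinrank : WithBot ℕ∞) ≤ 1 :=
        IsRegularLocalRing.spanFinrank_maximalIdeal.trans_le hdimle
      have hle' : (IsLocalRing.maximalIdeal L).spanFinrank ≤ 1 := by exact_mod_cast hle
      obtain ⟨s, hscard, hs⟩ := Submodule.FG.exists_span_finset_card_eq_spanFinrank
        (IsNoetherian.noetherian (IsLocalRing.maximalIdeal L))
      rw [← hscard] at hle'
      obtain ⟨a, ha⟩ := Finset.card_le_one_iff_subset_singleton.mp hle'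
      rcases Finset.subset_singleton_iff.mp ha with h | h
      · exact ⟨⟨0, by rw [← hs, h]; simp⟩⟩
      · exact ⟨⟨a, by rw [← hs, h]; simp⟩⟩
    obtain ⟨ϖ, hϖ⟩ := hprinc
    obtain ⟨⟨π, c⟩, hπ⟩ := IsLocalization.surj P.primeCompl ϖ
    simp only at hπ
    have hmax : IsLocalRing.maximalIdeal L = Ideal.span {algebraMap R L π} := by
      rw [hϖ, ← hπ, Ideal.span_singleton_mul_right_unit (IsLocalization.map_units L c)]
    have hπ0 : π ≠ 0 := by
      intro h
      rw [h, map_zero, Ideal.span_singleton_eq_bot.mpr rfl] at hmax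
      apply hP0
      rw [← IsLocalization.AtPrime.comap_maximalIdeal L P, hmax]
      exact Ideal.comap_bot_of_injective _
        (IsLocalization.injective L P.primeCompl_le_nonZeroDivisors)
    refine ⟨π, hπ0, ?_⟩
    have hdvd : ∀ a ∈ P, ∃ t, t ∉ P ∧ π ∣ t * a := by
      intro a ha
      have h1 : algebraMap R L a ∈ Ideal.span {algebraMap R L π} := by
        rw [← hmax]
        exact (IsLocalization.AtPrime.to_map_mem_maximal_iff L P a).mpr ha
      obtain ⟨b, hb⟩ := Ideal.mem_span_singleton'.mp h1
      obtain ⟨⟨b', s⟩, hs⟩ := IsLocalization.surj P.primeCompl b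
      simp only at hs
      refine ⟨s, s.2, b', IsLocalization.injective L P.primeCompl_le_nonZeroDivisors ?_⟩
      rw [map_mul, map_mul, ← hs, ← hb]
      ring
    obtain ⟨S, hS⟩ := IsNoetherian.noetherian P
    choose t ht htd using fun a : {a // a ∈ S} => hdvd a (hS ▸ Submodule.subset_span a.2)
    have ht0 : (∏ a : {a // a ∈ S}, t a) ∉ P := fun h => by
      obtain ⟨a, -, ha⟩ := (hPp.prod_mem_iff).mp h
      exact ht a ha
    refine ⟨∏ a : {a // a ∈ S}, t a, ht0, fun a ha => ?_, ?_⟩
    · rw [← hS] at ha
      induction ha using Submodule.span_induction with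
      | mem v hv =>
        classical
        rw [← Finset.prod_erase_mul _ _ (Finset.mem_univ (⟨v, hv⟩ : {a // a ∈ S})), mul_assoc]
        exact (htd ⟨v, hv⟩).mul_left _
      | zero => simp
      | add a b _ _ ha hb => rw [mul_add]; exact dvd_add ha hb
      | smul r a _ ha => rw [smul_eq_mul, mul_left_comm]; exact ha.mul_left r
    · -- π^e is divisible by x locally
      have hrad : IsLocalRing.maximalIdeal L ≤ (Ideal.span {algebraMap R L x}).radical := by
        rw [Ideal.radical_eq_sInf]
        refine le_sInf fun Q ⟨hQle, hQp⟩ => ?_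
        haveI := hQp
        have hQ0 : Q ≠ ⊥ := fun h => hx ((map_eq_zero_iff _
          (IsLocalization.injective L P.primeCompl_le_nonZeroDivisors)).mp
            (Ideal.mem_bot.mp (h ▸ hQle (Ideal.mem_span_singleton_self _))))
        haveI := Ring.krullDimLE_one_iff_of_noZeroDivisors.mp (inferInstance : Ring.KrullDimLE 1 L) Q hQ0 hQp
        exact (IsLocalRing.eq_maximalIdeal ‹Q.IsMaximal›).ge
      obtain ⟨e, he⟩ := hrad (hmax ▸ Ideal.mem_span_singleton_self (algebraMap R L π))
      obtain ⟨b, hb⟩ := Ideal.mem_span_singleton'.mp he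
      obtain ⟨⟨b', s⟩, hs⟩ := IsLocalization.surj P.primeCompl b
      simp only at hs
      refine ⟨e, s, s.2, b', IsLocalization.injective L P.primeCompl_le_nonZeroDivisors ?_⟩
      rw [map_mul, map_mul, ← hs, map_pow, ← hb]
      ring

end Groth.Agent.S2093
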