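import Groth.Statements.S2094
import Mathlib.LinearAlgebra.SymmetricAlgebra.Basis
import Mathlib.Algebra.TrivSqZeroExt.Basic
import Mathlib.RingTheory.Smooth.Basic
import Mathlib.RingTheory.Finiteness.Projective
import Mathlib.Algebra.Module.Projective
import Mathlib.RingTheory.FiniteType
import Mathlib.LinearAlgebra.Finsupp.LinearCombination
import Mathlib.RingTheory.FinitePresentation

set_option autoImplicit false
universe u
open CAlg

namespace Groth.Agent.S2094

/-- The symmetric algebra of an `A`-module is a smooth `A`-algebra exactly when the module is finite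
projective. -/
theorem result {A M : Type u} [CommRing A] [AddCommGroup M] [Module A M] :
    Algebra.Smooth A (SymmetricAlgebra A M) ↔ Module.Finite A M ∧ Module.Projective A M := by
  classical
  constructor
  · intro hS
    letI : Module Aᵐᵒᵖ M := Module.compHom M ((RingHom.id A).fromOpposite mul_comm)
    haveI : IsCentralScalar A M := ⟨fun _ _ => rfl⟩
    let F := M →₀ A
    let g : F →ₗ[A] M := Finsupp.linearCombination A id
    have hg : Function.Surjective g := fun m => ⟨Finsupp.single m (1 : A), (Finsupp.linearCombination_single A 1 m).trans (one_smul A m)⟩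
    let D : SymmetricAlgebra A M →ₐ[A] TrivSqZeroExt A M := SymmetricAlgebra.lift (TrivSqZeroExt.inrHom A M)
    have hD : ∀ m, D (SymmetricAlgebra.ι A M m) = TrivSqZeroExt.inr m := fun m => SymmetricAlgebra.lift_ι_apply _ m
    refine ⟨?_, ?_⟩
    · obtain ⟨t, ht⟩ := (Algebra.FiniteType.out : (⊤ : Subalgebra A (SymmetricAlgebra A M)).FG)
      refine Module.Finite.of_fg_top (Submodule.fg_def.mpr ⟨(fun x => (D x).snd) '' t, t.finite_toSet.image _, ?_⟩)
      rw [eq_top_iff]
      intro m _
      have key : ∀ x ∈ Algebra.adjoin A (t : Set (SymmetricAlgebra A M)), (D x).snd ∈ Submodule.span A ((fun x => (D x).snd) '' (t : Set _)) := by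
        intro x hx
        induction hx using Algebra.adjoin_induction with
        | mem x hx => exact Submodule.subset_span ⟨x, hx, rfl⟩
        | algebraMap r => simp [TrivSqZeroExt.algebraMap_eq_inl]
        | add x y _ _ hx hy => rw [map_add, TrivSqZeroExt.snd_add]; exact add_mem hx hy
        | mul x y _ _ hx hy =>
          rw [map_mul, TrivSqZeroExt.snd_mul, op_smul_eq_smul]
          exact add_mem (Submodule.smul_mem _ _ hy) (Submodule.smul_mem _ _ hx)
      have := key (SymmetricAlgebra.ι A M m) (by rw [ht]; exact Algebra.mem_top)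
      rwa [hD, TrivSqZeroExt.snd_inr] at this
    · let φ := TrivSqZeroExt.map g
      have hφ : Function.Surjective φ := fun x => by
        obtain ⟨f, hf⟩ := hg x.snd
        exact ⟨TrivSqZeroExt.inl x.fst + TrivSqZeroExt.inr f, by ext <;> simp [φ, hf]⟩
      have hnil : IsNilpotent (RingHom.ker (φ : TrivSqZeroExt A F →+* TrivSqZeroExt A M)) := by
        refine ⟨2, ?_⟩
        rw [Submodule.zero_eq_bot, eq_bot_iff]
        rw [show (2 : ℕ) = 1 + 1 from rfl, Submodule.pow_succ, Submodule.pow_one, Ideal.mul_le]
        intro x hx y hy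
        rw [RingHom.mem_ker] at hx hy
        have hx' := congrArg TrivSqZeroExt.fst hx
        have hy' := congrArg TrivSqZeroExt.fst hy
        simp [φ] at hx' hy'
        rw [Submodule.mem_bot]
        ext <;> simp [hx', hy']
      let L := Algebra.FormallySmooth.liftOfSurjective D φ hφ hnil
      refine Module.Projective.of_split ((TrivSqZeroExt.sndHom A F) ∘ₗ L.toLinearMap ∘ₗ SymmetricAlgebra.ι A M) g ?_
      ext m
      have := congrArg TrivSqZeroExt.snd (Algebra.FormallySmooth.liftOfSurjective_apply D φ hφ hnil (SymmetricAlgebra.ι A M m))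
      rw [hD, TrivSqZeroExt.snd_inr, TrivSqZeroExt.snd_map] at this
      exact this
  · rintro ⟨_, _⟩
    refine ⟨?_, ?_⟩
    · refine Algebra.FormallySmooth.of_comp_surjective fun C _ _ I _ f => ?_
      obtain ⟨l, hl⟩ := Module.projective_lifting_property (Ideal.Quotient.mkₐ A I).toLinearMap
        (f.toLinearMap ∘ₗ SymmetricAlgebra.ι A M) Ideal.Quotient.mk_surjective
      refine ⟨SymmetricAlgebra.lift l, SymmetricAlgebra.algHom_ext (LinearMap.ext fun m => ?_)⟩
      have := LinearMap.congr_fun hl m
      simpa using this
    · obtain ⟨n, p, hp⟩ := Module.Finite.exists_fin' A M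
      obtain ⟨s, hs⟩ := Module.projective_lifting_property p LinearMap.id hp
      let P : MvPolynomial (Fin n) A →ₐ[A] SymmetricAlgebra A M :=
        MvPolynomial.aeval fun i => SymmetricAlgebra.ι A M (p (Pi.single i 1))
      let Q : SymmetricAlgebra A M →ₐ[A] MvPolynomial (Fin n) A :=
        SymmetricAlgebra.lift ((Pi.basisFun A (Fin n)).constr A MvPolynomial.X ∘ₗ s)
      have hPQ : P.comp Q = AlgHom.id A _ := by
        refine SymmetricAlgebra.algHom_ext (LinearMap.ext fun m => ?_)
        have e : P.toLinearMap ∘ₗ (Pi.basisFun A (Fin n)).constr A MvPolynomial.X = SymmetricAlgebra.ι A M ∘ₗ p :=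
          (Pi.basisFun A (Fin n)).ext fun i => by simp [P]
        have e2 := LinearMap.congr_fun e (s m)
        simp only [LinearMap.comp_apply, AlgHom.toLinearMap_apply, show p (s m) = m from LinearMap.congr_fun hs m] at e2
        simpa [Q] using e2
      have hsur : Function.Surjective P := fun x => ⟨Q x, DFunLike.congr_fun hPQ x⟩
      refine Algebra.FinitePresentation.of_surjective hsur ⟨(Finset.univ.image fun i => MvPolynomial.X i - Q (P (MvPolynomial.X i))), le_antisymm ?_ ?_⟩
      · rw [Ideal.span_le]
        intro x hx
        simp only [Finset.coe_image, Finset.coe_univ, Set.image_univ, Set.mem_range] at hx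
        obtain ⟨i, rfl⟩ := hx
        show P _ = 0
        rw [map_sub, show P (Q (P (MvPolynomial.X i))) = P (MvPolynomial.X i) from DFunLike.congr_fun hPQ _, sub_self]
      · intro x hx
        set I := Ideal.span ((Finset.univ.image fun i => MvPolynomial.X i - Q (P (MvPolynomial.X i)) : Finset _) : Set (MvPolynomial (Fin n) A))
        have : (Ideal.Quotient.mkₐ A I).comp (Q.comp P) = Ideal.Quotient.mkₐ A I := by
          refine MvPolynomial.algHom_ext fun i => ?_
          refine (Ideal.Quotient.eq.mpr ?_).symm
          exact Ideal.subset_span (by simp)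
        refine Ideal.Quotient.eq_zero_iff_mem.mp ?_
        rw [← Ideal.Quotient.mkₐ_eq_mk A, ← this]
        have hx' : P x = 0 := hx
        simp [hx']

end Groth.Agent.S2094
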