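import Groth.Prelude.Def_CAlgX
import Mathlib.RingTheory.TensorProduct.Basic
import Mathlib.RingTheory.Ideal.Maps
import Mathlib.RingTheory.TensorProduct.Quotient
import Mathlib.RingTheory.Ideal.Quotient.Operations
import Mathlib.RingTheory.Ideal.Maps

set_option autoImplicit false
namespace CAlg
end CAlg
universe u
open CAlg

namespace Groth.Agent.S2095

open TensorProduct in
/-- Let `R → S` be a ring map, `𝔫 ⊆ S` an ideal and `R → R'` a ring map admitting an `R`-linear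
retraction. If `R' → R' ⊗ S` is formally smooth for the adic topology of the extension of `𝔫`, then
`R → S` is formally smooth for the `𝔫`-adic topology. -/
theorem result {R S R' : Type u} [CommRing R] [CommRing S] [Algebra R S]
    (𝔫 : Ideal S) [CommRing R'] [Algebra R R'] (ρ : R' →ₗ[R] R) (hρ : ∀ r : R, ρ (algebraMap R R' r) = r)
    (h : CAlgX.IsAdicFormallySmooth R' (R' ⊗[R] S)
      (𝔫.map (Algebra.TensorProduct.includeRight : S →ₐ[R] R' ⊗[R] S))) :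
    CAlgX.IsAdicFormallySmooth R S 𝔫 := by
  intro A _ _ J hJ ψ ⟨k, hk⟩
  let ρA : R' ⊗[R] A →ₗ[R] A := (TensorProduct.lid R A).toLinearMap ∘ₗ ρ.rTensor A
  have hone : ∀ a : A, ρA (1 ⊗ₜ a) = a := fun a => by
    have : ρ 1 = 1 := by simpa using hρ 1
    simp [ρA, this]
  have hlin : ∀ (a : A) (z : R' ⊗[R] A), ρA ((1 ⊗ₜ a) * z) = a * ρA z := by
    intro a z
    induction z using TensorProduct.induction_on with
    | zero => simp
    | tmul r b => simp [ρA]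
    | add x y hx hy => simp only [mul_add, map_add, hx, hy]
  let J' : Ideal (R' ⊗[R] A) := J.map (Algebra.TensorProduct.includeRight : A →ₐ[R] R' ⊗[R] A)
  let e := Algebra.TensorProduct.tensorQuotientEquiv (R := R) R' A R' J
  have hJ' : J' ^ 2 = ⊥ := by
    simp only [J', ← Ideal.map_pow, hJ, Ideal.map_bot]
  let ψ' : R' ⊗[R] S →ₐ[R'] (R' ⊗[R] A) ⧸ J' :=
    e.toAlgHom.comp (Algebra.TensorProduct.map (AlgHom.id R' R') ψ)
  have hψ' : ∀ x ∈ (𝔫.map (Algebra.TensorProduct.includeRight : S →ₐ[R] R' ⊗[R] S)) ^ k, ψ' x = 0 := by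
    intro x hx
    rw [← Ideal.map_pow] at hx
    have hle : (𝔫 ^ k).map (Algebra.TensorProduct.includeRight : S →ₐ[R] R' ⊗[R] S) ≤ RingHom.ker ψ' := by
      refine Ideal.map_le_iff_le_comap.mpr fun s hs => ?_
      simp [ψ', hk s hs]
    exact hle hx
  obtain ⟨χ', hχ'⟩ := h _ J' hJ' ψ' ⟨k, hψ'⟩
  let χ : S → A := fun s => ρA (χ' (1 ⊗ₜ s))
  have hkey : ∀ z : R' ⊗[R] A, Ideal.Quotient.mk J (ρA z) =
      TensorProduct.lid R (A ⧸ J) (ρ.rTensor (A ⧸ J) (e.symm (Ideal.Quotient.mk J' z))) := by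
    intro z
    induction z using TensorProduct.induction_on with
    | zero => simp
    | tmul r b =>
      have : e.symm (Ideal.Quotient.mk J' (r ⊗ₜ[R] b)) = r ⊗ₜ[R] (Ideal.Quotient.mk J b) :=
        Algebra.TensorProduct.tensorQuotientEquiv_symm_apply_tmul R' A R' J r b
      rw [this]
      simp only [ρA, LinearMap.comp_apply, LinearMap.rTensor_tmul, LinearEquiv.coe_coe, TensorProduct.lid_tmul]
      exact map_smul (Ideal.Quotient.mkₐ R J) (ρ r) b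
    | add x y hx hy => simp only [map_add, hx, hy]
  have hlift : ∀ s, Ideal.Quotient.mk J (χ s) = ψ s := by
    intro s
    have h0 : Ideal.Quotient.mk J' (χ' (1 ⊗ₜ s)) = e (1 ⊗ₜ ψ s) :=
      DFunLike.congr_fun hχ' ((1 : R') ⊗ₜ[R] s)
    show Ideal.Quotient.mk J (ρA _) = _
    rw [hkey, h0, AlgEquiv.symm_apply_apply]
    have : ρ 1 = 1 := by simpa using hρ 1
    simp [this]
  have hd : ∀ s, χ' (1 ⊗ₜ s) - (1 : R') ⊗ₜ[R] χ s ∈ J' := by
    intro s
    rw [← Ideal.Quotient.eq]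
    have h0 : Ideal.Quotient.mk J' (χ' (1 ⊗ₜ s)) = e (1 ⊗ₜ ψ s) :=
      DFunLike.congr_fun hχ' ((1 : R') ⊗ₜ[R] s)
    rw [h0, ← hlift s]
    exact Algebra.TensorProduct.tensorQuotientEquiv_apply_tmul R' A R' J 1 (χ s)
  have hdd : ∀ s t, (χ' (1 ⊗ₜ s) - (1 : R') ⊗ₜ[R] χ s) * (χ' (1 ⊗ₜ t) - (1 : R') ⊗ₜ[R] χ t) = 0 := by
    intro s t
    have := Ideal.mul_mem_mul (hd s) (hd t)
    rw [← sq, hJ'] at this
    exact this
  have hρd : ∀ s, ρA (χ' (1 ⊗ₜ s) - (1 : R') ⊗ₜ[R] χ s) = 0 := fun s => by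
    rw [map_sub, hone, sub_self]
  have hmul : ∀ s t, χ (s * t) = χ s * χ t := by
    intro s t
    have hst : χ' (1 ⊗ₜ (s * t)) = (1 : R') ⊗ₜ[R] (χ s * χ t)
        + (1 ⊗ₜ χ s) * (χ' (1 ⊗ₜ t) - (1 : R') ⊗ₜ[R] χ t)
        + (1 ⊗ₜ χ t) * (χ' (1 ⊗ₜ s) - (1 : R') ⊗ₜ[R] χ s) := by
      have h1 : ((1 : R') ⊗ₜ[R] (s * t) : R' ⊗[R] S) = (1 ⊗ₜ s) * (1 ⊗ₜ t) := by simp
      have h2 : ((1 : R') ⊗ₜ[R] (χ s * χ t) : R' ⊗[R] A) = (1 ⊗ₜ χ s) * (1 ⊗ₜ χ t) := by simp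
      rw [h1, map_mul, h2]
      linear_combination hdd s t
    show ρA _ = _
    rw [hst, map_add, map_add, hone, hlin, hlin, hρd, hρd, mul_zero, mul_zero, add_zero, add_zero]
  let χl : S →ₗ[R] A :=
    ρA ∘ₗ (χ'.restrictScalars R).toLinearMap ∘ₗ
      (Algebra.TensorProduct.includeRight : S →ₐ[R] R' ⊗[R] S).toLinearMap
  refine ⟨AlgHom.ofLinearMap χl ?_ hmul, AlgHom.ext hlift⟩
  show ρA (χ' (1 ⊗ₜ 1)) = 1
  rw [← Algebra.TensorProduct.one_def, map_one, Algebra.TensorProduct.one_def, hone]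

end Groth.Agent.S2095
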