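import Groth.Prelude.Def_PBC
import Mathlib.RingTheory.LocalRing.ResidueField.Fiber
import Mathlib.RingTheory.LocalRing.ResidueField.Ideal
import Mathlib.RingTheory.KrullDimension.Basic
import Mathlib.RingTheory.Nilpotent.Defs
import Mathlib.FieldTheory.Separable
import Mathlib.RingTheory.Ideal.Over
import Groth.Agent.L05.WE.Fibre

set_option autoImplicit false
namespace CAlg
end CAlg
universe u
open CAlg

namespace Groth.Agent.S2096

/-- Let `B` be a Noetherian ind-étale `A`-algebra (a filtered colimit of étale algebras) and `𝔭` a prime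
of `A`. Then only finitely many primes of `B` lie over `𝔭`, the fibre ring `B ⊗ κ(𝔭)` is reduced of
dimension zero, and each residue field extension `κ(𝔮)/κ(𝔭)` is separable algebraic. -/
theorem result {A B : Type u} [CommRing A] [CommRing B] [Algebra A B] (hB : EtPBC.IsIndEtale A B)
    [IsNoetherianRing B] (p : Ideal A) [p.IsPrime] :
    {q : PrimeSpectrum B | q.asIdeal.LiesOver p}.Finite ∧ IsReduced (p.Fiber B) ∧ ringKrullDim (p.Fiber B) ≤ 0 ∧
      ∀ (q : Ideal B) [q.IsPrime] [q.LiesOver p],
        @Algebra.IsSeparable p.ResidueField q.ResidueField _ _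
          (Ideal.ResidueField.mapₐ p q (Algebra.ofId A B) (q.over_def p)).toRingHom.toAlgebra := by
  obtain ⟨n, L, _, _, -, ⟨e⟩⟩ := Groth.L05.WE.exists_pi_separable_fibre hB p
  refine ⟨?_, ?_, ?_, ?_⟩
  · have : IsArtinianRing (p.Fiber B) := e.symm.toRingEquiv.surjective.isArtinianRing
    have hfin : Finite (PrimeSpectrum (p.Fiber B)) := inferInstance
    have h2 : Finite (PrimeSpectrum.comap (algebraMap A B) ⁻¹' {⟨p, inferInstance⟩}) :=
      Finite.of_equiv _ (PrimeSpectrum.preimageEquivFiber A B ⟨p, inferInstance⟩).symm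
    refine (Set.finite_coe_iff.mp h2).subset fun q hq => ?_
    exact PrimeSpectrum.ext hq.over.symm
  · exact isReduced_of_injective e e.injective
  · have : IsArtinianRing (p.Fiber B) := e.symm.toRingEquiv.surjective.isArtinianRing
    exact_mod_cast (Ring.krullDimLE_iff (n := 0)).mp inferInstance
  · intro q _ _
    letI := (Ideal.ResidueField.mapₐ p q (Algebra.ofId A B) (q.over_def p)).toRingHom.toAlgebra
    haveI : IsScalarTower A p.ResidueField q.ResidueField := IsScalarTower.of_algebraMap_eq fun a =>
      ((Ideal.ResidueField.mapₐ p q (Algebra.ofId A B) (q.over_def p)).commutes a).symm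
    haveI := Groth.L27.IndEtale.weaklyEtale A B hB
    exact Groth.L05.WE.isSeparable_residueField_of_weaklyEtale p q

end Groth.Agent.S2096
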