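import Groth.Statements.S2097
import Groth.Agent.L05.Hensel.Smooth
import Groth.Agent.L05.Hensel.Perm
import Mathlib.RingTheory.Smooth.Basic
import Mathlib.RingTheory.TensorProduct.Maps

set_option autoImplicit false
universe u
open CAlg

namespace Groth.Agent.S2097

/-- Let `R → S` be smooth, `A` an `R`-algebra and `I ⊆ A` an ideal all of whose elements are nilpotent.
Every `R`-algebra map `S → A/I` lifts to an `R`-algebra map `S → A`. -/
theorem result {R S A : Type u} [CommRing R] [CommRing S] [Algebra R S] [Algebra.Smooth R S]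
    [CommRing A] [Algebra R A] (I : Ideal A) (hI : ∀ x ∈ I, IsNilpotent x) (g : S →ₐ[R] A ⧸ I) :
    ∃ f : S →ₐ[R] A, (Ideal.Quotient.mkₐ R I).comp f = g := by
  haveI := Groth.L05.henselianRing_of_nil I hI
  let σ : TensorProduct R A S →ₐ[A] A ⧸ I := Algebra.TensorProduct.lift (Algebra.ofId A (A ⧸ I)) g fun _ _ => Commute.all _ _
  obtain ⟨τ, hτ⟩ := Groth.L05.exists_algHom_lift_smooth I σ
  refine ⟨(τ.restrictScalars R).comp Algebra.TensorProduct.includeRight, AlgHom.ext fun s => ?_⟩
  have := AlgHom.congr_fun hτ (TensorProduct.tmul R (1 : A) s)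
  simpa [σ] using this

end Groth.Agent.S2097
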