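import Mathlib.RingTheory.Jacobson.Ideal
import Mathlib.RingTheory.Finiteness.Defs
import Mathlib.RingTheory.Noetherian.Basic
import Mathlib.LinearAlgebra.Quotient.Basic
import Mathlib.Algebra.Module.Submodule.Pointwise
import Mathlib.RingTheory.Filtration
import Mathlib.Algebra.Module.Projective
import Mathlib.LinearAlgebra.FreeModule.Basic

set_option autoImplicit false
namespace CAlg
end CAlg
universe u
open CAlg

namespace Groth.Agent.S2098

/-- Let `R` be Noetherian, `I` an ideal inside the Jacobson radical and `u : N → M` a map of finite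
`R`-modules. If for arbitrarily large `n` the induced map `N/IⁿN → M/IⁿM` has a left inverse, then
`u` has a left inverse. -/
theorem result {R M N : Type u} [CommRing R] [IsNoetherianRing R] (I : Ideal R)
    (hI : I ≤ (⊥ : Ideal R).jacobson) [AddCommGroup M] [Module R M] [Module.Finite R M] [AddCommGroup N] [Module R N]
    [Module.Finite R N] (u : N →ₗ[R] M)
    (h : ∀ n₀ : ℕ, ∃ n, n₀ ≤ n ∧ ∃ s : (M ⧸ (I ^ n) • (⊤ : Submodule R M)) →ₗ[R] (N ⧸ (I ^ n) • (⊤ : Submodule R N)),
      ∀ x : N, s (Submodule.Quotient.mk (u x)) = Submodule.Quotient.mk x) :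
    ∃ s : M →ₗ[R] N, s.comp u = LinearMap.id := by
  classical
  obtain ⟨b, π, hπ⟩ := Module.Finite.exists_fin' R M
  obtain ⟨c, k, hk⟩ := Submodule.fg_iff_exists_fin_generating_family.mp
    (IsNoetherian.noetherian (LinearMap.ker π))
  obtain ⟨e, g, hg⟩ := Submodule.fg_iff_exists_fin_generating_family.mp (Module.Finite.fg_top (R := R) (M := N))
  choose y hy using fun i => hπ (u (g i))
  let Φ : ((Fin b → R) →ₗ[R] N) →ₗ[R] (Fin c ⊕ Fin e → N) :=
    LinearMap.pi fun i => LinearMap.applyₗ (Sum.elim k y i)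
  let t : Fin c ⊕ Fin e → N := Sum.elim (fun _ => 0) g
  have hmem : ∀ (J : Ideal R) (v : Fin c ⊕ Fin e → N), (∀ i, v i ∈ J • (⊤ : Submodule R N)) →
      v ∈ J • (⊤ : Submodule R (Fin c ⊕ Fin e → N)) := fun J v hv => by
    rw [← Finset.univ_sum_single v]
    refine Submodule.sum_mem _ fun i _ => ?_
    have := Submodule.mem_map_of_mem (f := LinearMap.single R (fun _ => N) i) (hv i)
    rw [Submodule.map_smul''] at this
    exact (Submodule.smul_mono le_rfl le_top) this
  have ht : t ∈ LinearMap.range Φ := by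
    rw [← Submodule.Quotient.mk_eq_zero]
    refine (Submodule.eq_bot_iff _).mp (Ideal.iInf_pow_smul_eq_bot_of_le_jacobson I hI) _ ?_
    rw [Submodule.mem_iInf]
    intro n₀
    obtain ⟨n, hn, s, hs⟩ := h n₀
    obtain ⟨f, hf⟩ := Module.projective_lifting_property (Submodule.mkQ ((I ^ n) • (⊤ : Submodule R N)))
      (s.comp ((Submodule.mkQ _).comp π)) (Submodule.mkQ_surjective _)
    have hsub : t - Φ f ∈ (I ^ n) • (⊤ : Submodule R (Fin c ⊕ Fin e → N)) := hmem _ _ fun i => by
      rw [← Submodule.Quotient.mk_eq_zero, Pi.sub_apply, Submodule.Quotient.mk_sub, sub_eq_zero]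
      have hfi : ∀ v, Submodule.Quotient.mk (f v) = s (Submodule.Quotient.mk (π v)) :=
        fun v => LinearMap.congr_fun hf v
      rcases i with j | j
      · have : k j ∈ LinearMap.ker π := hk ▸ Submodule.subset_span ⟨j, rfl⟩
        simp [t, Φ, hfi, LinearMap.mem_ker.mp this]
      · simp [t, Φ, hfi, hy, hs]
    have := Submodule.mem_map_of_mem (f := Submodule.mkQ (LinearMap.range Φ)) hsub
    rw [Submodule.map_smul'', Submodule.mkQ_apply, Submodule.Quotient.mk_sub,
      (Submodule.Quotient.mk_eq_zero _).mpr (LinearMap.mem_range_self Φ f), sub_zero] at this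
    exact Submodule.smul_mono (Ideal.pow_le_pow_right hn) le_top this
  obtain ⟨f, hf⟩ := ht
  have hker : LinearMap.ker π ≤ LinearMap.ker f := by
    rw [← hk, Submodule.span_le]
    rintro _ ⟨j, rfl⟩
    exact congrFun hf (Sum.inl j)
  refine ⟨((LinearMap.ker π).liftQ f hker).comp (π.quotKerEquivOfSurjective hπ).symm.toLinearMap,
    LinearMap.ext_on_range hg fun i => ?_⟩
  have hq : (π.quotKerEquivOfSurjective hπ).symm (u (g i)) = Submodule.Quotient.mk (y i) := by
    rw [LinearEquiv.symm_apply_eq, ← hy]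
    rfl
  simp only [LinearMap.comp_apply, LinearEquiv.coe_coe, LinearMap.id_apply, hq, Submodule.liftQ_apply]
  exact congrFun hf (Sum.inr i)

end Groth.Agent.S2098
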