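import Groth.Prelude.Def_CAlgX
import Mathlib.RingTheory.Flat.Basic
import Mathlib.RingTheory.LocalRing.RingHom.Basic
import Mathlib.Algebra.Module.FinitePresentation
import Mathlib.RingTheory.Ideal.Quotient.Operations
import Mathlib.LinearAlgebra.Quotient.Basic
import Mathlib.Algebra.Module.Torsion.Basic
import Groth.Agent.L02.CAlg.EssFP
import Groth.Agent.L20.FibreDescent
import Mathlib.RingTheory.LocalRing.ResidueField.Ideal

set_option autoImplicit false
namespace CAlg
end CAlg
universe u
open CAlg

open TensorProduct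
set_option linter.style.haveILetI false
set_option maxHeartbeats 1000000
namespace Groth.Agent.S2106

/-- Let `R → S → S'` be local homomorphisms of local rings with `S` and `S'` essentially of finite
presentation over `R`, and `M` a nonzero finitely presented `S'`-module which is flat over `R` and
such that `M/𝔪_R M` is flat over `S/𝔪_R S`. Then `S` is flat over `R` and `M` is flat over `S`. -/
theorem result {R S S' M : Type u} [CommRing R] [CommRing S] [CommRing S']
    [IsLocalRing R] [IsLocalRing S] [IsLocalRing S'] [Algebra R S] [Algebra S S'] [Algebra R S'] [IsScalarTower R S S']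
    [IsLocalHom (algebraMap R S)] [IsLocalHom (algebraMap S S')]
    (hS : CAlgX.IsEssFinitePresentation R S) (hS' : CAlgX.IsEssFinitePresentation R S')
    [AddCommGroup M] [Module S' M] [Module S M] [Module R M] [IsScalarTower S S' M] [IsScalarTower R S' M]
    [IsScalarTower R S M] [Module.FinitePresentation S' M] [Nontrivial M] [Module.Flat R M]
    (hfib : Module.Flat (S ⧸ (IsLocalRing.maximalIdeal R).map (algebraMap R S))
      (M ⧸ (IsLocalRing.maximalIdeal R).map (algebraMap R S) • (⊤ : Submodule S M))) :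
    Module.Flat R S ∧ Module.Flat S M := by
  classical
  obtain ⟨S₀, _, _, _, _, MS, hfpS, hlocS⟩ := hS
  obtain ⟨T₀, _, _, _, _, MT, hfpT, hlocT⟩ := hS'
  haveI := hfpS; haveI := hfpT; haveI := hlocS; haveI := hlocT
  haveI : Module.Flat S₀ S := IsLocalization.flat S MS
  obtain ⟨f, hf, ρ, hρ⟩ := Groth.L02.EssFP.exists_algHom_away (R := R) MT S'
    ((IsScalarTower.toAlgHom R S S').comp (IsScalarTower.toAlgHom R S₀ S))
  let U := Localization.Away f
  haveI : Algebra.FinitePresentation T₀ U := IsLocalization.Away.finitePresentation f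
  haveI : Algebra.FinitePresentation R U := Algebra.FinitePresentation.trans R T₀ U
  letI : Algebra U S' := (IsLocalization.liftAlgHom (M := Submonoid.powers f) (f := Algebra.ofId T₀ S')
    (fun y => IsLocalization.map_units S' ⟨(y : T₀), Submonoid.powers_le.mpr hf y.2⟩)).toRingHom.toAlgebra
  haveI : IsScalarTower T₀ U S' := IsScalarTower.of_algebraMap_eq fun x => (AlgHom.commutes _ x).symm
  haveI : IsScalarTower R U S' := IsScalarTower.of_algebraMap_eq fun x => by
    rw [IsScalarTower.algebraMap_apply R T₀ U, ← IsScalarTower.algebraMap_apply T₀ U S',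
      ← IsScalarTower.algebraMap_apply R T₀ S']
  haveI : IsLocalization (MT.map (algebraMap T₀ U)) S' :=
    IsLocalization.isLocalization_of_submonoid_le U S' (Submonoid.powers f) MT (Submonoid.powers_le.mpr hf)
  let q := (IsLocalRing.maximalIdeal S').comap (algebraMap U S')
  haveI : IsLocalization.AtPrime S' q :=
    Groth.L02.EssFP.atPrime_of_isLocalRing (MT.map (algebraMap T₀ U))
  letI : Algebra S₀ U := ρ.toRingHom.toAlgebra
  haveI : IsScalarTower R S₀ U := IsScalarTower.of_algebraMap_eq fun x => (ρ.commutes x).symm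
  letI : Algebra S₀ S' := ((algebraMap S S').comp (algebraMap S₀ S)).toAlgebra
  haveI : IsScalarTower S₀ S S' := IsScalarTower.of_algebraMap_eq' rfl
  haveI : IsScalarTower S₀ U S' := IsScalarTower.of_algebraMap_eq fun x => (hρ x).symm
  letI : Module U M := Module.compHom M (algebraMap U S')
  haveI : IsScalarTower U S' M := IsScalarTower.of_algebraMap_smul fun x m => rfl
  letI : Module S₀ M := Module.compHom M (algebraMap S₀ S)
  haveI : IsScalarTower S₀ S M := IsScalarTower.of_algebraMap_smul fun x m => rfl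
  haveI : IsScalarTower S₀ U M := IsScalarTower.of_algebraMap_smul fun x m => by
    rw [← algebraMap_smul S' (algebraMap S₀ U x), ← IsScalarTower.algebraMap_apply S₀ U S',
      IsScalarTower.algebraMap_apply S₀ S S', algebraMap_smul, algebraMap_smul]
  haveI : IsScalarTower R U M := IsScalarTower.of_algebraMap_smul fun x m => by
    rw [← algebraMap_smul S' (algebraMap R U x), ← IsScalarTower.algebraMap_apply R U S', algebraMap_smul]
  obtain ⟨M₀, _, _, ℓ, hM₀, hℓ⟩ := Groth.L02.EssFP.exists_module_model q.primeCompl S' M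
  haveI := hM₀; haveI := hℓ
  letI : Module S₀ M₀ := Module.compHom M₀ (algebraMap S₀ U)
  haveI : IsScalarTower S₀ U M₀ := IsScalarTower.of_algebraMap_smul fun x m => rfl
  letI : Module R M₀ := Module.compHom M₀ (algebraMap R U)
  haveI : IsScalarTower R U M₀ := IsScalarTower.of_algebraMap_smul fun x m => rfl
  let e : LocalizedModule q.primeCompl M₀ ≃ₗ[U] M := IsLocalizedModule.iso q.primeCompl ℓ
  haveI : Module.Flat R (LocalizedModule q.primeCompl M₀) :=
    Module.Flat.of_linearEquiv (e.restrictScalars R)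
  let m := IsLocalRing.maximalIdeal R
  haveI hlRS : IsLocalHom (algebraMap R S') := by
    rw [IsScalarTower.algebraMap_eq R S S']
    exact RingHom.isLocalHom_comp _ _
  have hp : m = q.comap (algebraMap R U) := by
    rw [Ideal.comap_comap, ← IsScalarTower.algebraMap_eq]
    exact (IsLocalRing.maximalIdeal_comap (algebraMap R S')).symm
  let K := m.ResidueField
  have hK : Function.Surjective (algebraMap R K) := Ideal.algebraMap_residueField_surjective m
  letI : Algebra S₀ (K ⊗[R] S₀) := Algebra.TensorProduct.rightAlgebra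
  letI : Algebra U (K ⊗[R] U) := Algebra.TensorProduct.rightAlgebra
  letI : Algebra (K ⊗[R] S₀) (K ⊗[R] U) :=
    (Algebra.TensorProduct.map (AlgHom.id R K) (IsScalarTower.toAlgHom R S₀ U)).toRingHom.toAlgebra
  letI : Algebra S₀ (K ⊗[R] U) := ((algebraMap U (K ⊗[R] U)).comp (algebraMap S₀ U)).toAlgebra
  haveI : IsScalarTower S₀ U (K ⊗[R] U) := IsScalarTower.of_algebraMap_eq fun x => rfl
  haveI : IsScalarTower S₀ (K ⊗[R] S₀) (K ⊗[R] U) :=
    IsScalarTower.of_algebraMap_eq fun x => by simp [RingHom.algebraMap_toAlgebra]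
  haveI : IsScalarTower K (K ⊗[R] S₀) (K ⊗[R] U) :=
    IsScalarTower.of_algebraMap_eq fun x => by simp [RingHom.algebraMap_toAlgebra]
  haveI : IsScalarTower R S₀ (K ⊗[R] U) := IsScalarTower.of_algebraMap_eq fun x => by
    rw [IsScalarTower.algebraMap_apply S₀ U (K ⊗[R] U), ← IsScalarTower.algebraMap_apply R S₀ U,
      ← IsScalarTower.algebraMap_apply]
  haveI : Algebra.IsPushout R S₀ K (K ⊗[R] S₀) := .symm inferInstance
  haveI : Algebra.IsPushout R U K (K ⊗[R] U) := .symm inferInstance
  haveI : Algebra.IsPushout S₀ U (K ⊗[R] S₀) (K ⊗[R] U) :=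
    (Algebra.IsPushout.comp_iff (R := R) (S := S₀) (R' := K) (S' := K ⊗[R] S₀) (T := U)
      (T' := K ⊗[R] U)).mp inferInstance
  haveI : Algebra.IsPushout S₀ (K ⊗[R] S₀) U (K ⊗[R] U) := .symm inferInstance
  let φ : K →ₐ[R] q.ResidueField := Ideal.ResidueField.mapₐ m q (Algebra.ofId R U) hp
  let ψ : K ⊗[R] U →ₐ[R] q.ResidueField :=
    Algebra.TensorProduct.lift φ (IsScalarTower.toAlgHom R U q.ResidueField) fun _ _ => Commute.all _ _
  have hq' : (RingHom.ker ψ.toRingHom).comap (algebraMap U (K ⊗[R] U)) = q := by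
    ext x
    rw [Ideal.mem_comap, RingHom.mem_ker]
    show ψ (1 ⊗ₜ[R] x) = 0 ↔ x ∈ q
    rw [Algebra.TensorProduct.lift_tmul, map_one, one_mul, IsScalarTower.toAlgHom_apply,
      Ideal.algebraMap_residueField_eq_zero]
  haveI : (RingHom.ker ψ.toRingHom).IsPrime := RingHom.ker_isPrime _
  have hsurj : Function.Surjective (algebraMap S₀ (K ⊗[R] S₀)) := by
    intro z
    induction z using TensorProduct.induction_on with
    | zero => exact ⟨0, map_zero _⟩
    | tmul k s =>
      obtain ⟨r, rfl⟩ := hK k
      refine ⟨r • s, ?_⟩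
      show (1 : K) ⊗ₜ[R] (r • s) = _
      rw [TensorProduct.tmul_smul, TensorProduct.smul_tmul', Algebra.smul_def, mul_one]
    | add a b ha hb =>
      obtain ⟨x, rfl⟩ := ha; obtain ⟨y, rfl⟩ := hb; exact ⟨x + y, map_add _ _ _⟩
  haveI hB : Module.Flat (K ⊗[R] S₀) ((K ⊗[R] S₀) ⊗[S₀] M) := by
    refine Groth.L02.EssFP.flat_tensor_of_flat_quotient hsurj (m.map (algebraMap R S)) ?_ ?_ hfib
    · rw [IsScalarTower.algebraMap_eq R S₀ S, ← Ideal.map_map]
      refine Ideal.map_mono (Ideal.map_le_iff_le_comap.mpr fun r hr => ?_)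
      rw [Ideal.mem_comap, RingHom.mem_ker, ← IsScalarTower.algebraMap_apply,
        IsScalarTower.algebraMap_apply R K (K ⊗[R] S₀), Ideal.algebraMap_residueField_eq_zero.mpr hr,
        map_zero]
    · intro x hx
      let I := m.map (algebraMap R S)
      let g₁ : K →ₐ[R] S ⧸ I := AlgHom.liftOfSurjective (Algebra.ofId R K) hK (Algebra.ofId R (S ⧸ I))
        (fun r hr => by
          rw [RingHom.mem_ker] at hr ⊢
          show algebraMap R (S ⧸ I) r = 0
          rw [IsScalarTower.algebraMap_apply R S (S ⧸ I), Ideal.Quotient.algebraMap_eq,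
            Ideal.Quotient.eq_zero_iff_mem]
          exact Ideal.mem_map_of_mem _ (Ideal.algebraMap_residueField_eq_zero.mp hr))
      let g : K ⊗[R] S₀ →ₐ[R] S ⧸ I := Algebra.TensorProduct.lift g₁
        ((Ideal.Quotient.mkₐ R I).comp (IsScalarTower.toAlgHom R S₀ S)) fun _ _ => Commute.all _ _
      have h1 : g ((1 : K) ⊗ₜ[R] x) = 0 := by
        rw [show ((1 : K) ⊗ₜ[R] x) = algebraMap S₀ (K ⊗[R] S₀) x from rfl, hx, map_zero]
      rw [Algebra.TensorProduct.lift_tmul, map_one, one_mul] at h1
      exact Ideal.Quotient.eq_zero_iff_mem.mp h1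
  have hfl : Module.Flat (K ⊗[R] S₀) (Localization.AtPrime (RingHom.ker ψ.toRingHom) ⊗[U] M₀) := by
    let P := Localization.AtPrime (RingHom.ker ψ.toRingHom)
    have hunit : ∀ t : q.primeCompl, IsUnit (algebraMap U P t) := by
      intro t
      rw [IsScalarTower.algebraMap_apply U (K ⊗[R] U) P]
      refine IsLocalization.map_units (M := (RingHom.ker ψ.toRingHom).primeCompl) P
        ⟨algebraMap U (K ⊗[R] U) t, fun ht => t.2 ?_⟩
      exact (SetLike.ext_iff.mp hq' _).mp (Ideal.mem_comap.mpr ht)
    haveI := Groth.L20.FibreCrit.flat_fibre_module (S := S₀) (B := K ⊗[R] S₀) (U := U) (C := K ⊗[R] U)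
      (M := M) (RingHom.ker ψ.toRingHom)
    exact Module.Flat.of_linearEquiv ((LinearEquiv.ofBijective _
      (Groth.L02.EssFP.lTensor_bijective q.primeCompl ℓ P hunit)).restrictScalars (K ⊗[R] S₀))
  haveI h1 : Module.Flat S₀ (LocalizedModule q.primeCompl M₀) :=
    Groth.L20.FibreCrit.flat_of_fibre (K := K) (B := K ⊗[R] S₀) (C := K ⊗[R] U) q
      (by rw [Ideal.ker_algebraMap_residueField, hp]) (RingHom.ker ψ.toRingHom) hq' hfl
  haveI : Module.Flat S₀ M := Module.Flat.of_linearEquiv (e.restrictScalars S₀).symm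
  haveI hSM : Module.Flat S M := (Module.flat_iff_of_isLocalization S MS M).mpr inferInstance
  refine ⟨?_, hSM⟩
  haveI : Module.FaithfullyFlat S M := by
    refine ⟨fun P hP h => ?_⟩
    rw [IsLocalRing.eq_maximalIdeal hP] at h
    have h2 : IsLocalRing.maximalIdeal S' • (⊤ : Submodule S' M) = ⊤ := by
      rw [eq_top_iff]
      intro x _
      have hx : x ∈ IsLocalRing.maximalIdeal S • (⊤ : Submodule S M) := by rw [h]; exact Submodule.mem_top
      refine Submodule.smul_induction_on hx (fun s hs y _ => ?_) fun a b ha hb => add_mem ha hb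
      rw [← algebraMap_smul S' s y]
      exact Submodule.smul_mem_smul (map_nonunit (algebraMap S S') s hs) Submodule.mem_top
    exact (Submodule.top_ne_ideal_smul_of_le_jacobson_annihilator
      (IsLocalRing.maximalIdeal_le_jacobson (Module.annihilator S' M))) h2.symm
  rw [Module.Flat.iff_lTensor_injective']
  intro J
  have hMJ : Function.Injective (LinearMap.lTensor M J.subtype) :=
    Module.Flat.lTensor_preserves_injective_linearMap _ J.injective_subtype
  let g : S ⊗[R] J →ₗ[S] S ⊗[R] R := TensorProduct.AlgebraTensorModule.lTensor S S J.subtype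
  refine (Module.FaithfullyFlat.lTensor_injective_iff_injective S M g).mp ?_
  let e₁ := TensorProduct.AlgebraTensorModule.cancelBaseChange R S S M J
  let e₂ := TensorProduct.AlgebraTensorModule.cancelBaseChange R S S M R
  have hcomm : ∀ z, e₂ (g.lTensor M z) = LinearMap.lTensor M J.subtype (e₁ z) := by
    intro z
    induction z using TensorProduct.induction_on with
    | zero => simp
    | add a b ha hb => simp only [map_add, ha, hb]
    | tmul x y =>
      induction y using TensorProduct.induction_on with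
      | zero => simp
      | add a b ha hb => simp only [TensorProduct.tmul_add, map_add, ha, hb]
      | tmul s j => simp [g, e₁, e₂]
  intro a b hab
  exact e₁.injective (hMJ (by rw [← hcomm, ← hcomm, hab]))

end Groth.Agent.S2106
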