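import Groth.Statements.S2113
import Mathlib.RingTheory.Jacobson.Ring
import Mathlib.RingTheory.Ideal.KrullsHeightTheorem
import Mathlib.RingTheory.Spectrum.Prime.RingHom
import Mathlib.RingTheory.Ideal.MinimalPrime.Noetherian

set_option autoImplicit false
universe u
open CAlg

namespace Groth.Agent.S2113

section

/-- A Noetherian domain with a nonzero element in all nonzero primes has finitely many primes. -/
theorem finite_primes_of_mem {D : Type u} [CommRing D] [IsDomain D] [IsNoetherianRing D] (f : D) (hf : f ≠ 0)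
    (h : ∀ q : Ideal D, q.IsPrime → q ≠ ⊥ → f ∈ q) : {q : PrimeSpectrum D | True}.Finite := by
  classical
  have hfin : (Ideal.span {f}).minimalPrimes.Finite := Ideal.finite_minimalPrimes_of_isNoetherianRing D _
  have key : ∀ q : Ideal D, q.IsPrime → q ≠ ⊥ → q ∈ (Ideal.span {f}).minimalPrimes := by
    intro q hq hq0
    have hsub : (q : Set D) ⊆ ⋃ p ∈ (hfin.toFinset : Set (Ideal D)), (p : Set D) := by
      intro x hx
      rcases eq_or_ne x 0 with rfl | hx0
      · obtain ⟨p, hp, -⟩ := Ideal.exists_minimalPrimes_le ((Ideal.span_singleton_le_iff_mem q).mpr (h q hq hq0))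
        simp only [Set.mem_iUnion]
        exact ⟨p, by simpa using hp, p.zero_mem⟩
      · obtain ⟨p', hp', hp'q⟩ := Ideal.exists_minimalPrimes_le ((Ideal.span_singleton_le_iff_mem q).mpr hx)
        haveI := hp'.1.1
        have hxp : x ∈ p' := hp'.1.2 (Ideal.mem_span_singleton_self x)
        have hp'0 : p' ≠ ⊥ := fun h0 => hx0 (by rw [h0] at hxp; simpa using hxp)
        obtain ⟨m', hm', hm'p⟩ := Ideal.exists_minimalPrimes_le ((Ideal.span_singleton_le_iff_mem p').mpr (h p' inferInstance hp'0))
        haveI := hm'.1.1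
        have hm'0 : m' ≠ ⊥ := fun h0 => hf (by have := hm'.1.2 (Ideal.mem_span_singleton_self f); rw [h0] at this; simpa using this)
        have heq : m' = p' := by
          by_contra hne
          have h1 := Ideal.height_le_one_of_isPrincipal_of_mem_minimalPrimes (Ideal.span {x}) p' hp'
          haveI : p'.FiniteHeight := ⟨Or.inr (ne_top_of_le_ne_top (by simp) h1)⟩
          haveI : m'.FiniteHeight := ⟨Or.inr (ne_top_of_le_ne_top (by simp) ((Ideal.height_mono hm'p).trans h1))⟩
          have h2 := Ideal.height_strict_mono_of_isPrime (lt_of_le_of_ne hm'p hne)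
          have h3 : m'.height = 0 := ENat.lt_one_iff_eq_zero.mp (lt_of_lt_of_le h2 h1)
          rw [Ideal.height_eq_zero_iff_eq_bot] at h3
          exact hm'0 h3
        simp only [Set.mem_iUnion]
        exact ⟨p', by simpa using heq ▸ hm', hxp⟩
    obtain ⟨m, hm, hqm⟩ := (Ideal.subset_union_prime (R := D) (f := id) ⊥ ⊥ fun p hp _ _ =>
      (hfin.mem_toFinset.mp hp).1.1).mp hsub
    have hm' := hfin.mem_toFinset.mp hm
    obtain ⟨m₂, hm₂, hm₂q⟩ := Ideal.exists_minimalPrimes_le ((Ideal.span_singleton_le_iff_mem q).mpr (h q hq hq0))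
    have : q = m := le_antisymm hqm (hm'.2 ⟨hq, (Ideal.span_singleton_le_iff_mem q).mpr (h q hq hq0)⟩ hqm)
    exact this ▸ hm'
  refine Set.Finite.subset (((hfin.insert ⊥)).preimage (f := PrimeSpectrum.asIdeal) (fun a _ b _ h => PrimeSpectrum.ext h)) ?_
  intro q _
  by_cases hq0 : q.asIdeal = ⊥
  · exact Or.inl hq0
  · exact Or.inr (key _ q.2 hq0)

end


/-- A Noetherian ring in which each prime is maximal or else lies below infinitely many primes is a
Jacobson ring. -/
theorem result {R : Type u} [CommRing R] [IsNoetherianRing R]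
    (h : ∀ (p : Ideal R) [p.IsPrime], p.IsMaximal ∨ {q : PrimeSpectrum R | p ≤ q.asIdeal}.Infinite) :
    IsJacobsonRing R := by
  rw [isJacobsonRing_iff_prime_eq]
  intro P hP
  induction P using IsNoetherian.induction with
  | hgt P ih =>
    refine le_antisymm (fun f hf => ?_) Ideal.le_jacobson
    by_contra hfP
    rcases h P with hmax | hinf
    · exact hfP (Ideal.jacobson_eq_self_of_isMaximal (H := hmax) ▸ hf)
    · let D := R ⧸ P
      have hkey : ∀ q : Ideal D, q.IsPrime → q ≠ ⊥ → Ideal.Quotient.mk P f ∈ q := by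
        intro q hq hq0
        let Q := q.comap (Ideal.Quotient.mk P)
        have hPQ : P < Q := by
          refine lt_of_le_of_ne (fun x hx => by
            show Ideal.Quotient.mk P x ∈ q
            rw [Ideal.Quotient.eq_zero_iff_mem.mpr hx]; exact q.zero_mem) fun h => hq0 ?_
          rw [← Ideal.map_comap_of_surjective (Ideal.Quotient.mk P) Ideal.Quotient.mk_surjective q,
            show q.comap (Ideal.Quotient.mk P) = P from h.symm, Ideal.map_quotient_self]
        have : f ∈ Q.jacobson := Ideal.jacobson_mono hPQ.le hf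
        rwa [ih Q hPQ (Ideal.comap_isPrime _ _)] at this
      have hfin := finite_primes_of_mem (Ideal.Quotient.mk P f) (fun h => hfP (Ideal.Quotient.eq_zero_iff_mem.mp h)) hkey
      refine hinf ((hfin.image (PrimeSpectrum.comap (Ideal.Quotient.mk P))).subset fun q hq => ?_)
      exact ⟨⟨q.asIdeal.map (Ideal.Quotient.mk P), Ideal.map_isPrime_of_surjective Ideal.Quotient.mk_surjective
          (by rw [Ideal.mk_ker]; exact hq)⟩, trivial,
        PrimeSpectrum.ext (by
          show (q.asIdeal.map (Ideal.Quotient.mk P)).comap (Ideal.Quotient.mk P) = q.asIdeal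
          rw [Ideal.comap_map_of_surjective' _ Ideal.Quotient.mk_surjective, Ideal.mk_ker, sup_eq_left]; exact hq)⟩

end Groth.Agent.S2113
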