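import Groth.Statements.S2114
import Groth.Agent.L01.N2Basic
import Groth.Agent.L03.Japanese
import Mathlib.RingTheory.ZariskisMainTheorem

set_option autoImplicit false
universe u
open CAlg

namespace Groth.Agent.S2114

/-- Let `R ⊆ S` be an extension of domains which is of finite type and quasi-finite, with `R` Noetherian
and N-2 (integral closures in finite extensions of the fraction field are finite). Then `S` is N-2. -/
theorem result {R S : Type u} [CommRing R] [IsDomain R] [IsNoetherianRing R] [CommRing S]
    [IsDomain S] [Algebra R S] (hinj : Function.Injective (algebraMap R S)) [Algebra.FiniteType R S]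
    [Algebra.QuasiFinite R S] (hR : CAlg.IsN2 R) : CAlg.IsN2 S := by
  classical
  have h : ∀ p : PrimeSpectrum S, ∃ r : S, r ∉ p.asIdeal ∧
      ∀ [IsDomain (Localization.Away r)], CAlg.IsN2 (Localization.Away r) := by
    intro p
    obtain ⟨S', hS', r, hrp, hbij⟩ :=
      Algebra.QuasiFiniteAt.exists_fg_and_exists_notMem_and_awayMap_bijective (R := R) p.asIdeal
    haveI : Module.Finite R S' := ⟨(Submodule.fg_top _).mpr hS'⟩
    have hr0 : r ≠ 0 := fun h => hrp (by rw [h]; exact zero_mem _)
    haveI : IsDomain (Localization.Away r) :=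
      IsLocalization.isDomain_localization (powers_le_nonZeroDivisors_of_noZeroDivisors hr0)
    have hS'2 : CAlg.IsN2 S' := Groth.L01.N2.isN2_of_finite
      (fun a b hab => hinj (congrArg Subtype.val hab)) hR
    have hr2 : CAlg.IsN2 (Localization.Away r) :=
      Groth.L03.Japanese.isN2_localization (Submonoid.powers r) _ hS'2
    refine ⟨r.1, hrp, fun {_} => ?_⟩
    letI : Algebra (Localization.Away r) (Localization.Away r.1) :=
      (Localization.awayMap S'.val.toRingHom r).toAlgebra
    exact Groth.L03.Japanese.isN2_of_bijective hbij hr2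
  choose r hr hN using h
  have htop : Ideal.span (Set.range r) = ⊤ := by
    by_contra hne
    obtain ⟨m, hm, hle⟩ := Ideal.exists_le_maximal _ hne
    exact hr ⟨m, hm.isPrime⟩ (hle (Ideal.subset_span ⟨_, rfl⟩))
  obtain ⟨t, ht, ht'⟩ := Submodule.mem_span_finite_of_mem_span ((Ideal.eq_top_iff_one _).mp htop)
  let g : {x : S // x ∈ t ∧ x ≠ 0} → S := fun x => x.1
  have hg : Ideal.span (Set.range g) = ⊤ := by
    rw [Ideal.eq_top_iff_one]
    refine (Ideal.span_le.mpr ?_ : Ideal.span (t : Set S) ≤ Ideal.span (Set.range g)) ht'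
    intro x hx
    by_cases h0 : x = 0
    · rw [h0]; exact zero_mem _
    · exact Ideal.subset_span ⟨⟨x, hx, h0⟩, rfl⟩
  haveI : Finite {x : S // x ∈ t ∧ x ≠ 0} :=
    Finite.of_injective (fun x => (⟨x.1, x.2.1⟩ : t)) fun a b h => Subtype.ext (congrArg Subtype.val h :)
  haveI : ∀ x, IsDomain (Localization.Away (g x)) := fun x =>
    IsLocalization.isDomain_localization (powers_le_nonZeroDivisors_of_noZeroDivisors x.2.2)
  refine Groth.L03.Japanese.isN2_of_cover g hg (fun x => Localization.Away (g x)) ?_
  rintro ⟨x, hx, hx0⟩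
  obtain ⟨p, rfl⟩ := ht hx
  haveI : IsDomain (Localization.Away (r p)) :=
    IsLocalization.isDomain_localization (powers_le_nonZeroDivisors_of_noZeroDivisors hx0)
  exact hN p

end Groth.Agent.S2114
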