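import Mathlib.RingTheory.Kaehler.Basic
import Mathlib.RingTheory.Nilpotent.GeometricallyReduced
import Mathlib.Algebra.CharP.Defs
import Groth.Agent.L06.FormSmoothGeom
import Groth.Agent.L06.FormSmoothField2
import Groth.Agent.L01.NagataCriteria

set_option autoImplicit false
namespace CAlg
end CAlg
universe u
open CAlg

open TensorProduct
set_option linter.style.haveILetI false
namespace Groth.Agent.S2117

/-- Let k be a field of characteristic p > 0 and K a field extension of k. Then K is geometrically
reduced over k (equivalently, K/k is separable: every finitely generated subextension is separably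
generated) if and only if the natural base-change map K ⊗_k Ω_{k/ℤ} → Ω_{K/ℤ} on absolute Kähler
differentials is injective. -/
theorem result {k K : Type u} [Field k] [Field K] [Algebra k K] (p : ℕ)
    [Fact p.Prime] [CharP k p] :
    Algebra.IsGeometricallyReduced k K ↔ Function.Injective (KaehlerDifferential.mapBaseChange ℤ k K) := by
  let Res := IsLocalRing.ResidueField K
  haveI : IsNoetherianRing K := inferInstance
  have hres : Function.Bijective (Algebra.linearMap K Res) :=
    ⟨(IsLocalRing.residue K).injective, IsLocalRing.residue_surjective⟩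
  let e : K ≃ₗ[K] Res := LinearEquiv.ofBijective _ hres
  let ι : Ω[K⁄ℤ] →ₗ[K] Res ⊗[K] Ω[K⁄ℤ] := TensorProduct.mk K Res Ω[K⁄ℤ] 1
  have hι : Function.Injective ι := by
    have : ι = (e.rTensor Ω[K⁄ℤ]).toLinearMap ∘ₗ (TensorProduct.lid K Ω[K⁄ℤ]).symm.toLinearMap := by
      refine LinearMap.ext fun w => ?_
      simp only [ι, e, LinearMap.comp_apply, LinearEquiv.coe_coe, TensorProduct.lid_symm_apply,
        LinearEquiv.rTensor_tmul, TensorProduct.mk_apply, LinearEquiv.ofBijective_apply,
        Algebra.linearMap_apply, map_one]
    rw [this]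
    exact (e.rTensor Ω[K⁄ℤ]).injective.comp (TensorProduct.lid K Ω[K⁄ℤ]).symm.injective
  let r : K ⊗[k] Ω[k⁄ℤ] →ₗ[K] Res ⊗[k] Ω[k⁄ℤ] :=
    TensorProduct.AlgebraTensorModule.rTensor k _ e.toLinearMap
  have hr : Function.Bijective r := (TensorProduct.AlgebraTensorModule.congr e (LinearEquiv.refl k Ω[k⁄ℤ])).bijective
  have key : ∀ z, Groth.L06.FormSmooth.diffMap k K (r z) = ι (KaehlerDifferential.mapBaseChange ℤ k K z) := by
    intro z
    induction z using TensorProduct.induction_on with
    | zero => simp
    | add a b ha hb => simp only [map_add, ha, hb]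
    | tmul c w =>
      rw [KaehlerDifferential.mapBaseChange_tmul]
      simp only [r, e, ι, Groth.L06.FormSmooth.diffMap, TensorProduct.AlgebraTensorModule.rTensor_tmul,
        LinearMap.liftBaseChange_tmul, LinearMap.comp_apply, LinearMap.restrictScalars_apply,
        TensorProduct.mk_apply, LinearEquiv.coe_coe, LinearEquiv.ofBijective_apply,
        Algebra.linearMap_apply, TensorProduct.smul_tmul', smul_eq_mul, mul_one, TensorProduct.tmul_smul]
      rw [Algebra.smul_def, mul_one]
  have hiff : Function.Injective (Groth.L06.FormSmooth.diffMap k K) ↔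
      Function.Injective (KaehlerDifferential.mapBaseChange ℤ k K) := by
    constructor
    · intro h a b hab
      exact hr.1 (h (by rw [key, key, hab]))
    · intro h a b hab
      obtain ⟨a, rfl⟩ := hr.2 a
      obtain ⟨b, rfl⟩ := hr.2 b
      rw [key, key] at hab
      rw [h (hι hab)]
  rw [← hiff]
  constructor
  · intro h
    haveI : Algebra.FormallySmooth k K := Groth.L06.FormSmooth.formallySmooth_of_geometricallyReduced k K
    exact ((Groth.L06.FormSmooth.adicSmooth_iff_regular_injective k K).mp
      fun T _ _ J hJ ψ _ => Algebra.FormallySmooth.exists_lift J ⟨2, hJ⟩ ψ).2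
  · intro h
    exact Groth.L01.NagataCriteria.isGeometricallyReduced_of_isGeometricallyRegular
      ((Groth.L06.FormSmooth.adicSmooth_iff_geometricallyRegular k K).mp
        ((Groth.L06.FormSmooth.adicSmooth_iff_regular_injective k K).mpr ⟨inferInstance, h⟩))

end Groth.Agent.S2117
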