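import Groth.Statements.S2118
import Mathlib.RingTheory.Flat.EquationalCriterion
import Mathlib.Algebra.Colimit.Module
import Mathlib.Algebra.Category.ModuleCat.Limits
import Mathlib.Algebra.Category.ModuleCat.FilteredColimits
import Mathlib.Algebra.Category.ModuleCat.Colimits
import Mathlib.CategoryTheory.Limits.ConcreteCategory.Basic
import Mathlib.Algebra.Module.FinitePresentation
import Mathlib.LinearAlgebra.Isomorphisms
import Mathlib.RingTheory.Finiteness.Finsupp

set_option autoImplicit false
universe u
open CategoryTheory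
open CAlg

namespace Groth.Agent.S2118

section

variable (R : Type u) [CommRing R] (M : Type u) [AddCommGroup M] [Module R M]

/-- generators and relations -/
structure Stage where
  /-- generators -/
  s : Finset (M × ℕ)
  /-- relations -/
  W : Submodule R ((M × ℕ) →₀ R)
  fg : W.FG
  le_ker : W ≤ LinearMap.ker (Finsupp.linearCombination R (Prod.fst : M × ℕ → M))
  le_supp : W ≤ LinearMap.range (Finsupp.lmapDomain R R (Subtype.val : ↥(s : Set (M × ℕ)) → M × ℕ))

instance : Preorder (Stage R M) where
  le a b := a.s ⊆ b.s ∧ a.W ≤ b.W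
  le_refl a := ⟨Finset.Subset.refl _, le_rfl⟩
  le_trans a b c h h' := ⟨h.1.trans h'.1, h.2.trans h'.2⟩

/-- the free module -/
abbrev F (i : Stage R M) : Type u := ↥(i.s : Set (M × ℕ)) →₀ R

/-- inclusion -/
noncomputable abbrev inc (i : Stage R M) : F R M i →ₗ[R] ((M × ℕ) →₀ R) := Finsupp.lmapDomain R R Subtype.val

/-- inclusion between stages -/
noncomputable abbrev incF (i j : Stage R M) (h : i ≤ j) : F R M i →ₗ[R] F R M j :=
  Finsupp.lmapDomain R R (Set.inclusion (Finset.coe_subset.mpr h.1))

theorem inc_incF (i j : Stage R M) (h : i ≤ j) (x : F R M i) : inc R M j (incF R M i j h x) = inc R M i x := by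
  show Finsupp.mapDomain Subtype.val (Finsupp.mapDomain _ x) = Finsupp.mapDomain Subtype.val x
  rw [← Finsupp.mapDomain_comp]
  rfl

open Classical in
theorem stage_directed : IsDirected (Stage R M) (· ≤ ·) := by
  refine ⟨fun a b => ?_⟩
  have hsub : ∀ (s t : Finset (M × ℕ)), s ⊆ t → LinearMap.range (Finsupp.lmapDomain R R (Subtype.val : ↥(s : Set (M × ℕ)) → M × ℕ)) ≤
      LinearMap.range (Finsupp.lmapDomain R R (Subtype.val : ↥(t : Set (M × ℕ)) → M × ℕ)) := by
    rintro s t h _ ⟨x, rfl⟩
    refine ⟨Finsupp.mapDomain (Set.inclusion (Finset.coe_subset.mpr h)) x, ?_⟩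
    show Finsupp.mapDomain Subtype.val (Finsupp.mapDomain _ x) = Finsupp.mapDomain Subtype.val x
    rw [← Finsupp.mapDomain_comp]
    rfl
  exact ⟨⟨a.s ∪ b.s, a.W ⊔ b.W, a.fg.sup b.fg, sup_le a.le_ker b.le_ker,
    sup_le (a.le_supp.trans (hsub _ _ Finset.subset_union_left)) (b.le_supp.trans (hsub _ _ Finset.subset_union_right))⟩,
    ⟨Finset.subset_union_left, le_sup_left⟩, ⟨Finset.subset_union_right, le_sup_right⟩⟩

/-- the module of a stage -/
abbrev Mod (i : Stage R M) : Type u := F R M i ⧸ i.W.comap (inc R M i)

/-- transition -/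
noncomputable def trans (i j : Stage R M) (h : i ≤ j) : Mod R M i →ₗ[R] Mod R M j :=
  Submodule.mapQ _ _ (incF R M i j h) fun x hx => by
    show inc R M j (incF R M i j h x) ∈ j.W
    rw [inc_incF]
    exact h.2 hx

theorem trans_system : DirectedSystem (Mod R M) fun i j h => trans R M i j h where
  map_self i x := by
    obtain ⟨x, rfl⟩ := Submodule.Quotient.mk_surjective _ x
    show Submodule.Quotient.mk (Finsupp.mapDomain id x) = Submodule.Quotient.mk x
    rw [Finsupp.mapDomain_id]
  map_map i j k hij hjk x := by
    obtain ⟨x, rfl⟩ := Submodule.Quotient.mk_surjective _ x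
    show Submodule.Quotient.mk (Finsupp.mapDomain _ (Finsupp.mapDomain _ x)) = Submodule.Quotient.mk (Finsupp.mapDomain _ x)
    rw [← Finsupp.mapDomain_comp]
    rfl

/-- to `M` -/
noncomputable def toM (i : Stage R M) : Mod R M i →ₗ[R] M :=
  Submodule.liftQ _ (Finsupp.linearCombination R (Prod.fst : M × ℕ → M) ∘ₗ inc R M i) fun _ hx => i.le_ker hx

theorem stage_fp (i : Stage R M) : Module.FinitePresentation R (Mod R M i) := by
  haveI : Finite ↥(i.s : Set (M × ℕ)) := i.s.finite_toSet.to_subtype
  refine Module.finitePresentation_of_surjective (Submodule.mkQ _) (Submodule.mkQ_surjective _) ?_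
  rw [Submodule.ker_mkQ]
  refine Submodule.fg_of_fg_map_injective (inc R M i) (Finsupp.mapDomain_injective Subtype.val_injective) ?_
  rw [Submodule.map_comap_eq, inf_eq_right.mpr i.le_supp]
  exact i.fg

open Classical in
/-- every stage is dominated by a free one -/
theorem exists_free_stage [Module.Flat R M] (i : Stage R M) : ∃ j : Stage R M, i ≤ j ∧ Module.Free R (Mod R M j) := by
  haveI := stage_fp R M i
  obtain ⟨k, u, v, huv⟩ := Module.Flat.exists_factorization_of_finitePresentation (toM R M i)
  let N := i.s.sup Prod.snd + 1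
  let e' : Fin k → M × ℕ := fun t => (v (Finsupp.single t 1), N + t)
  have he' : Function.Injective e' := fun a b h => Fin.ext (by simpa [e'] using congrArg Prod.snd h)
  have hnew : ∀ t, e' t ∉ i.s := fun t h => by
    have := Finset.le_sup (f := Prod.snd) h
    simp only [e', N] at this
    omega
  let g : M × ℕ → (Fin k →₀ R) := fun z => if h : z ∈ i.s then u (Submodule.Quotient.mk (Finsupp.single ⟨z, h⟩ 1))
    else Function.extend e' (fun t => Finsupp.single t 1) 0 z
  let s' : Finset (M × ℕ) := i.s ∪ Finset.univ.image e'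
  haveI : Finite ↥(s' : Set (M × ℕ)) := s'.finite_toSet.to_subtype
  let inc' : (↥(s' : Set (M × ℕ)) →₀ R) →ₗ[R] ((M × ℕ) →₀ R) := Finsupp.lmapDomain R R Subtype.val
  let π' : ((M × ℕ) →₀ R) →ₗ[R] (Fin k →₀ R) := Finsupp.linearCombination R g
  let π : (↥(s' : Set (M × ℕ)) →₀ R) →ₗ[R] (Fin k →₀ R) := π' ∘ₗ inc'
  have hge : ∀ t, g (e' t) = Finsupp.single t 1 := fun t => by
    simp only [g, dif_neg (hnew t), he'.extend_apply]
  have hπs : Function.Surjective π := by
    intro y
    induction y using Finsupp.induction_linear with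
    | zero => exact ⟨0, map_zero _⟩
    | add a b ha hb =>
      obtain ⟨x, rfl⟩ := ha
      obtain ⟨y, rfl⟩ := hb
      exact ⟨x + y, map_add _ _ _⟩
    | single t r =>
      refine ⟨Finsupp.single ⟨e' t, by simp [s']⟩ r, ?_⟩
      simp [π, π', inc', hge]
  have hv : ∀ x, Finsupp.linearCombination R (Prod.fst : M × ℕ → M) (inc' x) = v (π x) := by
    intro x
    induction x using Finsupp.induction_linear with
    | zero => simp
    | add a b ha hb => simp only [map_add, ha, hb]
    | single z r =>
      obtain ⟨z, hz⟩ := z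
      simp only [π, π', inc', LinearMap.comp_apply, Finsupp.lmapDomain_apply, Finsupp.mapDomain_single,
        Finsupp.linearCombination_single, map_smul]
      congr 1
      by_cases h : z ∈ i.s
      · simp only [g, dif_pos h]
        rw [← LinearMap.comp_apply, ← huv]
        show z.1 = Finsupp.linearCombination R (Prod.fst : M × ℕ → M) (Finsupp.mapDomain Subtype.val (Finsupp.single _ 1))
        simp
      · obtain ⟨t, rfl⟩ : ∃ t, e' t = z := by simpa [s', h] using hz
        rw [hge]
  have hW : ∀ x : F R M i, π' (inc R M i x) = u (Submodule.Quotient.mk x) := by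
    intro x
    induction x using Finsupp.induction_linear with
    | zero => simp
    | add a b ha hb => simp only [map_add, Submodule.Quotient.mk_add, ha, hb]
    | single z r =>
      rw [← Finsupp.smul_single_one, Submodule.Quotient.mk_smul, map_smul, map_smul, map_smul]
      congr 1
      simp [π', g, show (z : M × ℕ) ∈ i.s from z.2]
  have hle : i.W ≤ (LinearMap.ker π).map inc' := by
    intro w hw
    obtain ⟨x, hx⟩ := i.le_supp hw
    have hsub : (i.s : Set (M × ℕ)) ⊆ (s' : Set (M × ℕ)) := by simp [s']
    have he : inc' (Finsupp.mapDomain (Set.inclusion hsub) x) = w := by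
      rw [← hx]
      show Finsupp.mapDomain Subtype.val (Finsupp.mapDomain _ x) = Finsupp.mapDomain Subtype.val x
      rw [← Finsupp.mapDomain_comp]
      rfl
    refine ⟨_, ?_, he⟩
    show π' (inc' _) = 0
    rw [he, ← hx]
    show π' (inc R M i x) = 0
    rw [hW]
    have h1 : (Submodule.Quotient.mk x : Mod R M i) = 0 := (Submodule.Quotient.mk_eq_zero _).mpr (show inc R M i x ∈ i.W from hx ▸ hw)
    rw [h1, map_zero]
  let j : Stage R M :=
    { s := s'
      W := (LinearMap.ker π).map inc'
      fg := (Module.FinitePresentation.fg_ker π hπs).map _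
      le_ker := by
        rintro _ ⟨x, hx, rfl⟩
        show Finsupp.linearCombination R (Prod.fst : M × ℕ → M) (inc' x) = 0
        rw [hv, show π x = 0 from hx, map_zero]
      le_supp := by
        rintro _ ⟨x, -, rfl⟩
        exact ⟨x, rfl⟩ }
  refine ⟨j, ⟨Finset.subset_union_left, hle⟩, ?_⟩
  have hker : j.W.comap (inc R M j) = LinearMap.ker π :=
    Submodule.comap_map_eq_of_injective (Finsupp.mapDomain_injective Subtype.val_injective) _
  exact Module.Free.of_equiv ((Submodule.quotEquivOfEq _ _ hker).trans (π.quotKerEquivOfSurjective hπs)).symm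

end


/-- An `R`-module `M` is flat if and only if it is isomorphic to the colimit of a diagram of finite free
`R`-modules indexed by a nonempty directed preorder (in the same universe). -/
theorem result {R : Type u} [CommRing R] (M : Type u) [AddCommGroup M] [Module R M] :
    Module.Flat R M ↔
      ∃ (J : Type u) (_ : Preorder J) (_ : IsDirected J (fun a b => a ≤ b)) (_ : Nonempty J)
        (F : J ⥤ ModuleCat.{u} R), (∀ j, Module.Finite R (F.obj j) ∧ Module.Free R (F.obj j)) ∧
        Nonempty (Limits.colimit F ≅ ModuleCat.of R M) := by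
  classical
  constructor
  · intro hflat
    let J := {i : Stage R M // Module.Free R (Mod R M i)}
    haveI : IsDirected J (fun a b => a ≤ b) := ⟨fun a b => by
      obtain ⟨c, hac, hbc⟩ := (stage_directed R M).directed a.1 b.1
      obtain ⟨j, hcj, hj⟩ := exists_free_stage R M c
      exact ⟨⟨j, hj⟩, hac.trans hcj, hbc.trans hcj⟩⟩
    haveI : Nonempty J := by
      obtain ⟨j, -, hj⟩ := exists_free_stage R M ⟨∅, ⊥, Submodule.fg_bot, bot_le, bot_le⟩
      exact ⟨⟨j, hj⟩⟩
    let G : J → Type u := fun i => Mod R M i.1
    let f : ∀ a b : J, a ≤ b → G a →ₗ[R] G b := fun a b h => trans R M a.1 b.1 h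
    haveI : DirectedSystem G fun a b h => f a b h :=
      ⟨fun i x => (trans_system R M).map_self x, fun k j i hij hjk x => (trans_system R M).map_map hij hjk x⟩
    let L : Module.DirectLimit G f →ₗ[R] M :=
      Module.DirectLimit.lift R J G f (fun i => toM R M i.1) fun i j hij x => by
        obtain ⟨x, rfl⟩ := Submodule.Quotient.mk_surjective _ x
        show Finsupp.linearCombination R (Prod.fst : M × ℕ → M) (inc R M j.1 (incF R M i.1 j.1 hij x)) = Finsupp.linearCombination R (Prod.fst : M × ℕ → M) (inc R M i.1 x)
        rw [inc_incF]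
    have hL : Function.Bijective L := by
      constructor
      · intro p q hpq
        obtain ⟨i, a, b, rfl, rfl⟩ := Module.DirectLimit.exists_of₂ p q
        obtain ⟨a, rfl⟩ := Submodule.Quotient.mk_surjective _ a
        obtain ⟨b, rfl⟩ := Submodule.Quotient.mk_surjective _ b
        rw [Module.DirectLimit.lift_of, Module.DirectLimit.lift_of] at hpq
        let x := a - b
        have hz : toM R M i.1 (Submodule.Quotient.mk x) = 0 := by
          rw [Submodule.Quotient.mk_sub, map_sub, hpq, sub_self]
        let j : Stage R M := ⟨i.1.s, i.1.W ⊔ Submodule.span R {inc R M i.1 x}, i.1.fg.sup (Submodule.fg_span_singleton _),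
          sup_le i.1.le_ker ((Submodule.span_singleton_le_iff_mem _ _).mpr hz),
          sup_le i.1.le_supp ((Submodule.span_singleton_le_iff_mem _ _).mpr ⟨x, rfl⟩)⟩
        have hij : i.1 ≤ j := ⟨Finset.Subset.refl _, le_sup_left⟩
        obtain ⟨j', hjj', hj'⟩ := exists_free_stage R M j
        have hij' : i ≤ (⟨j', hj'⟩ : J) := hij.trans hjj'
        have h0 : f i ⟨j', hj'⟩ hij' (Submodule.Quotient.mk x) = 0 := by
          refine (Submodule.Quotient.mk_eq_zero _).mpr ?_
          show inc R M j' (incF R M i.1 j' hij' x) ∈ j'.W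
          rw [inc_incF]
          exact hjj'.2 (Submodule.mem_sup_right (Submodule.mem_span_singleton_self _))
        rw [Submodule.Quotient.mk_sub, map_sub, sub_eq_zero] at h0
        exact (Module.DirectLimit.of_f (f := f) (hij := hij')).symm.trans ((congrArg _ h0).trans (Module.DirectLimit.of_f (f := f) (hij := hij')))
      · intro m
        let i : Stage R M := ⟨{(m, 0)}, ⊥, Submodule.fg_bot, bot_le, bot_le⟩
        obtain ⟨j, hij, hj⟩ := exists_free_stage R M i
        refine ⟨Module.DirectLimit.of R J G f ⟨j, hj⟩
          (trans R M i j hij (Submodule.Quotient.mk (Finsupp.single ⟨(m, 0), by simp [i]⟩ 1))), ?_⟩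
        rw [Module.DirectLimit.lift_of]
        show Finsupp.linearCombination R (Prod.fst : M × ℕ → M) (inc R M j (incF R M i j hij _)) = m
        rw [inc_incF]
        show Finsupp.linearCombination R (Prod.fst : M × ℕ → M) (Finsupp.mapDomain Subtype.val (Finsupp.single _ 1)) = m
        simp
    refine ⟨J, inferInstance, inferInstance, inferInstance, ModuleCat.directLimitDiagram G f, fun j => ⟨?_, ?_⟩, ⟨?_⟩⟩
    · haveI := stage_fp R M j.1
      exact inferInstanceAs (Module.Finite R (Mod R M j.1))
    · exact j.2
    · exact (Limits.colimit.isColimit _).coconePointUniqueUpToIso (ModuleCat.directLimitIsColimit G f) ≪≫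
        (LinearEquiv.ofBijective L hL).toModuleIso
  · rintro ⟨J, _, _, _, F, hF, ⟨e⟩⟩
    haveI : IsFiltered J := isFiltered_of_directed_le_nonempty J
    suffices Module.Flat R (Limits.colimit F : ModuleCat R) from Module.Flat.of_linearEquiv e.toLinearEquiv.symm
    refine Module.Flat.of_forall_exists_factorization fun {l f x} hx => ?_
    choose jj yy hy using fun t : Fin l => Limits.Concrete.colimit_exists_rep F (x (Finsupp.single t 1))
    obtain ⟨j, hj⟩ := Finite.exists_le jj
    let z : Fin l → F.obj j := fun t => (F.map (homOfLE (hj t))).hom (yy t)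
    let x' : (Fin l →₀ R) →ₗ[R] F.obj j := Finsupp.linearCombination R z
    have hx' : x = (Limits.colimit.ι F j).hom ∘ₗ x' := by
      refine Finsupp.lhom_ext fun t r => ?_
      rw [← Finsupp.smul_single_one, map_smul, map_smul]
      congr 1
      simp only [x', z, LinearMap.comp_apply, Finsupp.linearCombination_single, one_smul]
      rw [← hy t, ← LinearMap.comp_apply, ← ModuleCat.hom_comp, Limits.colimit.w]
    have h0 : Limits.colimit.ι F j (x' f) = Limits.colimit.ι F j 0 := by
      rw [map_zero]
      exact (show _ = x f by rw [hx']; rfl).trans hx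
    obtain ⟨j', g, g', hg⟩ := (Limits.Concrete.colimit_rep_eq_iff_exists F (x' f) 0).mp h0
    rw [map_zero] at hg
    haveI := (hF j').1
    haveI := (hF j').2
    let b := ((Module.Free.chooseBasis R (F.obj j')).reindex (Fintype.equivFin _)).repr
    refine ⟨_, b.toLinearMap ∘ₗ (F.map g).hom ∘ₗ x', (Limits.colimit.ι F j').hom ∘ₗ b.symm.toLinearMap, ?_, ?_⟩
    · rw [hx', ← Limits.colimit.w F g]
      ext t
      simp
    · show b ((F.map g).hom (x' f)) = 0
      rw [show (F.map g).hom (x' f) = 0 from hg, map_zero]

end Groth.Agent.S2118
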