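import Groth.Statements.S2119
import Mathlib.RingTheory.UniqueFactorizationDomain.Basic
import Mathlib.GroupTheory.MonoidLocalization.Basic
import Mathlib.RingTheory.Localization.Basic

set_option autoImplicit false
universe u
open CAlg

namespace Groth.Agent.S2119

/-- Nagata's criterion for factoriality, final assertion: let `A` be a domain in which every nonzero
nonunit factors into irreducibles, and `S` the multiplicative subset generated by a set of prime
elements. If the localization `S⁻¹A` is a unique factorization domain, then so is `A`. -/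
theorem result {A : Type u} [CommRing A] [IsDomain A]
    (hfac : ∀ a : A, a ≠ 0 → ¬ IsUnit a → ∃ f : Multiset A, (∀ b ∈ f, Irreducible b) ∧ Associated f.prod a) (P : Set A)
    (hP : ∀ p ∈ P, Prime p) [IsDomain (Localization (Submonoid.closure P))]
    (hS : UniqueFactorizationMonoid (Localization (Submonoid.closure P))) : UniqueFactorizationMonoid A := by
  set S := Submonoid.closure P with hSdef
  have hsplit : ∀ s ∈ S, ∀ x a b : A, x * s = a * b → ∃ a₁ b₁, ∃ u ∈ S, ∃ v ∈ S, x = a₁ * b₁ ∧ a = a₁ * u ∧ b = b₁ * v := by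
    intro s hs
    induction hs using Submonoid.closure_induction with
    | mem p hp =>
      intro x a b h
      rcases (hP p hp).dvd_or_dvd ⟨x, by rw [← h, mul_comm]⟩ with ⟨c, rfl⟩ | ⟨c, rfl⟩
      · exact ⟨c, b, p, Submonoid.subset_closure hp, 1, S.one_mem,
          mul_right_cancel₀ (hP p hp).ne_zero (by rw [h]; ring), mul_comm _ _, (mul_one b).symm⟩
      · exact ⟨a, c, 1, S.one_mem, p, Submonoid.subset_closure hp,
          mul_right_cancel₀ (hP p hp).ne_zero (by rw [h]; ring), (mul_one a).symm, mul_comm _ _⟩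
    | one => exact fun x a b h => ⟨a, b, 1, S.one_mem, 1, S.one_mem, by rwa [mul_one] at h, (mul_one a).symm, (mul_one b).symm⟩
    | mul s t _ _ ihs iht =>
      intro x a b h
      obtain ⟨a₁, b₁, u, hu, v, hv, hx, rfl, rfl⟩ := iht (x * s) a b (by rw [mul_assoc]; exact h)
      obtain ⟨a₂, b₂, u', hu', v', hv', hx', rfl, rfl⟩ := ihs x a₁ b₁ hx
      exact ⟨a₂, b₂, u' * u, S.mul_mem hu' hu, v' * v, S.mul_mem hv' hv, hx', mul_assoc _ _ _, mul_assoc _ _ _⟩
  have hSprime : ∀ s ∈ S, Irreducible s → Prime s := by
    intro s hs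
    induction hs using Submonoid.closure_induction with
    | mem p hp => exact fun _ => hP p hp
    | one => exact fun h => absurd isUnit_one h.not_isUnit
    | mul s t _ _ ihs iht =>
      intro h
      rcases h.isUnit_or_isUnit rfl with hu | hu
      · have ha : Associated t (s * t) := (associated_unit_mul_right t _ hu).symm.symm
        exact ha.prime (iht (ha.irreducible_iff.mpr h))
      · have ha : Associated s (s * t) := (associated_mul_unit_right s _ hu).symm.symm
        exact ha.prime (ihs (ha.irreducible_iff.mpr h))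
  have hS0 : S ≤ nonZeroDivisors A := Submonoid.closure_le.mpr fun p hp =>
    mem_nonZeroDivisors_of_ne_zero (hP p hp).ne_zero
  let L := Localization S
  let φ : A →+* L := algebraMap A L
  have hφinj : Function.Injective φ := IsLocalization.injective L hS0
  haveI := hS
  have hirr : ∀ x : A, Irreducible x → Prime x := by
    intro x hx
    by_cases hdiv : ∃ s ∈ S, x ∣ s
    · obtain ⟨s, hs, y, hy⟩ := hdiv
      obtain ⟨a₁, b₁, u, hu, v, -, h1, hxu, -⟩ := hsplit s hs 1 x y (by rw [one_mul]; exact hy)
      have ha : IsUnit a₁ := IsUnit.of_mul_eq_one b₁ h1.symm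
      have has : Associated u x := by rw [hxu]; exact (associated_unit_mul_right u _ ha).symm.symm
      exact has.prime (hSprime u hu (has.irreducible_iff.mpr hx))
    push Not at hdiv
    have hxne : φ x ≠ 0 := (map_ne_zero_iff φ hφinj).mpr hx.ne_zero
    have hxnu : ¬ IsUnit (φ x) := fun h => by
      obtain ⟨y, hy⟩ := h.exists_right_inv
      obtain ⟨⟨c, s⟩, hs⟩ := IsLocalization.surj S y
      exact hdiv s s.2 ⟨c, hφinj (by rw [map_mul, ← hs, ← mul_assoc, hy, one_mul])⟩
    obtain ⟨π, hπ, w, hw⟩ := WfDvdMonoid.exists_irreducible_factor hxnu hxne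
    have hπp : Prime π := UniqueFactorizationMonoid.irreducible_iff_prime.mp hπ
    obtain ⟨⟨a, s⟩, ha⟩ := IsLocalization.surj S π
    obtain ⟨⟨b, t⟩, hb⟩ := IsLocalization.surj S w
    have heq : x * ((s : A) * (t : A)) = a * b := hφinj (by
      simp only [map_mul]
      rw [← ha, ← hb, hw]
      ring)
    obtain ⟨a₁, b₁, u, hu, v, -, h1, hau, -⟩ := hsplit _ (S.mul_mem s.2 t.2) x a b heq
    have hπa : Associated π (φ a₁) := by
      have h2 : Associated π (φ a) := ha ▸ (associated_mul_unit_right π _ (IsLocalization.map_units L s))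
      rw [hau, map_mul] at h2
      exact h2.trans (associated_mul_unit_right _ _ (IsLocalization.map_units L ⟨u, hu⟩)).symm
    rcases hx.isUnit_or_isUnit h1 with hu1 | hu1
    · exact absurd (hπa.isUnit_iff.mpr (hu1.map φ)) hπ.not_isUnit
    have hφx : Prime (φ x) := by
      rw [h1, map_mul]
      exact (hπa.trans (associated_mul_unit_right _ _ (hu1.map φ))).prime hπp
    refine ⟨hx.ne_zero, hx.not_isUnit, fun c d hcd => ?_⟩
    have key : ∀ c : A, φ x ∣ φ c → x ∣ c := by
      rintro c ⟨y, hy⟩
      obtain ⟨⟨e, r⟩, hr⟩ := IsLocalization.surj S y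
      have h3 : c * (r : A) = x * e := hφinj (by simp only [map_mul]; rw [← hr, hy]; ring)
      obtain ⟨x₁, e₁, p, hp, q, -, hc, hxp, -⟩ := hsplit r r.2 c x e h3
      rcases hx.isUnit_or_isUnit hxp with h4 | h4
      · exact absurd (by rw [hxp]; exact (associated_unit_mul_right p _ h4).symm.dvd) (hdiv p hp)
      · rw [hc, hxp]
        exact Dvd.dvd.mul_right (associated_mul_unit_right x₁ _ h4).symm.dvd e₁
    rcases hφx.dvd_or_dvd (show φ x ∣ φ c * φ d from map_mul φ c d ▸ map_dvd φ hcd) with h5 | h5
    · exact Or.inl (key c h5)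
    · exact Or.inr (key d h5)
  refine UniqueFactorizationMonoid.of_exists_prime_factors fun a ha => ?_
  by_cases hu : IsUnit a
  · exact ⟨0, by simp, by rw [Multiset.prod_zero]; exact (associated_one_iff_isUnit.mpr hu).symm⟩
  obtain ⟨f, hf, hfa⟩ := hfac a ha hu
  exact ⟨f, fun b hb => hirr b (hf b hb), hfa⟩

end Groth.Agent.S2119
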