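import Groth.Statements.S2123
import Mathlib.AlgebraicGeometry.FunctionField
import Mathlib.AlgebraicGeometry.Stalk
import Mathlib.AlgebraicGeometry.Morphisms.Separated

set_option autoImplicit false
set_option backward.isDefEq.respectTransparency.types false
set_option backward.isDefEq.respectTransparency false
set_option linter.style.haveILetI false
universe u
open CategoryTheory AlgebraicGeometry
open Mor

namespace Groth.Agent.S2123

/-- Let `X` be an integral separated scheme and `x, y` points such that the closure of `x` is not
contained in the closure of `y`. Then, inside the function field of `X`, the local ring at `x` is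
not contained in the local ring at `y`. -/
theorem result (X : Scheme.{u}) [IsIntegral X] [X.IsSeparated] (x y : X)
    (h : ¬ closure ({x} : Set X) ⊆ closure {y}) :
    ¬ Set.range (X.presheaf.stalkSpecializes (genericPoint_specializes x)) ⊆
        Set.range (X.presheaf.stalkSpecializes (genericPoint_specializes y)) := by
  intro hsub
  let ρx := (X.presheaf.stalkSpecializes (genericPoint_specializes x)).hom
  let ρy := (X.presheaf.stalkSpecializes (genericPoint_specializes y)).hom
  have hy : Function.Injective ρy := IsFractionRing.injective (X.presheaf.stalk y) X.functionField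
  choose ψ hψ using fun a => hsub (Set.mem_range_self a)
  change ∀ a, ρy (ψ a) = ρx a at hψ
  let Ψ : X.presheaf.stalk x →+* X.presheaf.stalk y :=
    { toFun := ψ
      map_one' := hy (by simp [hψ])
      map_mul' := fun a c => hy (by simp [hψ])
      map_zero' := hy (by simp [hψ])
      map_add' := fun a c => hy (by simp [hψ]) }
  have hcomp : CommRingCat.ofHom Ψ ≫ X.presheaf.stalkSpecializes (genericPoint_specializes y) =
      X.presheaf.stalkSpecializes (genericPoint_specializes x) := by
    ext a
    exact hψ a
  haveI : IsDominant (Spec.map (X.presheaf.stalkSpecializes (genericPoint_specializes y))) := by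
    refine ⟨(PrimeSpectrum.denseRange_comap_iff_ker_le_nilRadical _).2 ?_⟩
    have h0 : RingHom.ker ρy = ⊥ := (RingHom.injective_iff_ker_eq_bot _).1 hy
    exact le_of_eq_of_le h0 bot_le
  have heq : Spec.map (CommRingCat.ofHom Ψ) ≫ X.fromSpecStalk x = X.fromSpecStalk y := by
    refine ext_of_isDominant (Spec.map (X.presheaf.stalkSpecializes (genericPoint_specializes y))) ?_
    rw [← Spec.map_comp_assoc, hcomp, Scheme.SpecMap_stalkSpecializes_fromSpecStalk,
      Scheme.SpecMap_stalkSpecializes_fromSpecStalk]
  have hmem : y ∈ Set.range (X.fromSpecStalk x) := by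
    refine ⟨Spec.map (CommRingCat.ofHom Ψ) (IsLocalRing.closedPoint _), ?_⟩
    show (Spec.map (CommRingCat.ofHom Ψ) ≫ X.fromSpecStalk x) _ = y
    rw [heq]
    exact Scheme.fromSpecStalk_closedPoint
  rw [Scheme.range_fromSpecStalk] at hmem
  exact h (specializes_iff_closure_subset.1 hmem)

end Groth.Agent.S2123
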