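import Groth.Statements.S2131
import Mathlib.Algebra.Module.FinitePresentation
import Mathlib.RingTheory.Spectrum.Prime.Topology

set_option autoImplicit false
universe u
open CAlg

namespace Groth.Agent.S2131

section
variable {R M N : Type*} [CommRing R] [AddCommGroup M] [Module R M] [AddCommGroup N] [Module R N]
  (S : Submonoid R) (φ : M →ₗ[R] N)

theorem crit_of_bijective (h : Function.Bijective (LocalizedModule.map S φ)) :
    (∀ m, φ m = 0 → ∃ s ∈ S, s • m = 0) ∧ ∀ n, ∃ s ∈ S, ∃ m, φ m = s • n := by
  refine ⟨fun m hm => ?_, fun n => ?_⟩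
  · have : LocalizedModule.mk m (1 : S) = 0 := h.1 (by rw [LocalizedModule.map_mk, hm, LocalizedModule.zero_mk, map_zero])
    obtain ⟨s, hs⟩ := LocalizedModule.mk_eq.mp (this.trans (LocalizedModule.zero_mk 1).symm)
    exact ⟨s, s.2, by simpa [Submonoid.smul_def] using hs⟩
  · obtain ⟨z, hz⟩ := h.2 (LocalizedModule.mk n 1)
    induction z using LocalizedModule.induction_on with
    | _ m t =>
      rw [LocalizedModule.map_mk] at hz
      obtain ⟨s, hs⟩ := LocalizedModule.mk_eq.mp hz
      exact ⟨(s : R) * t, S.mul_mem s.2 t.2, (s : R) • m, by simpa [Submonoid.smul_def, mul_smul] using hs⟩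

theorem bijective_of_crit (hk : ∀ m, φ m = 0 → ∃ s ∈ S, s • m = 0) (hc : ∀ n, ∃ s ∈ S, ∃ m, φ m = s • n) :
    Function.Bijective (LocalizedModule.map S φ) := by
  refine ⟨(injective_iff_map_eq_zero _).mpr fun z hz => ?_, fun z => ?_⟩
  · induction z using LocalizedModule.induction_on with
    | _ m t =>
      rw [LocalizedModule.map_mk, ← LocalizedModule.zero_mk t] at hz
      obtain ⟨s, hs⟩ := LocalizedModule.mk_eq.mp hz
      obtain ⟨u, hu, hu0⟩ := hk (((s : R) * t) • m) (by simpa [Submonoid.smul_def, mul_smul] using hs)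
      rw [← LocalizedModule.zero_mk t, LocalizedModule.mk_eq]
      exact ⟨⟨u, hu⟩ * s, by simpa [Submonoid.smul_def, mul_smul] using hu0⟩
  · induction z using LocalizedModule.induction_on with
    | _ n t =>
      obtain ⟨s, hs, m, hm⟩ := hc n
      refine ⟨LocalizedModule.mk m (⟨s, hs⟩ * t), ?_⟩
      rw [LocalizedModule.map_mk, hm]
      exact LocalizedModule.mk_cancel_common_left ⟨s, hs⟩ t n

end

/-- For an `R`-linear map from a finite module to a finitely presented module, the primes at which its
localization is bijective form an open subset of `Spec R`. -/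
theorem result {R M N : Type u} [CommRing R] [AddCommGroup M] [Module R M] [Module.Finite R M]
    [AddCommGroup N] [Module R N] [Module.FinitePresentation R N] (φ : M →ₗ[R] N) :
    IsOpen {p : PrimeSpectrum R | Function.Bijective (LocalizedModule.map p.asIdeal.primeCompl φ)} := by
  rw [isOpen_iff_forall_mem_open]
  intro p hp
  obtain ⟨g, hgp, hg⟩ := Module.FinitePresentation.exists_notMem_bijective φ p.asIdeal
    (LocalizedModule.mkLinearMap p.asIdeal.primeCompl M) (LocalizedModule.mkLinearMap p.asIdeal.primeCompl N) hp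
  refine ⟨PrimeSpectrum.basicOpen g, fun q hq => ?_, (PrimeSpectrum.basicOpen g).2, hgp⟩
  obtain ⟨hk, hc⟩ := crit_of_bijective _ φ hg
  have hle : Submonoid.powers g ≤ q.asIdeal.primeCompl := Submonoid.powers_le.mpr hq
  exact bijective_of_crit _ φ (fun m hm => (hk m hm).imp fun s h => ⟨hle h.1, h.2⟩)
    (fun n => (hc n).imp fun s h => ⟨hle h.1, h.2⟩)

end Groth.Agent.S2131
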