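import Groth.Statements.S2132
import Mathlib.RingTheory.Henselian
import Mathlib.Algebra.Category.Ring.FilteredColimits
import Mathlib.CategoryTheory.Limits.ConcreteCategory.Basic
import Mathlib.CategoryTheory.Filtered.Basic
import Mathlib.Algebra.Category.Ring.Colimits

set_option autoImplicit false
universe u
open CategoryTheory
open CAlg

namespace Groth.Agent.S2132

/-- Let `F : J ⥤ CommRingCat` be a filtered diagram of henselian local rings with local transition maps
and `c` a colimit cocone. Then the colimit is a henselian local ring. -/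
theorem result {J : Type u} [SmallCategory J] [IsFiltered J] (F : J ⥤ CommRingCat.{u})
    (hF : ∀ j, HenselianLocalRing (F.obj j)) (hloc : ∀ (i j : J) (a : i ⟶ j), IsLocalHom (F.map a).hom)
    (c : Limits.Cocone F) (hc : Limits.IsColimit c) : HenselianLocalRing c.pt := by
  classical
  haveI : ∀ j, HenselianLocalRing (F.obj j) := hF
  have rep : ∀ x : c.pt, ∃ (j : J) (y : F.obj j), c.ι.app j y = x :=
    fun x => Limits.Concrete.isColimit_exists_rep F hc x
  have hw : ∀ (i j : J) (a : i ⟶ j) (x : F.obj i), c.ι.app j (F.map a x) = c.ι.app i x := fun i j a x => by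
    rw [← ConcreteCategory.comp_apply, c.w a]
  have hloc' : ∀ (j : J), IsLocalHom (c.ι.app j).hom := fun j => ⟨fun x hx => by
    obtain ⟨y, hy⟩ := hx.exists_right_inv
    obtain ⟨i, y', rfl⟩ := rep y
    let k := IsFiltered.max j i
    have h : c.ι.app k (F.map (IsFiltered.leftToMax j i) x * F.map (IsFiltered.rightToMax j i) y') = c.ι.app k 1 := by
      rw [map_mul, hw, hw, map_one]; exact hy
    obtain ⟨l, a, b, hab⟩ := (Limits.Concrete.isColimit_rep_eq_iff_exists F hc _ _).mp h
    rw [map_mul, map_one] at hab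
    have hu : IsUnit ((F.map a).hom ((F.map (IsFiltered.leftToMax j i)).hom x)) := IsUnit.of_mul_eq_one _ hab
    haveI := hloc k l a
    haveI := hloc j k (IsFiltered.leftToMax j i)
    exact isUnit_of_map_unit (F.map (IsFiltered.leftToMax j i)).hom _ (isUnit_of_map_unit (F.map a).hom _ hu)⟩
  have lift : ∀ (n : ℕ) (v : Fin n → c.pt), ∃ (j : J) (v' : Fin n → F.obj j), ∀ t, c.ι.app j (v' t) = v t := by
    intro n v
    choose jj y hy using fun t => rep (v t)
    obtain ⟨j, hj⟩ := IsFiltered.sup_objs_exists (Finset.univ.image jj)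
    refine ⟨j, fun t => F.map (hj (Finset.mem_image_of_mem jj (Finset.mem_univ t))).some (y t), fun t => ?_⟩
    rw [hw, hy]
  haveI : Nontrivial c.pt := by
    refine ⟨⟨1, 0, fun h => ?_⟩⟩
    obtain ⟨j⟩ := (IsFiltered.nonempty : Nonempty J)
    haveI := hloc' j
    have : IsUnit ((c.ι.app j).hom 0) := by rw [map_zero]; exact h ▸ isUnit_one
    exact not_isUnit_zero (isUnit_of_map_unit _ _ this)
  haveI : IsLocalRing c.pt := IsLocalRing.of_isUnit_or_isUnit_one_sub_self fun a => by
    obtain ⟨j, a', rfl⟩ := rep a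
    rcases IsLocalRing.isUnit_or_isUnit_one_sub_self a' with h | h
    · exact Or.inl (h.map (c.ι.app j).hom)
    · refine Or.inr ?_
      have := h.map (c.ι.app j).hom
      rwa [map_sub, map_one] at this
  refine { is_henselian := fun f hf a₀ h₁ h₂ => ?_ }
  obtain ⟨j, v, hv⟩ := lift (f.natDegree + 1) (Fin.cons a₀ fun i : Fin f.natDegree => f.coeff i)
  let φ := (c.ι.app j).hom
  let g : Polynomial (F.obj j) := Polynomial.X ^ f.natDegree + ∑ i : Fin f.natDegree, Polynomial.C (v i.succ) * Polynomial.X ^ (i : ℕ)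
  have hgm : g.Monic := by
    refine Polynomial.monic_X_pow_add ?_
    refine (Polynomial.degree_sum_le _ _).trans_lt ((Finset.sup_lt_iff (WithBot.bot_lt_coe _)).mpr fun i _ => ?_)
    exact (Polynomial.degree_C_mul_X_pow_le _ _).trans_lt (WithBot.coe_lt_coe.mpr i.2)
  have hgf : g.map φ = f := by
    conv_rhs => rw [hf.as_sum]
    rw [Finset.sum_range]
    simp only [g, Polynomial.map_add, Polynomial.map_pow, Polynomial.map_X, Polynomial.map_sum, Polynomial.map_mul, Polynomial.map_C]
    congr 1
    refine Finset.sum_congr rfl fun i _ => ?_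
    rw [show φ (v i.succ) = f.coeff i from (hv i.succ).trans (Fin.cons_succ _ _ i)]
  have ha : φ (v 0) = a₀ := (hv 0).trans (Fin.cons_zero _ _)
  haveI := hloc' j
  obtain ⟨a, haroot, hadiff⟩ := HenselianLocalRing.is_henselian g hgm (v 0) (by
      intro hu
      refine h₁ ?_
      have := hu.map φ
      rwa [← Polynomial.eval_map_apply, hgf, ha] at this) (by
      refine isUnit_of_map_unit φ _ ?_
      rwa [← Polynomial.eval_map_apply, ← Polynomial.derivative_map, hgf, ha])
  refine ⟨φ a, ?_, fun hu => hadiff ?_⟩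
  · rw [Polynomial.IsRoot, ← hgf, Polynomial.eval_map_apply, haroot, map_zero]
  · refine isUnit_of_map_unit φ _ ?_
    rwa [map_sub, ha]

end Groth.Agent.S2132
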