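import Groth.Statements.S2133
import Mathlib.RingTheory.Derivation.Basic
import Mathlib.RingTheory.FiniteType
import Mathlib.Tactic.LinearCombination
import Mathlib.Tactic.Ring

set_option autoImplicit false
universe u
open CAlg

namespace Groth.Agent.S2133

/-- Let `R → R'` be an injective ring map of finite type and `g ∈ R` a nonzerodivisor on `R'` such that
every element of `R'` lands in `R` after multiplication by a power of `g` (so `R_g = R'_g`). Then
for every derivation `D` of `R` there is `N` such that `g^N D` extends to a derivation of `R'`. -/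
theorem result {R R' : Type u} [CommRing R] [CommRing R'] [Algebra R R'] [Algebra.FiniteType R R']
    (hinj : Function.Injective (algebraMap R R')) (g : R) (hg : IsSMulRegular R' (algebraMap R R' g))
    (hloc : ∀ x : R', ∃ n : ℕ, (algebraMap R R' g) ^ n * x ∈ Set.range (algebraMap R R')) (D : Derivation ℤ R R) :
    ∃ (N : ℕ) (D' : Derivation ℤ R' R'), ∀ r : R, D' (algebraMap R R' r) = algebraMap R R' (g ^ N * D r) := by
  classical
  set φ := algebraMap R R'
  set γ := φ g
  have hreg : ∀ n : ℕ, ∀ a b : R', γ ^ n * a = γ ^ n * b → a = b := fun n a b h => (hg.pow n) h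
  let P : ℕ → R' → R' → Prop := fun N x y => ∃ (n : ℕ) (r : R), φ r = γ ^ n * x ∧ γ ^ n * y = γ ^ N * (φ (D r) - φ (D (g ^ n)) * x)
  have hup : ∀ (N : ℕ) (x y : R') (n : ℕ) (r : R), φ r = γ ^ n * x → γ ^ n * y = γ ^ N * (φ (D r) - φ (D (g ^ n)) * x) →
      ∀ m : ℕ, φ (g ^ m * r) = γ ^ (n + m) * x ∧ γ ^ (n + m) * y = γ ^ N * (φ (D (g ^ m * r)) - φ (D (g ^ (n + m))) * x) := by
    intro N x y n r hr hy m
    refine ⟨by rw [map_mul, map_pow, hr, pow_add]; ring, ?_⟩
    rw [D.leibniz, pow_add, pow_add, D.leibniz]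
    simp only [smul_eq_mul, map_add, map_mul, map_pow]
    simp only [γ] at hr hy ⊢
    linear_combination φ g ^ m * hy - φ g ^ N * φ (D (g ^ m)) * hr
  have huniq : ∀ N x y y', P N x y → P N x y' → y = y' := by
    rintro N x y y' ⟨n, r, hr, hy⟩ ⟨n', r', hr', hy'⟩
    obtain ⟨h1, h2⟩ := hup N x y n r hr hy n'
    obtain ⟨h3, h4⟩ := hup N x y' n' r' hr' hy' n
    have he : g ^ n' * r = g ^ n * r' := hinj (h1.trans (by rw [h3, Nat.add_comm n' n]))
    rw [Nat.add_comm n' n] at h4
    exact hreg (n + n') y y' (by rw [h2, h4, he])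
  have hadd : ∀ N x x' y y', P N x y → P N x' y' → P N (x + x') (y + y') := by
    rintro N x x' y y' ⟨n, r, hr, hy⟩ ⟨n', r', hr', hy'⟩
    obtain ⟨h1, h2⟩ := hup N x y n r hr hy n'
    obtain ⟨h3, h4⟩ := hup N x' y' n' r' hr' hy' n
    rw [Nat.add_comm n' n] at h3 h4
    refine ⟨n + n', g ^ n' * r + g ^ n * r', by rw [map_add, h1, h3, mul_add], ?_⟩
    rw [D.map_add, map_add]
    linear_combination h2 + h4
  have hmul : ∀ N x x' y y', P N x y → P N x' y' → P N (x * x') (x * y' + x' * y) := by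
    rintro N x x' y y' ⟨n, r, hr, hy⟩ ⟨n', r', hr', hy'⟩
    refine ⟨n + n', r * r', by rw [map_mul, hr, hr', pow_add]; ring, ?_⟩
    rw [D.leibniz, pow_add, pow_add, D.leibniz]
    simp only [smul_eq_mul, map_add, map_mul, map_pow]
    simp only [γ] at hr hy hr' hy' ⊢
    linear_combination φ g ^ n * x * hy' + φ g ^ n' * x' * hy - φ g ^ N * φ (D r') * hr - φ g ^ N * φ (D r) * hr'
  have halg : ∀ N r, P N (φ r) (φ (g ^ N * D r)) := fun N r => ⟨0, r, by simp, by simp [γ]⟩
  obtain ⟨s, hs⟩ := (Algebra.FiniteType.out : (⊤ : Subalgebra R R').FG)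
  choose nn hnn using hloc
  let N := s.sup nn
  have hgen : ∀ x ∈ s, ∃ y, P N x y := by
    intro x hx
    obtain ⟨r, hr⟩ := hnn x
    obtain ⟨m, hm⟩ := Nat.exists_eq_add_of_le (Finset.le_sup (f := nn) hx : nn x ≤ N)
    refine ⟨γ ^ m * (φ (D r) - φ (D (g ^ nn x)) * x), nn x, r, hr, ?_⟩
    rw [show N = nn x + m from hm, pow_add, mul_assoc]
  have hall : ∀ x : R', ∃ y, P N x y := by
    intro x
    have hx : x ∈ Algebra.adjoin R (s : Set R') := hs ▸ Algebra.mem_top
    induction hx using Algebra.adjoin_induction with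
    | mem z hz => exact hgen z hz
    | algebraMap r => exact ⟨_, halg N r⟩
    | add a b _ _ ha hb =>
      obtain ⟨y, hy⟩ := ha
      obtain ⟨z, hz⟩ := hb
      exact ⟨_, hadd N a b y z hy hz⟩
    | mul a b _ _ ha hb =>
      obtain ⟨y, hy⟩ := ha
      obtain ⟨z, hz⟩ := hb
      exact ⟨_, hmul N a b y z hy hz⟩
  choose f hf using hall
  let L : R' →+ R' := AddMonoidHom.mk' f fun a b => huniq N _ _ _ (hf (a + b)) (hadd N a b _ _ (hf a) (hf b))
  refine ⟨N, Derivation.mk' L.toIntLinearMap (fun a b => ?_), fun r => huniq N _ _ _ (hf _) (halg N r)⟩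
  show f (a * b) = a • f b + b • f a
  exact huniq N _ _ _ (hf _) (hmul N a b _ _ (hf a) (hf b))

end Groth.Agent.S2133
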