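import Groth.Statements.S2134
import Mathlib.FieldTheory.IntermediateField.Adjoin.Defs
import Mathlib.Data.Fintype.Card
import Mathlib.Data.Fintype.Powerset

set_option autoImplicit false
universe u
open CAlg

namespace Groth.Agent.S2134

/-- Let `K/k` be a field extension and `(K_α)` a nonempty family of intermediate fields, directed
downwards, with intersection `k`. For a `K`-subspace `V` of `K^n` (`n ≥ 1`), `V` contains a nonzero
vector with all coordinates in `k` if and only if for every `α` it contains a nonzero vector with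
all coordinates in `K_α`. -/
theorem result {k K : Type u} [Field k] [Field K] [Algebra k K] {ι : Type u} [Nonempty ι]
    (F : ι → IntermediateField k K) (hdir : ∀ a b : ι, ∃ c, F c ≤ F a ⊓ F b) (hinf : ⨅ a, F a = ⊥) (n : ℕ) (hn : 1 ≤ n)
    (V : Submodule K (Fin n → K)) :
    (∃ v ∈ V, v ≠ 0 ∧ ∀ i, v i ∈ Set.range (algebraMap k K)) ↔
      ∀ a, ∃ v ∈ V, v ≠ 0 ∧ ∀ i, v i ∈ F a := by
  classical
  constructor
  · rintro ⟨v, hv, hv0, hvk⟩ a
    refine ⟨v, hv, hv0, fun i => ?_⟩
    obtain ⟨c, hc⟩ := hvk i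
    rw [← hc]
    exact (F a).algebraMap_mem c
  intro h
  let supp : (Fin n → K) → Finset (Fin n) := fun v => Finset.univ.filter fun i => v i ≠ 0
  let P : ι → ℕ → Prop := fun a m => ∃ v ∈ V, v ≠ 0 ∧ (∀ i, v i ∈ F a) ∧ (supp v).card = m
  have hP : ∀ a, ∃ m, P a m := fun a => by
    obtain ⟨v, hv, hv0, hva⟩ := h a
    exact ⟨_, v, hv, hv0, hva, rfl⟩
  have hbound : ∀ a, Nat.find (hP a) ≤ n := fun a => by
    obtain ⟨v, -, -, -, hm⟩ := Nat.find_spec (hP a)
    rw [← hm]
    exact (Finset.card_le_univ _).trans_eq (Fintype.card_fin n)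
  obtain ⟨m₀, ⟨a₀, ha₀⟩, hmax⟩ : ∃ m, (∃ a, Nat.find (hP a) = m) ∧ ∀ a, Nat.find (hP a) ≤ m := by
    let S : Set ℕ := Set.range fun a => Nat.find (hP a)
    have hS : BddAbove S := ⟨n, by rintro _ ⟨a, rfl⟩; exact hbound a⟩
    exact ⟨sSup S, Nat.sSup_mem (Set.range_nonempty _) hS, fun a => le_csSup hS ⟨a, rfl⟩⟩
  let U : Set (Fin n → K) := {v | v ∈ V ∧ (∀ i, v i ∈ F a₀) ∧ (supp v).card = m₀ ∧ ∃ i, v i = 1}
  let key : U → Finset (Fin n) × Fin n := fun v => (supp v.1, v.2.2.2.2.choose)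
  have hkey : Function.Injective key := by
    intro u v huv
    simp only [key, Prod.mk.injEq] at huv
    obtain ⟨hs, hi⟩ := huv
    refine Subtype.ext (by_contra fun hne => ?_)
    have hsub : supp (u.1 - v.1) ⊂ supp u.1 := by
      refine (Finset.ssubset_iff_of_subset fun i hi' => ?_).mpr ⟨u.2.2.2.2.choose, ?_, ?_⟩
      · simp only [supp, Finset.mem_filter, Finset.mem_univ, true_and, Pi.sub_apply] at hi' ⊢
        intro hu
        have : i ∉ supp v.1 := by rw [← hs]; simp [supp, hu]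
        simp only [supp, Finset.mem_filter, Finset.mem_univ, true_and, not_not] at this
        exact hi' (by rw [hu, this, sub_zero])
      · simp [supp, u.2.2.2.2.choose_spec]
      · simp only [supp, Finset.mem_filter, Finset.mem_univ, true_and, Pi.sub_apply, not_not]
        rw [u.2.2.2.2.choose_spec, hi, v.2.2.2.2.choose_spec, sub_self]
    have hle := Nat.find_min' (hP a₀) (m := (supp (u.1 - v.1)).card)
      ⟨u.1 - v.1, V.sub_mem u.2.1 v.2.1, sub_ne_zero.mpr hne, fun i => (F a₀).sub_mem (u.2.2.1 i) (v.2.2.1 i), rfl⟩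
    have hlt := Finset.card_lt_card hsub
    rw [u.2.2.2.1] at hlt
    omega
  haveI : Finite U := Finite.of_injective key hkey
  by_contra hcon
  push Not at hcon
  have hout : ∀ u : U, ∃ a, ∃ i, u.1 i ∉ F a := by
    intro u
    by_contra hall
    push Not at hall
    obtain ⟨i, hi⟩ := hcon u.1 u.2.1 (fun h0 => by
      obtain ⟨j, hj⟩ := u.2.2.2.2
      rw [h0] at hj
      exact zero_ne_one hj)
    have h1 : u.1 i ∈ ⨅ a, F a := by
      rw [← SetLike.mem_coe, IntermediateField.coe_iInf, Set.mem_iInter]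
      exact fun a => hall a i
    rw [hinf, IntermediateField.mem_bot] at h1
    exact hi h1
  choose af hidx using hout
  obtain ⟨c, hc⟩ : ∃ c, ∀ a ∈ insert a₀ (Set.range af), F c ≤ F a := by
    have hfin : (insert a₀ (Set.range af)).Finite := (Set.finite_range af).insert a₀
    revert hfin
    generalize insert a₀ (Set.range af) = T
    intro hfin
    induction T, hfin using Set.Finite.induction_on with
    | empty => exact ⟨a₀, fun a ha => absurd ha (Set.notMem_empty a)⟩
    | @insert b s _ _ ih =>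
      obtain ⟨c, hc⟩ := ih
      obtain ⟨d, hd⟩ := hdir b c
      exact ⟨d, fun a ha => ha.elim (fun e => e ▸ hd.trans inf_le_left) fun ha => hd.trans (inf_le_right.trans (hc a ha))⟩
  obtain ⟨v, hvV, hv0, hvc, hm⟩ := Nat.find_spec (hP c)
  obtain ⟨i, hi⟩ : ∃ i, v i ≠ 0 := Function.ne_iff.mp hv0
  have hsupp : supp ((v i)⁻¹ • v) = supp v := by ext j; simp [supp, hi]
  have hw : (v i)⁻¹ • v ∈ U := by
    refine ⟨V.smul_mem _ hvV, fun j => hc a₀ (Set.mem_insert _ _) ((F c).mul_mem ((F c).inv_mem (hvc i)) (hvc j)), ?_,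
      i, inv_mul_cancel₀ hi⟩
    rw [hsupp, hm]
    refine le_antisymm (hmax c) ?_
    rw [← ha₀, ← hm]
    exact Nat.find_min' (hP a₀) ⟨v, hvV, hv0, fun j => hc a₀ (Set.mem_insert _ _) (hvc j), rfl⟩
  obtain ⟨j, hj⟩ := hidx ⟨_, hw⟩
  exact hj (hc _ (Set.mem_insert_of_mem _ ⟨_, rfl⟩) ((F c).mul_mem ((F c).inv_mem (hvc i)) (hvc j)))

end Groth.Agent.S2134
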