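import Groth.Statements.S2136
import Groth.Agent.S1451
import Groth.Agent.L07.ChevalleyNorm
import Mathlib.RingTheory.Unramified.Locus
import Mathlib.RingTheory.Ideal.MinimalPrime.Localization
-- import your own Groth.Agent.* helpers here

set_option autoImplicit false
universe u
open CAlg
open CategoryTheory AlgebraicGeometry
set_option backward.isDefEq.respectTransparency.types false
set_option backward.isDefEq.respectTransparency false
set_option linter.style.haveILetI false

namespace Groth.Agent.S2136

/-- Let `A` be a domain, `A → B` a ring map of finite type, and `𝔮` a prime of `B` lying over `𝔭 ⊆ A`,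
with `A_𝔭` geometrically unibranch, `A → B` unramified at `𝔮` and `A_𝔭 → B_𝔮` injective. Then `B_g`
is étale over `A` for some `g ∉ 𝔮`. (`B` is assumed of finite type over `A` throughout; the
published statement needs this only after inverting an element outside `𝔮`.) -/
theorem result {A B : Type u} [CommRing A] [IsDomain A] [CommRing B]
    [Algebra A B] (q : Ideal B) [q.IsPrime] (p : Ideal A) [p.IsPrime] [q.LiesOver p]
    (hA : CAlg2.IsGeomUnibranch (Localization.AtPrime p)) [Algebra.FiniteType A B] [Algebra.IsUnramifiedAt A q]
    (hinj : Function.Injective (Localization.localRingHom p q (algebraMap A B) (q.over_def p))) :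
    ∃ g : B, g ∉ q ∧ Algebra.Etale A (Localization.Away g) := by
  have hp : p = q.comap (algebraMap A B) := q.over_def p
  let f : Spec (CommRingCat.of B) ⟶ Spec (CommRingCat.of A) := Spec.map (CommRingCat.ofHom (algebraMap A B))
  haveI : IsIntegral (Spec (CommRingCat.of A)) := inferInstance
  haveI : LocallyOfFiniteType f := by
    rw [HasRingHomProperty.Spec_iff (P := @LocallyOfFiniteType)]
    exact RingHom.finiteType_algebraMap.mpr ‹_›
  let x : Spec (CommRingCat.of B) := (⟨q, ‹_›⟩ : PrimeSpectrum B)
  have hY : CAlg2.IsGeomUnibranch ((Spec (CommRingCat.of A)).presheaf.stalk (f x)) := by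
    have key : ∀ P : PrimeSpectrum A, P.asIdeal = p →
        CAlg2.IsGeomUnibranch ((Spec (CommRingCat.of A)).presheaf.stalk P) := by
      rintro ⟨I, hI⟩ rfl
      haveI : IsLocalization.AtPrime ((Spec.structureSheaf A).presheaf.stalk (⟨I, hI⟩ : PrimeSpectrum A)) I :=
        StructureSheaf.IsLocalization.to_stalk A (⟨I, hI⟩ : PrimeSpectrum A)
      let e := (IsLocalization.algEquiv I.primeCompl (Localization.AtPrime I)
        ((Spec.structureSheaf A).presheaf.stalk (⟨I, hI⟩ : PrimeSpectrum A))).toRingEquiv
      exact Groth.L07.Chevalley.isGeomUnibranch_of_surjective e.toRingHom e.surjective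
        (fun x hx => by rw [show x = 0 from e.injective (hx.trans (map_zero e).symm)]; exact Ideal.zero_mem _) hA
    exact key _ hp.symm
  have hsp : ∃ x', x' ⤳ x ∧ f x' = genericPoint ↑(Spec (CommRingCat.of A)) := by
    haveI : IsDomain (Localization.AtPrime p) := inferInstance
    obtain ⟨P, hP, hPc⟩ := Ideal.exists_comap_eq_of_mem_minimalPrimes_of_injective hinj (⊥ : Ideal _)
      (by rw [IsDomain.minimalPrimes_eq_singleton_bot]; rfl)
    haveI := hP
    refine ⟨(⟨P.comap (algebraMap B (Localization.AtPrime q)), inferInstance⟩ : PrimeSpectrum B), ?_, ?_⟩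
    · refine (PrimeSpectrum.le_iff_specializes _ (⟨q, ‹_›⟩ : PrimeSpectrum B)).mp ?_
      show P.comap (algebraMap B (Localization.AtPrime q)) ≤ q
      refine (Ideal.comap_mono (IsLocalRing.le_maximalIdeal hP.ne_top)).trans (le_of_eq ?_)
      exact Localization.AtPrime.under_maximalIdeal
    · rw [genericPoint_eq_bot_of_affine]
      refine PrimeSpectrum.ext ?_
      show (P.comap (algebraMap B (Localization.AtPrime q))).comap (algebraMap A B) = ⊥
      rw [Ideal.comap_comap, show (algebraMap B (Localization.AtPrime q)).comp (algebraMap A B) =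
          (Localization.localRingHom p q (algebraMap A B) (q.over_def p)).comp
            (algebraMap A (Localization.AtPrime p)) from RingHom.ext fun a =>
              (Localization.localRingHom_to_map p q (algebraMap A B) (q.over_def p) a).symm,
        ← Ideal.comap_comap, hPc, Ideal.comap_bot_of_injective]
      exact IsLocalization.injective _ p.primeCompl_le_nonZeroDivisors
  have hunr : ∃ U : (Spec (CommRingCat.of B)).Opens, x ∈ U ∧ FormallyUnramified (U.ι ≫ f) := by
    obtain ⟨g, hg, hu⟩ := Algebra.exists_formallyUnramified_of_isUnramifiedAt (R := A) q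
    haveI : IsOpenImmersion (Spec.map (CommRingCat.ofHom (algebraMap B (Localization.Away g)))) :=
      IsOpenImmersion.of_isLocalization g
    let j := Spec.map (CommRingCat.ofHom (algebraMap B (Localization.Away g)))
    haveI : FormallyUnramified (j ≫ f) := by
      rw [← Spec.map_comp, HasRingHomProperty.Spec_iff (P := @FormallyUnramified), ← CommRingCat.ofHom_comp,
        ← IsScalarTower.algebraMap_eq]
      exact RingHom.formallyUnramified_algebraMap.mpr hu
    refine ⟨j.opensRange, ?_, ?_⟩
    · show (⟨q, ‹_›⟩ : PrimeSpectrum B) ∈ Set.range (PrimeSpectrum.comap (algebraMap B (Localization.Away g)))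
      rw [PrimeSpectrum.localization_away_comap_range (Localization.Away g) g]
      exact hg
    · rw [← Scheme.Hom.isoOpensRange_inv_comp j, Category.assoc,
        MorphismProperty.cancel_left_of_respectsIso @FormallyUnramified]
      infer_instance
  obtain ⟨U, hxU, hU⟩ := Groth.Agent.S1451.result f x hY hsp hunr
  obtain ⟨_, ⟨_, ⟨g, rfl⟩, rfl⟩, hxg, hgU⟩ :=
    PrimeSpectrum.isBasis_basic_opens.exists_subset_of_mem_open hxU U.2
  refine ⟨g, hxg, RingHom.etale_algebraMap.mp ?_⟩
  haveI : IsOpenImmersion (Spec.map (CommRingCat.ofHom (algebraMap B (Localization.Away g)))) :=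
    IsOpenImmersion.of_isLocalization g
  let j := Spec.map (CommRingCat.ofHom (algebraMap B (Localization.Away g)))
  have hr : Set.range j ⊆ Set.range U.ι := by
    rw [Scheme.Opens.range_ι]
    exact (PrimeSpectrum.localization_away_comap_range (Localization.Away g) g).subset.trans hgU
  have : Etale (j ≫ f) := by
    rw [← IsOpenImmersion.lift_fac U.ι j hr, Category.assoc]
    haveI := hU
    infer_instance
  rw [← Spec.map_comp, HasRingHomProperty.Spec_iff (P := @Etale), ← CommRingCat.ofHom_comp,
    ← IsScalarTower.algebraMap_eq] at this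
  exact this

end Groth.Agent.S2136
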