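import Mathlib.RingTheory.FinitePresentation
import Mathlib.RingTheory.Localization.Away.Basic
import Mathlib.RingTheory.FiniteType
import Groth.Agent.L20.GenericFreeness
import Mathlib.RingTheory.Localization.BaseChange

set_option autoImplicit false
namespace CAlg
end CAlg
universe u
open CAlg

namespace Groth.Agent.S2140

/-- Let `R → S` be an injective ring map of finite type between domains. Then there are nonzero `f ∈ R`
and `g ∈ S` such that `S_{fg}` is a finitely presented `R_f`-algebra. -/
theorem result {R S : Type u} [CommRing R] [IsDomain R] [CommRing S] [IsDomain S]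
    [Algebra R S] [Algebra.FiniteType R S] (hinj : Function.Injective (algebraMap R S)) :
    ∃ (f : R) (g : S), f ≠ 0 ∧ g ≠ 0 ∧
      ∀ (Rf Sfg : Type u) [CommRing Rf] [CommRing Sfg] [Algebra R Rf] [IsLocalization.Away f Rf]
        [Algebra S Sfg] [IsLocalization.Away (algebraMap R S f * g) Sfg] [Algebra Rf Sfg] [Algebra R Sfg]
        [IsScalarTower R S Sfg] [IsScalarTower R Rf Sfg], Algebra.FinitePresentation Rf Sfg := by
  obtain ⟨n, φ, hφ⟩ := Algebra.FiniteType.iff_quotient_mvPolynomial''.mp (inferInstance : Algebra.FiniteType R S)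
  letI : Algebra (MvPolynomial (Fin n) R) S := φ.toRingHom.toAlgebra
  haveI : IsScalarTower R (MvPolynomial (Fin n) R) S :=
    IsScalarTower.of_algebraMap_eq fun r => (φ.commutes r).symm
  haveI : Module.Finite (MvPolynomial (Fin n) R) S :=
    Module.Finite.of_surjective (Algebra.linearMap (MvPolynomial (Fin n) R) S) hφ
  obtain ⟨f, hf, -, hN⟩ := Groth.L20.GF.exists_free_and_nearlyFP (R := R) (S := MvPolynomial (Fin n) R) S
  obtain ⟨I, hI, hle, htor⟩ := hN.exists_fg_ideal hφ
  refine ⟨f, 1, hf, one_ne_zero, ?_⟩
  intro Rf Sfg _ _ _ _ _ _ _ _ _ _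
  have hfu : IsUnit (algebraMap R Rf f) := IsLocalization.Away.algebraMap_isUnit f
  haveI h1 := Groth.L20.GF.finitePresentation_baseChange_quotient φ hφ hI hle htor Rf hfu
  haveI hloc : IsLocalization.Away (algebraMap R S f) Sfg := by
    have : IsLocalization.Away (algebraMap R S f * 1) Sfg := inferInstance
    rwa [mul_one] at this
  haveI : IsLocalization (Algebra.algebraMapSubmonoid S (Submonoid.powers f)) Sfg := by
    rw [Algebra.algebraMapSubmonoid_powers]
    exact hloc
  haveI : Algebra.IsPushout R S Rf Sfg := Algebra.isPushout_of_isLocalization (Submonoid.powers f) Rf S Sfg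
  haveI : Algebra.IsPushout R Rf S Sfg := Algebra.IsPushout.symm inferInstance
  exact Algebra.FinitePresentation.equiv (Algebra.IsPushout.equiv R Rf S Sfg)

end Groth.Agent.S2140
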