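import Groth.Prelude.Def_Flat
import Mathlib.RingTheory.KrullDimension.Basic
import Mathlib.RingTheory.Localization.AtPrime.Basic
import Mathlib.RingTheory.AlgebraicIndependent.Transcendental
import Mathlib.RingTheory.LocalRing.ResidueField.Ideal
import Mathlib.RingTheory.FiniteType
import Mathlib.RingTheory.TensorProduct.Basic
import Mathlib.RingTheory.Ideal.Over
import Groth.Agent.L22.Cyc.FieldExt
import Groth.Agent.L22.FibreSemicont
import Mathlib.RingTheory.Ideal.GoingDown
import Mathlib.RingTheory.Flat.Stability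

set_option autoImplicit false
namespace CAlg
end CAlg
universe u
open CAlg

attribute [local instance] Algebra.TensorProduct.rightAlgebra
open CategoryTheory AlgebraicGeometry
namespace Groth.Agent.S2142

open TensorProduct in
/-- Let `S` be of finite type over a field `k`, `K/k` a field extension, `𝔮` a prime of `S` and `𝔮_K` a
prime of `K ⊗_k S` lying over `𝔮`. Then the local dimension of `Spec (K ⊗_k S)` at `𝔮_K` equals the
local dimension of `Spec S` at `𝔮`. -/
theorem result {k S K : Type u} [Field k] [CommRing S] [Algebra k S] [Algebra.FiniteType k S] [Field K]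
    [Algebra k K] (q : Ideal S) [q.IsPrime] (qK : Ideal (K ⊗[k] S)) [qK.IsPrime]
    (hq : qK.comap (Algebra.TensorProduct.includeRight.toRingHom : S →+* K ⊗[k] S) = q) :
    FlatMor.localDim (PrimeSpectrum (K ⊗[k] S)) ⟨qK, inferInstance⟩ = FlatMor.localDim (PrimeSpectrum S) ⟨q, inferInstance⟩ := by
  letI : (Spec (CommRingCat.of S)).Over (Spec (CommRingCat.of k)) :=
    ⟨Spec.map (CommRingCat.ofHom (algebraMap k S))⟩
  letI : (Spec (CommRingCat.of (K ⊗[k] S))).Over (Spec (CommRingCat.of K)) :=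
    ⟨Spec.map (CommRingCat.ofHom (algebraMap K (K ⊗[k] S)))⟩
  haveI h1 : LocallyOfFiniteType (Spec.map (CommRingCat.ofHom (algebraMap k S))) :=
    (HasRingHomProperty.Spec_iff (P := @LocallyOfFiniteType)).mpr
      (RingHom.finiteType_algebraMap.mpr inferInstance)
  haveI h2 : LocallyOfFiniteType (Spec.map (CommRingCat.ofHom (algebraMap K (K ⊗[k] S)))) :=
    (HasRingHomProperty.Spec_iff (P := @LocallyOfFiniteType)).mpr
      (RingHom.finiteType_algebraMap.mpr inferInstance)
  haveI : LocallyOfFiniteType ((Spec (CommRingCat.of S)) ↘ Spec (CommRingCat.of k)) := h1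
  haveI : LocallyOfFiniteType
      ((Spec (CommRingCat.of (K ⊗[k] S))) ↘ Spec (CommRingCat.of K)) := h2
  let ι : S →+* K ⊗[k] S := (Algebra.TensorProduct.includeRight (R := k) (A := K)).toRingHom
  have hpb : IsPullback (Spec.map (CommRingCat.ofHom ι))
      (Spec.map (CommRingCat.ofHom (algebraMap K (K ⊗[k] S))))
      (Spec.map (CommRingCat.ofHom (algebraMap k S)))
      (Spec.map (CommRingCat.ofHom (algebraMap k K))) :=
    (isPullback_SpecMap_of_isPushout _ _ _ _
      (CommRingCat.isPushout_tensorProduct k K S)).flip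
  have e : (S ⊗[k] K) ≃ₗ[S] (K ⊗[k] S) :=
    { TensorProduct.comm k S K with
      map_smul' := fun s x => by
        show TensorProduct.comm k S K (s • x) = s • TensorProduct.comm k S K x
        induction x with
        | zero => simp
        | tmul a b =>
          simp [TensorProduct.smul_tmul', Algebra.smul_def, Algebra.TensorProduct.right_algebraMap_apply]
        | add x y hx hy => simp only [smul_add, map_add, hx, hy] }
  haveI : Module.Flat S (K ⊗[k] S) := Module.Flat.of_linearEquiv e.symm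
  haveI : Algebra.HasGoingDown S (K ⊗[k] S) := Algebra.HasGoingDown.of_flat
  have hA : Algebra.algebraMap (R := S) (A := K ⊗[k] S) = ι := rfl
  let η₀ : PrimeSpectrum (K ⊗[k] S) := ⟨qK, inferInstance⟩
  change FlatMor.localDim (Spec (CommRingCat.of (K ⊗[k] S))) η₀ =
    FlatMor.localDim (Spec (CommRingCat.of S)) (⟨q, inferInstance⟩ : PrimeSpectrum S)
  rw [Groth.L22.FibreSemicont.localDim_eq_iSup K, Groth.L22.FibreSemicont.localDim_eq_iSup k]
  have hq' : Spec.map (CommRingCat.ofHom ι) η₀ = (⟨q, inferInstance⟩ : PrimeSpectrum S) :=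
    PrimeSpectrum.ext hq
  refine le_antisymm (iSup_le fun η => ?_) (iSup_le fun η => ?_)
  · obtain ⟨p, hp, hpη⟩ := Ideal.exists_minimalPrimes_le
      (I := (⊥ : Ideal (K ⊗[k] S))) (J := (η.1 : PrimeSpectrum (K ⊗[k] S)).asIdeal) bot_le
    let z : Spec (CommRingCat.of (K ⊗[k] S)) := (⟨p, hp.1.1⟩ : PrimeSpectrum (K ⊗[k] S))
    have hz : z ⤳ η.1 := (PrimeSpectrum.le_iff_specializes (R := K ⊗[k] S) _ _).mp hpη
    have hz' : ∀ w, w ⤳ z → w = z := fun w hw =>
      ((PrimeSpectrum.le_iff_specializes (R := K ⊗[k] S) _ _).mpr hw).antisymm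
        (hp.2 ⟨(w : PrimeSpectrum (K ⊗[k] S)).2, bot_le⟩
          ((PrimeSpectrum.le_iff_specializes (R := K ⊗[k] S) _ _).mpr hw))
    obtain ⟨n, hn, -⟩ := Groth.L22.SchemeDim.exists_dim_closure_eq_trdeg k _
      (Spec.map (CommRingCat.ofHom ι) z)
    have := Groth.L22.Cyc.dim_closure_baseChange k K _ _ _ _ hpb hz' hn
    refine le_iSup_of_le ⟨Spec.map (CommRingCat.ofHom ι) z, hq' ▸
      (hz.trans η.2).map (Spec.map (CommRingCat.ofHom ι)).continuous⟩ ?_
    show _ ≤ topologicalKrullDim (closure {Spec.map (CommRingCat.ofHom ι) z})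
    rw [hn, ← this]
    exact Groth.L22.SchemeDim.topologicalKrullDim_mono
      (closure_minimal (Set.singleton_subset_iff.mpr hz.mem_closure) isClosed_closure)
  · haveI : (η.1 : PrimeSpectrum S).asIdeal.IsPrime := (η.1 : PrimeSpectrum S).2
    haveI : qK.LiesOver q := ⟨hq.symm⟩
    obtain ⟨P, hPle, hPp, hPover⟩ := Ideal.exists_ideal_le_liesOver_of_le
      (p := (η.1 : PrimeSpectrum S).asIdeal) (q := q) qK
      ((PrimeSpectrum.le_iff_specializes (R := S) _ _).mpr η.2)
    obtain ⟨p, hp, hpP⟩ := Ideal.exists_minimalPrimes_le (I := (⊥ : Ideal (K ⊗[k] S))) (J := P) bot_le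
    let z : Spec (CommRingCat.of (K ⊗[k] S)) := (⟨p, hp.1.1⟩ : PrimeSpectrum (K ⊗[k] S))
    have hz : z ⤳ η₀ :=
      (PrimeSpectrum.le_iff_specializes (R := K ⊗[k] S) _ _).mp (hpP.trans hPle)
    have hz' : ∀ w, w ⤳ z → w = z := fun w hw =>
      ((PrimeSpectrum.le_iff_specializes (R := K ⊗[k] S) _ _).mpr hw).antisymm
        (hp.2 ⟨(w : PrimeSpectrum (K ⊗[k] S)).2, bot_le⟩
          ((PrimeSpectrum.le_iff_specializes (R := K ⊗[k] S) _ _).mpr hw))
    obtain ⟨n, hn, -⟩ := Groth.L22.SchemeDim.exists_dim_closure_eq_trdeg k _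
      (Spec.map (CommRingCat.ofHom ι) z)
    have := Groth.L22.Cyc.dim_closure_baseChange k K _ _ _ _ hpb hz' hn
    refine le_iSup_of_le ⟨z, hz⟩ ?_
    show _ ≤ topologicalKrullDim (closure {z})
    rw [this, ← hn]
    refine Groth.L22.SchemeDim.topologicalKrullDim_mono
      (closure_minimal (Set.singleton_subset_iff.mpr ?_) isClosed_closure)
    refine Specializes.mem_closure ?_
    refine (PrimeSpectrum.le_iff_specializes (R := S) _ _).mp ?_
    exact (Ideal.comap_mono hpP).trans hPover.over.symm.le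

end Groth.Agent.S2142
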