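import Mathlib.RingTheory.FinitePresentation
import Mathlib.RingTheory.Localization.AtPrime.Basic
import Mathlib.RingTheory.Localization.Away.Basic
import Mathlib.RingTheory.Ideal.Over
import Mathlib.Algebra.Algebra.Prod
import Groth.Agent.L02.AlgSpread
import Mathlib.RingTheory.Idempotents

set_option autoImplicit false
namespace CAlg
end CAlg
universe u
open CAlg

namespace Groth.Agent.S2146

/-- Let `S` be a finitely presented `R`-algebra and `𝔮` a prime of `S` over `𝔭` such that the induced
map `R_𝔭 → S_𝔮` is bijective. Then for some `f ∉ 𝔭` there is an `R_f`-algebra `C` with `S_f ≅ R_f ×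
C` as `R_f`-algebras. -/
theorem result {R S : Type u} [CommRing R] [CommRing S] [Algebra R S]
    [Algebra.FinitePresentation R S] (q : Ideal S) [q.IsPrime] (p : Ideal R) [p.IsPrime] [q.LiesOver p]
    (h : Function.Bijective (Localization.localRingHom p q (algebraMap R S) (q.over_def p))) :
    ∃ f : R, f ∉ p ∧ ∀ (Rf Sf : Type u) [CommRing Rf] [CommRing Sf] [Algebra R Rf] [IsLocalization.Away f Rf]
      [Algebra S Sf] [IsLocalization.Away (algebraMap R S f) Sf] [Algebra Rf Sf] [Algebra R Sf] [IsScalarTower R S Sf]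
      [IsScalarTower R Rf Sf],
      ∃ (C : Type u) (_ : CommRing C) (_ : Algebra Rf C), Nonempty (Sf ≃ₐ[Rf] (Rf × C)) := by
  let e : Localization.AtPrime q ≃ₐ[R] Localization.AtPrime p :=
    (AlgEquiv.ofRingEquiv (f := RingEquiv.ofBijective _ h) (fun r => by
      rw [RingEquiv.ofBijective_apply, IsScalarTower.algebraMap_apply R S (Localization.AtPrime q)]
      exact Localization.localRingHom_to_map p q (algebraMap R S) (q.over_def p) r)).symm
  obtain ⟨g, f, -, hf, ⟨σ⟩⟩ := Groth.L02.AlgSpread.exists_iso q p e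
  refine ⟨f, hf, ?_⟩
  intro Rf Sf _ _ _ _ _ _ _ _ _ _
  let ι : Localization.Away f →+* Rf :=
    IsLocalization.Away.lift f (g := algebraMap R Rf) (IsLocalization.Away.algebraMap_isUnit f)
  let χ₀ : S →+* Rf :=
    ι.comp ((σ.toAlgHom.comp (IsScalarTower.toAlgHom R S (Localization.Away g))).toRingHom)
  have hχ₀ : ∀ r, χ₀ (algebraMap R S r) = algebraMap R Rf r := fun r => by
    show ι (σ (algebraMap S _ (algebraMap R S r))) = _
    rw [← IsScalarTower.algebraMap_apply, σ.commutes, IsLocalization.Away.lift_eq]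
  have hu : IsUnit (χ₀ (algebraMap R S f)) := hχ₀ f ▸ IsLocalization.Away.algebraMap_isUnit f
  let χ : Sf →+* Rf := IsLocalization.Away.lift (algebraMap R S f) hu
  have hχ : ∀ r : Rf, χ (algebraMap Rf Sf r) = r := by
    suffices χ.comp (algebraMap Rf Sf) = RingHom.id Rf from RingHom.congr_fun this
    refine IsLocalization.ringHom_ext (Submonoid.powers f) (RingHom.ext fun r => ?_)
    simp only [RingHom.comp_apply, RingHom.id_apply]
    rw [← IsScalarTower.algebraMap_apply, IsScalarTower.algebraMap_apply R S Sf,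
      IsLocalization.Away.lift_eq, hχ₀]
  set G := algebraMap S Sf g
  have hG : IsUnit (χ G) := by
    rw [IsLocalization.Away.lift_eq]
    exact ((IsLocalization.Away.algebraMap_isUnit g).map σ).map ι
  have hker : ∀ x, χ x = 0 → ∃ M : ℕ, G ^ M * x = 0 := by
    intro x hx
    obtain ⟨⟨s, ⟨_, n, rfl⟩⟩, hs⟩ := IsLocalization.surj (Submonoid.powers (algebraMap R S f)) x
    have h0 : χ₀ s = 0 := by
      have h1 := congrArg χ hs
      rw [map_mul, hx, zero_mul, IsLocalization.Away.lift_eq] at h1
      exact h1.symm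
    obtain ⟨⟨t, ⟨_, j, rfl⟩⟩, ht⟩ :=
      IsLocalization.surj (Submonoid.powers f) (σ (algebraMap S (Localization.Away g) s))
    have h2 : algebraMap R Rf t = 0 := by
      have h1 := congrArg ι ht
      rw [map_mul, show ι (σ (algebraMap S (Localization.Away g) s)) = 0 from h0, zero_mul,
        IsLocalization.Away.lift_eq] at h1
      exact h1.symm
    obtain ⟨⟨_, l, rfl⟩, hl⟩ := (IsLocalization.map_eq_zero_iff (Submonoid.powers f) Rf t).mp h2
    have h3 : algebraMap S (Localization.Away g) (algebraMap R S (f ^ (j + l)) * s) = 0 := by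
      refine σ.injective ?_
      rw [map_mul, map_mul, ← IsScalarTower.algebraMap_apply, σ.commutes, map_zero,
        show f ^ (j + l) = f ^ l * f ^ j by ring, map_mul, mul_assoc]
      rw [mul_comm (algebraMap R _ (f ^ j)), show σ (algebraMap S _ s) * algebraMap R (Localization.Away f) (f ^ j) =
        algebraMap R _ t from ht, ← map_mul]
      rw [show f ^ l * t = 0 from hl, map_zero]
    obtain ⟨⟨_, M, rfl⟩, hM⟩ := (IsLocalization.map_eq_zero_iff (Submonoid.powers g) (Localization.Away g) _).mp h3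
    refine ⟨M, ?_⟩
    have h4 := congrArg (algebraMap S Sf) hM
    rw [map_mul, map_mul, map_zero, map_pow, map_pow, map_pow, ← hs, map_pow] at h4
    have hfu := IsLocalization.Away.algebraMap_isUnit (S := Sf) (algebraMap R S f)
    refine ((hfu.pow n).mul (hfu.pow (j + l))).mul_left_eq_zero.mp ?_
    rw [← h4]
    ring
  obtain ⟨v, hv⟩ := hG.exists_left_inv
  set w := G * algebraMap Rf Sf v
  obtain ⟨N, hN⟩ := hker (1 - w) (by rw [map_sub, map_one, map_mul, hχ, mul_comm, hv, sub_self])
  set E := w ^ N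
  have hwG : G ^ N * w = G ^ N := (sub_eq_zero.mp (by rw [← hN]; ring)).symm
  have hwE : ∀ j, G ^ N * w ^ j = G ^ N := fun j => by
    induction j with
    | zero => rw [pow_zero, mul_one]
    | succ j ih => rw [pow_succ', ← mul_assoc, hwG, ih]
  have hE : E * E = E := by
    calc E * E = (G ^ N * w ^ N) * algebraMap Rf Sf v ^ N := by
          simp only [E, w, mul_pow]; ring
      _ = E := by rw [hwE]; simp only [E, w, mul_pow]
  have hχE : χ E = 1 := by rw [map_pow, map_mul, hχ, mul_comm, hv, one_pow]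
  have hEkill : ∀ x, χ x = 0 → E * x = 0 := fun x hx => by
    obtain ⟨M, hM⟩ := hker x hx
    have hEw : E * w ^ M = E := by
      calc E * w ^ M = (G ^ N * w ^ M) * algebraMap Rf Sf v ^ N := by
            simp only [E, w, mul_pow]; ring
        _ = E := by rw [hwE]; simp only [E, w, mul_pow]
    calc E * x = E * (algebraMap Rf Sf v ^ M * (G ^ M * x)) := by
          conv_lhs => rw [← hEw]
          simp only [w, mul_pow]; ring
      _ = 0 := by rw [hM, mul_zero, mul_zero]
  refine ⟨Sf ⧸ Ideal.span {E}, inferInstance, inferInstance, ⟨?_⟩⟩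
  let χA : Sf →ₐ[Rf] Rf := { χ with commutes' := hχ }
  let Φ : Sf →ₐ[Rf] Rf × (Sf ⧸ Ideal.span {E}) :=
    χA.prod (Ideal.Quotient.mkₐ Rf (Ideal.span {E}))
  refine AlgEquiv.ofBijective Φ ⟨(injective_iff_map_eq_zero Φ).mpr fun x hx => ?_, fun y => ?_⟩
  · obtain ⟨hx1, hx2⟩ := Prod.ext_iff.mp hx
    obtain ⟨z, rfl⟩ := Ideal.mem_span_singleton'.mp (Ideal.Quotient.eq_zero_iff_mem.mp hx2)
    have := hEkill _ hx1
    rwa [mul_left_comm, hE] at this
  · obtain ⟨r, c⟩ := y
    obtain ⟨c, rfl⟩ := Ideal.Quotient.mk_surjective c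
    refine ⟨E * algebraMap Rf Sf r + (1 - E) * c, Prod.ext ?_ ?_⟩
    · show χ _ = r
      rw [map_add, map_mul, map_mul, map_sub, map_one, hχE, hχ, sub_self, zero_mul, add_zero, one_mul]
    · show Ideal.Quotient.mk _ _ = Ideal.Quotient.mk _ c
      rw [Ideal.Quotient.eq, Ideal.mem_span_singleton']
      exact ⟨algebraMap Rf Sf r - c, by ring⟩

end Groth.Agent.S2146
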