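import Groth.Statements.S2148
import Groth.Agent.L06.PBasisField

set_option autoImplicit false
universe u
open CAlg

namespace Groth.Agent.S2148

/-- Let `k` be a perfect field of characteristic `p > 0` and `K` an extension field of `k`. For `a ∈ K`,
the differential `da` vanishes in `Ω_{K/k}` if and only if `a` is a `p`-th power in `K`. -/
theorem result {k K : Type u} [Field k] [Field K] [Algebra k K] (p : ℕ) [Fact p.Prime]
    [CharP k p] [PerfectRing k p] (a : K) :
    KaehlerDifferential.D k K a = 0 ↔ ∃ b : K, b ^ p = a := by
  haveI : CharP K p := charP_of_injective_algebraMap (algebraMap k K).injective p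
  constructor
  · intro ha
    by_contra hne
    have hna : a ∉ IntermediateField.adjoin k ((Set.range fun y : K => y ^ p) ∪ ∅) := by
      intro hmem
      apply hne
      clear ha hne
      rw [Set.union_empty] at hmem
      induction hmem using IntermediateField.adjoin_induction with
      | mem y hy => exact hy
      | algebraMap c =>
        obtain ⟨d, rfl⟩ := surjective_frobenius k p c
        exact ⟨algebraMap k K d, by rw [frobenius_def, map_pow]⟩
      | add x y _ _ hx hy =>
        obtain ⟨b, rfl⟩ := hx
        obtain ⟨b', rfl⟩ := hy
        exact ⟨b + b', add_pow_char b b' p⟩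
      | inv x _ hx =>
        obtain ⟨b, rfl⟩ := hx
        exact ⟨b⁻¹, inv_pow b p⟩
      | mul x y _ _ hx hy =>
        obtain ⟨b, rfl⟩ := hx
        obtain ⟨b', rfl⟩ := hy
        exact ⟨b * b', mul_pow b b' p⟩
    obtain ⟨D, -, hD⟩ := Groth.L06.PBasisField.exists_der p hna
    have := congrArg D.liftKaehlerDifferential ha
    rw [Derivation.liftKaehlerDifferential_comp_D, map_zero, hD] at this
    exact one_ne_zero this
  · rintro ⟨b, rfl⟩
    rw [Derivation.leibniz_pow, ← Nat.cast_smul_eq_nsmul K, CharP.cast_eq_zero, zero_smul]

end Groth.Agent.S2148
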