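import Groth.Statements.S2154
import Groth.Agent.L19.Limit.Fixed

set_option autoImplicit false
set_option backward.isDefEq.respectTransparency.types false
set_option backward.isDefEq.respectTransparency false
universe u
open CategoryTheory AlgebraicGeometry
open Lim

namespace Groth.Agent.S2154

/-- Let `S` be quasi-compact and quasi-separated and `X = lim X_i` a cofiltered limit of quasi-compact
quasi-separated `S`-schemes locally of finite type over `S`, with finite transition morphisms. If `X
→ S` is integral then `X_i → S` is finite for all `i` beyond some index. -/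
theorem result {I : Type u} [SmallCategory I] [IsCofiltered I] (S : Scheme.{u}) [CompactSpace S]
    [QuasiSeparatedSpace S] (D : I ⥤ Over S) (c : Limits.Cone D) (hc : Limits.IsLimit c)
    [∀ (i j : I) (f : i ⟶ j), IsFinite (D.map f).left] [∀ i, CompactSpace (D.obj i).left]
    [∀ i, QuasiSeparatedSpace (D.obj i).left] [∀ i, LocallyOfFiniteType (D.obj i).hom] [IsIntegralHom c.pt.hom] :
    ∃ i₀ : I, ∀ (i : I) (_ : i ⟶ i₀), IsFinite (D.obj i).hom := by
  obtain ⟨i₀⟩ := IsCofiltered.nonempty (C := I)
  haveI : IsConnected I := IsCofiltered.isConnected I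
  let D' := D ⋙ Over.forget S
  haveI : ∀ {i j} (f : i ⟶ j), IsFinite (D'.map f) := fun f => inferInstanceAs (IsFinite (D.map f).left)
  haveI : ∀ {i j} (f : i ⟶ j), IsAffineHom (D'.map f) := fun f => inferInstance
  haveI : CompactSpace (D'.obj i₀) := inferInstanceAs (CompactSpace (D.obj i₀).left)
  haveI : QuasiSeparatedSpace (D'.obj i₀) := inferInstanceAs (QuasiSeparatedSpace (D.obj i₀).left)
  let a : D'.obj i₀ ⟶ S := (D.obj i₀).hom
  haveI : QuasiCompact a := quasiCompact_of_compactSpace a
  haveI : LocallyOfFiniteType a := inferInstanceAs (LocallyOfFiniteType (D.obj i₀).hom)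
  haveI : IsIntegralHom (((Over.forget S).mapCone c).π.app i₀ ≫ a) := by
    show IsIntegralHom ((c.π.app i₀).left ≫ (D.obj i₀).hom)
    rw [Over.w (c.π.app i₀)]
    exact ‹IsIntegralHom c.pt.hom›
  obtain ⟨j, φ, hj⟩ := Groth.L19.Limit.exists_isFinite
    (c := (Over.forget S).mapCone c) (Limits.isLimitOfPreserves (Over.forget S) hc) (fun f => inferInstance) a
  refine ⟨j, fun i b => ?_⟩
  rw [← Over.w (D.map b), ← Over.w (D.map φ)]
  exact MorphismProperty.comp_mem _ _ _ (inferInstanceAs (IsFinite (D.map b).left)) hj

end Groth.Agent.S2154
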