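import Groth.Statements.S2158
import Groth.Agent.L21.Disc.OmegaStalk

set_option autoImplicit false
set_option linter.style.haveILetI false
universe u
open CategoryTheory AlgebraicGeometry
open Mor

namespace Groth.Agent.S2158

/-- Let `f : X → S` be locally of finite type and quasi-separated (so that the diagonal is quasi-compact
and the prelude's sheaf of differentials is the conormal sheaf of the diagonal near every point), `x
∈ X`, `s = f(x)`. Then the stalk `Ω_{X/S,x}` vanishes if and only if `𝔪_s O_{X,x} = 𝔪_x` and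
`κ(x)/κ(s)` is a finite separable extension. -/
theorem result {X S : Scheme.{u}} (f : X ⟶ S) [LocallyOfFiniteType f] [QuasiSeparated f] (x : X) :
    Subsingleton ((Omega.sheaf f).presheaf.stalk x) ↔
      ((IsLocalRing.maximalIdeal (S.presheaf.stalk (f.base x))).map (f.stalkMap x).hom =
          IsLocalRing.maximalIdeal (X.presheaf.stalk x) ∧
        (f.residueFieldMap x).hom.Finite ∧
        @Algebra.IsSeparable (S.residueField (f.base x)) (X.residueField x) _ _ (f.residueFieldMap x).hom.toAlgebra) := by
  classical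
  letI := (f.stalkMap x).hom.toAlgebra
  haveI : IsLocalHom (algebraMap (S.presheaf.stalk (f x)) (X.presheaf.stalk x)) :=
    inferInstanceAs (IsLocalHom (f.stalkMap x).hom)
  haveI : Algebra.EssFiniteType (S.presheaf.stalk (f x)) (X.presheaf.stalk x) := by
    obtain ⟨U, hU, hxU, -⟩ := exists_isAffineOpen_mem_and_subset (x := f x) (U := ⊤) trivial
    obtain ⟨V, hV, hxV, hle⟩ := exists_isAffineOpen_mem_and_subset (x := x) (U := f ⁻¹ᵁ U) hxU
    have e : V ≤ f ⁻¹ᵁ U := fun y hy => hle hy
    letI : Algebra Γ(S, U) Γ(X, V) := (f.appLE U V e).hom.toAlgebra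
    haveI : Algebra.FiniteType Γ(S, U) Γ(X, V) := f.finiteType_appLE hU hV e
    letI := S.presheaf.algebra_section_stalk (⟨f x, hxU⟩ : U)
    letI := X.presheaf.algebra_section_stalk (⟨x, hxV⟩ : V)
    haveI := hV.isLocalization_stalk ⟨x, hxV⟩
    letI : Algebra Γ(S, U) (X.presheaf.stalk x) :=
      ((algebraMap Γ(X, V) (X.presheaf.stalk x)).comp (algebraMap Γ(S, U) Γ(X, V))).toAlgebra
    haveI : IsScalarTower Γ(S, U) Γ(X, V) (X.presheaf.stalk x) := IsScalarTower.of_algebraMap_eq' rfl
    haveI : IsScalarTower Γ(S, U) (S.presheaf.stalk (f x)) (X.presheaf.stalk x) :=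
      IsScalarTower.of_algebraMap_eq fun r => by
        show X.presheaf.germ V x hxV (f.appLE U V e r) = f.stalkMap x (S.presheaf.germ U (f x) hxU r)
        rw [Scheme.Hom.germ_stalkMap_apply]
        exact X.presheaf.germ_res_apply (homOfLE e) x hxV (f.app U r)
    haveI : Algebra.EssFiniteType Γ(X, V) (X.presheaf.stalk x) :=
      Algebra.EssFiniteType.of_isLocalization _ (hV.primeIdealOf ⟨x, hxV⟩).asIdeal.primeCompl
    haveI : Algebra.EssFiniteType Γ(S, U) (X.presheaf.stalk x) := Algebra.EssFiniteType.comp _ Γ(X, V) _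
    exact Algebra.EssFiniteType.of_comp Γ(S, U) _ _
  letI : Algebra (S.residueField (f x)) (X.residueField x) := (f.residueFieldMap x).hom.toAlgebra
  obtain ⟨e⟩ := Groth.L21.Disc.nonempty_stalk_omega f x
  have hsep : @Algebra.IsSeparable (S.residueField (f x)) (X.residueField x) _ _ (f.residueFieldMap x).hom.toAlgebra ↔
      Algebra.IsSeparable (IsLocalRing.ResidueField (S.presheaf.stalk (f x)))
        (IsLocalRing.ResidueField (X.presheaf.stalk x)) := Iff.of_eq (congrArg (fun i : Algebra (IsLocalRing.ResidueField (S.presheaf.stalk (f x)))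
      (IsLocalRing.ResidueField (X.presheaf.stalk x)) => @Algebra.IsSeparable _ _ _ _ i)
      (Algebra.algebra_ext _ _ fun r => by
        obtain ⟨r, rfl⟩ := IsLocalRing.residue_surjective (R := S.presheaf.stalk (f x)) r
        rfl))
  haveI : Algebra.EssFiniteType (S.presheaf.stalk (f x)) (X.presheaf.stalk x) := inferInstance
  rw [hsep, ← e.toEquiv.subsingleton_congr, ← Algebra.formallyUnramified_iff,
    Algebra.FormallyUnramified.iff_map_maximalIdeal_eq]
  constructor
  · rintro ⟨h1, h2⟩
    haveI : Algebra.FormallyUnramified (S.presheaf.stalk (f x)) (X.presheaf.stalk x) :=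
      Algebra.FormallyUnramified.iff_map_maximalIdeal_eq.2 ⟨h1, h2⟩
    refine ⟨h2, ?_, h1⟩
    have h := (inferInstance : Module.Finite (IsLocalRing.ResidueField (S.presheaf.stalk (f x)))
      (IsLocalRing.ResidueField (X.presheaf.stalk x)))
    rw [← RingHom.finite_algebraMap] at h
    have e' : algebraMap (IsLocalRing.ResidueField (S.presheaf.stalk (f x)))
        (IsLocalRing.ResidueField (X.presheaf.stalk x)) = (f.residueFieldMap x).hom := RingHom.ext fun r => by
      obtain ⟨r, rfl⟩ := IsLocalRing.residue_surjective (R := S.presheaf.stalk (f x)) r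
      rfl
    exact Eq.mp (congrArg RingHom.Finite e') h
  · rintro ⟨h2, -, h1⟩
    exact ⟨h1, h2⟩

end Groth.Agent.S2158
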