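import Groth.Statements.S2159
import Mathlib.Tactic
import Mathlib.RingTheory.Spectrum.Prime.Module
import Mathlib.RingTheory.LocalRing.Module
import Mathlib.RingTheory.Localization.AtPrime.Basic
import Mathlib.RingTheory.Ideal.KrullsHeightTheorem
import Mathlib.LinearAlgebra.Matrix.NonsingularInverse
import Mathlib.RingTheory.TensorProduct.Quotient
import Mathlib.RingTheory.Flat.FaithfullyFlat.Basic
import Mathlib.LinearAlgebra.TensorProduct.Prod
import Mathlib.RingTheory.LocalProperties.Reduced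

set_option autoImplicit false
universe u
open CAlg

namespace Groth.Agent.S2159

/-- Given surjections `p₁ : P₁ → M` and `p₂ : P₂ → M` from projective modules, with kernels `K` and `L`,
there is an isomorphism `K ⊕ P₂ ≅ L ⊕ P₁`. -/
theorem result {R M P₁ P₂ : Type u} [CommRing R] [AddCommGroup M] [Module R M] [AddCommGroup P₁] [Module R P₁]
    [Module.Projective R P₁] [AddCommGroup P₂] [Module R P₂] [Module.Projective R P₂] (p₁ : P₁ →ₗ[R] M) (p₂ : P₂ →ₗ[R] M)
    (h₁ : Function.Surjective p₁) (h₂ : Function.Surjective p₂) :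
    Nonempty ((LinearMap.ker p₁ × P₂) ≃ₗ[R] (LinearMap.ker p₂ × P₁)) := by
  obtain ⟨s, hs⟩ := Module.projective_lifting_property p₁ p₂ h₁
  obtain ⟨t, ht⟩ := Module.projective_lifting_property p₂ p₁ h₂
  have hs' : ∀ b, p₁ (s b) = p₂ b := LinearMap.congr_fun hs
  have ht' : ∀ a, p₂ (t a) = p₁ a := LinearMap.congr_fun ht
  let F : (LinearMap.ker p₁ × P₂) →ₗ[R] (LinearMap.ker p₂ × P₁) :=
    LinearMap.prod
      (LinearMap.codRestrict _ (LinearMap.snd R _ _ - t.comp ((LinearMap.ker p₁).subtype.comp (LinearMap.fst R _ _) + s.comp (LinearMap.snd R _ _)))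
        (fun x => by simp [ht', hs', LinearMap.mem_ker.mp x.1.2]))
      ((LinearMap.ker p₁).subtype.comp (LinearMap.fst R _ _) + s.comp (LinearMap.snd R _ _))
  let G : (LinearMap.ker p₂ × P₁) →ₗ[R] (LinearMap.ker p₁ × P₂) :=
    LinearMap.prod
      (LinearMap.codRestrict _ (LinearMap.snd R _ _ - s.comp ((LinearMap.ker p₂).subtype.comp (LinearMap.fst R _ _) + t.comp (LinearMap.snd R _ _)))
        (fun x => by simp [ht', hs', LinearMap.mem_ker.mp x.1.2]))
      ((LinearMap.ker p₂).subtype.comp (LinearMap.fst R _ _) + t.comp (LinearMap.snd R _ _))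
  refine ⟨LinearEquiv.ofLinear F G ?_ ?_⟩
  · apply LinearMap.ext; rintro ⟨⟨l, hl⟩, a⟩
    simp [F, G, Prod.ext_iff, Subtype.ext_iff, map_add]
  · apply LinearMap.ext; rintro ⟨⟨k, hk⟩, b⟩
    simp [F, G, Prod.ext_iff, Subtype.ext_iff, map_add]

end Groth.Agent.S2159
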