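import Groth.Statements.S2160
import Mathlib.Tactic
import Mathlib.RingTheory.Spectrum.Prime.Module
import Mathlib.RingTheory.LocalRing.Module
import Mathlib.RingTheory.Localization.AtPrime.Basic
import Mathlib.RingTheory.Ideal.KrullsHeightTheorem
import Mathlib.LinearAlgebra.Matrix.NonsingularInverse
import Mathlib.RingTheory.TensorProduct.Quotient
import Mathlib.RingTheory.Flat.FaithfullyFlat.Basic
import Mathlib.LinearAlgebra.TensorProduct.Prod
import Mathlib.RingTheory.LocalProperties.Reduced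

set_option autoImplicit false
universe u
open CAlg

namespace Groth.Agent.S2160

/-- Let `R` be a Noetherian local domain of Krull dimension at least `2`. Then every nonempty open
subset of `Spec R` is infinite. -/
theorem result {R : Type u} [CommRing R] [IsDomain R] [IsLocalRing R] [IsNoetherianRing R]
    (hdim : 2 ≤ ringKrullDim R) (U : Set (PrimeSpectrum R)) (hU : IsOpen U) (hne : U.Nonempty) : U.Infinite := by
  classical
  intro hfin
  obtain ⟨x₀, hx₀⟩ := hne
  obtain ⟨_, ⟨f, rfl⟩, hf0, hfU⟩ := PrimeSpectrum.isTopologicalBasis_basic_opens.exists_subset_of_mem_open hx₀ hU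
  have hfne : f ≠ 0 := fun h => (show f ∉ x₀.asIdeal from hf0) (h ▸ zero_mem _)
  have hT : (PrimeSpectrum.asIdeal '' U ∪ (Ideal.span {f}).minimalPrimes).Finite :=
    (hfin.image _).union (Ideal.span {f}).finite_minimalPrimes_of_isNoetherianRing
  have hT' : {p : Ideal R | p.IsPrime ∧ p.height ≤ 1}.Finite := by
    refine (hT.union (Set.finite_singleton ⊥)).subset fun p hp => ?_
    obtain ⟨hpp, hph⟩ := hp
    by_cases hfp : f ∈ p
    · left; right
      refine ⟨⟨hpp, (Ideal.span_singleton_le_iff_mem _).mpr hfp⟩, fun Q hQ hQp => ?_⟩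
      by_contra hlt
      have : Q.IsPrime := hQ.1
      have h1 : Q.height < p.height := Ideal.height_strict_mono_of_isPrime (lt_of_le_not_ge hQp hlt)
      have h2 : Q ≠ ⊥ := fun h => hfne (by simpa [h] using hQ.2)
      have h3 : (⊥ : Ideal R).height < Q.height := Ideal.height_strict_mono_of_isPrime (bot_lt_iff_ne_bot.mpr h2)
      exact absurd ((Order.one_le_iff_pos.mpr (lt_of_le_of_lt bot_le h3)).trans_lt (h1.trans_le hph)) (lt_irrefl _)
    · left; left
      exact ⟨⟨p, hpp⟩, hfU hfp, rfl⟩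
  have hsub : (IsLocalRing.maximalIdeal R : Set R) ⊆ ⋃ p ∈ (hT'.toFinset : Set (Ideal R)), (p : Set R) := by
    intro x hx
    have hne' : Ideal.span {x} ≠ ⊤ := by
      rw [Ne, Ideal.span_singleton_eq_top]; exact hx
    obtain ⟨p, hp⟩ := (Ideal.span {x}).nonempty_minimalPrimes hne'
    simp only [Set.mem_iUnion, Set.Finite.coe_toFinset]
    exact ⟨p, ⟨hp.1.1, Ideal.height_le_one_of_isPrincipal_of_mem_minimalPrimes _ p hp⟩, hp.1.2 (Ideal.mem_span_singleton_self x)⟩
  obtain ⟨p, hp, hle⟩ := (Ideal.subset_union_prime (f := fun p : Ideal R => p) ⊥ ⊥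
    (fun p hp _ _ => (hT'.mem_toFinset.mp hp).1)).mp hsub
  obtain ⟨hpp, hph⟩ := hT'.mem_toFinset.mp hp
  have := Ideal.height_mono hle
  rw [← IsLocalRing.maximalIdeal_height_eq_ringKrullDim] at hdim
  have h2 : (2 : ℕ∞) ≤ 1 := le_trans (WithBot.coe_le_coe.mp hdim) (this.trans hph)
  exact absurd h2 (by decide)

end Groth.Agent.S2160
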