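import Groth.Statements.S2161
import Groth.Agent.L01.GenHomeo
import Mathlib.FieldTheory.PurelyInseparable.PerfectClosure
import Mathlib.Algebra.Polynomial.Lifts

set_option autoImplicit false
universe u
open CAlg

namespace Groth.Agent.S2161

/-- Let R → S be a ring map whose kernel consists of nilpotent elements, and suppose S is generated as
an R-algebra by elements x for which some power (T − x)ⁿ, n > 0, is the image of a polynomial over
R. Then Spec S → Spec R is a homeomorphism, and for every prime 𝔮 of S over 𝔭 the extension
κ(𝔮)/κ(𝔭) is purely inseparable. -/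
theorem result {R S : Type u} [CommRing R] [CommRing S] [Algebra R S]
    (hker : ∀ r : R, algebraMap R S r = 0 → IsNilpotent r) (G : Set S) (hG : Algebra.adjoin R G = ⊤)
    (hpow : ∀ x ∈ G, ∃ (n : ℕ) (P : Polynomial R), 0 < n ∧
      Polynomial.map (algebraMap R S) P = (Polynomial.X - Polynomial.C x) ^ n) :
    IsHomeomorph (PrimeSpectrum.comap (algebraMap R S)) ∧
      ∀ (q : Ideal S) [q.IsPrime] (p : Ideal R) [p.IsPrime] [q.LiesOver p],
        @IsPurelyInseparable p.ResidueField q.ResidueField _ _
          (Ideal.ResidueField.mapₐ p q (Algebra.ofId R S) (q.over_def p)).toRingHom.toAlgebra := by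
  classical
  refine ⟨Groth.L01.GenHomeo.isHomeomorph_comap hG (fun x hx => ?_) hker (fun x hx K _ f g hfg => ?_), fun q _ p _ _ => ?_⟩
  · obtain ⟨n, P, hn, hP⟩ := hpow x hx
    rcases subsingleton_or_nontrivial S with hS | hS
    · rw [Subsingleton.elim x 0]; exact isIntegral_zero
    obtain ⟨Q, hQ, -, hQm⟩ := Polynomial.lifts_and_natDegree_eq_and_monic ((Polynomial.mem_lifts _).mpr ⟨P, hP⟩) ((Polynomial.monic_X_sub_C x).pow n)
    refine ⟨Q, hQm, ?_⟩
    rw [← Polynomial.eval_map, hQ]
    simp [zero_pow hn.ne']
  · obtain ⟨n, P, hn, hP⟩ := hpow x hx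
    have h1 : (Polynomial.X - Polynomial.C (f x)) ^ n = (Polynomial.X - Polynomial.C (g x)) ^ n := by
      have hf := congrArg (Polynomial.map f) hP
      have hg := congrArg (Polynomial.map g) hP
      rw [Polynomial.map_map, hfg] at hf
      rw [Polynomial.map_map] at hg
      simpa using hf.symm.trans hg
    have h2 := congrArg (Polynomial.eval (f x)) h1
    simp only [Polynomial.eval_pow, Polynomial.eval_sub, Polynomial.eval_X, Polynomial.eval_C, sub_self, zero_pow hn.ne'] at h2
    exact sub_eq_zero.mp ((pow_eq_zero_iff hn.ne').mp h2.symm)
  · let i := (Ideal.ResidueField.mapₐ p q (Algebra.ofId R S) (q.over_def p)).toRingHom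
    letI := i.toAlgebra
    show IsPurelyInseparable p.ResidueField q.ResidueField
    have hi : ∀ r, i (algebraMap R _ r) = algebraMap S _ (algebraMap R S r) := fun r => Ideal.ResidueField.map_algebraMap _ _ _ _ r
    let F := perfectClosure p.ResidueField q.ResidueField
    have hS : ∀ s : S, algebraMap S q.ResidueField s ∈ F := by
      intro s
      have hs : s ∈ Algebra.adjoin R G := hG ▸ Algebra.mem_top
      induction hs using Algebra.adjoin_induction with
      | mem x hx =>
        obtain ⟨n, P, hn, hP⟩ := hpow x hx
        let y := algebraMap S q.ResidueField x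
        have hmap : (P.map (algebraMap R p.ResidueField)).map i = (Polynomial.X - Polynomial.C y) ^ n := by
          rw [Polynomial.map_map, show i.comp (algebraMap R p.ResidueField) = (algebraMap S q.ResidueField).comp (algebraMap R S) from RingHom.ext hi,
            ← Polynomial.map_map, hP]
          simp [y]
        have hdvd : minpoly p.ResidueField y ∣ P.map (algebraMap R p.ResidueField) := by
          refine minpoly.dvd _ _ ?_
          rw [Polynomial.aeval_def, ← Polynomial.eval_map]
          show Polynomial.eval y ((P.map (algebraMap R p.ResidueField)).map i) = 0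
          rw [hmap]
          simp [zero_pow hn.ne']
        have hint : IsIntegral p.ResidueField y := by
          refine IsAlgebraic.isIntegral ⟨P.map (algebraMap R p.ResidueField), fun h0 => ?_, ?_⟩
          · rw [h0, Polynomial.map_zero] at hmap
            exact pow_ne_zero n (Polynomial.X_sub_C_ne_zero y) hmap.symm
          · rw [Polynomial.aeval_def, ← Polynomial.eval_map]
            show Polynomial.eval y ((P.map (algebraMap R p.ResidueField)).map i) = 0
            rw [hmap]
            simp [zero_pow hn.ne']
        obtain ⟨j, -, hj⟩ := (dvd_prime_pow (Polynomial.prime_X_sub_C y) n).mp (hmap ▸ Polynomial.map_dvd i hdvd)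
        have heq := Polynomial.eq_of_monic_of_associated ((minpoly.monic hint).map i) ((Polynomial.monic_X_sub_C y).pow j) hj
        have hj0 : j ≠ 0 := fun h0 => by
          have := minpoly.natDegree_pos hint
          rw [← Polynomial.natDegree_map i, heq, h0, pow_zero, Polynomial.natDegree_one] at this
          exact lt_irrefl 0 this
        have hmap' : (minpoly p.ResidueField y).map (algebraMap p.ResidueField q.ResidueField) = (Polynomial.X - Polynomial.C y) ^ j := heq
        rw [mem_perfectClosure_iff_natSepDegree_eq_one, Polynomial.natSepDegree_eq_of_splits (minpoly p.ResidueField y) (E := q.ResidueField)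
          (by rw [hmap']; exact (Polynomial.Splits.X_sub_C y).pow j), Polynomial.aroots_def, hmap', Polynomial.roots_pow,
          Polynomial.roots_X_sub_C, Multiset.toFinset_nsmul _ _ hj0, Multiset.toFinset_singleton, Finset.card_singleton]
      | algebraMap r => rw [← hi]; exact F.algebraMap_mem _
      | add a b _ _ ha hb => rw [map_add]; exact add_mem ha hb
      | mul a b _ _ ha hb => rw [map_mul]; exact mul_mem ha hb
    rw [isPurelyInseparable_iff_perfectClosure_eq_top, eq_top_iff]
    intro z _
    obtain ⟨b, c, hc, rfl⟩ := IsFractionRing.div_surjective (A := S ⧸ q) z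
    obtain ⟨b, rfl⟩ := Ideal.Quotient.mk_surjective b
    obtain ⟨c, rfl⟩ := Ideal.Quotient.mk_surjective c
    exact div_mem (hS b) (hS c)

end Groth.Agent.S2161
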