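import Groth.Statements.S2163
import Mathlib.Tactic
import Mathlib.RingTheory.Spectrum.Prime.Module
import Mathlib.RingTheory.LocalRing.Module
import Mathlib.RingTheory.Localization.AtPrime.Basic
import Mathlib.RingTheory.Ideal.KrullsHeightTheorem
import Mathlib.LinearAlgebra.Matrix.NonsingularInverse
import Mathlib.RingTheory.TensorProduct.Quotient
import Mathlib.RingTheory.Flat.FaithfullyFlat.Basic
import Mathlib.LinearAlgebra.TensorProduct.Prod
import Mathlib.RingTheory.LocalProperties.Reduced
import Mathlib.RingTheory.Finiteness.ModuleFinitePresentation
import Groth.Agent.L02.Dominate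
import Groth.Agent.L02.Flat
import Groth.Agent.L02.CountableML

set_option autoImplicit false
universe u
open CAlg

namespace Groth.Agent.S2163

/-- A ring `R` is coherent — every finitely generated ideal is a finitely presented module — if and only
if for every index set `A` (in the same universe) the product module `R^A` is flat. -/
theorem result {R : Type u} [CommRing R] :
    (∀ I : Ideal R, I.FG → Module.FinitePresentation R I) ↔ ∀ (A : Type u), Module.Flat R (A → R) := by
  open TensorProduct in
  classical
  constructor
  · intro hR A
    rw [Module.Flat.iff_rTensor_injective]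
    intro I hI
    have : Module.FinitePresentation R I := hR I hI
    rw [injective_iff_map_eq_zero]
    intro x hx
    apply (Groth.L02.piRightHom_bijective_of_finitePresentation (M := I) (Q := fun _ : A => R)).1
    rw [map_zero]
    funext a
    have h1 := congrFun ((congrArg (TensorProduct.piRightHom R R R (fun _ : A => R)) hx).trans (map_zero _)) a
    rw [Groth.L02.piRightHom_rTensor] at h1
    exact Module.Flat.rTensor_preserves_injective_linearMap I.subtype I.subtype_injective
      (h1.trans (map_zero _).symm)
  · intro h I hI
    have : Module.Finite R I := Module.Finite.iff_fg.mpr hI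
    obtain ⟨n, π, hπ⟩ := Module.Finite.exists_fin' R I
    let K := LinearMap.ker π
    have := h K
    let y : (Fin n → R) ⊗[R] (K → R) := ∑ i, (Pi.single i 1 : Fin n → R) ⊗ₜ (fun k : K => (k : Fin n → R) i)
    have hy : π.rTensor (K → R) y = 0 := by
      apply Module.Flat.rTensor_preserves_injective_linearMap (M := (K → R)) I.subtype I.subtype_injective
      rw [map_zero]
      apply (TensorProduct.lid R (K → R)).injective
      rw [map_zero]
      funext k
      have hk : π (k : Fin n → R) = 0 := k.2
      have hdec : (k : Fin n → R) = ∑ i, (k : Fin n → R) i • (Pi.single i 1 : Fin n → R) := by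
        funext l; simp [Finset.sum_apply, Pi.single_apply]
      rw [hdec, map_sum] at hk
      have hk' := congrArg Subtype.val hk
      simp only [map_smul, Submodule.coe_sum, Submodule.coe_smul, Submodule.coe_zero, smul_eq_mul] at hk'
      simp only [y, map_sum, LinearMap.rTensor_tmul, TensorProduct.lid_tmul, Finset.sum_apply,
        Pi.smul_apply, smul_eq_mul, Pi.zero_apply, Submodule.subtype_apply]
      rw [← hk']
      exact Finset.sum_congr rfl fun i _ => mul_comm _ _
    obtain ⟨z, hz⟩ := (rTensor_exact (K → R) (LinearMap.exact_subtype_ker_map π) hπ y).mp hy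
    obtain ⟨K0, hK0, z', hz'⟩ := Groth.L02.exists_fg_rTensor (N := (K → R)) (TensorProduct.comm R _ _ z)
    refine Module.finitePresentation_of_surjective π hπ ?_
    suffices hK : K = K0.map K.subtype by rw [show LinearMap.ker π = K from rfl, hK]; exact hK0.map _
    refine le_antisymm (fun v hv => ?_) (Submodule.map_subtype_le _ _)
    let ev : (K → R) →ₗ[R] R := LinearMap.proj ⟨v, hv⟩
    let Φ : (Fin n → R) ⊗[R] (K → R) →ₗ[R] (Fin n → R) :=
      (TensorProduct.rid R (Fin n → R)).toLinearMap.comp (ev.lTensor (Fin n → R))
    have hΦ : Φ y = v := by
      funext l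
      simp [Φ, ev, y, map_sum, Finset.sum_apply, Pi.single_apply]
    have key : ∀ w : (K → R) ⊗[R] K0,
        Φ (K.subtype.rTensor _ ((TensorProduct.comm R _ _) (K0.subtype.lTensor _ w))) ∈ K0.map K.subtype := by
      intro w
      induction w using TensorProduct.induction_on with
      | zero => simp
      | tmul a b =>
        simp only [LinearMap.lTensor_tmul, TensorProduct.comm_tmul, LinearMap.rTensor_tmul, Φ,
          LinearMap.comp_apply, LinearEquiv.coe_coe, TensorProduct.rid_tmul]
        exact Submodule.smul_mem _ _ ⟨_, b.2, rfl⟩
      | add a b ha hb => simp only [map_add]; exact add_mem ha hb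
    rw [← hΦ, ← hz]
    convert key z' using 3
    rw [hz']
    clear hz' hz key
    induction z using TensorProduct.induction_on with
    | zero => simp
    | tmul a b => simp
    | add a b ha hb => rw [map_add, map_add, ← ha, ← hb]

end Groth.Agent.S2163
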