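import Groth.Statements.S2165
import Groth.Agent.L07.RegularQuotient

set_option autoImplicit false
set_option linter.style.haveILetI false
universe u
open LCI

namespace Groth.Agent.S2165

/-- Let R be a regular ring, p a prime ideal of R and f_1, ..., f_r a regular sequence of R contained in
p. Then the local ring R_p/(f_1, ..., f_r) is a complete intersection: its completion is a regular
local ring modulo a regular sequence. The instance hypothesis that the quotient is local always
holds. -/
theorem result {R : Type u} [CommRing R] [IsRegularRing R]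
    (p : Ideal R) [p.IsPrime] (rs : List R) (hmem : ∀ r ∈ rs, r ∈ p)
    (hreg : RingTheory.Sequence.IsRegular R rs)
    [IsLocalRing (Localization.AtPrime p ⧸
      Ideal.map (algebraMap R (Localization.AtPrime p)) (Ideal.ofList rs))] :
    Pi1.IsCompleteIntersection (Localization.AtPrime p ⧸
      Ideal.map (algebraMap R (Localization.AtPrime p)) (Ideal.ofList rs)) := by
  let Rp := Localization.AtPrime p
  haveI : IsRegularLocalRing Rp := isRegularRing_iff.1 inferInstance p
  haveI : Module.Flat R Rp := IsLocalization.flat _ p.primeCompl
  refine Groth.L07.RegQuot.isCompleteIntersection_of_isRegularIdeal (R := Rp)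
    (Ideal.Quotient.mk _) Ideal.Quotient.mk_surjective
    ⟨rs.map (algebraMap R Rp), ⟨?_, ?_⟩, by rw [Ideal.mk_ker, Ideal.map_ofList]⟩
  · rw [RingTheory.Sequence.isWeaklyRegular_map_algebraMap_iff]
    exact Groth.L07.RegFlat.isWeaklyRegular_of_flat hreg.1
  · rw [smul_eq_mul, Ideal.mul_top, ← Ideal.map_ofList]
    refine (ne_top_of_le_ne_top (IsLocalRing.maximalIdeal.isMaximal Rp).ne_top
      ((Ideal.map_mono (Ideal.span_le.mpr hmem)).trans (le_of_eq ?_))).symm
    exact Localization.AtPrime.map_eq_maximalIdeal

end Groth.Agent.S2165
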