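import Groth.Statements.S2167
import Groth.Agent.L07.RegularQuotient

set_option autoImplicit false
set_option linter.style.haveILetI false
universe u
open LCI

namespace Groth.Agent.S2167

/-- Equivalence of (2) and (3), special case with R already a regular local ring: for a regular local
ring R and a proper ideal I, the ideal I is generated by a regular sequence if and only if the
conormal module I/I^2 can be generated by (dim R - dim R/I) elements, the inequality below being the
additive form of that count. -/
theorem result {R : Type u} [CommRing R] [IsRegularLocalRing R]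
    (I : Ideal R) (hI : I ≠ ⊤) :
    (∃ rs : List R, Ideal.ofList rs = I ∧ RingTheory.Sequence.IsRegular R rs) ↔
      (((⊤ : Submodule (R ⧸ I) I.Cotangent).spanFinrank : WithBot ℕ∞) + ringKrullDim (R ⧸ I)
        ≤ ringKrullDim R) := by
  classical
  have hIm : I ≤ IsLocalRing.maximalIdeal R := IsLocalRing.le_maximalIdeal hI
  constructor
  · rintro ⟨rs, rfl, hrs⟩
    have h1 := ringKrullDim_add_length_eq_ringKrullDim_of_isRegular rs hrs
    let π : ↥(Ideal.ofList rs) →ₗ[R] (Ideal.ofList rs).Cotangent := (Ideal.ofList rs).toCotangent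
    have hspan : Submodule.span (R ⧸ Ideal.ofList rs)
        (Set.range fun i : Fin rs.length => π ⟨rs.get i, Ideal.subset_span (List.get_mem rs i)⟩) = ⊤ := by
      rw [eq_top_iff]
      intro v _
      obtain ⟨w, rfl⟩ := (Ideal.ofList rs).toCotangent_surjective v
      have hw : (w : R) ∈ Ideal.span (Set.range rs.get) := by
        rw [← Groth.L07.RegIdeal.ofList_ofFn, List.ofFn_get]
        exact w.2
      obtain ⟨c, hc⟩ := Ideal.mem_span_range_iff_exists_fun.mp hw
      have hw' : w = ∑ i, c i • (⟨rs.get i, Ideal.subset_span (List.get_mem rs i)⟩ : ↥(Ideal.ofList rs)) := by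
        refine Subtype.ext ?_
        rw [← hc, AddSubmonoidClass.coe_finsetSum]
        rfl
      rw [hw', map_sum]
      refine sum_mem fun i _ => ?_
      rw [map_smul, ← algebraMap_smul (R ⧸ Ideal.ofList rs) (c i)]
      exact Submodule.smul_mem _ _ (Submodule.subset_span ⟨i, rfl⟩)
    have h2 : (⊤ : Submodule (R ⧸ Ideal.ofList rs) (Ideal.ofList rs).Cotangent).spanFinrank ≤ rs.length := by
      rw [← hspan]
      refine (Submodule.spanFinrank_span_le_ncard_of_finite (Set.finite_range _)).trans ?_
      rw [← Nat.card_coe_set_eq]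
      exact (Finite.card_range_le _).trans (le_of_eq (Nat.card_fin _))
    rw [add_comm] at h1
    exact (add_le_add (Nat.cast_le.mpr h2) le_rfl).trans h1.le
  · intro hle
    haveI : Module.Finite R I.Cotangent := Module.Finite.of_surjective I.toCotangent I.toCotangent_surjective
    haveI : Module.Finite (R ⧸ I) I.Cotangent := Module.Finite.of_restrictScalars_finite R _ _
    obtain ⟨s, hs, hsspan⟩ := Submodule.FG.exists_span_finset_card_eq_spanFinrank
      (Module.Finite.fg_top : (⊤ : Submodule (R ⧸ I) I.Cotangent).FG)
    choose w hw using fun v : I.Cotangent => I.toCotangent_surjective v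
    let l : List R := s.toList.map fun v => (w v : R)
    have hlI : Ideal.ofList l ≤ I := Ideal.span_le.mpr fun r hr => by
      obtain ⟨v, -, rfl⟩ := List.mem_map.mp hr
      exact (w v).2
    have hgen : I ≤ Ideal.ofList l := by
      refine Submodule.le_of_le_smul_of_le_jacobson_bot (I := IsLocalRing.maximalIdeal R)
        (IsNoetherian.noetherian I) (IsLocalRing.maximalIdeal_le_jacobson _) fun x hx => ?_
      have hmem : I.toCotangent ⟨x, hx⟩ ∈ Submodule.span (R ⧸ I) (s : Set I.Cotangent) := hsspan ▸ trivial
      obtain ⟨c, -, hc⟩ := Submodule.mem_span_finset.mp hmem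
      choose c' hc' using fun v => Ideal.Quotient.mk_surjective (c v)
      have hz : I.toCotangent (⟨x, hx⟩ - ∑ v ∈ s, c' v • w v) = 0 := by
        rw [map_sub, map_sum, sub_eq_zero, ← hc]
        refine Finset.sum_congr rfl fun v _ => ?_
        rw [map_smul, hw, ← hc' v]
        exact algebraMap_smul (R ⧸ I) (c' v) v
      rw [Ideal.toCotangent_eq_zero, AddSubgroupClass.coe_sub, AddSubmonoidClass.coe_finsetSum] at hz
      rw [show x = (∑ v ∈ s, ((c' v • w v : ↥I) : R)) + (x - ∑ v ∈ s, ((c' v • w v : ↥I) : R)) by ring]
      refine Submodule.add_mem_sup (sum_mem fun v hv => Ideal.mul_mem_left _ _ (Ideal.subset_span ?_)) ?_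
      · exact List.mem_map.mpr ⟨v, Finset.mem_toList.mpr hv, rfl⟩
      · rw [smul_eq_mul]
        exact Ideal.mul_mono hIm le_rfl ((pow_two I).le hz)
    have heq : Ideal.ofList l = I := le_antisymm hlI hgen
    refine ⟨l, heq, ⟨Groth.L07.RegQuot.isWeaklyRegular_of_dim l (fun r hr => hIm (heq ▸ Ideal.subset_span hr)) ?_, ?_⟩⟩
    · rw [ringKrullDim_eq_of_ringEquiv (Ideal.quotEquivOfEq heq), List.length_map, Finset.length_toList, hs, add_comm]
      exact hle
    · rw [heq, smul_eq_mul, Ideal.mul_top]
      exact hI.symm

end Groth.Agent.S2167
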