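import Groth.Statements.S2170
import Groth.Agent.L26.QForm
import Mathlib.LinearAlgebra.Span.Basic

set_option autoImplicit false
open Finset
open Models

namespace Groth.Agent.S2170

/-- Let A be a symmetric real n × n matrix with non-negative off-diagonal entries and m a vector with
positive entries such that for every i, ∑_{j ≠ i} A_{ij} m_j ≤ −A_{ii} m_i. Then the kernel of A is
the span of the vectors equal to m on an index set I and zero off I, for those I such that A_{ij} =
0 whenever i ∈ I and j ∉ I and such that equality holds in the above inequality for every i ∈ I. The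
published statement omits the symmetry of A (without which it fails) and applies it only to
symmetric matrices; stated here with A symmetric. -/
theorem result {n : ℕ} (A : Matrix (Fin n) (Fin n) ℝ) (m : Fin n → ℝ)
    (hsymm : A.IsSymm) (hA : ∀ i j, i ≠ j → 0 ≤ A i j) (hm : ∀ i, 0 < m i)
    (hle : ∀ i, ∑ j ∈ univ.erase i, A i j * m j ≤ -(A i i * m i)) :
    LinearMap.ker (Matrix.mulVecLin A) = Submodule.span ℝ
      {x : Fin n → ℝ | ∃ I : Finset (Fin n), (∀ i ∈ I, ∀ j ∉ I, A i j = 0) ∧
        (∀ i ∈ I, ∑ j ∈ univ.erase i, A i j * m j = -(A i i * m i)) ∧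
        x = fun i => if i ∈ I then m i else 0} := by
  classical
  have hle' : ∀ i, ∑ j, A i j * m j ≤ 0 := fun i => by
    rw [← add_sum_erase univ _ (mem_univ i)]; linarith [hle i]
  have herase : ∀ i, (∑ j ∈ univ.erase i, A i j * m j = -(A i i * m i)) ↔ ∑ j, A i j * m j = 0 := by
    intro i; rw [← add_sum_erase univ (fun j => A i j * m j) (mem_univ i)]
    exact ⟨fun h => by linarith, fun h => by linarith⟩
  apply le_antisymm
  · intro x hx
    have hx' : A.mulVec x = 0 := by simpa using hx
    let t : Fin n → ℝ := fun i => x i / m i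
    have hxt : ∀ i, t i * m i = x i := fun i => div_mul_cancel₀ _ (hm i).ne'
    obtain ⟨he, hz⟩ := Groth.L26.QForm.quad_nonneg_imp hsymm hA hm hle' t (by
      simp only [hxt]
      rw [← Groth.L26.QForm.dotProduct_mulVec_eq, hx']
      simp)
    have hdec : x = ∑ c ∈ (univ.image t).filter (fun c => c ≠ 0),
        c • (fun i => if i ∈ univ.filter (fun j => t j = c) then m i else 0) := by
      funext i
      simp only [Finset.sum_apply, Pi.smul_apply, smul_eq_mul, mem_filter, mem_univ, true_and,
        mul_ite, mul_zero]
      rw [sum_ite_eq]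
      by_cases hc : t i = 0
      · have : x i = 0 := by rw [← hxt i, hc, zero_mul]
        simp [hc, this]
      · rw [if_pos (by simp [hc])]; exact (hxt i).symm
    rw [hdec]
    refine Submodule.sum_mem _ fun c hc => Submodule.smul_mem _ _ (Submodule.subset_span ?_)
    have hc0 : c ≠ 0 := (mem_filter.1 hc).2
    refine ⟨univ.filter (fun j => t j = c), fun i hi j hj => ?_, fun i hi => ?_, rfl⟩
    · simp only [mem_filter, mem_univ, true_and] at hi hj
      by_contra h
      exact hj ((he i j h).symm.trans hi)
    · simp only [mem_filter, mem_univ, true_and] at hi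
      exact (herase i).2 (hz i (hi ▸ hc0))
  · rw [Submodule.span_le]
    rintro x ⟨I, hI, hIeq, rfl⟩
    simp only [SetLike.mem_coe, LinearMap.mem_ker, Matrix.mulVecLin_apply]
    funext i
    simp only [Matrix.mulVec, dotProduct, mul_ite, mul_zero, Pi.zero_apply]
    rw [sum_ite_mem, univ_inter]
    by_cases hi : i ∈ I
    · rw [← (herase i).1 (hIeq i hi)]
      refine sum_subset (subset_univ _) fun j _ hj => ?_
      rw [hI i hi j hj, zero_mul]
    · refine sum_eq_zero fun j hj => ?_
      rw [← hsymm.apply i j, hI j hj i hi, zero_mul]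

end Groth.Agent.S2170
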