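import Groth.Statements.S2178
import Groth.Agent.L26.NumType.Basic
import Mathlib.LinearAlgebra.FreeModule.PID
import Mathlib.LinearAlgebra.Dimension.Finrank
import Mathlib.LinearAlgebra.FiniteDimensional.Basic
import Mathlib.LinearAlgebra.Dimension.RankNullity
import Mathlib.LinearAlgebra.Dimension.Localization

set_option autoImplicit false
open Finset
open Models Models.NumericalType

namespace Groth.Agent.S2178

/-- The Picard group of a numerical type (the cokernel of the matrix (a i j / w i) acting on Z^n) has
free rank one: its rank as a Z-module is 1. -/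
theorem result {n : ℕ} (T : Models.NumericalType n) : Module.finrank ℤ T.Pic = 1 := by
  classical
  set L := Matrix.mulVecLin T.picMatrix
  have h1 : Module.finrank ℤ T.Pic + Module.finrank ℤ (LinearMap.range L) = n := by
    rw [Submodule.finrank_quotient_add_finrank]; simp
  have h2 : Module.finrank ℤ (LinearMap.range L) + Module.finrank ℤ (LinearMap.ker L) = n := by
    have := Submodule.finrank_quotient_add_finrank (LinearMap.ker L)
    rw [(LinearMap.quotKerEquivRange L).finrank_eq] at this
    simpa using this
  have hmat : ∀ v i, T.w i * T.picMatrix.mulVec v i = T.a.mulVec v i := by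
    intro v i
    simp only [Matrix.mulVec, dotProduct, Models.NumericalType.picMatrix, Finset.mul_sum]
    exact Finset.sum_congr rfl fun j _ => by rw [← mul_assoc, Int.mul_ediv_cancel' (T.w_dvd i j)]
  have hmker : T.m ∈ LinearMap.ker L := by
    simp only [LinearMap.mem_ker, L, Matrix.mulVecLin_apply]
    funext i
    refine mul_left_cancel₀ (T.w_pos i).ne' ?_
    rw [hmat, T.mulVec_m]; simp
  let i0 : Fin n := ⟨0, T.pos⟩
  let f : LinearMap.ker L →ₗ[ℤ] ℤ := (LinearMap.proj i0).comp (LinearMap.ker L).subtype
  have hinj : Function.Injective f := by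
    rw [← LinearMap.ker_eq_bot, LinearMap.ker_eq_bot']
    rintro ⟨x, hx⟩ hfx
    simp only [f, LinearMap.comp_apply, Submodule.subtype_apply, LinearMap.proj_apply] at hfx
    simp only [LinearMap.mem_ker, L, Matrix.mulVecLin_apply] at hx
    have hrow : ∀ i, ∑ j, (T.a i j : ℝ) * x j = 0 := by
      intro i
      have := hmat x i
      rw [hx, Pi.zero_apply, mul_zero] at this
      have h' : ∑ j, T.a i j * x j = 0 := this.symm
      exact_mod_cast h'
    obtain ⟨q, hq⟩ := Groth.L26.NumType.exists_smul_of_form_nonneg T (fun i => (x i : ℝ)) (by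
      refine le_of_eq (Eq.symm (Finset.sum_eq_zero fun i _ => ?_))
      rw [show ∑ j, (T.a i j : ℝ) * (x i : ℝ) * (x j : ℝ) = (x i : ℝ) * ∑ j, (T.a i j : ℝ) * x j by
        rw [Finset.mul_sum]; exact Finset.sum_congr rfl fun j _ => by ring, hrow, mul_zero])
    have hq0 : q = 0 := by
      have := hq i0
      rw [hfx, Int.cast_zero] at this
      exact (mul_eq_zero.1 this.symm).resolve_right (Int.cast_ne_zero.2 (T.m_pos i0).ne')
    apply Subtype.ext
    funext i
    have := hq i
    rw [hq0, zero_mul] at this
    exact Int.cast_eq_zero.1 this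
  have hle : Module.finrank ℤ (LinearMap.ker L) ≤ 1 :=
    (LinearMap.finrank_le_finrank_of_injective hinj).trans_eq (Module.finrank_self ℤ)
  have hpos : 0 < Module.finrank ℤ (LinearMap.ker L) := by
    have : Nontrivial (LinearMap.ker L) := ⟨⟨⟨T.m, hmker⟩, 0, fun e =>
      (T.m_pos i0).ne' (congrFun (congrArg Subtype.val e) i0)⟩⟩
    exact Module.finrank_pos
  omega

end Groth.Agent.S2178
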