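import Groth.Statements.S2182
import Groth.Agent.L26.NumType.Basic

set_option autoImplicit false
open Finset
open Models Models.NumericalType

namespace Groth.Agent.S2182

/-- In a numerical type, whenever a i j > 0 one has m i * a i j at most m j * |a j j| and m i * w i at
most m j * |a j j|. -/
theorem result {n : ℕ} (T : Models.NumericalType n) (i j : Fin n) (hij : 0 < T.a i j) :
    T.m i * T.a i j ≤ T.m j * |T.a j j| ∧ T.m i * T.w i ≤ T.m j * |T.a j j| := by
  have hne : i ≠ j := by
    rintro rfl
    by_cases hn : 1 < n
    · linarith [Groth.L26.NumType.diag_neg T hn i]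
    · have h0 := Groth.L26.NumType.row_sum T i
      have : Subsingleton (Fin n) := Fin.subsingleton_iff_le_one.mpr (not_lt.1 hn)
      rw [Fintype.sum_subsingleton _ i] at h0
      have := T.m_pos i
      nlinarith
  have hji : 0 < T.a j i := by rwa [Groth.L26.NumType.a_symm T j i]
  have key := Groth.L26.NumType.le_of_pos_offDiag T hji hne.symm
  rw [Groth.L26.NumType.a_symm T j i] at key
  have hneg : T.a j j ≤ 0 := by
    have := mul_pos (T.m_pos i) hij
    nlinarith [T.m_pos j]
  rw [abs_of_nonpos hneg]
  have hw : T.w i ≤ T.a i j := Int.le_of_dvd hij (T.w_dvd i j)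
  have := mul_le_mul_of_nonneg_left hw (T.m_pos i).le
  constructor <;> linarith

end Groth.Agent.S2182
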