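import Groth.Statements.S2186
import Groth.Agent.L07.CIIndep

set_option autoImplicit false
set_option linter.style.haveILetI false
universe u
open LCI

namespace Groth.Agent.S2186

/-- Let A -> B be a local homomorphism of complete Noetherian local rings, and take two factorizations A
-> S -> B and A -> S' -> B through Noetherian local rings with S -> B and S' -> B surjective, A -> S
and A -> S' flat, and regular closed fibres S/m_A S and S'/m_A S'. Then the kernel of S -> B is cut
out by a regular sequence exactly when the kernel of S' -> B is. -/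
theorem result {A B S S' : Type u} [CommRing A] [CommRing B]
    [CommRing S] [CommRing S'] [IsNoetherianRing A] [IsNoetherianRing B] [IsNoetherianRing S]
    [IsNoetherianRing S'] [IsLocalRing A] [IsLocalRing B] [IsLocalRing S] [IsLocalRing S']
    [IsAdicComplete (IsLocalRing.maximalIdeal A) A] [IsAdicComplete (IsLocalRing.maximalIdeal B) B]
    [Algebra A B] [Algebra A S] [Algebra A S'] [IsLocalHom (algebraMap A B)]
    [Module.Flat A S] [Module.Flat A S']
    [IsRegularLocalRing (S ⧸ Ideal.map (algebraMap A S) (IsLocalRing.maximalIdeal A))]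
    [IsRegularLocalRing (S' ⧸ Ideal.map (algebraMap A S') (IsLocalRing.maximalIdeal A))]
    (g : S →ₐ[A] B) (g' : S' →ₐ[A] B) (hg : Function.Surjective g)
    (hg' : Function.Surjective g') :
    (∃ rs : List S, Ideal.ofList rs = RingHom.ker g ∧ RingTheory.Sequence.IsRegular S rs) ↔
      (∃ rs' : List S', Ideal.ofList rs' = RingHom.ker g' ∧
        RingTheory.Sequence.IsRegular S' rs') := by
  have key : ∀ {X : Type u} [CommRing X] (K : Ideal X),
      (∃ rs : List X, Ideal.ofList rs = K ∧ RingTheory.Sequence.IsRegular X rs) ↔ CInt.IsRegularIdeal K :=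
    fun K => ⟨fun ⟨rs, h1, h2⟩ => ⟨rs, h2, h1⟩, fun ⟨rs, h1, h2⟩ => ⟨rs, h2, h1⟩⟩
  rw [key, key]
  haveI : IsLocalHom (algebraMap A S) := ⟨fun x hx => by
    refine (isUnit_map_iff (algebraMap A B) x).mp ?_
    rw [← g.commutes]
    exact hx.map g⟩
  haveI : IsLocalHom (algebraMap A S') := ⟨fun x hx => by
    refine (isUnit_map_iff (algebraMap A B) x).mp ?_
    rw [← g'.commutes]
    exact hx.map g'⟩
  obtain ⟨T, _, _, _, _, _, _, _, h, hT, hh, e⟩ :=
    Groth.L07.CIIndep.exists_completed (inferInstance : IsRegularLocalRing (EGA4.FibRing A S)) g hg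
  obtain ⟨T', _, _, _, _, _, _, _, h', hT', hh', e'⟩ :=
    Groth.L07.CIIndep.exists_completed (inferInstance : IsRegularLocalRing (EGA4.FibRing A S')) g' hg'
  obtain ⟨C, _, _, _, _, _, _, π, π', hC, hπ, hπ', hcomm⟩ := Groth.L07.CIIndep.exists_dominating h h' hh hh'
  rw [← e, ← e']
  have h1 := Groth.L07.CIIndep.regular_ker_comp_iff hC hT π hπ h.toRingHom hh
  have h2 := Groth.L07.CIIndep.regular_ker_comp_iff hC hT' π' hπ' h'.toRingHom hh'
  have heq : h.toRingHom.comp π.toRingHom = h'.toRingHom.comp π'.toRingHom :=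
    RingHom.ext fun c => AlgHom.congr_fun hcomm c
  rw [heq] at h1
  exact h1.symm.trans h2

end Groth.Agent.S2186
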