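import Groth.Statements.S2187
import Groth.Agent.S2188

set_option autoImplicit false
universe u
open CategoryTheory
open LCI

namespace Groth.Agent.S2187

set_option linter.style.haveILetI false

/-- Let R be a Noetherian local ring and I an ideal of finite projective dimension as an R-module. If F
is a direct summand of the conormal module I/I^2 which is isomorphic to R/I, then there is a
nonzerodivisor x in I whose class in I/I^2 generates F. -/
theorem result {R : Type u} [CommRing R]
    [IsNoetherianRing R] [IsLocalRing R] (I : Ideal R) (n : ℕ)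
    (hpd : HasProjectiveDimensionLT (ModuleCat.of R I) n)
    (F G : Submodule (R ⧸ I) I.Cotangent) (hFG : IsCompl F G) (e : F ≃ₗ[R ⧸ I] (R ⧸ I)) :
    ∃ (x : R) (hx : x ∈ I), x ∈ nonZeroDivisors R ∧
      Submodule.span (R ⧸ I) {I.toCotangent ⟨x, hx⟩} = F := by
  by_cases hI : I = ⊤
  · refine ⟨1, by rw [hI]; trivial, one_mem _, ?_⟩
    haveI : Subsingleton (R ⧸ I) := Ideal.Quotient.subsingleton_iff.mpr hI
    haveI : Subsingleton I.Cotangent := Module.subsingleton (R ⧸ I) _
    exact Subsingleton.elim _ _
  obtain ⟨x, hx, hreg, hspan⟩ := Groth.Agent.S2188.result I hI n hpd F G hFG 1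
    (e.trans (LinearEquiv.funUnique (Fin 1) (R ⧸ I) (R ⧸ I)).symm)
  refine ⟨x 0, hx 0, ?_, ?_⟩
  · have h := hreg.1
    rw [List.ofFn_succ, RingTheory.Sequence.isWeaklyRegular_cons_iff] at h
    rw [mem_nonZeroDivisors_iff_right]
    intro y hy
    exact h.1.right_eq_zero_of_smul (by rw [smul_eq_mul, mul_comm]; exact hy)
  · rw [← hspan, Set.range_unique]
    rfl

end Groth.Agent.S2187
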