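import Groth.Statements.S2190
import Groth.Agent.L26.NumType.Basic

set_option autoImplicit false
open Finset
open Models Models.NumericalType

namespace Groth.Agent.S2190

/-- A minimal numerical type of genus zero has a single index, with m = 1, a = 0, w = 1 and g = 0. -/
theorem result {n : ℕ} (T : Models.NumericalType n) (hmin : T.IsMinimal) (hg : T.genus = 0) :
    n = 1 ∧ ∀ i, T.m i = 1 ∧ T.a i i = 0 ∧ T.w i = 1 ∧ T.g i = 0 := by
  have hn : n = 1 := by
    by_contra hc
    have := Groth.L26.NumType.one_le_genus T hmin (by have := T.pos; omega)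
    omega
  subst hn
  have h0 : T.a 0 0 = 0 := by
    have := Groth.L26.NumType.row_sum T 0
    simp at this
    exact this.resolve_right (T.m_pos 0).ne'
  have hg' : T.genus = 1 + T.m 0 * T.w 0 * (T.g 0 - 1) := by
    simp [Models.NumericalType.genus, h0]
  have hp := mul_pos (T.m_pos 0) (T.w_pos 0)
  have hgn := T.g_nonneg 0
  have hg0 : T.g 0 = 0 := by
    by_contra hc
    have : 0 ≤ T.g 0 - 1 := by omega
    have := mul_nonneg hp.le this
    omega
  rw [hg0] at hg'
  have hmw : T.m 0 * T.w 0 = 1 := by linarith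
  refine ⟨rfl, fun i => ?_⟩
  rw [Subsingleton.elim i 0]
  exact ⟨Int.eq_one_of_mul_eq_one_right (T.m_pos 0).le hmw, h0,
    Int.eq_one_of_mul_eq_one_left (T.w_pos 0).le hmw, hg0⟩

end Groth.Agent.S2190
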