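import Groth.Statements.S2193
import Groth.Agent.L07.DPowFlat

set_option autoImplicit false
set_option linter.style.haveILetI false
universe u v
open DPow

namespace Groth.Agent.S2193

/-- Uniqueness in general and existence in case (3): let I be an ideal of A with a divided power
structure and B an A-algebra. There is at most one divided power structure on the ideal I B for
which A -> B is a homomorphism of divided power rings, and if B is flat over A there is one. -/
theorem result {A : Type u} {B : Type v} [CommRing A] [CommRing B] [Algebra A B]
    {I : Ideal A} (γ : DividedPowers I) :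
    (∀ δ δ' : DividedPowers (I.map (algebraMap A B)),
        γ.IsDPMorphism δ (algebraMap A B) → γ.IsDPMorphism δ' (algebraMap A B) → δ = δ') ∧
      (Module.Flat A B →
        ∃ δ : DividedPowers (I.map (algebraMap A B)), γ.IsDPMorphism δ (algebraMap A B)) := by
  refine ⟨fun δ δ' hδ hδ' => ?_, fun hflat => ?_⟩
  · refine (DividedPowers.dpow_eq_from_gens δ δ' (S := algebraMap A B '' (I : Set A)) rfl ?_).symm
    rintro n _ ⟨a, ha, rfl⟩
    rw [hδ.2 a ha, hδ'.2 a ha]
  · haveI := hflat
    exact Groth.L07.DPGen.exists_extension_of_flat γ

end Groth.Agent.S2193
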