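import Groth.Statements.S2200
import Groth.Agent.L07.RegularQuotient
import Groth.Agent.L07.FiniteTorConormal

set_option autoImplicit false
set_option linter.style.haveILetI false
universe u
open LCI

namespace Groth.Agent.S2200

/-- Let (A, m) be a Noetherian local ring and I, J proper ideals with I inside J. If J is cut out by a
regular sequence and A/J has finite Tor-dimension as an A/I-module (canonical algebra structure),
then I is cut out by a regular sequence of A and the image of J in A/I by one of A/I. -/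
theorem result {A : Type u} [CommRing A] [IsNoetherianRing A] [IsLocalRing A]
    (I J : Ideal A) (hIJ : I ≤ J) (hJ : J ≠ ⊤) [Algebra (A ⧸ I) (A ⧸ J)]
    [IsScalarTower A (A ⧸ I) (A ⧸ J)] (hfd : DRing.HasFiniteTorDim (A ⧸ I) (A ⧸ J))
    (hJreg : ∃ rs : List A, Ideal.ofList rs = J ∧ RingTheory.Sequence.IsRegular A rs) :
    (∃ rs : List A, Ideal.ofList rs = I ∧ RingTheory.Sequence.IsRegular A rs) ∧
      ∃ rs' : List (A ⧸ I), Ideal.ofList rs' = J.map (Ideal.Quotient.mk I) ∧
        RingTheory.Sequence.IsRegular (A ⧸ I) rs' := by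
  have hJm : J ≤ IsLocalRing.maximalIdeal A := IsLocalRing.le_maximalIdeal hJ
  have hJR : CInt.IsRegularIdeal J := by
    obtain ⟨rs, h1, h2⟩ := hJreg
    exact ⟨rs, h2, h1⟩
  obtain ⟨n, f, hf⟩ := Groth.L07.RegIdeal.exists_isMin I
  have hind : Groth.L07.RegIdeal.Indep J f := fun c hc =>
    hf.2 c (Groth.L07.FiniteTorConormal.mem_maximal_mul I J hIJ hJ hfd _
      (hf.1.le (sum_mem fun i _ => Ideal.mul_mem_left _ _ (Ideal.subset_span ⟨i, rfl⟩))) hc)
  obtain ⟨⟨r1, h1, h1'⟩, ⟨r2, h2, h2'⟩⟩ := Groth.L07.RegIdeal.isRegularIdeal_of_indep hIJ hJR hf.1 hind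
  exact ⟨⟨r1, h1', h1⟩, r2, h2', h2⟩

end Groth.Agent.S2200
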