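import Groth.Statements.S2201
import Groth.Agent.L07.CIHom
import Groth.Agent.S2836

set_option autoImplicit false
set_option linter.style.haveILetI false
universe u
open LCI

namespace Groth.Agent.S2201

/-- Let R -> S be a flat local homomorphism of Noetherian local rings with S/m_R S regular, and let I in
R and J in S be proper ideals with I S inside J; give S/J its canonical R/I-algebra structure.
Equivalent: (1) J is cut out by a regular sequence while S/J, as an R/I-module, has finite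
Tor-dimension; (2) the same with only finitely many nonzero Tor_p^{R/I}(S/J, k), k the residue field
of R/I; (3) I and J/IS are each cut out by regular sequences (in R, resp. S/IS). Stated as (1) iff
(3) and (2) iff (3). -/
theorem result {R S : Type u} [CommRing R] [CommRing S] [IsNoetherianRing R]
    [IsNoetherianRing S] [IsLocalRing R] [IsLocalRing S] [Algebra R S] [IsLocalHom (algebraMap R S)]
    [Module.Flat R S]
    [IsRegularLocalRing (S ⧸ Ideal.map (algebraMap R S) (IsLocalRing.maximalIdeal R))]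
    (I : Ideal R) (J : Ideal S) (hI : I ≠ ⊤) (hJ : J ≠ ⊤) (hIJ : I.map (algebraMap R S) ≤ J)
    [Algebra (R ⧸ I) (S ⧸ J)] [IsScalarTower R (R ⧸ I) (S ⧸ J)] :
    let P3 := (∃ rs : List R, Ideal.ofList rs = I ∧ RingTheory.Sequence.IsRegular R rs) ∧
      ∃ rs' : List (S ⧸ I.map (algebraMap R S)),
        Ideal.ofList rs' = J.map (Ideal.Quotient.mk (I.map (algebraMap R S))) ∧
          RingTheory.Sequence.IsRegular (S ⧸ I.map (algebraMap R S)) rs'
    let Jreg := ∃ rs : List S, Ideal.ofList rs = J ∧ RingTheory.Sequence.IsRegular S rs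
    ((Jreg ∧ DRing.HasFiniteTorDim (R ⧸ I) (S ⧸ J)) ↔ P3) ∧
      ((Jreg ∧ Set.Finite {p : ℕ | ¬Subsingleton (DRing.Tor (R ⧸ I) p (S ⧸ J)
        ((R ⧸ I) ⧸ (IsLocalRing.maximalIdeal R).map (Ideal.Quotient.mk I)))}) ↔ P3) := by
  intro P3 Jreg
  classical
  haveI : IsLocalRing (R ⧸ I) := Groth.L01.isLocalRing_quotient hI
  let IS := I.map (algebraMap R S)
  haveI : IsLocalRing (S ⧸ IS) := Groth.L01.isLocalRing_quotient (ne_top_of_le_ne_top hJ hIJ)
  let a : R ⧸ I →+* S ⧸ IS := Ideal.quotientMap IS (algebraMap R S) (Ideal.map_le_iff_le_comap.mp le_rfl)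
  letI : Algebra (R ⧸ I) (S ⧸ IS) := a.toAlgebra
  haveI : IsScalarTower R (R ⧸ I) (S ⧸ IS) := IsScalarTower.of_algebraMap_eq fun _ => rfl
  haveI : IsLocalHom (algebraMap (R ⧸ I) (S ⧸ IS)) := ⟨fun x hx => by
    obtain ⟨x, rfl⟩ := Ideal.Quotient.mk_surjective x
    haveI : IsLocalHom (Ideal.Quotient.mk IS) := IsLocalHom.of_surjective _ Ideal.Quotient.mk_surjective
    exact ((isUnit_map_iff (algebraMap R S) x).mp ((isUnit_map_iff (Ideal.Quotient.mk IS) _).mp hx)).map _⟩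
  haveI : Module.Flat (R ⧸ I) (S ⧸ IS) := Groth.L07.RegFlat.flat_quotient (B := R) (N := S) I
    Ideal.Quotient.mk_surjective Ideal.mk_ker (N' := S ⧸ IS)
    (Ideal.Quotient.mkₐ R IS).toLinearMap Ideal.Quotient.mk_surjective (by
      rw [Ideal.smul_top_eq_map]
      ext s
      exact Ideal.Quotient.eq_zero_iff_mem)
  letI : Algebra (S ⧸ IS) (S ⧸ J) := (Ideal.Quotient.factor hIJ).toAlgebra
  haveI : IsScalarTower S (S ⧸ IS) (S ⧸ J) := IsScalarTower.of_algebraMap_eq fun _ => rfl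
  haveI : IsScalarTower (R ⧸ I) (S ⧸ IS) (S ⧸ J) := IsScalarTower.of_algebraMap_eq fun x => by
    obtain ⟨x, rfl⟩ := Ideal.Quotient.mk_surjective x
    show algebraMap (R ⧸ I) (S ⧸ J) (algebraMap R (R ⧸ I) x) = Ideal.Quotient.mk J (algebraMap R S x)
    rw [← IsScalarTower.algebraMap_apply]
    rfl
  haveI : Module.Finite (S ⧸ IS) (S ⧸ J) := Module.Finite.of_surjective
    (Algebra.linearMap (S ⧸ IS) (S ⧸ J)) (Ideal.Quotient.factor_surjective hIJ)
  have hmA : (IsLocalRing.maximalIdeal R).map (Ideal.Quotient.mk I) = IsLocalRing.maximalIdeal (R ⧸ I) :=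
    IsLocalRing.map_maximalIdeal_of_surjective _ Ideal.Quotient.mk_surjective
  have hfib : IsRegularLocalRing (EGA4.FibRing (R ⧸ I) (S ⧸ IS)) := by
    have h1 : EGA4.mB (R ⧸ I) (S ⧸ IS) =
        ((IsLocalRing.maximalIdeal R).map (algebraMap R S)).map (Ideal.Quotient.mk IS) := by
      show (IsLocalRing.maximalIdeal (R ⧸ I)).map a = _
      rw [← hmA, Ideal.map_map, Ideal.map_map]
      rfl
    have h2 : IS ≤ (IsLocalRing.maximalIdeal R).map (algebraMap R S) :=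
      Ideal.map_mono (IsLocalRing.le_maximalIdeal hI)
    exact IsRegularLocalRing.of_ringEquiv ((Ideal.quotEquivOfEq h1).trans
      (DoubleQuot.quotQuotEquivQuotOfLE h2)).symm
  let κ := (R ⧸ I) ⧸ (IsLocalRing.maximalIdeal R).map (Ideal.Quotient.mk I)
  let e : κ ≃ₗ[R ⧸ I] (R ⧸ I) ⧸ IsLocalRing.maximalIdeal (R ⧸ I) := Submodule.quotEquivOfEq _ _ hmA
  have h12 : DRing.HasFiniteTorDim (R ⧸ I) (S ⧸ J) →
      Set.Finite {p : ℕ | ¬Subsingleton (DRing.Tor (R ⧸ I) p (S ⧸ J) κ)} := by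
    rintro ⟨n, hn⟩
    refine (Set.finite_Iic n).subset fun p hp => ?_
    by_contra hc
    exact hp (hn κ p (not_le.mp hc))
  have h23 : Jreg → Set.Finite {p : ℕ | ¬Subsingleton (DRing.Tor (R ⧸ I) p (S ⧸ J) κ)} → P3 := by
    rintro ⟨rs, hrs, hreg⟩ hfin
    obtain ⟨n, hres⟩ := Groth.L07.CIHom.res_of_finite_tor hfib (S ⧸ J) κ e hfin
    obtain ⟨k, f, hf⟩ := Groth.L07.RegIdeal.exists_isMin IS
    have hind : Groth.L07.RegIdeal.Indep J f := fun c hc =>
      hf.2 c (Groth.L07.FiniteTorConormal.mem_maximal_mul_of_res IS J hIJ hJ hres _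
        (hf.1.le (sum_mem fun i _ => Ideal.mul_mem_left _ _ (Ideal.subset_span ⟨i, rfl⟩))) hc)
    obtain ⟨hIS, ⟨gs, hgs, hgs'⟩⟩ := Groth.L07.RegIdeal.isRegularIdeal_of_indep hIJ ⟨rs, hreg, hrs⟩ hf.1 hind
    obtain ⟨l, hl, hl'⟩ := Groth.L07.AvramovCore.isRegularIdeal_of_map hIS
    exact ⟨⟨l, hl', hl⟩, gs, hgs', hgs⟩
  have h31 : P3 → Jreg ∧ DRing.HasFiniteTorDim (R ⧸ I) (S ⧸ J) := by
    rintro ⟨⟨l, hl, hlreg⟩, gs, hgs, hgreg⟩
    refine ⟨?_, ?_⟩
    · obtain ⟨rs, hrs, hrs'⟩ := Groth.Agent.S2836.result S IS J hIJ (IsLocalRing.le_maximalIdeal hJ)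
        (Groth.L07.AvramovCore.isRegularIdeal_map ⟨l, hlreg, hl⟩) ⟨gs, hgreg, hgs⟩
      exact ⟨rs, hrs', hrs⟩
    · exact Groth.L07.CIHom.hasFiniteTorDim_of_surjective (A := R ⧸ I) (C := S ⧸ IS) (B := S ⧸ J)
        (Ideal.Quotient.factor_surjective hIJ) gs hgreg (hgs.trans (Ideal.Quotient.factor_ker hIJ).symm)
  exact ⟨⟨fun h => h23 h.1 (h12 h.2), h31⟩, ⟨fun h => h23 h.1 h.2, fun h => ⟨(h31 h).1, h12 (h31 h).2⟩⟩⟩

end Groth.Agent.S2201
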