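import Groth.Statements.S2202
import Groth.Agent.L07.CIFactor

set_option autoImplicit false
set_option linter.style.haveILetI false
universe u
open LCI

namespace Groth.Agent.S2202

/-- Special case: A and B complete. For a local homomorphism A -> B of complete Noetherian local rings,
the following are equivalent: B is a complete intersection with only finitely many nonzero
Tor^A_p(B, k_A); A is a complete intersection and A -> B factors as A -> S -> B with S Noetherian
local, A -> S flat with regular closed fibre S/m_A S, and S -> B surjective with kernel cut out by a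
regular sequence (a complete intersection homomorphism). -/
theorem result {A B : Type u} [CommRing A] [CommRing B] [IsNoetherianRing A]
    [IsNoetherianRing B] [IsLocalRing A] [IsLocalRing B]
    [IsAdicComplete (IsLocalRing.maximalIdeal A) A] [IsAdicComplete (IsLocalRing.maximalIdeal B) B]
    [Algebra A B] [IsLocalHom (algebraMap A B)] :
    (Pi1.IsCompleteIntersection B ∧
        Set.Finite {p : ℕ | ¬Subsingleton (DRing.Tor A p B (IsLocalRing.ResidueField A))}) ↔
      (Pi1.IsCompleteIntersection A ∧
        ∃ (S : Type u) (_ : CommRing S) (_ : IsNoetherianRing S) (_ : IsLocalRing S) (_ : Algebra A S)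
          (_ : Module.Flat A S)
          (_ : IsRegularLocalRing (S ⧸ Ideal.map (algebraMap A S) (IsLocalRing.maximalIdeal A)))
          (g : S →ₐ[A] B), Function.Surjective g ∧
            ∃ rs : List S, Ideal.ofList rs = RingHom.ker g ∧ RingTheory.Sequence.IsRegular S rs) := by
  constructor
  · rintro ⟨hB, hfin⟩
    obtain ⟨D⟩ := Groth.L07.AvramovDiagram.nonempty_diagram (A := A) (B := B)
    obtain ⟨hA, C, i1, i2, i3, i4, i5, i6, g, hg, ⟨rs, hrs, hrs'⟩⟩ :=
      Groth.L07.CIFactor.exists_factor D.fibre D.p D.surjP D.q D.surjQ D.comm hB hfin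
    exact ⟨hA, C, i1, i2, i3, i4, i5, i6, g, hg, rs, hrs', hrs⟩
  · rintro ⟨hA, S, _, _, _, _, _, hfib, g, hg, rs, hrs, hreg⟩
    haveI : IsLocalHom (algebraMap A S) := ⟨fun x hx => by
      refine (isUnit_map_iff (algebraMap A B) x).mp ?_
      rw [← g.commutes]
      exact hx.map g⟩
    haveI := hfib
    haveI : IsNoetherianRing (EGA4.FibRing A S) := inferInstanceAs (IsNoetherianRing (S ⧸ EGA4.mB A S))
    have hS : Pi1.IsCompleteIntersection S :=
      (Groth.L07.Avramov.isCompleteIntersection_iff A).mpr
        ⟨hA, Groth.L07.CIFibre.isCompleteIntersection_of_regular _⟩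
    refine ⟨Groth.L07.CIFactor.isCompleteIntersection_quotient g.toRingHom hg hS ⟨rs, hreg, hrs⟩, ?_⟩
    letI : Algebra S B := g.toRingHom.toAlgebra
    haveI : IsScalarTower A S B := IsScalarTower.of_algebraMap_eq fun x => (g.commutes x).symm
    obtain ⟨n, hn⟩ := Groth.L07.CIHom.hasFiniteTorDim_of_surjective (A := A) (C := S) (B := B) hg rs hreg hrs
    refine (Set.finite_Iic n).subset fun p hp => ?_
    by_contra hc
    exact hp (hn _ p (not_le.mp hc))

end Groth.Agent.S2202
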