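import Groth.Statements.S2203
import Mathlib.Algebra.Category.ModuleCat.Abelian
import Mathlib.CategoryTheory.Preadditive.AdditiveFunctor
import Mathlib.Algebra.Category.ModuleCat.Limits
import Mathlib.CategoryTheory.Adjunction.Limits
-- import your own Groth.Agent.* helpers here

set_option autoImplicit false
universe u
open CategoryTheory
open QCohCat

open CategoryTheory.Limits
set_option backward.isDefEq.respectTransparency false
set_option linter.style.haveILetI false

namespace Groth.Agent.S2203

section Aux

variable {A : Type u} [CommRing A]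

/-- Multiplication by a scalar. -/
noncomputable def sm (a : A) (X : ModuleCat.{u} A) : X ⟶ X := ModuleCat.ofHom (LinearMap.lsmul A X a)

theorem sm_apply (a : A) (X : ModuleCat.{u} A) (x : X) : sm a X x = a • x := rfl

theorem sm_nat (a : A) {X Y : ModuleCat.{u} A} (f : X ⟶ Y) : sm a X ≫ f = f ≫ sm a Y := by
  ext x
  exact map_smul f.hom a x

theorem sm_add (a a' : A) (X : ModuleCat.{u} A) : sm (a + a') X = sm a X + sm a' X := by
  ext x
  exact add_smul a a' x

theorem sm_mul (a a' : A) (X : ModuleCat.{u} A) : sm (a * a') X = sm a' X ≫ sm a X := by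
  ext x
  exact mul_smul a a' x

theorem sm_inj {a a' : A} (h : sm a (ModuleCat.of A A) = sm a' (ModuleCat.of A A)) : a = a' := by
  have h' := congr($h (1 : A))
  change a • (1 : A) = a' • (1 : A) at h'
  simpa using h'

theorem exists_sm (z : ∀ X : ModuleCat.{u} A, X ⟶ X)
    (hz : ∀ {X Y : ModuleCat.{u} A} (f : X ⟶ Y), z X ≫ f = f ≫ z Y) : ∃ a, ∀ X, z X = sm a X := by
  refine ⟨z (ModuleCat.of A A) (1 : A), fun X => ?_⟩
  ext x
  have h := congr($(hz (ModuleCat.ofHom (LinearMap.toSpanSingleton A X x))) (1 : A))
  refine (Eq.trans ?_ h.symm).trans ?_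
  · change z X x = z X ((1 : A) • x)
    rw [one_smul]
  · rfl

theorem key {B : Type u} [CommRing B] (F : ModuleCat.{u} A ≌ ModuleCat.{u} B) :
    Nonempty (A ≃+* B) := by
  haveI : PreservesLimitsOfSize.{0, 0} F.functor := F.symm.toAdjunction.rightAdjoint_preservesLimits
  haveI : F.functor.Additive := Functor.additive_of_preserves_binary_products _
  have hb : ∀ a : A, ∃ b, ∀ Y, F.counitInv.app Y ≫ F.functor.map (sm a (F.inverse.obj Y)) ≫ F.counit.app Y = sm b Y :=
    fun a => exists_sm _ fun {Y Y'} f => by
      rw [Category.assoc, Category.assoc, ← F.counit_naturality, ← Functor.map_comp_assoc, sm_nat,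
        Functor.map_comp_assoc]
      exact (reassoc_of% F.counitInv_naturality f) _
  choose φ hφ using hb
  have hinj : Function.Injective φ := fun a a' h => by
    have h1 := (hφ a (F.functor.obj (ModuleCat.of A A))).trans ((congrArg (sm · _) h).trans (hφ a' _).symm)
    rw [cancel_epi, cancel_mono] at h1
    have h2 := F.functor.map_injective h1
    refine sm_inj ((cancel_epi (F.unitInv.app (ModuleCat.of A A))).1 ?_)
    exact (sm_nat a (F.unitInv.app (ModuleCat.of A A))).symm.trans
      ((congrArg (· ≫ F.unitInv.app (ModuleCat.of A A)) h2).trans (sm_nat a' _))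
  have hsurj : Function.Surjective φ := fun b => by
    obtain ⟨a, ha⟩ := exists_sm (fun X => F.functor.preimage (sm b (F.functor.obj X))) fun {X Y} f => by
      apply F.functor.map_injective
      simp only [Functor.map_comp, Functor.map_preimage]
      exact sm_nat b _
    refine ⟨a, sm_inj ?_⟩
    rw [← hφ a, ← ha, Functor.map_preimage]
    refine (congrArg (F.counitInv.app _ ≫ ·) (sm_nat b (F.counit.app (ModuleCat.of B B)))).trans ?_
    refine (Category.assoc _ _ _).symm.trans ((congrArg (· ≫ _) (F.counitIso.inv_hom_id_app _)).trans ?_)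
    exact Category.id_comp _
  refine ⟨RingEquiv.ofBijective ({ toFun := φ, map_one' := ?_, map_mul' := ?_, map_zero' := ?_, map_add' := ?_ } : A →+* B) ⟨hinj, hsurj⟩⟩
  · refine sm_inj ?_
    rw [← hφ, show sm (1 : A) (F.inverse.obj (ModuleCat.of B B)) = 𝟙 _ by ext x; exact one_smul A x]
    simp only [CategoryTheory.Functor.map_id, Category.id_comp]
    refine (F.counitIso.inv_hom_id_app _).trans ?_
    ext
    exact (one_smul B _).symm
  · intro a a'
    refine sm_inj ?_
    rw [sm_mul, ← hφ, ← hφ, ← hφ, sm_mul, Functor.map_comp]
    simp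
  · refine sm_inj ?_
    rw [← hφ, show sm (0 : A) (F.inverse.obj (ModuleCat.of B B)) = 0 by ext x; exact zero_smul A x]
    simp only [Functor.map_zero, zero_comp, comp_zero]
    ext
    exact (zero_smul B _).symm
  · intro a a'
    refine sm_inj ?_
    rw [sm_add, ← hφ, ← hφ, ← hφ, sm_add, Functor.map_add, Preadditive.add_comp, Preadditive.comp_add]

end Aux

/-- Ring-isomorphism part of the statement: let A and B be commutative rings whose categories of modules
are equivalent. Then A and B are isomorphic as rings. (The source moreover describes the equivalence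
as base change followed by tensoring with an invertible module.) -/
theorem result (A B : Type u) [CommRing A] [CommRing B]
    (F : ModuleCat.{u} A ≌ ModuleCat.{u} B) : Nonempty (A ≃+* B) := by
  exact key F

end Groth.Agent.S2203
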