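import Groth.Statements.S2207
import Mathlib.RingTheory.DividedPowers.DPMorphism
import Mathlib.Data.Nat.Choose.Sum
import Mathlib.Tactic.Ring
import Mathlib.Tactic.LinearCombination

set_option autoImplicit false
universe u v
open DPow

namespace Groth.Agent.S2207

/-- Existence in case (2): let I = (x) be a principal ideal of A with a divided power structure and B
any A-algebra. Then there is a divided power structure on I B for which A -> B is a homomorphism of
divided power rings. -/
theorem result {A : Type u} {B : Type v} [CommRing A] [CommRing B] [Algebra A B]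
    (x : A) (γ : DividedPowers (Ideal.span {x})) :
    ∃ δ : DividedPowers ((Ideal.span {x}).map (algebraMap A B)), γ.IsDPMorphism δ (algebraMap A B) := by
  classical
  set f := algebraMap A B
  set J := (Ideal.span {x}).map f
  have hx : x ∈ Ideal.span {x} := Ideal.mem_span_singleton_self x
  have hJ : ∀ y, y ∈ J ↔ ∃ b, b * f x = y := fun y => by
    simp [J, Ideal.map_span, Ideal.mem_span_singleton']
  let dp : ℕ → B → B := fun n y => if h : y ∈ J then ((hJ y).1 h).choose ^ n * f (γ.dpow n x) else 0
  have key : ∀ n b, dp n (b * f x) = b ^ n * f (γ.dpow n x) := by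
    intro n b
    have h : b * f x ∈ J := (hJ _).2 ⟨b, rfl⟩
    simp only [dp, dif_pos h]
    have hc := ((hJ _).1 h).choose_spec
    generalize ((hJ _).1 h).choose = c at hc
    rcases Nat.eq_zero_or_pos n with rfl | hn
    · simp
    obtain ⟨a, ha⟩ := Ideal.mem_span_singleton'.1 (γ.dpow_mem hn.ne' hx)
    obtain ⟨S, hS⟩ := sub_dvd_pow_sub_pow c b n
    have h0 : (c - b) * f x = 0 := by rw [sub_mul, hc, sub_self]
    rw [← sub_eq_zero, ← sub_mul, hS, ← ha, map_mul]
    linear_combination (S * f a) * h0
  have rep : ∀ {y}, y ∈ J → ∃ b, b * f x = y := fun {y} h => (hJ y).1 h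
  refine ⟨{ dpow := dp, dpow_null := fun {n y} h => dif_neg h, dpow_zero := fun {y} h => ?_,
            dpow_one := fun {y} h => ?_, dpow_mem := fun {n y} hn h => ?_,
            dpow_add := fun {n y z} h h' => ?_, dpow_mul := fun {n a y} h => ?_,
            mul_dpow := fun {m n y} h => ?_, dpow_comp := fun {m n y} hn h => ?_ },
          ⟨le_refl J, fun {n} a ha => ?_⟩⟩
  · obtain ⟨b, rfl⟩ := rep h
    rw [key, pow_zero, γ.dpow_zero hx, map_one, mul_one]
  · obtain ⟨b, rfl⟩ := rep h
    rw [key, pow_one, γ.dpow_one hx]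
  · obtain ⟨b, rfl⟩ := rep h
    rw [key]
    exact J.mul_mem_left _ (Ideal.mem_map_of_mem f (γ.dpow_mem hn hx))
  · obtain ⟨b, rfl⟩ := rep h
    obtain ⟨c, rfl⟩ := rep h'
    rw [← add_mul, key, (Commute.all b c).add_pow', Finset.sum_mul]
    refine Finset.sum_congr rfl fun k hk => ?_
    rw [Finset.mem_antidiagonal] at hk
    subst hk
    rw [key, key, nsmul_eq_mul]
    have := congrArg f (γ.mul_dpow (m := k.1) (n := k.2) hx)
    rw [map_mul, map_mul, map_natCast] at this
    linear_combination (-(b ^ k.1 * c ^ k.2)) * this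
  · obtain ⟨b, rfl⟩ := rep h
    rw [← mul_assoc, key, key, mul_pow]
    ring
  · obtain ⟨b, rfl⟩ := rep h
    rw [key, key, key]
    have := congrArg f (γ.mul_dpow (m := m) (n := n) hx)
    rw [map_mul, map_mul, map_natCast] at this
    rw [pow_add]
    linear_combination (b ^ m * b ^ n) * this
  · obtain ⟨b, rfl⟩ := rep h
    obtain ⟨a, ha⟩ := Ideal.mem_span_singleton'.1 (γ.dpow_mem hn hx)
    have hc := congrArg f (γ.dpow_comp (m := m) hn hx)
    rw [← ha, γ.dpow_mul hx, map_mul, map_pow, map_mul, map_natCast] at hc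
    rw [key n, ← ha, map_mul, ← mul_assoc, key, key, mul_pow, ← pow_mul, mul_comm n m]
    linear_combination (b ^ (m * n)) * hc
  · obtain ⟨r, rfl⟩ := Ideal.mem_span_singleton'.1 ha
    show dp n (f (r * x)) = _
    rw [map_mul, key, γ.dpow_mul hx, map_mul, map_pow]


end Groth.Agent.S2207
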