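import Groth.Statements.S2208
import Groth.Agent.L05.PtChain.Geo.RegModel

set_option autoImplicit false
universe u
open CategoryTheory AlgebraicGeometry
open Models

namespace Groth.Agent.S2208
set_option backward.isDefEq.respectTransparency false
set_option backward.isDefEq.respectTransparency.types false
set_option linter.style.haveILetI false

/-- Weakened form (minimality dropped): let R be a discrete valuation ring with fraction field K and C a
smooth proper curve over K. Then C has a regular proper model over R: a proper flat finite type X ->
Spec R all of whose local rings are regular, with generic fibre C. (The source asserts moreover the
existence of a minimal such model.) -/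
theorem result (R : Type u) [CommRing R] [IsDomain R]
    [IsDiscreteValuationRing R] (C : Scheme.{u})
    (f : C ⟶ Spec (CommRingCat.of (FractionRing R)))
    (hC : Curve.IsSmoothProperCurve (FractionRing R) C f) :
    ∃ (X : Scheme.{u}) (p : X ⟶ Spec (CommRingCat.of R)),
      Models.IsRegularProperModel R X p C f := by
  exact Groth.L05.PtChain.exists_regularProperModel hC

end Groth.Agent.S2208
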