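import Groth.Statements.S2211
import Mathlib.RingTheory.DividedPowers.Basic
import Groth.Agent.L25.CocycleComb
import Mathlib.Algebra.BigOperators.Associated
-- import your own Groth.Agent.* helpers here

set_option autoImplicit false
universe u
open DPow

namespace Groth.Agent.S2211

/-- First part: let p be a prime and A a ring in which every integer prime to p is invertible, I an
ideal of A. Two divided power structures on I coincide exactly when their p-th divided power maps
agree on I. -/
theorem result {A : Type u} [CommRing A] (p : ℕ) (hp : p.Prime)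
    (hA : ∀ n : ℕ, ¬ p ∣ n → IsUnit (n : A)) {I : Ideal A} (γ γ' : DividedPowers I) :
    γ = γ' ↔ ∀ x ∈ I, γ.dpow p x = γ'.dpow p x := by
  refine ⟨fun h _ _ => by rw [h], fun h => ?_⟩
  haveI : Fact p.Prime := ⟨hp⟩
  apply DividedPowers.ext
  intro n
  induction n using Nat.strong_induction_on with
  | _ n ih =>
    intro x hx
    rcases Nat.lt_or_ge n 2 with hn | hn
    · interval_cases n
      · rw [γ.dpow_zero hx, γ'.dpow_zero hx]
      · rw [γ.dpow_one hx, γ'.dpow_one hx]
    obtain ⟨v, m, hm, rfl⟩ := Nat.exists_eq_pow_mul_and_not_dvd (show n ≠ 0 by omega) p hp.ne_one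
    have hpos : 0 < p ^ v := pow_pos hp.pos v
    rcases Nat.lt_or_ge m 2 with hm2 | hm2
    · -- a power of `p`
      have hm1 : m = 1 := by
        rcases m with _ | _ | m
        · exact absurd (dvd_zero p) hm
        · rfl
        · omega
      subst hm1
      obtain ⟨v, rfl⟩ : ∃ w, v = w + 1 := ⟨v - 1, by rcases v with _ | v <;> simp at hn ⊢⟩
      have hbell : ¬ p ∣ p.uniformBell (p ^ v) := by
        rw [Nat.uniformBell_eq]
        intro hd
        obtain ⟨i, -, hi⟩ := (Prime.dvd_finsetProd_iff hp.prime _).1 hd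
        have hmod : (((i * p ^ v + p ^ v - 1).choose (p ^ v - 1) : ℕ) : ℤ) ≡ 1 [ZMOD p] := by
          refine (Choose.choose_modEq_choose_mul_prod_range_choose (p := p) v).trans ?_
          rw [Nat.div_eq_of_lt (Nat.sub_lt (pow_pos hp.pos v) one_pos), Nat.choose_zero_right]
          rw [Finset.prod_eq_one]
          · simp [Int.ModEq.refl]
          · intro j hj
            rw [Finset.mem_range] at hj
            obtain ⟨e, he⟩ : ∃ e, v = j + 1 + e := ⟨v - (j + 1), by omega⟩
            have h1 : i * p ^ v + p ^ v - 1 = (p ^ v - 1) + p ^ j * (p * (i * p ^ e)) := by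
              have h2 : p ^ j * (p * (i * p ^ e)) = i * p ^ v := by rw [he]; ring
              have h3 := pow_pos hp.pos v
              omega
            rw [h1, Nat.add_mul_div_left _ _ (pow_pos hp.pos j), Nat.add_mul_mod_self_left, Nat.choose_self]
        have h0 : (((i * p ^ v + p ^ v - 1).choose (p ^ v - 1) : ℕ) : ℤ) ≡ 0 [ZMOD p] :=
          Int.modEq_zero_iff_dvd.2 (by exact_mod_cast hi)
        have h1 := Int.modEq_iff_dvd.1 (h0.symm.trans hmod)
        rw [sub_zero] at h1
        exact hp.ne_one (Nat.dvd_one.1 (by exact_mod_cast h1))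
      have hpv : p ^ v ≠ 0 := (pow_pos hp.pos v).ne'
      have hlt : p ^ v < p ^ (v + 1) * 1 := by
        rw [mul_one]; exact Nat.pow_lt_pow_right hp.one_lt (Nat.lt_succ_self v)
      have h1 := γ.dpow_comp (m := p) hpv hx
      have h2 := γ'.dpow_comp (m := p) hpv hx
      rw [h _ (γ.dpow_mem hpv hx), ih _ hlt hx, h2, ← pow_succ'] at h1
      rw [mul_one]
      exact ((hA _ hbell).mul_left_cancel h1).symm
    · -- split off the largest power of `p`
      have hc : ¬ p ∣ (p ^ v * m).choose (p ^ v) :=
        Groth.L25.CocycleComb.not_dvd_choose (by rw [Nat.mul_div_cancel_left _ hpos]; exact hm)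
      have he : p ^ v + (p ^ v * m - p ^ v) = p ^ v * m :=
        Nat.add_sub_cancel' (Nat.le_mul_of_pos_right _ (by omega))
      have h1 := γ.mul_dpow (m := p ^ v) (n := p ^ v * m - p ^ v) hx
      have h2 := γ'.mul_dpow (m := p ^ v) (n := p ^ v * m - p ^ v) hx
      have hlt : p ^ v < p ^ v * m := lt_mul_of_one_lt_right hpos (by omega)
      rw [he] at h1 h2
      rw [ih _ hlt hx, ih (p ^ v * m - p ^ v) (by omega) hx, h2] at h1
      exact ((hA _ hc).mul_left_cancel h1).symm

end Groth.Agent.S2211
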