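import Groth.Statements.S2213
import Groth.Agent.L09.DPEnvelope

set_option autoImplicit false
universe u
open DPow

set_option backward.isDefEq.respectTransparency false
set_option backward.isDefEq.respectTransparency.types false

namespace Groth.Agent.S2213

/-- Let (A, I) be a ring with divided powers and t a natural number. There is a divided power ring (D,
J) with an A-algebra structure making A -> D a divided power homomorphism and elements x_1, ..., x_t
of J, such that for every divided power ring (C, K) with a divided power homomorphism A -> C and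
every choice of k_1, ..., k_t in K there is exactly one divided power homomorphism D -> C over A
sending x_i to k_i (the divided power polynomial algebra). -/
theorem result {A : Type u} [CommRing A] {I : Ideal A} (γ : DividedPowers I) (t : ℕ) :
    ∃ (D : Type u) (_ : CommRing D) (_ : Algebra A D) (J : Ideal D) (δ : DividedPowers J)
      (x : Fin t → D), (∀ i, x i ∈ J) ∧ γ.IsDPMorphism δ (algebraMap A D) ∧
      ∀ (C : Type u) [CommRing C] [Algebra A C] (K : Ideal C) (ε : DividedPowers K),
        γ.IsDPMorphism ε (algebraMap A C) → ∀ k : Fin t → C, (∀ i, k i ∈ K) →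
          ∃! φ : D →ₐ[A] C, (∀ i, φ (x i) = k i) ∧ δ.IsDPMorphism ε φ.toRingHom := by
  let J : Ideal (MvPolynomial (Fin t) A) :=
    I.map (algebraMap A (MvPolynomial (Fin t) A)) ⊔ Ideal.span (Set.range MvPolynomial.X)
  letI : Algebra A (Groth.L09.DPEnvelope.env γ J) :=
    ((Groth.L09.DPEnvelope.str γ J).comp (algebraMap A (MvPolynomial (Fin t) A))).toAlgebra
  refine ⟨Groth.L09.DPEnvelope.env γ J, inferInstance, inferInstance, Groth.L09.DPEnvelope.envIdeal γ J,
    Groth.L09.DPEnvelope.envDP γ J, fun i => Groth.L09.DPEnvelope.str γ J (MvPolynomial.X i),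
    fun i => Groth.L09.DPEnvelope.map_le_envIdeal γ J
      (Ideal.mem_map_of_mem _ ((le_sup_right : _ ≤ J) (Ideal.subset_span ⟨i, rfl⟩))),
    Groth.L09.DPEnvelope.isDPMorphism_str γ J le_sup_left, ?_⟩
  intro C _ _ K ε hε k hk
  let ψ : MvPolynomial (Fin t) A →ₐ[A] C := MvPolynomial.aeval k
  have hψ : J.map ψ ≤ K := by
    rw [Ideal.map_le_iff_le_comap, sup_le_iff, Ideal.map_le_iff_le_comap, Ideal.span_le]
    refine ⟨fun a ha => ?_, ?_⟩
    · show ψ (algebraMap A _ a) ∈ K
      rw [AlgHom.commutes]
      exact hε.ideal_comp (Ideal.mem_map_of_mem _ ha)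
    · rintro _ ⟨i, rfl⟩
      show ψ (MvPolynomial.X i) ∈ K
      rw [MvPolynomial.aeval_X]
      exact hk i
  obtain ⟨χ, ⟨h1, h2⟩, hu⟩ := Groth.L09.DPEnvelope.existsUnique_lift γ J ⟨C, K, ε, hε, ψ, hψ⟩
  refine ⟨{ χ with commutes' := fun a => (RingHom.congr_fun h1 (algebraMap A _ a)).trans (ψ.commutes a) },
    ⟨fun i => (RingHom.congr_fun h1 (MvPolynomial.X i)).trans (MvPolynomial.aeval_X k i), h2⟩, ?_⟩
  rintro φ ⟨hx, hφ⟩
  refine AlgHom.coe_ringHom_injective (hu φ.toRingHom ⟨?_, hφ⟩)
  refine MvPolynomial.ringHom_ext (fun a => ?_) fun i => (hx i).trans (MvPolynomial.aeval_X k i).symm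
  exact (φ.commutes a).trans (ψ.commutes a).symm

end Groth.Agent.S2213
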