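import Groth.Statements.S3343
import Groth.Agent.L26.TorsRed.Main

set_option autoImplicit false
universe u
open CategoryTheory CategoryTheory.Limits AlgebraicGeometry
open Models

namespace Groth.Agent.S3343

set_option backward.isDefEq.respectTransparency false
set_option linter.style.haveILetI false

/-- Let R be a discrete valuation ring with fraction field K and residue field k, C a smooth proper
curve over K with H^0(C, O_C) = K and X a regular proper model of C. Let h ≥ 1 be an integer prime
to the characteristic of k and M an invertible O_X-module with M^{⊗h} ≅ O_X. If the pullback of M to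
the reduced closed fibre (X_k)_red is trivial, then M is trivial. -/
theorem result (R : Type u) [CommRing R] [IsDomain R] [IsDiscreteValuationRing R]
    (C X : Scheme.{u}) (f : C ⟶ Spec (CommRingCat.of (FractionRing R))) (p : X ⟶ Spec (CommRingCat.of R))
    (hC : Curve.IsSmoothProperCurve (FractionRing R) C f) (hH0 : IsIso f.appTop)
    (hX : Models.IsRegularProperModel R X p C f) (h : ℕ) (hh : 0 < h)
    (hchar : ∀ q : ℕ, q.Prime → CharP (IsLocalRing.ResidueField R) q → ¬ q ∣ h)
    (M : X.Modules) (hM : PicF.IsInvertible M)
    (htors : Nonempty (CohB1.tensorPow M h ≅ Coh.structureModule X))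
    (htriv : Nonempty ((Scheme.Modules.pullback (Models.redFibreIdeal R (Over.mk p)).subschemeι).obj M ≅
      Coh.structureModule (Models.redFibreIdeal R (Over.mk p)).subscheme)) :
    Nonempty (M ≅ Coh.structureModule X) := by
  obtain ⟨⟨hflat, hft, -, g, hg⟩, hproper, hreg⟩ := hX
  haveI : Flat (Over.mk p).hom := hflat
  haveI : IsProper (Over.mk p).hom := hproper
  haveI : IsLocallyNoetherian (Over.mk p).left := LocallyOfFiniteType.isLocallyNoetherian p
  haveI : IsIntegral C := hC.2.2.1
  haveI : IsIntegral (Over.mk p).left := Groth.L05.InterPair.isIntegral_of_model (X := Over.mk p) hreg hg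
  letI : X.Over (Spec (CommRingCat.of R)) := ⟨p⟩
  haveI : Flat (X ↘ Spec (CommRingCat.of R)) := hflat
  haveI : IsProper (X ↘ Spec (CommRingCat.of R)) := hproper
  haveI : IsReduced X := inferInstanceAs (IsReduced (Over.mk p).left)
  have hbij : Function.Bijective (Coh.toGlobal f) :=
    (ConcreteCategory.bijective_of_isIso f.appTop).comp
      (ConcreteCategory.bijective_of_isIso (Scheme.ΓSpecIso (CommRingCat.of (FractionRing R))).inv)
  have hglob := Groth.L05.Models.DualFree.surjective_toGlobal R (X := X) f g hg hbij
  haveI : IsReduced (Models.redFibreIdeal R (Over.mk p)).subscheme :=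
    Groth.L18.isReduced_vanishingIdeal_subscheme _
  refine Groth.L26.TorsRed.nonempty_iso_structure (X := Over.mk p)
    (Models.redFibreIdeal R (Over.mk p)).subschemeι ?_ hglob hh hchar hM htors.some htriv.some
  rw [Scheme.IdealSheafData.range_subschemeι, Models.redFibreIdeal, Groth.L18.support_vanishingIdeal]
  rfl

end Groth.Agent.S3343
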