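import Groth.Statements.S2223
import Groth.Agent.S3343
import Groth.Prelude.Def_PicLoc

set_option autoImplicit false
universe u
open CategoryTheory AlgebraicGeometry
open Models

namespace Groth.Agent.S2223

set_option backward.isDefEq.respectTransparency false
set_option linter.style.haveILetI false

/-- Weakened form (special fibre instead of its reduction, which follows from the source): let R be a
discrete valuation ring with fraction field K and residue field k, C a smooth proper curve over K
with H^0(C, O_C) = K, and X a regular proper model of C. Let h be a positive integer prime to the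
characteristic of k and L an invertible O_X-module whose h-th tensor power is trivial. If the
pullback of L to the special fibre is trivial then L is trivial; i.e. Pic(X)[h] -> Pic(X_k)[h] is
injective. -/
theorem result (R : Type u) [CommRing R] [IsDomain R]
    [IsDiscreteValuationRing R] (C X : Scheme.{u})
    (f : C ⟶ Spec (CommRingCat.of (FractionRing R))) (p : X ⟶ Spec (CommRingCat.of R))
    (hC : Curve.IsSmoothProperCurve (FractionRing R) C f) (hH0 : IsIso f.appTop)
    (hX : Models.IsRegularProperModel R X p C f) (h : ℕ) (hh : 0 < h)
    (hchar : ∀ q : ℕ, q.Prime → CharP (IsLocalRing.ResidueField R) q → ¬ q ∣ h)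
    (L : X.Modules) (hL : PicF.IsInvertible L)
    (htors : Nonempty (CohB1.tensorPow L h ≅ Coh.structureModule X))
    (htriv : Nonempty ((Scheme.Modules.pullback
        (Limits.pullback.fst p (Spec.map (CommRingCat.ofHom
          (algebraMap R (IsLocalRing.ResidueField R)))))).obj L ≅
        Coh.structureModule (Models.specialFibre R X p))) :
    Nonempty (L ≅ Coh.structureModule X) := by
  have hproper : IsProper p := hX.2.1
  let i : Spec (CommRingCat.of (IsLocalRing.ResidueField R)) ⟶ Spec (CommRingCat.of R) :=
    Spec.map (CommRingCat.ofHom (algebraMap R (IsLocalRing.ResidueField R)))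
  haveI : IsClosedImmersion i :=
    IsClosedImmersion.spec_of_surjective _ IsLocalRing.residue_surjective
  haveI : IsLocalHom (algebraMap R (IsLocalRing.ResidueField R)) :=
    inferInstanceAs (IsLocalHom (IsLocalRing.residue R))
  let I := Models.redFibreIdeal R (Over.mk p)
  have hrange : (Models.specialFibreSet R (Over.mk p)) ⊆ Set.range (Limits.pullback.fst p i) := fun x hx => by
    rw [Scheme.Pullback.range_fst]
    refine ⟨IsLocalRing.closedPoint (IsLocalRing.ResidueField R), ?_⟩
    refine Eq.trans ?_ hx.symm
    exact IsLocalRing.comap_closedPoint (algebraMap R (IsLocalRing.ResidueField R))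
  have hker : (Limits.pullback.fst p i).ker ≤ I.subschemeι.ker := by
    rw [Scheme.IdealSheafData.ker_subschemeι]
    refine Scheme.IdealSheafData.le_support_iff_le_vanishingIdeal.1 ?_
    intro x hx
    show x ∈ ((Limits.pullback.fst p i).ker.support : Set X)
    rw [Scheme.Hom.support_ker]
    exact subset_closure (hrange hx)
  let j : I.subscheme ⟶ Models.specialFibre R X p := IsClosedImmersion.lift _ _ hker
  have hj : j ≫ Limits.pullback.fst p i = I.subschemeι := IsClosedImmersion.lift_fac _ _ hker
  exact Groth.Agent.S3343.result R C X f p hC hH0 hX h hh hchar L hL htors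
    ⟨((Scheme.Modules.pullbackCongr hj).app L).symm ≪≫ ((Scheme.Modules.pullbackComp _ _).app L).symm ≪≫
      (Scheme.Modules.pullback j).mapIso htriv.some ≪≫ PicLoc.pullbackStructureIso j⟩

end Groth.Agent.S2223
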