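import Groth.Statements.S2224
import Groth.Agent.L17.FM.FlatTensor
import Groth.Agent.L29.DCoh.RpushCoh
import Groth.Agent.L15.Ref.Tensor
import Groth.Agent.L16.AffineBC.Pullback
import Groth.Agent.L00.LComp

set_option autoImplicit false
set_option linter.style.haveILetI false
universe u
open CategoryTheory AlgebraicGeometry
attribute [local instance] HasDerivedCategory.standard
open QCohCat

namespace Groth.Agent.S2224

/-- Case (2) with the kernel a single coherent module: let S be a Noetherian scheme, X -> S and Y -> S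
of finite type, and K a coherent module on X x_S Y which is flat over X and whose support is proper
over Y. Assuming the derived functors L pr_1^*, - tensor^L K and R pr_2,* exist (assumed as unproved
hypotheses), the Fourier-Mukai transform R pr_2,* (L pr_1^* M tensor^L K) of any bounded object M of
D(O_X) with coherent cohomology sheaves is a bounded object of D(O_Y) with coherent cohomology
sheaves. -/
theorem result {S X Y : Scheme.{u}} [IsNoetherian S]
    (a : X ⟶ S) (b : Y ⟶ S) [LocallyOfFiniteType a] [QuasiCompact a] [LocallyOfFiniteType b]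
    [QuasiCompact b] (K : (Limits.pullback a b).Modules) (hK : Coh.IsCoh K)
    (hflat : FlatMod.IsFlatOver (Limits.pullback.fst a b) K)
    (hsupp : ClSub.IsProperOver (Limits.pullback.snd a b) (CohB1.support K))
    [DCoh.HasLpull (Limits.pullback.fst a b)] [DCoh.HasLTensorMod K]
    [DCoh.HasRpush (Limits.pullback.snd a b)]
    (M : DCoh.D X) (hM : DCoh.IsCohD M) (m n : ℤ) (hMge : DerivedCategory.IsGE M m)
    (hMle : DerivedCategory.IsLE M n) :
    DCoh.IsCohD ((DCoh.Rpush (Limits.pullback.snd a b)).obj
        ((DCoh.LTensorMod K).obj ((DCoh.Lpull (Limits.pullback.fst a b)).obj M))) ∧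
      ∃ m' n' : ℤ, DerivedCategory.IsGE ((DCoh.Rpush (Limits.pullback.snd a b)).obj
          ((DCoh.LTensorMod K).obj ((DCoh.Lpull (Limits.pullback.fst a b)).obj M))) m' ∧
        DerivedCategory.IsLE ((DCoh.Rpush (Limits.pullback.snd a b)).obj
          ((DCoh.LTensorMod K).obj ((DCoh.Lpull (Limits.pullback.fst a b)).obj M))) n' := by
  haveI : IsLocallyNoetherian Y := LocallyOfFiniteType.isLocallyNoetherian b
  haveI : IsLocallyNoetherian X := LocallyOfFiniteType.isLocallyNoetherian a
  haveI : CompactSpace Y := QuasiCompact.compactSpace_of_compactSpace b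
  let p := Limits.pullback.fst a b
  let q := Limits.pullback.snd a b
  haveI : LocallyOfFiniteType q := inferInstanceAs (LocallyOfFiniteType (Limits.pullback.snd a b))
  haveI : IsLocallyNoetherian (Limits.pullback a b) := LocallyOfFiniteType.isLocallyNoetherian q
  obtain ⟨P, r, hPf, -, hr, -⟩ := Groth.L00.KFlat.exists_resolution (DerivedCategory.Q.objPreimage M)
  haveI := (DerivedCategory.isIso_Q_map_iff_quasiIso _ r).2 hr
  let eM : DCoh.toD X P ≅ M := asIso (DerivedCategory.Q.map r) ≪≫ DerivedCategory.Q.objObjPreimageIso M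
  have hPf' := Groth.L00.KFlat.pullback_kflat p P hPf
  let e0 : ((DCoh.tensorRightMod K).mapHomologicalComplex (ComplexShape.up ℤ)).obj
        (((Scheme.Modules.pullback p).mapHomologicalComplex (ComplexShape.up ℤ)).obj P) ≅
      ((Groth.L17.FlatTensor.G p K).mapHomologicalComplex (ComplexShape.up ℤ)).obj P :=
    (NatIso.mapHomologicalComplex (Groth.L00.DerivedApi.tensorRightModIso K) (ComplexShape.up ℤ)).app _ ≪≫
      HomologicalComplex.Hom.isoOfComponents (fun i => Iso.refl _)
        (fun i j _ => (Category.id_comp _).trans (Category.comp_id _).symm)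
  let E := (DCoh.LTensorMod K).obj ((DCoh.Lpull p).obj M)
  let eE : E ≅ DCoh.toD _ (((Groth.L17.FlatTensor.G p K).mapHomologicalComplex (ComplexShape.up ℤ)).obj P) :=
    (DCoh.LTensorMod K).mapIso ((DCoh.Lpull p).mapIso eM.symm ≪≫
      Groth.L00.DerivedApi.objIso (Groth.L00.DerivedApi.acyclicKFlat_pullback p) P hPf) ≪≫
    Groth.L00.DerivedApi.objIso (Groth.L00.DerivedApi.acyclicKFlat_tensorMod K) _ hPf' ≪≫
    DerivedCategory.Q.mapIso e0
  haveI : Limits.PreservesFiniteLimits (Groth.L17.FlatTensor.G p K) :=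
    Groth.L17.FlatTensor.preservesFiniteLimits p K hflat
  let eH : ∀ i, DCoh.HD E i ≅ (Groth.L17.FlatTensor.G p K).obj (DCoh.HD M i) := fun i =>
    (DerivedCategory.homologyFunctor _ i).mapIso eE ≪≫ (DerivedCategory.homologyFunctorFactors _ i).app _ ≪≫
      (P.sc i).mapHomologyIso (Groth.L17.FlatTensor.G p K) ≪≫
      (Groth.L17.FlatTensor.G p K).mapIso (((DerivedCategory.homologyFunctorFactors _ i).app P).symm ≪≫
        (DerivedCategory.homologyFunctor _ i).mapIso eM)
  have hEcoh : DCoh.IsCohD E := fun i => Groth.L16.CohSupport.isCoh_of_iso (eH i).symm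
    (Groth.L15.Ref.isCoh_tensorMod hK (Groth.L16.AffineBC.isCoh_pullback p (hM i)))
  have hEs : ∀ i, ClSub.IsProperOver q (CohB1.support (DCoh.HD E i)) := fun i => by
    refine Groth.L17.ProperOver.isProperOver_mono hsupp
      (Groth.L16.CohSupport.isClosed_support _ (hEcoh i).2) ?_
    rw [Groth.L29.DC.RpushCoh.support_congr (eH i)]
    intro z hz hz'
    haveI : Subsingleton ((Groth.L00.Stk.F _ z).obj K) := hz'
    refine hz (ModuleCat.subsingleton_of_isZero
      ((((CategoryTheory.MonoidalCategory.curriedTensor (ModuleCat.{u} ((Limits.pullback a b).presheaf.stalk z))).obj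
        ((Groth.L00.Stk.F _ z).obj ((Scheme.Modules.pullback p).obj (DCoh.HD M i)))).map_isZero
          (ModuleCat.isZero_of_subsingleton ((Groth.L00.Stk.F _ z).obj K))).of_iso
        (Groth.L00.Stk.β z ((Scheme.Modules.pullback p).obj (DCoh.HD M i)) K).symm))
  haveI hEge : E.IsGE m := (DerivedCategory.isGE_iff _ _).2 fun i hi =>
    ((Groth.L17.FlatTensor.G p K).map_isZero (DerivedCategory.isZero_of_isGE M m i hi)).of_iso (eH i)
  haveI hEle : E.IsLE n := (DerivedCategory.isLE_iff _ _).2 fun i hi =>
    ((Groth.L17.FlatTensor.G p K).map_isZero (DerivedCategory.isZero_of_isLE M n i hi)).of_iso (eH i)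
  refine ⟨Groth.L29.DC.RpushCoh.isCohD_Rpush q E m hEcoh hEs, m, ?_⟩
  obtain ⟨b', hb'⟩ := Groth.L29.DC.RpushCoh.exists_isLE q n (n + 1 - m).toNat E
    ((DerivedCategory.isGE_iff _ _).2 fun i hi => DerivedCategory.isZero_of_isGE E m i (by omega)) hEle hEcoh hEs
  exact ⟨b', Groth.L29.DC.RpushQC.isGE_Rpush q E m, hb'⟩

end Groth.Agent.S2224
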