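import Groth.Statements.S2225
import Groth.Agent.L21.GorensteinSpace
import Groth.Agent.L21.GorensteinBaseChangeFG
import Groth.Agent.S0342
import Mathlib.RingTheory.RegularLocalRing.Polynomial

set_option autoImplicit false
universe u
open CategoryTheory AlgebraicGeometry
open Models

namespace Groth.Agent.S2225

/-- Part (1), for the closed fibre: let R be a discrete valuation ring with fraction field K, C a smooth
proper curve over K and X a regular model of C over R (flat, of finite type, all local rings
regular). Then every local ring of the special fibre X_k is a Gorenstein local ring; together with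
flatness and regularity of the generic fibre this says X -> Spec R is a Gorenstein morphism. -/
theorem result (R : Type u) [CommRing R] [IsDomain R]
    [IsDiscreteValuationRing R] (C X : Scheme.{u})
    (f : C ⟶ Spec (CommRingCat.of (FractionRing R))) (p : X ⟶ Spec (CommRingCat.of R))
    (hC : Curve.IsSmoothProperCurve (FractionRing R) C f) (hX : Models.IsModel R X p C f)
    (hreg : Models.IsRegularScheme X) (x : ↥(Models.specialFibre R X p)) :
    LocCoh.IsGorensteinLocalRing ((Models.specialFibre R X p).presheaf.stalk x) := by
  obtain ⟨hflat, hlft, -, -⟩ := hX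
  haveI := hflat
  haveI := hlft
  haveI : IsLocallyNoetherian X := LocallyOfFiniteType.isLocallyNoetherian p
  have hG : Dual3.IsGorenstein X := ⟨inferInstance, fun y => by
    haveI := hreg y
    exact Groth.Agent.S0342.result _⟩
  let g := Spec.map (CommRingCat.ofHom (algebraMap R (IsLocalRing.ResidueField R)))
  haveI : LocallyOfFiniteType g := by
    rw [HasRingHomProperty.Spec_iff (P := @LocallyOfFiniteType)]
    exact RingHom.FiniteType.of_surjective _ IsLocalRing.residue_surjective
  haveI : ∀ y, IsLocallyNoetherian (p.fiber y) := fun y =>
    haveI : LocallyOfFiniteType (p.fiberToSpecResidueField y) :=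
      inferInstanceAs (LocallyOfFiniteType (Limits.pullback.snd p ((Spec (CommRingCat.of R)).fromSpecResidueField y)))
    LocallyOfFiniteType.isLocallyNoetherian (p.fiberToSpecResidueField y)
  let q : Models.specialFibre R X p ⟶ Spec (CommRingCat.of (IsLocalRing.ResidueField R)) := Limits.pullback.snd p g
  haveI : LocallyOfFiniteType q := inferInstanceAs (LocallyOfFiniteType (Limits.pullback.snd p g))
  have hq : Dual3.IsGorensteinAt q x := (Groth.L21.GorensteinBaseChange.isGorensteinAt_baseChange_fg p g q
    (Limits.pullback.fst p g) (CategoryTheory.IsPullback.of_hasPullback p g) x).1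
    (Groth.L21.GorensteinSpace.gorenstein_at_of_flat p hG _).1
  haveI : IsLocallyNoetherian (Models.specialFibre R X p) := LocallyOfFiniteType.isLocallyNoetherian q
  obtain ⟨hfl, hfib⟩ := hq
  letI := (q.stalkMap x).hom.toAlgebra
  let A := (Spec (CommRingCat.of (IsLocalRing.ResidueField R))).presheaf.stalk (q x)
  let C := (Models.specialFibre R X p).presheaf.stalk x
  haveI : Module.Flat A C := hfl
  haveI : IsLocalHom (algebraMap A C) := inferInstanceAs (IsLocalHom (q.stalkMap x).hom)
  haveI : IsRegularLocalRing A := by
    let e := StructureSheaf.stalkIso (IsLocalRing.ResidueField R) (q x)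
    haveI := IsRegularRing.isRegularLocalRing_localization (R := IsLocalRing.ResidueField R) (q x).asIdeal
    exact IsRegularLocalRing.of_ringEquiv e.toRingEquiv
  exact (Groth.L21.GorensteinFlat.gorenstein_flat_local_iff A C).2
    ⟨Groth.Agent.S0342.result A, (Groth.L21.GorensteinScheme.gorenstein_fibre_iff q x).2 hfib⟩

end Groth.Agent.S2225
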