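import Groth.Statements.S2227
import Groth.Agent.L05.NodalDVR.Main

set_option autoImplicit false
universe u
open CategoryTheory AlgebraicGeometry
open Models

namespace Groth.Agent.S2227
set_option backward.isDefEq.respectTransparency false
set_option backward.isDefEq.respectTransparency.types false
set_option linter.style.haveILetI false

/-- Let R be a discrete valuation ring with uniformizer ϖ and X → Spec R an at-worst-nodal family of
relative dimension one. For every point x of X lying over the closed point of Spec R there are: a
discrete valuation ring R' with an étale ring map R → R' sending ϖ to a uniformizer of R', an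
element h of R'[u, v] which is either 0 or the constant ϖⁿ for some n (via R → R'), a scheme U with
an étale morphism e : U → X whose image contains x, and an étale morphism g : U → Spec(R'[u, v]/(uv
− h)), such that the two composites U → Spec R (through g and through e) agree. (The étaleness of g
is part of the statement here; the published display leaves it implicit.) -/
theorem result (R : Type u) [CommRing R] [IsDomain R]
    [IsDiscreteValuationRing R] (ϖ : R) (hϖ : Irreducible ϖ) (X : Scheme.{u})
    (p : X ⟶ Spec (CommRingCat.of R)) (hp : Curv2.IsNodalFamily p) (x : X)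
    (hx : p.base x = IsLocalRing.closedPoint R) :
    ∃ (R' : Type u) (_ : CommRing R') (_ : IsDomain R') (_ : IsDiscreteValuationRing R')
      (_ : Algebra R R') (_ : Algebra.Etale R R') (_ : Irreducible (algebraMap R R' ϖ))
      (h : MvPolynomial (Fin 2) R') (_ : h = 0 ∨ ∃ n : ℕ, h = MvPolynomial.C (algebraMap R R' ϖ ^ n))
      (U : Scheme.{u}) (e : U ⟶ X) (_ : Etale e) (x' : U) (_ : e.base x' = x)
      (g : U ⟶ Spec (CommRingCat.of (MvPolynomial (Fin 2) R' ⧸
        Ideal.span {MvPolynomial.X 0 * MvPolynomial.X 1 - h}))) (_ : Etale g),
      g ≫ Spec.map (CommRingCat.ofHom ((Ideal.Quotient.mk _).comp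
          (MvPolynomial.C.comp (algebraMap R R')))) = e ≫ p := by
  haveI := hp.1
  haveI := hp.2.1
  rcases Groth.L05.SingLocus.smoothOne_or_isNode p hp x with ⟨O, hxO, hO⟩ | hn
  · haveI := hO
    obtain ⟨U, e, he, x', hx', g, hg, hc⟩ := Groth.L05.NodalDVR.exists_smooth_chart R p x hx O hxO
    have h1 : (1 : MvPolynomial (Fin 2) R) = MvPolynomial.C (algebraMap R R ϖ ^ 0) := by rw [pow_zero, map_one]
    exact ⟨R, inferInstance, inferInstance, inferInstance, Algebra.id R, inferInstance, hϖ, 1,
      Or.inr ⟨0, h1⟩, U, e, he, x', hx', g, hg, hc⟩
  · exact Groth.L05.NodalDVR.exists_node_chart R ϖ hϖ p x hx hn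

end Groth.Agent.S2227
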