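import Groth.Statements.S2232
import Groth.Agent.L17.FM.CohTensor
import Groth.Agent.S1005
import Groth.Agent.L29.DCoh.RpushCoh
import Groth.Agent.L17.ProperOver
import Groth.Agent.L29.K.CohSupp

set_option autoImplicit false
set_option linter.style.haveILetI false
set_option linter.unusedVariables false
universe u
open CategoryTheory AlgebraicGeometry
attribute [local instance] HasDerivedCategory.standard
open QCohCat

namespace Groth.Agent.S2232

/-- Case (3): let S be Noetherian, X -> S and Y -> S of finite type with all local rings of X regular,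
and K a bounded complex of modules on X x_S Y with coherent cohomology sheaves whose supports are
proper over Y. Assuming the derived functors L pr_1^*, - tensor^L K and R pr_2,* exist (unproved
hypotheses carried as binders), the Fourier-Mukai transform of a bounded object of D(O_X) with
coherent cohomology sheaves is a bounded object of D(O_Y) with coherent cohomology sheaves. -/
theorem result {S X Y : Scheme.{u}} [IsNoetherian S]
    (a : X ⟶ S) (b : Y ⟶ S) [LocallyOfFiniteType a] [QuasiCompact a] [LocallyOfFiniteType b]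
    [QuasiCompact b] (hreg : Models.IsRegularScheme X)
    (K : CochainComplex (Limits.pullback a b).Modules ℤ)
    (hKcoh : DCoh.IsCohD (DCoh.toD (Limits.pullback a b) K)) (kₗ kᵤ : ℤ)
    (hKge : DerivedCategory.IsGE (DCoh.toD (Limits.pullback a b) K) kₗ)
    (hKle : DerivedCategory.IsLE (DCoh.toD (Limits.pullback a b) K) kᵤ)
    (hsupp : ∀ i : ℤ, ClSub.IsProperOver (Limits.pullback.snd a b)
      (CohB1.support (DCoh.HD (DCoh.toD (Limits.pullback a b) K) i)))
    [DCoh.HasLpull (Limits.pullback.fst a b)] [DCoh.HasLTensorCx K]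
    [DCoh.HasRpush (Limits.pullback.snd a b)]
    (M : DCoh.D X) (hM : DCoh.IsCohD M) (m n : ℤ) (hMge : DerivedCategory.IsGE M m)
    (hMle : DerivedCategory.IsLE M n) :
    DCoh.IsCohD ((DCoh.Rpush (Limits.pullback.snd a b)).obj
        ((DCoh.LTensorCx K).obj ((DCoh.Lpull (Limits.pullback.fst a b)).obj M))) ∧
      ∃ m' n' : ℤ, DerivedCategory.IsGE ((DCoh.Rpush (Limits.pullback.snd a b)).obj
        ((DCoh.LTensorCx K).obj ((DCoh.Lpull (Limits.pullback.fst a b)).obj M))) m' ∧
        DerivedCategory.IsLE ((DCoh.Rpush (Limits.pullback.snd a b)).obj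
        ((DCoh.LTensorCx K).obj ((DCoh.Lpull (Limits.pullback.fst a b)).obj M))) n' := by
  haveI : IsLocallyNoetherian Y := LocallyOfFiniteType.isLocallyNoetherian b
  haveI : IsLocallyNoetherian X := LocallyOfFiniteType.isLocallyNoetherian a
  haveI : CompactSpace Y := QuasiCompact.compactSpace_of_compactSpace b
  let p := Limits.pullback.fst a b
  let q := Limits.pullback.snd a b
  haveI : LocallyOfFiniteType q := inferInstanceAs (LocallyOfFiniteType (Limits.pullback.snd a b))
  haveI : IsLocallyNoetherian (Limits.pullback a b) := LocallyOfFiniteType.isLocallyNoetherian q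
  haveI : QuasiCompact q := inferInstanceAs (QuasiCompact (Limits.pullback.snd a b))
  haveI : CompactSpace ↥(Limits.pullback a b) := QuasiCompact.compactSpace_of_compactSpace q
  haveI := hMge
  haveI := hMle
  haveI := hKge
  haveI := hKle
  have hMp : DCoh.IsPerfect M := Groth.Agent.S1005.result X hreg M m n hM
  have hNp : DCoh.IsPerfect ((DCoh.Lpull p).obj M) := Groth.L29.DC.isPerfect_Lpull p hMp
  have hqK : DCoh.IsQCohD (DCoh.toD (Limits.pullback a b) K) := fun i => (hKcoh i).1
  have hpK := fun m => Groth.L29.DC.PCNoeth.pc_of_coh hqK m kᵤ fun i _ => hKcoh i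
  have hqN := Groth.L29.DC.PCQCoh.isQCohD_of_perfect hNp
  have hpN := fun m => Groth.L29.DC.pc_of_perfect hNp m
  let E := (DCoh.LTensorCx K).obj ((DCoh.Lpull p).obj M)
  have hEcoh : DCoh.IsCohD E := Groth.L17.PCTensor.isCohD_LTensorCx K _ hqN hqK hpN hpK
  obtain ⟨A₀, B₀, -, hB₀⟩ := Groth.L29.CohSupp.exists_bounds_of_perfect hNp
  haveI := hB₀
  haveI hEle : E.IsLE (B₀ + kᵤ) := Groth.L17.PCTensor.isLE_LTensorCx K _ hqN hqK hpN hpK B₀ kᵤ
  obtain ⟨A, hA⟩ := Groth.L17.PCTensor.exists_isGE_LTensorCx K _ hNp hqK hpK kₗ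
  haveI : E.IsGE A := hA
  obtain ⟨Z, hZ, hZE⟩ : ∃ Z, ClSub.IsProperOver q Z ∧
      ∀ i, CohB1.support (DCoh.HD (DCoh.toD (Limits.pullback a b) K) i) ⊆ Z := by
    refine ⟨⋃ j : Fin (kᵤ + 1 - kₗ).toNat, CohB1.support (DCoh.HD (DCoh.toD (Limits.pullback a b) K) (kₗ + j.1)),
      Groth.L17.ProperOver.isProperOver_iUnion _ fun j => hsupp _, fun i x hx => ?_⟩
    by_cases hi : i < kₗ
    · exact absurd hx ((Groth.L29.CohSupp.support_of_isZero (DerivedCategory.isZero_of_isGE (DCoh.toD (Limits.pullback a b) K) kₗ i hi)).symm ▸ id)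
    by_cases hi' : kᵤ < i
    · exact absurd hx ((Groth.L29.CohSupp.support_of_isZero (DerivedCategory.isZero_of_isLE (DCoh.toD (Limits.pullback a b) K) kᵤ i hi')).symm ▸ id)
    exact Set.mem_iUnion.2 ⟨⟨(i - kₗ).toNat, by omega⟩, by
      rwa [show kₗ + ((i - kₗ).toNat : ℤ) = i from by omega]⟩
  have hEs : ∀ i, ClSub.IsProperOver q (CohB1.support (DCoh.HD E i)) := fun i =>
    Groth.L17.ProperOver.isProperOver_mono hZ (Groth.L16.CohSupport.isClosed_support _ (hEcoh i).2)
      (Groth.L17.PCTensor.support_LTensorCx K _ hZE i)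
  refine ⟨Groth.L29.DC.RpushCoh.isCohD_Rpush q E A hEcoh hEs, A, ?_⟩
  obtain ⟨b', hb'⟩ := Groth.L29.DC.RpushCoh.exists_isLE q (B₀ + kᵤ) (B₀ + kᵤ + 1 - A).toNat E
    ((DerivedCategory.isGE_iff _ _).2 fun i hi => DerivedCategory.isZero_of_isGE E A i (by omega)) hEle hEcoh hEs
  exact ⟨b', Groth.L29.DC.RpushQC.isGE_Rpush q E A, hb'⟩

end Groth.Agent.S2232
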