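import Groth.Statements.S2233
import Groth.Agent.Lead.FlatPerfectCx
import Groth.Agent.L17.Strat.GenBase
import Groth.Agent.L29.DCoh.Restrict

set_option backward.isDefEq.respectTransparency false
set_option linter.style.haveILetI false


set_option autoImplicit false
universe u
open CategoryTheory AlgebraicGeometry
attribute [local instance] HasDerivedCategory.standard
open QCohCat

namespace Groth.Agent.S2233

/-- Case (2): let X -> S be quasi-compact, quasi-separated and locally of finite presentation, Y -> S
arbitrary, and K a bounded complex of finitely presented modules on X x_S Y, each flat over Y and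
with support proper over Y. Assuming the derived functors L pr_1^*, - tensor^L K and R pr_2,* exist
(unproved hypotheses carried as binders), the Fourier-Mukai transform of a perfect object of D(O_X)
is a perfect object of D(O_Y). -/
theorem result {S X Y : Scheme.{u}} (a : X ⟶ S)
    (b : Y ⟶ S) [QuasiCompact a] [QuasiSeparated a] [LocallyOfFinitePresentation a]
    (K : CochainComplex (Limits.pullback a b).Modules ℤ) (kₗ kᵤ : ℤ)
    (hKb : DCoh.VanishesOutside K kₗ kᵤ) (hKfp : ∀ i : ℤ, CohB1.IsFP (K.X i))
    (hKflat : ∀ i : ℤ, FlatMod.IsFlatOver (Limits.pullback.snd a b) (K.X i))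
    (hKsupp : ∀ i : ℤ, ClSub.IsProperOver (Limits.pullback.snd a b) (CohB1.support (K.X i)))
    [DCoh.HasLpull (Limits.pullback.fst a b)] [DCoh.HasLTensorCx K]
    [DCoh.HasRpush (Limits.pullback.snd a b)] (M : DCoh.D X) (hM : DCoh.IsPerfect M) :
    DCoh.IsPerfect ((DCoh.Rpush (Limits.pullback.snd a b)).obj
        ((DCoh.LTensorCx K).obj ((DCoh.Lpull (Limits.pullback.fst a b)).obj M))) := by
  let p := Limits.pullback.fst a b
  let q := Limits.pullback.snd a b
  haveI : LocallyOfFinitePresentation q := inferInstanceAs (LocallyOfFinitePresentation (Limits.pullback.snd a b))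
  haveI : QuasiCompact q := inferInstanceAs (QuasiCompact (Limits.pullback.snd a b))
  haveI : QuasiSeparated q := inferInstanceAs (QuasiSeparated (Limits.pullback.snd a b))
  obtain ⟨D, r, hD, -, hr, -⟩ := Groth.L00.KFlat.exists_resolution
    (DerivedCategory.Q.objPreimage ((DCoh.Lpull p).obj M))
  haveI := (DerivedCategory.isIso_Q_map_iff_quasiIso _ r).2 hr
  let eD : DCoh.toD _ D ≅ (DCoh.Lpull p).obj M :=
    asIso (DerivedCategory.Q.map r) ≪≫ DerivedCategory.Q.objObjPreimageIso _
  haveI := Groth.L00.KFlat.hasLTensorCx D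
  obtain ⟨c⟩ := Groth.Lead.FlatPerfect.nonempty_LTensorCx_comm K D hD
  refine Groth.L29.DC.isPerfect_of_iso
    ((DCoh.Rpush q).mapIso (c.symm ≪≫ (DCoh.LTensorCx K).mapIso eD))
    (Groth.Lead.FlatPerfect.isPerfect_Rpush_terms q D hD
      (Groth.L29.DC.isPerfect_of_iso eD.symm (Groth.L29.DC.isPerfect_Lpull p hM)) kₗ (kᵤ + 1 - kₗ).toNat K
      (fun i hi => hKb i (hi.imp id fun h => by omega)) fun i => Or.inr (Or.inr
        ⟨hKfp i, Groth.L17.Strat.isQCoh_of_isFP _ (hKfp i), hKflat i, hKsupp i⟩))


end Groth.Agent.S2233
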