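import Groth.Statements.S2237
import Groth.Agent.L07.SyntLCI

set_option autoImplicit false
set_option linter.style.haveILetI false
universe u
attribute [local instance] HasDerivedCategory.standard
open LCI

namespace Groth.Agent.S2237

/-- Implication (2) to (5), affine form: let A -> B be flat, quasi-finite and a local complete
intersection homomorphism (finite type with a Koszul-regular presentation). Then for every prime q
of B there are g in B outside q, a natural number n and polynomials f_1, ..., f_n in A[x_1, ...,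
x_n] such that B_g is isomorphic as an A-algebra to A[x_1, ..., x_n]/(f_1, ..., f_n). -/
theorem result {A B : Type u} [CommRing A]
    [CommRing B] [Algebra A B] [Module.Flat A B] [Algebra.QuasiFinite A B] (hlci : LCI.IsLCI A B)
    (q : Ideal B) [q.IsPrime] :
    ∃ g : B, g ∉ q ∧ ∃ (n : ℕ) (f : Fin n → MvPolynomial (Fin n) A),
      Nonempty (Localization.Away g ≃ₐ[A]
        (MvPolynomial (Fin n) A ⧸ Ideal.span (Set.range f))) := by
  classical
  have hsyn := Groth.L07.SyntLCI.isSyntomic_of_flat_isLCI hlci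
  haveI := hsyn.2.1
  obtain ⟨g, hg, m, c, F, hF, ⟨e⟩⟩ := Groth.L07.SyntAlg.exists_relGCI_nhd' (R := A) (⟨q, inferInstance⟩ : PrimeSpectrum B)
    ((Groth.L07.SyntAlg.isSyntomic_iff.mp hsyn).2 _)
  haveI : Algebra.QuasiFinite A (Synt.RelGCIRing A m c F) :=
    Algebra.QuasiFinite.of_surjective_algHom e.toAlgHom e.surjective
  obtain ⟨Q⟩ : Nonempty (PrimeSpectrum (Synt.RelGCIRing A m c F)) := by
    haveI : Nontrivial (Synt.RelGCIRing A m c F) := by
      haveI : Nontrivial (Localization.Away g) := by
        refine not_subsingleton_iff_nontrivial.mp fun hs => ?_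
        obtain ⟨k, hk⟩ := (IsLocalization.subsingleton_iff (R := B) (S := Localization.Away g) (M := Submonoid.powers g)).mp hs
        have hk' : g ^ k = 0 := hk
        exact hg (Ideal.IsPrime.mem_of_pow_mem inferInstance k (hk' ▸ q.zero_mem))
      exact e.symm.toRingEquiv.toEquiv.nontrivial
    infer_instance
  let p : PrimeSpectrum A := PrimeSpectrum.comap (algebraMap A _) Q
  obtain ⟨Q'⟩ : Nonempty (PrimeSpectrum (p.asIdeal.Fiber (Synt.RelGCIRing A m c F))) :=
    ⟨PrimeSpectrum.preimageEquivFiber A _ p ⟨Q, rfl⟩⟩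
  haveI hnt : Nontrivial (p.asIdeal.Fiber (Synt.RelGCIRing A m c F)) := by
    by_contra hc
    rw [not_nontrivial_iff_subsingleton] at hc
    exact Q'.2.ne_top (Subsingleton.elim _ _)
  obtain ⟨hcm, hdim⟩ := hF p hnt
  haveI : IsArtinianRing (p.asIdeal.Fiber (Synt.RelGCIRing A m c F)) :=
    IsArtinianRing.of_finite p.asIdeal.ResidueField (p.asIdeal.Fiber (Synt.RelGCIRing A m c F))
  have hle : ringKrullDim (p.asIdeal.Fiber (Synt.RelGCIRing A m c F)) ≤ 0 :=
    haveI : Ring.KrullDimLE 0 (p.asIdeal.Fiber (Synt.RelGCIRing A m c F)) :=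
      haveI : IsNoetherianRing (p.asIdeal.Fiber (Synt.RelGCIRing A m c F)) :=
        Algebra.FiniteType.isNoetherianRing p.asIdeal.ResidueField (p.asIdeal.Fiber (Synt.RelGCIRing A m c F))
      (isArtinianRing_iff_krullDimLE_zero (R := p.asIdeal.Fiber (Synt.RelGCIRing A m c F))).mp inferInstance
    Ring.krullDimLE_iff.mp inferInstance
  rw [hdim] at hle
  obtain rfl : c = m := by
    have : m - c ≤ 0 := by exact_mod_cast hle
    omega
  exact ⟨g, hg, c, F, ⟨e⟩⟩

end Groth.Agent.S2237
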