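import Groth.Agent.L18.ValCrit
import Groth.Statements.S2335
-- import your own Groth.Agent.* helpers here

set_option autoImplicit false
universe u
open CategoryTheory CategoryTheory.Limits AlgebraicGeometry
open EGA2

namespace Groth.Agent.S2335

/-- Let Y be locally Noetherian and f : X → Y of finite type. Then f is proper if and only if for every
discrete valuation ring A with fraction field K and every commutative square Spec K → X, Spec A → Y,
there is exactly one morphism Spec A → X making both triangles commute. -/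
theorem result {X Y : Scheme.{u}} [IsLocallyNoetherian Y] (f : X ⟶ Y) [LocallyOfFiniteType f] [QuasiCompact f] :
    IsProper f ↔ ∀ (A : Type u) [CommRing A] [IsDomain A] [IsDiscreteValuationRing A] (x : (Spec (CommRingCat.of (FractionRing A))) ⟶ X) (y : (Spec (CommRingCat.of A)) ⟶ Y),
      x ≫ f = (Spec.map (CommRingCat.ofHom (algebraMap A (FractionRing A)))) ≫ y → ∃! l : (Spec (CommRingCat.of A)) ⟶ X, l ≫ f = y ∧ (Spec.map (CommRingCat.ofHom (algebraMap A (FractionRing A)))) ≫ l = x := by
  refine ⟨fun hp A _ _ _ x y w => ?_, fun H => ?_⟩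
  · let S : ValuativeCommSq f := ⟨A, FractionRing A, x, y, ⟨w⟩⟩
    have h : ValuativeCriterion f ∧ QuasiCompact f := by
      rw [IsProper.eq_valuativeCriterion] at hp
      exact ⟨hp.1.1.1, hp.1.1.2⟩
    obtain ⟨⟨⟨l, hl₁, hl₂⟩⟩, hu⟩ := (h.1 S).some
    exact ⟨l, ⟨hl₂, hl₁⟩, fun l' hl' => congrArg CommSq.LiftStruct.l (hu ⟨l', hl'.2, hl'.1⟩)⟩
  · have hs : IsSeparated f := by
      refine Groth.L18.isSeparated_of_fractionRing f fun A _ _ _ g₁ g₂ hf hK => ?_
      obtain ⟨l, -, hu⟩ := H A (Spec.map (CommRingCat.ofHom (algebraMap A (FractionRing A))) ≫ g₁)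
        (g₁ ≫ f) (Category.assoc _ _ _)
      exact (hu g₁ ⟨rfl, rfl⟩).trans (hu g₂ ⟨hf.symm, hK.symm⟩).symm
    have hu : UniversallyClosed f := Groth.L18.universallyClosed_of_dvrLift f
      (Groth.L18.dvrLift_of_fractionRing f fun A _ _ _ x y w => (H A x y w).exists)
    exact ⟨⟩

end Groth.Agent.S2335
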