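import Groth.Statements.S2343
import Groth.Agent.S17447
import Groth.Agent.S0499
import Mathlib.AlgebraicGeometry.ZariskisMainTheorem
import Mathlib.AlgebraicGeometry.Limits

set_option autoImplicit false
universe u
open CategoryTheory CategoryTheory.Limits AlgebraicGeometry
open EGA2

namespace Groth.Agent.S2343

/-- Let A be a complete Noetherian local ring, X a separated scheme locally of finite type over Spec A,
and x a point of X over the closed point which is isolated in its fibre. Then the local ring of X at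
x is a finite A-module and the canonical morphism Spec O_{X,x} → X is both an open and a closed
immersion (X is the disjoint sum of Spec O_{X,x} and another open subscheme). -/
theorem result (A : Type u) [CommRing A] [IsLocalRing A] [IsNoetherianRing A]
    [IsAdicComplete (IsLocalRing.maximalIdeal A) A] (X : Scheme.{u}) (f : X ⟶ Spec (CommRingCat.of A)) [LocallyOfFiniteType f] [IsSeparated f]
    (x : X) (hx : f.base x = IsLocalRing.closedPoint A)
    (hisol : IsOpen ((Subtype.val : (f.base ⁻¹' {IsLocalRing.closedPoint A}) → X) ⁻¹' {x})) :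
    ((Scheme.ΓSpecIso (CommRingCat.of A)).inv ≫ f.appTop ≫ X.presheaf.germ ⊤ x trivial).hom.Finite ∧ IsOpenImmersion (X.fromSpecStalk x) ∧ IsClosedImmersion (X.fromSpecStalk x) := by
  haveI : HenselianLocalRing A :=
    { is_henselian := fun g hg a₀ h₁ h₂ =>
        HenselianRing.is_henselian (I := IsLocalRing.maximalIdeal A) g hg a₀ h₁
          (h₂.map (Ideal.Quotient.mk (IsLocalRing.maximalIdeal A))) }
  have hq : f.QuasiFiniteAt x := by
    rw [Scheme.Hom.quasiFiniteAt_iff_isOpen_singleton_asFiber, ← (f.fiberHomeo (f x)).isOpen_image,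
      Set.image_singleton, Scheme.Hom.asFiber, Homeomorph.apply_symm_apply]
    obtain ⟨O, hO, hOe⟩ := isOpen_induced_iff.1 hisol
    refine isOpen_induced_iff.2 ⟨O, hO, ?_⟩
    ext ⟨y, hy⟩
    have := Set.ext_iff.1 hOe ⟨y, hy.trans hx⟩
    simpa [Subtype.ext_iff] using this
  obtain ⟨U, hU, hxU, hUQ⟩ := exists_isAffineOpen_mem_and_subset (x := x) (U := f.quasiFiniteLocus) hq
  haveI : IsAffine U.toScheme := hU
  haveI : LocallyQuasiFinite (U.ι ≫ f) := by
    rw [← Scheme.Hom.quasiFiniteLocus_eq_top_iff, Scheme.Hom.quasiFiniteLocus_comp, eq_top_iff]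
    exact fun u _ => hUQ u.2
  obtain ⟨W, ⟨-, hWfin, hWmem⟩, -⟩ := Groth.Agent.S17447.result A (U.ι ≫ f)
  haveI := hWfin
  haveI : IsAffine W.toScheme := isAffine_of_isAffineHom (W.ι ≫ U.ι ≫ f)
  let e₀ := W.toScheme.isoSpec
  let α : CommRingCat.of A ⟶ Γ(W.toScheme, ⊤) := Spec.preimage (e₀.inv ≫ W.ι ≫ U.ι ≫ f)
  have hα : α.hom.Finite := by
    rw [← IsFinite.SpecMap_iff, Spec.map_preimage]; infer_instance
  algebraize [α.hom]
  obtain ⟨ι, _, L, _, hL, ⟨eL⟩⟩ := Groth.Agent.S0499.result A Γ(W.toScheme, ⊤)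
  haveI := hL
  let η : Γ(W.toScheme, ⊤) ≅ CommRingCat.of (∀ i, L i) := eL.toCommRingCatIso
  let j : ∀ i, Spec (CommRingCat.of (L i)) ⟶ W.toScheme := fun i =>
    Spec.map (CommRingCat.ofHom (Pi.evalRingHom L i)) ≫ Spec.map η.hom ≫ e₀.inv
  obtain ⟨q, hq'⟩ := (asIso (sigmaSpec fun i => CommRingCat.of (L i)) ≪≫ (Scheme.Spec.mapIso η.op) ≪≫ e₀.symm).hom.surjective
    ⟨⟨x, hxU⟩, hWmem _ hx⟩
  obtain ⟨i, q, rfl⟩ := (sigmaOpenCover fun i => Spec (CommRingCat.of (L i))).exists_eq q
  let m := j i ≫ W.ι ≫ U.ι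
  have hmq : m q = x := by
    have h2 : (Limits.Sigma.ι (fun i => Spec (CommRingCat.of (L i))) i ≫
        (asIso (sigmaSpec fun i => CommRingCat.of (L i)) ≪≫ Scheme.Spec.mapIso η.op ≪≫ e₀.symm).hom) = j i := by
      simp only [Iso.trans_hom, asIso_hom, Iso.symm_hom, ← Category.assoc, ι_sigmaSpec]
      rfl
    have h3 : j i q = ⟨⟨x, hxU⟩, hWmem _ hx⟩ := by
      rw [← h2]; exact hq'
    show U.ι (W.ι (j i q)) = x
    rw [h3]; rfl
  haveI hmf : IsFinite (m ≫ f) := by
    rw [show m ≫ f = Spec.map (α ≫ η.hom ≫ CommRingCat.ofHom (Pi.evalRingHom L i)) by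
      simp only [m, j, α, Spec.map_comp, Spec.map_preimage, Category.assoc], IsFinite.SpecMap_iff]
    exact RingHom.Finite.of_surjective _ ((Function.surjective_eval i).comp eL.surjective) |>.comp hα
  haveI : IsIntegralHom m := IsIntegralHom.of_comp m f
  haveI hmc : IsClosedImmersion m := .of_isPreimmersion m m.isClosedMap.isClosed_range
  have hqc : q = IsLocalRing.closedPoint (L i) := by
    have hfin' := hmf
    rw [← Spec.map_preimage (m ≫ f), IsFinite.SpecMap_iff] at hfin'
    letI := (Spec.preimage (m ≫ f)).hom.toAlgebra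
    haveI : Algebra.IsIntegral A (L i) := ⟨hfin'.to_isIntegral⟩
    have hp : PrimeSpectrum.comap (Spec.preimage (m ≫ f)).hom q = IsLocalRing.closedPoint A := by
      show Spec.map (Spec.preimage (m ≫ f)) q = _
      rw [Spec.map_preimage, Scheme.Hom.comp_apply, hmq]; exact hx
    have hm : (PrimeSpectrum.asIdeal q).IsMaximal := by
      refine Ideal.isMaximal_of_isIntegral_of_isMaximal_comap (R := A) _ ?_
      rw [show Ideal.comap (algebraMap A (L i)) (PrimeSpectrum.asIdeal q) = _ from congrArg PrimeSpectrum.asIdeal hp]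
      exact IsLocalRing.maximalIdeal.isMaximal A
    exact PrimeSpectrum.ext (IsLocalRing.eq_maximalIdeal hm)
  subst hqc
  haveI : IsIso ((Spec (CommRingCat.of (L i))).fromSpecStalk (IsLocalRing.closedPoint (L i))) := by
    rw [← Spec_stalkClosedPointIso]; infer_instance
  have hfac : X.fromSpecStalk x = Spec.map (X.presheaf.stalkCongr (.of_eq hmq)).hom ≫
      inv (Spec.map (m.stalkMap (IsLocalRing.closedPoint (L i)))) ≫ (Spec (CommRingCat.of (L i))).fromSpecStalk _ ≫ m := by
    rw [← Scheme.SpecMap_stalkMap_fromSpecStalk, IsIso.inv_hom_id_assoc,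
      TopCat.Presheaf.stalkCongr_hom, Scheme.SpecMap_stalkSpecializes_fromSpecStalk]
  have hfin : IsFinite (X.fromSpecStalk x ≫ f) := by
    rw [hfac]; simp only [Category.assoc]; infer_instance
  refine ⟨?_, by rw [hfac]; infer_instance, by rw [hfac]; infer_instance⟩
  rw [← IsFinite.SpecMap_iff]
  convert hfin using 1
  refine ext_of_isAffine ?_
  rw [← cancel_mono (Scheme.ΓSpecIso _).hom, Scheme.ΓSpecIso_naturality, Scheme.Hom.comp_appTop,
    Scheme.fromSpecStalk_appTop]
  simp

end Groth.Agent.S2343
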