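import Groth.Agent.L18.CurveBasic
import Mathlib.AlgebraicGeometry.Morphisms.Finite
import Groth.Statements.S2346
-- import your own Groth.Agent.* helpers here

set_option autoImplicit false
universe u
open CategoryTheory CategoryTheory.Limits AlgebraicGeometry
open EGA2

namespace Groth.Agent.S2346

/-- Let X and Y be irreducible algebraic curves over k (separated, of finite type, local rings at closed
points one-dimensional) and f : X → Y a k-morphism. Then f is dominant if and only if every fibre
f⁻¹(y) is a finite set. -/
theorem result (k : Type u) [Field k] (X Y : Scheme.{u}) [X.Over (Spec (CommRingCat.of k))] [Y.Over (Spec (CommRingCat.of k))]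
    [LocallyOfFiniteType (X ↘ (Spec (CommRingCat.of k)))] [QuasiCompact (X ↘ (Spec (CommRingCat.of k)))] [IsSeparated (X ↘ (Spec (CommRingCat.of k)))] [LocallyOfFiniteType (Y ↘ (Spec (CommRingCat.of k)))] [QuasiCompact (Y ↘ (Spec (CommRingCat.of k)))] [IsSeparated (Y ↘ (Spec (CommRingCat.of k)))] [IrreducibleSpace X] [IrreducibleSpace Y]
    (hX : (∀ x : X, IsClosed ({x} : Set X) → ringKrullDim (X.presheaf.stalk x) = 1)) (hY : (∀ x : Y, IsClosed ({x} : Set Y) → ringKrullDim (Y.presheaf.stalk x) = 1))
    (f : X ⟶ Y) (hf : f ≫ (Y ↘ (Spec (CommRingCat.of k))) = X ↘ (Spec (CommRingCat.of k))) :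
    IsDominant f ↔ ∀ y : Y, (f.base ⁻¹' {y}).Finite := by
  let pX := X ↘ (Spec (CommRingCat.of k))
  let pY := Y ↘ (Spec (CommRingCat.of k))
  haveI : CompactSpace X := QuasiCompact.compactSpace_of_compactSpace pX
  haveI : CompactSpace Y := QuasiCompact.compactSpace_of_compactSpace pY
  haveI : IsLocallyNoetherian X := LocallyOfFiniteType.isLocallyNoetherian pX
  haveI : IsNoetherian X := {}
  haveI : JacobsonSpace X := LocallyOfFiniteType.jacobsonSpace pX
  haveI : JacobsonSpace Y := LocallyOfFiniteType.jacobsonSpace pY
  haveI : LocallyOfFiniteType f := by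
    haveI : LocallyOfFiniteType (f ≫ pY) := by rw [hf]; infer_instance
    exact locallyOfFiniteType_of_comp f pY
  have hgX := Groth.L18.Curve.eq_genericPoint_of_not_isClosed hX
  have hgY := Groth.L18.Curve.eq_genericPoint_of_not_isClosed hY
  have hngX := Groth.L18.Curve.not_isClosed_genericPoint hX
  have hngY := Groth.L18.Curve.not_isClosed_genericPoint hY
  have hclosed : ∀ x : X, IsClosed ({x} : Set X) → IsClosed ({f.base x} : Set Y) := fun x hx =>
    f.closePoints_subset_preimage_closedPoints hx
  constructor
  · intro hd y
    haveI := hd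
    have hgen : f.base (genericPoint X) = genericPoint Y := by
      have h1 : IsGenericPoint (f.base (genericPoint X)) (Set.univ : Set Y) := by
        have := (genericPoint_spec X).image f.continuous
        rwa [Set.image_univ, f.denseRange.closure_range] at this
      exact h1.eq (genericPoint_spec Y)
    by_cases hy : IsClosed ({y} : Set Y)
    · refine Groth.L18.Curve.finite_of_forall_isClosed (hy.preimage f.continuous) fun x hx => ?_
      by_contra hxc
      have hxy : f.base x = y := hx
      rw [hgX x hxc, hgen] at hxy
      exact hngY (hxy ▸ hy)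
    · refine (Set.finite_singleton (genericPoint X)).subset fun x hx => ?_
      by_contra hne
      have hxy : f.base x = y := hx
      exact hy (hxy ▸ hclosed x (by_contra fun hxc => hne (hgX x hxc)))
  · intro hfin
    have hgen : f.base (genericPoint X) = genericPoint Y := by
      refine hgY _ fun hc => ?_
      have huniv : (f.base ⁻¹' {f.base (genericPoint X)}) = Set.univ := by
        refine Set.eq_univ_of_univ_subset ?_
        rw [← genericPoint_closure X]
        exact closure_minimal (Set.singleton_subset_iff.mpr rfl) (hc.preimage f.continuous)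
      haveI : Finite X := Set.finite_univ_iff.mp (huniv ▸ hfin _)
      exact hngX (isClosed_discrete _)
    refine ⟨fun y => ?_⟩
    refine closure_mono (s := {genericPoint Y}) (t := Set.range f.base) (Set.singleton_subset_iff.mpr ⟨genericPoint X, hgen⟩) ?_
    rw [genericPoint_closure]
    trivial

end Groth.Agent.S2346
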