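import Groth.Statements.S2348
import Groth.Agent.L16.Blow.Integral
import Mathlib.AlgebraicGeometry.ResidueField

set_option autoImplicit false
universe u
open CategoryTheory CategoryTheory.Limits AlgebraicGeometry
open EGA2

namespace Groth.Agent.S2348

/-- For an ideal of O_Y: let Y be an integral scheme, I a nonzero quasi-coherent ideal sheaf and b : X →
Y a blowing up of Y in I (characterised by its universal property). Then X is integral, b sends the
generic point of X to that of Y and induces a bijection on their residue fields (b is birational).
The printed statement also asserts that b is surjective; the proof does not show this and it fails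
when I is not of finite type, so it is left out. -/
theorem result {X Y : Scheme.{u}} [IsIntegral Y] (I : Y.IdealSheafData) (hI : I ≠ ⊥)
    (b : X ⟶ Y) (hb : BlowUp.IsBlowUp b I) :
    ∃ (_ : IsIntegral X), ∃ hgen : b.base (genericPoint X) = genericPoint Y,
      Function.Bijective (b.residueFieldMap (genericPoint X)).hom := by
  obtain ⟨hX, he, hiso⟩ := Groth.L16.Blow.isIntegral_and_birational hb hI
  haveI := hX
  refine ⟨hX, he, RingHom.injective _, fun z => ?_⟩
  obtain ⟨t, rfl⟩ := X.residue_surjective _ z
  obtain ⟨a, rfl⟩ := (ConcreteCategory.bijective_of_isIso (b.stalkMap (genericPoint X))).2 t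
  exact ⟨Y.residue _ a, congr($(Scheme.residue_residueFieldMap b (genericPoint X)) a)⟩
end Groth.Agent.S2348
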