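import Groth.Statements.S2452
import Groth.Agent.L06.FormSmoothField2

set_option autoImplicit false
set_option maxSynthPendingDepth 3
set_option linter.style.haveILetI false
universe u
open EGA41

namespace Groth.Agent.S2452

open IsLocalRing in
/-- Let A be a local ring which is separated and complete for the adic topology of its maximal ideal
(not necessarily Noetherian), k a field contained in A, and suppose the residue field K of A is a
separable extension of k. Then there is a k-algebra section K → A of the residue map, i.e. a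
coefficient field of A containing k. -/
theorem result {k A : Type u} [Field k] [CommRing A] [IsLocalRing A] [Algebra k A]
    [IsAdicComplete (maximalIdeal A) A] [Algebra.IsGeometricallyReduced k (ResidueField A)] :
    ∃ σ : ResidueField A →ₐ[k] A, ∀ x : ResidueField A, residue A (σ x) = x := by
  classical
  haveI : Algebra.FormallySmooth k (ResidueField A) := Groth.L06.FormSmooth.formallySmooth_of_geometricallyReduced k _
  let m := maximalIdeal A
  let pr (n : ℕ) : A ⧸ m ^ (n + 2) →ₐ[k] A ⧸ m ^ (n + 1) := Ideal.Quotient.factorₐ k (Ideal.pow_le_pow_right (by omega))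
  have hstep : ∀ (n : ℕ) (φ : ResidueField A →ₐ[k] A ⧸ m ^ (n + 1)), ∃ φ' : ResidueField A →ₐ[k] A ⧸ m ^ (n + 2), (pr n).comp φ' = φ := by
    intro n φ
    have hs : Function.Surjective (pr n) := Ideal.Quotient.factor_surjective (Ideal.pow_le_pow_right (show n + 1 ≤ n + 2 by omega))
    have hn : IsNilpotent (RingHom.ker (pr n : A ⧸ m ^ (n + 2) →+* A ⧸ m ^ (n + 1))) := by
      refine ⟨n + 2, ?_⟩
      rw [show RingHom.ker (pr n : A ⧸ m ^ (n + 2) →+* A ⧸ m ^ (n + 1)) = (m ^ (n + 1)).map (Ideal.Quotient.mk (m ^ (n + 2))) from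
        Ideal.Quotient.factor_ker (Ideal.pow_le_pow_right (show n + 1 ≤ n + 2 by omega)), ← Ideal.map_pow, Ideal.zero_eq_bot, eq_bot_iff]
      refine (Ideal.map_mono ?_).trans (Ideal.map_quotient_self (m ^ (n + 2))).le
      rw [← pow_mul]
      exact Ideal.pow_le_pow_right (Nat.le_mul_of_pos_left _ (Nat.succ_pos n))
    exact ⟨Algebra.FormallySmooth.liftOfSurjective φ (pr n) hs hn,
      AlgHom.ext fun c => Algebra.FormallySmooth.liftOfSurjective_apply φ (pr n) hs hn c⟩
  choose next hnext using hstep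
  obtain ⟨φ0, hφ0⟩ := Groth.L06.FormSmooth.exists_section (k := k) (A := A) 0
  let θ : ∀ n : ℕ, ResidueField A →ₐ[k] A ⧸ m ^ (n + 1) := fun n => Nat.rec φ0 (fun n φ => next n φ) n
  let f : ∀ n : ℕ, ResidueField A →+* A ⧸ m ^ n := fun n =>
    (Ideal.Quotient.factor (Ideal.pow_le_pow_right (Nat.le_succ n))).comp (θ n).toRingHom
  have hθ : ∀ {a b : ℕ} (h : a ≤ b) (c : ResidueField A),
      Ideal.Quotient.factor (Ideal.pow_le_pow_right (Nat.succ_le_succ h) : m ^ (b + 1) ≤ m ^ (a + 1)) (θ b c) = θ a c := by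
    intro a b h c
    induction b, h using Nat.le_induction with
    | base =>
      obtain ⟨y, hy⟩ := Ideal.Quotient.mk_surjective (θ a c)
      rw [← hy, Ideal.Quotient.factor_mk]
    | succ b hb ih =>
      rw [← ih, ← DFunLike.congr_fun (hnext b (θ b)) c, AlgHom.comp_apply]
      obtain ⟨y, hy⟩ := Ideal.Quotient.mk_surjective (next b (θ b) c)
      show Ideal.Quotient.factor (Ideal.pow_le_pow_right (Nat.succ_le_succ (le_trans hb (Nat.le_succ b))) : m ^ (b + 1 + 1) ≤ m ^ (a + 1)) (θ (b + 1) c) = Ideal.Quotient.factor (Ideal.pow_le_pow_right (Nat.succ_le_succ hb) : m ^ (b + 1) ≤ m ^ (a + 1)) (Ideal.Quotient.factor (Ideal.pow_le_pow_right (Nat.le_succ _) : m ^ (b + 2) ≤ m ^ (b + 1)) (next b (θ b) c))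
      show Ideal.Quotient.factor (Ideal.pow_le_pow_right (Nat.succ_le_succ (le_trans hb (Nat.le_succ b))) : m ^ (b + 1 + 1) ≤ m ^ (a + 1)) (next b (θ b) c) = _
      rw [← hy]
      simp only [Ideal.Quotient.factor_mk]
  have hf : ∀ {a b : ℕ} (h : a ≤ b), (Ideal.Quotient.factorPow m h).comp (f b) = f a := by
    intro a b h
    refine RingHom.ext fun c => ?_
    show Ideal.Quotient.factor (Ideal.pow_le_pow_right h) (Ideal.Quotient.factor (Ideal.pow_le_pow_right (Nat.le_succ b)) (θ b c)) = Ideal.Quotient.factor (Ideal.pow_le_pow_right (Nat.le_succ a)) (θ a c)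
    rw [← hθ h c]
    obtain ⟨y, hy⟩ := Ideal.Quotient.mk_surjective (θ b c)
    rw [← hy]
    simp only [Ideal.Quotient.factor_mk]
  let σ := IsAdicComplete.liftRingHom m f hf
  have hσ : ∀ (n : ℕ) (c : ResidueField A), Ideal.Quotient.mk (m ^ n) (σ c) = f n c := fun n c => IsAdicComplete.mk_liftRingHom m f hf n c
  refine ⟨{ σ with commutes' := fun a => ?_ }, fun x => ?_⟩
  · refine IsHausdorff.eq_iff_smodEq (I := m) (M := A) |>.mpr fun n => ?_
    rw [SModEq.sub_mem, smul_eq_mul, Ideal.mul_top]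
    refine Ideal.Quotient.eq.mp ((hσ n _).trans ?_)
    show Ideal.Quotient.factor (Ideal.pow_le_pow_right (Nat.le_succ n)) (θ n (algebraMap k (ResidueField A) a)) = _
    rw [AlgHom.commutes]
    rfl
  · have h1 := hσ 1 x
    have h2 := hφ0 x
    show residue A (σ x) = x
    conv_rhs => rw [← h2]
    show residue A (σ x) = Ideal.Quotient.factor _ (θ 0 x)
    rw [← hθ (Nat.zero_le 1) x]
    obtain ⟨y, hy⟩ := Ideal.Quotient.mk_surjective (θ 1 x)
    have h3 : Ideal.Quotient.mk (m ^ 1) (σ x) = Ideal.Quotient.mk (m ^ 1) y := by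
      rw [h1]
      show Ideal.Quotient.factor (Ideal.pow_le_pow_right (Nat.le_succ 1)) (θ 1 x) = _
      rw [← hy, Ideal.Quotient.factor_mk]
    rw [← hy]
    simp only [Ideal.Quotient.factor_mk]
    refine Ideal.Quotient.eq.mpr ?_
    exact Ideal.pow_le_self one_ne_zero (Ideal.Quotient.eq.mp h3)

end Groth.Agent.S2452
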