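import Groth.Statements.S2453
import Groth.Agent.L06.FormSmoothField2

set_option autoImplicit false
set_option linter.style.haveILetI false
set_option maxSynthPendingDepth 3
universe u
open EGA41

namespace Groth.Agent.S2453

open IsLocalRing in
/-- Let k be a field and A a Noetherian local k-algebra with maximal ideal 𝔪 and residue field K
separable over k; give A the 𝔪-adic topology (k discrete). The following are equivalent: (a) A is
formally smooth over k; (b) the 𝔪-adic completion of A is isomorphic to some K[[T_1, …, T_n]] by an
isomorphism carrying the image of k in A to the image of k under k → K → K[[T]]; (b') the completion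
is isomorphic as a ring to some K[[T_1, …, T_n]]; (c) A is a regular local ring. -/
theorem result {k A : Type u} [Field k] [CommRing A] [IsLocalRing A] [IsNoetherianRing A] [Algebra k A]
    [Algebra.IsGeometricallyReduced k (ResidueField A)] :
    [CAlgX.IsAdicFormallySmooth k A (maximalIdeal A),
     ∃ (n : ℕ) (e : AdicCompletion (maximalIdeal A) A ≃+* MvPowerSeries (Fin n) (ResidueField A)),
       ∀ x : k, e (algebraMap A (AdicCompletion (maximalIdeal A) A) (algebraMap k A x)) =
         algebraMap (ResidueField A) (MvPowerSeries (Fin n) (ResidueField A)) (algebraMap k (ResidueField A) x),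
     ∃ n : ℕ, Nonempty (AdicCompletion (maximalIdeal A) A ≃+* MvPowerSeries (Fin n) (ResidueField A)),
     IsRegularLocalRing A].TFAE := by
  haveI : Algebra.FormallySmooth k (ResidueField A) := Groth.L06.FormSmooth.formallySmooth_of_geometricallyReduced k _
  tfae_have 1 → 4 := Groth.L06.FormSmooth.regular_of_adicSmooth
  tfae_have 4 → 1 := fun h => haveI := h; Groth.L06.FormSmooth.adicSmooth_of_regular
  tfae_have 4 → 2 := fun h => haveI := h; Groth.L06.FormSmooth.exists_completion_equiv (k := k) (A := A)
  tfae_have 2 → 3 := fun ⟨n, e, _⟩ => ⟨n, ⟨e⟩⟩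
  tfae_have 3 → 4 := fun ⟨n, ⟨e⟩⟩ => by
    haveI := Groth.L01.PowSerReg.isRegularLocalRing (ResidueField A) n
    exact (Groth.L01.CompletionReg.isRegularLocalRing_iff_completion A).mpr (IsRegularLocalRing.of_ringEquiv e.symm)
  tfae_finish

end Groth.Agent.S2453
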