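import Groth.Statements.S2454
import Groth.Agent.L06.FormSmoothHom

set_option autoImplicit false
set_option linter.style.haveILetI false
set_option maxSynthPendingDepth 3
universe u
open EGA41

namespace Groth.Agent.S2454

open IsLocalRing in
/-- Let A → B be a local homomorphism of Noetherian local rings making B a Cohen A-algebra. Then B, with
its adic topology, is formally smooth over A with its adic topology. -/
theorem result {A B : Type u} [CommRing A] [IsLocalRing A] [CommRing B] [IsLocalRing B]
    [Algebra A B] [IsLocalHom (algebraMap A B)] (h : EGA41.IsCohenAlgebra A B) :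
    EGA41.IsFormallySmoothAdic A (maximalIdeal A) B (maximalIdeal B) := by
  obtain ⟨hA, hB, -, hflat, hm, hred⟩ := h
  haveI := hA
  haveI := hB
  haveI := hflat
  haveI := hred
  exact Groth.L06.FormSmooth.adicSmooth_two_sided_iff.mpr (Groth.L06.FormSmooth.adicSmooth_of_cohen hm)

end Groth.Agent.S2454
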