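import Groth.Statements.S2455
import Groth.Agent.S2454
import Groth.Agent.L06.FormSmoothIso
import Groth.Agent.L06.FormSmoothFlatLift

set_option autoImplicit false
set_option maxSynthPendingDepth 3
set_option linter.style.haveILetI false
universe u
open EGA41

namespace Groth.Agent.S2455

open IsLocalRing in
/-- Let A be a Noetherian local ring with residue field k and K a separable extension field of k. Then
there is a Cohen A-algebra B whose residue field is k-isomorphic to K; and two Cohen A-algebras
whose residue fields are k-isomorphic to K are isomorphic as A-algebras. -/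
theorem result {A : Type u} [CommRing A] [IsLocalRing A] [IsNoetherianRing A]
    (K : Type u) [Field K] [Algebra (ResidueField A) K] [Algebra.IsGeometricallyReduced (ResidueField A) K] :
    (∃ (B : Type u) (_ : CommRing B) (_ : IsLocalRing B) (_ : Algebra A B) (_ : IsLocalHom (algebraMap A B)),
      EGA41.IsCohenAlgebra A B ∧ Nonempty (ResidueField B ≃ₐ[ResidueField A] K)) ∧
    ∀ (B B' : Type u) [CommRing B] [IsLocalRing B] [Algebra A B] [IsLocalHom (algebraMap A B)]
      [CommRing B'] [IsLocalRing B'] [Algebra A B'] [IsLocalHom (algebraMap A B')],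
      EGA41.IsCohenAlgebra A B → EGA41.IsCohenAlgebra A B' →
      Nonempty (ResidueField B ≃ₐ[ResidueField A] K) → Nonempty (ResidueField B' ≃ₐ[ResidueField A] K) →
      Nonempty (B ≃ₐ[A] B') := by
  classical
  let k := ResidueField A
  haveI : IsRegularLocalRing K := inferInstance
  haveI : IsAdicComplete (maximalIdeal K) K := by rw [IsLocalRing.maximalIdeal_eq_bot]; infer_instance
  refine ⟨?_, ?_⟩
  · let f : A →+* K := (algebraMap k K).comp (residue A)
    have hf : (maximalIdeal A).map f = ⊥ := by
      rw [← Ideal.map_map, show (maximalIdeal A).map (residue A) = ⊥ from (Ideal.map_eq_bot_iff_le_ker _).mpr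
        (IsLocalRing.ker_residue (R := A)).ge, Ideal.map_bot]
    obtain ⟨B, _, _, hn, _, _, π, hc, hflat, hπ, hcomm, hker⟩ := Groth.L06.FormSmooth.exists_flat_lift f hf
    have hmax : (maximalIdeal A).map (algebraMap A B) = maximalIdeal B := by
      rw [← hker]
      exact IsLocalRing.eq_maximalIdeal (RingHom.ker_isMaximal_of_surjective π hπ)
    let e0 : ResidueField B ≃+* K :=
      (Ideal.quotEquivOfEq (hker.trans hmax).symm).trans (RingHom.quotientKerEquivOfSurjective hπ)
    have he : ∀ b, e0 (residue B b) = π b := fun b => by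
      show RingHom.quotientKerEquivOfSurjective hπ
        (Ideal.quotEquivOfEq (hker.trans hmax).symm (Ideal.Quotient.mk (maximalIdeal B) b)) = π b
      rw [Ideal.quotEquivOfEq_mk]
      rfl
    let e : ResidueField B ≃ₐ[k] K := AlgEquiv.ofRingEquiv (f := e0) (fun c => by
      obtain ⟨a, rfl⟩ := residue_surjective c
      exact (he _).trans (hcomm a))
    haveI : Algebra.IsGeometricallyReduced k (ResidueField B) :=
      Algebra.IsGeometricallyReduced.of_injective e.toAlgHom e.injective
    exact ⟨B, inferInstance, inferInstance, inferInstance, inferInstance,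
      ⟨inferInstance, hn, hc, hflat, hmax, inferInstance⟩, ⟨e⟩⟩
  · intro B B' _ _ _ _ _ _ _ _ hB hB' ⟨e⟩ ⟨e'⟩
    have hfs := Groth.Agent.S2454.result hB
    obtain ⟨-, hnB, hcB, -, hmB, -⟩ := hB
    obtain ⟨-, hnB', hcB', hflat', hmB', -⟩ := hB'
    haveI : IsPrecomplete ((maximalIdeal A).map (algebraMap A B)) B := by rw [hmB]; exact hcB.toIsPrecomplete
    haveI : IsAdicComplete ((maximalIdeal A).map (algebraMap A B')) B' := by rw [hmB']; exact hcB'
    let r : ResidueField B ≃+* ResidueField B' := (e.trans e'.symm).toRingEquiv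
    let u₀ : (B ⧸ (maximalIdeal A).map (algebraMap A B)) ≃ₐ[A] (B' ⧸ (maximalIdeal A).map (algebraMap A B')) :=
      AlgEquiv.ofRingEquiv (f := ((Ideal.quotEquivOfEq hmB).trans r).trans (Ideal.quotEquivOfEq hmB').symm) (fun a => by
        have h1 : r (residue B (algebraMap A B a)) = residue B' (algebraMap A B' a) := by
          show (e.trans e'.symm) (algebraMap k (ResidueField B) (residue A a)) = _
          rw [AlgEquiv.commutes]
          rfl
        show (Ideal.quotEquivOfEq hmB').symm (r (Ideal.quotEquivOfEq hmB (Ideal.Quotient.mk _ (algebraMap A B a)))) = _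
        rw [Ideal.quotEquivOfEq_mk]
        exact ((congrArg (Ideal.quotEquivOfEq hmB').symm h1).trans (RingEquiv.symm_apply_eq _ |>.mpr rfl)))
    obtain ⟨v, -⟩ := Groth.L06.FormSmoothAdic.exists_algEquiv_of_equiv_mod (maximalIdeal A) hmB.le
      (by rw [hmB]; exact hfs) u₀
    exact ⟨v⟩

end Groth.Agent.S2455
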