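import Groth.Statements.S2457
import Groth.Agent.L06.CohenLiftings

set_option autoImplicit false
set_option maxSynthPendingDepth 3
set_option linter.style.haveILetI false
universe u
open EGA41

namespace Groth.Agent.S2457

open IsLocalRing in
/-- Let W and W' be Cohen rings with residue fields K and K' and u : K ≅ K' an isomorphism. Then u is
induced by some isomorphism v : W ≅ W'. -/
theorem result {W W' : Type u} [CommRing W] [IsLocalRing W] [CommRing W'] [IsLocalRing W']
    (hW : EGA41.IsCohenRingEGA W) (hW' : EGA41.IsCohenRingEGA W') (u : ResidueField W ≃+* ResidueField W') :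
    ∃ v : W ≃+* W', ∀ x : W, residue W' (v x) = u (residue W x) := by
  suffices h : ∃ v : W →+* W', Function.Bijective v ∧ ∀ x, residue W' (v x) = u (residue W x) by
    obtain ⟨v, hv, hc⟩ := h
    exact ⟨RingEquiv.ofBijective v hv, hc⟩
  rcases hW with ⟨hF, h0⟩ | hC <;> rcases hW' with ⟨hF', h0'⟩ | hC'
  · have hb : Function.Bijective (residue W) := by
      letI := hF.toField
      exact ⟨(residue W).injective, residue_surjective⟩
    have hb' : Function.Bijective (residue W') := by
      letI := hF'.toField
      exact ⟨(residue W').injective, residue_surjective⟩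
    let e := RingEquiv.ofBijective (residue W') hb'
    refine ⟨(e.symm.toRingHom.comp u.toRingHom).comp (residue W),
      (e.symm.bijective.comp u.bijective).comp hb, fun x => e.apply_symm_apply (u (residue W x))⟩
  · obtain ⟨p, hp, -, -, -, hm, -, -⟩ := Groth.L06.CohenLiftings.cohen_data hC'
    have h1 : residue W (p : W) = 0 := u.injective (by
      rw [map_natCast, map_natCast, map_zero, ← map_natCast (residue W'), residue_eq_zero_iff, hm]
      exact Ideal.mem_span_singleton_self _)
    rw [residue_eq_zero_iff, mem_maximalIdeal, mem_nonunits_iff] at h1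
    exact absurd (by letI := hF.toField; exact (IsUnit.mk0 (p : W) (by haveI : CharZero W := h0; exact_mod_cast hp.ne_zero))) h1
  · obtain ⟨p, hp, -, -, -, hm, -, -⟩ := Groth.L06.CohenLiftings.cohen_data hC
    have h1 : residue W' (p : W') = 0 := by
      rw [map_natCast, ← map_natCast u, ← map_natCast (residue W), (residue_eq_zero_iff _).mpr
        (hm.ge (Ideal.mem_span_singleton_self _)), map_zero]
    rw [residue_eq_zero_iff, mem_maximalIdeal, mem_nonunits_iff] at h1
    exact absurd (by letI := hF'.toField; exact (IsUnit.mk0 (p : W') (by haveI : CharZero W' := h0'; exact_mod_cast hp.ne_zero))) h1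
  · obtain ⟨p, hp, hd, hn, hc, hm, -, hreg⟩ := Groth.L06.CohenLiftings.cohen_data hC
    obtain ⟨p', hp', hd', hn', hc', hm', hp0', -⟩ := Groth.L06.CohenLiftings.cohen_data hC'
    have hpW' : (p : W') ∈ maximalIdeal W' := by
      rw [← residue_eq_zero_iff, map_natCast, ← map_natCast u, ← map_natCast (residue W), (residue_eq_zero_iff _).mpr
        (hm.ge (Ideal.mem_span_singleton_self _)), map_zero]
    obtain rfl := Groth.L06.CohenLiftings.prime_unique hp hp' hpW' (hm'.ge (Ideal.mem_span_singleton_self _))
    haveI := Fact.mk hp
    haveI := hc'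
    obtain ⟨v, hv⟩ := Groth.L01.Cohen.exists_lift_cohen hm hreg hpW' (u.toRingHom.comp (residue W))
    refine ⟨v, Groth.L06.CohenLiftings.bijective_of_residue hd hn hc hm hd' hn' hm' hp0' v ?_, fun x => RingHom.congr_fun hv x⟩
    rw [hv]
    exact u.surjective.comp residue_surjective

end Groth.Agent.S2457
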