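import Groth.Statements.S2458
import Groth.Agent.L06.CohenLiftings
import Groth.Agent.L29.Dual.CompleteDual

set_option autoImplicit false
set_option maxSynthPendingDepth 3
set_option linter.style.haveILetI false
universe u
open EGA41

namespace Groth.Agent.S2458

open IsLocalRing in
/-- Let A be an Artinian local ring whose maximal ideal 𝔪 satisfies 𝔪² = 0. Then there is a regular
local ring B with maximal ideal 𝔫 such that A ≅ B/𝔫². -/
theorem result {A : Type u} [CommRing A] [IsLocalRing A] [IsArtinianRing A]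
    (h : maximalIdeal A ^ 2 = ⊥) :
    ∃ (B : Type u) (_ : CommRing B) (_ : IsRegularLocalRing B), Nonempty (A ≃+* B ⧸ IsLocalRing.maximalIdeal B ^ 2) := by
  classical
  haveI : IsAdicComplete (maximalIdeal A) A := Groth.L06.CohenLiftings.isAdicComplete_of_pow_eq_bot _ h
  have fin : ∀ (B : Type u) [CommRing B] [IsRegularLocalRing B] (φ : B →+* A), Function.Surjective φ →
      RingHom.ker φ ≤ maximalIdeal B ^ 2 →
      ∃ (B : Type u) (_ : CommRing B) (_ : IsRegularLocalRing B), Nonempty (A ≃+* B ⧸ IsLocalRing.maximalIdeal B ^ 2) := by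
    intro B _ _ φ hφ hker
    have h1 : maximalIdeal B ^ 2 ≤ RingHom.ker φ := by
      rw [← Ideal.map_eq_bot_iff_le_ker, Ideal.map_pow, IsLocalRing.map_maximalIdeal_of_surjective φ hφ, h]
    exact ⟨B, inferInstance, inferInstance,
      ⟨(RingHom.quotientKerEquivOfSurjective hφ).symm.trans (Ideal.quotEquivOfEq (le_antisymm hker h1))⟩⟩
  obtain ⟨p, hp⟩ := CharP.exists (ResidueField A)
  have hpm : (p : A) ∈ maximalIdeal A := by rw [← residue_eq_zero_iff, map_natCast, CharP.cast_eq_zero]
  obtain ⟨n, x, hx, h'⟩ := Groth.L06.CohenLiftings.exists_cotangent_gens A ⟨(p : A), hpm⟩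
  rcases h' with ⟨hv, hspan, hind⟩ | ⟨hv, hspan, hind⟩
  · rw [h, Ideal.mem_bot] at hv
    obtain ⟨F, hF⟩ : ∃ F : ResidueField A →+* A, (residue A).comp F = RingHom.id _ := by
      rcases CharP.char_is_prime_or_zero (ResidueField A) p with hpp | rfl
      · haveI := Fact.mk hpp
        exact Groth.L01.Cohen.exists_coefficientField_charP hv
      · haveI := CharP.charP_to_charZero (ResidueField A)
        exact Groth.L01.Cohen.exists_coefficientField_charZero
    obtain ⟨φ, hC, hX, hsurj⟩ := Groth.L01.Cohen.exists_surjective_powerSeries F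
      (by rw [hF]; exact Function.surjective_id) x hspan
    refine fin (MvPowerSeries (Fin n) (ResidueField A)) φ hsurj
      (Groth.L06.CohenLiftings.ker_le_sq φ (fun i => by rw [hX]; exact hx i) fun c₀ c hc => ?_)
    simp only [← RingHom.comp_apply φ MvPowerSeries.C, hC, hX] at hc
    have hres : ∀ a, F a ∈ maximalIdeal A → a = 0 := fun a ha => by
      rw [← RingHom.id_apply a, ← hF, RingHom.comp_apply, residue_eq_zero_iff]
      exact ha
    have hc0 : c₀ = 0 := hres _ (by
      have h1 : ∑ i, F (c i) * x i ∈ maximalIdeal A := Ideal.sum_mem _ fun i _ => Ideal.mul_mem_left _ _ (hx i)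
      simpa using sub_mem (Ideal.pow_le_self two_ne_zero hc) h1)
    refine ⟨hc0 ▸ zero_mem _, fun i => ?_⟩
    rw [hc0, map_zero, zero_add] at hc
    rw [hres _ (hind _ hc i)]
    exact zero_mem _
  · have hv' : (p : A) ∉ maximalIdeal A ^ 2 := hv
    rcases CharP.char_is_prime_or_zero (ResidueField A) p with hpp | rfl
    swap
    · exact absurd (by rw [Nat.cast_zero]; exact zero_mem _) hv'
    haveI := Fact.mk hpp
    obtain ⟨Λ, _, _, _, -, hm, hreg, hcΛ, hnΛ, ⟨e⟩⟩ := Groth.L01.Cohen.exists_cohenRing p (ResidueField A)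
    have hp0 : (p : Λ) ≠ 0 := fun h0 => one_ne_zero (hreg 1 (by rw [h0, zero_mul]))
    obtain ⟨F, hF⟩ := Groth.L01.Cohen.exists_lift_cohen hm hreg hpm (e.toRingHom.comp (residue Λ))
    letI := F.toAlgebra
    obtain ⟨ψ, hψ⟩ := Groth.L12.exists_evalPS (R := Λ) (maximalIdeal A) x hx
    let φ : MvPowerSeries (Fin n) Λ →+* A := ψ.toRingHom
    have hC : ∀ a, φ (MvPowerSeries.C a) = F a := fun a => ψ.commutes a
    have hsurjres : Function.Surjective ((residue A).comp F) := by
      rw [hF]; exact e.surjective.comp residue_surjective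
    have hsurj : Function.Surjective φ := by
      have hm' : ∀ y ∈ maximalIdeal A, ∃ z, φ z = y := by
        intro y hy
        rw [← hspan, show insert ((⟨(p : A), hpm⟩ : maximalIdeal A) : A) (Set.range x) = insert (p : A) (Set.range x) from rfl,
          Ideal.mem_span_insert] at hy
        obtain ⟨a, z, hz, rfl⟩ := hy
        obtain ⟨b, rfl⟩ := Ideal.mem_span_range_iff_exists_fun.mp hz
        choose g hg using fun y => hsurjres (residue A y)
        have hcg : ∀ y, y - F (g y) ∈ maximalIdeal A := fun y => by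
          rw [← residue_eq_zero_iff, map_sub, sub_eq_zero]; exact (hg y).symm
        have hsq : ∀ y w, w ∈ maximalIdeal A → y * w = F (g y) * w := fun y w hw => by
          have h2 : (y - F (g y)) * w ∈ maximalIdeal A ^ 2 := by rw [pow_two]; exact Ideal.mul_mem_mul (hcg y) hw
          rw [h, Ideal.mem_bot, sub_mul, sub_eq_zero] at h2
          exact h2
        refine ⟨MvPowerSeries.C (g a) * MvPowerSeries.C (p : Λ) + ∑ i, MvPowerSeries.C (g (b i)) * MvPowerSeries.X i, ?_⟩
        simp only [map_add, map_mul, map_sum, hC, map_natCast]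
        rw [hsq a _ hpm]
        exact congrArg _ (Finset.sum_congr rfl fun i _ => by rw [hsq (b i) _ (hx i)]; exact congrArg _ (hψ i))
      intro y
      obtain ⟨a, ha⟩ := hsurjres (residue A y)
      obtain ⟨z, hz⟩ := hm' (y - F a) (by rw [← residue_eq_zero_iff, map_sub, sub_eq_zero]; exact ha.symm)
      exact ⟨MvPowerSeries.C a + z, by rw [map_add, hC, hz]; ring⟩
    haveI := Groth.L29.CompleteDual.isRegularLocalRing_mvPowerSeries Λ (p : Λ) hm hp0 n
    refine fin (MvPowerSeries (Fin n) Λ) φ hsurj
      (Groth.L06.CohenLiftings.ker_le_sq φ (fun i => (hψ i).symm ▸ hx i) fun c₀ c hc => ?_)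
    simp only [hC, show ∀ i, φ (MvPowerSeries.X i) = x i from hψ] at hc
    have hker : ∀ a, F a ∈ maximalIdeal A → a ∈ maximalIdeal Λ := fun a ha => by
      rw [← residue_eq_zero_iff] at ha ⊢
      exact e.injective (by rw [map_zero]; exact (RingHom.congr_fun hF a).symm.trans ha)
    have h1 : c₀ ∈ maximalIdeal Λ := hker _ (by
      have h1 : ∑ i, F (c i) * x i ∈ maximalIdeal A := Ideal.sum_mem _ fun i _ => Ideal.mul_mem_left _ _ (hx i)
      simpa using sub_mem (Ideal.pow_le_self two_ne_zero hc) h1)
    rw [hm, Ideal.mem_span_singleton'] at h1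
    obtain ⟨d, rfl⟩ := h1
    rw [map_mul, map_natCast] at hc
    obtain ⟨hd, hcs⟩ := hind (F d) (fun i => F (c i)) hc
    refine ⟨?_, fun i => hker _ (hcs i)⟩
    rw [pow_two]
    exact Ideal.mul_mem_mul (hker _ hd) (hm.ge (Ideal.mem_span_singleton_self _))

end Groth.Agent.S2458
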