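import Groth.Statements.S2459
import Groth.Agent.L06.CohenLiftings

set_option autoImplicit false
set_option maxSynthPendingDepth 3
set_option linter.style.haveILetI false
universe u
open EGA41

namespace Groth.Agent.S2459

open IsLocalRing in
/-- Let A be an Artinian local ring with maximal ideal 𝔪 and residue field of characteristic p (p = 0
allowed). Then A is isomorphic to a quotient of a Cohen ring if and only if 𝔪 is generated by p·1. -/
theorem result {A : Type u} [CommRing A] [IsLocalRing A] [IsArtinianRing A]
    (p : ℕ) [CharP (ResidueField A) p] :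
    (∃ (W : Type u) (_ : CommRing W) (I : Ideal W), EGA41.IsCohenRingEGA W ∧ Nonempty (A ≃+* W ⧸ I)) ↔
      maximalIdeal A = Ideal.span {(p : A)} := by
  haveI : IsNoetherianRing A := inferInstance
  constructor
  · rintro ⟨W, _, I, hW, ⟨e⟩⟩
    let f : W →+* A := e.symm.toRingHom.comp (Ideal.Quotient.mk I)
    have hf : Function.Surjective f := e.symm.surjective.comp Ideal.Quotient.mk_surjective
    rcases hW with ⟨hF, h0⟩ | hC
    · letI := hF.toField
      haveI : CharZero W := h0
      have hbij : Function.Bijective f := ⟨f.injective, hf⟩
      haveI : CharZero (ResidueField A) := charZero_of_injective_ringHom ((residue A).comp f).injective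
      obtain rfl : p = 0 := CharP.eq (ResidueField A) ‹CharP (ResidueField A) p› (CharP.ofCharZero _)
      rw [Nat.cast_zero, Ideal.span_singleton_zero, ← IsLocalRing.isField_iff_maximalIdeal_eq]
      exact (RingEquiv.ofBijective f hbij).symm.toMulEquiv.isField hF
    · obtain ⟨hd, hv, -, q, hq, hm⟩ := hC
      have hmap : maximalIdeal A = Ideal.span {(q : A)} := by
        rw [← map_natCast f, ← Set.image_singleton, ← Ideal.map_span, ← hm, IsLocalRing.map_maximalIdeal_of_surjective f hf]
      have hpq : p = q := by
        refine (CharP.char_is_prime_or_zero (ResidueField A) p).elim (fun hp => ?_) (fun hp => ?_)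
        · refine Groth.L06.CohenLiftings.prime_unique hp hq ?_ (hmap.ge (Ideal.mem_span_singleton_self _))
          rw [← residue_eq_zero_iff, map_natCast, CharP.cast_eq_zero]
        · have h1 : ((q : ℕ) : ResidueField A) = 0 := by
            rw [← map_natCast (residue A), residue_eq_zero_iff, hmap]
            exact Ideal.mem_span_singleton_self _
          rw [CharP.cast_eq_zero_iff (ResidueField A) p q, hp] at h1
          exact absurd (Nat.eq_zero_of_zero_dvd h1) hq.ne_zero
      rw [hpq, hmap]
  · intro hm
    rcases CharP.char_is_prime_or_zero (ResidueField A) p with hp | rfl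
    · haveI := Fact.mk hp
      obtain ⟨W, i1, i2, -, hC, hmW, hreg, -, -, ⟨e⟩⟩ := Groth.L01.Cohen.exists_cohenRing p (ResidueField A)
      obtain ⟨n, hn⟩ := IsArtinianRing.isNilpotent_jacobson_bot (R := A)
      rw [IsLocalRing.jacobson_eq_maximalIdeal ⊥ bot_ne_top] at hn
      haveI : IsAdicComplete (maximalIdeal A) A := Groth.L06.CohenLiftings.isAdicComplete_of_pow_eq_bot _ hn
      obtain ⟨F, hF⟩ := Groth.L01.Cohen.exists_lift_cohen hmW hreg (hm.ge (Ideal.mem_span_singleton_self _))
        (e.toRingHom.comp (residue W))
      have hsurj : Function.Surjective F := by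
        have key : ∀ (k : ℕ) (a : A), ∃ w : W, a - F w ∈ maximalIdeal A ^ k := by
          intro k
          induction k with
          | zero => exact fun a => ⟨0, by simp⟩
          | succ k ih =>
            intro a
            obtain ⟨w, hw⟩ := ih a
            rw [hm, Ideal.span_singleton_pow, Ideal.mem_span_singleton'] at hw
            obtain ⟨b, hb⟩ := hw
            obtain ⟨z, hz⟩ := (e.surjective.comp residue_surjective) (residue A b)
            have hz' : b - F z ∈ maximalIdeal A := by
              rw [← residue_eq_zero_iff, map_sub, ← RingHom.comp_apply (residue A) F, hF]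
              exact sub_eq_zero.mpr hz.symm
            refine ⟨w + z * (p : W) ^ k, ?_⟩
            rw [map_add, map_mul, map_pow, map_natCast, ← sub_sub, ← hb, ← sub_mul, pow_succ', hm]
            rw [hm] at hz'
            exact Ideal.mul_mem_mul hz' (Ideal.pow_mem_pow (Ideal.mem_span_singleton_self _) k)
        intro a
        obtain ⟨w, hw⟩ := key n a
        rw [hn] at hw
        exact ⟨w, (sub_eq_zero.mp ((Ideal.mem_bot).mp hw)).symm⟩
      exact ⟨W, i1, RingHom.ker F, Or.inr hC, ⟨(RingHom.quotientKerEquivOfSurjective hsurj).symm⟩⟩
    · have hF : IsField A := by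
        rw [IsLocalRing.isField_iff_maximalIdeal_eq, hm, Nat.cast_zero, Ideal.span_singleton_zero]
      haveI : CharZero (ResidueField A) := CharP.charP_to_charZero _
      haveI : CharZero A := ⟨fun a b h => Nat.cast_injective (R := ResidueField A) (by rw [← map_natCast (residue A), h, map_natCast])⟩
      exact ⟨A, inferInstance, ⊥, Or.inl ⟨hF, inferInstance⟩, ⟨(RingEquiv.quotientBot A).symm⟩⟩

end Groth.Agent.S2459
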