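import Groth.Statements.S2460
import Groth.Agent.L06.ImperfRank

set_option autoImplicit false
set_option maxSynthPendingDepth 3
set_option linter.style.haveILetI false
universe u
open EGA41

namespace Groth.Agent.S2460

open IsLocalRing in
/-- Let A be a complete Noetherian local domain containing a field k₀ such that the residue field of A
is a finite extension of k₀. Then there are n and an injective local k₀-algebra homomorphism from
the power series ring k₀[[T_1, …, T_n]] into A making A a finite module over it. -/
theorem result {k₀ A : Type u} [Field k₀] [CommRing A] [IsDomain A] [IsLocalRing A] [IsNoetherianRing A]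
    [IsAdicComplete (maximalIdeal A) A] [Algebra k₀ A] [Module.Finite k₀ (ResidueField A)] :
    ∃ (n : ℕ) (w : MvPowerSeries (Fin n) k₀ →ₐ[k₀] A), Function.Injective w ∧ IsLocalHom w.toRingHom ∧ w.toRingHom.Finite := by
  obtain ⟨m, x, N, hx, hN, hm⟩ := Groth.L01.CohenFinite.exists_sop (R := A) ⊥ bot_le
  rw [sup_bot_eq] at hN
  replace hm := hm.trans (ringKrullDim_eq_of_ringEquiv (RingEquiv.quotientBot A))
  obtain ⟨alg, hT, hloc, hfin, -⟩ := Groth.L06.CplKaehlerRank.exists_powerSeries_finite (k := k₀) x hx N hN
  letI := alg
  haveI := hT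
  haveI := hfin
  refine ⟨m, IsScalarTower.toAlgHom k₀ (MvPowerSeries (Fin m) k₀) A, ?_, hloc, RingHom.finite_algebraMap.mpr hfin⟩
  show Function.Injective (algebraMap (MvPowerSeries (Fin m) k₀) A)
  rw [RingHom.injective_iff_ker_eq_bot, RingHom.ker_eq_comap_bot]
  exact (Groth.L06.CplKaehlerRank.dim_quotient_le (k := k₀) (⊥ : Ideal A)).2
    ((ringKrullDim_eq_of_ringEquiv (RingEquiv.quotientBot A)).trans hm.symm)

end Groth.Agent.S2460
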