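import Groth.Statements.S2462
import Groth.Agent.L06.FormSmoothAdic
import Mathlib.RingTheory.Filtration

set_option autoImplicit false
set_option linter.style.haveILetI false
set_option maxSynthPendingDepth 3
universe u
open EGA41

namespace Groth.Agent.S2462

open IsLocalRing in
/-- Let A carry the 𝔞-adic and B the 𝔟-adic topology with B formally smooth over A; let C be a complete
Noetherian local A-algebra with 𝔞C inside the maximal ideal (continuity of A → C) and J ≠ C an
ideal. Then every A-algebra homomorphism u : B → C/J sending 𝔟 into the maximal ideal of C/J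
(continuity) is induced by an A-algebra homomorphism v : B → C sending 𝔟 into the maximal ideal of
C. -/
theorem result {A B C : Type u} [CommRing A] (𝔞 : Ideal A) [CommRing B] [Algebra A B] (𝔟 : Ideal B)
    (hB : EGA41.IsFormallySmoothAdic A 𝔞 B 𝔟)
    [CommRing C] [IsLocalRing C] [IsNoetherianRing C] [IsAdicComplete (maximalIdeal C) C] [Algebra A C]
    (hA : 𝔞.map (algebraMap A C) ≤ maximalIdeal C) (J : Ideal C) (hJ : J ≠ ⊤)
    (u : B →ₐ[A] C ⧸ J) (hu : 𝔟.map u.toRingHom ≤ (maximalIdeal C).map (Ideal.Quotient.mk J)) :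
    ∃ v : B →ₐ[A] C, 𝔟.map v.toRingHom ≤ maximalIdeal C ∧ (Ideal.Quotient.mkₐ A J).comp v = u := by
  haveI : Nontrivial (C ⧸ J) := Ideal.Quotient.nontrivial_iff.mpr hJ
  haveI : IsLocalRing (C ⧸ J) := IsLocalRing.of_surjective' _ Ideal.Quotient.mk_surjective
  have hJm : J ≤ maximalIdeal C := IsLocalRing.le_maximalIdeal hJ
  have hne : (maximalIdeal C).map (Ideal.Quotient.mk J) ≠ ⊤ := by
    intro htop
    have h1 := congrArg (Ideal.comap (Ideal.Quotient.mk J)) htop
    rw [Ideal.comap_map_of_surjective _ Ideal.Quotient.mk_surjective, ← RingHom.ker_eq_comap_bot, Ideal.mk_ker,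
      sup_eq_left.mpr hJm, Ideal.comap_top] at h1
    exact (maximalIdeal.isMaximal C).ne_top h1
  haveI : IsHausdorff ((maximalIdeal C).map (Ideal.Quotient.mk J)) (C ⧸ J) := ⟨fun x hx => by
    have hb := Ideal.iInf_pow_eq_bot_of_isLocalRing _ hne
    rw [← Submodule.mem_bot (C ⧸ J), ← hb, Submodule.mem_iInf]
    intro i
    have := SModEq.zero.mp (hx i)
    rwa [smul_eq_mul, Ideal.mul_top] at this⟩
  obtain ⟨v, ⟨k, hk⟩, hv⟩ := Groth.L06.FormSmoothAdic.exists_lift_complete hB ⟨1, (congrArg _ (pow_one 𝔞)).le.trans hA⟩ J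
    ⟨1, (pow_one J).le.trans hJm⟩ u ⟨1, (congrArg _ (pow_one 𝔟)).le.trans hu⟩
  refine ⟨v, Ideal.map_le_iff_le_comap.mpr fun b hb => ?_, hv⟩
  exact (maximalIdeal.isMaximal C).isPrime.mem_of_pow_mem k
    (by rw [← map_pow]; exact hk (Ideal.mem_map_of_mem _ (Ideal.pow_mem_pow hb k)))

end Groth.Agent.S2462
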