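import Groth.Statements.S2470
import Groth.Agent.S0565
import Groth.Agent.S2082
import Groth.Agent.L04.CMLoc
import Mathlib.RingTheory.Ideal.KrullsHeightTheorem
import Mathlib.RingTheory.RegularLocalRing.Defs
import Mathlib.RingTheory.Flat.FaithfullyFlat.Algebra

set_option autoImplicit false
universe u
open EGA41

namespace Groth.Agent.S2470

open IsLocalRing in
variable {_unused : Unit}

section
open IsLocalRing
variable {A B : Type u} [CommRing A] [IsLocalRing A] [IsNoetherianRing A] [CommRing B] [IsLocalRing B] [IsNoetherianRing B]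
  [Algebra A B] [IsLocalHom (algebraMap A B)] [IsLocalRing (B ⧸ (maximalIdeal A).map (algebraMap A B))]

theorem height_fibre : ((maximalIdeal B).map (Ideal.Quotient.mk ((maximalIdeal A).map (algebraMap A B)))).height =
    (maximalIdeal (B ⧸ (maximalIdeal A).map (algebraMap A B))).height := by
  rw [IsLocalRing.map_maximalIdeal_of_surjective (Ideal.Quotient.mk ((maximalIdeal A).map (algebraMap A B))) Ideal.Quotient.mk_surjective]

theorem dim_le : ringKrullDim B ≤ ringKrullDim A + ringKrullDim (B ⧸ (maximalIdeal A).map (algebraMap A B)) := by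
  haveI : (maximalIdeal B).LiesOver (maximalIdeal A) := ⟨(IsLocalRing.maximalIdeal_comap (algebraMap A B)).symm⟩
  have h := Ideal.height_le_height_add_of_liesOver (maximalIdeal A) (maximalIdeal B)
  rw [height_fibre] at h
  simp only [← IsLocalRing.maximalIdeal_height_eq_ringKrullDim]
  exact_mod_cast h

theorem dim_eq_of_flat [Module.Flat A B] :
    ringKrullDim B = ringKrullDim A + ringKrullDim (B ⧸ (maximalIdeal A).map (algebraMap A B)) := by
  haveI : (maximalIdeal B).LiesOver (maximalIdeal A) := ⟨(IsLocalRing.maximalIdeal_comap (algebraMap A B)).symm⟩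
  have h := Ideal.height_eq_height_add_of_liesOver_of_hasGoingDown (maximalIdeal A) (maximalIdeal B)
  rw [height_fibre] at h
  simp only [← IsLocalRing.maximalIdeal_height_eq_ringKrullDim]
  exact_mod_cast h

theorem gen_le : (maximalIdeal B).spanFinrank ≤ (maximalIdeal A).spanFinrank +
    (maximalIdeal (B ⧸ (maximalIdeal A).map (algebraMap A B))).spanFinrank := by
  classical
  obtain ⟨s, hscard, hs⟩ := Submodule.FG.exists_span_finset_card_eq_spanFinrank (IsNoetherian.noetherian (maximalIdeal A))
  obtain ⟨t, htcard, ht⟩ := Submodule.FG.exists_span_finset_card_eq_spanFinrank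
    (IsNoetherian.noetherian (maximalIdeal (B ⧸ (maximalIdeal A).map (algebraMap A B))))
  set π := Ideal.Quotient.mk ((maximalIdeal A).map (algebraMap A B))
  let o : Finset B := t.image (Function.surjInv (f := π) Ideal.Quotient.mk_surjective)
  have hm : maximalIdeal B = Ideal.span (↑(s.image (algebraMap A B) ∪ o) : Set B) := by
    have h1 : Ideal.span (π '' (o : Set B)) = maximalIdeal (B ⧸ (maximalIdeal A).map (algebraMap A B)) := by
      rw [← ht]
      congr 1
      simp only [o, Finset.coe_image, Set.image_image]
      refine (Set.image_congr fun x _ => Function.surjInv_eq _ x).trans (Set.image_id' _)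
    rw [← Ideal.map_span, ← IsLocalRing.map_maximalIdeal_of_surjective π Ideal.Quotient.mk_surjective] at h1
    have h2 := congrArg (Ideal.comap π) h1
    rw [Ideal.comap_map_of_surjective π Ideal.Quotient.mk_surjective, Ideal.comap_map_of_surjective π Ideal.Quotient.mk_surjective,
      ← RingHom.ker_eq_comap_bot, Ideal.mk_ker, sup_eq_left.mpr (IsLocalRing.map_maximalIdeal_le (algebraMap A B))] at h2
    rw [← h2, Finset.coe_union, Ideal.span_union, sup_comm]
    congr 1
    rw [Finset.coe_image, ← Ideal.map_span, show Ideal.span (s : Set A) = maximalIdeal A from hs]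
  rw [hm]
  refine (Submodule.spanFinrank_span_le_ncard_of_finite (Finset.finite_toSet _)).trans ?_
  rw [Set.ncard_coe_finset]
  exact (Finset.card_union_le _ _).trans (add_le_add (Finset.card_image_le.trans hscard.le) (Finset.card_image_le.trans htcard.le))

theorem e_implies_B (hA : IsRegularLocalRing A) (h0 : IsRegularLocalRing (B ⧸ (maximalIdeal A).map (algebraMap A B)))
    (hd : ringKrullDim B = ringKrullDim A + ringKrullDim (B ⧸ (maximalIdeal A).map (algebraMap A B))) : IsRegularLocalRing B := by
  refine IsRegularLocalRing.of_spanFinrank_maximalIdeal_le B ?_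
  rw [hd, ← hA.spanFinrank_maximalIdeal, ← h0.spanFinrank_maximalIdeal]
  exact_mod_cast gen_le

end

open EGA41 in
open IsLocalRing in

/-- Let A → B be a local homomorphism of Noetherian local rings with maximal ideals 𝔪, 𝔫 and residue
fields k, k', and let B₀ = B/𝔪B be the closed fibre. The following are equivalent: (a) B is regular
and the canonical map (𝔪/𝔪²) ⊗_k k' → 𝔫/𝔫² is injective — stated here through dimensions, as
rank_{k'} 𝔫/𝔫² = rank_k 𝔪/𝔪² + rank_{k'} of the cotangent space of B₀, which is equivalent since the
cokernel of that map is the cotangent space of B₀; (c) B and B₀ are regular and B is flat over A;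
(d) A and B₀ are regular and B is flat over A; (e) A and B₀ are regular and dim B = dim A + dim B₀.
(Condition (b) of the source, on regular systems of parameters, is not stated.) -/
theorem result {A B : Type u} [CommRing A] [IsLocalRing A] [IsNoetherianRing A] [CommRing B] [IsLocalRing B] [IsNoetherianRing B]
    [Algebra A B] [IsLocalHom (algebraMap A B)] [IsLocalRing (B ⧸ (maximalIdeal A).map (algebraMap A B))] :
    [IsRegularLocalRing B ∧
       Module.finrank (ResidueField B) (CotangentSpace B) =
         Module.finrank (ResidueField A) (CotangentSpace A) +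
           Module.finrank (ResidueField (B ⧸ (maximalIdeal A).map (algebraMap A B))) (CotangentSpace (B ⧸ (maximalIdeal A).map (algebraMap A B))),
     IsRegularLocalRing B ∧ IsRegularLocalRing (B ⧸ (maximalIdeal A).map (algebraMap A B)) ∧ Module.Flat A B,
     IsRegularLocalRing A ∧ IsRegularLocalRing (B ⧸ (maximalIdeal A).map (algebraMap A B)) ∧ Module.Flat A B,
     IsRegularLocalRing A ∧ IsRegularLocalRing (B ⧸ (maximalIdeal A).map (algebraMap A B)) ∧
       ringKrullDim B = ringKrullDim A + ringKrullDim (B ⧸ (maximalIdeal A).map (algebraMap A B))].TFAE := by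
  tfae_have 1 → 4 := by
    rintro ⟨hB, hfin⟩
    simp only [← IsLocalRing.spanFinrank_maximalIdeal_eq_finrank_cotangentSpace] at hfin
    have hb := hB.spanFinrank_maximalIdeal
    obtain ⟨a, ha⟩ := Groth.L01.exists_dim_eq_nat (R := A)
    obtain ⟨b, hb0⟩ := Groth.L01.exists_dim_eq_nat (R := B ⧸ (maximalIdeal A).map (algebraMap A B))
    have h1 := dim_le (A := A) (B := B)
    have h2 := ringKrullDim_le_spanFinrank_maximalIdeal A
    have h3 := ringKrullDim_le_spanFinrank_maximalIdeal (B ⧸ (maximalIdeal A).map (algebraMap A B))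
    rw [← hb, hfin, ha, hb0] at h1
    rw [ha] at h2
    rw [hb0] at h3
    norm_cast at h1 h2 h3
    refine ⟨(isRegularLocalRing_iff _).mpr ?_, (isRegularLocalRing_iff _).mpr ?_, ?_⟩
    · rw [ha]; norm_cast; omega
    · rw [hb0]; norm_cast; omega
    · rw [← hb, hfin, ha, hb0]; norm_cast; omega
  tfae_have 4 → 3 := by
    rintro ⟨hA, h0, hd⟩
    haveI := e_implies_B hA h0 hd
    haveI := Groth.L04.isCohenMacaulayLocalRing_of_regular B
    exact ⟨hA, h0, Groth.Agent.S2082.result hd⟩
  tfae_have 3 → 2 := by
    rintro ⟨hA, h0, hf⟩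
    exact ⟨e_implies_B hA h0 dim_eq_of_flat, h0, hf⟩
  tfae_have 2 → 1 := by
    rintro ⟨hB, h0, hf⟩
    have hA : IsRegularLocalRing A := Groth.Agent.S0565.result A B
    refine ⟨hB, ?_⟩
    simp only [← IsLocalRing.spanFinrank_maximalIdeal_eq_finrank_cotangentSpace]
    have h := dim_eq_of_flat (A := A) (B := B)
    rw [← hA.spanFinrank_maximalIdeal, ← hB.spanFinrank_maximalIdeal, ← h0.spanFinrank_maximalIdeal] at h
    exact_mod_cast h
  tfae_finish

end Groth.Agent.S2470
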