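import Groth.Statements.S2472
import Groth.Agent.L14.ImperfLift

set_option autoImplicit false
universe u
open EGA41

namespace Groth.Agent.S2472

open IsLocalRing in
/-- Existence part and the range of dimensions: let k ⊆ K be fields. There is a Noetherian local
k-algebra A, formally smooth over k for its adic topology, whose residue field is k-isomorphic to K,
if and only if Υ_{K/k} is a finite-dimensional K-vector space. When this holds, for every integer n
≥ rank Υ_{K/k} there is such an A which is moreover complete and of dimension n. (The source's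
uniqueness-up-to-isomorphism clause for a given dimension is not stated.) -/
theorem result {k K : Type u} [Field k] [Field K] [Algebra k K] :
    ((∃ (A : Type u) (_ : CommRing A) (_ : IsLocalRing A) (_ : IsNoetherianRing A) (_ : Algebra k A),
        CAlgX.IsAdicFormallySmooth k A (maximalIdeal A) ∧ Nonempty (ResidueField A ≃ₐ[k] K)) ↔
      Module.Finite K (EGA41.imperfection ℤ k K)) ∧
    (Module.Finite K (EGA41.imperfection ℤ k K) → ∀ n : ℕ, Module.finrank K (EGA41.imperfection ℤ k K) ≤ n →
      ∃ (A : Type u) (_ : CommRing A) (_ : IsLocalRing A) (_ : IsNoetherianRing A) (_ : Algebra k A),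
        IsAdicComplete (maximalIdeal A) A ∧ CAlgX.IsAdicFormallySmooth k A (maximalIdeal A) ∧
        Nonempty (ResidueField A ≃ₐ[k] K) ∧ ringKrullDim A = n) := by
  refine ⟨⟨?_, fun h => ?_⟩, fun h n hn => ?_⟩
  · rintro ⟨A, _, _, _, _, hs, ⟨e⟩⟩
    exact Groth.L14.ImperfLift.finite_imperfection hs e
  · haveI := h
    obtain ⟨R, i1, i2, i3, i4, -, hs, he, -⟩ := Groth.L14.ImperfLift.exists_complete_adicSmooth (k := k) (K := K) _ le_rfl
    exact ⟨R, i1, i2, i3, i4, hs, he⟩
  · haveI := h
    exact Groth.L14.ImperfLift.exists_complete_adicSmooth n hn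

end Groth.Agent.S2472
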