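import Groth.Statements.S2473
import Groth.Agent.L06.DiffCotLocal
import Groth.Agent.L06.RegularRing
import Groth.Agent.L22.AffineDim

set_option autoImplicit false
set_option maxSynthPendingDepth 3
universe u
open EGA41

namespace Groth.Agent.S2473

open IsLocalRing TensorProduct in
/-- Let A be a regular local ring whose residue field K has characteristic p > 0; for 1 ≤ i ≤ r let F_i
= T_i^p + p Σ_{j=1}^{p-1} c_{ij} T_i^{p-j} − f_i with c_{ij}, f_i ∈ A, and let B be the quotient of
A[T_1, …, T_r] by the ideal generated by the F_i. Then B is a local ring, and B is regular if and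
only if the elements d f_i ⊗ 1 of Ω_{A/ℤ} ⊗_A K are linearly independent over K. Assumed in
addition: p lies in the square of the maximal ideal of A (which covers the case where A has
characteristic p); the printed statement omits this, and the equivalence can fail for A absolutely
unramified, e.g. A = ℤ_(p), r = 1, f_1 = p. (Condition (c) of the source, on the characteristic
homomorphism Ξ, is not stated.) -/
theorem result {A : Type u} [CommRing A] [IsRegularLocalRing A] (p : ℕ) [Fact p.Prime] [CharP (ResidueField A) p]
    {r : ℕ} (c : Fin r → Fin p → A) (f : Fin r → A)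
    (hp : (p : A) ∈ maximalIdeal A ^ 2) :
    let F : Fin r → MvPolynomial (Fin r) A := fun i =>
      MvPolynomial.X i ^ p + (p : MvPolynomial (Fin r) A) * (Finset.univ.sum fun j : Fin p =>
        if (j : ℕ) = 0 then 0 else MvPolynomial.C (c i j) * MvPolynomial.X i ^ (p - (j : ℕ))) - MvPolynomial.C (f i)
    IsLocalRing (MvPolynomial (Fin r) A ⧸ Ideal.span (Set.range F)) ∧
      (IsRegularRing (MvPolynomial (Fin r) A ⧸ Ideal.span (Set.range F)) ↔
        LinearIndependent (ResidueField A) (fun i => (1 : ResidueField A) ⊗ₜ[A] KaehlerDifferential.D ℤ A (f i))) := by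
  intro F
  let G : Fin r → MvPolynomial (Fin r) A := fun i => Finset.univ.sum fun j : Fin p =>
    if (j : ℕ) = 0 then 0 else MvPolynomial.C (c i j) * MvPolynomial.X i ^ (p - (j : ℕ))
  have hJ : Groth.L06.DiffCot.relJ p G f = Ideal.span (Set.range F) := rfl
  have hp0 : 0 < p := (Fact.out (p := p.Prime)).pos
  let S : Fin r → Polynomial A := fun i => Finset.univ.sum fun j : Fin p =>
    if (j : ℕ) = 0 then 0 else Polynomial.C (c i j) * Polynomial.X ^ (p - (j : ℕ))
  let Q : Fin r → Polynomial A := fun i => (p : Polynomial A) * S i - Polynomial.C (f i)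
  have hQd : ∀ i, (Q i).degree < p := by
    intro i
    refine lt_of_le_of_lt (Polynomial.degree_sub_le _ _) (max_lt ?_ (lt_of_le_of_lt Polynomial.degree_C_le (by exact_mod_cast hp0)))
    rw [← Polynomial.C_eq_natCast]
    refine lt_of_le_of_lt (Polynomial.degree_mul_le _ _) ?_
    refine lt_of_le_of_lt (add_le_add Polynomial.degree_C_le le_rfl) ?_
    rw [zero_add]
    refine lt_of_le_of_lt (Polynomial.degree_sum_le _ _) ((Finset.sup_lt_iff (WithBot.bot_lt_coe p)).mpr fun j _ => ?_)
    split_ifs with hj
    · exact (Polynomial.degree_zero (R := A)).trans_lt (WithBot.bot_lt_coe p)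
    · refine lt_of_le_of_lt (Polynomial.degree_C_mul_X_pow_le _ _) ?_
      exact WithBot.coe_lt_coe.mpr (Nat.sub_lt hp0 (Nat.pos_of_ne_zero hj))
  let P : Fin r → Polynomial A := fun i => Polynomial.X ^ p + Q i
  have hPm : ∀ i, (P i).Monic := fun i => Polynomial.monic_X_pow_add (hQd i)
  have hPd : ∀ i, (P i).natDegree = p := fun i => by
    refine Polynomial.natDegree_eq_of_degree_eq_some ?_
    rw [Polynomial.degree_add_eq_left_of_degree_lt (by rw [Polynomial.degree_X_pow]; exact hQd i), Polynomial.degree_X_pow]
  have hrel : Groth.L13.Wild.relIdeal P = Groth.L06.DiffCot.relJ p G f := by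
    refine congrArg (fun g => Ideal.span (Set.range g)) (funext fun i => ?_)
    simp only [P, Q, S, G, map_add, map_sub, map_mul, map_pow, map_sum, map_natCast, Polynomial.aeval_X,
      Polynomial.aeval_C, MvPolynomial.algebraMap_eq, add_sub_assoc]
    congr 2
    refine congrArg _ (Finset.sum_congr rfl fun j _ => ?_)
    split_ifs
    · exact map_zero _
    · simp [MvPolynomial.algebraMap_eq]
  let b := Groth.L13.Wild.basis P hPm hPd hp0
  haveI hfin : Module.Finite A (MvPolynomial (Fin r) A ⧸ Groth.L06.DiffCot.relJ p G f) := by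
    rw [← hrel]; exact Module.Finite.of_basis b
  haveI hfree : Module.Free A (MvPolynomial (Fin r) A ⧸ Groth.L06.DiffCot.relJ p G f) := by
    rw [← hrel]; exact Module.Free.of_basis b
  haveI hnt : Nontrivial (MvPolynomial (Fin r) A ⧸ Groth.L06.DiffCot.relJ p G f) := by
    rw [← hrel]; exact b.repr.toEquiv.nontrivial
  haveI : Algebra.IsIntegral A (MvPolynomial (Fin r) A ⧸ Groth.L06.DiffCot.relJ p G f) := Algebra.IsIntegral.of_finite _ _
  haveI hloc := Groth.L06.DiffCot.isLocalRing_quot p G f (Ideal.pow_le_self two_ne_zero hp)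
  have h := Groth.L06.DiffCot.cotangent_criterion p G f hp
  let B := MvPolynomial (Fin r) A ⧸ Groth.L06.DiffCot.relJ p G f
  have hdim : ringKrullDim B = ringKrullDim A :=
    Groth.L22.AffineDim.ringKrullDim_eq_of_isIntegral (FaithfulSMul.algebraMap_injective A B)
  have hiff : IsRegularRing B ↔ IsRegularLocalRing B := by
    refine ⟨fun _ => IsRegularLocalRing.of_isRegularRing_of_isLocalRing B, fun hB => ?_⟩
    refine Groth.L06.RegularRing.isRegularRing_of_maximal (fun M hM => ?_)
    obtain rfl := IsLocalRing.eq_maximalIdeal hM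
    let e : B ≃ₐ[B] Localization.AtPrime (maximalIdeal B) :=
      IsLocalization.atUnits B (maximalIdeal B).primeCompl (fun x hx => show IsUnit x from by simpa using hx)
    exact IsRegularLocalRing.of_ringEquiv e.toRingEquiv
  have hreg : IsRegularLocalRing B ↔
      Module.finrank (ResidueField A) (CotangentSpace A) = Module.finrank (ResidueField B) (CotangentSpace B) := by
    have hA : ((maximalIdeal A).spanFinrank : WithBot ℕ∞) = ringKrullDim A := IsRegularLocalRing.spanFinrank_maximalIdeal
    rw [isRegularLocalRing_iff, hdim, ← hA, spanFinrank_maximalIdeal_eq_finrank_cotangentSpace,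
      spanFinrank_maximalIdeal_eq_finrank_cotangentSpace, Nat.cast_inj, eq_comm]
  exact ⟨hloc, hiff.trans (hreg.trans h)⟩

end Groth.Agent.S2473
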