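import Groth.Statements.S2474
import Groth.Agent.L01.MoriSemilocal
import Mathlib.RingTheory.DedekindDomain.IntegralClosure

set_option autoImplicit false
universe u
open EGA41

namespace Groth.Agent.S2474

open IsLocalRing in
/-- Let A be a Noetherian local domain with fraction field K, K' a finite extension of K and A' the
integral closure of A in K'. Then A' has only finitely many maximal ideals, and for every maximal
ideal 𝔪' of A' the field A'/𝔪' is a finite extension of the residue field of A (equivalently a
finite A-module). -/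
theorem result {A K' : Type u} [CommRing A] [IsDomain A] [IsLocalRing A] [IsNoetherianRing A]
    [Field K'] [Algebra A K'] [Algebra (FractionRing A) K'] [IsScalarTower A (FractionRing A) K'] [FiniteDimensional (FractionRing A) K'] :
    {m : Ideal (integralClosure A K') | m.IsMaximal}.Finite ∧
      ∀ (m : Ideal (integralClosure A K')), m.IsMaximal → Module.Finite A (integralClosure A K' ⧸ m) := by
  classical
  let L := K'
  obtain ⟨s, b, hb⟩ := FiniteDimensional.exists_is_basis_integral A (FractionRing A) L
  let A1 : Subalgebra A L := Algebra.adjoin A (Set.range fun i : s => b i)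
  haveI : Module.Finite A A1 :=
    Algebra.finite_adjoin_of_finite_of_isIntegral (Set.finite_range _) (by rintro _ ⟨i, rfl⟩; exact hb i)
  haveI : IsNoetherianRing A1 := IsNoetherianRing.of_finite A A1
  haveI : Algebra.IsIntegral A A1 := Algebra.IsIntegral.of_finite A A1
  haveI : IsFractionRing A1 L := by
    refine IsFractionRing.of_field A1 L fun z => ?_
    obtain ⟨⟨d, hd⟩, hdz⟩ := IsLocalization.exist_integer_multiples_of_finite (nonZeroDivisors A)
      (fun i => b.repr z i)
    choose r hr using hdz
    let g : s → A1 := fun i => ⟨b i, Algebra.subset_adjoin ⟨i, rfl⟩⟩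
    refine ⟨∑ i, r i • g i, algebraMap A A1 d, ?_⟩
    have hd0 : algebraMap A L d ≠ 0 := by
      rw [IsScalarTower.algebraMap_apply A (FractionRing A) L]
      exact (map_ne_zero _).mpr ((map_ne_zero_iff _ (IsFractionRing.injective A _)).mpr (nonZeroDivisors.ne_zero hd))
    change z = ((∑ i, r i • g i : A1) : L) / algebraMap A L d
    rw [eq_div_iff hd0, AddSubmonoidClass.coe_finsetSum]
    conv_lhs => rw [← b.sum_repr z, Finset.sum_mul]
    refine Finset.sum_congr rfl fun i _ => ?_
    rw [Subalgebra.coe_smul, Algebra.smul_def, Algebra.smul_def,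
      IsScalarTower.algebraMap_apply A (FractionRing A) L (r i),
      IsScalarTower.algebraMap_apply A (FractionRing A) L d, hr i]
    change _ = algebraMap (FractionRing A) L (d • b.repr z i) * b i
    rw [Algebra.smul_def, map_mul]
    ring
  let S := integralClosure A L
  let S' := integralClosure A1 L
  have hSS : ∀ z : L, z ∈ S ↔ z ∈ S' := fun z =>
    ⟨fun h => IsIntegral.tower_top (A := A1) h, fun h => isIntegral_trans (R := A) z h⟩
  let ι : A1 →ₐ[A] S := Subalgebra.inclusion fun z hz =>
    (IsIntegral.of_finite A (⟨z, hz⟩ : A1)).map A1.val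
  let e : S ≃ₐ[A] S' :=
    { toFun := fun z => ⟨z, (hSS z).mp z.2⟩
      invFun := fun z => ⟨z, (hSS z).mpr z.2⟩
      left_inv := fun _ => rfl
      right_inv := fun _ => rfl
      map_mul' := fun _ _ => rfl
      map_add' := fun _ _ => rfl
      commutes' := fun _ => rfl }
  have hmax : ∀ m : Ideal S, m.IsMaximal → (m.comap e.symm).IsMaximal ∧
      ((m.comap e.symm).comap (algebraMap A1 S')).IsMaximal := fun m hm => by
    haveI := hm
    have h1 : (m.comap e.symm).IsMaximal := Ideal.comap_isMaximal_of_surjective _ e.symm.surjective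
    haveI : Algebra.IsIntegral A1 S' := IsIntegralClosure.isIntegral_algebra A1 L
    exact ⟨h1, Ideal.isMaximal_comap_of_isIntegral_of_isMaximal _⟩
  haveI : Algebra.QuasiFinite A A1 := inferInstance
  constructor
  · have hA1 : {P : Ideal A1 | P.IsMaximal}.Finite := by
      refine (Algebra.QuasiFinite.finite_primesOver (S := A1) (IsLocalRing.maximalIdeal A)).subset fun P hP => ?_
      haveI : P.IsMaximal := hP
      exact ⟨inferInstance, ⟨(IsLocalRing.eq_maximalIdeal
        (Ideal.isMaximal_comap_of_isIntegral_of_isMaximal P)).symm⟩⟩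
    have hS' : ∀ P ∈ {P : Ideal A1 | P.IsMaximal},
        {Q : Ideal S' | Q.IsMaximal ∧ Q.comap (algebraMap A1 S') = P}.Finite := fun P hP => by
      haveI : P.IsMaximal := hP
      exact (Groth.L01.MoriSemilocal.over_maximal A1 L P).1
    refine ((hA1.biUnion hS').image fun Q : Ideal S' => Q.comap e).subset fun m hm => ?_
    refine ⟨m.comap e.symm, Set.mem_biUnion (hmax m hm).2 ⟨(hmax m hm).1, rfl⟩, ?_⟩
    ext z
    simp
  · intro m hm
    haveI := (hmax m hm).2
    haveI : Module.Finite A1 (S' ⧸ m.comap e.symm) :=
      (Groth.L01.MoriSemilocal.over_maximal A1 L ((m.comap e.symm).comap (algebraMap A1 S'))).2 _ (hmax m hm).1 rfl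
    haveI : Module.Finite A (S' ⧸ m.comap e.symm) := Module.Finite.trans A1 _
    refine Module.Finite.of_surjective
      (Ideal.quotientMapₐ (I := m.comap e.symm) m (e.symm : S' →ₐ[A] S) le_rfl).toLinearMap fun z => ?_
    obtain ⟨y, rfl⟩ := Ideal.Quotient.mk_surjective z
    obtain ⟨x, rfl⟩ := e.symm.surjective y
    exact ⟨Ideal.Quotient.mk _ x, rfl⟩

end Groth.Agent.S2474
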