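import Groth.Statements.S2477
import Groth.Agent.L06.CplKaehler

set_option autoImplicit false
set_option maxSynthPendingDepth 3
set_option linter.style.haveILetI false
universe u
open EGA41

namespace Groth.Agent.S2477

open IsLocalRing in
/-- Let k be a field and A = k[[T_1, …, T_r]] with its usual k-algebra structure. Then the adic
completion Ω̂_{A/k} of Ω_{A/k} is a free A-module of rank r. -/
theorem result (k : Type u) [Field k] (r : ℕ) :
    Module.Finite (MvPowerSeries (Fin r) k) (AdicCompletion (maximalIdeal (MvPowerSeries (Fin r) k)) (Ω[MvPowerSeries (Fin r) k⁄k])) ∧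
    Module.Free (MvPowerSeries (Fin r) k) (AdicCompletion (maximalIdeal (MvPowerSeries (Fin r) k)) (Ω[MvPowerSeries (Fin r) k⁄k])) ∧
      Module.finrank (MvPowerSeries (Fin r) k) (AdicCompletion (maximalIdeal (MvPowerSeries (Fin r) k)) (Ω[MvPowerSeries (Fin r) k⁄k])) = r := by
  classical
  haveI : IsAdicComplete (IsLocalRing.maximalIdeal k) k := by rw [IsLocalRing.maximalIdeal_eq_bot]; infer_instance
  haveI : IsAdicComplete (IsLocalRing.maximalIdeal (MvPowerSeries (Fin r) k)) (MvPowerSeries (Fin r) k) := Groth.L12.isAdicComplete_mvPowerSeries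
  refine Groth.L06.CplKaehler.free_of_dual _ MvPowerSeries.X (fun j => MvPowerSeries.pderiv k j) (fun i j => ?_) fun f =>
    ⟨((MvPowerSeries.truncTotal 2 f : MvPolynomial (Fin r) k) : MvPowerSeries (Fin r) k),
      Ideal.pow_right_mono Groth.L12.span_X_le_maximalIdeal 2 (Groth.L12.sub_truncTotal_mem f 2), ?_⟩
  · split
    · next h => subst h; exact MvPowerSeries.pderiv_X_self
    · next h => exact MvPowerSeries.pderiv_X_of_ne h
  · have := Groth.L06.CplKaehler.poly_mem_span (MvPolynomial.coeToMvPowerSeries.algHom k : MvPolynomial (Fin r) k →ₐ[k] MvPowerSeries (Fin r) k) (MvPowerSeries.truncTotal 2 f)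
    simpa using this

end Groth.Agent.S2477
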