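import Groth.Statements.S2478
import Mathlib.RingTheory.Spectrum.Prime.ConstructibleSet
import Mathlib.RingTheory.Spectrum.Prime.RingHom
-- import your own Groth.Agent.* helpers here

set_option autoImplicit false
universe u
open EGA41

namespace Groth.Agent.S2478

open Topology in
/-- Equivalence of (a'') and (b) for X = Spec A affine: a subset E of Spec A is the image of the map
Spec B → Spec A induced by some ring homomorphism A → B if and only if E is an intersection of a
family of constructible subsets of Spec A. -/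
theorem result {A : Type u} [CommRing A] (E : Set (PrimeSpectrum A)) :
    (∃ (B : Type u) (_ : CommRing B) (f : A →+* B), Set.range (PrimeSpectrum.comap f) = E) ↔
      ∃ S : Set (Set (PrimeSpectrum A)), (∀ s ∈ S, IsConstructible s) ∧ E = ⋂₀ S := by
  classical
  constructor
  · rintro ⟨B, _, f, rfl⟩
    refine ⟨{s | IsConstructible s ∧ Set.range (PrimeSpectrum.comap f) ⊆ s}, fun s hs => hs.1, ?_⟩
    refine Set.Subset.antisymm (Set.subset_sInter fun s hs => hs.2) fun x hx => ?_
    by_contra hxr
    rw [PrimeSpectrum.mem_range_comap_iff] at hxr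
    obtain ⟨s, hsm, hsx⟩ : ∃ s, s ∈ (x.asIdeal.map f).comap f ∧ s ∉ x.asIdeal := by
      by_contra hne
      simp only [not_exists, not_and, not_not] at hne
      exact hxr (le_antisymm hne Ideal.le_comap_map)
    obtain ⟨T, hT, hmem⟩ := Submodule.mem_span_finite_of_mem_span (R := B) (S := f '' x.asIdeal) hsm
    obtain ⟨G, hG, rfl⟩ := Finset.subset_set_image_iff.1 hT
    let C : PrimeSpectrum.BasicConstructibleSetData A := ⟨s, G.card, fun i => (G.equivFin.symm i).1⟩
    have hC : ∀ y, y ∈ C.toSet ↔ (∀ g ∈ G, g ∈ y.asIdeal) ∧ s ∉ y.asIdeal := by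
      intro y
      show _ ∧ _ ↔ _
      simp only [PrimeSpectrum.mem_zeroLocus, Set.range_subset_iff, Set.singleton_subset_iff, SetLike.mem_coe]
      refine and_congr_left' ⟨fun h g hg => ?_, fun h i => h _ (G.equivFin.symm i).2⟩
      simpa [C] using h (G.equivFin ⟨g, hg⟩)
    have hcons : IsConstructible C.toSetᶜ :=
      (by simpa [PrimeSpectrum.ConstructibleSetData.toSet] using
        PrimeSpectrum.ConstructibleSetData.isConstructible_toSet ({C} : Finset _) :
          IsConstructible C.toSet).compl
    refine Set.mem_sInter.1 hx _ ⟨hcons, ?_⟩ ((hC x).2 ⟨fun g hg => hG hg, hsx⟩)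
    rintro _ ⟨q, rfl⟩ hq
    obtain ⟨hg, hs⟩ := (hC _).1 hq
    refine hs (show f s ∈ q.asIdeal from Ideal.span_le.2 ?_ hmem)
    rintro _ hb
    obtain ⟨g, hg', rfl⟩ := Finset.mem_image.1 hb
    exact hg g hg'
  · rintro ⟨S, hS, rfl⟩
    let K : ↥(⋂₀ S) → Type u := fun x => FractionRing (A ⧸ x.1.asIdeal)
    let g : ∀ x : ↥(⋂₀ S), A →+* K x := fun x =>
      (algebraMap (A ⧸ x.1.asIdeal) (K x)).comp (Ideal.Quotient.mk x.1.asIdeal)
    have hg : ∀ (x : ↥(⋂₀ S)) (a : A), g x a = 0 ↔ a ∈ x.1.asIdeal := fun x a => by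
      show algebraMap (A ⧸ x.1.asIdeal) (K x) _ = 0 ↔ _
      rw [map_eq_zero_iff _ (IsFractionRing.injective _ _)]
      exact Ideal.Quotient.eq_zero_iff_mem
    refine ⟨∀ x, K x, inferInstance, RingHom.pi g, Set.Subset.antisymm ?_ fun x hx => ?_⟩
    · rintro _ ⟨q, rfl⟩
      refine Set.mem_sInter.2 fun s hs => ?_
      by_contra hqs
      obtain ⟨D, hD⟩ := PrimeSpectrum.exists_constructibleSetData_iff.2 (hS s hs).compl
      have hq : PrimeSpectrum.comap (RingHom.pi g) q ∈ D.toSet := by rw [hD]; exact hqs
      rw [PrimeSpectrum.ConstructibleSetData.toSet, Set.mem_iUnion₂] at hq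
      obtain ⟨C, hC, hq1, hq2⟩ := hq
      rw [PrimeSpectrum.mem_zeroLocus, Set.range_subset_iff] at hq1
      rw [PrimeSpectrum.mem_zeroLocus, Set.singleton_subset_iff] at hq2
      have hcase : ∀ x : ↥(⋂₀ S), ∃ (i : Option (Fin C.n)),
          i.elim (g x C.f = 0) (fun j => g x (C.g j) ≠ 0) := by
        intro x
        by_contra hne
        simp only [Option.exists, Option.elim_none, Option.elim_some, not_or, not_exists, not_not] at hne
        have hx : x.1 ∈ D.toSet := by
          rw [PrimeSpectrum.ConstructibleSetData.toSet, Set.mem_iUnion₂]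
          refine ⟨C, hC, ?_, ?_⟩
          · rw [PrimeSpectrum.mem_zeroLocus, Set.range_subset_iff]
            exact fun j => (hg x _).1 (hne.2 j)
          · rw [PrimeSpectrum.mem_zeroLocus, Set.singleton_subset_iff]
            exact fun h => hne.1 ((hg x _).2 h)
        rw [hD] at hx
        exact hx (Set.mem_sInter.1 x.2 s hs)
      choose i hi using hcase
      refine hq2 ?_
      have heq : RingHom.pi g C.f = ∑ j, RingHom.pi g (C.g j) *
          (fun x => if i x = some j then g x C.f / g x (C.g j) else 0) := by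
        funext x
        simp only [Finset.sum_apply, Pi.mul_apply]
        show g x C.f = ∑ j, g x (C.g j) * _
        cases h : i x with
        | none =>
          have := hi x
          rw [h] at this
          rw [Finset.sum_eq_zero fun j _ => by simp]
          exact this
        | some j₀ =>
          have := hi x
          rw [h] at this
          rw [Finset.sum_eq_single j₀ (fun j _ hj => by simp [hj.symm]) (by simp)]
          rw [if_pos rfl, mul_div_cancel₀ _ this]
      show RingHom.pi g C.f ∈ q.asIdeal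
      rw [heq]
      exact sum_mem fun j _ => Ideal.mul_mem_right _ _ (hq1 j)
    · refine ⟨PrimeSpectrum.comap (Pi.evalRingHom K ⟨x, hx⟩) ⟨⊥, Ideal.isPrime_bot⟩, ?_⟩
      refine PrimeSpectrum.ext (Ideal.ext fun a => ?_)
      exact hg ⟨x, hx⟩ a

end Groth.Agent.S2478
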