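import Groth.Statements.S2479
import Groth.Agent.L06.AffineRange
import Groth.Agent.L06.ProCons
-- import your own Groth.Agent.* helpers here

set_option autoImplicit false
universe u
open EGA41

namespace Groth.Agent.S2479

open AlgebraicGeometry CategoryTheory Topology in
/-- Let X be a quasi-compact and quasi-separated scheme and E ⊆ X. Then E = f(X') for some quasi-compact
morphism f : X' → X if and only if E is an intersection of a family of constructible subsets of X. -/
theorem result {X : Scheme.{u}} [CompactSpace X] [QuasiSeparatedSpace X] (E : Set X) :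
    (∃ (X' : Scheme.{u}) (f : X' ⟶ X), QuasiCompact f ∧ Set.range f.base = E) ↔
      ∃ S : Set (Set X), (∀ s ∈ S, IsConstructible s) ∧ E = ⋂₀ S := by
  open Groth.L19.Limit in
  constructor
  · rintro ⟨X', f, hf, rfl⟩
    haveI := hf
    have hE : CC (Set.range f) := by
      rw [← Set.image_univ]
      refine Groth.L06.ProCons.cc_image f ?_
      intro U hU
      rw [Set.preimage_univ]
      exact @isClosed_univ _ (constructibleTopology _)
    refine ⟨{T | IsConstructible T ∧ Set.range f ⊆ T}, fun s hs => hs.1,
      subset_antisymm (fun x hx T hT => hT.2 hx) fun x hx => by_contra fun hxE => ?_⟩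
    obtain ⟨U, hU, hxU, -⟩ := exists_isAffineOpen_mem_and_subset (U := (⊤ : X.Opens)) (x := x)
      (TopologicalSpace.Opens.mem_top _)
    haveI := spectralSpace_opens hU
    haveI : IsAffine (U : Scheme.{u}) := hU
    haveI : QuasiCompact U.ι := quasiCompact_of_compactSpace U.ι
    obtain ⟨T, hT, hxT, hTE⟩ := Groth.L06.ProCons.exists_isConstructible_subset
      (s := (U.ι ⁻¹' Set.range f)ᶜ) (@IsClosed.isOpen_compl _ (constructibleTopology (U : Scheme.{u})) _ (hE U hU))
      (x := (⟨x, hxU⟩ : U)) hxE
    have hmem : (U.ι '' T)ᶜ ∈ {T | IsConstructible T ∧ Set.range f ⊆ T} :=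
      ⟨(U.ι.isConstructible_image hT).compl, fun y hy hyT => by
        obtain ⟨w, hw, rfl⟩ := hyT
        exact hTE hw hy⟩
    exact hx _ hmem ⟨_, hxT, rfl⟩
  · rintro ⟨S, hS, rfl⟩
    have hE : CC (⋂₀ S) := by
      intro U hU
      rw [Set.preimage_sInter]
      exact @isClosed_biInter _ _ (constructibleTopology (U : Scheme.{u})) _ _
        fun s hs => cc_of_isLocallyConstructible (hS s hs).isLocallyConstructible U hU
    obtain ⟨X', f, hX, hf⟩ := Groth.L06.AffineRange.exists_affine_range_eq hE
    haveI := hX
    exact ⟨X', f, quasiCompact_of_compactSpace f, hf⟩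

end Groth.Agent.S2479
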