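import Groth.Statements.S2481
import Groth.Agent.L06.FormSmoothArtin
import Mathlib.RingTheory.LocalRing.MaximalIdeal.Basic
import Mathlib.RingTheory.LocalRing.RingHom.Basic

set_option autoImplicit false
set_option maxSynthPendingDepth 3
set_option linter.style.haveILetI false
universe u
open EGA41

namespace Groth.Agent.S2481

open IsLocalRing in
/-- Let A → B be a local homomorphism of Noetherian local rings with the adic topologies, K the residue
field of B. Then B is formally smooth over A if and only if: for every Artinian local ring C with a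
local homomorphism A → C, every nilpotent ideal J of C and every local A-algebra homomorphism u : B
→ C/J inducing a bijection of residue fields (so that C has residue field K and u induces the
identity on it), u is induced by a local A-algebra homomorphism B → C. -/
theorem result {A B : Type u} [CommRing A] [IsLocalRing A] [IsNoetherianRing A] [CommRing B] [IsLocalRing B] [IsNoetherianRing B]
    [Algebra A B] [IsLocalHom (algebraMap A B)] :
    EGA41.IsFormallySmoothAdic A (maximalIdeal A) B (maximalIdeal B) ↔
      ∀ (C : Type u) [CommRing C] [IsLocalRing C] [IsArtinianRing C] [Algebra A C] [IsLocalHom (algebraMap A C)]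
        (J : Ideal C), IsNilpotent J → ∀ [IsLocalRing (C ⧸ J)] (u : B →ₐ[A] C ⧸ J) [IsLocalHom u.toRingHom],
        Function.Bijective (ResidueField.map u.toRingHom) →
        ∃ f : B →ₐ[A] C, IsLocalHom f.toRingHom ∧ (Ideal.Quotient.mkₐ A J).comp f = u := by
  constructor
  · intro h C _ _ _ _ _ J hJ _ u _ _
    obtain ⟨n, hn⟩ := IsArtinianRing.isNilpotent_jacobson_bot (R := C)
    rw [IsLocalRing.jacobson_eq_maximalIdeal ⊥ bot_ne_top] at hn
    have hJm : J ≤ maximalIdeal C := IsLocalRing.le_maximalIdeal (Ideal.Quotient.nontrivial_iff.mp inferInstance)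
    have hlocA : (maximalIdeal A).map (algebraMap A C) ≤ maximalIdeal C :=
      Ideal.map_le_iff_le_comap.mpr fun x hx => map_nonunit (algebraMap A C) x hx
    have hum : (maximalIdeal B).map u.toRingHom ≤ maximalIdeal (C ⧸ J) :=
      Ideal.map_le_iff_le_comap.mpr fun x hx => map_nonunit u.toRingHom x hx
    have hCq : maximalIdeal (C ⧸ J) = (maximalIdeal C).map (Ideal.Quotient.mk J) :=
      (IsLocalRing.map_maximalIdeal_of_surjective _ Ideal.Quotient.mk_surjective).symm
    obtain ⟨f, hf⟩ := h C J hJ ⟨n, le_bot_iff.mp (by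
        rw [Ideal.map_pow, ← Submodule.zero_eq_bot, ← hn]; exact Ideal.pow_right_mono hlocA n)⟩ u ⟨n, fun x hx => by
      have h1 : u x ∈ ((maximalIdeal B).map u.toRingHom) ^ n := by
        rw [← Ideal.map_pow]; exact Ideal.mem_map_of_mem _ hx
      have h2 := Ideal.pow_right_mono hum n h1
      rw [hCq, ← Ideal.map_pow, hn, Submodule.zero_eq_bot, Ideal.map_bot] at h2
      exact h2⟩
    refine ⟨f, ⟨fun x hx => ?_⟩, hf⟩
    refine IsUnit.of_map u.toRingHom x ?_
    show IsUnit (u x)
    rw [← DFunLike.congr_fun hf x]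
    exact hx.map (Ideal.Quotient.mk J)
  · intro h
    refine Groth.L06.FormSmoothArtin.of_lift fun E _ _ _ _ N π hπ hK => ?_
    haveI : Nontrivial (B ⧸ maximalIdeal B ^ (N + 1)) := Ideal.Quotient.nontrivial_iff.mpr fun h' =>
      (maximalIdeal.isMaximal B).ne_top (top_le_iff.mp (h' ▸ Ideal.pow_le_self N.succ_ne_zero))
    haveI : IsLocalRing (B ⧸ maximalIdeal B ^ (N + 1)) :=
      IsLocalRing.of_surjective' (Ideal.Quotient.mk _) Ideal.Quotient.mk_surjective
    haveI : IsLocalHom (algebraMap A E) := ⟨fun a ha => by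
      have h1 := ha.map π
      rw [AlgHom.commutes, IsScalarTower.algebraMap_apply A B (B ⧸ maximalIdeal B ^ (N + 1))] at h1
      haveI : IsLocalHom (algebraMap B (B ⧸ maximalIdeal B ^ (N + 1))) := .of_surjective _ Ideal.Quotient.mk_surjective
      exact isUnit_of_map_unit (algebraMap A B) _ (isUnit_of_map_unit _ _ h1)⟩
    let e : (E ⧸ RingHom.ker π.toRingHom) ≃ₐ[A] B ⧸ maximalIdeal B ^ (N + 1) := Ideal.quotientKerAlgEquivOfSurjective hπ
    let w : B →ₐ[A] E ⧸ RingHom.ker π.toRingHom := e.symm.toAlgHom.comp (Ideal.Quotient.mkₐ A _)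
    haveI : IsLocalRing (E ⧸ RingHom.ker π.toRingHom) := e.symm.toRingEquiv.isLocalRing
    have hws : Function.Surjective w.toRingHom := e.symm.surjective.comp Ideal.Quotient.mk_surjective
    haveI : IsLocalHom w.toRingHom := .of_surjective _ hws
    obtain ⟨f, -, hf⟩ := h E (RingHom.ker π.toRingHom) ⟨2, hK⟩ w ⟨RingHom.injective _, fun z => by
      obtain ⟨z, rfl⟩ := Ideal.Quotient.mk_surjective z
      obtain ⟨b, rfl⟩ := hws z
      exact ⟨IsLocalRing.residue B b, rfl⟩⟩
    refine ⟨f, fun b => ?_⟩
    have h1 := congrArg e (DFunLike.congr_fun hf b)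
    exact h1.trans (e.apply_symm_apply _)

end Groth.Agent.S2481
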