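import Groth.Statements.S2482
import Groth.Agent.S2454
import Groth.Agent.L06.FormSmoothIso
import Mathlib.RingTheory.Flat.TorsionFree
import Mathlib.RingTheory.DiscreteValuationRing.Basic

set_option autoImplicit false
set_option maxSynthPendingDepth 3
set_option linter.style.haveILetI false
universe u
open EGA41

namespace Groth.Agent.S2482

open IsLocalRing in
/-- (a) ⟹ (b): let A, B be complete discrete valuation rings and u : A → B a ring homomorphism with
u(𝔪_A)B = 𝔪_B, such that the residue field L of B is separable over the residue field K of A. Then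
for every complete discrete valuation ring B', every homomorphism u' : A → B' with u'(𝔪_A)B' =
𝔪_{B'} and every isomorphism σ of residue fields L ≅ L' compatible with the maps from K, there is an
isomorphism w : B ≅ B' with u' = w ∘ u inducing σ on residue fields. -/
theorem result {A B B' : Type u} [CommRing A] [IsDomain A] [IsDiscreteValuationRing A] [IsAdicComplete (maximalIdeal A) A]
    [CommRing B] [IsDomain B] [IsDiscreteValuationRing B] [IsAdicComplete (maximalIdeal B) B]
    [CommRing B'] [IsDomain B'] [IsDiscreteValuationRing B'] [IsAdicComplete (maximalIdeal B') B']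
    (u : A →+* B) [IsLocalHom u] (hu : (maximalIdeal A).map u = maximalIdeal B)
    (hsep : letI := (ResidueField.map u).toAlgebra; Algebra.IsGeometricallyReduced (ResidueField A) (ResidueField B))
    (u' : A →+* B') [IsLocalHom u'] (hu' : (maximalIdeal A).map u' = maximalIdeal B')
    (σ : ResidueField B ≃+* ResidueField B') (hσ : (σ : ResidueField B →+* ResidueField B').comp (ResidueField.map u) = ResidueField.map u') :
    ∃ w : B ≃+* B', (w : B →+* B').comp u = u' ∧ ∀ b : B, residue B' (w b) = σ (residue B b) := by
  letI := u.toAlgebra
  letI := u'.toAlgebra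
  haveI : IsLocalHom (algebraMap A B) := ‹IsLocalHom u›
  haveI : IsLocalHom (algebraMap A B') := ‹IsLocalHom u'›
  obtain ⟨π, hπ⟩ := IsDiscreteValuationRing.exists_irreducible A
  have flat : ∀ (D : Type u) [CommRing D] [IsDomain D] [IsDiscreteValuationRing D] [Algebra A D],
      (maximalIdeal A).map (algebraMap A D) = maximalIdeal D → Module.Flat A D := by
    intro D _ _ _ _ hD
    have hne : algebraMap A D π ≠ 0 := fun h => IsDiscreteValuationRing.not_a_field D (by
      rw [← hD, hπ.maximalIdeal_eq, Ideal.map_span, Set.image_singleton, h, Ideal.span_singleton_eq_bot])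
    have hinj : Function.Injective (algebraMap A D) := by
      refine (injective_iff_map_eq_zero _).mpr fun x hx => ?_
      by_contra hx0
      obtain ⟨n, v, rfl⟩ := IsDiscreteValuationRing.eq_unit_mul_pow_irreducible hx0 hπ
      rw [map_mul, map_pow] at hx
      exact (v.isUnit.map (algebraMap A D)).ne_zero ((mul_eq_zero.mp hx).resolve_right (pow_ne_zero _ hne))
    haveI : Module.IsTorsionFree A D := Module.isTorsionFree_iff_algebraMap_injective.mpr hinj
    infer_instance
  have hsep' : Algebra.IsGeometricallyReduced (ResidueField A) (ResidueField B) := by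
    convert hsep using 0
    refine iff_of_eq ?_
    congr 1
    exact Algebra.algebra_ext _ _ fun r => by
      obtain ⟨r, rfl⟩ := residue_surjective r
      rfl
  have hflatB : Module.Flat A B := flat B hu
  haveI hflatB' : Module.Flat A B' := flat B' hu'
  have hfs := Groth.Agent.S2454.result (A := A) (B := B)
    ⟨inferInstance, inferInstance, inferInstance, hflatB, hu, hsep'⟩
  haveI : IsPrecomplete ((maximalIdeal A).map (algebraMap A B)) B := by
    rw [show (maximalIdeal A).map (algebraMap A B) = maximalIdeal B from hu]; infer_instance
  haveI : IsAdicComplete ((maximalIdeal A).map (algebraMap A B')) B' := by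
    rw [show (maximalIdeal A).map (algebraMap A B') = maximalIdeal B' from hu']; infer_instance
  let u₀ : (B ⧸ (maximalIdeal A).map (algebraMap A B)) ≃ₐ[A] (B' ⧸ (maximalIdeal A).map (algebraMap A B')) :=
    AlgEquiv.ofRingEquiv (f := ((Ideal.quotEquivOfEq hu).trans σ).trans (Ideal.quotEquivOfEq hu').symm) (fun a => by
      have h1 : σ (residue B (u a)) = residue B' (u' a) := RingHom.congr_fun hσ (residue A a)
      exact (congrArg (Ideal.quotEquivOfEq hu').symm h1).trans ((RingEquiv.symm_apply_eq _).mpr rfl))
  obtain ⟨w, hw⟩ := Groth.L06.FormSmoothAdic.exists_algEquiv_of_equiv_mod (maximalIdeal A) hu.le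
    (by rw [show (maximalIdeal A).map (algebraMap A B) = maximalIdeal B from hu]; exact hfs) u₀
  refine ⟨w.toRingEquiv, RingHom.ext fun a => w.commutes a, fun b => ?_⟩
  exact (congrArg (Ideal.quotEquivOfEq hu') (hw b)).trans ((Ideal.quotEquivOfEq hu').apply_symm_apply _)

end Groth.Agent.S2482
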