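import Groth.Prelude.Def_CAlg
import Mathlib.AlgebraicGeometry.Morphisms.Proper
import Mathlib.AlgebraicGeometry.Morphisms.Flat
import Mathlib.AlgebraicGeometry.Morphisms.FinitePresentation
import Mathlib.AlgebraicGeometry.Fiber
import Groth.Agent.L02.FibDepth.RingResults

set_option autoImplicit false
namespace EGA43
end EGA43
open CategoryTheory AlgebraicGeometry
universe u
open EGA43

namespace Groth.Agent.S2555

/-- Let f : X ⟶ Y be proper, flat and locally of finite presentation and k ≥ 1. The set of points y of Y
such that every local ring of the fibre X_y satisfies Serre's condition (S_k) is open in Y. -/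
theorem result {X Y : Scheme.{u}} (f : X ⟶ Y) [IsProper f]
    [Flat f] [LocallyOfFinitePresentation f] (k : ℕ) (hk : 1 ≤ k) :
    IsOpen {y : Y | ∀ x : ↥(f.fiber y), LocCoh.HasSk k ((f.fiber y).presheaf.stalk x) ((f.fiber y).presheaf.stalk x)} := by
  convert L02.FibDepth.Pre.isOpen_forall (π := fun x : X => f x) f.isClosedMap
    (L02.FibDepth.isOpen_sk_ring f k) using 1
  ext y
  exact L02.FibDepth.forall_fiber_iff (f := f)
    (P := fun s w => LocCoh.HasSk k ((f.fiber s).presheaf.stalk w) ((f.fiber s).presheaf.stalk w)) y

end Groth.Agent.S2555
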