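import Groth.Statements.S2556
import Groth.Agent.L07.OpenEquiv
import Groth.Agent.L07.OpenFibreDim
import Groth.Agent.L07.UnivOpenFibre
import Groth.Agent.L07.UnivOpenAt
import Groth.Agent.L07.Chevalley

set_option autoImplicit false
set_option maxSynthPendingDepth 3
set_option linter.style.haveILetI false
open CategoryTheory AlgebraicGeometry
universe u
open EGA43

namespace Groth.Agent.S2556

/-- Suppose Y is a locally Noetherian scheme whose local rings are all geometrically unibranch, and f :
X ⟶ Y is locally of finite type. Then f is universally open exactly when its underlying map of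
spaces is open. -/
theorem result {X Y : Scheme.{u}} [IsLocallyNoetherian Y]
    (hY : ∀ y : Y, CAlg2.IsGeomUnibranch (Y.presheaf.stalk y)) (f : X ⟶ Y) [LocallyOfFiniteType f] :
    UniversallyOpen f ↔ IsOpenMap f.base := by
  refine ⟨fun h => f.isOpenMap, fun hopen => ⟨fun A B i₁ i₂ f' H => ?_⟩⟩
  show IsOpenMap f'
  intro S hS
  rw [isOpen_iff_mem_nhds]
  rintro _ ⟨a, ha, rfl⟩
  refine Groth.L07.UnivOpenAt.of_isPullback H.flip ?_ a rfl S (hS.mem_nhds ha)
  let x : X := i₁ a
  obtain ⟨z, hzx, hfz, hmax⟩ := Groth.L07.OpenEquiv.exists_maximal_in_fibre f x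
  obtain ⟨η, hη, hηmax⟩ := Groth.L07.Equidim.exists_maximal_generization (f z)
  obtain ⟨ζ, hζz, -, hfζ, hfd⟩ := Groth.L07.OpenEquiv.exists_component f z hmax (η := η)
    (fun U hU => Groth.L07.OpenFibreDim.le_dim_fibre_of_isOpenAt f z hmax
      (fun U' hU' => hopen.image_mem_nhds hU') U hU hη) hηmax
  exact Groth.L07.OpenEquiv.isUnivOpenAt_of_specializes f hzx hfz
    (Groth.L07.OpenEquiv.isUnivOpenAt_of_component f z hmax (hY _) hζz (hfζ ▸ hηmax) hfd)

end Groth.Agent.S2556
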