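import Groth.Statements.S2558
import Groth.Agent.L07.UnivOpenAt
import Groth.Agent.L20.UnivOpenAffineSpace

set_option autoImplicit false
set_option linter.style.haveILetI false
open CategoryTheory AlgebraicGeometry
universe u
open EGA43

namespace Groth.Agent.S2558

open CategoryTheory.Limits in
/-- Let f : X ⟶ Y be locally of finite presentation. Suppose that for every irreducible scheme Y' and
every morphism of finite type g : Y' ⟶ Y, each irreducible component of X ×_Y Y' has dense image in
Y'. Then f is universally open. -/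
theorem result {X Y : Scheme.{u}} (f : X ⟶ Y) [LocallyOfFinitePresentation f]
    (h : ∀ (Y' : Scheme.{u}) (g : Y' ⟶ Y) [IrreducibleSpace Y'] [LocallyOfFiniteType g] [QuasiCompact g],
      ∀ Z ∈ irreducibleComponents (↥(pullback f g) : Type u), Dense ((pullback.snd f g).base '' Z)) :
    UniversallyOpen f := by
  refine Groth.L20.universallyOpen_of_isOpenMap_affineSpace f fun n => ?_
  let N := ULift.{u} (Fin n)
  haveI : LocallyOfFinitePresentation (AffineSpace.map N f) :=
    MorphismProperty.of_isPullback (AffineSpace.isPullback_map f).flip ‹LocallyOfFinitePresentation f›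
  intro U hU
  refine isOpen_iff_mem_nhds.mpr ?_
  rintro _ ⟨x', hx', rfl⟩
  refine Groth.L07.UnivOpenAt.isOpenAt_of_lfp _ x' (fun W hW y hy => ?_) U (hU.mem_nhds hx')
  let I := Scheme.IdealSheafData.vanishingIdeal
    (⟨closure {y}, isClosed_closure⟩ : TopologicalSpace.Closeds ↥(𝔸(N; Y)))
  let i := I.subschemeι
  have hr : Set.range i.base = closure {y} := by
    rw [Scheme.IdealSheafData.range_subschemeι]
    simp [I]
  have hgen : IsGenericPoint y (Set.range i.base) := by rw [hr]; exact isGenericPoint_closure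
  obtain ⟨η, hη⟩ : y ∈ Set.range i.base := hgen.mem
  haveI : IrreducibleSpace ↥I.subscheme := by
    haveI : Nonempty ↥I.subscheme := ⟨η⟩
    refine (irreducibleSpace_def _).mpr ?_
    have h1 : closure ({η} : Set ↥I.subscheme) = Set.univ := Set.eq_univ_of_forall fun z =>
      specializes_iff_mem_closure.mp (i.isEmbedding.toIsInducing.specializes_iff.mp (by
        rw [hη]; exact hgen.specializes ⟨z, rfl⟩))
    rw [Set.top_eq_univ, ← h1]; exact isIrreducible_singleton.closure
  haveI : LocallyOfFiniteType (i ≫ 𝔸(N; Y) ↘ Y) := inferInstance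
  let P := pullback f (i ≫ 𝔸(N; Y) ↘ Y)
  obtain ⟨x'', hxa, hxb⟩ := Scheme.Pullback.exists_preimage_pullback (f := AffineSpace.map N f) (g := i) x'
    (Classical.choose (show (AffineSpace.map N f).base x' ∈ Set.range i.base by rw [hr]; exact hy.mem_closure))
    (Classical.choose_spec (show (AffineSpace.map N f).base x' ∈ Set.range i.base by rw [hr]; exact hy.mem_closure)).symm
  have hP : IsPullback (pullback.fst (AffineSpace.map N f) i ≫ 𝔸(N; X) ↘ X) (pullback.snd _ _) f
      (i ≫ 𝔸(N; Y) ↘ Y) :=
    (IsPullback.of_hasPullback (AffineSpace.map N f) i).paste_horiz (AffineSpace.isPullback_map f).flip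
  let e : pullback (AffineSpace.map N f) i ⟶ P := hP.isoPullback.hom
  obtain ⟨Z, hZ, hxZ⟩ : ∃ Z ∈ irreducibleComponents ↥P, e.base x'' ∈ Z :=
    ⟨irreducibleComponent _, irreducibleComponent_mem_irreducibleComponents _, mem_irreducibleComponent⟩
  have hZi : IsIrreducible Z := hZ.1
  have hZc : IsClosed Z := isClosed_of_mem_irreducibleComponents Z hZ
  let ζ := hZi.genericPoint
  have hζ : IsGenericPoint ζ Z := hZi.isGenericPoint_genericPoint hZc
  have hd := h I.subscheme (i ≫ 𝔸(N; Y) ↘ Y) Z hZ
  let s := pullback.snd f (i ≫ 𝔸(N; Y) ↘ Y)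
  have hsη : s.base ζ ⤳ η := by
    refine specializes_iff_mem_closure.mpr ?_
    have h1 : η ∈ closure (s.base '' Z) := hd η
    rw [← hζ.def] at h1
    refine closure_minimal ((image_closure_subset_closure_image s.continuous).trans ?_) isClosed_closure h1
    rw [Set.image_singleton]
  obtain ⟨q, hq⟩ : ζ ∈ Set.range e.base := e.surjective ζ
  let w := (pullback.fst (AffineSpace.map N f) i).base q
  have hwx : w ⤳ x' := by
    rw [← hxa]
    refine Specializes.map ?_ (Scheme.Hom.continuous _)
    rw [← e.isEmbedding.toIsInducing.specializes_iff, hq]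
    exact hζ.specializes hxZ
  have hwW : w ∈ W := by
    obtain ⟨W', h1, h2, h3⟩ := mem_nhds_iff.mp hW
    exact h1 (hwx.mem_open h2 h3)
  refine ⟨w, hwW, ?_⟩
  have h1 : (AffineSpace.map N f).base w = i.base (s.base ζ) := by
    rw [← Scheme.Hom.comp_apply, pullback.condition, Scheme.Hom.comp_apply, ← hq, ← Scheme.Hom.comp_apply e s]
    rw [show e ≫ s = pullback.snd _ _ from hP.isoPullback_hom_snd]
  rw [h1, ← hη]
  have h2 : i.base (s.base ζ) ⤳ i.base η := hsη.map i.continuous
  have h3 : i.base η ⤳ i.base (s.base ζ) := by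
    rw [hη]; exact hgen.specializes ⟨_, rfl⟩
  exact (h2.antisymm h3).eq

end Groth.Agent.S2558
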