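import Groth.Statements.S2564
import Groth.Agent.S6884
import Groth.Agent.L20.FlatStalk
import Mathlib.AlgebraicGeometry.Morphisms.Integral
import Mathlib.Algebra.Category.Ring.Constructions

set_option autoImplicit false
set_option linter.style.haveILetI false
open CategoryTheory AlgebraicGeometry TensorProduct
universe u
open EGA43

namespace Groth.Agent.S2564

open CategoryTheory.Limits in
/-- Let A ⟶ A' be an injective ring homomorphism making A' integral over A, f : X ⟶ Spec A locally of
finite presentation, x a point of X, and X' = X ×_{Spec A} Spec A'. If X' ⟶ Spec A' is flat at every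
point of X' lying over x, then f is flat at x. -/
theorem result {A A' : Type u} [CommRing A] [CommRing A']
    [Algebra A A'] [Algebra.IsIntegral A A'] (hinj : Function.Injective (algebraMap A A'))
    {X : Scheme.{u}} (f : X ⟶ Spec (CommRingCat.of A)) [LocallyOfFinitePresentation f] (x : X)
    (h : ∀ x' : ↥(pullback f (Spec.map (CommRingCat.ofHom (algebraMap A A')))),
      (pullback.fst f _).base x' = x →
      ((pullback.snd f (Spec.map (CommRingCat.ofHom (algebraMap A A')))).stalkMap x').hom.Flat) :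
    (f.stalkMap x).hom.Flat := by
  let g := Spec.map (CommRingCat.ofHom (algebraMap A A'))
  haveI : IsIntegralHom g := (IsIntegralHom.SpecMap_iff).mpr (fun y => Algebra.IsIntegral.isIntegral (R := A) y)
  haveI : UniversallyClosed (pullback.fst f g) := inferInstance
  haveI : LocallyOfFinitePresentation (pullback.snd f g) := inferInstance
  let W := {z : ↥(pullback f g) | ((pullback.snd f g).stalkMap z).hom.Flat}
  have hW : IsOpen W := Groth.L20.isOpen_flat_stalkMap (pullback.snd f g)
  have hC : IsClosed (pullback.fst f g '' Wᶜ) := (pullback.fst f g).isClosedMap _ hW.isClosed_compl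
  obtain ⟨_, ⟨U, hU, rfl⟩, hxU, hUV⟩ := X.isBasis_affineOpens.exists_subset_of_mem_open (a := x)
    (show x ∈ (pullback.fst f g '' Wᶜ)ᶜ from fun ⟨z, hz, hzx⟩ => hz (h z hzx)) hC.isOpen_compl
  change X.Opens at U
  change IsAffineOpen U at hU
  let ψ : CommRingCat.of A ⟶ Γ(X, U) := Spec.preimage (hU.fromSpec ≫ f)
  have hψ : Spec.map ψ = hU.fromSpec ≫ f := Spec.map_preimage _
  haveI : LocallyOfFinitePresentation (Spec.map ψ) := hψ ▸ inferInstance
  letI : Algebra A Γ(X, U) := ψ.hom.toAlgebra
  haveI : Algebra.FinitePresentation A Γ(X, U) :=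
    (HasRingHomProperty.Spec_iff (P := @LocallyOfFinitePresentation) (φ := ψ)).mp inferInstance
  have hpb : IsPullback (Spec.map (CommRingCat.ofHom (Algebra.TensorProduct.includeRight : Γ(X, U) →ₐ[A] A' ⊗[A] Γ(X, U)).toRingHom))
      (Spec.map (CommRingCat.ofHom (Algebra.TensorProduct.includeLeftRingHom : A' →+* A' ⊗[A] Γ(X, U))))
      (hU.fromSpec ≫ f) g := by
    rw [← hψ]
    exact (isPullback_SpecMap_of_isPushout _ _ _ _ (CommRingCat.isPushout_tensorProduct A A' Γ(X, U))).flip
  let c : Spec (CommRingCat.of (A' ⊗[A] Γ(X, U))) ⟶ pullback f g :=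
    pullback.lift (Spec.map (CommRingCat.ofHom (Algebra.TensorProduct.includeRight : Γ(X, U) →ₐ[A] A' ⊗[A] Γ(X, U)).toRingHom) ≫ hU.fromSpec)
      (Spec.map (CommRingCat.ofHom (Algebra.TensorProduct.includeLeftRingHom : A' →+* A' ⊗[A] Γ(X, U))))
      (by rw [Category.assoc]; exact hpb.w)
  have hc1 : c ≫ pullback.fst f g = _ ≫ hU.fromSpec := pullback.lift_fst _ _ _
  have hc2 : c ≫ pullback.snd f g = _ := pullback.lift_snd _ _ _
  have hc : IsPullback c (Spec.map (CommRingCat.ofHom (Algebra.TensorProduct.includeRight : Γ(X, U) →ₐ[A] A' ⊗[A] Γ(X, U)).toRingHom))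
      (pullback.fst f g) hU.fromSpec := by
    refine IsPullback.of_right ?_ hc1 (IsPullback.of_hasPullback f g).flip
    rw [hc2]
    exact hpb.flip
  haveI : IsOpenImmersion c := MorphismProperty.of_isPullback hc.flip hU.isOpenImmersion_fromSpec
  have hflat : Flat (c ≫ pullback.snd f g) := by
    rw [Flat.iff_flat_stalkMap]
    intro z
    have hz : c z ∈ W := by
      by_contra hn
      refine hUV ?_ ⟨c z, hn, rfl⟩
      show pullback.fst f g (c z) ∈ U
      rw [← Scheme.Hom.comp_apply, hc1, Scheme.Hom.comp_apply, ← SetLike.mem_coe, ← hU.range_fromSpec]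
      exact ⟨_, rfl⟩
    rw [Scheme.Hom.stalkMap_comp]
    exact RingHom.Flat.comp hz (Flat.stalkMap c z)
  rw [hc2] at hflat
  haveI hfl : Module.Flat A' (A' ⊗[A] Γ(X, U)) := RingHom.flat_algebraMap_iff.mp
    (show RingHom.Flat (Algebra.TensorProduct.includeLeftRingHom : A' →+* A' ⊗[A] Γ(X, U)) from
      (HasRingHomProperty.Spec_iff (P := @Flat)).mp hflat)
  obtain ⟨n, π, hπ, hker⟩ := ‹Algebra.FinitePresentation A Γ(X, U)›.out
  letI : Algebra (MvPolynomial (Fin n) A) Γ(X, U) := π.toRingHom.toAlgebra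
  haveI : IsScalarTower A (MvPolynomial (Fin n) A) Γ(X, U) := IsScalarTower.of_algebraMap_eq fun a => (π.commutes a).symm
  haveI : Module.FinitePresentation (MvPolynomial (Fin n) A) Γ(X, U) :=
    Module.finitePresentation_of_surjective (Algebra.linearMap (MvPolynomial (Fin n) A) Γ(X, U)) hπ hker
  haveI : Module.Flat A Γ(X, U) := Groth.Agent.S6884.result A A' hinj n Γ(X, U)
  have hfU : Flat (hU.fromSpec ≫ f) := by
    rw [← hψ]
    exact (HasRingHomProperty.Spec_iff (P := @Flat)).mpr (show Module.Flat A Γ(X, U) from inferInstance)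
  obtain ⟨z, rfl⟩ : x ∈ Set.range hU.fromSpec := hU.range_fromSpec.symm ▸ hxU
  have h1 := Flat.stalkMap (hU.fromSpec ≫ f) z
  rw [Scheme.Hom.stalkMap_comp] at h1
  let e := (asIso (hU.fromSpec.stalkMap z)).commRingCatIsoToRingEquiv
  have h2 := h1.comp (RingHom.Flat.of_bijective e.symm.bijective)
  have heq : e.symm.toRingHom.comp ((hU.fromSpec.stalkMap z).hom.comp (f.stalkMap (hU.fromSpec z)).hom) =
      (f.stalkMap (hU.fromSpec z)).hom := RingHom.ext fun a => e.symm_apply_apply _
  show (f.stalkMap (hU.fromSpec z)).hom.Flat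
  rw [← heq]
  exact h2

end Groth.Agent.S2564
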