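import Groth.Statements.S2569
import Groth.Agent.L07.Count.DVRProperConn

set_option autoImplicit false
set_option linter.style.haveILetI false
open CategoryTheory AlgebraicGeometry
universe u
open EGA43

namespace Groth.Agent.S2569

/-- Let Y be locally Noetherian and f : X ⟶ Y separated, of finite type and universally submersive
(every base change is a topological quotient map onto its target), with all fibres geometrically
connected. If the fibre over a point y is proper over the residue field of y, then f is proper over
some open neighbourhood of y. -/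
theorem result {X Y : Scheme.{u}} [IsLocallyNoetherian Y] (f : X ⟶ Y)
    [IsSeparated f] [LocallyOfFiniteType f] [QuasiCompact f]
    (hsub : MorphismProperty.universally (topologically fun g => Topology.IsQuotientMap g) f)
    (hconn : ∀ y : Y, GeometricallyConnected (f.fiberToSpecResidueField y))
    (y : Y) (hy : IsProper (f.fiberToSpecResidueField y)) :
    ∃ U : Y.Opens, y ∈ U ∧ IsProper (f ∣_ U) := by
  refine Groth.L07.Count.exists_isProper_nhd_of_traits f y hy fun Z hZ ξ hξ => ?_
  refine ⟨((Groth.L07.Count.geometricallyConnected_fiber_iff f _).mp (hconn _)).le, fun B _ _ _ t htc _ => ?_⟩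
  have hq : Topology.IsQuotientMap (Limits.pullback.snd f t).base :=
    hsub (Limits.pullback.fst f t) t (Limits.pullback.snd f t) (IsPullback.of_hasPullback f t).flip
  intro O hO hOs
  by_contra hcon
  have e : (Limits.pullback.snd f t).base ⁻¹' {IsLocalRing.closedPoint B} = O := by
    ext z
    refine ⟨fun hz => hOs z hz, fun hz => ?_⟩
    by_contra hne
    exact hcon ⟨z, hz, Groth.L07.Count.asIdeal_eq_bot_of_ne _ hne⟩
  have hop : IsOpen ({IsLocalRing.closedPoint B} : Set ↥(Spec (CommRingCat.of B))) :=
    hq.isOpen_preimage.mp (e ▸ hO)
  have h0 := (IsLocalRing.specializes_closedPoint (⟨⊥, Ideal.isPrime_bot⟩ : PrimeSpectrum B)).mem_open hop rfl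
  have h1 : (⊥ : Ideal B) = IsLocalRing.maximalIdeal B := congrArg PrimeSpectrum.asIdeal h0
  exact IsDiscreteValuationRing.not_a_field B h1.symm

end Groth.Agent.S2569
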