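import Groth.Statements.S2571
import Groth.Agent.L07.UnivOpenSection
import Groth.Agent.L20.Chevalley.Reduction
-- import your own Groth.Agent.* helpers here

set_option autoImplicit false
open CategoryTheory AlgebraicGeometry
universe u
open EGA43

namespace Groth.Agent.S2571

open CategoryTheory.Limits in
/-- Let Y be locally Noetherian, f : X ⟶ Y locally of finite type, and g : Y' ⟶ Y locally of finite
type, universally open and surjective. If the base change X ×_Y Y' ⟶ Y' is an affine morphism, then
f is affine. -/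
theorem result {X Y Y' : Scheme.{u}} [IsLocallyNoetherian Y]
    (f : X ⟶ Y) [LocallyOfFiniteType f] (g : Y' ⟶ Y) [LocallyOfFiniteType g] [UniversallyOpen g] [Surjective g]
    [IsAffineHom (pullback.snd f g)] : IsAffineHom f := by
  have hQ : IsAffineHom (pullback.snd f g) := inferInstance
  refine IsZariskiLocalAtTarget.of_forall_exists_morphismRestrict (P := @IsAffineHom) fun y => ?_
  obtain ⟨_, ⟨W, hW, rfl⟩, hyW, -⟩ :=
    Y.isBasis_affineOpens.exists_subset_of_mem_open (Set.mem_univ y) isOpen_univ
  change Y.Opens at W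
  refine ⟨W, hyW, ?_⟩
  haveI : IsAffine W.toScheme := hW
  haveI : IsLocallyNoetherian W.toScheme := inferInstance
  haveI : AlgebraicGeometry.IsNoetherian W.toScheme := { }
  let g₁ := g ∣_ W
  haveI : UniversallyOpen g₁ := IsZariskiLocalAtTarget.restrict ‹UniversallyOpen g› W
  haveI : Surjective g₁ := IsZariskiLocalAtTarget.restrict ‹Surjective g› W
  obtain ⟨Z, π, hπf, hπs, hsec⟩ := Groth.L07.UnivOpenSection.exists_finite_cover g₁
  let f₁ := f ∣_ W
  haveI : IsAffine Z := isAffine_of_isAffineHom π
  have hsnd : IsAffineHom (pullback.snd f₁ π) := by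
    refine IsZariskiLocalAtTarget.of_forall_exists_morphismRestrict (P := @IsAffineHom) fun z => ?_
    obtain ⟨U, hzU, s, hs⟩ := hsec z
    refine ⟨U, hzU, ?_⟩
    let r : (↑U : Scheme.{u}) ⟶ Y' := s ≫ pullback.fst g₁ π ≫ (g ⁻¹ᵁ W).ι
    have hr : r ≫ g = (U.ι ≫ π) ≫ W.ι := by
      rw [← hs]
      simp only [r, Category.assoc, ← morphismRestrict_ι, g₁]
      rw [pullback.condition_assoc]
    have h1 : IsPullback ((pullback.snd f₁ π ⁻¹ᵁ U).ι ≫ pullback.fst f₁ π ≫ (f ⁻¹ᵁ W).ι)
        (pullback.snd f₁ π ∣_ U) f (r ≫ g) := by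
      rw [hr, Category.assoc]
      refine ((isPullback_morphismRestrict (pullback.snd f₁ π) U).flip).paste_horiz ?_
      exact (IsPullback.of_hasPullback f₁ π).paste_horiz (isPullback_morphismRestrict f W).flip
    have h2 := (IsPullback.of_hasPullback (pullback.snd f g) r).paste_horiz (IsPullback.of_hasPullback f g)
    rw [← h1.isoIsPullback_hom_snd X ↑U h2]
    haveI : IsAffineHom (pullback.snd (pullback.snd f g) r) := MorphismProperty.pullback_snd _ _ hQ
    infer_instance
  haveI : IsAffine (pullback f₁ π) := isAffine_of_isAffineHom (pullback.snd f₁ π)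
  haveI := hπf
  haveI := hπs
  haveI : Surjective (pullback.fst f₁ π) := inferInstance
  haveI : UniversallyClosed (pullback.fst f₁ π) := inferInstance
  haveI : IsAffine (f ⁻¹ᵁ W).toScheme :=
    Groth.L20.Chevalley.isAffine_of_surjective_universallyClosed (pullback.fst f₁ π)
  exact isAffineHom_of_isAffine _

end Groth.Agent.S2571
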