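import Groth.Statements.S2572
import Groth.Agent.L07.Equidim
import Groth.Agent.L07.EquidimPoint
import Groth.Agent.L18.KerReduced
import Groth.Agent.L20.ThickeningTopology
import Groth.Agent.L01.Serre
import Mathlib.AlgebraicGeometry.Morphisms.UniversallyOpen
import Mathlib.RingTheory.Flat.TorsionFree
import Mathlib.RingTheory.Valuation.ValuationRing

set_option autoImplicit false
set_option maxSynthPendingDepth 3
set_option linter.style.haveILetI false
open CategoryTheory AlgebraicGeometry
universe u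
open EGA43

namespace Groth.Agent.S2572

/-- Let Y be an irreducible locally Noetherian scheme whose local rings are regular of dimension at most
one, f : X ⟶ Y locally of finite type, and y a point of Y. If every irreducible component of X
meeting the fibre over y has dense image in Y, then there is an open subset U of X containing that
fibre such that the restriction of f to U is universally open. -/
theorem result {X Y : Scheme.{u}} [IsLocallyNoetherian Y]
    [IrreducibleSpace Y]
    (hY : ∀ y : Y, IsRegularLocalRing (Y.presheaf.stalk y) ∧ ringKrullDim (Y.presheaf.stalk y) ≤ 1)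
    (f : X ⟶ Y) [LocallyOfFiniteType f] (y : Y)
    (h : ∀ Z ∈ irreducibleComponents (X : Type u), (Z ∩ f.base ⁻¹' {y}).Nonempty → Dense (f.base '' Z)) :
    ∃ U : X.Opens, f.base ⁻¹' {y} ⊆ (U : Set X) ∧ UniversallyOpen (U.ι ≫ f) := by
  classical
  haveI : IsLocallyNoetherian X := LocallyOfFiniteType.isLocallyNoetherian f
  choose V hxV hV using fun x : X => Groth.L07.Equidim.exists_nhd_maximal x
  let U : X.Opens := ⨆ x : f.base ⁻¹' {y}, V x.1
  refine ⟨U, fun x hx => TopologicalSpace.Opens.mem_iSup.mpr ⟨⟨x, hx⟩, hxV x⟩, ?_⟩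
  have hgenU : ∀ a : (U : Scheme.{u}), (∀ q, q ⤳ a → q = a) → (U.ι ≫ f) a = genericPoint Y := by
    intro a ha
    have hamax := (Groth.L07.Equidim.maximal_openImmersion_iff U.ι a).mp ha
    obtain ⟨⟨x, hx⟩, hax⟩ := TopologicalSpace.Opens.mem_iSup.mp (show U.ι a ∈ ⨆ x : f.base ⁻¹' {y}, V x.1 from a.2)
    have hsp : U.ι a ⤳ x := hV x _ hax hamax
    have hd := h _ ((Groth.L07.EquidimQF.closure_singleton_mem_irreducibleComponents_iff (U.ι a)).mpr hamax)
      ⟨x, specializes_iff_mem_closure.mp hsp, hx⟩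
    have h1 : closure ({(U.ι ≫ f) a} : Set Y) = Set.univ := by
      rw [← hd.closure_eq, closure_image_closure f.continuous, Set.image_singleton]
      rfl
    exact (isGenericPoint_def.mpr h1 : IsGenericPoint _ Set.univ).eq (genericPoint_spec Y)
  let I := Scheme.IdealSheafData.vanishingIdeal (⊤ : TopologicalSpace.Closeds (U : Scheme.{u}))
  let Z := I.subscheme
  let i : Z ⟶ (U : Scheme.{u}) := I.subschemeι
  haveI : Surjective i := ⟨fun a => by
    have h : a ∈ Set.range i := by
      rw [Scheme.IdealSheafData.range_subschemeι]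
      simp [I]
    exact h⟩
  haveI : IsReduced Z := Groth.L18.isReduced_vanishingIdeal_subscheme _
  haveI hflat : Flat (i ≫ U.ι ≫ f) := by
    rw [Flat.iff_flat_stalkMap]
    intro z
    haveI := (hY ((i ≫ U.ι ≫ f) z)).1
    obtain ⟨hdom, hval⟩ := Groth.L01.Serre.valuationRing_of_regular_dim_le_one (hY ((i ≫ U.ι ≫ f) z)).2
    haveI := hdom
    haveI := hval
    haveI := (hY ((i ≫ U.ι ≫ f) z)).1
    algebraize [((i ≫ U.ι ≫ f).stalkMap z).hom]
    rw [RingHom.Flat, Module.Flat.flat_iff_torsion_eq_bot_of_isBezout, Submodule.eq_bot_iff]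
    intro m hm
    obtain ⟨⟨a, ha⟩, ham⟩ := hm
    have ha0 : a ≠ 0 := nonZeroDivisors.ne_zero ha
    by_contra hm0
    obtain ⟨P, hP, hmP⟩ : ∃ P ∈ minimalPrimes (Z.presheaf.stalk z), m ∉ P := by
      by_contra! hall
      refine hm0 (IsReduced.eq_zero m ?_)
      rw [← mem_nilradical, nilradical, ← Ideal.sInf_minimalPrimes]
      exact Submodule.mem_sInf.mpr hall
    have haP : ((i ≫ U.ι ≫ f).stalkMap z).hom a ∈ P := by
      refine (hP.1.1.mem_or_mem (x := _) (y := m) ?_).resolve_right hmP
      have h0 : a • m = 0 := ham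
      rw [Algebra.smul_def] at h0
      rw [show ((i ≫ U.ι ≫ f).stalkMap z).hom a * m = 0 from h0]
      exact zero_mem P
    let p : PrimeSpectrum (Z.presheaf.stalk z) := ⟨P, hP.1.1⟩
    have hpmax : ∀ q, q ⤳ Z.fromSpecStalk z p → q = Z.fromSpecStalk z p :=
      (Groth.L07.EquidimPoint.minimal_stalk_iff z p).mp ((Groth.L07.EquidimPoint.minimalPrimes_iff p).mp hP)
    have himax : ∀ q, q ⤳ i (Z.fromSpecStalk z p) → q = i (Z.fromSpecStalk z p) := fun q hq => by
      obtain ⟨r, rfl⟩ := i.surjective q
      rw [hpmax r (i.isEmbedding.isInducing.specializes_iff.mp hq)]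
    have hη := hgenU _ himax
    let b := PrimeSpectrum.comap ((i ≫ U.ι ≫ f).stalkMap z).hom p
    have hb : Y.fromSpecStalk ((i ≫ U.ι ≫ f) z) b = genericPoint Y := by
      rw [← hη]
      exact (congr($(Scheme.SpecMap_stalkMap_fromSpecStalk (i ≫ U.ι ≫ f) (x := z)) p) :)
    have hble : b ≤ ⟨⊥, Ideal.isPrime_bot⟩ := by
      rw [Groth.L07.EquidimPoint.le_iff_specializes', hb]
      exact (genericPoint_spec Y).specializes trivial
    exact ha0 ((Submodule.mem_bot _).mp (hble haP))
  haveI : LocallyOfFinitePresentation (i ≫ U.ι ≫ f) := inferInstance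
  haveI : UniversallyOpen (i ≫ U.ι ≫ f) := UniversallyOpen.of_flat (i ≫ U.ι ≫ f)
  exact Groth.L20.Thick.universallyOpen_of_comp_surjective i (U.ι ≫ f)

end Groth.Agent.S2572
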