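import Groth.Statements.S2573
import Groth.Agent.L07.FreeStrat

set_option autoImplicit false
universe u
open EGA43

namespace Groth.Agent.S2573

/-- Let A be a commutative ring whose spectrum is irreducible, with unique minimal prime p, let B be a
finitely presented A-algebra and M a finitely presented B-module. If the localization M_p is flat
over A_p, then there is t ∉ p such that M_t is a free A_t-module. -/
theorem result {A B : Type u} [CommRing A] [CommRing B] [Algebra A B]
    [Algebra.FinitePresentation A B] (p : Ideal A) [p.IsPrime] (hp : minimalPrimes A = {p})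
    (M : Type u) [AddCommGroup M] [Module B M] [Module A M] [IsScalarTower A B M] [Module.FinitePresentation B M]
    (hflat : Module.Flat (Localization.AtPrime p) (LocalizedModule p.primeCompl M)) :
    ∃ t : A, t ∉ p ∧ Module.Free (Localization.Away t) (LocalizedModule (Submonoid.powers t) M) := by
  classical
  obtain ⟨d, n, R, hR, K, ⟨e⟩⟩ := Groth.L07.FlatDescent.exists_model A (B₀ := B) M
  haveI := hR
  let N := Groth.L07.FlatDescent.F d n R ⧸ K
  let q : Ideal R := p.comap (algebraMap R A)
  have hnilrad : nilradical A = p := by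
    rw [nilradical, Ideal.zero_eq_bot, ← Ideal.sInf_minimalPrimes,
      show (⊥ : Ideal A).minimalPrimes = {p} from hp, sInf_singleton]
  obtain ⟨f₀, hf₀, hfree⟩ := Groth.L07.FreeStrat.freeOn_prime K q
  let C₁ := Localization.Away f₀
  have hqnil : IsNilpotent q := by
    refine (Ideal.FG.isNilpotent_iff_le_nilradical (IsNoetherian.noetherian q)).mpr fun x hx => ?_
    obtain ⟨k, hk⟩ := (hnilrad.ge (show algebraMap R A x ∈ p from hx) : IsNilpotent (algebraMap R A x))
    refine ⟨k, (FaithfulSMul.algebraMap_injective R A) ?_⟩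
    rw [map_pow, hk, map_zero]
  have hJ : IsNilpotent (q.map (algebraMap R C₁)) := by
    obtain ⟨k, hk⟩ := hqnil
    exact ⟨k, by rw [← Ideal.map_pow, hk, Ideal.zero_eq_bot, Ideal.map_bot]; rfl⟩
  obtain ⟨R₀, h₀⟩ := Groth.L07.FreeStrat.exists_ideal_of_freeOn N hfree C₁
    (IsLocalization.Away.algebraMap_isUnit f₀) hJ
  let Ap := Localization.AtPrime p
  have hup : IsUnit (algebraMap R Ap f₀) := by
    rw [IsScalarTower.algebraMap_apply R A Ap]
    exact IsLocalization.map_units Ap (⟨algebraMap R A f₀, hf₀⟩ : p.primeCompl)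
  letI : Algebra C₁ Ap := (IsLocalization.Away.lift f₀ (g := algebraMap R Ap) hup).toAlgebra
  haveI : IsScalarTower R C₁ Ap := IsScalarTower.of_algebraMap_eq fun r =>
    (RingHom.congr_fun (IsLocalization.Away.lift_comp f₀ hup) r).symm
  haveI : Module.Flat Ap (TensorProduct R Ap N) := by
    obtain ⟨e₁⟩ := Groth.L07.FlatDescent.exists_baseChangeEquiv K Ap
    obtain ⟨e₂⟩ := Groth.L07.FlatDescent.exists_modelEquiv K e Ap
    haveI := hflat
    exact Module.Flat.of_linearEquiv
      (e₁ ≪≫ₗ e₂.symm ≪≫ₗ (LocalizedModule.equivTensorProduct p.primeCompl M).symm)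
  have hR₀ : R₀.map (algebraMap C₁ Ap) = ⊥ := (h₀ Ap).2 inferInstance
  obtain ⟨T, hT⟩ := IsNoetherian.noetherian (R₀.under R)
  have hmem : ∀ r ∈ T, ∃ t : A, t ∉ p ∧ t * algebraMap R A r = 0 := by
    intro r hr
    have h1 : algebraMap R Ap r = 0 := by
      rw [IsScalarTower.algebraMap_apply R C₁ Ap, ← Submodule.mem_bot Ap, ← hR₀]
      exact Ideal.mem_map_of_mem _ (Ideal.mem_comap.mp (hT.le (Ideal.subset_span hr)))
    rw [IsScalarTower.algebraMap_apply R A Ap] at h1
    obtain ⟨⟨t, ht⟩, htr⟩ := (IsLocalization.map_eq_zero_iff p.primeCompl Ap _).mp h1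
    exact ⟨t, ht, htr⟩
  choose! t ht htr using hmem
  let t₀ := algebraMap R A f₀ * ∏ r ∈ T, t r
  refine ⟨t₀, fun hmem => ?_, ?_⟩
  · rcases Ideal.IsPrime.mem_or_mem inferInstance hmem with h | h
    · exact hf₀ h
    · obtain ⟨r, hr, hrp⟩ := Ideal.IsPrime.prod_mem_iff.mp h
      exact ht r hr hrp
  let At := Localization.Away t₀
  have hut : IsUnit (algebraMap R At f₀) := by
    have h1 := IsLocalization.Away.algebraMap_isUnit (S := At) t₀
    rw [map_mul, ← IsScalarTower.algebraMap_apply R A At] at h1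
    exact isUnit_of_mul_isUnit_left h1
  letI : Algebra C₁ At := (IsLocalization.Away.lift f₀ (g := algebraMap R At) hut).toAlgebra
  haveI : IsScalarTower R C₁ At := IsScalarTower.of_algebraMap_eq fun r =>
    (RingHom.congr_fun (IsLocalization.Away.lift_comp f₀ hut) r).symm
  have hbot : R₀.map (algebraMap C₁ At) = ⊥ := by
    rw [← IsLocalization.map_comap (Submonoid.powers f₀) C₁ R₀, Ideal.map_map,
      ← IsScalarTower.algebraMap_eq, ← hT, Ideal.map_span, Ideal.span_eq_bot]
    rintro _ ⟨r, hr, rfl⟩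
    rw [IsScalarTower.algebraMap_apply R A At]
    refine (IsLocalization.map_eq_zero_iff (Submonoid.powers t₀) At _).mpr ⟨⟨t₀, 1, pow_one _⟩, ?_⟩
    show t₀ * algebraMap R A r = 0
    simp only [t₀, ← Finset.prod_erase_mul T t hr]
    rw [mul_assoc, mul_assoc, htr r hr, mul_zero, mul_zero]
  haveI := (h₀ At).1 hbot
  obtain ⟨e₁⟩ := Groth.L07.FlatDescent.exists_baseChangeEquiv K At
  obtain ⟨e₂⟩ := Groth.L07.FlatDescent.exists_modelEquiv K e At
  exact Module.Free.of_equiv
    (e₁ ≪≫ₗ e₂.symm ≪≫ₗ (LocalizedModule.equivTensorProduct (Submonoid.powers t₀) M).symm)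

end Groth.Agent.S2573
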