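import Groth.Statements.S2574
import Groth.Agent.L07.SepFlat

set_option autoImplicit false
open TensorProduct
universe u
open EGA43

namespace Groth.Agent.S2574

/-- Let A be a Noetherian ring, J a nilpotent ideal of A and M an A-module. Then M is flat over A if and
only if (A/J) ⊗_A M is flat over A/J and, for every associated prime p of A, the localization M_p is
flat over A_p. -/
theorem result {A : Type u} [CommRing A] [IsNoetherianRing A]
    (J : Ideal A) (hJ : IsNilpotent J) (M : Type u) [AddCommGroup M] [Module A M] :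
    Module.Flat A M ↔
      Module.Flat (A ⧸ J) ((A ⧸ J) ⊗[A] M) ∧
        ∀ p : associatedPrimes A A,
          haveI : p.1.IsPrime := IsAssociatedPrime.isPrime p.2
          Module.Flat (Localization.AtPrime p.1) (LocalizedModule p.1.primeCompl M) := by
  classical
  refine ⟨fun h => ⟨inferInstance, fun p => ?_⟩, fun h => ?_⟩
  · haveI : p.1.IsPrime := IsAssociatedPrime.isPrime p.2
    exact Module.Flat.of_linearEquiv (LocalizedModule.equivTensorProduct p.1.primeCompl M)
  obtain ⟨hJflat, hloc⟩ := h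
  haveI := hJflat
  let I : ℕ → Ideal A := fun k =>
    { carrier := {a | ∃ t ∈ nonZeroDivisors A, t * a ∈ J ^ k}
      add_mem' := fun {a b} ⟨s, hs, hsa⟩ ⟨t, ht, htb⟩ => ⟨s * t, mul_mem hs ht, by
        rw [mul_add]
        refine add_mem ?_ ?_
        · rw [mul_assoc, mul_comm t a, ← mul_assoc]; exact (J ^ k).mul_mem_right _ hsa
        · rw [mul_assoc]; exact (J ^ k).mul_mem_left _ htb⟩
      zero_mem' := ⟨1, one_mem _, by simp⟩
      smul_mem' := fun c a ⟨t, ht, hta⟩ => ⟨t, ht, by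
        rw [smul_eq_mul, mul_left_comm]; exact (J ^ k).mul_mem_left _ hta⟩ }
  have hmem : ∀ k a, a ∈ I k ↔ ∃ t ∈ nonZeroDivisors A, t * a ∈ J ^ k := fun _ _ => Iff.rfl
  obtain ⟨N, hN⟩ := hJ
  haveI : Module.Flat (A ⧸ I 1) (TensorProduct A (A ⧸ I 1) M) := by
    letI := (Ideal.Quotient.factor (show J ≤ I 1 from fun a ha =>
      (hmem 1 a).mpr ⟨1, one_mem _, by simpa using ha⟩)).toAlgebra
    haveI : IsScalarTower A (A ⧸ J) (A ⧸ I 1) := IsScalarTower.of_algebraMap_eq fun r => rfl
    exact Groth.L07.SepFlat.flat_tower (A ⧸ J) (A ⧸ I 1)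
  have hfin := associatedPrimes.finite A A
  have hnzd : ∀ t, (∀ p ∈ hfin.toFinset, t ∉ p) → t ∈ nonZeroDivisors A := by
    intro t ht
    by_contra h
    have : t ∈ ⋃ p ∈ associatedPrimes A A, (p : Set A) := by
      rw [biUnion_associatedPrimes_eq_compl_nonZeroDivisors]; exact h
    simp only [Set.mem_iUnion] at this
    obtain ⟨p, hp, htp⟩ := this
    exact ht p (hfin.mem_toFinset.mpr hp) htp
  refine Groth.L07.SepFlat.flat_of_chain I ?_ ?_ (N := N) ?_ _ ?_
    (Groth.L07.SepFlat.killed_of_flat_localization M hfin.toFinset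
      (fun p hp => IsAssociatedPrime.isPrime (hfin.mem_toFinset.mp hp))
      (fun p _ hp => hloc ⟨p, hfin.mem_toFinset.mp hp⟩))
  · intro a b hab x hx
    obtain ⟨t, ht, htx⟩ := (hmem b x).mp hx
    exact (hmem a x).mpr ⟨t, ht, Ideal.pow_le_pow_right hab htx⟩
  · intro k
    rw [Ideal.mul_le]
    intro x hx y hy
    obtain ⟨s, hs, hsx⟩ := (hmem 1 x).mp hx
    obtain ⟨t, ht, hty⟩ := (hmem k y).mp hy
    refine (hmem (k + 1) _).mpr ⟨s * t, mul_mem hs ht, ?_⟩
    rw [pow_one] at hsx
    rw [mul_mul_mul_comm, pow_succ']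
    exact Ideal.mul_mem_mul hsx hty
  · rw [eq_bot_iff]
    intro x hx
    obtain ⟨t, ht, htx⟩ := (hmem N x).mp hx
    rw [hN, Ideal.zero_eq_bot, Ideal.mem_bot, mul_comm] at htx
    exact ht.2 x htx
  · intro t ht k _ a _ hta
    obtain ⟨s, hs, hsa⟩ := (hmem (k + 1) _).mp hta
    exact (hmem (k + 1) a).mpr ⟨s * t, mul_mem hs (hnzd t ht), by rwa [mul_assoc]⟩

end Groth.Agent.S2574
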