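import Groth.Statements.S2591
import Groth.Agent.L07.FreeStrat

set_option autoImplicit false
open TensorProduct
universe u
open EGA43

namespace Groth.Agent.S2591

/-- Let A be a commutative ring, B a finitely presented A-algebra and M a finitely presented B-module
which is flat over A. Then there are finitely many elements f₁, …, fₙ of A generating the unit ideal
such that, for each i < n, writing A' for the localization of A at f_{i+1} modulo the ideal
generated by f₁, …, fᵢ, the module A' ⊗_A M is free over A'. -/
theorem result {A B : Type u} [CommRing A] [CommRing B] [Algebra A B]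
    [Algebra.FinitePresentation A B] (M : Type u) [AddCommGroup M] [Module B M] [Module A M] [IsScalarTower A B M]
    [Module.FinitePresentation B M] [Module.Flat A M] :
    ∃ l : List A, Ideal.span {a | a ∈ l} = ⊤ ∧
      ∀ (i : ℕ) (hi : i < l.length),
        letI J : Ideal (Localization.Away l[i]) :=
          (Ideal.span {a | a ∈ l.take i}).map (algebraMap A (Localization.Away l[i]))
        Module.Free (Localization.Away l[i] ⧸ J) ((Localization.Away l[i] ⧸ J) ⊗[A] M) := by
  classical
  obtain ⟨d, n, R, hR, K, ⟨e⟩⟩ := Groth.L07.FlatDescent.exists_model A (B₀ := B) M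
  haveI := hR
  haveI : Module.Flat A (Groth.L07.FlatDescent.MC A K) := Module.Flat.of_linearEquiv e.symm
  obtain ⟨R', hR', hflat⟩ := Groth.L07.FlatDescent.exists_fg_stage K A
  haveI : Algebra.FiniteType R R' := ⟨(Subalgebra.fg_top R').mpr hR'⟩
  haveI : IsNoetherianRing R' := Algebra.FiniteType.isNoetherianRing R R'
  let K' := Groth.L07.FlatDescent.KP (C := R') K
  let e' : Groth.L07.FlatDescent.MC R' K ≃ₗ[R'] (Groth.L07.FlatDescent.F d n R' ⧸ K') :=
    Submodule.quotEquivOfEq _ _ rfl ≪≫ₗ Submodule.Quotient.restrictScalarsEquiv R' K'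
  haveI := hflat
  haveI : Module.Flat R' (Groth.L07.FlatDescent.F d n R' ⧸ K') := Module.Flat.of_linearEquiv e'.symm
  obtain ⟨l, hl, hfree⟩ := Groth.L07.FreeStrat.exists_list (Groth.L07.FlatDescent.F d n R' ⧸ K')
    fun P hP => Groth.L07.FreeStrat.freeOn_prime K' P
  have hset : ∀ m : List R', Ideal.span {a | a ∈ m.map (algebraMap R' A)} =
      (Ideal.span {a | a ∈ m}).map (algebraMap R' A) := by
    intro m
    rw [Ideal.map_span]
    congr 1
    ext a
    simp
  refine ⟨l.map (algebraMap R' A), by rw [hset, hl, Ideal.map_top], fun i hi => ?_⟩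
  have hi' : i < l.length := by simpa using hi
  set J : Ideal (Localization.Away (l.map (algebraMap R' A))[i]) :=
    (Ideal.span {a | a ∈ (l.map (algebraMap R' A)).take i}).map
      (algebraMap A (Localization.Away (l.map (algebraMap R' A))[i])) with hJ
  let C := Localization.Away (l.map (algebraMap R' A))[i] ⧸ J
  haveI : Module.Free C (C ⊗[R'] (Groth.L07.FlatDescent.F d n R' ⧸ K')) := by
    refine hfree i hi' C ?_ ?_
    · rw [IsScalarTower.algebraMap_apply R' A C, ← List.getElem_map (algebraMap R' A) (h := hi),
        IsScalarTower.algebraMap_apply A (Localization.Away (l.map (algebraMap R' A))[i]) C]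
      exact (IsLocalization.Away.algebraMap_isUnit _).map _
    · rw [IsScalarTower.algebraMap_eq R' A C,
        IsScalarTower.algebraMap_eq A (Localization.Away (l.map (algebraMap R' A))[i]) C,
        ← Ideal.map_map, ← hset, List.map_take, ← Ideal.map_map, Ideal.Quotient.algebraMap_eq,
        Ideal.map_quotient_self]
  obtain ⟨e₁⟩ := Groth.L07.FlatDescent.exists_baseChangeEquiv K' C
  obtain ⟨e₂⟩ := Groth.L07.FlatDescent.exists_modelEquiv K e C
  exact Module.Free.of_equiv (e₁ ≪≫ₗ
    Submodule.quotEquivOfEq _ _ (Groth.L07.FlatDescent.KC_KP K R' C) ≪≫ₗ e₂.symm)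

end Groth.Agent.S2591
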