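import Groth.Statements.S2595
import Groth.Agent.S4949
import Groth.Agent.L07.EquidimCrit
import Mathlib.RingTheory.Spectrum.Prime.Topology
import Mathlib.RingTheory.Flat.FaithfullyFlat.Algebra

set_option autoImplicit false
set_option maxSynthPendingDepth 3
set_option linter.style.haveILetI false
open CategoryTheory AlgebraicGeometry
universe u
open EGA43

namespace Groth.Agent.S2595

/-- Let Y be locally Noetherian, f : X ⟶ Y locally of finite type and x a point of X. If O_{Y,f x} ⟶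
O_{X,x} is flat and the local ring at x of the fibre through x is Cohen–Macaulay, then f is
equidimensional at x. -/
theorem result {X Y : Scheme.{u}} [IsLocallyNoetherian Y] (f : X ⟶ Y)
    [LocallyOfFiniteType f] (x : X) (hflat : (f.stalkMap x).hom.Flat)
    (hCM : LocCoh.IsCohenMacaulayLocalRing ((f.fiber (f.base x)).presheaf.stalk (f.asFiber x))) :
    EGA43.IsEquidimAt f x := by
  haveI : LocallyOfFinitePresentation f := inferInstance
  haveI : IsLocallyNoetherian X := LocallyOfFiniteType.isLocallyNoetherian f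
  obtain ⟨n, U, hx, g, hg, hqf, hgflat⟩ := (Groth.Agent.S4949.result f x).mp ⟨hflat, hCM⟩
  haveI := hqf
  obtain ⟨V, hxV, hV⟩ := Groth.L07.Equidim.exists_nhd_maximal x
  let j := X.homOfLE (inf_le_left : U ⊓ V ≤ U)
  have hg' : (j ≫ g) ≫ (𝔸(ULift.{u} (Fin n); Y) ↘ Y) = (U ⊓ V).ι ≫ f := by
    rw [Category.assoc, hg, Scheme.homOfLE_ι_assoc]
  haveI : LocallyQuasiFinite (j ≫ g) := inferInstance
  refine Groth.L07.Equidim.isEquidimAt_of_qf f x n (U ⊓ V) (j ≫ g) ⟨hx, hxV⟩ hg' fun ζ hζ q hq => ?_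
  let a : (U : Scheme.{u}) := j ζ
  have hamax : ∀ r, r ⤳ a → r = a := (Groth.L07.Equidim.maximal_openImmersion_iff j ζ).mp hζ
  have hax : a ⤳ (⟨x, hx⟩ : (U : Scheme.{u})) := by
    refine U.ι.isEmbedding.isInducing.specializes_iff.mp ?_
    rw [show U.ι a = (U ⊓ V).ι ζ from congr($(Scheme.homOfLE_ι X (inf_le_left : U ⊓ V ≤ U)) ζ)]
    exact hV _ ζ.2.2 ((Groth.L07.Equidim.maximal_openImmersion_iff (U ⊓ V).ι ζ).mp hζ)
  rw [Scheme.Hom.comp_apply] at hq ⊢
  change q ⤳ g a at hq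
  change q = g a
  set x₀ : (U : Scheme.{u}) := ⟨x, hx⟩
  obtain ⟨Q, hQ⟩ : q ∈ Set.range (𝔸(ULift.{u} (Fin n); Y).fromSpecStalk (g x₀)) := by
    rw [Scheme.range_fromSpecStalk]; exact hq.trans (hax.map g.continuous)
  obtain ⟨P, hP⟩ : a ∈ Set.range ((U : Scheme.{u}).fromSpecStalk x₀) := by
    rw [Scheme.range_fromSpecStalk]; exact hax
  have hcomm : ∀ R, 𝔸(ULift.{u} (Fin n); Y).fromSpecStalk (g x₀) (PrimeSpectrum.comap (g.stalkMap x₀).hom R) =
      g ((U : Scheme.{u}).fromSpecStalk x₀ R) := fun R =>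
    (congr($(Scheme.SpecMap_stalkMap_fromSpecStalk g (x := x₀)) R) :)
  have hsp : Q ⤳ PrimeSpectrum.comap (g.stalkMap x₀).hom P := by
    rw [← (𝔸(ULift.{u} (Fin n); Y).fromSpecStalk (g x₀)).isEmbedding.isInducing.specializes_iff, hQ, hcomm, hP]
    exact hq
  obtain ⟨P', hP', he⟩ := hgflat.generalizingMap_comap hsp
  rw [← hQ, ← he, hcomm, hamax _ ((hP'.map ((U : Scheme.{u}).fromSpecStalk x₀).continuous).trans (specializes_of_eq hP))]

end Groth.Agent.S2595
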