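import Groth.Statements.S4750
import Groth.Agent.L06.FibreComp

set_option autoImplicit false
set_option linter.style.haveILetI false
universe u
open EGA4

namespace Groth.Agent.S4750

open TensorProduct in
theorem noeth {A B : Type u} [CommRing A] [CommRing B] [Algebra A B] [IsNoetherianRing B] (p : Ideal A) [p.IsPrime] :
    IsNoetherianRing (p.Fiber B) :=
  haveI := Groth.L06.FibreComp.isNoetherianRing_baseChange (B := B) p p.ResidueField
  isNoetherianRing_of_ringEquiv _ (Algebra.TensorProduct.comm A p.ResidueField B).toRingEquiv.symm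

/-- Let A → B → C be homomorphisms of Noetherian rings, both flat and with (S_n) fibres. Then the
composite A → C is flat with (S_n) fibres. -/
theorem result (n : ℕ) (A B C : Type u) [CommRing A] [CommRing B] [CommRing C] [IsNoetherianRing A]
    [IsNoetherianRing B] [IsNoetherianRing C] [Algebra A B] [Algebra B C] [Algebra A C] [IsScalarTower A B C]
    [Module.Flat A B] [Module.Flat B C]
    (hAB : ∀ (p : Ideal A) [p.IsPrime], LocCoh.HasSk n (p.Fiber B) (p.Fiber B))
    (hBC : ∀ (q : Ideal B) [q.IsPrime], LocCoh.HasSk n (q.Fiber C) (q.Fiber C)) :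
    Module.Flat A C ∧ ∀ (p : Ideal A) [p.IsPrime], LocCoh.HasSk n (p.Fiber C) (p.Fiber C) := by

  open TensorProduct in
  refine ⟨Module.Flat.trans A B C, fun p _ => ?_⟩
  haveI := noeth (B := C) p
  haveI := noeth (B := B) p
  let R' := B ⊗[A] p.ResidueField
  haveI : IsNoetherianRing R' := Groth.L06.FibreComp.isNoetherianRing_baseChange p p.ResidueField
  let e : p.Fiber C ≃+* R' ⊗[B] C :=
    ((Algebra.TensorProduct.lid p.ResidueField (p.Fiber C)).toRingEquiv.symm).trans
      (Groth.L06.FibreComp.fibreEquiv p p.ResidueField)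
  haveI : IsNoetherianRing (R' ⊗[B] C) := isNoetherianRing_of_ringEquiv _ e
  refine Groth.L06.FibreComp.hasSk_of_ringEquiv e.symm n
    (Groth.L06.FlatFibre.hasSk_of_flat (R := R') (S := R' ⊗[B] C) n
      (Groth.L06.FibreComp.hasSk_of_ringEquiv (Algebra.TensorProduct.comm A p.ResidueField B).toRingEquiv n (hAB p))
      fun Q _ => ?_)
  obtain ⟨i, _, ⟨eQ⟩⟩ := Groth.L06.FibreComp.exists_fibre_baseChange (B := B) (C := C) Q
  haveI := noeth (B := C) (Q.comap (algebraMap B R'))
  let eK : (Q.comap (algebraMap B R')).ResidueField ≃ₐ[(Q.comap (algebraMap B R')).ResidueField] Q.ResidueField :=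
    AlgEquiv.ofBijective (Algebra.ofId _ _) (Groth.L06.FibreComp.bijective_residueField p Q)
  exact Groth.L06.FibreComp.hasSk_of_ringEquiv
    (((Algebra.TensorProduct.lid _ _).toRingEquiv.symm.trans
      (Algebra.TensorProduct.congr eK AlgEquiv.refl).toRingEquiv).trans eQ.symm) n (hBC _)

end Groth.Agent.S4750
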