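import Groth.Statements.S4751
import Groth.Agent.L06.FibreComp

set_option autoImplicit false
set_option linter.style.haveILetI false
universe u
open EGA4

namespace Groth.Agent.S4751

open TensorProduct in
theorem noeth {A B : Type u} [CommRing A] [CommRing B] [Algebra A B] [IsNoetherianRing B] (p : Ideal A) [p.IsPrime] :
    IsNoetherianRing (p.Fiber B) :=
  haveI := Groth.L06.FibreComp.isNoetherianRing_baseChange (B := B) p p.ResidueField
  isNoetherianRing_of_ringEquiv _ (Algebra.TensorProduct.comm A p.ResidueField B).toRingEquiv.symm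

/-- Let A → B → C be homomorphisms of Noetherian rings such that B → C is faithfully flat with (S_n)
fibres and the composite A → C is flat with (S_n) fibres. Then A → B is flat with (S_n) fibres. -/
theorem result (n : ℕ) (A B C : Type u) [CommRing A] [CommRing B] [CommRing C]
    [IsNoetherianRing A] [IsNoetherianRing B] [IsNoetherianRing C] [Algebra A B] [Algebra B C] [Algebra A C]
    [IsScalarTower A B C] [Module.FaithfullyFlat B C] [Module.Flat A C]
    (hBC : ∀ (q : Ideal B) [q.IsPrime], LocCoh.HasSk n (q.Fiber C) (q.Fiber C))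
    (hAC : ∀ (p : Ideal A) [p.IsPrime], LocCoh.HasSk n (p.Fiber C) (p.Fiber C)) :
    Module.Flat A B ∧ ∀ (p : Ideal A) [p.IsPrime], LocCoh.HasSk n (p.Fiber B) (p.Fiber B) := by

  open TensorProduct in
  refine ⟨Groth.L06.FibreComp.flat_of_comp A B C, fun p _ => ?_⟩
  haveI := noeth (B := C) p
  let R' := B ⊗[A] p.ResidueField
  haveI : IsNoetherianRing R' := Groth.L06.FibreComp.isNoetherianRing_baseChange p p.ResidueField
  let e : p.Fiber C ≃+* R' ⊗[B] C :=
    ((Algebra.TensorProduct.lid p.ResidueField (p.Fiber C)).toRingEquiv.symm).trans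
      (Groth.L06.FibreComp.fibreEquiv p p.ResidueField)
  haveI : IsNoetherianRing (R' ⊗[B] C) := isNoetherianRing_of_ringEquiv _ e
  exact Groth.L06.FibreComp.hasSk_of_ringEquiv (Algebra.TensorProduct.comm A p.ResidueField B).toRingEquiv.symm n
    (Groth.L06.FlatFibre.hasSk_base_of_faithfullyFlat (R := R') (S := R' ⊗[B] C) n
      (Groth.L06.FibreComp.hasSk_of_ringEquiv e n (hAC p)))

end Groth.Agent.S4751
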