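import Groth.Statements.S2905
import Groth.Agent.L23.SepEt.Fp
import Groth.Agent.S14770
import Groth.Agent.L06.QfhUnibranch
import Mathlib.AlgebraicGeometry.Noetherian

set_option autoImplicit false
open CategoryTheory CategoryTheory.Limits AlgebraicGeometry Opposite
universe u
open SGA1

set_option backward.isDefEq.respectTransparency.types false
set_option linter.style.haveILetI false

namespace Groth.Agent.S2905

/-- Let S be locally Noetherian and g : S' ⟶ S universally submersive, of finite type and quasi-finite.
Then every descent datum relative to g whose underlying scheme is etale, separated and quasi-compact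
over S' is isomorphic to the canonical descent datum of a scheme etale, separated and quasi-compact
over S. (Descent data relative to g are taken in functor-of-points form.) -/
theorem result {S' S : Scheme.{u}} [IsLocallyNoetherian S] (g : S' ⟶ S)
    (hg : SGA1.UnivSubmersive g) [LocallyOfFiniteType g] [QuasiCompact g] [LocallyQuasiFinite g]
    (D : Desc.SchDD g) [QuasiCompact D.obj.hom] [IsSeparated D.obj.hom] [Etale D.obj.hom] :
    ∃ U : Over S, QuasiCompact U.hom ∧ IsSeparated U.hom ∧ Etale U.hom ∧ Nonempty ((Desc.toDD g).obj U ≅ D) := by
  have hs := (Groth.Agent.S14770.result g).1 hg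
  haveI := LocallyOfFiniteType.isLocallyNoetherian g
  haveI : IsSeparated (Groth.L27.EtGlue.prj (Groth.L23.SepEt.fam D)) := inferInstanceAs (IsSeparated D.obj.hom)
  haveI : Etale (Groth.L27.EtGlue.prj (Groth.L23.SepEt.fam D)) := inferInstanceAs (Etale D.obj.hom)
  exact Groth.L23.SepEt.exists_qc_sep_of_effective (Groth.L09.Subtr.univSubmersive_of_univSSubtrusive g hs) D
    (Groth.L23.SepEt.etEffective_of_univSSubtrusive_fp hs _)

end Groth.Agent.S2905
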