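import Groth.Statements.S2910
import Groth.Agent.L27.Quot.Torsor
import Groth.Agent.L00.UnramEq

set_option autoImplicit false
open CategoryTheory CategoryTheory.Limits AlgebraicGeometry
universe u
open SGA1

namespace Groth.Agent.S2910

/-- Let a finite group G act faithfully on a connected scheme X, let p : X ⟶ Y be a quotient of X by G
with Y locally Noetherian and p finite, and suppose p is etale. Then G acts freely on the geometric
points of X (all inertia groups are trivial), and every automorphism of X over Y is the action of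
exactly one element of G. -/
theorem result {X Y : Scheme.{u}} {G : Type u} [Group G] [Finite G] (ρ : G →* Aut X)
    (p : X ⟶ Y) (hp : SGA1.IsQuot ρ p) [IsLocallyNoetherian Y] [IsFinite p] [ConnectedSpace X]
    (hfaith : Function.Injective ρ) [Etale p] :
    (∀ (K : Type u) [Field K] [IsAlgClosed K] (ξ : Spec (CommRingCat.of K) ⟶ X) (g : G), ξ ≫ (ρ g).hom = ξ → g = 1) ∧
    ∀ u : Aut X, u.hom ≫ p = p → ∃! g : G, ρ g = u := by
  haveI : IsSeparated p := inferInstance
  have key : ∀ (K : Type u) [Field K] (ξ : Spec (CommRingCat.of K) ⟶ X) (φ : X ⟶ X),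
      φ ≫ p = p → ∀ g : G, ξ ≫ φ = ξ ≫ (ρ g).hom → φ = (ρ g).hom := by
    intro K _ ξ φ hφ g h
    exact Groth.L00.UnramEq.eq_of_connected p φ (ρ g).hom (hφ.trans (hp.inv g).symm) ξ h
  have hfree : Groth.L27.Quot.Free ρ := fun K _ _ ξ g h => by
    refine hfaith ?_
    rw [map_one]
    refine Iso.ext ?_
    exact (key K ξ (𝟙 X) (Category.id_comp p) g (by rw [Category.comp_id, h])).symm
  refine ⟨fun K _ _ ξ g h => hfree K ξ g h, fun u hu => ?_⟩
  haveI := Groth.L27.Quot.isIso_torsor hp hfree
  obtain ⟨x⟩ := (inferInstance : Nonempty X)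
  let c : X ⟶ pullback p p := pullback.lift (𝟙 X) u.hom ((Category.id_comp p).trans hu.symm)
  let t : G → (X ⟶ pullback p p) := fun g =>
    pullback.lift (𝟙 X) (ρ g).hom ((Category.id_comp p).trans (hp.inv g).symm)
  let D : (∐ fun _ : G => X) ⟶ pullback p p := Sigma.desc t
  haveI : IsIso D := Groth.L27.Quot.isIso_torsor hp hfree
  obtain ⟨z, hz⟩ := D.homeomorph.surjective (c x)
  obtain ⟨⟨g, x'⟩, rfl⟩ := (sigmaMk _).surjective z
  rw [sigmaMk_mk] at hz
  change D (Sigma.ι (fun _ : G => X) g x') = c x at hz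
  rw [← Scheme.Hom.comp_apply, Sigma.ι_desc] at hz
  haveI : IsOpenImmersion (t g) := by
    rw [show t g = Sigma.ι (fun _ : G => X) g ≫ D from (Sigma.ι_desc t g).symm]
    infer_instance
  let ξ := X.fromSpecResidueField x
  have hr : Set.range (ξ ≫ c) ⊆ Set.range (t g) := by
    rintro _ ⟨w, rfl⟩
    rw [Scheme.Hom.comp_apply, Scheme.fromSpecResidueField_apply]
    exact ⟨x', hz⟩
  have hfac := IsOpenImmersion.lift_fac (t g) (ξ ≫ c) hr
  have h1 : IsOpenImmersion.lift (t g) (ξ ≫ c) hr = ξ := by
    have := congr($hfac ≫ pullback.fst p p)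
    rwa [Category.assoc, pullback.lift_fst, Category.comp_id, Category.assoc, pullback.lift_fst,
      Category.comp_id] at this
  rw [h1] at hfac
  have h2 : ξ ≫ u.hom = ξ ≫ (ρ g).hom := by
    have := congr($hfac ≫ pullback.snd p p)
    rwa [Category.assoc, pullback.lift_snd, Category.assoc, pullback.lift_snd, eq_comm] at this
  exact ⟨g, Iso.ext (key _ ξ u.hom hu g h2).symm, fun g' hg' =>
    hfaith (hg'.trans (Iso.ext (key _ ξ u.hom hu g h2)))⟩

end Groth.Agent.S2910
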