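import Groth.Statements.S2916
import Groth.Agent.L27.SGA1.ConnectedFibres

set_option autoImplicit false
open CategoryTheory CategoryTheory.Limits AlgebraicGeometry Opposite
universe u
open SGA1
set_option backward.isDefEq.respectTransparency.types false

namespace Groth.Agent.S2916

/-- Let g : S' ⟶ S be universally submersive with geometrically connected fibres (the base change of S'
to any algebraically closed field valued point of S is connected). Then S' is connected whenever S
is, and for schemes X, Y etale over S every S'-morphism between their base changes comes from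
exactly one S-morphism X ⟶ Y. -/
theorem result {S' S : Scheme.{u}} (g : S' ⟶ S)
    (hg : SGA1.UnivSubmersive g)
    (hconn : ∀ (K : Type u) [Field K] [IsAlgClosed K] (ξ : Spec (CommRingCat.of K) ⟶ S), ConnectedSpace ↑(pullback g ξ)) :
    (ConnectedSpace S → ConnectedSpace S') ∧
    ∀ (X Y : Over S) [Etale X.hom] [Etale Y.hom], Function.Bijective ((Over.pullback g).map : (X ⟶ Y) → _) := by
  refine ⟨fun _ => Groth.L27.SGA1Conn.connectedSpace g hg hconn, fun X Y _ _ => ?_⟩
  have key : ∀ (φ : X ⟶ Y), ((Over.pullback g).map φ).left ≫ pullback.fst Y.hom g =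
      pullback.fst X.hom g ≫ φ.left := fun φ => pullback.lift_fst _ _ _
  refine ⟨fun φ φ' h => ?_, fun ψ => ?_⟩
  · have ha : (pullback.fst X.hom g ≫ φ.left) ≫ Y.hom = pullback.fst X.hom g ≫ X.hom := by rw [Category.assoc, Over.w φ]
    obtain ⟨u, -, hu⟩ := Groth.L27.TopInv.existsUnique_hom g hg X.hom Y.hom _ ha
      (Groth.L27.SGA1Conn.compat g hconn X.hom Y.hom _ ha)
    refine Over.OverMorphism.ext ((hu φ.left ⟨Over.w φ, rfl⟩).trans (hu φ'.left ⟨Over.w φ', ?_⟩).symm)
    exact (key φ).symm.trans ((congrArg (fun m => m.left ≫ pullback.fst Y.hom g) h).trans (key φ'))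
  · have hw : ψ.left ≫ pullback.snd Y.hom g = pullback.snd X.hom g := Over.w ψ
    have ha : (ψ.left ≫ pullback.fst Y.hom g) ≫ Y.hom = pullback.fst X.hom g ≫ X.hom := by
      rw [Category.assoc, pullback.condition, reassoc_of% hw, ← pullback.condition]
    obtain ⟨u, ⟨hu1, hu2⟩, -⟩ := Groth.L27.TopInv.existsUnique_hom g hg X.hom Y.hom _ ha
      (Groth.L27.SGA1Conn.compat g hconn X.hom Y.hom _ ha)
    refine ⟨Over.homMk u hu1, Over.OverMorphism.ext (pullback.hom_ext ?_ ?_)⟩
    · exact (key (Over.homMk u hu1)).trans hu2.symm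
    · exact (pullback.lift_snd _ _ _).trans hw.symm

end Groth.Agent.S2916
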