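import Groth.Statements.S2921
import Groth.Agent.L01.Regular
import Groth.Agent.L03.RegularFiniteExt
import Mathlib.RingTheory.Smooth.StandardSmoothCotangent
import Mathlib.FieldTheory.IsAlgClosed.AlgebraicClosure

set_option autoImplicit false
universe u
open IsLocalRing
open SGA1

namespace Groth.Agent.S2921

open MvPolynomial

section
variable {A : Type u} [CommRing A] {r : ℕ} (f : Fin r → A) (n : Fin r → ℕ)

theorem X_pow_eq (i : Fin r) :
    (Ideal.Quotient.mk _ (X i) : SGA1.kummerAlg A f n) ^ n i = algebraMap A _ (f i) := by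
  rw [← map_pow, IsScalarTower.algebraMap_apply A (MvPolynomial (Fin r) A) (SGA1.kummerAlg A f n),
    Ideal.Quotient.algebraMap_eq, algebraMap_eq, Ideal.Quotient.eq]
  exact Ideal.subset_span ⟨i, rfl⟩

theorem finite_kummerAlg (hn : ∀ i, 1 ≤ n i) : Module.Finite A (SGA1.kummerAlg A f n) := by
  have hint : Algebra.IsIntegral A (SGA1.kummerAlg A f n) := by
    refine ⟨fun b => ?_⟩
    obtain ⟨P, rfl⟩ := Ideal.Quotient.mk_surjective b
    induction P using MvPolynomial.induction_on with
    | C a =>
      exact (isIntegral_algebraMap (R := A) (A := SGA1.kummerAlg A f n) (x := a))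
    | add p q hp hq => rw [map_add]; exact hp.add hq
    | mul_X p i hp =>
      rw [map_mul]
      refine hp.mul (IsIntegral.of_pow (n := n i) (by have := hn i; omega) ?_)
      rw [X_pow_eq]
      exact isIntegral_algebraMap
  exact Algebra.IsIntegral.finite

theorem injective_kummerAlg [IsDomain A] (hn : ∀ i, 1 ≤ n i) :
    Function.Injective (algebraMap A (SGA1.kummerAlg A f n)) := by
  classical
  let K := AlgebraicClosure (FractionRing A)
  have hroot : ∀ i, ∃ z : K, z ^ n i = algebraMap A K (f i) := fun i =>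
    IsAlgClosed.exists_pow_nat_eq _ (by have := hn i; omega)
  choose z hz using hroot
  let φ : SGA1.kummerAlg A f n →ₐ[A] K := Ideal.Quotient.liftₐ _ (aeval z) (by
    intro a ha
    rw [← RingHom.mem_ker]
    refine Ideal.span_le.mpr ?_ ha
    rintro _ ⟨i, rfl⟩
    rw [SetLike.mem_coe, RingHom.mem_ker]
    simp [hz])
  have hinj : Function.Injective (algebraMap A K) := by
    rw [IsScalarTower.algebraMap_eq A (FractionRing A) K]
    exact (algebraMap (FractionRing A) K).injective.comp (IsFractionRing.injective A (FractionRing A))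
  intro a b hab
  apply hinj
  rw [← φ.commutes a, ← φ.commutes b, hab]

theorem regular_kummerAlg [IsRegularLocalRing A] (hm : ∀ i, f i ∈ maximalIdeal A)
    (hf : LinearIndependent (ResidueField A) (fun i => (maximalIdeal A).toCotangent ⟨f i, hm i⟩))
    (hn : ∀ i, 1 ≤ n i) : IsRegularLocalRing (SGA1.kummerAlg A f n) := by
  classical
  have := Groth.L01.isDomain_of_regular A
  have hfin : Module.Finite A (SGA1.kummerAlg A f n) := finite_kummerAlg f n hn
  have hinj := injective_kummerAlg f n hn
  have : IsNoetherianRing (SGA1.kummerAlg A f n) := IsNoetherianRing.of_finite A (SGA1.kummerAlg A f n)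
  set k := ResidueField A
  set W := Submodule.span k (Set.range fun i => (maximalIdeal A).toCotangent ⟨f i, hm i⟩)
  have hW : Module.finrank k W = r := by
    have := finrank_span_eq_card hf
    rwa [Fintype.card_fin] at this
  let bas := Module.finBasis k (CotangentSpace A ⧸ W)
  have hlift : ∀ j, ∃ g : maximalIdeal A,
      Submodule.Quotient.mk ((maximalIdeal A).toCotangent g) = bas j := by
    intro j
    obtain ⟨v, hv⟩ := Submodule.Quotient.mk_surjective W (bas j)
    obtain ⟨g, rfl⟩ := (maximalIdeal A).toCotangent_surjective v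
    exact ⟨g, hv⟩
  choose g hg using hlift
  set J0 : Ideal A := Ideal.span (Set.range f ∪ Set.range fun j => (g j : A))
  have hJ0 : maximalIdeal A ≤ J0 := by
    refine Groth.L01.maximalIdeal_le_of_le_sup_sq (fun x hx => ?_)
    have hv : ∀ v : CotangentSpace A, ∃ y : maximalIdeal A, (y : A) ∈ J0 ∧
        (maximalIdeal A).toCotangent y = v := by
      let T : Submodule A (CotangentSpace A) :=
        Submodule.map (maximalIdeal A).toCotangent (Submodule.comap (maximalIdeal A).subtype J0)
      let T' : Submodule k (CotangentSpace A) :=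
        { carrier := T
          add_mem' := fun ha hb => T.add_mem ha hb
          zero_mem' := T.zero_mem
          smul_mem' := fun c v hv => by
            obtain ⟨c, rfl⟩ := IsLocalRing.residue_surjective c
            exact T.smul_mem c hv }
      have htop : T' = ⊤ := by
        rw [eq_top_iff]
        intro v _
        have hWT : W ≤ T' := Submodule.span_le.mpr (by
          rintro _ ⟨i, rfl⟩
          exact ⟨⟨f i, hm i⟩, Ideal.subset_span (Or.inl ⟨i, rfl⟩), rfl⟩)
        have hmap : Submodule.map W.mkQ T' = ⊤ := by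
          rw [eq_top_iff, ← bas.span_eq, Submodule.span_le]
          rintro _ ⟨j, rfl⟩
          exact ⟨(maximalIdeal A).toCotangent (g j),
            ⟨g j, Ideal.subset_span (Or.inr ⟨j, rfl⟩), rfl⟩, hg j⟩
        obtain ⟨w, hw, hwv⟩ := (hmap.symm ▸ Submodule.mem_top :
          W.mkQ v ∈ Submodule.map W.mkQ T')
        have : v - w ∈ W := (Submodule.Quotient.eq W).mp hwv.symm
        simpa using T'.add_mem (hWT this) hw
      intro v
      obtain ⟨y, hy, hyv⟩ := (htop.symm ▸ Submodule.mem_top : v ∈ T')
      exact ⟨y, hy, hyv⟩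
    obtain ⟨y, hy, hyv⟩ := hv ((maximalIdeal A).toCotangent ⟨x, hx⟩)
    rw [Ideal.toCotangent_eq] at hyv
    have : x = y + (x - y) := by ring
    rw [this]
    refine Submodule.add_mem_sup hy ?_
    simpa using (maximalIdeal A ^ 2).neg_mem hyv
  let χ : (SGA1.kummerAlg A f n) →+* k := Ideal.Quotient.lift _ ((eval₂Hom (residue A) (fun _ => (0 : k)))) (by
    intro a ha
    rw [← RingHom.mem_ker]
    refine Ideal.span_le.mpr ?_ ha
    rintro _ ⟨i, rfl⟩
    rw [SetLike.mem_coe, RingHom.mem_ker]
    simp [zero_pow (show n i ≠ 0 by have := hn i; omega),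
      (residue_eq_zero_iff (f i)).mpr (hm i)])
  set J : Ideal (SGA1.kummerAlg A f n) := Ideal.span ((Set.range fun i => Ideal.Quotient.mk _ (X i)) ∪
    Set.range fun j => algebraMap A (SGA1.kummerAlg A f n) (g j))
  have hmJ : (maximalIdeal A).map (algebraMap A (SGA1.kummerAlg A f n)) ≤ J := by
    refine (Ideal.map_mono hJ0).trans ?_
    rw [Ideal.map_span, Ideal.span_le]
    rintro _ ⟨a, (⟨i, rfl⟩ | ⟨j, rfl⟩), rfl⟩
    · rw [← X_pow_eq f n i]
      exact J.pow_mem_of_mem (Ideal.subset_span (Or.inl ⟨i, rfl⟩)) _ (hn i)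
    · exact Ideal.subset_span (Or.inr ⟨j, rfl⟩)
  have hconst : ∀ b : (SGA1.kummerAlg A f n), ∃ a : A, b - algebraMap A (SGA1.kummerAlg A f n) a ∈ J := by
    intro b
    obtain ⟨P, rfl⟩ := Ideal.Quotient.mk_surjective b
    induction P using MvPolynomial.induction_on with
    | C a => exact ⟨a, by simp [IsScalarTower.algebraMap_apply A (MvPolynomial (Fin r) A) (SGA1.kummerAlg A f n)]⟩
    | add p q hp hq =>
      obtain ⟨a, ha⟩ := hp
      obtain ⟨c, hc⟩ := hq
      exact ⟨a + c, by rw [map_add, map_add, add_sub_add_comm]; exact J.add_mem ha hc⟩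
    | mul_X p i hp =>
      refine ⟨0, ?_⟩
      rw [map_zero, sub_zero, map_mul]
      exact J.mul_mem_left _ (Ideal.subset_span (Or.inl ⟨i, rfl⟩))
  have hχalg : ∀ a, χ (algebraMap A (SGA1.kummerAlg A f n) a) = residue A a := fun a => by
    simp [χ, IsScalarTower.algebraMap_apply A (MvPolynomial (Fin r) A) (SGA1.kummerAlg A f n)]
  have hJker : J = RingHom.ker χ := by
    refine le_antisymm (Ideal.span_le.mpr ?_) fun b hb => ?_
    · rintro _ (⟨i, rfl⟩ | ⟨j, rfl⟩)
      · simp [χ]
      · rw [SetLike.mem_coe, RingHom.mem_ker, hχalg]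
        exact (residue_eq_zero_iff _).mpr (g j).2
    · obtain ⟨a, ha⟩ := hconst b
      have h1 : χ (b - algebraMap A (SGA1.kummerAlg A f n) a) = 0 := by
        have hle : J ≤ RingHom.ker χ := Ideal.span_le.mpr (by
          rintro _ (⟨i, rfl⟩ | ⟨j, rfl⟩)
          · simp [χ]
          · rw [SetLike.mem_coe, RingHom.mem_ker, hχalg]
            exact (residue_eq_zero_iff _).mpr (g j).2)
        exact hle ha
      rw [map_sub, RingHom.mem_ker.mp hb, zero_sub, neg_eq_zero, hχalg, residue_eq_zero_iff] at h1
      simpa using J.add_mem ha (hmJ (Ideal.mem_map_of_mem _ h1))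
  have hJmax : J.IsMaximal := by
    rw [hJker]
    exact RingHom.ker_isMaximal_of_surjective χ fun c => by
      obtain ⟨a, rfl⟩ := IsLocalRing.residue_surjective c
      exact ⟨_, hχalg a⟩
  have : IsLocalRing (SGA1.kummerAlg A f n) := by
    refine IsLocalRing.of_unique_max_ideal ⟨J, hJmax, fun Q hQ => ?_⟩
    refine (hJmax.eq_of_le hQ.ne_top (Ideal.span_le.mpr ?_)).symm
    have hc : Q.comap (algebraMap A (SGA1.kummerAlg A f n)) = maximalIdeal A :=
      eq_maximalIdeal (Ideal.isMaximal_comap_of_isIntegral_of_isMaximal Q)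
    have hmem : ∀ a ∈ maximalIdeal A, algebraMap A (SGA1.kummerAlg A f n) a ∈ Q := fun a ha => by
      rw [← hc] at ha; exact ha
    rintro _ (⟨i, rfl⟩ | ⟨j, rfl⟩)
    · exact hQ.isPrime.mem_of_pow_mem (n i) (by rw [X_pow_eq]; exact hmem _ (hm i))
    · exact hmem _ (g j).2
  refine IsRegularLocalRing.of_spanFinrank_maximalIdeal_le (SGA1.kummerAlg A f n) ?_
  rw [← eq_maximalIdeal hJmax, ← Groth.L03.RegularFiniteExt.ringKrullDim_eq_of_integral (A := A) hinj,
    ← IsRegularLocalRing.spanFinrank_maximalIdeal (R := A), Nat.cast_le,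
    IsLocalRing.spanFinrank_maximalIdeal_eq_finrank_cotangentSpace A]
  refine (Submodule.spanFinrank_span_le_ncard_of_finite ((Set.finite_range _).union (Set.finite_range _))).trans ?_
  refine (Set.ncard_union_le _ _).trans ?_
  have h1 : ∀ {N : ℕ} (φ : Fin N → (SGA1.kummerAlg A f n)), (Set.range φ).ncard ≤ N := fun {N} φ => by
    rw [← Set.image_univ]
    exact (Set.ncard_image_le Set.finite_univ).trans (by simp [Set.ncard_univ])
  refine (add_le_add (h1 _) (h1 _)).trans ?_
  exact le_of_eq (by
    have h2 : Module.finrank (ResidueField A) (CotangentSpace A ⧸ W) + Module.finrank (ResidueField A) W =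
        Module.finrank (ResidueField A) (CotangentSpace A) := Submodule.finrank_quotient_add_finrank W
    have h3 : Module.finrank (ResidueField A) W = r := hW
    rw [← h2, h3]; exact add_comm _ _)

theorem etale_kummer_away' (hunit : ∀ i, IsUnit ((n i : ℕ) : A)) (hn : ∀ i, 1 ≤ n i)
    (F : A) (hF : ∀ i, f i ∣ F)
    (L BF : Type u) [CommRing L] [Algebra A L] [IsLocalization.Away F L]
    [CommRing BF] [Algebra (SGA1.kummerAlg A f n) BF]
    [IsLocalization.Away (algebraMap A (SGA1.kummerAlg A f n) F) BF]
    [Algebra A BF] [IsScalarTower A (SGA1.kummerAlg A f n) BF]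
    [Algebra L BF] [IsScalarTower A L BF] : Algebra.Etale L BF := by
  classical
  let v : Fin r → MvPolynomial (Fin r) L := fun i => X i ^ n i - C (algebraMap A L (f i))
  let Q := MvPolynomial (Fin r) L ⧸ Ideal.span (Set.range v)
  let P := Algebra.PreSubmersivePresentation.naive (R := L) (v := v) (_root_.id) Function.injective_id
  have hXunit : ∀ i, IsUnit (Ideal.Quotient.mk (Ideal.span (Set.range v)) (X i)) := by
    intro i
    refine (isUnit_pow_iff (n := n i) (by have := hn i; omega)).mp ?_
    have he : Ideal.Quotient.mk (Ideal.span (Set.range v)) (X i) ^ n i =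
        Ideal.Quotient.mk _ (C (algebraMap A L (f i))) := by
      rw [← map_pow, Ideal.Quotient.eq]; exact Ideal.subset_span ⟨i, rfl⟩
    rw [he]
    refine (IsUnit.map C ?_).map _
    exact isUnit_of_dvd_unit (map_dvd _ (hF i))
      (IsLocalization.Away.algebraMap_isUnit F)
  have hjac : IsUnit P.jacobian := by
    have hM : P.jacobiMatrix = Matrix.diagonal fun i => (n i : MvPolynomial (Fin r) L) * X i ^ (n i - 1) := by
      ext i j
      rw [Algebra.PreSubmersivePresentation.jacobiMatrix_naive]
      simp only [v, _root_.id, map_sub, pderiv_pow, pderiv_C, sub_zero, pderiv_X, Matrix.diagonal_apply]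
      by_cases hij : i = j
      · subst hij; simp
      · simp [hij, Ne.symm hij]
    rw [Algebra.PreSubmersivePresentation.jacobian_eq_jacobiMatrix_det, hM, Matrix.det_diagonal, map_prod]
    refine IsUnit.prod_iff.mpr fun i _ => ?_
    change IsUnit (Ideal.Quotient.mk (Ideal.span (Set.range v)) ((n i : MvPolynomial (Fin r) L) * X i ^ (n i - 1)))
    rw [map_mul, map_pow]
    refine IsUnit.mul ?_ ((hXunit i).pow _)
    simpa using (hunit i).map (algebraMap A (MvPolynomial (Fin r) L ⧸ Ideal.span (Set.range v)))
  let SP : Algebra.SubmersivePresentation L Q (Fin r) (Fin r) :=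
    { toPreSubmersivePresentation := P, jacobian_isUnit := hjac }
  have : Algebra.IsStandardSmoothOfRelativeDimension 0 L Q :=
    SP.isStandardSmoothOfRelativeDimension (by simp [Algebra.Presentation.dimension])
  have : Algebra.Etale L Q := inferInstance
  let α : Q →ₐ[L] BF := Ideal.Quotient.liftₐ _
      (aeval fun i => algebraMap (SGA1.kummerAlg A f n) BF (Ideal.Quotient.mk _ (X i))) (by
    intro a ha
    rw [← RingHom.mem_ker]
    refine Ideal.span_le.mpr ?_ ha
    rintro _ ⟨i, rfl⟩
    rw [SetLike.mem_coe, RingHom.mem_ker]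
    simp only [v, map_sub, map_pow, aeval_X, aeval_C, ← IsScalarTower.algebraMap_apply A L BF]
    rw [← map_pow, X_pow_eq, ← IsScalarTower.algebraMap_apply A (SGA1.kummerAlg A f n) BF, sub_self])
  let β0 : (SGA1.kummerAlg A f n) →ₐ[A] Q := Ideal.Quotient.liftₐ _
      (aeval fun i => Ideal.Quotient.mk (Ideal.span (Set.range v)) (X i)) (by
    intro a ha
    rw [← RingHom.mem_ker]
    refine Ideal.span_le.mpr ?_ ha
    rintro _ ⟨i, rfl⟩
    rw [SetLike.mem_coe, RingHom.mem_ker, map_sub, map_pow, aeval_X, aeval_C,
      ← map_pow, IsScalarTower.algebraMap_apply A (MvPolynomial (Fin r) L) Q,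
      Ideal.Quotient.algebraMap_eq, ← map_sub, Ideal.Quotient.eq_zero_iff_mem]
    exact Ideal.subset_span ⟨i, rfl⟩)
  have hu : IsUnit (β0.toRingHom (algebraMap A (SGA1.kummerAlg A f n) F)) := by
    rw [AlgHom.toRingHom_eq_coe, RingHom.coe_coe, β0.commutes, IsScalarTower.algebraMap_apply A L Q]
    exact (IsLocalization.Away.algebraMap_isUnit F).map _
  let β : BF →+* Q := IsLocalization.Away.lift (S := BF) (g := β0.toRingHom) (algebraMap A (SGA1.kummerAlg A f n) F) hu
  have hβB : ∀ b : (SGA1.kummerAlg A f n), β (algebraMap (SGA1.kummerAlg A f n) BF b) = β0 b := fun b => IsLocalization.Away.lift_eq _ hu b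
  have hβL : ∀ l : L, β (algebraMap L BF l) = algebraMap L Q l := by
    intro l
    refine RingHom.congr_fun (IsLocalization.ringHom_ext (Submonoid.powers F)
      (j := β.comp (algebraMap L BF)) (k := algebraMap L Q) (RingHom.ext fun a => ?_)) l
    simp only [RingHom.coe_comp, Function.comp_apply]
    rw [← IsScalarTower.algebraMap_apply A L BF, IsScalarTower.algebraMap_apply A (SGA1.kummerAlg A f n) BF, hβB,
      β0.commutes, ← IsScalarTower.algebraMap_apply A L Q]
  let β' : BF →ₐ[L] Q := { β with commutes' := hβL }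
  have hβα : β'.comp α = AlgHom.id L Q := by
    refine Ideal.Quotient.algHom_ext L (MvPolynomial.algHom_ext fun i => ?_)
    simp [α, β', hβB, β0]
    rfl
  have hαβ : α.comp β' = AlgHom.id L BF := by
    have h0 : (α.toRingHom.comp β0.toRingHom) = algebraMap (SGA1.kummerAlg A f n) BF := by
      refine Ideal.Quotient.ringHom_ext (MvPolynomial.ringHom_ext (fun a => ?_) fun i => ?_)
      · simp [α, β0, ← IsScalarTower.algebraMap_apply A (SGA1.kummerAlg A f n) BF,
          IsScalarTower.algebraMap_apply A L Q, ← IsScalarTower.algebraMap_apply A L BF]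
        exact IsScalarTower.algebraMap_apply A (SGA1.kummerAlg A f n) BF a
      · simp [α, β0]
        exact aeval_X _ i
    refine AlgHom.coe_ringHom_injective (IsLocalization.ringHom_ext
      (Submonoid.powers (algebraMap A (SGA1.kummerAlg A f n) F)) (RingHom.ext fun b => ?_))
    simpa [β', hβB] using RingHom.congr_fun h0 b
  exact Algebra.Etale.of_equiv (AlgEquiv.ofAlgHom α β' hαβ hβα)

theorem etale_kummer_away (hunit : ∀ i, IsUnit ((n i : ℕ) : A)) (hn : ∀ i, 1 ≤ n i) :
    letI := (Localization.awayMap (algebraMap A (SGA1.kummerAlg A f n)) (∏ i, f i)).toAlgebra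
    Algebra.Etale (Localization.Away (∏ i, f i))
      (Localization.Away (algebraMap A (SGA1.kummerAlg A f n) (∏ i, f i))) := by
  letI := (Localization.awayMap (algebraMap A (SGA1.kummerAlg A f n)) (∏ i, f i)).toAlgebra
  have : IsScalarTower A (Localization.Away (∏ i, f i))
      (Localization.Away (algebraMap A (SGA1.kummerAlg A f n) (∏ i, f i))) :=
    IsScalarTower.of_algebraMap_eq fun a => by
      change _ = Localization.awayMap (algebraMap A (SGA1.kummerAlg A f n)) (∏ i, f i)
        (algebraMap A (Localization.Away (∏ i, f i)) a)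
      rw [Localization.awayMap, IsLocalization.Away.map, IsLocalization.map_eq]
      exact IsScalarTower.algebraMap_apply A (SGA1.kummerAlg A f n) _ a
  exact etale_kummer_away' f n hunit hn _ (fun i => Finset.dvd_prod_of_mem f (Finset.mem_univ i))
    (Localization.Away (∏ i, f i)) _

end

/-- Regularity and etaleness; the tameness assertion is not stated: Let A be a regular local ring, f_1,
…, f_r elements of the maximal ideal whose images in the cotangent space are linearly independent
(part of a regular system of parameters), and n_1, …, n_r ≥ 1. Then A' = A[T_1, …, T_r]/(T_i^{n_i} −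
f_i) is a regular local ring; and if each n_i is invertible in the residue field of A, then A'
becomes etale over A after inverting f_1 ⋯ f_r. -/
theorem result (A : Type u) [CommRing A] [IsRegularLocalRing A] (r : ℕ) (f : Fin r → A)
    (hm : ∀ i, f i ∈ maximalIdeal A)
    (hf : LinearIndependent (ResidueField A) (fun i => (maximalIdeal A).toCotangent ⟨f i, hm i⟩))
    (n : Fin r → ℕ) (hn : ∀ i, 1 ≤ n i) :
    IsRegularLocalRing (SGA1.kummerAlg A f n) ∧
    ((∀ i, IsUnit ((n i : ℕ) : ResidueField A)) →
      letI := (Localization.awayMap (algebraMap A (SGA1.kummerAlg A f n)) (∏ i, f i)).toAlgebra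
      Algebra.Etale (Localization.Away (∏ i, f i)) (Localization.Away (algebraMap A (SGA1.kummerAlg A f n) (∏ i, f i)))) := by
  refine ⟨regular_kummerAlg f n hm hf hn, fun hu => etale_kummer_away f n (fun i => ?_) hn⟩
  have := hu i
  rw [← map_natCast (IsLocalRing.residue A)] at this
  exact (isUnit_map_iff _ _).mp this

end Groth.Agent.S2921
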