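import Groth.Statements.S2924
import Groth.Agent.L27.KummerSNC.Tame
import Groth.Agent.L01.Regular

set_option autoImplicit false
set_option linter.style.haveILetI false
set_option backward.isDefEq.respectTransparency.types false
universe u
open IsLocalRing
open SGA1

namespace Groth.Agent.S2924

/-- Let A be a regular local ring, f_1, …, f_r part of a regular system of parameters and n_i ≥ 1
invertible in the residue field. Then the Kummer algebra A[T_1, …, T_r]/(T_i^{n_i} − f_i) is tamely
ramified along each f_i (at every point of its generic fibre, with respect to the discrete valuation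
rings A_{(f_i)}). -/
theorem result (A : Type u) [CommRing A] [IsRegularLocalRing A] [IsDomain A] (r : ℕ) (f : Fin r → A)
    (hm : ∀ i, f i ∈ maximalIdeal A)
    (hf : LinearIndependent (ResidueField A) (fun i => (maximalIdeal A).toCotangent ⟨f i, hm i⟩))
    [∀ i, (Ideal.span {f i}).IsPrime] (n : Fin r → ℕ) (hn : ∀ i, 1 ≤ n i) (hu : ∀ i, IsUnit ((n i : ℕ) : ResidueField A)) :
    SGA1.IsTameAlong f (algebraMap A (SGA1.kummerAlg A f n)) := by
  intro i q _ hq
  classical
  let P : Ideal A := Ideal.span {f i}
  let φ := algebraMap A (SGA1.kummerAlg A f n)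
  let g := SGA1.genericResidueMap φ P q hq
  let toL : SGA1.kummerAlg A f n →+* q.ResidueField := algebraMap _ _
  have hgA : ∀ a, g (algebraMap A (Localization.AtPrime P) a) = toL (φ a) := fun a => IsLocalization.lift_eq _ a
  have hfi0 : f i ≠ 0 := fun h => by
    apply hf.ne_zero i
    have : (⟨f i, hm i⟩ : maximalIdeal A) = 0 := Subtype.ext h
    simp [this]
  have hAinj : ∀ a, toL (φ a) = 0 → a = 0 := fun a h => by
    have h1 : φ a ∈ q := by
      rw [← Ideal.algebraMap_residueField_eq_zero]; exact h
    have h2 : a ∈ Ideal.comap φ q := h1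
    rw [hq] at h2
    exact h2
  have hginj : Function.Injective g := by
    rw [injective_iff_map_eq_zero]
    intro z hz
    obtain ⟨a, s, rfl⟩ := IsLocalization.exists_mk'_eq P.primeCompl z
    have h1 := congrArg g (IsLocalization.mk'_spec (Localization.AtPrime P) a s)
    rw [map_mul, hz, zero_mul, hgA] at h1
    rw [hAinj a h1.symm, IsLocalization.mk'_zero]
  have hmax : maximalIdeal (Localization.AtPrime P) = Ideal.span {algebraMap A _ (f i)} := by
    rw [← IsLocalization.AtPrime.map_eq_maximalIdeal P (Localization.AtPrime P), Ideal.map_span, Set.image_singleton]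
  haveI : IsDomain (Localization.AtPrime P) := IsLocalization.isDomain_of_local_atPrime (inferInstance : P.IsPrime)
  haveI : IsNoetherianRing (Localization.AtPrime P) := IsLocalization.isNoetherianRing P.primeCompl _ inferInstance
  haveI : IsDiscreteValuationRing (Localization.AtPrime P) := by
    have hne : ¬ IsField (Localization.AtPrime P) := fun h => by
      rw [isField_iff_maximalIdeal_eq, hmax, Ideal.span_singleton_eq_bot] at h
      exact hfi0 (IsLocalization.injective (Localization.AtPrime P) P.primeCompl_le_nonZeroDivisors (h.trans (map_zero _).symm))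
    exact ((IsDiscreteValuationRing.TFAE (Localization.AtPrime P) hne).out 4 0).1 (⟨⟨_, hmax⟩⟩ : (maximalIdeal (Localization.AtPrime P)).IsPrincipal)
  refine Groth.L27.KummerSNC.isTamelyRamified_of_kummer g hginj (ι := Fin r)
    (fun j => toL (Ideal.Quotient.mk _ (MvPolynomial.X j))) (fun j => algebraMap A _ (f j)) n
    (fun j => ?_) (fun j => ?_) i hmax (fun j hj => ?_) (fun x => ?_)
  · rw [hgA, ← map_pow, ← map_pow]
    exact congrArg toL (Ideal.Quotient.eq.2 (Ideal.subset_span ⟨j, rfl⟩))
  · rw [← map_natCast (algebraMap A (Localization.AtPrime P))]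
    exact ((isUnit_map_iff (residue A) _).1 (by rw [map_natCast]; exact hu j)).map _
  · refine IsLocalization.map_units (Localization.AtPrime P) (⟨f j, fun h => hj ?_⟩ : P.primeCompl)
    obtain ⟨c, hc⟩ := Ideal.mem_span_singleton'.1 h
    have h1 : (maximalIdeal A).toCotangent ⟨f j, hm j⟩ = c • (maximalIdeal A).toCotangent ⟨f i, hm i⟩ := by
      rw [← map_smul]; exact congrArg _ (Subtype.ext hc.symm)
    rw [← algebraMap_smul (ResidueField A) c] at h1
    by_contra hne
    have h2 := linearIndependent_iff'.1 hf {j, i} (fun k => if k = j then 1 else -(algebraMap A (ResidueField A) c))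
      (by rw [Finset.sum_pair hne, if_pos rfl, if_neg (Ne.symm hne), one_smul, neg_smul, ← sub_eq_add_neg, sub_eq_zero]; exact h1) j (by simp)
    simp at h2
  · obtain ⟨a, b, hb, rfl⟩ := IsFractionRing.div_surjective (SGA1.kummerAlg A f n ⧸ q) x
    obtain ⟨a, rfl⟩ := Ideal.Quotient.mk_surjective a
    obtain ⟨b, rfl⟩ := Ideal.Quotient.mk_surjective b
    obtain ⟨pa, rfl⟩ := Ideal.Quotient.mk_surjective a
    obtain ⟨pb, rfl⟩ := Ideal.Quotient.mk_surjective b
    have hev : ∀ p : MvPolynomial (Fin r) A, MvPolynomial.eval₂Hom g (fun j => toL (Ideal.Quotient.mk _ (MvPolynomial.X j))) (MvPolynomial.map (algebraMap A _) p) = toL (Ideal.Quotient.mk _ p) := by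
      intro p
      induction p using MvPolynomial.induction_on with
      | C r => rw [MvPolynomial.map_C, MvPolynomial.eval₂Hom_C, hgA]; rfl
      | add x y hx hy => rw [map_add, map_add, map_add, map_add, hx, hy]
      | mul_X x j hx => rw [map_mul, map_mul, map_mul, map_mul, hx, MvPolynomial.map_X, MvPolynomial.eval₂Hom_X']
    refine ⟨MvPolynomial.map (algebraMap A _) pa, MvPolynomial.map (algebraMap A _) pb, ?_, ?_⟩
    · rw [hev]
      intro h
      refine nonZeroDivisors.ne_zero hb (Ideal.Quotient.eq_zero_iff_mem.2 ?_)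
      rw [← Ideal.algebraMap_residueField_eq_zero]; exact h
    · rw [hev, hev]
      exact div_mul_cancel₀ _ (fun h => nonZeroDivisors.ne_zero hb (IsFractionRing.injective (SGA1.kummerAlg A f n ⧸ q) q.ResidueField (h.trans (map_zero _).symm)))

end Groth.Agent.S2924
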