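import Groth.Statements.S2932
import Groth.Agent.L18.LocPicCI
import Groth.Agent.S0564
import Groth.Agent.S2823

set_option autoImplicit false
set_option linter.style.haveILetI false
set_option backward.isDefEq.respectTransparency.types false
set_option backward.isDefEq.respectTransparency false
universe u
open ParaF AlgebraicGeometry

namespace Groth.Agent.S2932

theorem transport {R S : Type u} [CommRing R] [CommRing S] (e : R ≃+* S)
    (h : IsDomain R ∧ UniqueFactorizationMonoid R) : IsDomain S ∧ UniqueFactorizationMonoid S := by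
  obtain ⟨hd, hu⟩ := h
  haveI := hd
  exact ⟨MulEquiv.isDomain R e.symm.toMulEquiv, MulEquiv.uniqueFactorizationMonoid e.toMulEquiv hu⟩

/-- A localisation of a quotient by a weakly regular sequence is again one. -/
theorem localization_presentation {B A : Type u} [CommRing B] [CommRing A] (rs : List B)
    (hreg : RingTheory.Sequence.IsWeaklyRegular B rs) (π : B →+* A) (hπ : Function.Surjective π)
    (hker : RingHom.ker π = Ideal.ofList rs) (q : Ideal A) [q.IsPrime] :
    ∃ g : Localization.AtPrime (q.comap π) →+* Localization.AtPrime q, Function.Surjective g ∧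
      RingHom.ker g = Ideal.ofList (rs.map (algebraMap B (Localization.AtPrime (q.comap π)))) ∧
      RingTheory.Sequence.IsWeaklyRegular (Localization.AtPrime (q.comap π))
        (rs.map (algebraMap B (Localization.AtPrime (q.comap π)))) ∧
      ∀ x ∈ rs.map (algebraMap B (Localization.AtPrime (q.comap π))),
        x ∈ IsLocalRing.maximalIdeal (Localization.AtPrime (q.comap π)) := by
  let Q := q.comap π
  let g : Localization.AtPrime Q →+* Localization.AtPrime q := Localization.localRingHom Q q _ rfl
  refine ⟨g, ?_, ?_, hreg.of_flat, ?_⟩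
  · intro z
    obtain ⟨a, ⟨s, hs⟩, rfl⟩ := IsLocalization.exists_mk'_eq q.primeCompl z
    obtain ⟨a, rfl⟩ := hπ a
    obtain ⟨s, rfl⟩ := hπ s
    exact ⟨IsLocalization.mk' _ a (⟨s, hs⟩ : Q.primeCompl), Localization.localRingHom_mk' Q q _ rfl a ⟨s, hs⟩⟩
  · rw [← Ideal.map_ofList]
    refine le_antisymm (fun z hz => ?_) (Ideal.map_le_iff_le_comap.mpr fun x hx => ?_)
    · obtain ⟨c, ⟨s, hs⟩, rfl⟩ := IsLocalization.exists_mk'_eq Q.primeCompl z
      rw [RingHom.mem_ker, Localization.localRingHom_mk', IsLocalization.mk'_eq_zero_iff] at hz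
      obtain ⟨⟨t, ht⟩, htc⟩ := hz
      obtain ⟨t, rfl⟩ := hπ t
      rw [IsLocalization.mk'_mem_map_algebraMap_iff Q.primeCompl]
      refine ⟨t, ht, ?_⟩
      rw [← hker, RingHom.mem_ker, map_mul]
      exact htc
    · rw [← hker, RingHom.mem_ker] at hx
      rw [Ideal.mem_comap, RingHom.mem_ker, Localization.localRingHom_to_map, hx, map_zero]
  · intro x hx
    obtain ⟨y, hy, rfl⟩ := List.mem_map.1 hx
    refine (IsLocalization.AtPrime.to_map_mem_maximal_iff _ Q y).2 ?_
    have hy' : y ∈ RingHom.ker π := hker ▸ Ideal.subset_span (s := {z | z ∈ rs}) hy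
    show π y ∈ q
    rw [RingHom.mem_ker.1 hy']
    exact zero_mem _


/-- Let A be a Noetherian local ring which is a complete intersection (a quotient of a regular local
ring by a regular sequence) and which is factorial in codimension ≤ 3: for every prime p with dim
A_p ≤ 3 the local ring A_p is a factorial domain. Then A is a factorial domain. -/
theorem result (A : Type u) [CommRing A] [IsLocalRing A] [IsNoetherianRing A] (hA : SGA2.IsAbsCompleteIntersection A) (h : ∀ p : PrimeSpectrum A, ringKrullDim (Localization.AtPrime p.asIdeal) ≤ 3 → IsDomain (Localization.AtPrime p.asIdeal) ∧ UniqueFactorizationMonoid (Localization.AtPrime p.asIdeal)) : IsDomain A ∧ UniqueFactorizationMonoid A := by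
  obtain ⟨B, _, hB, rs, hrs, hreg, ⟨e⟩⟩ := hA
  haveI := hB
  let π : B →+* A := e.symm.toRingHom.comp (Ideal.Quotient.mk _)
  have hπ : Function.Surjective π := e.symm.surjective.comp Ideal.Quotient.mk_surjective
  have hker : RingHom.ker π = Ideal.ofList rs := by
    ext x
    rw [RingHom.mem_ker]
    exact (map_eq_zero_iff _ e.symm.injective).trans Ideal.Quotient.eq_zero_iff_mem
  suffices H : ∀ (n : ℕ) (p : PrimeSpectrum A), p.asIdeal.height ≤ n →
      IsDomain (Localization.AtPrime p.asIdeal) ∧ UniqueFactorizationMonoid (Localization.AtPrime p.asIdeal) by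
    obtain ⟨n, hn⟩ := ENat.ne_top_iff_exists.1 (Ideal.height_ne_top (IsLocalRing.maximalIdeal.isMaximal A).ne_top)
    refine transport ?_ (H n (IsLocalRing.closedPoint A) hn.ge)
    have e : A ≃+* Localization.AtPrime (IsLocalRing.maximalIdeal A) :=
      (IsLocalization.atUnits A (IsLocalRing.maximalIdeal A).primeCompl
        (fun a ha => IsLocalRing.notMem_maximalIdeal.1 ha)).toRingEquiv
    exact e.symm
  intro n
  induction n with
  | zero =>
    intro p hp
    refine h p ?_
    rw [IsLocalization.AtPrime.ringKrullDim_eq_height p.asIdeal (Localization.AtPrime p.asIdeal)]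
    exact le_trans (WithBot.coe_le_coe.2 hp) (by norm_num)
  | succ n ih =>
    intro p hp
    by_cases h3 : ringKrullDim (Localization.AtPrime p.asIdeal) ≤ 3
    · exact h p h3
    have h4 : (4 : WithBot ℕ∞) ≤ ringKrullDim (Localization.AtPrime p.asIdeal) := by
      rw [IsLocalization.AtPrime.ringKrullDim_eq_height p.asIdeal (Localization.AtPrime p.asIdeal)] at h3 ⊢
      revert h3
      generalize p.asIdeal.height = m
      intro h3
      have hm : (3 : ℕ∞) < m := lt_of_not_ge fun hh => h3 (WithBot.coe_le_coe.2 hh)
      exact WithBot.coe_le_coe.2 (show (4 : ℕ∞) ≤ m from Order.add_one_le_of_lt hm)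
    let q := p.asIdeal
    haveI : IsRegularLocalRing (Localization.AtPrime (q.comap π)) := Groth.Agent.S0564.result B (q.comap π)
    haveI : IsNoetherianRing (Localization.AtPrime q) := IsLocalization.isNoetherianRing q.primeCompl _ inferInstance
    obtain ⟨g, hg, hgk, hgreg, hgm⟩ := localization_presentation rs hreg.toIsWeaklyRegular π hπ hker q
    refine (Groth.Agent.S2823.result (Localization.AtPrime q) (le_trans (by norm_num) h4)).2 ⟨?_, ?_, ?_⟩
    · exact fun L hL => Groth.L18.LocPic.picTrivial_ci _ _ (Localization.AtPrime q) _ rfl hgm hgreg g hg hgk h4 L hL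
    · exact Groth.L18.LocPic.le_depth_of_le_dim _ hgm hgreg g hg hgk (k := 2) (le_trans (by norm_num) h4)
    · intro y hy
      let Ap := Localization.AtPrime q
      let Y : PrimeSpectrum Ap := y
      let p' : PrimeSpectrum A := PrimeSpectrum.comap (algebraMap A Ap) Y
      have hlt : Y.asIdeal < IsLocalRing.maximalIdeal Ap :=
        lt_of_le_of_ne (IsLocalRing.le_maximalIdeal Y.2.ne_top) fun hh => hy (PrimeSpectrum.ext hh)
      have hle : p'.asIdeal.height ≤ n := by
        have hh1 : p'.asIdeal.height = Y.asIdeal.height := IsLocalization.height_comap q.primeCompl Y.asIdeal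
        have hh2 : (IsLocalRing.maximalIdeal Ap).height = q.height := by
          rw [← IsLocalization.height_comap q.primeCompl (IsLocalRing.maximalIdeal Ap)]
          congr 1
          exact IsLocalization.AtPrime.comap_maximalIdeal Ap q
        haveI : (IsLocalRing.maximalIdeal Ap).FiniteHeight :=
          ⟨Or.inr (hh2.trans_ne (Ideal.height_ne_top p.2.ne_top))⟩
        have hh3 := (Ideal.height_strict_mono_of_isPrime hlt).trans_le (hh2.le.trans hp)
        rw [hh1]
        exact Order.le_of_lt_succ (by simpa using hh3)
      let St := (Spec (CommRingCat.of Ap)).presheaf.stalk y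
      letI : Algebra Ap St := (Groth.L00.KFlat.toStalk (CommRingCat.of Ap) y).toAlgebra
      haveI : IsLocalization.AtPrime St Y.asIdeal := Groth.L29.DC.TorTest.isLocalization_toStalk y
      haveI : IsLocalization.AtPrime (Localization.AtPrime Y.asIdeal) p'.asIdeal :=
        IsLocalization.isLocalization_isLocalization_atPrime_isLocalization q.primeCompl _ Y.asIdeal
      have e : Localization.AtPrime p'.asIdeal ≃+* St :=
        (IsLocalization.algEquiv p'.asIdeal.primeCompl (Localization.AtPrime p'.asIdeal)
          (Localization.AtPrime Y.asIdeal)).toRingEquiv.trans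
          (IsLocalization.algEquiv Y.asIdeal.primeCompl (Localization.AtPrime Y.asIdeal) St).toRingEquiv
      exact transport e (ih p' hle)

end Groth.Agent.S2932
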