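import Groth.Statements.S2933
import Groth.Agent.S0335

set_option autoImplicit false
universe u
open LocCoh

namespace Groth.Agent.S2933

theorem isChain_mem {A : Type*} [CommRing A] {d : ℕ} {a : PrimeSpectrum A} {t : List (PrimeSpectrum A)}
    (h : List.IsChain (fun p q : PrimeSpectrum A => q.asIdeal ∈ minimalPrimes A ∧
      ∃ r : PrimeSpectrum A, p ≤ r ∧ q ≤ r ∧ r.asIdeal.height ≤ (d - 1 : ℕ)) (a :: t)) :
    ∀ p ∈ t, p.asIdeal ∈ minimalPrimes A := by
  induction t generalizing a with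
  | nil => simp
  | cons b t ih =>
    rw [List.isChain_cons_cons] at h
    intro p hp
    rcases List.mem_cons.1 hp with rfl | hp'
    · exact h.1.1
    · exact ih h.2 p hp'

/-- Let A be a Noetherian ring with connected spectrum and d ≥ 1 an integer such that every prime p with
dim A_p ≥ d has depth A_p ≥ 2. Then for any two minimal primes p', p'' of A there is a finite
sequence of minimal primes starting at p' and ending at p'' such that any two consecutive members
are both contained in some prime of height at most d − 1 (Spec A is connected in codimension d − 1). -/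
theorem result (A : Type u) [CommRing A] [IsNoetherianRing A] [ConnectedSpace (PrimeSpectrum A)] (d : ℕ) (hd : 1 ≤ d) (h : ∀ p : PrimeSpectrum A, (d : ℕ∞) ≤ p.asIdeal.height → (2 : ℕ∞) ≤ LocCoh.depth (Localization.AtPrime p.asIdeal) (Localization.AtPrime p.asIdeal)) (p' p'' : PrimeSpectrum A) (hp' : p'.asIdeal ∈ minimalPrimes A) (hp'' : p''.asIdeal ∈ minimalPrimes A) : ∃ l : List (PrimeSpectrum A), l.head? = some p' ∧ l.getLast? = some p'' ∧ (∀ p ∈ l, p.asIdeal ∈ minimalPrimes A) ∧ List.IsChain (fun p q => ∃ r : PrimeSpectrum A, p ≤ r ∧ q ≤ r ∧ r.asIdeal.height ≤ (d - 1 : ℕ)) l := by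

    classical
    let Rel : PrimeSpectrum A → PrimeSpectrum A → Prop := fun p q =>
      q.asIdeal ∈ minimalPrimes A ∧ ∃ r : PrimeSpectrum A, p ≤ r ∧ q ≤ r ∧ r.asIdeal.height ≤ (d - 1 : ℕ)
    suffices hreach : Relation.ReflTransGen Rel p' p'' by
      obtain ⟨l, hne, hl, hh, hla⟩ := List.exists_isChain_ne_nil_of_relationReflTransGen hreach
      have hall : ∀ p ∈ l, p.asIdeal ∈ minimalPrimes A := by
        intro p hp
        rcases List.exists_cons_of_ne_nil hne with ⟨a, t, rfl⟩
        simp only [List.head_cons] at hh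
        subst hh
        rcases List.mem_cons.1 hp with rfl | hp'
        · exact hp'
        · exact isChain_mem hl p hp'
      refine ⟨l, ?_, ?_, hall, hl.imp fun p q hpq => hpq.2⟩
      · rw [List.head?_eq_some_head hne, hh]
      · rw [List.getLast?_eq_some_getLast hne, hla]
    by_contra hnot
    have hfin := minimalPrimes.finite_of_isNoetherianRing A
    set C : Set (PrimeSpectrum A) := {p | p.asIdeal ∈ minimalPrimes A ∧ Relation.ReflTransGen Rel p' p}
    set C' : Set (PrimeSpectrum A) := {p | p.asIdeal ∈ minimalPrimes A ∧ ¬ Relation.ReflTransGen Rel p' p}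
    have hfinC : ∀ S : Set (PrimeSpectrum A), (∀ p ∈ S, p.asIdeal ∈ minimalPrimes A) →
        IsClosed (⋃ p ∈ S, PrimeSpectrum.zeroLocus (p.asIdeal : Set A)) := fun S hS =>
      ((hfin.preimage (fun x _ y _ h => PrimeSpectrum.ext h)).subset hS).isClosed_biUnion
        fun p _ => PrimeSpectrum.isClosed_zeroLocus _
    set Z := ⋃ p ∈ C, PrimeSpectrum.zeroLocus (p.asIdeal : Set A)
    set Z' := ⋃ p ∈ C', PrimeSpectrum.zeroLocus (p.asIdeal : Set A)
    have hcov : ∀ q : PrimeSpectrum A, q ∈ Z ∪ Z' := fun q => by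
      obtain ⟨m, hm, hmq⟩ := Ideal.exists_minimalPrimes_le (bot_le : (⊥ : Ideal A) ≤ q.asIdeal)
      let pm : PrimeSpectrum A := ⟨m, hm.1.1⟩
      by_cases hr : Relation.ReflTransGen Rel p' pm
      · exact Or.inl (Set.mem_biUnion (x := pm) ⟨hm, hr⟩ hmq)
      · exact Or.inr (Set.mem_biUnion (x := pm) ⟨hm, hr⟩ hmq)
    have hZ : (Set.univ ∩ Z).Nonempty :=
      ⟨p', trivial, Set.mem_biUnion (x := p') ⟨hp', Relation.ReflTransGen.refl⟩ (fun _ h => h)⟩
    have hZ' : (Set.univ ∩ Z').Nonempty :=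
      ⟨p'', trivial, Set.mem_biUnion (x := p'') ⟨hp'', hnot⟩ (fun _ h => h)⟩
    obtain ⟨q₀, -, hq₀⟩ := isPreconnected_closed_iff.1 isPreconnected_univ Z Z'
      (hfinC C fun p hp => hp.1) (hfinC C' fun p hp => hp.1) (fun q _ => hcov q) hZ hZ'
    obtain ⟨r, hr, hrmin⟩ := (InvImage.wf (fun q : PrimeSpectrum A => q.asIdeal.height) wellFounded_lt).has_min
      (Z ∩ Z') ⟨q₀, hq₀⟩
    obtain ⟨a, ha, har⟩ := Set.mem_iUnion₂.1 hr.1
    obtain ⟨b, hb, hbr⟩ := Set.mem_iUnion₂.1 hr.2
    have hdr : (d : ℕ∞) ≤ r.asIdeal.height := by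
      by_contra hlt
      push Not at hlt
      refine hb.2 (ha.2.tail ⟨hb.1, r, har, hbr, ?_⟩)
      obtain ⟨k, hk⟩ := ENat.ne_top_iff_exists.1 hlt.ne_top
      rw [← hk, Nat.cast_lt] at hlt
      rw [← hk, Nat.cast_le]
      omega
    obtain ⟨hne, hpre⟩ := Groth.Agent.S0335.result (Localization.AtPrime r.asIdeal) (h r hdr)
    let φ := PrimeSpectrum.comap (algebraMap A (Localization.AtPrime r.asIdeal))
    have hlift : ∀ s : PrimeSpectrum A, s ≤ r → s ≠ r → ∃ t : PrimeSpectrum (Localization.AtPrime r.asIdeal),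
        t.asIdeal ≠ IsLocalRing.maximalIdeal _ ∧ φ t = s := fun s hs hsr => by
      obtain ⟨t, ht⟩ : s ∈ Set.range φ := by
        rw [PrimeSpectrum.localization_comap_range (Localization.AtPrime r.asIdeal) r.asIdeal.primeCompl]
        exact Set.disjoint_left.2 fun x hx hxs => hx (hs hxs)
      refine ⟨t, fun htm => hsr ?_, ht⟩
      rw [← ht]
      refine PrimeSpectrum.ext ?_
      show Ideal.comap _ t.asIdeal = r.asIdeal
      rw [htm]
      exact Localization.AtPrime.comap_maximalIdeal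
    have har' : a ≠ r := by
      rintro rfl
      have : b.asIdeal = a.asIdeal := le_antisymm hbr (ha.1.2 ⟨b.2, bot_le⟩ hbr)
      exact hb.2 ((PrimeSpectrum.ext this : b = a) ▸ ha.2)
    have hbr' : b ≠ r := by
      rintro rfl
      have : a.asIdeal = b.asIdeal := le_antisymm har (hb.1.2 ⟨a.2, bot_le⟩ har)
      exact hb.2 ((PrimeSpectrum.ext this : a = b) ▸ ha.2)
    obtain ⟨ta, hta, htaa⟩ := hlift a har har'
    obtain ⟨tb, htb, htbb⟩ := hlift b hbr hbr'
    have hcont : Continuous φ := PrimeSpectrum.continuous_comap _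
    obtain ⟨t, ht, htZ, htZ'⟩ := isPreconnected_closed_iff.1 hpre (φ ⁻¹' Z) (φ ⁻¹' Z')
      ((hfinC C fun p hp => hp.1).preimage hcont) ((hfinC C' fun p hp => hp.1).preimage hcont)
      (fun t _ => hcov (φ t))
      ⟨ta, hta, (htaa ▸ Set.mem_biUnion (x := a) ha (fun _ h => h) : φ ta ∈ Z)⟩
      ⟨tb, htb, (htbb ▸ Set.mem_biUnion (x := b) hb (fun _ h => h) : φ tb ∈ Z')⟩
    have hle : (φ t).asIdeal ≤ r.asIdeal := by
      have := Ideal.comap_mono (f := algebraMap A (Localization.AtPrime r.asIdeal))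
        (IsLocalRing.le_maximalIdeal t.2.ne_top)
      exact this.trans (le_of_eq Localization.AtPrime.comap_maximalIdeal)
    have hlt : (φ t).asIdeal < r.asIdeal := lt_of_le_of_ne hle fun he => ht (by
      rw [← IsLocalization.map_under r.asIdeal.primeCompl (Localization.AtPrime r.asIdeal) t.asIdeal]
      show Ideal.map _ (φ t).asIdeal = _
      rw [he]
      exact Localization.AtPrime.map_eq_maximalIdeal)
    exact hrmin (φ t) ⟨htZ, htZ'⟩ (Ideal.height_strict_mono_of_isPrime_of_isPrime hlt)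

end Groth.Agent.S2933
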