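import Groth.Statements.S2936
import Groth.Agent.L04.Canon.TopDualAss

set_option autoImplicit false
universe u
open LocCoh

namespace Groth.Agent.S2936

/-- (iii), for a complete local ring. Let A be a complete Noetherian local ring with maximal ideal m, κ
→ E an injective hull of the residue field, and M a nonzero finite A-module whose support has
dimension n. Then for every i the A-module Hom_A(H^i_m(M), E) is finite with support of dimension at
most i; for i = n its support has dimension exactly n and its associated primes are exactly the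
associated primes p of M with dim A/p = n. -/
theorem result (A : Type u) [CommRing A] [IsLocalRing A] [IsNoetherianRing A] [IsAdicComplete (IsLocalRing.maximalIdeal A) A] (E : Type u) [AddCommGroup E] [Module A E] (f : IsLocalRing.ResidueField A →ₗ[A] E) (hf : InjHull.IsInjectiveHull f) (M : Type u) [AddCommGroup M] [Module A M] [Module.Finite A M] [Nontrivial M] (n : ℕ) (hn : Module.supportDim A M = n) : (∀ i : ℕ, Module.Finite A (LocCoh.H (IsLocalRing.maximalIdeal A) i M →ₗ[A] E) ∧ Module.supportDim A (LocCoh.H (IsLocalRing.maximalIdeal A) i M →ₗ[A] E) ≤ (i : WithBot ℕ∞)) ∧ Module.supportDim A (LocCoh.H (IsLocalRing.maximalIdeal A) n M →ₗ[A] E) = n ∧ associatedPrimes A (LocCoh.H (IsLocalRing.maximalIdeal A) n M →ₗ[A] E) = {p | p ∈ associatedPrimes A M ∧ ringKrullDim (A ⧸ p) = n} := by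

    set a := Module.annihilator A M with ha
    have hne : a ≠ ⊤ := fun h => not_subsingleton M (Module.annihilator_eq_top_iff.1 h)
    haveI := Groth.L01.isLocalRing_quotient hne
    haveI := Groth.L01.NagataComplete.isAdicComplete_quotient a
    have hg : Function.Surjective (algebraMap A (A ⧸ a)) := Ideal.Quotient.mk_surjective
    have hd : ringKrullDim (A ⧸ a) = n :=
      (Module.supportDim_eq_ringKrullDim_quotient_annihilator (R := A) (M := M)).symm.trans hn
    letI : Module (A ⧸ a) M :=
      Module.IsTorsionBySet.module (fun x r => Module.mem_annihilator.1 r.2 x : Module.IsTorsionBySet A M (a : Set A))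
    haveI : IsScalarTower A (A ⧸ a) M := IsScalarTower.of_algebraMap_smul fun _ _ => rfl
    haveI : Module.Finite (A ⧸ a) M := Module.Finite.of_restrictScalars_finite A (A ⧸ a) M
    obtain ⟨EC, _, _, _, _, ev, hev⟩ := Groth.L04.Canon.exists_coind (R := A ⧸ a) hg E
    obtain ⟨g, hgh⟩ := Groth.L04.Canon.exists_isInjectiveHull_coind hg hev hf
    obtain ⟨hfd, hass⟩ := Groth.L04.Canon.dual_H_props hd hgh M
    have key : ∀ i : ℕ, Module.Finite A (LocCoh.H (IsLocalRing.maximalIdeal A) i M →ₗ[A] E) ∧
        Module.supportDim A (LocCoh.H (IsLocalRing.maximalIdeal A) i M →ₗ[A] E) ≤ (i : WithBot ℕ∞) := fun i => by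
      obtain ⟨e⟩ := Groth.L04.Canon.nonempty_dual_H_restrict hg hf hgh i M
      haveI := (hfd i).1
      haveI : Module.Finite A (A ⧸ a) := Module.Finite.of_surjective (Algebra.linearMap A (A ⧸ a)) hg
      haveI : Module.Finite A (LocCoh.H (IsLocalRing.maximalIdeal (A ⧸ a)) i M →ₗ[A ⧸ a] EC) :=
        Module.Finite.trans (A ⧸ a) _
      refine ⟨Module.Finite.equiv e, ?_⟩
      rw [← Module.supportDim_eq_of_equiv e, Groth.L04.Canon.supportDim_restrict hg]
      exact (hfd i).2
    obtain ⟨e⟩ := Groth.L04.Canon.nonempty_dual_H_restrict hg hf hgh n M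
    have hAss : associatedPrimes A (LocCoh.H (IsLocalRing.maximalIdeal A) n M →ₗ[A] E) =
        {p | p ∈ associatedPrimes A M ∧ ringKrullDim (A ⧸ p) = n} := by
      ext p
      rw [← LinearEquiv.AssociatedPrimes.eq e, Groth.L04.Canon.mem_associatedPrimes_restrict hg, hass]
      constructor
      · rintro ⟨P, ⟨hP, hPd⟩, rfl⟩
        exact ⟨(Groth.L04.Canon.mem_associatedPrimes_restrict hg _).2 ⟨P, hP, rfl⟩,
          (Groth.L04.Canon.ringKrullDim_quotient_comap' hg P).trans hPd⟩
      · rintro ⟨hp, hpd⟩
        obtain ⟨P, hP, rfl⟩ := (Groth.L04.Canon.mem_associatedPrimes_restrict hg p).1 hp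
        exact ⟨P, ⟨hP, (Groth.L04.Canon.ringKrullDim_quotient_comap' hg P).symm.trans hpd⟩, rfl⟩
    refine ⟨key, le_antisymm (key n).2 ?_, hAss⟩
    haveI := Groth.L04.LC.nontrivial_H_supportDim M n hn
    haveI : Nontrivial (LocCoh.H (IsLocalRing.maximalIdeal A) n M →ₗ[A] E) := by
      refine not_subsingleton_iff_nontrivial.1 fun h => ?_
      exact not_subsingleton (LocCoh.H (IsLocalRing.maximalIdeal A) n M)
        (Groth.L04.Canon.subsingleton_of_subsingleton_dual hf)
    haveI := (key n).1
    obtain ⟨p, hp⟩ := associatedPrimes.nonempty A (LocCoh.H (IsLocalRing.maximalIdeal A) n M →ₗ[A] E)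
    have hpd : ringKrullDim (A ⧸ p) = n := by
      rw [hAss] at hp
      exact hp.2
    exact hpd.ge.trans (Groth.L04.ringKrullDim_quotient_le_supportDim hp)

end Groth.Agent.S2936
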