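import Groth.Statements.S2937
import Groth.Agent.L20.PureDescent

set_option autoImplicit false
universe u
open CategoryTheory AlgebraicGeometry
open Pi1

set_option backward.isDefEq.respectTransparency.types false
set_option linter.style.haveILetI false

namespace Groth.Agent.S2937

/-- Let X be a locally Noetherian scheme and U an open subscheme such that O_X → i_*O_U is an
isomorphism, equivalently, every local ring of X at a point outside U has depth ≥ 2. Let f : X_1 → X
be faithfully flat and quasi-compact. If the pair (X_1, X_1 − f⁻¹U) is pure (restriction of finite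
étale covers from every open V to V ∩ f⁻¹U is an equivalence), then so is (X, X − U). -/
theorem result (X X₁ : Scheme.{u}) [IsLocallyNoetherian X] (U : X.Opens) (hU : ∀ x : X, x ∉ U → (2 : ℕ∞) ≤ LocCoh.depth (X.presheaf.stalk x) (X.presheaf.stalk x)) (f : X₁ ⟶ X) [Flat f] [Surjective f] [QuasiCompact f] (h : SGA2.IsPurePair X₁ (f ⁻¹ᵁ U)) : SGA2.IsPurePair X U := by
  intro V
  have : (FEt.restrict (X₁.homOfLE (inf_le_left : f ⁻¹ᵁ V ⊓ f ⁻¹ᵁ U ≤ f ⁻¹ᵁ V))).IsEquivalence :=
    h (f ⁻¹ᵁ V)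
  have : Surjective (f ∣_ V) :=
    IsZariskiLocalAtTarget.restrict (P := @Surjective) ‹Surjective f› V
  exact Groth.L20.PureDescent.isEquivalence_restrict hU (p := f ∣_ V)
    (p₀ := f.resLE (V ⊓ U) (f ⁻¹ᵁ V ⊓ f ⁻¹ᵁ U) le_rfl)
    (j₁ := X₁.homOfLE (inf_le_left : f ⁻¹ᵁ V ⊓ f ⁻¹ᵁ U ≤ f ⁻¹ᵁ V))
    (IsOpenImmersion.isPullback _ _ _ _ (by
      rw [← cancel_mono V.ι, Category.assoc, Category.assoc, Scheme.homOfLE_ι,
        morphismRestrict_ι, Scheme.homOfLE_ι_assoc, Scheme.Hom.resLE_comp_ι]) (by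
      rw [Scheme.opensRange_homOfLE, Scheme.opensRange_homOfLE]
      refine TopologicalSpace.Opens.ext (Set.ext fun x => ?_)
      show V.ι ((f ∣_ V) x) ∈ V ⊓ U ↔ _
      rw [← Scheme.Hom.comp_apply, morphismRestrict_ι]
      exact Iff.rfl)).flip

end Groth.Agent.S2937
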