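import Groth.Statements.S2942
import Groth.Agent.L18.NegVanishField
-- import your own Groth.Agent.* helpers here

set_option autoImplicit false
set_option backward.isDefEq.respectTransparency.types false
set_option backward.isDefEq.respectTransparency false
universe u
open CategoryTheory AlgebraicGeometry
open Lef

namespace Groth.Agent.S2942

/-- Over a field and for the structure sheaf. Let k be a field and X a proper k-scheme; let 𝓘 be a
quasi-coherent ideal sheaf whose ideal module is invertible with an ample inverse L (so 𝓘 defines an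
effective Cartier divisor Y with O_X(Y) = L ample), and suppose that at every closed point x the
local ring O_{X,x} has depth greater than n. Then there is m₀ such that for all m ≥ m₀ the map
H^i(X, O_X) → H^i(X, O_X/𝓘^{m+1}) induced by the quotient map is bijective for every i < n and
injective for i = n. -/
theorem result (k : Type u) [Field k] (X : Scheme.{u}) [X.Over (Spec (CommRingCat.of k))] [IsProper (X ↘ (Spec (CommRingCat.of k)))] (𝓘 : X.IdealSheafData) (L : X.Modules) (hL : ClSub.IsInverseOf L (ClSub.idealMod 𝓘)) (hamp : CohB1.IsAmple L) (n : ℕ) (hdepth : ∀ x : X, IsClosed ({x} : Set X) → (n : ℕ∞) < LocCoh.depth (X.presheaf.stalk x) (X.presheaf.stalk x)) : ∃ m₀ : ℕ, ∀ m : ℕ, m₀ ≤ m → (∀ i : ℕ, i < n → Function.Bijective (Sheaf.H.map ((SheafOfModules.toSheaf X.ringCatSheaf).map (ClSub.toSubscheme (𝓘 ^ (m + 1)))) i)) ∧ Function.Injective (Sheaf.H.map ((SheafOfModules.toSheaf X.ringCatSheaf).map (ClSub.toSubscheme (𝓘 ^ (m + 1)))) n) := by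
  let f := X ↘ (Spec (CommRingCat.of k))
  haveI := Groth.L18.NegVanish.flat_specField f
  haveI : IsLocallyNoetherian X := LocallyOfFiniteType.isLocallyNoetherian f
  obtain ⟨e⟩ := id hL
  have hI : PicF.IsInvertible (ClSub.idealMod 𝓘) := Groth.L22.EnrSev.isInvertible_of_inverse hamp.1 e
  have hO := Groth.L18.Ample.isInvertible_structureModule X
  obtain ⟨m₀, hm₀⟩ := Groth.L18.NegVanish.exists_vanish f hamp e (Groth.L18.Ample.isCoh_of_isInvertible hO)
    (Groth.L16.EtaleFibre.isFlatOver_structure f) n (fun x hx => by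
      rw [Groth.L18.NegVanish.sdep_field, Groth.L18.LefTwists.depth_stalk_invertible hO x, ENat.coe_add, ENat.coe_one]
      exact Order.add_one_le_of_lt (hdepth x hx))
  refine ⟨m₀, fun m hm => ?_⟩
  obtain ⟨-, ⟨ε⟩⟩ := Groth.L13.PointBlow.nonempty_idealMod_pow hI (m + 1)
  have hv : ∀ q, q ≤ n → Subsingleton (Coh.HH X (ClSub.idealMod (𝓘 ^ (m + 1))) q) := fun q hq =>
    Groth.L22.EnrSev.subsingleton_of_iso (Groth.L00.Tensor.tensorUnitLeft _ ≪≫ ε.symm) q
      (hm₀ (m + 1) (by omega) q hq)
  have hS := Groth.L18.LefTwists.shortExact_ideal (𝓘 ^ (m + 1))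
  have hinj : ∀ q, q ≤ n → Function.Injective
      (Groth.L16.CohLinear.hmap (ClSub.toSubscheme (𝓘 ^ (m + 1))) q) := fun q hq => by
    rw [injective_iff_map_eq_zero]
    intro x hx
    obtain ⟨z, rfl⟩ := (Groth.L16.CohLinear.exact_hmap_hmap hS q x).1 hx
    haveI := hv q hq
    rw [Subsingleton.elim z 0, map_zero]
  refine ⟨fun i hi => ⟨hinj i hi.le, fun b => ?_⟩, hinj n le_rfl⟩
  exact (Groth.L16.CohLinear.exact_hmap_delta hS i b).1 (@Subsingleton.elim _ (hv (i + 1) hi) _ _)


end Groth.Agent.S2942
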