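import Groth.Statements.S2953
import Groth.Agent.L24.RootD.Weyl

set_option autoImplicit false
open RootPairing
open scoped Pointwise
universe u
open RootD

namespace Groth.Agent.S2953

/-- For a finite crystallographic reduced root pairing with a base b: an element of the Weyl group which
maps positive roots (relative to b) to positive roots is the identity. -/
theorem result {ι R M N : Type*} [CommRing R] [CharZero R] [IsDomain R] [AddCommGroup M] [Module R M]
    [AddCommGroup N] [Module R N] (P : RootPairing ι R M N) [Finite ι] [P.IsCrystallographic] [P.IsReduced]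
    (b : P.Base) (g : P.Aut) (hg : g ∈ P.weylGroup) (hpos : ∀ i, b.IsPos i → b.IsPos (g • i)) : g = 1 := by
  have hΔ' := Groth.L24.RootD.IsSimple.of_base b
  refine hΔ'.eq_one_of_weyl hg fun i hi => ?_
  have hp := hpos i (RootPairing.Base.isPos_of_mem_support hi)
  rcases hΔ'.cover_pos (g • i) with h | h
  · exact h
  · exfalso
    obtain ⟨l, hl, hlk⟩ := Groth.L24.RootD.mem_natSpan_iff.1 h
    classical
    obtain ⟨c, hc, hc0, hck⟩ := Groth.L24.RootD.exists_comb_of_mem_natSpan h
    have e : P.root (g • i) = ∑ j ∈ b.support, (-c) j • P.root j := by
      rw [Groth.L24.RootD.root_neg] at hck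
      rw [← neg_neg (P.root (g • i)), ← hck, Groth.L24.RootD.comb, Finsupp.linearCombination_apply,
        Finsupp.sum_of_support_subset c (s := b.support) (by exact_mod_cast hc) _ (by simp),
        ← Finset.sum_neg_distrib]
      simp
    rw [RootPairing.Base.isPos_iff, RootPairing.Base.height_eq_sum e] at hp
    exact absurd (Finset.sum_nonpos fun j _ => by simpa using hc0 j) (not_le.2 hp)

end Groth.Agent.S2953
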