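import Groth.Statements.S2955


set_option autoImplicit false
open RootPairing
open scoped Pointwise Classical
universe u
open RootD

namespace Groth.Agent.S2955

/-- Let P be a finite crystallographic reduced root pairing over a domain of characteristic zero, with a
base b, and write 2ρ for the sum of the positive roots with respect to b. Then for every simple root
β (an index in the support of b) the reflection in β sends 2ρ to 2ρ − 2β (equivalently, the coroot
of β pairs to 1 with ρ; only the reflection identity is asserted). -/
theorem result {ι R M N : Type*} [CommRing R] [CharZero R] [IsDomain R] [AddCommGroup M] [Module R M]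
    [AddCommGroup N] [Module R N] (P : RootPairing ι R M N) [Finite ι] [P.IsCrystallographic] [P.IsReduced]
    [Fintype ι] (b : P.Base) (j : ι) (hj : j ∈ b.support) :
    P.reflection j (∑ i, if b.IsPos i then P.root i else 0) =
      (∑ i, if b.IsPos i then P.root i else 0) - (2 : R) • P.root j := by
  classical
  have hjpos : b.IsPos j := RootPairing.Base.isPos_of_mem_support hj
  have hnj : ¬ b.IsPos (P.reflectionPerm j j) := fun h => (RootPairing.Base.IsPos.neg_iff_not b j).1 h hjpos
  rw [← Finset.sum_filter, ← Finset.insert_erase (Finset.mem_filter.2 ⟨Finset.mem_univ j, hjpos⟩),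
    Finset.sum_insert (Finset.notMem_erase _ _), map_add, P.reflection_apply_self, map_sum]
  have hinv : ∀ i ∈ (Finset.univ.filter fun i => b.IsPos i).erase j,
      P.reflectionPerm j i ∈ (Finset.univ.filter fun i => b.IsPos i).erase j := by
    intro i hi
    simp only [Finset.mem_erase, Finset.mem_filter, Finset.mem_univ, true_and] at hi ⊢
    refine ⟨fun h => hnj ?_, hi.2.reflectionPerm hj hi.1⟩
    have h' : i = P.reflectionPerm j j := by
      rw [← P.reflectionPerm_self j i, h]
    exact h' ▸ hi.2
  rw [Finset.sum_nbij' (g := fun i => P.root i) (P.reflectionPerm j) (P.reflectionPerm j) hinv hinv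
    (by simp) (by simp) (fun i _ => by rw [P.root_reflectionPerm])]
  module

end Groth.Agent.S2955
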