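import Groth.Statements.S2956
import Groth.Agent.L12.CoxPres
import Groth.Agent.L24.RootD.Weyl
import Mathlib.Data.Set.Card
-- import your own Groth.Agent.* helpers here

set_option autoImplicit false
open RootPairing
open scoped Pointwise
universe u
open RootD

namespace Groth.Agent.S2956

section
variable {ι R M N : Type*} [CommRing R] [CharZero R] [IsDomain R] [AddCommGroup M] [Module R M]
    [AddCommGroup N] [Module R N] {P : RootPairing ι R M N} [Finite ι] [P.IsCrystallographic] [P.IsReduced]
    (b : P.Base)

/-- The positive roots made negative by `g`. -/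
def Ninv (g : P.Aut) : Set ι := {i | b.IsPos i ∧ ¬ b.IsPos (g • i)}

omit [IsDomain R] [P.IsCrystallographic] [P.IsReduced] [Finite ι] in
theorem not_isPos_neg (i : ι) : b.IsPos (P.reflectionPerm i i) ↔ ¬ b.IsPos i :=
  RootPairing.Base.IsPos.neg_iff_not b i

theorem pos_reflect {a : ι} (ha : a ∈ b.support) {i : ι} (hi : b.IsPos i) (hne : i ≠ a) :
    b.IsPos (Equiv.reflection P a • i) :=
  hi.reflectionPerm ha hne

omit [IsDomain R] [P.IsCrystallographic] [P.IsReduced] [Finite ι] in
theorem refl_refl (a i : ι) : Equiv.reflection P a • Equiv.reflection P a • i = i := by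
  rw [← mul_smul, Groth.L24.RootD.reflection_mul_self, one_smul]

theorem card_step {a : ι} (ha : a ∈ b.support) (g : P.Aut) (hpos : b.IsPos (g • a)) :
    (Ninv b (g * Equiv.reflection P a)).ncard = (Ninv b g).ncard + 1 := by
  classical
  have hap := RootPairing.Base.isPos_of_mem_support ha
  have hself : Equiv.reflection P a • a = P.reflectionPerm a a := rfl
  have hset : Ninv b (g * Equiv.reflection P a) = insert a ((fun i => Equiv.reflection P a • i) '' Ninv b g) := by
    ext i
    constructor
    · rintro ⟨hi, hgi⟩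
      by_cases he : i = a
      · exact Or.inl he
      · refine Or.inr ⟨Equiv.reflection P a • i, ⟨pos_reflect b ha hi he, ?_⟩, refl_refl a i⟩
        rwa [mul_smul] at hgi
    · rintro (rfl | ⟨j, ⟨hj, hgj⟩, rfl⟩)
      · refine ⟨hap, ?_⟩
        rw [mul_smul, hself, Groth.L24.RootD.smul_neg_idx, not_isPos_neg]
        exact fun h => h hpos
      · have hne : j ≠ a := fun h => hgj (h ▸ hpos)
        exact ⟨pos_reflect b ha hj hne, by rw [mul_smul, refl_refl]; exact hgj⟩
  have hnot : a ∉ (fun i => Equiv.reflection P a • i) '' Ninv b g := by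
    rintro ⟨j, ⟨hj, -⟩, hja⟩
    have : j = P.reflectionPerm a a := by
      rw [← hself, ← refl_refl (P := P) a j]; exact congrArg (Equiv.reflection P a • ·) hja
    exact (not_isPos_neg b a).1 (this ▸ hj) hap
  rw [hset, Set.ncard_insert_of_notMem hnot (Set.toFinite _),
    Set.ncard_image_of_injective _ (MulAction.injective (Equiv.reflection P a))]

theorem card_step' {a : ι} (ha : a ∈ b.support) (g : P.Aut) (hneg : ¬ b.IsPos (g • a)) :
    (Ninv b g).ncard = (Ninv b (g * Equiv.reflection P a)).ncard + 1 := by
  have h := card_step b ha (g * Equiv.reflection P a) (by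
    rw [mul_smul, show Equiv.reflection P a • a = P.reflectionPerm a a from rfl,
      Groth.L24.RootD.smul_neg_idx, not_isPos_neg]
    exact hneg)
  rwa [mul_assoc, Groth.L24.RootD.reflection_mul_self, mul_one] at h

/-- Words in the simple reflections. -/
noncomputable abbrev sf : ↥b.support → P.Aut := fun j => Equiv.reflection P (j : ι)

theorem pr_concat (p : List ↥b.support) (y : ↥b.support) :
    Groth.L12.CoxPres.pr (sf b) (p ++ [y]) = Groth.L12.CoxPres.pr (sf b) p * Equiv.reflection P (y : ι) := by
  simp [Groth.L12.CoxPres.pr]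

omit [IsDomain R] [P.IsCrystallographic] [P.IsReduced] [Finite ι] in
theorem Ninv_one : (Ninv b (1 : P.Aut)).ncard = 0 := by
  rw [show Ninv b (1 : P.Aut) = ∅ from Set.eq_empty_of_forall_notMem fun i ⟨h1, h2⟩ => h2 (by rwa [one_smul]),
    Set.ncard_empty]

theorem card_le (l : List ↥b.support) :
    (Ninv b (Groth.L12.CoxPres.pr (sf b) l)).ncard ≤ l.length ∧
      (Ninv b (Groth.L12.CoxPres.pr (sf b) l)).ncard % 2 = l.length % 2 := by
  induction l using List.reverseRecOn with
  | nil => simp [Groth.L12.CoxPres.pr, Ninv_one]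
  | append_singleton p y ih =>
    rw [pr_concat, List.length_append, List.length_singleton]
    by_cases h : b.IsPos (Groth.L12.CoxPres.pr (sf b) p • (y : ι))
    · rw [card_step b y.2 _ h]; omega
    · have := card_step' b y.2 _ h; omega

theorem exists_flip (y : ↥b.support) (p : List ↥b.support)
    (h : ¬ b.IsPos (Groth.L12.CoxPres.pr (sf b) p • (y : ι))) :
    ∃ a x m, p = a ++ x :: m ∧ Groth.L12.CoxPres.pr (sf b) m • (y : ι) = (x : ι) := by
  induction p with
  | nil => exact absurd (by simpa [Groth.L12.CoxPres.pr] using RootPairing.Base.isPos_of_mem_support y.2) h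
  | cons x t ih =>
    by_cases ht : b.IsPos (Groth.L12.CoxPres.pr (sf b) t • (y : ι))
    · refine ⟨[], x, t, rfl, by_contra fun hne => h ?_⟩
      simp only [Groth.L12.CoxPres.pr, List.map_cons, List.prod_cons, mul_smul]
      exact pos_reflect b x.2 ht hne
    · obtain ⟨a, x', m, rfl, hm⟩ := ih ht
      exact ⟨x :: a, x', m, rfl, hm⟩

theorem exists_desc (l : List ↥b.support)
    (h : (Ninv b (Groth.L12.CoxPres.pr (sf b) l)).ncard ≠ l.length) :
    ∃ (p : List ↥b.support) (y : ↥b.support) (c : List ↥b.support), l = p ++ y :: c ∧ ¬ b.IsPos (Groth.L12.CoxPres.pr (sf b) p • (y : ι)) := by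
  induction l using List.reverseRecOn with
  | nil => exact absurd (by simp [Groth.L12.CoxPres.pr, Ninv_one]) h
  | append_singleton p y ih =>
    by_cases hy : b.IsPos (Groth.L12.CoxPres.pr (sf b) p • (y : ι))
    · rw [pr_concat, card_step b y.2 _ hy, List.length_append, List.length_singleton] at h
      obtain ⟨p', y', c, hp, hy'⟩ := ih (by omega)
      exact ⟨p', y', c ++ [y], by rw [hp]; simp, hy'⟩
    · exact ⟨p, y, [], rfl, hy⟩

theorem deletion (l l' : List ↥b.support) (he : Groth.L12.CoxPres.pr (sf b) l' = Groth.L12.CoxPres.pr (sf b) l)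
    (hlt : l'.length < l.length) :
    ∃ a x m y c, l = a ++ x :: (m ++ y :: c) ∧
      sf b x * Groth.L12.CoxPres.pr (sf b) m = Groth.L12.CoxPres.pr (sf b) m * sf b y := by
  have h1 := (card_le b l').1
  rw [he] at h1
  obtain ⟨p, y, c, rfl, hy⟩ := exists_desc b l (by omega)
  obtain ⟨a, x, m, rfl, hm⟩ := exists_flip b y p hy
  refine ⟨a, x, m, y, c, by simp, ?_⟩
  have := Groth.L24.RootD.conj_reflection (Groth.L12.CoxPres.pr (sf b) m) (y : ι)
  rw [hm] at this
  show Equiv.reflection P (x : ι) * _ = _ * Equiv.reflection P (y : ι)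
  rw [← this, inv_mul_cancel_right]

theorem sf_injective : Function.Injective (sf b) := fun x y h => by
  by_contra hne
  have hx := RootPairing.Base.isPos_of_mem_support x.2
  have h1 : b.IsPos (Equiv.reflection P (y : ι) • (x : ι)) := pos_reflect b y.2 hx fun e => hne (Subtype.ext e)
  have h2 : Equiv.reflection P (x : ι) = Equiv.reflection P (y : ι) := h
  rw [← h2] at h1
  exact (not_isPos_neg b (x : ι)).1 h1 hx

end


/-- For a finite crystallographic reduced root pairing with a base b: the Weyl group is presented by the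
simple reflections s_i (i in the base) subject to the relations (s_i s_j)^{n_{ij}} = 1, where n_{ij}
is the order of s_i s_j; i.e. it carries a Coxeter system whose simple reflections are the s_i and
whose Coxeter matrix is (n_{ij}). -/
theorem result {ι R M N : Type*} [CommRing R] [CharZero R] [IsDomain R] [AddCommGroup M] [Module R M]
    [AddCommGroup N] [Module R N] (P : RootPairing ι R M N) [Finite ι] [P.IsCrystallographic] [P.IsReduced]
    (b : P.Base) :
    ∃ (C : CoxeterMatrix ↥b.support) (cs : CoxeterSystem C P.weylGroup),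
      (∀ j : ↥b.support, ((cs.simple j : P.weylGroup) : P.Aut) = Equiv.reflection P (j : ι)) ∧
      ∀ j k : ↥b.support, C.M j k = orderOf (Equiv.reflection P (j : ι) * Equiv.reflection P (k : ι)) := by
  classical
  let s : ↥b.support → P.Aut := sf b
  have hs2 : ∀ j, s j * s j = 1 := fun j => Groth.L24.RootD.reflection_mul_self _
  let C : CoxeterMatrix ↥b.support :=
    { M := fun x y => orderOf (s x * s y)
      isSymm := Matrix.IsSymm.ext fun x y => by
        show orderOf (s y * s x) = orderOf (s x * s y)
        rw [← orderOf_inv (s x * s y), mul_inv_rev, inv_eq_of_mul_eq_one_right (hs2 x),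
          inv_eq_of_mul_eq_one_right (hs2 y)]
      diagonal := fun x => by rw [hs2, orderOf_one]
      off_diagonal := fun x y hne h => hne (sf_injective b (by
        show s x = s y
        rw [orderOf_eq_one_iff, mul_eq_one_iff_eq_inv, inv_eq_of_mul_eq_one_right (hs2 y)] at h
        exact h)) }
  let cs₀ := C.toCoxeterSystem
  have hlift : C.IsLiftable (fun j => (⟨s j, P.reflection_mem_weylGroup _⟩ : P.weylGroup)) := fun x y =>
    Subtype.ext (pow_orderOf_eq_one (s x * s y))
  let F : C.Group →* P.weylGroup := cs₀.lift ⟨_, hlift⟩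
  have hF : ∀ j, F (cs₀.simple j) = ⟨s j, P.reflection_mem_weylGroup _⟩ := cs₀.lift_apply_simple hlift
  have hFw : ∀ l : List ↥b.support, ((F (cs₀.wordProd l) : P.weylGroup) : P.Aut) = Groth.L12.CoxPres.pr s l := fun l => by
    induction l with
    | nil => simp [Groth.L12.CoxPres.pr]
    | cons x t ih =>
      rw [cs₀.wordProd_cons, map_mul, Subgroup.coe_mul, hF, ih]
      simp [Groth.L12.CoxPres.pr]
  have hinj : Function.Injective F := (injective_iff_map_eq_one F).2 fun w hw => by
    obtain ⟨l, rfl⟩ := cs₀.wordProd_surjective w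
    refine Groth.L12.CoxPres.pr_eq_one s cs₀.simple hs2 cs₀.simple_mul_simple_self (sf_injective b)
      (fun x y n hn => ?_) (deletion b) (fun l' hl' => ?_) l (by rw [← hFw, hw]; rfl)
    · obtain ⟨m, rfl⟩ : C.M x y ∣ n := orderOf_dvd_of_pow_eq_one hn
      rw [pow_mul, cs₀.simple_mul_simple_pow, one_pow]
    · have := (card_le b l').2
      rw [show Groth.L12.CoxPres.pr (sf b) l' = 1 from hl', Ninv_one] at this
      exact Nat.even_iff.2 this.symm
  have hsurj : Function.Surjective F := fun w => by
    have hw := (Groth.L24.RootD.IsSimple.of_base b).closure_eq_weylGroup.ge w.2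
    obtain ⟨l, hl, hlw⟩ := Groth.L24.RootD.exists_word hw
    refine ⟨cs₀.wordProd (l.attach.map fun a => ⟨a.1, by simpa using hl a.1 a.2⟩), Subtype.ext ?_⟩
    rw [hFw, ← hlw]
    simp only [Groth.L12.CoxPres.pr, List.map_map, Groth.L24.RootD.wd]
    refine congrArg List.prod ?_
    exact List.attach_map_val (f := fun a => Equiv.reflection P a) (l := l)
  refine ⟨C, ⟨(MulEquiv.ofBijective F ⟨hinj, hsurj⟩).symm⟩, fun j => ?_, fun j k => rfl⟩
  exact congrArg Subtype.val (hF j)

end Groth.Agent.S2956
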