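import Groth.Statements.S2958
import Groth.Agent.L14.Splitting.Etale

set_option autoImplicit false
set_option backward.isDefEq.respectTransparency.types false
set_option linter.style.haveILetI false
open CategoryTheory MonoidalCategory CartesianMonoidalCategory MonObj GrpObj AlgebraicGeometry
universe u
open RedX

namespace Groth.Agent.S2958

/-- Let G be a reductive group scheme over S. Then G is splittable locally for the etale topology on S:
every point of S is in the image of an etale morphism U -> S over which G acquires a splitting (here
a splitting is the prelude's group-level structure Red.SplitRed, which packages a split maximal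
torus, the root datum and the root homomorphisms). -/
theorem result {S : Scheme.{u}} (G : Over S) [GrpObj G] (hG : Red.IsReductive G)
    (s : S) : ∃ (U : Scheme.{u}) (f : U ⟶ S) (_ : Etale f), s ∈ Set.range f.base ∧
      Nonempty (Red.SplitRed ((Over.pullback f).obj G)) := by
  obtain ⟨V, f, hf, hs, hR, T, _, i, r, hT, ⟨R⟩⟩ := Groth.L14.Splitting.exists_rootData_etale' hG s
  exact ⟨V, f, hf, hs, ⟨R.splitRed (fun _ => trivial) hR hT⟩⟩

end Groth.Agent.S2958
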