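import Groth.Statements.S2960
import Groth.Agent.L14.Splitting.Etale
import Groth.Agent.S3952
import Groth.Agent.L14.AlmostSimple.Torus

set_option autoImplicit false
set_option backward.isDefEq.respectTransparency.types false
set_option linter.style.haveILetI false
open CategoryTheory MonoidalCategory CartesianMonoidalCategory MonObj GrpObj AlgebraicGeometry
universe u
open RedX

namespace Groth.Agent.S2960

/-- Let G be a reductive group scheme over a scheme S. Then locally for the étale topology on S, G has a
Borel subgroup: every point of S is in the image of an étale morphism U → S over which the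
pulled-back group has a Borel subgroup (a smooth closed subgroup scheme with Borel geometric
fibres). The classical input over an algebraically closed field — that a pinned reductive group has
a Borel subgroup containing the torus of the pinning and through which the root morphisms of all
positive roots factor — is not proved here but carried as the first hypothesis. -/
theorem result
    (hNormAlgClosed : ∀ (K : Type u) [Field K] [IsAlgClosed K] (H : Over (Spec (CommRingCat.of K))) [GrpObj H]
      (D : Red.Pinning H), ∃ (B : Over (Spec (CommRingCat.of K))) (_ : GrpObj B) (b : B ⟶ H),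
        Red.IsBorel b ∧ (∃ t : D.T ⟶ B, t ≫ b = D.i) ∧
        ∀ a, D.P.root a ∈ AddSubmonoid.closure (D.P.root '' (D.base.support : Set D.idx)) →
          ∃ v : Red.Ga (Spec (CommRingCat.of K)) ⟶ B, v ≫ b = D.u a)
    {S : Scheme.{u}} (G : Over S) [GrpObj G] (hG : Red.IsReductive G) (s : S) :
    ∃ (U : Scheme.{u}) (f : U ⟶ S) (_ : Etale f), s ∈ Set.range f.base ∧
      ∃ (B : Over U) (_ : GrpObj B) (b : B ⟶ (Over.pullback f).obj G), Red.IsBorel b := by
  classical
  obtain ⟨V, f, hf, ⟨v, hv⟩, hR, T, _, i, r, hT, ⟨R⟩⟩ := Groth.L14.Splitting.exists_rootData_etale' hG s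
  let D := R.splitRed (fun _ => trivial) hR hT
  haveI : Nonempty ↥V := ⟨v⟩
  obtain ⟨b⟩ := Groth.L14.AlmostSimple.exists_base D
  haveI : Fintype D.idx := D.fintypeIdx
  let q := Fintype.equivFin {a : D.idx // a ∈ RedSub.posRoots D.P b}
  have hpos : RedSub.Enumerates (RedSub.posRoots D.P b) (fun k => (q.symm k).1) :=
    ⟨fun x y h => q.symm.injective (Subtype.ext h), Set.ext fun a =>
      ⟨fun ⟨k, hk⟩ => hk ▸ (q.symm k).2, fun ha => ⟨q ⟨a, ha⟩, by simp⟩⟩⟩
  obtain ⟨-, B, _, iB, -, hB, -⟩ := Groth.Agent.S3952.result D b _ hpos
  exact ⟨V, f, hf, ⟨v, hv⟩, B, inferInstance, iB, hB⟩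

end Groth.Agent.S2960
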