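import Groth.Statements.S2962
import Groth.Agent.L06.SplitCentre

set_option autoImplicit false
set_option maxSynthPendingDepth 3
set_option linter.style.haveILetI false
open CategoryTheory MonoidalCategory CartesianMonoidalCategory MonObj GrpObj AlgebraicGeometry
universe u
open RedX

namespace Groth.Agent.S2962

/-- Let G be a split reductive group scheme over S with splitting D (maximal torus T = D(M), roots in
M). A point g of G with values in X is central (commutes with every point of G after every base
change X' -> X) if and only if it factors through T and every root, viewed as a character T -> G_m,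
is trivial on it; i.e. the centre of G is the intersection of the kernels of the roots. -/
theorem result {S : Scheme.{u}} {G : Over S} [GrpObj G] (D : Red.SplitRed G)
    (X : Over S) (g : X ⟶ G) :
    (∀ (X' : Over S) (x : X' ⟶ X) (h : X' ⟶ G), (x ≫ g) * h = h * (x ≫ g)) ↔
      ∃ t : X ⟶ D.T, t ≫ D.i = g ∧ ∀ a : D.idx, t ≫ D.split.hom.hom.hom ≫ Red.chi S (D.P.root a) = 1 := by
  rcases isEmpty_or_nonempty S with hS | hS
  · have hX : IsEmpty ↥X.left := X.hom.base.hom.toFun |> Function.isEmpty
    haveI := hX
    have key : ∀ {Y : Over S} {Z : Over S} (a b : Y ⟶ Z), a = b := fun {Y Z} a b => by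
      haveI : IsEmpty ↥Y.left := Function.isEmpty Y.hom.base
      exact Over.OverMorphism.ext (isInitialOfIsEmpty.hom_ext _ _)
    refine ⟨fun _ => ⟨Over.homMk (isInitialOfIsEmpty.to _) (isInitialOfIsEmpty.hom_ext _ _), key _ _,
      fun a => key _ _⟩, fun _ X' x h => key _ _⟩
  refine ⟨fun hc => Groth.L06.SplitCentre.exists_torus_of_central g hc, ?_⟩
  rintro ⟨t, rfl, ht⟩ X' x h
  exact Groth.L06.SplitCentre.central_of_roots t ht X' x h

end Groth.Agent.S2962
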