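import Groth.Statements.S2964
import Groth.Agent.L06.LeftInverse
import Mathlib.Algebra.Lie.BaseChange
import Mathlib.Algebra.Lie.Engel
import Mathlib.Order.Zorn

set_option autoImplicit false
universe u
open scoped TensorProduct
open SGA3t2b

namespace Groth.Agent.S2964

open Submodule in
/-- bracket with everything -/
def Φ {A : Type u} [CommRing A] {L : Type u} [LieRing L] [LieAlgebra A L] (N : Submodule A L) : Submodule A L :=
  Submodule.map₂ (LinearMap.mk₂ A (fun x y : L => ⁅x, y⁆) add_lie smul_lie lie_add (fun c x y => lie_smul c x y)) ⊤ N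

section

variable {A : Type u} [CommRing A] {L : Type u} [LieRing L] [LieAlgebra A L]

theorem lcs_succ (m : ℕ) : (LieModule.lowerCentralSeries A L L (m + 1)).toSubmodule =
    Φ (LieModule.lowerCentralSeries A L L m).toSubmodule := by
  rw [LieModule.lowerCentralSeries_succ, LieSubmodule.lieIdeal_oper_eq_linear_span', Φ,
    Submodule.map₂_eq_span_image2]
  refine congrArg _ (Set.ext fun z => ?_)
  simp only [Set.mem_ofPred_eq, Set.mem_image2, SetLike.mem_coe]
  constructor
  · rintro ⟨x, -, n, hn, rfl⟩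
    exact ⟨x, trivial, n, hn, rfl⟩
  · rintro ⟨x, -, n, hn, rfl⟩
    exact ⟨x, trivial, n, hn, rfl⟩

/-- the lower central series as iterates -/
theorem lcs_eq (m : ℕ) : (LieModule.lowerCentralSeries A L L m).toSubmodule = Φ^[m] ⊤ := by
  induction m with
  | zero => simp
  | succ m ih => rw [lcs_succ, Function.iterate_succ_apply', ih]

theorem mono_iterate (n : ℕ) {N N' : Submodule A L} (h : N ≤ N') : Φ^[n] N ≤ Φ^[n] N' := by
  induction n generalizing N N' with
  | zero => exact h
  | succ n ih =>
    rw [Function.iterate_succ_apply, Function.iterate_succ_apply]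
    exact ih (Submodule.map₂_le_map₂ le_rfl h)

theorem Φ_smul (J : Ideal A) (N : Submodule A L) : Φ (J • N) ≤ J • Φ N := by
  refine Submodule.map₂_le.2 fun x _ y hy => ?_
  induction hy using Submodule.smul_induction_on' with
  | smul a ha n hn =>
    rw [map_smul]
    exact Submodule.smul_mem_smul ha (Submodule.apply_mem_map₂ _ trivial hn)
  | add y _ z _ h₁ h₂ => rw [map_add]; exact add_mem h₁ h₂

theorem iterate_smul (n : ℕ) (J : Ideal A) (N : Submodule A L) : Φ^[n] (J • N) ≤ J • Φ^[n] N := by
  induction n generalizing N with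
  | zero => exact le_rfl
  | succ n ih =>
    rw [Function.iterate_succ_apply, Function.iterate_succ_apply]
    exact (mono_iterate n (Φ_smul J N)).trans (ih (Φ N))

theorem fg_iterate [Module.Finite A L] (n : ℕ) : (Φ^[n] (⊤ : Submodule A L)).FG := by
  induction n with
  | zero => exact Module.Finite.fg_top
  | succ n ih =>
    rw [Function.iterate_succ_apply']
    exact Submodule.FG.map₂ _ Module.Finite.fg_top ih

theorem isNilpotent_of_fibres [Module.Finite A L]
    (h : ∀ p : PrimeSpectrum A, LieRing.IsNilpotent (p.asIdeal.ResidueField ⊗[A] L)) : LieRing.IsNilpotent L := by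
  classical
  let 𝓕 : Set (Ideal A) := {I | ∀ m, ¬ Φ^[m] (⊤ : Submodule A L) ≤ I • ⊤}
  by_contra hc
  have hbot : (⊥ : Ideal A) ∈ 𝓕 := fun m hm => hc (show LieModule.IsNilpotent L L from LieModule.IsNilpotent.mk (R := A) (L := L) (M := L) (k := m) (by
    rw [← LieSubmodule.toSubmodule_eq_bot, lcs_eq, eq_bot_iff]
    simpa using hm))
  obtain ⟨P, -, hP⟩ := zorn_le_nonempty₀ 𝓕 (fun c hcs hchain y hy => by
    refine ⟨sSup c, fun m hm => ?_, fun z hz => le_sSup hz⟩
    haveI : Nonempty c := ⟨⟨y, hy⟩⟩
    have hd : Directed (· ≤ ·) fun I : c => (I : Ideal A) • (⊤ : Submodule A L) := fun a b => by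
      rcases hchain.total a.2 b.2 with hab | hab
      · exact ⟨b, Submodule.smul_mono_left hab, le_rfl⟩
      · exact ⟨a, le_rfl, Submodule.smul_mono_left hab⟩
    rw [sSup_eq_iSup', Submodule.iSup_smul] at hm
    obtain ⟨s, hs⟩ := fg_iterate (A := A) (L := L) m
    have hcov : ∀ z ∈ s, ∃ I : c, z ∈ (I : Ideal A) • (⊤ : Submodule A L) := fun z hz =>
      (Submodule.mem_iSup_of_directed _ hd).1 (hm (hs ▸ Submodule.subset_span hz))
    choose I hI using hcov
    obtain ⟨J, hJ⟩ := hd.finset_le (Finset.univ.image fun z : s => I z z.2)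
    exact hcs J.2 m (hs ▸ Submodule.span_le.2 fun z hz =>
      hJ (I z hz) (Finset.mem_image.2 ⟨⟨z, hz⟩, Finset.mem_univ _, rfl⟩) (hI z hz))) ⊥ hbot
  have hmax : ∀ J, P < J → ∃ m, Φ^[m] (⊤ : Submodule A L) ≤ J • ⊤ := fun J hJ => by
    by_contra hne
    exact hJ.not_ge (hP.2 (fun m hm => hne ⟨m, hm⟩) hJ.le)
  have hprime : P.IsPrime := by
    refine ⟨fun he => hP.prop 0 (by rw [he]; simp), fun {a b} hab => ?_⟩
    by_contra hne
    push Not at hne
    obtain ⟨m, hm⟩ := hmax (P ⊔ Ideal.span {a}) (lt_of_le_of_ne le_sup_left fun e => hne.1 (e ▸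
      Ideal.mem_sup_right (Ideal.mem_span_singleton_self a)))
    obtain ⟨n, hn⟩ := hmax (P ⊔ Ideal.span {b}) (lt_of_le_of_ne le_sup_left fun e => hne.2 (e ▸
      Ideal.mem_sup_right (Ideal.mem_span_singleton_self b)))
    refine hP.prop (n + m) ?_
    rw [Function.iterate_add_apply]
    refine ((mono_iterate n hm).trans (iterate_smul n _ _)).trans ?_
    refine (Submodule.smul_mono le_rfl hn).trans ?_
    rw [← Submodule.smul_assoc, smul_eq_mul]
    refine Submodule.smul_mono_left ?_
    rw [Ideal.sup_mul, Ideal.mul_sup, Ideal.mul_sup, Ideal.span_singleton_mul_span_singleton]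
    refine sup_le (sup_le Ideal.mul_le_right ?_) (sup_le Ideal.mul_le_right ?_)
    · first | exact Ideal.mul_le_left | exact Ideal.mul_le_right
    exact (Ideal.span_singleton_le_iff_mem P).2 hab
  haveI := hprime
  obtain ⟨m, hm⟩ := (LieModule.isNilpotent_iff_int _ _).1 (h ⟨P, hprime⟩)
  have hfib : ∀ i, ∀ z ∈ Φ^[i] (⊤ : Submodule A L), (1 : P.ResidueField) ⊗ₜ[A] z ∈
      LieModule.lowerCentralSeries ℤ (P.ResidueField ⊗[A] L) (P.ResidueField ⊗[A] L) i := by
    intro i
    induction i with
    | zero => intro z _; simp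
    | succ i ih =>
      intro z hz
      rw [Function.iterate_succ_apply'] at hz
      rw [LieModule.lowerCentralSeries_succ]
      rw [Φ, Submodule.map₂_eq_span_image2] at hz
      induction hz using Submodule.span_induction with
      | mem w hw =>
        obtain ⟨x, -, y, hy, rfl⟩ := hw
        have := LieSubmodule.lie_mem_lie
          (LieSubmodule.mem_top (R := ℤ) (L := P.ResidueField ⊗[A] L) ((1 : P.ResidueField) ⊗ₜ[A] x)) (ih y hy)
        rwa [LieAlgebra.ExtendScalars.bracket_tmul, one_mul] at this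
      | zero => rw [TensorProduct.tmul_zero]; exact zero_mem _
      | add a b _ _ h₁ h₂ => rw [TensorProduct.tmul_add]; exact add_mem h₁ h₂
      | smul a w _ h₁ =>
        rw [TensorProduct.tmul_smul]
        have hsub : ∀ u ∈ LieModule.lowerCentralSeries P.ResidueField (P.ResidueField ⊗[A] L) (P.ResidueField ⊗[A] L)
            (i + 1), a • u ∈ LieModule.lowerCentralSeries P.ResidueField (P.ResidueField ⊗[A] L) (P.ResidueField ⊗[A] L)
            (i + 1) := fun u hu => by
          rw [← algebraMap_smul P.ResidueField a u]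
          exact SMulMemClass.smul_mem _ hu
        rw [← LieModule.lowerCentralSeries_succ, ← SetLike.mem_coe,
          ← LieModule.coe_lowerCentralSeries_eq_int P.ResidueField] at h₁ ⊢
        exact hsub _ h₁
  obtain ⟨s, hs⟩ := fg_iterate (A := A) (L := L) m
  have hs' : ∀ z : s, ∃ t ∉ P, t • (z : L) ∈ P • (⊤ : Submodule A L) := fun z => by
    have h0 := hfib m z (hs ▸ Submodule.subset_span z.2)
    rw [hm, LieSubmodule.mem_bot] at h0
    obtain ⟨t, ht, h1⟩ := Groth.L06.LeftInverse.exists_smul_mem_of_one_tmul_eq P (y := (z : L)) (y' := 0)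
      (by rw [h0, TensorProduct.tmul_zero])
    exact ⟨t, ht, by simpa using h1⟩
  choose t ht htz using hs'
  let τ := ∏ z : s, t z
  have hτ : τ ∉ P := fun hmem => by
    obtain ⟨z, -, hz⟩ := hprime.prod_mem_iff.1 hmem
    exact ht z hz
  have hτm : ∀ y ∈ Φ^[m] (⊤ : Submodule A L), τ • y ∈ P • (⊤ : Submodule A L) := by
    intro y hy
    rw [← hs] at hy
    induction hy using Submodule.span_induction with
    | mem z hz =>
      obtain ⟨c, hc⟩ := Finset.dvd_prod_of_mem t (Finset.mem_univ (⟨z, hz⟩ : s))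
      rw [show τ = c * t ⟨z, hz⟩ from hc.trans (mul_comm _ _), mul_smul]
      exact Submodule.smul_mem _ c (htz _)
    | zero => rw [smul_zero]; exact zero_mem _
    | add y z _ _ h₁ h₂ => rw [smul_add]; exact add_mem h₁ h₂
    | smul a y _ h₁ => rw [smul_comm]; exact Submodule.smul_mem _ a h₁
  obtain ⟨n, hn⟩ := hmax (P ⊔ Ideal.span {τ}) (lt_of_le_of_ne le_sup_left fun e => hτ (e ▸
    Ideal.mem_sup_right (Ideal.mem_span_singleton_self τ)))
  refine hP.prop (m + n) ?_
  rw [Function.iterate_add_apply]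
  refine ((mono_iterate m hn).trans (iterate_smul m _ _)).trans ?_
  rw [Submodule.sup_smul]
  refine sup_le (Submodule.smul_mono le_rfl le_top) (Submodule.smul_le.2 fun a ha y hy => ?_)
  obtain ⟨c, rfl⟩ := Ideal.mem_span_singleton'.1 ha
  rw [mul_smul]
  exact Submodule.smul_mem _ c (hτm y hy)

end

/-- (i) ⇒ (iii): let d be a Lie algebra over a commutative ring A which is finitely presented as an
A-module. If for every prime p of A the fibre Lie algebra κ(p) ⊗_A d is nilpotent, then d is
nilpotent (its lower central series vanishes, i.e. there is N with ad(x_1) ⋯ ad(x_N) = 0 for all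
x_i); and the same conclusion holds if ad(x) is nilpotent for every x in d. -/
theorem result {A : Type u} [CommRing A] {L : Type u} [LieRing L] [LieAlgebra A L]
    [Module.FinitePresentation A L] :
    ((∀ p : PrimeSpectrum A, LieRing.IsNilpotent (p.asIdeal.ResidueField ⊗[A] L)) → LieRing.IsNilpotent L) ∧
    ((∀ x : L, IsNilpotent (LieAlgebra.ad A L x)) → LieRing.IsNilpotent L) := by
  refine ⟨isNilpotent_of_fibres (A := A), fun h => isNilpotent_of_fibres (A := A) fun p => ?_⟩
  rw [LieAlgebra.isNilpotent_iff_forall (R := p.asIdeal.ResidueField)]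
  intro z
  obtain ⟨s, y, hy⟩ := Groth.L06.LeftInverse.exists_smul_eq_one_tmul p.asIdeal z
  have hs : algebraMap A p.asIdeal.ResidueField s ≠ 0 := fun e =>
    s.2 ((Ideal.algebraMap_residueField_eq_zero).1 e)
  have hz : z = (algebraMap A p.asIdeal.ResidueField s)⁻¹ • ((1 : p.asIdeal.ResidueField) ⊗ₜ[A] y) := by
    rw [← hy, Submonoid.smul_def, ← algebraMap_smul p.asIdeal.ResidueField (s : A) z, smul_smul, inv_mul_cancel₀ hs,
      one_smul]
  obtain ⟨n, hn⟩ := h y
  rw [hz, map_smul]
  refine IsNilpotent.smul ⟨n, ?_⟩ _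
  have e : LieAlgebra.ad p.asIdeal.ResidueField (p.asIdeal.ResidueField ⊗[A] L) (1 ⊗ₜ[A] y) =
      (LieAlgebra.ad A L y).baseChange p.asIdeal.ResidueField := by
    refine TensorProduct.AlgebraTensorModule.ext fun a x => ?_
    simp
  rw [e, ← LinearMap.baseChange_pow, hn, LinearMap.baseChange_zero]

end Groth.Agent.S2964
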