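import Groth.Statements.S2965
import Mathlib.RingTheory.Polynomial.Basic
import Mathlib.LinearAlgebra.Charpoly.Basic

set_option autoImplicit false
universe u
open SGA3t2b

namespace Groth.Agent.S2965

open Polynomial in
/-- Implication (iv) ⇒ (i) (global form, finite free module): let u be an endomorphism of a finite free
module M over a commutative ring A whose characteristic polynomial is X^r · Q with Q(0) invertible.
Then M is the direct sum of two u-stable submodules M', M'' such that u is nilpotent on M' and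
bijective on M''. -/
theorem result {A : Type u} [CommRing A] {M : Type u} [AddCommGroup M] [Module A M]
    [Module.Free A M] [Module.Finite A M] (u : M →ₗ[A] M) (r : ℕ) (Q : A[X]) (hQ : IsUnit (Q.coeff 0))
    (h : u.charpoly = X ^ r * Q) :
    ∃ M' M'' : Submodule A M, IsCompl M' M'' ∧ (∀ x ∈ M', u x ∈ M') ∧ (∀ x ∈ M'', u x ∈ M'') ∧
      (∃ n : ℕ, ∀ x ∈ M', (u ^ n) x = 0) ∧ Set.BijOn u M'' M'' := by
  have hcop : IsCoprime (X ^ r : A[X]) Q := by
    apply IsCoprime.pow_left
    obtain ⟨c, hc⟩ := hQ
    refine ⟨-(C (↑c⁻¹ : A) * Q.divX), C (↑c⁻¹ : A), ?_⟩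
    have := divX_mul_X_add Q
    calc -(C (↑c⁻¹ : A) * Q.divX) * X + C (↑c⁻¹ : A) * Q
        = C (↑c⁻¹ : A) * (Q - Q.divX * X) := by ring
      _ = C (↑c⁻¹ : A) * C (Q.coeff 0) := by rw [sub_eq_of_eq_add' this.symm]
      _ = 1 := by rw [← C_mul, ← hc, Units.inv_mul, C_1]
  have hch : aeval u (X ^ r * Q) = 0 := by rw [← h]; exact LinearMap.aeval_self_charpoly u
  have hcom : ∀ (p : A[X]) (x : M), aeval u p x = 0 → aeval u p (u x) = 0 := by
    intro p x hx
    have : aeval u p (u x) = u (aeval u p x) := by
      have e1 : aeval u p * aeval u (X : A[X]) = aeval u (X : A[X]) * aeval u p := by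
        rw [← map_mul, ← map_mul, mul_comm]
      simpa [aeval_X] using LinearMap.congr_fun e1 x
    rw [this, hx, map_zero]
  refine ⟨LinearMap.ker (aeval u (X ^ r : A[X])), LinearMap.ker (aeval u Q), ⟨?_, ?_⟩, ?_, ?_, ⟨r, ?_⟩, ?_⟩
  · exact Polynomial.disjoint_ker_aeval_of_isCoprime u hcop
  · rw [codisjoint_iff, Polynomial.sup_ker_aeval_eq_ker_aeval_mul_of_coprime u hcop, hch, LinearMap.ker_zero]
  · exact fun x hx => hcom _ x hx
  · exact fun x hx => hcom _ x hx
  · intro x hx
    simpa using hx
  · obtain ⟨c, hc⟩ := hQ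
    have hdec : ∀ x, aeval u Q x = u (aeval u Q.divX x) + Q.coeff 0 • x := by
      intro x
      have := congrArg (fun p => aeval u p x) (X_mul_divX_add Q).symm
      simp only [map_add, map_mul, aeval_X, aeval_C, LinearMap.add_apply, Module.End.mul_apply, Module.algebraMap_end_apply] at this
      exact this
    refine ⟨fun x hx => hcom _ x hx, fun x hx y hy hxy => ?_, fun x hx => ?_⟩
    · have h0 : u (x - y) = 0 := by rw [map_sub, hxy, sub_self]
      have h1 : aeval u Q (x - y) = 0 := by
        rw [map_sub, (hx : aeval u Q x = 0), (hy : aeval u Q y = 0), sub_self]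
      have h2 : aeval u Q.divX (u (x - y)) = 0 := by rw [h0, map_zero]
      have h3 : u (aeval u Q.divX (x - y)) = 0 := by
        have e1 : aeval u Q.divX * aeval u (X : A[X]) = aeval u (X : A[X]) * aeval u Q.divX := by
          rw [← map_mul, ← map_mul, mul_comm]
        rw [← h2]
        simpa [aeval_X] using (LinearMap.congr_fun e1 (x - y)).symm
      rw [hdec, h3, zero_add, ← hc] at h1
      exact sub_eq_zero.1 (((c.isUnit).smul_eq_zero).1 h1)
    · refine ⟨-((↑c⁻¹ : A) • aeval u Q.divX x), ?_, ?_⟩
      · have e1 : aeval u Q * aeval u Q.divX = aeval u Q.divX * aeval u Q := by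
          rw [← map_mul, ← map_mul, mul_comm]
        have := LinearMap.congr_fun e1 x
        rw [Module.End.mul_apply, Module.End.mul_apply, (hx : aeval u Q x = 0), map_zero] at this
        simp [this]
      · have h1 := hdec x
        rw [(hx : aeval u Q x = 0)] at h1
        rw [map_neg, map_smul, eq_neg_of_add_eq_zero_left h1.symm, smul_neg, neg_neg, smul_smul, ← hc,
          Units.inv_mul, one_smul]
end Groth.Agent.S2965
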