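import Groth.Statements.S2967

set_option autoImplicit false
universe u
open SGA3t2b

namespace Groth.Agent.S2967

/-- A commutative p-Lie algebra over a field k of characteristic p is recorded as a k-vector space g
together with its p-th power map φ, which is additive and Frobenius-semilinear. Let g be
finite-dimensional and non-zero, and assume every element of g is killed by some iterate of φ (g is
unipotent). Then the k-subspace of g spanned by the image φ(g) is a proper subspace. -/
theorem result {k : Type u} [Field k] (p : ℕ) [Fact p.Prime] [CharP k p]
    {V : Type u} [AddCommGroup V] [Module k V] [FiniteDimensional k V] [Nontrivial V]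
    (φ : V →ₛₗ[frobenius k p] V) (hφ : ∀ x : V, ∃ n : ℕ, φ^[n] x = 0) :
    Submodule.span k (Set.range φ) ≠ ⊤ := by
  intro htop
  have hiter : ∀ (n : ℕ) (c : k) (x : V), φ^[n] (c • x) = ((frobenius k p)^[n] c) • φ^[n] x := by
    intro n
    induction n with
    | zero => simp
    | succ n ih =>
      intro c x
      simp only [Function.iterate_succ', Function.comp_apply]
      rw [ih, map_smulₛₗ]
  have hadd : ∀ (n : ℕ) (x y : V), φ^[n] (x + y) = φ^[n] x + φ^[n] y := by
    intro n
    induction n with
    | zero => simp
    | succ n ih =>
      intro x y
      simp only [Function.iterate_succ', Function.comp_apply, ih, map_add]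
  have hspan : ∀ n, Submodule.span k (Set.range (φ^[n])) = ⊤ := by
    intro n
    induction n with
    | zero => simp
    | succ n ih =>
      rw [eq_top_iff, ← htop, Submodule.span_le]
      rintro _ ⟨x, rfl⟩
      have hx : x ∈ Submodule.span k (Set.range (φ^[n])) := ih ▸ Submodule.mem_top
      induction hx using Submodule.span_induction with
      | mem y hy =>
        obtain ⟨z, rfl⟩ := hy
        exact Submodule.subset_span ⟨z, by rw [Function.iterate_succ', Function.comp_apply]⟩
      | zero => simp
      | add y z _ _ hy hz => rw [map_add]; exact Submodule.add_mem _ hy hz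
      | smul c y _ hy => rw [map_smulₛₗ]; exact Submodule.smul_mem _ _ hy
  choose N hN using hφ
  let B := Module.finBasis k V
  let M := Finset.univ.sup fun i => N (B i)
  have h0 : ∀ x, φ^[M] x = 0 := by
    intro x
    induction B.mem_span x using Submodule.span_induction with
    | mem y hy =>
      obtain ⟨i, rfl⟩ := hy
      have hle : N (B i) ≤ M := Finset.le_sup (f := fun i => N (B i)) (Finset.mem_univ i)
      rw [← Nat.sub_add_cancel hle, Function.iterate_add_apply, hN]
      simpa using hadd (M - N (B i)) 0 0
    | zero => simpa using hadd M 0 0
    | add y z _ _ hy hz => rw [hadd, hy, hz, add_zero]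
    | smul c y _ hy => rw [hiter, hy, smul_zero]
  have := hspan M
  rw [show Set.range (φ^[M]) = {0} from by ext y; simp [h0, eq_comm], Submodule.span_singleton_eq_bot.2 rfl] at this
  exact bot_ne_top this
end Groth.Agent.S2967
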