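import Groth.Statements.S2968
import Groth.Agent.L08.FlagGroup
import Mathlib.Algebra.CharP.Lemmas

set_option autoImplicit false
universe u
open SGA3t2b

namespace Groth.Agent.S2968

open TensorProduct Groth.L08

/-- the invariant vector field of a functional vanishing on `1` satisfying the Leibniz rule is a derivation -/
theorem fAct_leibniz {k : Type u} [Field k] {A : Type u} [CommRing A] [HopfAlgebra k A] (d : A →ₗ[k] k)
    (hd : ∀ a b, d (a * b) = d a * Coalgebra.counit (R := k) b + Coalgebra.counit (R := k) a * d b) (a b : A) :
    fAct A d (a * b) = fAct A d a * b + a * fAct A d b := by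
  letI := HopfRep.Comod.regular k A
  have key : ∀ x y : A ⊗[k] A, TensorProduct.rid k A (d.lTensor A (x * y)) =
      TensorProduct.rid k A (d.lTensor A x) * TensorProduct.rid k A ((Coalgebra.counit (R := k)).lTensor A y) +
      TensorProduct.rid k A ((Coalgebra.counit (R := k)).lTensor A x) * TensorProduct.rid k A (d.lTensor A y) := by
    intro x y
    induction x using TensorProduct.induction_on with
    | zero => simp
    | add x₁ x₂ h₁ h₂ => simp only [add_mul, map_add, h₁, h₂]; ring
    | tmul p q =>
      induction y using TensorProduct.induction_on with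
      | zero => simp
      | add y₁ y₂ h₁ h₂ => simp only [mul_add, add_mul, map_add, h₁, h₂]; ring
      | tmul r s =>
        simp only [Algebra.TensorProduct.tmul_mul_tmul, LinearMap.lTensor_tmul, TensorProduct.rid_tmul, hd,
          Algebra.smul_def, map_add, map_mul]
        ring
  have hε : ∀ c : A, TensorProduct.rid k A ((Coalgebra.counit (R := k)).lTensor A (Coalgebra.comul c)) = c :=
    fun c => by simp [Coalgebra.lTensor_counit_comul]
  have e : ∀ c : A, fAct A d c = TensorProduct.rid k A (d.lTensor A (Coalgebra.comul c)) := fun c => rfl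
  rw [e, e, e, Bialgebra.comul_mul, key, hε, hε]

/-- In characteristic p, in Hopf-algebra form (with unipotent in the representation-theoretic sense
`HopfRep.IsUnipotent`): let k be a field of characteristic p > 0 and A a finite-type commutative
Hopf algebra over k (the coordinate Hopf algebra of an affine algebraic k-group) which is unipotent.
Then the Lie algebra of the group is a unipotent p-Lie algebra: for every ε-derivation D : A -> k
there is n > 0 such that the iterated p-operation of D, computed here as the p^n-fold convolution
power of D (this is how the p-operation is rendered in this statement; its axioms are not proved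
here), vanishes. -/
theorem result {k : Type u} [Field k] (p : ℕ) [Fact p.Prime] [CharP k p] {A : Type u} [CommRing A]
    [HopfAlgebra k A] [Algebra.FiniteType k A] (hU : HopfRep.IsUnipotent k A) (D : LieHopf.Lie k A) :
    ∃ n : ℕ, 0 < n ∧ LieHopf.convPow (D.toLinearMap.restrictScalars k ∘ₗ LinearMap.id) (p ^ n) = 0 := by
  letI := HopfRep.Comod.regular k A
  classical
  let d : A →ₗ[k] k := D.toLinearMap.restrictScalars k ∘ₗ LinearMap.id
  have hd : ∀ a b, d (a * b) = d a * Coalgebra.counit (R := k) b + Coalgebra.counit (R := k) a * d b := fun a b => by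
    show D (a * b) = _
    rw [D.leibniz, LieHopf.smul_def, LieHopf.smul_def]
    show Coalgebra.counit (R := k) a * d b + Coalgebra.counit (R := k) b * d a = _
    ring
  have hd1 : d 1 = 0 := D.map_one_eq_zero
  let T : Module.End k A := fAct A d
  have hT1 : T 1 = 0 := by
    show fAct A d 1 = 0
    rw [fAct_apply]
    show TensorProduct.rid k A (d.lTensor A (Coalgebra.comul (R := k) (1 : A))) = 0
    rw [Bialgebra.comul_one, Algebra.TensorProduct.one_def, LinearMap.lTensor_tmul, hd1]
    simp
  obtain ⟨s, hs⟩ := Algebra.FiniteType.out (R := k) (A := A)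
  obtain ⟨C, hfin, hsC, hC⟩ := exists_finite_subcomod_of_finset (k := k) (A := A) (V := A) s
  letI := ComodSub.Comod.restr (HopfRep.Comod.regular k A) C hC
  obtain ⟨F, -, h0, htop, -, hstep⟩ := exists_flag_of_isUnipotent hU C
  have hnil : ∀ i, ∀ x ∈ F i, (fAct C d ^ i) x = 0 := by
    intro i
    induction i with
    | zero =>
      intro x hx
      rw [h0, Submodule.mem_bot] at hx
      simp [hx]
    | succ i ih =>
      intro x hx
      obtain ⟨g, rfl, hg⟩ := hstep i
      rw [pow_succ, Module.End.mul_apply]
      refine ih _ ?_
      simpa [hd1] using hg x hx d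
  have hsub : ∀ (m : ℕ) (x : C), (T ^ m) (x : A) = ((fAct C d ^ m) x : A) := by
    intro m
    induction m with
    | zero => intro x; rfl
    | succ m ih =>
      intro x
      rw [pow_succ, pow_succ, Module.End.mul_apply, Module.End.mul_apply, ← ih]
      congr 1
      exact (fAct_comm_of_isComodHom (ComodSub.isComodHom_subtype _ C hC) d x).symm
  obtain ⟨n, hn0, hn⟩ : ∃ n, 0 < n ∧ Module.finrank k C ≤ p ^ n :=
    ⟨Module.finrank k C + 1, Nat.succ_pos _, (Nat.le_succ _).trans
      (Nat.lt_pow_self (Fact.out (p := p.Prime)).one_lt).le⟩
  refine ⟨n, hn0, ?_⟩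
  let S := T ^ (p ^ n)
  have hgen : ∀ a ∈ s, S a = 0 := fun a ha => by
    show (T ^ (p ^ n)) ((⟨a, hsC ha⟩ : C) : A) = 0
    rw [hsub, ← Nat.sub_add_cancel hn, pow_add, Module.End.mul_apply, hnil (Module.finrank k C) ⟨a, hsC ha⟩ (by rw [htop]; exact Submodule.mem_top), map_zero,
      ZeroMemClass.coe_zero]
  have hone : S 1 = 0 := by
    show (T ^ (p ^ n)) 1 = 0
    rw [← Nat.sub_add_cancel (Nat.one_le_pow n p (Fact.out (p := p.Prime)).pos), pow_succ, Module.End.mul_apply, hT1,
      map_zero]
  let X : Module.End k (A ⊗[k] A) := TensorProduct.map T LinearMap.id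
  let Y : Module.End k (A ⊗[k] A) := TensorProduct.map LinearMap.id T
  have hder : ∀ a b, S (a * b) = S a * b + a * S b := by
    have h : ∀ m, (T ^ m) ∘ₗ LinearMap.mul' k A = LinearMap.mul' k A ∘ₗ ((X + Y) ^ m) := by
      intro m
      induction m with
      | zero => rfl
      | succ m ih =>
        have h1 : T ∘ₗ LinearMap.mul' k A = LinearMap.mul' k A ∘ₗ (X + Y) := by
          refine TensorProduct.ext' fun a b => ?_
          simp only [LinearMap.comp_apply, LinearMap.mul'_apply, LinearMap.add_apply, X, Y, TensorProduct.map_tmul,
            LinearMap.id_apply, map_add]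
          exact fAct_leibniz d hd a b
        rw [pow_succ, pow_succ, Module.End.mul_eq_comp, Module.End.mul_eq_comp, LinearMap.comp_assoc, h1,
          ← LinearMap.comp_assoc, ih, LinearMap.comp_assoc]
    have hXY : Commute X Y := by
      refine TensorProduct.ext' fun a b => ?_
      simp [X, Y, Module.End.mul_apply]
    intro a b
    haveI : Nontrivial A := (Bialgebra.counitAlgHom k A).toRingHom.domain_nontrivial
    haveI : CharP (Module.End k (A ⊗[k] A)) p := by
      refine (CharP.charP_iff_prime_eq_zero Fact.out).2 ?_
      refine LinearMap.ext fun z => ?_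
      rw [← map_natCast (algebraMap k (Module.End k (A ⊗[k] A))), CharP.cast_eq_zero, map_zero]
    have e := LinearMap.congr_fun (h (p ^ n)) (a ⊗ₜ[k] b)
    rw [add_pow_char_pow_of_commute p n hXY] at e
    have hX : ∀ m, X ^ m = TensorProduct.map (T ^ m) LinearMap.id := fun m => by
      induction m with
      | zero => exact (TensorProduct.map_id).symm
      | succ m ih => rw [pow_succ, ih, pow_succ]; exact TensorProduct.ext' fun a b => rfl
    have hY : ∀ m, Y ^ m = TensorProduct.map LinearMap.id (T ^ m) := fun m => by
      induction m with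
      | zero => exact (TensorProduct.map_id).symm
      | succ m ih => rw [pow_succ, ih, pow_succ]; exact TensorProduct.ext' fun a b => rfl
    simpa [hX, hY] using e
  have hS : S = 0 := by
    refine LinearMap.ext fun a => ?_
    have ha : a ∈ Algebra.adjoin k (s : Set A) := hs ▸ Algebra.mem_top
    induction ha using Algebra.adjoin_induction with
    | mem x hx => exact hgen x hx
    | algebraMap r =>
      rw [Algebra.algebraMap_eq_smul_one, map_smul, hone, smul_zero]
      rfl
    | add x y _ _ hx hy => simp [hx, hy]
    | mul x y _ _ hx hy => simp only [LinearMap.zero_apply] at hx hy ⊢; rw [hder, hx, hy, zero_mul, mul_zero, add_zero]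
  have hpow : ∀ m, ∀ a, LieHopf.convPow d m a = Coalgebra.counit (R := k) ((T ^ m) a) := by
    have hc : ∀ (φ : A →ₗ[k] k) (a : A), φ a = Coalgebra.counit (R := k) (fAct A φ a) := fun φ a => by
      rw [← apply_cf φ Coalgebra.counit a, cf_counit_apply]
    have hm : ∀ m, fAct A (LieHopf.convPow d m) = T ^ m := fun m => by
      induction m with
      | zero => exact fAct_counit (k := k) (A := A) (V := A)
      | succ m ih =>
        rw [pow_succ, ← ih]
        exact fAct_mul (k := k) (A := A) (V := A) (WithConv.toConv (LieHopf.convPow d m)) (WithConv.toConv d)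
    exact fun m a => by rw [hc, hm]
  refine LinearMap.ext fun a => ?_
  show LieHopf.convPow d (p ^ n) a = 0
  rw [hpow]
  show Coalgebra.counit (R := k) (S a) = 0
  rw [hS, LinearMap.zero_apply, map_zero]

end Groth.Agent.S2968
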