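import Groth.Statements.S2969
import Groth.Agent.L25.Char.EtaleSplit
import Mathlib.RingTheory.Etale.Field
import Mathlib.RingTheory.RingHom.QuasiFinite

set_option autoImplicit false
universe u
open TensorProduct SGA3b
open SGA3b

namespace Groth.Agent.S2969

/-- Let k be a field and H = Spec A a k-group of multiplicative type and of finite type. Then H is
isotrivial: there is a finite separable extension k' of k over which H becomes diagonalisable (of
finite type). (Affine group schemes over an affine base are taken in Hopf-algebra form; base change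
is the tensor product.) -/
theorem result (k : Type u) [Field k] (A : Type u) [CommRing A] [HopfAlgebra k A]
    (hft : Algebra.FiniteType k A) (h : IsMultType k A) :
    ∃ (k' : Type u) (_ : Field k') (_ : Algebra k k'), Module.Finite k k' ∧ Algebra.IsSeparable k k' ∧ IsDiagFT k' (k' ⊗[k] A) := by
  haveI := hft
  obtain ⟨B, _, _, _, q, hq, -, M, _, hM, ⟨e⟩⟩ := Groth.L25.Char.exists_etale_split h (⊥ : Ideal k)
  haveI : Module.Finite k B := Algebra.FormallyUnramified.finite_of_free k B
  haveI : IsArtinianRing B := IsArtinianRing.of_finite k B
  haveI : q.IsMaximal := IsArtinianRing.isMaximal_of_isPrime q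
  letI := Ideal.Quotient.field q
  haveI : Module.Finite k (B ⧸ q) := Module.Finite.of_surjective (Ideal.Quotient.mkₐ k q).toLinearMap Ideal.Quotient.mk_surjective
  haveI : Algebra.FormallyUnramified k (B ⧸ q) := Algebra.FormallyUnramified.of_surjective (Ideal.Quotient.mkₐ k q) Ideal.Quotient.mk_surjective
  refine ⟨B ⧸ q, inferInstance, inferInstance, inferInstance, Algebra.FormallyUnramified.isSeparable k (B ⧸ q), M, inferInstance, Group.fg_iff_monoid_fg.2 hM, ⟨?_⟩⟩
  exact (Groth.L25.Char.splitEquiv e (B ⧸ q)).symm
end Groth.Agent.S2969
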