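import Groth.Statements.S2971
import Groth.Agent.L25.Char.NilLift
import Groth.Agent.L25.MultType.Isotrivial

set_option autoImplicit false
universe u
open TensorProduct SGA3b
open SGA3b

namespace Groth.Agent.S2971

theorem lift_split {R Q P B : Type u} [CommRing R] [CommRing Q] [CommRing P] [CommRing B]
    [Algebra R Q] [Algebra Q B] [Algebra R P] [Algebra P B] [Algebra R B] [IsScalarTower R P B]
    [IsScalarTower R Q B] (hsurj : Function.Surjective (algebraMap P B))
    (hnil : ∀ x ∈ RingHom.ker (algebraMap P B), IsNilpotent x)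
    {R₀ : Type u} [CommRing R₀] [Algebra B R₀] [Algebra.Etale B R₀] [Module.FaithfullyFlat B R₀]
    {A : Type u} [CommRing A] [HopfAlgebra R A]
    (hd : SGA3b.IsDiag R₀ (R₀ ⊗[B] (B ⊗[Q] (Q ⊗[R] A)))) :
    ∃ (T : Type u) (_ : CommRing T) (_ : Algebra P T),
      Algebra.Etale P T ∧ Module.FaithfullyFlat P T ∧
      SGA3b.IsDiag (T ⧸ (RingHom.ker (algebraMap P B)).map (algebraMap P T))
        ((T ⧸ (RingHom.ker (algebraMap P B)).map (algebraMap P T)) ⊗[T] (T ⊗[P] (P ⊗[R] A))) := by
  obtain ⟨T, i1, i2, he, hff, -, hd'⟩ := Groth.L25.MultType.exists_etale_lift_split hsurj hnil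
    (A := P ⊗[R] A)
    (Groth.L25.MultType.isDiag_of_bialgEquiv (Groth.L25.MultType.baseChangeEquiv _ R₀
      ((Groth.L25.MultType.cancelBialg R Q B A).trans
        (Groth.L25.MultType.cancelBialg R P B A).symm)) hd)
  exact ⟨T, i1, i2, he, hff, hd'⟩


/-- Let R be a ring, I an ideal consisting of nilpotent elements and H = Spec A an R-group of
multiplicative type. If the base change of H to R/I is isotrivial (resp. quasi-isotrivial), so is H.
(Affine group schemes over an affine base are taken in Hopf-algebra form; base change is the tensor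
product.) -/
theorem result (R : Type u) [CommRing R] (A : Type u) [CommRing A] [HopfAlgebra R A] (I : Ideal R) (hI : ∀ x ∈ I, IsNilpotent x) (h : IsMultType R A) :
    (IsIsotrivial (R ⧸ I) ((R ⧸ I) ⊗[R] A) → IsIsotrivial R A) ∧
    (IsQuasiIsotrivial (R ⧸ I) ((R ⧸ I) ⊗[R] A) → IsQuasiIsotrivial R A) := by
  have nilmap : ∀ {P T : Type u} [CommRing P] [CommRing T] (g : P →+* T) (K : Ideal P),
      (∀ x ∈ K, IsNilpotent x) → ∀ x ∈ K.map g, IsNilpotent x := fun g K hK x hx =>
    mem_nilradical.1 ((show K.map g ≤ nilradical _ from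
      Ideal.map_le_iff_le_comap.2 fun r hr => (hK r hr).map g) hx)
  refine ⟨?_, ?_⟩
  · rintro ⟨R₀, _, _, _, hfin, _, hd⟩
    have hker : ∀ x ∈ RingHom.ker (algebraMap R (R ⧸ I)), IsNilpotent x := by
      rw [Ideal.Quotient.algebraMap_eq, Ideal.mk_ker]; exact hI
    obtain ⟨T, _, _, he, hff, hf, hd'⟩ := Groth.L25.MultType.exists_etale_lift_split
      (P := R) (B := R ⧸ I) Ideal.Quotient.mk_surjective hker hd
    exact ⟨T, inferInstance, inferInstance, he, hf hfin, hff, Groth.L25.Char.isDiag_of_nil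
      (Groth.L25.MultType.isMultType_baseChange h) (nilmap _ _ hker) hd'⟩
  · rintro ⟨s₀, hs₀, hcov⟩
    refine ⟨Ideal.Quotient.mk I ⁻¹' s₀, ?_, fun f hf => ?_⟩
    · by_contra hcon
      obtain ⟨p, hp, hle⟩ := Ideal.exists_le_maximal _ hcon
      have hIp : I ≤ p := fun x hx => by
        obtain ⟨n, hn⟩ := hI x hx
        exact hp.isPrime.mem_of_pow_mem n (hn ▸ p.zero_mem)
      have hle2 : Ideal.span s₀ ≤ p.map (Ideal.Quotient.mk I) := Ideal.span_le.2 fun y hy => by
        obtain ⟨f, rfl⟩ := Ideal.Quotient.mk_surjective y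
        exact Ideal.mem_map_of_mem _ (hle (Ideal.subset_span hy))
      rw [hs₀, top_le_iff] at hle2
      have h2 := congrArg (Ideal.comap (Ideal.Quotient.mk I)) hle2
      rw [Ideal.comap_map_of_surjective _ Ideal.Quotient.mk_surjective, Ideal.comap_top,
        ← RingHom.ker_eq_comap_bot, Ideal.mk_ker, sup_eq_left.2 hIp] at h2
      exact hp.ne_top h2
    letI := Groth.L25.MultType.locQuotAlgebra I f
    haveI := Groth.L25.MultType.locQuot_tower I f
    obtain ⟨hsurj, hker'⟩ := Groth.L25.MultType.locQuot_surjective_and_ker I f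
    have hker : ∀ x ∈ RingHom.ker (algebraMap (Localization.Away f)
        (Localization.Away (Ideal.Quotient.mk I f))), IsNilpotent x := fun x hx =>
      nilmap _ I hI x (hker' hx)
    obtain ⟨R₀, _, _, _, _, hd⟩ := hcov _ hf
    obtain ⟨T, _, _, he, hff, hd'⟩ := lift_split (R := R) (Q := R ⧸ I) hsurj hker hd
    exact ⟨T, inferInstance, inferInstance, he, hff, Groth.L25.Char.isDiag_of_nil
      (Groth.L25.MultType.isMultType_baseChange (Groth.L25.MultType.isMultType_baseChange h))
      (nilmap _ _ hker) hd'⟩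
end Groth.Agent.S2971
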