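import Groth.Statements.S2974
import Groth.Agent.L25.Char.EtaleSplit
import Groth.Agent.L05.Hensel.LocalAlg
import Mathlib.RingTheory.Etale.QuasiFinite
import Mathlib.RingTheory.LocalRing.Module
import Mathlib.RingTheory.Flat.FaithfullyFlat.Basic

set_option autoImplicit false
universe u
open TensorProduct SGA3b
open SGA3b

namespace Groth.Agent.S2974

/-- Let R be a henselian local ring and H = Spec A an R-group of multiplicative type and of finite type.
Then H is isotrivial: split by a finite etale faithfully flat R-algebra. (Affine group schemes over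
an affine base are taken in Hopf-algebra form; base change is the tensor product.) -/
theorem result (R : Type u) [CommRing R] (A : Type u) [CommRing A] [HopfAlgebra R A] [HenselianLocalRing R] (hft : Algebra.FiniteType R A) (h : IsMultType R A) :
    IsIsotrivial R A := by
  haveI := hft
  obtain ⟨B, _, _, _, q, hq, hqp, M, _, -, ⟨e⟩⟩ :=
    Groth.L25.Char.exists_etale_split h (IsLocalRing.maximalIdeal R)
  obtain ⟨u, hu, hfin, hqf⟩ := Groth.L05.exists_idem_finiteType (A := R) (S := B)
  have huq : u ∉ q := fun hm => hqf q hm ⟨hqp.symm⟩ inferInstance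
  let J := Ideal.span ({1 - u} : Set B)
  haveI : Module.Finite R (B ⧸ J) := hfin
  haveI : IsLocalization.Away u (B ⧸ J) :=
    IsLocalization.away_of_isIdempotentElem hu Ideal.mk_ker Ideal.Quotient.mk_surjective
  haveI : Algebra.Etale B (B ⧸ J) := Algebra.Etale.of_isLocalizationAway u
  haveI : Algebra.Etale R (B ⧸ J) := Algebra.Etale.comp R B (B ⧸ J)
  haveI : Nontrivial (B ⧸ J) := Ideal.Quotient.nontrivial_iff.2 fun hJ => by
    have hle : J ≤ q := Ideal.span_le.2 (Set.singleton_subset_iff.2
      ((hq.mem_or_mem (show u * (1 - u) ∈ q by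
        rw [mul_sub, mul_one, hu.eq, sub_self]; exact q.zero_mem)).resolve_left huq))
    exact hq.ne_top (top_le_iff.1 (hJ ▸ hle))
  haveI : Module.Free R (B ⧸ J) := Module.free_of_flat_of_isLocalRing
  exact ⟨B ⧸ J, inferInstance, inferInstance, inferInstance, hfin, inferInstance, M, inferInstance,
    ⟨(Groth.L25.Char.splitEquiv e (B ⧸ J)).symm⟩⟩
end Groth.Agent.S2974
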