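import Groth.Statements.S2978

set_option autoImplicit false
universe u
open SGA3b

namespace Groth.Agent.S2978

/-- Let A be a Noetherian ring, M a set and a : M × M → A a family vanishing off the diagonal which is a
finite sum of decomposable families: a(m, m') = Σ_i b_i(m) c_i(m') for finitely many b_i, c_i : M →
A. Then a has finite support. -/
theorem result (A : Type u) [CommRing A] [IsNoetherianRing A] (M : Type u)
    (a : M × M → A) (hdiag : ∀ m m', m ≠ m' → a (m, m') = 0)
    (ι : Type u) [Fintype ι] (b c : ι → M → A) (hdec : ∀ m m', a (m, m') = ∑ i, b i m * c i m') :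
    Set.Finite {p : M × M | a p ≠ 0} := by
  classical
  let v : M → (ι → A) := fun m i => b i m
  obtain ⟨F, hF, hspan⟩ := (Submodule.fg_span_iff_fg_span_finset_subset (R := A) (Set.range v)).1
    (IsNoetherian.noetherian _)
  choose g hg using fun x : F => hF x.2
  refine Set.Finite.subset (Set.finite_range fun x : F => (g x, g x)) ?_
  rintro ⟨m, m'⟩ hne
  have hmm : m = m' := by
    by_contra h; exact hne (hdiag _ _ h)
  subst hmm
  by_contra hnot
  apply hne
  let L : (ι → A) →ₗ[A] A := ∑ i, c i m • LinearMap.proj i
  have hL : ∀ n, L (v n) = a (n, m) := fun n => by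
    simp [L, v, hdec, mul_comm]
  have hle : Submodule.span A (F : Set (ι → A)) ≤ LinearMap.ker L := by
    rw [Submodule.span_le]
    intro x hx
    have := hL (g ⟨x, hx⟩)
    rw [hg ⟨x, hx⟩, hdiag _ _ (fun h => hnot ⟨⟨x, hx⟩, by simp [h]⟩)] at this
    exact this
  have := hle (hspan ▸ Submodule.subset_span ⟨m, rfl⟩ : v m ∈ Submodule.span A (F : Set (ι → A)))
  rw [LinearMap.mem_ker, hL] at this
  exact this
end Groth.Agent.S2978
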