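import Mathlib.RingTheory.Smooth.Basic
import Mathlib.RingTheory.Spectrum.Prime.Topology
import Mathlib.RingTheory.TensorProduct.Basic
import Mathlib.FieldTheory.IsAlgClosed.Basic
import Mathlib.RingTheory.Ideal.Quotient.Operations
import Groth.Agent.L02.SchDom.MonoLocus

set_option autoImplicit false
namespace SGA3b
end SGA3b
universe u
open TensorProduct
open SGA3b

namespace Groth.Agent.S2986

/-- Let R be a ring, B a smooth R-algebra whose geometric fibres are connected (for every algebraically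
closed field K under R, Spec (K ⊗_R B) is connected), e : B → R an R-algebra section with kernel 𝔪,
and J a finitely generated ideal of B (a finitely presented closed subscheme Y of X = Spec B). Then
there is n ≥ 0 such that for every R-algebra R': the base change of X to R' lies in Y (every element
of J becomes zero in R' ⊗_R B) if and only if the base change of the n-th infinitesimal
neighbourhood Spec (B/𝔪^(n+1)) of the section lies in Y. (The published statement is for a general
base and X; this is the affine case.) -/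
theorem result (R B : Type u) [CommRing R] [CommRing B] [Algebra R B]
    [Algebra.Smooth R B]
    (hconn : ∀ (K : Type u) [Field K] [IsAlgClosed K] [Algebra R K], ConnectedSpace (PrimeSpectrum (K ⊗[R] B)))
    (e : B →ₐ[R] R) (J : Ideal B) (hJ : J.FG) :
    ∃ n : ℕ, ∀ (R' : Type u) [CommRing R'] [Algebra R R'],
      (∀ x ∈ J, (1 : R') ⊗ₜ[R] x = (0 : R' ⊗[R] B)) ↔
        (∀ x ∈ J, (1 : R') ⊗ₜ[R] (Ideal.Quotient.mk (RingHom.ker e ^ (n + 1)) x) = (0 : R' ⊗[R] (B ⧸ RingHom.ker e ^ (n + 1)))) := by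
  classical
  obtain ⟨G, hG⟩ := hJ
  obtain ⟨c, N, -, hc⟩ := Groth.L02.SchDom.exists_section_locus e G
  refine ⟨N, fun R' _ _ => ⟨fun h x hx => ?_, fun h => ?_⟩⟩
  · have := congrArg ((Ideal.Quotient.mkₐ R (RingHom.ker e ^ (N + 1))).toLinearMap.lTensor R') (h x hx)
    simpa using this
  have hdom : ∀ (K : Type u) [Field K] [Algebra R K], NoZeroDivisors (K ⊗[R] B) := by
    intro K _ _
    let f : AlgebraicGeometry.Spec (CommRingCat.of B) ⟶ AlgebraicGeometry.Spec (CommRingCat.of R) :=
      AlgebraicGeometry.Spec.map (CommRingCat.ofHom (algebraMap R B))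
    haveI : AlgebraicGeometry.Smooth f :=
      (AlgebraicGeometry.HasRingHomProperty.Spec_iff (P := @AlgebraicGeometry.Smooth)).2
        (RingHom.smooth_algebraMap.2 inferInstance)
    refine Groth.L02.SchDom.IrrFib.noZeroDivisors f (Groth.L02.SchDom.IrrFib.of_connected f fun s => ?_)
      (CategoryTheory.CategoryStruct.id _) (CategoryTheory.Category.id_comp f) K
    obtain ⟨φ, hφ⟩ := AlgebraicGeometry.Spec.map_surjective (Red.geomPt s)
    letI := φ.hom.toAlgebra
    let L := AlgebraicClosure ((AlgebraicGeometry.Spec (CommRingCat.of R)).residueField s)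
    haveI : ConnectedSpace ↥(AlgebraicGeometry.Spec (CommRingCat.of (L ⊗[R] B))) := hconn L
    rw [← hφ]
    let ε := (AlgebraicGeometry.pullbackSpecIso R L B).symm ≪≫ CategoryTheory.Limits.pullbackSymmetry _ _
    exact ε.hom.homeomorph.surjective.connectedSpace ε.hom.continuous
  have hmem : ∀ x ∈ G, (1 : R') ⊗ₜ[R] x ∈ Groth.L02.SchDom.sectionIdeal e R' ^ (N + 1) := by
    intro x hx
    have h1 : (1 : R') ⊗ₜ[R] x ∈ RingHom.ker
        (Algebra.TensorProduct.map (AlgHom.id R R') (Ideal.Quotient.mkₐ R (RingHom.ker e ^ (N + 1)))) :=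
      h x (hG ▸ Ideal.subset_span hx)
    rw [Algebra.TensorProduct.lTensor_ker _ (Ideal.Quotient.mkₐ_surjective R _)] at h1
    rw [Groth.L02.SchDom.sectionIdeal, ← Ideal.map_pow]
    rwa [show RingHom.ker (Ideal.Quotient.mkₐ R (RingHom.ker e ^ (N + 1))) = RingHom.ker e ^ (N + 1)
      from Ideal.mk_ker] at h1
  obtain ⟨hh, hev, hzero⟩ := (hc R').2 ((hc R').1 hmem)
  have hinj := Groth.L02.SchDom.mul_injective_of_fibres (A := R') hh (fun K _ _ => by
    letI : Algebra R K := ((algebraMap R' K).comp (algebraMap R R')).toAlgebra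
    haveI : IsScalarTower R R' K := IsScalarTower.of_algebraMap_eq fun _ => rfl
    haveI := hdom K
    let ε : K ⊗[R'] (R' ⊗[R] B) ≃ₐ[K] K ⊗[R] B := Algebra.TensorProduct.cancelBaseChange R R' K K B
    haveI : NoZeroDivisors (K ⊗[R'] (R' ⊗[R] B)) := ε.injective.noZeroDivisors ε (map_zero _) (map_mul _)
    have hne : (1 : K) ⊗ₜ[R'] hh ≠ 0 := Groth.L02.SchDom.one_tmul_ne_zero_of_eval
      ((Algebra.ofId R' K).comp (Groth.L02.SchDom.evalSection e R')) hh (by simp [hev])
    exact fun z w hzw => mul_left_cancel₀ hne hzw) R'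
  have key : ∀ x ∈ G, (1 : R') ⊗ₜ[R] x = (0 : R' ⊗[R] B) := fun x hx => by
    refine (Algebra.TensorProduct.lid R' (R' ⊗[R] B)).symm.injective (hinj ?_)
    show (1 : R') ⊗ₜ[R'] hh * (Algebra.TensorProduct.lid R' (R' ⊗[R] B)).symm _ =
      (1 : R') ⊗ₜ[R'] hh * (Algebra.TensorProduct.lid R' (R' ⊗[R] B)).symm 0
    have h2 : (Algebra.TensorProduct.lid R' (R' ⊗[R] B)).symm hh = (1 : R') ⊗ₜ[R'] hh := rfl
    rw [← h2, ← map_mul, ← map_mul, hzero x hx, mul_zero]
  intro x hx
  refine (Ideal.span_le (I := RingHom.ker (Algebra.TensorProduct.includeRight : B →ₐ[R] R' ⊗[R] B).toRingHom)).2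
    key ?_
  exact hG.symm ▸ hx

end Groth.Agent.S2986
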