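import Groth.Statements.S2987
import Groth.Agent.L25.MultType.Isotrivial

set_option autoImplicit false
universe u
open TensorProduct SGA3b
open SGA3b

namespace Groth.Agent.S2987

/-- Let R be a ring, I a nilpotent ideal, and H = Spec A an affine R-group with A flat over R. If the
base change of H to R/I is a quasi-isotrivial group of multiplicative type, then so is H. (Affine
group schemes over an affine base are taken in Hopf-algebra form; base change is the tensor
product.) -/
theorem result (R : Type u) [CommRing R] (A : Type u) [CommRing A] [HopfAlgebra R A] [Module.Flat R A] (I : Ideal R) (hI : IsNilpotent I)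
    (h0 : IsQuasiIsotrivial (R ⧸ I) ((R ⧸ I) ⊗[R] A)) : IsQuasiIsotrivial R A := by
  obtain ⟨s₀, hs₀, hcov⟩ := h0
  refine ⟨Ideal.Quotient.mk I ⁻¹' s₀, ?_, fun f hf => ?_⟩
  · by_contra hcon
    obtain ⟨p, hp, hle⟩ := Ideal.exists_le_maximal _ hcon
    have hIp : I ≤ p := fun x hx => by
      obtain ⟨n, hn⟩ := hI
      refine hp.isPrime.mem_of_pow_mem n ?_
      have h1 : x ^ n = 0 := by simpa [hn] using Ideal.pow_mem_pow hx n
      rw [h1]
      exact p.zero_mem
    have hle2 : Ideal.span s₀ ≤ p.map (Ideal.Quotient.mk I) := Ideal.span_le.2 fun y hy => by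
      obtain ⟨f, rfl⟩ := Ideal.Quotient.mk_surjective y
      exact Ideal.mem_map_of_mem _ (hle (Ideal.subset_span hy))
    rw [hs₀, top_le_iff] at hle2
    have h2 := congrArg (Ideal.comap (Ideal.Quotient.mk I)) hle2
    rw [Ideal.comap_map_of_surjective _ Ideal.Quotient.mk_surjective, Ideal.comap_top,
      ← RingHom.ker_eq_comap_bot, Ideal.mk_ker, sup_eq_left.2 hIp] at h2
    exact hp.ne_top h2
  letI := Groth.L25.MultType.locQuotAlgebra I f
  haveI := Groth.L25.MultType.locQuot_tower I f
  obtain ⟨hsurj, hker⟩ := Groth.L25.MultType.locQuot_surjective_and_ker I f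
  have hnil : IsNilpotent (RingHom.ker (algebraMap (Localization.Away f)
      (Localization.Away (Ideal.Quotient.mk I f)))) := by
    obtain ⟨n, hn⟩ := hI
    refine ⟨n, le_bot_iff.1 ((pow_le_pow_left' hker n).trans ?_)⟩
    rw [← Ideal.map_pow, hn, Ideal.zero_eq_bot, Ideal.map_bot]
  refine Groth.L25.MultType.isQuasiIsotrivialConst_of_nilpotent hsurj hnil ?_
  obtain ⟨R₀, _, _, he, hff, hd⟩ := hcov _ hf
  refine ⟨R₀, inferInstance, inferInstance, he, hff, ?_⟩
  exact Groth.L25.MultType.isDiag_of_bialgEquiv (Groth.L25.MultType.baseChangeEquiv _ R₀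
    ((Groth.L25.MultType.cancelBialg R (R ⧸ I) (Localization.Away (Ideal.Quotient.mk I f)) A).trans
      (Groth.L25.MultType.cancelBialg R (Localization.Away f)
        (Localization.Away (Ideal.Quotient.mk I f)) A).symm)) hd
end Groth.Agent.S2987
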