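import Groth.Statements.S2996
import Groth.Agent.L15.Levi.Conj
-- import your own Groth.Agent.* helpers here

set_option autoImplicit false
set_option backward.isDefEq.respectTransparency.types false
set_option linter.style.haveILetI false
universe u
open Par

namespace Groth.Agent.S2996

open AlgebraicGeometry CategoryTheory MonoidalCategory CartesianMonoidalCategory MonObj GrpObj in
/-- Let G be a reductive S-group, P a parabolic subgroup of G with unipotent radical U, and L, L' two
Levi subgroups of P. Then there is a unique u ∈ U(S) such that conjugation by u carries L onto L'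
(i.e. there is an isomorphism L ≅ L' over P identifying L' with the conjugate of L by u). (The
published statement is for subgroups of type (RC), which include parabolic subgroups; here it is
stated for a parabolic subgroup.) -/
theorem result {S : Scheme.{u}} (G P U L L' : Over S) [GrpObj G] [GrpObj P] [GrpObj U] [GrpObj L] [GrpObj L']
    (hG : Red.IsReductive G) (p : P ⟶ G) (hp : Red.IsParabolic p) (uU : U ⟶ P) (hU : Par.IsUnipotentRadical uU)
    (l : L ⟶ P) (l' : L' ⟶ P) (hl : Par.IsLevi l) (hl' : Par.IsLevi l') :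
    ∃! x : 𝟙_ (Over S) ⟶ U, ∃ e : L ≅ L',
      e.hom ≫ l' = (toUnit L ≫ x ≫ uU) * l * (toUnit L ≫ x ≫ uU)⁻¹ := by
  haveI := hp.1
  haveI := hp.2.2.1
  haveI := Groth.L15.Levi.isAffineHom_parabolic hG p hp
  haveI := hU.1; haveI := hU.2.1; haveI := hU.2.2.2.1
  obtain ⟨U₀, gU₀, u₀, hu₀, hu₀cl, hu₀s, hrad, hrad₀, -, -⟩ := Groth.L15.Levi.exists_radical_compl hG p hp l hl
  haveI := hu₀; haveI := hu₀cl; haveI := hu₀s
  obtain ⟨ε, hεm, hε⟩ := Groth.L15.Levi.radical_unique hU hrad₀
  haveI := hεm
  haveI : IsMonHom (Iso.refl P).hom := inferInstanceAs (IsMonHom (𝟙 _))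
  have hradU : Groth.L15.Levi.IsRadBC uU :=
    hrad.congr uU ε (Iso.refl P) (by rw [hε]; exact (Category.comp_id _).symm)
  exact Groth.L15.Levi.existsUnique_conj hG p hp hradU hU hl hl' (Groth.L15.Levi.isCompl_of_isLevi hl hU).1
    (Groth.L15.Levi.isCompl_of_isLevi hl' hU).1

end Groth.Agent.S2996
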