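import Groth.Statements.S3002
import Groth.Agent.L25.RedOpen.Apply
-- import your own Groth.Agent.* helpers here

set_option autoImplicit false
set_option backward.isDefEq.respectTransparency.types false
set_option linter.style.haveILetI false
set_option maxHeartbeats 1000000
universe u
open CategoryTheory MonoidalCategory CartesianMonoidalCategory MonObj GrpObj AlgebraicGeometry
open Red

namespace Groth.Agent.S3002

/-- The reductivity assertion of (i) and the split maximal torus of (ii): Let S be a scheme, G an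
S-group scheme which is affine, of finite presentation and flat over S (the source assumes flatness
only at the unit section over s₀), with connected fibres, and let s₀ ∈ S be a point whose geometric
fibre G_{s̄₀} is reductive. Then there are an affine open neighbourhood u : Spec A → S of s₀ over
which G is reductive, and an étale surjective morphism v : Spec B → Spec A such that the base change
of G to Spec B has a maximal torus which is split (isomorphic to D(ℤ^r) for some r). (The source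
also gives constancy of the reductive and semisimple ranks over U and finiteness of the Weyl group
over S'.) -/
theorem result (S : Scheme.{u}) (G : Over S) [GrpObj G] [IsAffineHom G.hom] [LocallyOfFinitePresentation G.hom] [Flat G.hom] (hconn : ∀ s : S, _root_.IsConnected (G.hom.base ⁻¹' {s})) (s₀ : S) (h₀ : Red.IsReductiveOver (AlgebraicClosure (S.residueField s₀)) (Red.geomFibre s₀ G)) : ∃ (A : Type u) (_ : CommRing A) (u : Spec (CommRingCat.of A) ⟶ S), IsOpenImmersion u ∧ s₀ ∈ Set.range u.base ∧ Red.IsReductive (Red.bc u G) ∧ ∃ (B : Type u) (_ : CommRing B) (v : Spec (CommRingCat.of B) ⟶ Spec (CommRingCat.of A)), Etale v ∧ Surjective v ∧ ∃ (T : Over (Spec (CommRingCat.of B))) (_ : GrpObj T) (i : T ⟶ Red.bc (v ≫ u) G), Red.IsMaximalTorus i ∧ ∃ r : ℕ, Red.IsSplitTorusWith (Fin r → ℤ) T := by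
  obtain ⟨U₀, hs₀, hU₀⟩ := Groth.L25.RedOpen.exists_affine_reductive hconn s₀ h₀
  obtain ⟨_, ⟨W₀, hW₀, rfl⟩, hsU, hWU₀⟩ := S.isBasis_affineOpens.exists_subset_of_mem_open hs₀ U₀.2
  let U : S.Opens := W₀
  haveI : IsAffine U.toScheme := hW₀
  have hU : Red.IsReductive (Red.bc U.ι G) := by
    refine ⟨MorphismProperty.pullback_snd (P := @IsAffineHom) G.hom U.ι inferInstance, ?_, fun t => ?_⟩
    · let e := ActBC.bcCompIso (S.homOfLE hWU₀) U₀.ι G (Scheme.homOfLE_ι S hWU₀)
      haveI : Smooth (Red.bc (S.homOfLE hWU₀) (Red.bc U₀.ι G)).hom := MorphismProperty.pullback_snd _ _ hU₀.2.1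
      haveI : IsIso e.inv.left := inferInstanceAs (IsIso ((Over.forget _).map e.inv))
      rw [← Over.w e.inv]
      infer_instance
    · exact (Groth.L25.RedOpen.reductive_bcComp_iff U.ι _ rfl).2
        ((Groth.L25.RedOpen.reductive_bcComp_iff U₀.ι _ (by rw [Category.assoc, Scheme.homOfLE_ι])).1
          (Groth.L08.MonoRed.isReductiveOver_geom hU₀ (Red.geomPt t ≫ S.homOfLE hWU₀)))
  haveI := hU.1; haveI := hU.2.1
  let G₁ := Red.bc U.ι G
  let p₁ : U.toScheme := ⟨s₀, hsU⟩
  obtain ⟨B₁, _, v₁, hv₁, hp₁, T, gT, i, hi, r, hsp, -⟩ :=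
    Groth.L08.Borel.exists_split_maxTorus_nhd (G := G₁)
      (Groth.L25.Extension.isConnected_fibre_bc U.ι G hconn) p₁ fun T' _ i' hi' X g hg => by
        obtain ⟨t, ht⟩ := ((Groth.L08.TorusWeights.selfCentral_of_reductiveOver (hU.2.2 p₁)
          (Groth.L08.Borel.isMaxTorus_of_isMaximalTorus hi')).2.2 X g).2 hg
        exact ⟨t, ht.symm⟩
  haveI := hv₁
  obtain ⟨_, ⟨W, hW, rfl⟩, hpW, hWr⟩ :=
    U.toScheme.isBasis_affineOpens.exists_subset_of_mem_open hp₁ v₁.isOpenMap.isOpen_range
  haveI : IsOpenImmersion hW.fromSpec := hW.isOpenImmersion_fromSpec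
  let k := hW.fromSpec
  haveI : IsAffineHom G₁.hom := hU.1
  haveI : Smooth G₁.hom := hU.2.1
  -- reductive over the piece
  have hred : Red.IsReductive (Red.bc (k ≫ U.ι) G) := by
    refine ⟨MorphismProperty.pullback_snd (P := @IsAffineHom) G.hom (k ≫ U.ι) inferInstance, ?_, fun t => ?_⟩
    · let e := ActBC.bcCompIso k U.ι G rfl
      haveI : Smooth (Red.bc k G₁).hom := MorphismProperty.pullback_snd _ _ hU.2.1
      haveI : IsIso e.inv.left := inferInstanceAs (IsIso ((Over.forget _).map e.inv))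
      rw [← Over.w e.inv]
      infer_instance
    · exact (Groth.L25.RedOpen.reductive_bcComp_iff (k ≫ U.ι) _ rfl).2
        ((Groth.L25.RedOpen.reductive_bcComp_iff U.ι _ (Category.assoc _ _ _)).1
          (Groth.L08.MonoRed.isReductiveOver_geom hU (Red.geomPt t ≫ k)))
  -- the cover
  let P := Limits.pullback v₁ k
  haveI : IsAffine P := inferInstanceAs (IsAffine (Limits.pullback v₁ k))
  let v' : Spec (CommRingCat.of Γ(P, ⊤)) ⟶ Spec (CommRingCat.of Γ(U.toScheme, W)) :=
    P.isoSpec.inv ≫ Limits.pullback.snd v₁ k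
  let q : Spec (CommRingCat.of Γ(P, ⊤)) ⟶ Spec (CommRingCat.of B₁) := P.isoSpec.inv ≫ Limits.pullback.fst v₁ k
  have hq : q ≫ v₁ = v' ≫ k := by
    simp only [q, v', Category.assoc, Limits.pullback.condition]
  haveI : Etale (Limits.pullback.snd v₁ k) := MorphismProperty.pullback_snd _ _ hv₁
  haveI : Etale v' := inferInstanceAs (Etale (P.isoSpec.inv ≫ Limits.pullback.snd v₁ k))
  refine ⟨Γ(U.toScheme, W), inferInstance, k ≫ U.ι, inferInstance, ?_, hred, Γ(P, ⊤), inferInstance, v',
    inferInstance, ⟨fun y => ?_⟩, ?_⟩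
  · obtain ⟨y, hy⟩ : p₁ ∈ Set.range k.base := hW.range_fromSpec.ge hpW
    exact ⟨y, by rw [Scheme.Hom.comp_apply, hy]; rfl⟩
  · obtain ⟨x, hx⟩ := hWr (hW.range_fromSpec.le ⟨y, rfl⟩)
    obtain ⟨z, -, hz⟩ := Scheme.Pullback.exists_preimage_pullback (f := v₁) (g := k) x y hx
    exact ⟨P.isoSpec.hom z, by
      show (P.isoSpec.inv ≫ Limits.pullback.snd v₁ k) (P.isoSpec.hom z) = y
      rw [← Scheme.Hom.comp_apply, Iso.hom_inv_id_assoc]
      exact hz⟩
  -- the torus
  haveI := hi.1; haveI := hi.2.1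
  haveI : Smooth (Red.bc v₁ G₁).hom := MorphismProperty.pullback_snd _ _ hU.2.1
  haveI : IsAffineHom (Red.bc v₁ G₁).hom := MorphismProperty.pullback_snd (P := @IsAffineHom) G₁.hom v₁ inferInstance
  haveI : Smooth (Red.bc q (Red.bc v₁ G₁)).hom := MorphismProperty.pullback_snd _ _ ‹Smooth (Red.bc v₁ G₁).hom›
  let e₁ := ActBC.bcCompIso q v₁ G₁ hq
  let e₂ := ActBC.bcCompIso (v' ≫ k) U.ι G (Category.assoc v' k U.ι)
  haveI : IsMonHom (e₁ ≪≫ e₂).hom := inferInstanceAs (IsMonHom (e₁.hom ≫ e₂.hom))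
  refine ⟨Red.bc q T, inferInstance, (Over.pullback q).map i ≫ (e₁ ≪≫ e₂).hom, ?_, r,
    Groth.L08.Borel.isSplit_bc q hsp⟩
  exact Groth.L25.RedOpen.isMaximalTorus_comp_iso (e₁ ≪≫ e₂) (Groth.L08.Borel.isMaximalTorus_bc hi q)

end Groth.Agent.S3002
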