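import Groth.Statements.S3009
import Groth.Agent.L25.RedOpen.Apply
-- import your own Groth.Agent.* helpers here

set_option autoImplicit false
set_option backward.isDefEq.respectTransparency.types false
set_option linter.style.haveILetI false
set_option maxHeartbeats 1000000
universe u
open CategoryTheory MonoidalCategory CartesianMonoidalCategory MonObj GrpObj AlgebraicGeometry
open Red

namespace Groth.Agent.S3009

/-- Let S be a scheme, G an S-group scheme smooth and affine over S with connected fibres, and i : T → G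
a closed subgroup scheme which is a torus. Then the set of points s ∈ S such that the geometric
fibre G_{s̄} is reductive, T_{s̄} is a maximal torus of it, and G_{s̄} has semisimple rank 1 —
written as dim G_{s̄} = dim T_{s̄} + 2 — is open in S. -/
theorem result (S : Scheme.{u}) (G T : Over S) [GrpObj G] [GrpObj T] [IsAffineHom G.hom] [Smooth G.hom] (hconn : ∀ s : S, _root_.IsConnected (G.hom.base ⁻¹' {s})) (i : T ⟶ G) [IsMonHom i] (hi : IsClosedImmersion i.left) (hT : Red.IsTorus T) : IsOpen {s : S | Red.IsReductiveOver (AlgebraicClosure (S.residueField s)) (Red.geomFibre s G) ∧ Red.IsMaximalTorus ((Over.pullback (Red.geomPt s)).map i) ∧ topologicalKrullDim ↥(Red.geomFibre s G).left = topologicalKrullDim ↥(Red.geomFibre s T).left + 2} := by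
  haveI := hi
  haveI : Mono i := Over.mono_of_mono_left i
  refine isOpen_iff_forall_mem_open.2 ?_
  rintro s ⟨hred, hmax, hdim⟩
  obtain ⟨U₁, hs₁, hU₁⟩ := Groth.L25.RedOpen.exists_nhd_reductive hconn s hred
  obtain ⟨Z, gZ, z, hz, -, -⟩ := Groth.L25.Locus.exists_smooth_centralizer
    (Groth.L25.Locus.locally_of_multTypeFT (Groth.L25.Locus.isMultTypeFT_of_isTorus hT)) i
  obtain ⟨f, hf⟩ := (hz.2.2 T i).2 fun X x h => by
    rw [← MonObj.mul_comp, ← MonObj.mul_comp, Groth.L08.TorusWeights.torus_comm hT]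
  obtain ⟨U₂, hs₂, -, hU₂⟩ :=
    Groth.L08.TorusWeights.exists_nhd_selfCentral hconn i hT z hz f hf s hred hmax
  haveI : Smooth T.hom := Groth.L08.Borel.smooth_of_isTorus hT
  obtain ⟨U₃, n, hs₃, hn⟩ := Groth.L08.Borel.exists_open_fibre_dim G s
  obtain ⟨U₄, m, hs₄, hm⟩ := Groth.L08.Borel.exists_open_fibre_dim T s
  have hmem : ∀ (V : S.Opens) (t : S), t ∈ V → Red.geomPt t (IsLocalRing.closedPoint _) ∈ V := fun V t ht => by
    rw [Groth.L08.Borel.geomPt_apply]; exact ht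
  have hnm : (n : WithBot ℕ∞) = m + 2 := by
    rw [← hn _ (Red.geomPt s) (hmem U₃ s hs₃), ← hm _ (Red.geomPt s) (hmem U₄ s hs₄)]
    exact hdim
  refine ⟨(U₁ ⊓ U₂) ⊓ (U₃ ⊓ U₄), fun t ht => ?_, ((U₁ ⊓ U₂) ⊓ (U₃ ⊓ U₄)).2, ⟨⟨hs₁, hs₂⟩, hs₃, hs₄⟩⟩
  obtain ⟨⟨ht₁, ht₂⟩, ht₃, ht₄⟩ := ht
  refine ⟨hU₁ _ _ (hmem U₁ t ht₁), ?_, ?_⟩
  · obtain ⟨σ, hσ⟩ := Groth.L08.Borel.exists_pt_lift_etale U₂.ι (Red.geomPt t) ⟨t, ht₂⟩
      (Groth.L08.Borel.geomPt_apply t _).symm
    haveI : Smooth (Red.bc U₂.ι G).hom := MorphismProperty.pullback_snd _ _ ‹Smooth G.hom›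
    haveI : IsAffineHom (Red.bc U₂.ι G).hom := MorphismProperty.pullback_snd (P := @IsAffineHom) G.hom U₂.ι inferInstance
    have h := Groth.L25.RedOpen.isMaximalTorus_comp_iso (ActBC.bcCompIso σ U₂.ι G hσ)
      (Groth.L08.Borel.isMaximalTorus_bc hU₂ σ)
    haveI : IsMonHom (ActBC.bcCompIso σ U₂.ι T hσ).symm.hom :=
      inferInstanceAs (IsMonHom (ActBC.bcCompIso σ U₂.ι T hσ).inv)
    have h' := Groth.L08.Borel.isMaximalTorus_iso_comp h (ActBC.bcCompIso σ U₂.ι T hσ).symm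
    rwa [Iso.symm_hom, ActBC.bcCompIso_hom_naturality, Iso.inv_hom_id_assoc] at h'
  · rw [hn _ (Red.geomPt t) (hmem U₃ t ht₃), hm _ (Red.geomPt t) (hmem U₄ t ht₄)]
    exact hnm

end Groth.Agent.S3009
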