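import Groth.Statements.S3011
import Groth.Agent.L14.Splitting.Pid
import Groth.Agent.L14.Iso.SameType
import Groth.Agent.S2963
import Mathlib.Analysis.Complex.Polynomial.Basic

set_option autoImplicit false
set_option backward.isDefEq.respectTransparency.types false
set_option linter.style.haveILetI false
universe u
open CategoryTheory MonoidalCategory CartesianMonoidalCategory MonObj GrpObj AlgebraicGeometry
open Red

namespace Groth.Agent.S3011

/-- Uniqueness of Chevalley schemes: let G and G' be reductive group schemes over Spec ℤ each possessing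
a split maximal torus. If the base changes of G and G' to Spec ℂ are split of the same type (admit
splittings with the same root datum), then G and G' are isomorphic as group schemes over Spec ℤ.
Conjugacy of maximal tori in reductive groups over algebraically closed fields (any two maximal tori
T, T' of such a group H are conjugate by a point of H, in the sense that conjugating T by it lands
in T' on points with values in any scheme) is carried as the hypothesis hconj. -/
theorem result (hconj : ∀ (K : Type u) [Field K] [IsAlgClosed K] (H : Over (Spec (CommRingCat.of K))) [GrpObj H], Red.IsReductive H → ∀ (T T' : Over (Spec (CommRingCat.of K))) [GrpObj T] [GrpObj T'] (i : T ⟶ H) (i' : T' ⟶ H), Red.IsMaximalTorus i → Red.IsMaximalTorus i' → ∃ g : 𝟙_ (Over (Spec (CommRingCat.of K))) ⟶ H, ∀ (X : Over (Spec (CommRingCat.of K))) (t : X ⟶ T), ∃ t' : X ⟶ T', (toUnit X ≫ g) * (t ≫ i) * (toUnit X ≫ g)⁻¹ = t' ≫ i') (G G' : Over (Spec (CommRingCat.of (ULift.{u} ℤ)))) [GrpObj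 G] [GrpObj G'] (hG : Red.IsReductive G) (hG' : Red.IsReductive G') (hT : ∃ (T : Over _) (_ : GrpObj T) (i : T ⟶ G), Red.IsMaximalTorus i ∧ ∃ r : ℕ, Red.IsSplitTorusWith (Fin r → ℤ) T) (hT' : ∃ (T' : Over _) (_ : GrpObj T') (i' : T' ⟶ G'), Red.IsMaximalTorus i' ∧ ∃ r : ℕ, Red.IsSplitTorusWith (Fin r → ℤ) T') {ι' M' N' : Type} [AddCommGroup M'] [Module ℤ M'] [AddCommGroup N'] [Module ℤ N'] (Q : RootPairing ι' ℤ M' N') (hC : Red.IsSplitOfType Q (Red.bc (Spec.map (CommRingCat.ofHom ((ULift.ringEquiv.{0, u} (R := ℂ)).symm.toRingHom.comp ((Int.castRingHom ℂ).comp (ULift.ringEquiv.{0, u} (R := ℤ)).toRingHom)))) G)) (hC' : Red.IsSplitOfType Q (Red.bc (Spec.map (CommRingCat.ofHom ((ULift.ringEquiv.{0, u} (R := ℂ)).symm.toRingHom.comp ((Int.castRingHom ℂ).comp (ULift.ringEquiv.{0, u} (R := ℤ)).toRingHom)))) G')) : Nonempty (Grp.mk G ≅ Grp.mk G') := by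
  obtain ⟨T, _, i, hi, r, ⟨e⟩⟩ := hT
  obtain ⟨T', _, i', hi', r', ⟨e'⟩⟩ := hT'
  haveI : IsDomain (ULift.{u} ℤ) := ULift.ringEquiv.toMulEquiv.isDomain ℤ
  haveI : IsPrincipalIdealRing (ULift.{u} ℤ) :=
    IsPrincipalIdealRing.of_surjective (ULift.ringEquiv.{0, u} (R := ℤ)).symm.toRingHom
      (ULift.ringEquiv.{0, u} (R := ℤ)).symm.surjective
  haveI : IsAlgClosed (ULift.{u} ℂ) := IsAlgClosed.of_exists_root _ fun p hmp hp => by
    let e := ULift.ringEquiv.{0, u} (R := ℂ)
    obtain ⟨x, hx⟩ := IsAlgClosed.exists_root (p.map e.toRingHom) (by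
      rw [Polynomial.degree_map_eq_of_injective e.injective]; exact hp.degree_pos.ne')
    refine ⟨e.symm x, e.injective ?_⟩
    have h := Polynomial.eval₂_at_apply (p := p) e.toRingHom (e.symm x)
    rw [show e.toRingHom (e.symm x) = x from e.apply_symm_apply x, ← Polynomial.eval_map, show _ = (0 : ℂ) from hx] at h
    rw [map_zero]
    exact h.symm
  obtain ⟨R⟩ := Groth.L14.Splitting.exists_rootData_pid hG i hi e
  obtain ⟨R'⟩ := Groth.L14.Splitting.exists_rootData_pid hG' i' hi' e'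
  let j : Spec (CommRingCat.of (ULift.{u} ℂ)) ⟶ Spec (CommRingCat.of (ULift.{u} ℤ)) :=
    Spec.map (CommRingCat.ofHom ((ULift.ringEquiv.{0, u} (R := ℂ)).symm.toRingHom.comp
      ((Int.castRingHom ℂ).comp (ULift.ringEquiv.{0, u} (R := ℤ)).toRingHom)))
  haveI := hG.1; haveI := hG.2.1; haveI := hG'.1; haveI := hG'.2.1
  haveI := hi.1; haveI := hi'.1
  have hGc := Groth.L14.Splitting.isReductive_bc hG j
  have hGc' := Groth.L14.Splitting.isReductive_bc hG' j
  let Dc := (R.bc j fun _ => trivial).splitRed (fun _ => trivial) hGc (Groth.L08.Borel.isMaximalTorus_bc hi j)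
  let Dc' := (R'.bc j fun _ => trivial).splitRed (fun _ => trivial) hGc' (Groth.L08.Borel.isMaximalTorus_bc hi' j)
  obtain ⟨D₀, ⟨e₀⟩⟩ := hC
  obtain ⟨D₀', ⟨e₀'⟩⟩ := hC'
  obtain ⟨f⟩ := Groth.Agent.S2963.result (ULift.{u} ℂ) _ hGc (hconj (ULift.{u} ℂ) _ hGc) Dc D₀
  obtain ⟨f'⟩ := Groth.Agent.S2963.result (ULift.{u} ℂ) _ hGc' (hconj (ULift.{u} ℂ) _ hGc') Dc' D₀'
  let D := R.splitRed (fun _ => trivial) hG hi
  let D' := R'.splitRed (fun _ => trivial) hG' hi'
  have g : RootPairing.Equiv D'.P D.P :=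
    RootPairing.Equiv.comp f.symm (RootPairing.Equiv.comp e₀.symm (RootPairing.Equiv.comp e₀' f'))
  exact Groth.L14.Iso.grp_iso_of_equiv D D' g

end Groth.Agent.S3011
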