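import Groth.Statements.S3013
import Groth.Agent.L14.Splitting.Compare

set_option autoImplicit false
set_option backward.isDefEq.respectTransparency.types false
set_option linter.style.haveILetI false
universe u
open CategoryTheory MonoidalCategory CartesianMonoidalCategory MonObj GrpObj AlgebraicGeometry
open Red

namespace Groth.Agent.S3013

/-- Let k be a field and G, G' two reductive k-group schemes whose base changes to an algebraic closure
of k are isomorphic as group schemes. Then there is a finite separable field extension K of k over
which G and G' become isomorphic. Conjugacy of maximal tori in reductive groups over algebraically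
closed fields (any maximal torus is carried into any other by conjugation by some rational point),
which the published proof takes as known, is carried as the hypothesis hconj. -/
theorem result (hconj : ∀ (K : Type u) [Field K] [IsAlgClosed K] (H : Over (Spec (CommRingCat.of K))) [GrpObj H], Red.IsReductive H → ∀ (T T' : Over (Spec (CommRingCat.of K))) [GrpObj T] [GrpObj T'] (i : T ⟶ H) (i' : T' ⟶ H), Red.IsMaximalTorus i → Red.IsMaximalTorus i' → ∃ g : 𝟙_ (Over (Spec (CommRingCat.of K))) ⟶ H, ∀ (X : Over (Spec (CommRingCat.of K))) (t : X ⟶ T), ∃ t' : X ⟶ T', (toUnit X ≫ g) * (t ≫ i) * (toUnit X ≫ g)⁻¹ = t' ≫ i') (k : Type u) [Field k] (G G' : Over (Spec (CommRingCat.of k))) [GrpObj G] [GrpObj G'] (hG : Red.IsReductive G) (hG' : Red.IsReductive G') (h : Nonempty (Grp.mk (Red.bc (Spec.map (CommRingCat.ofHom (algebraMap k (AlgebraicClosure k)))) G) ≅ Grp.mk (Red.bc (Spec.map (CommRingCat.ofHom (algebraMap k (AlgebraicClosure k)))) G'))) : ∃ (K : Type u) (_ : Field K) (_ : Algebra k K), Module.Finite k K ∧ Algebra.IsSeparable k K ∧ Nonempty (Grp.mk (Red.bc (Spec.map (CommRingCat.ofHom (algebraMap k K)))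 G) ≅ Grp.mk (Red.bc (Spec.map (CommRingCat.ofHom (algebraMap k K))) G')) := by
  obtain ⟨f⟩ := h
  exact Groth.L14.Splitting.exists_finite_sep_iso k G G' hG hG' _ f

end Groth.Agent.S3013
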