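import Groth.Statements.S3014
import Groth.Agent.L25.GrpDescend

set_option autoImplicit false
set_option maxSynthPendingDepth 3
set_option backward.isDefEq.respectTransparency.types false
set_option backward.isDefEq.respectTransparency false
universe u
open CategoryTheory MonoidalCategory CartesianMonoidalCategory MonObj GrpObj AlgebraicGeometry
open Red

namespace Groth.Agent.S3014

/-- (i)⇒(ii): Let G and G' be reductive S-groups and f : S' → S a surjective morphism such that the base
changes of G and G' to S' are isomorphic as group schemes. Then for every s ∈ S the geometric fibres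
G_{s̄} and G'_{s̄} are isomorphic. -/
theorem result (S : Scheme.{u}) (G G' : Over S) [GrpObj G] [GrpObj G'] (hG : Red.IsReductive G) (hG' : Red.IsReductive G') (S' : Scheme.{u}) (f : S' ⟶ S) [Surjective f] (hiso : Nonempty (Grp.mk (Red.bc f G) ≅ Grp.mk (Red.bc f G'))) (s : S) : Nonempty (Grp.mk (Red.geomFibre s G) ≅ Grp.mk (Red.geomFibre s G')) := by
  obtain ⟨s', hs'⟩ := f.surjective s
  subst hs'
  let κ := S.residueField (f s')
  let κ' := S'.residueField s'
  let Ω := AlgebraicClosure κ'
  letI : Algebra κ κ' := (f.residueFieldMap s').hom.toAlgebra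
  letI : Algebra κ Ω := ((algebraMap κ' Ω).comp (algebraMap κ κ')).toAlgebra
  let φ : AlgebraicClosure κ →ₐ[κ] Ω := IsAlgClosed.lift
  letI : Algebra (AlgebraicClosure κ) Ω := φ.toRingHom.toAlgebra
  have hring : φ.toRingHom.comp (algebraMap κ (AlgebraicClosure κ)) =
      (algebraMap κ' Ω).comp (f.residueFieldMap s').hom := RingHom.ext fun x => φ.commutes x
  have hg : Spec.map (CommRingCat.ofHom (algebraMap (AlgebraicClosure κ) Ω)) ≫ Red.geomPt (f s') = Red.geomPt s' ≫ f := by
    show Spec.map (CommRingCat.ofHom φ.toRingHom) ≫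
      Spec.map (CommRingCat.ofHom (algebraMap κ (AlgebraicClosure κ))) ≫ S.fromSpecResidueField (f s') =
      (Spec.map (CommRingCat.ofHom (algebraMap κ' Ω)) ≫ S'.fromSpecResidueField s') ≫ f
    rw [Category.assoc, ← Scheme.Hom.SpecMap_residueFieldMap_fromSpecResidueField f s', ← Category.assoc,
      ← Category.assoc, ← Spec.map_comp, ← Spec.map_comp]
    exact congrArg (fun r => r ≫ S.fromSpecResidueField (f s')) (congrArg Spec.map (CommRingCat.hom_ext hring))
  haveI := hG.2.1
  haveI := hG'.2.1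
  haveI := hG.1
  haveI := hG'.1
  obtain ⟨e⟩ := hiso
  haveI : IsMonHom ((Over.pullback (Red.geomPt s')).map e.hom.hom.hom) :=
    Groth.L25.SpreadSub.isMonHom_map (Red.geomPt s') _
  haveI := Groth.L25.LimHom.isMonHom_cmp_inv (rfl : Red.geomPt s' ≫ f = Red.geomPt s' ≫ f) G
  haveI := Groth.L25.LimHom.isMonHom_cmp (rfl : Red.geomPt s' ≫ f = Red.geomPt s' ≫ f) G'
  haveI : IsIso e.hom.hom.hom := ((Grp.forget (Over S')).mapIso e).isIso_hom
  let m : Red.bc (Red.geomPt s' ≫ f) G ⟶ Red.bc (Red.geomPt s' ≫ f) G' :=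
    (Groth.L25.LimHom.cmp rfl G).inv ≫ (Over.pullback (Red.geomPt s')).map e.hom.hom.hom ≫
      (Groth.L25.LimHom.cmp rfl G').hom
  haveI : IsMonHom m := inferInstanceAs (IsMonHom (_ ≫ _ ≫ _))
  haveI : IsIso m := inferInstanceAs (IsIso (_ ≫ _ ≫ _))
  exact Groth.L25.GrpDescend.exists_grpIso (AlgebraicClosure κ) Ω (Red.geomPt (f s')) G G' _ hg
    ⟨Grp.mkIso' (asIso m)⟩

end Groth.Agent.S3014
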