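import Groth.Statements.S3017
import Groth.Agent.L08.GQuot.Artinian
import Groth.Agent.L08.GQuot.Struct
import Groth.Agent.S3036
-- import your own Groth.Agent.* helpers here

set_option autoImplicit false
universe u
open CategoryTheory MonoidalCategory CartesianMonoidalCategory MonObj GrpObj AlgebraicGeometry TensorProduct
open SGA3

namespace Groth.Agent.S3017

/-- Let A be a local artinian ring, F and G group schemes flat and locally of finite type over A, and u
: F → G a homomorphism which is a quasi-compact monomorphism. Then there are an A-scheme X and a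
morphism p : G → X over A (the quotient F\G) such that p is faithfully flat and locally of finite
presentation, the square formed by (f, g) ↦ u(f) · g, the second projection F ×_A G → G and p is
cartesian, and X is separated and flat over A, and smooth over A when G is. -/
theorem result (A : Type u) [CommRing A] [IsArtinianRing A] [IsLocalRing A]
    (F G : Over (Spec (CommRingCat.of A))) [GrpObj F] [GrpObj G] [Flat F.hom] [LocallyOfFiniteType F.hom]
    [Flat G.hom] [LocallyOfFiniteType G.hom] (u : F ⟶ G) [IsMonHom u] [Mono u] [QuasiCompact u.left] :
    ∃ (X : Over (Spec (CommRingCat.of A))) (p : G ⟶ X),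
      Flat p.left ∧ Surjective p.left ∧ LocallyOfFinitePresentation p.left ∧
      IsPullback ((u ▷ G) ≫ μ[G]) (snd F G) p p ∧
      IsSeparated X.hom ∧ Flat X.hom ∧ (Smooth G.hom → Smooth X.hom) := by
  haveI : IsClosedImmersion u.left := Groth.Agent.S3036.result A F G u
  obtain ⟨Y, p, hps, hpf, hpl, sq⟩ := Groth.L08.GQuot.exists_quotient_artinian u
  obtain ⟨X, q, h1, h2, h3, h4, -, h6, -, h8, h9⟩ := Groth.L08.GQuot.exists_struct (v := u) p sq
  exact ⟨X, q, h2, h1, h3, h4, h9 inferInstance, h6 inferInstance, h8⟩

end Groth.Agent.S3017
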