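import Groth.Statements.S3021
import Groth.Agent.Lead.Subcomod

set_option autoImplicit false
universe u
open CategoryTheory MonoidalCategory CartesianMonoidalCategory MonObj GrpObj AlgebraicGeometry TensorProduct
open SGA3

open TensorProduct

namespace Groth.Agent.S3021

/-- Let A be a commutative ring, C an A-coalgebra which is projective as an A-module, V a C-comodule and
M an A-submodule of V. Then there is a smallest subcomodule of V containing M, and it is finitely
generated over A when M is. -/
theorem result (A : Type u) [CommRing A] (C : Type u) [AddCommGroup C] [Module A C]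
    [Coalgebra A C] [Module.Projective A C] (V : Type u) [AddCommGroup V] [Module A V] [HopfRep.Comod A C V]
    (M : Submodule A V) :
    ∃ W : Submodule A V, HopfRep.IsSubcomod (k := A) (A := C) W ∧ M ≤ W ∧
      (∀ W' : Submodule A V, HopfRep.IsSubcomod (k := A) (A := C) W' → M ≤ W' → W ≤ W') ∧
      (M.FG → W.FG) := by
  classical
  let W : Submodule A V := ⨆ φ : C →ₗ[A] A, M.map (Groth.L08.fAct V φ)
  have hmem : ∀ φ : C →ₗ[A] A, ∀ m ∈ M, Groth.L08.fAct V φ m ∈ W := fun φ m hm =>
    Submodule.mem_iSup_of_mem φ ⟨m, hm, rfl⟩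
  have hMW : M ≤ W := fun m hm => by
    have := hmem Coalgebra.counit m hm
    rwa [Groth.L08.fAct_counit] at this
  refine ⟨W, Groth.Lead.Subcomod.isSubcomod_of_fAct_mem fun ψ w hw => ?_, hMW,
    fun W' hW' hM' => iSup_le fun φ => Submodule.map_le_iff_le_comap.2 fun m hm =>
      Groth.Lead.Subcomod.fAct_mem hW' (hM' hm) φ, fun hfg => ?_⟩
  · refine Submodule.iSup_induction _ (motive := fun w => Groth.L08.fAct V ψ w ∈ W) hw (fun φ x hx => ?_) ?_ fun x y hx hy => ?_
    · obtain ⟨m, hm, rfl⟩ := hx
      rw [← LinearMap.comp_apply, ← Groth.L08.fAct_comp]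
      exact hmem _ m hm
    · rw [map_zero]; exact Submodule.zero_mem _
    · rw [map_add]; exact Submodule.add_mem _ hx hy
  · obtain ⟨φ, hφ⟩ := Groth.Lead.Subcomod.exists_resolution (A := A) (C := C) (V := V)
    obtain ⟨G, hG⟩ := hfg
    choose F hF using fun m : V => hφ (HopfRep.Comod.coact (k := A) (A := C) m)
    let Fall := G.biUnion F
    have e : W = Submodule.span A ((Fall ×ˢ G).image fun p => Groth.L08.fAct V (φ p.1) p.2 : Finset V) := by
      refine le_antisymm (iSup_le fun χ => ?_) (Submodule.span_le.2 ?_)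
      · rw [← hG, Submodule.map_span, Submodule.span_le]
        rintro _ ⟨m, hm, rfl⟩
        rw [Groth.L08.fAct_apply, hF m, map_sum, map_sum]
        refine Submodule.sum_mem _ fun b hb => ?_
        rw [LinearMap.lTensor_tmul, TensorProduct.rid_tmul]
        refine Submodule.smul_mem _ _ (Submodule.subset_span ?_)
        exact Finset.mem_coe.2 (Finset.mem_image.2 ⟨(b, m), Finset.mem_product.2
          ⟨Finset.mem_biUnion.2 ⟨m, hm, hb⟩, hm⟩, rfl⟩)
      · intro x hx
        obtain ⟨p, hp, rfl⟩ := Finset.mem_image.1 (Finset.mem_coe.1 hx)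
        exact hmem _ _ (hG ▸ Submodule.subset_span (Finset.mem_product.1 hp).2)
    exact ⟨_, e.symm⟩

end Groth.Agent.S3021
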