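import Groth.Statements.S3027
import Groth.Agent.L08.Centre.Basic
-- import your own Groth.Agent.* helpers here

set_option autoImplicit false
universe u
open CategoryTheory MonoidalCategory CartesianMonoidalCategory MonObj GrpObj AlgebraicGeometry TensorProduct
open SGA3

namespace Groth.Agent.S3027

/-- Let G be a connected group scheme of finite type over a field k. Then the centre of G (the
subfunctor of points g such that g commutes with every point of G after every base change) is
represented by a closed subgroup scheme Z of G, and the quotient G/Z is an affine k-group: there are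
an affine group scheme Q and a faithfully flat homomorphism q : G → Q with kernel Z. -/
theorem result (k : Type u) [Field k] (G : Over (Spec (CommRingCat.of k))) [GrpObj G]
    [LocallyOfFiniteType G.hom] [QuasiCompact G.hom] [ConnectedSpace G.left] :
    ∃ (Z : Over (Spec (CommRingCat.of k))) (_ : GrpObj Z) (i : Z ⟶ G), IsMonHom i ∧ IsClosedImmersion i.left ∧
      (∀ (T : Over (Spec (CommRingCat.of k))) (g : T ⟶ G),
        (∃ z : T ⟶ Z, z ≫ i = g) ↔ ∀ (T' : Over (Spec (CommRingCat.of k))) (t : T' ⟶ T) (h : T' ⟶ G), (t ≫ g) * h = h * (t ≫ g)) ∧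
      ∃ (Q : Over (Spec (CommRingCat.of k))) (_ : GrpObj Q) (q : G ⟶ Q), IsMonHom q ∧ IsAffine Q.left ∧ LocallyOfFiniteType Q.hom ∧
        Flat q.left ∧ Surjective q.left ∧ AlgGrp.IsKernel i q := by
  obtain ⟨Z, gZ, i, _, _, hZ⟩ := Groth.L08.Centre.exists_centre G
  refine ⟨Z, gZ, i, inferInstance, inferInstance, fun T g => ?_, ?_⟩
  · simpa only [Category.comp_id] using hZ.2.2 T g
  haveI : Mono i := hZ.2.1
  haveI : LocallyOfFiniteType Z.hom := by rw [← Over.w i]; infer_instance
  have hN : AlgGrp.IsNormalHom i := fun T g n => ⟨n, by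
    have h := (hZ.2.2 T (n ≫ i)).1 ⟨n, rfl⟩ T (𝟙 T) g
    simp only [Category.id_comp, Category.comp_id] at h
    rw [← h, mul_inv_cancel_right]⟩
  obtain ⟨Y, p, _, _, _, sqp⟩ := Groth.L08.GQuot.exists_quotient_field i
  obtain ⟨X, q, _, _, _, sqq, hlft, -, hqc, -, -⟩ := Groth.L08.GQuot.exists_struct p sqp
  obtain ⟨gX, _, hker⟩ := Groth.L08.GQuot.exists_grp hN q sqq
  haveI : LocallyOfFiniteType X.hom := hlft inferInstance
  haveI : QuasiCompact X.hom := hqc inferInstance
  exact ⟨X, gX, q, inferInstance, Groth.L08.Centre.isAffine_quotient i hZ q hker, inferInstance,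
    inferInstance, inferInstance, hker⟩

end Groth.Agent.S3027
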