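import Groth.Statements.S3031
import Groth.Agent.Lead.Neutral
import Groth.Agent.L08.SubgroupObj

set_option linter.style.haveILetI false

set_option autoImplicit false
universe u
open CategoryTheory MonoidalCategory CartesianMonoidalCategory MonObj GrpObj AlgebraicGeometry TensorProduct
open SGA3

namespace Groth.Agent.S3031

/-- With X connected and possessing a rational point over the identity, a case of 'geometrically
connected with e ∈ f(X)': let G be a group scheme over a field k, X a connected, geometrically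
reduced k-scheme, x a k-point of X and f : X → G a k-morphism with f(x) the identity. Then the
smallest closed subgroup scheme of G through which f factors is connected. -/
theorem result (k : Type u) [Field k] (G X : Over (Spec (CommRingCat.of k))) [GrpObj G]
    [GeometricallyReduced X.hom] [ConnectedSpace X.left] (x : 𝟙_ (Over (Spec (CommRingCat.of k))) ⟶ X) (f : X ⟶ G)
    (hx : x ≫ f = η[G])
    (Γ : Over (Spec (CommRingCat.of k))) [GrpObj Γ] (i : Γ ⟶ G) [IsMonHom i] [IsClosedImmersion i.left]
    (hf : ∃ f' : X ⟶ Γ, f' ≫ i = f)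
    (hmin : ∀ (Γ' : Over (Spec (CommRingCat.of k))) (_ : GrpObj Γ') (i' : Γ' ⟶ G), IsMonHom i' → IsClosedImmersion i'.left →
        (∃ f'' : X ⟶ Γ', f'' ≫ i' = f) → ∃ j : Γ ⟶ Γ', j ≫ i' = i) :
    ConnectedSpace Γ.left := by
  obtain ⟨f', hf'⟩ := hf
  haveI : Mono i := Over.mono_of_mono_left i
  let C := connectedComponent (Groth.L25.Component.one Γ)
  have hC := Groth.Lead.Neutral.component_isSubgroupSet Γ
  have hone : ∀ p : ↥(𝟙_ (Over (Spec (CommRingCat.of k)))).left, η[Γ].left p ∈ C := fun p => by
    rw [show p = IsLocalRing.closedPoint k from Subsingleton.elim (α := PrimeSpectrum k) _ _]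
    exact hC.one_mem
  -- the closed subscheme carried by the component
  let 𝒲 := {W : Γ.left.Opens // IsClosed (W : Set Γ.left) ∧ Groth.L25.Component.one Γ ∈ W}
  haveI hci : ∀ W : 𝒲, IsClosedImmersion W.1.ι := fun W =>
    IsClosedImmersion.of_isPreimmersion _ (by rw [Scheme.Opens.range_ι]; exact W.2.1)
  let I : Γ.left.IdealSheafData := ⨆ W : 𝒲, W.1.ι.ker
  let Z : Over (Spec (CommRingCat.of k)) := Over.mk (I.subschemeι ≫ Γ.hom)
  let t : Z ⟶ Γ := Over.homMk I.subschemeι rfl
  haveI : IsClosedImmersion t.left := inferInstanceAs (IsClosedImmersion I.subschemeι)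
  haveI : Mono t := Over.mono_of_mono_left t
  have crit : ∀ {T : Over (Spec (CommRingCat.of k))} (g : T ⟶ Γ),
      (∃ z, z ≫ t = g) ↔ Set.range g.left ⊆ C := by
    intro T g
    constructor
    · rintro ⟨z, rfl⟩ x ⟨a, rfl⟩
      by_contra hx
      obtain ⟨W, hW, hWe, hWx⟩ := Groth.Agent.L13.IdComp.exists_clopen Γ hx
      let W' : 𝒲 := ⟨⟨W, hW.2⟩, hW.1, hWe⟩
      have hle : W'.1.ι.ker ≤ (z ≫ t).left.ker := by
        refine (le_iSup (fun W : 𝒲 => W.1.ι.ker) W').trans ?_
        rw [Over.comp_left]
        refine le_trans (le_of_eq ?_) (Scheme.Hom.le_ker_comp _ _)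
        exact I.ker_subschemeι.symm
      have := IsClosedImmersion.lift_fac W'.1.ι (z ≫ t).left hle
      have hr : (z ≫ t).left a ∈ Set.range W'.1.ι :=
        ⟨IsClosedImmersion.lift W'.1.ι (z ≫ t).left hle a, by rw [← Scheme.Hom.comp_apply, this]⟩
      rw [Scheme.Opens.range_ι] at hr
      exact hWx hr
    · intro hg
      have hle : t.left.ker ≤ g.left.ker := by
        show I.subschemeι.ker ≤ _
        rw [I.ker_subschemeι]
        refine iSup_le fun W => ?_
        have hgW : Set.range g.left ⊆ Set.range W.1.ι := by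
          rw [Scheme.Opens.range_ι]
          exact hg.trans (IsClopen.connectedComponent_subset ⟨W.2.1, W.1.isOpen⟩ W.2.2)
        rw [← IsOpenImmersion.lift_fac W.1.ι g.left hgW]
        exact Scheme.Hom.le_ker_comp _ _
      exact ⟨Over.homMk (IsClosedImmersion.lift t.left g.left hle)
        (by rw [← Over.w t, IsClosedImmersion.lift_fac_assoc, Over.w g]),
        Over.OverMorphism.ext (IsClosedImmersion.lift_fac _ _ _)⟩
  have ht : Set.range t.left ⊆ C := (crit t).1 ⟨𝟙 _, Category.id_comp _⟩
  obtain ⟨gZ, hmt⟩ := Groth.L08.exists_grpObj_of_mono t ((crit _).2 (Set.range_subset_iff.2 hone))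
    ((crit _).2 (Set.range_subset_iff.2 fun z => by
      rw [Hom.mul_def, Over.comp_left, Scheme.Hom.comp_apply]
      refine hC.mul_mem _ ?_ ?_
      · rw [← Scheme.Hom.comp_apply, ← Over.comp_left, lift_fst, Over.comp_left, Scheme.Hom.comp_apply]
        exact ht ⟨_, rfl⟩
      · rw [← Scheme.Hom.comp_apply, ← Over.comp_left, lift_snd, Over.comp_left, Scheme.Hom.comp_apply]
        exact ht ⟨_, rfl⟩))
    ((crit _).2 (Set.range_subset_iff.2 fun z => by
      rw [Hom.inv_def, Over.comp_left, Scheme.Hom.comp_apply]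
      exact hC.inv_mem _ (ht ⟨_, rfl⟩)))
  haveI := hmt
  haveI : IsClosedImmersion (t ≫ i).left := by rw [Over.comp_left]; infer_instance
  have hx' : x ≫ f' = η[Γ] := by
    rw [← cancel_mono i, Category.assoc, hf', hx, IsMonHom.one_hom]
  obtain ⟨z, hz⟩ := (crit f').2 (by
    refine (isConnected_range f'.left.continuous).subset_connectedComponent ?_
    refine ⟨x.left (IsLocalRing.closedPoint k), ?_⟩
    rw [← Scheme.Hom.comp_apply, ← Over.comp_left, hx']
    rfl)
  obtain ⟨j, hj⟩ := hmin Z gZ (t ≫ i) inferInstance inferInstance ⟨z, by rw [← Category.assoc, hz, hf']⟩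
  have hjt : j ≫ t = 𝟙 Γ := by rw [← cancel_mono i, Category.assoc, hj, Category.id_comp]
  have hu : C = Set.univ := Set.eq_univ_of_forall fun y =>
    ht ⟨j.left y, by rw [← Scheme.Hom.comp_apply, ← Over.comp_left, hjt]; rfl⟩
  refine connectedSpace_iff_univ.2 (hu ▸ isConnected_connectedComponent)

end Groth.Agent.S3031
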