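import Groth.Statements.S3035
import Groth.Agent.Lead.HomProperArtin
import Groth.Agent.S0086
-- import your own Groth.Agent.* helpers here

set_option autoImplicit false
universe u
open CategoryTheory MonoidalCategory CartesianMonoidalCategory MonObj GrpObj AlgebraicGeometry TensorProduct
open SGA3

namespace Groth.Agent.S3035

/-- (i) ⟺ (iii): let A be a local artinian ring and u : G → H a quasi-compact homomorphism between group
schemes locally of finite type over A. Then u is proper if and only if the kernel of u (the fibre of
u over the unit section) is proper over A. -/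
theorem result (A : Type u) [CommRing A] [IsArtinianRing A] [IsLocalRing A]
    (G H : Over (Spec (CommRingCat.of A))) [GrpObj G] [GrpObj H] [LocallyOfFiniteType G.hom] [LocallyOfFiniteType H.hom]
    (u : G ⟶ H) [IsMonHom u] [QuasiCompact u.left] :
    IsProper u.left ↔ IsProper (Limits.pullback.snd u.left (η[H] : 𝟙_ (Over (Spec (CommRingCat.of A))) ⟶ H).left) := by
  refine ⟨fun h => MorphismProperty.pullback_snd _ _ h, fun h => ?_⟩
  haveI := Groth.Agent.S0086.result.{u}
  obtain ⟨hc, hs, hp⟩ := Groth.Lead.HomProper.comp_fst_of_ker (P := @IsProper) u (fun j _ => inferInstance) h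
  let q := Limits.pullback.fst G.hom (Groth.L25.Artinian.res A)
  haveI : IsClosedImmersion q := hc
  haveI : Surjective q := hs
  haveI : IsProper (q ≫ u.left) := hp
  haveI : UniversallyClosed u.left := UniversallyClosed.of_comp_surjective q u.left
  haveI : IsSeparated u.left := Groth.L20.Thick.isSeparated_of_comp_surjective q u.left
  haveI : LocallyOfFiniteType u.left := by
    haveI : LocallyOfFiniteType (u.left ≫ H.hom) := by rw [Over.w u]; infer_instance
    exact locallyOfFiniteType_of_comp u.left H.hom
  exact {}

end Groth.Agent.S3035
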