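import Groth.Statements.S3037
import Groth.Agent.Lead.HomProperArtin
import Groth.Agent.S0084
import Mathlib.AlgebraicGeometry.ZariskisMainTheorem
-- import your own Groth.Agent.* helpers here

set_option autoImplicit false
universe u
open CategoryTheory MonoidalCategory CartesianMonoidalCategory MonObj GrpObj AlgebraicGeometry TensorProduct
open SGA3

namespace Groth.Agent.S3037

/-- (iii) ⟺ (v): let A be a local artinian ring and u : G → H a quasi-compact homomorphism between group
schemes locally of finite type over A. Then u is finite if and only if the kernel of u (the fibre of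
u over the unit section) is a discrete space. -/
theorem result (A : Type u) [CommRing A] [IsArtinianRing A] [IsLocalRing A]
    (G H : Over (Spec (CommRingCat.of A))) [GrpObj G] [GrpObj H] [LocallyOfFiniteType G.hom] [LocallyOfFiniteType H.hom]
    (u : G ⟶ H) [IsMonHom u] [QuasiCompact u.left] :
    IsFinite u.left ↔ DiscreteTopology ↥(Limits.pullback u.left (η[H] : 𝟙_ (Over (Spec (CommRingCat.of A))) ⟶ H).left) := by
  let e := (η[H] : 𝟙_ (Over (Spec (CommRingCat.of A))) ⟶ H).left
  let n : Limits.pullback u.left e ⟶ Spec (CommRingCat.of A) := Limits.pullback.snd u.left e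
  haveI : LocallyOfFiniteType u.left := by
    haveI : LocallyOfFiniteType (u.left ≫ H.hom) := by rw [Over.w u]; infer_instance
    exact locallyOfFiniteType_of_comp u.left H.hom
  haveI : LocallyOfFiniteType n := MorphismProperty.pullback_snd _ _ ‹_›
  refine ⟨fun h => ?_, fun h => ?_⟩
  · haveI : IsFinite n := MorphismProperty.pullback_snd _ _ h
    haveI : IsLocallyArtinian (Spec (CommRingCat.of A)) := inferInstance
    haveI := IsLocallyArtinian.of_locallyQuasiFinite n
    exact inferInstanceAs (DiscreteTopology ↥(Limits.pullback u.left e))
  · haveI : DiscreteTopology ↥(Limits.pullback u.left e) := h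
    haveI : LocallyQuasiFinite n :=
      locallyQuasiFinite_iff_isDiscrete_preimage_singleton.mpr fun _ => ⟨inferInstance⟩
    haveI : QuasiCompact n := MorphismProperty.pullback_snd _ _ ‹QuasiCompact u.left›
    haveI : IsLocallyArtinian (Spec (CommRingCat.of A)) := inferInstance
    haveI hn : IsFinite n := IsFinite.of_locallyQuasiFinite n
    haveI := Groth.Agent.S0084.result.{u}
    obtain ⟨hc, hs, hp⟩ := Groth.Lead.HomProper.comp_fst_of_ker (P := @IsFinite) u (fun j _ => inferInstance) hn
    let q := Limits.pullback.fst G.hom (Groth.L25.Artinian.res A)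
    haveI : IsClosedImmersion q := hc
    haveI : Surjective q := hs
    haveI : IsFinite (q ≫ u.left) := hp
    haveI : UniversallyClosed u.left := UniversallyClosed.of_comp_surjective q u.left
    haveI : IsSeparated u.left := Groth.L20.Thick.isSeparated_of_comp_surjective q u.left
    haveI : IsProper u.left := {}
    haveI : LocallyQuasiFinite u.left := locallyQuasiFinite_iff_finite_preimage_singleton.mpr fun y =>
      (((q ≫ u.left).finite_preimage_singleton y).image q).subset fun x hx => by
        obtain ⟨x', rfl⟩ := q.surjective x
        exact ⟨x', hx, rfl⟩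
    exact IsFinite.of_isProper_of_locallyQuasiFinite u.left

end Groth.Agent.S3037
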