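import Groth.Statements.S3038
import Groth.Agent.Lead.MaxSubgroup
import Groth.Agent.L20.ThickeningTopology
import Groth.Agent.S0414
import Groth.Agent.S2505
import Groth.Agent.S3015
import Mathlib.AlgebraicGeometry.Morphisms.UniversallyOpen

set_option linter.style.haveILetI false

set_option autoImplicit false
universe u
open CategoryTheory MonoidalCategory CartesianMonoidalCategory MonObj GrpObj AlgebraicGeometry TensorProduct
open SGA3

namespace Groth.Agent.S3038

/-- (ii) ⇒ (i): let A be a local artinian ring and u : G → H a homomorphism between group schemes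
locally of finite type over A. If the underlying map of u is open, then u is universally open. -/
theorem result (A : Type u) [CommRing A] [IsArtinianRing A] [IsLocalRing A]
    (G H : Over (Spec (CommRingCat.of A))) [GrpObj G] [GrpObj H] [LocallyOfFiniteType G.hom] [LocallyOfFiniteType H.hom]
    (u : G ⟶ H) [IsMonHom u] (hu : IsOpenMap u.left.base) : UniversallyOpen u.left := by
  haveI : DiscreteTopology ↥(Spec (CommRingCat.of A)) := inferInstanceAs (DiscreteTopology (PrimeSpectrum A))
  have hG : UniversallyOpen G.hom := Groth.Agent.S2505.result G.hom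
  haveI : LocallyOfFiniteType u.left := by
    have : LocallyOfFiniteType (u.left ≫ H.hom) := by rw [Over.w]; infer_instance
    exact locallyOfFiniteType_of_comp u.left H.hom
  let 𝒱 := {W : G.left.Opens // UniversallyOpen (W.ι ≫ u.left)}
  let V : G.left.Opens := ⨆ W : 𝒱, W.1
  have hV : UniversallyOpen (V.ι ≫ u.left) := by
    refine IsZariskiLocalAtSource.of_openCover (P := @UniversallyOpen) (Scheme.Opens.iSupOpenCover fun W : 𝒱 => W.1) fun W => ?_
    show UniversallyOpen (G.left.homOfLE (le_iSup (fun W : 𝒱 => W.1) W) ≫ V.ι ≫ u.left)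
    rw [Scheme.homOfLE_ι_assoc]
    exact W.2
  -- every non-empty open of `G` contains a non-empty open on which `u` is universally open
  have hd : Dense (V : Set G.left) := by
    rw [dense_iff_inter_open]
    rintro W₀ hW₀ ⟨g, hg⟩
    obtain ⟨_, ⟨U, hU, rfl⟩, hgU, -⟩ := H.left.isBasis_affineOpens.exists_subset_of_mem_open
      (Set.mem_univ (u.left g)) isOpen_univ
    obtain ⟨_, ⟨W, hW, rfl⟩, hgW, hWsub⟩ := G.left.isBasis_affineOpens.exists_subset_of_mem_open
      (show g ∈ W₀ ∩ u.left ⁻¹' (U : Set H.left) from ⟨hg, hgU⟩) (hW₀.inter (U.2.preimage u.left.continuous))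
    have e : W ≤ u.left ⁻¹ᵁ U := fun x hx => (hWsub hx).2
    let φ := u.left.appLE U W e
    let nR := nilradical Γ(H.left, U)
    let nW := nilradical Γ(G.left, W)
    let φr : CommRingCat.of (Γ(H.left, U) ⧸ nR) ⟶ CommRingCat.of (Γ(G.left, W) ⧸ nW) :=
      CommRingCat.ofHom (Ideal.quotientMap nW φ.hom fun x hx => mem_nilradical.2 ((mem_nilradical.1 hx).map φ.hom))
    let iS : Spec (CommRingCat.of (Γ(H.left, U) ⧸ nR)) ⟶ Spec Γ(H.left, U) :=
      Spec.map (CommRingCat.ofHom (Ideal.Quotient.mk nR))
    let iX : Spec (CommRingCat.of (Γ(G.left, W) ⧸ nW)) ⟶ Spec Γ(G.left, W) :=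
      Spec.map (CommRingCat.ofHom (Ideal.Quotient.mk nW))
    haveI : IsClosedImmersion iS := IsClosedImmersion.spec_of_surjective _ Ideal.Quotient.mk_surjective
    haveI : IsClosedImmersion iX := IsClosedImmersion.spec_of_surjective _ Ideal.Quotient.mk_surjective
    have hsurj : ∀ (R : CommRingCat.{u}), Surjective (Spec.map (CommRingCat.ofHom (Ideal.Quotient.mk (nilradical R)))) := by
      refine fun R => ⟨fun x => ?_⟩
      have hx : x ∈ Set.range (PrimeSpectrum.comap (Ideal.Quotient.mk (nilradical R))) := by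
        rw [range_comap_of_surjective _ _ Ideal.Quotient.mk_surjective, Ideal.mk_ker]
        exact fun a ha => nilradical_le_prime (x : PrimeSpectrum R).asIdeal ha
      exact hx
    haveI : Surjective iS := hsurj _
    haveI : Surjective iX := hsurj _
    have hsq : iX ≫ Spec.map φ = Spec.map φr ≫ iS := by
      rw [← Spec.map_comp, ← Spec.map_comp]
      rfl
    haveI : IsReduced (Spec (CommRingCat.of (Γ(H.left, U) ⧸ nR))) := by
      rw [affine_isReduced_iff]
      exact (Ideal.isRadical_iff_quotient_reduced _).1 (Ideal.radical_isRadical _)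
    haveI hft : LocallyOfFiniteType (Spec.map φr) := by
      have hφ : φ.hom.FiniteType := LocallyOfFiniteType.finiteType_appLE u.left hU hW e
      rw [HasRingHomProperty.Spec_iff (P := @LocallyOfFiniteType)]
      refine RingHom.FiniteType.of_comp_finiteType (f := Ideal.Quotient.mk nR) ?_
      have : φr.hom.comp (Ideal.Quotient.mk nR) = (Ideal.Quotient.mk nW).comp φ.hom := rfl
      rw [this]
      exact RingHom.FiniteType.comp (RingHom.FiniteType.of_surjective _ Ideal.Quotient.mk_surjective) hφ
    obtain ⟨O, hO, _, _⟩ := Groth.Agent.S0414.result (Spec.map φr)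
    -- the image of `W` is open, hence meets `O`
    let fU := hU.fromSpec
    have hcomm : Spec.map φ ≫ fU = hW.fromSpec ≫ u.left := hU.SpecMap_appLE_fromSpec u.left hW e
    obtain ⟨y, hy, hyO⟩ := hO.inter_open_nonempty ((iS ≫ fU) ⁻¹' (u.left '' (W : Set G.left)))
      ((hu _ W.2).preimage (iS ≫ fU).continuous) (by
        obtain ⟨y₀, hy₀⟩ : u.left g ∈ Set.range fU := hU.range_fromSpec.ge hgU
        obtain ⟨y, rfl⟩ := iS.surjective y₀
        exact ⟨y, g, hgW, hy₀.symm⟩)
    obtain ⟨w, hw, hwy⟩ := hy
    obtain ⟨w₀, rfl⟩ : w ∈ Set.range hW.fromSpec := hW.range_fromSpec.ge hw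
    obtain ⟨z, rfl⟩ := iX.surjective w₀
    have hz : Spec.map φr z = y := by
      apply iS.isClosedEmbedding.injective
      apply fU.isOpenEmbedding.injective
      have h3 := congrArg (fun m => (m ≫ fU) z) hsq
      simp only [Category.assoc, hcomm] at h3
      exact (h3.symm.trans hwy : _)
    -- the open subscheme of `G`
    let P₀ : Set (Spec Γ(G.left, W)) := iX '' (Spec.map φr ⁻¹' (O : Set _))
    haveI := Groth.L20.Thick.universallyOpen_of_surjective_closedImmersion iX
    let P : (Spec Γ(G.left, W)).Opens := ⟨P₀, iX.isOpenMap _ (O.2.preimage (Spec.map φr).continuous)⟩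
    have hP : iX ⁻¹ᵁ P = Spec.map φr ⁻¹ᵁ O :=
      TopologicalSpace.Opens.ext (Set.preimage_image_eq _ iX.isClosedEmbedding.injective)
    haveI := Groth.L20.Thick.universallyOpen_of_surjective_closedImmersion iS
    haveI : UniversallyOpen (Spec.map φr ∣_ O) := inferInstance
    have h1 : UniversallyOpen ((Spec.map φr ⁻¹ᵁ O).ι ≫ Spec.map φr) := by
      rw [← morphismRestrict_ι]; infer_instance
    have h2 : UniversallyOpen ((iX ⁻¹ᵁ P).ι ≫ iX ≫ hW.fromSpec ≫ u.left) := by
      rw [← hcomm, reassoc_of% hsq, hP, ← Category.assoc]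
      infer_instance
    haveI : UniversallyOpen ((iX ∣_ P) ≫ P.ι ≫ hW.fromSpec ≫ u.left) := by
      rw [morphismRestrict_ι_assoc]; exact h2
    haveI : Surjective (iX ∣_ P) := IsZariskiLocalAtTarget.restrict ‹Surjective iX› P
    have h4 := Groth.L20.Thick.universallyOpen_of_comp_surjective (iX ∣_ P) (P.ι ≫ hW.fromSpec ≫ u.left)
    let j := P.ι ≫ hW.fromSpec
    haveI : IsOpenImmersion j := inferInstance
    haveI : UniversallyOpen (j ≫ u.left) := by rw [Category.assoc]; exact h4
    have hQ : UniversallyOpen (j.opensRange.ι ≫ u.left) := by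
      rw [← Scheme.Hom.isoOpensRange_inv_comp j, Category.assoc]
      infer_instance
    refine ⟨hW.fromSpec (iX z), (hWsub hw).1, (le_iSup (fun W : 𝒱 => W.1) ⟨_, hQ⟩) ?_⟩
    exact ⟨⟨iX z, z, by show Spec.map φr z ∈ O; rw [hz]; exact hyO, rfl⟩, rfl⟩
  obtain ⟨W, hW, hWo⟩ := Groth.Lead.MaxSubgroup.mul_univOpen u V inferInstance hV
  have htop : W = ⊤ := top_le_iff.1 fun g _ => by
    obtain ⟨z, h1, h2, rfl⟩ := Groth.Agent.S3015.result A G V V hd hd g
    exact hW z ⟨h1, h2⟩
  subst htop
  haveI := hWo
  haveI : IsIso (⊤ : G.left.Opens).ι := inferInstanceAs (IsIso G.left.topIso.hom)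
  rw [← IsIso.inv_hom_id_assoc (⊤ : G.left.Opens).ι u.left]
  infer_instance

end Groth.Agent.S3038
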