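import Groth.Prelude.Def_SGA3
import Groth.Prelude.Def_AlgGrp
import Groth.Prelude.Def_Dyn
import Groth.Prelude.Def_HopfRep
import Mathlib.RingTheory.HopfAlgebra.Quotient
import Mathlib.AlgebraicGeometry.Morphisms.Flat
import Mathlib.AlgebraicGeometry.Morphisms.Smooth
import Mathlib.AlgebraicGeometry.Morphisms.ClosedImmersion
import Mathlib.AlgebraicGeometry.Morphisms.Separated
import Mathlib.AlgebraicGeometry.Morphisms.FinitePresentation
import Mathlib.AlgebraicGeometry.Morphisms.FiniteType
import Mathlib.AlgebraicGeometry.Morphisms.QuasiCompact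
import Mathlib.CategoryTheory.Limits.Shapes.Pullback.IsPullback.Defs
import Mathlib.RingTheory.Artinian.Ring
import Mathlib.RingTheory.Flat.FaithfullyFlat.Basic
import Mathlib.Topology.KrullDimension
import Mathlib.RingTheory.Finiteness.Defs
import Mathlib.AlgebraicGeometry.QuasiAffine
import Mathlib.AlgebraicGeometry.IdealSheaf.Basic
import Mathlib.AlgebraicGeometry.Morphisms.UnderlyingMap
import Mathlib.Topology.LocallyConstant.Basic
import Mathlib.Topology.Connected.Basic
import Mathlib.Algebra.Module.Projective
import Groth.Agent.L02.SchDom.MonoApps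

set_option autoImplicit false
namespace SGA3
end SGA3
universe u
open CategoryTheory MonoidalCategory CartesianMonoidalCategory MonObj GrpObj AlgebraicGeometry TensorProduct
open SGA3

namespace Groth.Agent.S3040

/-- Let S be a scheme, G a group scheme locally of finite type and quasi-separated over S, H a group
scheme smooth and of finite presentation over S with connected fibres, and i : H → G a homomorphism
which is a monomorphism. Then the normalizer of H in G (points g such that, after every base change,
conjugation by g and by g⁻¹ carries points of H into H) and the centralizer of H in G (points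
commuting with every point of H after every base change) are represented by closed subschemes of G
whose inclusions are of finite presentation. -/
theorem result (S : Scheme.{u}) (G H : Over S) [GrpObj G] [GrpObj H]
    [LocallyOfFiniteType G.hom] [QuasiSeparated G.hom] [Smooth H.hom] [QuasiCompact H.hom] [QuasiSeparated H.hom]
    (hconn : ∀ s : S, _root_.IsConnected (H.hom.base ⁻¹' {s})) (i : H ⟶ G) [IsMonHom i] [Mono i] :
    (∃ (N : Over S) (n : N ⟶ G), IsClosedImmersion n.left ∧ LocallyOfFinitePresentation n.left ∧
      ∀ (T : Over S) (g : T ⟶ G), (∃ z : T ⟶ N, z ≫ n = g) ↔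
        ∀ (T' : Over S) (t : T' ⟶ T) (h : T' ⟶ H),
          (∃ h' : T' ⟶ H, (t ≫ g) * (h ≫ i) * (t ≫ g)⁻¹ = h' ≫ i) ∧
          (∃ h' : T' ⟶ H, (t ≫ g)⁻¹ * (h ≫ i) * (t ≫ g) = h' ≫ i)) ∧
    (∃ (Z : Over S) (z : Z ⟶ G), IsClosedImmersion z.left ∧ LocallyOfFinitePresentation z.left ∧
      ∀ (T : Over S) (g : T ⟶ G), (∃ w : T ⟶ Z, w ≫ z = g) ↔
        ∀ (T' : Over S) (t : T' ⟶ T) (h : T' ⟶ H), (t ≫ g) * (h ≫ i) = (h ≫ i) * (t ≫ g)) := by
  haveI : Mono i.left := inferInstanceAs (Mono ((Over.forget S).map i))
  haveI : LocallyOfFinitePresentation i.left := by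
    haveI : LocallyOfFinitePresentation (i.left ≫ G.hom) := by rw [Over.w i]; infer_instance
    exact Groth.L20.locallyOfFinitePresentation_of_comp i.left G.hom
  have hf := Groth.L02.SchDom.irrFib_of_group H
    fun s => Groth.L02.SchDom.connectedSpace_fiber_of_isConnected H.hom s (hconn s)
  exact ⟨Groth.L02.SchDom.exists_normalizer hf i, Groth.L02.SchDom.exists_centralizer hf i⟩

end Groth.Agent.S3040
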