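import Groth.Prelude.Def_SGA3
import Groth.Prelude.Def_AlgGrp
import Groth.Prelude.Def_Dyn
import Groth.Prelude.Def_HopfRep
import Mathlib.RingTheory.HopfAlgebra.Quotient
import Mathlib.AlgebraicGeometry.Morphisms.Flat
import Mathlib.AlgebraicGeometry.Morphisms.Smooth
import Mathlib.AlgebraicGeometry.Morphisms.ClosedImmersion
import Mathlib.AlgebraicGeometry.Morphisms.Separated
import Mathlib.AlgebraicGeometry.Morphisms.FinitePresentation
import Mathlib.AlgebraicGeometry.Morphisms.FiniteType
import Mathlib.AlgebraicGeometry.Morphisms.QuasiCompact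
import Mathlib.CategoryTheory.Limits.Shapes.Pullback.IsPullback.Defs
import Mathlib.RingTheory.Artinian.Ring
import Mathlib.RingTheory.Flat.FaithfullyFlat.Basic
import Mathlib.Topology.KrullDimension
import Mathlib.RingTheory.Finiteness.Defs
import Mathlib.AlgebraicGeometry.QuasiAffine
import Mathlib.AlgebraicGeometry.IdealSheaf.Basic
import Mathlib.AlgebraicGeometry.Morphisms.UnderlyingMap
import Mathlib.Topology.LocallyConstant.Basic
import Mathlib.Topology.Connected.Basic
import Mathlib.Algebra.Module.Projective
import Mathlib.AlgebraicGeometry.Geometrically.Irreducible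
import Groth.Agent.L02.SchDom.WeilSmooth
import Mathlib.AlgebraicGeometry.Geometrically.Irreducible

set_option autoImplicit false
namespace CAlg
end CAlg
universe u
open CategoryTheory MonoidalCategory CartesianMonoidalCategory MonObj GrpObj AlgebraicGeometry TensorProduct
open SGA3

namespace Groth.Agent.S3041

/-- Let f : X → S be a smooth morphism whose fibres are geometrically irreducible and j : Y → X a closed
immersion. Then there is a closed immersion t : T → S such that a morphism g : S' → S factors
through T exactly when the closed immersion Y ×_X X_{S'} → X_{S'} obtained by base change is an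
isomorphism; if j is of finite presentation then so is t. -/
theorem result (S X Y : Scheme.{u}) (f : X ⟶ S) [Smooth f]
    [GeometricallyIrreducible f] (j : Y ⟶ X) [IsClosedImmersion j] :
    ∃ (T : Scheme.{u}) (t : T ⟶ S), IsClosedImmersion t ∧
      (∀ (S' : Scheme.{u}) (g : S' ⟶ S),
        (∃ g' : S' ⟶ T, g' ≫ t = g) ↔ IsIso (Limits.pullback.snd j (Limits.pullback.fst f g))) ∧
      (LocallyOfFinitePresentation j → LocallyOfFinitePresentation t) := by
  have hf : Groth.L02.SchDom.IrrFib f := fun K _ _ q => by
    haveI : IrreducibleSpace ↥(Limits.pullback f q) :=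
      GeometricallyIrreducible.geometrically_irreducibleSpace _ _ _ (CategoryTheory.IsPullback.of_hasPullback f q)
    infer_instance
  obtain ⟨T, t, ht, hlfp, hT⟩ := Groth.L02.SchDom.exists_weilLocus (f := f) (y := j) (a := 𝟙 X) hf
  refine ⟨T, t, ht, fun S' g => (hT S' g).trans ?_, hlfp⟩
  show (∃ l, l ≫ j = Limits.pullback.fst f g ≫ 𝟙 X) ↔ _
  rw [Category.comp_id]
  constructor
  · rintro ⟨l, hl⟩
    haveI : IsSplitEpi (Limits.pullback.snd j (Limits.pullback.fst f g)) :=
      ⟨⟨Limits.pullback.lift l (𝟙 _) (by rw [Category.id_comp, hl]), Limits.pullback.lift_snd _ _ _⟩⟩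
    exact isIso_of_mono_of_isSplitEpi _
  · intro h
    exact ⟨inv (Limits.pullback.snd j (Limits.pullback.fst f g)) ≫ Limits.pullback.fst _ _, by
      rw [Category.assoc, Limits.pullback.condition, IsIso.inv_hom_id_assoc]⟩

end Groth.Agent.S3041
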