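import Groth.Statements.S3043
import Groth.Agent.L20.UnivHomeo
import Mathlib.AlgebraicGeometry.Morphisms.Immersion

set_option autoImplicit false
universe u
open CategoryTheory MonoidalCategory CartesianMonoidalCategory MonObj GrpObj AlgebraicGeometry TensorProduct
open SGA3

namespace Groth.Agent.S3043

/-- Let π : X → S be a morphism of schemes admitting a section ε (ε followed by π is the identity). If π
is injective on underlying points, then π is an integral morphism. -/
theorem result (X S : Scheme.{u}) (π : X ⟶ S) (ε : S ⟶ X) (hε : ε ≫ π = 𝟙 S)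
    (hinj : Function.Injective π.base) : IsIntegralHom π := by
  have : IsImmersion (ε ≫ π) := by rw [hε]; infer_instance
  have : IsImmersion ε := IsImmersion.of_comp ε π
  have hs : Function.Surjective ε.base := fun x => ⟨π.base x, hinj (by
    simpa using congr($(hε).base (π.base x)))⟩
  have : IsClosedImmersion ε := .of_isPreimmersion _ (by rw [hs.range_eq]; exact isClosed_univ)
  have : Surjective ε := ⟨hs⟩
  have h1 : FlatMor.IsUnivHomeo ε := (Groth.L20.isUnivHomeo_iff ε).mpr
    ⟨inferInstance, inferInstance, inferInstance⟩
  have h2 : FlatMor.IsUnivHomeo (ε ≫ π) := by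
    rw [hε]
    exact (Groth.L20.isUnivHomeo_iff _).mpr ⟨inferInstance, inferInstance, inferInstance⟩
  exact Groth.L20.isIntegralHom_of_isUnivHomeo (Groth.L20.isUnivHomeo_of_comp_left h2 h1)
end Groth.Agent.S3043
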