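import Groth.Statements.S3045
import Mathlib.RingTheory.Bialgebra.Basic

set_option autoImplicit false
universe u
open TensorProduct
open SGA3

namespace Groth.Agent.S3045

/-- Let A be a commutative Hopf algebra over a commutative ring k (the coordinate ring of an affine
group G = Spec A) and φ, ψ two k[ε]-valued points of G reducing to the unit point modulo ε (tangent
vectors at the identity). Then for every a ∈ A the ε-component of the product point φ · ψ at a — the
product of points being convolution, formed here as the triple convolution of φ, ψ and the unit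
point — is the sum of the ε-components of φ(a) and ψ(a): on tangent vectors at the identity the
group law of G induces addition. -/
theorem result (k : Type u) [CommRing k] (A : Type u) [CommRing A] [HopfAlgebra k A]
    (φ ψ : LieHopf.LiePts k A) (a : A) :
    TrivSqZeroExt.snd (Dyn.conv3 k A φ.1 ψ.1 ((Algebra.ofId k (DualNumber k)).comp (Bialgebra.counitAlgHom k A)) a) =
      LieHopf.LiePts.tangent k A φ a + LieHopf.LiePts.tangent k A ψ a := by
  let h := (Algebra.ofId k (DualNumber k)).comp (Bialgebra.counitAlgHom k A)
  let P : A →ₐ[k] DualNumber k := ((Algebra.TensorProduct.lmul' (S := DualNumber k) k).comp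
    (Algebra.TensorProduct.map φ.1 ψ.1)).comp (Bialgebra.comulAlgHom k A)
  have h1 : ∀ x : A ⊗[k] A, (Algebra.TensorProduct.lmul' (S := DualNumber k) k)
      ((Algebra.TensorProduct.map P h) x) =
      P (TensorProduct.rid k A ((Coalgebra.counit (R := k)).lTensor A x)) := by
    intro x
    induction x using TensorProduct.induction_on with
    | zero => simp
    | add x y hx hy => simp only [map_add, hx, hy]
    | tmul p q => simp [h, Algebra.smul_def, mul_comm]
  have h2 : Dyn.conv3 k A φ.1 ψ.1 h a = (Algebra.TensorProduct.lmul' (S := DualNumber k) k)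
      ((Algebra.TensorProduct.map P h) (Bialgebra.comulAlgHom k A a)) := by
    show (Algebra.TensorProduct.lmul' (S := DualNumber k) k) ((Algebra.TensorProduct.map _ h)
      ((Algebra.TensorProduct.map (Bialgebra.comulAlgHom k A) (AlgHom.id k A)) (Bialgebra.comulAlgHom k A a))) = _
    generalize Bialgebra.comulAlgHom k A a = x
    induction x using TensorProduct.induction_on with
    | zero => simp
    | add x y hx hy => simp only [map_add, hx, hy]
    | tmul p q => rfl
  have h3 : ∀ x : A ⊗[k] A, TrivSqZeroExt.snd ((Algebra.TensorProduct.lmul' (S := DualNumber k) k)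
      ((Algebra.TensorProduct.map φ.1 ψ.1) x)) =
      LieHopf.LiePts.tangent k A φ (TensorProduct.rid k A ((Coalgebra.counit (R := k)).lTensor A x)) +
      LieHopf.LiePts.tangent k A ψ (TensorProduct.lid k A ((Coalgebra.counit (R := k)).rTensor A x)) := by
    intro x
    induction x using TensorProduct.induction_on with
    | zero => simp [LieHopf.LiePts.tangent]
    | add x y hx hy =>
      simp only [map_add, TrivSqZeroExt.snd_add, hx, hy, LieHopf.LiePts.tangent]
      ring
    | tmul p q =>
      simp only [Algebra.TensorProduct.map_tmul, Algebra.TensorProduct.lmul'_apply_tmul, DualNumber.snd_mul,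
        LinearMap.lTensor_tmul, LinearMap.rTensor_tmul, TensorProduct.rid_tmul, TensorProduct.lid_tmul,
        LieHopf.LiePts.tangent, φ.2, ψ.2, map_smul, TrivSqZeroExt.snd_smul, smul_eq_mul, Bialgebra.counitAlgHom_apply]
      ring
  rw [h2, h1]
  have h4 : TensorProduct.rid k A ((Coalgebra.counit (R := k)).lTensor A (Bialgebra.comulAlgHom k A a)) = a := by
    simp [Coalgebra.lTensor_counit_comul]
  have h5 : TensorProduct.lid k A ((Coalgebra.counit (R := k)).rTensor A (Bialgebra.comulAlgHom k A a)) = a := by
    simp [Coalgebra.rTensor_counit_comul]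
  rw [h4]
  show TrivSqZeroExt.snd ((Algebra.TensorProduct.lmul' (S := DualNumber k) k)
      ((Algebra.TensorProduct.map φ.1 ψ.1) (Bialgebra.comulAlgHom k A a))) = _
  rw [h3, h4, h5]

end Groth.Agent.S3045
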