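import Groth.Statements.S3046
import Mathlib.RingTheory.Bialgebra.Convolution
import Mathlib.RingTheory.HopfAlgebra.Basic
import Mathlib.Tactic.NoncommRing
import Mathlib.Tactic.LinearCombination

set_option autoImplicit false
universe u
open TensorProduct
open SGA3

namespace Groth.Agent.S3046

section

open WithConv

variable {k : Type u} [CommRing k] {A : Type u} [CommRing A] [HopfAlgebra k A] {R : Type u} [CommRing R] [Algebra k R]

/-- a scalar functional -/
noncomputable def L (r : R) (f : A →ₗ[k] k) : WithConv (A →ₗ[k] R) :=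
  toConv (LinearMap.mulLeft k r ∘ₗ Algebra.linearMap k R ∘ₗ f)

theorem L_apply (r : R) (f : A →ₗ[k] k) (a : A) : (L r f).ofConv a = r * algebraMap k R (f a) := rfl

theorem L_mul (r s : R) (f g : A →ₗ[k] k) : L r f * L s g = L (r * s) (LieHopf.conv f g) := by
  refine WithConv.ofConv_injective (LinearMap.ext fun a => ?_)
  show LinearMap.mul' k R (TensorProduct.map (L r f).ofConv (L s g).ofConv (Coalgebra.comul a)) =
    r * s * algebraMap k R (LinearMap.mul' k k (TensorProduct.map f g (Coalgebra.comul a)))
  generalize Coalgebra.comul (R := k) a = x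
  induction x using TensorProduct.induction_on with
  | zero => simp
  | add x y hx hy => simp only [map_add, hx, hy, mul_add]
  | tmul p q => simp [L_apply]; ring

theorem L_one : L (1 : R) ((Bialgebra.counitAlgHom k A).toLinearMap) = 1 := by
  refine WithConv.ofConv_injective (LinearMap.ext fun a => ?_)
  simp [L_apply]

theorem L_zero (f : A →ₗ[k] k) : L (0 : R) f = 0 := by
  refine WithConv.ofConv_injective (LinearMap.ext fun a => ?_)
  simp [L_apply]

end

/-- Let A be a commutative Hopf algebra over a commutative ring k, D and E two ε-derivations A → k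
(tangent vectors at the identity of G = Spec A), R a commutative k-algebra and t, t' ∈ R with t² = 0
= t'². Let x = e + tD and y = e + t'E be the corresponding R-points of G. Then the commutator x y
x⁻¹ y⁻¹ (product of points; the inverse of a point is its composite with the antipode) is the point
a ↦ ε(a) + [D, E](a) · t t', where [D, E] = D ⋆ E − E ⋆ D is the convolution commutator. -/
theorem result (k : Type u) [CommRing k] (A : Type u) [CommRing A] [HopfAlgebra k A]
    (D E : LieHopf.Lie k A) (R : Type u) [CommRing R] [Algebra k R] (t t' : R) (ht : t * t = 0) (ht' : t' * t' = 0)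
    (a : A) :
    Dyn.conv3 k A
        (Dyn.conv3 k A (LieHopf.ptOfLie D R t ht) (LieHopf.ptOfLie E R t' ht')
          ((LieHopf.ptOfLie D R t ht).comp (HopfAlgebra.antipodeAlgHom k A)))
        ((LieHopf.ptOfLie E R t' ht').comp (HopfAlgebra.antipodeAlgHom k A))
        ((Algebra.ofId k R).comp (Bialgebra.counitAlgHom k A)) a =
      algebraMap k R (Bialgebra.counitAlgHom k A a) + algebraMap k R (LieHopf.bracketLin D E a) * (t * t') := by
  let d : A →ₗ[k] k := D.toLinearMap.restrictScalars k ∘ₗ LinearMap.id
  let e : A →ₗ[k] k := E.toLinearMap.restrictScalars k ∘ₗ LinearMap.id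
  have hS : ∀ (D : LieHopf.Lie k A) (a : A), LieHopf.dlin D (HopfAlgebra.antipode k a) = - LieHopf.dlin D a := by
    intro D a
    have key : ∀ x : A ⊗[k] A, LieHopf.dlin D (LinearMap.mul' k A ((HopfAlgebra.antipode k).lTensor A x)) =
        LieHopf.dlin D (TensorProduct.rid k A ((Coalgebra.counit (R := k)).lTensor A x)) +
        LieHopf.dlin D (HopfAlgebra.antipode k (TensorProduct.lid k A ((Coalgebra.counit (R := k)).rTensor A x))) := by
      intro x
      induction x using TensorProduct.induction_on with
      | zero => simp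
      | add x y hx hy => simp only [map_add, hx, hy]; ring
      | tmul p q =>
        simp only [LinearMap.lTensor_tmul, LinearMap.rTensor_tmul, LinearMap.mul'_apply, TensorProduct.rid_tmul,
          TensorProduct.lid_tmul, map_smul, LieHopf.dlin_mul, HopfAlgebra.counit_antipode, smul_eq_mul,
          Bialgebra.counitAlgHom_apply]
        ring
    have h := key (Coalgebra.comul a)
    rw [HopfAlgebra.mul_antipode_lTensor_comul_apply, LieHopf.dlin_algebraMap, Coalgebra.lTensor_counit_comul,
      Coalgebra.rTensor_counit_comul] at h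
    simp only [TensorProduct.rid_tmul, TensorProduct.lid_tmul, one_smul] at h
    linear_combination -h
  have hx : ∀ (D : LieHopf.Lie k A) (d : A →ₗ[k] k), (∀ a, d a = LieHopf.dlin D a) → ∀ (s : R) (hs : s * s = 0),
      WithConv.toConv (LieHopf.ptOfLie D R s hs).toLinearMap = 1 + L s d ∧
      WithConv.toConv ((LieHopf.ptOfLie D R s hs).comp (HopfAlgebra.antipodeAlgHom k A)).toLinearMap = 1 + L (-s) d := by
    intro D d hd s hs
    refine ⟨WithConv.ofConv_injective (LinearMap.ext fun a => ?_), WithConv.ofConv_injective (LinearMap.ext fun a => ?_)⟩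
    · show algebraMap k R (Bialgebra.counitAlgHom k A a) + algebraMap k R (LieHopf.dlin D a) * s = _
      simp [L_apply, hd, mul_comm]
    · show algebraMap k R (Bialgebra.counitAlgHom k A (HopfAlgebra.antipode k a)) +
        algebraMap k R (LieHopf.dlin D (HopfAlgebra.antipode k a)) * s = _
      simp [L_apply, hd, hS, HopfAlgebra.counit_antipode, mul_comm]
  have hc : ∀ (f g h : A →ₐ[k] R), WithConv.toConv (Dyn.conv3 k A f g h).toLinearMap =
      WithConv.toConv f.toLinearMap * WithConv.toConv g.toLinearMap * WithConv.toConv h.toLinearMap := by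
    intro f g h
    have e : Dyn.conv3 k A f g h = (WithConv.toConv f * WithConv.toConv g * WithConv.toConv h).ofConv := by
      refine AlgHom.ext fun a => ?_
      show (Algebra.TensorProduct.lmul' (S := R) k) ((Algebra.TensorProduct.map _ h)
        ((Algebra.TensorProduct.map (Bialgebra.comulAlgHom k A) (AlgHom.id k A)) (Bialgebra.comulAlgHom k A a))) =
        (Algebra.TensorProduct.lmul' (S := R) k) ((Algebra.TensorProduct.map _ h) (Bialgebra.comulAlgHom k A a))
      generalize Bialgebra.comulAlgHom k A a = x
      induction x using TensorProduct.induction_on with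
      | zero => simp
      | add x y hx hy => simp only [map_add, hx, hy]
      | tmul p q => rfl
    rw [e, AlgHom.toLinearMap_convMul, AlgHom.toLinearMap_convMul]
  obtain ⟨hx1, hx2⟩ := hx D d (fun _ => rfl) t ht
  obtain ⟨hy1, hy2⟩ := hx E e (fun _ => rfl) t' ht'
  have hone : WithConv.toConv ((Algebra.ofId k R).comp (Bialgebra.counitAlgHom k A)).toLinearMap = 1 := rfl
  have hall := hc
    (Dyn.conv3 k A (LieHopf.ptOfLie D R t ht) (LieHopf.ptOfLie E R t' ht')
      ((LieHopf.ptOfLie D R t ht).comp (HopfAlgebra.antipodeAlgHom k A)))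
    ((LieHopf.ptOfLie E R t' ht').comp (HopfAlgebra.antipodeAlgHom k A))
    ((Algebra.ofId k R).comp (Bialgebra.counitAlgHom k A))
  rw [hc (LieHopf.ptOfLie D R t ht) (LieHopf.ptOfLie E R t' ht')
      ((LieHopf.ptOfLie D R t ht).comp (HopfAlgebra.antipodeAlgHom k A)),
    hx1, hx2, hy1, hy2, hone, mul_one] at hall
  have hexp : (1 + L t d) * (1 + L t' e) * (1 + L (-t) d) * (1 + L (-t') e) =
      1 + L (t * t') (LieHopf.conv d e) + L (-(t * t')) (LieHopf.conv e d) := by
    have n1 : ∀ f, L (-(t * t)) f = (0 : WithConv (A →ₗ[k] R)) := fun f => by rw [ht, neg_zero, L_zero]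
    have ha : L t d + L (-t) d = 0 := by
      refine WithConv.ofConv_injective (LinearMap.ext fun a => ?_); simp [L_apply]
    have hb : L t' e + L (-t') e = 0 := by
      refine WithConv.ofConv_injective (LinearMap.ext fun a => ?_); simp [L_apply]
    have na : L t d * L (-t) d = 0 := by rw [L_mul, mul_neg, n1]
    have nb : L t' e * L (-t') e = 0 := by rw [L_mul, mul_neg, ht', neg_zero, L_zero]
    have hba : L t' e * L (-t) d = L (-(t * t')) (LieHopf.conv e d) := by rw [L_mul, mul_neg, mul_comm t']
    have hab : L t d * L t' e = L (t * t') (LieHopf.conv d e) := L_mul _ _ _ _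
    have z1 : L t d * (L t' e * L (-t) d) = 0 := by
      rw [hba, L_mul, mul_neg, ← mul_assoc, ht, zero_mul, neg_zero, L_zero]
    have z2 : L t' e * L (-t) d * L (-t') e = 0 := by
      rw [hba, L_mul, show -(t * t') * -t' = t * (t' * t') by ring, ht', mul_zero, L_zero]
    have e1 : (1 + L t d) * (1 + L t' e) * (1 + L (-t) d) =
        1 + L t' e + (L t' e * L (-t) d + L t d * L t' e) := by
      calc (1 + L t d) * (1 + L t' e) * (1 + L (-t) d)
          = 1 + L t' e + (L t' e * L (-t) d + L t d * L t' e) + (L t d + L (-t) d) + L t d * L (-t) d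
              + L t d * (L t' e * L (-t) d) := by noncomm_ring
        _ = _ := by rw [ha, na, z1, add_zero, add_zero, add_zero]
    have z3 : L t d * L t' e * L (-t') e = 0 := by rw [mul_assoc, nb, mul_zero]
    rw [e1, hba.symm, hab.symm]
    calc (1 + L t' e + (L t' e * L (-t) d + L t d * L t' e)) * (1 + L (-t') e)
        = 1 + L t d * L t' e + L t' e * L (-t) d + (L t' e + L (-t') e) + L t' e * L (-t') e
            + L t' e * L (-t) d * L (-t') e + L t d * L t' e * L (-t') e := by noncomm_ring
      _ = _ := by rw [hb, nb, z2, z3, add_zero, add_zero, add_zero, add_zero]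
  rw [hexp] at hall
  have := congrArg (fun m => m.ofConv a) hall
  refine this.trans ?_
  simp [L_apply, LieHopf.bracketLin, d, e]
  ring

end Groth.Agent.S3046
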