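import Groth.Statements.S3047
import Groth.Agent.L27.EtSite.Pull
import Groth.Agent.L27.EtSite.Points

set_option autoImplicit false
open CategoryTheory CategoryTheory.Limits AlgebraicGeometry Opposite
universe u
open EtDesc
set_option backward.isDefEq.respectTransparency.types false

namespace Groth.Agent.S3047

/-- For a surjective morphism of schemes f : X' -> X, the inverse image functor f^* on sheaves of sets
for the small etale sites is faithful and reflects isomorphisms. -/
theorem result {X' X : Scheme.{u}} (f : X' ⟶ X) [Surjective f] :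
    (EtDesc.pullSh f).Faithful ∧ (EtDesc.pullSh f).ReflectsIsomorphisms := by
  have pts : ∀ x : X, ∃ (Ω : Type u) (_ : Field Ω) (_ : IsSepClosed Ω) (ξ : Spec (CommRingCat.of Ω) ⟶ X'),
      (ξ ≫ f).base default = x := fun x => by
    obtain ⟨x', rfl⟩ := f.surjective x
    obtain ⟨Ω, _, _, ξ, rfl⟩ := Groth.L27.EtSite.exists_geometric_point x'
    exact ⟨Ω, inferInstance, inferInstance, ξ, rfl⟩
  constructor
  · refine ⟨fun {F G} a b hab => ?_⟩
    suffices Epi (equalizer.ι a b) from (cancel_epi (equalizer.ι a b)).1 (equalizer.condition a b)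
    refine (Sheaf.isLocallySurjective_iff_epi' (φ := equalizer.ι a b)).1
      (Groth.L27.EtSite.isLocallySurjective_of_some_stalks _ fun x => ?_)
    obtain ⟨Ω, _, _, ξ, rfl⟩ := pts x
    refine ⟨Ω, inferInstance, inferInstance, ξ ≫ f, rfl, ?_⟩
    let e := Groth.L27.EtSite.stalkPullShIso f ξ
    have hst : (Scheme.pointSmallEtale (ξ ≫ f)).sheafFiber.map a = (Scheme.pointSmallEtale (ξ ≫ f)).sheafFiber.map b := by
      refine (cancel_epi (e.hom.app F)).1 ?_
      refine (e.hom.naturality a).symm.trans (Eq.trans ?_ (e.hom.naturality b))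
      exact congrArg (fun m => (Scheme.pointSmallEtale ξ).sheafFiber.map m ≫ e.hom.app G) hab
    let Φ := (Scheme.pointSmallEtale (ξ ≫ f)).sheafFiber (A := Type (u + 1))
    have : IsIso (Φ.map (equalizer.ι a b)) := by
      have := equalizer.ι_of_eq hst
      rw [← equalizerComparison_comp_π a b Φ]
      infer_instance
    exact ((CategoryTheory.isIso_iff_bijective _).1 this).2
  · refine ⟨fun {F G} φ _ => ?_⟩
    have hb : ∀ x : X, ∃ (Ω : Type u) (_ : Field Ω) (_ : IsSepClosed Ω) (η : Spec (CommRingCat.of Ω) ⟶ X),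
        η.base default = x ∧ Function.Bijective ((Scheme.pointSmallEtale η).presheafFiber.map φ.hom) := fun x => by
      obtain ⟨Ω, _, _, ξ, rfl⟩ := pts x
      refine ⟨Ω, inferInstance, inferInstance, ξ ≫ f, rfl, ?_⟩
      have h1 : IsIso ((EtDesc.pullSh f ⋙ (Scheme.pointSmallEtale ξ).sheafFiber).map φ) := Functor.map_isIso (Scheme.pointSmallEtale ξ).sheafFiber ((EtDesc.pullSh f).map φ)
      exact (CategoryTheory.isIso_iff_bijective _).1 ((NatIso.isIso_map_iff (Groth.L27.EtSite.stalkPullShIso f ξ) φ).1 h1)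
    have : Mono φ := by
      have : Sheaf.IsLocallyInjective φ := Groth.L27.EtSite.isLocallyInjective_of_some_stalks φ.hom fun x => by
        obtain ⟨Ω, _, _, η, hη, h⟩ := hb x
        exact ⟨Ω, inferInstance, inferInstance, η, hη, h.1⟩
      exact Sheaf.mono_of_isLocallyInjective φ
    have : Epi φ := (Sheaf.isLocallySurjective_iff_epi' (φ := φ)).1
      (Groth.L27.EtSite.isLocallySurjective_of_some_stalks φ.hom fun x => by
        obtain ⟨Ω, _, _, η, hη, h⟩ := hb x
        exact ⟨Ω, inferInstance, inferInstance, η, hη, h.2⟩)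
    exact isIso_of_mono_of_epi φ

end Groth.Agent.S3047
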