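import Groth.Statements.S3058
import Groth.Agent.L09.ToposQC

set_option autoImplicit false
open CategoryTheory CategoryTheory.Limits Opposite
universe u
open ToposFin

namespace Groth.Agent.S3058

/-- For a topos of sheaves of sets on a small site: the coproduct of a small family of objects is
quasi-compact if and only if every member is quasi-compact and all but finitely many members are
initial (empty) objects. -/
theorem result {C : Type u} [SmallCategory C] {J : GrothendieckTopology C} {ι : Type u}
    (F : ι → ToposFin.Sh J) :
    ToposFin.IsQC (∐ F) ↔ (∀ i, ToposFin.IsQC (F i)) ∧ {i | IsEmpty (F i ≅ ⊥_ (ToposFin.Sh J))}.Finite := by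
  open Groth.L09.Topos in
  have hc : IsColimit (Cofan.mk (∐ F) (Sigma.ι F)) := coproductIsCoproduct F
  have hι : Covers (fun i => Sigma.ι F i) := covers_of_isColimit hc
  constructor
  · intro h
    refine ⟨fun i => isQC_of_isQCHom (isQCHom_cofan_inj hc i) h, ?_⟩
    obtain ⟨s, hs⟩ := exists_finite_subcover h hι
    refine s.finite_toSet.subset fun i hi => by_contra fun his => hi.false ?_
    refine (initialIsInitial.uniqueUpToIso (isInitial_of_covers (covers_pullback_fst hs (Sigma.ι F i)) ?_).some).symm
    intro j
    have hij : i ≠ j.1 := fun e => his (e ▸ j.2)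
    exact cofan_disjoint hc hij
  · rintro ⟨hF, hfin⟩
    have : Finite {i // IsEmpty (F i ≅ ⊥_ (ToposFin.Sh J))} := hfin.to_subtype
    refine isQC_of_finite_cover (covers_restrict hι (fun i => IsEmpty (F i ≅ ⊥_ (ToposFin.Sh J))) fun i hi => ?_)
      fun i => hF _
    obtain ⟨e⟩ := not_isEmpty_iff.1 hi
    exact ⟨initialIsInitial.ofIso e.symm⟩

end Groth.Agent.S3058
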