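import Groth.Statements.S3071
import Groth.Agent.L09.ToposQC

set_option autoImplicit false
open CategoryTheory CategoryTheory.Limits Opposite
universe u
open ToposFin

namespace Groth.Agent.S3071

/-- Implication (ii bis) => (i bis), for a topos of sheaves of sets on a small site: suppose given a
generating family of coherent objects G_a such that every product G_a x G_b is quasi-separated. Then
for every morphism f : X -> Y with X quasi-separated, f is quasi-separated. -/
theorem result {C : Type u} [SmallCategory C] {J : GrothendieckTopology C} {α : Type u} (G : α → ToposFin.Sh J)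
    (hG : ∀ a, ToposFin.IsCoherent (G a))
    (hgen : ∀ X : ToposFin.Sh J, ∃ (ι : Type u) (a : ι → α) (π : ∀ i, G (a i) ⟶ X), Epi (Sigma.desc π))
    (hprod : ∀ a b, ToposFin.IsQS (G a ⨯ G b)) {X Y : ToposFin.Sh J} (f : X ⟶ Y) (hX : ToposFin.IsQS X) :
    ToposFin.IsQSHom f := by
  open Groth.L09.Topos in
  obtain ⟨ι, a, π, hπ⟩ := hgen X
  refine isQSHom_of_isQS_of_cover (genBy_of_family G hgen) ?_ ((covers_iff_epi π).2 hπ) (fun i => (hG _).1) f
    (fun i j => ?_) hX
  · rintro K ⟨b, rfl⟩
    exact (hG b).1
  · let m : pullback (π i ≫ f) (π j ≫ f) ⟶ G (a i) ⨯ G (a j) :=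
      prod.lift (pullback.fst _ _) (pullback.snd _ _)
    have : Mono m := ⟨fun p q h => pullback.hom_ext (by have := congrArg (· ≫ prod.fst) h; simp only [m, Category.assoc, prod.lift_fst] at this; exact this)
      (by have := congrArg (· ≫ prod.snd) h; simp only [m, Category.assoc, prod.lift_snd] at this; exact this)⟩
    exact isQS_of_mono m (hprod _ _)

end Groth.Agent.S3071
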