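import Groth.Statements.S3072
import Groth.Agent.L09.ToposFP

set_option autoImplicit false
open CategoryTheory CategoryTheory.Limits Opposite
universe u
open ToposFin

namespace Groth.Agent.S3072

/-- For a topos of sheaves of sets on a small site admitting a generating family of coherent objects:
Hom(X, -) commutes with small filtered colimits if and only if X is a retract (image of an
idempotent) of the coequalizer of some pair of morphisms X_1 => X_0 with X_0 and X_1 coherent. -/
theorem result {C : Type u} [SmallCategory C] {J : GrothendieckTopology C} (hE : ToposFin.HasCoherentGenerators J)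
    (X : ToposFin.Sh J) :
    ToposFin.IsFP X ↔ ∃ (X₀ X₁ : ToposFin.Sh J) (a b : X₁ ⟶ X₀) (i : X ⟶ coequalizer a b)
      (p : coequalizer a b ⟶ X), ToposFin.IsCoherent X₀ ∧ ToposFin.IsCoherent X₁ ∧ i ≫ p = 𝟙 X := by
  open Groth.L09.Topos in
  have hP := genBy_of_hasCoherentGenerators hE
  constructor
  · intro hX
    obtain ⟨Q, i, p, ⟨X₀, X₁, a, b, h₀, h₁, ⟨e⟩⟩, hip⟩ := exists_retract_of_isFP hP
      (R := fun Q => ∃ (X₀ X₁ : ToposFin.Sh J) (a b : X₁ ⟶ X₀), ToposFin.IsCoherent X₀ ∧
        ToposFin.IsCoherent X₁ ∧ Nonempty (Q ≅ coequalizer a b))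
      (fun α β _ _ F G a b hF hG => ⟨_, _, a, b, isCoherent_cofan (coproductIsCoproduct F) hF,
        isCoherent_cofan (coproductIsCoproduct G) hG, ⟨Iso.refl _⟩⟩) hX
    exact ⟨X₀, X₁, a, b, i ≫ e.hom, e.inv ≫ p, h₀, h₁, by
      rw [Category.assoc, e.hom_inv_id_assoc, hip]⟩
  · rintro ⟨X₀, X₁, a, b, i, p, h₀, h₁, hip⟩
    exact isFP_of_retract i p hip
      (isFP_coequalizer a b (isFP_of_isCoherent hP (fun _ h => h.1) h₀) (isFP_of_isCoherent hP (fun _ h => h.1) h₁))

end Groth.Agent.S3072
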