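import Groth.Statements.S3079
import Groth.Agent.L09.ShfSetup
import Mathlib.CategoryTheory.Sites.Continuous
import Mathlib.CategoryTheory.Limits.Preserves.Opposites

set_option autoImplicit false
universe w v u
open CategoryTheory
open SGA4

namespace Groth.Agent.S3079
open CategoryTheory Category Limits Opposite Groth.L09.Giraud

open CategoryTheory.Limits in
/-- For the topos of sheaves of sets on a small site (C, J): a presheaf F on the topos with values in an
arbitrary category E' is a sheaf for the canonical topology of the topos if and only if F, as a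
functor on the opposite category, preserves all u-small limits (i.e. turns u-small colimits of
sheaves into limits in E'). -/
theorem result {C : Type u} [SmallCategory C] (J : GrothendieckTopology C)
    {E' : Type v} [Category.{w} E'] (F : (Sheaf J (Type u))ᵒᵖ ⥤ E') :
    Presheaf.IsSheaf (Sheaf.canonicalTopology (Sheaf J (Type u))) F ↔ PreservesLimitsOfSize.{u, u} F := by
  obtain ⟨C₀, _, w, hw⟩ := shf_setup J
  constructor
  · intro hF
    have h1 : ∀ e : E'ᵒᵖ, PreservesLimitsOfSize.{u, u} (F ⋙ coyoneda.obj e) := fun e =>
      preservesLimits_of_hasGlue hw _ ((isSheaf_canonical_iff_hasGlue hw _).1 (hF e.unop))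
    exact ⟨fun {J'} _ => ⟨fun {K} => ⟨fun {c} hc => ⟨coyonedaJointlyReflectsLimits _ _ fun e =>
      isLimitOfPreserves (F ⋙ coyoneda.obj e) hc⟩⟩⟩⟩
  · intro hF e
    exact (isSheaf_canonical_iff_hasGlue hw _).2 (hasGlue_of_preservesLimits hw (F ⋙ coyoneda.obj (op e)))

end Groth.Agent.S3079
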