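import Groth.Statements.S3080
import Groth.Agent.L09.ShfSetup
import Mathlib.CategoryTheory.Sites.Continuous
import Mathlib.CategoryTheory.Limits.Preserves.Opposites

set_option autoImplicit false
universe v u
open CategoryTheory
open SGA4

namespace Groth.Agent.S3080
open CategoryTheory Category Limits Opposite Groth.L09.Giraud

open CategoryTheory.Limits in
/-- Let (C, J) and (D, K) be small sites and f a functor from sheaves of sets on (C, J) to sheaves of
sets on (D, K) which preserves finite limits and sends u-small jointly epimorphic families to
jointly epimorphic families. Then f is a left adjoint (so it is the inverse-image functor of a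
morphism of topoi) and f preserves all u-small colimits. -/
theorem result {C D : Type u} [SmallCategory C] [SmallCategory D]
    (J : GrothendieckTopology C) (K : GrothendieckTopology D) (f : Sheaf J (Type u) ⥤ Sheaf K (Type u))
    [PreservesFiniteLimits f] (hf : SGA4.PreservesEpiFamilies.{u + 1, u + 1, u} f) :
    f.IsLeftAdjoint ∧ PreservesColimitsOfSize.{u, u} f := by
  have : f.IsLeftAdjoint := by
    refine isLeftAdjoint_of_hasGlue f fun Y X ι G g hg x hx => ?_
    have hg' : Cover fun i => f.map (g i) :=
      shf_cover_of_isEpiFamily (hf ι X G g fun Z a b e => cover_hom_ext hg e)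
    obtain ⟨hb, hc⟩ := Groth.Agent.S3081.result K
    obtain ⟨d, hd⟩ := exists_desc hb hc hg' x fun i j => by
      rw [← PreservesPullback.iso_inv_fst f, ← PreservesPullback.iso_inv_snd f, assoc, assoc]
      exact congrArg (_ ≫ ·) (hx i j)
    exact ⟨d, hd, fun d' hd' => cover_hom_ext hg' fun i => (hd' i).trans (hd i).symm⟩
  exact ⟨this, (Adjunction.ofIsLeftAdjoint f).leftAdjoint_preservesColimits⟩

end Groth.Agent.S3080
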