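import Groth.Statements.S3085
import Groth.Agent.L09.Closed
import Groth.Agent.L09.Fracture
import Mathlib.CategoryTheory.Adjunction.Triple
import Mathlib.CategoryTheory.Comma.Over.Pullback

set_option autoImplicit false
universe u
open CategoryTheory
open SGA4

namespace Groth.Agent.S3085

open CategoryTheory.Limits in
/-- Gluing a topos from an open subtopos and its closed complement, for sheaves of sets on a small site:
let E be the category of sheaves of sets on a small site, U an open of E (a subobject of the final
object) with restriction functor j^* : E → E/U, X ↦ U × X; assume j^* has a right adjoint j_* (true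
in any topos; taken as an instance hypothesis), and let i^* be a left adjoint of the inclusion of
the closed complement F of U. With ρ = i^* ∘ j_* : E/U → F, the category E is equivalent to the
glued category of triples (Y in F, X in E/U, Y → ρX). (Only the existence of an equivalence is
asserted; the published statement gives it explicitly as X ↦ (i^*X, j^*X, i^*(X → j_*j^*X)).) -/
theorem result {C : Type u} [SmallCategory C] (J : GrothendieckTopology C)
    (U : Sheaf J (Type u)) (hU : SGA4.IsOpen U) [(Over.star U).IsLeftAdjoint]
    (L : Sheaf J (Type u) ⥤ (SGA4.closedCompl U).FullSubcategory) (adj : L ⊣ (SGA4.closedCompl U).ι) :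
    Nonempty (Sheaf J (Type u) ≌
      Comma (𝟭 (SGA4.closedCompl U).FullSubcategory) ((Over.star U).rightAdjoint ⋙ L)) := by
  have : Limits.PreservesFiniteLimits (Groth.L09.Closed.i hU) := Groth.L09.Closed.preservesFiniteLimits_i hU
  let θ := Groth.L09.Closed.isoCl hU adj
  have hθ : ∀ X, adj.unit.app X ≫ θ.hom.app X = (Groth.L09.Closed.η U).app X := fun X => by
    refine (Adjunction.unit_leftAdjointUniq_hom_app adj (Groth.L09.Closed.adj hU) X).trans ?_
    simp [Groth.L09.Closed.adj]
    exact Category.comp_id ((Groth.L09.Closed.η U).app X)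
  have : Limits.PreservesFiniteLimits L := ⟨fun K _ _ =>
    Limits.preservesLimitsOfShape_of_natIso (adj.leftAdjointUniq (Groth.L09.Closed.adj hU)).symm⟩
  have : Limits.PreservesFiniteLimits (Over.star U) :=
    have := (Over.forgetAdjStar U).rightAdjoint_preservesLimits.{0, 0}
    Limits.PreservesLimitsOfSize.preservesFiniteLimits _
  let a₂ := Adjunction.ofIsLeftAdjoint (Over.star U)
  have hm : Mono (Limits.terminal.from U) := hU
  have : (Over.forget U).Full := ⟨fun {A B} g =>
    ⟨Over.homMk g ((cancel_mono (Limits.terminal.from U)).1 (Subsingleton.elim _ _)), rfl⟩⟩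
  let hs := (Adjunction.Triple.fullyFaithfulEquiv ⟨Over.forgetAdjStar U, a₂⟩) (Functor.FullyFaithful.ofFullyFaithful _)
  have := hs.full
  have := hs.faithful
  have hbij : ∀ X, IsIso (Limits.prod.map (𝟙 U) (a₂.unit.app X)) := fun X => by
    have : IsIso ((Over.star U).map (a₂.unit.app X) ≫ a₂.counit.app ((Over.star U).obj X)) := by
      erw [a₂.left_triangle_components]
      infer_instance
    have h : IsIso ((Over.star U).map (a₂.unit.app X)) :=
      IsIso.of_isIso_comp_right _ (a₂.counit.app ((Over.star U).obj X))
    exact (inferInstance : IsIso ((Over.forget U).map ((Over.star U).map (a₂.unit.app X))))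
  have := Groth.L09.Fracture.isEquivalence adj a₂ (fun X => ?_) (fun {Y W} g => ?_)
  · exact ⟨(Groth.L09.Fracture.Φ (L := L) a₂).asEquivalence⟩
  · refine (Groth.L09.Closed.isPullback_cl hU _ ((Groth.L09.Closed.isIso_prodMap_iff _).1 (hbij X))).of_iso
      (Iso.refl _) (Iso.refl _) (Iso.refl _ ≪≫ (θ.app X).symm) (Iso.refl _ ≪≫ (θ.app _).symm) ?_ ?_ ?_ ?_
    · simp
    · simp only [Iso.refl_hom, Category.id_comp, Iso.trans_hom, Iso.symm_hom]
      exact (Iso.comp_inv_eq _).2 (hθ X).symm
    · simp only [Iso.refl_hom, Category.id_comp, Iso.trans_hom, Iso.symm_hom]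
      exact (Iso.comp_inv_eq _).2 (hθ _).symm
    · simp only [Iso.refl_hom, Category.id_comp, Iso.trans_hom, Iso.symm_hom]
      exact θ.inv.naturality (a₂.unit.app X)
  · have : IsIso (Limits.prod.fst : U ⨯ W.obj ⟶ U) := W.property
    have : IsIso (Limits.prod.fst : U ⨯ Y.obj ⟶ U) := Y.property
    have : IsIso (Limits.prod.map (𝟙 U) g ≫ (Limits.prod.fst : U ⨯ W.obj ⟶ U)) := by
      erw [Limits.prod.map_fst, Category.comp_id]
      exact Y.property
    have h : IsIso ((Over.forget U).map ((Over.star U).map g)) :=
      IsIso.of_isIso_comp_right (Limits.prod.map (𝟙 U) g) (Limits.prod.fst : U ⨯ W.obj ⟶ U)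
    exact isIso_of_reflects_iso _ (Over.forget U)

end Groth.Agent.S3085
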