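import Groth.Statements.S3086
import Groth.Agent.L09.Glue
import Groth.Agent.L09.ShfSetup
import Groth.Agent.S3078
import Groth.Agent.S3081
import Mathlib.CategoryTheory.Presentable.Presheaf
import Mathlib.CategoryTheory.Presentable.Type

set_option autoImplicit false
universe u
open CategoryTheory
open SGA4

namespace Groth.Agent.S3086

open CategoryTheory.Limits in
/-- For sheaf topoi on small sites): let ρ be a functor from sheaves of sets on (C, J) to sheaves of
sets on (D, K) which preserves finite limits and is accessible. Then the glued category of triples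
(Y, X, Y -> ρ X) is a topos. -/
theorem result {C D : Type u} [SmallCategory C] [SmallCategory D] (J : GrothendieckTopology C)
    (K : GrothendieckTopology D) (ρ : Sheaf J (Type u) ⥤ Sheaf K (Type u)) [PreservesFiniteLimits ρ]
    [ρ.IsAccessible.{u}] :
    SGA4.IsTopos.{u + 1, u} (Comma (𝟭 (Sheaf K (Type u))) ρ) := by
  obtain ⟨hb₁, hc₁⟩ := Groth.Agent.S3081.result K
  obtain ⟨hb₂, hc₂⟩ := Groth.Agent.S3081.result J
  refine Groth.Agent.S3078.result (Groth.L09.Glue.hasDisjointUniversalCoproducts hb₁ hb₂)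
    (fun R X p₁ p₂ h => Groth.L09.Glue.isEffectiveUniversalEquivRel hc₁ hc₂ h) ?_
  obtain ⟨C₁, _, w₁, hw₁⟩ := Groth.L09.Giraud.shf_setup K
  obtain ⟨C₂, _, w₂, hw₂⟩ := Groth.L09.Giraud.shf_setup J
  obtain ⟨κ, _, _⟩ := Functor.IsAccessible.exists_cardinal.{u} (F := ρ)
  have : (presheafToSheaf J (Type u)).IsCardinalAccessible κ := inferInstance
  obtain ⟨P, _, hP⟩ := HasCardinalFilteredGenerator.exists_small_generator (Cᵒᵖ ⥤ Type u) κ
  let S : Shrink.{u} (Subtype P) → Sheaf J (Type u) := fun s =>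
    (presheafToSheaf J (Type u)).obj ((equivShrink _).symm s).1
  refine Groth.L09.Glue.exists_detecting hb₁ hb₂ hw₁ hw₂ S fun b T g => ?_
  obtain ⟨I, _, _, ⟨p⟩⟩ := hP.exists_colimitsOfShape b.obj
  let L := presheafToSheaf J (Type u)
  let ε : L.obj b.obj ⟶ b := (sheafificationAdjunction J (Type u)).counit.app b
  have := (presheafToSheaf J (Type u) ⋙ ρ).preservesColimitsOfShape_of_isCardinalAccessible κ I
  have hk := Limits.isColimitOfPreserves (L ⋙ ρ) p.isColimit
  have hepi : SGA4.IsEpiFamily (fun j => ρ.map (L.map (p.ι.app j) ≫ ε)) := fun Z a a' h => by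
    rw [← cancel_epi (ρ.map ε)]
    exact hk.hom_ext fun j => by simpa [L] using! h j
  refine Groth.L09.Giraud.cover_of_factor (Groth.L09.Giraud.cover_comp
    (Groth.L09.Giraud.cover_pullback hb₁ hc₁ (Groth.L09.Giraud.shf_cover_of_isEpiFamily hepi) g)
    (fun j => hw₁.gen _)) fun ⟨j, c, z⟩ => ?_
  have key : ∀ (Q : Subtype P), Q.1 = p.diag.obj j → ∃ (u : L.obj Q.1 ⟶ b) (h : w₁.obj c ⟶ ρ.obj (L.obj Q.1)),
      h ≫ ρ.map u = (z ≫ Limits.pullback.fst g (ρ.map (L.map (p.ι.app j) ≫ ε))) ≫ g := by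
    rintro ⟨_, _⟩ rfl
    exact ⟨L.map (p.ι.app j) ≫ ε, z ≫ Limits.pullback.snd g _, by simp only [Category.assoc, Limits.pullback.condition]⟩
  obtain ⟨v, h, e⟩ := key ((equivShrink _).symm (equivShrink _ (⟨p.diag.obj j, p.prop_diag_obj j⟩ : Subtype P))) (by simp)
  exact ⟨⟨c, z ≫ Limits.pullback.fst g _, equivShrink _ ⟨p.diag.obj j, p.prop_diag_obj j⟩, v, h, e⟩, 𝟙 _, Category.id_comp _⟩

end Groth.Agent.S3086
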