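import Groth.Statements.S3087
import Groth.Agent.L15.ExtZero.RingExact

set_option autoImplicit false
universe u
open CategoryTheory
open SGA4

namespace Groth.Agent.S3087

open CategoryTheory.Limits in
set_option backward.isDefEq.respectTransparency.types false in
theorem result {C : Type u} [SmallCategory C] (J : GrothendieckTopology C) (X : C)
    (A : Sheaf J RingCat.{u}) :
    (SheafOfModules.overFunctor.{u} A X).IsRightAdjoint ∧
    ∀ (L : SheafOfModules.{u} (A.over X) ⥤ SheafOfModules.{u} A) (_ : L ⊣ SheafOfModules.overFunctor.{u} A X),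
      PreservesFiniteLimits L ∧ PreservesFiniteColimits L ∧ L.Faithful :=
  ⟨inferInstanceAs (SheafOfModules.pushforward.{u} (𝟙 (A.over X))).IsRightAdjoint, fun L h =>
    ⟨Groth.L15.ExtZero.Ring.preservesFiniteLimits_extZero h,
      Groth.L15.ExtZero.Ring.preservesFiniteColimits_extZero h,
      Groth.L15.ExtZero.Ring.faithful_extZero h⟩⟩

end Groth.Agent.S3087
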