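import Groth.Statements.S3092
import Groth.Agent.L10.HDesc.FreeHyper

set_option autoImplicit false
set_option backward.defeqAttrib.useBackward true
set_option backward.isDefEq.respectTransparency false
universe u
open CategoryTheory
open Hyper

namespace Groth.Agent.S3092

open Opposite CategoryTheory.Limits in
/-- In the topos of sheaves of sets on a small site; coskeleta assumed to exist: let v : K -> L be a
morphism of simplicial sheaves of sets and n ≥ 0 such that v_p is an isomorphism for p < n, v_n is
an epimorphism, and K, L are n-coskeletal (the units K -> cosk_n K, L -> cosk_n L are isomorphisms).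
Then every v_p is an epimorphism and v induces a quasi-isomorphism between the chain complexes of
free abelian sheaves Z[K] -> Z[L]. -/
theorem result {C : Type u} [SmallCategory C] (J : GrothendieckTopology C)
    [∀ (n : ℕ) (F : (SimplexCategory.Truncated n)ᵒᵖ ⥤ Sheaf J (Type u)),
      (SimplexCategory.Truncated.inclusion n).op.HasRightKanExtension F]
    {K L : SimplicialObject (Sheaf J (Type u))} (v : K ⟶ L) (n : ℕ)
    (h1 : ∀ p : ℕ, p < n → IsIso (v.app (op (SimplexCategory.mk p))))
    (h2 : Epi (v.app (op (SimplexCategory.mk n))))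
    (h3 : IsIso ((SimplicialObject.coskAdj n).unit.app K) ∧ IsIso ((SimplicialObject.coskAdj n).unit.app L)) :
    (∀ p : ℕ, Epi (v.app (op (SimplexCategory.mk p)))) ∧
    QuasiIso ((AlgebraicTopology.alternatingFaceMapComplex _).map
      (Functor.whiskerRight v (Sheaf.composeAndSheafify J AddCommGrpCat.free.{u}))) := by
  have : HasLimitsOfSize.{0, 0} (Sheaf J (Type u)) := inferInstance
  have := h3.1
  have := h3.2
  refine ⟨fun p => Groth.L10.HDesc.epi_app (𝟭 _) v (Groth.L10.HDesc.selfCoskOf L n h3.2)
    (Groth.L10.HDesc.selfCoskOf K n h3.1) h1 h2 (op (SimplexCategory.mk p)), ?_⟩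
  exact Groth.L10.HDesc.quasiIso_free (𝟭 _) v (Groth.L10.HDesc.selfCoskOf L n h3.2)
    (Groth.L10.HDesc.selfCoskOf K n h3.1) h1 h2

end Groth.Agent.S3092
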