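import Groth.Statements.S3093
import Mathlib.Topology.Compactness.LocallyCompact
import Mathlib.Topology.Separation.Regular

set_option autoImplicit false
universe u
open CohTop

namespace Groth.Agent.S3093

/-- Let X be a topological space and K ⊆ X a compact subset such that any two distinct points of K have
disjoint open neighbourhoods in X. If A and B are subsets of K that are closed in K and W is an open
subset of X containing A ∩ B, then there are open subsets U ⊇ A and V ⊇ B of X with U ∩ V ⊆ W. -/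
theorem result {X : Type u} [TopologicalSpace X] {K : Set X} (hK : IsCompact K)
    (hsep : ∀ x ∈ K, ∀ y ∈ K, x ≠ y → ∃ U V : Set X, IsOpen U ∧ IsOpen V ∧ x ∈ U ∧ y ∈ V ∧ Disjoint U V)
    {A B W : Set X} (hA : A ⊆ K) (hB : B ⊆ K) (hAc : IsClosed (Subtype.val ⁻¹' A : Set K))
    (hBc : IsClosed (Subtype.val ⁻¹' B : Set K)) (hW : IsOpen W) (hABW : A ∩ B ⊆ W) :
    ∃ U V : Set X, IsOpen U ∧ IsOpen V ∧ A ⊆ U ∧ B ⊆ V ∧ U ∩ V ⊆ W := by
  classical
  let A' := A \ W
  let B' := B \ W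
  have cK : ∀ T : Set X, T ⊆ K → IsClosed (Subtype.val ⁻¹' T : Set K) → IsCompact (T \ W) := fun T hT hc => by
    have : IsCompact T := by
      have := isCompact_iff_compactSpace.1 hK
      have h := hc.isCompact.image continuous_subtype_val
      rwa [Subtype.image_preimage_coe, Set.inter_eq_right.2 hT] at h
    exact this.diff hW
  have h : ∀ p ∈ A' ×ˢ B', ∃ U V : Set X, IsOpen U ∧ IsOpen V ∧ p.1 ∈ U ∧ p.2 ∈ V ∧ Disjoint U V := fun p hp =>
    hsep p.1 (hA hp.1.1) p.2 (hB hp.2.1) fun e => hp.1.2 (hABW ⟨hp.1.1, e ▸ hp.2.1⟩)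
  choose! U V hU hV hpU hpV hd using h
  let n : Set (X × X) := {p | p.1 = p.2}ᶜ
  obtain ⟨U', V', hU', hV', hAU, hBV, hUV⟩ := generalized_tube_lemma (cK A hA hAc) (cK B hB hBc)
    (isOpen_biUnion (s := A' ×ˢ B') (f := fun p => U p ×ˢ V p) fun p hp => (hU p hp).prod (hV p hp))
    (fun p hp => Set.mem_biUnion hp ⟨hpU p hp, hpV p hp⟩)
  refine ⟨U' ∪ W, V' ∪ W, hU'.union hW, hV'.union hW, fun x hx => ?_, fun x hx => ?_, ?_⟩
  · by_cases hxW : x ∈ W
    · exact Or.inr hxW
    · exact Or.inl (hAU ⟨hx, hxW⟩)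
  · by_cases hxW : x ∈ W
    · exact Or.inr hxW
    · exact Or.inl (hBV ⟨hx, hxW⟩)
  · rintro x ⟨hxu, hxv⟩
    by_contra hxW
    obtain ⟨p, hp, h1, h2⟩ := Set.mem_iUnion₂.1 (hUV (Set.mk_mem_prod (hxu.resolve_right hxW) (hxv.resolve_right hxW)))
    exact Set.disjoint_left.1 (hd p hp) h1 h2

end Groth.Agent.S3093
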