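import Groth.Statements.S3098
import Groth.Agent.L23.Lisse.Smooth
import Groth.Agent.L27.PBC.StalkH

set_option autoImplicit false
universe u
open CategoryTheory CategoryTheory.Limits AlgebraicGeometry Opposite
open EtPBC

namespace Groth.Agent.S3098

/-- Let f : X -> Y be proper and smooth with Y connected, n invertible on Y, F a finite locally constant
abelian sheaf on the small etale site of X killed by n, and let a, b be two geometric points of Y
(spectra of separably closed fields). Then for every q the cohomology groups of the two geometric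
fibres with coefficients in the restrictions of F are isomorphic. -/
theorem result {X Y : Scheme.{u}} (f : X ⟶ Y) [IsProper f] [Smooth f]
    [EtCoh.BCCont f] (hY : ConnectedSpace Y) (n : ℕ) (hn : IsUnit (n : Γ(Y, ⊤)))
    (F : EtCoh.Ab X) (hF : EtCoh.IsFiniteLocallyConstant F) (hFn : EtCoh.KilledBy n F)
    {Ω Ω' : Type u} [Field Ω] [IsSepClosed Ω] [Field Ω'] [IsSepClosed Ω']
    (a : Spec (CommRingCat.of Ω) ⟶ Y) (b : Spec (CommRingCat.of Ω') ⟶ Y)
    [EtCoh.BCCont (pullback.fst f a)] [EtCoh.BCCont (pullback.fst f b)] (q : ℕ) :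
    Nonempty (EtCoh.H (pullback f a) ((EtCoh.pull (pullback.fst f a)).obj F) q ≃+
      EtCoh.H (pullback f b) ((EtCoh.pull (pullback.fst f b)).obj F) q) := by
  have ht := Groth.L23.Lisse.stalkTors_of_killedBy f hn hFn
  haveI := hY
  obtain ⟨e⟩ := Groth.L23.Lisse.nonempty_stalk_iso_of_connected (Groth.L23.Lisse.isFLC_Rpush_smooth f F hF ht q) a b
  obtain ⟨ea⟩ := Groth.L27.PBC.nonempty_stalk_iso Ω f a F (Groth.L23.Lisse.isTorsion_of_stalkTors ht) q
  obtain ⟨eb⟩ := Groth.L27.PBC.nonempty_stalk_iso Ω' f b F (Groth.L23.Lisse.isTorsion_of_stalkTors ht) q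
  exact ⟨(ea.symm ≪≫ e ≪≫ eb).addCommGroupIsoToAddEquiv⟩

end Groth.Agent.S3098
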