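import Groth.Statements.S3099
import Groth.Agent.L28.Pair.Purity
-- import your own Groth.Agent.* helpers here

set_option autoImplicit false
universe u
open CategoryTheory CategoryTheory.Limits AlgebraicGeometry Opposite
open EtPBC

set_option backward.isDefEq.respectTransparency.types false

namespace Groth.Agent.S3099

/-- Cohomological purity, the assertions about the open complement: let f : X → S be smooth of relative
dimension m + c and h : Y → S smooth of relative dimension m with c > 0, i : Y → X a closed
immersion over S, and j : U → X an open immersion whose image is the complement of the image of i.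
Let n be invertible on X and F a finite locally constant abelian sheaf on the small étale site of X
killed by n. Then the unit F → j_* j^* F is an isomorphism, and R^q j_* (j^* F) = 0 for every q
other than 0 and 2c − 1. (The published statement allows any smooth pair of codimension c, which is
this situation locally, and more general coefficients; continuity of the site functor of j is
assumed as an instance binder.) -/
theorem result {X Y U S : Scheme.{u}} (f : X ⟶ S) (h : Y ⟶ S) (i : Y ⟶ X)
    (m c : ℕ) (hc : 0 < c) [SmoothOfRelativeDimension (m + c) f] [SmoothOfRelativeDimension m h]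
    [IsClosedImmersion i] (w : i ≫ f = h) (j : U ⟶ X) [IsOpenImmersion j]
    (hU : Set.range j = (Set.range i)ᶜ) [EtCoh.BCCont j]
    (n : ℕ) (hn : IsUnit (n : Γ(X, ⊤))) (F : EtCoh.Ab X) (hF : EtCoh.IsFiniteLocallyConstant F)
    (hFn : EtCoh.KilledBy n F) :
    IsIso ((EtCoh.pullPushAdj j).unit.app F) ∧
      ∀ q : ℕ, q ≠ 0 → q ≠ 2 * c - 1 → IsZero ((EtCoh.Rpush j q).obj ((EtCoh.pull j).obj F)) := by
  obtain ⟨h1, h2⟩ := Groth.L28.Pair.purity f h i m c hc w j hU n hn F hF hFn
  exact ⟨h1, fun q hq hq' => h2 q (Nat.pos_of_ne_zero hq) hq'⟩

end Groth.Agent.S3099
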