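import Groth.Statements.S3101
import Groth.Agent.L28.Pair.Purity
import Groth.Agent.L28.Supp.Sect
import Groth.Agent.S6658
import Groth.Agent.L28.Pair.RestrIso
-- import your own Groth.Agent.* helpers here

set_option autoImplicit false
universe u
open CategoryTheory CategoryTheory.Limits AlgebraicGeometry Opposite
open EtDual

set_option backward.isDefEq.respectTransparency.types false

namespace Groth.Agent.S3101

/-- Cohomological purity, the assertions about local cohomology: let f : X → S be smooth of relative
dimension m + c and h : Y → S smooth of relative dimension m with c > 0, i : Y → X a closed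
immersion over S, j : U → X an open immersion onto the complement of the image of i, n an integer
invertible on X and F a finite locally constant abelian sheaf on the small étale site of X killed by
n. Then the local cohomology sheaves H^q_Y(X, F) (right derived functors of sections supported off
U) vanish for q other than 2c, and H^{2c}_Y(X, F) is, on the members of some étale covering of X,
isomorphic to i_* i^* F. (The published statement allows any smooth S-pair of codimension c and also
identifies H^{2c}_Y(X, F) with the restriction to Y of R^{2c−1} j_* j^* F, pushed forward to X; only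
the form above is asserted here. Continuity of base change along i and j is carried as instance
binders.) -/
theorem result {X Y U S : Scheme.{u}} (f : X ⟶ S) (h : Y ⟶ S) (i : Y ⟶ X)
    (m c : ℕ) (hc : 0 < c) [SmoothOfRelativeDimension (m + c) f] [SmoothOfRelativeDimension m h]
    [IsClosedImmersion i] (w : i ≫ f = h) (j : U ⟶ X) [IsOpenImmersion j]
    (hU : Set.range j = (Set.range i)ᶜ) [EtCoh.BCCont j] [EtCoh.BCCont i]
    (n : ℕ) (hn : IsUnit (n : Γ(X, ⊤))) (F : EtCoh.Ab X) (hF : EtCoh.IsFiniteLocallyConstant F)
    (hFn : EtCoh.KilledBy n F) :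
    (∀ q : ℕ, q ≠ 2 * c → IsZero ((EtDual.locCoh j q).obj F)) ∧
      ∃ (ι : Type u) (V : ι → X.Etale), EtCoh.Covers V ∧ ∀ a : ι,
        Nonempty (EtCoh.restr ((EtDual.locCoh j (2 * c)).obj F) (V a) ≅
          EtCoh.restr ((EtCoh.push i).obj ((EtCoh.pull i).obj F)) (V a)) := by
  classical
  obtain ⟨h1, h2⟩ := Groth.L28.Pair.purity f h i m c hc w j hU n hn F hF hFn
  obtain ⟨⟨e1⟩, e2⟩ := Groth.Agent.S6658.result j F
  haveI := h1
  haveI := Groth.L28.Supp.preservesFiniteLimits_secSupp j
  refine ⟨fun q hq => ?_, ?_⟩
  · match q, hq with
    | 0, _ => exact (isZero_kernel_of_mono (EtDual.unitApp j F)).of_iso ((EtDual.secSupp j).rightDerivedZeroIsoSelf.app F)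
    | 1, _ => exact (isZero_cokernel_of_epi (EtDual.unitApp j F)).of_iso e1.symm
    | p + 2, hq => exact (h2 (p + 1) (by omega) (by omega)).of_iso (e2 (p + 1) (by omega)).some.symm
  · choose V v hv hJ hx hrest using fun x : X =>
      (Groth.L28.Pair.localPurity f h i m c hc w j hU n hn F hF hFn x).exists_nbhd
    refine ⟨X, fun x => (MorphismProperty.Over.mk ⊤ (v x) (hv x) : X.Etale), fun x => ⟨x, hx x⟩, fun x => ?_⟩
    obtain ⟨e⟩ := (hrest x).2.2
    obtain ⟨e'⟩ := e2 (2 * c - 1) (by omega)
    haveI := hv x
    haveI := hJ x
    rw [show 2 * c = 2 * c - 1 + 1 by omega]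
    let e'' := ((EtShriek.restrAlong (v x)).mapIso e'.symm) ≪≫ e
    let W : X.Etale := MorphismProperty.Over.mk ⊤ (v x) (hv x)
    haveI : AlgebraicGeometry.Etale W.hom := hv x
    haveI : EtShriek.JCont W.hom := hJ x
    exact Groth.L28.Pair.nonempty_restr_iso_of_restrAlong W e''

end Groth.Agent.S3101
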