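import Groth.Statements.S3109
import Groth.Agent.L28.Pair.RegZero
-- import your own Groth.Agent.* helpers here

set_option autoImplicit false
universe u
open CategoryTheory CategoryTheory.Limits AlgebraicGeometry Opposite
open EtDual

set_option linter.style.haveILetI false
set_option linter.unusedSectionVars false
set_option backward.isDefEq.respectTransparency.types false

namespace Groth.Agent.S3109

/-- Let k be a perfect field, X a regular scheme locally of finite type over k, Y a regular closed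
subscheme of X (i : Y -> X) of codimension c at every point of Y (dim O_{X,i(y)} = dim O_{Y,y} + c),
j : U -> X the open immersion of the complement, and n nonzero in k. Then the local cohomology
sheaves H^q_Y(X, Z/n) vanish for q ≠ 2c and H^{2c}_Y(X, Z/n) is, on the members of an etale covering
of X, isomorphic to i_* of the constant sheaf Z/n on Y. -/
theorem result (k : Type u) [Field k] [PerfectField k]
    {X Y U : Scheme.{u}} (f : X ⟶ Spec (CommRingCat.of k)) [LocallyOfFiniteType f] (i : Y ⟶ X)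
    [IsClosedImmersion i] (c : ℕ)
    (hXreg : ∀ x : X, IsRegularLocalRing (X.presheaf.stalk x))
    (hYreg : ∀ y : Y, IsRegularLocalRing (Y.presheaf.stalk y))
    (hcodim : ∀ y : Y, ringKrullDim (X.presheaf.stalk (i.base y)) = ringKrullDim (Y.presheaf.stalk y) + c)
    (j : U ⟶ X) [IsOpenImmersion j]
    (hU : Set.range j = (Set.range i)ᶜ) [EtCoh.BCCont j] [EtCoh.BCCont i]
    (n : ℕ) (hn : (n : k) ≠ 0) :
    (∀ q : ℕ, q ≠ 2 * c → IsZero ((EtDual.locCoh j q).obj (EtCoh.const X (ZMod n)))) ∧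
      ∃ (ι : Type u) (V : ι → X.Etale), EtCoh.Covers V ∧ ∀ a : ι,
        Nonempty (EtCoh.restr ((EtDual.locCoh j (2 * c)).obj (EtCoh.const X (ZMod n))) (V a) ≅
          EtCoh.restr ((EtCoh.push i).obj (EtCoh.const Y (ZMod n))) (V a)) := by
  classical
  haveI := Groth.L28.Pair.RegField.smooth_of_regular f hXreg
  haveI := Groth.L28.Pair.RegField.smooth_of_regular (i ≫ f) hYreg
  haveI : NeZero n := ⟨fun h => hn (by simp [h])⟩
  have hnX : IsUnit (n : Γ(X, ⊤)) := Groth.L28.Pair.isUnit_natCast_of_hom f (by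
    have := (IsUnit.mk0 _ hn).map (Scheme.ΓSpecIso (CommRingCat.of k)).inv.hom
    rwa [map_natCast] at this)
  let F := EtCoh.const X (ZMod n)
  obtain ⟨⟨e₁⟩, hsucc⟩ := Groth.Agent.S6658.result j F
  rcases Nat.eq_zero_or_pos c with rfl | hc
  · haveI := Groth.L28.Pair.RegField.isOpenImmersion_of_chart i f hcodim
    obtain ⟨hz, ⟨e⟩⟩ := Groth.L28.Pair.RegField.clopen j i hU F
    refine ⟨fun q hq => hz q (by omega), PUnit, fun _ => Scheme.Etale.mk (𝟙 X),
      fun x => ⟨PUnit.unit, x, rfl⟩, fun _ => ?_⟩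
    haveI : AlgebraicGeometry.Etale (Scheme.Etale.mk (𝟙 X)).hom := inferInstanceAs (AlgebraicGeometry.Etale (𝟙 X))
    haveI hJ : EtShriek.JCont ((Scheme.Etale.mk (𝟙 X)).hom : (Scheme.Etale.mk (𝟙 X)).left ⟶ X) :=
      Groth.L27.ExtZero.jCont _
    exact Groth.L28.Pair.nonempty_restr_iso_of_restrAlong _
      ((EtShriek.restrAlong _).mapIso (e ≪≫ (EtCoh.push i).mapIso (EtCore.pullConst i (ZMod n))))
  have hloc := fun x => Groth.L28.Pair.RegField.localData f i j hU c hc (n := n) hcodim hnX x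
  haveI hu : IsIso ((EtCoh.pullPushAdj j).unit.app F) := Groth.L28.Pair.isIso_of_restr _ fun x => by
    obtain ⟨⟨V, v, hv, h⟩⟩ := hloc x
    haveI : AlgebraicGeometry.Etale V.hom := V.prop
    haveI hJ := Groth.L27.ExtZero.jCont (V.hom : V.left ⟶ X)
    exact ⟨V.left, V.hom, V.prop, hJ, ⟨v, hv⟩, h.1⟩
  refine ⟨fun q hq => ?_, ?_⟩
  · match q with
    | 0 => exact (Groth.Agent.S3364.locCohZero j F).2 inferInstance
    | 1 => exact (isZero_cokernel_of_epi ((EtCoh.pullPushAdj j).unit.app F)).of_iso e₁.symm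
    | p + 2 =>
      obtain ⟨e⟩ := hsucc (p + 1) (by omega)
      refine IsZero.of_iso ?_ e.symm
      refine Groth.L28.Supp.isZero_of_restr fun x => ?_
      obtain ⟨⟨V, v, hv, h⟩⟩ := hloc x
      haveI : AlgebraicGeometry.Etale V.hom := V.prop
      haveI hJ := Groth.L27.ExtZero.jCont (V.hom : V.left ⟶ X)
      exact ⟨V.left, V.hom, V.prop, hJ, ⟨v, hv⟩, h.2.1 (p + 1) (by omega) (by omega)⟩
  have hex : ∀ x : X, ∃ V : X.Etale, (∃ v : V.left, (V.hom : V.left ⟶ X) v = x) ∧
      Nonempty (EtCoh.restr ((EtDual.locCoh j (2 * c)).obj F) V ≅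
        EtCoh.restr ((EtCoh.push i).obj (EtCoh.const Y (ZMod n))) V) := fun x => by
    obtain ⟨⟨V, v, hv, h⟩⟩ := hloc x
    haveI : AlgebraicGeometry.Etale V.hom := V.prop
    haveI hJ := Groth.L27.ExtZero.jCont (V.hom : V.left ⟶ X)
    obtain ⟨a⟩ := (h).2.2
    obtain ⟨e⟩ := hsucc (2 * c - 1) (by omega)
    have e' : (EtCoh.Rpush j (2 * c - 1)).obj ((EtCoh.pull j).obj F) ≅ (EtDual.locCoh j (2 * c)).obj F :=
      e ≪≫ eqToIso (by rw [show 2 * c - 1 + 1 = 2 * c by omega])
    exact ⟨V, ⟨v, hv⟩, Groth.L28.Pair.nonempty_restr_iso_of_restrAlong _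
      ((EtShriek.restrAlong V.hom).mapIso e'.symm ≪≫ a)⟩
  choose V hV hiso using hex
  exact ⟨X, V, fun x => ⟨x, hV x⟩, hiso⟩

end Groth.Agent.S3109
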