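import Groth.Statements.S3117
import Groth.Agent.L27.SmoothLA.AffineAcyclic

set_option autoImplicit false
set_option linter.style.haveILetI false
set_option backward.isDefEq.respectTransparency.types false
universe u
open CategoryTheory CategoryTheory.Limits AlgebraicGeometry Opposite
open EtPBC

namespace Groth.Agent.S3117

/-- Acyclicity of affine space, abelian form: let Y be a scheme, g : 𝔸^m_Y → Y the structure morphism of
affine m-space, n an integer invertible on Y and F an abelian sheaf on the small étale site of Y
killed by n. Then the unit F → g_* g^* F is an isomorphism and R^q g_* (g^* F) = 0 for every q > 0.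
(The published statement gives acyclicity for all torsion sheaves of orders prime to the residue
characteristics, and also 1-asphericity for sheaves of groups; only the form above is stated here.) -/
theorem result (Y : Scheme.{u}) (m : ℕ) [EtCoh.BCCont (𝔸(ULift.{u} (Fin m); Y) ↘ Y)]
    (n : ℕ) (hn : IsUnit (n : Γ(Y, ⊤))) (F : EtCoh.Ab Y) (hF : EtCoh.KilledBy n F) :
    IsIso ((EtCoh.pullPushAdj (𝔸(ULift.{u} (Fin m); Y) ↘ Y)).unit.app F) ∧
      ∀ q : ℕ, 0 < q → IsZero ((EtCoh.Rpush (𝔸(ULift.{u} (Fin m); Y) ↘ Y) q).obj ((EtCoh.pull (𝔸(ULift.{u} (Fin m); Y) ↘ Y)).obj F)) := by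
  exact Groth.L27.SmoothLA.acyclic_affineSpace Y m n hn F hF

end Groth.Agent.S3117
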