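import Groth.Statements.S3121
import Groth.Agent.L28.Pair.Line
-- import your own Groth.Agent.* helpers here

set_option autoImplicit false
universe u
open CategoryTheory CategoryTheory.Limits AlgebraicGeometry Opposite
open EtDual

set_option linter.style.haveILetI false
set_option linter.unusedSectionVars false
set_option backward.isDefEq.respectTransparency.types false

namespace Groth.Agent.S3121

/-- Let A be a strictly henselian local ring, P the ideal of A[x] generated by the maximal ideal of A
and x, B a henselization of the local ring A[x]_P (equivalently a strict henselization, the residue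
field being separably closed), y the image of x in B, U = Spec B[1/y], and n an integer invertible
in A. Then H^1(U, mu_n) is isomorphic to Z/n and H^q(U, mu_n) = 0 for all q ≥ 2. (The source also
gives H^0(U, mu_n) = mu_n(A).) -/
theorem result (A : Type u) [CommRing A] [IsLocalRing A]
    (hA : EtCoh.IsStrictlyHenselianLocalRing A) (P : Ideal (Polynomial A)) [P.IsMaximal]
    (hP : P = (IsLocalRing.maximalIdeal A).map Polynomial.C ⊔ Ideal.span {Polynomial.X})
    (B : Type u) [CommRing B] [IsLocalRing B] [Algebra (Localization.AtPrime P) B]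
    [IsLocalHom (algebraMap (Localization.AtPrime P) B)] [Hensel.IsHenselization (Localization.AtPrime P) B]
    (n : ℕ) (hn : IsUnit (n : A)) :
    Nonempty (EtCoh.H (Spec (CommRingCat.of (Localization.Away
        (algebraMap (Localization.AtPrime P) B (algebraMap (Polynomial A) (Localization.AtPrime P) Polynomial.X)))))
      (EtCoh.mu (Spec (CommRingCat.of (Localization.Away
        (algebraMap (Localization.AtPrime P) B (algebraMap (Polynomial A) (Localization.AtPrime P) Polynomial.X))))) n) 1 ≃+
      ZMod n) ∧
    ∀ q : ℕ, 2 ≤ q → Subsingleton (EtCoh.H (Spec (CommRingCat.of (Localization.Away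
        (algebraMap (Localization.AtPrime P) B (algebraMap (Polynomial A) (Localization.AtPrime P) Polynomial.X)))))
      (EtCoh.mu (Spec (CommRingCat.of (Localization.Away
        (algebraMap (Localization.AtPrime P) B (algebraMap (Polynomial A) (Localization.AtPrime P) Polynomial.X))))) n) q) := by
  let O := Localization.AtPrime P
  let I := Groth.L28.Pair.Line.Idx.{u}
  let y : B := algebraMap O B (algebraMap (Polynomial A) O Polynomial.X)
  haveI := (inferInstance : Hensel.IsHenselization O B).henselian
  let f : A →+* O := (algebraMap (Polynomial A) O).comp Polynomial.C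
  haveI : IsLocalHom f := ⟨fun a ha => by
    by_contra h
    refine (IsLocalization.AtPrime.isUnit_to_map_iff O P (Polynomial.C a)).1 ha ?_
    rw [hP]
    exact Ideal.mem_sup_left (Ideal.mem_map_of_mem _ ((IsLocalRing.mem_maximalIdeal a).2 h))⟩
  have hX : Polynomial.X ∈ P := by
    rw [hP]; exact Ideal.mem_sup_right (Ideal.mem_span_singleton_self _)
  have hf : Function.Surjective ((IsLocalRing.residue O).comp f) := by
    intro r
    obtain ⟨o, rfl⟩ := IsLocalRing.residue_surjective r
    obtain ⟨q, hq⟩ := (IsLocalization.AtPrime.equivQuotMaximalIdeal P O).surjective (Ideal.Quotient.mk _ o)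
    obtain ⟨p, rfl⟩ := Ideal.Quotient.mk_surjective q
    refine ⟨p.coeff 0, ?_⟩
    have hmem : p - Polynomial.C (p.coeff 0) ∈ P := by
      have h : Polynomial.X ∣ p - Polynomial.C (p.coeff 0) := Polynomial.X_dvd_iff.2 (by simp)
      exact Ideal.mem_of_dvd _ h hX
    refine Eq.trans ?_ hq
    rw [← (Ideal.Quotient.eq.2 hmem : Ideal.Quotient.mk P p = Ideal.Quotient.mk P (Polynomial.C (p.coeff 0))).symm]
    rfl
  haveI : IsSepClosed (IsLocalRing.ResidueField B) :=
    Groth.L28.Pair.Line.isStrictlyHenselian_of_residue (B := B) hA f hf
  let e : MvPolynomial I A ≃ₐ[A] Polynomial A := MvPolynomial.uniqueAlgEquiv A I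
  letI : Algebra (MvPolynomial I A) (Polynomial A) := e.toRingEquiv.toRingHom.toAlgebra
  letI : Algebra (Polynomial A) B := ((algebraMap O B).comp (algebraMap (Polynomial A) O)).toAlgebra
  haveI : IsScalarTower (Polynomial A) O B := IsScalarTower.of_algebraMap_eq' rfl
  letI : Algebra (MvPolynomial I A) B :=
    ((algebraMap (Polynomial A) B).comp e.toRingEquiv.toRingHom).toAlgebra
  haveI : IsScalarTower (MvPolynomial I A) (Polynomial A) B := IsScalarTower.of_algebraMap_eq' rfl
  haveI : Algebra.Etale (MvPolynomial I A) (Polynomial A) :=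
    RingHom.etale_algebraMap.mp (RingHom.Etale.of_bijective e.toRingEquiv.bijective)
  haveI := Groth.L05.Henselization.Branches.weaklyEtale_hens (R := O) (S := B)
  haveI := Groth.L20.weaklyEtale_isLocalization P.primeCompl O
  haveI : Algebra.WeaklyEtale (Polynomial A) B := Algebra.WeaklyEtale.trans (Polynomial A) O B
  haveI : Algebra.WeaklyEtale (MvPolynomial I A) B := Algebra.WeaklyEtale.trans (MvPolynomial I A) (Polynomial A) B
  have hy : algebraMap (MvPolynomial I A) B (MvPolynomial.X ⟨0⟩) = y := by
    show algebraMap (Polynomial A) B (e (MvPolynomial.X ⟨0⟩)) = _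
    rw [show e (MvPolynomial.X ⟨0⟩) = Polynomial.X by simp [e, MvPolynomial.uniqueAlgEquiv]]
    rfl
  have hym : y ∈ IsLocalRing.maximalIdeal B := by
    refine (IsLocalRing.mem_maximalIdeal _).2 fun hu => ?_
    exact (IsLocalization.AtPrime.isUnit_to_map_iff O P Polynomial.X).1
      (isUnit_of_map_unit (algebraMap O B) _ hu) hX
  have key := Groth.L28.Pair.Line.cohomology hA (B := B) (by rw [hy]; exact hym) hn
  rw [hy] at key
  exact key

end Groth.Agent.S3121
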