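import Groth.Statements.S3129
import Mathlib.NumberTheory.GaussSum
import Mathlib.Data.Fin.Tuple.Basic
import Mathlib.Algebra.BigOperators.Fin

set_option autoImplicit false
open BigOperators
open SGA4h

namespace Groth.Agent.S3129

theorem prod_char_apply {F R : Type} [CommRing F] [CommRing R] {ι : Type} [DecidableEq ι] (s : Finset ι)
    (g : ι → MulChar F R) (t : Fˣ) : (∏ i ∈ s, g i) (t : F) = ∏ i ∈ s, g i (t : F) := by
  induction s using Finset.induction with
  | empty => simp [MulChar.one_apply t.isUnit]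
  | insert a s ha ih => rw [Finset.prod_insert ha, Finset.prod_insert ha, MulChar.mul_apply, ih]

/-- Let F be a finite field with q elements, N ≥ 1, χ₀, …, χ_N multiplicative characters of F with
values in a domain, not all trivial and with product 1, and Ψ a nontrivial additive character of F.
Put τ(χ, Ψ) = −Σ_{x ∈ F} Ψ(x) χ⁻¹(x) and J(χ) = (−1)^{N−1} Σ χ₁⁻¹(x₁) ⋯ χ_N⁻¹(x_N), the sum over x₁,
…, x_N ∈ F^* with x₁ + ⋯ + x_N = −1. Then q · J(χ) = τ(χ₀, Ψ) ⋯ τ(χ_N, Ψ). -/
theorem result (F : Type) [Field F] [Fintype F] [DecidableEq F] (R : Type) [CommRing R] [IsDomain R]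
    (N : ℕ) (hN : 1 ≤ N) (χ : Fin (N + 1) → MulChar F R) (hprod : ∏ i, χ i = 1) (hnt : ∃ i, χ i ≠ 1)
    (Ψ : AddChar F R) (hΨ : Ψ ≠ 1) :
    (Fintype.card F : R) * ((-1) ^ (N - 1) *
        ∑ x ∈ (Finset.univ : Finset (Fin N → Fˣ)).filter (fun x => ∑ i, ((x i : Fˣ) : F) = -1),
          ∏ i : Fin N, (χ i.succ)⁻¹ ((x i : Fˣ) : F)) =
      ∏ i : Fin (N + 1), (-(∑ y : F, Ψ y * (χ i)⁻¹ y)) := by
  classical
  -- values on units
  have hχ : ∀ (i : Fin (N + 1)) (f : F → R), (∑ y : F, f y * (χ i)⁻¹ y) = ∑ y : Fˣ, f (y : F) * (χ i)⁻¹ (y : F) := by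
    intro i f
    symm
    refine Finset.sum_of_injOn (fun y : Fˣ => (y : F)) Units.val_injective.injOn (by simp) ?_ (by simp)
    intro y _ hy
    by_cases h0 : y = 0
    · rw [h0, MulChar.map_zero, mul_zero]
    · exact absurd ⟨Units.mk0 y h0, by simp, rfl⟩ hy
  have hexp : (∏ i : Fin (N + 1), (-(∑ y : F, Ψ y * (χ i)⁻¹ y))) =
      (-1) ^ (N + 1) * ∑ y : Fin (N + 1) → Fˣ, Ψ (∑ i, (y i : F)) * ∏ i, (χ i)⁻¹ (y i : F) := by
    simp only [hχ]
    rw [Finset.prod_neg, Finset.card_univ, Fintype.card_fin, Finset.prod_univ_sum, Fintype.piFinset_univ]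
    congr 1
    refine Finset.sum_congr rfl fun y _ => ?_
    rw [Finset.prod_mul_distrib]
    congr 1
    exact (map_prod Ψ.toMonoidHom (fun i => Multiplicative.ofAdd (y i : F)) Finset.univ).symm.trans
      (congrArg Ψ (ofAdd_sum Finset.univ fun i => (y i : F)).symm)
  -- the substitution `y₀ = t`, `yᵢ = t xᵢ`
  let e : Fˣ × (Fin N → Fˣ) ≃ (Fin (N + 1) → Fˣ) :=
    { toFun := fun p => Fin.cons p.1 fun i => p.1 * p.2 i
      invFun := fun y => (y 0, fun i => (y 0)⁻¹ * y i.succ)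
      left_inv := fun p => by simp
      right_inv := fun y => by
        funext i
        cases i using Fin.cases <;> simp }
  have hsub : (∑ y : Fin (N + 1) → Fˣ, Ψ (∑ i, (y i : F)) * ∏ i, (χ i)⁻¹ (y i : F)) =
      ∑ x : Fin N → Fˣ, (∏ i : Fin N, (χ i.succ)⁻¹ (x i : F)) *
        ∑ t : Fˣ, Ψ ((t : F) * (1 + ∑ i, (x i : F))) := by
    rw [← e.sum_comp, Fintype.sum_prod_type, Finset.sum_comm]
    refine Finset.sum_congr rfl fun x _ => ?_
    rw [Finset.mul_sum]
    refine Finset.sum_congr rfl fun t _ => ?_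
    have h1 : (∏ i, (χ i)⁻¹ ((e (t, x) i : Fˣ) : F)) = ∏ i : Fin N, (χ i.succ)⁻¹ (x i : F) := by
      have ht : (χ 0)⁻¹ (t : F) * ∏ i : Fin N, (χ i.succ)⁻¹ (t : F) = 1 := by
        have := congrArg (fun c : MulChar F R => c⁻¹ (t : F)) hprod
        simp only [Fin.prod_univ_succ, inv_one, MulChar.one_apply t.isUnit, mul_inv, MulChar.mul_apply,
          ← Finset.prod_inv_distrib, prod_char_apply] at this
        exact this
      rw [Fin.prod_univ_succ]
      simp only [e, Equiv.coe_fn_mk, Fin.cons_zero, Fin.cons_succ, Units.val_mul, map_mul,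
        Finset.prod_mul_distrib]
      rw [← mul_assoc, ht, one_mul]
    rw [h1, mul_comm]
    congr 2
    rw [Fin.sum_univ_succ]
    simp [e, mul_add, Finset.mul_sum]
  -- the additive sum
  have hprim : Ψ.IsPrimitive := AddChar.IsPrimitive.of_ne_one hΨ
  have hadd : ∀ b : F, (∑ t : Fˣ, Ψ ((t : F) * b)) = (if b = 0 then (Fintype.card F : R) else 0) - 1 := by
    intro b
    have h1 : (∑ y : F, Ψ (y * b)) = (∑ t : Fˣ, Ψ ((t : F) * b)) + 1 := by
      rw [← Finset.sum_add_sum_compl ({0} : Finset F), add_comm, Finset.sum_singleton, zero_mul,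
        AddChar.map_zero_eq_one]
      congr 1
      symm
      refine Finset.sum_of_injOn (fun y : Fˣ => (y : F)) Units.val_injective.injOn (by intro y; simp) ?_ (by simp)
      intro y hy hy'
      have h0 : y ≠ 0 := by simpa using hy
      exact absurd ⟨Units.mk0 y h0, by simp, rfl⟩ hy'
    have h2 := AddChar.sum_mulShift b hprim
    rw [eq_sub_iff_add_eq, ← h1, h2]
    split_ifs <;> simp
  -- one of the characters `χ₁, …, χ_N` is nontrivial
  have hzero : (∑ x : Fin N → Fˣ, ∏ i : Fin N, (χ i.succ)⁻¹ (x i : F)) = 0 := by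
    obtain ⟨j, hj⟩ : ∃ j : Fin N, χ j.succ ≠ 1 := by
      by_contra! hall
      obtain ⟨i, hi⟩ := hnt
      cases i using Fin.cases with
      | zero => exact hi (by simpa [Fin.prod_univ_succ, hall] using hprod)
      | succ i => exact hi (hall i)
    rw [← Fintype.piFinset_univ, ← Finset.prod_univ_sum (κ := fun _ : Fin N => Fˣ)
      (fun _ : Fin N => (Finset.univ : Finset Fˣ)) (fun (i : Fin N) (y : Fˣ) => (χ i.succ)⁻¹ (y : F))]
    refine Finset.prod_eq_zero (Finset.mem_univ j) ?_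
    have := MulChar.sum_eq_zero_of_ne_one (inv_ne_one.2 hj)
    have h' := hχ j.succ (fun _ => 1)
    simp only [one_mul] at h'
    rw [← h']
    exact this
  rw [hexp, hsub]
  simp only [hadd, mul_sub, mul_one, Finset.sum_sub_distrib, hzero, sub_zero, mul_ite, mul_zero]
  rw [Finset.sum_filter, show (-1 : R) ^ (N - 1) = (-1) ^ (N + 1) by
    obtain ⟨M, rfl⟩ : ∃ M, N = M + 1 := ⟨N - 1, by omega⟩
    simp [pow_succ]]
  simp only [Finset.mul_sum]
  refine Finset.sum_congr rfl fun x _ => ?_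
  have hiff : (∑ i, ((x i : Fˣ) : F) = -1) ↔ 1 + ∑ i, ((x i : Fˣ) : F) = 0 :=
    ⟨fun h => by rw [h, add_neg_cancel], fun h => eq_neg_of_add_eq_zero_right h⟩
  by_cases h : 1 + ∑ i, ((x i : Fˣ) : F) = 0
  · rw [if_pos h, if_pos (hiff.2 h)]; ring
  · rw [if_neg h, if_neg (mt hiff.1 h)]; ring

end Groth.Agent.S3129
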