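import Groth.Statements.S3130
import Groth.Agent.L27.CompRel.Univ

set_option autoImplicit false
set_option linter.style.haveILetI false
set_option backward.isDefEq.respectTransparency.types false
universe u
open CategoryTheory CategoryTheory.Limits AlgebraicGeometry
open SGA4h

namespace Groth.Agent.S3130

/-- Let S₂ be a Noetherian scheme, f : X -> S₁ quasi-compact and locally of finite type, and g : S₁ ->
S₂ smooth and quasi-compact, n an integer invertible on S₂ and F an abelian sheaf on X killed by n.
If f is universally locally acyclic relative to F then so is g ∘ f. (The Noetherian hypothesis on S₂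
is the published statement's standing assumption.) -/
theorem result {X S₁ S₂ : Scheme.{u}} (f : X ⟶ S₁) (g : S₁ ⟶ S₂) [Smooth g]
    [IsNoetherian S₂] [QuasiCompact g] [LocallyOfFiniteType f] [QuasiCompact f]
    (n : ℕ) (hn : IsUnit (n : Γ(S₂, ⊤))) (F : EtCoh.Ab X) (hFn : EtCoh.KilledBy n F)
    (hf : SGA4h.IsULARel f F) : SGA4h.IsULARel (f ≫ g) F := by
  exact Groth.L27.CompRel.isULARel_comp f g n hn F hFn hf

end Groth.Agent.S3130
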