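import Groth.Statements.S3133
import Mathlib.LinearAlgebra.Matrix.Charpoly.Coeff
import Mathlib.LinearAlgebra.Matrix.Block
import Mathlib.Algebra.Polynomial.Expand

set_option autoImplicit false
open Polynomial
open SGA4h

namespace Groth.Agent.S3133

theorem det_diag_block {S : Type*} [CommRing S] {m : Type*} [Fintype m] [DecidableEq m] {n : ℕ}
    (M : Matrix (Fin n × m) (Fin n × m) S) (k : Fin n) :
    (M.toSquareBlock Prod.fst k).det = (Matrix.of fun i j => M (k, i) (k, j)).det := by
  let e : m ≃ {a : Fin n × m // a.1 = k} :=
    { toFun := fun i => ⟨(k, i), rfl⟩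
      invFun := fun a => a.1.2
      left_inv := fun _ => rfl
      right_inv := fun a => Subtype.ext (Prod.ext a.2.symm rfl) }
  rw [← Matrix.det_submatrix_equiv_self e (M.toSquareBlock Prod.fst k)]
  rfl

/-- Let A be a square matrix over a commutative ring and n ≥ 1, and let B be the matrix on n blocks of
the endomorphism (x_1, …, x_n) ↦ (A x_n, x_1, …, x_{n-1}). Then det(1 − B·T) = det(1 − A·Tⁿ), i.e.
the reverse characteristic polynomial of B is that of A expanded by n. -/
theorem result (R : Type) [CommRing R] (m : Type) [Fintype m] [DecidableEq m]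
    (A : Matrix m m R) (n : ℕ) (hn : 1 ≤ n) :
    (Matrix.of fun (p q : Fin n × m) =>
        if p.1.val = 0 then (if q.1.val = n - 1 then A p.2 q.2 else 0)
        else (if q.1.val + 1 = p.1.val ∧ p.2 = q.2 then 1 else 0)).charpolyRev =
      Polynomial.expand R n A.charpolyRev := by
  classical
  obtain ⟨n, rfl⟩ : ∃ k, n = k + 1 := ⟨n - 1, by omega⟩
  set B := (Matrix.of fun (p q : Fin (n + 1) × m) =>
        if p.1.val = 0 then (if q.1.val = n + 1 - 1 then A p.2 q.2 else 0)
        else (if q.1.val + 1 = p.1.val ∧ p.2 = q.2 then (1 : R) else 0)) with hB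
  let M : Matrix (Fin (n + 1) × m) (Fin (n + 1) × m) R[X] := 1 - (Polynomial.X : R[X]) • B.map Polynomial.C
  let V : Matrix (Fin (n + 1) × m) (Fin (n + 1) × m) R[X] :=
    Matrix.of fun p q => if q.1.val ≤ p.1.val ∧ p.2 = q.2 then Polynomial.X ^ (p.1.val - q.1.val) else 0
  let W : Matrix (Fin (n + 1) × m) (Fin (n + 1) × m) R[X] :=
    Matrix.of fun p q => (if p = q then 1 else 0) -
      (if p.1.val = 0 then Polynomial.X ^ (n + 1 - q.1.val) * Polynomial.C (A p.2 q.2) else 0)
  have hMV : M * V = W := by
    refine Matrix.ext fun p q => ?_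
    rw [show M * V = V - (Polynomial.X : R[X]) • (B.map Polynomial.C * V) by
      rw [Matrix.sub_mul, one_mul, Matrix.smul_mul]]
    rw [Matrix.sub_apply, Matrix.smul_apply, Matrix.mul_apply, smul_eq_mul]
    obtain ⟨⟨i, hi⟩, a⟩ := p
    obtain ⟨⟨j, hj⟩, b⟩ := q
    rcases i with _ | i
    · rw [Finset.sum_eq_single ((⟨n, by omega⟩, b) : Fin (n + 1) × m)]
      · have e : n + 1 - j = (n - j) + 1 := by omega
        simp only [V, W, hB, Matrix.of_apply, Matrix.map_apply, Prod.mk.injEq, Fin.mk.injEq,
          Nat.add_sub_cancel, if_true, show j ≤ n by omega, true_and, e, pow_succ]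
        by_cases hj0 : j = 0
        · subst hj0; by_cases hab : a = b <;> simp [hab] <;> ring
        · simp [hj0, Ne.symm hj0]; ring
      · rintro ⟨⟨k, hk⟩, c⟩ _ hne
        simp only [V, hB, Matrix.of_apply, Matrix.map_apply, if_true, Nat.add_sub_cancel]
        by_cases hkn : k = n
        · subst hkn
          have hcb : c ≠ b := fun h => hne (by rw [h])
          simp [hcb]
        · simp [hkn]
      · simp
    · rw [Finset.sum_eq_single ((⟨i, by omega⟩, a) : Fin (n + 1) × m)]
      · simp only [V, W, hB, Matrix.of_apply, Matrix.map_apply, Prod.mk.injEq, Fin.mk.injEq,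
          Nat.succ_ne_zero, if_false, true_and, and_true, if_true, map_one, one_mul, sub_zero]
        by_cases hab : a = b
        · subst hab
          simp only [and_true]
          rcases lt_trichotomy j (i + 1) with h | h | h
          · rw [if_pos h.le, if_pos (by omega), if_neg (by omega), show i + 1 - j = (i - j) + 1 by omega,
              pow_succ]
            ring
          · subst h; simp
          · rw [if_neg (by omega), if_neg (by omega), if_neg (by omega)]; simp
        · simp [hab]
      · rintro ⟨⟨k, hk⟩, c⟩ _ hne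
        simp only [V, hB, Matrix.of_apply, Matrix.map_apply, Nat.succ_ne_zero, if_false]
        rw [if_neg (fun h => hne (by
          obtain ⟨h1, h2⟩ := h
          simp only [Nat.add_right_cancel_iff] at h1
          subst h1; subst h2; rfl))]
        simp
      · simp
  have hV : V.det = 1 := by
    have h : Matrix.BlockTriangular V.transpose Prod.fst := fun p q hpq => by
      simp only [V, Matrix.transpose_apply, Matrix.of_apply]
      exact if_neg (fun h => absurd h.1 (not_le.2 hpq))
    rw [← Matrix.det_transpose, h.det_fintype]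
    refine Finset.prod_eq_one fun k _ => ?_
    rw [det_diag_block]
    convert Matrix.det_one (n := m) (R := R[X]) using 2
    ext i j : 1
    by_cases hij : i = j <;> simp [V, Matrix.one_apply, hij, Ne.symm]
  have hW : Matrix.BlockTriangular W Prod.fst := fun p q hpq => by
    have h0 : p.1.val ≠ 0 := by have : q.1.val < p.1.val := hpq; omega
    simp only [W, Matrix.of_apply, if_neg h0, sub_zero]
    exact if_neg (fun h => by rw [h] at hpq; exact lt_irrefl _ hpq)
  have : B.charpolyRev = W.det := by
    rw [← hMV, Matrix.det_mul, hV, mul_one]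
    rfl
  rw [this, hW.det_fintype, Finset.prod_eq_single (0 : Fin (n + 1))]
  · rw [det_diag_block, Matrix.charpolyRev, AlgHom.map_det]
    congr 1
    ext i j : 1
    by_cases hij : i = j <;> simp [W, hij, Matrix.one_apply]
  · intro k _ hk
    rw [det_diag_block]
    convert Matrix.det_one (n := m) (R := R[X]) using 2
    ext i j : 1
    by_cases hij : i = j <;> simp [W, hij, Matrix.one_apply, hk]
  · simp

end Groth.Agent.S3133
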