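import Groth.Statements.S3134
import Mathlib.LinearAlgebra.Matrix.Charpoly.Coeff
import Mathlib.LinearAlgebra.Matrix.Adjugate
import Mathlib.RingTheory.PowerSeries.Trunc

set_option autoImplicit false
open Polynomial
open SGA4h

namespace Groth.Agent.S3134

theorem derivative_det' {R : Type*} [CommRing R] {m : Type*} [Fintype m] [DecidableEq m]
    (B : Matrix m m R[X]) :
    Polynomial.derivative B.det = (B.adjugate * B.map (fun p => Polynomial.derivative p)).trace := by
  have h1 : Polynomial.derivative B.det =
      ∑ i, (B.updateRow i (fun j => Polynomial.derivative (B i j))).det := by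
    rw [Matrix.det_apply', map_sum]
    simp only [Matrix.det_apply']
    rw [Finset.sum_comm]
    refine Finset.sum_congr rfl fun σ _ => ?_
    rw [← zsmul_eq_mul, map_zsmul, Polynomial.derivative_prod_finset, zsmul_eq_mul, Finset.mul_sum]
    -- index the derivative by rows instead of columns
    refine Fintype.sum_equiv σ _ _ fun j => ?_
    congr 1
    rw [← Finset.prod_erase_mul Finset.univ
      (fun k => B.updateRow (σ j) (fun l => Polynomial.derivative (B (σ j) l)) (σ k) k) (Finset.mem_univ j)]
    rw [Matrix.updateRow_self]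
    congr 1
    refine Finset.prod_congr rfl fun k hk => ?_
    rw [Matrix.updateRow_ne (fun h => (Finset.mem_erase.1 hk).1 (σ.injective h))]
  rw [h1, Matrix.trace_mul_comm]
  refine Finset.sum_congr rfl fun i _ => ?_
  rw [← Matrix.cramer_transpose_apply, Matrix.cramer_eq_adjugate_mulVec, ← Matrix.adjugate_transpose,
    Matrix.mulVec, dotProduct, Matrix.diag_apply, Matrix.mul_apply]
  exact Finset.sum_congr rfl fun j _ => mul_comm _ _

/-- For a square matrix A over a commutative ring, with P(T) = det(1 − A·T), one has −T·P′(T) = P(T) ·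
Σ_{n ≥ 1} Tr(Aⁿ) Tⁿ as formal power series (equivalently T d/dT log P(T)⁻¹ = Σ_{n≥1} Tr(Aⁿ) Tⁿ). -/
theorem result (R : Type) [CommRing R] (m : Type) [Fintype m] [DecidableEq m]
    (A : Matrix m m R) :
    ((-(X * Polynomial.derivative A.charpolyRev) : R[X]) : PowerSeries R) =
      (A.charpolyRev : PowerSeries R) * PowerSeries.mk (fun n => if n = 0 then 0 else (A ^ n).trace) := by
  classical
  let φ : R[X] →+* PowerSeries R := Polynomial.coeToPowerSeries.ringHom
  let B : Matrix m m R[X] := 1 - (Polynomial.X : R[X]) • A.map Polynomial.C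
  let G : Matrix m m (PowerSeries R) := Matrix.of fun i j => PowerSeries.mk fun n => (A ^ n) i j
  have hcoeff : ∀ (n : ℕ) (M : Matrix m m (PowerSeries R)) (i j : m),
      PowerSeries.coeff n (((PowerSeries.X : PowerSeries R) • M) i j) = if n = 0 then 0 else PowerSeries.coeff (n - 1) (M i j) := by
    intro n M i j
    rw [Matrix.smul_apply, smul_eq_mul]
    rcases n with _ | n
    · simp
    · simp [PowerSeries.coeff_succ_X_mul]
  have hBmap : φ.mapMatrix B = 1 - (PowerSeries.X : PowerSeries R) • A.map PowerSeries.C := by
    ext i j n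
    simp [B, φ, Matrix.one_apply, apply_ite, Polynomial.coe_one, Polynomial.coe_zero]
    ring
  have hBG : φ.mapMatrix B * G = 1 := by
    refine Matrix.ext fun i j => PowerSeries.ext fun n => ?_
    rw [hBmap, Matrix.sub_mul, one_mul, Matrix.smul_mul, Matrix.sub_apply, map_sub, hcoeff]
    rcases n with _ | n
    · rw [if_pos rfl, sub_zero, show G i j = PowerSeries.mk (fun n => (A ^ n) i j) from rfl,
        PowerSeries.coeff_mk, pow_zero, Matrix.one_apply, Matrix.one_apply]
      by_cases h : i = j
      · rw [if_pos h, if_pos h, PowerSeries.coeff_zero_eq_constantCoeff, map_one]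
      · rw [if_neg h, if_neg h, map_zero]
    · simp only [G, Matrix.of_apply, PowerSeries.coeff_mk, Nat.succ_ne_zero, if_false, Nat.add_sub_cancel,
        Matrix.mul_apply, Matrix.map_apply, map_sum, PowerSeries.coeff_C_mul]
      rw [pow_succ', Matrix.mul_apply, sub_self]
      by_cases h : i = j <;> simp [Matrix.one_apply, h, PowerSeries.coeff_one]
  have hadj : φ.mapMatrix B.adjugate = (A.charpolyRev : PowerSeries R) • G := by
    have h2 : φ.mapMatrix B.adjugate * φ.mapMatrix B = (A.charpolyRev : PowerSeries R) • 1 := by
      rw [← map_mul, Matrix.adjugate_mul]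
      ext i j : 1
      by_cases h : i = j <;> simp [h, Matrix.one_apply, B, φ, Matrix.charpolyRev]
    calc φ.mapMatrix B.adjugate = φ.mapMatrix B.adjugate * (φ.mapMatrix B * G) := by rw [hBG, mul_one]
      _ = _ := by rw [← mul_assoc, h2, Matrix.smul_mul, one_mul]
  have hder : B.map (fun p => Polynomial.derivative p) = -A.map Polynomial.C := by
    ext i j : 1
    by_cases h : i = j <;> simp [h, B, Matrix.one_apply]
  have hd : Polynomial.derivative A.charpolyRev = -(B.adjugate * A.map Polynomial.C).trace := by
    rw [← Matrix.trace_neg, ← Matrix.mul_neg, ← hder]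
    exact derivative_det' B
  rw [hd, mul_neg, neg_neg]
  show φ (Polynomial.X * (B.adjugate * A.map Polynomial.C).trace) = _
  rw [map_mul, show φ Polynomial.X = PowerSeries.X from Polynomial.coe_X,
    show φ (B.adjugate * A.map Polynomial.C).trace = (φ.mapMatrix (B.adjugate * A.map Polynomial.C)).trace by
      exact AddMonoidHom.map_trace φ _, map_mul φ.mapMatrix, hadj, Matrix.smul_mul, Matrix.trace_smul, smul_eq_mul, mul_left_comm]
  congr 1
  refine PowerSeries.ext fun n => ?_
  rcases n with _ | n
  · simp
  · rw [PowerSeries.coeff_succ_X_mul, PowerSeries.coeff_mk, if_neg (Nat.succ_ne_zero n), pow_succ]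
    simp [Matrix.trace, Matrix.mul_apply, G, φ, map_sum, PowerSeries.coeff_mul_C]

end Groth.Agent.S3134
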