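import Groth.Statements.S3141
import Groth.Agent.L28.Pair.RegPurity
import Groth.Agent.L27.NormalSepClosed.ConstDense
import Groth.Agent.S3364
import Groth.Agent.S6658
-- import your own Groth.Agent.* helpers here

set_option autoImplicit false
universe u
open CategoryTheory CategoryTheory.Limits AlgebraicGeometry Opposite
open EtDual

set_option linter.style.haveILetI false
set_option backward.isDefEq.respectTransparency.types false

namespace Groth.Agent.S3141

open Groth.L28.Pair

theorem isNormalScheme_of_regular {V : Scheme.{u}} (h : ∀ v : V, IsRegularLocalRing (V.presheaf.stalk v)) :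
    Pi1.IsNormalScheme V := fun v => by
  haveI := h v
  haveI := Groth.L01.isDomain_of_regular (V.presheaf.stalk v)
  haveI := Groth.L10.RegUFD.isUFD (V.presheaf.stalk v)
  exact ⟨inferInstance, inferInstance⟩

theorem dense_compl {X D : Scheme.{u}} [IsLocallyNoetherian X] (i : D ⟶ X) [IsClosedImmersion i]
    (hXreg : ∀ x : X, IsRegularLocalRing (X.presheaf.stalk x)) (hC : ∀ y : D, ∃ C : Reg.Chart i, i y ∈ C.W) :
    Dense (Set.range i)ᶜ := by
  refine dense_iff_inter_open.2 fun O hO ⟨z, hz⟩ => ?_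
  by_contra hne
  have hsub : O ⊆ Set.range i := fun a ha => by
    by_contra hac
    exact hne ⟨a, ha, hac⟩
  obtain ⟨y, rfl⟩ := hsub hz
  obtain ⟨C, hy⟩ := hC y
  haveI := hXreg (i y)
  haveI := Groth.L01.isDomain_of_regular (X.presheaf.stalk (i y))
  let q : Spec (X.presheaf.stalk (i y)) := (⟨⊥, Ideal.isPrime_bot⟩ : PrimeSpectrum (X.presheaf.stalk (i y)))
  let g := X.fromSpecStalk (i y) q
  have hg : g ⤳ i y := by
    have : g ∈ Set.range (X.fromSpecStalk (i y)) := ⟨q, rfl⟩
    rwa [Scheme.range_fromSpecStalk] at this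
  have hgW : g ∈ C.W := hg.mem_open C.W.2 hy
  have hnot : g ∉ X.basicOpen C.t := fun h => (C.mem g hgW).1 h (hsub (hg.mem_open hO hz))
  refine (C.param (i y) hy ⟨y, rfl⟩).2 ?_
  have h0 : X.presheaf.germ C.W (i y) hy C.t = 0 := by
    by_contra hne0
    refine hnot ?_
    show q ∈ X.fromSpecStalk (i y) ⁻¹ᵁ X.basicOpen C.t
    rw [Scheme.preimage_basicOpen, Scheme.fromSpecStalk_app hy, CommRingCat.comp_apply, CommRingCat.comp_apply,
      Scheme.basicOpen_res, basicOpen_eq_of_affine']
    exact ⟨hgW, fun h => hne0 (by simpa [q] using h)⟩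
  rw [h0]
  exact zero_mem _

/-- Let X be a Noetherian separated scheme all of whose local rings are regular, n an integer invertible
on X, i : D ⟶ X a closed immersion with D regular and of codimension 1 at each of its points (a
regular divisor), and j : U ⟶ X the open immersion of the complement. Then the local cohomology
sheaves H^p_D(X, μ_n) (right derived functors of sections supported off U, applied to the sheaf of
n-th roots of unity) vanish for p = 0 and p = 1, and H^2_D(X, μ_n) is isomorphic to i_*(ℤ/n). (The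
source adds that H^2_D(X, μ_n) is generated by the class of D.) -/
theorem result {X D U : Scheme.{u}} [IsNoetherian X] [X.IsSeparated]
    (hXreg : ∀ x : X, IsRegularLocalRing (X.presheaf.stalk x))
    (n : ℕ) (hn : IsUnit (n : Γ(X, ⊤)))
    (i : D ⟶ X) [IsClosedImmersion i] (hDreg : ∀ y : D, IsRegularLocalRing (D.presheaf.stalk y))
    (hcodim : ∀ y : D, ringKrullDim (X.presheaf.stalk (i.base y)) = ringKrullDim (D.presheaf.stalk y) + 1)
    (j : U ⟶ X) [IsOpenImmersion j] (hU : Set.range j = (Set.range i)ᶜ) [EtCoh.BCCont j] [EtCoh.BCCont i] :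
    IsZero ((EtDual.locCoh j 0).obj (EtCoh.mu X n)) ∧ IsZero ((EtDual.locCoh j 1).obj (EtCoh.mu X n)) ∧
      Nonempty ((EtDual.locCoh j 2).obj (EtCoh.mu X n) ≅ (EtCoh.push i).obj (EtCoh.const D (ZMod n))) := by
  rcases eq_or_ne n 0 with rfl | hn0
  · have hX : IsEmpty X := by
      refine ⟨fun x => ?_⟩
      have := hn.map (X.presheaf.germ ⊤ x trivial).hom
      rw [Nat.cast_zero, map_zero] at this
      exact not_isUnit_zero this
    have hz : ∀ A : EtCoh.Ab X, IsZero A := fun A => Groth.L28.Supp.isZero_of_restr fun x => isEmptyElim x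
    exact ⟨hz _, hz _, ⟨(hz _).iso (hz _)⟩⟩
  haveI : NeZero n := ⟨hn0⟩
  haveI : EtShriek.JCont j := Groth.L27.ExtZero.jCont j
  have hC := Reg.exists_chart i hXreg hDreg hcodim
  have hd : Dense (Set.range j) := by rw [hU]; exact dense_compl i hXreg hC
  haveI hu : IsIso ((EtCoh.pullPushAdj j).unit.app (EtCoh.mu X n)) := isIso_of_restr _ fun x => by
    obtain ⟨V, v, hv, hxv, hr⟩ := exists_etale_hasRoot n hn x
    haveI := hv
    haveI hJ : EtShriek.JCont v := Groth.L27.ExtZero.jCont v
    refine ⟨V, v, hv, hJ, hxv, ?_⟩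
    let s := pullback.snd j v
    have hs : Dense (Set.range s) := by
      rw [show Set.range s = v ⁻¹' Set.range j from Scheme.Pullback.range_snd j v]
      exact hd.preimage v.isOpenMap
    haveI : QuasiCompact s := MorphismProperty.pullback_snd (P := @QuasiCompact) j v inferInstance
    obtain ⟨μ⟩ := hr.nonempty_mu_iso (isUnit_natCast_of_hom v hn)
    haveI := Groth.L27.NormalSepClosed.isIso_cmp_dense
      (isNormalScheme_of_regular fun z => Groth.L23.isRegularLocalRing_stalk_of_etale v hXreg z) s hs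
      (AddCommGrpCat.of (ULift.{u + 1} (ZMod n)))
    haveI : IsIso ((EtCoh.pullPushAdj s).unit.app (EtCoh.const V (ZMod n))) :=
      haveI : IsIso ((EtCoh.pullPushAdj s).unit.app (EtCoh.const V (ZMod n)) ≫
          (EtCoh.push s).map ((EtCore.pullConstIso s).hom.app (AddCommGrpCat.of (ULift.{u + 1} (ZMod n))))) :=
        (inferInstance : IsIso (Groth.L27.ConstSect.cmp (AddCommGrpCat.of (ULift.{u + 1} (ZMod n))) s))
      IsIso.of_isIso_comp_right _ ((EtCoh.push s).map ((EtCore.pullConstIso s).hom.app _))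
    haveI : IsIso ((EtCoh.pullPushAdj s).unit.app ((EtCoh.pull v).obj (EtCoh.mu X n))) :=
      (NatTrans.isIso_app_iff_of_iso (EtCoh.pullPushAdj s).unit (pullMu v n ≪≫ μ)).2 inferInstance
    exact isIso_restr_unit j v hn (killedBy_mu X n)
  haveI : IsIso (EtDual.unitApp j (EtCoh.mu X n)) := hu
  refine ⟨(Groth.Agent.S3364.locCohZero j _).2 inferInstance, ?_, ?_⟩
  · obtain ⟨e⟩ := (Groth.Agent.S6658.result j (EtCoh.mu X n)).1
    exact (isZero_cokernel_of_epi _).of_iso e.symm
  · obtain ⟨e⟩ := (Groth.Agent.S6658.result j (EtCoh.mu X n)).2 1 le_rfl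
    obtain ⟨e'⟩ := Reg.nonempty_rpush_mu_iso i j hU hXreg hDreg hcodim n hn
    exact ⟨e.symm ≪≫ (EtCoh.Rpush j 1).mapIso (pullMu j n) ≪≫ e'⟩

end Groth.Agent.S3141
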