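import Groth.Statements.S6788
import Groth.Agent.L09.CalcFrac
import Mathlib.CategoryTheory.Preadditive.Basic
import Mathlib.CategoryTheory.Monoidal.Category

set_option autoImplicit false
open CategoryTheory CategoryTheory.Limits
universe v u v' u'
open CategoryTheory CategoryTheory.Localization

namespace Groth.Agent.S6788
open CategoryTheory Category Limits MorphismProperty

/-- For a multiplicative system `W` (left and right calculus of fractions) in a preadditive category
with a zero object and its localization functor `L`, an object `X` becomes zero in the localization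
iff some zero map out of `X` lies in `W`, iff some zero map into `X` lies in `W`. (The published
statement assumes the category additive; only the zero object and the preadditive structure are
used.) -/
theorem result {C : Type u} [Category.{v} C] [Preadditive C] [HasZeroObject C] {D : Type u'} [Category.{v'} D] (L : C ⥤ D) (W : MorphismProperty C) [W.HasLeftCalculusOfFractions] [W.HasRightCalculusOfFractions] [L.IsLocalization W] (X : C) : (IsZero (L.obj X) ↔ ∃ Y : C, W (0 : X ⟶ Y)) ∧ (IsZero (L.obj X) ↔ ∃ Z : C, W (0 : Z ⟶ X)) := by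
  open ZeroObject in
  have hes : L.EssSurj := Localization.essSurj L W
  have out : ∀ {Z : D} (p q : L.obj (0 : C) ⟶ Z), p = q := by
    intro Z p q
    rw [← cancel_mono (L.objObjPreimageIso Z).inv]
    obtain ⟨Z', s, hs, f, hf⟩ := Groth.L09.CalcFrac.exists_common_denominator W L (fun _ : Bool => (0 : C)) (L.objPreimage Z)
      (fun b => bif b then p ≫ (L.objObjPreimageIso Z).inv else q ≫ (L.objObjPreimageIso Z).inv)
    have := Localization.inverts L W s hs
    rw [← cancel_mono (L.map s)]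
    exact (hf true).trans ((congrArg L.map ((isZero_zero C).eq_of_src _ _)).trans (hf false).symm)
  have inn : ∀ {Z : D} (p q : Z ⟶ L.obj (0 : C)), p = q := by
    intro Z p q
    rw [← cancel_epi (L.objObjPreimageIso Z).hom]
    obtain ⟨Z', s, hs, f, hf⟩ := Groth.L09.CalcFrac.exists_common_denominator W.op L.op (fun _ : Bool => Opposite.op (0 : C)) (Opposite.op (L.objPreimage Z))
      (fun b => bif b then ((L.objObjPreimageIso Z).hom ≫ p).op else ((L.objObjPreimageIso Z).hom ≫ q).op)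
    have := Localization.inverts L W s.unop hs
    rw [← cancel_epi (L.map s.unop)]
    exact (congrArg Quiver.Hom.unop (hf true)).trans ((congrArg L.map ((isZero_zero C).eq_of_tgt (f true).unop (f false).unop)).trans (congrArg Quiver.Hom.unop (hf false)).symm)
  have hex : ∀ Z : D, (∃ p : L.obj (0 : C) ⟶ Z, True) ∧ (∃ q : Z ⟶ L.obj (0 : C), True) := fun Z =>
    ⟨⟨L.map ((isZero_zero C).to_ (L.objPreimage Z)) ≫ (L.objObjPreimageIso Z).hom, trivial⟩,
     ⟨(L.objObjPreimageIso Z).inv ≫ L.map ((isZero_zero C).from_ (L.objPreimage Z)), trivial⟩⟩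
  have hz : IsZero (L.obj (0 : C)) :=
    ⟨fun Z => ⟨⟨⟨(hex Z).1.choose⟩, fun _ => out _ _⟩⟩, fun Z => ⟨⟨⟨(hex Z).2.choose⟩, fun _ => inn _ _⟩⟩⟩
  have hfwd : IsZero (L.obj X) → (∃ Y : C, W (0 : X ⟶ Y)) ∧ ∃ Z : C, W (0 : Z ⟶ X) := by
    intro h
    have h1 : IsIso (L.map (0 : X ⟶ (0 : C))) := h.isIso hz _
    have h2 : IsIso (L.map (0 : (0 : C) ⟶ X)) := hz.isIso h _
    obtain ⟨Y, g, hg⟩ := Groth.L09.CalcFrac.exists_of_isIso_map W L (0 : X ⟶ (0 : C))
    have h3 : IsIso (L.op.map (0 : (0 : C) ⟶ X).op) := inferInstanceAs (IsIso (L.map (0 : (0 : C) ⟶ X)).op)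
    obtain ⟨Z, k, hk⟩ := Groth.L09.CalcFrac.exists_of_isIso_map W.op L.op (0 : (0 : C) ⟶ X).op
    exact ⟨⟨Y, by simpa using hg⟩, ⟨Z.unop, by simpa using hk⟩⟩
  refine ⟨⟨fun h => (hfwd h).1, ?_⟩, ⟨fun h => (hfwd h).2, ?_⟩⟩
  · rintro ⟨Y, hY⟩
    have hi : IsIso (L.map (0 : X ⟶ (0 : C)) ≫ L.map (0 : (0 : C) ⟶ Y)) := by
      rw [← Functor.map_comp, zero_comp]; exact Localization.inverts L W _ hY
    have : IsSplitMono (L.map (0 : X ⟶ (0 : C))) :=
      IsSplitMono.mk' ⟨L.map (0 : (0 : C) ⟶ Y) ≫ CategoryTheory.inv (L.map (0 : X ⟶ (0 : C)) ≫ L.map (0 : (0 : C) ⟶ Y)),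
        by rw [← assoc, IsIso.hom_inv_id]⟩
    have : IsSplitEpi (L.map (0 : X ⟶ (0 : C))) :=
      IsSplitEpi.mk' ⟨(hex (L.obj X)).1.choose, out _ _⟩
    have := isIso_of_mono_of_isSplitEpi (L.map (0 : X ⟶ (0 : C)))
    exact hz.of_iso (asIso (L.map (0 : X ⟶ (0 : C))))
  · rintro ⟨Z, hZ⟩
    have hi : IsIso (L.map (0 : Z ⟶ (0 : C)) ≫ L.map (0 : (0 : C) ⟶ X)) := by
      rw [← Functor.map_comp, zero_comp]; exact Localization.inverts L W _ hZ
    have : IsSplitEpi (L.map (0 : (0 : C) ⟶ X)) :=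
      IsSplitEpi.mk' ⟨CategoryTheory.inv (L.map (0 : Z ⟶ (0 : C)) ≫ L.map (0 : (0 : C) ⟶ X)) ≫ L.map (0 : Z ⟶ (0 : C)),
        by rw [assoc, IsIso.inv_hom_id]⟩
    have : IsSplitMono (L.map (0 : (0 : C) ⟶ X)) :=
      IsSplitMono.mk' ⟨(hex (L.obj X)).2.choose, inn _ _⟩
    have := isIso_of_mono_of_isSplitEpi (L.map (0 : (0 : C) ⟶ X))
    exact hz.of_iso (asIso (L.map (0 : (0 : C) ⟶ X))).symm

end Groth.Agent.S6788
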