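import Groth.Statements.S3194
import Mathlib.Tactic.Abel
import Mathlib.LinearAlgebra.Dimension.Free
import Mathlib.LinearAlgebra.Dimension.Localization
import Mathlib.LinearAlgebra.Dimension.RankNullity
import Mathlib.LinearAlgebra.FreeModule.PID
import Mathlib.Algebra.Homology.ShortComplex.ModuleCat
-- import your own Groth.Agent.* helpers here

set_option autoImplicit false
universe u
open CategoryTheory
open SGA6

open CategoryTheory
set_option backward.isDefEq.respectTransparency false
set_option linter.style.haveILetI false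

namespace Groth.Agent.S3194

section Aux

variable (A : Type u) [CommRing A] [IsDomain A] [IsPrincipalIdealRing A]

/-- Finite modules. -/
abbrev fin' : ObjectProperty (ModuleCat.{u} A) := fun M => Module.Finite A M

theorem cl_eq {M : ModuleCat.{u} A} (h : Module.Finite A M) :
    KZero.clSub (fin' A) M = QuotientAddGroup.mk (FreeAbelianGroup.of ⟨M, h⟩) := dif_pos h

theorem cl_ses {L M N : Type u} [AddCommGroup L] [Module A L] [AddCommGroup M] [Module A M] [AddCommGroup N] [Module A N]
    [Module.Finite A L] [Module.Finite A M] [Module.Finite A N]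
    (f : L →ₗ[A] M) (g : M →ₗ[A] N) (hf : Function.Injective f) (hfg : Function.Exact f g) (hg : Function.Surjective g) :
    KZero.clSub (fin' A) (ModuleCat.of A M) =
      KZero.clSub (fin' A) (ModuleCat.of A L) + KZero.clSub (fin' A) (ModuleCat.of A N) := by
  let S : ShortComplex (ModuleCat.{u} A) := ShortComplex.mk (ModuleCat.ofHom f) (ModuleCat.ofHom g) (by
    ext x; exact hfg.apply_apply_eq_zero x)
  have hS : S.ShortExact :=
    { exact := (ShortComplex.ShortExact.moduleCat_exact_iff_function_exact S).2 hfg
      mono_f := (ModuleCat.mono_iff_injective _).2 hf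
      epi_g := (ModuleCat.epi_iff_surjective _).2 hg }
  rw [cl_eq A (inferInstance : Module.Finite A (ModuleCat.of A M)), cl_eq A (inferInstance : Module.Finite A (ModuleCat.of A L)),
    cl_eq A (inferInstance : Module.Finite A (ModuleCat.of A N))]
  rw [← QuotientAddGroup.mk_add, QuotientAddGroup.eq_iff_sub_mem]
  refine AddSubgroup.subset_closure ⟨S, (inferInstance : Module.Finite A L), (inferInstance : Module.Finite A M),
    (inferInstance : Module.Finite A N), hS, ?_⟩
  abel

theorem cl_congr {M N : Type u} [AddCommGroup M] [Module A M] [AddCommGroup N] [Module A N]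
    [Module.Finite A M] [Module.Finite A N] (e : M ≃ₗ[A] N) :
    KZero.clSub (fin' A) (ModuleCat.of A M) = KZero.clSub (fin' A) (ModuleCat.of A N) := by
  have h0 := cl_ses A (0 : PUnit.{u + 1} →ₗ[A] PUnit.{u + 1}) (0 : PUnit.{u + 1} →ₗ[A] PUnit.{u + 1})
    (fun _ _ _ => Subsingleton.elim _ _) (fun x => ⟨fun _ => ⟨0, Subsingleton.elim _ _⟩, fun _ => Subsingleton.elim _ _⟩)
    (fun x => ⟨x, Subsingleton.elim _ _⟩)
  have hz : KZero.clSub (fin' A) (ModuleCat.of A PUnit.{u + 1}) = 0 := by simpa using h0
  have h := cl_ses A (0 : PUnit.{u + 1} →ₗ[A] M) e.toLinearMap (fun _ _ _ => Subsingleton.elim _ _)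
    (fun x => ⟨fun hx => ⟨0, (e.map_eq_zero_iff.1 hx).symm⟩, fun ⟨y, hy⟩ => by rw [← hy]; simp⟩) e.surjective
  rw [h, hz, zero_add]

theorem cl_pi : ∀ n : ℕ, KZero.clSub (fin' A) (ModuleCat.of A (Fin n → A)) = n • KZero.clSub (fin' A) (ModuleCat.of A A)
  | 0 => by
    have h := cl_ses A (0 : (Fin 0 → A) →ₗ[A] (Fin 0 → A)) (0 : (Fin 0 → A) →ₗ[A] (Fin 0 → A))
      (fun _ _ _ => Subsingleton.elim _ _) (fun x => ⟨fun _ => ⟨0, Subsingleton.elim _ _⟩, fun _ => Subsingleton.elim _ _⟩)
      (fun x => ⟨x, Subsingleton.elim _ _⟩)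
    simpa using h
  | n + 1 => by
    let g : (Fin (n + 1) → A) →ₗ[A] A := LinearMap.proj 0
    let f : (Fin n → A) →ₗ[A] (Fin (n + 1) → A) :=
      { toFun := fun v => Fin.cons 0 v
        map_add' := fun v w => by funext i; refine Fin.cases ?_ ?_ i <;> simp
        map_smul' := fun a v => by funext i; refine Fin.cases ?_ ?_ i <;> simp }
    have h := cl_ses A f g (fun v w h => funext fun i => by simpa [f] using congrFun h i.succ)
      (fun v => ⟨fun hv => ⟨Fin.tail v, by
        funext i
        refine Fin.cases ?_ ?_ i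
        · exact hv.symm
        · intro j; simp [f, Fin.tail]⟩, fun ⟨w, hw⟩ => by rw [← hw]; simp [f, g]⟩)
      (fun a => ⟨fun _ => a, rfl⟩)
    rw [h, cl_pi n, succ_nsmul]

theorem finrank_add {L M N : Type u} [AddCommGroup L] [Module A L] [AddCommGroup M] [Module A M] [AddCommGroup N] [Module A N]
    [Module.Finite A L] [Module.Finite A M] [Module.Finite A N]
    (f : L →ₗ[A] M) (g : M →ₗ[A] N) (hf : Function.Injective f) (hfg : Function.Exact f g) (hg : Function.Surjective g) :
    Module.finrank A M = Module.finrank A L + Module.finrank A N := by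
  rw [← Submodule.finrank_quotient_add_finrank (LinearMap.ker g), (g.quotKerEquivOfSurjective hg).finrank_eq,
    (LinearMap.exact_iff.1 hfg), ← (LinearEquiv.ofInjective f hf).finrank_eq, add_comm]

theorem bij : Function.Bijective (fun k : ℤ => k • KZero.clSub (fin' A) (ModuleCat.of A A)) := by
  let r₀ : FreeAbelianGroup (Subtype (fin' A)) →+ ℤ := FreeAbelianGroup.lift fun M => (Module.finrank A M.1 : ℤ)
  have hr : KZero.relSub (fin' A) ≤ r₀.ker := (AddSubgroup.closure_le _).2 fun x ⟨S, h1, h2, h3, hS, hx⟩ => by
    haveI : Module.Finite A S.X₁ := h1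
    haveI : Module.Finite A S.X₂ := h2
    haveI : Module.Finite A S.X₃ := h3
    have := finrank_add A S.f.hom S.g.hom ((ModuleCat.mono_iff_injective _).1 hS.mono_f)
      ((ShortComplex.ShortExact.moduleCat_exact_iff_function_exact S).1 hS.exact) ((ModuleCat.epi_iff_surjective _).1 hS.epi_g)
    rw [SetLike.mem_coe, AddMonoidHom.mem_ker, hx]
    simp [r₀, this]
  let r : KZero.K0sub (fin' A) →+ ℤ := QuotientAddGroup.lift _ r₀ hr
  have hA : r (KZero.clSub (fin' A) (ModuleCat.of A A)) = 1 := by
    rw [cl_eq A (inferInstance : Module.Finite A (ModuleCat.of A A))]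
    exact (QuotientAddGroup.lift_mk _ _ _).trans ((FreeAbelianGroup.lift_apply_of _ _).trans (by simp))
  refine ⟨fun a b h => ?_, fun x => ?_⟩
  · simpa [map_zsmul, hA] using congrArg r h
  · obtain ⟨y, rfl⟩ := QuotientAddGroup.mk_surjective x
    suffices h : ∀ y : FreeAbelianGroup (Subtype (fin' A)),
        (QuotientAddGroup.mk y : KZero.K0sub (fin' A)) ∈ AddSubgroup.zmultiples (KZero.clSub (fin' A) (ModuleCat.of A A)) from
      AddSubgroup.mem_zmultiples_iff.1 (h y)
    intro y
    induction y using FreeAbelianGroup.induction_on with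
    | zero => exact zero_mem _
    | neg M h => exact neg_mem h
    | add a b ha hb => exact add_mem ha hb
    | of M =>
      obtain ⟨M, hM⟩ := M
      haveI : Module.Finite A M := hM
      obtain ⟨n, p, hp⟩ := Module.Finite.exists_fin' A M
      let e := (Module.finBasis A (LinearMap.ker p)).equivFun
      have h := cl_ses A (LinearMap.ker p).subtype p Subtype.val_injective (LinearMap.exact_subtype_ker_map p) hp
      rw [cl_congr A e, cl_pi, cl_pi] at h
      rw [← cl_eq A hM, show M = ModuleCat.of A M from rfl, ← sub_eq_iff_eq_add'.2 h]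
      exact sub_mem (nsmul_mem (AddSubgroup.mem_zmultiples _) _) (nsmul_mem (AddSubgroup.mem_zmultiples _) _)

end Aux

/-- Let A be a principal ideal domain and K_•(Spec A) = K₀ of the category of finitely generated
A-modules (free abelian group on finitely generated modules modulo short exact sequences). The
homomorphism ℤ ⟶ K_•(Spec A) sending k to k·[A] is bijective. -/
theorem result (A : Type u) [CommRing A] [IsDomain A] [IsPrincipalIdealRing A] :
    Function.Bijective (fun k : ℤ => k • KZero.clSub (fun M : ModuleCat.{u} A => Module.Finite A M) (ModuleCat.of A A)) := by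
  exact bij A

end Groth.Agent.S3194
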