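import Groth.Statements.S3195
import Groth.Agent.L07.KoszulTorExt

set_option autoImplicit false
universe u
open CategoryTheory
open SGA6

namespace Groth.Agent.S3195

/-- Let A be a commutative ring and f, g, h finite sequences of elements of A such that the
concatenations f ++ g, f ++ h and f ++ g ++ h are Koszul-regular (their Koszul complexes are
resolutions of the quotients); put I = (f, g) and J = (f, h). Then for every i ≥ 1 the A-module
Tor_i^A(A/I, A/J) (Mathlib's Tor, left-derived in the second variable) is isomorphic to the i-th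
exterior power over A of Tor_1^A(A/I, A/J). (The source takes exterior powers over O_T = A/(I+J),
which for i ≥ 1 gives the same module since Tor_1 is killed by I + J; over A the case i = 0 would
give A instead of Tor_0 = A/(I+J), so it is left out. The source states this for closed subschemes
of a scheme locally of this form and identifies Tor_1 with the excess conormal bundle.) -/
theorem result (A : Type u) [CommRing A] (f g h : List A)
    (hfg : LCI.IsKoszulRegularSeq A (f ++ g)) (hfh : LCI.IsKoszulRegularSeq A (f ++ h)) (hfgh : LCI.IsKoszulRegularSeq A (f ++ g ++ h)) (i : ℕ) (hi : 1 ≤ i) :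
    Nonempty (((CategoryTheory.Tor (ModuleCat.{u} A) i).obj (ModuleCat.of A (A ⧸ Ideal.span {x | x ∈ f ++ g}))).obj (ModuleCat.of A (A ⧸ Ideal.span {x | x ∈ f ++ h})) ≅
      ModuleCat.of A (⋀[A]^i (((CategoryTheory.Tor (ModuleCat.{u} A) 1).obj (ModuleCat.of A (A ⧸ Ideal.span {x | x ∈ f ++ g}))).obj (ModuleCat.of A (A ⧸ Ideal.span {x | x ∈ f ++ h}))))) := by
  show Nonempty (((CategoryTheory.Tor (ModuleCat.{u} A) i).obj (ModuleCat.of A (A ⧸ Ideal.ofList (f ++ g)))).obj (ModuleCat.of A (A ⧸ Ideal.ofList (f ++ h))) ≅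
    ModuleCat.of A (⋀[A]^i (((CategoryTheory.Tor (ModuleCat.{u} A) 1).obj (ModuleCat.of A (A ⧸ Ideal.ofList (f ++ g)))).obj (ModuleCat.of A (A ⧸ Ideal.ofList (f ++ h))))))
  let M := A ⧸ Ideal.ofList (f ++ h)
  have hperm : List.Perm (f ++ g ++ h) (g ++ (f ++ h)) := by
    rw [← List.append_assoc]
    exact (List.perm_append_comm (l₁ := f) (l₂ := g)).append_right h
  have hx : ∀ n : ℤ, n < 0 → Subsingleton (Groth.L05.Kosz.H g M n) := fun n hn => by
    obtain ⟨π, hπ⟩ := Groth.L07.KoszulAppend.exists_augmentation (ModuleCat.of A A) (f ++ h)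
      ((Groth.L07.KoszulPerm.isKoszulRegularSeq_iff _).1 hfh) g
    haveI := ModuleCat.isZero_iff_subsingleton.1
      ((Groth.L07.KoszulPerm.isZero_perm (ModuleCat.of A A) hperm n).1
        ((Groth.L07.KoszulPerm.isKoszulRegularSeq_iff _).1 hfgh n hn))
    refine ModuleCat.isZero_iff_subsingleton.1 (Groth.L07.KoszulBC.isZero_of_iso
      (LinearEquiv.toModuleIso (Submodule.quotEquivOfEq (Ideal.ofList (f ++ h) • ⊤ : Submodule A A) (Ideal.ofList (f ++ h))
        (by rw [Ideal.smul_eq_mul, Ideal.mul_top]))) g n ?_)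
    exact ModuleCat.isZero_iff_subsingleton.2 (hπ n).2.subsingleton
  have hy : ∀ y ∈ f, ∀ m : M, y • m = 0 := fun y hy m => by
    obtain ⟨a, rfl⟩ := Submodule.Quotient.mk_surjective _ m
    rw [← Submodule.Quotient.mk_smul, Submodule.Quotient.mk_eq_zero]
    exact Ideal.mul_mem_right _ _ (Ideal.subset_span (List.mem_append_left h hy))
  let τ : A →ₗ[A] Groth.L05.Kosz.H g M 0 :=
    (Groth.L04.Koszul.topMap (ModuleCat.of A M) g).comp (Submodule.mkQ _)
  let e0 : (A ⧸ LinearMap.ker τ) ≃ₗ[A] Groth.L05.Kosz.H g M 0 := τ.quotKerEquivOfSurjective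
    ((Groth.L04.Koszul.topMap_surjective (ModuleCat.of A M) g).comp (Submodule.mkQ_surjective _))
  have key : ∀ j : ℕ, Nonempty (DRing.Tor A j (A ⧸ Ideal.ofList (f ++ g)) M ≃ₗ[A]
      (Fin (f.length.choose j) → A ⧸ LinearMap.ker τ)) := fun j => by
    obtain ⟨e1⟩ := Groth.L07.KoszulTorExt.nonempty_tor_iso M (f ++ g) hfg j
    obtain ⟨e2⟩ := Groth.L07.KoszulTorExt.nonempty_H_annihilated M g hx f hy j
    exact ⟨e1 ≪≫ₗ e2 ≪≫ₗ LinearEquiv.piCongrRight fun _ => e0.symm⟩
  obtain ⟨ei⟩ := key i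
  obtain ⟨e1⟩ := key 1
  obtain ⟨ex⟩ := Groth.L07.KoszulTorExt.nonempty_exterior (LinearMap.ker τ) f.length i hi
  let e1' := e1 ≪≫ₗ LinearEquiv.funCongrLeft A (A ⧸ LinearMap.ker τ) (finCongr (Nat.choose_one_right f.length).symm)
  have hw : Function.Bijective (exteriorPower.map i e1'.symm.toLinearMap) :=
    ⟨exteriorPower.map_injective e1'.toLinearMap (LinearMap.ext fun x => e1'.apply_symm_apply x),
      exteriorPower.map_surjective e1'.symm.surjective⟩
  exact ⟨LinearEquiv.toModuleIso ((ei ≪≫ₗ ex.symm) ≪≫ₗ LinearEquiv.ofBijective _ hw)⟩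

end Groth.Agent.S3195
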