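import Groth.Statements.S3197
import Groth.Agent.L12.KBunQ.ProjBasis

set_option autoImplicit false
set_option maxHeartbeats 400000
set_option backward.isDefEq.respectTransparency false
set_option backward.isDefEq.respectTransparency.types false
universe u
open CategoryTheory CategoryTheory.Limits AlgebraicGeometry
attribute [local instance] HasDerivedCategory.standard
open SGA6

namespace Groth.Agent.S3197

/-- For the trivial bundle E = O_S^{r+1}: let S be a quasi-compact scheme, P = P^r_S with structure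
morphism f : P ⟶ S, and K^•(−) = K₀ of finite locally free modules. Pullback along the flat morphism
f and tensoring with the invertible modules O_P(i) are exact (carried as instance hypotheses) and
preserve finite locally free modules (hypotheses hf, ht), so induce additive maps f^* : K^•(S) ⟶
K^•(P) and (− · [O_P(i)]) : K^•(P) ⟶ K^•(P). Then K^•(P) is free over K^•(S) with basis the classes
of O_P(i), 0 ≤ i ≤ r: the map (x_0, …, x_r) ↦ Σ_i f^*(x_i)·[O_P(i)] from K^•(S)^{r+1} to K^•(P) is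
bijective. (The source treats P(E) for any locally free E of rank r + 1.) -/
theorem result (S : Scheme.{u}) [CompactSpace ↥S] (r : ℕ)
    [(Scheme.Modules.pullback (CohB1.ProjSpaceOver.toBase r S)).Additive] [PreservesFiniteLimits (Scheme.Modules.pullback (CohB1.ProjSpaceOver.toBase r S))]
    [PreservesFiniteColimits (Scheme.Modules.pullback (CohB1.ProjSpaceOver.toBase r S))]
    (hf : ∀ M : S.Modules, FlatMod.IsFinLocFree M → FlatMod.IsFinLocFree ((Scheme.Modules.pullback (CohB1.ProjSpaceOver.toBase r S)).obj M))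
    [∀ i : ℕ, PreservesFiniteLimits ((DCoh.tensorBi (X := CohB1.ProjSpaceOver r S)).obj (Twist.twistOver r S (i : ℤ)))]
    [∀ i : ℕ, PreservesFiniteColimits ((DCoh.tensorBi (X := CohB1.ProjSpaceOver r S)).obj (Twist.twistOver r S (i : ℤ)))]
    (ht : ∀ (i : ℕ) (M : (CohB1.ProjSpaceOver r S).Modules), FlatMod.IsFinLocFree M →
      FlatMod.IsFinLocFree (((DCoh.tensorBi (X := CohB1.ProjSpaceOver r S)).obj (Twist.twistOver r S (i : ℤ))).obj M)) :
    Function.Bijective (fun x : Fin (r + 1) → SGA6.Kvb S =>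
      ∑ i : Fin (r + 1), (SGA6.mapSub ((DCoh.tensorBi (X := CohB1.ProjSpaceOver r S)).obj (Twist.twistOver r S ((i : ℕ) : ℤ))) (fun M : (CohB1.ProjSpaceOver r S).Modules => FlatMod.IsFinLocFree M) (fun M : (CohB1.ProjSpaceOver r S).Modules => FlatMod.IsFinLocFree M) (ht i))
        ((SGA6.mapSub (Scheme.Modules.pullback (CohB1.ProjSpaceOver.toBase r S)) (fun M : (S).Modules => FlatMod.IsFinLocFree M) (fun M : (CohB1.ProjSpaceOver r S).Modules => FlatMod.IsFinLocFree M) hf) (x i))) := by
  obtain ⟨A⟩ := Groth.L12.KBunQ.exists_projAtlas r S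
  obtain ⟨L, D⟩ := Groth.L12.KBunQ.exists_setup r S
  haveI : Coh.IsQCoh (FlatMod.freeMod S (r + 1)) := Groth.L29.DC.PCQCoh.isQCoh_of_isFinLocFree D.vbE
  haveI : Coh.IsQCoh (Groth.L12.KBun.tautSC (Groth.L12.KBunQ.tautQ r S)).X₁ :=
    Groth.L29.DC.PCQCoh.isQCoh_of_isFinLocFree D.vbW
  have hO := D.hO
  haveI : Coh.IsQCoh (Twist.twistOver r S 1) := Groth.L21.Extend.isQCoh_of_isInvertible hO
  obtain ⟨g, hg⟩ := Groth.L12.KBunQ.exists_pull (KRR.pr r S)
  let o := Groth.L12.KBunQ.kc (KRR.PY r S) (Twist.twistOver r S 1)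
  let T := fun i : Fin (r + 1) =>
    (SGA6.mapSub ((DCoh.tensorBi (X := CohB1.ProjSpaceOver r S)).obj (Twist.twistOver r S ((i : ℕ) : ℤ)))
      (fun M : (CohB1.ProjSpaceOver r S).Modules => FlatMod.IsFinLocFree M)
      (fun M : (CohB1.ProjSpaceOver r S).Modules => FlatMod.IsFinLocFree M) (ht i)).comp
      (SGA6.mapSub (Scheme.Modules.pullback (CohB1.ProjSpaceOver.toBase r S))
        (fun M : (S).Modules => FlatMod.IsFinLocFree M)
        (fun M : (CohB1.ProjSpaceOver r S).Modules => FlatMod.IsFinLocFree M) hf)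
  have key : ∀ (i : Fin (r + 1)) (x : SGA6.Kvb S),
      Groth.L12.Kvb.toKR (KRR.PY r S) (T i x) = g (Groth.L12.Kvb.toKR S x) * o ^ (i : ℕ) := fun i => DFunLike.congr_fun
    (Groth.L29.KSub.hom_ext (φ := (Groth.L12.Kvb.toKR (KRR.PY r S)).comp (T i))
      (ψ := ((AddMonoidHom.mulRight (o ^ (i : ℕ))).comp g.toAddMonoidHom).comp (Groth.L12.Kvb.toKR S))
      fun N hN => by
        show Groth.L12.Kvb.toKR (KRR.PY r S) (T i (KRR.cl S N)) = g (Groth.L12.KBunQ.kc S N) * _
        obtain ⟨e⟩ := Groth.L17.Strat.nonempty_tensorPow_twistOver r S (i : ℕ)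
        have hP := Groth.L29.LocFree.pullback (KRR.pr r S) hN
        have hi := Groth.L16.Existence.isFinLocFree_of_isInvertible (Groth.L18.Ample.isInvertible_tensorPow hO (i : ℕ))
        rw [show T i (KRR.cl S N) = _ from (congrArg _ (Groth.L12.KBunQ.mapSub_cl' _ hf hN)).trans
          (Groth.L12.KBunQ.mapSub_cl' _ (ht i) (hf N hN)), hg N hN, ← Groth.L12.KBunQ.kc_tensorPow hO, mul_comm]
        exact (Groth.L12.KBunQ.kc_iso (Groth.L00.Tensor.tensorIso e.symm (Iso.refl _)) (ht i _ (hf N hN))).trans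
          (Groth.L12.KBunQ.kc_tensor hi hP))
  have h := D.bijective_comb A g hg
  have he : (fun a : Fin (r + 1) → SGA6.Kvb S => Groth.L12.Kvb.toKR (KRR.PY r S) (∑ i, T i (a i))) =
      fun a => ∑ i : Fin (r + 1), g (Groth.L12.Kvb.toKR S (a i)) * o ^ (i : ℕ) := funext fun a => by
    rw [map_sum]
    exact Finset.sum_congr rfl fun i _ => key i (a i)
  exact (Function.Bijective.of_comp_iff' (f := Groth.L12.Kvb.toKR (KRR.PY r S)) Groth.L12.Kvb.toKR_bijective _).1
    (show Function.Bijective (fun a : Fin (r + 1) → SGA6.Kvb S =>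
      Groth.L12.Kvb.toKR (KRR.PY r S) (∑ i, T i (a i))) by rw [he]; exact h)

end Groth.Agent.S3197
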