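import Groth.Statements.S3198
import Groth.Agent.L29.K.GenSurj
import Groth.Agent.L12.Kvb.Ring
-- import your own Groth.Agent.* helpers here

set_option autoImplicit false
set_option backward.isDefEq.respectTransparency false
set_option backward.isDefEq.respectTransparency.types false
universe u
open CategoryTheory CategoryTheory.Limits AlgebraicGeometry
attribute [local instance] HasDerivedCategory.standard
open SGA6

namespace Groth.Agent.S3198

/-- Let f : X ⟶ S be a flat morphism of Noetherian schemes such that for every point s of S the map ℤ ⟶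
K₀(Coh X_s), k ↦ k·[O_{X_s}], is bijective. Pullback along f is exact (instance hypotheses) and
preserves coherence (hypothesis hf); the induced homomorphism f^* : K₀(Coh S) ⟶ K₀(Coh X) is
surjective. (The source adds that f^* is bijective when f has a section of finite tor-dimension.) -/
theorem result {X S : Scheme.{u}} [IsNoetherian X] [IsNoetherian S] (f : X ⟶ S) [Flat f]
    [(Scheme.Modules.pullback f).Additive] [PreservesFiniteLimits (Scheme.Modules.pullback f)] [PreservesFiniteColimits (Scheme.Modules.pullback f)]
    (hf : ∀ M : S.Modules, Coh.IsCoh M → Coh.IsCoh ((Scheme.Modules.pullback f).obj M))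
    (hfib : ∀ s : S, Function.Bijective (fun k : ℤ => k • KZero.clSub (fun M : (f.fiber s).Modules => Coh.IsCoh M) (Coh.structureModule (f.fiber s)))) :
    Function.Surjective (SGA6.mapSub (Scheme.Modules.pullback f) (fun M : (S).Modules => Coh.IsCoh M) (fun M : (X).Modules => Coh.IsCoh M) hf) := by
  let φ := SGA6.mapSub (Scheme.Modules.pullback f) (fun M : S.Modules => Coh.IsCoh M)
    (fun M : X.Modules => Coh.IsCoh M) hf
  have h : φ.range = ⊤ := Groth.L29.KGenSurj.eq_top f (fun _ : Fin 1 => Coh.structureModule X)
    (fun _ => Groth.L12.Kvb.isFinLocFree_O) φ.range (fun _ M hM => by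
      refine ⟨KZero.clSub (fun N : S.Modules => Coh.IsCoh N) M, ?_⟩
      rw [Groth.L29.KcohLoc.mapSub_cl _ hf hM]
      exact Groth.L13.KcohNilp.cl_iso (Groth.L00.Tensor.tensorUnitLeft _).symm (hf M hM)) (fun s => by
      refine eq_top_iff.2 fun y _ => ?_
      obtain ⟨k, hk⟩ := (hfib s).surjective y
      rw [← hk]
      refine AddSubgroup.zsmul_mem _ ?_ k
      obtain ⟨U, hU⟩ : ∃ U, U = KZero.clSub (fun M : (f.fiber s).Modules => Coh.IsCoh M)
          ((Scheme.Modules.pullback (f.fiberι s)).obj (Coh.structureModule X)) := ⟨_, rfl⟩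
      refine AddSubgroup.subset_closure ⟨0, ?_⟩
      have hO : Coh.IsCoh ((Scheme.Modules.pullback (f.fiberι s)).obj (Coh.structureModule X)) :=
        Groth.L16.AffineBC.isCoh_pullback _ (Groth.L16.Rees.RelVanish.isCoh_structureModule X)
      haveI : ObjectProperty.IsClosedUnderIsomorphisms (fun M : (f.fiber s).Modules => Coh.IsCoh M) :=
        ⟨fun e h => ⟨Groth.L29.DC.isQCoh_of_iso' e h.1, Groth.L29.DC.TildeAlg.isFT_of_iso e h.2⟩⟩
      exact Groth.L29.KSub.clSub_iso (fun M : (f.fiber s).Modules => Coh.IsCoh M)
        (Groth.L29.LocFree.pullbackUnitIso (f.fiberι s)) (Limits.isZero_zero _)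
        (Groth.L29.DC.RHomC.isCoh_of_isZero (Limits.isZero_zero _)) hO)
  intro y
  exact (h ▸ AddSubgroup.mem_top y : y ∈ φ.range)

end Groth.Agent.S3198
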