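import Groth.Statements.S3204
import Groth.Agent.L29.TorExt.KClass
-- import your own Groth.Agent.* helpers here

set_option autoImplicit false
universe u
open CategoryTheory CategoryTheory.Limits AlgebraicGeometry
attribute [local instance] HasDerivedCategory.standard
open SGA6

namespace Groth.Agent.S3204

/-- Self-intersection formula for a regular closed immersion, on generators of K^•: let X be a scheme
and i : Y ⟶ X a regular closed immersion whose conormal module N is finite locally free of constant
rank c, and let L_0, …, L_c be exterior powers of N, L_p = Λ^p N (ExtPow.IsExtPow p N L_p). Let i_*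
: K^•(Y) ⟶ K^•(X) be the map on Grothendieck groups of perfect complexes induced by the direct image
functor on modules, assumed exact (instance hypotheses) and to carry perfect complexes to perfect
ones (hypothesis hi), and i^* : K^•(X) ⟶ K^•(Y) the map induced by the derived pullback Li^*,
assumed to exist as a triangulated functor and to carry perfect complexes to perfect ones
(hypothesis hi′). Then for every finite locally free O_Y-module M, i^*(i_*[M]) = Σ_{p=0}^{c} (−1)^p
[M ⊗ L_p] in K^•(Y). (The published statement lets the rank of N vary locally, assumes that X has an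
ample invertible module, and asserts i^* i_*(x) = x · λ_{−1}(N) for all x ∈ K^•(Y); here the
identity is stated only on the classes [M] of finite locally free modules, where no ampleness is
needed.) -/
theorem result {X Y : Scheme.{u}}
    (i : Y ⟶ X) (hi₀ : Mor2.IsRegularClosedImmersion i) [IsClosedImmersion i] (c : ℕ) (hN : FlatMod.IsFinLocFreeOfRank c (Omega.conormal i))
    (L : ℕ → Y.Modules) (hL : ∀ p : ℕ, p ≤ c → ExtPow.IsExtPow p (Omega.conormal i) (L p))
    [(Scheme.Modules.pushforward i).Additive] [PreservesFiniteLimits (Scheme.Modules.pushforward i)] [PreservesFiniteColimits (Scheme.Modules.pushforward i)]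
    (hi : ∀ K : DCoh.D Y, DCoh.IsPerfect K → DCoh.IsPerfect ((Scheme.Modules.pushforward i).mapDerivedCategory.obj K))
    [DCoh.HasLpull i] [(DCoh.Lpull i).CommShift ℤ] [(DCoh.Lpull i).IsTriangulated]
    (hi' : ∀ K : DCoh.D X, DCoh.IsPerfect K → DCoh.IsPerfect ((DCoh.Lpull i).obj K))
    (M : Y.Modules) (hM : FlatMod.IsFinLocFree M) :
    SGA6.mapTr (DCoh.Lpull i) (SGA6.perfP X) (SGA6.perfP Y) hi'
      (SGA6.mapTr ((Scheme.Modules.pushforward i).mapDerivedCategory) (SGA6.perfP Y) (SGA6.perfP X) hi (KZero.clTr (SGA6.perfP Y) (DCoh.inD Y M))) =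
    ∑ p ∈ Finset.range (c + 1), (-1 : ℤ) ^ p • KZero.clTr (SGA6.perfP Y) (DCoh.inD Y (((DCoh.tensorBi (X := Y)).obj M).obj (L p))) := by
  let e : (Scheme.Modules.pushforward i).mapDerivedCategory.obj (DCoh.inD Y M) ≅
      DCoh.inD X ((Scheme.Modules.pushforward i).obj M) := ((Scheme.Modules.pushforward i).mapDerivedCategorySingleFunctor 0).app M
  have hMp : DCoh.IsPerfect (DCoh.inD Y M) := Groth.Lead.PCProj.isPerfect_inD hM
  have h1 := hi _ hMp
  have h2 : DCoh.IsPerfect (DCoh.inD X ((Scheme.Modules.pushforward i).obj M)) := Groth.L29.DC.isPerfect_of_iso e h1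
  rw [Groth.Lead.KProjPerf.mapTr_cl _ hi hMp, Groth.Lead.KProjPerf.mapTr_cl _ hi' h1,
    Groth.L29.KTr.iso (Groth.Lead.KProjPerf.perf_zero Y) ((DCoh.Lpull i).mapIso e) (hi' _ h1) (hi' _ h2)]
  exact Groth.L29.TorExt.cl_Lpull_push i (Groth.L29.TorExt.hasFrames_of_mor2 i hi₀) hN L hL hM (hi' _ h2)

end Groth.Agent.S3204
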