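import Groth.Statements.S3206
import Groth.Agent.L28.Morse

set_option autoImplicit false
open SGA7

namespace Groth.Agent.S3206

/-- Let k be a field and f a formal power series in n variables over k without constant term whose
partial derivatives ∂f/∂x_1, …, ∂f/∂x_n generate the maximal ideal of k[[x_1, …, x_n]]. Then there
are power series ε_1, …, ε_n with no terms of degree < 2 and a quadratic form q such that f = q(x_1
+ ε_1, …, x_n + ε_n). -/
theorem result (k : Type) [Field k] (n : ℕ) (f : MvPowerSeries (Fin n) k)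
    (hf0 : MvPowerSeries.constantCoeff f = 0)
    (hJ : Ideal.span (Set.range fun i : Fin n => MvPowerSeries.pderiv k i f) = IsLocalRing.maximalIdeal (MvPowerSeries (Fin n) k)) :
    ∃ (ε : Fin n → MvPowerSeries (Fin n) k) (_ : ∀ i (m : Fin n →₀ ℕ), m.degree < 2 → MvPowerSeries.coeff m (ε i) = 0)
      (q : MvPolynomial (Fin n) k) (_ : q.IsHomogeneous 2)
      (_ : MvPowerSeries.HasSubst (fun i : Fin n => MvPowerSeries.X i + ε i)),
      f = MvPowerSeries.subst (fun i : Fin n => MvPowerSeries.X i + ε i) (q : MvPowerSeries (Fin n) k) := by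
  classical
  have hlow : VanCyc.NoLowTerms f := by
    refine ⟨hf0, fun i => ?_⟩
    have hmem : MvPowerSeries.pderiv k i f ∈ IsLocalRing.maximalIdeal (MvPowerSeries (Fin n) k) :=
      hJ ▸ Ideal.subset_span ⟨i, rfl⟩
    rw [Groth.L28.PSer.maximalIdeal_eq] at hmem
    have := Groth.L28.PSer.order_mem_pow (σ := Fin n) (R := k) (MvPowerSeries.pderiv k i f) 1 (by rw [pow_one]; exact hmem)
    rw [← Groth.L28.PSer.constantCoeff_pderiv]
    exact MvPowerSeries.one_le_order_iff_constCoeff_eq_zero.mp (by exact_mod_cast this)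
  have hlin : ∀ (c g : MvPowerSeries (Fin n) k) (j : Fin n), MvPowerSeries.constantCoeff g = 0 →
      MvPowerSeries.coeff (Finsupp.single j 1) (c * g) =
        MvPowerSeries.constantCoeff c * MvPowerSeries.coeff (Finsupp.single j 1) g := by
    intro c g j hg
    rw [MvPowerSeries.coeff_mul, Finsupp.antidiagonal_single]
    rw [Finset.sum_map, show Finset.antidiagonal 1 = {((0, 1) : ℕ × ℕ), (1, 0)} from rfl]
    simp [hg]
  have hP : IsUnit (VanCyc.polarMatrix (VanCyc.quadPart f)).det := by
    have hX : ∀ l : Fin n, ∃ c : Fin n → MvPowerSeries (Fin n) k,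
        ∑ i, c i * MvPowerSeries.pderiv k i f = MvPowerSeries.X l := by
      intro l
      have hl : (MvPowerSeries.X l : MvPowerSeries (Fin n) k) ∈
          IsLocalRing.maximalIdeal (MvPowerSeries (Fin n) k) :=
        Groth.L28.PSer.maximalIdeal_eq (σ := Fin n) (k := k) ▸ Groth.L28.PSer.X_mem l
      rw [← hJ, Ideal.span, Submodule.mem_span_range_iff_exists_fun] at hl
      simpa using hl
    choose c hc using hX
    refine Matrix.isUnit_det_of_left_inverse
      (B := Matrix.of fun l i => MvPowerSeries.constantCoeff (c l i)) ?_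
    ext l j
    have := congrArg (MvPowerSeries.coeff (Finsupp.single j 1)) (hc l)
    rw [map_sum, MvPowerSeries.coeff_X] at this
    rw [Matrix.mul_apply, Matrix.one_apply]
    rw [Finset.sum_congr rfl fun i _ => hlin _ _ j
      (by rw [Groth.L28.PSer.constantCoeff_pderiv]; exact hlow.2 i)] at this
    simp only [Groth.L28.Morse.polar_quadPart] at this
    simpa [Finsupp.single_eq_single_iff, eq_comm] using this
  obtain ⟨g, hg, hQ⟩ := Groth.L28.Morse.exists_Q_add (VanCyc.quadPart f)
    (f - Groth.L28.Morse.Q (VanCyc.quadPart f) MvPowerSeries.X) hP le_rfl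
    (Groth.L28.Morse.order_sub_quadPart hlow)
  have hg1 : MvPowerSeries.HasSubst (fun i => MvPowerSeries.X i + g i) :=
    MvPowerSeries.hasSubst_of_constantCoeff_zero
      (Groth.L28.Morse.constantCoeff_perturb (by omega) hg)
  refine ⟨g, fun i m hm => MvPowerSeries.coeff_of_lt_order (lt_of_lt_of_le (Nat.cast_lt.mpr hm) (hg i)),
    VanCyc.quadPoly (VanCyc.quadPart f), Groth.L28.Morse.quadPoly_isHomogeneous _, hg1, ?_⟩
  rw [Groth.L28.Morse.subst_quadPoly _ hg1, hQ]
  ring

end Groth.Agent.S3206
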