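import Groth.Statements.S3207
import Groth.Agent.L25.Translate
import Mathlib.AlgebraicGeometry.ZariskisMainTheorem
import Mathlib.AlgebraicGeometry.Morphisms.FlatMono
import Mathlib.AlgebraicGeometry.Morphisms.FlatRank
import Mathlib.Topology.Sober

set_option autoImplicit false
universe u
open CategoryTheory CategoryTheory.Limits AlgebraicGeometry
open SGA7

namespace Groth.Agent.S3207

section aux

open AlgebraicGeometry CategoryTheory CategoryTheory.Limits

set_option backward.isDefEq.respectTransparency.types false

/-- a maximal point specialising to a given point -/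
theorem exists_maximal {X : Type*} [TopologicalSpace X] [T0Space X] [QuasiSober X] (x : X) :
    ∃ η : X, η ⤳ x ∧ ∀ t : X, t ⤳ η → t = η := by
  obtain ⟨Z, hZ, hxZ⟩ : ∃ Z ∈ irreducibleComponents X, x ∈ Z :=
    ⟨irreducibleComponent x, irreducibleComponent_mem_irreducibleComponents x, mem_irreducibleComponent⟩
  have hc : IsClosed Z := isClosed_of_mem_irreducibleComponents Z hZ
  obtain ⟨η, hη⟩ := QuasiSober.sober hZ.1 hc
  refine ⟨η, specializes_iff_mem_closure.2 (hη.def.symm ▸ hxZ), fun t ht => ?_⟩
  have h1 : Z ⊆ closure {t} := by rw [← hη.def]; exact specializes_iff_closure_subset.1 ht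
  exact (hη.eq ((hZ.2 (isIrreducible_singleton.closure) h1).antisymm h1)).symm

variable {T S : Scheme.{u}} (g : T ⟶ S)

theorem exists_flat_section [LocallyQuasiFinite g] [LocallyOfFinitePresentation g] [IsSeparated g] [Flat g]
    (h : ∀ s : S, (∀ t : S, t ⤳ s → t = s) →
      IsEmpty ↑(pullback g (S.fromSpecResidueField s)) ∨ IsIso (pullback.snd g (S.fromSpecResidueField s)))
    (x : T) : ∃ (U : Scheme.{u}) (σ : U ⟶ T), Flat σ ∧ Flat (σ ≫ pullback.diagonal g) ∧ x ∈ Set.range σ := by
  obtain ⟨U, gU, hgU, -, V, W, v, hVW, hfin, hv⟩ :=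
    exists_etale_isCompl_of_quasiFiniteAt g rfl (g.quasiFiniteAt x)
  let hh : (V : Scheme.{u}) ⟶ U := V.ι ≫ pullback.snd g gU
  haveI : IsFinite hh := hfin
  haveI : Flat hh := inferInstanceAs (Flat (V.ι ≫ pullback.snd g gU))
  haveI : LocallyOfFinitePresentation hh := inferInstanceAs (LocallyOfFinitePresentation (V.ι ≫ pullback.snd g gU))
  have hloc := hh.isLocallyConstant_finrank
  have hpos : 1 ≤ hh.finrank (hh v) := hh.one_le_finrank_map v
  obtain ⟨η, hη, hmax⟩ := exists_maximal (hh v)
  obtain ⟨O, hO, hvO, hOc⟩ := hloc.exists_open (hh v)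
  have hηeq : hh.finrank η = hh.finrank (hh v) := hOc η (hη.mem_open hO hvO)
  -- the fibre over the maximal point
  have hsmax : ∀ t : S, t ⤳ gU η → t = gU η := fun t ht => by
    obtain ⟨t', ht', rfl⟩ := Flat.generalizingMap gU ht
    rw [hmax t' ht']
  let k := U.fromSpecResidueField η
  let pt : Spec (U.residueField η) := default
  have hk : k pt = η := U.fromSpecResidueField_apply η pt
  let H := pullback.snd hh k
  have hHr : H.finrank = fun _ => hh.finrank η := funext fun z => by
    rw [Scheme.Hom.finrank_pullback_snd, Scheme.fromSpecResidueField_apply]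
  have hsurj : Surjective H := H.one_le_finrank_iff_surjective.1 fun z => by
    rw [hHr]; exact hηeq ▸ hpos
  have hkg : k ≫ gU = Spec.map (gU.residueFieldMap η) ≫ S.fromSpecResidueField (gU η) :=
    (gU.SpecMap_residueFieldMap_fromSpecResidueField η).symm
  let e : pullback hh k ⟶ pullback g (S.fromSpecResidueField (gU η)) :=
    pullback.lift (pullback.fst hh k ≫ V.ι ≫ pullback.fst g gU) (H ≫ Spec.map (gU.residueFieldMap η))
      (by simp only [Category.assoc, ← hkg, pullback.condition]
          rw [← Category.assoc V.ι]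
          exact pullback.condition_assoc _)
  haveI : IsIso H := by
    obtain ⟨z, -⟩ := H.surjective pt
    rcases h _ hsmax with hE | hI
    · exact (hE.false (e z)).elim
    · let q : pullback hh k ⟶ pullback (pullback.snd g (S.fromSpecResidueField (gU η)))
          (Spec.map (gU.residueFieldMap η)) := pullback.lift e H (pullback.lift_snd _ _ _)
      have hq : q ≫ pullback.snd _ _ = H := pullback.lift_snd _ _ _
      haveI : Mono H := by
        haveI : Mono q := by
          refine ⟨fun a b hab => pullback.hom_ext ?_ ?_⟩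
          · refine (cancel_mono V.ι).1 (pullback.hom_ext ?_ ?_)
            · simpa only [q, e, Category.assoc, pullback.lift_fst, pullback.lift_fst_assoc] using
                congrArg (fun f => f ≫ pullback.fst _ _ ≫ pullback.fst _ _) hab
            · have := congrArg (fun f => f ≫ pullback.snd _ _ ≫ k) hab
              simp only [q, Category.assoc, pullback.lift_snd_assoc] at this
              simpa [H, hh, ← pullback.condition] using this
          · simpa only [q, H, Category.assoc, pullback.lift_snd] using congrArg (fun f => f ≫ pullback.snd _ _) hab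
        rw [← hq]; infer_instance
      exact Flat.isIso_of_surjective_of_mono H
  have h1 : hh.finrank (hh v) = 1 := by
    rw [← hηeq]
    have := congrFun (Scheme.Hom.finrank_eq_one_of_isIso H) pt
    rwa [hHr] at this
  let U₀ : U.Opens := ⟨O, hO⟩
  haveI : IsIso (hh ∣_ U₀) := by
    rw [Scheme.Hom.isIso_iff_finrank_eq]
    funext z
    rw [Scheme.Hom.finrank_of_isPullback _ _ hh U₀.ι (isPullback_morphismRestrict hh U₀).flip z]
    exact (hOc _ z.2).trans h1
  let j := inv (hh ∣_ U₀) ≫ (hh ⁻¹ᵁ U₀).ι ≫ V.ι
  let σ : (U₀ : Scheme.{u}) ⟶ T := j ≫ pullback.fst g gU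
  haveI : Flat σ := inferInstanceAs (Flat ((inv (hh ∣_ U₀) ≫ (hh ⁻¹ᵁ U₀).ι ≫ V.ι) ≫ pullback.fst g gU))
  have hj : j ≫ pullback.snd g gU = U₀.ι := by
    show (inv (hh ∣_ U₀) ≫ (hh ⁻¹ᵁ U₀).ι ≫ V.ι) ≫ pullback.snd g gU = U₀.ι
    rw [Category.assoc, Category.assoc, IsIso.inv_comp_eq, morphismRestrict_ι]
  have hσg : σ ≫ g = U₀.ι ≫ gU := by
    rw [← hj]
    exact ((Category.assoc _ _ _).trans (congrArg (j ≫ ·) pullback.condition)).trans (Category.assoc _ _ _).symm
  refine ⟨U₀, σ, inferInstance, ?_, ?_⟩
  · let s : (U₀ : Scheme.{u}) ⟶ pullback g (U₀.ι ≫ gU) := pullback.lift σ (𝟙 _) (by simp [hσg])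
    let m : pullback g (U₀.ι ≫ gU) ⟶ pullback g gU :=
      pullback.map _ _ _ _ (𝟙 T) U₀.ι (𝟙 S) (by simp) (by simp)
    have hsm : s ≫ m = j := by
      apply pullback.hom_ext
      · simp only [s, m, σ, pullback.map, Category.assoc, pullback.lift_fst, pullback.lift_fst_assoc, Category.comp_id]
      · simp only [s, m, pullback.map, Category.assoc, pullback.lift_snd, pullback.lift_snd_assoc, Category.id_comp, hj]
    haveI : IsOpenImmersion m :=
      MorphismProperty.pullbackMap (P := @IsOpenImmersion) inferInstance inferInstance (by simp) (by simp)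
    haveI : IsOpenImmersion (s ≫ m) := by rw [hsm]; infer_instance
    haveI : IsOpenImmersion s := IsOpenImmersion.of_comp s m
    let n : pullback g (U₀.ι ≫ gU) ⟶ pullback g g :=
      pullback.map _ _ _ _ (𝟙 T) σ (𝟙 S) (by simp) (by simp [hσg])
    haveI : Flat n := MorphismProperty.pullbackMap (P := @Flat) inferInstance inferInstance (by simp) (by simp [hσg])
    have : σ ≫ pullback.diagonal g = s ≫ n := by
      apply pullback.hom_ext <;>
        simp only [s, n, pullback.map, Category.assoc, pullback.lift_fst, pullback.lift_fst_assoc, pullback.lift_snd,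
          pullback.lift_snd_assoc, Category.comp_id, Category.id_comp, pullback.diagonal_fst, pullback.diagonal_snd]
    rw [this]; infer_instance
  · refine ⟨(hh ∣_ U₀) ⟨v, hvO⟩, ?_⟩
    show (((inv (hh ∣_ U₀) ≫ (hh ⁻¹ᵁ U₀).ι ≫ V.ι) ≫ pullback.fst g gU)) _ = x
    rw [← Scheme.Hom.comp_apply]
    simp [hv]

theorem surjective_diagonal [Flat g] [IsSeparated g]
    (h : ∀ s : S, (∀ t : S, t ⤳ s → t = s) →
      IsEmpty ↑(pullback g (S.fromSpecResidueField s)) ∨ IsIso (pullback.snd g (S.fromSpecResidueField s))) :
    Surjective (pullback.diagonal g) := by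
  refine ⟨fun w => ?_⟩
  let p := pullback.fst g g ≫ g
  obtain ⟨s, hs, hmax⟩ := exists_maximal (p w)
  obtain ⟨w₀, hw₀, hp⟩ := Flat.generalizingMap p hs
  subst hp
  have hcl : IsClosed (Set.range (pullback.diagonal g)) := (pullback.diagonal g).isClosedMap.isClosed_range
  refine hw₀.mem_closed hcl ?_
  let k := (pullback g g).fromSpecResidueField w₀
  have hkp : k ≫ p = Spec.map (p.residueFieldMap w₀) ≫ S.fromSpecResidueField (p w₀) :=
    (p.SpecMap_residueFieldMap_fromSpecResidueField w₀).symm
  let a := pullback.lift (k ≫ pullback.fst g g) (Spec.map (p.residueFieldMap w₀))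
    (show (k ≫ pullback.fst g g) ≫ g = _ by rw [Category.assoc]; exact hkp)
  let b := pullback.lift (k ≫ pullback.snd g g) (Spec.map (p.residueFieldMap w₀))
    (show (k ≫ pullback.snd g g) ≫ g = _ by rw [Category.assoc, ← pullback.condition]; exact hkp)
  rcases h _ hmax with hE | hI
  · exact (hE.false (a default)).elim
  · have hab : a = b := (cancel_mono (pullback.snd g (S.fromSpecResidueField (p w₀)))).1 (by simp only [a, b, pullback.lift_snd])
    have heq : k ≫ pullback.fst g g = k ≫ pullback.snd g g := by
      simpa only [a, b, pullback.lift_fst] using congrArg (fun f => f ≫ pullback.fst _ _) hab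
    have hk : k = (k ≫ pullback.fst g g) ≫ pullback.diagonal g := by
      apply pullback.hom_ext <;> simp [heq]
    refine ⟨(k ≫ pullback.fst g g) default, ?_⟩
    rw [← Scheme.Hom.comp_apply, ← hk]
    exact Scheme.fromSpecResidueField_apply _ _

end aux

/-- Let g : T -> S be locally quasi-finite, of finite presentation, separated and flat. If for every
maximal point s of S (a point with no proper generization) the fibre of g over s is either empty or
mapped isomorphically onto Spec κ(s) (rank at most 1), then g is an open immersion. -/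
theorem result {T S : Scheme.{u}} (g : T ⟶ S) [LocallyQuasiFinite g]
    [LocallyOfFinitePresentation g] [QuasiCompact g] [IsSeparated g] [Flat g]
    (h : ∀ s : S, (∀ t : S, t ⤳ s → t = s) →
      IsEmpty ↑(pullback g (S.fromSpecResidueField s)) ∨ IsIso (pullback.snd g (S.fromSpecResidueField s))) :
    IsOpenImmersion g := by
  haveI := surjective_diagonal g h
  haveI : IsIso (pullback.diagonal g) := by
    choose U σ hσ hσΔ hmem using exists_flat_section g h
    let q : (∐ fun x : T => U x) ⟶ T := Sigma.desc σ
    haveI : Flat q := IsZariskiLocalAtSource.sigmaDesc hσ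
    haveI : Surjective q := ⟨fun x => by
      obtain ⟨y, hy⟩ := hmem x
      refine ⟨Sigma.ι U x y, ?_⟩
      rw [← Scheme.Hom.comp_apply, Sigma.ι_desc, hy]⟩
    haveI : Flat (q ≫ pullback.diagonal g) := by
      have : q ≫ pullback.diagonal g = Sigma.desc fun x => σ x ≫ pullback.diagonal g :=
        Sigma.hom_ext _ _ fun x => by simp [q]
      rw [this]
      exact IsZariskiLocalAtSource.sigmaDesc hσΔ
    haveI : Flat (pullback.diagonal g) := Groth.L25.Translate.flat_of_comp q _
    exact Flat.isIso_of_surjective_of_mono _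
  haveI : Mono g := (pullback.isIso_diagonal_iff g).1 inferInstance
  exact IsOpenImmersion.of_flat_of_mono g

end Groth.Agent.S3207
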