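import Groth.Statements.S3208
import Mathlib.LinearAlgebra.FreeModule.PID
import Mathlib.Tactic.LinearCombination
import Mathlib.Data.Nat.Choose.Dvd
import Mathlib.Algebra.Ring.GeomSum
import Mathlib.Data.Nat.Factors
import Mathlib.Data.Nat.Choose.Sum
import Mathlib.Algebra.EuclideanDomain.Int
import Mathlib.RingTheory.PrincipalIdealDomain

set_option autoImplicit false
open SGA7

namespace Groth.Agent.S3208

theorem int_eq_zero_of_pow_dvd {p : ℕ} (hp : 2 ≤ p) (k : ℤ) (h : ∀ a : ℕ, (p : ℤ) ^ a ∣ k) : k = 0 := by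
  by_contra hk
  obtain ⟨a, ha⟩ : ∃ a : ℕ, k.natAbs < p ^ a := ⟨k.natAbs, Nat.lt_pow_self (by omega)⟩
  have := Int.natAbs_dvd_natAbs.2 (h a)
  rw [Int.natAbs_pow, Int.natAbs_natCast] at this
  exact absurd (Nat.le_of_dvd (Int.natAbs_pos.2 hk) this) (by omega)

theorem eq_zero_of_pow_dvd (E : Type) [CommRing E] [NoZeroSMulDivisors ℤ E] [Module.Finite ℤ E]
    {p : ℕ} (hp : 2 ≤ p) (z : E) (h : ∀ a : ℕ, (p : E) ^ a ∣ z) : z = 0 := by
  have : Module.IsTorsionFree ℤ E := ⟨fun r hr x y h => by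
    rw [← sub_eq_zero] at h ⊢
    exact (smul_eq_zero.1 (show r • (x - y) = 0 by rw [smul_sub]; exact h)).resolve_left hr.ne_zero⟩
  have : Module.Free ℤ E := Module.free_iff_isTorsionFree.2 ‹_›
  let b := Module.Free.chooseBasis ℤ E
  apply b.repr.injective
  rw [map_zero]
  ext i
  refine int_eq_zero_of_pow_dvd hp _ fun a => ?_
  obtain ⟨y, rfl⟩ := h a
  refine ⟨b.repr y i, ?_⟩
  have : ((p : E) ^ a * y) = ((p : ℤ) ^ a) • y := by simp
  rw [this, map_zsmul]
  simp

theorem dvd_cancel (E : Type) [CommRing E] [NoZeroSMulDivisors ℤ E] {k : ℕ} (hk : k ≠ 0) {x y : E}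
    (h : (k : E) * x = (k : E) * y) : x = y := by
  rw [← sub_eq_zero, ← mul_sub] at h
  have h' : (k : ℤ) • (x - y) = 0 := by rw [← h]; simp
  rcases smul_eq_zero.1 h' with h'' | h''
  · exact absurd (by exact_mod_cast h'') hk
  · exact sub_eq_zero.1 h''

theorem eq_one_of_prime_order (E : Type) [CommRing E] [NoZeroSMulDivisors ℤ E] [Module.Finite ℤ E]
    {p b l : ℕ} (hp : p.Prime) (hl : l.Prime) (hb : 1 ≤ b) (hb2 : p = 2 → 2 ≤ b) (u : E)
    (hu : u ^ l = 1) (hcong : (p : E) ^ b ∣ u - 1) : u = 1 := by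
  rw [← sub_eq_zero]
  refine eq_zero_of_pow_dvd E hp.two_le _ fun a => ?_
  have step : ∀ a, b ≤ a → (p : E) ^ a ∣ u - 1 → (p : E) ^ (a + 1) ∣ u - 1 := by
    intro a ha ⟨y, hy⟩
    -- expand `(1 + z) ^ l = 1`
    have hexp : (l : E) * (u - 1) + ∑ j ∈ Finset.range (l - 1),
        (u - 1) ^ (j + 2) * (l.choose (j + 2) : E) = 0 := by
      have h := add_pow (u - 1) 1 l
      rw [sub_add_cancel, hu] at h
      obtain ⟨m, rfl⟩ : ∃ m, l = m + 1 := ⟨l - 1, by have := hl.two_le; omega⟩
      rw [Finset.sum_range_succ', Finset.sum_range_succ'] at h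
      simp only [one_pow, mul_one, zero_add, pow_one, pow_zero, Nat.choose_one_right,
        Nat.choose_zero_right, Nat.cast_one, one_mul] at h
      rw [Nat.add_sub_cancel]
      linear_combination -h
    have hpa : (p : ℕ) ^ a ≠ 0 := pow_ne_zero _ hp.ne_zero
    by_cases hlp : l = p
    · subst hlp
      have hs : (l : E) ^ (a + 2) ∣ ∑ j ∈ Finset.range (l - 1),
          (u - 1) ^ (j + 2) * (l.choose (j + 2) : E) := by
        refine Finset.dvd_sum fun j hj => ?_
        rw [hy, mul_pow, ← pow_mul]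
        rw [Finset.mem_range] at hj
        have hl2 : l = 2 → 2 ≤ a := fun h => le_trans (hb2 h) ha
        rcases Nat.lt_or_ge (j + 2) l with hj' | hj'
        · obtain ⟨t, ht⟩ := hp.dvd_choose_self (by omega : j + 2 ≠ 0) hj'
          rw [ht, Nat.cast_mul]
          have : a + 2 ≤ a * (j + 2) + 1 := by nlinarith
          refine dvd_trans (pow_dvd_pow (l : E) this) ⟨y ^ (j + 2) * (t : E), ?_⟩
          ring
        · have : a + 2 ≤ a * (j + 2) := by
            rcases Nat.lt_or_ge a 2 with h | h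
            · have : l ≠ 2 := fun h' => by have := hl2 h'; omega
              have : 3 ≤ j + 2 := by have := hp.two_le; omega
              nlinarith
            · nlinarith
          exact dvd_mul_of_dvd_left (dvd_mul_of_dvd_left (pow_dvd_pow (l : E) this) _) _
      obtain ⟨t, ht⟩ := hs
      rw [ht, hy] at hexp
      refine ⟨-t, ?_⟩
      apply dvd_cancel E hp.ne_zero
      rw [hy]
      linear_combination hexp
    · have hs : (p : E) ^ (a + 1) ∣ ∑ j ∈ Finset.range (l - 1),
          (u - 1) ^ (j + 2) * (l.choose (j + 2) : E) := by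
        refine Finset.dvd_sum fun j hj => ?_
        rw [hy, mul_pow, ← pow_mul]
        refine dvd_mul_of_dvd_left (dvd_mul_of_dvd_left (pow_dvd_pow (p : E) ?_) _) _
        nlinarith
      have h1 : (p : E) ^ (a + 1) ∣ (l : E) * (u - 1) := by
        rw [eq_neg_of_add_eq_zero_left hexp]; exact hs.neg_right
      have hco : Nat.Coprime p l := (Nat.coprime_primes hp hl).2 (Ne.symm hlp)
      have hbez := Nat.gcd_eq_gcd_ab p l
      rw [hco.gcd_eq_one] at hbez
      have hbez' : (1 : E) = (p : E) * ((Nat.gcdA p l : ℤ) : E) + (l : E) * ((Nat.gcdB p l : ℤ) : E) := by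
        have := congrArg (Int.cast : ℤ → E) hbez
        push_cast at this
        exact this
      have hx : u - 1 = (u - 1) * ((p : E) * ((Nat.gcdA p l : ℤ) : E)) + (u - 1) * ((l : E) * ((Nat.gcdB p l : ℤ) : E)) := by
        rw [← mul_add, ← hbez', mul_one]
      rw [hx]
      refine dvd_add ?_ ?_
      · rw [pow_succ, ← mul_assoc]
        refine dvd_mul_of_dvd_left (mul_dvd_mul ⟨y, hy⟩ dvd_rfl) _
      · rw [← mul_assoc, mul_comm (u - 1)]
        exact dvd_mul_of_dvd_left h1 _
  induction a with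
  | zero => simp
  | succ a ih =>
    by_cases h : b ≤ a
    · exact step a h ih
    · exact dvd_trans (pow_dvd_pow _ (by omega)) hcong

theorem eq_one_of_pow_eq_one (E : Type) [CommRing E] [NoZeroSMulDivisors ℤ E] [Module.Finite ℤ E]
    {p b : ℕ} (hp : p.Prime) (hb : 1 ≤ b) (hb2 : p = 2 → 2 ≤ b) (m : ℕ) :
    ∀ u : E, 0 < m → u ^ m = 1 → (p : E) ^ b ∣ u - 1 → u = 1 := by
  induction m using Nat.strong_induction_on with
  | _ m ih =>
    intro u hm hu hcong
    by_cases h1 : m = 1
    · simpa [h1] using hu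
    obtain ⟨l, hl, k, rfl⟩ := Nat.exists_prime_and_dvd h1
    have hk : 0 < k := by rcases Nat.eq_zero_or_pos k with h | h <;> simp_all
    refine ih k ?_ u hk ?_ hcong
    · exact lt_mul_of_one_lt_left hk hl.one_lt
    · refine eq_one_of_prime_order E hp hl hb hb2 _ (by rw [← pow_mul, mul_comm k, hu]) ?_
      exact dvd_trans hcong (sub_one_dvd_pow_sub_one u k)

/-- Let E be a commutative ring which is finitely generated and torsion-free as an additive group, u an
element of E of finite multiplicative order (u^m = 1 for some m > 0), and n ≥ 2 an integer with u ≡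
1 modulo nE (i.e. 1 - u = n·v for some v ∈ E). Then u² = 1, and if n ≥ 3 then u = 1. -/
theorem result (E : Type) [CommRing E] [NoZeroSMulDivisors ℤ E] [Module.Finite ℤ E] (u : E) (m : ℕ) (hm : 0 < m)
    (hu : u ^ m = 1) (n : ℕ) (hn : 2 ≤ n) (hcong : ∃ v : E, 1 - u = (n : E) * v) :
    u ^ 2 = 1 ∧ (3 ≤ n → u = 1) := by
  obtain ⟨v, hv⟩ := hcong
  have hn' : (n : E) ∣ u - 1 := ⟨-v, by linear_combination -hv⟩
  have h3 : 3 ≤ n → u = 1 := by
    intro h3
    rcases Nat.four_dvd_or_exists_odd_prime_and_dvd_of_two_lt (show 2 < n by omega) with h4 | ⟨p, hp, hpn, hodd⟩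
    · refine eq_one_of_pow_eq_one E Nat.prime_two (by norm_num : 1 ≤ 2) (fun _ => le_rfl) m u hm hu ?_
      refine dvd_trans ?_ hn'
      exact_mod_cast Nat.cast_dvd_cast (α := E) h4
    · refine eq_one_of_pow_eq_one E hp le_rfl (fun h => ?_) m u hm hu ?_
      · subst h; exact absurd hodd (by decide)
      · rw [pow_one]; exact dvd_trans (Nat.cast_dvd_cast hpn) hn'
  refine ⟨?_, h3⟩
  rcases Nat.lt_or_ge n 3 with h | h
  · obtain rfl : n = 2 := by omega
    refine eq_one_of_pow_eq_one E Nat.prime_two (by norm_num : 1 ≤ 2) (fun _ => le_rfl) m (u ^ 2) hm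
      (by rw [← pow_mul, mul_comm, pow_mul, hu, one_pow]) ⟨v ^ 2 - v, ?_⟩
    push_cast at hv ⊢
    linear_combination (-(u + 1) + 2 * v) * hv
  · rw [h3 h, one_pow]

end Groth.Agent.S3208
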