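import Groth.Statements.S3209
import Groth.Agent.L28.FibreTensor
import Mathlib.RingTheory.TensorProduct.Maps

set_option autoImplicit false
universe u
open TensorProduct
open SGA7

namespace Groth.Agent.S3209


open Groth.L28.FibreTensor in
theorem main (R B' B C S : Type u) [CommRing R] [CommRing B'] [CommRing B] [CommRing C]
    [CommRing S] [Algebra R B'] [Algebra R B] [Algebra R C] [Algebra R S]
    (f : B' →ₐ[R] B) (hf : Function.Surjective f) (g : C →ₐ[R] B)
    (hJ : Function.Injective (LinearMap.lTensor S (LinearMap.ker f.toLinearMap).subtype)) :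
    letI P := AlgHom.equalizer (f.comp (AlgHom.fst R B' C)) (g.comp (AlgHom.snd R B' C))
    letI φ₁ := Algebra.TensorProduct.map (AlgHom.id R S) ((AlgHom.fst R B' C).comp P.val)
    letI φ₂ := Algebra.TensorProduct.map (AlgHom.id R S) ((AlgHom.snd R B' C).comp P.val)
    Function.Injective (fun z : S ⊗[R] ↥P => (φ₁ z, φ₂ z)) ∧
    ∀ (x : S ⊗[R] B') (y : S ⊗[R] C),
      Algebra.TensorProduct.map (AlgHom.id R S) f x = Algebra.TensorProduct.map (AlgHom.id R S) g y →
        ∃ z : S ⊗[R] ↥P, φ₁ z = x ∧ φ₂ z = y := by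
  let P := AlgHom.equalizer (f.comp (AlgHom.fst R B' C)) (g.comp (AlgHom.snd R B' C))
  let p₁ := ((AlgHom.fst R B' C).comp P.val).toLinearMap
  let p₂ := ((AlgHom.snd R B' C).comp P.val).toLinearMap
  have hfib : IsFibre f.toLinearMap g.toLinearMap p₁ p₂ :=
    ⟨LinearMap.ext fun z => z.2, fun z h1 h2 => Subtype.ext (Prod.ext h1 h2),
      fun x y hxy => ⟨⟨(x, y), hxy⟩, rfl, rfl⟩⟩
  obtain ⟨hi, he⟩ := tensor (S := S) hfib hf hJ
  have cl : ∀ {X Y : Type u} [CommRing X] [CommRing Y] [Algebra R X] [Algebra R Y] (φ : X →ₐ[R] Y)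
      (w : S ⊗[R] X), Algebra.TensorProduct.map (AlgHom.id R S) φ w = φ.toLinearMap.lTensor S w := by
    intros; rfl
  refine ⟨fun z w h => ?_, fun x y hxy => ?_⟩
  · obtain ⟨h1, h2⟩ := Prod.mk.inj h
    rw [cl, cl] at h1 h2
    exact sub_eq_zero.mp (hi _ (by rw [map_sub, sub_eq_zero]; exact h1)
      (by rw [map_sub, sub_eq_zero]; exact h2))
  · rw [cl, cl] at hxy
    obtain ⟨z, h1, h2⟩ := he x y hxy
    exact ⟨z, (cl _ z).trans h1, (cl _ z).trans h2⟩

/-- Let f : B' → B be a surjective map of R-algebras with kernel J, g : C → B a map of R-algebras, P =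
B' ×_B C their fibre product (the equalizer of f ∘ pr₁ and g ∘ pr₂ in B' × C) and S an R-algebra
such that S ⊗_R J → S ⊗_R B' is injective (this holds when Tor_1^R(B, S) = 0, the published
hypothesis, and in particular when S is flat). Then the canonical map S ⊗_R P → (S ⊗_R B') ×_{S ⊗_R
B} (S ⊗_R C) is bijective: it is injective, and every pair with the same image in S ⊗_R B comes from
S ⊗_R P. -/
theorem result (R B' B C S : Type u) [CommRing R] [CommRing B'] [CommRing B] [CommRing C]
    [CommRing S] [Algebra R B'] [Algebra R B] [Algebra R C] [Algebra R S]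
    (f : B' →ₐ[R] B) (hf : Function.Surjective f) (g : C →ₐ[R] B)
    (hJ : Function.Injective (LinearMap.lTensor S (LinearMap.ker f.toLinearMap).subtype)) :
    letI P := AlgHom.equalizer (f.comp (AlgHom.fst R B' C)) (g.comp (AlgHom.snd R B' C))
    letI φ₁ := Algebra.TensorProduct.map (AlgHom.id R S) ((AlgHom.fst R B' C).comp P.val)
    letI φ₂ := Algebra.TensorProduct.map (AlgHom.id R S) ((AlgHom.snd R B' C).comp P.val)
    Function.Injective (fun z : S ⊗[R] ↥P => (φ₁ z, φ₂ z)) ∧
    ∀ (x : S ⊗[R] B') (y : S ⊗[R] C),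
      Algebra.TensorProduct.map (AlgHom.id R S) f x = Algebra.TensorProduct.map (AlgHom.id R S) g y →
        ∃ z : S ⊗[R] ↥P, φ₁ z = x ∧ φ₂ z = y := by
  exact main R B' B C S f hf g hJ

end Groth.Agent.S3209
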