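import Groth.Statements.S3210
import Groth.Agent.L26.Neron.Unramified
import Groth.Agent.L26.AV.NonNoethHom
import Groth.Agent.L26.AV.Hom
import Groth.Agent.L26.AV.SmoothField

set_option autoImplicit false
universe u
open CategoryTheory CategoryTheory.Limits AlgebraicGeometry MonObj
open SGA7

namespace Groth.Agent.S3210

open CategoryTheory.MonoidalCategory CategoryTheory.CartesianMonoidalCategory MonObj

/-- Direction (i) ⇒ (v bis) of the Néron–Ogg–Chafarévitch criterion (only this direction of the
criterion is stated): let R be a discrete valuation ring with fraction field K and residue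
characteristic different from the prime ℓ, Ω a separable closure of K, W a valuation subring of Ω
lying over R, and A an abelian variety over K (a proper, geometrically integral group scheme). If A
extends to an abelian scheme over R (a proper smooth group scheme over Spec R with connected
geometric fibres whose generic fibre is K-isomorphic to A), then for every ν every element of the
inertia group at W fixes all the ℓ^ν-torsion Ω-points of A. -/
theorem result (R K Ω : Type u) [CommRing R] [IsDomain R] [IsDiscreteValuationRing R] [Field K]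
    [Algebra R K] [IsFractionRing R K] [Field Ω] [Algebra K Ω] [IsSepClosure K Ω]
    (W : ValuationSubring Ω) (hW : SGA7.LiesOver K R W) (ℓ : ℕ) (hℓ : ℓ.Prime) (hℓp : (ℓ : IsLocalRing.ResidueField R) ≠ 0)
    (A : Over (Spec (CommRingCat.of K))) [GrpObj A] [IsProper A.hom] [GeometricallyIntegral A.hom]
    (hgood : (∃ (B : Over (Spec (CommRingCat.of R))) (_ : GrpObj B), IsProper B.hom ∧ Smooth B.hom ∧
        (∀ (k' : Type u) [Field k'] (t : Spec (CommRingCat.of k') ⟶ Spec (CommRingCat.of R)), ConnectedSpace ↑(pullback B.hom t)) ∧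
        Nonempty ((Over.pullback (Spec.map (CommRingCat.ofHom (algebraMap R K)))).obj B ≅ A))) :
    ∀ (ν : ℕ) (σ : Ω ≃ₐ[K] Ω), SGA7.IsInertia W σ → ∀ x : SGA7.Pts Ω A, x ^ (ℓ ^ ν) = 1 → SGA7.galAct σ x = x := by
  obtain ⟨B, gB, _, _, hBc, ⟨e⟩⟩ := hgood
  let BK := (Over.pullback (Spec.map (CommRingCat.ofHom (algebraMap R K)))).obj B
  haveI : GeometricallyConnected B.hom := ⟨fun k' _ y Z fst snd sq => by
    haveI := hBc k' y
    exact sq.isoPullback.inv.surjective.connectedSpace sq.isoPullback.inv.continuous⟩
  haveI : GeometricallyReduced B.hom := Groth.Agent.AV.geometricallyReduced_of_smooth B.hom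
  haveI : IsCommMonObj B := Groth.Agent.AV.isCommMonObj_base B
  haveI : IsProper BK.hom := inferInstanceAs (IsProper (pullback.snd B.hom _))
  let c : A ⟶ BK := (1 : A ⟶ A) ≫ e.inv
  let f : A ⟶ BK := e.inv * c⁻¹
  have hf : η[A] ≫ f = η[BK] := by
    have h1 : η[A] ≫ (1 : A ⟶ A) = η[A] := by
      rw [MonObj.comp_one, Hom.one_def, toUnit_unique (toUnit (𝟙_ (Over (Spec (CommRingCat.of K))))) (𝟙 _), Category.id_comp]
    simp only [f, c, MonObj.comp_mul, GrpObj.comp_inv, ← Category.assoc, h1, mul_inv_cancel]
    rw [Hom.one_def, toUnit_unique (toUnit (𝟙_ _)) (𝟙 _), Category.id_comp]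
  haveI : IsMonHom f := Groth.Agent.AV.isMonHom_of_one f hf
  have hmono : Mono f := ⟨fun {Z} a b h => by
    have h1 : ∀ v : Z ⟶ A, v ≫ f = (v ≫ e.inv) * ((1 : Z ⟶ A) ≫ e.inv)⁻¹ := fun v => by
      simp only [f, c, MonObj.comp_mul, GrpObj.comp_inv, ← Category.assoc, MonObj.comp_one]
    rw [h1, h1] at h
    exact (cancel_mono e.inv).1 (mul_right_cancel h)⟩
  intro ν σ hσ x hx
  rw [← cancel_mono f]
  have hu : IsUnit ((ℓ ^ ν : ℕ) : R) := by
    rw [Nat.cast_pow]
    refine IsUnit.pow _ (of_not_not fun h => hℓp ?_)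
    rw [← map_natCast (IsLocalRing.residue R), IsLocalRing.residue_eq_zero_iff]
    exact h
  have key := Groth.L26.Unramified.galAct_eq W hW B hu σ hσ (x ≫ f)
    (by rw [← MonObj.pow_comp, hx, MonObj.one_comp])
  simpa only [SGA7.galAct, Category.assoc] using key

end Groth.Agent.S3210
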