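import Groth.Agent.S19657
import Groth.Agent.L18.NeronGrp
import Groth.Agent.L26.Neron.Basic
import Groth.Agent.L26.Weil.Generic
import Groth.Agent.L07.DVRProper
import Mathlib.RingTheory.DedekindDomain.PID
import Mathlib.AlgebraicGeometry.Geometrically.Integral
import Mathlib.AlgebraicGeometry.Geometrically.Connected
import Groth.Statements.S3211
-- import your own Groth.Agent.* helpers here

set_option autoImplicit false
universe u
open CategoryTheory CategoryTheory.Limits AlgebraicGeometry MonObj
open SGA7

namespace Groth.Agent.S3211

/-- (i) ⟺ (iv): let R be a discrete valuation ring with fraction field K, A an abelian variety over K (a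
proper, geometrically integral group scheme) and N a Néron model of A over Spec R. Then A extends to
an abelian scheme over R (a proper smooth group scheme with connected geometric fibres and generic
fibre K-isomorphic to A) if and only if N is proper over Spec R. -/
theorem result (R : Type u) [CommRing R] [IsDomain R] [IsDiscreteValuationRing R]
    (A : Over (Spec (CommRingCat.of (FractionRing R)))) [GrpObj A] [IsProper A.hom] [GeometricallyIntegral A.hom]
    (N : Over (Spec (CommRingCat.of R))) (e : (Neron.genericFibre R).obj N ≅ A) (hN : Neron.IsNeronModelOf R N A e) :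
    (∃ (B : Over (Spec (CommRingCat.of R))) (_ : GrpObj B), IsProper B.hom ∧ Smooth B.hom ∧
        (∀ (k' : Type u) [Field k'] (t : Spec (CommRingCat.of k') ⟶ Spec (CommRingCat.of R)), ConnectedSpace ↑(pullback B.hom t)) ∧
        Nonempty ((Over.pullback (Spec.map (CommRingCat.ofHom (algebraMap R (FractionRing R))))).obj B ≅ A)) ↔ IsProper N.hom := by
  constructor
  · rintro ⟨B, hB, hBp, hBs, -, ⟨eB⟩⟩
    haveI : GrpObj (Over.mk B.hom) := hB
    have hBN : Neron.IsNeronModelOf R B A eB := by
      refine ⟨hBs, inferInstance, inferInstance, inferInstance, fun Y hY => ?_⟩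
      have hmap : Function.Bijective (fun g : Y ⟶ B => (Neron.genericFibre R).map g) := by
        refine (Groth.Agent.NeronL.map_bijective_iff (Neron.genPt R)).2 fun v hv => ?_
        obtain ⟨g, ⟨hg, hgv⟩, hu⟩ := Groth.L26.Weil.existsUnique_of_generic Y.hom B.hom v hv
        exact ⟨Over.homMk g hg, hgv, fun g' hg' => Over.OverMorphism.ext (hu g'.left ⟨Over.w g', hg'⟩)⟩
      refine ⟨fun a b hab => hmap.1 ((cancel_mono eB.hom).1 hab), fun v => ?_⟩
      obtain ⟨g, hg⟩ := hmap.2 (v ≫ eB.inv)
      exact ⟨g, (congrArg (· ≫ eB.hom) hg).trans (by rw [Category.assoc, eB.inv_hom_id, Category.comp_id])⟩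
    obtain ⟨⟨ψ, hψ, -⟩, hiso⟩ := Groth.Agent.NeronL.neron_unique R A N B e eB hN hBN
    haveI := hiso ψ hψ
    haveI : IsIso ψ.left := inferInstanceAs (IsIso ((Over.forget _).map ψ))
    rw [← Over.w ψ]
    infer_instance
  · intro hp
    obtain ⟨hNs, hNsep, hNl, hNqc, hmap⟩ := hN
    obtain ⟨hG⟩ := Groth.L18.NeronGrp.exists_grpObj e hmap
    letI := hG
    haveI : GeometricallyConnected A.hom := ⟨fun L _ y Z fst snd h => by
      haveI : IsIntegral Z := GeometricallyIntegral.geometrically_isIntegral (f := A.hom) y fst snd h
      exact inferInstance⟩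
    haveI : IsIso e.hom.left := inferInstanceAs (IsIso ((Over.forget _).map e.hom))
    have hgc : GeometricallyConnected ((Neron.genericFibre R).obj N).hom := by
      rw [← Over.w e.hom]
      exact (MorphismProperty.cancel_left_of_respectsIso @GeometricallyConnected e.hom.left A.hom).2 inferInstance
    have hsec : (MonObj.one (X := N)).left ≫ N.hom = 𝟙 _ := Over.w _
    haveI : Surjective N.hom := ⟨fun p => ⟨(MonObj.one (X := N)).left p, by
      rw [← Scheme.Hom.comp_apply, hsec]; rfl⟩⟩
    haveI : LocallyOfFinitePresentation N.hom := inferInstance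
    obtain ⟨-, -, hN3⟩ := Groth.Agent.S19657.result N.hom (fun s => MorphismProperty.pullback_snd (P := @Smooth) _ _ hNs)
      (fun s => MorphismProperty.pullback_snd (P := @IsProper) _ _ hp)
      (fun p hpmin => by
        have h0 : (Neron.genPt R) (IsLocalRing.closedPoint (FractionRing R)) = (⟨⊥, Ideal.isPrime_bot⟩ : PrimeSpectrum R) := by
          refine PrimeSpectrum.ext ?_
          show (IsLocalRing.maximalIdeal (FractionRing R)).comap (algebraMap R (FractionRing R)) = ⊥
          rw [IsLocalRing.isField_iff_maximalIdeal_eq.1 (Field.toIsField (FractionRing R)), ← RingHom.ker_eq_comap_bot]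
          exact (RingHom.injective_iff_ker_eq_bot _).1 (IsFractionRing.injective R (FractionRing R))
        have he : p = (Neron.genPt R) (IsLocalRing.closedPoint (FractionRing R)) := by
          rw [h0]
          exact (hpmin _ ((PrimeSpectrum.le_iff_specializes (⟨⊥, Ideal.isPrime_bot⟩ : PrimeSpectrum R) p).1 bot_le)).symm
        subst he
        haveI : IsPreimmersion (Neron.genPt R) :=
          IsPreimmersion.of_isLocalization (R := R) (S := FractionRing R) (nonZeroDivisors R)
        obtain ⟨r, hr, hbij⟩ := Groth.L07.DVRProper.exists_residueField_bijective (Neron.genPt R)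
        haveI : IsIso r := (ConcreteCategory.isIso_iff_bijective r).2 hbij
        have hi : inv (Spec.map r) ≫ Neron.genPt R = (Spec (CommRingCat.of R)).fromSpecResidueField _ :=
          (IsIso.inv_comp_eq _).2 hr.symm
        show GeometricallyConnected (pullback.snd N.hom ((Spec (CommRingCat.of R)).fromSpecResidueField _))
        rw [← hi]
        have h2 := MorphismProperty.pullback_snd (P := @GeometricallyConnected)
          (pullback.snd N.hom (Neron.genPt R)) (inv (Spec.map r)) hgc
        rwa [← pullbackLeftPullbackSndIso_hom_snd,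
          MorphismProperty.cancel_left_of_respectsIso @GeometricallyConnected] at h2)
    exact ⟨N, hG, hp, hNs, fun k' _ t =>
      GeometricallyConnected.geometrically_connectedSpace (f := N.hom) t _ _ (IsPullback.of_hasPullback _ _), ⟨e⟩⟩

end Groth.Agent.S3211
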