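import Groth.Statements.S3213
import Groth.Agent.L28.QLinear

set_option autoImplicit false
universe u v
open SGA7II

namespace Groth.Agent.S3213

/-- Let k be a separably closed field of characteristic p > 0, q = p^r (r >= 1), V a finite-dimensional
k-vector space and phi : V -> V additive with phi(c v) = c^q phi(v). Then the additive map v |-> v -
phi(v) is surjective. -/
theorem result (k : Type u) [Field k] [IsSepClosed k] (p : ℕ) [Fact p.Prime] [CharP k p]
    (r : ℕ) (hr : 0 < r) (V : Type v) [AddCommGroup V] [Module k V] [FiniteDimensional k V] (φ : V →+ V)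
    (hφ : ∀ (c : k) (v : V), φ (c • v) = c ^ (p ^ r) • φ v) :
    Function.Surjective (fun v : V => v - φ v) := by
  classical
  intro y
  let φs := Groth.L28.QLinear.toSemilinear φ hφ
  obtain ⟨N, hN⟩ := Groth.L28.QLinear.exists_iterate_mem_fixSpan hr φs
  obtain ⟨b, hb⟩ := Groth.L28.QLinear.exists_basis_fixSpan φs
  have hy : φs^[N] y ∈ Groth.L28.QLinear.fixSpan φs := hN N le_rfl ▸ Submodule.subset_span ⟨y, rfl⟩
  have hsum : φs^[N] y = ∑ i, b.repr ⟨_, hy⟩ i • (b i : V) := by
    have h := congrArg Subtype.val (b.sum_repr ⟨_, hy⟩)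
    rw [Submodule.coe_sum] at h
    exact h.symm
  choose x hx using fun i => Groth.L28.QLinear.exists_pow_sub_self (p := p) hr (b.repr ⟨_, hy⟩ i)
  refine ⟨(∑ i ∈ Finset.range N, φs^[i] y) + ∑ i, x i • (b i : V), ?_⟩
  show _ - φs (_ + _) = y
  rw [map_add, map_sum, map_sum]
  have h1 : ∑ i ∈ Finset.range N, φs (φs^[i] y) = ∑ i ∈ Finset.range N, φs^[i] y + φs^[N] y - y := by
    have h := Finset.sum_range_succ' (fun i => φs^[i] y) N
    rw [Finset.sum_range_succ] at h
    simp only [Function.iterate_succ_apply', Function.iterate_zero_apply] at h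
    rw [h]; abel
  have h2 : ∑ i, φs (x i • (b i : V)) = ∑ i, x i • (b i : V) - φs^[N] y := by
    rw [hsum, ← Finset.sum_sub_distrib]
    refine Finset.sum_congr rfl fun i _ => ?_
    rw [Groth.L28.QLinear.map_smul_pow, hb, ← sub_smul]
    congr 1
    linear_combination hx i
  rw [h1, h2]
  abel

end Groth.Agent.S3213
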