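import Groth.Statements.S3214
import Mathlib.RingTheory.Polynomial.Vieta
import Mathlib.Algebra.Polynomial.Div

set_option autoImplicit false
open Polynomial
universe u
open SGA7II

namespace Groth.Agent.S3214

/-- In the recursive form established in its proof: let A = Z[X_1, ..., X_a] (a >= 1), P = prod_i (T -
X_i) in A[T] and S_i the i-th elementary symmetric function. Writing a_j for the coefficient of
T^{a-1} in the remainder of T^{a-1+j} modulo P, one has a_0 = 1 and sum_{i=0}^{a} (-1)^i S_i a_{j-i}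
= 0 for every j > 0 (with a_m = 0 for m < 0); equivalently sum_j (-1)^j a_j is the inverse of sum_i
S_i. (The source works in formal power series; the identity involves only polynomials.) -/
theorem result (a : ℕ) (ha : 0 < a) :
    let P : (MvPolynomial (Fin a) ℤ)[X] := ∏ i : Fin a, (X - C (MvPolynomial.X i))
    let coef : ℤ → MvPolynomial (Fin a) ℤ := fun j =>
      if j < 0 then 0 else ((X : (MvPolynomial (Fin a) ℤ)[X]) ^ (a - 1 + j.toNat) %ₘ P).coeff (a - 1)
    coef 0 = 1 ∧ ∀ j : ℕ, 0 < j →
      (∑ i ∈ Finset.range (a + 1), (-1 : MvPolynomial (Fin a) ℤ) ^ i * MvPolynomial.esymm (Fin a) ℤ i *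
        coef ((j : ℤ) - i)) = 0 := by
  intro P coef
  have hm : P.Monic := Polynomial.monic_prod_of_monic _ _ (fun i _ => Polynomial.monic_X_sub_C _)
  have hdeg : P.degree = a := by
    simp [P, Polynomial.degree_prod]
  have hsmall : ∀ e : ℕ, e < a → ((Polynomial.X : (MvPolynomial (Fin a) ℤ)[X]) ^ e %ₘ P) = Polynomial.X ^ e := by
    intro e he
    rw [Polynomial.modByMonic_eq_self_iff hm, hdeg, Polynomial.degree_X_pow]
    exact_mod_cast he
  have hP : P = ∑ i ∈ Finset.range (a + 1),
      ((-1 : MvPolynomial (Fin a) ℤ) ^ i * MvPolynomial.esymm (Fin a) ℤ i) • (Polynomial.X : (MvPolynomial (Fin a) ℤ)[X]) ^ (a - i) := by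
    have h := Multiset.prod_X_sub_X_eq_sum_esymm
      ((Finset.univ : Finset (Fin a)).val.map (MvPolynomial.X : Fin a → MvPolynomial (Fin a) ℤ))
    rw [Multiset.map_map, Multiset.card_map, Finset.card_val, Finset.card_univ, Fintype.card_fin] at h
    refine h.trans (Finset.sum_congr rfl fun i _ => ?_)
    rw [MvPolynomial.esymm_eq_multiset_esymm, Polynomial.smul_eq_C_mul, map_mul, map_pow, map_neg, map_one,
      mul_assoc]
  have hcoef : ∀ e : ℕ, ((Polynomial.X : (MvPolynomial (Fin a) ℤ)[X]) ^ e %ₘ P).coeff (a - 1) = coef ((e : ℤ) - ((a - 1 : ℕ) : ℤ)) := by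
    intro e
    simp only [coef]
    by_cases h : e < a - 1
    · rw [if_pos (by omega), hsmall e (by omega), Polynomial.coeff_X_pow, if_neg (by omega)]
    · rw [if_neg (by omega), show a - 1 + ((e : ℤ) - ((a - 1 : ℕ) : ℤ)).toNat = e by omega]
  constructor
  · simp only [coef]
    rw [if_neg (by omega), Int.toNat_zero, add_zero, hsmall _ (by omega), Polynomial.coeff_X_pow_self]
  · intro j hj
    have h0 : ((Polynomial.X : (MvPolynomial (Fin a) ℤ)[X]) ^ (j - 1) * P) %ₘ P = 0 := by
      rw [Polynomial.modByMonic_eq_zero_iff_dvd hm]; exact dvd_mul_left _ _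
    conv_lhs at h0 => arg 1; rw [hP]
    rw [Finset.mul_sum] at h0
    have h1 := congrArg (fun q : (MvPolynomial (Fin a) ℤ)[X] => q.coeff (a - 1))
      ((map_sum (Polynomial.modByMonicHom P) _ _).symm.trans h0)
    simp only [Polynomial.finsetSum_coeff, Polynomial.coeff_zero] at h1
    rw [← h1]
    refine Finset.sum_congr rfl fun i hi => ?_
    rw [Finset.mem_range] at hi
    rw [mul_smul_comm, ← pow_add, map_smul, Polynomial.coeff_smul, smul_eq_mul]
    show _ = _ * ((Polynomial.X : (MvPolynomial (Fin a) ℤ)[X]) ^ (j - 1 + (a - i)) %ₘ P).coeff (a - 1)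
    rw [hcoef]
    congr 2
    omega

end Groth.Agent.S3214
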