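import Groth.Statements.S3240
import Groth.Agent.L28.CurveCd.Torsion
import Groth.Agent.L27.Colim.RpushTorsion

set_option autoImplicit false
set_option linter.style.haveILetI false
set_option backward.isDefEq.respectTransparency.types false
universe u
open CategoryTheory CategoryTheory.Limits AlgebraicGeometry Opposite
open Dix
open Groth.L28.CurveCd Groth.L27.Colim

namespace Groth.Agent.S3240

theorem isTorsion_homology_point {X : Scheme.{u}} (x : X) {F : EtCoh.Ab (Spec (X.residueField x))}
    (R : InjectiveResolution F) (p : ℕ) :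
    EtCoh.IsTorsion ((((EtCoh.push (X.fromSpecResidueField x)).mapHomologicalComplex _).obj R.cocomplex).homology
      (p + 1)) := by
  intro U s u
  let f := X.fromSpecResidueField x
  haveI := isAffineHom_fromSpecResidueField x
  let K := ((EtCoh.push f).mapHomologicalComplex (ComplexShape.up ℕ)).obj R.cocomplex
  have : Sheaf.IsLocallySurjective (K.homologyπ (p + 1)) :=
    (Sheaf.isLocallySurjective_iff_epi' (φ := K.homologyπ (p + 1))).2 inferInstance
  obtain ⟨V₁, g₁, v₁, ⟨c₁, hc₁⟩, hv₁⟩ :=
    (Groth.L27.EtSite.mem_topology_iff _).1 (Presheaf.imageSieve_mem X.smallEtaleTopology (K.homologyπ (p + 1)).hom s) u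
  let hV : V₁.left ⟶ X := V₁.hom
  haveI : AlgebraicGeometry.Etale hV := V₁.prop
  obtain ⟨_, ⟨(O : V₁.left.Opens), hO, rfl⟩, hvO, -⟩ :=
    V₁.left.isBasis_affineOpens.exists_subset_of_mem_open (Set.mem_univ v₁) isOpen_univ
  let V : X.Etale := Scheme.Etale.mk (O.ι ≫ hV)
  let g : V ⟶ V₁ := MorphismProperty.Over.homMk O.ι rfl
  refine ⟨V, g ≫ g₁, ⟨⟨v₁, hvO⟩, (Scheme.Hom.comp_apply _ _ _).trans hv₁⟩, ?_⟩
  let c := (K.cycles (p + 1)).obj.map g.op c₁
  have hc : (K.homologyπ (p + 1)).hom.app (op V) c = (K.homology (p + 1)).obj.map (g ≫ g₁).op s :=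
    (NatTrans.naturality_apply (K.homologyπ (p + 1)).hom g.op c₁).trans
      ((congrArg ((K.homology (p + 1)).obj.map g.op) hc₁).trans (map_comp (K.homology (p + 1)) g g₁ s))
  let W := (EtCoh.bc f).obj V
  let v' : V.left ⟶ X := V.hom
  have hfst : IsAffineHom (pullback.fst v' f) := MorphismProperty.pullback_fst (P := @IsAffineHom) v' f inferInstance
  haveI : IsAffine W.left := @isAffine_of_isAffineHom _ _ (pullback.fst v' f) hfst hO
  let z : (R.cocomplex.X (p + 1)).obj.obj (op W) := (K.iCycles (p + 1)).hom.app (op V) c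
  haveI hepi : Epi (R.cocomplex.toCycles p (p + 1)) := by
    have hz : IsZero (R.cocomplex.homology (p + 1)) :=
      (R.cocomplex.exactAt_iff_isZero_homology (p + 1)).1 (R.cocomplex_exactAt_succ p)
    exact Preadditive.epi_of_isZero_cokernel' _
      (R.cocomplex.homologyIsCokernel p (p + 1) (CochainComplex.prev_nat_succ p)) hz
  let E : ShortComplex (EtCoh.Ab (Spec (X.residueField x))) :=
    ShortComplex.mk (kernel.ι (R.cocomplex.toCycles p (p + 1))) (R.cocomplex.toCycles p (p + 1)) (kernel.condition _)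
  have hE : E.ShortExact :=
    { exact := ShortComplex.exact_of_f_is_kernel _ (kernelIsKernel _)
      mono_f := inferInstanceAs (Mono (kernel.ι _))
      epi_g := hepi }
  have hzd : (R.cocomplex.d (p + 1) (p + 1 + 1)).hom.app (op W) z = 0 :=
    congr($(K.iCycles_d (p + 1) (p + 1 + 1)).hom.app (op V) c)
  let T : ShortComplex (EtCoh.Ab (Spec (X.residueField x))) :=
    ShortComplex.mk (R.cocomplex.iCycles (p + 1)) (R.cocomplex.d (p + 1) (p + 1 + 1)) (R.cocomplex.iCycles_d _ _)
  have hmono : Mono T.f := inferInstanceAs (Mono (R.cocomplex.iCycles (p + 1)))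
  let S := (sheafToPresheaf (Spec (X.residueField x)).smallEtaleTopology AddCommGrpCat.{u + 1}) ⋙
    (CategoryTheory.evaluation (Spec (X.residueField x)).Etaleᵒᵖ AddCommGrpCat.{u + 1}).obj (op W)
  have hexT : (T.map S).Exact := by
    have hk : IsLimit (KernelFork.ofι T.f T.zero) := R.cocomplex.cyclesIsKernel (p + 1) (p + 1 + 1) (CochainComplex.next ℕ (p + 1))
    exact ShortComplex.exact_of_f_is_kernel _ (KernelFork.mapIsLimit _ hk S)
  obtain ⟨z', hz'⟩ := (ShortComplex.ab_exact_iff _).1 hexT z hzd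
  obtain ⟨n, hn, y, hy⟩ := exists_nsmul_lift_field (K := X.residueField x) hE W z'
  refine isOfFinAddOrder_iff_nsmul_eq_zero.2 ⟨n, hn, ?_⟩
  have hd : (R.cocomplex.d p (p + 1)).hom.app (op W) y = n • z := by
    refine (congr($(R.cocomplex.toCycles_i p (p + 1)).hom.app (op W) y).symm).trans ?_
    refine (congrArg ((R.cocomplex.iCycles (p + 1)).hom.app (op W)) hy).trans ?_
    exact (map_nsmul ((R.cocomplex.iCycles (p + 1)).hom.app (op W)).hom n z').trans (congrArg (n • ·) hz')
  have hcy : n • c = (K.toCycles p (p + 1)).hom.app (op V) y := by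
    have hmono : Mono ((sheafToPresheaf X.smallEtaleTopology AddCommGrpCat.{u + 1}).map (K.iCycles (p + 1))) :=
      inferInstance
    apply (AddCommGrpCat.mono_iff_injective _).1 ((NatTrans.mono_iff_mono_app _).1 hmono (op V))
    refine (map_nsmul ((K.iCycles (p + 1)).hom.app (op V)).hom n c).trans ?_
    exact hd.symm.trans congr($(K.toCycles_i p (p + 1)).hom.app (op V) y).symm
  rw [← hc, ← map_nsmul, hcy]
  exact congr($(K.toCycles_comp_homologyπ p (p + 1)).hom.app (op V) y)

/-- Let X be quasi-compact and quasi-separated, x a point of X with i_x : Spec κ(x) → X, and F an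
abelian étale sheaf on Spec κ(x). Then for every q ≥ 1 the sheaf R^q i_{x*} F is a torsion sheaf on
X_ét and the group H^q(X_ét, i_{x*} F) is a torsion group. -/
theorem result (X : Scheme.{u}) [CompactSpace X] [QuasiSeparatedSpace X] (x : X) (F : EtCoh.Ab (Spec (X.residueField x))) (q : ℕ) (hq : 1 ≤ q) : EtCoh.IsTorsion ((EtCoh.Rpush (X.fromSpecResidueField x) q).obj F) ∧ IsAddTorsion (EtCoh.H X ((Dix.skyPush X x).obj F) q) := by
  obtain ⟨p, rfl⟩ : ∃ p, q = p + 1 := ⟨q - 1, by omega⟩
  exact ⟨isTorsion_of_iso ((injectiveResolution F).isoRightDerivedObj (EtCoh.push (X.fromSpecResidueField x)) (p + 1)).symm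
      (isTorsion_homology_point x (injectiveResolution F) p),
    isAddTorsion_H_push x p F⟩

end Groth.Agent.S3240
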