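import Groth.Statements.S3242
import Groth.Agent.L28.CurveCd.Torsion

set_option autoImplicit false
universe u
open CategoryTheory AlgebraicGeometry
open Dix

namespace Groth.Agent.S3242

/-- Let X be a reduced noetherian scheme of dimension ≤ 1. Then H^q(X_ét, G_m) is a torsion group for
every q ≥ 2 (the reducedness hypothesis is the standing assumption of the published statement, made
explicit here). -/
theorem result (X : Scheme.{u}) [IsNoetherian X] [IsReduced X] (hdim : topologicalKrullDim X ≤ 1) (q : ℕ) (hq : 2 ≤ q) : IsAddTorsion (EtCoh.H X (EtCoh.Gm X) q) := by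
  obtain ⟨i, rfl⟩ : ∃ i, q = i + 2 := ⟨q - 2, by omega⟩
  exact Groth.L28.CurveCd.isAddTorsion_H hdim (EtCoh.Gm X) i

end Groth.Agent.S3242
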