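import Groth.Statements.S3248
import Groth.Agent.L11.CSA.Skolem
import Mathlib.LinearAlgebra.Matrix.ToLin
import Mathlib.LinearAlgebra.FreeModule.Finite.Matrix

set_option autoImplicit false
universe u
open TensorProduct
open Dix

namespace Groth.Agent.S3248

/-- Stated for a commutative subalgebra: let A be a central simple algebra of dimension r² over a field
k and L a commutative k-algebra embedded in A by an injective k-algebra homomorphism ι, such that A
is free of rank r for the right L-module structure a · l = a ι(l) (given here as a module structure
together with that compatibility). Then L ⊗_k A is isomorphic as an L-algebra to the matrix algebra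
M_r(L). (Only the existence of an isomorphism is stated; the text names the map a ⊗ l ↦ (y ↦ a y
l).) -/
theorem result (k : Type u) [Field k] (A : Type u) [Ring A] [Algebra k A] [Algebra.IsCentral k A] [IsSimpleRing A] [FiniteDimensional k A] (L : Type u) [CommRing L] [Algebra k L] (ι : L →ₐ[k] A) (hι : Function.Injective ι) [Module L A] (hmod : ∀ (l : L) (a : A), l • a = a * ι l) [Module.Free L A] (r : ℕ) (hr : 0 < r) (hA : Module.finrank k A = r ^ 2) (hrank : Module.finrank L A = r) : Nonempty ((L ⊗[k] A) ≃ₐ[L] Matrix (Fin r) (Fin r) L) := by
  classical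
  have hc : ∀ (l : L) (a b : A), l • (a * b) = a * (l • b) := fun l a b => by rw [hmod, hmod, mul_assoc]
  have : IsScalarTower k L A := ⟨fun c l a => by rw [hmod, hmod, map_smul, mul_smul_comm]⟩
  have : SMulCommClass L k A := ⟨fun l c a => by rw [hmod, hmod, smul_mul_assoc]⟩
  have : FiniteDimensional k L := FiniteDimensional.of_injective ι.toLinearMap hι
  have : Nontrivial L := ι.toRingHom.domain_nontrivial
  have : Module.Finite L A := Module.Finite.of_restrictScalars_finite k L A
  let g : A →ₐ[k] Module.End L A :=
    { toFun := fun a =>
        { toFun := fun x => a * x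
          map_add' := mul_add a
          map_smul' := fun l x => (hc l a x).symm }
      map_one' := LinearMap.ext fun x => one_mul x
      map_mul' := fun a b => LinearMap.ext fun x => mul_assoc a b x
      map_zero' := LinearMap.ext fun x => zero_mul x
      map_add' := fun a b => LinearMap.ext fun x => add_mul a b x
      commutes' := fun c => LinearMap.ext fun x => by
        show algebraMap k A c * x = _
        rw [← Algebra.smul_def]; rfl }
  let Φ : L ⊗[k] A →ₐ[L] Module.End L A :=
    Algebra.TensorProduct.lift (Algebra.ofId L (Module.End L A)) g fun l a => by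
      refine LinearMap.ext fun x => ?_
      show l • (a * x) = a * (l • x)
      exact hc l a x
  let ψ : L ⊗[k] A →ₗ[k] A ⊗[k] Aᵐᵒᵖ :=
    (TensorProduct.comm k Aᵐᵒᵖ A).toLinearMap.comp
      (TensorProduct.map ((MulOpposite.opLinearEquiv k).toLinearMap.comp ι.toLinearMap) LinearMap.id)
  have hψ : Function.Injective ψ := by
    refine (TensorProduct.comm k Aᵐᵒᵖ A).injective.comp ?_
    have h1 : Function.Injective ((MulOpposite.opLinearEquiv k).toLinearMap.comp ι.toLinearMap) :=
      (MulOpposite.opLinearEquiv k).injective.comp hι
    exact Module.Flat.rTensor_preserves_injective_linearMap _ h1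
  have hrel : ∀ t x, Φ t x = AlgHom.mulLeftRight k A (ψ t) x := by
    intro t x
    induction t using TensorProduct.induction_on with
    | zero => simp
    | add u v hu hv => simp only [map_add, LinearMap.add_apply, hu, hv]
    | tmul l a =>
      simp only [Φ, ψ, Algebra.TensorProduct.lift_tmul, LinearMap.comp_apply, TensorProduct.map_tmul,
        LinearEquiv.coe_coe, TensorProduct.comm_tmul, LinearMap.id_apply, AlgHom.mulLeftRight_apply]
      show l • (a * x) = a * x * ι l
      exact hmod l _
  have hΦi : Function.Injective Φ := by
    intro s t hst
    apply hψ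
    apply (Groth.L11.CSA.mulLeftRight_bijective k A).1
    exact LinearMap.ext fun x => by rw [← hrel, ← hrel, hst]
  let b : Module.Basis (Fin r) L A := Module.finBasisOfFinrankEq L A hrank
  let e := algEquivMatrix b
  have hLr : Module.finrank k L = r := by
    have := Module.finrank_mul_finrank k L A
    rw [hA, hrank, pow_two] at this
    exact Nat.eq_of_mul_eq_mul_right hr this
  let Ψ : L ⊗[k] A →ₐ[L] Matrix (Fin r) (Fin r) L := e.toAlgHom.comp Φ
  have hΨi : Function.Injective Ψ := e.injective.comp hΦi
  have hd : Module.finrank k (L ⊗[k] A) = Module.finrank k (Matrix (Fin r) (Fin r) L) := by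
    rw [Module.finrank_tensorProduct, Module.finrank_matrix, hA, hLr, Fintype.card_fin]
    ring
  exact ⟨AlgEquiv.ofBijective Ψ ⟨hΨi,
    (LinearMap.injective_iff_surjective_of_finrank_eq_finrank hd (f := Ψ.toLinearMap.restrictScalars k)).mp hΨi⟩⟩

end Groth.Agent.S3248
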