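import Groth.Statements.S3252
import Mathlib.LinearAlgebra.Dual.Lemmas
import Mathlib.LinearAlgebra.Charpoly.Basic

set_option autoImplicit false
universe u
open Zeta

namespace Groth.Agent.S3252

/-- Let V and W be finite-dimensional vector spaces over a field L, B : V × W -> L a perfect pairing, F
an endomorphism of V and G an endomorphism of W with B(F v, G w) = c · B(v, w) for all v, w, where c
is a scalar (in the application, V = H^i, W = H^{2d-i}, F and G Frobenius, c = q^d). Then det F ·
det G = c ^ dim V. -/
theorem result (L : Type u) [Field L] (V W : Type u)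
    [AddCommGroup V] [Module L V] [FiniteDimensional L V] [AddCommGroup W] [Module L W] [FiniteDimensional L W]
    (B : V →ₗ[L] W →ₗ[L] L) [B.IsPerfPair] (F : V →ₗ[L] V) (G : W →ₗ[L] W) (c : L)
    (hFG : ∀ (v : V) (w : W), B (F v) (G w) = c * B v w) :
    LinearMap.det F * LinearMap.det G = c ^ Module.finrank L V := by
  let e := B.toPerfPair
  have h : G.dualMap ∘ₗ (e.toLinearMap ∘ₗ F ∘ₗ e.symm.toLinearMap) = c • LinearMap.id := by
    refine LinearMap.ext fun x => ?_
    obtain ⟨v, rfl⟩ := e.surjective x
    refine LinearMap.ext fun w => ?_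
    simp [e, hFG]
  have := congrArg LinearMap.det h
  rw [LinearMap.det_comp, LinearMap.det_conj, LinearMap.det_smul, LinearMap.det_id, mul_one,
    LinearMap.det_dualMap, Subspace.dual_finrank_eq] at this
  rw [e.finrank_eq, Subspace.dual_finrank_eq, mul_comm, this]

end Groth.Agent.S3252
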