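import Groth.Statements.S3257
import Groth.Agent.L05.PointBlowArith.Factor
import Groth.Agent.S11555

set_option autoImplicit false
universe u
open AlgebraicGeometry CategoryTheory CategoryTheory.Limits
open ArSurf

namespace Groth.Agent.S3257

/-- Let R be a Dedekind domain, X and Y arithmetic surfaces over Spec R, f : X -> Y an R-morphism and y
a closed point of Y such that f restricts to an isomorphism over Y minus y while the fibre of f over
y is irreducible and has more than one point (so the exceptional locus of the birational morphism f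
is irreducible). Then f is the blowing-up of Y at y: it has the universal property of the blow-up
along the ideal of the reduced closed point y (BlowUp.IsBlowUp). (The factorization result of the
source says more generally that every birational morphism of regular fibered surfaces is a finite
sequence of blow-ups of closed points.) -/
theorem result {R : Type u} [CommRing R] [IsDedekindDomain R]
    (X Y : Over (Spec (CommRingCat.of R))) (hX : ArSurf.IsArithSurface R X) (hY : ArSurf.IsArithSurface R Y)
    (f : X ⟶ Y) (y : Y.left) (hy : IsClosed ({y} : Set Y.left))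
    (hiso : IsIso (f.left ∣_ (⟨{y}ᶜ, hy.isOpen_compl⟩ : Y.left.Opens)))
    (hirr : IsPreirreducible (f.left.base ⁻¹' {y}))
    (hbig : ∃ x x' : X.left, x ≠ x' ∧ f.left.base x = y ∧ f.left.base x' = y) :
    BlowUp.IsBlowUp f.left (Scheme.IdealSheafData.vanishingIdeal ⟨{y}, hy⟩) := by
  obtain ⟨hrX, hiX, hdX, -, n, i, hi, hiX'⟩ := hX
  obtain ⟨hrY, hiY, hdY, -, m, j, hj, hjY'⟩ := hY
  haveI := hiX; haveI := hiY; haveI := hi; haveI := hj
  haveI : IsProper (CohB1.ProjSpaceOver.toBase n (Spec (CommRingCat.of R))) :=
    MorphismProperty.pullback_snd (P := @IsProper) _ _ inferInstance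
  haveI : IsProper (CohB1.ProjSpaceOver.toBase m (Spec (CommRingCat.of R))) :=
    MorphismProperty.pullback_snd (P := @IsProper) _ _ inferInstance
  haveI : IsProper X.hom := hiX' ▸ inferInstance
  haveI : IsProper Y.hom := hjY' ▸ inferInstance
  haveI : IsProper (f.left ≫ Y.hom) := by rw [Over.w f]; infer_instance
  haveI : IsProper f.left := IsProper.of_comp f.left Y.hom
  haveI : IsLocallyNoetherian X.left := LocallyOfFiniteType.isLocallyNoetherian X.hom
  haveI : IsLocallyNoetherian Y.left := LocallyOfFiniteType.isLocallyNoetherian Y.hom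
  haveI : CompactSpace Y.left := QuasiCompact.compactSpace_of_compactSpace Y.hom
  haveI : IsNoetherian Y.left := {}
  obtain ⟨a, c, hac, ha, hc⟩ := hbig
  let W : Y.left.Opens := ⟨{y}ᶜ, hy.isOpen_compl⟩
  haveI : IsIso (f.left ∣_ W) := hiso
  have hgen : genericPoint Y.left ≠ y := fun h => by
    haveI : Subsingleton Y.left := ⟨fun p q => by
      have hp : ∀ z : Y.left, z = y := fun z => (h ▸ genericPoint_specializes z).mem_closed hy rfl
      rw [hp p, hp q]⟩
    haveI : DiscreteTopology Y.left := Subsingleton.discreteTopology
    have h0 := topologicalKrullDim_zero_of_discreteTopology Y.left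
    rw [hdY] at h0
    exact absurd h0 (by norm_num)
  have hYn : Pi1.IsNormalScheme Y.left := fun z => by
    haveI := hrY z
    haveI := Groth.L01.isDomain_of_regular (Y.left.presheaf.stalk z)
    exact ⟨inferInstance, Groth.L03.RegularNormal.isIntegrallyClosed _⟩
  obtain ⟨x₀, hx₀⟩ := (f.left ∣_ W).surjective ⟨genericPoint Y.left, hgen⟩
  have hfx : f.left x₀.1 = genericPoint Y.left := by rw [← morphismRestrict_base_coe, hx₀]
  have hξ : f.left (genericPoint X.left) = genericPoint Y.left :=
    (Specializes.antisymm (hfx ▸ (genericPoint_specializes x₀.1).map f.left.continuous) (genericPoint_specializes _)).eq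
  have hmem : genericPoint X.left ∈ f.left ⁻¹ᵁ W := by show f.left (genericPoint X.left) ≠ y; rw [hξ]; exact hgen
  have hbir : Function.Bijective (f.left.stalkMap (genericPoint X.left)) := by
    rw [← ConcreteCategory.isIso_iff_bijective]
    exact ((MorphismProperty.isomorphisms CommRingCat).arrow_mk_iso_iff
      (morphismRestrictStalkMap f.left W ⟨_, hmem⟩)).1
      (inferInstance : IsIso ((f.left ∣_ W).stalkMap ⟨_, hmem⟩))
  obtain ⟨V, hV, -, hVd⟩ := Groth.Agent.S11555.result f.left hYn hξ hbir
  have hd : ringKrullDim (Y.left.presheaf.stalk y) = (2 : ℕ) := by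
    refine le_antisymm ((Groth.L15.CohFlat.ringKrullDim_stalk_le y).trans hdY.le) (hVd y fun hyV => ?_)
    haveI := hV
    exact hac (Groth.L05.PointBlowArith.eq_of_isIso_restrict f.left V
      (by rw [show f.left a = y from ha]; exact hyV) (ha.trans hc.symm))
  exact Groth.L05.PointBlowArith.isBlowUp_of_irreducible_fibre f.left hrX hrY hdX.le hdY.le hy hiso hgen hd hirr
    ⟨a, c, hac, ha, hc⟩

end Groth.Agent.S3257
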