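import Groth.Statements.S3258
import Groth.Agent.L05.SmoothRelMin.Main

set_option autoImplicit false
universe u
open AlgebraicGeometry CategoryTheory CategoryTheory.Limits
open ArSurf

namespace Groth.Agent.S3258

/-- Let R be a Dedekind domain and X an arithmetic surface over Spec R (a regular, integral scheme of
dimension 2, flat and projective over Spec R) which is smooth over Spec R. Then X is relatively
minimal: every R-morphism from X to a regular, projective, flat R-scheme that is an isomorphism on
generic fibres is an isomorphism. -/
theorem result {R : Type u} [CommRing R] [IsDedekindDomain R]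
    (X : Over (Spec (CommRingCat.of R))) (hX : ArSurf.IsArithSurface R X) [Smooth X.hom] :
    Neron.IsRelMinimalRegularModel R X := by
  obtain ⟨hreg, hint, hd, hflat, hproj⟩ := hX
  haveI := hint
  refine ⟨hreg, hproj, hflat, fun Y hY hpY hfY g hg => ?_⟩
  obtain ⟨n, i, hi, hiX⟩ := hproj
  obtain ⟨m, j, hj, hjY⟩ := hpY
  haveI := hi; haveI := hj; haveI := hfY
  haveI : IsProper (CohB1.ProjSpaceOver.toBase n (Spec (CommRingCat.of R))) :=
    MorphismProperty.pullback_snd (P := @IsProper) _ _ inferInstance
  haveI : IsProper (CohB1.ProjSpaceOver.toBase m (Spec (CommRingCat.of R))) :=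
    MorphismProperty.pullback_snd (P := @IsProper) _ _ inferInstance
  haveI : IsProper X.hom := hiX ▸ inferInstance
  haveI : IsProper Y.hom := hjY ▸ inferInstance
  exact Groth.L05.SmoothRelMin.isIso_of_smooth X Y hd.le hY g hg

end Groth.Agent.S3258
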