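import Groth.Statements.S3259
import Groth.Agent.L06.ImmImage
import Groth.Agent.L05.EulerIndex.Closure
import Groth.Prelude.Def_CohB1
import Mathlib.AlgebraicGeometry.Morphisms.Smooth
import Mathlib.AlgebraicGeometry.Morphisms.SchemeTheoreticallyDominant
set_option autoImplicit false
universe u
open AlgebraicGeometry CategoryTheory CategoryTheory.Limits
open ArSurf

namespace Groth.Agent.S3259

set_option backward.isDefEq.respectTransparency false
set_option backward.isDefEq.respectTransparency.types false
set_option linter.style.haveILetI false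

/-- A flat preimmersion induces isomorphisms of local rings. -/
theorem bijective_stalkMap {X Y : Scheme.{u}} (f : X ⟶ Y) [Flat f] [IsPreimmersion f] (x : X) :
    Function.Bijective (f.stalkMap x) := by
  refine ⟨?_, f.stalkMap_surjective x⟩
  algebraize [(f.stalkMap x).hom]
  haveI : Module.Flat (Y.presheaf.stalk (f x)) (X.presheaf.stalk x) := Flat.stalkMap f x
  haveI : IsLocalHom (algebraMap (Y.presheaf.stalk (f x)) (X.presheaf.stalk x)) :=
    inferInstanceAs (IsLocalHom (f.stalkMap x).hom)
  haveI := Module.FaithfullyFlat.of_flat_of_isLocalHom (A := Y.presheaf.stalk (f x)) (B := X.presheaf.stalk x)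
  exact FaithfulSMul.algebraMap_injective (Y.presheaf.stalk (f x)) (X.presheaf.stalk x)


/-- Let R be a Dedekind domain with fraction field K and C a smooth projective curve over K (smooth,
proper, of dimension 1, admitting a closed immersion into some P^n_K). Then there are a non-empty
open subscheme U of Spec R containing the generic point and a smooth proper morphism 𝒞 -> U whose
fibre over the generic point is K-isomorphic to C. In particular C has good reduction at every
closed point of U, that is, at all but finitely many closed points. (Stated in the form the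
published proof gives.) -/
theorem result {R : Type u} [CommRing R] [IsDedekindDomain R]
    (C : Over (Spec (CommRingCat.of (FractionRing R)))) [Smooth C.hom] [IsProper C.hom]
    (hdim : topologicalKrullDim C.left = 1) (hproj : Neron.IsProjectiveOver (FractionRing R) C) :
    ∃ (U : (Spec (CommRingCat.of R)).Opens) (ξ : Spec (CommRingCat.of (FractionRing R)) ⟶ (U : Scheme.{u}))
      (𝒞 : Scheme.{u}) (π : 𝒞 ⟶ (U : Scheme.{u})),
      ξ ≫ U.ι = Neron.genPt R ∧ Smooth π ∧ IsProper π ∧
      Nonempty (Over.mk (pullback.snd π ξ) ≅ C) := by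
  obtain ⟨n, j, hjc, hj⟩ := hproj
  haveI := hjc
  let K := FractionRing R
  let γ : Spec (CommRingCat.of K) ⟶ Spec (CommRingCat.of R) := Neron.genPt R
  haveI : Flat γ := Flat.SpecMap_iff.2 (RingHom.flat_algebraMap_iff.2 (IsLocalization.flat K (nonZeroDivisors R)))
  haveI : IsPreimmersion γ := IsPreimmersion.of_isLocalization (nonZeroDivisors R)
  haveI : IsNoetherianRing (CommRingCat.of R) := inferInstanceAs (IsNoetherianRing R)
  -- projective spaces
  let pK : CohB1.ProjSpaceOver n (Spec (CommRingCat.of K)) ⟶ CohB1.ProjSpaceOver n (Spec (CommRingCat.of R)) :=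
    pullback.lift (pullback.fst _ _) (CohB1.ProjSpaceOver.toBase n _ ≫ γ)
      (by rw [pullback.condition, Category.assoc]; exact congrArg _ (specULiftZIsTerminal.hom_ext _ _))
  have hpb : IsPullback pK (CohB1.ProjSpaceOver.toBase n (Spec (CommRingCat.of K)))
      (CohB1.ProjSpaceOver.toBase n (Spec (CommRingCat.of R))) γ := by
    refine IsPullback.of_right (h₁₂ := pullback.fst _ _) (h₂₂ := specULiftZIsTerminal.from _) ?_
      (pullback.lift_snd _ _ _) (IsPullback.of_hasPullback _ _)
    rw [pullback.lift_fst, show γ ≫ specULiftZIsTerminal.from _ =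
      specULiftZIsTerminal.from _ from specULiftZIsTerminal.hom_ext _ _]
    exact IsPullback.of_hasPullback _ _
  haveI : QuasiCompact pK := MorphismProperty.of_isPullback (P := @QuasiCompact) hpb.flip inferInstance
  haveI : IsProper (CohB1.ProjSpaceOver.toBase n (Spec (CommRingCat.of R))) :=
    MorphismProperty.pullback_snd (P := @IsProper) _ _ inferInstance
  haveI : IsLocallyNoetherian (CohB1.ProjSpaceOver n (Spec (CommRingCat.of R))) :=
    LocallyOfFiniteType.isLocallyNoetherian (CohB1.ProjSpaceOver.toBase n (Spec (CommRingCat.of R)))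
  -- the closure
  let g₀ := j ≫ pK
  haveI : QuasiCompact g₀ := inferInstance
  let q : g₀.image ⟶ Spec (CommRingCat.of R) := g₀.imageι ≫ CohB1.ProjSpaceOver.toBase n _
  let g : C.left ⟶ g₀.image := g₀.toImage
  have hgq : g ≫ q = C.hom ≫ γ := by
    rw [← Category.assoc, g₀.toImage_imageι, Category.assoc, hpb.w, ← Category.assoc, hj]
  haveI : IsSchemeTheoreticallyDominant g := Groth.L06.ImmImage.toImage_ker_eq_bot g₀
  haveI : QuasiCompact g := inferInstanceAs (QuasiCompact g₀.toImage)
  haveI : IsProper q := inferInstanceAs (IsProper (g₀.imageι ≫ _))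
  haveI : LocallyOfFinitePresentation q := inferInstance
  let g' : C.left ⟶ pullback q γ := pullback.lift g C.hom hgq
  let pr : pullback q γ ⟶ g₀.image := pullback.fst q γ
  haveI : Flat pr := MorphismProperty.pullback_fst _ _ inferInstance
  haveI : IsPreimmersion pr := MorphismProperty.pullback_fst _ _ inferInstance
  have hg' : g' ≫ pr = g := pullback.lift_fst _ _ _
  have hsq : IsPullback (𝟙 C.left) g' g pr := by
    refine IsPullback.of_isLimit' ⟨by rw [hg', Category.id_comp]⟩
      (PullbackCone.isLimitAux' _ fun s => ⟨s.fst, Category.comp_id _, ?_, fun {m} h₁ _ => ?_⟩)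
    · haveI : Mono pr := inferInstance
      rw [← cancel_mono pr]
      show (s.fst ≫ g') ≫ pr = s.snd ≫ pr
      rw [Category.assoc, hg']
      exact s.condition
    · exact (Category.comp_id m).symm.trans h₁
  haveI : IsSchemeTheoreticallyDominant g' := IsSchemeTheoreticallyDominant.of_isPullback hsq
  haveI : IsClosedImmersion g' := by
    let c : pullback q γ ⟶ CohB1.ProjSpaceOver n (Spec (CommRingCat.of K)) :=
      hpb.lift (pr ≫ g₀.imageι) (pullback.snd q γ) (by rw [Category.assoc]; exact pullback.condition)
    have hc : g' ≫ c = j := by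
      apply hpb.hom_ext
      · rw [Category.assoc, IsPullback.lift_fst, pullback.lift_fst_assoc, g₀.toImage_imageι]
      · rw [Category.assoc, IsPullback.lift_snd, pullback.lift_snd, hj]
    haveI : IsSeparated c := by
      haveI : IsSeparated (c ≫ CohB1.ProjSpaceOver.toBase n _) := by
        rw [IsPullback.lift_snd]
        infer_instance
      exact IsSeparated.of_comp c (CohB1.ProjSpaceOver.toBase n _)
    haveI : IsClosedImmersion (g' ≫ c) := by rw [hc]; infer_instance
    exact IsClosedImmersion.of_comp g' c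
  haveI : IsIso g' := IsClosedImmersion.isIso_iff_ker_eq_bot.2 g'.ker_eq_bot
  -- smoothness along the generic fibre
  let T : Set g₀.image := (q.smoothLocus : Set g₀.image)ᶜ
  have hgen : ∀ z : g₀.image, q z ∈ Set.range γ → z ∈ q.smoothLocus := fun z hz => by
    obtain ⟨t, ht⟩ := hz
    obtain ⟨w, hw, -⟩ := Scheme.Pullback.exists_preimage_pullback z t ht.symm
    obtain ⟨c, rfl⟩ := g'.surjective w
    obtain rfl : g c = z := by rw [← hg', Scheme.Hom.comp_apply]; exact hw
    rw [Scheme.Hom.mem_smoothLocus]
    haveI : IsPreimmersion g := by rw [← hg']; infer_instance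
    haveI : Flat g := by rw [← hg']; infer_instance
    haveI : IsIso (g.stalkMap c) := (ConcreteCategory.isIso_iff_bijective _).2 (bijective_stalkMap g c)
    have h2 : ((g ≫ q).stalkMap c).hom.FormallySmooth := by
      rw [Scheme.Hom.stalkMap_congr_hom _ _ hgq, Scheme.Hom.stalkMap_comp]
      haveI : IsIso (γ.stalkMap (C.hom c)) := (ConcreteCategory.isIso_iff_bijective _).2 (bijective_stalkMap γ _)
      have hC : (C.hom.stalkMap c).hom.FormallySmooth := by
        rw [← Scheme.Hom.mem_smoothLocus, Scheme.Hom.smoothLocus_eq_top]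
        trivial
      have hh := (RingHom.FormallySmooth.respectsIso.cancel_left_isIso
        ((Spec (CommRingCat.of R)).presheaf.stalkCongr (.of_eq (congrArg (· c) (congrArg (·.base) hgq)))).hom
        (γ.stalkMap (C.hom c) ≫ C.hom.stalkMap c))
      exact hh.2 ((RingHom.FormallySmooth.respectsIso.cancel_left_isIso (γ.stalkMap (C.hom c)) (C.hom.stalkMap c)).2 hC)
    rw [Scheme.Hom.stalkMap_comp] at h2
    exact (RingHom.FormallySmooth.respectsIso.cancel_right_isIso _ (g.stalkMap c)).1 h2
  let U : (Spec (CommRingCat.of R)).Opens := ⟨(q '' T)ᶜ, (q.isClosedMap _ q.smoothLocus.2.isClosed_compl).isOpen_compl⟩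
  have hγU : Set.range γ ⊆ Set.range U.ι := by
    rw [Scheme.Opens.range_ι]
    rintro _ ⟨t, rfl⟩ ⟨z, hz, hzt⟩
    exact hz (hgen z ⟨t, hzt.symm⟩)
  let ξ := IsOpenImmersion.lift U.ι γ hγU
  have hξ : ξ ≫ U.ι = γ := IsOpenImmersion.lift_fac _ _ _
  refine ⟨U, ξ, _, q ∣_ U, hξ, ?_, inferInstance, ?_⟩
  · rw [← Scheme.Hom.smoothLocus_eq_top_iff]
    refine eq_top_iff.2 fun z _ => ?_
    have hz : (q ⁻¹ᵁ U).ι z ∈ q.smoothLocus := by
      by_contra h
      exact z.2 ⟨_, h, rfl⟩
    have hz' : z ∈ ((q ⁻¹ᵁ U).ι ≫ q).smoothLocus := by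
      rw [← Scheme.Hom.preimage_smoothLocus_eq]
      exact hz
    rw [Scheme.Hom.mem_smoothLocus] at hz' ⊢
    rw [Scheme.Hom.stalkMap_congr_hom _ _ (morphismRestrict_ι q U).symm, Scheme.Hom.stalkMap_comp] at hz'
    exact (RingHom.FormallySmooth.respectsIso.cancel_left_isIso _ _).1
      ((RingHom.FormallySmooth.respectsIso.cancel_left_isIso
        ((Spec (CommRingCat.of R)).presheaf.stalkCongr _).hom _).1 hz')
  · have hp : IsPullback (pullback.fst (q ∣_ U) ξ ≫ (q ⁻¹ᵁ U).ι) (pullback.snd (q ∣_ U) ξ) q γ := by
      rw [← hξ]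
      exact (IsPullback.of_hasPullback (q ∣_ U) ξ).paste_horiz (isPullback_morphismRestrict q U).flip
    have hp' : IsPullback g C.hom q γ :=
      IsPullback.of_iso_pullback ⟨hgq⟩ (asIso g') (pullback.lift_fst _ _ _) (pullback.lift_snd _ _ _)
    exact ⟨Over.isoMk (hp.isoIsPullback _ _ hp') (hp.isoIsPullback_hom_snd _ _ hp')⟩

end Groth.Agent.S3259
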