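import Groth.Statements.S3290
import Groth.Agent.L08.Lambda.Pos

set_option autoImplicit false
universe u
open Finset
open LambdaRing

namespace Groth.Agent.S3290
open Groth.L08.Lambda Groth.L22.Lambda

/-- For a positive element e of augmentation m in a λ-ring with positive structure, the polynomials
Σ_{i=0}^{m} γ^i(e − m) t^(m−i) and Σ_{i=0}^{m} λ^i(e) (t − 1)^(m−i) are equal. -/
theorem result (K : Type u) [CommRing K] [LambdaRing.LambdaOps K] (P : LambdaRing.PosStructure K) (e : K) (he : e ∈ P.pos) :
    (∑ i ∈ range ((P.aug e).toNat + 1),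
        Polynomial.C (LambdaRing.gamma i (e - ((P.aug e).toNat : K))) * Polynomial.X ^ ((P.aug e).toNat - i)) =
      ∑ i ∈ range ((P.aug e).toNat + 1),
        Polynomial.C (LambdaRing.LambdaOps.lam i e) * (Polynomial.X - 1) ^ ((P.aug e).toNat - i) := by
  obtain ⟨n, hn⟩ : ∃ n : ℕ, P.aug e = n := ⟨_, (Int.toNat_of_nonneg (P.aug_pos e he).le).symm⟩
  rw [hn, Int.toNat_natCast]
  have h1 : ∀ k : ℕ, 2 ≤ k → LambdaOps.lam k (1 : K) = 0 :=
    fun k hk => lam_eq_zero_of_isLine P (isLine_one P) hk
  have hser : gammaSeries (e - (n : K)) = ∑ j ∈ range (n + 1),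
      PowerSeries.C (LambdaOps.lam j e) * (PowerSeries.X ^ j * (1 - PowerSeries.X) ^ (n - j)) := by
    have hp : lamSeries e =
        ((∑ j ∈ range (n + 1), Polynomial.C (LambdaOps.lam j e) * Polynomial.X ^ j : Polynomial K) :
          PowerSeries K) := by
      ext i
      rw [coeff_lamSeries, Polynomial.coeff_coe, Polynomial.finset_sum_coeff]
      simp only [Polynomial.coeff_C_mul_X_pow]
      rw [sum_ite_eq]
      split_ifs with hi
      · rfl
      · exact P.lam_eq_zero e he i (by rw [hn]; simp at hi; exact_mod_cast hi)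
    rw [sub_eq_add_neg, gammaSeries_add, gammaSeries_neg_natCast h1, gammaSeries, hp,
      PowerSeries.subst_coe hasSubst_gS, map_sum, sum_mul]
    refine sum_congr rfl fun j hj => ?_
    simp only [mem_range] at hj
    rw [map_mul, map_pow, Polynomial.aeval_C, Polynomial.aeval_X, mul_assoc]
    congr 1
    rw [show n = j + (n - j) by omega, pow_add, Nat.add_sub_cancel_left, ← mul_assoc, ← mul_pow,
      gS_mul_one_sub]
  ext m
  simp only [Polynomial.finset_sum_coeff, Polynomial.coeff_C_mul, Polynomial.coeff_X_pow]
  by_cases hm : m ≤ n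
  · rw [sum_eq_single (n - m)]
    rotate_left
    · intro j hj hne
      simp only [mem_range] at hj
      rw [if_neg (by omega), mul_zero]
    · intro h
      simp at h
    rw [if_pos (by omega), mul_one, ← coeff_gammaSeries, hser, map_sum]
    refine sum_congr rfl fun j hj => ?_
    simp only [mem_range] at hj
    rw [PowerSeries.coeff_C_mul, PowerSeries.coeff_X_pow_mul', coeff_one_sub_X_pow,
      show (Polynomial.X - 1 : Polynomial K) = Polynomial.X + Polynomial.C (-1) by
        rw [map_neg, map_one]; ring,
      Polynomial.coeff_X_add_C_pow]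
    split_ifs with h
    · congr 1
      rw [show n - m - j = n - j - m by omega, Nat.choose_symm (by omega : m ≤ n - j)]
    · rw [Nat.choose_eq_zero_of_lt (by omega : n - j < m)]
      simp
  · rw [sum_eq_zero, sum_eq_zero]
    · intro j hj
      rw [show (Polynomial.X - 1 : Polynomial K) = Polynomial.X + Polynomial.C (-1) by
        rw [map_neg, map_one]; ring, Polynomial.coeff_X_add_C_pow,
        Nat.choose_eq_zero_of_lt (by omega : n - j < m)]
      simp
    · intro j hj
      rw [if_neg (by omega), mul_zero]

end Groth.Agent.S3290
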