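import Groth.Statements.S3322
import Groth.Agent.L05.EulerDiv.Divis
import Groth.Agent.S3321
import Groth.Agent.S3319
-- import your own Groth.Agent.* helpers here

set_option autoImplicit false
universe u
open CategoryTheory CategoryTheory.Limits AlgebraicGeometry
open Models

namespace Groth.Agent.S3322

/-- In the following situation (R a discrete valuation ring with residue field k, C a smooth proper
curve over its fraction field K with H^0(C, O_C) = K, X a regular proper model, Γ_1, …, Γ_n the
irreducible components of the closed fibre with multiplicities m_i, L_i ⊗ I(Γ_i) ≅ O_X) the data n,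
m_i, a_ij = (Γ_i · Γ_j) = deg_k(L_j|Γ_i), w_i = dim_k H^0(Γ_i, O) and g_i with w_i g_i = dim_k
H^1(Γ_i, O) is a numerical type (n > 0, m_i > 0, (a_ij) symmetric with non-negative off-diagonal
entries, connected, killing m, w_i | a_ij, g_i ≥ 0), and its genus is the genus dim_K H^1(C, O_C) of
C. -/
theorem result (R : Type u) [CommRing R] [IsDomain R] [IsDiscreteValuationRing R]
    (C X : Scheme.{u}) (f : C ⟶ Spec (CommRingCat.of (FractionRing R))) (p : X ⟶ Spec (CommRingCat.of R))
    (hC : Curve.IsSmoothProperCurve (FractionRing R) C f) (hH0 : IsIso f.appTop)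
    (hX : Models.IsRegularProperModel R X p C f)
    {n : ℕ} (Γ : Fin n → ArSurf.VertComp R (Over.mk p)) (hΓ : Models.IsComponentList R (Over.mk p) Γ)
    (L : Fin n → X.Modules) (hL : ∀ i, ClSub.IsInverseOf (L i) (ClSub.idealMod (Γ i).ι.ker)) :
    ∃ T : Models.NumericalType n,
      (∀ i, T.m i = (Models.mult R (Over.mk p) (Γ i) : ℤ)) ∧ (∀ i j, T.a i j = ArSurf.inter R (Over.mk p) (L j) (Γ i)) ∧
      (∀ i, T.w i = (Models.wdeg R (Over.mk p) (Γ i) : ℤ)) ∧
      (∀ i, T.w i * T.g i = (Models.h1 R (Over.mk p) (Γ i) : ℤ)) ∧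
      T.genus = (Models.curveGenus (FractionRing R) C f : ℤ) := by
  have hX' := hX
  obtain ⟨⟨hflat, hft, -, g, hg⟩, hproper, hreg⟩ := hX
  haveI : Flat (Over.mk p).hom := hflat
  haveI : IsProper (Over.mk p).hom := hproper
  haveI : IsLocallyNoetherian (Over.mk p).left := LocallyOfFiniteType.isLocallyNoetherian p
  haveI : IsIntegral C := hC.2.2.1
  haveI : IsIntegral (Over.mk p).left := Groth.L05.InterPair.isIntegral_of_model (X := Over.mk p) hreg hg
  have hgen := Groth.Agent.S3321.result R C X f p hC hH0 hX' Γ hΓ L hL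
  set m := fun i => (Models.mult R (Over.mk p) (Γ i) : ℤ) with hm
  set A : Matrix (Fin n) (Fin n) ℤ := fun i j => ArSurf.inter R (Over.mk p) (L j) (Γ i) with hA
  set w := fun i => (Models.wdeg R (Over.mk p) (Γ i) : ℤ) with hw
  choose g₀ hg₀ using fun i => Groth.L05.EulerDiv.wdeg_dvd_h1 (Γ i)
  have hpos : 0 < n := by
    let x₀ : X := g (genericPoint C)
    have hclosed : IsClosed (p.base '' closure {x₀}) := p.isClosedMap _ isClosed_closure
    have hsp : p.base x₀ ⤳ IsLocalRing.closedPoint R := IsLocalRing.specializes_closedPoint _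
    obtain ⟨x, -, hx⟩ := (specializes_iff_mem_closure.1 hsp : _ ∈ closure {p.base x₀}) |>
      hclosed.closure_subset_iff.2 (Set.singleton_subset_iff.2 ⟨x₀, subset_closure rfl, rfl⟩)
    obtain ⟨i, -⟩ := Groth.L05.FibreDecomp.exists_component (X := Over.mk p) hΓ (x := x) hx
    exact i.pos
  refine ⟨{ m := m, a := A, w := w, g := fun i => (g₀ i : ℤ), pos := hpos
            m_pos := fun i => Int.natCast_pos.2 (Groth.L05.InterPair.mult_pos (X := Over.mk p) hreg hΓ i)
            w_pos := fun i => Int.natCast_pos.2 (Groth.L05.EulerDiv.wdeg_pos (Γ i))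
            g_nonneg := fun i => Int.natCast_nonneg _
            symm := Matrix.IsSymm.ext fun i j => Groth.L05.InterPair.inter_symm hreg hΓ hL j i
            offDiag_nonneg := fun i j hij =>
              (Groth.L05.InterPair.inter_nonneg_and_eq_zero_iff hreg hΓ hL hij).1
            connected := Groth.Agent.S3319.result R C X f p hC hH0 hX' Γ hΓ L hL
            mulVec_m := funext fun i => ?_
            w_dvd := fun i j => Groth.L05.EulerDiv.wdeg_dvd_inter (Γ i) (L j) },
    fun i => rfl, fun i j => rfl, fun i => rfl, fun i => ?_, ?_⟩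
  · show ∑ j, A i j * m j = 0
    refine Eq.trans (Finset.sum_congr rfl fun j _ => mul_comm _ _) ?_
    exact Groth.L05.InterPair.sum_mult_mul_inter hreg hΓ hL (Γ i)
  · show (Models.wdeg R (Over.mk p) (Γ i) : ℤ) * (g₀ i : ℤ) = _
    rw [hg₀ i]; push_cast; rfl
  · show 1 + (∑ i, m i * w i * ((g₀ i : ℤ) - 1)) - (∑ i, m i * A i i) / 2 = _
    have h1 : ∑ i, m i * A i i =
        2 * (∑ i, m i * w i * ((g₀ i : ℤ) - 1)) - (2 * (Models.curveGenus (FractionRing R) C f : ℤ) - 2) := by
      rw [hgen, Finset.mul_sum, add_sub_cancel_left, ← Finset.sum_sub_distrib]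
      refine Finset.sum_congr rfl fun i _ => ?_
      simp only [hm, hw, hA, hg₀ i]
      push_cast
      ring
    omega

end Groth.Agent.S3322
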