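import Groth.Statements.S3323
import Groth.Agent.L05.EulerDiv.Chain
-- import your own Groth.Agent.* helpers here

set_option autoImplicit false
universe u
open CategoryTheory CategoryTheory.Limits AlgebraicGeometry
open Models

namespace Groth.Agent.S3323

/-- In the following situation (R a discrete valuation ring with residue field k, C a smooth proper
curve over its fraction field K with H^0(C, O_C) = K, X a regular proper model, Γ_1, …, Γ_n the
irreducible components of the closed fibre with multiplicities m_i) let d = gcd(m_1, …, m_n) and let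
D be the effective Cartier divisor Σ (m_i/d) Γ_i. Then there is a chain of effective Cartier
divisors Σ Γ_i = Z_0 ⊂ Z_1 ⊂ ⋯ ⊂ Z_s = D, each obtained from the previous one by adding a single
Γ_i, such that for every j the ring H^0(Z_j, O_{Z_j}) is a field, finite over R (equivalently over
k). Divisors are written through their ideal sheaves Π I(Γ_i)^{a_i}. -/
theorem result (R : Type u) [CommRing R] [IsDomain R] [IsDiscreteValuationRing R]
    (C X : Scheme.{u}) (f : C ⟶ Spec (CommRingCat.of (FractionRing R))) (p : X ⟶ Spec (CommRingCat.of R))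
    (hC : Curve.IsSmoothProperCurve (FractionRing R) C f) (hH0 : IsIso f.appTop)
    (hX : Models.IsRegularProperModel R X p C f)
    {n : ℕ} (Γ : Fin n → ArSurf.VertComp R (Over.mk p)) (hΓ : Models.IsComponentList R (Over.mk p) Γ) :
    ∃ (s : ℕ) (a : Fin (s + 1) → Fin n → ℕ), (a 0 = fun _ => 1) ∧
      (a (Fin.last s) = fun i => Models.mult R (Over.mk p) (Γ i) / Models.multGcd R (Over.mk p) Γ) ∧
      (∀ j : Fin s, ∃ i, a j.succ = a j.castSucc + Pi.single i 1) ∧
      ∀ j, IsField ↑(Γ((∏ i, (Γ i).ι.ker ^ a j i).subscheme, ⊤)) ∧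
        (((∏ i, (Γ i).ι.ker ^ a j i).subschemeι ≫ p).appTop.hom.comp
          (Scheme.ΓSpecIso (CommRingCat.of R)).inv.hom).Finite := by
  have hX' := hX
  obtain ⟨⟨hflat, hft, -, g, hg⟩, hproper, hreg⟩ := hX
  haveI : Flat (Over.mk p).hom := hflat
  haveI : IsProper (Over.mk p).hom := hproper
  haveI : IsLocallyNoetherian (Over.mk p).left := LocallyOfFiniteType.isLocallyNoetherian p
  haveI : IsIntegral C := hC.2.2.1
  haveI : IsIntegral (Over.mk p).left := Groth.L05.InterPair.isIntegral_of_model (X := Over.mk p) hreg hg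
  obtain ⟨i₀⟩ : Nonempty (Fin n) := by
    let x₀ : X := g (genericPoint C)
    have hclosed : IsClosed (p.base '' closure {x₀}) := p.isClosedMap _ isClosed_closure
    have hsp : p.base x₀ ⤳ IsLocalRing.closedPoint R := IsLocalRing.specializes_closedPoint _
    obtain ⟨x, -, hx⟩ := (specializes_iff_mem_closure.1 hsp : _ ∈ closure {p.base x₀}) |>
      hclosed.closure_subset_iff.2 (Set.singleton_subset_iff.2 ⟨x₀, subset_closure rfl, rfl⟩)
    obtain ⟨i, -⟩ := Groth.L05.FibreDecomp.exists_component (X := Over.mk p) hΓ (x := x) hx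
    exact ⟨i⟩
  choose L hLi hL using fun i => Groth.L08.Cube.exists_inverse
    ((Groth.Agent.L19.IdealInvertible.isEffCartier_iff _).2
      (Groth.L05.FibreDecomp.isEffCartier (X := Over.mk p) hreg hΓ i))
  have hL' : ∀ i, ClSub.IsInverseOf (L i) (ClSub.idealMod (Γ i).ι.ker) := fun i =>
    ⟨Groth.L00.Tensor.tensorComm _ _ ≪≫ (hL i).some⟩
  have hconn := Groth.L05.InterPair.isPreconnected_specialFibreSet R f p hC hH0 hX'
  have hmp : 0 < Models.mult R (Over.mk p) (Γ i₀) := Groth.L05.InterPair.mult_pos (X := Over.mk p) hreg hΓ i₀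
  have hd : 0 < Models.multGcd R (Over.mk p) Γ := Nat.pos_of_ne_zero fun h =>
    hmp.ne' (Finset.gcd_eq_zero_iff.1 h i₀ (Finset.mem_univ i₀))
  have hm : ∀ i, Models.mult R (Over.mk p) (Γ i) =
      Models.multGcd R (Over.mk p) Γ * (Models.mult R (Over.mk p) (Γ i) / Models.multGcd R (Over.mk p) Γ) := fun i =>
    (Nat.mul_div_cancel' (Finset.gcd_dvd (f := fun i => Models.mult R (Over.mk p) (Γ i)) (Finset.mem_univ i))).symm
  have hgcd : Finset.univ.gcd (fun i => Models.mult R (Over.mk p) (Γ i) / Models.multGcd R (Over.mk p) Γ) = 1 :=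
    Finset.gcd_div_eq_one (Finset.mem_univ i₀) hmp.ne'
  obtain ⟨s, c, hc0, hc1, hc2, hc3⟩ := Groth.L05.EulerDiv.exists_chain_primitive (X := Over.mk p)
    hreg hΓ hL' hconn i₀ hd hm hgcd
  exact ⟨s, c, hc0, hc1, hc2, fun j => ⟨hc3 j,
    Groth.L05.EulerDiv.finite_Γ_subscheme (X := Over.mk p) (∏ i, (Γ i).ι.ker ^ c j i)⟩⟩

end Groth.Agent.S3323
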