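import Groth.Statements.S3328
import Groth.Agent.L05.PtChain.Geo.RegModel
import Groth.Agent.L05.MinExist.Main

set_option autoImplicit false
universe u
open CategoryTheory CategoryTheory.Limits AlgebraicGeometry
open Models

namespace Groth.Agent.S3328
set_option backward.isDefEq.respectTransparency false
set_option backward.isDefEq.respectTransparency.types false
set_option linter.style.haveILetI false

/-- Let R be a discrete valuation ring with fraction field K and C a smooth proper curve over K with
H^0(C, O_C) = K. Then C has a minimal model over R: a regular proper model none of whose vertical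
prime divisors is an exceptional curve of the first kind. -/
theorem result (R : Type u) [CommRing R] [IsDomain R] [IsDiscreteValuationRing R]
    (C : Scheme.{u}) (f : C ⟶ Spec (CommRingCat.of (FractionRing R)))
    (hC : Curve.IsSmoothProperCurve (FractionRing R) C f) (hH0 : IsIso f.appTop) :
    ∃ (X : Scheme.{u}) (p : X ⟶ Spec (CommRingCat.of R)), Models.IsMinimalModel R X p C f := by
  obtain ⟨Y, q, hY⟩ := Groth.L05.PtChain.exists_regularProperModel hC
  obtain ⟨gY, hgY⟩ := hY.1.2.2.2
  obtain ⟨X, p, gX, b, hX, -⟩ := Groth.L05.MinExist.exists_morphism_to_minimal hC hY hgY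
  exact ⟨X, p, hX⟩

end Groth.Agent.S3328
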