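import Groth.Statements.S3334
import Groth.Agent.L21.Sep.Bertini
import Groth.Agent.L21.RR.GeomGenusZero
import Groth.Agent.L21.RR.BaseChange
import Groth.Agent.L21.Bundle.Twist
import Groth.Agent.L21.Disc.SimplyConn
import Groth.Agent.L22.FibreDim
import Groth.Agent.L16.Connected.AppIso
import Groth.Agent.L16.Connected.Fibre
import Groth.Agent.L08.Cube.Inverse

set_option autoImplicit false
universe u
open CategoryTheory CategoryTheory.Limits AlgebraicGeometry
open Models

namespace Groth.Agent.S3334
set_option backward.isDefEq.respectTransparency false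
set_option backward.isDefEq.respectTransparency.types false
attribute [local instance] Curv2.resAlgebra
set_option backward.isDefEq.respectTransparency false
set_option backward.isDefEq.respectTransparency.types false
set_option linter.style.haveILetI false

/-- Let R be a discrete valuation ring with fraction field K and C a smooth proper curve over K with
H^0(C, O_C) = K and genus dim_K H^1(C, O_C) = 0. Then there is a finite separable field extension K
→ K' of degree at most 2 such that C_{K'} is K'-isomorphic to the projective line over K' (so that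
C_{K'} is the generic fibre of the projective line over the integral closure of R in K'). The
printed statement says degree 2; the argument produces an extension of degree at most 2, which is
what is asserted here. -/
theorem result (R : Type u) [CommRing R] [IsDomain R] [IsDiscreteValuationRing R]
    (C : Scheme.{u}) (f : C ⟶ Spec (CommRingCat.of (FractionRing R)))
    (hC : Curve.IsSmoothProperCurve (FractionRing R) C f) (hH0 : IsIso f.appTop)
    (hg : Models.curveGenus (FractionRing R) C f = 0) :
    ∃ (K' : Type u) (_ : Field K') (ψ : FractionRing R →+* K'),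
      Models.IsFiniteSeparable ψ ∧ Models.homDegree ψ ≤ 2 ∧
      ∃ e : (pullback f (Spec.map (CommRingCat.ofHom ψ))) ≅ CohB1.ProjSpace 1 K',
        e.hom ≫ CohB1.ProjSpace.toSpec 1 K' = (pullback.snd f (Spec.map (CommRingCat.ofHom ψ))) := by
  obtain ⟨hp, hs, hi, hd⟩ := hC
  haveI := hp; haveI := hs; haveI := hi; haveI := hH0
  let K := FractionRing R
  letI : C.Over (Spec (CommRingCat.of K)) := ⟨f⟩
  haveI : IsProper (C ↘ Spec (CommRingCat.of K)) := hp
  haveI : Smooth (C ↘ Spec (CommRingCat.of K)) := hs
  haveI := Groth.L21.RR.isNoetherian_of_proper (X := C) K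
  haveI : GeometricallyConnected f := by
    have hbij : Function.Bijective (f.app ⊤) := ConcreteCategory.bijective_of_isIso f.appTop
    have hO := (Groth.L16.Connected.isIso_app_le f (isAffineOpen_top _) hbij).1
    exact Groth.L16.Connected.geometricallyConnected f fun U => hO U le_top
  haveI : GeometricallyIntegral f := Groth.L21.Disc.geometricallyIntegral_of_smooth f
  haveI : GeometricallyIntegral (C ↘ Spec (CommRingCat.of K)) := ‹GeometricallyIntegral f›
  have h0 : Groth.L21.RR.h K 0 (Coh.structureModule C) = 1 :=
    Groth.L21.RR.h0_eq_one_of_geometricallyIntegral K hd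
  have hg' : Curv2.genus K C = 0 := hg
  obtain ⟨-, -, hΩd⟩ := Groth.L21.Duality.omega_invariants (k := K) (X := C) hd
  have hΩ := Groth.L21.Duality.isInvertible_omega (k := K) (X := C) hd
  obtain ⟨M, hM, ⟨e⟩⟩ := Groth.L08.Cube.exists_inverse hΩ
  have hMd : Curv2.deg K C M 1 = 2 := by
    rw [Groth.L21.Bundle.deg_inverse K hd hΩ hM e, hΩd h0, hg']
    norm_num
  have hM2 : 2 ≤ Groth.L21.RR.h K 0 M := by
    have h1 := Groth.L21.RR.euler_eq K hd.le M
    have h2 := Groth.L21.RR.euler_eq K hd.le (Coh.structureModule C)
    have h3 : Groth.L21.RR.h K 1 (Coh.structureModule C) = 0 := hg'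
    rw [Curv2.deg] at hMd
    push_cast at hMd
    omega
  obtain ⟨x, -, hsep, hle, hfin⟩ := Groth.L21.SepSeries.exists_separable_point K hd h0 hM hM2 (by omega)
  letI := Curv2.resAlgebra K C x
  let K' := C.residueField x
  let ψ : K →+* K' := algebraMap K K'
  refine ⟨K', inferInstance, ψ, ?_, ?_, ?_⟩
  · show (letI := ψ.toAlgebra; FiniteDimensional K K' ∧ Algebra.IsSeparable K K')
    exact ⟨hfin, hsep⟩
  · show (letI := ψ.toAlgebra; Module.finrank K K') ≤ 2
    rw [hMd] at hle
    exact_mod_cast hle
  haveI : Algebra.IsIntegral K K' := haveI := hfin; Algebra.IsIntegral.of_finite K K'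
  let φ := Spec.map (CommRingCat.ofHom (algebraMap K K'))
  letI : (pullback f φ).Over (Spec (CommRingCat.of K')) := ⟨pullback.snd f φ⟩
  have sq : IsPullback (pullback.fst f φ) (pullback f φ ↘ Spec (CommRingCat.of K')) (C ↘ Spec (CommRingCat.of K))
      (Spec.map (CommRingCat.ofHom (algebraMap K K'))) := IsPullback.of_hasPullback _ _
  obtain ⟨hY, hP, hdY⟩ := Groth.L21.RR.bc_facts K K' hd (pullback.fst f φ) sq
  haveI := hY; haveI := hP
  haveI : GeometricallyIntegral (pullback f φ ↘ Spec (CommRingCat.of K')) :=
    inferInstanceAs (GeometricallyIntegral (pullback.snd f φ))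
  refine (Groth.L21.RR.iso_projLine_iff_point K' hdY ((Groth.L21.RR.genus_bc (pullback.fst f φ) sq).trans hg')).2 ?_
  refine ⟨pullback.lift (C.fromSpecResidueField x) (𝟙 _) ?_, pullback.lift_snd _ _ _⟩
  rw [Category.id_comp]
  exact (Groth.L22.FibreDim.SpecMap_resMap K C x).symm

end Groth.Agent.S3334
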