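import Groth.Statements.S3339
import Groth.Agent.L05.NodalContr.Main

set_option autoImplicit false
universe u
open CategoryTheory CategoryTheory.Limits AlgebraicGeometry
open Models

namespace Groth.Agent.S3339
set_option backward.isDefEq.respectTransparency false
set_option backward.isDefEq.respectTransparency.types false
set_option linter.style.haveILetI false

/-- Let R be a discrete valuation ring and p : X → Spec R an at-worst-nodal family of curves (flat,
locally of finite presentation, every fibre having all irreducible components of dimension one and
at-worst-nodal singularities). Let ι : E → X be a closed subscheme which is an exceptional curve of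
the first kind, and b : X → X' a contraction of E: X' is Noetherian, b is proper, maps E onto a
single closed point x' whose local ring is regular of dimension 2, and is a blowing up of X' in x'.
Let p' : X' → Spec R be a morphism locally of finite type with p = p' ∘ b. Then p' is again an
at-worst-nodal family of curves. (The published statement does not list the hypothesis that p' is
locally of finite type separately, its contractions being projective over R; it is assumed
explicitly here.) -/
theorem result (R : Type u) [CommRing R] [IsDomain R] [IsDiscreteValuationRing R]
    (X X' E : Scheme.{u}) (p : X ⟶ Spec (CommRingCat.of R)) (p' : X' ⟶ Spec (CommRingCat.of R))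
    (hp : Curv2.IsNodalFamily p) (ι : E ⟶ X) [IsClosedImmersion ι] (hE : Models.IsExcCurve ι)
    (b : X ⟶ X') (hb : Models.IsContractionOf ι b) (hcomm : b ≫ p' = p) [LocallyOfFiniteType p'] :
    Curv2.IsNodalFamily p' := by
  obtain ⟨hN, hprop, y, hy, hrange, hreg, hdim, hbl⟩ := hb
  haveI := hN
  haveI := hprop
  subst hcomm
  obtain ⟨ε, hε⟩ := Groth.L05.NodalContr.exists_nonclosed ι hE
  have hye : b (ι ε) = y := by
    have h1 : (ι ≫ b) ε ∈ Set.range ((ι ≫ b).base : E → X') := ⟨ε, rfl⟩
    rw [hrange, Set.mem_singleton_iff] at h1
    exact h1
  subst hye
  refine Groth.L05.NodalContr.isNodalFamily_of_contraction b p' hp (ι ε) hε hy hreg hdim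
    (Scheme.IdealSheafData.vanishingIdeal ⟨{b (ι ε)}, hy⟩).support.compl (fun z => ?_) (Groth.Agent.S1682.result _ _ hbl)
  show z ∈ ((Scheme.IdealSheafData.vanishingIdeal ⟨{b (ι ε)}, hy⟩).support : Set X')ᶜ ↔ _
  simp

end Groth.Agent.S3339
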