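import Groth.Statements.S3347
import Groth.Agent.L05.ArFamily.Main
import Groth.Agent.S3326
-- import your own Groth.Agent.* helpers here

set_option autoImplicit false
universe u
open CategoryTheory CategoryTheory.Limits AlgebraicGeometry
open Models

namespace Groth.Agent.S3347

/-- In the following situation (R a discrete valuation ring with residue field k, C a smooth proper
curve over its fraction field K with H^0(C, O_C) = K, X a regular proper model, Γ_1, …, Γ_n the
irreducible components of the closed fibre, L_i ⊗ I(Γ_i) ≅ O_X) the following are equivalent: X is a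
minimal model (no vertical prime divisor of X is an exceptional curve of the first kind); the
numerical type of X is minimal, i.e. there is no index i with g_i = 0 (H^1(Γ_i, O) = 0) and (Γ_i ·
Γ_i) = deg_k(L_i|Γ_i) = -[κ_i : k] = -dim_k H^0(Γ_i, O). -/
theorem result (R : Type u) [CommRing R] [IsDomain R] [IsDiscreteValuationRing R]
    (C X : Scheme.{u}) (f : C ⟶ Spec (CommRingCat.of (FractionRing R))) (p : X ⟶ Spec (CommRingCat.of R))
    (hC : Curve.IsSmoothProperCurve (FractionRing R) C f) (hH0 : IsIso f.appTop)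
    (hX : Models.IsRegularProperModel R X p C f)
    {n : ℕ} (Γ : Fin n → ArSurf.VertComp R (Over.mk p)) (hΓ : Models.IsComponentList R (Over.mk p) Γ)
    (L : Fin n → X.Modules) (hL : ∀ i, ClSub.IsInverseOf (L i) (ClSub.idealMod (Γ i).ι.ker)) :
    Models.IsMinimalModel R X p C f ↔
      ∀ i, ¬ (Models.h1 R (Over.mk p) (Γ i) = 0 ∧ ArSurf.inter R (Over.mk p) (L i) (Γ i) = -(Models.wdeg R (Over.mk p) (Γ i) : ℤ)) := by
  have hX' := hX
  obtain ⟨⟨hflat, hft, -, g, hg⟩, hproper, hreg⟩ := hX
  haveI : Flat (Over.mk p).hom := hflat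
  haveI : IsProper (Over.mk p).hom := hproper
  haveI : IsLocallyNoetherian (Over.mk p).left := LocallyOfFiniteType.isLocallyNoetherian p
  haveI : IsIntegral C := hC.2.2.1
  haveI : IsIntegral (Over.mk p).left := Groth.L05.InterPair.isIntegral_of_model (X := Over.mk p) hreg hg
  have key := fun i => Groth.Agent.S3326.result R C X f p hC hH0 hX' Γ hΓ L hL i
  constructor
  · intro hmin i h
    exact hmin.2 (Γ i) ((key i).2 h)
  · intro hall
    refine ⟨hX', fun G hG => ?_⟩
    have hmem : Models.genPtOf R (Over.mk p) G ∈ Models.specialFibreSet R (Over.mk p) := by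
      show (Over.mk p).hom.base (G.ι.base _) = IsLocalRing.closedPoint R
      rw [← Scheme.Hom.comp_apply, G.w, Scheme.Hom.comp_apply]
      refine PrimeSpectrum.ext ?_
      generalize G.curve.hom (genericPoint G.curve.left) = t
      show Ideal.comap (IsLocalRing.residue R) t.asIdeal = IsLocalRing.maximalIdeal R
      rw [(Ideal.eq_bot_or_top t.asIdeal).resolve_right t.2.ne_top]
      exact Ideal.mk_ker
    obtain ⟨i, hi⟩ := Groth.L05.FibreDecomp.exists_component (X := Over.mk p) hΓ hmem
    have hk : G.ι.ker = (Γ i).ι.ker := Groth.L05.ArFamily.ker_eq_of_mem hi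
    refine hall i ((key i).1 ?_)
    haveI := IsClosedImmersion.isIso_lift G.ι (Γ i).ι hk
    let θ := IsClosedImmersion.lift G.ι (Γ i).ι hk.le
    have hθ : θ ≫ G.ι = (Γ i).ι := IsClosedImmersion.lift_fac _ _ _
    obtain ⟨hc, k, hk', e, ⟨j⟩⟩ := hG
    refine ⟨hk ▸ hc, k, hk', e ≪≫ (asIso θ).symm, ⟨?_⟩⟩
    refine (Scheme.Modules.pullbackCongr (show (e ≪≫ (asIso θ).symm).hom ≫ (Γ i).ι = e.hom ≫ G.ι by
      rw [Iso.trans_hom, Iso.symm_hom, asIso_inv, Category.assoc, ← hθ, IsIso.inv_hom_id_assoc])).app _ ≪≫ ?_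
    exact eqToIso (by rw [hk]) ≪≫ j

end Groth.Agent.S3347
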