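import Groth.Statements.S3350
import Groth.Agent.L26.NumType.Classify
import Mathlib.Tactic.FinCases

set_option autoImplicit false
open Finset
open Models Models.NumericalType

namespace Groth.Agent.S3350

/-- Classification of proper subgraphs with two vertices: Let T be a numerical type on n > 2 indices and
i ≠ j two (-2)-indices (g = 0 and a_ii = -2 w_i, a_jj = -2 w_j) with a_ij > 0. Then, after possibly
exchanging i and j, one of the following holds with w = w_i: (A2) w_j = w, a_ij = w, 2 m_i ≥ m_j and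
2 m_j ≥ m_i; (B2) w_j = 2w, a_ij = 2w, m_i ≥ m_j and 2 m_j ≥ m_i; (G2) w_j = 3w, a_ij = 3w, 2 m_i ≥
3 m_j and 2 m_j ≥ m_i. -/
theorem result {n : ℕ} (T : Models.NumericalType n) (hn : 2 < n) (i j : Fin n)
    (hij : i ≠ j) (hi : T.IsMinusTwo i) (hj : T.IsMinusTwo j) (hpos : 0 < T.a i j) :
    ∃ i' j' : Fin n, ((i' = i ∧ j' = j) ∨ (i' = j ∧ j' = i)) ∧
      ((T.w j' = T.w i' ∧ T.a i' j' = T.w i' ∧ T.m j' ≤ 2 * T.m i' ∧ T.m i' ≤ 2 * T.m j') ∨
        (T.w j' = 2 * T.w i' ∧ T.a i' j' = 2 * T.w i' ∧ T.m j' ≤ T.m i' ∧ T.m i' ≤ 2 * T.m j') ∨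
        (T.w j' = 3 * T.w i' ∧ T.a i' j' = 3 * T.w i' ∧ 3 * T.m j' ≤ 2 * T.m i' ∧ T.m i' ≤ 2 * T.m j')) := by
  have hne : T.a i j ≠ 0 := hpos.ne'
  have i1 := Groth.L26.NumType.ineq_one hi hij
  have i2 := Groth.L26.NumType.ineq_one hj hij.symm
  rw [Groth.L26.NumType.a_symm T j i] at i2
  have wi := T.w_pos i; have wj := T.w_pos j
  rcases Groth.L26.NumType.edge_cases T hn hij hi hj hne with ⟨ha, hw⟩ | hd | hd
  · refine ⟨i, j, Or.inl ⟨rfl, rfl⟩, Or.inl ⟨hw, ha, ?_, ?_⟩⟩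
    · exact Groth.L26.NumType.cancel_w wi (by rw [ha] at i1; linarith)
    · exact Groth.L26.NumType.cancel_w wi (by rw [ha, hw] at i2; linarith)
  · rcases hd with ⟨ha, hw⟩ | ⟨ha, hw⟩
    · refine ⟨j, i, Or.inr ⟨rfl, rfl⟩, Or.inr (Or.inl ⟨hw, by rw [Groth.L26.NumType.a_symm T j i, ha, hw], ?_, ?_⟩)⟩
      · exact Groth.L26.NumType.cancel_w wj (by rw [ha, hw] at i2; linarith)
      · exact Groth.L26.NumType.cancel_w wj (by rw [ha, hw] at i1; linarith)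
    · refine ⟨i, j, Or.inl ⟨rfl, rfl⟩, Or.inr (Or.inl ⟨hw, by rw [ha, hw], ?_, ?_⟩)⟩
      · exact Groth.L26.NumType.cancel_w wi (by rw [ha, hw] at i1; linarith)
      · exact Groth.L26.NumType.cancel_w wi (by rw [ha, hw] at i2; linarith)
  · rcases hd with ⟨ha, hw⟩ | ⟨ha, hw⟩
    · refine ⟨j, i, Or.inr ⟨rfl, rfl⟩, Or.inr (Or.inr ⟨hw, by rw [Groth.L26.NumType.a_symm T j i, ha, hw], ?_, ?_⟩)⟩
      · exact Groth.L26.NumType.cancel_w wj (by rw [ha, hw] at i2; linarith)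
      · exact Groth.L26.NumType.cancel_w wj (by rw [ha, hw] at i1; linarith)
    · refine ⟨i, j, Or.inl ⟨rfl, rfl⟩, Or.inr (Or.inr ⟨hw, by rw [ha, hw], ?_, ?_⟩)⟩
      · exact Groth.L26.NumType.cancel_w wi (by rw [ha, hw] at i1; linarith)
      · exact Groth.L26.NumType.cancel_w wi (by rw [ha, hw] at i2; linarith)

end Groth.Agent.S3350
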