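import Groth.Statements.S3352
import Groth.Agent.L26.Misc.Lattice
import Mathlib.LinearAlgebra.Isomorphisms
import Mathlib.Algebra.Module.Torsion.Basic

set_option autoImplicit false
open Models

namespace Groth.Agent.S3352

/-- Let L₀, L₁ be finite free ℤ-modules with positive definite symmetric integral bilinear forms, the
form on L₀ unimodular (x ↦ ⟨x, −⟩ is a bijection L₀ → Hom(L₀, ℤ)), and let d : L₀ → L₁ and d* : L₁ →
L₀ be adjoint. Identify Im(d)^# (the dual lattice of Im(d)) with Hom(Im(d), ℤ) through the form on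
L₁. Then there is an isomorphism Φ from the torsion subgroup of Coker(d* d) onto Im(d)^#/Im(d),
determined by: for x ∈ L₀ whose class is torsion, Φ[x] is the class of the functional d(y') ↦ ⟨x,
y'⟩ (equivalently the class of (1/a)·d(y) when a·x = d* d(y)). -/
theorem result {L₀ L₁ : Type} [AddCommGroup L₀] [AddCommGroup L₁]
    [Module.Finite ℤ L₀] [Module.Free ℤ L₀] [Module.Finite ℤ L₁] [Module.Free ℤ L₁]
    (B₀ : LinearMap.BilinForm ℤ L₀) (B₁ : LinearMap.BilinForm ℤ L₁) (h₀s : B₀.IsSymm) (h₁s : B₁.IsSymm)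
    (h₀p : ∀ x, x ≠ 0 → 0 < B₀ x x) (h₁p : ∀ x, x ≠ 0 → 0 < B₁ x x) (huni : Function.Bijective B₀)
    (d : L₀ →ₗ[ℤ] L₁) (ds : L₁ →ₗ[ℤ] L₀) (hadj : ∀ x y, B₁ (d x) y = B₀ x (ds y)) :
    ∃ Φ : ↥(Submodule.torsion ℤ (L₀ ⧸ LinearMap.range (ds ∘ₗ d))) ≃ₗ[ℤ]
        (Module.Dual ℤ ↥(LinearMap.range d) ⧸
          LinearMap.range ((B₁.compl₂ (LinearMap.range d).subtype) ∘ₗ (LinearMap.range d).subtype)),
      ∀ (x : L₀) (hx : Submodule.Quotient.mk x ∈ Submodule.torsion ℤ (L₀ ⧸ LinearMap.range (ds ∘ₗ d)))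
        (ψ : Module.Dual ℤ ↥(LinearMap.range d)),
        (∀ y' : L₀, ψ ⟨d y', LinearMap.mem_range_self d y'⟩ = B₀ x y') →
          Φ ⟨Submodule.Quotient.mk x, hx⟩ = Submodule.Quotient.mk ψ := by
  classical
  let I := LinearMap.range d
  let ι : I →ₗ[ℤ] Module.Dual ℤ I := (B₁.compl₂ I.subtype) ∘ₗ I.subtype
  have hι : Function.Injective ι := by
    rw [← LinearMap.ker_eq_bot, LinearMap.ker_eq_bot']
    intro a ha
    by_contra hne
    exact (h₁p (a : L₁) (fun e => hne (Subtype.ext e))).ne' (LinearMap.congr_fun ha a)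
  let E := LinearEquiv.ofBijective B₀ huni
  let xo : Module.Dual ℤ I →ₗ[ℤ] L₀ := E.symm.toLinearMap ∘ₗ d.rangeRestrict.dualMap
  have hxo : ∀ ψ y', B₀ (xo ψ) y' = ψ ⟨d y', LinearMap.mem_range_self d y'⟩ := fun ψ y' => by
    have h : B₀ (xo ψ) = d.rangeRestrict.dualMap ψ := E.apply_symm_apply _
    rw [h]; rfl
  -- `ι (d y)` corresponds to `ds (d y)`
  have hιx : ∀ y, xo (ι ⟨d y, LinearMap.mem_range_self d y⟩) = ds (d y) := fun y => by
    apply huni.injective
    apply LinearMap.ext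
    intro y'
    rw [hxo, h₀s.eq (ds (d y)) y', ← hadj, h₁s.eq]
    rfl
  have hxinj : Function.Injective xo := fun ψ ψ' h => by
    apply LinearMap.ext
    rintro ⟨_, y', rfl⟩
    rw [← hxo, ← hxo, h]
  let N := LinearMap.range (ds ∘ₗ d)
  have htor : ∀ ψ, Submodule.Quotient.mk (xo ψ) ∈ Submodule.torsion ℤ (L₀ ⧸ N) := fun ψ => by
    obtain ⟨k, hk, ⟨⟨_, y, rfl⟩, hy⟩⟩ := Groth.L26.Lattice.exists_smul_mem_range ι hι ψ
    refine ⟨⟨k, mem_nonZeroDivisors_of_ne_zero hk⟩, ?_⟩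
    show k • (Submodule.Quotient.mk (xo ψ) : L₀ ⧸ N) = 0
    rw [← Submodule.Quotient.mk_smul, Submodule.Quotient.mk_eq_zero, ← map_smul, ← hy, hιx]
    exact LinearMap.mem_range_self (ds ∘ₗ d) y
  let g : Module.Dual ℤ I →ₗ[ℤ] Submodule.torsion ℤ (L₀ ⧸ N) :=
    (N.mkQ ∘ₗ xo).codRestrict _ htor
  have hker : LinearMap.ker g = LinearMap.range ι := by
    ext ψ
    simp only [LinearMap.mem_ker, LinearMap.mem_range]
    constructor
    · intro h
      have h' : Submodule.Quotient.mk (p := N) (xo ψ) = 0 := congrArg Subtype.val h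
      rw [Submodule.Quotient.mk_eq_zero] at h'
      obtain ⟨y, hy⟩ := h'
      exact ⟨⟨d y, LinearMap.mem_range_self d y⟩, hxinj (by rw [hιx]; exact hy)⟩
    · rintro ⟨⟨_, y, rfl⟩, rfl⟩
      apply Subtype.ext
      show Submodule.Quotient.mk (p := N) (xo (ι _)) = 0
      rw [Submodule.Quotient.mk_eq_zero, hιx]
      exact LinearMap.mem_range_self (ds ∘ₗ d) y
  have hsurj : Function.Surjective g := by
    rintro ⟨t, ht⟩
    obtain ⟨x, rfl⟩ := Submodule.Quotient.mk_surjective _ t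
    obtain ⟨⟨k, hk⟩, hk'⟩ := ht
    have hk2 : k • x ∈ N := by
      rw [← Submodule.Quotient.mk_eq_zero, Submodule.Quotient.mk_smul]; exact hk'
    obtain ⟨y, hy⟩ := hk2
    -- `B₀ x` vanishes on `ker d`, so it descends to `I`
    have hker' : LinearMap.ker d ≤ LinearMap.ker (B₀ x) := by
      intro z hz
      rw [LinearMap.mem_ker] at hz ⊢
      have : k * B₀ x z = 0 := by
        rw [← smul_eq_mul, ← LinearMap.smul_apply, ← map_smul, ← hy, LinearMap.comp_apply,
          h₀s.eq (ds (d y)) z, ← hadj, hz, map_zero, LinearMap.zero_apply]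
      exact (mul_eq_zero.1 this).resolve_left (nonZeroDivisors.ne_zero hk)
    let ψ : Module.Dual ℤ I :=
      ((LinearMap.ker d).liftQ (B₀ x) hker') ∘ₗ d.quotKerEquivRange.symm.toLinearMap
    refine ⟨ψ, Subtype.ext ?_⟩
    show Submodule.Quotient.mk (xo ψ) = Submodule.Quotient.mk x
    congr 1
    apply huni.injective
    apply LinearMap.ext
    intro y'
    rw [hxo]
    simp only [ψ, LinearMap.comp_apply, LinearEquiv.coe_coe]
    rw [show d.quotKerEquivRange.symm ⟨d y', LinearMap.mem_range_self d y'⟩ = Submodule.Quotient.mk y' from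
      (LinearEquiv.symm_apply_eq _).2 (Subtype.ext (d.quotKerEquivRange_apply_mk y').symm),
      Submodule.liftQ_apply]
  let e := (Submodule.quotEquivOfEq _ _ hker).symm.trans (g.quotKerEquivOfSurjective hsurj)
  refine ⟨e.symm, fun x hx ψ hψ => ?_⟩
  rw [LinearEquiv.symm_apply_eq]
  apply Subtype.ext
  have hxe : x = xo ψ := huni.injective (LinearMap.ext fun y' => by rw [hxo, hψ])
  subst hxe
  rfl

end Groth.Agent.S3352
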