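import Groth.Statements.S3353
import Groth.Agent.L18.LocPicCI
import Groth.Agent.S0291
import Groth.Agent.S2824

set_option autoImplicit false
set_option linter.style.haveILetI false
set_option backward.isDefEq.respectTransparency.types false
set_option backward.isDefEq.respectTransparency false
universe u
open AlgebraicGeometry
open ParaF

namespace Groth.Agent.S3353

/-- Let A be a Noetherian local ring of Krull dimension at least 4 which is a complete intersection: A
is isomorphic to the quotient of a regular local ring by an ideal generated by a regular sequence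
contained in the maximal ideal. Then A is parafactorial: for every open V of Spec A, restriction of
invertible modules from V to V minus the closed point is fully faithful and essentially surjective. -/
theorem result (A : Type u) [CommRing A] [IsLocalRing A] [IsNoetherianRing A] (hA : SGA2.IsAbsCompleteIntersection A) (hdim : (4 : WithBot ℕ∞) ≤ ringKrullDim A) : ParaF.IsParafactorialLocalRing A := by
  obtain ⟨B, _, hB, rs, hrs, hreg, ⟨e⟩⟩ := hA
  haveI := hB
  let π : B →+* A := e.symm.toRingHom.comp (Ideal.Quotient.mk _)
  have hπ : Function.Surjective π := e.symm.surjective.comp Ideal.Quotient.mk_surjective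
  have hker : RingHom.ker π = Ideal.ofList rs := by
    ext x
    rw [RingHom.mem_ker]
    exact (map_eq_zero_iff _ e.symm.injective).trans Ideal.Quotient.eq_zero_iff_mem
  have hdepth : (2 : ℕ∞) ≤ LocCoh.depth A A :=
    Groth.L18.LocPic.le_depth_of_le_dim rs hrs hreg.toIsWeaklyRegular π hπ hker (k := 2)
      (le_trans (by norm_num) hdim)
  refine (Groth.Agent.S2824.result A).2 ⟨?_,
    fun L hL => Groth.L18.LocPic.picTrivial_ci rs.length B A rs rfl hrs hreg.toIsWeaklyRegular π hπ hker hdim L hL⟩
  let R := CommRingCat.of A
  let U := FEt.puncturedSpec A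
  have hb : Groth.L14.ParaF.Bij (Coh.structureModule (Spec R)) ⊤ U := by
    refine ⟨le_top, ?_⟩
    haveI := Groth.Agent.S0291.result A A (fun m hm => ?_)
    · have he : Spec.map (CommRingCat.ofHom (algebraMap A A)) ⁻¹ᵁ U = U := by
        rw [Algebra.algebraMap_self]
        erw [Spec.map_id]
        rfl
      have h2 := CategoryTheory.ConcreteCategory.bijective_of_isIso ((Spec R).presheaf.map (CategoryTheory.homOfLE (le_top :
        Spec.map (CommRingCat.ofHom (algebraMap A A)) ⁻¹ᵁ U ≤ ⊤)).op)
      exact (Groth.L14.ParaF.Bij.congr (M := Coh.structureModule (Spec R)) ⟨le_top, h2⟩ rfl he).2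
    · obtain rfl := IsLocalRing.eq_maximalIdeal hm
      have e : A ≃+* Localization.AtPrime (IsLocalRing.maximalIdeal A) :=
        (IsLocalization.atUnits A (IsLocalRing.maximalIdeal A).primeCompl
          (fun a ha => IsLocalRing.notMem_maximalIdeal.1 ha)).toRingEquiv
      exact hdepth.trans (Groth.L06.FlatFibre.depth_eq_of_ringEquiv e).ge
  exact hb.2

end Groth.Agent.S3353
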