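import Groth.Statements.S3354
import Groth.Agent.L18.ParaFPic

set_option autoImplicit false
set_option linter.style.haveILetI false
set_option backward.isDefEq.respectTransparency.types false
set_option backward.isDefEq.respectTransparency false
universe u
open CategoryTheory CategoryTheory.Limits AlgebraicGeometry
open ParaF

namespace Groth.Agent.S3354

/-- Let A be a Noetherian local ring which is a quotient of a regular local ring, t an A-regular element
of the maximal ideal such that A is complete for the t-adic topology, X the punctured spectrum of A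
and Y = V(t) ∩ X (the punctured spectrum of B = A/tA, as the closed subscheme of X cut out by t).
Assume (a) A_p has depth ≥ 2 for every prime p with dim A/p = 1 (the closed points of X) and (b) B
has depth ≥ 3. Then the map Pic(X) → Pic(Y) has trivial kernel: an invertible O_X-module whose
pull-back to Y is trivial is trivial. In particular, if B is parafactorial then A is parafactorial. -/
theorem result (R : Type u) [CommRing R] [IsRegularLocalRing R] (A : Type u) [CommRing A] [IsLocalRing A] [IsNoetherianRing A] (π : R →+* A) (hπ : Function.Surjective π) (t : A) (ht : t ∈ IsLocalRing.maximalIdeal A) (hreg : IsSMulRegular A t) [IsAdicComplete (Ideal.span {t}) A] (ha : ∀ p : PrimeSpectrum A, ringKrullDim (A ⧸ p.asIdeal) = 1 → (2 : ℕ∞) ≤ LocCoh.depth (Localization.AtPrime p.asIdeal) (Localization.AtPrime p.asIdeal)) [IsLocalRing (A ⧸ Ideal.span {t})] (hb : (3 : ℕ∞) ≤ LocCoh.depth (A ⧸ Ideal.span {t}) (A ⧸ Ideal.span {t})) : Formal2.PicPullbackInjective (((Spec.map (CommRingCat.ofHom (Ideal.Quotient.mk (Ideal.span {t})))).ker.comap (FEt.puncturedSpec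 A).ι)).subschemeι ∧ (ParaF.IsParafactorialLocalRing (A ⧸ Ideal.span {t}) → ParaF.IsParafactorialLocalRing A) := by
  have hnzd : t ∈ nonZeroDivisors A :=
    mem_nonZeroDivisors_iff_right.2 fun z hz => hreg (by simpa [mul_comm] using hz : t • z = t • 0)
  obtain ⟨ℓ, hℓ⟩ := Groth.L18.ParaFPic.exists_iso_subscheme t (FEt.puncturedSpec A)
  refine ⟨fun L hL ⟨φ⟩ => ?_, fun hB => ?_⟩
  · exact Groth.L18.ParaFPic.nonempty_iso_of_trivial π hπ t ht hnzd ha hb L hL
      ((Scheme.Modules.pullbackCongr hℓ.symm).app L ≪≫ ((Scheme.Modules.pullbackComp ℓ.hom _).app L).symm ≪≫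
        (Scheme.Modules.pullback ℓ.hom).mapIso φ ≪≫ Groth.L29.LocFree.pullbackUnitIso _)
  · refine Groth.L18.ParaFPic.isParafactorial_of_picTrivial
      (Groth.L18.ParaFPic.two_le_depth t ht hreg ((show (2 : ℕ∞) ≤ 3 by norm_num).trans hb)) fun L hL => ?_
    have hP := ((Groth.Agent.S2824.result _).1 hB).2
    have hP' : Formal2.PicTrivial (↑(Formal2.specQuotMap A t ⁻¹ᵁ FEt.puncturedSpec A) : Scheme.{u}) := by
      rw [Groth.L18.ParaFPic.preimage_quot]
      exact hP
    obtain ⟨φ⟩ := hP' _ (PicLoc.isInvertible_pullback _ hL)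
    exact Groth.L18.ParaFPic.nonempty_iso_of_trivial π hπ t ht hnzd ha hb L hL φ

end Groth.Agent.S3354
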