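import Groth.Statements.S3355
import Groth.Agent.L18.ParaFPic
import Groth.Agent.S0812

set_option autoImplicit false
set_option linter.style.haveILetI false
set_option linter.unusedVariables false
set_option backward.isDefEq.respectTransparency.types false
set_option backward.isDefEq.respectTransparency false
universe u
open CategoryTheory CategoryTheory.Limits AlgebraicGeometry
open ParaF

namespace Groth.Agent.S3355

/-- Let A be a Noetherian local ring which is a quotient of a regular local ring, t an A-regular element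
of the maximal ideal with A complete for the t-adic topology, X the punctured spectrum of A and Y =
V(t) ∩ X, and assume (a) depth A_p ≥ 2 for every prime p with dim A/p = 1. Assume moreover (c) depth
A_p ≥ 3 for every prime p containing t with dim A/p = 1 (the closed points of Y), (d) depth A/tA ≥
4, and (e) A_p is parafactorial for every prime p not containing t with dim A/p = 1, i.e. at the
closed points of X outside Y (the published statement places this hypothesis at the points of Y;
here it is taken at the closed points of X outside Y; the letters (a), (c), (d), (e) match the names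
of the hypotheses in the Lean statement). Then pull-back along Y → X induces a bijection Pic(X) →
Pic(Y) (trivial kernel and every invertible O_Y-module comes from an invertible O_X-module); in
particular A is parafactorial if and only if A/tA is. -/
theorem result (R : Type u) [CommRing R] [IsRegularLocalRing R] (A : Type u) [CommRing A] [IsLocalRing A] [IsNoetherianRing A] (π : R →+* A) (hπ : Function.Surjective π) (t : A) (ht : t ∈ IsLocalRing.maximalIdeal A) (hreg : IsSMulRegular A t) [IsAdicComplete (Ideal.span {t}) A] (ha : ∀ p : PrimeSpectrum A, ringKrullDim (A ⧸ p.asIdeal) = 1 → (2 : ℕ∞) ≤ LocCoh.depth (Localization.AtPrime p.asIdeal) (Localization.AtPrime p.asIdeal)) (hc : ∀ p : PrimeSpectrum A, t ∈ p.asIdeal → ringKrullDim (A ⧸ p.asIdeal) = 1 → (3 : ℕ∞) ≤ LocCoh.depth (Localization.AtPrime p.asIdeal) (Localization.AtPrime p.asIdeal)) [IsLocalRing (A ⧸ Ideal.span {t})] (hd : (4 : ℕ∞) ≤ LocCoh.depth (A ⧸ Ideal.span {t}) (A ⧸ Ideal.span {t})) (he : ∀ p : PrimeSpectrum A, t ∉ p.asIdeal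 → ringKrullDim (A ⧸ p.asIdeal) = 1 → ParaF.IsParafactorialLocalRing (Localization.AtPrime p.asIdeal)) : (Formal2.PicPullbackInjective (((Spec.map (CommRingCat.ofHom (Ideal.Quotient.mk (Ideal.span {t})))).ker.comap (FEt.puncturedSpec A).ι)).subschemeι ∧ Formal2.PicPullbackSurjective (((Spec.map (CommRingCat.ofHom (Ideal.Quotient.mk (Ideal.span {t})))).ker.comap (FEt.puncturedSpec A).ι)).subschemeι) ∧ (ParaF.IsParafactorialLocalRing A ↔ ParaF.IsParafactorialLocalRing (A ⧸ Ideal.span {t})) := by
  have hnzd : t ∈ nonZeroDivisors A :=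
    mem_nonZeroDivisors_iff_right.2 fun z hz => hreg (by simpa [mul_comm] using hz : t • z = t • 0)
  have hb : (3 : ℕ∞) ≤ LocCoh.depth (A ⧸ Ideal.span {t}) (A ⧸ Ideal.span {t}) :=
    (show (3 : ℕ∞) ≤ 4 by norm_num).trans hd
  obtain ⟨ℓ, hℓ⟩ := Groth.L18.ParaFPic.exists_iso_subscheme t (FEt.puncturedSpec A)
  have hH := Groth.L18.ParaFPic.depth_quot_H t (k := 4) hd
  have hfin : ∀ i < 4, Module.Finite A
      (LocCoh.H (IsLocalRing.maximalIdeal A) i (A ⧸ Ideal.span {t})) := fun i hi => by
    haveI := hH i hi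
    exact Module.Finite.of_finite
  have hsur := Groth.Agent.S0812.result A t ht hnzd (hfin 1 (by norm_num)) (hfin 2 (by norm_num))
    (hH 3 (by norm_num)) fun q hq htq hmax => by
      have h1 := ((Groth.Agent.S8804.result A (Ideal.span {t}) ⟨q, hq⟩).out 0 1 rfl rfl).1
        ⟨fun h => htq ((Ideal.span_singleton_le_iff_mem _).1 h), fun r hr hn => PrimeSpectrum.ext
          (hmax r.asIdeal r.2 hr fun h => hn ((Ideal.span_singleton_le_iff_mem _).2 h))⟩
      exact ((Groth.Agent.S2824.result _).1 (he ⟨q, hq⟩ htq h1.1)).2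
  have hinj : ∀ L, PicF.IsInvertible L →
      Nonempty ((Scheme.Modules.pullback (Formal2.specQuotMap A t ∣_ FEt.puncturedSpec A)).obj L ≅
        Coh.structureModule _) →
      Nonempty (L ≅ Coh.structureModule (↑(FEt.puncturedSpec A) : Scheme.{u})) :=
    fun L hL ⟨φ⟩ => Groth.L18.ParaFPic.nonempty_iso_of_trivial π hπ t ht hnzd ha hb L hL φ
  refine ⟨⟨fun L hL ⟨φ⟩ => hinj L hL ⟨?_⟩, fun L' hL' => ?_⟩, fun hA => ?_, fun hB => ?_⟩
  · exact (Scheme.Modules.pullbackCongr hℓ.symm).app L ≪≫ ((Scheme.Modules.pullbackComp ℓ.hom _).app L).symm ≪≫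
      (Scheme.Modules.pullback ℓ.hom).mapIso φ ≪≫ Groth.L29.LocFree.pullbackUnitIso _
  · obtain ⟨L, hL, ⟨ψ⟩⟩ := hsur ((Scheme.Modules.pullback ℓ.hom).obj L') (PicLoc.isInvertible_pullback _ hL')
    have hc : ℓ.inv ≫ (Formal2.specQuotMap A t ∣_ FEt.puncturedSpec A) = _ := (Iso.inv_comp_eq ℓ).2 hℓ.symm
    exact ⟨L, hL, ⟨(Scheme.Modules.pullbackCongr hc.symm).app L ≪≫
      ((Scheme.Modules.pullbackComp ℓ.inv _).app L).symm ≪≫ (Scheme.Modules.pullback ℓ.inv).mapIso ψ ≪≫
      (Scheme.Modules.pullbackComp ℓ.inv ℓ.hom).app L' ≪≫ (Scheme.Modules.pullbackCongr ℓ.inv_hom_id).app L' ≪≫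
      (Scheme.Modules.pullbackId _).app L'⟩⟩
  · refine Groth.L18.ParaFPic.isParafactorial_of_picTrivial ((show (2 : ℕ∞) ≤ 4 by norm_num).trans hd) ?_
    have hP : Formal2.PicTrivial (↑(Formal2.specQuotMap A t ⁻¹ᵁ FEt.puncturedSpec A) : Scheme.{u}) := fun L₀ hL₀ => by
      obtain ⟨L, hL, ⟨ψ⟩⟩ := hsur L₀ hL₀
      obtain ⟨φ⟩ := ((Groth.Agent.S2824.result A).1 hA).2 L hL
      exact ⟨ψ.symm ≪≫ (Scheme.Modules.pullback _).mapIso φ ≪≫ Groth.L29.LocFree.pullbackUnitIso _⟩
    rwa [Groth.L18.ParaFPic.preimage_quot] at hP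
  · refine Groth.L18.ParaFPic.isParafactorial_of_picTrivial
      (Groth.L18.ParaFPic.two_le_depth t ht hreg ((show (2 : ℕ∞) ≤ 4 by norm_num).trans hd)) fun L hL => ?_
    have hP : Formal2.PicTrivial (↑(Formal2.specQuotMap A t ⁻¹ᵁ FEt.puncturedSpec A) : Scheme.{u}) := by
      rw [Groth.L18.ParaFPic.preimage_quot]
      exact ((Groth.Agent.S2824.result _).1 hB).2
    exact hinj L hL (hP _ (PicLoc.isInvertible_pullback _ hL))

end Groth.Agent.S3355
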