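import Groth.Statements.S3359
import Groth.Agent.L18.NegVanishLimit
-- import your own Groth.Agent.* helpers here

set_option autoImplicit false
set_option backward.isDefEq.respectTransparency.types false
set_option backward.isDefEq.respectTransparency false
universe u
open CategoryTheory CategoryTheory.Limits AlgebraicGeometry
open Lef

namespace Groth.Agent.S3359

/-- Let A be a Noetherian ring, X a proper flat A-scheme and 𝓘 a quasi-coherent ideal of O_X whose ideal
module is invertible with ample inverse L (so 𝓘 is the ideal of the zero scheme Y of a regular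
section of the ample invertible module L, and X is projective over A). Let n ≥ 0 and assume that for
every point s of Spec A the fibre X_s has depth > n at each of its closed points. Then the canonical
map from H^i(X, O_X) to the inverse limit over m of the H^i(X, O_X/𝓘^{m+1}), the transition maps
being induced by the quotient maps, is injective for i ≤ n and surjective for i < n. The published
statement factors this map through the cohomology of the formal completion of X along Y and is over
a general base and for a coherent module flat over it, rather than over Spec A and for O_X; the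
depth hypothesis is read here at the points that are closed in their fibre. -/
theorem result (A : Type u) [CommRing A] [IsNoetherianRing A] (X : Scheme.{u}) [X.Over (Spec (CommRingCat.of A))] [IsProper (X ↘ Spec (CommRingCat.of A))] [Flat (X ↘ Spec (CommRingCat.of A))] (𝓘 : X.IdealSheafData) (L : X.Modules) (hL : ClSub.IsInverseOf L (ClSub.idealMod 𝓘)) (hamp : CohB1.IsAmple L) (n : ℕ) (hdepth : ∀ x : X, IsClosed ({((X ↘ Spec (CommRingCat.of A))).asFiber x} : Set ↥(((X ↘ Spec (CommRingCat.of A))).fiber (((X ↘ Spec (CommRingCat.of A))).base x))) → (n : ℕ∞) < LocCoh.depth ↑(CInt.fiberStalk (X ↘ Spec (CommRingCat.of A)) x) ↑(CInt.fiberStalk (X ↘ Spec (CommRingCat.of A)) x)) (i : ℕ) : (i ≤ n → ∀ x : Coh.HH X (Coh.structureModule X) i, (∀ m : ℕ, Sheaf.H.map ((SheafOfModules.toSheaf X.ringCatSheaf).map (ClSub.toSubscheme (𝓘 ^ (m + 1)))) i x = 0) → x = 0) ∧ (i < n → ∀ y : (∀ m : ℕ, Coh.HH X (ClSub.quotMod (𝓘 ^ (m + 1))) i), (∀ m : ℕ, Sheaf.H.map ((SheafOfModules.toSheaf X.ringCatSheaf).map (Lef.quotMap (Lef.pow_succ_le 𝓘 m))) i (y (m + 1)) =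 y m) → ∃ x : Coh.HH X (Coh.structureModule X) i, ∀ m : ℕ, Sheaf.H.map ((SheafOfModules.toSheaf X.ringCatSheaf).map (ClSub.toSubscheme (𝓘 ^ (m + 1)))) i x = y m) := by
  let f := X ↘ Spec (CommRingCat.of A)
  obtain ⟨e⟩ := id hL
  have hI : PicF.IsInvertible (ClSub.idealMod 𝓘) := Groth.L22.EnrSev.isInvertible_of_inverse hamp.1 e
  obtain ⟨m₀, hm₀⟩ := Groth.L18.NegVanish.exists_vanish_pow f hamp e n (fun x hx => by
    rw [ENat.coe_add, ENat.coe_one]
    exact Order.add_one_le_of_lt (hdepth x hx)) 0
  exact Groth.L18.NegVanish.limit_of_vanish (O' := Coh.structureModule X) (fun m => ClSub.idealMod (𝓘 ^ (m + 1)))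
    (fun m => ClSub.quotMod (𝓘 ^ (m + 1))) (fun m => ClSub.idealModι (𝓘 ^ (m + 1)))
    (fun m => ClSub.toSubscheme (𝓘 ^ (m + 1))) (fun m => kernel.condition _)
    (fun m => Groth.L18.LefTwists.shortExact_ideal _) (fun m => Lef.quotMap (Lef.pow_succ_le 𝓘 m))
    (fun m => Groth.L18.LefConnected.toSubscheme_quotMap _) n m₀ (fun m hm q hq => by
      obtain ⟨-, ⟨ε⟩⟩ := Groth.L13.PointBlow.nonempty_idealMod_pow hI (m + 1)
      exact Groth.L22.EnrSev.subsingleton_of_iso (Groth.L00.Tensor.tensorUnitLeft _ ≪≫ ε.symm) q
        (hm₀ (m + 1) (by omega) q hq)) i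

end Groth.Agent.S3359
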