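import Groth.Statements.S3363
import Groth.Agent.L13.FEtLeff.LinSec

set_option maxSynthPendingDepth 3
set_option backward.isDefEq.respectTransparency.types false

set_option autoImplicit false
universe u
open CategoryTheory CategoryTheory.Limits AlgebraicGeometry TopologicalSpace
open LefX

namespace Groth.Agent.S3363

/-- Let A be a normal complete Noetherian local domain of dimension ≥ k + 2, X' its punctured spectrum,
f_1, …, f_k elements of the maximal ideal and Y' = X' ∩ V(f_1, …, f_k), the closed subscheme of X'
cut out by the f_i. Then Y' is connected and restriction of finite étale covers from X' to Y' is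
fully faithful (for the fundamental groups: π₁(Y') → π₁(X') is surjective). -/
theorem result (A : Type u) [CommRing A] [IsDomain A] [IsNoetherianRing A] [IsLocalRing A] [IsIntegrallyClosed A] [IsAdicComplete (IsLocalRing.maximalIdeal A) A] (k : ℕ) (hdim : ((k + 2 : ℕ) : WithBot ℕ∞) ≤ ringKrullDim A) (f : Fin k → A) (hf : ∀ i, f i ∈ IsLocalRing.maximalIdeal A) : ConnectedSpace ↥(((Spec.map (CommRingCat.ofHom (Ideal.Quotient.mk (Ideal.span (Set.range f))))).ker.comap (FEt.puncturedSpec A).ι).subscheme) ∧ (FEt.restrict ((Spec.map (CommRingCat.ofHom (Ideal.Quotient.mk (Ideal.span (Set.range f))))).ker.comap (FEt.puncturedSpec A).ι).subschemeι).Full ∧ (FEt.restrict ((Spec.map (CommRingCat.ofHom (Ideal.Quotient.mk (Ideal.span (Set.range f))))).ker.comap (FEt.puncturedSpec A).ι).subschemeι).Faithful := by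
  obtain ⟨d, hd'⟩ := Groth.L04.Canon.exists_quotDim_eq (bot_ne_top : (⊥ : Ideal A) ≠ ⊤)
  have hd : ringKrullDim A = d := (ringKrullDim_eq_of_ringEquiv (RingEquiv.quotientBot A)).symm.trans hd'
  rw [hd] at hdim
  have hk : k + 2 ≤ d := by exact_mod_cast hdim
  have H := Groth.L13.FEtLeff.LinSec.keepsConnected A hd hk f hf
  haveI : CompactSpace ↥(FEt.puncturedSpec A).toScheme :=
    isCompact_iff_compactSpace.1 (TopologicalSpace.NoetherianSpace.isCompact
      (FEt.puncturedSpec A : Set (Spec (CommRingCat.of A))))
  haveI : AlgebraicGeometry.IsNoetherian (FEt.puncturedSpec A).toScheme := ⟨⟩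
  refine ⟨?_, Groth.L13.FEtLeff.ConnCrit.fullyFaithful _ H⟩
  haveI := H _ (𝟙 _) inferInstance inferInstance
    (Groth.L13.FEtLeff.LinSec.connectedSpace_puncturedSpec A hd (by omega))
  let i := ((Spec.map (CommRingCat.ofHom (Ideal.Quotient.mk (Ideal.span (Set.range f))))).ker.comap
    (FEt.puncturedSpec A).ι).subschemeι
  let q := pullback.snd (𝟙 (FEt.puncturedSpec A).toScheme) i
  exact q.surjective.connectedSpace q.continuous

end Groth.Agent.S3363
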