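import Groth.Statements.S3366
import Groth.Agent.L28.Pair.SemiUpper
-- import your own Groth.Agent.* helpers here

set_option autoImplicit false
universe u
open CategoryTheory CategoryTheory.Limits AlgebraicGeometry Opposite
open EtDepth

set_option linter.style.haveILetI false
set_option backward.isDefEq.respectTransparency.types false

namespace Groth.Agent.S3366

/-- Semi-purity, for a scheme smooth over a field: let k be a field, X a smooth k-scheme, j : U → X an
open immersion whose closed complement Y is nonempty of codimension c (every local ring O_{X,y} with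
y ∈ Y has dimension at least c, and some has dimension exactly c), and ℓ a prime number invertible
in k. Then the Y-étale depth of the constant sheaf ℤ/ℓ on X is exactly 2c: it is at least 2c and not
at least 2c + 1 (the local cohomology sheaves H^p_Y(X, ℤ/ℓ) vanish for p < 2c and H^{2c}_Y(X, ℤ/ℓ)
does not vanish). -/
theorem result (k : Type u) [Field k] {X U : Scheme.{u}} (f : X ⟶ Spec (CommRingCat.of k)) [Smooth f] (j : U ⟶ X) [IsOpenImmersion j] [EtCoh.BCCont j] (c : ℕ) (hc : ∀ y : X, y ∉ Set.range j.base → (c : WithBot ℕ∞) ≤ ringKrullDim (X.presheaf.stalk y)) (hc' : ∃ y : X, y ∉ Set.range j.base ∧ ringKrullDim (X.presheaf.stalk y) = c) (ℓ : ℕ) (hℓ : ℓ.Prime) (hℓk : (ℓ : k) ≠ 0) : EtDepth.DepthGE j (EtCoh.const X (ZMod ℓ)) (2 * c) ∧ ¬ EtDepth.DepthGE j (EtCoh.const X (ZMod ℓ)) (2 * c + 1) := by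
  haveI : IsLocallyNoetherian X := LocallyOfFiniteType.isLocallyNoetherian f
  haveI : QuasiCompact j := inferInstance
  refine ⟨Groth.L28.Depth.depthGE_of_depthAtGE j _ _ fun y hy =>
    Groth.L28.Pair.Semi.holds f ℓ hℓ hℓk y c (hc y hy), fun h => ?_⟩
  obtain ⟨y, hy, hdim⟩ := hc'
  exact Groth.L28.Pair.Semi.not_depthGE f j y hy c hdim.le ℓ hℓ hℓk h

end Groth.Agent.S3366
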