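import Groth.Statements.S3367
import Groth.Agent.L13.FEtLeff.CIEtale
import Groth.Agent.L13.FEtLeff.Leff
import Groth.Agent.L13.FEtLeff.CI
import Groth.Agent.L13.FEtLeff.Descend
import Groth.Agent.S0247

set_option maxSynthPendingDepth 3
set_option backward.isDefEq.respectTransparency.types false

set_option autoImplicit false
universe u
open CategoryTheory CategoryTheory.Limits AlgebraicGeometry Opposite
open EtDepth

namespace Groth.Agent.S3367

/-- Let X be a locally Noetherian scheme and j : U → X an open immersion with closed complement Y.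
Assume either that every local ring of X is regular and dim O_{X,y} ≥ 2 for all y ∈ Y, or that every
local ring of X is a complete intersection (quotient of a regular local ring by a regular sequence)
and dim O_{X,y} ≥ 3 for all y ∈ Y. Then the Y-homotopic depth of X is ≥ 3: for every scheme X' étale
over X, base change of finite étale covers from X' to X' ×_X U is an equivalence of categories. -/
theorem result {X U : Scheme.{u}} [IsLocallyNoetherian X] (j : U ⟶ X) [IsOpenImmersion j] (h : (∀ x : X, IsRegularLocalRing (X.presheaf.stalk x)) ∧ (∀ y : X, y ∉ Set.range j.base → (2 : WithBot ℕ∞) ≤ ringKrullDim (X.presheaf.stalk y)) ∨ (∀ x : X, SGA2.IsAbsCompleteIntersection (X.presheaf.stalk x)) ∧ (∀ y : X, y ∉ Set.range j.base → (3 : WithBot ℕ∞) ≤ ringKrullDim (X.presheaf.stalk y))) : EtDepth.HtpDepthGE3 j := by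
  intro X' g hg
  haveI : IsLocallyNoetherian X' := LocallyOfFiniteType.isLocallyNoetherian g
  let q := pullback.snd j g
  haveI : IsOpenImmersion q := inferInstanceAs (IsOpenImmersion (pullback.snd j g))
  let V := q.opensRange
  have hout : ∀ x : X', x ∉ V → g x ∉ Set.range j.base := fun x hx hgx => hx (by
    show x ∈ Set.range q
    rw [Scheme.Pullback.range_snd]
    exact hgx)
  have key : ∀ x : X', x ∉ V → (2 : ℕ∞) ≤ LocCoh.depth (X'.presheaf.stalk x) (X'.presheaf.stalk x) ∧
      FEt.PurityHolds (X'.presheaf.stalk x) := fun x hx => by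
    have hdim := Groth.L27.EtLocal.ringKrullDim_stalk_eq g x
    rcases h with ⟨hr, hd⟩ | ⟨hc, hd⟩
    · haveI := (Groth.L27.EtLocal.isRegularLocalRing_stalk_iff g x).2 (hr (g x))
      have h2 := (hd _ (hout x hx)).trans hdim.ge
      exact ⟨Groth.L13.FEtLeff.two_le_depth_of_regular h2, Groth.Agent.S0247.result _ h2⟩
    · exact Groth.L13.FEtLeff.purityHolds_absCI (Groth.L13.FEtLeff.CIEtale.absCI_stalk g x (hc (g x)))
        ((hd _ (hout x hx)).trans hdim.ge)
  haveI := Groth.L13.FEtLeff.isEquivalence_restrict_of_depth_purity V (fun x hx => (key x hx).1)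
    fun x hx => (key x hx).2
  haveI := Groth.L16.PureQuot.isEquivalence_of_isIso q.isoOpensRange.hom
  exact Functor.isEquivalence_of_iso (Groth.L13.FEtLeff.restrictFacIso q.isoOpensRange_hom_ι).symm

end Groth.Agent.S3367
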