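import Groth.Statements.S3373
import Groth.Agent.L18.RegModSys

set_option autoImplicit false
set_option linter.style.haveILetI false
set_option backward.isDefEq.respectTransparency.types false
set_option backward.isDefEq.respectTransparency false
universe u
open CategoryTheory CategoryTheory.Limits AlgebraicGeometry
open FSch

namespace Groth.Agent.S3373

/-- Let A be a Noetherian local ring which is a quotient of a regular ring, t a member of the maximal
ideal for which A is separated and complete in the t-adic topology, X the punctured spectrum of A,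
and 𝔉 a coherent module on the formal completion of X along V(t) ∩ X, given as a system (F_N) of
coherent modules on the closed subschemes X_N = V(t^(N+1)) ∩ X with F_{N+1}|_{X_N} ≅ F_N. Assume (1)
t is 𝔉-regular, expressed on the system by: for every N ≥ 1 the kernel of multiplication by t^N on
F_N equals the image of multiplication by t; and (2) for every closed point y of X_0 the stalk of
F_0 at y has depth ≥ 2 over O_{X_0,y}. Then there is a coherent O_X-module F whose completion along
V(t) ∩ X is isomorphic to 𝔉. -/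
theorem result (R : Type u) [CommRing R] [IsRegularRing R] (A : Type u) [CommRing A] [IsLocalRing A] [IsNoetherianRing A] (π : R →+* A) (hπ : Function.Surjective π) (t : A) (ht : t ∈ IsLocalRing.maximalIdeal A) [IsAdicComplete (Ideal.span {t}) A] (𝔐 : FSch.ModSys (FSch.completionAlong (↑(FEt.puncturedSpec A) : Scheme.{u}) ((Spec.map (CommRingCat.ofHom (Ideal.Quotient.mk (Ideal.span {t})))).ker.comap (FEt.puncturedSpec A).ι))) (hcoh : 𝔐.IsCoh) (hreg : ∀ N : ℕ, 1 ≤ N → kernelSubobject (Formal.smulModΓ (𝔐.F N) ((((FSch.completionToX (↑(FEt.puncturedSpec A) : Scheme.{u}) ((Spec.map (CommRingCat.ofHom (Ideal.Quotient.mk (Ideal.span {t})))).ker.comap (FEt.puncturedSpec A).ι) N) ≫ (FEt.puncturedSpec A).ι).appTop.hom ((Scheme.ΓSpecIso (CommRingCat.of A)).inv t)) ^ N)) = imageSubobject (Formal.smulModΓ (𝔐.F N) (((FSch.completionToX (↑(FEt.puncturedSpec A) : Scheme.{u}) ((Spec.map (CommRingCat.ofHom (Ideal.Quotient.mk (Ideal.span {t})))).ker.comap (FEt.puncturedSpec A).ι) N) ≫ (FEt.puncturedSpec A).ι).appTop.hom ((Scheme.ΓSpecIso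 (CommRingCat.of A)).inv t)))) (hdepth : ∀ y : ↥((FSch.completionAlong (↑(FEt.puncturedSpec A) : Scheme.{u}) ((Spec.map (CommRingCat.ofHom (Ideal.Quotient.mk (Ideal.span {t})))).ker.comap (FEt.puncturedSpec A).ι)).X 0), IsClosed ({y} : Set ↥((FSch.completionAlong (↑(FEt.puncturedSpec A) : Scheme.{u}) ((Spec.map (CommRingCat.ofHom (Ideal.Quotient.mk (Ideal.span {t})))).ker.comap (FEt.puncturedSpec A).ι)).X 0)) → (2 : ℕ∞) ≤ LocCoh.depth (((FSch.completionAlong (↑(FEt.puncturedSpec A) : Scheme.{u}) ((Spec.map (CommRingCat.ofHom (Ideal.Quotient.mk (Ideal.span {t})))).ker.comap (FEt.puncturedSpec A).ι)).X 0).presheaf.stalk y) ((𝔐.F 0).presheaf.stalk y)) : ∃ F : (↑(FEt.puncturedSpec A) : Scheme.{u}).Modules, Coh.IsCoh F ∧ Nonempty (FSch.completionMod ((Spec.map (CommRingCat.ofHom (Ideal.Quotient.mk (Ideal.span {t})))).ker.comap (FEt.puncturedSpec A).ι) F ≅ 𝔐) := by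
  have hU : FEt.puncturedSpec A = LocCoh.puncturedOpen A (IsLocalRing.maximalIdeal A) := by
    refine TopologicalSpace.Opens.ext (Set.ext fun p => not_congr ?_)
    exact ⟨fun h => (show p = IsLocalRing.closedPoint A from h) ▸ (fun _ hm => hm),
      fun h => PrimeSpectrum.ext (((IsLocalRing.maximalIdeal.isMaximal A).eq_of_le p.2.ne_top h).symm)⟩
  refine Groth.L18.RegModSys.exists_algebraization π hπ t (IsLocalRing.maximalIdeal A) _ hU _ rfl 𝔐 hcoh hreg
    fun y ⟨q, hq, hpq⟩ => hdepth y ?_
  have hq' : q.asIdeal = IsLocalRing.maximalIdeal A :=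
    ((IsLocalRing.maximalIdeal.isMaximal A).eq_of_le q.2.ne_top hq).symm
  let 𝓘 := (Spec.map (CommRingCat.ofHom (Ideal.Quotient.mk (Ideal.span {t})))).ker.comap (FEt.puncturedSpec A).ι
  let i := FSch.completionToX (↑(FEt.puncturedSpec A) : Scheme.{u}) 𝓘 0
  haveI : IsClosedImmersion i := Groth.L17.FSheaf.isClosedImmersion_completionToX 𝓘 0
  refine (i.isClosedEmbedding.isClosed_iff_image_isClosed).2 ?_
  rw [Set.image_singleton]
  refine isClosed_of_closure_subset fun z hz => ?_
  have hs : (FEt.puncturedSpec A).ι (i y) ⤳ (FEt.puncturedSpec A).ι z :=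
    (specializes_iff_mem_closure.2 hz).map (FEt.puncturedSpec A).ι.continuous
  let p' : PrimeSpectrum A := (FEt.puncturedSpec A).ι (i y)
  let r : PrimeSpectrum A := (FEt.puncturedSpec A).ι z
  have hle : p' ≤ r := (PrimeSpectrum.le_iff_specializes p' r).2 hs
  rcases eq_or_lt_of_le hle with h | h
  · exact Subtype.ext h.symm
  · have hyq : r ≤ q := fun a ha => by rw [hq']; exact IsLocalRing.le_maximalIdeal r.2.ne_top ha
    rcases eq_or_lt_of_le hyq with h' | h'
    · exact absurd (PrimeSpectrum.ext ((congrArg PrimeSpectrum.asIdeal h').trans hq')) z.2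
    · exact absurd h' (hpq.2 h)

end Groth.Agent.S3373
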