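import Groth.Statements.S3374
import Groth.Agent.L18.ModSysAlgz
import Groth.Agent.L18.GrFreeFEt
import Groth.Agent.L18.NormFlatGr
import Groth.Agent.L06.FEtLef.QAffine

set_option autoImplicit false
set_option linter.style.haveILetI false
set_option backward.isDefEq.respectTransparency.types false
set_option backward.isDefEq.respectTransparency false
universe u
open CategoryTheory CategoryTheory.Limits AlgebraicGeometry TopologicalSpace IsLocalRing
open LefX

namespace Groth.Agent.S3374

/-- Let A be a Noetherian local ring, J a proper ideal such that (i) A/J has depth ≥ 3, (ii) every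
J^n/J^(n+1) is a free A/J-module (gr_J(A) is free over A/J), (iii) A is separated and complete for
the J-adic topology. Let U be the punctured spectrum of A, U_0 = U ∩ V(J) and Û the completion of U
along U_0. Then (a) for every finite locally free O_U-module D the map Hom(D, O_U) → lim_n Hom(D,
O_U/J^(n+1)O_U) is bijective (the completion functor is fully faithful on finite locally free
modules), and (b) every levelwise finite locally free system of coherent modules on Û is isomorphic
to the completion of a coherent (not necessarily locally free) O_U-module. -/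
theorem result (A : Type u) [CommRing A] [IsLocalRing A] [IsNoetherianRing A] (J : Ideal A) (hJ : J ≠ ⊤) [IsLocalRing (A ⧸ J)] (hd : (3 : ℕ∞) ≤ LocCoh.depth (A ⧸ J) (A ⧸ J)) (hgr : ∀ n : ℕ, Module.Free (A ⧸ J) (↥(J ^ n) ⧸ (J • (⊤ : Submodule A ↥(J ^ n))))) [IsAdicComplete J A] : (∀ D : (↑(FEt.puncturedSpec A) : Scheme.{u}).Modules, FlatMod.IsFinLocFree D → Lef.HomToFormalBijective ((Spec.map (CommRingCat.ofHom (Ideal.Quotient.mk J))).ker.comap (FEt.puncturedSpec A).ι) D) ∧ (∀ 𝔐 : FSch.ModSys (FSch.completionAlong (↑(FEt.puncturedSpec A) : Scheme.{u}) ((Spec.map (CommRingCat.ofHom (Ideal.Quotient.mk J))).ker.comap (FEt.puncturedSpec A).ι)), LefX.LevelwiseFinLocFree 𝔐 → ∃ F : (↑(FEt.puncturedSpec A) : Scheme.{u}).Modules, Coh.IsCoh F ∧ Nonempty (FSch.completionMod ((Spec.map (CommRingCat.ofHom (Ideal.Quotient.mk J))).ker.comap (FEt.puncturedSpec A).ι) F ≅ 𝔐)) := by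
  haveI : CompactSpace ↥(↑(FEt.puncturedSpec A) : Scheme.{u}) :=
    isCompact_iff_compactSpace.1 (NoetherianSpace.isCompact (α := PrimeSpectrum A) _)
  haveI : (↑(FEt.puncturedSpec A) : Scheme.{u}).IsQuasiAffine :=
    Scheme.IsQuasiAffine.of_isImmersion (FEt.puncturedSpec A).ι
  haveI : AlgebraicGeometry.IsNoetherian (↑(FEt.puncturedSpec A) : Scheme.{u}) := { }
  refine ⟨fun D hD => Groth.L06.FEtLef.homToFormalBijective_quasiAffine _
    (Groth.L18.GrFreeFEt.homToFormalBijective J hd hgr) hD, fun 𝔐 h𝔐 => ?_⟩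
  have hU : FEt.puncturedSpec A = LocCoh.puncturedOpen A (maximalIdeal A) := by
    refine TopologicalSpace.Opens.ext (Set.ext fun p => not_congr ?_)
    exact ⟨fun h => (show p = IsLocalRing.closedPoint A from h) ▸ (fun _ hm => hm),
      fun h => PrimeSpectrum.ext (((IsLocalRing.maximalIdeal.isMaximal A).eq_of_le p.2.ne_top h).symm)⟩
  refine Groth.L18.ModSysAlgz.exists_algebraization J (Groth.L18.NormFlatGr.isNormallyFlat_of_flat J fun n => ?_)
    (maximalIdeal A) (FEt.puncturedSpec A) hU (fun i hi => ⟨0, fun a _ z => ?_⟩) _ rfl 𝔐 h𝔐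
  · haveI := hgr n
    infer_instance
  · have hm : (maximalIdeal A).map (algebraMap A (A ⧸ J)) = maximalIdeal (A ⧸ J) :=
      IsLocalRing.map_maximalIdeal_of_surjective _ Ideal.Quotient.mk_surjective
    haveI : Subsingleton (LocCoh.H (maximalIdeal A) i (A ⧸ J)) := by
      refine (Groth.L04.LC.le_idealDepth_iff_H _ _ 3).1 ?_ i (by omega)
      rw [Groth.L04.idealDepth_eq_idealDepth_map_of_finite (B := A ⧸ J) (maximalIdeal A), hm]
      exact hd
    exact Subsingleton.elim _ _

end Groth.Agent.S3374
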