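import Groth.Statements.S3380
import Groth.Agent.L18.OffAffineTransfer
import Groth.Agent.L18.ProZeroLimit
-- import your own Groth.Agent.* helpers here

set_option autoImplicit false
set_option backward.isDefEq.respectTransparency.types false
set_option backward.isDefEq.respectTransparency false
universe u
open CategoryTheory CategoryTheory.Limits AlgebraicGeometry
open Lef

namespace Groth.Agent.S3380

/-- Let k be a field, P a proper k-scheme, L an ample invertible O_P-module, s a global section of L
(not necessarily regular) with zero scheme Q and ideal 𝓘, Q_m the closed subscheme defined by 𝓘^m.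
Assume depth(O_{P,p}) + dim cl(p) > n for every point p of P outside Q. Then the canonical map
H^i(P, O_P) → lim_m H^i(P, O_P/𝓘^(m+1)) (the groups H^i(Q_{m+1}, O_{Q_{m+1}}) computed on P through
the closed immersions) is bijective for i < n: injective, and every compatible family comes from a
class on P. -/
theorem result (k : Type u) [Field k] (X : Scheme.{u}) (f : X ⟶ Spec (CommRingCat.of k)) [IsProper f] (L : X.Modules) (hL : CohB1.IsAmple L) (s : Coh.structureModule X ⟶ L) (n : ℕ) (hd : ∀ p : X, p ∉ ((PicF2.zeroScheme L s).support : Set X) → (n : WithBot ℕ∞) < (LocCoh.depth (X.presheaf.stalk p) (X.presheaf.stalk p) : WithBot ℕ∞) + topologicalKrullDim ↥(closure ({p} : Set X))) (i : ℕ) (hi : i < n) : (∀ x : Coh.HH X (Coh.structureModule X) i, (∀ m : ℕ, Sheaf.H.map ((SheafOfModules.toSheaf X.ringCatSheaf).map (ClSub.toSubscheme ((PicF2.zeroScheme L s) ^ (m + 1)))) i x = 0) → x = 0) ∧ (∀ y : (∀ m : ℕ, Coh.HH X (ClSub.quotMod ((PicF2.zeroScheme L s) ^ (m + 1))) i), (∀ m : ℕ, Sheaf.H.map ((SheafOfModules.toSheaf X.ringCatSheaf).map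 (Lef.quotMap (Lef.pow_succ_le (PicF2.zeroScheme L s) m))) i (y (m + 1)) = y m) → ∃ x : Coh.HH X (Coh.structureModule X) i, ∀ m : ℕ, Sheaf.H.map ((SheafOfModules.toSheaf X.ringCatSheaf).map (ClSub.toSubscheme ((PicF2.zeroScheme L s) ^ (m + 1)))) i x = y m) := by
  refine Groth.L18.OffAffine.limit_bijective (PicF2.zeroScheme L s) i fun q hq m => ?_
  have hd' : ∀ x : X, IsClosed ({x} : Set X) → x ∉ (PicF2.zeroScheme L s).support →
      ((n + 1 : ℕ) : ℕ∞) ≤ LocCoh.depth (X.presheaf.stalk x) (X.presheaf.stalk x) := fun x hx hxs => by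
    have h := hd x hxs
    rw [hx.closure_eq] at h
    have h0 : topologicalKrullDim ↥({x} : Set X) ≤ 0 := by
      haveI : Subsingleton (TopologicalSpace.IrreducibleCloseds ↥({x} : Set X)) := ⟨fun a b => by
        refine TopologicalSpace.IrreducibleCloseds.ext ?_
        rw [Set.eq_univ_of_forall (s := (a : Set ↥({x} : Set X))) (fun z => by
            obtain ⟨w, hw⟩ := a.isIrreducible.1; exact (Subsingleton.elim z w).symm ▸ hw),
          Set.eq_univ_of_forall (s := (b : Set ↥({x} : Set X))) (fun z => by
            obtain ⟨w, hw⟩ := b.isIrreducible.1; exact (Subsingleton.elim z w).symm ▸ hw)]⟩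
      exact Order.krullDim_nonpos_of_subsingleton
    have h1 : (n : WithBot ℕ∞) < (LocCoh.depth (X.presheaf.stalk x) (X.presheaf.stalk x) : WithBot ℕ∞) :=
      lt_of_lt_of_le h ((add_le_add le_rfl h0).trans (by rw [add_zero]))
    have h2 : (n : ℕ∞) < LocCoh.depth (X.presheaf.stalk x) (X.presheaf.stalk x) := by exact_mod_cast h1
    rw [ENat.coe_add, ENat.coe_one]
    exact Order.add_one_le_of_lt h2
  obtain ⟨d, hd⟩ := Groth.L18.OffAffine.exists_hmap_eq_zero f hL s n hd' q (by omega) m
  exact ⟨d, fun m' h hm' => hd m' hm' _ (Groth.L18.OffAffine.im_ι _ h)⟩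

end Groth.Agent.S3380
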