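import Groth.Statements.S3386
import Groth.Agent.L07.EquidimCrit

set_option autoImplicit false
set_option linter.style.haveILetI false
open CategoryTheory AlgebraicGeometry
universe u
set_option maxSynthPendingDepth 3
set_option backward.isDefEq.respectTransparency.types false
set_option backward.isDefEq.respectTransparency false
open EGA43

namespace Groth.Agent.S3386

open CategoryTheory.Limits in
/-- Conditions a) and b): let f : X ⟶ Y be locally of finite type and fix a point x of X. Condition a)
is equidimensionality of f at x (the definition used here); condition b): there are a natural number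
e, an open neighbourhood U of x and a Y-morphism g from U to the affine space of dimension e over Y
which is locally quasi-finite and sends the generic point of every irreducible component of U to the
generic point of an irreducible component of the affine space. Then a) implies b); and b) implies a)
when Y is locally Noetherian. (The source states the equivalence over an arbitrary base; the
implication b) ⟹ a) uses that irreducible components are locally finite and fails without some such
hypothesis.) -/
theorem result {X Y : Scheme.{u}}
    (f : X ⟶ Y) [LocallyOfFiniteType f] (x : X) :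
    (EGA43.IsEquidimAt f x → (∃ (e : ℕ) (U : X.Opens) (g : (U : Scheme.{u}) ⟶ 𝔸(ULift.{u} (Fin e); Y)),
        x ∈ U ∧ g ≫ (𝔸(ULift.{u} (Fin e); Y) ↘ Y) = U.ι ≫ f ∧ LocallyQuasiFinite g ∧
        ∀ Z ∈ irreducibleComponents (↥U : Type u),
          closure (g.base '' Z) ∈ irreducibleComponents (↥𝔸(ULift.{u} (Fin e); Y) : Type u))) ∧
    (IsLocallyNoetherian Y → (∃ (e : ℕ) (U : X.Opens) (g : (U : Scheme.{u}) ⟶ 𝔸(ULift.{u} (Fin e); Y)),
        x ∈ U ∧ g ≫ (𝔸(ULift.{u} (Fin e); Y) ↘ Y) = U.ι ≫ f ∧ LocallyQuasiFinite g ∧
        ∀ Z ∈ irreducibleComponents (↥U : Type u),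
          closure (g.base '' Z) ∈ irreducibleComponents (↥𝔸(ULift.{u} (Fin e); Y) : Type u)) → EGA43.IsEquidimAt f x) := by
  constructor
  · intro h
    obtain ⟨e, D, g, hxD, hg, hqf, hmax⟩ := Groth.L07.Equidim.exists_qf_of_isEquidimAt f x h
    refine ⟨e, D, g, hxD, hg, hqf, fun Z hZ => ?_⟩
    obtain ⟨ζ, hζ⟩ := QuasiSober.sober (α := (D : Scheme.{u})) hZ.1 (isClosed_of_mem_irreducibleComponents Z hZ)
    have hζmax := (Groth.L07.EquidimQF.closure_singleton_mem_irreducibleComponents_iff
      (α := (D : Scheme.{u})) ζ).mp (hζ.def.symm ▸ hZ)
    rw [← hζ.def, Groth.L07.Equidim.closure_image_closure' g.continuous,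
      Groth.L07.EquidimQF.closure_singleton_mem_irreducibleComponents_iff]
    exact (hmax ζ hζmax).1
  · rintro hY ⟨e, U, g, hxU, hg, hqf, hcomp⟩
    refine Groth.L07.Equidim.isEquidimAt_of_qf f x e U g hxU hg fun ζ hζ => ?_
    have h := hcomp _ ((Groth.L07.EquidimQF.closure_singleton_mem_irreducibleComponents_iff
      (α := (U : Scheme.{u})) ζ).mpr hζ)
    rw [Groth.L07.Equidim.closure_image_closure' g.continuous,
      Groth.L07.EquidimQF.closure_singleton_mem_irreducibleComponents_iff] at h
    exact h

end Groth.Agent.S3386
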