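import Groth.Statements.S3387
import Groth.Agent.L07.FibreDimSemi

set_option autoImplicit false
set_option linter.style.haveILetI false
open CategoryTheory AlgebraicGeometry
universe u
open EGA43

namespace Groth.Agent.S3387

/-- Let f : X ⟶ Y be locally of finite type and closed (as a map of underlying spaces). Then for every
natural number n the set of points y of Y whose fibre has dimension at least n is closed; that is,
the dimension of the fibre is upper semicontinuous on Y. -/
theorem result {X Y : Scheme.{u}} (f : X ⟶ Y) [LocallyOfFiniteType f]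
    (hf : IsClosedMap f.base) (n : ℕ) :
    IsClosed {y : Y | (n : WithBot ℕ∞) ≤ topologicalKrullDim ↥(f.fiber y)} := by
  rcases n with _ | n
  · have : {y : Y | ((0 : ℕ) : WithBot ℕ∞) ≤ topologicalKrullDim ↥(f.fiber y)} =
        {y : Y | topologicalKrullDim ↥(f.fiber y) ≤ ⊥}ᶜ := by
      ext y
      simp only [Set.mem_ofPred_eq, Set.mem_compl_iff, le_bot_iff]
      cases hd : topologicalKrullDim ↥(f.fiber y) <;> simp
    have hr : {y : Y | topologicalKrullDim ↥(f.fiber y) ≤ ⊥} = (Set.range f.base)ᶜ := by
      ext y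
      rw [Set.mem_ofPred_eq, Groth.L07.FibreDim.fiber_dim_le_iff, Set.mem_compl_iff, Set.mem_range]
      refine ⟨fun h ⟨x, hx⟩ => ?_, fun h x hx => (h ⟨x, hx⟩).elim⟩
      obtain ⟨U, hxU, hU⟩ := (Groth.L07.FibreDim.fibreDimAt_le_iff f x ⊥).mp (h x hx)
      haveI : Nonempty ((U : Set X) ∩ f.base ⁻¹' {f.base x} : Set X) := ⟨⟨x, hxU, rfl⟩⟩
      have h0 := Groth.L06.Dim.nonneg (X := ((U : Set X) ∩ f.base ⁻¹' {f.base x} : Set X))
      exact absurd (le_bot_iff.mp (h0.trans hU)) WithBot.coe_ne_bot
    rw [this, hr, compl_compl, ← Set.image_univ]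
    exact hf _ isClosed_univ
  · have : {y : Y | ((n + 1 : ℕ) : WithBot ℕ∞) ≤ topologicalKrullDim ↥(f.fiber y)} =
        {y : Y | topologicalKrullDim ↥(f.fiber y) ≤ (n : WithBot ℕ∞)}ᶜ := by
      ext y
      simp only [Set.mem_ofPred_eq, Set.mem_compl_iff, not_le]
      generalize topologicalKrullDim ↥(f.fiber y) = d
      induction d with
      | bot => simp
      | coe m =>
        induction m with
        | top => simpa using WithBot.coe_lt_coe.mpr (ENat.coe_lt_top n)
        | coe k => norm_cast
    rw [this]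
    exact (Groth.L07.FibreDim.isOpen_fiber_dim_le f hf (n : WithBot ℕ∞)).isClosed_compl

end Groth.Agent.S3387
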