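import Groth.Statements.S3388
import Groth.Agent.L07.DimZeroLocus

set_option autoImplicit false
set_option linter.style.haveILetI false
open CategoryTheory AlgebraicGeometry
universe u
open EGA43

namespace Groth.Agent.S3388

/-- Let X and Y be irreducible schemes and f : X ⟶ Y a dominant morphism locally of finite type; let e
be the dimension of the fibre over the generic point of Y. Then for every point x of X the local
dimension at x of the fibre through x is at least e. -/
theorem result {X Y : Scheme.{u}} [IrreducibleSpace X] [IrreducibleSpace Y]
    (f : X ⟶ Y) [LocallyOfFiniteType f] [IsDominant f] (x : X) :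
    topologicalKrullDim ↥(f.fiber (genericPoint Y)) ≤ FlatMor.fibreDimAt f x := by
  obtain ⟨-, h⟩ := Groth.L07.DimToolkit.generic_data f
  rw [← h]
  exact Groth.L07.DimToolkit.fdim_le_fibreDimAt_of_specializes f ((genericPoint_spec X).specializes trivial)

end Groth.Agent.S3388
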