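import Groth.Statements.S3389
import Groth.Agent.L07.DimZeroLocus

set_option autoImplicit false
set_option linter.style.haveILetI false
open CategoryTheory AlgebraicGeometry
universe u
open EGA43

namespace Groth.Agent.S3389

/-- Let Y be a quasi-compact scheme and f : X ⟶ Y a morphism of finite type. Then there is a natural
number n bounding the dimension of every fibre of f. -/
theorem result {X Y : Scheme.{u}} [CompactSpace Y] (f : X ⟶ Y)
    [LocallyOfFiniteType f] [QuasiCompact f] :
    ∃ n : ℕ, ∀ y : Y, topologicalKrullDim ↥(f.fiber y) ≤ n := by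
  haveI : CompactSpace X := QuasiCompact.compactSpace_of_compactSpace f
  choose d hd using fun p => Groth.L07.OpenEquiv.exists_nat_fibreDimAt f p
  obtain ⟨t, ht⟩ := isCompact_univ.elim_finite_subcover
    (fun n : ℕ => {p : X | FlatMor.fibreDimAt f p ≤ (n : WithBot ℕ∞)})
    (fun n => Groth.L07.FibreDim.isOpen_fibreDimAt_le f n)
    (fun p _ => Set.mem_iUnion.mpr ⟨d p, (hd p).le⟩)
  refine ⟨t.sup id, fun y => (Groth.L07.FibreDim.fiber_dim_le_iff f y _).mpr fun p _ => ?_⟩
  obtain ⟨n, hn, hp⟩ := Set.mem_iUnion₂.mp (ht (Set.mem_univ p))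
  exact le_trans hp (by exact_mod_cast (Finset.le_sup (f := id) hn : n ≤ t.sup id))

end Groth.Agent.S3389
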