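import Groth.Statements.S3393
import Groth.Agent.L06.OpenAtComponents

set_option autoImplicit false
set_option maxSynthPendingDepth 3
set_option linter.style.haveILetI false
open CategoryTheory AlgebraicGeometry
universe u
open EGA43

namespace Groth.Agent.S3393

/-- Let Y be an irreducible locally Noetherian scheme with generic point η, f : X ⟶ Y a morphism of
finite type and y a point of Y. Condition (b): for every point z of the fibre over y at which the
local ring of the fibre has dimension 0, dim O_{X,z} = dim O_{Y,y}. Condition (c): for every such z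
there is an irreducible component X' of X containing z such that the dimension of X' ∩ f⁻¹(η)
(topology induced from X) equals the local dimension at z of the fibre over y (the dimension of the
irreducible component of the fibre with generic point z). Then (b) implies (c), and (c) implies (b)
if O_{Y,y} is universally catenary. -/
theorem result {X Y : Scheme.{u}} [IrreducibleSpace Y] [IsLocallyNoetherian Y]
    (f : X ⟶ Y) [LocallyOfFiniteType f] [QuasiCompact f] (y : Y) :
    ((∀ z : X, f.base z = y → ringKrullDim ((f.fiber (f.base z)).presheaf.stalk (f.asFiber z)) = 0 →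
        ringKrullDim (X.presheaf.stalk z) = ringKrullDim (Y.presheaf.stalk (f.base z))) →
      (∀ z : X, f.base z = y → ringKrullDim ((f.fiber (f.base z)).presheaf.stalk (f.asFiber z)) = 0 →
        ∃ X' ∈ irreducibleComponents (X : Type u), z ∈ X' ∧
          topologicalKrullDim ↥(X' ∩ f.base ⁻¹' {genericPoint Y}) = FlatMor.fibreDimAt f z)) ∧
    (CAlg.IsUniversallyCatenary (Y.presheaf.stalk y) →
      (∀ z : X, f.base z = y → ringKrullDim ((f.fiber (f.base z)).presheaf.stalk (f.asFiber z)) = 0 →
        ∃ X' ∈ irreducibleComponents (X : Type u), z ∈ X' ∧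
          topologicalKrullDim ↥(X' ∩ f.base ⁻¹' {genericPoint Y}) = FlatMor.fibreDimAt f z) →
      (∀ z : X, f.base z = y → ringKrullDim ((f.fiber (f.base z)).presheaf.stalk (f.asFiber z)) = 0 →
        ringKrullDim (X.presheaf.stalk z) = ringKrullDim (Y.presheaf.stalk (f.base z)))) := by
  refine ⟨fun hb z hz hz0 => ?_, fun hcat hc z hz hz0 => ?_⟩
  · have hmax := Groth.L06.OpenAtComponents.maximal_of_fibre_dim_zero f z hz0
    obtain ⟨ξ, hξz, hξmax, hfξ, hfd⟩ := Groth.L06.OpenAtComponents.exists_of_dim_eq f z hmax (hb z hz hz0)
    refine ⟨_, Groth.L06.OpenAtComponents.component_of_maximal hξmax, specializes_iff_mem_closure.mp hξz, ?_⟩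
    rw [Groth.L06.OpenAtComponents.dim_inter_generic f hfξ, hfd, Groth.L07.OpenFibreDim.fdim_eq_fibreDimAt f z hmax]
  · have hmax := Groth.L06.OpenAtComponents.maximal_of_fibre_dim_zero f z hz0
    obtain ⟨X', hX', hzX', hd⟩ := hc z hz hz0
    have hg := hX'.1.isGenericPoint_genericPoint (isClosed_of_mem_irreducibleComponents X' hX')
    rw [← Groth.L07.OpenFibreDim.fdim_eq_fibreDimAt f z hmax] at hd
    obtain ⟨n, hn⟩ := Groth.L07.OpenFibreDim.exists_nat_fdim f z
    have hne : (X' ∩ f.base ⁻¹' {genericPoint Y}).Nonempty := by
      by_contra hemp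
      haveI : IsEmpty ↥(X' ∩ f.base ⁻¹' {genericPoint Y}) := ⟨fun p => hemp ⟨p.1, p.2⟩⟩
      rw [Groth.L06.Dim.eq_bot, hn] at hd
      exact WithBot.natCast_ne_bot n hd.symm
    obtain ⟨p, hp, hfp⟩ := hne
    have hfξ : f hX'.1.genericPoint = genericPoint Y := by
      refine (Specializes.antisymm ?_ ((genericPoint_spec Y).specializes trivial)).eq
      exact (show f p = genericPoint Y from hfp) ▸ (hg.specializes hp).map f.continuous
    refine Groth.L06.OpenAtComponents.dim_eq_of_component f z hmax (by rw [hz]; exact hcat) (hg.specializes hzX') hfξ ?_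
    rw [← Groth.L06.OpenAtComponents.dim_inter_generic f hfξ, hg.def, hd]

end Groth.Agent.S3393
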