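import Groth.Statements.S3396
import Groth.Agent.L07.DimSub

set_option autoImplicit false
set_option linter.style.haveILetI false
open CategoryTheory AlgebraicGeometry
universe u
open EGA43
open Groth.L07.DimToolkit

namespace Groth.Agent.S3396

set_option backward.isDefEq.respectTransparency.types false in
set_option backward.isDefEq.respectTransparency false in
set_option maxSynthPendingDepth 3 in
/-- Let Y be locally Noetherian, f : X ⟶ Y locally of finite type and equidimensional at the point x,
and suppose the local ring O_{Y,f x} is universally catenary. If O_{Y,f x} is equidimensional, then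
so is O_{X,x}. -/
theorem result {X Y : Scheme.{u}} [IsLocallyNoetherian Y] (f : X ⟶ Y)
    [LocallyOfFiniteType f] (x : X) (h : EGA43.IsEquidimAt f x)
    (hcat : CAlg.IsUniversallyCatenary (Y.presheaf.stalk (f.base x)))
    (hY : EGA4.IsEquidim (Y.presheaf.stalk (f.base x))) :
    EGA4.IsEquidim (X.presheaf.stalk x) := by
  haveI : IsLocallyNoetherian X := LocallyOfFiniteType.isLocallyNoetherian f
  obtain ⟨e, he⟩ := equidim_data f x h
  obtain ⟨a, b, ha, hb, hab⟩ := exists_fibreDimAt f x
  obtain ⟨dY, hdY⟩ := exists_nat_dim_stalk (f x)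
  have hdim := dim_eq_of_isEquidimAt f x hY hcat h
  rw [hdY, hb] at hdim
  obtain ⟨hex, hξdata⟩ := he x (specializes_refl x)
  rw [hab] at hex
  have hab' : a + b = e := by exact_mod_cast hex
  rw [Groth.L07.EquidimPoint.isEquidim_iff]
  intro P hP
  have hξ := Groth.L07.EquidimPoint.specializes_point x P
  obtain ⟨hη, hfd⟩ := hξdata _ hξ ((Groth.L07.EquidimPoint.minimal_stalk_iff x P).mp hP)
  obtain ⟨A, B, n, N, hA, hB, hn, hN, -, heq⟩ := formula f hξ
  rw [dim_locQuot_of_isEquidim (f x) _ _ hη hY, hdY] at hB
  obtain rfl : dY = B := by exact_mod_cast hB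
  obtain rfl : a = n := by exact_mod_cast ha.symm.trans hn
  obtain rfl : e = N := by exact_mod_cast hfd.symm.trans hN
  have := heq hcat
  rw [← dim_locQuot_eq_coheight x _ hξ P rfl, hA]
  refine Eq.trans ?_ hdim.symm
  exact_mod_cast (show A = dY + b by omega)

end Groth.Agent.S3396
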