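import Groth.Statements.S3401
import Groth.Agent.L06.ProCons

set_option autoImplicit false
set_option linter.style.haveILetI false
open CategoryTheory AlgebraicGeometry
universe u
open EGA41

namespace Groth.Agent.S3401

/-- Let X be a scheme and E a subset of X. If E is ind-constructible then for every point x of E the set
E ∩ cl{x} is a neighbourhood of x in cl{x}; when X is locally Noetherian the converse holds. (As
published, the necessity clause quantifies over all points x of X; for x outside E the condition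
cannot hold, and the argument uses x ∈ E, so it is stated here for x ∈ E.) Stated as an equivalence
for X locally Noetherian. -/
theorem result (X : Scheme.{u}) [IsLocallyNoetherian X]
    (E : Set X) :
    ProCons.IsIndConstructible E ↔
      ∀ x ∈ E, (Subtype.val ⁻¹' E : Set ↥(closure ({x} : Set X))) ∈ nhds (⟨x, subset_closure rfl⟩ : ↥(closure ({x} : Set X))) := by
  rw [Groth.L06.ProCons.isIndConstructible_iff_cc_compl]
  constructor
  · intro hE x hx
    obtain ⟨_, ⟨(U : X.Opens), hU, rfl⟩, hxU, -⟩ :=
      X.isBasis_affineOpens.exists_subset_of_mem_open (Set.mem_univ x) isOpen_univ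
    haveI := Groth.L19.Limit.spectralSpace_opens hU
    obtain ⟨T, hT, hxT, hTE⟩ := Groth.L06.ProCons.exists_isConstructible_subset
      (s := (U.ι ⁻¹' E : Set (U : Scheme.{u})))
      ((@isClosed_compl_iff _ (constructibleTopology (U : Scheme.{u})) _).mp (hE U hU))
      (x := (⟨x, hxU⟩ : U)) hx
    obtain ⟨n, Z, hZ, rfl⟩ := Groth.L06.Constr.exists_finite_isLocallyClosed hT
    obtain ⟨i, hi⟩ := Set.mem_iUnion.mp hxT
    obtain ⟨V, C, hV, hC, hZi⟩ := hZ i
    rw [hZi] at hi
    rw [mem_nhds_subtype]
    refine ⟨U.ι '' V, (U.ι.isOpenEmbedding.isOpenMap _ hV).mem_nhds ⟨_, hi.1, rfl⟩, ?_⟩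
    rintro ⟨y, hy⟩ ⟨w, hwV, hwy⟩
    have hsp : x ⤳ y := specializes_iff_mem_closure.mpr hy
    have hsp' : (⟨x, hxU⟩ : U.toScheme) ⤳ w :=
      U.ι.isOpenEmbedding.isInducing.specializes_iff.mp (by rw [hwy]; exact hsp)
    have hwT : w ∈ ⋃ j, Z j := Set.mem_iUnion.mpr ⟨i, by rw [hZi]; exact ⟨hwV, hsp'.mem_closed hC hi.2⟩⟩
    show y ∈ E
    rw [show y = U.ι w from hwy.symm]
    exact hTE hwT
  · intro h U hU
    haveI := Groth.L19.Limit.spectralSpace_opens hU
    haveI : IsAffine (U : Scheme.{u}) := hU
    haveI : CompactSpace (U : Scheme.{u}) := inferInstance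
    haveI : IsNoetherian (U : Scheme.{u}) := { toIsLocallyNoetherian := inferInstance }
    haveI : TopologicalSpace.NoetherianSpace (U : Scheme.{u}) := inferInstance
    rw [Set.preimage_compl]
    refine @IsOpen.isClosed_compl _ (constructibleTopology (U : Scheme.{u})) _ ?_
    refine (@isOpen_iff_forall_mem_open _ (constructibleTopology (U : Scheme.{u})) _).mpr fun z hz => ?_
    obtain ⟨W, hW, hWE⟩ := (mem_nhds_subtype _ _ _).mp (h (U.ι z) hz)
    obtain ⟨W', hW'W, hW'o, hzW'⟩ := mem_nhds_iff.mp hW
    let T : Set (U : Scheme.{u}) := U.ι ⁻¹' W' ∩ closure {z}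
    have hT : Topology.IsConstructible T :=
      (Groth.L06.Constr.isConstructible_of_isOpen (hW'o.preimage U.ι.continuous)).inter
        (Groth.L06.Constr.isConstructible_of_isClosed isClosed_closure)
    refine ⟨T, ?_, (Groth.L06.Spectral.isClopen_cons_of_isConstructible hT).2, hzW', subset_closure rfl⟩
    rintro y ⟨hy1, hy2⟩
    have hy3 : U.ι y ∈ closure ({U.ι z} : Set X) := by
      have := image_closure_subset_closure_image U.ι.continuous ⟨y, hy2, rfl⟩
      rwa [Set.image_singleton] at this
    exact hWE (show (⟨U.ι y, hy3⟩ : ↥(closure ({U.ι z} : Set X))) ∈ Subtype.val ⁻¹' W from hW'W hy1)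

end Groth.Agent.S3401
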