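import Groth.Statements.S3404
import Groth.Agent.L06.ProCons

set_option autoImplicit false
set_option linter.style.haveILetI false
open CategoryTheory AlgebraicGeometry
universe u
open EGA41

namespace Groth.Agent.S3404

/-- Let f : X ⟶ Y be a morphism of schemes, x a point of X and y = f x. If f is open at x then every
generization of y is the image of a generization of x; when f is locally of finite presentation the
converse holds. -/
theorem result {X Y : Scheme.{u}} (f : X ⟶ Y) (x : X) :
    (EGA43.IsOpenAt f.base x → ∀ y' : Y, y' ⤳ f.base x → ∃ x' : X, x' ⤳ x ∧ f.base x' = y') ∧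
    (LocallyOfFinitePresentation f →
      ((EGA43.IsOpenAt f.base x) ↔ ∀ y' : Y, y' ⤳ f.base x → ∃ x' : X, x' ⤳ x ∧ f.base x' = y')) := by
  open Groth.L06.ProCons Groth.L19.Limit Groth.L06.Spectral in
  have fwd : EGA43.IsOpenAt f.base x → ∀ y' : Y, y' ⤳ f.base x → ∃ x' : X, x' ⤳ x ∧ f.base x' = y' := by
    intro h y' hy'
    have hc : CC ({y'} : Set Y) := by
      intro U hU
      haveI := spectralSpace_opens hU
      by_cases hy : y' ∈ U
      · rw [show (U.ι ⁻¹' {y'} : Set (U : Scheme.{u})) = {⟨y', hy⟩} from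
          Set.ext fun w => ⟨fun h => U.ι.isOpenEmbedding.injective h, fun h => h ▸ rfl⟩]
        exact isClosed_cons_singleton _
      · rw [show (U.ι ⁻¹' {y'} : Set (U : Scheme.{u})) = ∅ from
          Set.eq_empty_of_forall_notMem fun w (h : w.1 = y') => hy (h ▸ w.2)]
        exact @isClosed_empty _ (constructibleTopology (U : Scheme.{u}))
    have hx : x ∈ closure (f ⁻¹' {y'}) := by
      rw [mem_closure_iff]
      intro V hV hxV
      obtain ⟨z, hzV, hz⟩ : y' ∈ f.base '' V := by
        obtain ⟨O, hO, hOo, hfO⟩ := mem_nhds_iff.mp (h V (hV.mem_nhds hxV))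
        exact hO (hy'.mem_open hOo hfO)
      exact ⟨z, hzV, hz⟩
    obtain ⟨e, he, hex⟩ := (hc.preimage f).exists_specializes_of_mem_closure hx
    exact ⟨e, hex, he⟩
  refine ⟨fwd, fun hf => ⟨fwd, fun h U hU => ?_⟩⟩
  haveI := hf
  obtain ⟨V, hVU, hVo, hxV⟩ := mem_nhds_iff.mp hU
  refine Filter.mem_of_superset ?_ (Set.image_mono hVU)
  rw [mem_nhds_iff]
  refine ⟨interior (f.base '' V), interior_subset, isOpen_interior, ?_⟩
  refine (Groth.L06.ProCons.mem_interior_iff (E := f.base '' V)
    (Groth.L06.ProCons.cc_compl_image f (Groth.L19.Limit.cc_of_isClosed hVo.isClosed_compl)) _).mpr fun y' hy' => ?_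
  obtain ⟨x', hx', rfl⟩ := h y' hy'
  exact ⟨x', hx'.mem_open hVo hxV, rfl⟩

end Groth.Agent.S3404
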