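import Groth.Statements.S3405
import Groth.Agent.L06.HilbertSamuel

set_option autoImplicit false
set_option linter.style.haveILetI false
universe u
open EGA41

namespace Groth.Agent.S3405

/-- The degree of the Hilbert–Samuel polynomial equals the dimension: let A be a Noetherian ring with
finitely many maximal ideals, r its Jacobson radical and M a nonzero finitely generated A-module.
Then there is a polynomial P with rational coefficients such that the length of M/rⁿM is finite and
equals P(n) for all large n, and the degree of P is the dimension of M (the Krull dimension of its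
support). -/
theorem result (A : Type u) [CommRing A] [IsNoetherianRing A]
    [Finite (MaximalSpectrum A)] (M : Type u) [AddCommGroup M] [Module A M] [Module.Finite A M] [Nontrivial M] :
    ∃ P : Polynomial ℚ,
      (∃ N : ℕ, ∀ n : ℕ, N ≤ n →
        ∃ ℓ : ℕ, Module.length A (M ⧸ (Ring.jacobson A ^ n • (⊤ : Submodule A M))) = ℓ ∧ (ℓ : ℚ) = P.eval (n : ℚ)) ∧
      (P.natDegree : WithBot ℕ∞) = Module.supportDim A M := by
  let q := Ring.jacobson A
  have hq0 : ringKrullDim (A ⧸ q) ≤ 0 := Groth.L06.SupportDim.le_zero_of_jacobson_le le_rfl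
  obtain ⟨P, N, hP⟩ := Groth.L06.HilbertSamuel.exists_polynomial q M hq0
  refine ⟨P, ⟨N, fun n hn => ⟨_, (Groth.L06.HilbertSamuel.coe_hs q M hq0 n).symm, hP n hn⟩⟩, ?_⟩
  have hann : Module.annihilator A M ≠ ⊤ := fun h => by
    rw [Module.annihilator_eq_top_iff] at h
    exact not_subsingleton M h
  obtain ⟨d, hd⟩ := Groth.L06.SupportDim.exists_dim_eq_natCast hann
  have hdim : Module.supportDim A M = d := (Groth.L06.SupportDim.supportDim_eq_quotient).trans hd
  obtain ⟨l, hl, hlq, hl0⟩ := Groth.L06.SupportDim.exists_parameters d _ hd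
  have h1 : P.natDegree ≤ d :=
    Groth.L06.HilbertSamuel.natDegree_le_of_growth (hl ▸ Groth.L06.HilbertSamuel.growth_of_parameters q hq0 l hlq M hl0) ⟨N, hP⟩
  have h2 := Groth.L06.HilbertSamuel.supportDim_le_of_growth q hq0 le_rfl M
    (Groth.L06.HilbertSamuel.growth_of_poly le_rfl ⟨N, fun n hn => (hP n hn).le⟩)
  rw [hdim]
  rw [hdim] at h2
  exact le_antisymm (by exact_mod_cast h1) h2

end Groth.Agent.S3405
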