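import Groth.Statements.S3406
import Groth.Agent.L06.SupportDim

set_option autoImplicit false
universe u
open EGA41

namespace Groth.Agent.S3406

/-- The equality s(M) = dim(M): let A be a Noetherian ring with finitely many maximal ideals, r its
Jacobson radical and M a nonzero finitely generated A-module. Then the dimension of M (the Krull
dimension of its support) is the least n for which there are elements x_1, …, x_n of r such that
M/(x_1 M + ⋯ + x_n M) has finite length. -/
theorem result (A : Type u) [CommRing A] [IsNoetherianRing A]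
    [Finite (MaximalSpectrum A)] (M : Type u) [AddCommGroup M] [Module A M] [Module.Finite A M] [Nontrivial M] :
    Module.supportDim A M =
      sInf {k : WithBot ℕ∞ | ∃ (n : ℕ) (x : Fin n → A), k = n ∧ (∀ i, x i ∈ Ring.jacobson A) ∧
        IsFiniteLength A (M ⧸ (Ideal.span (Set.range x) • (⊤ : Submodule A M)))} := by
  open Groth.L06.SupportDim in
  have hne : Module.annihilator A M ≠ ⊤ := fun h => not_subsingleton M ⟨fun a b => by
    have h1 : ∀ m : M, m = 0 := fun m => by
      have := Module.mem_annihilator.mp (h.ge (Submodule.mem_top (x := (1 : A)))) m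
      rwa [one_smul] at this
    rw [h1 a, h1 b]⟩
  obtain ⟨d, hd⟩ := exists_dim_eq_natCast hne
  rw [supportDim_eq_quotient, hd]
  obtain ⟨l, hl, hmem, hle⟩ := exists_parameters d _ hd
  have hmemd : (d : WithBot ℕ∞) ∈ {k : WithBot ℕ∞ | ∃ (n : ℕ) (x : Fin n → A), k = n ∧ (∀ i, x i ∈ Ring.jacobson A) ∧
        IsFiniteLength A (M ⧸ (Ideal.span (Set.range x) • (⊤ : Submodule A M)))} := by
    subst hl
    refine ⟨l.length, l.get, rfl, fun i => hmem _ (List.get_mem l i), ?_⟩
    rw [isFiniteLength_iff, supportDim_quotient_smul]
    rwa [Ideal.ofList, ← Set.range_list_get] at hle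
  refine le_antisymm (le_csInf ⟨d, hmemd⟩ ?_) (csInf_le (OrderBot.bddBelow _) hmemd)
  rintro k ⟨n, x, rfl, hx, hfl⟩
  rw [isFiniteLength_iff, supportDim_quotient_smul] at hfl
  have h := le_sup_ofList_add (List.ofFn x) (Module.annihilator A M) (by simpa [List.forall_mem_ofFn_iff] using hx)
  rw [hd, List.length_ofFn, Ideal.ofList, show {r | r ∈ List.ofFn x} = Set.range x by ext; simp [List.mem_ofFn]] at h
  exact h.trans ((add_le_add_left hfl _).trans (zero_add _).le)

end Groth.Agent.S3406
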