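import Groth.Statements.S3408
import Groth.Agent.L07.FlatReducedScheme

set_option autoImplicit false
set_option linter.style.haveILetI false
open CategoryTheory AlgebraicGeometry
universe u
open EGA43

namespace Groth.Agent.S3408

/-- Let Y be locally Noetherian, f : X ⟶ Y locally of finite type, x a point of X and y = f x. Suppose f
is universally open at the generic point of every irreducible component of X_y passing through x,
X_y is geometrically reduced at x, and the local ring O_{Y,y} is reduced. Then there is an open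
neighbourhood U of x such that the restriction of f to U is flat and U is a reduced scheme. -/
theorem result {X Y : Scheme.{u}} [IsLocallyNoetherian Y] (f : X ⟶ Y)
    [LocallyOfFiniteType f] (x : X)
    (hopen : ∀ z : ↥(f.fiber (f.base x)), f.asFiber x ∈ closure {z} →
      (∀ z' : ↥(f.fiber (f.base x)), z ∈ closure {z'} → z' = z) →
      EGA43.IsUnivOpenAt f ((f.fiberι (f.base x)).base z))
    (hred : FBase.IsGeomReducedAt (f.fiberToSpecResidueField (f.base x)) (f.asFiber x))
    (hy : _root_.IsReduced (Y.presheaf.stalk (f.base x))) :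
    ∃ U : X.Opens, x ∈ U ∧ Flat (U.ι ≫ f) ∧ IsReduced (U : Scheme.{u}) := by
  have hflat := Groth.L07.FlatGeomReduced.flat_stalkMap f x hopen hred hy
  have : IsLocallyNoetherian X := LocallyOfFiniteType.isLocallyNoetherian f
  obtain ⟨U₀, hxU₀, hU₀⟩ := Groth.L07.FlatGeomReduced.exists_reduced_nhd x
    (Groth.L07.FlatGeomReduced.isReduced_stalk f x hflat hred hy)
  let O : X.Opens := ⟨{z : X | (f.stalkMap z).hom.Flat}, Groth.L20.isOpen_flat_stalkMap f⟩
  refine ⟨U₀ ⊓ O, ⟨hxU₀, hflat⟩, Flat.of_stalkMap _ fun z => ?_, ?_⟩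
  · rw [Scheme.Hom.stalkMap_comp]
    show RingHom.Flat (RingHom.comp _ _)
    exact (z.2.2 : (f.stalkMap z.1).hom.Flat).comp
      (RingHom.Flat.of_bijective (ConcreteCategory.bijective_of_isIso ((U₀ ⊓ O).ι.stalkMap z)))
  · exact isReduced_of_isOpenImmersion (X.homOfLE (inf_le_left : U₀ ⊓ O ≤ U₀))

end Groth.Agent.S3408
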