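import Groth.Statements.S3409
import Groth.Agent.L07.ComponentDim

set_option autoImplicit false
set_option linter.style.haveILetI false
open CategoryTheory AlgebraicGeometry
universe u
open EGA43

namespace Groth.Agent.S3409

/-- Let Y be locally Noetherian, f : X ⟶ Y locally of finite type, x a point of X and y = f x. Suppose f
is universally open at the generic point of every irreducible component of X_y through x, X_y is
geometrically reduced at x, and all irreducible components of X_y passing through x have the same
dimension. Then f is equidimensional at x. -/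
theorem result {X Y : Scheme.{u}} [IsLocallyNoetherian Y] (f : X ⟶ Y)
    [LocallyOfFiniteType f] (x : X)
    (hopen : ∀ z : ↥(f.fiber (f.base x)), f.asFiber x ∈ closure {z} →
      (∀ z' : ↥(f.fiber (f.base x)), z ∈ closure {z'} → z' = z) →
      EGA43.IsUnivOpenAt f ((f.fiberι (f.base x)).base z))
    (hred : FBase.IsGeomReducedAt (f.fiberToSpecResidueField (f.base x)) (f.asFiber x))
    (heq : ∃ e : ℕ, ∀ Z ∈ irreducibleComponents (↥(f.fiber (f.base x)) : Type u), f.asFiber x ∈ Z →
      topologicalKrullDim (↥Z : Type u) = e) :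
    EGA43.IsEquidimAt f x := by
  obtain ⟨e, he⟩ := heq
  have key : ∀ z : X, z ⤳ x → f z = f x → (∀ z', f z' = f z → z' ⤳ z → z' = z) →
      Groth.L07.Equidim.fdim f z = (e : WithBot ℕ∞) := by
    intro z hzx hfz hzmax
    obtain ⟨c, rfl⟩ : z ∈ Set.range (f.fiberι (f x)).base := by rw [f.range_fiberι]; exact hfz
    rw [Groth.L07.Equidim.fdim_fiberι]
    have hcmax : ∀ c', c' ⤳ c → c' = c := fun c' hc' => (f.fiberι (f x)).isEmbedding.injective
      (hzmax _ ((Groth.L07.Equidim.apply_fiberι f (f x) c').trans (Groth.L07.Equidim.apply_fiberι f (f x) c).symm)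
        (hc'.map (f.fiberι (f x)).continuous))
    have hcx : f.asFiber x ∈ closure ({c} : Set (f.fiber (f x))) := by
      rw [← specializes_iff_mem_closure, ← (f.fiberι (f x)).isEmbedding.isInducing.specializes_iff, f.fiberι_asFiber]
      exact hzx
    refine he _ ?_ hcx
    have hirr : IsIrreducible (closure ({c} : Set (f.fiber (f x)))) := isIrreducible_singleton.closure
    refine ⟨hirr, fun T hT hle => ?_⟩
    obtain ⟨g, hg⟩ := QuasiSober.sober hT.closure isClosed_closure
    have hgc : g ⤳ c := hg.specializes (subset_closure (hle (subset_closure rfl)))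
    rw [hcmax g hgc] at hg
    exact subset_closure.trans hg.def.ge
  refine Groth.L07.DimToolkit.isEquidimAt_of_components f x e ?_ fun ξ hξ hξmax => ?_
  · obtain ⟨z, hzx, hfz, hzmax, hz⟩ := Groth.L07.OpenEquiv.exists_maximal_fdim_eq f x
    rw [← hz, key z hzx hfz hzmax]
  · obtain ⟨h1, z, hξz, hzx, hfz, hzmax, hle⟩ :=
      Groth.L07.FlatGeomReduced.component_data f x hopen hred ξ hξ hξmax
    exact ⟨h1, key z hzx hfz hzmax ▸ hle⟩

end Groth.Agent.S3409
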