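import Groth.Statements.S3410
import Groth.Agent.L07.UniqueComponent
import Groth.Agent.L07.FlatGeomReducedScheme

set_option autoImplicit false
set_option linter.style.haveILetI false
open CategoryTheory AlgebraicGeometry
universe u
open EGA43

namespace Groth.Agent.S3410

/-- Let Y be locally Noetherian, f : X ⟶ Y locally of finite type, x a point of X and y = f x. Suppose f
is universally open at the generic point of every irreducible component of X_y through x, X_y is
geometrically pointwise integral at x, and O_{Y,y} is geometrically unibranch. Then x lies on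
exactly one irreducible component of X. If moreover O_{Y,y} is a domain, then O_{X,x} is a domain
and O_{Y,y} ⟶ O_{X,x} is flat. -/
theorem result {X Y : Scheme.{u}} [IsLocallyNoetherian Y]
    (f : X ⟶ Y) [LocallyOfFiniteType f] (x : X)
    (hopen : ∀ z : ↥(f.fiber (f.base x)), f.asFiber x ∈ closure {z} →
      (∀ z' : ↥(f.fiber (f.base x)), z ∈ closure {z'} → z' = z) →
      EGA43.IsUnivOpenAt f ((f.fiberι (f.base x)).base z))
    (hint : FBase.IsGeomPtIntegralAt (f.fiberToSpecResidueField (f.base x)) (f.asFiber x))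
    (hY : CAlg2.IsGeomUnibranch (Y.presheaf.stalk (f.base x))) :
    (∃! Z : Set X, Z ∈ irreducibleComponents (X : Type u) ∧ x ∈ Z) ∧
      (IsDomain (Y.presheaf.stalk (f.base x)) → IsDomain (X.presheaf.stalk x) ∧ (f.stalkMap x).hom.Flat) := by
  have hred := Groth.L07.FlatGeomReduced.isGeomReducedAt_of_geomPtIntegral _ _ hint
  have huniq := Groth.L07.FlatGeomReduced.eq_of_maximal_of_geomPtIntegral f x hopen hint hY
  have hgen : ∀ Z : Set X, Z ∈ irreducibleComponents (X : Type u) ∧ x ∈ Z →
      ∃ ξ : X, ξ ⤳ x ∧ (∀ q, q ⤳ ξ → q = ξ) ∧ closure {ξ} = Z := fun Z hZ => by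
    obtain ⟨ξ, hξ⟩ := QuasiSober.sober hZ.1.1 (isClosed_of_mem_irreducibleComponents Z hZ.1)
    exact ⟨ξ, hξ.specializes hZ.2,
      (Groth.L07.EquidimQF.closure_singleton_mem_irreducibleComponents_iff ξ).mp (by rw [hξ.def]; exact hZ.1), hξ.def⟩
  refine ⟨⟨irreducibleComponent x, ⟨irreducibleComponent_mem_irreducibleComponents x, mem_irreducibleComponent⟩,
    fun Z hZ => ?_⟩, fun hdom => ?_⟩
  · obtain ⟨ξ, hξ, hm, rfl⟩ := hgen Z hZ
    obtain ⟨ξ', hξ', hm', he⟩ := hgen _ ⟨irreducibleComponent_mem_irreducibleComponents x, mem_irreducibleComponent⟩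
    rw [← he, huniq ξ ξ' hξ hξ' hm hm']
  · haveI := hdom
    have hy : _root_.IsReduced (Y.presheaf.stalk (f.base x)) := inferInstance
    have hflat := Groth.L07.FlatGeomReduced.flat_stalkMap f x hopen hred hy
    refine ⟨?_, hflat⟩
    haveI := Groth.L07.FlatGeomReduced.isReduced_stalk f x hflat hred hy
    let A := X.presheaf.stalk x
    have hsub : (minimalPrimes A).Subsingleton := fun P hP Q hQ => by
      haveI := hP.1.1
      haveI := hQ.1.1
      have hmax : ∀ (M : Ideal A) (hM : M ∈ minimalPrimes A), ∀ q : X,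
          q ⤳ (X.fromSpecStalk x).base ⟨M, hM.1.1⟩ → q = (X.fromSpecStalk x).base ⟨M, hM.1.1⟩ := fun M hM q hq => by
        have hMx : (X.fromSpecStalk x).base ⟨M, hM.1.1⟩ ⤳ x :=
          (Scheme.range_fromSpecStalk (X := X) (x := x)).le ⟨_, rfl⟩
        obtain ⟨w, rfl⟩ := (Scheme.range_fromSpecStalk (X := X) (x := x)).ge (hq.trans hMx)
        have hle := (PrimeSpectrum.le_iff_specializes w (⟨M, hM.1.1⟩ : PrimeSpectrum A)).mpr
          ((X.fromSpecStalk x).isEmbedding.isInducing.specializes_iff.mp hq)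
        exact congrArg _ (PrimeSpectrum.ext (le_antisymm hle (hM.2 ⟨w.isPrime, bot_le⟩ hle)))
      have h := huniq _ _ ((Scheme.range_fromSpecStalk (X := X) (x := x)).le ⟨_, rfl⟩)
        ((Scheme.range_fromSpecStalk (X := X) (x := x)).le ⟨_, rfl⟩) (hmax P hP) (hmax Q hQ)
      exact congrArg PrimeSpectrum.asIdeal ((X.fromSpecStalk x).isEmbedding.injective h)
    obtain ⟨P, hP⟩ := Ideal.nonempty_minimalPrimes (bot_ne_top (α := Ideal A))
    haveI := hP.1.1
    have hbot : (⊥ : Ideal A) = P := by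
      rw [← nilradical_eq_zero A |>.trans Ideal.zero_eq_bot, nilradical_eq_sInf]
      refine le_antisymm (sInf_le hP.1.1) (le_sInf fun Q hQ => ?_)
      haveI : Q.IsPrime := hQ
      obtain ⟨Q', hQ', hle⟩ := Ideal.exists_minimalPrimes_le (show (⊥ : Ideal A) ≤ Q from bot_le)
      exact (hsub hP hQ').le.trans hle
    haveI : (⊥ : Ideal A).IsPrime := hbot ▸ hP.1.1
    exact IsDomain.of_bot_isPrime A

end Groth.Agent.S3410
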