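import Groth.Statements.S3419
import Groth.Agent.L07.SectionComp

set_option autoImplicit false
set_option linter.style.haveILetI false
open CategoryTheory AlgebraicGeometry
universe u
open EGA43

namespace Groth.Agent.S3419

/-- Let Y be locally Noetherian, f : X ⟶ Y locally of finite type and g a section of f; for y in Y let
X⁰_y be the connected component of the fibre f⁻¹(y) containing g(y). Suppose every X⁰_y is
irreducible. Then y ↦ dim X⁰_y is upper semicontinuous on Y; and if this function is constant on a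
neighbourhood of a point y, then X⁰_y is contained in the closure of X⁰_{y'} for every generization
y' of y. -/
theorem result {X Y : Scheme.{u}} [IsLocallyNoetherian Y] (f : X ⟶ Y)
    [LocallyOfFiniteType f] (g : Y ⟶ X) (hg : g ≫ f = 𝟙 Y)
    (hirr : ∀ y : Y, IsIrreducible (connectedComponentIn (f.base ⁻¹' {y}) (g.base y))) :
    UpperSemicontinuous (fun y : Y => topologicalKrullDim ↥(connectedComponentIn (f.base ⁻¹' {y}) (g.base y))) ∧
      ∀ y : Y, (∃ V ∈ nhds y, ∀ z ∈ V, topologicalKrullDim ↥(connectedComponentIn (f.base ⁻¹' {z}) (g.base z)) = topologicalKrullDim ↥(connectedComponentIn (f.base ⁻¹' {y}) (g.base y))) →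
        ∀ y' : Y, y' ⤳ y → connectedComponentIn (f.base ⁻¹' {y}) (g.base y) ⊆ closure (connectedComponentIn (f.base ⁻¹' {y'}) (g.base y')) := by
  refine ⟨Groth.L07.SectionComp.upperSemicontinuous_dim f g hg hirr, fun y hV y' hy' => ?_⟩
  obtain ⟨V, hV, hconst⟩ := hV
  obtain ⟨ζ, hfζ, hCe, hζC, hsp⟩ := Groth.L07.SectionComp.exists_generic f g (hirr y')
  have hy'V : y' ∈ V := by
    obtain ⟨O, hOV, hO, hyO⟩ := mem_nhds_iff.mp hV
    exact hOV (hy'.mem_open hO hyO)
  have hζg : ζ ⤳ g.base y' :=
    specializes_iff_mem_closure.mpr ((hCe ▸ Groth.L07.SectionComp.mem_comp f g hg y').1)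
  refine (Groth.L07.SectionComp.subset_closure_of_dim_le f g hg hy' hζg (hirr y) ?_).trans
    (closure_mono (Set.singleton_subset_iff.mpr hζC))
  rw [← hconst y' hy'V, hCe, Groth.L07.Equidim.fdim, hfζ]

end Groth.Agent.S3419
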