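import Groth.Statements.S3430
import Groth.Agent.L06.NoetherDense

set_option autoImplicit false
set_option maxSynthPendingDepth 3
set_option linter.style.haveILetI false
open CategoryTheory AlgebraicGeometry
universe u
open EGA42

namespace Groth.Agent.S3430

/-- Let X be a scheme of finite type over a field k and n a natural number. Then: dim X ≥ n if and only
if there are a dense open subscheme U of X and a surjective k-morphism from U to affine n-space over
k; dim X ≤ n if and only if there are such U and g with g finite; dim X = n if and only if there are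
such U and g with g finite and surjective. -/
theorem result (k : Type u) [Field k] {X : Scheme.{u}}
    (f : X ⟶ Spec (CommRingCat.of k)) [LocallyOfFiniteType f] [QuasiCompact f] (n : ℕ) :
    ((n : WithBot ℕ∞) ≤ topologicalKrullDim (X : Type u) ↔
      ∃ (U : X.Opens) (g : (U : Scheme.{u}) ⟶ 𝔸(ULift.{u} (Fin n); Spec (CommRingCat.of k))),
        Dense (U : Set X) ∧ g ≫ (𝔸(ULift.{u} (Fin n); Spec (CommRingCat.of k)) ↘ Spec (CommRingCat.of k)) = U.ι ≫ f ∧ Function.Surjective g.base) ∧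
    (topologicalKrullDim (X : Type u) ≤ n ↔
      ∃ (U : X.Opens) (g : (U : Scheme.{u}) ⟶ 𝔸(ULift.{u} (Fin n); Spec (CommRingCat.of k))),
        Dense (U : Set X) ∧ g ≫ (𝔸(ULift.{u} (Fin n); Spec (CommRingCat.of k)) ↘ Spec (CommRingCat.of k)) = U.ι ≫ f ∧ IsFinite g) ∧
    (topologicalKrullDim (X : Type u) = n ↔
      ∃ (U : X.Opens) (g : (U : Scheme.{u}) ⟶ 𝔸(ULift.{u} (Fin n); Spec (CommRingCat.of k))),
        Dense (U : Set X) ∧ g ≫ (𝔸(ULift.{u} (Fin n); Spec (CommRingCat.of k)) ↘ Spec (CommRingCat.of k)) = U.ι ≫ f ∧ IsFinite g ∧ Function.Surjective g.base) := by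
  obtain ⟨U, hd, h⟩ := Groth.L06.NoetherDense.exists_maps f
  obtain ⟨h1, h2, h3⟩ := h n
  refine ⟨⟨fun hn => ?_, ?_⟩, ⟨fun hn => ?_, ?_⟩, ⟨fun hn => ?_, ?_⟩⟩
  · obtain ⟨g, hg, hs⟩ := h1 hn
    exact ⟨U, g, hd, hg, hs⟩
  · rintro ⟨V, g, hV, hg, hs⟩
    exact Groth.L06.NoetherDense.le_of_surjective f V n g hg hs
  · obtain ⟨g, hg, hs⟩ := h2 hn
    exact ⟨U, g, hd, hg, hs⟩
  · rintro ⟨V, g, hV, hg, hs⟩
    exact Groth.L06.NoetherDense.le_of_finite f V hV n g hg
  · obtain ⟨g, hg, hs⟩ := h3 hn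
    exact ⟨U, g, hd, hg, hs⟩
  · rintro ⟨V, g, hV, hg, hfin, hs⟩
    exact le_antisymm (Groth.L06.NoetherDense.le_of_finite f V hV n g hg)
      (Groth.L06.NoetherDense.le_of_surjective f V n g hg hs)

end Groth.Agent.S3430
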