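import Groth.Statements.S3431
import Mathlib.RingTheory.Spectrum.Maximal.Basic
import Mathlib.RingTheory.Jacobson.Ring
import Groth.Agent.L00.ArtinTate
import Mathlib.RingTheory.KrullDimension.Field
-- import your own Groth.Agent.* helpers here

set_option autoImplicit false
universe u
open EGA43

namespace Groth.Agent.S3431

/-- Let A be a Noetherian ring. Then A is a Jacobson ring if and only if there is no prime ideal p of A
such that A/p is semi-local (finitely many maximal ideals) of Krull dimension 1. -/
theorem result (A : Type u) [CommRing A] [IsNoetherianRing A] :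
    IsJacobsonRing A ↔
      ∀ (p : Ideal A) [p.IsPrime], ¬ (Finite (MaximalSpectrum (A ⧸ p)) ∧ ringKrullDim (A ⧸ p) = 1) := by
  classical
  constructor
  · intro hJ p hp hcon
    obtain ⟨hfin, hdim⟩ := hcon
    let _ := Fintype.ofFinite (MaximalSpectrum (A ⧸ p))
    haveI : IsJacobsonRing (A ⧸ p) := isJacobsonRing_of_surjective ⟨Ideal.Quotient.mk p, Ideal.Quotient.mk_surjective⟩
    have hj : (⊥ : Ideal (A ⧸ p)).jacobson = ⊥ :=
      isJacobsonRing_iff_prime_eq.1 inferInstance ⊥ Ideal.isPrime_bot
    have hle : (Finset.univ : Finset (MaximalSpectrum (A ⧸ p))).inf MaximalSpectrum.asIdeal ≤ ⊥ := by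
      rw [← hj]
      refine le_sInf fun m hm => ?_
      exact Finset.inf_le (f := MaximalSpectrum.asIdeal) (Finset.mem_univ ⟨m, hm.2⟩)
    obtain ⟨m, -, hm⟩ := (Ideal.IsPrime.inf_le' Ideal.isPrime_bot).1 hle
    have hmb : m.asIdeal = ⊥ := le_bot_iff.1 hm
    have hb : (⊥ : Ideal (A ⧸ p)).IsMaximal := hmb ▸ m.isMaximal
    have hF : IsField (A ⧸ p) := Ring.isField_iff_maximal_bot.2 hb
    rw [ringKrullDim_eq_zero_of_isField hF] at hdim
    exact zero_ne_one hdim
  · intro h
    rw [isJacobsonRing_iff_prime_eq]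
    intro P hP
    refine le_antisymm (fun f hf => ?_) Ideal.le_jacobson
    by_contra hfP
    obtain ⟨r, ⟨hr, hPr, hfr⟩, hrmax⟩ := (wellFounded_gt (α := Ideal A)).has_min
      {r : Ideal A | r.IsPrime ∧ P ≤ r ∧ f ∉ r} ⟨P, hP, le_rfl, hfP⟩
    haveI := hr
    have hmem : ∀ q : Ideal A, q.IsPrime → r ≤ q → q ≠ r → f ∈ q := fun q hq hrq hne => by
      by_contra hc
      exact hrmax q ⟨hq, hPr.trans hrq, hc⟩ (lt_of_le_of_ne hrq (Ne.symm hne))
    refine h r ⟨?_, ?_⟩
    · haveI := (Groth.L00.ArtinTate.finite_above hfr hmem).to_subtype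
      refine Finite.of_injective (β := {q : PrimeSpectrum A | r ≤ q.asIdeal})
        (fun m => ⟨⟨m.asIdeal.comap (Ideal.Quotient.mk r), inferInstance⟩, fun x hx => by
          show Ideal.Quotient.mk r x ∈ m.asIdeal
          rw [Ideal.Quotient.eq_zero_iff_mem.mpr hx]; exact m.asIdeal.zero_mem⟩) ?_
      intro a b e
      have := congrArg (fun q => q.1.asIdeal) e
      exact MaximalSpectrum.ext (Ideal.comap_injective_of_surjective _ Ideal.Quotient.mk_surjective this)
    · haveI : Ring.KrullDimLE 1 (A ⧸ r) := Ring.krullDimLE_one_iff.mpr fun I hI => by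
        have hrI : r ≤ I.comap (Ideal.Quotient.mk r) := fun x hx => by
          show Ideal.Quotient.mk r x ∈ I
          rw [Ideal.Quotient.eq_zero_iff_mem.mpr hx]; exact I.zero_mem
        by_cases e : I.comap (Ideal.Quotient.mk r) = r
        · left
          have : I = ⊥ := by
            rw [← Ideal.map_comap_of_surjective _ Ideal.Quotient.mk_surjective I, e, Ideal.map_quotient_self]
          subst this
          exact ⟨⟨hI, le_rfl⟩, fun _ _ _ => bot_le⟩
        · right
          obtain ⟨m, hm, hIm⟩ := (I.comap (Ideal.Quotient.mk r)).exists_le_maximal (Ideal.comap_ne_top _ hI.ne_top)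
          have := Groth.L00.ArtinTate.eq_of_le hfr hmem hrI e hIm
          rw [← Ideal.map_comap_of_surjective _ Ideal.Quotient.mk_surjective I, this]
          refine (Ideal.map_eq_top_or_isMaximal_of_surjective _ Ideal.Quotient.mk_surjective hm).resolve_left ?_
          rw [← this, Ideal.map_comap_of_surjective _ Ideal.Quotient.mk_surjective I]
          exact hI.ne_top
      have hd : ringKrullDim (A ⧸ r) ≤ 1 := Ring.krullDimLE_iff.mp inferInstance
      refine le_antisymm hd ?_
      by_contra hcon
      have h0 : ringKrullDim (A ⧸ r) ≤ ((0 : ℕ) : WithBot ℕ∞) := by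
        revert hcon
        generalize ringKrullDim (A ⧸ r) = d
        cases d with
        | bot => exact fun _ => bot_le
        | coe n =>
          intro hcon
          have hn : n < 1 := WithBot.coe_lt_coe.mp (not_le.mp hcon)
          exact WithBot.coe_le_coe.mpr (ENat.lt_one_iff_eq_zero.mp hn).le
      haveI : Ring.KrullDimLE 0 (A ⧸ r) := Ring.krullDimLE_iff.mpr h0
      have hrm : r.IsMaximal := Ideal.Quotient.maximal_of_isField _ Ring.KrullDimLE.isField_of_isDomain
      exact hfr ((Ideal.mem_sInf.1 hf) ⟨hPr, hrm⟩)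

end Groth.Agent.S3431
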