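import Groth.Statements.S3440
import Groth.Agent.S4961
import Groth.Agent.S2559
import Groth.Agent.S2599
import Groth.Agent.S2604
import Groth.Agent.L07.SyntCM
import Groth.Agent.L07.CIScheme
import Groth.Agent.L04.Depth
import Mathlib.AlgebraicGeometry.Morphisms.UniversallyOpen
import Mathlib.Tactic.TFAE

set_option autoImplicit false
set_option maxSynthPendingDepth 3
set_option linter.style.haveILetI false
open CategoryTheory AlgebraicGeometry
universe u
open EGA43
open scoped TensorProduct

namespace Groth.Agent.S3440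

/-- Let Y be locally Noetherian, f : X ⟶ Y locally of finite type, x a point of X and y = f x; suppose
O_{Y,y} is regular and O_{X,x} is Cohen–Macaulay. The following are equivalent: a) O_{Y,y} ⟶ O_{X,x}
is flat and the local ring of X_y at x is Cohen–Macaulay; b) O_{Y,y} ⟶ O_{X,x} is flat; c) the
restriction of f to some open neighbourhood of x is universally open; d) f is open at the generic
point of every irreducible component of X_y through x; e') dim O_{X,x} = dim O_{Y,y} + dim
O_{X_y,x}. -/
theorem result {X Y : Scheme.{u}} [IsLocallyNoetherian Y] (f : X ⟶ Y)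
    [LocallyOfFiniteType f] (x : X) (hreg : IsRegularLocalRing (Y.presheaf.stalk (f.base x)))
    (hCM : LocCoh.IsCohenMacaulayLocalRing (X.presheaf.stalk x)) :
    List.TFAE [
      (f.stalkMap x).hom.Flat ∧ LocCoh.IsCohenMacaulayLocalRing ((f.fiber (f.base x)).presheaf.stalk (f.asFiber x)),
      (f.stalkMap x).hom.Flat,
      ∃ U : X.Opens, x ∈ U ∧ UniversallyOpen (U.ι ≫ f),
      (∀ z : ↥(f.fiber (f.base x)), f.asFiber x ∈ closure {z} →
          (∀ z' : ↥(f.fiber (f.base x)), z ∈ closure {z'} → z' = z) →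
          EGA43.IsOpenAt f.base ((f.fiberι (f.base x)).base z)),
      ringKrullDim (X.presheaf.stalk x) =
        ringKrullDim (Y.presheaf.stalk (f.base x)) + ringKrullDim ((f.fiber (f.base x)).presheaf.stalk (f.asFiber x)) ] := by
  classical
  haveI : IsLocallyNoetherian X := LocallyOfFiniteType.isLocallyNoetherian f
  haveI : LocallyOfFinitePresentation f := inferInstance
  tfae_have 1 → 2 := fun h => h.1
  tfae_have 2 → 3 := fun h => by
    let U : X.Opens := ⟨{x | (f.stalkMap x).hom.Flat}, Groth.L20.isOpen_flat_stalkMap f⟩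
    refine ⟨U, h, ?_⟩
    haveI : Flat (U.ι ≫ f) := Flat.of_stalkMap _ fun x => by
      rw [Scheme.Hom.stalkMap_comp]
      exact ((RingHom.Flat.respectsIso.cancel_right_isIso (f.stalkMap (U.ι x)) (U.ι.stalkMap x))).2 x.2
    exact UniversallyOpen.of_flat (U.ι ≫ f)
  tfae_have 3 → 4 := by
    rintro ⟨U, hxU, hU⟩ z hz -
    have hsp : (f.fiberι (f.base x)) z ⤳ x := by
      have := (specializes_iff_mem_closure.mpr hz).map (f.fiberι (f.base x)).continuous
      rwa [f.fiberι_asFiber] at this
    intro W hW
    obtain ⟨W', hW'W, hW'o, hzW'⟩ := mem_nhds_iff.mp hW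
    refine Filter.mem_of_superset ?_ (Set.image_mono hW'W)
    have ho : IsOpen ((U.ι ≫ f) '' (U.ι ⁻¹' W')) :=
      (U.ι ≫ f).isOpenMap _ (hW'o.preimage U.ι.continuous)
    refine Filter.mem_of_superset (ho.mem_nhds ⟨⟨_, hsp.mem_open U.2 hxU⟩, hzW', rfl⟩) ?_
    rintro _ ⟨a, ha, rfl⟩
    exact ⟨U.ι a, ha, rfl⟩
  tfae_have 4 → 5 := fun h => Groth.Agent.S2559.result f x h
  tfae_have 5 → 1 := fun hd => by
    letI := (f.stalkMap x).hom.toAlgebra
    haveI : IsLocalHom (algebraMap (Y.presheaf.stalk (f.base x)) (X.presheaf.stalk x)) :=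
      inferInstanceAs (IsLocalHom (f.stalkMap x).hom)
    haveI := hreg
    obtain ⟨e⟩ := Groth.L07.CIScheme.exists_fiberStalkEquiv f (f.base x) (f.asFiber x) x (f.fiberι_asFiber x)
    let A := Y.presheaf.stalk (f.base x)
    let B := X.presheaf.stalk x
    have hmB : EGA4.mB A B • (⊤ : Submodule B B) = EGA4.mB A B := by rw [smul_eq_mul, Ideal.mul_top]
    let eB : EGA4.FibMod A B B ≃ₗ[B] EGA4.FibRing A B := Submodule.quotEquivOfEq _ _ hmB
    have hBB : LocCoh.IsCohenMacaulayModule B B := hCM.supportDim_eq_depth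
    have hflat : Module.Flat A B := by
      refine Groth.Agent.S2599.result A B B hBB ?_
      rw [Module.supportDim_self_eq_ringKrullDim, Module.supportDim_eq_of_equiv eB,
        Module.supportDim_quotient_eq_ringKrullDim, hd, ← ringKrullDim_eq_of_ringEquiv e]
    refine ⟨hflat, Groth.L07.Synt.isCM_ringEquiv e ?_⟩
    have hT : LocCoh.IsCohenMacaulayModule B (B ⊗[A] A) := by
      let eT := TensorProduct.AlgebraTensorModule.rid A B B
      show Module.supportDim B (B ⊗[A] A) = _
      rw [LocCoh.depth, Module.supportDim_eq_of_equiv eT, Groth.L04.idealDepth_congr eT]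
      exact hBB
    have hF := ((Groth.Agent.S2604.result A B A B).mp hT).2
    haveI : IsLocalRing (EGA4.FibRing A B) :=
      IsLocalRing.of_surjective' (Ideal.Quotient.mk _) Ideal.Quotient.mk_surjective
    let eF : EGA4.FibMod A B B ≃ₗ[EGA4.FibRing A B] EGA4.FibRing A B :=
      LinearEquiv.extendScalarsOfSurjective (S := EGA4.FibRing A B) Ideal.Quotient.mk_surjective eB
    refine { supportDim_eq_depth := ?_ }
    rw [LocCoh.depth, ← Module.supportDim_eq_of_equiv eF, ← Groth.L04.idealDepth_congr eF]
    exact hF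
  tfae_finish

end Groth.Agent.S3440
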