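import Groth.Statements.S3456
import Groth.Agent.L07.DimToolkit
import Groth.Agent.L07.DimSub
import Groth.Agent.L07.OpenEquiv

set_option autoImplicit false
set_option maxSynthPendingDepth 3
set_option linter.style.haveILetI false
open CategoryTheory AlgebraicGeometry
universe u
open EGA43

namespace Groth.Agent.S3456

/-- Let Y be locally Noetherian, f : X ⟶ Y locally of finite type and x a point of X; let X_j run over
the (finitely many) irreducible components of X containing x. Then f is equidimensional at x if and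
only if there is a natural number e such that for every X_j: the closure Y_j of f(X_j) is an
irreducible component of Y; for every point η of Y whose closure equals Y_j (i.e. the generic point
of Y_j), the fibre X_j ∩ f⁻¹(η) has topological Krull dimension e; and the local dimension at x of
X_j ∩ f⁻¹(f x) is e. All subsets of X carry the induced topology. -/
theorem result {X Y : Scheme.{u}} [IsLocallyNoetherian Y] (f : X ⟶ Y)
    [LocallyOfFiniteType f] (x : X) :
    EGA43.IsEquidimAt f x ↔
      ∃ e : ℕ, ∀ Xj ∈ irreducibleComponents (X : Type u), ∀ hx : x ∈ Xj,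
        closure (f.base '' Xj) ∈ irreducibleComponents (Y : Type u) ∧
        (∀ η : Y, closure ({η} : Set Y) = closure (f.base '' Xj) →
          topologicalKrullDim ↥(Xj ∩ f.base ⁻¹' {η}) = e) ∧
        FlatMor.localDim ↥(Xj ∩ f.base ⁻¹' {f.base x}) ⟨x, ⟨hx, Set.mem_singleton (f.base x)⟩⟩ = e := by
  haveI : IsLocallyNoetherian X := LocallyOfFiniteType.isLocallyNoetherian f
  constructor
  · intro h
    obtain ⟨e, he⟩ := Groth.L07.DimToolkit.equidim_data f x h
    obtain ⟨hex, hed⟩ := he x specializes_rfl
    refine ⟨e, fun Xj hXj hx => ?_⟩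
    obtain ⟨ξ, hξ⟩ := QuasiSober.sober hXj.1 (isClosed_of_mem_irreducibleComponents Xj hXj)
    obtain rfl := hξ.def
    have hmax : ∀ q, q ⤳ ξ → q = ξ := (Groth.L07.EquidimQF.closure_singleton_mem_irreducibleComponents_iff ξ).mp hXj
    have hξx : ξ ⤳ x := specializes_iff_mem_closure.mpr hx
    obtain ⟨hη, hd⟩ := hed ξ hξx hmax
    have himg : closure (f.base '' closure ({ξ} : Set X)) = closure {f ξ} := by
      rw [closure_image_closure f.continuous, Set.image_singleton]
    refine ⟨?_, fun η hη' => ?_, ?_⟩
    · rw [himg]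
      exact (Groth.L07.EquidimQF.closure_singleton_mem_irreducibleComponents_iff (f ξ)).mpr hη
    · rw [himg] at hη'
      have hη0 : η = f ξ := (isGenericPoint_def.mpr hη' : IsGenericPoint η (closure {f ξ})).eq isGenericPoint_closure
      rw [hη0]
      exact hd
    · let i := Groth.L22.Cyc.clι ξ
      obtain ⟨w, hw⟩ : x ∈ Set.range i := by rw [Groth.L22.Cyc.range_clι]; exact hx
      rw [Groth.L07.DimToolkit.localDim_eq_fibreDimAt_comp i f w _ (Groth.L22.Cyc.range_clι ξ) x hw ⟨hx, rfl⟩]
      refine le_antisymm ?_ ?_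
      · refine (Groth.L07.DimToolkit.fibreDimAt_comp_le i f w).trans ?_
        rw [hw]; exact hex.le
      · obtain ⟨wξ, hwξ⟩ : ξ ∈ Set.range i := by rw [Groth.L22.Cyc.range_clι]; exact subset_closure rfl
        have hsp : wξ ⤳ w := by
          rw [← i.isEmbedding.isInducing.specializes_iff, hwξ, hw]; exact hξx
        refine le_trans (le_of_eq ?_) (Groth.L07.DimToolkit.fdim_le_fibreDimAt_of_specializes (i ≫ f) hsp)
        rw [Groth.L07.Equidim.fdim_comp i f (i ≫ f) rfl wξ, hwξ, hd]
  · rintro ⟨e, he⟩
    refine Groth.L07.DimToolkit.isEquidimAt_of_components f x e ?_ fun ξ hξ hmax => ?_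
    · obtain ⟨z, hzx, hfz, -, hzd⟩ := Groth.L07.OpenEquiv.exists_maximal_fdim_eq f x
      rw [← hzd]
      obtain ⟨ξ, hξz, hmax⟩ := Groth.L07.Equidim.exists_maximal_generization z
      have hx : x ∈ closure ({ξ} : Set X) := specializes_iff_mem_closure.mp (hξz.trans hzx)
      obtain ⟨-, -, hloc⟩ := he _ ((Groth.L07.EquidimQF.closure_singleton_mem_irreducibleComponents_iff ξ).mpr hmax) hx
      rw [← hloc]
      let i := Groth.L22.Cyc.clι ξ
      obtain ⟨w, hw⟩ : x ∈ Set.range i := by rw [Groth.L22.Cyc.range_clι]; exact hx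
      obtain ⟨wz, hwz⟩ : z ∈ Set.range i := by
        rw [Groth.L22.Cyc.range_clι]; exact specializes_iff_mem_closure.mp hξz
      rw [Groth.L07.DimToolkit.localDim_eq_fibreDimAt_comp i f w _ (Groth.L22.Cyc.range_clι ξ) x hw ⟨hx, rfl⟩,
        ← hwz, ← Groth.L07.Equidim.fdim_comp i f (i ≫ f) rfl wz]
      refine (Groth.L07.Equidim.fdim_le_fibreDimAt (i ≫ f) wz).trans
        (Groth.L07.OpenEquiv.fibreDimAt_le_of_specializes (i ≫ f) ?_ ?_)
      · rw [← i.isEmbedding.isInducing.specializes_iff, hwz, hw]; exact hzx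
      · rw [Scheme.Hom.comp_apply, Scheme.Hom.comp_apply, hwz, hw, hfz]
    · have hx : x ∈ closure ({ξ} : Set X) := specializes_iff_mem_closure.mp hξ
      obtain ⟨hcomp, hfib, -⟩ := he _ ((Groth.L07.EquidimQF.closure_singleton_mem_irreducibleComponents_iff ξ).mpr hmax) hx
      have himg : closure (f.base '' closure ({ξ} : Set X)) = closure {f ξ} := by
        rw [closure_image_closure f.continuous, Set.image_singleton]
      rw [himg] at hcomp
      exact ⟨(Groth.L07.EquidimQF.closure_singleton_mem_irreducibleComponents_iff (f ξ)).mp hcomp,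
        (hfib (f ξ) himg.symm).ge⟩

end Groth.Agent.S3456
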