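import Groth.Statements.S3457
import Groth.Agent.L07.DimToolkit
import Groth.Agent.L07.DimSub

set_option autoImplicit false
set_option maxSynthPendingDepth 3
set_option linter.style.haveILetI false
open CategoryTheory AlgebraicGeometry
universe u
open EGA43

namespace Groth.Agent.S3457

/-- Let Y be locally Noetherian, f : X ⟶ Y locally of finite type, x a point of X with y = f x, and
suppose f is equidimensional at x and O_{Y,y} is universally catenary. Let e be the local dimension
at x of the fibre X_y. Then for every minimal prime 𝔭 of O_{X,x} (that is, for every irreducible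
component X_j of X through x, with O_{X_j,x} = O_{X,x}/𝔭 and O_{Y_j,y} = O_{Y,y}/(𝔭 ∩ O_{Y,y})) one
has dim(O_{X,x}/𝔭) + trdeg_{κ(y)} κ(x) = dim(O_{Y,y}/(𝔭 ∩ O_{Y,y})) + e. -/
theorem result {X Y : Scheme.{u}} [IsLocallyNoetherian Y] (f : X ⟶ Y)
    [LocallyOfFiniteType f] (x : X) (h : EGA43.IsEquidimAt f x)
    (hcat : CAlg.IsUniversallyCatenary (Y.presheaf.stalk (f.base x))) :
    letI : Algebra (Y.residueField (f.base x)) (X.residueField x) := (f.residueFieldMap x).hom.toAlgebra
    ∀ 𝔭 ∈ minimalPrimes (X.presheaf.stalk x),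
      ringKrullDim (X.presheaf.stalk x ⧸ 𝔭) +
          (Cardinal.toNat (Algebra.trdeg (Y.residueField (f.base x)) (X.residueField x)) : WithBot ℕ∞) =
        ringKrullDim (Y.presheaf.stalk (f.base x) ⧸ 𝔭.comap (f.stalkMap x).hom) + FlatMor.fibreDimAt f x := by
  haveI : IsLocallyNoetherian X := LocallyOfFiniteType.isLocallyNoetherian f
  intro P hP
  let p : PrimeSpectrum (X.presheaf.stalk x) := ⟨P, hP.1.1⟩
  let ξ := X.fromSpecStalk x p
  have hξ : ξ ⤳ x := Groth.L07.EquidimPoint.specializes_point x p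
  have hmax : ∀ q, q ⤳ ξ → q = ξ :=
    (Groth.L07.EquidimPoint.minimal_stalk_iff x p).mp ((Groth.L07.EquidimPoint.minimalPrimes_iff p).mp hP)
  let q := PrimeSpectrum.comap (f.stalkMap x).hom p
  have hq : Y.fromSpecStalk (f x) q = f ξ :=
    (congr($(Scheme.SpecMap_stalkMap_fromSpecStalk f (x := x)) p) :)
  obtain ⟨A, B, n, N, hA, hB, hn, hN, -, heq⟩ := Groth.L07.DimToolkit.formula f hξ
  obtain ⟨n', hn1, hn2⟩ := Groth.L07.DimToolkit.exists_fdim_rtrdeg f x
  have hnn : n' = n := by
    have := hn1.symm.trans hn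
    exact_mod_cast this
  subst hnn
  obtain ⟨e, he⟩ := Groth.L07.DimToolkit.equidim_data f x h
  obtain ⟨hex, hed⟩ := he x specializes_rfl
  have hNe : N = e := by
    have := hN.symm.trans (hed ξ hξ hmax).2
    exact_mod_cast this
  have hA' : ringKrullDim (X.presheaf.stalk x ⧸ P) = (A : WithBot ℕ∞) := by
    rw [Groth.L07.EquidimPoint.ringKrullDim_quotient_eq_coheight p,
      ← Groth.L07.DimToolkit.dim_locQuot_eq_coheight x ξ hξ p rfl, hA]
  have hB' : ringKrullDim (Y.presheaf.stalk (f x) ⧸ q.asIdeal) = (B : WithBot ℕ∞) := by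
    rw [Groth.L07.EquidimPoint.ringKrullDim_quotient_eq_coheight q,
      ← Groth.L07.DimToolkit.dim_locQuot_eq_coheight (f x) (f ξ) (hξ.map f.continuous) q hq, hB]
  have ht : (Cardinal.toNat (Groth.L22.Cyc.rtrdeg f x)) = n' := by rw [hn2, Cardinal.toNat_natCast]
  have key := heq hcat
  change ringKrullDim (X.presheaf.stalk x ⧸ P) + ((Cardinal.toNat (Groth.L22.Cyc.rtrdeg f x) : ℕ) : WithBot ℕ∞) =
    ringKrullDim (Y.presheaf.stalk (f x) ⧸ q.asIdeal) + FlatMor.fibreDimAt f x
  rw [hA', hB', ht, hex, ← hNe]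
  exact_mod_cast key

end Groth.Agent.S3457
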