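import Groth.Statements.S3459
import Groth.Agent.L07.UniqueUnivOpenScheme
import Groth.Agent.L07.OpenFibreDim
import Groth.Agent.L22.GeomConn.Irred

set_option autoImplicit false
set_option linter.style.haveILetI false
open CategoryTheory AlgebraicGeometry
universe u
open EGA43
open Groth.L22

set_option maxSynthPendingDepth 3
set_option backward.isDefEq.respectTransparency.types false
set_option backward.isDefEq.respectTransparency false

namespace Groth.Agent.S3459

/-- Let Y be an irreducible locally Noetherian scheme with generic point η, f : X ⟶ Y locally of finite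
type, x a point of X and y = f x. Suppose (1) x lies on exactly one irreducible component Z of the
fibre X_y, and (2) X_y is geometrically reduced at the generic point of Z. Call an irreducible
component X' of X containing x admissible when the local dimension at x of X' ∩ f⁻¹(y) equals that
of f⁻¹(y) and the restriction of f to X' (with its reduced structure) is universally open at the
generic points of the irreducible components of X' ∩ f⁻¹(y) containing x. Then there is at most one
admissible X'; and if X' is admissible, the fibre X_η is geometrically reduced at the generic point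
of X'. -/
theorem result {X Y : Scheme.{u}} [IrreducibleSpace Y]
    [IsLocallyNoetherian Y] (f : X ⟶ Y) [LocallyOfFiniteType f] (x : X)
    (h1 : ∃! Zc : Set ↥(f.fiber (f.base x)), Zc ∈ irreducibleComponents (↥(f.fiber (f.base x)) : Type u) ∧ f.asFiber x ∈ Zc)
    (h2 : ∀ z : ↥(f.fiber (f.base x)), f.asFiber x ∈ closure {z} →
      (∀ z' : ↥(f.fiber (f.base x)), z ∈ closure {z'} → z' = z) →
      FBase.IsGeomReducedAt (f.fiberToSpecResidueField (f.base x)) z) :
    letI adm : TopologicalSpace.Closeds X → Prop := fun X' =>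
      (X' : Set X) ∈ irreducibleComponents (X : Type u) ∧ ∃ hx : x ∈ X',
        FlatMor.localDim ↥((X' : Set X) ∩ f.base ⁻¹' {f.base x}) ⟨x, ⟨hx, Set.mem_singleton (f.base x)⟩⟩ =
          FlatMor.fibreDimAt f x ∧
        ∀ w : ↥(Scheme.IdealSheafData.vanishingIdeal X').subscheme,
          f.base ((Scheme.IdealSheafData.vanishingIdeal X').subschemeι.base w) = f.base x →
          x ∈ closure {(Scheme.IdealSheafData.vanishingIdeal X').subschemeι.base w} →
          (∀ t : X, t ∈ (X' : Set X) → f.base t = f.base x →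
              (Scheme.IdealSheafData.vanishingIdeal X').subschemeι.base w ∈ closure {t} →
              t = (Scheme.IdealSheafData.vanishingIdeal X').subschemeι.base w) →
          EGA43.IsUnivOpenAt ((Scheme.IdealSheafData.vanishingIdeal X').subschemeι ≫ f) w
    {X' : TopologicalSpace.Closeds X | adm X'}.Subsingleton ∧
      ∀ X' : TopologicalSpace.Closeds X, adm X' →
        ∀ ζ : ↥(f.fiber (genericPoint Y)), closure {(f.fiberι (genericPoint Y)).base ζ} = (X' : Set X) →
          FBase.IsGeomReducedAt (f.fiberToSpecResidueField (genericPoint Y)) ζ := by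
  classical
  obtain ⟨z, hzx, hfz, hzmax, hzd⟩ := Groth.L07.OpenEquiv.exists_maximal_fdim_eq f x
  obtain ⟨n, hn⟩ := Groth.L07.OpenEquiv.exists_nat_fibreDimAt f x
  have hι := (f.fiberι (f.base x)).isEmbedding
  have hmaxfib : ∀ p : ↥(f.fiber (f.base x)),
      (∀ z', f z' = f ((f.fiberι (f.base x)).base p) → z' ⤳ (f.fiberι (f.base x)).base p →
        z' = (f.fiberι (f.base x)).base p) → ∀ p', p' ⤳ p → p' = p := fun p hp p' hp' =>
    hι.injective (hp _ ((Groth.L07.Equidim.apply_fiberι f _ p').trans (Groth.L07.Equidim.apply_fiberι f _ p).symm)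
      (hp'.map (f.fiberι (f.base x)).continuous))
  have huniq : ∀ a : X, f a = f x → a ⤳ x → (∀ z', f z' = f a → z' ⤳ a → z' = a) → a = z := by
    intro a hfa hax hamax
    obtain ⟨pa, rfl⟩ : a ∈ Set.range (f.fiberι (f.base x)) := by rw [f.range_fiberι]; exact hfa
    obtain ⟨pz, rfl⟩ : z ∈ Set.range (f.fiberι (f.base x)) := by rw [f.range_fiberι]; exact hfz
    obtain ⟨Zc, -, hZ⟩ := h1
    have hcomp : ∀ p : ↥(f.fiber (f.base x)), (∀ p', p' ⤳ p → p' = p) → (f.fiberι (f.base x)).base p ⤳ x →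
        closure {p} = Zc := fun p hp hpx => by
      refine hZ _ ⟨Groth.L22.GeomConn.closure_mem_irreducibleComponents hp, ?_⟩
      refine specializes_iff_mem_closure.mp (hι.isInducing.specializes_iff.mp ?_)
      rw [f.fiberι_asFiber]; exact hpx
    refine congrArg _ ((show IsGenericPoint pa Zc from hcomp pa (hmaxfib pa hamax) hax).eq ?_)
    exact hcomp pz (hmaxfib pz hzmax) hzx
  obtain ⟨pz, hpz⟩ : z ∈ Set.range (f.fiberι (f.base x)) := by rw [f.range_fiberι]; exact hfz
  have hred : FBase.IsGeomReducedAt (f.fiberToSpecResidueField (f.base z)) (f.asFiber z) := by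
    have h := (Groth.L07.SectionComp.geomRed_fibre_iff f pz).mp (h2 pz
      (specializes_iff_mem_closure.mp (hι.isInducing.specializes_iff.mp (by rw [f.fiberι_asFiber, hpz]; exact hzx)))
      (fun p' hp' => hmaxfib pz (hpz ▸ hzmax) p' (specializes_iff_mem_closure.mpr hp')))
    subst hpz
    exact h
  haveI : IsLocallyNoetherian (f.fiber (f.base x)) := by
    haveI : LocallyOfFiniteType (f.fiberToSpecResidueField (f.base x)) :=
      MorphismProperty.pullback_snd _ _ inferInstance
    exact LocallyOfFiniteType.isLocallyNoetherian (f.fiberToSpecResidueField (f.base x))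
  obtain ⟨V, hxV, hV⟩ := Groth.L07.Equidim.exists_nhd_maximal (X := f.fiber (f.base x)) (f.asFiber x)
  obtain ⟨O₁, hO₁, hO₁V⟩ := hι.isInducing.isOpen_iff.mp V.2
  have hxO₁ : x ∈ O₁ := by
    have : f.asFiber x ∈ (f.fiberι (f.base x)).base ⁻¹' O₁ := hO₁V.ge hxV
    rwa [Set.mem_preimage, f.fiberι_asFiber] at this
  let O : X.Opens := ⟨O₁, hO₁⟩ ⊓ ⟨_, Groth.L07.FibreDim.isOpen_fibreDimAt_le f n⟩
  have hxO : x ∈ O := ⟨hxO₁, hn.le⟩
  have hmain : ∀ X' : TopologicalSpace.Closeds X, (X' : Set X) ∈ irreducibleComponents (X : Type u) → ∀ hx : x ∈ X',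
      FlatMor.localDim ↥((X' : Set X) ∩ f.base ⁻¹' {f.base x}) ⟨x, ⟨hx, Set.mem_singleton (f.base x)⟩⟩ =
          FlatMor.fibreDimAt f x → z ∈ X' := by
    intro X' _ hx hdim
    let ι := (Scheme.IdealSheafData.vanishingIdeal X').subschemeι
    have hrange : Set.range ι.base = (X' : Set X) :=
      (Scheme.IdealSheafData.range_subschemeι _).trans (Scheme.IdealSheafData.coe_support_vanishingIdeal (X := X) X')
    have hle : (n : WithBot ℕ∞) ≤ topologicalKrullDim ↥(((ι ⁻¹ᵁ O : TopologicalSpace.Opens _) : Set _) ∩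
        (ι ≫ f).base ⁻¹' {f.base x}) := by
      let Ox : {U : TopologicalSpace.Opens ↥((X' : Set X) ∩ f.base ⁻¹' {f.base x}) //
          (⟨x, ⟨hx, Set.mem_singleton (f.base x)⟩⟩ : ↥((X' : Set X) ∩ f.base ⁻¹' {f.base x})) ∈ U} :=
        ⟨⟨Subtype.val ⁻¹' (O : Set X), O.isOpen.preimage continuous_subtype_val⟩, hxO⟩
      refine (((le_of_eq hn.symm).trans hdim.ge).trans (iInf_le _ Ox)).trans (le_of_eq ?_)
      refine (SchemeDim.topologicalKrullDim_eq_of_isEmbedding
        (f := fun a : ↥(Subtype.val ⁻¹' (O : Set X) : Set ↥((X' : Set X) ∩ f.base ⁻¹' {f.base x})) => a.1.1)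
        (Topology.IsEmbedding.subtypeVal.comp Topology.IsEmbedding.subtypeVal)
        (S := (O : Set X) ∩ ((X' : Set X) ∩ f.base ⁻¹' {f.base x})) ?_).symm.trans
        (SchemeDim.topologicalKrullDim_eq_of_isEmbedding
          (f := fun a : ↥(((ι ⁻¹ᵁ O : TopologicalSpace.Opens _) : Set _) ∩ (ι ≫ f).base ⁻¹' {f.base x}) => ι.base a.1)
          (ι.isEmbedding.comp Topology.IsEmbedding.subtypeVal) ?_)
      · ext a
        constructor
        · rintro ⟨⟨⟨a, ha⟩, haO⟩, rfl⟩
          exact ⟨haO, ha⟩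
        · rintro ⟨haO, ha⟩
          exact ⟨⟨⟨a, ha⟩, haO⟩, rfl⟩
      · ext a
        constructor
        · rintro ⟨⟨b, hbO, hbf⟩, rfl⟩
          exact ⟨hbO, hrange.subset ⟨b, rfl⟩, hbf⟩
        · rintro ⟨haO, haX, haf⟩
          obtain ⟨b, rfl⟩ := hrange.superset haX
          exact ⟨⟨b, haO, haf⟩, rfl⟩
    obtain ⟨a, haO, hfa, had⟩ := Groth.L07.OpenEquiv.exists_fdim_le (ι ≫ f) (ι ⁻¹ᵁ O) (f.base x) n hle
    rw [Groth.L07.Equidim.fdim_comp ι f (ι ≫ f) rfl a] at had
    have haO' : ι.base a ∈ O := haO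
    have hfa' : f (ι.base a) = f x := hfa
    have hamax := Groth.L07.DimToolkit.maximal_of_fdim f (ι.base a)
      (le_antisymm (Groth.L07.Equidim.fdim_le_fibreDimAt f _) (le_trans haO'.2 had))
    obtain ⟨p, hp⟩ : ι.base a ∈ Set.range (f.fiberι (f.base x)) := by rw [f.range_fiberι]; exact hfa'
    have hpV : p ∈ V := hO₁V.le (show (f.fiberι (f.base x)).base p ∈ O₁ from hp.symm ▸ haO'.1)
    have hpx : ι.base a ⤳ x := by
      have := (hV p hpV (hmaxfib p (hp.symm ▸ hamax))).map (f.fiberι (f.base x)).continuous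
      rwa [hp, f.fiberι_asFiber] at this
    rw [← huniq _ hfa' hpx hamax]
    exact hrange.subset ⟨a, rfl⟩
  have hkey : ∀ X' : TopologicalSpace.Closeds X, (X' : Set X) ∈ irreducibleComponents (X : Type u) → ∀ hx : x ∈ X',
      FlatMor.localDim ↥((X' : Set X) ∩ f.base ⁻¹' {f.base x}) ⟨x, ⟨hx, Set.mem_singleton (f.base x)⟩⟩ =
          FlatMor.fibreDimAt f x →
      (∀ w : ↥(Scheme.IdealSheafData.vanishingIdeal X').subscheme,
          f.base ((Scheme.IdealSheafData.vanishingIdeal X').subschemeι.base w) = f.base x →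
          x ∈ closure {(Scheme.IdealSheafData.vanishingIdeal X').subschemeι.base w} →
          (∀ t : X, t ∈ (X' : Set X) → f.base t = f.base x →
              (Scheme.IdealSheafData.vanishingIdeal X').subschemeι.base w ∈ closure {t} →
              t = (Scheme.IdealSheafData.vanishingIdeal X').subschemeι.base w) →
          EGA43.IsUnivOpenAt ((Scheme.IdealSheafData.vanishingIdeal X').subschemeι ≫ f) w) →
      ∀ ξ : X, IsGenericPoint ξ (X' : Set X) → ξ ⤳ z ∧ (∀ q, q ⤳ z → (∀ r, r ⤳ q → r = q) → q = ξ) ∧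
        FBase.IsGeomReducedAt (f.fiberToSpecResidueField (f.base ξ)) (f.asFiber ξ) := by
    intro X' hX' hx hdim hopen ξ hξ
    have hzX := hmain X' hX' hx hdim
    obtain ⟨w, hw⟩ : z ∈ Set.range (Scheme.IdealSheafData.vanishingIdeal X').subschemeι := by
      rw [Scheme.IdealSheafData.range_subschemeι, Scheme.IdealSheafData.coe_support_vanishingIdeal]; exact hzX
    refine ⟨hξ.specializes hzX, Groth.L07.UniqueUnivOpen.component_unique f z hzmax hred X' hX' w hw
      (hopen w (by rw [hw]; exact hfz) (by rw [hw]; exact hzx.mem_closure) fun t _ hft ht => ?_) ξ hξ⟩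
    rw [hw] at ht ⊢
    exact hzmax t (hft.trans hfz.symm) (specializes_iff_mem_closure.mpr ht)
  refine ⟨fun X₁ hX₁ X₂ hX₂ => ?_, fun X' hX' ζ hζ => ?_⟩
  · obtain ⟨hc₁, hx₁, hd₁, ho₁⟩ := hX₁
    obtain ⟨hc₂, hx₂, hd₂, ho₂⟩ := hX₂
    obtain ⟨ξ₁, hξ₁⟩ := QuasiSober.sober hc₁.1 X₁.isClosed
    obtain ⟨ξ₂, hξ₂⟩ := QuasiSober.sober hc₂.1 X₂.isClosed
    obtain ⟨-, h₁u, -⟩ := hkey X₁ hc₁ hx₁ hd₁ ho₁ ξ₁ hξ₁
    obtain ⟨h₂z, -, -⟩ := hkey X₂ hc₂ hx₂ hd₂ ho₂ ξ₂ hξ₂
    have h₂max : ∀ r, r ⤳ ξ₂ → r = ξ₂ := fun r hr => by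
      have hsub : (X₂ : Set X) ⊆ closure {r} :=
        hξ₂.def ▸ closure_minimal (Set.singleton_subset_iff.2 hr.mem_closure) isClosed_closure
      exact (show IsGenericPoint r X₂ from subset_antisymm (hc₂.2 isIrreducible_singleton.closure hsub) hsub).eq hξ₂
    have he := h₁u ξ₂ h₂z h₂max
    subst he
    exact TopologicalSpace.Closeds.ext (hξ₁.def.symm.trans hξ₂.def)
  · obtain ⟨hc, hx, hd, ho⟩ := hX'
    obtain ⟨-, -, h⟩ := hkey X' hc hx hd ho ((f.fiberι (genericPoint Y)).base ζ) hζ
    exact (Groth.L07.SectionComp.geomRed_fibre_iff f ζ).mpr h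

end Groth.Agent.S3459
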