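import Groth.Statements.S3460
import Mathlib.AlgebraicGeometry.Morphisms.Proper
import Mathlib.AlgebraicGeometry.Morphisms.Immersion

set_option autoImplicit false
set_option linter.style.haveILetI false
open CategoryTheory AlgebraicGeometry
universe u
open EGA43

namespace Groth.Agent.S3460

/-- Let Y be locally Noetherian and f : X ⟶ Y of finite type. Then there exist a scheme Z, a proper
morphism g : X ⟶ Z and an immersion h : Z ⟶ Y with f = g ≫ h if and only if f is proper at every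
point of f(X), i.e. every point of f(X) has an open neighbourhood U in Y over which the restriction
of f is proper. -/
theorem result {X Y : Scheme.{u}} [IsLocallyNoetherian Y]
    (f : X ⟶ Y) [LocallyOfFiniteType f] [QuasiCompact f] :
    (∃ (Z : Scheme.{u}) (g : X ⟶ Z) (h : Z ⟶ Y), IsProper g ∧ IsImmersion h ∧ g ≫ h = f) ↔
      ∀ x : X, ∃ U : Y.Opens, f.base x ∈ U ∧ IsProper (f ∣_ U) := by
  constructor
  · rintro ⟨Z, g, h, hg, hh, rfl⟩ x
    refine ⟨h.coborderRange, subset_coborder ⟨g x, rfl⟩, ?_⟩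
    have htop : (g ≫ h) ⁻¹ᵁ h.coborderRange = ⊤ :=
      top_unique fun y _ => subset_coborder ⟨g y, rfl⟩
    haveI : IsIso ((g ≫ h) ⁻¹ᵁ h.coborderRange).ι := by
      refine (isIso_iff_isOpenImmersion_and_epi_base _).mpr ⟨inferInstance, ?_⟩
      rw [TopCat.epi_iff_surjective]
      exact fun y => ⟨⟨y, subset_coborder ⟨g y, rfl⟩⟩, rfl⟩
    have he : (g ≫ h) ∣_ h.coborderRange = ((g ≫ h) ⁻¹ᵁ h.coborderRange).ι ≫ g ≫ h.liftCoborder := by
      rw [← cancel_mono h.coborderRange.ι, morphismRestrict_ι, Category.assoc, Category.assoc,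
        h.liftCoborder_ι]
    rw [he]
    infer_instance
  · intro hx
    let U : Y.Opens := ⨆ V : {V : Y.Opens // IsProper (f ∣_ V)}, V.1
    haveI : IsIso (f ⁻¹ᵁ U).ι := by
      refine (isIso_iff_isOpenImmersion_and_epi_base _).mpr ⟨inferInstance, ?_⟩
      rw [TopCat.epi_iff_surjective]
      intro y
      obtain ⟨V, hyV, hV⟩ := hx y
      exact ⟨⟨y, TopologicalSpace.Opens.mem_iSup.mpr ⟨⟨V, hV⟩, hyV⟩⟩, rfl⟩
    haveI : IsProper (f ∣_ U) := by
      refine (IsZariskiLocalAtTarget.iff_of_iSup_eq_top (P := @IsProper)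
        (fun V : {V : Y.Opens // IsProper (f ∣_ V)} => U.ι ⁻¹ᵁ V.1) ?_).mpr fun V => ?_
      · refine top_unique fun y _ => ?_
        obtain ⟨V, hV⟩ := TopologicalSpace.Opens.mem_iSup.mp y.2
        exact TopologicalSpace.Opens.mem_iSup.mpr ⟨V, hV⟩
      · have e : U.ι ''ᵁ (U.ι ⁻¹ᵁ V.1) = V.1 := by
          rw [Scheme.Hom.image_preimage_eq_opensRange_inf, Scheme.Opens.opensRange_ι]
          exact inf_eq_right.mpr (le_iSup (fun V : {V : Y.Opens // IsProper (f ∣_ V)} => V.1) V)
        refine (MorphismProperty.arrow_mk_iso_iff @IsProper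
          (morphismRestrictRestrict f U (U.ι ⁻¹ᵁ V.1))).mpr ?_
        rw [e]
        exact V.2
    exact ⟨_, inv (f ⁻¹ᵁ U).ι ≫ (f ∣_ U), U.ι, inferInstance, inferInstance,
      by rw [Category.assoc, morphismRestrict_ι, IsIso.inv_hom_id_assoc]⟩

end Groth.Agent.S3460
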