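import Groth.Statements.S3483
import Groth.Agent.L28.CdLower.Trdeg
import Groth.Agent.L28.Serre.Orderable

set_option autoImplicit false
set_option linter.style.haveILetI false
set_option backward.isDefEq.respectTransparency.types false
universe u
open CategoryTheory CategoryTheory.Limits AlgebraicGeometry Opposite
open EtCd

namespace Groth.Agent.S3483

/-- Let k'/k be a finitely generated field extension of transcendence degree t and ℓ a prime different
from the characteristic of k. If cd_ℓ(k') < cd_ℓ(k) + t, that is, if for some d the cohomology of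
ℓ-primary torsion sheaves on Spec k' vanishes above degree d while either d < t or cd_ℓ(k) ≤ d - t
fails, then ℓ = 2, k admits an ordering making it an ordered field, and k' admits none. -/
theorem result (k k' : Type u) [Field k] [Field k'] [Algebra k k']
    (hfg : ∃ s : Finset k', IntermediateField.adjoin k (s : Set k') = ⊤) (ℓ : ℕ) (hℓ : ℓ.Prime) (hℓk : (ℓ : k) ≠ 0)
    (t : ℕ) (ht : Algebra.trdeg k k' = t)
    (hlt : ∃ d : ℕ, Dix.CohDimLEAt (Spec (CommRingCat.of k')) ℓ d ∧
      (d < t ∨ ¬ Dix.CohDimLEAt (Spec (CommRingCat.of k)) ℓ (d - t))) :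
    ℓ = 2 ∧ (∃ _ : LinearOrder k, IsStrictOrderedRing k) ∧ ¬ (∃ _ : LinearOrder k', IsStrictOrderedRing k') := by
  obtain ⟨d, hd, hd'⟩ := hlt
  have hd₁ := (Groth.L28.FieldTower.cohDimLEAt_iff hℓ).1 hd
  have hbad : ¬ (ℓ ≠ 2 ∨ ¬ ∃ _ : LinearOrder k, IsStrictOrderedRing k) := fun hord => by
    obtain ⟨h1, h2⟩ := Groth.L28.CdLower.le_cd_of_fg hℓ t k k' ht hfg hℓk hord d hd₁
    exact hd'.elim (fun h => absurd h1 (Nat.not_le.2 h))
      fun h => h ((Groth.L28.FieldTower.cohDimLEAt_iff hℓ).2 h2)
  have h2 : ℓ = 2 := by_contra fun h => hbad (Or.inl h)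
  refine ⟨h2, by_contra fun h => hbad (Or.inr h), fun h => ?_⟩
  subst h2
  exact Groth.L28.Serre.not_cdLE_two_of_orderable k' h d hd₁

end Groth.Agent.S3483
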