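import Groth.Statements.S3484
import Groth.Agent.L28.DvrLang.Mixed
import Groth.Agent.L28.DvrLang.AS
import Groth.Agent.L28.DvrLang.Degree
import Groth.Agent.L28.Serre.Orderable
import Groth.Agent.L28.CdLower.Descend

set_option autoImplicit false
set_option linter.style.haveILetI false
set_option backward.isDefEq.respectTransparency.types false
universe u
open CategoryTheory CategoryTheory.Limits AlgebraicGeometry Opposite
open EtCd

namespace Groth.Agent.S3484

open Groth.L28.FieldTower in
/-- The residue field has dimension zero when the fraction field has dimension at most one. -/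
theorem residue_zero {ℓ : ℕ} (hℓ : ℓ.Prime) (R : Type u) [CommRing R] [IsDomain R] [IsDiscreteValuationRing R]
    [HenselianLocalRing R] (hk : (ℓ : IsLocalRing.ResidueField R) = 0) [CharZero (FractionRing R)]
    (h : CdLE ℓ (Spec (CommRingCat.of (FractionRing R))) 1) :
    CdLE ℓ (Spec (CommRingCat.of (IsLocalRing.ResidueField R))) 0 := by
  haveI : Fact ℓ.Prime := ⟨hℓ⟩
  refine Groth.L28.CdLower.cdLE_of_const hℓ _ 0 fun E _ _ _ _ => ?_
  obtain ⟨S, _, _, _, _, _, _, _, ⟨eE⟩⟩ := Groth.L28.CdLower.exists_lift R E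
  let L := FractionRing S
  haveI : IsScalarTower R S L := inferInstance
  haveI : FaithfulSMul R L := (faithfulSMul_iff_algebraMap_injective R L).2
    (by rw [IsScalarTower.algebraMap_eq R S L]; exact (IsFractionRing.injective S L).comp (FaithfulSMul.algebraMap_injective R S))
  letI : Algebra (FractionRing R) L := FractionRing.liftAlgebra R L
  haveI : IsScalarTower R (FractionRing R) L := FractionRing.isScalarTower_liftAlgebra R L
  haveI : Algebra.IsAlgebraic R S := inferInstance
  haveI : Module.IsTorsionFree R L := inferInstance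
  haveI : Algebra.IsAlgebraic R L := (IsFractionRing.isAlgebraic_iff' R S L).1 inferInstance
  haveI : Algebra.IsAlgebraic (FractionRing R) L := Algebra.IsAlgebraic.extendScalars (IsFractionRing.injective R _)
  haveI : Algebra.IsIntegral (FractionRing R) L := Algebra.IsAlgebraic.isIntegral
  haveI : CharZero L := charZero_of_injective_algebraMap (algebraMap (FractionRing R) L).injective
  let π : Spec (CommRingCat.of L) ⟶ Spec (CommRingCat.of (FractionRing R)) :=
    Spec.map (CommRingCat.ofHom (algebraMap (FractionRing R) L))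
  haveI : IsIntegralHom π := IsIntegralHom.SpecMap_iff.2 (Algebra.IsIntegral.isIntegral)
  have hN := Groth.L28.Serre.normSurj_of_cdLE_one hℓ (R := L) (Nat.cast_ne_zero.2 hℓ.ne_zero) (h.of_integral π)
  have hE : (ℓ : E) = 0 := by rw [← map_natCast (algebraMap (IsLocalRing.ResidueField R) E), hk, map_zero]
  haveI : CharP (IsLocalRing.ResidueField S) ℓ := (CharP.charP_iff_prime_eq_zero hℓ).2
    (eE.injective (by rw [map_natCast, map_zero, hE]))
  refine Groth.L28.DvrLang.subsingleton_H_one_const hE fun c => ?_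
  obtain ⟨x, hx⟩ := Groth.L28.DvrLang.exists_asRoot_of_normSurj S ℓ L hN (eE.symm c)
  exact ⟨eE x, by rw [← map_pow, ← map_sub, hx, RingEquiv.apply_symm_apply]⟩

/-- Let R be a henselian discrete valuation ring with fraction field K and residue field k, and ℓ a
prime. Assume either (i) ℓ is nonzero in k, or (ii) ℓ is nonzero in K, k is perfect and cd_ℓ(k) is
finite. Then cd_ℓ(K) = cd_ℓ(k) + 1: for every d, cd_ℓ(k) ≤ d if and only if cd_ℓ(K) ≤ d + 1, and
cd_ℓ(K) is not ≤ 0 (cd_ℓ meaning vanishing of etale cohomology of ℓ-primary torsion sheaves above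
the given degree). -/
theorem result (R K : Type u) [CommRing R] [IsDomain R] [IsDiscreteValuationRing R]
    [HenselianLocalRing R] [Field K] [Algebra R K] [IsFractionRing R K] (ℓ : ℕ) (hℓ : ℓ.Prime)
    (h : (ℓ : IsLocalRing.ResidueField R) ≠ 0 ∨
      ((ℓ : K) ≠ 0 ∧ PerfectField (IsLocalRing.ResidueField R) ∧
        ∃ d : ℕ, Dix.CohDimLEAt (Spec (CommRingCat.of (IsLocalRing.ResidueField R))) ℓ d)) :
    (∀ d : ℕ, Dix.CohDimLEAt (Spec (CommRingCat.of (IsLocalRing.ResidueField R))) ℓ d ↔
        Dix.CohDimLEAt (Spec (CommRingCat.of K)) ℓ (d + 1)) ∧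
      ¬ Dix.CohDimLEAt (Spec (CommRingCat.of K)) ℓ 0 := by
  let L := FractionRing R
  let e : L ≃+* K := (FractionRing.algEquiv R K).toRingEquiv
  have tr : ∀ n, Dix.CohDimLEAt (Spec (CommRingCat.of K)) ℓ n ↔
      Groth.L28.FieldTower.CdLE ℓ (Spec (CommRingCat.of L)) n := fun n => by
    rw [Groth.L28.FieldTower.cohDimLEAt_iff hℓ]
    exact ⟨Groth.L28.CdLower.cdLE_of_ringEquiv e.symm, Groth.L28.CdLower.cdLE_of_ringEquiv e⟩
  suffices H : (∀ d, Groth.L28.FieldTower.CdLE ℓ (Spec (CommRingCat.of (IsLocalRing.ResidueField R))) d ↔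
      Groth.L28.FieldTower.CdLE ℓ (Spec (CommRingCat.of L)) (d + 1)) ∧
      ¬ Groth.L28.FieldTower.CdLE ℓ (Spec (CommRingCat.of L)) 0 by
    refine ⟨fun d => ?_, fun h0 => H.2 ((tr 0).1 h0)⟩
    rw [Groth.L28.FieldTower.cohDimLEAt_iff hℓ, tr]
    exact H.1 d
  by_cases hk : (ℓ : IsLocalRing.ResidueField R) = 0
  · obtain ⟨hK, hperf, -⟩ := h.resolve_left (not_not.2 hk)
    haveI := hperf
    haveI : Fact ℓ.Prime := ⟨hℓ⟩
    have hchar : ringChar K = 0 := by
      rcases CharP.char_is_prime_or_zero K (ringChar K) with hq | hq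
      · exfalso
        have hR : ((ringChar K : ℕ) : R) = 0 := IsFractionRing.injective R K (by
          rw [map_natCast, map_zero]; exact CharP.cast_eq_zero K _)
        have hR' : ((ringChar K : ℕ) : IsLocalRing.ResidueField R) = 0 := by
          rw [← map_natCast (IsLocalRing.residue R), hR, map_zero]
        haveI : CharP (IsLocalRing.ResidueField R) ℓ := (CharP.charP_iff_prime_eq_zero hℓ).2 hk
        have hq' : ringChar K = ℓ :=
          ((Nat.prime_dvd_prime_iff_eq hℓ hq).1 ((CharP.cast_eq_zero_iff _ ℓ _).1 hR')).symm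
        exact hK (by rw [← hq']; exact CharP.cast_eq_zero K _)
      · exact hq
    haveI : CharP K 0 := hchar ▸ ringChar.charP K
    haveI : CharZero K := CharP.charP_to_charZero K
    haveI : CharZero L := charZero_of_injective_ringHom (f := e.symm.toRingHom) e.symm.injective
    refine ⟨fun d => ⟨Groth.L28.DvrLang.cdLE_fraction_perfect hℓ R, fun hd => ?_⟩, fun h0 => ?_⟩
    · rcases Nat.eq_zero_or_pos d with rfl | hd0
      · exact residue_zero hℓ R hk hd
      · exact Groth.L28.CdLower.cdLE_mono (Groth.L28.Serre.cdLE_one_of_char hℓ _ hk) hd0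
    · obtain ⟨π, hπ⟩ := IsDiscreteValuationRing.exists_irreducible R
      obtain ⟨y, hy⟩ := Groth.L28.DvrLang.exists_pow_eq_of_cdLE_zero hℓ (K := L) (Nat.cast_ne_zero.2 hℓ.ne_zero) h0
        (algebraMap R L π) (by rw [Ne, map_eq_zero_iff _ (IsFractionRing.injective R L)]; exact hπ.ne_zero)
      obtain ⟨r, rfl⟩ : ∃ r, algebraMap R L r = y := IsIntegrallyClosed.isIntegral_iff.1
        (IsIntegral.of_pow hℓ.pos (hy ▸ isIntegral_algebraMap))
      rw [← map_pow] at hy
      have hr : r ^ ℓ = π := IsFractionRing.injective R L hy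
      have hru : IsUnit r := by
        by_contra hnu
        obtain ⟨m, hm⟩ : ∃ m, ℓ = m + 2 := ⟨ℓ - 2, by have := hℓ.two_le; omega⟩
        rw [hm, pow_succ] at hr
        exact (hπ.isUnit_or_isUnit hr.symm).elim (fun h => hnu ((isUnit_pow_iff (Nat.succ_ne_zero m)).1 h)) hnu
      exact hπ.not_isUnit (hr ▸ hru.pow ℓ)
  · have hu : IsUnit (ℓ : R) := by
      rw [← IsLocalRing.residue_ne_zero_iff_isUnit, map_natCast]; exact hk
    exact ⟨fun d => ⟨Groth.L28.CdLower.cdLE_fraction_dvr hℓ R hu, fun hd =>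
      (Groth.L28.CdLower.cdLE_residue hℓ R hu hd).2⟩,
      fun h0 => absurd (Groth.L28.CdLower.cdLE_residue hℓ R hu h0).1 (by omega)⟩

end Groth.Agent.S3484
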