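import Groth.Statements.S3486
import Groth.Agent.L28.CdLower.Upper
import Groth.Agent.L28.Serre.Main
import Mathlib.RingTheory.Ideal.MinimalPrime.Basic

set_option autoImplicit false
set_option linter.style.haveILetI false
set_option backward.isDefEq.respectTransparency.types false
universe u
open CategoryTheory CategoryTheory.Limits AlgebraicGeometry Opposite
open EtCd

namespace Groth.Agent.S3486

/-- Let A be a Noetherian henselian local ring of dimension 1 with residue field k, and ℓ a prime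
invertible in A. The ring of rational functions of Spec A is the product of the local rings at the
minimal primes P, whose ℓ-cohomological dimension is that of the fields Frac(A/P); the result: for
every minimal prime P, cd_ℓ(Frac(A/P)) ≤ cd_ℓ(k) + 1, and if ℓ ≠ 2 or k is not orderable then
cd_ℓ(Frac(A/P)) = cd_ℓ(k) + 1 exactly. -/
theorem result (A : Type u) [CommRing A] [IsNoetherianRing A] [HenselianLocalRing A]
    (hdim : ringKrullDim A = 1) (ℓ : ℕ) (hℓ : ℓ.Prime) (hℓA : IsUnit (ℓ : A))
    (P : Ideal A) (hP : P ∈ minimalPrimes A) :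
    (∀ d : ℕ, Dix.CohDimLEAt (Spec (CommRingCat.of (IsLocalRing.ResidueField A))) ℓ d →
        Dix.CohDimLEAt (Spec (CommRingCat.of (FractionRing (A ⧸ P)))) ℓ (d + 1)) ∧
    ((ℓ ≠ 2 ∨ ¬ ∃ _ : LinearOrder (IsLocalRing.ResidueField A), IsStrictOrderedRing (IsLocalRing.ResidueField A)) →
      (∀ d : ℕ, Dix.CohDimLEAt (Spec (CommRingCat.of (IsLocalRing.ResidueField A))) ℓ d ↔
          Dix.CohDimLEAt (Spec (CommRingCat.of (FractionRing (A ⧸ P)))) ℓ (d + 1)) ∧
        ¬ Dix.CohDimLEAt (Spec (CommRingCat.of (FractionRing (A ⧸ P)))) ℓ 0) := by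
  haveI : P.IsPrime := hP.1.1
  let D := A ⧸ P
  haveI : IsLocalRing D := IsLocalRing.of_surjective' (Ideal.Quotient.mk P) Ideal.Quotient.mk_surjective
  haveI : Algebra.IsIntegral A D := ⟨fun x => by
    obtain ⟨a, rfl⟩ := Ideal.Quotient.mk_surjective x
    exact isIntegral_algebraMap⟩
  haveI : HenselianLocalRing D := Groth.L05.henselianLocalRing_of_integral (A := A) D
  haveI : Ring.KrullDimLE 1 D := Ring.krullDimLE_iff.2
    ((ringKrullDim_le_of_surjective _ Ideal.Quotient.mk_surjective).trans hdim.le)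
  haveI : Ring.DimensionLEOne D := ⟨fun {p} hne hp => hp.isMaximal_of_ne_bot hne⟩
  have hnf : ¬ IsField D := fun h => by
    have hmax : P.IsMaximal := (Ideal.Quotient.maximal_ideal_iff_isField_quotient _).2 h
    have hone : ∀ q : PrimeSpectrum A, q.asIdeal = P := fun q => by
      have h1 : q.asIdeal ≤ P := IsLocalRing.eq_maximalIdeal hmax ▸ IsLocalRing.le_maximalIdeal q.2.ne_top
      exact le_antisymm h1 (hP.2 ⟨q.2, bot_le⟩ h1)
    haveI : Subsingleton (PrimeSpectrum A) :=
      ⟨fun a b => PrimeSpectrum.ext ((hone a).trans (hone b).symm)⟩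
    have h0 : ringKrullDim A ≤ 0 := Order.krullDim_nonpos_of_subsingleton
    rw [hdim] at h0
    exact absurd h0 (by norm_num)
  obtain ⟨B, _, _, _, _, f, g, hg, ⟨e⟩, -⟩ := Groth.L28.CdLower.exists_normalization D hnf
  have hu : IsUnit (ℓ : B) := by
    simpa using (hℓA.map (Ideal.Quotient.mk P)).map f
  haveI : IsLocalHom (Ideal.Quotient.mk P) := IsLocalHom.of_surjective _ Ideal.Quotient.mk_surjective
  let r : IsLocalRing.ResidueField A →+* IsLocalRing.ResidueField D :=
    IsLocalRing.ResidueField.map (Ideal.Quotient.mk P)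
  have hr : Function.Surjective r := fun z => by
    obtain ⟨z, rfl⟩ := IsLocalRing.residue_surjective z
    obtain ⟨a, rfl⟩ := Ideal.Quotient.mk_surjective z
    exact ⟨IsLocalRing.residue A a, rfl⟩
  have hgr : (g.comp r).Finite := hg.comp (RingHom.Finite.of_surjective r hr)
  have iff₁ := fun (Y : AlgebraicGeometry.Scheme.{u}) (n : ℕ) =>
    Groth.L28.FieldTower.cohDimLEAt_iff (X := Y) (d := n) hℓ
  have up : ∀ d : ℕ, Dix.CohDimLEAt (Spec (CommRingCat.of (IsLocalRing.ResidueField A))) ℓ d →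
      Dix.CohDimLEAt (Spec (CommRingCat.of (FractionRing (A ⧸ P)))) ℓ (d + 1) := fun d h => by
    rw [iff₁] at h ⊢
    exact Groth.L28.CdLower.cdLE_of_finite _ _ e.toRingHom (RingHom.Finite.of_surjective _ e.surjective)
      (Groth.L28.CdLower.cdLE_fraction_dvr hℓ B hu (Groth.L28.CdLower.cdLE_of_finite _ _ (g.comp r) hgr h))
  have down : ∀ d : ℕ, Dix.CohDimLEAt (Spec (CommRingCat.of (FractionRing (A ⧸ P)))) ℓ d →
      1 ≤ d ∧ Groth.L28.FieldTower.CdLE ℓ (Spec (CommRingCat.of (IsLocalRing.ResidueField B))) (d - 1) := fun d h => by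
    rw [iff₁] at h
    exact Groth.L28.CdLower.cdLE_residue hℓ B hu
      (Groth.L28.CdLower.cdLE_of_finite _ _ e.symm.toRingHom (RingHom.Finite.of_surjective _ e.symm.surjective) h)
  refine ⟨up, fun hord => ⟨fun d => ⟨up d, fun h => ?_⟩, fun h => absurd (down 0 h).1 (by omega)⟩⟩
  rw [iff₁]
  exact Groth.L28.Serre.cdLE_of_finite_extension hℓ _ _ (g.comp r) hgr hord (down (d + 1) h).2

end Groth.Agent.S3486
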