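import Groth.Statements.S3487
import Groth.Agent.L28.CdLower.Descend
import Mathlib.RingTheory.Ideal.MinimalPrime.Basic

set_option autoImplicit false
set_option linter.style.haveILetI false
set_option backward.isDefEq.respectTransparency.types false
universe u
open CategoryTheory CategoryTheory.Limits AlgebraicGeometry Opposite
open EtCd

namespace Groth.Agent.S3487

/-- Let A be a Noetherian local ring with residue field k and ℓ a prime invertible in A; assume ℓ ≠ 2 or
that no residue field of Spec A is orderable. Then cd_ℓ(R(A)) ≥ cd_ℓ(k) + dim A, where R(A) is the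
ring of rational functions of Spec A: if for some d the cohomology of ℓ-primary torsion sheaves on
Spec Frac(A/P) vanishes above degree d for every minimal prime P, then dim A ≤ d and cd_ℓ(k) ≤ d -
dim A. -/
theorem result (A : Type u) [CommRing A] [IsNoetherianRing A] [IsLocalRing A]
    (ℓ : ℕ) (hℓ : ℓ.Prime) (hℓA : IsUnit (ℓ : A))
    (hord : ℓ ≠ 2 ∨ ∀ p : PrimeSpectrum A, ¬ ∃ _ : LinearOrder (FractionRing (A ⧸ p.asIdeal)),
      IsStrictOrderedRing (FractionRing (A ⧸ p.asIdeal)))
    (m : ℕ) (hm : ringKrullDim A = m) (d : ℕ)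
    (hd : ∀ P ∈ minimalPrimes A, Dix.CohDimLEAt (Spec (CommRingCat.of (FractionRing (A ⧸ P)))) ℓ d) :
    m ≤ d ∧ Dix.CohDimLEAt (Spec (CommRingCat.of (IsLocalRing.ResidueField A))) ℓ (d - m) := by
  classical
  obtain ⟨l, hl⟩ : ∃ l : LTSeries (PrimeSpectrum A), m ≤ l.length := by
    rcases Nat.eq_zero_or_pos m with rfl | _
    · exact ⟨RelSeries.singleton _ (⟨IsLocalRing.maximalIdeal A, inferInstance⟩ : PrimeSpectrum A), le_rfl⟩
    · obtain ⟨l, hl⟩ := Order.le_krullDim_iff.1 (le_of_eq hm.symm)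
      exact ⟨l, hl.ge⟩
  obtain ⟨P, hP, hPle⟩ := Ideal.exists_minimalPrimes_le (I := (⊥ : Ideal A)) (J := l.head.asIdeal) bot_le
  haveI : P.IsPrime := hP.1.1
  have hdim : (m : WithBot ℕ∞) ≤ ringKrullDim (A ⧸ P) := by
    rw [ringKrullDim_quotient]
    let l' : LTSeries (PrimeSpectrum.zeroLocus (P : Set A)) := LTSeries.mk l.length
      (fun i => ⟨l i, hPle.trans (l.monotone (Fin.zero_le i))⟩) (fun i j hij => l.strictMono hij)
    exact le_trans (by exact_mod_cast hl)
      (le_iSup (fun q : LTSeries (PrimeSpectrum.zeroLocus (P : Set A)) => (q.length : WithBot ℕ∞)) l')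
  obtain ⟨h1, h2⟩ := Groth.L28.CdLower.le_cd_residue hℓ hord hℓA P
    ((Groth.L28.FieldTower.cohDimLEAt_iff hℓ).1 (hd P hP)) m hdim
  exact ⟨h1, (Groth.L28.FieldTower.cohDimLEAt_iff hℓ).2 h2⟩

end Groth.Agent.S3487
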