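import Groth.Statements.S3488
import Groth.Agent.L28.CdLower.Local
import Groth.Agent.L19.DimTrdeg
-- import your own Groth.Agent.* helpers here

set_option autoImplicit false
universe u
open CategoryTheory CategoryTheory.Limits AlgebraicGeometry Opposite
open EtCd

namespace Groth.Agent.S3488

/-- Let X be a Noetherian scheme and ℓ a prime invertible on X. Then cd_ℓ(R(X)) ≥ dim X, where R(X) is
the ring of rational functions (the product of the local rings at the maximal points): if for some d
the cohomology of ℓ-primary torsion sheaves on Spec κ(x) vanishes above degree d for every maximal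
point x of X (generic point of an irreducible component), then dim X ≤ d. -/
theorem result (X : Scheme.{u}) [IsNoetherian X] (ℓ : ℕ) (hℓ : ℓ.Prime)
    (hℓX : Dix.InvertibleOn X ℓ) (d : ℕ)
    (hd : ∀ x : X, closure {x} ∈ irreducibleComponents (X : Type u) →
      Dix.CohDimLEAt (Spec (X.residueField x)) ℓ d) :
    topologicalKrullDim X ≤ d := by
  simp only [Groth.L28.FieldTower.cohDimLEAt_iff hℓ] at hd
  refine Groth.L19.DimTrdeg.dim_le_of_stalks fun x => ?_
  let O : Type u := X.presheaf.stalk x
  have hu : IsUnit (ℓ : O) := (IsLocalRing.residue_ne_zero_iff_isUnit _).1 (by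
    rw [map_natCast]
    exact hℓX x)
  refine Groth.L28.CdLower.ringKrullDim_le_of_cd hℓ O hu (d := d) fun P hP => ?_
  haveI := hP.1.1
  let g : Spec (X.presheaf.stalk x) ⟶ X := X.fromSpecStalk x
  let q : Spec (X.presheaf.stalk x) := ⟨P, hP.1.1⟩
  have hmax : closure {g q} ∈ irreducibleComponents (X : Type u) := by
    refine ⟨isIrreducible_singleton.closure, fun S hS hle => ?_⟩
    obtain ⟨ζ, hζ⟩ : ∃ ζ, IsGenericPoint ζ (closure S) :=
      QuasiSober.sober hS.closure isClosed_closure
    have hspec : ζ ⤳ g q := hζ.specializes (subset_closure (hle (subset_closure rfl)))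
    have hx : g q ⤳ x := by
      have : g q ∈ Set.range g := ⟨q, rfl⟩
      rwa [Scheme.range_fromSpecStalk] at this
    obtain ⟨r, hr⟩ : ζ ∈ Set.range g := by
      rw [Scheme.range_fromSpecStalk]
      exact hspec.trans hx
    have hrq : r ⤳ q := g.isEmbedding.isInducing.specializes_iff.1 (hr ▸ hspec)
    have hle' : r.asIdeal ≤ P := (PrimeSpectrum.le_iff_specializes r q).2 hrq
    have : r = q := PrimeSpectrum.ext (le_antisymm hle' (hP.2 ⟨r.2, bot_le⟩ hle'))
    have hη : g q = ζ := by rw [← this]; exact hr
    rw [hη, hζ.def]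
    exact subset_closure
  let φ := g.residueFieldMap q
  have hφ : Function.Surjective φ := fun z => by
    obtain ⟨w, rfl⟩ := Scheme.residue_surjective _ q z
    obtain ⟨v, rfl⟩ := g.stalkMap_surjective q w
    refine ⟨X.residue (g q) v, ?_⟩
    rw [← ConcreteCategory.comp_apply, Scheme.residue_residueFieldMap]
    rfl
  let e₁ : (Spec (X.presheaf.stalk x)).residueField q ≃+* P.ResidueField :=
    (Scheme.Spec.residueFieldIso (X.presheaf.stalk x) q).commRingCatIsoToRingEquiv
  let e₂ : P.ResidueField ≃+* FractionRing (O ⧸ P) :=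
    (FractionRing.algEquiv (O ⧸ P) P.ResidueField).symm.toRingEquiv
  let f : X.residueField (g q) →+* FractionRing (O ⧸ P) := (e₂.toRingHom.comp e₁.toRingHom).comp φ.hom
  exact Groth.L28.CdLower.cdLE_of_finite _ _ f
    (RingHom.Finite.of_surjective f ((e₂.surjective.comp e₁.surjective).comp hφ)) (hd (g q) hmax)

end Groth.Agent.S3488
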