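import Groth.Statements.S3492
import Groth.Agent.L28.DimFun.Main
import Groth.Agent.L28.DimFun.Codim

set_option autoImplicit false
universe u
open CategoryTheory CategoryTheory.Limits AlgebraicGeometry Opposite
open EtCd

namespace Groth.Agent.S3492

/-- Let X be a Noetherian scheme, ℓ a prime and n a natural number such that (i) for every point y of
codimension c (dimension of the local ring) one has 2c ≤ n and cd_ℓ(κ(y)) ≤ n - 2c, and (ii) for all
points x, y with y in the closure of x and every strict henselization R of the local ring at y,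
putting A = R / p_x R (a strict localization of the closure of x with its reduced structure),
cd_ℓ(Frac(R/P)) ≤ dim A for every prime P of R minimal over p_x R. Then for every ℓ-primary torsion
abelian sheaf F whose geometric stalks vanish at all points of codimension < s, H^q(X, F) = 0 for q
> n - 2s; in particular (s = 0) cd_ℓ(X) ≤ n. -/
theorem result (X : Scheme.{u}) [IsNoetherian X] (ℓ : ℕ) (hℓ : ℓ.Prime) (n : ℕ)
    (h1 : ∀ (y : X) (c : ℕ), ringKrullDim (X.presheaf.stalk y) = c →
      2 * c ≤ n ∧ Dix.CohDimLEAt (Spec (X.residueField y)) ℓ (n - 2 * c))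
    (h2 : ∀ (x y : X) (hxy : x ⤳ y), ∀ (R : Type u) [CommRing R] [IsLocalRing R] [Algebra (X.presheaf.stalk y) R]
      [IsLocalHom (algebraMap (X.presheaf.stalk y) R)] [Hensel.IsStrictHenselization (X.presheaf.stalk y) R],
      ∀ P ∈ ((RingHom.ker (Cyc.specMap y x hxy)).map (algebraMap (X.presheaf.stalk y) R)).minimalPrimes,
        ∀ e : ℕ, ringKrullDim (R ⧸ (RingHom.ker (Cyc.specMap y x hxy)).map (algebraMap (X.presheaf.stalk y) R)) = e →
          Dix.CohDimLEAt (Spec (CommRingCat.of (FractionRing (R ⧸ P)))) ℓ e)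
    (s : ℕ) (F : EtCoh.Ab X) (hF : Dix.IsPrimaryTorsion ℓ F)
    (hs : ∀ y ∈ EtPBC.supp F, (s : WithBot ℕ∞) ≤ ringKrullDim (X.presheaf.stalk y))
    (q : ℕ) (hq : n < q + 2 * s) :
    Subsingleton (EtCoh.H X F q) := by
  choose c hc hc' using fun x : X => Groth.L28.DimFun.exists_codim x
  refine Groth.L28.DimFun.subsingleton_H_of_dimFun (fun x => n - 2 * c x) hℓ (fun x => (h1 x (c x) (hc x)).2)
    (fun x y hxy hne R _ _ _ _ _ P hP => ?_) F hF q fun x hx => ?_
  · have hle := Groth.L28.DimFun.ringKrullDim_quot_le x y hxy R (c x) (c y) (hc' x) (hc' y)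
    have hlt : c x + 1 ≤ c y := by
      have := Order.coheight_add_one_le (Groth.L28.DimFun.lt_of_specializes hxy hne)
      rw [hc' x, hc' y] at this
      exact_mod_cast this
    haveI : Nontrivial (R ⧸ (RingHom.ker (Cyc.specMap y x hxy)).map (algebraMap (X.presheaf.stalk y) R)) :=
      Ideal.Quotient.nontrivial_iff.2 fun h => hP.1.1.ne_top (top_le_iff.1 (h.ge.trans hP.1.2))
    obtain ⟨e, he, hee⟩ : ∃ e : ℕ, e ≤ c y - c x ∧
        ringKrullDim (R ⧸ (RingHom.ker (Cyc.specMap y x hxy)).map (algebraMap (X.presheaf.stalk y) R)) = e := by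
      obtain ⟨e', he'⟩ := WithBot.ne_bot_iff_exists.1 ((WithBot.bot_lt_coe 0).trans_le (ringKrullDim_nonneg_of_nontrivial
        (R := R ⧸ (RingHom.ker (Cyc.specMap y x hxy)).map (algebraMap (X.presheaf.stalk y) R)))).ne'
      have hle' : e' ≤ ((c y - c x : ℕ) : ℕ∞) := WithBot.coe_le_coe.1 (he'.le.trans hle)
      obtain ⟨m, rfl⟩ := ENat.ne_top_iff_exists.1 (ne_top_of_le_ne_top (ENat.natCast_ne_top _) hle')
      exact ⟨m, Nat.cast_le.1 hle', he'.symm⟩
    have hy := (h1 y (c y) (hc y)).1
    exact ⟨e, by omega, h2 x y hxy R P hP e hee⟩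
  · have h := hs x hx
    rw [hc x] at h
    have h' : s ≤ c x := by exact_mod_cast h
    have := (h1 x (c x) (hc x)).1
    omega

end Groth.Agent.S3492
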