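import Groth.Statements.S3493
import Groth.Agent.S3492
import Groth.Agent.L28.AffLef.FieldCd
import Groth.Agent.L22.SchemeDim
import Groth.Agent.L10.FMK.SuppDim
-- import your own Groth.Agent.* helpers here

set_option autoImplicit false
set_option linter.style.haveILetI false
set_option backward.isDefEq.respectTransparency.types false
universe u
open CategoryTheory CategoryTheory.Limits AlgebraicGeometry Opposite
open EtCd

namespace Groth.Agent.S3493

/-- Let X be a scheme of finite type over a field k, of dimension at most n, and ℓ a prime nonzero in k.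
Then cd_ℓ(X) ≤ 2n + cd_ℓ(k): if the cohomology of ℓ-primary torsion sheaves on Spec k vanishes above
degree e, then that of ℓ-primary torsion abelian sheaves on X vanishes above degree 2n + e. -/
theorem result (k : Type u) [Field k] (X : Scheme.{u}) (f : X ⟶ Spec (CommRingCat.of k))
    [LocallyOfFiniteType f] [QuasiCompact f] (n : ℕ) (hn : topologicalKrullDim X ≤ n)
    (ℓ : ℕ) (hℓ : ℓ.Prime) (hℓk : (ℓ : k) ≠ 0) (e : ℕ) (he : Dix.CohDimLEAt (Spec (CommRingCat.of k)) ℓ e) :
    Dix.CohDimLEAt X ℓ (2 * n + e) := by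
  haveI : IsLocallyNoetherian X := LocallyOfFiniteType.isLocallyNoetherian f
  haveI : CompactSpace ↥X := QuasiCompact.compactSpace_of_compactSpace f
  haveI : AlgebraicGeometry.IsNoetherian X := {}
  refine fun F hF q hq => Groth.Agent.S3492.result X ℓ hℓ (2 * n + e) (fun y c hc => ?_)
    (fun x y hxy R _ _ _ _ _ P hP d hd => ?_) 0 F hF (fun y _ => ?_) q (by omega)
  · letI : X.Over (Spec (CommRingCat.of k)) := ⟨f⟩
    haveI : LocallyOfFiniteType (X ↘ Spec (CommRingCat.of k)) := ‹LocallyOfFiniteType f›
    obtain ⟨t, ht, htr⟩ := Groth.L22.SchemeDim.exists_dim_closure_eq_trdeg k X y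
    have h1 : (topologicalKrullDim (closure ({y} : Set X))) ≤ (Order.height y : WithBot ℕ∞) :=
      Groth.L10.FMK.cdim_le_height y
    have h2 := (Groth.L10.FMK.height_add_coheight_le y).trans (Groth.L10.FMK.krullDim_points.symm.trans_le hn)
    rw [ringKrullDim_stalk_eq_coheight] at hc
    rw [ht] at h1
    have hc' : Order.coheight y = (c : ℕ∞) := WithBot.coe_inj.1 hc
    rw [hc'] at h2
    have h1' : (t : ℕ∞) ≤ Order.height y := WithBot.coe_le_coe.1 h1
    have h3 : (t : ℕ∞) + c ≤ n := (add_le_add h1' le_rfl).trans (WithBot.coe_le_coe.1 h2)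
    have h4 : t + c ≤ n := by exact_mod_cast h3
    refine ⟨by omega, (Groth.L28.FieldTower.cohDimLEAt_iff hℓ).2 fun G hG r hr => ?_⟩
    letI : Algebra k (X.residueField y) := (Curv2.resMap k X y).toAlgebra
    exact Groth.L28.FieldTower.cdLE_of_trdeg hℓ t k (X.residueField y) htr e
      ((Groth.L28.FieldTower.cohDimLEAt_iff hℓ).1 he) G hG r (by omega)
  · haveI := hP.1.1
    refine (Groth.L28.FieldTower.cohDimLEAt_iff hℓ).2
      (Groth.L28.AffLef.cdLE_fractionRing_quot hℓ k X f y R P d (le_trans ?_ hd.le))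
    exact ringKrullDim_le_of_surjective (Ideal.Quotient.factor hP.1.2) (Ideal.Quotient.factor_surjective hP.1.2)
  · haveI : Nontrivial (X.presheaf.stalk y) := inferInstance
    rw [Nat.cast_zero]
    exact ringKrullDim_nonneg_of_nontrivial

end Groth.Agent.S3493
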