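import Groth.Statements.S8552
import Groth.Agent.L28.Devissage.Closed
import Groth.Agent.L27.CompTransfer.Descend

set_option linter.style.haveILetI false
set_option backward.isDefEq.respectTransparency.types false

set_option autoImplicit false
universe u
open CategoryTheory CategoryTheory.Limits AlgebraicGeometry Opposite
open EtCd

namespace Groth.Agent.S8552

open TopologicalSpace Groth.L28.Devissage

/-- Every integral closed subscheme has value below `m`. -/
def Bd {X : Scheme.{u}} (φ : ∀ (Y : Scheme.{u}), (Y ⟶ X) → ℕ) (m : ℕ) (W : Scheme.{u}) (g : W ⟶ X) : Prop :=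
  ∀ (Z : Scheme.{u}) (c : Z ⟶ W) [IsIntegral Z] [IsClosedImmersion c], φ Z (c ≫ g) < m

section

variable {X : Scheme.{u}} [IsNoetherian X] {ℓ : ℕ} (hℓ : ℓ.Prime) (φ : ∀ (Y : Scheme.{u}), (Y ⟶ X) → ℕ)
  (hmono : ∀ (Y₁ Y₂ : Scheme.{u}) (g₁ : Y₁ ⟶ X) (g₂ : Y₂ ⟶ X) [IsIntegral Y₁] [IsIntegral Y₂] [IsFinite g₁] [IsFinite g₂]
      (m : Y₁ ⟶ Y₂), m ≫ g₂ = g₁ → φ Y₁ g₁ ≤ φ Y₂ g₂ ∧ (IsClosedImmersion m → ¬ IsIso m → φ Y₁ g₁ < φ Y₂ g₂))
  (h2 : ∀ (Y : Scheme.{u}) (g : Y ⟶ X) [IsIntegral Y] [IsFinite g] (q : ℕ), φ Y g < q →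
      Subsingleton (EtCoh.H Y (EtCoh.const Y (ZMod ℓ)) q))

theorem isNoetherian_of_finite {W : Scheme.{u}} (g : W ⟶ X) [IsFinite g] : IsNoetherian W :=
  haveI : IsLocallyNoetherian W := LocallyOfFiniteType.isLocallyNoetherian g
  haveI : CompactSpace ↥W := QuasiCompact.compactSpace_of_compactSpace g
  {}

include hmono in
theorem Bd.of_finite {m : ℕ} {W W' : Scheme.{u}} {g : W ⟶ X} [IsFinite g] (hb : Bd φ m W g) (π : W' ⟶ W)
    [IsFinite π] : Bd φ m W' (π ≫ g) := by
  intro Z c _ _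
  obtain ⟨Zi, ci, _, _, hri, hlift⟩ := exists_integral (Set.range (c ≫ π)) (c ≫ π).isClosedMap.isClosed_range
    (by rw [← Set.image_univ]; exact (IrreducibleSpace.isIrreducible_univ _).image _ (c ≫ π).continuous.continuousOn)
  obtain ⟨l, hl⟩ := hlift Z (c ≫ π) subset_rfl
  refine lt_of_le_of_lt (hmono Z Zi (c ≫ π ≫ g) (ci ≫ g) l ?_).1 (hb Zi ci)
  rw [← Category.assoc, hl, Category.assoc]

include hmono in
theorem Bd.boundary {m : ℕ} {W D : Scheme.{u}} {g : W ⟶ X} [IsFinite g] (hb : Bd φ (m + 1) W g)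
    (i : D ⟶ W) [IsClosedImmersion i] (hd : Dense (Set.range i)ᶜ) : Bd φ m D (i ≫ g) := by
  haveI := isNoetherian_of_finite g
  intro Z c _ _
  let f := c ≫ i
  let z : ↥W := f (genericPoint ↥Z)
  let C : Set ↥W := irreducibleComponent z
  have hC : C ∈ irreducibleComponents ↥W := irreducibleComponent_mem_irreducibleComponents z
  obtain ⟨O, hO, hOne, hOC⟩ := NoetherianSpace.exists_isOpen_nonempty_subset_irreducibleComponent C hC
  obtain ⟨w, hwO, hw⟩ := hd.inter_open_nonempty O hO hOne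
  have hrange : Set.range f ⊆ C := by
    rintro _ ⟨t, rfl⟩
    exact (((genericPoint_spec ↥Z).specializes trivial).map f.continuous).mem_closed isClosed_irreducibleComponent
      mem_irreducibleComponent
  obtain ⟨ZC, cC, _, _, hrC, hlift⟩ := exists_integral C isClosed_irreducibleComponent hC.1
  obtain ⟨l, hl⟩ := hlift Z f hrange
  haveI : IsClosedImmersion l := by
    haveI : IsClosedImmersion (l ≫ cC) := by rw [hl]; infer_instance
    exact IsClosedImmersion.of_comp l cC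
  have hnot : ¬ IsIso l := fun hiso => by
    obtain ⟨t, ht⟩ := (hrC.symm ▸ hOC hwO : w ∈ Set.range cC)
    obtain ⟨s, rfl⟩ := (l.surjective : Function.Surjective l) t
    refine hw ⟨c s, ?_⟩
    rw [← ht, ← Scheme.Hom.comp_apply l cC, hl]
    exact (Scheme.Hom.comp_apply c i s).symm
  refine Nat.lt_of_lt_of_le ((hmono Z ZC (c ≫ i ≫ g) (cC ≫ g) l ?_).2 inferInstance hnot) (Nat.le_of_lt_succ (hb ZC cC))
  rw [← Category.assoc, hl, Category.assoc]

theorem isEmpty_of_bd_zero {W : Scheme.{u}} {g : W ⟶ X} (hb : Bd φ 0 W g) : IsEmpty ↥W := by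
  refine ⟨fun w => ?_⟩
  obtain ⟨Z, c, _, _, -, -⟩ := exists_integral (irreducibleComponent w) isClosed_irreducibleComponent
    isIrreducible_irreducibleComponent
  exact Nat.not_lt_zero _ (hb Z c)

include hℓ hmono h2 in
theorem main : ∀ (m : ℕ) (W : Scheme.{u}) (g : W ⟶ X) [IsFinite g], Bd φ m W g → ∀ q, m ≤ q →
    ∀ F : EtCoh.Ab W, EtAcyc.IsLTorsion {ℓ} F → Subsingleton (EtCoh.H W F q) := by
  haveI : Fact ℓ.Prime := ⟨hℓ⟩
  haveI : NeZero ℓ := ⟨hℓ.ne_zero⟩
  have hconst : ∀ W : Scheme.{u}, EtAcyc.IsLTorsion {ℓ} (EtCoh.const W (ZMod ℓ)) := fun W U s x => by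
    refine ⟨U, 𝟙 U, ℓ, ⟨x, rfl⟩, ⟨hℓ.pos, fun p hp hd => (Nat.prime_dvd_prime_iff_eq hp hℓ).1 hd⟩, ?_⟩
    rw [← map_nsmul, show ℓ • s = 0 from by
      simpa using Groth.L27.ProperH1.killedBy_const (Y := W) (ZMod ℓ) U s, map_zero]
  intro m
  induction m with
  | zero =>
    intro W g _ hb q _ F _
    haveI := isEmpty_of_bd_zero φ hb
    exact of_isZero ((Groth.L27.EtSite.isZero_iff_stalks _).2 fun Ω _ _ v => isEmptyElim (v default)) q
  | succ m ih =>
    intro W g _ hb q hq F hF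
    haveI := isNoetherian_of_finite g
    obtain ⟨q, rfl⟩ : ∃ r, q = r + 1 := ⟨q - 1, by omega⟩
    -- extensions by zero from dense opens, given the constant case
    have hB : ∀ (R : Scheme.{u}) (gR : R ⟶ X) [IsFinite gR], Bd φ (m + 1) R gR →
        Subsingleton (EtCoh.H R (EtCoh.const R (ZMod ℓ)) (q + 1)) →
        ∀ (S : Scheme.{u}) (v : S ⟶ R) [IsOpenImmersion v] [EtShriek.JCont v], Dense (Set.range v) →
          Subsingleton (EtCoh.H R ((EtShriek.extZero v).obj (EtCoh.const S (ZMod ℓ))) (q + 1)) := by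
      intro R gR _ hbR hA S v _ _ hd
      obtain ⟨D, i, _, -, hri, -⟩ := exists_reduced (Set.range v)ᶜ v.isOpenEmbedding.isOpen_range.isClosed_compl
      refine extZero_of_const v i (by rw [hri, compl_compl]) (ZMod ℓ) q hA
        (ih D (i ≫ gR) (Bd.boundary φ hmono hbR i (by rwa [hri, compl_compl])) q (by omega) _ (hconst D))
    have hopen : ∀ (R₀ : Scheme.{u}) [IsNoetherian R₀] (S : Scheme.{u}) (v : S ⟶ R₀) [IsOpenImmersion v],
        IsOpenImmersion v.toImage ∧ Set.range v.imageι = closure (Set.range v) ∧ Dense (Set.range v.toImage) := by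
      intro R₀ _ S v _
      refine ⟨inferInstance, ?_, v.toImage.denseRange⟩
      rw [Scheme.IdealSheafData.range_subschemeι, Scheme.Hom.support_ker]
    -- constant sheaves, by induction on the closed subset
    have hA : ∀ (W : Scheme.{u}) (g : W ⟶ X) [IsFinite g], Bd φ (m + 1) W g → ∀ (C : Closeds ↥W) (W₁ : Scheme.{u})
        (c : W₁ ⟶ W) [IsClosedImmersion c], Set.range c ⊆ C →
        Subsingleton (EtCoh.H W₁ (EtCoh.const W₁ (ZMod ℓ)) (q + 1)) := by
      clear hb hF F this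
      intro W g _ hb C
      haveI := isNoetherian_of_finite g
      induction C using WellFoundedLT.induction with
      | _ C IH =>
      intro W₁ c _ hcC
      obtain ⟨R₀, r₀, _, hred, hr₀, -⟩ := exists_reduced (Set.univ : Set ↥W₁) isClosed_univ
      refine of_surjective_closed r₀ (Set.range_eq_univ.1 hr₀) _ _ (of_iso (EtCore.pullConst r₀ (ZMod ℓ)) _ ?_)
      haveI := hred
      let c₀ := r₀ ≫ c
      have hc₀ : Set.range c₀ ⊆ C := by
        rintro _ ⟨t, rfl⟩
        exact hcC ⟨r₀ t, (Scheme.Hom.comp_apply _ _ _).symm⟩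
      haveI := isNoetherian_of_finite (c₀ ≫ g)
      rcases isEmpty_or_nonempty R₀ with he | he
      · exact of_isZero ((Groth.L27.EtSite.isZero_iff_stalks _).2 fun Ω _ _ v => isEmptyElim (v default)) _
      let z₀ : ↥R₀ := Classical.arbitrary _
      let Z₀ : Set ↥R₀ := irreducibleComponent z₀
      obtain ⟨Z, cZ, _, _, hrZ, -⟩ := exists_integral Z₀ isClosed_irreducibleComponent isIrreducible_irreducibleComponent
      have hZv : Subsingleton (EtCoh.H Z (EtCoh.const Z (ZMod ℓ)) (q + 1)) :=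
        h2 Z (cZ ≫ c₀ ≫ g) (q + 1) (lt_of_lt_of_le ((hb.of_finite φ hmono c₀) Z cZ) hq)
      by_cases hfull : Z₀ = Set.univ
      · exact of_surjective_closed cZ (Set.range_eq_univ.1 (hrZ.trans hfull)) _ _
          (of_iso (EtCore.pullConst cZ (ZMod ℓ)) _ hZv)
      let O : R₀.Opens := ⟨Z₀ᶜ, isClosed_irreducibleComponent.isOpen_compl⟩
      haveI := Groth.L27.ExtZero.jCont O.ι
      obtain ⟨hoi, hrR, hdense⟩ := hopen R₀ O.toScheme O.ι
      haveI := hoi
      haveI := Groth.L27.ExtZero.jCont O.ι.toImage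
      let cR := O.ι.imageι
      haveI := isNoetherian_of_finite ((cR ≫ c₀) ≫ g)
      refine const_of_open O.ι cZ (by rw [Scheme.Opens.range_ι, hrZ]; rfl) (ZMod ℓ) _ ?_ hZv
      obtain ⟨e⟩ := nonempty_extZero_comp cR O.ι.toImage O.ι (Scheme.Hom.toImage_imageι _)
        (EtCoh.const O.toScheme (ZMod ℓ)) (Groth.L27.PBC.isTorsion_const _ (ZMod ℓ))
      refine of_iso e _ (of_push cR _ _ (hB O.ι.image ((cR ≫ c₀) ≫ g) (hb.of_finite φ hmono (cR ≫ c₀)) ?_
        O.toScheme O.ι.toImage hdense))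
      refine IH ⟨Set.range (cR ≫ c₀), (cR ≫ c₀).isClosedEmbedding.isClosed_range⟩ (lt_of_le_not_ge ?_ ?_) O.ι.image
        (cR ≫ c₀) subset_rfl
      · rintro _ ⟨t, rfl⟩
        exact hc₀ ⟨cR t, (Scheme.Hom.comp_apply _ _ _).symm⟩
      · intro hle
        obtain ⟨O', hO', ⟨w, hw⟩, hO'Z⟩ := NoetherianSpace.exists_isOpen_nonempty_subset_irreducibleComponent Z₀
          (irreducibleComponent_mem_irreducibleComponents z₀)
        obtain ⟨t, ht⟩ := hle (hc₀ ⟨w, rfl⟩)
        have hw' : cR t = w := c₀.isClosedEmbedding.injective ((Scheme.Hom.comp_apply _ _ _).symm.trans ht)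
        obtain ⟨u, huO, hu⟩ := mem_closure_iff.1 (hrR.le ⟨t, hw'⟩) O' hO' hw
        rw [Scheme.Opens.range_ι] at hu
        exact hu (hO'Z huO)
    -- extensions by zero from arbitrary opens
    refine torsion hℓ (q + 1) (fun Y' π _ S v _ _ => ?_) F hF
    haveI := isNoetherian_of_finite (π ≫ g)
    obtain ⟨hoi, -, hdense⟩ := hopen Y' S v
    haveI := hoi
    haveI := Groth.L27.ExtZero.jCont v.toImage
    haveI := isNoetherian_of_finite ((v.imageι ≫ π) ≫ g)
    have hbR : Bd φ (m + 1) v.image ((v.imageι ≫ π) ≫ g) := hb.of_finite φ hmono (v.imageι ≫ π)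
    obtain ⟨e⟩ := nonempty_extZero_comp v.imageι v.toImage v (Scheme.Hom.toImage_imageι _)
      (EtCoh.const S (ZMod ℓ)) (Groth.L27.PBC.isTorsion_const _ (ZMod ℓ))
    exact of_iso e _ (of_push v.imageι _ _ (hB v.image ((v.imageι ≫ π) ≫ g) hbR
      (hA v.image ((v.imageι ≫ π) ≫ g) hbR ⊤ v.image (𝟙 _) (Set.subset_univ _)) S v.toImage hdense))

end

end Groth.Agent.S8552

namespace Groth.Agent.S8552

/-- (ii) ⇒ (i): let X be a Noetherian scheme, ℓ a prime, and φ an ℕ-valued function on schemes over X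
which, on integral schemes finite over X, is monotone for X-morphisms and strictly monotone for
closed immersions that are not isomorphisms (for a general Y finite over X one puts φ(Y) = the sup
of φ over its irreducible components with reduced structure). If H^q(Y, Z/ℓ) = 0 for every integral
Y finite over X and every q > φ(Y), then for every Y finite over X, every abelian ℓ-torsion sheaf F
on Y and every q with q > φ(Z) for all integral closed subschemes Z of Y inside the closure of the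
support of F, one has H^q(Y, F) = 0. (The converse implication is the special case F = Z/ℓ.) -/
theorem result (X : Scheme.{u}) [IsNoetherian X] (ℓ : ℕ) (hℓ : ℓ.Prime)
    (φ : ∀ (Y : Scheme.{u}), (Y ⟶ X) → ℕ)
    (hmono : ∀ (Y₁ Y₂ : Scheme.{u}) (g₁ : Y₁ ⟶ X) (g₂ : Y₂ ⟶ X) [IsIntegral Y₁] [IsIntegral Y₂] [IsFinite g₁] [IsFinite g₂]
      (m : Y₁ ⟶ Y₂), m ≫ g₂ = g₁ → φ Y₁ g₁ ≤ φ Y₂ g₂ ∧ (IsClosedImmersion m → ¬ IsIso m → φ Y₁ g₁ < φ Y₂ g₂))
    (h2 : ∀ (Y : Scheme.{u}) (g : Y ⟶ X) [IsIntegral Y] [IsFinite g] (q : ℕ), φ Y g < q →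
      Subsingleton (EtCoh.H Y (EtCoh.const Y (ZMod ℓ)) q))
    (Y : Scheme.{u}) (g : Y ⟶ X) [IsFinite g] (F : EtCoh.Ab Y) (hF : EtAcyc.IsLTorsion {ℓ} F) (q : ℕ)
    (hq : ∀ (Z : Scheme.{u}) (c : Z ⟶ Y) [IsIntegral Z] [IsClosedImmersion c],
      Set.range c.base ⊆ closure (EtPBC.supp F) → φ Z (c ≫ g) < q) :
    Subsingleton (EtCoh.H Y F q) := by
  obtain ⟨Z, i, _, -, hri, -⟩ := Groth.L28.Devissage.exists_reduced (closure (EtPBC.supp F)) isClosed_closure
  haveI : IsIso ((EtCoh.pullPushAdj i).unit.app F) :=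
    (Groth.L27.EtSite.isIso_unit_iff i (Groth.L27.EtSite.propA_of_isIntegralHom i) F).2
      (by rw [hri]; exact subset_closure)
  refine Groth.L28.Devissage.of_iso (asIso ((EtCoh.pullPushAdj i).unit.app F)) q
    (Groth.L28.Devissage.of_push i _ q (main hℓ φ hmono h2 q Z (i ≫ g) ?_ q le_rfl _
      (Groth.L27.CompTransfer.isLTorsion_pull _ i hF)))
  intro Z' c _ _
  rw [← Category.assoc]
  refine hq Z' (c ≫ i) ?_
  rw [← hri]
  rintro _ ⟨t, rfl⟩
  exact ⟨c t, (Scheme.Hom.comp_apply _ _ _).symm⟩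

end Groth.Agent.S8552
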