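import Groth.Statements.S3495
import Groth.Agent.S8552
import Groth.Agent.S1753
import Groth.Agent.L28.Double.CharP
import Groth.Agent.L28.EtCartan.Frobenius
import Groth.Agent.L22.GV.Sober
import Groth.Agent.L16.ProjSpace.Basic
import Groth.Agent.L03.Euler.Dim
-- import your own Groth.Agent.* helpers here

set_option autoImplicit false
universe u
open CategoryTheory CategoryTheory.Limits AlgebraicGeometry Opposite
open EtCd

namespace Groth.Agent.S3495

open TopologicalSpace AlgebraicGeometry CategoryTheory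

theorem dim_le_of_isFinite {X Y : Scheme.{u}} (f : X ⟶ Y) [IsFinite f] :
    topologicalKrullDim X ≤ topologicalKrullDim Y := by
  refine Order.krullDim_le_of_strictMono
    (fun C => ⟨f '' (C : Set X), C.2.image f f.continuous.continuousOn, f.isClosedMap _ C.3⟩) fun C C' h => ?_
  have hsub : f '' (C : Set X) ⊆ f '' (C' : Set X) := Set.image_mono h.le
  refine lt_of_le_of_ne hsub fun e => h.not_ge ?_
  replace e : f '' (C : Set X) = f '' (C' : Set X) := congrArg (fun D : IrreducibleCloseds Y => (D : Set Y)) e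
  obtain ⟨η, hη⟩ := QuasiSober.sober C'.2 C'.3
  obtain ⟨c, hc, hfc⟩ : f η ∈ f '' (C : Set X) := e ▸ Set.mem_image_of_mem f hη.mem
  have hsp : η ⤳ c := hη.specializes (h.le hc)
  have hfin : DiscreteTopology (f ⁻¹' {f η}) := isDiscrete_iff_discreteTopology.1 (f.isDiscrete_preimage_singleton (f η))
  have hsp' : (⟨η, rfl⟩ : f ⁻¹' {f η}) ⤳ ⟨c, hfc⟩ := (Topology.IsInducing.subtypeVal).specializes_iff.1 hsp
  have he : η = c := congrArg Subtype.val hsp'.eq
  intro z hz
  exact ((hη.specializes hz).mem_closed C.3 (he ▸ hc))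

/-- The dimension, as a natural number. -/
noncomputable def dimN (T : Scheme.{u}) : ℕ := sInf {d : ℕ | topologicalKrullDim T ≤ (d : WithBot ℕ∞)}

theorem dimN_le {T : Scheme.{u}} {d : ℕ} (h : topologicalKrullDim T ≤ (d : WithBot ℕ∞)) : dimN T ≤ d :=
  Nat.sInf_le h

theorem dim_le_dimN {T : Scheme.{u}} {d : ℕ} (h : topologicalKrullDim T ≤ (d : WithBot ℕ∞)) :
    topologicalKrullDim T ≤ (dimN T : WithBot ℕ∞) :=
  Nat.sInf_mem (s := {d : ℕ | topologicalKrullDim T ≤ (d : WithBot ℕ∞)}) ⟨d, h⟩

/-- Let k be a separably closed field of characteristic p > 0 and X a quasi-projective scheme over k (X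
admits a k-immersion into a projective space over k) of dimension at most n. Then cd_p(X) ≤ n: the
etale cohomology of every p-primary torsion abelian sheaf on X vanishes above degree n. -/
theorem result (k : Type u) [Field k] [IsSepClosed k] (p : ℕ) [Fact p.Prime] [CharP k p]
    (X : Scheme.{u}) (f : X ⟶ Spec (CommRingCat.of k)) [LocallyOfFiniteType f]
    (hqp : ∃ (N : ℕ) (i : X ⟶ CohB1.ProjSpaceOver N (Spec (CommRingCat.of k))),
      IsImmersion i ∧ i ≫ CohB1.ProjSpaceOver.toBase N (Spec (CommRingCat.of k)) = f)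
    (n : ℕ) (hn : topologicalKrullDim X ≤ n) :
    Dix.CohDimLEAt X p n := by
  obtain ⟨N, i, hi, hif⟩ := hqp
  haveI : IsSeparated f := by rw [← hif]; infer_instance
  haveI : IsLocallyNoetherian (CohB1.ProjSpaceOver N (Spec (CommRingCat.of k))) :=
    LocallyOfFiniteType.isLocallyNoetherian (CohB1.ProjSpaceOver.toBase N (Spec (CommRingCat.of k)))
  haveI : CompactSpace ↥(CohB1.ProjSpaceOver N (Spec (CommRingCat.of k))) :=
    QuasiCompact.compactSpace_of_compactSpace (CohB1.ProjSpaceOver.toBase N (Spec (CommRingCat.of k)))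
  haveI : AlgebraicGeometry.IsNoetherian (CohB1.ProjSpaceOver N (Spec (CommRingCat.of k))) := {}
  haveI : TopologicalSpace.NoetherianSpace ↥X := i.isEmbedding.isInducing.noetherianSpace
  haveI : QuasiCompact f := (quasiCompact_iff_compactSpace f).2 inferInstance
  haveI : IsLocallyNoetherian X := LocallyOfFiniteType.isLocallyNoetherian f
  haveI : CompactSpace ↥X := QuasiCompact.compactSpace_of_compactSpace f
  haveI : AlgebraicGeometry.IsNoetherian X := {}
  have hp := (Fact.out : p.Prime)
  intro F hF q hq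
  refine Groth.Agent.S8552.result X p hp (fun Y _ => dimN Y) ?_ ?_ X (𝟙 X) F
    (Groth.L28.Double.isLTorsion_of_isPrimaryTorsion hp hF) q ?_
  · intro Y₁ Y₂ g₁ g₂ _ _ _ _ m hm
    haveI : IsFinite m := by
      haveI : IsFinite (m ≫ g₂) := by rw [hm]; infer_instance
      exact IsFinite.of_comp m g₂
    have hb := dim_le_dimN ((dim_le_of_isFinite g₂).trans hn)
    refine ⟨dimN_le ((dim_le_of_isFinite m).trans hb), fun _ hne => ?_⟩
    have h1 := Groth.L03.Euler.topologicalKrullDim_add_one_le m.isClosedEmbedding.isClosed_range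
      (IrreducibleSpace.isIrreducible_univ Y₂) (Set.subset_univ _) fun e => hne <| by
        haveI : Surjective m := ⟨Set.range_eq_univ.1 e⟩
        exact isIso_of_isClosedImmersion_of_surjective m
    rw [Groth.L22.SchemeDim.topologicalKrullDim_eq_of_isEmbedding m.isEmbedding rfl,
      Groth.L22.SchemeDim.topologicalKrullDim_eq_of_isEmbedding Topology.IsEmbedding.id Set.range_id] at h1
    replace h1 := h1.trans hb
    obtain ⟨a, ha⟩ : ∃ a : ℕ, topologicalKrullDim Y₁ = (a : WithBot ℕ∞) := by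
      letI : Y₁.Over (Spec (CommRingCat.of k)) := ⟨g₁ ≫ f⟩
      haveI : LocallyOfFiniteType (Y₁ ↘ Spec (CommRingCat.of k)) := inferInstanceAs (LocallyOfFiniteType (g₁ ≫ f))
      obtain ⟨a, ha, -⟩ := Groth.L22.SchemeDim.exists_dim_closure_eq_trdeg k Y₁ (genericPoint Y₁)
      rw [genericPoint_spec Y₁] at ha
      exact ⟨a, (Groth.L22.SchemeDim.topologicalKrullDim_eq_of_isEmbedding Topology.IsEmbedding.id Set.range_id).symm.trans ha⟩
    rw [ha] at h1
    have h2 : a + 1 ≤ dimN Y₂ := by
      change (((a + 1 : ℕ) : ℕ∞) : WithBot ℕ∞) ≤ (((dimN Y₂ : ℕ) : ℕ∞) : WithBot ℕ∞) at h1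
      exact_mod_cast h1
    exact lt_of_le_of_lt (dimN_le ha.le) h2
  · intro Z g _ _ q hq
    have hb := dim_le_dimN ((dim_le_of_isFinite g).trans hn)
    let h : Z ⟶ Spec (CommRingCat.of k) := g ≫ f
    have h0 : (p : Γ(Z, ⊤)) = 0 := by
      have h' : (p : Γ(Spec (CommRingCat.of k), ⊤)) = 0 := by
        rw [← map_natCast (Scheme.ΓSpecIso (CommRingCat.of k)).inv.hom, show ((p : ℕ) : k) = 0 from CharP.cast_eq_zero k p,
          map_zero]
      rw [← map_natCast h.appTop.hom, h', map_zero]
    haveI : IsLocallyNoetherian Z := LocallyOfFiniteType.isLocallyNoetherian h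
    haveI : CompactSpace ↥Z := QuasiCompact.compactSpace_of_compactSpace h
    haveI : AlgebraicGeometry.IsNoetherian Z := {}
    haveI : TopologicalSpace.NoetherianSpace ↥Z.toPresheafedSpace.carrier :=
      inferInstanceAs (TopologicalSpace.NoetherianSpace ↥Z)
    have hqc : ∀ M : Z.Modules, Coh.IsQCoh M → ∀ r : ℕ, dimN Z < r → Subsingleton (Coh.HH Z M r) := fun M _ r hr =>
      Groth.L22.GV.subsingleton_H' (X := Z.toPresheafedSpace.carrier) hb (Coh.toAb M) r hr
    rcases Nat.lt_or_ge (dimN Z + 1) q with hq' | hq'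
    · exact Groth.L28.Double.subsingleton_H_const_charP p (𝟙 Z) h0 (dimN Z) hqc q hq'
    obtain rfl : q = dimN Z + 1 := le_antisymm hq' hq
    have hO : Coh.IsCoh (Coh.structureModule Z) := Groth.L16.CohClosedPush.isCoh_structure
    obtain ⟨e₁⟩ := Groth.L28.EtCartan.nonempty_H_Ga Z (dimN Z + 1)
    haveI : Subsingleton (EtCoh.H Z (EtCoh.Ga Z) (dimN Z + 1)) :=
      haveI := hqc _ hO.1 _ (Nat.lt_succ_self _)
      e₁.injective.subsingleton
    have hsurj : Function.Surjective
        ((EtCoh.HF Z (dimN Z)).map (W4c5etcohweilstudent.artinSchreierEndo Z p hp h0)) := by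
      by_cases hprop : IsProper h
      · letI : Z.Over (Spec (CommRingCat.of k)) := ⟨h⟩
        haveI : IsProper (Z ↘ Spec (CommRingCat.of k)) := hprop
        exact Groth.L28.EtCartan.surjective_HF_as (k := k) p hp h0 _
      · obtain ⟨e⟩ := Groth.L28.EtCartan.nonempty_H_Ga Z (dimN Z)
        haveI : Subsingleton (Coh.HH Z (Coh.structureModule Z) (dimN Z)) := by
          refine not_nontrivial_iff_subsingleton.1 fun hnt => hprop ?_
          obtain ⟨h1, h2⟩ := Groth.Agent.S1753.result k Z h _ hO (dimN Z) hnt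
          exact h2 (le_antisymm hb h1)
        exact fun y => ⟨0, e.injective.subsingleton.elim _ _⟩
    have hT := Groth.L28.EtCartan.shortExact_asSeq (X := Z) p h0
    refine subsingleton_of_forall_eq 0 fun x => ?_
    obtain ⟨y, rfl⟩ := Abelian.Ext.covariant_sequence_exact₁ _ hT x
      (‹Subsingleton (EtCoh.H Z (EtCoh.Ga Z) (dimN Z + 1))›.elim _ _) rfl
    obtain ⟨z, rfl⟩ := hsurj y
    exact (Abelian.Ext.comp_assoc_of_second_deg_zero _ _ _ _).trans
      ((congrArg (fun e => Abelian.Ext.comp z e rfl) hT.comp_extClass).trans (Abelian.Ext.comp_zero _ _ _ _ _))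
  · intro Z c _ _ _
    exact lt_of_le_of_lt (dimN_le ((dim_le_of_isFinite c).trans hn)) hq

end Groth.Agent.S3495
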