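import Groth.Statements.S3498
import Groth.Agent.L28.AffLef.Strict
import Groth.Agent.L22.FibreDim
-- import your own Groth.Agent.* helpers here

set_option autoImplicit false
universe u
open CategoryTheory CategoryTheory.Limits AlgebraicGeometry Opposite
open EtCd

namespace Groth.Agent.S3498

/-- Let Y be a scheme locally of finite type over a field k, y a point of Y, R a strict henselization of
the local ring of Y at y with dim R ≤ d, and U an affine open subscheme of Spec R. Then cd(U) ≤ d:
the etale cohomology of every torsion abelian sheaf on U vanishes above degree d. -/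
theorem result (k : Type u) [Field k] (Y : Scheme.{u})
    (g : Y ⟶ Spec (CommRingCat.of k)) [LocallyOfFiniteType g] (y : Y)
    (R : Type u) [CommRing R] [IsLocalRing R] [Algebra (Y.presheaf.stalk y) R]
    [IsLocalHom (algebraMap (Y.presheaf.stalk y) R)] [Hensel.IsStrictHenselization (Y.presheaf.stalk y) R]
    (d : ℕ) (hd : ringKrullDim R ≤ d) (U : (Spec (CommRingCat.of R)).Opens) (hU : IsAffineOpen U) :
    EtCoh.CohDimLE (U : Scheme.{u}) d := by
  intro F hF q hq
  haveI : IsLocallyNoetherian Y := LocallyOfFiniteType.isLocallyNoetherian g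
  haveI : IsNoetherianRing R :=
    (Groth.L05.Henselization.isNoetherianRing_iff_strict (Y.presheaf.stalk y) R).1 inferInstance
  haveI : IsAffine (U : Scheme.{u}) := hU
  haveI : IsAffineHom U.ι := inferInstance
  refine Groth.L28.AffLef.subsingleton_H_strictLocal k Y g y R U U.ι F hF d (fun x _ => ?_) q hq
  let p := (U.ι.base x : PrimeSpectrum R).asIdeal
  have hle : ringKrullDim (R ⧸ p) ≤ d :=
    (ringKrullDim_le_of_surjective (Ideal.Quotient.mk p) Ideal.Quotient.mk_surjective).trans hd
  have h0 : (0 : WithBot ℕ∞) ≤ ringKrullDim (R ⧸ p) := ringKrullDim_nonneg_of_nontrivial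
  obtain ⟨a, ha⟩ : ∃ a : ℕ, ringKrullDim (R ⧸ p) = a := by
    obtain ⟨n, hn⟩ := WithBot.ne_bot_iff_exists.1 (ne_bot_of_le_ne_bot WithBot.zero_ne_bot h0)
    rw [← hn] at hle ⊢
    obtain ⟨a, ha⟩ := ENat.ne_top_iff_exists.1
      (ne_top_of_le_ne_top (ENat.natCast_ne_top d) (WithBot.coe_le_coe.1 hle))
    exact ⟨a, by rw [← ha]; rfl⟩
  refine ⟨a, 0, ha, ?_, ?_⟩
  · letI := (U.ι.residueFieldMap x).hom.toAlgebra
    haveI : Algebra.IsAlgebraic ((Spec (CommRingCat.of R)).residueField (U.ι.base x))
        ((U : Scheme.{u}).residueField x) :=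
      ⟨fun z => by
        obtain ⟨w, rfl⟩ := (Groth.L22.FibreDim.residueFieldMap_bijective U.ι x).2 z
        exact isAlgebraic_algebraMap w⟩
    rw [Nat.cast_zero]
    exact trdeg_eq_zero
  · rw [ha] at hle
    exact_mod_cast hle

end Groth.Agent.S3498
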