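import Groth.Statements.S3502
import Groth.Agent.L28.CurveCd.PrimaryVanish

set_option autoImplicit false
set_option linter.style.haveILetI false
set_option backward.isDefEq.respectTransparency.types false
universe u
open CategoryTheory CategoryTheory.Limits AlgebraicGeometry Opposite
open EtCd

namespace Groth.Agent.S3502

theorem subsingleton_of_killed {X : Scheme.{u}} [AlgebraicGeometry.IsNoetherian X] (hdim : topologicalKrullDim X ≤ 1)
    (hcl : ∀ x : X, IsClosed ({x} : Set X) → IsSepClosed (X.residueField x)) (q : ℕ) (n : ℕ) (hn : 0 < n)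
    (hcd : ∀ x : X, closure {x} ∈ irreducibleComponents (X : Type u) →
      ∀ ℓ : ℕ, ℓ.Prime → ℓ ∣ n → Dix.CohDimLEAt (Spec (X.residueField x)) ℓ 1)
    (F : EtCoh.Ab X) (hF : n • 𝟙 F = 0) : Subsingleton (EtCoh.H X F (q + 3)) := by
  induction n using Nat.strong_induction_on generalizing F with
  | _ n ih =>
    by_cases h1 : n = 1
    · subst h1
      rw [one_smul] at hF
      exact AddCommGrpCat.subsingleton_of_isZero
        ((EtCoh.HF X (q + 3)).map_isZero (X := F) ((IsZero.iff_id_eq_zero F).2 hF))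
    obtain ⟨ℓ, hℓ, m, rfl⟩ := Nat.exists_prime_and_dvd h1
    have hm : 0 < m := Nat.pos_of_mul_pos_left hn
    let f : F ⟶ F := ℓ • 𝟙 F
    let S : ShortComplex (EtCoh.Ab X) := ShortComplex.mk (kernel.ι f) (Abelian.factorThruImage f)
      (by rw [← cancel_mono (Abelian.image.ι f), Category.assoc, Abelian.image.fac, kernel.condition, zero_comp])
    haveI : Mono S.f := inferInstanceAs (Mono (kernel.ι f))
    haveI : Epi S.g := inferInstanceAs (Epi (Abelian.factorThruImage f))
    have hS : S.ShortExact :=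
      { exact := ShortComplex.exact_of_f_is_kernel _ (KernelFork.IsLimit.ofι' _ S.zero fun {A} a ha =>
          ⟨kernel.lift f a (by rw [← Abelian.image.fac f, ← Category.assoc, ha, zero_comp]), kernel.lift_ι _ _ _⟩) }
    have hK : (ℓ ^ 1) • 𝟙 S.X₁ = 0 := by
      rw [pow_one, ← cancel_mono S.f, Preadditive.nsmul_comp, Category.id_comp, zero_comp]
      show ℓ • kernel.ι f = 0
      rw [← Category.comp_id (kernel.ι f), ← Preadditive.comp_nsmul]
      exact kernel.condition f
    have hI : m • 𝟙 S.X₃ = 0 := by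
      rw [← cancel_epi (Abelian.factorThruImage f)]
      rw [← cancel_mono (Abelian.image.ι f)]
      show (Abelian.factorThruImage f ≫ (m • 𝟙 _)) ≫ Abelian.image.ι f = (Abelian.factorThruImage f ≫ 0) ≫ _
      rw [Preadditive.comp_nsmul, Category.comp_id, Preadditive.nsmul_comp, Abelian.image.fac, comp_zero, zero_comp]
      show m • ℓ • 𝟙 F = 0
      rw [← mul_smul, mul_comm]
      exact hF
    haveI := Groth.L28.CurveCd.subsingleton_H_killed ℓ 1 hdim (fun x hx => hcd x hx ℓ hℓ (dvd_mul_right ℓ m)) hcl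
      S.X₁ hK q
    haveI := ih m (lt_mul_of_one_lt_left hm hℓ.one_lt) hm
      (fun x hx p hp hpm => hcd x hx p hp (hpm.trans (dvd_mul_left m ℓ))) S.X₃ hI
    refine subsingleton_of_forall_eq 0 fun z => ?_
    obtain ⟨a, ha⟩ := Abelian.Ext.covariant_sequence_exact₂ _ hS z
      (@Subsingleton.elim (EtCoh.H X S.X₃ (q + 3)) _ _ _)
    rw [← ha, @Subsingleton.elim (EtCoh.H X S.X₁ (q + 3)) _ a 0]
    simp

/-- Let X be a Noetherian scheme of dimension at most 1 and n ≥ 1 an integer invertible on X; assume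
that cd_ℓ(κ(x)) ≤ 1 for every maximal point x of X and every prime ℓ dividing n (so that the ring of
rational functions of X has ℓ-cohomological dimension ≤ 1), and that the residue field of every
closed point of X is separably closed. Then H^q(X, μ_n) = 0 for every q > 2. -/
theorem result (X : Scheme.{u}) [IsNoetherian X] (hdim : topologicalKrullDim X ≤ 1)
    (n : ℕ) (hn : 0 < n) (hinv : Dix.InvertibleOn X n)
    (hcd : ∀ x : X, closure {x} ∈ irreducibleComponents (X : Type u) →
      ∀ ℓ : ℕ, ℓ.Prime → ℓ ∣ n → Dix.CohDimLEAt (Spec (X.residueField x)) ℓ 1)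
    (hcl : ∀ x : X, IsClosed ({x} : Set X) → IsSepClosed (X.residueField x)) (q : ℕ) (hq : 2 < q) :
    Subsingleton (EtCoh.H X (EtCoh.mu X n) q) := by
  obtain ⟨r, rfl⟩ : ∃ r, q = r + 3 := ⟨q - 3, by omega⟩
  refine subsingleton_of_killed hdim hcl r n hn hcd (EtCoh.mu X n) ?_
  haveI : Mono (EtCoh.muι X n) := inferInstanceAs (Mono (kernel.ι _))
  rw [← cancel_mono (EtCoh.muι X n), Preadditive.nsmul_comp, Category.id_comp, zero_comp]
  show n • kernel.ι (EtCoh.powMap X n) = 0
  rw [← Category.comp_id (kernel.ι (EtCoh.powMap X n)), ← Preadditive.comp_nsmul]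
  exact kernel.condition (EtCoh.powMap X n)

end Groth.Agent.S3502
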