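import Groth.Statements.S3508
import Groth.Agent.L28.ExtShriek.Pres

set_option backward.isDefEq.respectTransparency.types false

set_option autoImplicit false
universe u
open CategoryTheory CategoryTheory.Limits AlgebraicGeometry Opposite
open EtCd

namespace Groth.Agent.S3508

/-- Let X be a quasi-compact and quasi-separated scheme. An abelian sheaf F on the small etale site of X
is constructible if and only if it is isomorphic to the cokernel of a morphism ⨁_j j_{V_j !} Z/m_j →
⨁_i j_{U_i !} Z/n_i for finite families of affine etale X-schemes U_i, V_j (the source first states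
it with quasi-compact quasi-separated objects and then notes that U_i, V_j may even be taken affine)
and positive integers n_i, m_j (j_! the extension by zero of the constant sheaf). -/
theorem result (X : Scheme.{u}) [CompactSpace X] [QuasiSeparatedSpace X]
    (F : EtCoh.Ab X) :
    EtPBC.IsConstructible F ↔
      ∃ (a b : ℕ) (U : Fin a → X.Etale) (V : Fin b → X.Etale) (n : Fin a → ℕ) (m : Fin b → ℕ),
        (∀ i, 0 < n i ∧ IsAffine (U i).left) ∧ (∀ j, 0 < m j ∧ IsAffine (V j).left) ∧
        ∃ φ : (⨁ fun j => EtPBC.extZeroConst (V j) (ZMod (m j))) ⟶ (⨁ fun i => EtPBC.extZeroConst (U i) (ZMod (n i))),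
          Nonempty (F ≅ cokernel φ) := by
  refine ⟨Groth.L28.ExtShriek.exists_presentation, ?_⟩
  rintro ⟨a, b, U, V, n, m, hU, hV, φ, ⟨e⟩⟩
  refine Groth.L28.ExtShriek.isConstructible_of_iso e.symm (Groth.L28.Strata.isConstructible_kernel_cokernel φ
    (Groth.L28.ExtShriek.isConstructible_biproduct _ fun j => ?_)
    (Groth.L28.ExtShriek.isConstructible_biproduct _ fun i => ?_)).2
  · haveI : NeZero (m j) := ⟨(hV j).1.ne'⟩
    haveI := (hV j).2
    exact Groth.L28.ExtShriek.isConstructible_extZeroConst _ _
  · haveI : NeZero (n i) := ⟨(hU i).1.ne'⟩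
    haveI := (hU i).2
    exact Groth.L28.ExtShriek.isConstructible_extZeroConst _ _

end Groth.Agent.S3508
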