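import Groth.Statements.S3509
import Groth.Agent.L28.CdLower.Points
import Groth.Agent.L28.DimFun.Main

set_option autoImplicit false
set_option linter.style.haveILetI false
set_option backward.isDefEq.respectTransparency.types false
universe u
open CategoryTheory CategoryTheory.Limits AlgebraicGeometry Opposite
open EtCd

namespace Groth.Agent.S3509

/-- Let X be a Noetherian scheme of dimension at most m and ℓ a prime invertible on X; assume that for
all points x, y with y in the closure of x, every strict henselization R of the local ring at y and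
every prime P of R minimal over p_x R one has cd_ℓ(Frac(R/P)) ≤ dim(R/p_x R), and that ℓ ≠ 2 or no
residue field of X is orderable. Then cd_ℓ(X) ≤ cd_ℓ(R(X)) + dim X: if cd_ℓ(κ(η)) ≤ c for every
maximal point η of X, then the etale cohomology of every ℓ-primary torsion abelian sheaf on X
vanishes above degree c + m. -/
theorem result (X : Scheme.{u}) [IsNoetherian X] (m : ℕ) (hm : topologicalKrullDim X ≤ m)
    (ℓ : ℕ) (hℓ : ℓ.Prime) (hℓX : Dix.InvertibleOn X ℓ)
    (h2 : ∀ (x y : X) (hxy : x ⤳ y), ∀ (R : Type u) [CommRing R] [IsLocalRing R] [Algebra (X.presheaf.stalk y) R]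
    [IsLocalHom (algebraMap (X.presheaf.stalk y) R)] [Hensel.IsStrictHenselization (X.presheaf.stalk y) R],
      ∀ P ∈ ((RingHom.ker (Cyc.specMap y x hxy)).map (algebraMap (X.presheaf.stalk y) R)).minimalPrimes,
        ∀ e : ℕ, ringKrullDim (R ⧸ (RingHom.ker (Cyc.specMap y x hxy)).map (algebraMap (X.presheaf.stalk y) R)) = e →
          Dix.CohDimLEAt (Spec (CommRingCat.of (FractionRing (R ⧸ P)))) ℓ e)
    (hord : ℓ ≠ 2 ∨ ∀ x : X, ¬ ∃ _ : LinearOrder (X.residueField x), IsStrictOrderedRing (X.residueField x))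
    (c : ℕ) (hc : ∀ x : X, closure {x} ∈ irreducibleComponents (X : Type u) →
      Dix.CohDimLEAt (Spec (X.residueField x)) ℓ c) :
    Dix.CohDimLEAt X ℓ (c + m) := by
  classical
  have key : ∀ x : X, Groth.L28.FieldTower.CdLE ℓ (Spec (X.residueField x)) c := by
    intro x
    obtain ⟨η, hη⟩ := QuasiSober.sober (isIrreducible_irreducibleComponent (x := x)) isClosed_irreducibleComponent
    have hxη : η ⤳ x := specializes_iff_mem_closure.2 (hη.def.symm ▸ mem_irreducibleComponent)
    obtain ⟨a, ha⟩ := Groth.L28.CdLower.exists_dim η x hxη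
    obtain ⟨-, h⟩ := Groth.L28.CdLower.le_cd_point hℓ hℓX hord η x hxη ha
      ((Groth.L28.FieldTower.cohDimLEAt_iff hℓ).1 (hc η (by
        rw [hη.def]; exact irreducibleComponent_mem_irreducibleComponents x)))
    exact Groth.L28.CdLower.cdLE_mono h (Nat.sub_le _ _)
  let φ : X → ℕ := fun x =>
    Nat.find (⟨c, key x⟩ : ∃ d, Groth.L28.FieldTower.CdLE ℓ (Spec (X.residueField x)) d) +
      (Order.height (Groth.L28.CdLower.clPt x)).toNat
  have hδ : ∀ x : X, ∃ n : ℕ, n ≤ m ∧ Order.height (Groth.L28.CdLower.clPt x) = n := fun x => by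
    obtain ⟨n, hn⟩ := ENat.ne_top_iff_exists.1
      (ne_top_of_le_ne_top (ENat.natCast_ne_top m) (Groth.L28.CdLower.height_clPt_le m hm x))
    exact ⟨n, by exact_mod_cast hn ▸ Groth.L28.CdLower.height_clPt_le m hm x, hn.symm⟩
  intro F hF q hq
  refine Groth.L28.DimFun.subsingleton_H_of_dimFun φ hℓ (fun x => ?_) (fun x y hxy hne R _ _ _ _ _ P hP => ?_)
    F hF q fun x _ => lt_of_le_of_lt ?_ hq
  · exact (Groth.L28.FieldTower.cohDimLEAt_iff hℓ).2
      (Groth.L28.CdLower.cdLE_mono (Nat.find_spec (⟨c, key x⟩ :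
        ∃ d, Groth.L28.FieldTower.CdLE ℓ (Spec (X.residueField x)) d)) (Nat.le_add_right _ _))
  · obtain ⟨a, ha⟩ := Groth.L28.CdLower.exists_dim x y hxy
    have ha1 := Groth.L28.CdLower.one_le_dim x y hxy hne ha
    obtain ⟨e, hea, he⟩ := Groth.L28.CdLower.exists_dim_strict x y hxy R ha
    refine ⟨e, ?_, h2 x y hxy R P hP e he⟩
    obtain ⟨h1, h1'⟩ := Groth.L28.CdLower.le_cd_point hℓ hℓX hord x y hxy ha
      (Nat.find_spec (⟨c, key x⟩ : ∃ d, Groth.L28.FieldTower.CdLE ℓ (Spec (X.residueField x)) d))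
    have h3 : Nat.find (⟨c, key y⟩ : ∃ d, Groth.L28.FieldTower.CdLE ℓ (Spec (X.residueField y)) d) + a ≤
        Nat.find (⟨c, key x⟩ : ∃ d, Groth.L28.FieldTower.CdLE ℓ (Spec (X.residueField x)) d) := by
      have := Nat.find_le (h := (⟨c, key y⟩ : ∃ d, Groth.L28.FieldTower.CdLE ℓ (Spec (X.residueField y)) d)) h1'
      omega
    have h4 := Groth.L28.CdLower.height_add_dim_le x y hxy ha
    obtain ⟨nx, -, hnx⟩ := hδ x
    obtain ⟨ny, -, hny⟩ := hδ y
    rw [hnx, hny] at h4
    have h5 : ny + a ≤ nx := by exact_mod_cast h4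
    simp only [φ, hnx, hny, ENat.toNat_natCast]
    omega
  · obtain ⟨n, hn, hnx⟩ := hδ x
    have := Nat.find_le (h := (⟨c, key x⟩ : ∃ d, Groth.L28.FieldTower.CdLE ℓ (Spec (X.residueField x)) d)) (key x)
    simp only [φ, hnx, ENat.toNat_natCast]
    omega

end Groth.Agent.S3509
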