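import Groth.Statements.S3511
import Groth.Agent.L27.AcycCoeff.Affine
import Groth.Agent.L27.ULA.Crit
import Groth.Agent.S8534

set_option autoImplicit false
set_option linter.style.haveILetI false
set_option backward.isDefEq.respectTransparency.types false
universe u
open CategoryTheory CategoryTheory.Limits AlgebraicGeometry Opposite
open EtAcyc

namespace Groth.Agent.S3511

/-- Let g : X → Y be quasi-compact and quasi-separated, L a set of primes containing at least one prime,
and n a natural number. (The published statement does not ask that L contain a prime; with L empty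
the equivalence fails, e.g. for the empty scheme over a field, so that hypothesis is added here.)
Then g is n-acyclic for L if and only if g is surjective and, for every locally quasi-finite
morphism (locally of finite type with discrete fibres) Y' → Y with base change g' : X' = X ×_Y Y' →
Y', every prime ℓ ∈ L and every ν ≥ 1, the pullback map H^q(Y', Z/ℓ^ν) → H^q(X', g'⁻¹(Z/ℓ^ν)) is
surjective for 0 ≤ q ≤ n. -/
theorem result {X Y : Scheme.{u}} (g : X ⟶ Y)
    [QuasiCompact g] [QuasiSeparated g] (L : Set ℕ) (hL : ∃ ℓ ∈ L, ℓ.Prime) (n : ℕ) :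
    EtAcyc.IsAcyclicN g L n ↔
      Function.Surjective g.base ∧
        ∀ (Y' : Scheme.{u}) (i : Y' ⟶ Y) [LocallyQuasiFinite i] [LocallyOfFiniteType i] (ℓ : ℕ), ℓ.Prime → ℓ ∈ L →
          ∀ (ν : ℕ), 1 ≤ ν → ∀ [PreservesFiniteLimits (EtCoh.pull (pullback.snd g i))] (q : ℕ), q ≤ n →
            Function.Surjective (EtCore.Hpull (pullback.snd g i) (EtCoh.const Y' (ZMod (ℓ ^ ν))) q) := by
  constructor
  · intro hg
    refine ⟨fun y => ?_, ?_⟩
    · have hf := Groth.Agent.S8534.result g L hL n hg
      let Ω := AlgebraicClosure (Y.residueField y)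
      obtain ⟨hne, -, -⟩ := hf y Ω
      obtain ⟨x⟩ := hne
      refine ⟨(pullback.fst g (EtAcyc.geomPt Y y Ω)).base x, ?_⟩
      rw [← Scheme.Hom.comp_apply, pullback.condition, Scheme.Hom.comp_apply]
      simp only [EtAcyc.geomPt, Scheme.Hom.comp_apply]
      exact Scheme.fromSpecResidueField_apply _ _
    · intro Y' i _ _ ℓ hℓ hℓL ν hν _ q hq
      haveI : NeZero (ℓ ^ ν) := ⟨pow_ne_zero ν hℓ.ne_zero⟩
      refine ((Groth.L27.ULA.compN_self (Groth.L27.AcycCoeff.isAcyclicN_of_lqf g hg i (pullback.snd g i)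
        (pullback.fst g i) (IsPullback.of_hasPullback g i)) _ ?_).1 q hq).2
      refine Groth.L27.AcycCoeff.isLTorsion_const Y' _ ⟨Nat.card_pos, fun p hp hd => ?_⟩
      rw [Nat.card_zmod] at hd
      rwa [(Nat.prime_dvd_prime_iff_eq hp hℓ).1 (hp.dvd_of_dvd_pow hd)]
  · rintro ⟨hsurj, hs⟩
    refine Groth.L27.AcycCoeff.isAcyclicN_of_affine g fun V hV => ?_
    haveI : Surjective g := ⟨hsurj⟩
    haveI : Surjective (EtAcyc.prj g V) := MorphismProperty.pullback_fst (P := @Surjective) _ _ inferInstance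
    haveI : QuasiCompact (EtAcyc.prj g V) := MorphismProperty.pullback_fst (P := @QuasiCompact) _ _ inferInstance
    haveI : QuasiSeparated (EtAcyc.prj g V) := MorphismProperty.pullback_fst (P := @QuasiSeparated) _ _ inferInstance
    haveI : CompactSpace ↥(pullback V.hom g) := QuasiCompact.compactSpace_of_compactSpace (EtAcyc.prj g V)
    haveI : QuasiSeparatedSpace ↥(pullback V.hom g) := quasiSeparatedSpace_of_quasiSeparated (EtAcyc.prj g V)
    haveI := Groth.L27.EtSite.preservesFiniteLimits_pull (EtAcyc.prj g V)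
    refine Groth.L27.AcycCoeff.compN_of_surjective (EtAcyc.prj g V) n fun X' p _ ℓ hℓ hℓL ν hν _ q hq => ?_
    haveI : AlgebraicGeometry.Etale V.hom := V.prop
    haveI := Groth.L27.EtSite.preservesFiniteLimits_pull (pullback.snd g (p ≫ V.hom))
    have h1 := hs X' (p ≫ V.hom) ℓ hℓ hℓL ν hν q hq
    have hsq : IsPullback (pullback.snd p (EtAcyc.prj g V) ≫ pullback.snd V.hom g)
        (pullback.fst p (EtAcyc.prj g V)) g (p ≫ V.hom) :=
      (IsPullback.of_hasPullback p (EtAcyc.prj g V)).flip.paste_horiz (IsPullback.of_hasPullback V.hom g).flip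
    let θ := hsq.isoPullback
    haveI := Groth.L27.EtSite.preservesFiniteLimits_pull θ.hom
    intro c
    let k := pullback.fst p (EtAcyc.prj g V)
    let Λ := EtCoh.const X' (ZMod (ℓ ^ ν))
    have hw : θ.hom ≫ pullback.snd g (p ≫ V.hom) = k := hsq.isoPullback_hom_snd
    haveI := Groth.L28.AcyComp.isIso_gamma θ.hom (pullback.snd g (p ≫ V.hom)) hw Λ
    have hb : Function.Bijective ((EtCoh.HF (pullback p (EtAcyc.prj g V)) q).map
        (Groth.L27.LimCoh.gamma θ.hom (pullback.snd g (p ≫ V.hom)) hw Λ)) := ConcreteCategory.bijective_of_isIso _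
    obtain ⟨d, hd⟩ := (Groth.L28.AcyComp.bijective_Hpull θ.hom _ q).2
      ((EtCoh.HF _ q).map (Groth.L27.LimCoh.gamma θ.hom (pullback.snd g (p ≫ V.hom)) hw Λ) c)
    obtain ⟨e, rfl⟩ := h1 d
    exact ⟨e, hb.1 ((Groth.L27.LimCoh.Hpull_comp θ.hom (pullback.snd g (p ≫ V.hom)) hw q Λ e).symm.trans hd)⟩

end Groth.Agent.S3511
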