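import Groth.Statements.S3512
import Groth.Agent.L23.ZeroAcyc.Main

set_option autoImplicit false
universe u
open CategoryTheory CategoryTheory.Limits AlgebraicGeometry Opposite
open EtAcyc

namespace Groth.Agent.S3512

/-- Let g : X → Y be quasi-compact and quasi-separated and I any fixed set with at least two elements.
Then g is 0-acyclic (for every etale V → Y and every sheaf of sets F on V the unit F → g'_* g'^* F
is bijective, g' : X ×_Y V → V the projection) if and only if for every morphism i : Y' → Y that is
locally quasi-finite and locally of finite type the pullback map on global sections Γ(Y', I) → Γ(X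
×_Y Y', I) of the constant sheaf with value I is bijective; and g is (-1)-acyclic (the units are
monomorphisms) if and only if these maps are injective. (The published statement of this criterion
takes Y' etale over Y; it is stated here for Y' locally quasi-finite and locally of finite type over
Y, the class of base changes its published proof works with.) -/
theorem result {X Y : Scheme.{u}} (g : X ⟶ Y) [QuasiCompact g] [QuasiSeparated g]
    (I : Type u) [Nontrivial I] :
    (EtAcyc.IsZeroAcyclic g ↔
      ∀ (Y' : Scheme.{u}) (i : Y' ⟶ Y) [LocallyQuasiFinite i] [LocallyOfFiniteType i],
        Function.Bijective (EtDesc.secPull (pullback.snd g i)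
          ((constantSheaf Y'.smallEtaleTopology (Type (u + 1))).obj (ULift.{u + 1} I)))) ∧
    (EtAcyc.IsMinusOneAcyclic g ↔
      ∀ (Y' : Scheme.{u}) (i : Y' ⟶ Y) [LocallyQuasiFinite i] [LocallyOfFiniteType i],
        Function.Injective (EtDesc.secPull (pullback.snd g i)
          ((constantSheaf Y'.smallEtaleTopology (Type (u + 1))).obj (ULift.{u + 1} I)))) := by
  exact Groth.L23.ZeroAcyc.criterion g I

end Groth.Agent.S3512
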