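import Groth.Statements.S3515
import Groth.Agent.L27.LocCrit.Main

set_option autoImplicit false
set_option linter.style.haveILetI false
set_option backward.isDefEq.respectTransparency.types false
universe u
open CategoryTheory CategoryTheory.Limits AlgebraicGeometry Opposite
attribute [local instance] HasDerivedCategory.standard
open EtAcyc

namespace Groth.Agent.S3515

/-- (i) ⇔ (iv): let g : X → Y be a morphism of schemes, L a set of primes, n a natural number. Then g is
locally n-acyclic for L (every induced morphism of strict localizations is n-acyclic for L) if and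
only if: for every locally quasi-finite i : Y' → Y (locally of finite type with discrete fibres)
with base change g' : X' = X ×_Y Y' → Y', every quasi-compact open immersion i' : Y'' → Y' with base
change j' : X'' = X' ×_{Y'} Y'' → X' and g'' : X'' → Y'', and every abelian L-torsion sheaf F on
Y'', the base change maps g'⁻¹ R^q i'_* F → R^q j'_* g''⁻¹ F (cohomology sheaves of the derived base
change morphism) are isomorphisms for q ≤ n and a monomorphism for q = n + 1. -/
theorem result {X Y : Scheme.{u}} (g : X ⟶ Y) (L : Set ℕ) (n : ℕ) :
    EtAcyc.IsLocAcyclicN g L n ↔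
      ∀ (Y' : Scheme.{u}) (i : Y' ⟶ Y) [LocallyQuasiFinite i] [LocallyOfFiniteType i]
        (Y'' : Scheme.{u}) (i' : Y'' ⟶ Y') [IsOpenImmersion i'] [QuasiCompact i']
        [PreservesFiniteLimits (EtCoh.pull (pullback.snd g i))]
        [PreservesFiniteLimits (EtCoh.pull (pullback.snd (pullback.snd g i) i'))]
        [DCoh.HasRpushEt Y'' i'] [DCoh.HasRpushEt (pullback (pullback.snd g i) i') (pullback.fst (pullback.snd g i) i')]
        [DCoh.HasRpushEt (pullback g i) (pullback.snd g i)]
        (adj : EtBC.pullD (pullback.snd g i) ⊣ DCoh.RpushEt (pullback g i) (pullback.snd g i))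
        (F : EtCoh.Ab Y''), EtAcyc.IsLTorsion L F →
        (∀ q : ℤ, q ≤ n → IsIso ((DerivedCategory.homologyFunctor (EtCoh.Ab (pullback g i)) q).map
          (EtBC.bcMap i' (pullback.snd g i) (pullback.fst (pullback.snd g i) i') (pullback.snd (pullback.snd g i) i')
            pullback.condition.symm adj (EtBC.single Y'' F)))) ∧
        Mono ((DerivedCategory.homologyFunctor (EtCoh.Ab (pullback g i)) ((n : ℤ) + 1)).map
          (EtBC.bcMap i' (pullback.snd g i) (pullback.fst (pullback.snd g i) i') (pullback.snd (pullback.snd g i) i')
            pullback.condition.symm adj (EtBC.single Y'' F))) := by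
  constructor
  · intro H Y' i _ _ Y'' i' _ _ _ _ _ _ _ adj F hF
    haveI : QuasiSeparated i' := inferInstance
    exact Groth.L27.ULA.homology_bcMap_low i' (pullback.snd g i) (pullback.fst (pullback.snd g i) i')
      (pullback.snd (pullback.snd g i) i') L n (IsPullback.of_hasPullback (pullback.snd g i) i').flip adj
      (fun G hG k hk => Groth.L27.LocCrit.isIso_bcQ_openImmersion (pullback.snd g i)
        (Groth.L27.LocCrit.isLocAcyclicN_baseChange (IsPullback.of_hasPullback g i) H) i' _ _
        (IsPullback.of_hasPullback (pullback.snd g i) i').flip G hG k hk) F hF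
  · intro H
    by_cases hL : ∃ l ∈ L, l.Prime
    · refine Groth.L27.LocCrit.isLocAcyclicN_of_bc hL (Groth.L27.LocCrit.bc_of_bcMap ?_)
      intro Y' i _ _ Y'' i' _ _ _ _ _ _ _ adj F hF q hq
      exact (H Y' i Y'' i' adj F hF).1 q (by exact_mod_cast hq)
    · push Not at hL
      exact Groth.L27.LocCrit.isLocAcyclicN_of_noPrime g L hL n

end Groth.Agent.S3515
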