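import Groth.Statements.S3519
import Groth.Agent.L28.Double.CharP
import Groth.Agent.L22.GV.Sober
-- import your own Groth.Agent.* helpers here

set_option autoImplicit false
universe u
open CategoryTheory CategoryTheory.Limits AlgebraicGeometry Opposite
open EtCd

namespace Groth.Agent.S3519

/-- Let k be a field of characteristic p > 0 and X a scheme of finite type over k of dimension at most
n. Then cd_p(X) ≤ n + 1: the etale cohomology of every p-primary torsion abelian sheaf on X vanishes
above degree n + 1. -/
theorem result (k : Type u) [Field k] (p : ℕ) [Fact p.Prime] [CharP k p]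
    (X : Scheme.{u}) (f : X ⟶ Spec (CommRingCat.of k)) [LocallyOfFiniteType f] [QuasiCompact f]
    (n : ℕ) (hn : topologicalKrullDim X ≤ n) : Dix.CohDimLEAt X p (n + 1) := by
  haveI : IsLocallyNoetherian X := LocallyOfFiniteType.isLocallyNoetherian f
  haveI : CompactSpace ↥X := QuasiCompact.compactSpace_of_compactSpace f
  haveI : IsNoetherian X := {}
  haveI : TopologicalSpace.NoetherianSpace ↥X.toPresheafedSpace.carrier := inferInstanceAs (TopologicalSpace.NoetherianSpace ↥X)
  refine Groth.L28.Double.cohDimLEAt_succ p X ?_ n fun M _ q hq =>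
    Groth.L22.GV.subsingleton_H' (X := X.toPresheafedSpace.carrier) hn (Coh.toAb M) q hq
  have h : (p : Γ(Spec (CommRingCat.of k), ⊤)) = 0 := by
    rw [← map_natCast (Scheme.ΓSpecIso (CommRingCat.of k)).inv.hom, show ((p : ℕ) : k) = 0 from CharP.cast_eq_zero k p,
      map_zero]
  rw [← map_natCast f.appTop.hom, h, map_zero]

end Groth.Agent.S3519
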