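import Groth.Statements.S3523
import Groth.Agent.L28.Kun.Inj

set_option autoImplicit false
universe u
attribute [local instance] HasDerivedCategory.standard
open HTor

namespace Groth.Agent.S3523

open CategoryTheory CategoryTheory.Limits in
/-- (Cochain indexing.) Let A be a ring and L, M complexes of A-modules vanishing in large degrees, with
every term of L flat and every cohomology module H^i(L) flat. Then for every n there is a Künneth
map ⊕_{i+j=n} H^i(L) ⊗_A H^j(M) → H^n(L ⊗_A M), sending [z] ⊗ [z'] to the class of z ⊗ z', and it is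
bijective. -/
theorem result (A : Type u) [CommRing A] (L M : DRing.Cx A)
    (hL : DRing.TermwiseFlat L) (bL : ∃ b : ℤ, DRing.VanishesAbove L b)
    (bM : ∃ b : ℤ, DRing.VanishesAbove M b) (hH : ∀ i : ℤ, Module.Flat A (L.homology i)) (n : ℤ) :
    ∃ Φ : HTor.KunnethSum L M n →ₗ[A] (HTor.tensorCx L M).homology n,
      HTor.IsKunnethMap L M n Φ ∧ Function.Bijective Φ := by
  obtain ⟨a, ha⟩ := bL
  obtain ⟨b, hb⟩ := bM
  have key : ∀ (N : DRing.Cx A), (∃ b : ℤ, DRing.VanishesAbove N b) → ∀ m : ℤ,
      Function.Surjective (Groth.L28.Kun.kun L N m) := fun N hN m =>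
    Groth.L28.Kun.kun_surjective_of_torSum L N hL ⟨a, ha⟩ hN m fun p i j _ => by
      have := hH i
      exact ModuleCat.isZero_iff_subsingleton.mp
        (Groth.L28.TorFacts.isZero_of_flat_left (ModuleCat.of A (L.homology i))
          (ModuleCat.of A (N.homology j)) p)
  exact ⟨Groth.L28.Kun.kun L M n, Groth.L28.Kun.isKunnethMap L M n,
    Groth.L28.Kun.kun_injective L M ha hb n
      (key (Groth.L28.Kun.M1 M) ⟨b, Groth.L28.Kun.isZero_M1 M hb⟩ (n - 1)),
    key M ⟨b, hb⟩ n⟩

end Groth.Agent.S3523
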