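import Groth.Statements.S3532
import Groth.Agent.L04.MLSys
import Mathlib.Tactic.Abel

set_option autoImplicit false
universe u
open HomAlg3

namespace Groth.Agent.S3532

open CategoryTheory in
variable {_unused : Unit}
open Groth.L04.MLSys CategoryTheory CategoryTheory.Limits Opposite
open CategoryTheory in

/-- Category of abelian groups, system indexed by the natural numbers: Let (A_k)_{k ≥ 0} be an inverse
system of abelian groups. For p ≤ k write Im_k(A_p) for the image of A_k → A_p, and K_p for the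
kernel of A_p → A_{p-1} (K_0 = A_0). Then (A_k) satisfies the Mittag-Leffler condition (for each p
the subgroups Im_k(A_p) are eventually constant in k) if and only if for each p the subgroups
Im_k(A_p) ∩ K_p are eventually constant in k. -/
theorem result (F : ℕᵒᵖ ⥤ AddCommGrpCat.{u}) :
    (F ⋙ forget AddCommGrpCat).IsMittagLeffler ↔
      ((∃ k₀ : ℕ, ∀ (k : ℕ) (hk : k₀ ≤ k),
          (F.map (homOfLE (Nat.zero_le k)).op).hom.range = (F.map (homOfLE (Nat.zero_le k₀)).op).hom.range) ∧
        ∀ p : ℕ, ∃ k₀ : ℕ, ∃ h₀ : p + 1 ≤ k₀, ∀ (k : ℕ) (hk : k₀ ≤ k),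
          (F.map (homOfLE (h₀.trans hk)).op).hom.range ⊓ (F.map (homOfLE (Nat.le_succ p)).op).hom.ker =
            (F.map (homOfLE h₀).op).hom.range ⊓ (F.map (homOfLE (Nat.le_succ p)).op).hom.ker) := by
  rw [isML_iff]
  constructor
  · intro h
    refine ⟨?_, fun p => ?_⟩
    · obtain ⟨k₀, h0, hk₀⟩ := h 0
      refine ⟨k₀, fun k hk => le_antisymm ?_ ?_⟩
      · rintro _ ⟨y, rfl⟩
        exact ⟨res F hk y, res_res F h0 hk y⟩
      · rintro _ ⟨y, rfl⟩
        exact hk₀ k _ y
    · obtain ⟨k₀, h0, hk₀⟩ := h (p + 1)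
      refine ⟨k₀, h0, fun k hk => le_antisymm (inf_le_inf_right _ ?_) (inf_le_inf_right _ ?_)⟩
      · rintro _ ⟨y, rfl⟩
        exact ⟨res F hk y, res_res F h0 hk y⟩
      · rintro _ ⟨y, rfl⟩
        exact hk₀ k _ y
  · rintro ⟨⟨a, ha⟩, hker⟩ i
    induction i with
    | zero =>
      refine ⟨a, Nat.zero_le _, fun m _ x => ?_⟩
      have hx : res F (Nat.zero_le a) x ∈ (res F (Nat.zero_le (max a m))).range := (ha _ (le_max_left a m)).ge ⟨x, rfl⟩
      obtain ⟨y, hy⟩ := hx
      exact ⟨res F (le_max_right a m) y, (res_res F _ _ y).trans hy⟩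
    | succ p ih =>
      obtain ⟨k₁, hk₁p, hk₁⟩ := ih
      obtain ⟨k₀, hk₀p, hk₀⟩ := hker p
      refine ⟨max k₀ k₁, hk₀p.trans (le_max_left _ _), fun m hm x => ?_⟩
      let l := max m (max k₀ k₁)
      have hl : p + 1 ≤ l := hm.trans (le_max_left _ _)
      obtain ⟨y, hy⟩ := hk₁ l ((Nat.le_succ p).trans hl) (res F (le_max_right k₀ k₁) x)
      have hd : res F (hk₀p.trans (le_max_left k₀ k₁)) x - res F hl y ∈
          (res F hk₀p).range ⊓ (res F (Nat.le_succ p)).ker := by
        refine ⟨⟨res F (le_max_left k₀ k₁) x - res F ((le_max_left k₀ k₁).trans (le_max_right m _)) y, ?_⟩, ?_⟩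
        · rw [map_sub, res_res, res_res]
        · show res F (Nat.le_succ p) _ = 0
          rw [map_sub, res_res, res_res, sub_eq_zero]
          rw [res_res] at hy
          exact hy.symm
      obtain ⟨⟨w, hw⟩, -⟩ := (hk₀ l ((le_max_left k₀ k₁).trans (le_max_right m _))).ge hd
      refine ⟨res F (le_max_left m _) (y + w), ?_⟩
      rw [res_res, map_add]
      rw [show res F hl w = _ from hw]
      abel

end Groth.Agent.S3532
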