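import Groth.Statements.S3533
import Groth.Agent.L17.FM.CohTensor

set_option autoImplicit false
set_option linter.style.haveILetI false
set_option linter.unusedVariables false
universe u
attribute [local instance] HasDerivedCategory.standard
open HTor

namespace Groth.Agent.S3533

open CategoryTheory CategoryTheory.Limits AlgebraicGeometry in
/-- Let f : X ⟶ S be a flat morphism with X locally Noetherian, g : Y ⟶ S a morphism, and suppose Z = X
×_S Y is locally Noetherian. As X is flat over S, the local hypertor sheaves Tor_n^S(F, G) on Z are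
taken to be the cohomology sheaves in degree −n of L pr₁^* F ⊗^L pr₂^* G, where pr₂^* G is the plain
pullback of G viewed as a complex in degree 0 and the derived pullback L pr₁^* and the derived
tensor product are taken under their existence binders; the statement is made in that form. Then for
F a coherent O_X-module and G a coherent O_Y-module, every cohomology sheaf of L pr₁^* F ⊗^L pr₂^* G
is a coherent O_Z-module. -/
theorem result (X Y S : Scheme.{u}) (f : X ⟶ S) (g : Y ⟶ S) [Flat f]
    [IsLocallyNoetherian X] [IsLocallyNoetherian (pullback f g)] (F : X.Modules) (G : Y.Modules)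
    (hF : Coh.IsCoh F) (hG : Coh.IsCoh G) [DCoh.HasLpull (pullback.fst f g)]
    [DCoh.HasLTensorCx ((HTor.pullCx (pullback.snd f g)).obj
      ((HomologicalComplex.single Y.Modules (ComplexShape.up ℤ) 0).obj G))] (n : ℤ) :
    Coh.IsCoh (DCoh.HD ((DCoh.LTensorCx ((HTor.pullCx (pullback.snd f g)).obj
      ((HomologicalComplex.single Y.Modules (ComplexShape.up ℤ) 0).obj G))).obj
        ((DCoh.Lpull (pullback.fst f g)).obj (DCoh.inD X F))) n) := by
  let Q := (HomologicalComplex.single Y.Modules (ComplexShape.up ℤ) 0).obj G
  let r := pullback.snd f g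
  haveI : (Scheme.Modules.pullback r).PreservesZeroMorphisms := inferInstance
  have hQ : ∀ i, Coh.IsCoh ((Scheme.Modules.pullback r).obj (Q.homology i)) := fun i => by
    by_cases hi : i = 0
    · subst hi
      exact Groth.L16.CohSupport.isCoh_of_iso
        ((Scheme.Modules.pullback r).mapIso (HomologicalComplex.singleObjHomologySelfIso (ComplexShape.up ℤ) 0 G).symm)
        (Groth.L16.AffineBC.isCoh_pullback r hG)
    · exact Groth.L29.DC.RHomC.isCoh_of_isZero ((Scheme.Modules.pullback r).map_isZero
        (((HomologicalComplex.exactAt_iff_isZero_homology _ _).1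
          (HomologicalComplex.exactAt_single_obj (ComplexShape.up ℤ) 0 G i hi))))
  let P := (HomologicalComplex.single X.Modules (ComplexShape.up ℤ) 0).obj F
  let eP : DCoh.toD X P ≅ DCoh.inD X F :=
    ((DerivedCategory.singleFunctorIsoCompQ X.Modules 0).app F).symm
  haveI := Groth.L17.PCTensor.isLE_toD P 0 fun i hi =>
    HomologicalComplex.isZero_single_obj_X (ComplexShape.up ℤ) 0 F i (ne_of_gt hi)
  haveI : DerivedCategory.IsLE (DCoh.inD X F) 0 := (DerivedCategory.isLE_iff _ 0).2 fun i hi =>
    (DerivedCategory.isZero_of_isLE (DCoh.toD X P) 0 i hi).of_iso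
      ((DerivedCategory.homologyFunctor _ i).mapIso eP).symm
  have hE : DCoh.IsCohD (DCoh.inD X F) := fun i => by
    by_cases hi : i = 0
    · subst hi
      exact Groth.L16.CohSupport.isCoh_of_iso
        ((HomologicalComplex.singleObjHomologySelfIso (ComplexShape.up ℤ) 0 F).symm ≪≫
          ((DerivedCategory.homologyFunctorFactors _ 0).app P).symm ≪≫
          (DerivedCategory.homologyFunctor _ 0).mapIso eP) hF
    · exact Groth.L29.DC.RHomC.isCoh_of_isZero (((((HomologicalComplex.exactAt_iff_isZero_homology _ _).1
        (HomologicalComplex.exactAt_single_obj (ComplexShape.up ℤ) 0 F i hi))).of_iso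
          ((DerivedCategory.homologyFunctorFactors _ i).app P)).of_iso
            ((DerivedCategory.homologyFunctor _ i).mapIso eP).symm)
  exact Groth.L17.PCTensor.isCohD_ext _ _ _ hE 0 Q 0 (fun i hi =>
    HomologicalComplex.isZero_single_obj_X (ComplexShape.up ℤ) 0 G i (ne_of_gt hi)) hQ n

end Groth.Agent.S3533
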