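import Groth.Statements.S3544
import Mathlib.RingTheory.Length
import Mathlib.Algebra.Homology.ShortComplex.ModuleCat

set_option autoImplicit false
universe u
open HomAlg3

namespace Groth.Agent.S3544

section
open CategoryTheory CategoryTheory.Limits

variable {A : Type u} [Ring A]

theorem length_homology {S : ShortComplex (ModuleCat.{u} A)} (h : IsFiniteLength A S.X₂) :
    IsFiniteLength A S.homology ∧
      ((Module.length A S.homology).toNat : ℤ) = (Module.length A S.X₂).toNat -
        (Module.length A (LinearMap.range S.g.hom)).toNat - (Module.length A (LinearMap.range S.f.hom)).toNat := by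
  have hX := Module.length_ne_top_iff.2 h
  have h1 : Module.length A S.X₂ = Module.length A (LinearMap.ker S.g.hom) + Module.length A (LinearMap.range S.g.hom) :=
    Module.length_eq_add_of_exact (LinearMap.ker S.g.hom).subtype S.g.hom.rangeRestrict
      Subtype.val_injective S.g.hom.surjective_rangeRestrict (by
        intro x
        simp [LinearMap.rangeRestrict, Subtype.ext_iff, LinearMap.codRestrict])
  let R := LinearMap.range S.moduleCatToCycles
  have h2 : Module.length A (LinearMap.ker S.g.hom) = Module.length A R + Module.length A (LinearMap.ker S.g.hom ⧸ R) :=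
    Module.length_eq_add_of_exact R.subtype R.mkQ Subtype.val_injective R.mkQ_surjective (LinearMap.exact_subtype_mkQ R)
  have h3 : Module.length A R = Module.length A (LinearMap.range S.f.hom) := by
    refine LinearEquiv.length_eq (LinearEquiv.ofBijective (((LinearMap.ker S.g.hom).subtype.comp R.subtype).codRestrict
      (LinearMap.range S.f.hom) ?_) ⟨?_, ?_⟩)
    · rintro ⟨_, x, rfl⟩
      exact ⟨x, rfl⟩
    · intro a b hab
      have h' := congrArg (fun z : ↥(LinearMap.range S.f.hom) => (z : S.X₂)) hab
      exact Subtype.ext (Subtype.ext h')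
    · rintro ⟨_, x, rfl⟩
      exact ⟨⟨S.moduleCatToCycles x, x, rfl⟩, rfl⟩
  have e := S.moduleCatHomologyIso.toLinearEquiv.length_eq
  have h4 : Module.length A (LinearMap.ker S.g.hom ⧸ R) = Module.length A S.homology := e.symm
  rw [h2, h3, h4] at h1
  rw [h1] at hX
  rw [ne_eq, ENat.add_eq_top, ENat.add_eq_top, not_or, not_or] at hX
  obtain ⟨⟨hf, hH⟩, hg⟩ := hX
  refine ⟨Module.length_ne_top_iff.1 hH, ?_⟩
  obtain ⟨a, ha⟩ := ENat.ne_top_iff_exists.1 hf
  obtain ⟨b, hb⟩ := ENat.ne_top_iff_exists.1 hH
  obtain ⟨c, hc⟩ := ENat.ne_top_iff_exists.1 hg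
  rw [h1, ← ha, ← hb, ← hc, ← Nat.cast_add, ← Nat.cast_add, ENat.toNat_coe, ENat.toNat_coe, ENat.toNat_coe, ENat.toNat_coe]
  push_cast
  ring

theorem euler_eq (E : E₂CohomologicalSpectralSequence (ModuleCat.{u} A)) (s : Finset (ℤ × ℤ))
    (hs : ∀ pq : ℤ × ℤ, pq ∉ s → IsZero ((E.page 2).X pq))
    (hfl : ∀ pq : ℤ × ℤ, IsFiniteLength A ((E.page 2).X pq)) (r : ℤ) (hr : 2 ≤ r) :
    (s.sum fun pq => (((pq.1 + pq.2).negOnePow : ℤˣ) : ℤ) * ((Module.length A ((E.page r hr).X pq)).toNat : ℤ)) =
      s.sum fun pq => (((pq.1 + pq.2).negOnePow : ℤˣ) : ℤ) * ((Module.length A ((E.page 2).X pq)).toNat : ℤ) := by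
  suffices h : (∀ pq, IsFiniteLength A ((E.page r hr).X pq)) ∧ (∀ pq ∉ s, IsZero ((E.page r hr).X pq)) ∧
      (s.sum fun pq => (((pq.1 + pq.2).negOnePow : ℤˣ) : ℤ) * ((Module.length A ((E.page r hr).X pq)).toNat : ℤ)) =
      s.sum fun pq => (((pq.1 + pq.2).negOnePow : ℤˣ) : ℤ) * ((Module.length A ((E.page 2).X pq)).toNat : ℤ) from h.2.2
  induction r, hr using Int.leInduction with
  | base => exact ⟨hfl, hs, rfl⟩
  | succ r hr ih =>
    obtain ⟨hF, hZ, hsum⟩ := ih
    let v : ℤ × ℤ := (r, 1 - r)
    let K := E.page r hr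
    let im : ℤ × ℤ → ℤ → ℕ := fun pq _ => (Module.length A (LinearMap.range (K.d pq (pq + v)).hom)).toNat
    let sg : ℤ × ℤ → ℤ := fun pq => (((pq.1 + pq.2).negOnePow : ℤˣ) : ℤ)
    let g : ℤ × ℤ → ℤ := fun pq => sg pq * (im pq 0 : ℤ)
    have hsg : ∀ pq, sg (pq + v) = - sg pq := fun pq => by
      show (((pq.1 + r + (pq.2 + (1 - r))).negOnePow : ℤˣ) : ℤ) = _
      rw [show pq.1 + r + (pq.2 + (1 - r)) = pq.1 + pq.2 + 1 by ring, Int.negOnePow_succ]
      rfl
    have key : ∀ pq, IsFiniteLength A ((E.page (r + 1) (by omega)).X pq) ∧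
        sg pq * ((Module.length A ((E.page (r + 1) (by omega)).X pq)).toNat : ℤ) =
          sg pq * ((Module.length A (K.X pq)).toNat : ℤ) - g pq + g (pq - v) := by
      intro pq
      have hnext : (ComplexShape.up' v).next pq = pq + v := ComplexShape.next_eq' _ rfl
      have hprev : (ComplexShape.up' v).prev pq = pq - v := ComplexShape.prev_eq' _ (sub_add_cancel pq v)
      obtain ⟨hH, hlen⟩ := length_homology (S := K.sc' (pq - v) pq (pq + v)) (hF pq)
      let e : (K.sc' (pq - v) pq (pq + v)).homology ≅ (E.page (r + 1) (by omega)).X pq :=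
        (K.homologyIsoSc' (pq - v) pq (pq + v) hprev hnext).symm ≪≫ E.iso r (r + 1) pq
      refine ⟨Module.length_ne_top_iff.1 (e.toLinearEquiv.length_eq ▸ Module.length_ne_top_iff.2 hH), ?_⟩
      rw [← e.toLinearEquiv.length_eq, hlen]
      have : im (pq - v) 0 = (Module.length A (LinearMap.range (K.d (pq - v) pq).hom)).toNat := by
        show (Module.length A (LinearMap.range (K.d (pq - v) (pq - v + v)).hom)).toNat = _
        rw [sub_add_cancel]
      have hs' : sg (pq - v) = - sg pq := by
        rw [← neg_neg (sg (pq - v)), ← hsg, sub_add_cancel]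
      show sg pq * (((Module.length A (K.X pq)).toNat : ℤ) - (im pq 0 : ℤ) -
        ((Module.length A (LinearMap.range (K.d (pq - v) pq).hom)).toNat : ℤ)) = _
      rw [show g (pq - v) = sg (pq - v) * (im (pq - v) 0 : ℤ) from rfl, hs', this]
      show _ = _ - sg pq * (im pq 0 : ℤ) + _
      ring
    have hg : ∀ pq, g pq ≠ 0 → pq ∈ s ∧ pq + v ∈ s := by
      intro pq hne
      constructor <;> by_contra h
      · refine hne ?_
        haveI := ModuleCat.isZero_iff_subsingleton.1 (hZ pq h)
        show sg pq * ((Module.length A (LinearMap.range (K.d pq (pq + v)).hom)).toNat : ℤ) = 0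
        rw [show LinearMap.range (K.d pq (pq + v)).hom = ⊥ from LinearMap.range_eq_bot.2 (LinearMap.ext fun x => by
          rw [Subsingleton.elim x 0]; simp), Module.length_eq_zero]
        simp
      · refine hne ?_
        haveI : Subsingleton (K.X (pq + v)) := ModuleCat.isZero_iff_subsingleton.1 (hZ (pq + v) h)
        show sg pq * ((Module.length A (LinearMap.range (K.d pq (pq + v)).hom)).toNat : ℤ) = 0
        rw [Module.length_eq_zero]
        simp
    refine ⟨fun pq => (key pq).1, fun pq hpq => ?_, ?_⟩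
    · have := key pq
      refine ModuleCat.isZero_iff_subsingleton.2 ?_
      have hz : IsZero (K.homology pq) := by
        refine HomologicalComplex.exactAt_iff_isZero_homology _ _ |>.1 ?_
        exact ShortComplex.exact_of_isZero_X₂ _ (hZ pq hpq)
      exact ModuleCat.isZero_iff_subsingleton.1 (hz.of_iso (E.iso r (r + 1) pq).symm)
    · rw [← hsum, Finset.sum_congr rfl fun pq _ => (key pq).2, Finset.sum_add_distrib, Finset.sum_sub_distrib]
      have hshift : (s.sum fun pq => g (pq - v)) = s.sum g := by
        refine Finset.sum_bij_ne_zero (fun pq _ _ => pq - v) (fun pq _ h => (hg _ h).1)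
          (fun a _ _ b _ _ h => sub_left_injective h) (fun b hb h => ⟨b + v, (hg b h).2, ?_, ?_⟩) (fun pq _ _ => rfl)
        · rwa [add_sub_cancel_right]
        · exact add_sub_cancel_right b v
      rw [hshift]
      exact sub_add_cancel _ _

end

open CategoryTheory CategoryTheory.Limits in
/-- Let E be a cohomological spectral sequence of modules over a ring A, starting at page 2, such that
the E₂ terms have finite length and only finitely many of them (all inside the finite set s of
bidegrees) are nonzero. Then for every r ≥ 2 the Euler–Poincaré characteristic of page r, the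
alternating sum over s of (-1)^{p+q} times the length of E_r^{pq}, equals that of page 2. -/
theorem result {A : Type u} [Ring A]
    (E : E₂CohomologicalSpectralSequence (ModuleCat.{u} A)) (s : Finset (ℤ × ℤ))
    (hs : ∀ pq : ℤ × ℤ, pq ∉ s → IsZero ((E.page 2).X pq))
    (hfl : ∀ pq : ℤ × ℤ, IsFiniteLength A ((E.page 2).X pq)) (r : ℤ) (hr : 2 ≤ r) :
    (s.sum fun pq => (((pq.1 + pq.2).negOnePow : ℤˣ) : ℤ) * ((Module.length A ((E.page r hr).X pq)).toNat : ℤ)) =
      s.sum fun pq => (((pq.1 + pq.2).negOnePow : ℤˣ) : ℤ) * ((Module.length A ((E.page 2).X pq)).toNat : ℤ) := by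

    exact euler_eq E s hs hfl r hr

end Groth.Agent.S3544
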