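import Groth.Statements.S3567
import Mathlib.AlgebraicGeometry.Morphisms.UnderlyingMap
import Mathlib.Topology.ContinuousMap.Basic

set_option autoImplicit false
universe u
open CategoryTheory CategoryTheory.Limits AlgebraicGeometry
open EGA2

namespace Groth.Agent.S3567

variable {_unused : Unit}

open Opposite TopologicalSpace in
theorem hom_cancel {U V W : AlgebraicGeometry.Scheme.{u}} (h : U ⟶ V) [AlgebraicGeometry.Surjective h] [CategoryTheory.IsIso h.c]
    (v₁ v₂ : V ⟶ W) (e : CategoryTheory.CategoryStruct.comp h v₁ = CategoryTheory.CategoryStruct.comp h v₂) : v₁ = v₂ := by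
  have hb : v₁.base = v₂.base := TopCat.hom_ext (ContinuousMap.ext fun y => by
    obtain ⟨x, rfl⟩ := h.surjective y
    exact congrArg (fun k => k.base x) e)
  refine AlgebraicGeometry.Scheme.Hom.ext hb fun O => ?_
  have : CategoryTheory.IsIso (h.app (v₂ ⁻¹ᵁ O)) := CategoryTheory.NatIso.isIso_app_of_isIso h.c _
  rw [← CategoryTheory.cancel_mono (h.app (v₂ ⁻¹ᵁ O)), CategoryTheory.Category.assoc, AlgebraicGeometry.Scheme.Hom.naturality]
  have h2 := AlgebraicGeometry.Scheme.Hom.congr_app e O
  simp only [AlgebraicGeometry.Scheme.Hom.comp_app, CategoryTheory.Category.assoc] at h2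
  rw [← CategoryTheory.Category.assoc, h2]
  erw [CategoryTheory.Category.assoc, CategoryTheory.Category.assoc, ← U.presheaf.map_comp]
  refine congrArg (CategoryTheory.CategoryStruct.comp _) ?_
  refine (congrArg (CategoryTheory.CategoryStruct.comp _) ((congrArg U.presheaf.map (Subsingleton.elim _ (CategoryTheory.CategoryStruct.id _))).trans (U.presheaf.map_id _))).trans ?_
  exact CategoryTheory.Category.comp_id _

open TopologicalSpace CategoryTheory AlgebraicGeometry in
open EGA2 in

/-- Let h : U → V be a surjective morphism of schemes such that the map of sheaves of rings O_V → h_*O_U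
is an isomorphism and the underlying space of V carries the quotient topology of that of U. Then for
every scheme W, composition with h is a bijection from the morphisms V → W onto the morphisms U → W
whose underlying map is constant on each fibre of h. -/
theorem result {U V : Scheme.{u}} (h : U ⟶ V) [Surjective h]
    [IsIso h.c] (hq : Topology.IsQuotientMap h.base) (W : Scheme.{u}) :
    (∀ v₁ v₂ : V ⟶ W, h ≫ v₁ = h ≫ v₂ → v₁ = v₂) ∧
      ∀ u : U ⟶ W, (∀ x y : U, h.base x = h.base y → u.base x = u.base y) → ∃ v : V ⟶ W, h ≫ v = u := by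
  refine ⟨hom_cancel h, fun u hu => ?_⟩
  let g : V → W := fun y => u.base (Function.surjInv h.surjective y)
  have hg : ∀ x, g (h.base x) = u.base x := fun x => hu _ _ (Function.surjInv_eq h.surjective _)
  have hgc : Continuous g := hq.continuous_iff.mpr (by
    rw [show g ∘ ⇑h.base = ⇑u.base from funext hg]; exact u.continuous)
  let b : V.toPresheafedSpace.carrier ⟶ W.toPresheafedSpace.carrier := TopCat.ofHom ⟨g, hgc⟩
  have e : u.base = h.base ≫ b := TopCat.hom_ext (ContinuousMap.ext fun x => (hg x).symm)
  let c' : W.presheaf ⟶ (TopCat.Presheaf.pushforward CommRingCat b).obj ((TopCat.Presheaf.pushforward CommRingCat h.base).obj U.presheaf) :=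
    u.c ≫ (TopCat.Presheaf.pushforwardEq e _).hom
  let vP : V.toPresheafedSpace ⟶ W.toPresheafedSpace := ⟨b, c' ≫ (TopCat.Presheaf.pushforward CommRingCat b).map (inv h.c)⟩
  have hcomp : h.toLRSHom.toHom ≫ vP = u.toLRSHom.toHom := by
    refine PresheafedSpace.ext _ _ e.symm ?_
    refine NatTrans.ext (funext fun O => ?_)
    show ((u.c.app O ≫ ((TopCat.Presheaf.pushforwardEq e U.presheaf).hom).app O ≫ (inv h.c).app ((Opens.map b).op.obj O)) ≫
      h.c.app ((Opens.map b).op.obj O)) ≫ U.presheaf.map _ = u.c.app O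
    have hk : (inv h.c).app ((Opens.map b).op.obj O) ≫ h.c.app ((Opens.map b).op.obj O) = 𝟙 _ := by
      rw [← NatTrans.comp_app, IsIso.inv_hom_id]; rfl
    simp only [Category.assoc]
    erw [reassoc_of% hk]
    simp [TopCat.Presheaf.pushforwardEq, eqToHom_map]
  have hloc : ∀ y, IsLocalHom (vP.stalkMap y).hom := by
    intro y
    obtain ⟨x, rfl⟩ := h.surjective y
    have h1 : IsLocalHom (u.toLRSHom.toHom.stalkMap x).hom := u.toLRSHom.prop x
    have h2 := PresheafedSpace.stalkMap.congr_hom _ _ hcomp x
    rw [PresheafedSpace.stalkMap.comp] at h2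
    have h3 : IsLocalHom (vP.stalkMap (h.base x) ≫ h.toLRSHom.toHom.stalkMap x).hom := by
      erw [h2, CommRingCat.hom_comp]
      refine @RingHom.isLocalHom_comp _ _ _ _ _ _ _ _ h1 ?_
      exact @isLocalHom_of_isIso _ _ _ (eqToIso (congrArg W.presheaf.stalk (hg x))).isIso_hom
    rw [CommRingCat.hom_comp] at h3
    exact isLocalHom_of_comp _ (h.toLRSHom.toHom.stalkMap x).hom
  exact ⟨⟨⟨vP, hloc⟩⟩, Scheme.Hom.ext' (LocallyRingedSpace.Hom.ext' hcomp)⟩

end Groth.Agent.S3567
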