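import Groth.Agent.L18.NormMixed
import Groth.Agent.L18.NormRelAmple
import Groth.Statements.S3577
-- import your own Groth.Agent.* helpers here

set_option autoImplicit false
universe u
open CategoryTheory CategoryTheory.Limits AlgebraicGeometry
open EGA2

namespace Groth.Agent.S3577

/-- Let Y be an affine scheme, X a Noetherian reduced scheme, f : X → Y a quasi-compact morphism and g :
X' → X a finite surjective morphism. Assume that at every point x of X either the local ring of X at
x is an integrally closed domain, or the direct image of the structure sheaf of X' is locally free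
on some open neighbourhood of x. Then an invertible O_X-module L is ample relative to f if and only
if its inverse image on X' is ample relative to f ∘ g. -/
theorem result {X X' Y : Scheme.{u}} [IsAffine Y]
    [IsNoetherian X] [IsReduced X] (f : X ⟶ Y) [QuasiCompact f] (g : X' ⟶ X) [IsFinite g] [Surjective g]
    (hW : ∀ x : X, (IsDomain (X.presheaf.stalk x) ∧ IsIntegrallyClosed (X.presheaf.stalk x)) ∨
      ∃ T : X.Opens, x ∈ T ∧ FlatMod.IsFinLocFree (((Coh.push g).obj (Coh.structureModule X')).restrict T.ι))
    (L : X.Modules) (hL : PicF.IsInvertible L) :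
    RelAmple.IsRelAmple f L ↔ RelAmple.IsRelAmple (g ≫ f) ((Scheme.Modules.pullback g).obj L) := by
  refine ⟨Groth.L18.Ample.isRelAmple_pullback_quasiAffine f g (Groth.L18.NormFree.isQuasiAffineHom_of_isAffineHom g),
    fun h => ?_⟩
  obtain ⟨d, ⟨N⟩⟩ := Groth.L18.NormMixed.exists_weakNorm (π := g) hW
  exact Groth.L18.Ample.isRelAmple_of_isAmple
    (Groth.L18.NormDesc.isAmple_of_weakNorm N hL (Groth.L18.Ample.isAmple_of_isRelAmple h))

end Groth.Agent.S3577
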