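import Groth.Statements.S4402
import Groth.Agent.L16.ProjSpace.QuotTwist

set_option autoImplicit false
universe u
open CategoryTheory CategoryTheory.Limits AlgebraicGeometry
open EGA2

namespace Groth.Agent.S4402

/-- Consider a ring S graded in nonnegative degrees, and assume its irrelevant ideal S_+ is generated by
a finite set of degree-one elements; put X = Proj S. Given any O_X-module F that is quasi-coherent
and of finite type, one can find n₀ so that whenever n ≥ n₀, some k admits an epimorphism onto F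
from the direct sum of k copies of O_X(-n). -/
theorem result {R A : Type u} [CommRing R] [CommRing A] [Algebra R A] (𝒜 : ℕ → Submodule R A) [GradedAlgebra 𝒜]
    (s : Finset A) (hs1 : ∀ f ∈ s, f ∈ 𝒜 1)
    (hs : (HomogeneousIdeal.irrelevant 𝒜).toIdeal = Ideal.span (s : Set A))
    (F : (Proj 𝒜).Modules) (hF : Coh.IsQCoh F) (hFT : CohB1.IsFT F) :
    ∃ n₀ : ℕ, ∀ n : ℕ, n₀ ≤ n →
      ∃ (k : ℕ) (p : (∐ fun _ : Fin k => Twist.twist 𝒜 (-(n : ℤ))) ⟶ F), Epi p := by
  haveI : Coh.IsQCoh F := hF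
  let G : ULift.{u} s → 𝒜 1 := fun f => ⟨f.down.1, hs1 _ f.down.2⟩
  have hcov : ∀ x : Proj 𝒜, ∃ i, x ∈ Proj.basicOpen 𝒜 (G i).1 := fun x => by
    obtain ⟨f, hf⟩ := TopologicalSpace.Opens.mem_iSup.1 ((Proj.iSup_basicOpen_eq_top 𝒜 (fun f : s => (f : A))
      (hs.trans_le (Ideal.span_mono fun f hf => ⟨⟨f, hf⟩, rfl⟩))).ge (TopologicalSpace.Opens.mem_top x))
    exact ⟨ULift.up f, hf⟩
  obtain ⟨n₀, h⟩ := Groth.L16.ProjTwist.exists_epi_neg_twists 𝒜 G Nat.one_pos hcov F hFT
  refine ⟨n₀, fun n hn => ?_⟩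
  have := h n hn
  rwa [mul_one] at this

end Groth.Agent.S4402
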