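import Groth.Statements.S3579
import Groth.Agent.S4402
import Groth.Agent.L00.TensorColim
import Groth.Agent.L16.ProjSpace.TwistMul

set_option autoImplicit false
universe u
open CategoryTheory CategoryTheory.Limits AlgebraicGeometry
open EGA2

namespace Groth.Agent.S3579

/-- Let S be a graded ring whose irrelevant ideal S_+ is generated by finitely many elements of degree
one, X = Proj S, and let F be an O_X-module that is quasi-coherent and of finite type. Then for some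
n₀ and all n ≥ n₀, the twist F(n) = F ⊗ O_X(n) is a quotient of a finite free module O_X^k (k
depending on n); in particular F(n) is generated by finitely many global sections. -/
theorem result {R A : Type u} [CommRing R] [CommRing A] [Algebra R A] (𝒜 : ℕ → Submodule R A) [GradedAlgebra 𝒜]
    (s : Finset A) (hs1 : ∀ f ∈ s, f ∈ 𝒜 1)
    (hs : (HomogeneousIdeal.irrelevant 𝒜).toIdeal = Ideal.span (s : Set A))
    (F : (Proj 𝒜).Modules) (hF : Coh.IsQCoh F) (hFT : CohB1.IsFT F) :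
    ∃ n₀ : ℕ, ∀ n : ℕ, n₀ ≤ n →
      ∃ (k : ℕ) (p : FlatMod.freeMod (Proj 𝒜) k ⟶ Twist.twistBy 𝒜 F (n : ℤ)), Epi p := by
  have hcov : ∀ x : Proj 𝒜, ∃ f : 𝒜 1, x ∈ Proj.basicOpen 𝒜 f.1 := fun x => by
    obtain ⟨f, hf⟩ := TopologicalSpace.Opens.mem_iSup.1 ((Proj.iSup_basicOpen_eq_top 𝒜 (fun f : s => (f : A))
      (hs.trans_le (Ideal.span_mono fun f hf => ⟨⟨f, hf⟩, rfl⟩))).ge (TopologicalSpace.Opens.mem_top x))
    exact ⟨⟨f.1, hs1 _ f.2⟩, hf⟩
  obtain ⟨n₀, h⟩ := Groth.Agent.S4402.result 𝒜 s hs1 hs F hF hFT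
  refine ⟨n₀, fun n hn => ?_⟩
  obtain ⟨k, p, hp⟩ := h n hn
  let T := Groth.L00.Tensor.tensorRightF (Twist.twist 𝒜 (n : ℤ))
  haveI : PreservesColimitsOfSize.{0, 0} T := preservesColimitsOfSize_shrink.{0, u, 0, u} _
  obtain ⟨e⟩ := Groth.L16.ProjTwist.nonempty_tensor_twist_iso_one 𝒜 hcov (-(n : ℤ)) (n : ℤ)
  obtain ⟨e₀⟩ := Groth.L16.ProjTwist.nonempty_twist_zero_iso 𝒜
  let w : FlatMod.freeMod (Proj 𝒜) k ≅ ∐ fun _ : Fin k => T.obj (Twist.twist 𝒜 (-(n : ℤ))) :=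
    Sigma.mapIso fun _ => (e ≪≫ eqToIso (by rw [neg_add_cancel]) ≪≫ e₀).symm
  exact ⟨k, w.hom ≫ (PreservesCoproduct.iso T fun _ : Fin k => Twist.twist 𝒜 (-(n : ℤ))).inv ≫ T.map p,
    @epi_comp _ _ _ _ _ _ inferInstance _ (@epi_comp _ _ _ _ _ _ inferInstance _ (preserves_epi_of_preservesColimit T p))⟩

end Groth.Agent.S3579
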