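import Groth.Agent.L18.ProjSpace
import Mathlib.AlgebraicGeometry.Morphisms.UnderlyingMap
import Groth.Statements.S3582
-- import your own Groth.Agent.* helpers here

set_option autoImplicit false
universe u
open CategoryTheory CategoryTheory.Limits AlgebraicGeometry
open EGA2

namespace Groth.Agent.S3582

/-- For every scheme Y and every r ≥ 0 the structure morphism from projective r-space over Y to Y is
surjective. -/
theorem result (r : ℕ) (Y : Scheme.{u}) :
    Surjective (CohB1.ProjSpaceOver.toBase r Y) := by
  obtain ⟨s, hs⟩ := Groth.L18.PS.toSpec_surjective r (ULift.{u} ℤ)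
  refine ⟨fun y => ?_⟩
  let t : Y ⟶ CohB1.ProjSpaceOver r Y :=
    pullback.lift (specULiftZIsTerminal.from Y ≫ s) (𝟙 Y) (by rw [Category.assoc, hs, Category.comp_id, Category.id_comp])
  refine ⟨t y, ?_⟩
  rw [← Scheme.Hom.comp_apply]
  have e : t ≫ CohB1.ProjSpaceOver.toBase r Y = 𝟙 Y := pullback.lift_snd _ _ _
  rw [e]
  rfl

end Groth.Agent.S3582
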