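import Groth.Agent.L18.Dehom
import Groth.Statements.S3593
-- import your own Groth.Agent.* helpers here

set_option autoImplicit false
universe u
open CategoryTheory CategoryTheory.Limits AlgebraicGeometry
open EGA2

namespace Groth.Agent.S3593

/-- Let S be a graded R-algebra, Ŝ a graded R-algebra with a graded homomorphism φ : S → Ŝ making Ŝ an
S-algebra, and z an element of Ŝ of degree one such that the S-algebra map S[X] → Ŝ, X ↦ z, is
bijective (so Ŝ = S[z] with z in degree one, the graded ring of the projective cone of S). Then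
there is a ring isomorphism S ≅ Ŝ_(z) onto the degree-zero localization at z, sending a homogeneous
a of degree n to φ(a)/z^n. (This is the isomorphism that identifies the affine cone Spec S with the
open D_+(z) of the projective cone Proj Ŝ; that identification itself is not asserted here.) -/
theorem result {R A : Type u} [CommRing R] [CommRing A] [Algebra R A] (𝒜 : ℕ → Submodule R A) [GradedAlgebra 𝒜]
    {B : Type u} [CommRing B] [Algebra R B] (ℬ : ℕ → Submodule R B) [GradedAlgebra ℬ]
    [Algebra A B] [IsScalarTower R A B] (φ : 𝒜 →+*ᵍ ℬ) (hφ : ∀ a : A, φ a = algebraMap A B a)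
    (z : B) (hz : z ∈ ℬ 1) (hhat : Function.Bijective (Polynomial.aeval (R := A) z)) :
    ∃ θ : A ≃+* HomogeneousLocalization.Away ℬ z,
      ∀ (n : ℕ) (a : A), a ∈ 𝒜 n → (θ a).val = Localization.mk (φ a) ⟨z ^ n, pow_mem (Submonoid.mem_powers z) n⟩ := by
  refine ⟨RingEquiv.ofBijective ((Groth.L18.dehom ℬ hz).comp (algebraMap A B)) ⟨?_, ?_⟩, fun n a ha => ?_⟩
  · rw [injective_iff_map_eq_zero]
    intro a ha
    have h : algebraMap A B a ∈ RingHom.ker (Groth.L18.dehom ℬ hz) := ha
    rw [Groth.L18.ker_dehom, Ideal.mem_span_singleton] at h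
    obtain ⟨c, hc⟩ := h
    obtain ⟨p, rfl⟩ := hhat.2 c
    have h' : Polynomial.aeval z (Polynomial.C a) = Polynomial.aeval z ((Polynomial.X - 1) * p) := by
      rw [Polynomial.aeval_C, hc, map_mul, map_sub, Polynomial.aeval_X, map_one]
    have h'' := congrArg (Polynomial.eval 1) (hhat.1 h')
    simpa using h''
  · intro y
    obtain ⟨b, rfl⟩ := Groth.L18.dehom_surjective ℬ hz y
    obtain ⟨p, rfl⟩ := hhat.2 b
    refine ⟨p.eval 1, ?_⟩
    show Groth.L18.dehom ℬ hz (algebraMap A B (p.eval 1)) = Groth.L18.dehom ℬ hz (Polynomial.aeval z p)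
    rw [← sub_eq_zero, ← map_sub, ← RingHom.mem_ker, Groth.L18.ker_dehom, Ideal.mem_span_singleton]
    have hd : (Polynomial.X - Polynomial.C (1 : A)) ∣ Polynomial.C (p.eval 1) - p := by
      rw [← dvd_neg, neg_sub]; exact Polynomial.X_sub_C_dvd_sub_C_eval
    have := map_dvd (Polynomial.aeval z) hd
    rwa [map_sub, map_sub, Polynomial.aeval_X, Polynomial.aeval_C, Polynomial.aeval_C, map_one] at this
  · show (Groth.L18.dehom ℬ hz (algebraMap A B a)).val = _
    rw [← hφ, Groth.L18.dehom_val ℬ hz (GradedFunLike.map_mem φ ha)]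

end Groth.Agent.S3593
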