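import Groth.Agent.L18.ProjMap
import Groth.Statements.S3594
-- import your own Groth.Agent.* helpers here

set_option autoImplicit false
universe u
open CategoryTheory CategoryTheory.Limits AlgebraicGeometry
open EGA2

namespace Groth.Agent.S3594

/-- The closed immersion at infinity of a projective cone: let S be a graded R-algebra and Ŝ a graded
R-algebra over S such that the structure map φ : S → Ŝ is a graded homomorphism and Ŝ = S[z] is the
polynomial algebra on an element z of degree one (evaluation at z is a bijection S[T] → Ŝ); let ψ :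
Ŝ → S be a graded homomorphism retracting φ and killing z, with S₊ contained in the ideal generated
by ψ(Ŝ₊) so that j = Proj(ψ) : X = Proj S → Ĉ = Proj Ŝ is defined (it is the canonical closed
immersion). Then the image of j is exactly the complement of the open subset D₊(z) of Proj Ŝ (which
is the affine cone C = Spec S). -/
theorem result {R A : Type u} [CommRing R] [CommRing A] [Algebra R A] (𝒜 : ℕ → Submodule R A) [GradedAlgebra 𝒜]
    {B : Type u} [CommRing B] [Algebra R B] (ℬ : ℕ → Submodule R B) [GradedAlgebra ℬ]
    [Algebra A B] [IsScalarTower R A B] (φ : 𝒜 →+*ᵍ ℬ) (hφ : ∀ a : A, φ a = algebraMap A B a)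
    (z : B) (hz : z ∈ ℬ 1) (hhat : Function.Bijective (Polynomial.aeval (R := A) z))
    (ψ : ℬ →+*ᵍ 𝒜) (hψφ : ∀ a : A, ψ (φ a) = a) (hψz : ψ z = 0)
    (hψ : HomogeneousIdeal.irrelevant 𝒜 ≤ (HomogeneousIdeal.irrelevant ℬ).map ψ) :
    Set.range (Proj.map ψ hψ).base = ((Proj.basicOpen ℬ z : Set (Proj ℬ)))ᶜ := by
  have hdecomp : ∀ b : B, b - φ (ψ b) ∈ Ideal.span {z} := by
    intro b
    obtain ⟨P, rfl⟩ := hhat.2 b
    induction P using Polynomial.induction_on with
    | C a => simp [← hφ, hψφ]
    | add p q hp hq =>
      rw [map_add, map_add, map_add, add_sub_add_comm]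
      exact add_mem hp hq
    | monomial n a _ =>
      simp only [map_mul, map_pow, Polynomial.aeval_C, Polynomial.aeval_X, hψz]
      rw [map_zero, zero_pow (Nat.succ_ne_zero n), mul_zero, sub_zero]
      exact Ideal.mul_mem_left _ _ (Ideal.pow_mem_of_mem _ (Ideal.mem_span_singleton_self z) _ n.succ_pos)
  ext x
  constructor
  · rintro ⟨y, rfl⟩ hy
    apply hy
    show ψ z ∈ y.asHomogeneousIdeal
    rw [hψz]
    exact zero_mem _
  · intro hx
    have hzx : z ∈ x.asHomogeneousIdeal.toIdeal := by
      by_contra h
      exact hx h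
    have key : ∀ b : B, φ (ψ b) ∈ x.asHomogeneousIdeal.toIdeal ↔ b ∈ x.asHomogeneousIdeal.toIdeal := by
      intro b
      have h1 : b - φ (ψ b) ∈ x.asHomogeneousIdeal.toIdeal :=
        (Ideal.span_singleton_le_iff_mem _).mpr hzx (hdecomp b)
      constructor
      · intro h; simpa using add_mem h1 h
      · intro h; simpa using sub_mem h h1
    refine ⟨⟨x.asHomogeneousIdeal.comap φ, x.isPrime.comap φ.toRingHom, ?_⟩, ?_⟩
    · intro hle
      apply x.not_irrelevant_le
      intro b hb
      refine (key b).mp (hle ?_)
      rw [HomogeneousIdeal.mem_irrelevant_iff, GradedRing.proj_apply, ← ψ.map_directSumDecompose,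
        ← GradedRing.proj_apply, (HomogeneousIdeal.mem_irrelevant_iff ℬ b).mp hb, map_zero]
    · apply ProjectiveSpectrum.ext
      apply HomogeneousIdeal.ext
      ext b
      exact key b

end Groth.Agent.S3594
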