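import Groth.Statements.S3599
import Groth.Agent.L06.FiniteModel.Norm
import Groth.Agent.L18.NormRelAmple


set_option autoImplicit false
set_option maxSynthPendingDepth 3
set_option linter.style.haveILetI false
universe u
open CategoryTheory CategoryTheory.Limits AlgebraicGeometry
open EGA2

namespace Groth.Agent.S3599

/-- Let Y be an affine scheme, X a Noetherian reduced scheme, f : X → Y a quasi-compact morphism, g : X'
→ X a finite surjective morphism, and W an open subset of X such that at every point x of W either
the local ring of X is an integrally closed domain or the direct image of the structure sheaf of X'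
is locally free on some open neighbourhood of x inside W. Then there are a reduced scheme Z and a
finite birational morphism h : Z → X (birational in the sense that h is an isomorphism over some
dense open of X whose inverse image is dense in Z) which is an isomorphism over W, such that for
every invertible O_X-module L whose inverse image on X' is ample relative to f ∘ g, the inverse
image of L on Z is ample relative to f ∘ h. -/
theorem result {X X' Y : Scheme.{u}} [IsAffine Y]
    [IsNoetherian X] [IsReduced X] (f : X ⟶ Y) [QuasiCompact f] (g : X' ⟶ X) [IsFinite g] [Surjective g]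
    (W : X.Opens)
    (hW : ∀ x ∈ W, (IsDomain (X.presheaf.stalk x) ∧ IsIntegrallyClosed (X.presheaf.stalk x)) ∨
      ∃ T : X.Opens, x ∈ T ∧ T ≤ W ∧ FlatMod.IsFinLocFree (((Coh.push g).obj (Coh.structureModule X')).restrict T.ι)) :
    ∃ (Z : Scheme.{u}) (_ : IsReduced Z) (h : Z ⟶ X) (_ : IsFinite h),
      IsIso (h ∣_ W) ∧
        (∃ V : X.Opens, Dense (V : Set X) ∧ Dense ((h ⁻¹ᵁ V : Z.Opens) : Set Z) ∧ IsIso (h ∣_ V)) ∧
        ∀ L : X.Modules, PicF.IsInvertible L →
          RelAmple.IsRelAmple (g ≫ f) ((Scheme.Modules.pullback g).obj L) →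
            RelAmple.IsRelAmple (h ≫ f) ((Scheme.Modules.pullback h).obj L) := by
  obtain ⟨C⟩ := Groth.L06.FiniteModel.exists_charts g
  haveI := C.finite_h
  refine ⟨C.Z, C.isReduced_Z, C.h, C.finite_h, C.isIso_restrict W fun y hy => ?_,
    ⟨C.Vt, C.dense_Vt, C.dense_preimage, C.isIso_Vt⟩, fun L hL hamp => ?_⟩
  · rcases hW y hy with h | ⟨T, hyT, -, hT⟩
    · exact Or.inl h
    · obtain ⟨V, n, c, hyV, hc⟩ := Groth.L18.NormMixed.exists_goodBasis_of_restrict hyT hT
      exact Or.inr ⟨V, n, c, hyV, hc⟩
  obtain ⟨d, ⟨N⟩⟩ := C.exists_weakNorm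
  have h1 := Groth.L18.Ample.isAmple_of_isRelAmple (Groth.L18.Ample.isRelAmple_pullback_quasiAffine (g ≫ f) C.pr
    (Groth.L18.NormFree.isQuasiAffineHom_of_isAffineHom C.pr) hamp)
  refine Groth.L18.Ample.isRelAmple_of_isAmple (Groth.L18.NormDesc.isAmple_of_weakNorm N
    (Groth.L18.Ample.isInvertible_pullback _ hL) (Groth.L18.Ample.isAmple_of_iso ?_ h1))
  exact (Scheme.Modules.pullbackComp C.pr g).app L ≪≫
    (Scheme.Modules.pullbackCongr pullback.condition).app L ≪≫
    ((Scheme.Modules.pullbackComp C.π C.h).app L).symm

end Groth.Agent.S3599
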