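import Groth.Statements.S3602
import Groth.Agent.L29.BCAdj.AdjBC
import Groth.Agent.L29.BC.TorGlobal
import Groth.Agent.S3527

set_option autoImplicit false
set_option backward.defeqAttrib.useBackward true
set_option backward.isDefEq.respectTransparency false
set_option backward.isDefEq.respectTransparency.types false
set_option backward.isDefEq.respectTransparency false
universe u
open CategoryTheory CategoryTheory.Limits AlgebraicGeometry
attribute [local instance] HasDerivedCategory.standard
open Dual3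

namespace Groth.Agent.S3602

open Groth.L00 Groth.L29 Groth.L29.DC

/-- In the cases g flat or f flat (both are Tor independent squares). Consider a cartesian square of
quasi-compact quasi-separated schemes X' = Y' ×_Y X with maps f : X → Y, g : Y' → Y, f' : X' → Y',
g' : X' → X. Let the derived direct images on D_QCoh of all four maps be given (assumed to exist and
to preserve quasi-coherence of cohomology), with right adjoints a of Rf_* and a' of Rf'_*. Then
there is an identification e : Rf_* ∘ Rg'_* ≅ Rg_* ∘ Rf'_* of the two composite derived direct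
images for which the induced transformation ξ : Rg'_* ∘ a' → a ∘ Rg_* (adjoint to Rf_* Rg'_* a' ≅
Rg_* Rf'_* a' → Rg_*) is an isomorphism on every object. -/
theorem result (X Y X' Y' : Scheme.{u}) [CompactSpace X] [QuasiSeparatedSpace X] [CompactSpace Y] [QuasiSeparatedSpace Y] [CompactSpace X'] [QuasiSeparatedSpace X'] [CompactSpace Y'] [QuasiSeparatedSpace Y'] (f : X ⟶ Y) (g : Y' ⟶ Y) (f' : X' ⟶ Y') (g' : X' ⟶ X) (hsq : IsPullback g' f' f g) (hflat : Flat f ∨ Flat g) [DCoh.HasRpush f] [DCoh.HasRpush f'] [DCoh.HasRpush g] [DCoh.HasRpush g'] (hf : DCoh.RpushPreservesQCoh f) (hf' : DCoh.RpushPreservesQCoh f') (hg : DCoh.RpushPreservesQCoh g) (hg' : DCoh.RpushPreservesQCoh g') (a : DCoh.DQCoh Y ⥤ DCoh.DQCoh X) (a' : DCoh.DQCoh Y' ⥤ DCoh.DQCoh X') (adj : DCoh.RpushQ f hf ⊣ a) (adj' : DCoh.RpushQ f' hf' ⊣ a') : ∃ e : (DCoh.RpushQ g' hg' ⋙ DCoh.RpushQ f hf ≅ DCoh.RpushQ f' hf' ⋙ DCoh.RpushQ g hg), ∀ M : DCoh.DQCoh Y', IsIso (Dual3.xi adj adj' e M) := by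
  haveI := fun {A B : Scheme.{u}} (k : A ⟶ B) => KFlat.hasLpull k
  haveI : QuasiCompact f := inferInstance
  haveI : QuasiSeparated f := inferInstance
  have hBC : BC.BC hsq.w := by
    rcases hflat with hF | hF
    · haveI := hF
      refine BC.BC_of_torIndependent hsq fun U hU U' hU' hle V hV hVU i hi => ?_
      letI := (g.appLE U U' hle).hom.toAlgebra
      letI := (f.appLE U V hVU).hom.toAlgebra
      haveI : Module.Flat Γ(Y, U) Γ(X, V) :=
        RingHom.flat_algebraMap_iff.1 (HasRingHomProperty.appLE (P := @Flat) f hF ⟨U, hU⟩ ⟨V, hV⟩ hVU)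
      exact (Groth.Agent.S3527.result Γ(Y, U) Γ(X, V) Γ(Y', U') i hi).2
    · haveI := hF
      exact BC.BC_flat hsq
  have hL : ∀ {A B : Scheme.{u}} (j : A ⟶ B), Dual3.LpullPreservesQCoh j := fun j K hK => isQCohD_Lpull j hK
  exact ⟨BCAdj.eQ hf hf' hg hg' hsq.w, fun M => BCAdj.Mate.isIso_xi adj adj' _
    (BCAdj.adjQ g hg (hL g)) (BCAdj.adjQ g' hg' (hL g'))
    (BCAdj.isIso_bcQ (hf := hf) (hf' := hf') _ _ hBC) M⟩

end Groth.Agent.S3602
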