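import Groth.Statements.S3641
import Groth.Agent.Lead.ShriekIndep.Indep
import Groth.Agent.Lead.ShriekIndep.FlatBC
import Groth.Agent.L10.ShriekLoc.Compact


set_option autoImplicit false
universe u
open CategoryTheory CategoryTheory.Limits AlgebraicGeometry
attribute [local instance] HasDerivedCategory.standard
open Dual3

namespace Groth.Agent.S3641

/-- Let S be a Noetherian scheme and X' = Y' ×_Y X a cartesian square of schemes separated and of finite
type over S (maps f : X → Y, g : Y' → Y flat, f' : X' → Y', g' : X' → X, all over S). Compute f^!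
and f'^! through compactifications of f and f' with right adjoints a, a' of the proper parts
(derived direct images assumed to exist and preserve quasi-coherence; restrictions to opens exact)
and let Lg^*, Lg'^* be the derived pullbacks (assumed to exist, Lg^* preserving quasi-coherence).
Then Lg'^* ∘ f^! ≅ f'^! ∘ Lg^* as functors on D^+_QCoh(O_Y). -/
theorem result (S X Y X' Y' : Scheme.{u}) [IsNoetherian S] (p : X ⟶ S) (q : Y ⟶ S) (p' : X' ⟶ S) (q' : Y' ⟶ S) [Dual3.IsSepFT p] [Dual3.IsSepFT q] [Dual3.IsSepFT p'] [Dual3.IsSepFT q'] (f : X ⟶ Y) (g : Y' ⟶ Y) (f' : X' ⟶ Y') (g' : X' ⟶ X) (w : f ≫ q = p) (wg : g ≫ q = q') (w' : f' ≫ q' = p') (hsq : IsPullback g' f' f g) [Flat g] (c : DEt.Compactification f) (c' : DEt.Compactification f') [DCoh.HasRpush c.fbar] [DCoh.HasRpush c'.fbar] (hc : DCoh.RpushPreservesQCoh c.fbar) (hc' : DCoh.RpushPreservesQCoh c'.fbar) (a : DCoh.DQCoh Y ⥤ DCoh.DQCoh c.Xbar) (a' : DCoh.DQCoh Y' ⥤ DCoh.DQCoh c'.Xbar)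 (adj : DCoh.RpushQ c.fbar hc ⊣ a) (adj' : DCoh.RpushQ c'.fbar hc' ⊣ a') [∀ (U V : Scheme.{u}) (j : U ⟶ V) [IsOpenImmersion j], PreservesFiniteLimits (Scheme.Modules.restrictFunctor j)] [DCoh.HasLpull g] [DCoh.HasLpull g'] (hLg : Dual3.LpullPreservesQCoh g) : Nonempty (Dual3.bddι Y ⋙ Dual3.shriekC c a ⋙ DCoh.Lpull g' ≅ Dual3.bddι Y ⋙ Dual3.LpullQ g hLg ⋙ Dual3.shriekC c' a') := by
  open Groth.L29 Groth.L29.DC Groth.L29.BCAdj Groth.L10.ShriekLoc Groth.Lead.ShriekIndep in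
  haveI := fun {A B : Scheme.{u}} (k : A ⟶ B) => RpushQC.hasRpush k
  haveI := fun {A B : Scheme.{u}} (k : A ⟶ B) => Groth.L00.KFlat.hasLpull k
  haveI : IsNoetherian Y := isNoetherian_of_sepFT q
  haveI : IsNoetherian X := isNoetherian_of_sepFT p
  haveI : IsNoetherian Y' := isNoetherian_of_sepFT q'
  haveI : IsNoetherian X' := isNoetherian_of_sepFT p'
  haveI : IsLocallyNoetherian c.Xbar := LocallyOfFiniteType.isLocallyNoetherian c.fbar
  haveI : CompactSpace c.Xbar := QuasiCompact.compactSpace_of_compactSpace c.fbar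
  haveI : IsNoetherian c.Xbar := {}
  let gb := pullback.fst c.fbar g
  let fb := pullback.snd c.fbar g
  haveI : IsProper fb := MorphismProperty.pullback_snd _ _ inferInstance
  haveI : CompactSpace (pullback c.fbar g : Scheme.{u}) := QuasiCompact.compactSpace_of_compactSpace fb
  haveI : QuasiSeparatedSpace (pullback c.fbar g : Scheme.{u}) := quasiSeparatedSpace_of_quasiSeparated fb
  have hw : (g' ≫ c.j) ≫ c.fbar = f' ≫ g := by rw [Category.assoc, c.fac, hsq.w]
  let j' : X' ⟶ pullback c.fbar g := pullback.lift (g' ≫ c.j) f' hw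
  have hh : IsPullback g' (j' ≫ fb) (c.j ≫ c.fbar) g := by
    rw [pullback.lift_snd, c.fac]; exact hsq
  have hsq' : IsPullback g' j' c.j gb :=
    IsPullback.of_bot hh (pullback.lift_fst _ _ _).symm (IsPullback.of_hasPullback c.fbar g)
  haveI : IsOpenImmersion j' := MorphismProperty.of_isPullback hsq' inferInstance
  let c₀ : DEt.Compactification f' := ⟨_, j', fb, inferInstance, inferInstance, pullback.lift_snd _ _ _⟩
  obtain ⟨a₀, ⟨adj₀⟩⟩ := exists_adj c₀.fbar
  haveI : PreservesFiniteLimits (Scheme.Modules.restrictFunctor c₀.j) := inferInstance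
  obtain ⟨i⟩ := nonempty_indep c' c₀ adj' adj₀
  obtain ⟨bc⟩ := nonempty_flatBC (IsPullback.of_hasPullback c.fbar g) adj adj₀
  obtain ⟨l₁⟩ := nonempty_Lpull_restrictD c.j
  obtain ⟨l₂⟩ := nonempty_Lpull_restrictD j'
  obtain ⟨k₁⟩ := Groth.L10.FMBC.nonempty_lpull_comp' g' c.j (rfl : g' ≫ c.j = g' ≫ c.j)
  obtain ⟨k₂⟩ := Groth.L10.FMBC.nonempty_lpull_comp' j' gb (pullback.lift_fst (g' ≫ c.j) f' hw)
  have hb : ∀ K : (Dual3.IsBddBelowQ Y).FullSubcategory, Dual3.IsBddBelowQ Y' ((Dual3.LpullQ g hLg).obj K.obj) :=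
    fun K => by
      obtain ⟨n, hn⟩ := K.property
      exact ⟨n, isGE_Lpull_flat g K.obj.obj n hn⟩
  let G : (Dual3.IsBddBelowQ Y).FullSubcategory ⥤ (Dual3.IsBddBelowQ Y').FullSubcategory :=
    ObjectProperty.lift _ (Dual3.bddι Y ⋙ Dual3.LpullQ g hLg) hb
  exact ⟨Functor.isoWhiskerLeft (Dual3.bddι Y ⋙ a ⋙ ObjectProperty.ι _)
      (Functor.isoWhiskerRight l₁.symm (DCoh.Lpull g') ≪≫ k₁ ≪≫ k₂.symm) ≪≫
    Functor.isoWhiskerRight bc (DCoh.Lpull j') ≪≫
    Functor.isoWhiskerLeft (G ⋙ Dual3.bddι Y' ⋙ a₀ ⋙ ObjectProperty.ι _) l₂ ≪≫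
    Functor.isoWhiskerLeft G i.symm⟩


end Groth.Agent.S3641
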