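import Groth.Statements.S3607
import Groth.Agent.S3641
import Groth.Agent.Lead.AffLine.Sigma
import Groth.Agent.Lead.AffLine.Square
import Groth.Agent.L10.ShriekLoc.Compact


set_option autoImplicit false
universe u
open CategoryTheory CategoryTheory.Limits AlgebraicGeometry
attribute [local instance] HasDerivedCategory.standard
open Dual3

namespace Groth.Agent.S3607

/-- Let S be a Noetherian scheme, Y separated and of finite type over S, and f : A^1_Y → Y the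
projection from the affine line. Compute f^! through any compactification f = j ∘ p (j an open
immersion, p proper, Rp_* on D_QCoh assumed to exist and to preserve quasi-coherence, a a right
adjoint of it, restriction to the open assumed exact) and let Lf^* be the derived pullback (assumed
to exist). Then there is an isomorphism of functors f^! ≅ Lf^*(-)[1] on D^+_QCoh(O_Y) (not asserted
to be canonical). -/
theorem result (S Y : Scheme.{u}) [IsNoetherian S] (q : Y ⟶ S) [Dual3.IsSepFT q] (c : DEt.Compactification (AffineSpace (ULift.{u} (Fin 1)) Y ↘ Y)) [DCoh.HasRpush c.fbar] (hc : DCoh.RpushPreservesQCoh c.fbar) (a : DCoh.DQCoh Y ⥤ DCoh.DQCoh c.Xbar) (adj : DCoh.RpushQ c.fbar hc ⊣ a) [PreservesFiniteLimits (Scheme.Modules.restrictFunctor c.j)] [DCoh.HasLpull (AffineSpace (ULift.{u} (Fin 1)) Y ↘ Y)] : Nonempty (Dual3.bddι Y ⋙ Dual3.shriekC c a ≅ Dual3.bddι Y ⋙ ObjectProperty.ι _ ⋙ DCoh.Lpull (AffineSpace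 (ULift.{u} (Fin 1)) Y ↘ Y) ⋙ shiftFunctor (DCoh.D (AffineSpace (ULift.{u} (Fin 1)) Y)) (1 : ℤ)) := by
  open Groth.L29 Groth.L29.DC Groth.L29.BCAdj Groth.L10.ShriekLoc Groth.Lead.ShriekIndep Groth.Lead.AffLine in
  haveI := fun {A B : Scheme.{u}} (k : A ⟶ B) => RpushQC.hasRpush k
  haveI := fun {A B : Scheme.{u}} (k : A ⟶ B) => Groth.L00.KFlat.hasLpull k
  haveI := fun {A : Scheme.{u}} (E : CochainComplex A.Modules ℤ) => Groth.L00.KFlat.hasLTensorCx E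
  let X : Scheme.{u} := A1 Y
  let f : X ⟶ Y := π Y
  let P : Scheme.{u} := A1 (A1 Y)
  let p₁ : P ⟶ X := π (A1 Y)
  let q₂ : P ⟶ X := p₂ Y
  let s : X ⟶ P := σ (A1 Y)
  haveI : Smooth f := inferInstanceAs (Smooth (π Y))
  haveI : Smooth p₁ := inferInstanceAs (Smooth (π (A1 Y)))
  haveI : QuasiCompact f := inferInstanceAs (QuasiCompact (π Y))
  haveI : IsSeparated f := inferInstanceAs (IsSeparated (π Y))
  haveI : QuasiCompact p₁ := inferInstanceAs (QuasiCompact (π (A1 Y)))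
  haveI : IsSeparated p₁ := inferInstanceAs (IsSeparated (π (A1 Y)))
  haveI : IsNoetherian Y := isNoetherian_of_sepFT q
  haveI : Dual3.IsSepFT (f ≫ q) := ⟨inferInstance, inferInstance, inferInstance⟩
  haveI : IsNoetherian X := isNoetherian_of_sepFT (f ≫ q)
  haveI : Dual3.IsSepFT (p₁ ≫ f ≫ q) := ⟨inferInstance, inferInstance, inferInstance⟩
  haveI : IsNoetherian P := isNoetherian_of_sepFT (p₁ ≫ f ≫ q)
  have hsq : IsPullback p₁ q₂ f f := isPullback_p₂ Y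
  have hs₁ : s ≫ p₁ = 𝟙 X := σ_π (A1 Y)
  have hs₂ : s ≫ q₂ = 𝟙 X := σ_p₂ Y
  -- a compactification of the second projection
  let fb := pullback.snd c.fbar f
  haveI : IsProper fb := MorphismProperty.pullback_snd _ _ inferInstance
  have hfac : c.j ≫ c.fbar = f := c.fac
  let j' : P ⟶ pullback c.fbar f := pullback.lift (p₁ ≫ c.j) q₂ (by
    rw [Category.assoc, hfac]; exact hsq.w)
  have hh : IsPullback p₁ (j' ≫ fb) (c.j ≫ c.fbar) f := by
    rw [pullback.lift_snd, hfac]; exact hsq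
  have hsq' : IsPullback p₁ j' c.j (pullback.fst c.fbar f) :=
    IsPullback.of_bot hh (pullback.lift_fst _ _ _).symm (IsPullback.of_hasPullback c.fbar f)
  haveI : IsOpenImmersion j' := MorphismProperty.of_isPullback hsq' inferInstance
  let c₂ : DEt.Compactification q₂ := ⟨_, j', fb, inferInstance, inferInstance, pullback.lift_snd _ _ _⟩
  obtain ⟨a₂, ⟨adj₂⟩⟩ := exists_adj c₂.fbar
  obtain ⟨F⟩ := Groth.Agent.S3641.result S X Y P X (f ≫ q) q (p₁ ≫ f ≫ q) (f ≫ q) f f q₂ p₁ rfl rfl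
    (by rw [← Category.assoc, ← Category.assoc, hsq.w])
    hsq c c₂ hc (isQCohD_push c₂.fbar) a a₂ adj adj₂ (isQCohD_pull f)
  -- the section
  haveI : IsClosedImmersion s := inferInstanceAs (IsClosedImmersion (σ (A1 Y)))
  let cΔ : DEt.Compactification s := ⟨X, 𝟙 X, s, inferInstance, inferInstance, Category.id_comp _⟩
  let c₁ : DEt.Compactification (s ≫ q₂) :=
    ⟨X, 𝟙 X, 𝟙 X, inferInstance, inferInstance, by rw [hs₂, Category.id_comp]⟩
  obtain ⟨aΔ, ⟨adjΔ⟩⟩ := exists_adj cΔ.fbar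
  obtain ⟨adj₁⟩ := nonempty_adj_id X (isQCohD_push (𝟙 X))
  have hres : ∀ K : DCoh.D c₂.Xbar, DCoh.IsQCohD K → DCoh.IsQCohD ((DCoh.restrictD c₂.j).obj K) :=
    fun K hK => isQCohD_restrictD c₂.j hK
  obtain ⟨C⟩ := nonempty_comp cΔ c₂ c₁ adjΔ adj₂ adj₁ hres
  -- the upper shriek of the section
  let O : DCoh.DQCoh P :=
    ⟨DCoh.inD P (Coh.structureModule P), Groth.Lead.LTMod.isQCohD_inD_of (StMod.isQCoh_structureModule P)⟩
  let O1 : DCoh.DQCoh P :=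
    ⟨(DCoh.inD P (Coh.structureModule P))⟦(1 : ℤ)⟧, DC.Gen.isQCohD_shift O.property 1⟩
  obtain ⟨e₁⟩ := nonempty_shift_one (A1 Y) (isQCohD_push cΔ.fbar) aΔ adjΔ O1 (Iso.refl _)
  let E := DerivedCategory.Q.objPreimage (aΔ.obj O).obj
  obtain ⟨b⟩ := Groth.Agent.S3676.result X P s (isPerfectMor_σ (A1 Y)) (isQCohD_push cΔ.fbar) aΔ adjΔ O
    ⟨Iso.refl _⟩ E ⟨DerivedCategory.Q.objObjPreimageIso _⟩
  obtain ⟨p⟩ := nonempty_Lpull_OD_shift s 1
  obtain ⟨r⟩ := nonempty_LTensor_OD_shift E 1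
  let eE : DCoh.toD X E ≅ (DCoh.toD X (RHom.O0 X))⟦(-1 : ℤ)⟧ :=
    (shiftShiftNeg (DCoh.toD X E) (1 : ℤ)).symm ≪≫ (shiftFunctor _ (-1 : ℤ)).mapIso
      (r.symm ≪≫ (DCoh.LTensorCx E).mapIso p.symm ≪≫ (b.app O1).symm ≪≫ e₁ ≪≫
        ((SingleFunctors.evaluation _ _ 0).mapIso
          (DerivedCategory.singleFunctorsPostcompQIso X.Modules)).app (Coh.structureModule X))
  obtain ⟨t⟩ := nonempty_lt_shift E (-1) eE
  -- identities
  obtain ⟨lid⟩ := nonempty_Lpull_restrictD (𝟙 X)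
  obtain ⟨li⟩ := Groth.L10.FMDiag.nonempty_Lpull_id (X := X)
  obtain ⟨lj⟩ := nonempty_Lpull_restrictD c₂.j
  obtain ⟨k⟩ := Groth.L10.FMBC.nonempty_lpull_comp' s p₁ hs₁
  have hb : ∀ K : (Dual3.IsBddBelowQ Y).FullSubcategory,
      Dual3.IsBddBelowQ X ((Dual3.LpullQ f (isQCohD_pull f)).obj K.obj) :=
    fun K => by
      obtain ⟨n, hn⟩ := K.property
      exact ⟨n, isGE_Lpull_flat f K.obj.obj n hn⟩
  let G : (Dual3.IsBddBelowQ Y).FullSubcategory ⥤ (Dual3.IsBddBelowQ X).FullSubcategory :=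
    ObjectProperty.lift _ (Dual3.bddι Y ⋙ Dual3.LpullQ f (isQCohD_pull f)) hb
  let SQ : DCoh.DQCoh X ⥤ DCoh.DQCoh P :=
    ObjectProperty.lift DCoh.IsQCohD (Dual3.shriekC c₂ a₂) (fun K => hres (a₂.obj K).obj (a₂.obj K).property)
  let M : Dual3.bddι Y ⋙ ObjectProperty.ι _ ⋙ DCoh.Lpull f ≅
      (Dual3.bddι Y ⋙ Dual3.shriekC c a) ⋙ shiftFunctor (DCoh.D X) (-1 : ℤ) :=
    Functor.isoWhiskerLeft (G ⋙ Dual3.bddι X ⋙ ObjectProperty.ι _) (lid.symm ≪≫ li).symm ≪≫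
      Functor.isoWhiskerLeft G C ≪≫
      Functor.isoWhiskerLeft (G ⋙ Dual3.bddι X ⋙ SQ ⋙ aΔ ⋙ ObjectProperty.ι _) (lid.symm ≪≫ li) ≪≫
      Functor.isoWhiskerLeft (G ⋙ Dual3.bddι X ⋙ SQ)
        (b ≪≫ Functor.isoWhiskerLeft (ObjectProperty.ι _ ⋙ DCoh.Lpull s) t) ≪≫
      Functor.isoWhiskerRight F.symm (DCoh.Lpull s ⋙ shiftFunctor (DCoh.D X) (-1 : ℤ)) ≪≫
      Functor.isoWhiskerLeft (Dual3.bddι Y ⋙ Dual3.shriekC c a)
        (Functor.isoWhiskerRight (k ≪≫ li) (shiftFunctor (DCoh.D X) (-1 : ℤ)))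
  exact ⟨Functor.isoWhiskerLeft (Dual3.bddι Y ⋙ Dual3.shriekC c a)
      (shiftFunctorCompIsoId (DCoh.D X) (-1 : ℤ) 1 (by norm_num)).symm ≪≫
    Functor.isoWhiskerRight M.symm (shiftFunctor (DCoh.D X) (1 : ℤ))⟩


end Groth.Agent.S3607
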