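import Groth.Statements.S3610
import Groth.Agent.L10.ShriekLoc.Local

set_option autoImplicit false
set_option linter.style.haveILetI false
set_option backward.defeqAttrib.useBackward true
set_option backward.isDefEq.respectTransparency false
set_option backward.isDefEq.respectTransparency.types false
set_option backward.defeqAttrib.useBackward true
set_option backward.isDefEq.respectTransparency false
universe u
open CategoryTheory CategoryTheory.Limits AlgebraicGeometry
attribute [local instance] HasDerivedCategory.standard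
open Dual3

namespace Groth.Agent.S3610

/-- Let S be a Noetherian scheme, X and Y schemes separated and of finite type over S and f : X → Y a
morphism over S; compute f^! through a compactification f = j ∘ p (j : X → X' an open immersion, p :
X' → Y proper, Rp_* on D_QCoh assumed to exist and to preserve quasi-coherence of cohomology, a a
right adjoint of Rp_*, restriction of modules to opens assumed exact), so that f^!K = a(K)|_X. If f
is a local complete intersection morphism then for every bounded below K in D_QCoh(O_Y) which is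
perfect, f^!K is a perfect object of D(O_X). -/
theorem result (S X Y : Scheme.{u}) [IsNoetherian S] (p : X ⟶ S) (q : Y ⟶ S) [Dual3.IsSepFT p] [Dual3.IsSepFT q] (f : X ⟶ Y) (w : f ≫ q = p) (hf : Dual3.IsLCIMor f) (c : DEt.Compactification f) [DCoh.HasRpush c.fbar] (hc : DCoh.RpushPreservesQCoh c.fbar) (a : DCoh.DQCoh Y ⥤ DCoh.DQCoh c.Xbar) (adj : DCoh.RpushQ c.fbar hc ⊣ a) [∀ (U V : Scheme.{u}) (j : U ⟶ V) [IsOpenImmersion j], PreservesFiniteLimits (Scheme.Modules.restrictFunctor j)] (K : DCoh.DQCoh Y) (c₀ : ℤ) (hK : ∀ i : ℤ, i < c₀ → IsZero (DCoh.HD K.obj i)) (hP : DCoh.IsPerfect K.obj) : DCoh.IsPerfect ((Dual3.shriekC c a).obj K) := by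
  haveI := fun {A B : Scheme.{u}} (k : A ⟶ B) => Groth.L00.KFlat.hasLpull k
  haveI := fun (R : CommRingCat.{u}) => Groth.L18.TildeF.tilde_preservesFiniteLimits (R := R)
  haveI := Groth.L10.ShriekLoc.isNoetherian_of_sepFT q
  haveI : IsLocallyNoetherian X := LocallyOfFiniteType.isLocallyNoetherian p
  haveI : LocallyOfFiniteType f := by
    haveI : LocallyOfFiniteType (f ≫ q) := by rw [w]; infer_instance
    exact locallyOfFiniteType_of_comp f q
  refine Groth.L10.ShriekLoc.isPerfect_of_charts fun x => ?_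
  obtain ⟨C, hx, hl⟩ := Groth.L10.ShriekLoc.exists_chart_lci hf x
  haveI := Groth.L10.ShriekLoc.isNoetherian_R C
  haveI := Groth.L10.ShriekLoc.isNoetherian_A C
  obtain ⟨n, ψ, hψ⟩ := Groth.L10.ShriekLoc.exists_presentation C
  haveI : DRing.HasLBaseChange (algebraMap C.R (MvPolynomial (Fin n) C.R)) :=
    Groth.L29.DC.LBC.hasLBaseChange (CommRingCat.ofHom (algebraMap C.R (MvPolynomial (Fin n) C.R)))
  obtain ⟨Rψ, ⟨adjψ⟩⟩ := Groth.L10.Shriek.exists_rightAdjoint ψ.toRingHom
  obtain ⟨M, ⟨eM⟩⟩ := (Groth.L29.DC.TildeD.isQCohD_iff _).1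
    (Groth.L29.DC.isQCohD_Lpull C.jV K.property)
  have hM : DRing.IsPerfect C.R M := Groth.L29.DC.TildeAlg.perfect_of_tilde (R := CommRingCat.of C.R)
    (Groth.L29.DC.isPerfect_of_iso eM.symm (Groth.L29.DC.isPerfect_Lpull C.jV hP))
  obtain ⟨e⟩ := Groth.L10.ShriekLoc.nonempty_shriekC c adj C n ψ hψ Rψ adjψ K c₀
    ((DerivedCategory.isGE_iff _ _).2 hK) M ⟨eM⟩
  exact ⟨_, C.jU, inferInstance, inferInstance, hx, Groth.L29.DC.isPerfect_of_iso e.symm
    (Groth.L29.DC.TildeAlg.perfect_tilde (R := CommRingCat.of C.A)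
      (Groth.L10.ShriekLoc.isPerfect_shriekVia n ψ hψ Rψ adjψ hl M hM))⟩

end Groth.Agent.S3610
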