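import Groth.Statements.S3613
import Groth.Agent.L10.ShriekLoc.OmegaAmp
import Groth.Agent.L22.FibreCodim

set_option autoImplicit false
set_option linter.style.haveILetI false
set_option backward.isDefEq.respectTransparency.types false
set_option backward.defeqAttrib.useBackward true
set_option backward.isDefEq.respectTransparency false
universe u
open CategoryTheory CategoryTheory.Limits AlgebraicGeometry
attribute [local instance] HasDerivedCategory.standard
open Dual3

namespace Groth.Agent.S3613

/-- Let S be a Noetherian scheme, X and Y schemes separated and of finite type over S and f : X → Y a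
morphism over S; compute f^! through a compactification f = j ∘ p (j : X → X' an open immersion, p :
X' → Y proper, Rp_* on D_QCoh assumed to exist and to preserve quasi-coherence of cohomology, a a
right adjoint of Rp_*, restriction of modules to opens assumed exact), so that f^!K = a(K)|_X.
Assume f is flat and quasi-finite and let O be the structure sheaf of Y in degree 0. Then H^i(f^!O)
= 0 for i ≠ 0 and H^0(f^!O) is a coherent O_X-module which is flat over Y; that is, f^!O = ω[0] for
a coherent Y-flat module ω. -/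
theorem result (S X Y : Scheme.{u}) [IsNoetherian S] (p : X ⟶ S) (q : Y ⟶ S) [Dual3.IsSepFT p] [Dual3.IsSepFT q] (f : X ⟶ Y) (w : f ≫ q = p) [Flat f] [LocallyQuasiFinite f] (c : DEt.Compactification f) [DCoh.HasRpush c.fbar] (hc : DCoh.RpushPreservesQCoh c.fbar) (a : DCoh.DQCoh Y ⥤ DCoh.DQCoh c.Xbar) (adj : DCoh.RpushQ c.fbar hc ⊣ a) [∀ (U V : Scheme.{u}) (j : U ⟶ V) [IsOpenImmersion j], PreservesFiniteLimits (Scheme.Modules.restrictFunctor j)] (O : DCoh.DQCoh Y) (hO : Nonempty (O.obj ≅ DCoh.inD Y (Coh.structureModule Y))) : (∀ i : ℤ, i ≠ 0 → IsZero (DCoh.HD ((Dual3.shriekC c a).obj O) i)) ∧ Coh.IsCoh (DCoh.HD ((Dual3.shriekC c a).obj O) 0) ∧ FlatMod.IsFlatOver f (DCoh.HD ((Dual3.shriekC c a).obj O) 0) := by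
  haveI := Groth.L10.ShriekLoc.isNoetherian_of_sepFT q
  haveI : LocallyOfFiniteType f := Groth.L10.ShriekLoc.locallyOfFiniteType_of_sepFT w
  obtain ⟨G, ⟨eG⟩⟩ : ∃ G : CochainComplex X.Modules ℤ, Nonempty (DCoh.toD X G ≅ (Dual3.shriekC c a).obj O) :=
    ⟨_, ⟨DerivedCategory.Q.objObjPreimageIso _⟩⟩
  have hd : ∀ x : X, Dual3.localFibreDim f x ≤ ((0 : ℕ) : WithBot ℕ∞) := fun x => by
    refine le_of_eq_of_le ?_ (Groth.L22.FibreCodim.fibreDimAt_le_zero_of_quasiFiniteAt f x
      (Scheme.Hom.quasiFiniteAt f x))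
    unfold Dual3.localFibreDim FlatMor.fibreDimAt FlatMor.localDim
    exact iInf_subtype'
  obtain ⟨h1, h2⟩ := Groth.L10.ShriekLoc.isFlatOver_of_ampAt G eG 0 fun x => by
    simpa using Groth.L10.ShriekLoc.ampAt_omega c adj O hO 0 hd G eG x
  exact ⟨h1, Groth.L10.ShriekLoc.isCoh_omega c adj O hO 0, h2⟩

end Groth.Agent.S3613
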