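import Groth.Statements.S3615
import Groth.Agent.L10.ShriekLoc.CM

set_option autoImplicit false
set_option linter.style.haveILetI false
set_option backward.isDefEq.respectTransparency.types false
set_option backward.defeqAttrib.useBackward true
set_option backward.isDefEq.respectTransparency false
universe u
open CategoryTheory CategoryTheory.Limits AlgebraicGeometry
attribute [local instance] HasDerivedCategory.standard
open Dual3

namespace Groth.Agent.S3615

/-- Let S be a Noetherian scheme, X and Y schemes separated and of finite type over S and f : X → Y a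
morphism over S; compute f^! through a compactification f = j ∘ p (j : X → X' an open immersion, p :
X' → Y proper, Rp_* on D_QCoh assumed to exist and to preserve quasi-coherence of cohomology, a a
right adjoint of Rp_*, restriction of modules to opens assumed exact), so that f^!K = a(K)|_X.
Assume f is flat and let O be the structure sheaf of Y in degree 0 and x a point of X. Then f is
Cohen–Macaulay at x if and only if there are an open neighbourhood U of x and an integer n such that
H^i(f^!O) restricts to zero on U for every i ≠ n while H^n(f^!O) does not. -/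
theorem result (S X Y : Scheme.{u}) [IsNoetherian S] (p : X ⟶ S) (q : Y ⟶ S) [Dual3.IsSepFT p] [Dual3.IsSepFT q] (f : X ⟶ Y) (w : f ≫ q = p) [Flat f] (c : DEt.Compactification f) [DCoh.HasRpush c.fbar] (hc : DCoh.RpushPreservesQCoh c.fbar) (a : DCoh.DQCoh Y ⥤ DCoh.DQCoh c.Xbar) (adj : DCoh.RpushQ c.fbar hc ⊣ a) [∀ (U V : Scheme.{u}) (j : U ⟶ V) [IsOpenImmersion j], PreservesFiniteLimits (Scheme.Modules.restrictFunctor j)] (O : DCoh.DQCoh Y) (hO : Nonempty (O.obj ≅ DCoh.inD Y (Coh.structureModule Y))) (x : X) : MoreMor.IsCMAt f x ↔ ∃ (U : X.Opens) (n : ℤ), x ∈ U ∧ (∀ i : ℤ, i ≠ n → IsZero ((DCoh.HD ((Dual3.shriekC c a).obj O) i).restrict U.ι)) ∧ ¬ IsZero ((DCoh.HD ((Dual3.shriekC c a).obj O) n).restrict U.ι) := by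
  haveI := Groth.L10.ShriekLoc.isNoetherian_of_sepFT q
  haveI : LocallyOfFiniteType f := Groth.L10.ShriekLoc.locallyOfFiniteType_of_sepFT w
  constructor
  · intro h
    obtain ⟨d, C, hx, hC⟩ := Groth.L10.ShriekLoc.exists_chart_single c adj O hO x h
    refine ⟨C.jU.opensRange, -(d : ℤ), hx, fun i hi => ?_, fun hz => ?_⟩
    · refine Groth.L21.Mod.isZero_iff_stalk_subsingleton _ |>.2 fun y => ?_
      obtain ⟨z, hz⟩ := y.2
      have hns := (hC z).2.1 i hi
      rw [not_nontrivial_iff_subsingleton, hz] at hns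
      haveI : Subsingleton ((DCoh.HD ((Dual3.shriekC c a).obj O) i).presheaf.stalk (C.jU.opensRange.ι y)) := hns
      exact (Groth.L10.ShriekLoc.stalkEquiv C.jU.opensRange.ι _ y).toEquiv.subsingleton
    · obtain ⟨z, rfl⟩ := hx
      have hnt := (hC z).2.2.1
      have hsub := (Groth.L21.Mod.isZero_iff_stalk_subsingleton _).1 hz ⟨C.jU z, ⟨z, rfl⟩⟩
      haveI := hsub
      exact not_subsingleton_iff_nontrivial.2 hnt
        (Groth.L10.ShriekLoc.stalkEquiv C.jU.opensRange.ι _ ⟨C.jU z, ⟨z, rfl⟩⟩).symm.toEquiv.subsingleton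
  · rintro ⟨U, n, hx, hU, -⟩
    refine Groth.L10.ShriekLoc.isCMAt_of_single c adj O hO U n x hx fun i hi y hy => ?_
    haveI := (Groth.L21.Mod.isZero_iff_stalk_subsingleton _).1 (hU i hi) ⟨y, hy⟩
    exact not_nontrivial_iff_subsingleton.2 (Groth.L10.ShriekLoc.stalkEquiv U.ι _ ⟨y, hy⟩).symm.toEquiv.subsingleton

end Groth.Agent.S3615
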