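import Groth.Statements.S3620
import Groth.Agent.L29.Dual.InvertibleChart
import Groth.Agent.L21.GorensteinAscend

set_option autoImplicit false
set_option backward.isDefEq.respectTransparency false
universe u
open CategoryTheory CategoryTheory.Limits AlgebraicGeometry
attribute [local instance] HasDerivedCategory.standard
open Dual3

namespace Groth.Agent.S3620

/-- Let X be a locally Noetherian scheme with a dualizing complex K (restriction to opens and the tilde
functors assumed exact, as in the definition of dualizing complexes on schemes). Then X is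
Gorenstein (all local rings Gorenstein) if and only if K is an invertible object of D(O_X), i.e.
locally isomorphic to a shift of the structure sheaf. -/
theorem result (X : Scheme.{u}) [IsLocallyNoetherian X] [∀ (U V : Scheme.{u}) (j : U ⟶ V) [IsOpenImmersion j], PreservesFiniteLimits (Scheme.Modules.restrictFunctor j)] [∀ (R : CommRingCat.{u}), PreservesFiniteLimits (tilde.functor R)] (K : DCoh.D X) (hK : Dual2.IsDualizingSch X K) : Dual3.IsGorenstein X ↔ Dual3.IsInvertibleD K := by
  haveI : ∀ (U : Scheme.{u}) (j : U ⟶ X) [IsOpenImmersion j],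
      PreservesFiniteLimits (Scheme.Modules.restrictFunctor j) := fun U j _ => inferInstance
  open Groth.L29 Groth.L29.DC in
  constructor
  · intro hG x
    obtain ⟨_, ⟨U, hU, rfl⟩, hxU, -⟩ :=
      X.isBasis_affineOpens.exists_subset_of_mem_open (Set.mem_univ x) isOpen_univ
    obtain ⟨ω, hω, ⟨e⟩⟩ := hK Γ(X, U) hU.fromSpec
    haveI : IsNoetherianRing Γ(X, U) := IsLocallyNoetherian.component_noetherian ⟨U, hU⟩
    obtain ⟨q, hq⟩ := hU.opensRange_fromSpec.ge hxU
    subst hq
    obtain ⟨W, hqW, hW⟩ := InvChart.exists_shiftUnit hω q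
      (Groth.L21.GorensteinAscend.isGorensteinLocalRing_of_ringEquiv
        (SchLocus.nonempty_stalkEquiv hU.fromSpec q).some (hG.2 _))
    obtain ⟨V, hV, n, hn⟩ := exists_opens_of_on InvChart.ShiftUnit
      (fun k _ _ h => InvChart.shiftUnit_res k h) (fun e h => InvChart.shiftUnit_iso e h)
      (W.ι ≫ hU.fromSpec) ⟨⟨q, hqW⟩, rfl⟩
      (InvChart.shiftUnit_iso ((DCoh.restrictD W.ι).mapIso e.symm ≪≫
        (resTransD hU.fromSpec W.ι (W.ι ≫ hU.fromSpec) rfl).app K) hW)
    exact ⟨V, n, hV, hn⟩
  · intro hI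
    refine ⟨inferInstance, fun x => ?_⟩
    obtain ⟨U, n, hxU, hn⟩ := hI x
    obtain ⟨_, ⟨V, hV, rfl⟩, hxV, hVU⟩ :=
      X.isBasis_affineOpens.exists_subset_of_mem_open (show x ∈ (U : Set X) from hxU) U.2
    obtain ⟨ω, hω, ⟨e⟩⟩ := hK Γ(X, V) hV.fromSpec
    haveI : IsNoetherianRing Γ(X, V) := IsLocallyNoetherian.component_noetherian ⟨V, hV⟩
    have hle : Set.range hV.fromSpec ⊆ Set.range U.ι := by
      rw [Scheme.Opens.range_ι, hV.range_fromSpec]; exact hVU
    let k := IsOpenImmersion.lift U.ι hV.fromSpec hle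
    have hk : k ≫ U.ι = hV.fromSpec := IsOpenImmersion.lift_fac _ _ _
    haveI : IsOpenImmersion (k ≫ U.ι) := hk ▸ inferInstance
    haveI : IsOpenImmersion k := IsOpenImmersion.of_comp k U.ι
    obtain ⟨q, hq⟩ := hV.opensRange_fromSpec.ge hxV
    subst hq
    refine Groth.L21.GorensteinAscend.isGorensteinLocalRing_of_ringEquiv
      (SchLocus.nonempty_stalkEquiv hV.fromSpec q).some.symm (InvChart.isGorenstein_of_shiftUnit hω ?_ q)
    exact InvChart.shiftUnit_iso ((resTransD U.ι k hV.fromSpec hk).app K ≪≫ e)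
      (InvChart.shiftUnit_res k ⟨n, hn⟩)

end Groth.Agent.S3620
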