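import Groth.Statements.S3621
import Groth.Agent.L29.Dual.SchLocus
import Groth.Agent.L21.GorensteinAscend

set_option autoImplicit false
set_option backward.isDefEq.respectTransparency false
universe u
open CategoryTheory CategoryTheory.Limits AlgebraicGeometry
attribute [local instance] HasDerivedCategory.standard
open Dual3

namespace Groth.Agent.S3621

/-- Let X be a locally Noetherian scheme which has a dualizing complex (exactness instances as in the
definition of dualizing complexes on schemes). Then the set of points x of X whose local ring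
O_{X,x} is Gorenstein is open. -/
theorem result (X : Scheme.{u}) [IsLocallyNoetherian X] [∀ (U V : Scheme.{u}) (j : U ⟶ V) [IsOpenImmersion j], PreservesFiniteLimits (Scheme.Modules.restrictFunctor j)] [∀ (R : CommRingCat.{u}), PreservesFiniteLimits (tilde.functor R)] (K : DCoh.D X) (hK : Dual2.IsDualizingSch X K) : IsOpen {x : X | LocCoh.IsGorensteinLocalRing (X.presheaf.stalk x)} := by
  refine isOpen_iff_mem_nhds.2 fun x hx => ?_
  obtain ⟨A, _, j, _, ω', hxj, hω', -⟩ := Groth.L29.SchLocus.exists_chart hK x
  obtain ⟨q, rfl⟩ := hxj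
  let S : Set (Spec A) := {p | LocCoh.IsGorensteinLocalRing (Localization.AtPrime p.asIdeal)}
  have hS : j ⁻¹' {y : X | LocCoh.IsGorensteinLocalRing (X.presheaf.stalk y)} = S :=
    Set.ext fun p =>
      let e := (Groth.L29.SchLocus.nonempty_stalkEquiv j p).some
      ⟨Groth.L21.GorensteinAscend.isGorensteinLocalRing_of_ringEquiv e, Groth.L21.GorensteinAscend.isGorensteinLocalRing_of_ringEquiv e.symm⟩
  have h1 : IsOpen (j '' S) := j.isOpenEmbedding.isOpenMap _ (Groth.L29.Loci.isOpen_gorenstein hω')
  refine Filter.mem_of_superset (h1.mem_nhds ⟨q, hS ▸ hx, rfl⟩) ?_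
  rintro _ ⟨p, hp, rfl⟩
  rw [← hS] at hp
  exact hp

end Groth.Agent.S3621
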