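import Groth.Statements.S3622
import Groth.Agent.L29.Dual.InvertibleChart
import Groth.Agent.L21.GorensteinAscend

set_option autoImplicit false
set_option backward.isDefEq.respectTransparency false
set_option backward.isDefEq.respectTransparency.types false
set_option backward.defeqAttrib.useBackward true
universe u
open CategoryTheory CategoryTheory.Limits AlgebraicGeometry
attribute [local instance] HasDerivedCategory.standard
open Dual3

namespace Groth.Agent.S3622

/-- Let X be a Gorenstein scheme (exactness instances as in the definition of dualizing complexes on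
schemes). Then X has a dualizing complex if and only if the structure sheaf placed in degree 0 is a
dualizing complex on X. -/
theorem result (X : Scheme.{u}) (hX : Dual3.IsGorenstein X) [∀ (U V : Scheme.{u}) (j : U ⟶ V) [IsOpenImmersion j], PreservesFiniteLimits (Scheme.Modules.restrictFunctor j)] [∀ (R : CommRingCat.{u}), PreservesFiniteLimits (tilde.functor R)] : (∃ K : DCoh.D X, Dual2.IsDualizingSch X K) ↔ Dual2.IsDualizingSch X (DCoh.inD X (Coh.structureModule X)) := by
  refine ⟨fun ⟨K, hK⟩ => ?_, fun h => ⟨_, h⟩⟩
  intro A _ j _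
  obtain ⟨ω, hω, -⟩ := hK A j
  haveI := hω.isNoetherianRing
  have hdim : ringKrullDim A < ⊤ := Groth.Agent.S0371.result A ω hω
  have hG : LocCoh.IsGorensteinRing A := by
    refine ⟨fun p hp => ?_⟩
    exact Groth.L21.GorensteinAscend.isGorensteinLocalRing_of_ringEquiv
      (Groth.L29.SchLocus.nonempty_stalkEquiv (A := CommRingCat.of A) j ⟨p, hp⟩).some (hX.2 _)
  obtain ⟨n, hn⟩ := Groth.L29.Gorenstein.finite_injdim_self_iff.2 ⟨hG, hdim⟩
  obtain ⟨e⟩ := Groth.L29.InvChart.nonempty_tildeD_unit (R := CommRingCat.of A) 0
  exact ⟨_, Groth.L29.Gorenstein.isDualizing_self_of_injdim n hn,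
    ⟨((Scheme.Modules.restrictFunctor j).mapDerivedCategorySingleFunctor 0).app _ ≪≫
      (DerivedCategory.singleFunctor _ 0).mapIso (Scheme.Modules.restrictUnitIso j) ≪≫
      ((shiftFunctorZero _ ℤ).app _).symm ≪≫ e.symm ≪≫
      (DCoh.tildeD (CommRingCat.of A)).mapIso ((shiftFunctorZero _ ℤ).app _)⟩⟩

end Groth.Agent.S3622
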