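import Groth.Statements.S3629
import Groth.Agent.L29.Dual.SchPull

set_option autoImplicit false
set_option backward.isDefEq.respectTransparency false
universe u
open CategoryTheory CategoryTheory.Limits AlgebraicGeometry
attribute [local instance] HasDerivedCategory.standard
open Dual3

namespace Groth.Agent.S3629

/-- Let f : X → Y be a surjective flat local complete intersection morphism between locally Noetherian
schemes, with derived pullback Lf^* (assumed to exist; exactness instances as in the definition of
dualizing complexes). Then, for K in D_QCoh(O_Y), K is dualizing on Y precisely when the pulled-back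
complex Lf^*K is dualizing on X. -/
theorem result (X Y : Scheme.{u}) [IsLocallyNoetherian X] [IsLocallyNoetherian Y] [∀ (U V : Scheme.{u}) (j : U ⟶ V) [IsOpenImmersion j], PreservesFiniteLimits (Scheme.Modules.restrictFunctor j)] [∀ (R : CommRingCat.{u}), PreservesFiniteLimits (tilde.functor R)] (f : X ⟶ Y) [Surjective f] [Flat f] (hf : Dual3.IsLCIMor f) [DCoh.HasLpull f] (K : DCoh.DQCoh Y) : Dual2.IsDualizingSch Y K.obj ↔ Dual2.IsDualizingSch X ((DCoh.Lpull f).obj K.obj) := by
  haveI : ∀ (U : Scheme.{u}) (j : U ⟶ X) [IsOpenImmersion j],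
      PreservesFiniteLimits (Scheme.Modules.restrictFunctor j) := fun U j _ => inferInstance
  haveI : ∀ (U : Scheme.{u}) (j : U ⟶ Y) [IsOpenImmersion j],
      PreservesFiniteLimits (Scheme.Modules.restrictFunctor j) := fun U j _ => inferInstance
  haveI : LocallyOfFiniteType f := by
    refine IsZariskiLocalAtSource.of_iSup_eq_top (P := @LocallyOfFiniteType) (fun x : X => ((hf x).choose).1) ?_ fun x => ?_
    · rw [eq_top_iff]
      intro x _
      exact TopologicalSpace.Opens.mem_iSup.2 ⟨x, (hf x).choose_spec.choose_spec.choose_spec.1⟩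
    · obtain ⟨V, e, hxU, hl⟩ := (hf x).choose_spec
      have h1 : (f.appLE V.1 ((hf x).choose).1 e).hom.FiniteType := by
        exact hl.1
      haveI : LocallyOfFiniteType (Spec.map (f.appLE V.1 ((hf x).choose).1 e)) :=
        (HasRingHomProperty.Spec_iff (P := @LocallyOfFiniteType)).2 h1
      have hc := IsAffineOpen.SpecMap_appLE_fromSpec f V.2 ((hf x).choose).2 e
      have he : ((hf x).choose).1.ι ≫ f =
          ((hf x).choose).2.isoSpec.hom ≫ Spec.map (f.appLE V.1 ((hf x).choose).1 e) ≫ V.2.fromSpec := by
        rw [hc, ← Category.assoc, IsAffineOpen.isoSpec_hom, IsAffineOpen.toSpecΓ_fromSpec]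
      rw [he]
      infer_instance
  exact ⟨fun h => Groth.L29.SchPull.isDualizingSch_Lpull f (Groth.L29.SchPull.isGorensteinAt_of_lci f hf) h,
    fun h => Groth.L29.SchPull.isDualizingSch_of_Lpull f K.property h⟩

end Groth.Agent.S3629
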