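import Groth.Statements.S3638
import Groth.Agent.L10.ShriekLoc.FieldSupp
import Groth.Agent.L06.SkTensor
import Groth.Agent.S0365

set_option autoImplicit false
set_option linter.style.haveILetI false
set_option backward.isDefEq.respectTransparency.types false
set_option backward.isDefEq.respectTransparency false
set_option backward.defeqAttrib.useBackward true
set_option backward.isDefEq.respectTransparency false
universe u
open CategoryTheory CategoryTheory.Limits AlgebraicGeometry
attribute [local instance] HasDerivedCategory.standard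
open Dual3

namespace Groth.Agent.S3638

/-- Let k be a field and X a scheme proper over k, with structure morphism f : X → Spec k and dim X = d.
Assume the derived direct image Rf_* exists and preserves quasi-coherence of cohomology sheaves
(both known results), so that it restricts to a functor D_QCoh(O_X) → D_QCoh(O_{Spec k}), and let a
: D_QCoh(O_{Spec k}) → D_QCoh(O_X) be a right adjoint of this restricted functor. Let O be an object
of D_QCoh(O_{Spec k}) isomorphic to the structure sheaf placed in degree 0, and put ω_X =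
H^{−d}(a(O)). Then ω_X is coherent; for every point x of X the stalk ω_{X,x} satisfies Serre's
condition (S_2) as a module over O_{X,x}; the support of ω_X (the set of points with nonzero stalk)
is the union of those irreducible components of X which have dimension d; and for every closed point
x and every integer i, some H^j(a(O)) with i ≤ j ≤ 0 has nonzero stalk at x if and only if i ≤ 0 and
depth O_{X,x} ≤ −i. (The published statement has further parts, which are not asserted here, and is
phrased with the upper shriek f^!; for the proper morphism f, f^!O is the a(O) used here.) -/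
theorem result (k : Type u) [Field k] (X : Scheme.{u}) (f : X ⟶ Spec (CommRingCat.of k)) [IsProper f] (d : ℕ) (hd : topologicalKrullDim X = (d : WithBot ℕ∞)) [DCoh.HasRpush f] (hf : DCoh.RpushPreservesQCoh f) (a : DCoh.DQCoh (Spec (CommRingCat.of k)) ⥤ DCoh.DQCoh X) (adj : DCoh.RpushQ f hf ⊣ a) (O : DCoh.DQCoh (Spec (CommRingCat.of k))) (hO : Nonempty (O.obj ≅ DCoh.inD (Spec (CommRingCat.of k)) (Coh.structureModule (Spec (CommRingCat.of k))))) : (Coh.IsCoh (DCoh.HD (a.obj O).obj (-(d : ℤ))) ∧ (∀ x : X, LocCoh.HasSk 2 (X.presheaf.stalk x) ((DCoh.HD (a.obj O).obj (-(d : ℤ))).presheaf.stalk x)) ∧ {x : X | Nontrivial ((DCoh.HD (a.obj O).obj (-(d : ℤ))).presheaf.stalk x)} = ⋃ Z ∈ {Z : Set X | Z ∈ irreducibleComponents X ∧ topologicalKrullDim ↥Z = (d : WithBot ℕ∞)}, Z) ∧ ∀ (x : X), IsClosed ({x} : Set X) → ∀ i : ℤ, ((∃ j : ℤ, i ≤ j ∧ j ≤ 0 ∧ Nontrivial ((DCoh.HD (a.obj O).obj j).presheaf.stalk x)) ↔ (LocCoh.depth (X.presheaf.stalk x) (X.presheaf.stalk x) : ℕ∞) ≤ ((-i).toNat : ℕ∞) ∧ i ≤ 0) := by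
  open Groth.L29 Groth.L29.DC Groth.L29.HomD Groth.L10.ShriekLoc L02.FibDepth in
  haveI := fun (R : CommRingCat.{u}) => Groth.L18.TildeF.tilde_preservesFiniteLimits (R := R)
  haveI : IsLocallyNoetherian X := LocallyOfFiniteType.isLocallyNoetherian f
  -- the degree `-d` cohomology vanishes at maximal ideals of smaller height
  have hsmall : ∀ (B : Type u) [CommRing B] [IsLocalRing B] [IsNoetherianRing B] (ω : Dual.D B),
      Dual.IsDualizing B ω → Dual.IsNormalized B ω → ringKrullDim B ≤ (d : WithBot ℕ∞) →
        Nontrivial (Dual.HD B ω (-(d : ℤ))) → ringKrullDim B = (d : WithBot ℕ∞) := by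
    intro B _ _ _ ω hω hn hle hnt
    obtain ⟨d', hd'⟩ := Groth.L01.exists_dim_eq_nat (R := B)
    rw [hd'] at hle ⊢
    have h1 := (Groth.Agent.S0366.result B ω hω hn B d' ((Module.supportDim_self_eq_ringKrullDim (R := B)).trans hd')
      (-(d : ℤ))).1 ((HomD.evalShiftEquiv (W := ω) (-(d : ℤ))).toEquiv.nontrivial_congr.2 hnt)
    have h2 : d' ≤ d := by exact_mod_cast hle
    obtain rfl : d' = d := by omega
    rfl
  refine ⟨⟨isCoh_field k adj O hO _, fun x => ?_, ?_⟩, fun x hx i => ?_⟩
  · -- Serre's condition
    obtain ⟨A, _, _, _, jU, _, ω, ⟨q, rfl⟩, hω, hnorm, ⟨e⟩⟩ := exists_chart_field k adj O hO x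
    haveI := hω.finite_cohomology (-(d : ℤ))
    obtain ⟨m, hm, hqm⟩ := Ideal.exists_le_maximal q.asIdeal q.2.ne_top
    obtain ⟨E⟩ := nonempty_semi_chart jU (DCoh.HD (a.obj O).obj (-(d : ℤ)))
      (show ModuleCat.{u} (CommRingCat.of A) from (Groth.L02.PC.HH (-(d : ℤ))).obj ω)
      ((HDResIso jU _ _).symm ≪≫ (DerivedCategory.homologyFunctor _ _).mapIso e ≪≫
        TildeAlg.hdIso (R := CommRingCat.of A) ω _) q
    haveI : Module.Finite (Localization.AtPrime q.asIdeal)
        (LocalizedModule q.asIdeal.primeCompl (Dual.HD A ω (-(d : ℤ)))) :=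
      Module.Finite.of_isLocalizedModule q.asIdeal.primeCompl (LocalizedModule.mkLinearMap q.asIdeal.primeCompl _)
    refine (E.hasSk_iff 2).1 ?_
    change EGA4.HasSkAt 2 A (Dual.HD A ω (-(d : ℤ))) q.asIdeal
    rw [Groth.L06.SkTensor.hasSkAt_iff]
    intro P _ hP
    suffices h : EGA4.HasSkAt 2 A (Dual.HD A ω (-(d : ℤ))) m from
      (Groth.L06.SkTensor.hasSkAt_iff _ 2 m).1 h P (hP.trans hqm)
    haveI : Module.Flat A (Localization.AtPrime m) := IsLocalization.flat _ m.primeCompl
    have hB := FlatBC.isDualizing_L_localization (B := Localization.AtPrime m) m.primeCompl hω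
    haveI := hB.isNoetherianRing
    haveI := hB.finite_cohomology (-(d : ℤ))
    let t : Dual.HD (Localization.AtPrime m) ((FlatBC.L A (Localization.AtPrime m)).obj ω) (-(d : ℤ)) ≃ₗ[
        Localization.AtPrime m] LocalizedModule m.primeCompl (Dual.HD A ω (-(d : ℤ))) :=
      (FlatBC.hEquiv A (Localization.AtPrime m) _ _).trans (LocalizedModule.equivTensorProduct m.primeCompl _).symm
    let T : Semi (Localization.AtPrime m)
        (Dual.HD (Localization.AtPrime m) ((FlatBC.L A (Localization.AtPrime m)).obj ω) (-(d : ℤ)))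
        (Localization.AtPrime m) (LocalizedModule m.primeCompl (Dual.HD A ω (-(d : ℤ)))) :=
      ⟨RingHom.id _, Function.surjective_id, t.toAddEquiv, fun r y => t.map_smul r y⟩
    refine (T.hasSk_iff 2).1 ?_
    rcases subsingleton_or_nontrivial
      (Dual.HD (Localization.AtPrime m) ((FlatBC.L A (Localization.AtPrime m)).obj ω) (-(d : ℤ))) with h | h
    · intro p _
      rw [(Module.supportDim_eq_bot_iff_subsingleton _ _).2 inferInstance]
      exact le_trans (min_le_right _ _) bot_le
    · have hle : ringKrullDim (Localization.AtPrime m) ≤ (d : WithBot ℕ∞) :=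
        ((IsLocalization.AtPrime.ringKrullDim_eq_height m (Localization.AtPrime m)).le.trans
          (Ideal.height_le_ringKrullDim_of_ne_top hm.ne_top)).trans ((ringKrullDim_le_of_chart jU).trans hd.le)
      exact (Groth.Agent.S0369.result _ _ hB (hnorm m hm) d (hsmall _ _ hB (hnorm m hm) hle h)).2
  · -- support
    refine Set.Subset.antisymm (fun x hx => ?_) (Set.iUnion₂_subset fun Z hZ =>
      component_subset k adj O hO d hd.le Z hZ.1 hZ.2.ge)
    obtain ⟨A, _, _, _, jU, _, ω, ⟨q, rfl⟩, hω, hnorm, ⟨e⟩⟩ := exists_chart_field k adj O hO x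
    have hq := (SchLocus.nontrivial_stalk_iff jU e q _).1 hx
    obtain ⟨m, hm, hqm⟩ := Ideal.exists_le_maximal q.asIdeal q.2.ne_top
    haveI : Module.Flat A (Localization.AtPrime m) := IsLocalization.flat _ m.primeCompl
    have hB := FlatBC.isDualizing_L_localization (B := Localization.AtPrime m) m.primeCompl hω
    haveI := hB.isNoetherianRing
    let t : Dual.HD (Localization.AtPrime m) ((FlatBC.L A (Localization.AtPrime m)).obj ω) (-(d : ℤ)) ≃ₗ[
        Localization.AtPrime m] LocalizedModule m.primeCompl (Dual.HD A ω (-(d : ℤ))) :=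
      (FlatBC.hEquiv A (Localization.AtPrime m) _ _).trans (LocalizedModule.equivTensorProduct m.primeCompl _).symm
    haveI : (q.asIdeal.map (algebraMap A (Localization.AtPrime m))).IsPrime :=
      Ideal.isPrime_map_of_isLocalizationAtPrime m hqm
    let P : PrimeSpectrum (Localization.AtPrime m) := ⟨q.asIdeal.map (algebraMap A _), inferInstance⟩
    have hcom : PrimeSpectrum.comap (algebraMap A (Localization.AtPrime m)) P = q :=
      PrimeSpectrum.ext (Ideal.under_map_of_isLocalizationAtPrime m hqm)
    have hP : P ∈ Module.support (Localization.AtPrime m)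
        (Dual.HD (Localization.AtPrime m) ((FlatBC.L A (Localization.AtPrime m)).obj ω) (-(d : ℤ))) := by
      rw [t.support_eq, Groth.L04.support_localization]
      exact (show q = _ from hcom.symm) ▸ hq
    haveI := (Module.nonempty_support_iff (R := Localization.AtPrime m)).1 ⟨P, hP⟩
    have hle : ringKrullDim (Localization.AtPrime m) ≤ (d : WithBot ℕ∞) :=
      ((IsLocalization.AtPrime.ringKrullDim_eq_height m (Localization.AtPrime m)).le.trans
          (Ideal.height_le_ringKrullDim_of_ne_top hm.ne_top)).trans ((ringKrullDim_le_of_chart jU).trans hd.le)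
    rw [(Groth.Agent.S0369.result _ _ hB (hnorm m hm) d (hsmall _ _ hB (hnorm m hm) hle inferInstance)).1] at hP
    obtain ⟨Q, hQ, hQP, hQd⟩ := hP
    haveI : Q.IsPrime := hQ.1.1
    let q₀ : Ideal A := Q.comap (algebraMap A (Localization.AtPrime m))
    have hq₀ : q₀ ≤ q.asIdeal := (Ideal.comap_mono hQP).trans (congrArg PrimeSpectrum.asIdeal hcom).le
    let c := fun p : PrimeSpectrum (Localization.AtPrime m ⧸ Q) =>
      PrimeSpectrum.comap (algebraMap A (Localization.AtPrime m)) (PrimeSpectrum.comap (Ideal.Quotient.mk Q) p)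
    have hA : (d : WithBot ℕ∞) ≤ ringKrullDim (A ⧸ q₀) := by
      rw [← hQd]
      let g := Ideal.quotientMap Q (algebraMap A (Localization.AtPrime m)) (le_refl q₀)
      have hinj : Function.Injective (PrimeSpectrum.comap g) := by
        intro p p' h
        refine PrimeSpectrum.comap_injective_of_surjective _ Ideal.Quotient.mk_surjective
          (PrimeSpectrum.localization_comap_injective (Localization.AtPrime m) m.primeCompl ?_)
        have := congrArg (PrimeSpectrum.comap (Ideal.Quotient.mk q₀)) h
        simpa [g, ← PrimeSpectrum.comap_comp_apply, Ideal.quotientMap_comp_mk] using this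
      exact Order.krullDim_le_of_strictMono (fun p => PrimeSpectrum.comap g p)
        (Monotone.strictMono_of_injective (fun p p' h => Ideal.comap_mono h) hinj)
    let η : Spec (CommRingCat.of A) := ⟨q₀, Ideal.IsPrime.comap _⟩
    let Z := irreducibleComponent (jU η)
    have hcl : IsClosed Z := isClosed_irreducibleComponent
    have hη : jU η ∈ Z := mem_irreducibleComponent
    have hmem : ∀ p : Spec (CommRingCat.of A), q₀ ≤ p.asIdeal → jU p ∈ Z := fun p hp =>
      (((PrimeSpectrum.le_iff_specializes η p).1 hp).map jU.continuous).mem_closed hcl hη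
    have hZd : topologicalKrullDim ↥Z = (d : WithBot ℕ∞) := by
      refine le_antisymm ((Topology.IsInducing.subtypeVal.topologicalKrullDim_le).trans hd.le) ?_
      refine hA.trans ?_
      rw [← PrimeSpectrum.topologicalKrullDim_eq_ringKrullDim]
      have hemb := jU.isOpenEmbedding.isEmbedding.isInducing.comp
        (PrimeSpectrum.isClosedEmbedding_comap_of_surjective (R := A) (A ⧸ q₀) (Ideal.Quotient.mk q₀)
          Ideal.Quotient.mk_surjective).isInducing
      refine (hemb.codRestrict (s := Z) fun p => hmem _ ?_).topologicalKrullDim_le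
      intro r hr
      change Ideal.Quotient.mk q₀ r ∈ p.asIdeal
      rw [Ideal.Quotient.eq_zero_iff_mem.2 hr]
      exact p.asIdeal.zero_mem
    exact Set.mem_iUnion₂.2 ⟨Z, ⟨irreducibleComponent_mem_irreducibleComponents _, hZd⟩, hmem q hq₀⟩
  · -- depth at closed points
    obtain ⟨A, _, _, _, jU, _, ω, ⟨q, rfl⟩, hω, hnorm, ⟨e⟩⟩ := exists_chart_field k adj O hO x
    have hcl : IsClosed ({q} : Set (PrimeSpectrum A)) := by
      have h := hx.preimage jU.continuous
      rwa [← Set.image_singleton (f := jU), jU.isOpenEmbedding.injective.preimage_image] at h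
    have hmax := (PrimeSpectrum.isClosed_singleton_iff_isMaximal q).1 hcl
    haveI : Module.Flat A (Localization.AtPrime q.asIdeal) := IsLocalization.flat _ q.asIdeal.primeCompl
    have hB := FlatBC.isDualizing_L_localization (B := Localization.AtPrime q.asIdeal) q.asIdeal.primeCompl hω
    haveI := hB.isNoetherianRing
    have hn := hnorm q.asIdeal hmax
    have hnt : ∀ j : ℤ, Nontrivial ((DCoh.HD (a.obj O).obj j).presheaf.stalk (jU q)) ↔
        Nontrivial (Dual.HD (Localization.AtPrime q.asIdeal)
          ((FlatBC.L A (Localization.AtPrime q.asIdeal)).obj ω) j) := fun j => by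
      obtain ⟨E⟩ := nonempty_semi_HD jU e q j
      exact E.e.toEquiv.nontrivial_congr.symm
    obtain ⟨n, hn', -, -⟩ := depth_spec hB hn (Localization.AtPrime q.asIdeal)
    obtain ⟨hlow, htop⟩ := (Groth.Agent.S0365.result _ _ hB hn n).1 hn'
    obtain ⟨S⟩ := nonempty_semi_self jU q
    haveI : IsLocalRing (X.presheaf.stalk (jU q)) := inferInstance
    rw [← S.depth_eq, hn']
    simp only [hnt, Nat.cast_le]
    constructor
    · rintro ⟨j, h1, h2, h3⟩
      obtain ⟨δ, hδ⟩ := Int.eq_ofNat_of_zero_le (show (0 : ℤ) ≤ -j by omega)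
      have : n ≤ δ := by
        by_contra hlt
        obtain rfl : j = -(δ : ℤ) := by omega
        exact not_nontrivial_iff_subsingleton.2 (hlow δ (by omega)) h3
      omega
    · rintro ⟨h1, h2⟩
      exact ⟨-(n : ℤ), by omega, by omega, htop⟩

end Groth.Agent.S3638
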