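import Groth.Statements.S3642
import Groth.Agent.S3641
import Groth.Agent.L10.FMDiag.Basic
import Groth.Agent.Lead.ShriekIndep.Indep
import Groth.Agent.L10.ShriekLoc.Compact


set_option autoImplicit false
universe u
open CategoryTheory CategoryTheory.Limits AlgebraicGeometry
attribute [local instance] HasDerivedCategory.standard
open Dual3

namespace Groth.Agent.S3642

/-- Let S be a Noetherian scheme, X and Y schemes separated and of finite type over S and f : X → Y a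
morphism over S; compute f^! through a compactification f = j ∘ p (j : X → X' an open immersion, p :
X' → Y proper, Rp_* on D_QCoh assumed to exist and to preserve quasi-coherence of cohomology, a a
right adjoint of Rp_*, restriction of modules to opens assumed exact), so that f^!K = a(K)|_X. If f
is étale and Lf^* denotes its derived pullback (assumed to exist), then f^! ≅ Lf^* as functors on
D^+_QCoh(O_Y). -/
theorem result (S X Y : Scheme.{u}) [IsNoetherian S] (p : X ⟶ S) (q : Y ⟶ S) [Dual3.IsSepFT p] [Dual3.IsSepFT q] (f : X ⟶ Y) (w : f ≫ q = p) [Etale f] (c : DEt.Compactification f) [DCoh.HasRpush c.fbar] (hc : DCoh.RpushPreservesQCoh c.fbar) (a : DCoh.DQCoh Y ⥤ DCoh.DQCoh c.Xbar) (adj : DCoh.RpushQ c.fbar hc ⊣ a) [∀ (U V : Scheme.{u}) (j : U ⟶ V) [IsOpenImmersion j], PreservesFiniteLimits (Scheme.Modules.restrictFunctor j)] [DCoh.HasLpull f] : Nonempty (Dual3.bddι Y ⋙ Dual3.shriekC c a ≅ Dual3.bddι Y ⋙ ObjectProperty.ι _ ⋙ DCoh.Lpull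 f) := by
  open Groth.L29 Groth.L29.DC Groth.L29.BCAdj Groth.L10.ShriekLoc Groth.Lead.ShriekIndep in
  haveI := fun {A B : Scheme.{u}} (k : A ⟶ B) => RpushQC.hasRpush k
  haveI := fun {A B : Scheme.{u}} (k : A ⟶ B) => Groth.L00.KFlat.hasLpull k
  haveI : IsNoetherian Y := isNoetherian_of_sepFT q
  haveI : IsNoetherian X := isNoetherian_of_sepFT p
  haveI : IsSeparated (f ≫ q) := by rw [w]; infer_instance
  haveI : IsSeparated f := IsSeparated.of_comp f q
  haveI : QuasiCompact (f ≫ q) := by rw [w]; infer_instance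
  haveI : QuasiCompact f := QuasiCompact.of_comp f q
  haveI : QuasiCompact f := inferInstance
  let P := pullback f f
  let p₁ : P ⟶ X := pullback.fst f f
  let p₂ : P ⟶ X := pullback.snd f f
  let Δ : X ⟶ P := pullback.diagonal f
  haveI : Dual3.IsSepFT (p₂ ≫ p) := by
    exact ⟨inferInstance, inferInstance, inferInstance⟩
  haveI : IsNoetherian (P : Scheme.{u}) := isNoetherian_of_sepFT (p₂ ≫ p)
  -- a compactification of `p₂`
  let fb := pullback.snd c.fbar f
  haveI : IsProper fb := MorphismProperty.pullback_snd _ _ inferInstance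
  let j' : (P : Scheme.{u}) ⟶ pullback c.fbar f := pullback.lift (p₁ ≫ c.j) p₂ (by
    rw [Category.assoc, c.fac]; exact pullback.condition)
  have hh : IsPullback p₁ (j' ≫ fb) (c.j ≫ c.fbar) f := by
    rw [pullback.lift_snd, c.fac]; exact IsPullback.of_hasPullback f f
  have hsq' : IsPullback p₁ j' c.j (pullback.fst c.fbar f) :=
    IsPullback.of_bot hh (pullback.lift_fst _ _ _).symm (IsPullback.of_hasPullback c.fbar f)
  haveI : IsOpenImmersion j' := MorphismProperty.of_isPullback hsq' inferInstance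
  let c₂ : DEt.Compactification p₂ := ⟨_, j', fb, inferInstance, inferInstance, pullback.lift_snd _ _ _⟩
  obtain ⟨a₂, ⟨adj₂⟩⟩ := exists_adj c₂.fbar
  obtain ⟨F⟩ := Groth.Agent.S3641.result S X Y (P : Scheme.{u}) X p q (p₂ ≫ p) p f f p₂ p₁ w w rfl
    (IsPullback.of_hasPullback f f) c c₂ hc (isQCohD_push c₂.fbar) a a₂ adj adj₂ (isQCohD_pull f)
  haveI : IsOpenImmersion Δ := inferInstance
  let cΔ : DEt.Compactification Δ :=
    ⟨(P : Scheme.{u}), Δ, 𝟙 _, inferInstance, inferInstance, Category.comp_id Δ⟩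
  let c₁ : DEt.Compactification (Δ ≫ p₂) :=
    ⟨X, 𝟙 X, 𝟙 X, inferInstance, inferInstance, by rw [pullback.diagonal_snd, Category.id_comp]⟩
  obtain ⟨adjΔ⟩ := nonempty_adj_id (P : Scheme.{u}) (isQCohD_push (𝟙 _))
  obtain ⟨adj₁⟩ := nonempty_adj_id X (isQCohD_push (𝟙 X))
  have hres : ∀ K : DCoh.D c₂.Xbar, DCoh.IsQCohD K → DCoh.IsQCohD ((DCoh.restrictD c₂.j).obj K) :=
    fun K hK => isQCohD_restrictD c₂.j hK
  obtain ⟨C⟩ := nonempty_comp cΔ c₂ c₁ adjΔ adj₂ adj₁ hres
  obtain ⟨lid⟩ := nonempty_Lpull_restrictD (𝟙 X)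
  obtain ⟨li⟩ := Groth.L10.FMDiag.nonempty_Lpull_id (X := X)
  obtain ⟨lΔ⟩ := nonempty_Lpull_restrictD Δ
  obtain ⟨k⟩ := Groth.L10.FMBC.nonempty_lpull_comp' Δ p₁ (pullback.diagonal_fst f)
  have hb : ∀ K : (Dual3.IsBddBelowQ Y).FullSubcategory,
      Dual3.IsBddBelowQ X ((Dual3.LpullQ f (isQCohD_pull f)).obj K.obj) :=
    fun K => by
      obtain ⟨n, hn⟩ := K.property
      exact ⟨n, isGE_Lpull_flat f K.obj.obj n hn⟩
  let G : (Dual3.IsBddBelowQ Y).FullSubcategory ⥤ (Dual3.IsBddBelowQ X).FullSubcategory :=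
    ObjectProperty.lift _ (Dual3.bddι Y ⋙ Dual3.LpullQ f (isQCohD_pull f)) hb
  obtain ⟨u⟩ : Nonempty (DCoh.Lpull f ≅ DCoh.Lpull f) := ⟨Iso.refl _⟩
  exact ⟨Functor.isoWhiskerLeft (Dual3.bddι Y ⋙ Dual3.shriekC c a) (li.symm ≪≫ k.symm) ≪≫
    Functor.isoWhiskerRight F (DCoh.Lpull Δ) ≪≫
    Functor.isoWhiskerLeft (G ⋙ Dual3.bddι X ⋙ Dual3.shriekC c₂ a₂) lΔ ≪≫
    Functor.isoWhiskerLeft G C.symm ≪≫
    Functor.isoWhiskerLeft (G ⋙ Dual3.bddι X ⋙ ObjectProperty.ι _) (lid.symm ≪≫ li)⟩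


end Groth.Agent.S3642
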