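import Groth.Statements.S3644
import Groth.Agent.L10.ShriekLoc.PerfectChart
import Groth.Agent.L10.ShriekLoc.EndIso
import Groth.Agent.L10.ShriekLoc.OmegaAmp
import Groth.Agent.L16.CohClosedPush
import Groth.Agent.L29.DCoh.RHomCoh
import Groth.Agent.L29.DCoh.PCNoeth

set_option autoImplicit false
set_option linter.style.haveILetI false
set_option backward.isDefEq.respectTransparency.types false
set_option backward.isDefEq.respectTransparency false
set_option maxHeartbeats 1600000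
set_option backward.defeqAttrib.useBackward true
set_option backward.isDefEq.respectTransparency false
universe u
open CategoryTheory CategoryTheory.Limits AlgebraicGeometry
attribute [local instance] HasDerivedCategory.standard
open Dual3

namespace Groth.Agent.S3644

/-- Let S be a Noetherian scheme, X and Y schemes separated and of finite type over S and f : X → Y a
morphism over S; compute f^! through a compactification f = f̄ ∘ j (j : X → X̄ an open immersion, f̄
: X̄ → Y proper, Rf̄_* on D_QCoh assumed to exist and to preserve quasi-coherence of cohomology, a a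
right adjoint of Rf̄_*, and restriction of modules to opens assumed exact), so that f^!K = a(K)|_X.
Assume f is perfect (affine-locally given by perfect ring maps) and let O be the structure sheaf of
Y placed in degree 0. Then: for every K in D_QCoh(O_Y) with bounded and coherent cohomology, f^!K
has bounded and coherent cohomology; and for any complex E representing f^!O, with − ⊗^L E ⊣ RHom(E,
−) assumed, and any identification υ : O_X ⊗^L E ≅ E, the map O_X → RHom(E, E) adjoint to υ is an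
isomorphism. -/
theorem result (S X Y : Scheme.{u}) [IsNoetherian S] (p : X ⟶ S) (q : Y ⟶ S) [Dual3.IsSepFT p] [Dual3.IsSepFT q] (f : X ⟶ Y) (w : f ≫ q = p) (hf : MoreMor.IsPerfectMor f) (c : DEt.Compactification f) [DCoh.HasRpush c.fbar] (hc : DCoh.RpushPreservesQCoh c.fbar) (a : DCoh.DQCoh Y ⥤ DCoh.DQCoh c.Xbar) (adj : DCoh.RpushQ c.fbar hc ⊣ a) [∀ (U V : Scheme.{u}) (j : U ⟶ V) [IsOpenImmersion j], PreservesFiniteLimits (Scheme.Modules.restrictFunctor j)] (O : DCoh.DQCoh Y) (hO : Nonempty (O.obj ≅ DCoh.inD Y (Coh.structureModule Y))) : (∀ (K : DCoh.DQCoh Y) (lo hi : ℤ), (∀ i : ℤ, (i < lo ∨ hi < i) → IsZero (DCoh.HD K.obj i)) → (∀ i : ℤ, Coh.IsCoh (DCoh.HD K.obj i)) → (∃ lo' hi' : ℤ, ∀ i : ℤ, (i < lo' ∨ hi' < i) → IsZero (DCoh.HD ((Dual3.shriekC c a).obj K) i)) ∧ ∀ i : ℤ, Coh.IsCoh (DCoh.HD ((Dual3.shriekC c a).obj K) i)) ∧ ∀ (E : CochainComplex X.Modules ℤ) (hE : Nonempty (DCoh.toD X E ≅ (Dual3.shriekC c a).obj O)) [DCoh.HasLTensorCx E] [DCoh.HasRSheafHom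 E] (υ : (DCoh.LTensorCx E).obj (DCoh.inD X (Coh.structureModule X)) ≅ DCoh.toD X E), IsIso (((DCoh.RSheafHomAdj E).homEquiv (DCoh.inD X (Coh.structureModule X)) (DCoh.toD X E)) υ.hom) := by
  open Groth.L29 Groth.L29.DC Groth.L10.ShriekLoc in
  haveI := fun {A B : Scheme.{u}} (k : A ⟶ B) => Groth.L00.KFlat.hasLpull k
  haveI := fun (R : CommRingCat.{u}) => Groth.L18.TildeF.tilde_preservesFiniteLimits (R := R)
  haveI : IsNoetherian Y := isNoetherian_of_sepFT q
  haveI : IsNoetherian X := isNoetherian_of_sepFT p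
  haveI : LocallyOfFiniteType f := locallyOfFiniteType_of_sepFT w
  -- bounded coherent cohomology
  have part₁ : ∀ (K : DCoh.DQCoh Y) (lo hi : ℤ), (∀ i : ℤ, (i < lo ∨ hi < i) → IsZero (DCoh.HD K.obj i)) →
      (∀ i : ℤ, Coh.IsCoh (DCoh.HD K.obj i)) →
      (∃ lo' hi' : ℤ, ∀ i : ℤ, (i < lo' ∨ hi' < i) → IsZero (DCoh.HD ((Dual3.shriekC c a).obj K) i)) ∧
        ∀ i : ℤ, Coh.IsCoh (DCoh.HD ((Dual3.shriekC c a).obj K) i) := by
    intro K lo hi hK hcoh
    haveI hGE : K.obj.IsGE lo := (DerivedCategory.isGE_iff _ _).2 fun i h => hK i (Or.inl h)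
    refine ⟨?_, fun i => Groth.L16.CohSupport.isCoh_of_iso (HDResIso c.j (a.obj K).obj i).symm
      (Groth.L29.DC.RHomC.isCoh_restrict c.j (isCoh_HD adj K lo hGE hcoh i))⟩
    have hloc : ∀ x : X, ∃ (V : X.Opens) (b b' : ℤ), x ∈ V ∧ ∀ i : ℤ, (i < b ∨ b' < i) →
        IsZero ((DCoh.HD ((Dual3.shriekC c a).obj K) i).restrict V.ι) := by
      intro x
      obtain ⟨C, n, ψ, hx, hψ, hp⟩ := exists_chart_perfect hf x
      haveI := isNoetherian_R C
      haveI := isNoetherian_A C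
      haveI : DRing.HasLBaseChange (algebraMap C.R (MvPolynomial (Fin n) C.R)) :=
        LBC.hasLBaseChange (CommRingCat.ofHom (algebraMap C.R (MvPolynomial (Fin n) C.R)))
      obtain ⟨Rψ, ⟨adjψ⟩⟩ := Groth.L10.Shriek.exists_rightAdjoint ψ.toRingHom
      obtain ⟨M, hM₁, -, ⟨eM⟩⟩ := exists_model C K lo hGE hcoh
      have hM₃ : ∀ i : ℤ, hi < i → Subsingleton (Dual.HD C.R M i) := by
        intro i h
        obtain ⟨r⟩ := nonempty_Lpull_iso_restrictD C.jV K.obj
        have hz : IsZero ((DerivedCategory.homologyFunctor _ i).obj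
            ((DCoh.tildeD (CommRingCat.of C.R)).obj M)) :=
          (((Scheme.Modules.restrictFunctor C.jV).map_isZero (hK i (Or.inr h))).of_iso
            (HDResIso C.jV K.obj i)).of_iso ((DerivedCategory.homologyFunctor _ i).mapIso (eM ≪≫ r))
        exact ModuleCat.subsingleton_of_isZero (((TildeAlg.isZero_hd_iff (R := CommRingCat.of C.R) M i).1 hz))
      obtain ⟨e⟩ := nonempty_shriekC c adj C n ψ hψ Rψ adjψ K lo hGE M ⟨eM⟩
      obtain ⟨b, hb⟩ := (Groth.Agent.S1783.result C.R C.A n ψ hψ Rψ adjψ M lo hM₁).1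
      obtain ⟨b', hb'⟩ := exists_le_shriekVia n ψ adjψ hp M hi hM₃
      refine ⟨C.jU.opensRange, b, b', hx, fun i h => ?_⟩
      obtain ⟨s⟩ := nonempty_hd_restrict C ⟨e⟩ i
      haveI : Subsingleton (Dual.HD C.A (Dual2.shriekVia n Rψ M) i) := h.elim (hb i) (hb' i)
      have hz : IsZero ((DCoh.HD ((Dual3.shriekC c a).obj K) i).restrict C.jU) :=
        ((tilde.functor (CommRingCat.of C.A)).map_isZero (ModuleCat.isZero_of_subsingleton _)).of_iso s
      exact ((Scheme.Modules.restrictFunctor C.jU.isoOpensRange.inv).map_isZero hz).of_iso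
        (((Scheme.Modules.restrictFunctorComp C.jU.isoOpensRange.inv C.jU).app _).symm ≪≫
          (Scheme.Modules.restrictFunctorCongr (show C.jU.isoOpensRange.inv ≫ C.jU = C.jU.opensRange.ι by
            rw [Iso.inv_comp_eq, Scheme.Hom.isoOpensRange_hom_ι])).app _).symm
    choose V b b' hxV hV using hloc
    obtain ⟨s, hs⟩ := (isCompact_univ : IsCompact (Set.univ : Set X)).elim_finite_subcover
      (fun x => (V x : Set X)) (fun x => (V x).2) (fun x _ => Set.mem_iUnion.2 ⟨x, hxV x⟩)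
    obtain ⟨lo', hlo⟩ := (s.image b).bddBelow
    obtain ⟨hi', hhi⟩ := (s.image b').bddAbove
    refine ⟨lo', hi', fun i h => Groth.L21.Mod.isZero_of_restrict (fun y : ↥s => (V y.1).ι)
      (fun x => ?_) _ fun y => hV y.1 i ?_⟩
    · obtain ⟨y, hy, hxy⟩ := Set.mem_iUnion₂.1 (hs (Set.mem_univ x))
      exact ⟨⟨y, hy⟩, ⟨x, hxy⟩, rfl⟩
    rcases h with h | h
    · exact Or.inl (lt_of_lt_of_le h (hlo (Finset.mem_image_of_mem b y.2)))
    · exact Or.inr (lt_of_le_of_lt (hhi (Finset.mem_image_of_mem b' y.2)) h)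
  refine ⟨part₁, fun E hE _ _ υ => ?_⟩
  obtain ⟨eE⟩ := hE
  obtain ⟨o⟩ := hO
  have hO' : ∀ i : ℤ, (i < 0 ∨ 0 < i) → IsZero (DCoh.HD O.obj i) := fun i h => by
    refine IsZero.of_iso ?_ ((DerivedCategory.homologyFunctor _ i).mapIso o)
    rcases h with h | h
    · exact DerivedCategory.isZero_of_isGE _ 0 i h
    · exact DerivedCategory.isZero_of_isLE _ 0 i h
  have hOc : ∀ i : ℤ, Coh.IsCoh (DCoh.HD O.obj i) := fun i => by
    by_cases h : i = 0
    · subst h
      exact Groth.L16.CohSupport.isCoh_of_iso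
        ((DerivedCategory.homologyFunctor _ 0).mapIso o ≪≫
          (DerivedCategory.singleFunctorCompHomologyFunctorIso Y.Modules 0).app (Coh.structureModule Y)).symm
        Groth.L16.CohClosedPush.isCoh_structure
    · exact Groth.L29.DC.RHomC.isCoh_of_isZero (hO' i (by omega))
  obtain ⟨⟨lo, hi, hb⟩, -⟩ := part₁ O 0 0 hO' hOc
  have hcoh : ∀ i : ℤ, Coh.IsCoh (DCoh.HD ((Dual3.shriekC c a).obj O) i) := isCoh_omega c adj O ⟨o⟩
  have hEc : DCoh.IsCohD (DCoh.toD X E) := fun i =>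
    Groth.L16.CohSupport.isCoh_of_iso ((DerivedCategory.homologyFunctor _ i).mapIso eE.symm) (hcoh i)
  haveI : (DCoh.toD X E).IsLE hi := (DerivedCategory.isLE_iff _ _).2 fun i h =>
    (hb i (Or.inr h)).of_iso ((DerivedCategory.homologyFunctor _ i).mapIso eE)
  haveI : (DCoh.toD X E).IsGE lo := (DerivedCategory.isGE_iff _ _).2 fun i h =>
    (hb i (Or.inl h)).of_iso ((DerivedCategory.homologyFunctor _ i).mapIso eE)
  have hqc : DCoh.IsQCohD ((DCoh.RSheafHom E).obj (DCoh.toD X E)) := fun i =>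
    ((PCNoeth.isCohD_RSheafHom E hi hEc (DCoh.toD X E) lo hEc).1 i).1
  refine isIso_homEquiv_of_charts E hqc υ fun x => ?_
  obtain ⟨C, n, ψ, hx, hψ, hp⟩ := exists_chart_perfect hf x
  haveI := isNoetherian_R C
  haveI : DRing.HasLBaseChange (algebraMap C.R (MvPolynomial (Fin n) C.R)) :=
    LBC.hasLBaseChange (CommRingCat.ofHom (algebraMap C.R (MvPolynomial (Fin n) C.R)))
  obtain ⟨Rψ, ⟨adjψ⟩⟩ := Groth.L10.Shriek.exists_rightAdjoint ψ.toRingHom
  obtain ⟨e⟩ := nonempty_shriekC c adj C n ψ hψ Rψ adjψ O 0 (isGE_O O ⟨o⟩) _ (nonempty_O C O ⟨o⟩)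
  obtain ⟨W, ⟨eW⟩, hbij, hvan⟩ := end_shriekVia n ψ adjψ hψ hp
  exact ⟨C.A, inferInstance, inferInstance, C.jU, inferInstance, inferInstance, W, hx,
    ⟨(DCoh.Lpull C.jU).mapIso eE ≪≫ e ≪≫ (DCoh.tildeD (CommRingCat.of C.A)).mapIso eW.symm⟩, hbij, hvan⟩

end Groth.Agent.S3644
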