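import Groth.Statements.S3645
import Groth.Agent.S3644
import Groth.Agent.S7278
import Groth.Agent.S7172
import Groth.Agent.S1801
import Groth.Agent.L29.Dual.TorInj
import Groth.Agent.L10.ShriekLoc.Omega
import Groth.Agent.L10.ShriekLoc.Local


set_option autoImplicit false
universe u
open CategoryTheory CategoryTheory.Limits AlgebraicGeometry
attribute [local instance] HasDerivedCategory.standard
open Dual3

namespace Groth.Agent.S3645

/-- Let S be a Noetherian scheme, X and Y schemes separated and of finite type over S and f : X → Y a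
morphism over S; compute f^! through a compactification f = j ∘ p (j : X → X' an open immersion, p :
X' → Y proper, Rp_* on D_QCoh assumed to exist and to preserve quasi-coherence of cohomology, a a
right adjoint of Rp_*, restriction of modules to opens assumed exact), so that f^!K = a(K)|_X.
Assume f is flat and let O be the structure sheaf of Y in degree 0. Then f^!O is Y-perfect
(pseudo-coherent and locally of finite tor dimension relative to Y), and for any complex E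
representing f^!O with - ⊗^L E ⊣ RHom(E, -) assumed and any identification υ : O_X ⊗^L E ≅ E, the
map O_X → RHom(E, E) adjoint to υ is an isomorphism. -/
theorem result (S X Y : Scheme.{u}) [IsNoetherian S] (p : X ⟶ S) (q : Y ⟶ S) [Dual3.IsSepFT p] [Dual3.IsSepFT q] (f : X ⟶ Y) (w : f ≫ q = p) [Flat f] (c : DEt.Compactification f) [DCoh.HasRpush c.fbar] (hc : DCoh.RpushPreservesQCoh c.fbar) (a : DCoh.DQCoh Y ⥤ DCoh.DQCoh c.Xbar) (adj : DCoh.RpushQ c.fbar hc ⊣ a) [∀ (U V : Scheme.{u}) (j : U ⟶ V) [IsOpenImmersion j], PreservesFiniteLimits (Scheme.Modules.restrictFunctor j)] (O : DCoh.DQCoh Y) (hO : Nonempty (O.obj ≅ DCoh.inD Y (Coh.structureModule Y))) : ((∀ m : ℤ, DCoh.IsPseudoCoherentD m ((Dual3.shriekC c a).obj O)) ∧ DCoh.LocHasFiniteRelTorDim f ((Dual3.shriekC c a).obj O)) ∧ ∀ (E : CochainComplex X.Modules ℤ) (hE : Nonempty (DCoh.toD X E ≅ (Dual3.shriekC c a).obj O)) [DCoh.HasLTensorCx E] [DCoh.HasRSheafHom E] (υ : (DCoh.LTensorCx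 E).obj (DCoh.inD X (Coh.structureModule X)) ≅ DCoh.toD X E), IsIso (((DCoh.RSheafHomAdj E).homEquiv (DCoh.inD X (Coh.structureModule X)) (DCoh.toD X E)) υ.hom) := by
  open Groth.L29 Groth.L29.DC Groth.L10.ShriekLoc in
  haveI := fun {A B : Scheme.{u}} (k : A ⟶ B) => Groth.L00.KFlat.hasLpull k
  haveI := fun (R : CommRingCat.{u}) => Groth.L18.TildeF.tilde_preservesFiniteLimits (R := R)
  haveI : IsNoetherian Y := isNoetherian_of_sepFT q
  haveI : IsNoetherian X := isNoetherian_of_sepFT p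
  haveI : LocallyOfFiniteType f := locallyOfFiniteType_of_sepFT w
  haveI : LocallyOfFinitePresentation f := inferInstance
  refine ⟨?_, (Groth.Agent.S3644.result S X Y p q f w (Groth.Agent.S7172.result f) c hc a adj O hO).2⟩
  have hq : DCoh.IsQCohD ((Dual3.shriekC c a).obj O) := isQCohD_restrictD c.j (a.obj O).property
  refine (Groth.Agent.S7278.result f _ hq).2 {V : Y.Opens // IsAffineOpen V} (fun i => i.1) (fun i => i.2)
    (iSup_affineOpens_eq_top Y) (fun i => {U : X.Opens // IsAffineOpen U ∧ U ≤ f ⁻¹ᵁ i.1}) (fun _ j => j.1)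
    (fun _ j => j.2.1) (fun _ j => j.2.2) (fun i => ?_) (fun i j M ⟨eM⟩ => ?_)
  · refine le_antisymm (iSup_le fun j => j.2.2) fun x hx => ?_
    obtain ⟨_, ⟨U, hU, rfl⟩, hxU, hle⟩ :=
      X.isBasis_affineOpens.exists_subset_of_mem_open hx (f ⁻¹ᵁ i.1).2
    exact TopologicalSpace.Opens.mem_iSup.2 ⟨⟨U, hU, hle⟩, hxU⟩
  letI : Algebra Γ(Y, i.1) Γ(X, j.1) := (f.appLE i.1 j.1 j.2.2).hom.toAlgebra
  let C : Chart f := { R := Γ(Y, i.1), A := Γ(X, j.1), jV := i.2.fromSpec, jU := j.2.1.fromSpec,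
                       w := (IsAffineOpen.SpecMap_appLE_fromSpec f i.2 j.2.1 j.2.2).symm }
  haveI : IsNoetherianRing Γ(Y, i.1) := isNoetherian_R C
  haveI : IsNoetherianRing Γ(X, j.1) := isNoetherian_A C
  haveI : Module.Flat Γ(Y, i.1) Γ(X, j.1) := module_flat C
  obtain ⟨n, ψ, hψ, _, Rψ, adjψ, ⟨e⟩⟩ := exists_omega c adj O hO C
  obtain ⟨⟨a₀, b, hab⟩, hfin, ⟨u₀, v₀, htor⟩, -, -⟩ :=
    Groth.Agent.S1801.result Γ(Y, i.1) Γ(X, j.1) n ψ hψ Rψ adjψ
  obtain ⟨l⟩ := Groth.L10.FMBC.nonempty_lpull_comp' j.2.1.isoSpec.inv j.1.ι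
    (show j.2.1.isoSpec.inv ≫ j.1.ι = C.jU from rfl)
  obtain ⟨r⟩ := nonempty_Lpull_iso_restrictD j.1.ι ((Dual3.shriekC c a).obj O)
  obtain ⟨r'⟩ := nonempty_Lpull_iso_restrictD j.2.1.isoSpec.inv
    ((DCoh.restrictD j.1.ι).obj ((Dual3.shriekC c a).obj O))
  haveI := (Groth.L29.DC.TildeD.fullyFaithful (R := Γ(X, j.1))).1
  haveI := (Groth.L29.DC.TildeD.fullyFaithful (R := Γ(X, j.1))).2
  let eW : M ≅ Dual2.shriekVia n Rψ (Dual.inD Γ(Y, i.1) Γ(Y, i.1)) :=
    (DCoh.tildeD Γ(X, j.1)).preimageIso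
      (eM.symm ≪≫ r'.symm ≪≫ (DCoh.Lpull _).mapIso r.symm ≪≫ l.app _ ≪≫ e)
  obtain ⟨E, hEv, hEf, ⟨eE⟩⟩ := htor
  refine ⟨Groth.L29.TorInj.pc'_of_finite _ b (fun k hk => ?_) (fun k => ?_), u₀, v₀, E, hEv, hEf,
    ⟨eE ≪≫ (DRing.restrictD _).mapIso eW.symm⟩⟩
  · haveI := hab k (Or.inr hk)
    exact (((DerivedCategory.homologyFunctor _ k).mapIso eW).toLinearEquiv).toEquiv.subsingleton
  · haveI := hfin k
    exact Module.Finite.equiv (((DerivedCategory.homologyFunctor _ k).mapIso eW).toLinearEquiv).symm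


end Groth.Agent.S3645
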