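import Groth.Statements.S3648
import Groth.Agent.L10.ShriekLoc.Dual3Chart
import Groth.Agent.L18.TildeFunctor
import Groth.Agent.S1793

set_option linter.style.haveILetI false
set_option maxHeartbeats 1600000
set_option maxSynthPendingDepth 4
set_option backward.defeqAttrib.useBackward true
set_option backward.isDefEq.respectTransparency false
set_option backward.isDefEq.respectTransparency.types false

set_option autoImplicit false
universe u
open CategoryTheory CategoryTheory.Limits AlgebraicGeometry
attribute [local instance] HasDerivedCategory.standard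
open Dual3

namespace Groth.Agent.S3648

/-- Let f : X → S be a morphism which is flat, locally of finite presentation and separated, assume the
binders of the definition of relative dualizing complexes: the derived pullback along pr_1 : X ×_S X
→ X exists and the direct image along the diagonal Δ : X → X ×_S X, a closed immersion since f is
separated, is exact on modules, and let K in D(O_X) underlie a relative dualizing complex for f.
Then for any complex E of O_X-modules representing K, with the derived functors − ⊗^L E ⊣ RHom(E, −)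
assumed to exist, and any identification υ : O_X ⊗^L E ≅ E, the map O_X → RHom(E, E) adjoint to υ is
an isomorphism in D(O_X). (Stated for separated f; the published statement is more general.) -/
theorem result (X S : Scheme.{u}) (f : X ⟶ S) [Flat f] [LocallyOfFinitePresentation f] [IsSeparated f] [DCoh.HasLpull (pullback.fst f f)] [PreservesFiniteLimits (Scheme.Modules.pushforward (pullback.diagonal f))] [PreservesFiniteColimits (Scheme.Modules.pushforward (pullback.diagonal f))] (K : DCoh.D X) (hK : Dual3.IsRelDualizing f K) (E : CochainComplex X.Modules ℤ) (hE : Nonempty (DCoh.toD X E ≅ K)) [DCoh.HasLTensorCx E] [DCoh.HasRSheafHom E] (υ : (DCoh.LTensorCx E).obj (DCoh.inD X (Coh.structureModule X)) ≅ DCoh.toD X E) : IsIso (((DCoh.RSheafHomAdj E).homEquiv (DCoh.inD X (Coh.structureModule X)) (DCoh.toD X E)) υ.hom) := by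
  haveI := fun {Z Z' : Scheme.{u}} (k : Z ⟶ Z') => Groth.L00.KFlat.hasLpull k
  haveI := fun (R : CommRingCat.{u}) => Groth.L18.TildeF.tilde_preservesFiniteLimits (R := R)
  obtain ⟨e⟩ := hE
  have hpc : ∀ m : ℤ, DCoh.IsPseudoCoherentD m K := hK.choose_spec.1
  have htor : DCoh.LocHasFiniteRelTorDim f K := hK.choose_spec.2.1
  refine Groth.L10.ShriekLoc.isIso_homEquiv_of_charts E ?_ υ fun x => ?_
  · refine Groth.L29.DC.isQCohD_of_charts fun x => ?_
    obtain ⟨C, hfp, W, hx, eW, hW⟩ := Groth.L10.ShriekLoc.exists_chart_relPerfect f K hpc htor x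
    obtain ⟨eW⟩ := @eW inferInstance
    refine ⟨_, C.jU, C.openU, hx, ?_⟩
    let Er := (Groth.L29.DC.ExtZero.rCx C.jU).obj E
    haveI : DCoh.HasLTensorCx Er := Groth.L00.KFlat.hasLTensorCx Er
    haveI : DCoh.HasRSheafHom Er := Groth.L29.DC.RHom.hasRSheafHom Er
    obtain ⟨ρ⟩ := Groth.L29.DC.ExtZero.nonempty_res_RSheafHom C.jU E
    obtain ⟨r⟩ := Groth.L29.DC.nonempty_Lpull_iso_restrictD C.jU K
    let eV : (DCoh.tildeD (CommRingCat.of C.A)).obj W ≅ (DCoh.restrictD C.jU).obj (DCoh.toD X E) :=
      eW.symm ≪≫ r ≪≫ (DCoh.restrictD C.jU).mapIso e.symm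
    obtain ⟨c, hc⟩ := Groth.L10.ShriekLoc.exists_isGE_of_relPerfect W hW
    haveI : PreservesFiniteColimits (tilde.functor (CommRingCat.of C.A)) :=
      haveI : PreservesColimitsOfSize.{0, 0} (tilde.functor (CommRingCat.of C.A)) :=
        tilde.adjunction.leftAdjoint_preservesColimits
      inferInstance
    haveI := hc
    let V := (DCoh.restrictD C.jU).obj (DCoh.toD X E)
    have hge : DerivedCategory.IsGE ((DCoh.tildeD (CommRingCat.of C.A)).obj W) c :=
      Groth.L10.DerivedAdj.isGE_map (w := tilde.functor (CommRingCat.of C.A)) W c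
    haveI : DerivedCategory.TStructure.t.IsGE ((DCoh.tildeD (CommRingCat.of C.A)).obj W) c := hge
    have hV : V.IsGE c := DerivedCategory.TStructure.t.isGE_of_iso eV c
    have hq : DCoh.IsQCohD V := Groth.L29.DC.isQCohD_of_iso eV (Groth.L10.ShriekLoc.isQCohD_tilde (R := CommRingCat.of C.A) W)
    have hEr : ∀ m : ℤ, DCoh.IsPseudoCoherentD m (DCoh.toD _ Er) := fun m => by
      have h1 := Groth.L29.DC.isPseudoCoherentD_of_iso e.symm (hpc m)
      exact Groth.L29.DC.isPseudoCoherentD_of_iso
        ((Groth.L29.DC.ExtZero.res C.jU).mapDerivedCategoryFactors.app E) (Groth.L29.DC.PCStalk.pc_res C.jU h1)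
    exact Groth.L29.DC.isQCohD_of_iso (ρ.app (DCoh.toD X E)).symm
      (Groth.L29.BC.SupportAdj.qcoh_RHom_of_pc hEr hq c hV)
  · obtain ⟨C, hfp, W, hx, eW, hW⟩ := Groth.L10.ShriekLoc.exists_chart_relPerfect f K hpc htor x
    obtain ⟨eW⟩ := @eW inferInstance
    haveI := hfp
    haveI := Groth.L10.ShriekLoc.module_flat C
    haveI := Groth.L10.KFlatLBC.hasLBaseChange
      (Algebra.TensorProduct.includeLeftRingHom : C.A →+* TensorProduct C.R C.A C.A)
    obtain ⟨Rμ, ⟨adjμ⟩⟩ := Groth.L10.Shriek.exists_rightAdjoint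
      (Algebra.TensorProduct.lmul' C.R (S := C.A)).toRingHom
    obtain ⟨hbij, hvan⟩ := Groth.Agent.S1793.result C.R C.A Rμ adjμ W
      (Groth.L10.ShriekLoc.isRelDualizing_chart hK C W ⟨eW⟩ hW Rμ adjμ)
    exact ⟨C.A, C.instA, inferInstance, C.jU, C.openU, inferInstance, W, hx,
      ⟨(DCoh.Lpull C.jU).mapIso e ≪≫ eW⟩, hbij, hvan⟩

end Groth.Agent.S3648
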