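import Groth.Statements.S3651
import Groth.Agent.S3641
import Groth.Agent.S3645
import Groth.Agent.S3634
import Groth.Agent.Lead.RigidDual.Main
import Groth.Agent.Lead.ShriekIndep.Indep
import Groth.Agent.L10.ShriekLoc.Compact


set_option autoImplicit false
universe u
open CategoryTheory CategoryTheory.Limits AlgebraicGeometry
attribute [local instance] HasDerivedCategory.standard
open Dual3

namespace Groth.Agent.S3651

/-- Let S be a Noetherian scheme, X and Y schemes separated and of finite type over S and f : X → Y a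
morphism over S; compute f^! through a compactification of f (an open immersion j : X → X' followed
by a proper p : X' → Y, with Rp_* on D_QCoh assumed to exist and to preserve quasi-coherence of
cohomology, a a right adjoint of Rp_*, and restriction of modules to opens assumed exact), so that
f^!K = a(K)|_X. If f is flat and O is the structure sheaf of Y placed in degree 0, then f^!O
underlies a relative dualizing complex for f in the rigid sense. (f is separated, being a morphism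
between separated S-schemes; its separatedness is carried as an instance hypothesis.) -/
theorem result (S X Y : Scheme.{u}) [IsNoetherian S] (p : X ⟶ S) (q : Y ⟶ S) [Dual3.IsSepFT p] [Dual3.IsSepFT q] (f : X ⟶ Y) (w : f ≫ q = p) [Flat f] [IsSeparated f] [DCoh.HasLpull (pullback.fst f f)] [PreservesFiniteLimits (Scheme.Modules.pushforward (pullback.diagonal f))] [PreservesFiniteColimits (Scheme.Modules.pushforward (pullback.diagonal f))] (c : DEt.Compactification f) [DCoh.HasRpush c.fbar] (hc : DCoh.RpushPreservesQCoh c.fbar) (a : DCoh.DQCoh Y ⥤ DCoh.DQCoh c.Xbar) (adj : DCoh.RpushQ c.fbar hc ⊣ a) [∀ (U V : Scheme.{u}) (j : U ⟶ V) [IsOpenImmersion j], PreservesFiniteLimits (Scheme.Modules.restrictFunctor j)] (O : DCoh.DQCoh Y) (hO : Nonempty (O.obj ≅ DCoh.inD Y (Coh.structureModule Y))) : Dual3.IsRelDualizing f ((Dual3.shriekC c a).obj O) := by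
  open Groth.L29 Groth.L29.DC Groth.L29.BCAdj Groth.L10.ShriekLoc Groth.Lead.ShriekIndep in
  haveI := fun {A B : Scheme.{u}} (k : A ⟶ B) => RpushQC.hasRpush k
  haveI := fun {A B : Scheme.{u}} (k : A ⟶ B) => Groth.L00.KFlat.hasLpull k
  haveI : IsNoetherian Y := isNoetherian_of_sepFT q
  haveI : IsNoetherian X := isNoetherian_of_sepFT p
  haveI : LocallyOfFiniteType f := locallyOfFiniteType_of_sepFT w
  haveI : QuasiCompact f := inferInstance
  let P := pullback f f
  let p₁ : P ⟶ X := pullback.fst f f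
  let p₂ : P ⟶ X := pullback.snd f f
  let Δ : X ⟶ P := pullback.diagonal f
  haveI : Dual3.IsSepFT (p₂ ≫ p) := by
    exact ⟨inferInstance, inferInstance, inferInstance⟩
  haveI : IsNoetherian (P : Scheme.{u}) := isNoetherian_of_sepFT (p₂ ≫ p)
  haveI : Dual3.HasHomO Δ := Groth.Lead.ClShriek.hasHomO Δ
  -- a compactification of `p₂`
  let fb := pullback.snd c.fbar f
  haveI : IsProper fb := MorphismProperty.pullback_snd _ _ inferInstance
  let j' : (P : Scheme.{u}) ⟶ pullback c.fbar f := pullback.lift (p₁ ≫ c.j) p₂ (by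
    rw [Category.assoc, c.fac]; exact pullback.condition)
  have hh : IsPullback p₁ (j' ≫ fb) (c.j ≫ c.fbar) f := by
    rw [pullback.lift_snd, c.fac]; exact IsPullback.of_hasPullback f f
  have hsq' : IsPullback p₁ j' c.j (pullback.fst c.fbar f) :=
    IsPullback.of_bot hh (pullback.lift_fst _ _ _).symm (IsPullback.of_hasPullback c.fbar f)
  haveI : IsOpenImmersion j' := MorphismProperty.of_isPullback hsq' inferInstance
  let c₂ : DEt.Compactification p₂ := ⟨_, j', fb, inferInstance, inferInstance, pullback.lift_snd _ _ _⟩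
  obtain ⟨a₂, ⟨adj₂⟩⟩ := exists_adj c₂.fbar
  obtain ⟨F⟩ := Groth.Agent.S3641.result S X Y (P : Scheme.{u}) X p q (p₂ ≫ p) p f f p₂ p₁ w w rfl
    (IsPullback.of_hasPullback f f) c c₂ hc (isQCohD_push c₂.fbar) a a₂ adj adj₂ (isQCohD_pull f)
  obtain ⟨o⟩ := hO
  haveI hOge : O.obj.IsGE 0 := isGE_O O ⟨o⟩
  let OX : DCoh.DQCoh X := ⟨DCoh.inD X (Coh.structureModule X), isQCohD_of_iso
    ((DerivedCategory.singleFunctorIsoCompQ X.Modules 0).app _).symm BC.AdjTensor.isQCohD_O0⟩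
  obtain ⟨cO⟩ := BCAdj.nonempty_Lpull_OD f
  let ω := (DCoh.Lpull p₁).obj ((Dual3.shriekC c a).obj O)
  let e₁ : ω ≅ (Dual3.shriekC c₂ a₂).obj OX :=
    F.app ⟨O, 0, hOge⟩ ≪≫ (Dual3.shriekC c₂ a₂).mapIso (ObjectProperty.isoMk _ ((DCoh.Lpull f).mapIso o ≪≫ cO))
  -- the diagonal
  let cΔ : DEt.Compactification Δ := ⟨X, 𝟙 X, Δ, inferInstance, inferInstance, Category.id_comp Δ⟩
  let c₁ : DEt.Compactification (Δ ≫ p₂) :=
    ⟨X, 𝟙 X, 𝟙 X, inferInstance, inferInstance, by rw [pullback.diagonal_snd, Category.id_comp]⟩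
  obtain ⟨aΔ, ⟨adjΔ⟩⟩ := exists_adj cΔ.fbar
  obtain ⟨adj₁⟩ := nonempty_adj_id X (isQCohD_push (𝟙 X))
  have hres : ∀ K : DCoh.D c₂.Xbar, DCoh.IsQCohD K → DCoh.IsQCohD ((DCoh.restrictD c₂.j).obj K) :=
    fun K hK => isQCohD_restrictD c₂.j hK
  obtain ⟨C⟩ := nonempty_comp cΔ c₂ c₁ adjΔ adj₂ adj₁ hres
  haveI hOXge : OX.obj.IsGE 0 := isGE_O OX ⟨Iso.refl _⟩
  obtain ⟨lid⟩ := nonempty_Lpull_restrictD (𝟙 X)
  obtain ⟨li⟩ := Groth.L10.FMDiag.nonempty_Lpull_id (X := X)
  let W : DCoh.DQCoh (P : Scheme.{u}) := ⟨(Dual3.shriekC c₂ a₂).obj OX, hres _ (a₂.obj OX).property⟩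
  obtain ⟨n, hn⟩ : Dual3.IsBddBelowQ (P : Scheme.{u}) W := by
    obtain ⟨c', hc'⟩ := exists_isGE adj₂ OX 0 hOXge
    haveI : ((DCoh.IsQCohD (X := c₂.Xbar)).ι.obj (a₂.obj OX)).IsGE c' := hc'
    exact ⟨c', Groth.L10.DerivedAdj.isGE_map (w := Scheme.Modules.restrictFunctor c₂.j) _ c'⟩
  have hpcΔ : ∀ m : ℤ, DCoh.IsPseudoCoherentD m
      (DCoh.inD (P : Scheme.{u}) ((Scheme.Modules.pushforward Δ).obj (Coh.structureModule X))) := fun m => by
    have hc := Groth.L16.CohClosedPush.isCoh_push Δ (Groth.L16.Rees.RelVanish.isCoh_structureModule X)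
    let N := (Scheme.Modules.pushforward Δ).obj (Coh.structureModule X)
    have hz : ∀ j : ℤ, j ≠ 0 → IsZero (DCoh.HD (DCoh.inD (P : Scheme.{u}) N) j) :=
      fun j hj => Groth.L29.RelPC.isZero_HD_inD hj
    have hcoh : ∀ j, Coh.IsCoh (DCoh.HD (DCoh.inD (P : Scheme.{u}) N) j) := fun j => by
      by_cases hj : j = 0
      · subst hj
        obtain ⟨e⟩ := Groth.L29.RelPC.nonempty_HD0_inD N
        exact Groth.L16.CohSupport.isCoh_of_iso e.symm hc
      · exact Groth.L29.DC.RHomC.isCoh_of_isZero (hz j hj)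
    haveI : (DCoh.inD (P : Scheme.{u}) N).IsLE 0 :=
      (DerivedCategory.isLE_iff _ _).2 fun j hj => hz j (by omega)
    exact Groth.L29.DC.PCNoeth.pc_of_coh (fun j => (hcoh j).1) m 0 fun j _ => hcoh j
  obtain ⟨r⟩ := Groth.Lead.ClShriek.nonempty_adjoint_iso Δ hpcΔ (isQCohD_push cΔ.fbar) aΔ adjΔ
  let v : OX.obj ≅ (Groth.Lead.ClShriek.Rsh Δ).obj ω :=
    (lid.symm ≪≫ li).symm.app OX.obj ≪≫ C.app ⟨OX, 0, hOXge⟩ ≪≫ (lid.symm ≪≫ li).app _ ≪≫
      r.app ⟨W, n, hn⟩ ≪≫ (Groth.Lead.ClShriek.Rsh Δ).mapIso e₁.symm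
  obtain ⟨hK, -⟩ := Groth.Agent.S3645.result S X Y p q f w c hc a adj O ⟨o⟩
  refine ⟨((Groth.Lead.ClShriek.adjSh Δ).homEquiv OX.obj ω).symm v.hom, hK.1, hK.2, fun M j =>
    Groth.Lead.RigidDual.bijective_shift (Dual3.pushD Δ) _ (fun M => ?_) M j⟩
  have : (fun φ : M ⟶ OX.obj => (Dual3.pushD Δ).map φ ≫ ((Groth.Lead.ClShriek.adjSh Δ).homEquiv OX.obj ω).symm v.hom) =
      (v.homToEquiv.trans ((Groth.Lead.ClShriek.adjSh Δ).homEquiv M ω).symm) := by
    funext φ
    exact ((Groth.Lead.ClShriek.adjSh Δ).homEquiv_naturality_left_symm φ v.hom).symm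
  exact this ▸ (v.homToEquiv.trans ((Groth.Lead.ClShriek.adjSh Δ).homEquiv M ω).symm).bijective


end Groth.Agent.S3651
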