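import Groth.Statements.S3656
import Groth.Agent.L10.ShriekDual.Basic
import Groth.Agent.L10.FMBC.Comp
import Groth.Agent.L29.DCoh.Restrict
import Groth.Agent.L29.DCoh.PCNoeth
import Groth.Agent.S1823
import Groth.Agent.S1115

set_option autoImplicit false
set_option linter.style.haveILetI false
set_option linter.unusedVariables false
set_option maxHeartbeats 1600000
set_option maxSynthPendingDepth 4
set_option backward.isDefEq.respectTransparency.types false
set_option backward.defeqAttrib.useBackward true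
set_option backward.isDefEq.respectTransparency false
universe u
open CategoryTheory CategoryTheory.Limits AlgebraicGeometry
attribute [local instance] HasDerivedCategory.standard
open Dual3

namespace Groth.Agent.S3656

attribute [local instance] Groth.L00.KFlat.hasLTensorCx Groth.L29.DC.RHom.hasRSheafHom

/-- Let S be a Noetherian scheme, X and Y schemes separated and of finite type over S and f : X → Y a
morphism over S; compute f^! through a compactification f = j ∘ p (j : X → X' an open immersion, p :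
X' → Y proper, Rp_* on D_QCoh assumed to exist and to preserve quasi-coherence of cohomology, a a
right adjoint of Rp_*, restriction of modules to opens assumed exact), so that f^!K = a(K)|_X. Let K
be a bounded below object of D_QCoh(O_Y) which is a dualizing complex on Y (exactness instances as
in the definition), and M in D_QCoh(O_Y) bounded below with coherent cohomology sheaves, represented
by a complex M' with - ⊗^L M' ⊣ RHom(M', -) assumed; let N' be a complex representing Lf^*RHom(M',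
K) (derived pullback assumed to exist) with - ⊗^L N' ⊣ RHom(N', -) assumed. Then f^!M ≅ RHom(N',
f^!K) in D(O_X); that is, f^!M = D_X(Lf^* D_Y(M)) for the dualities D_Y = RHom(-, K) and D_X =
RHom(-, f^!K). -/
theorem result (S X Y : Scheme.{u}) [IsNoetherian S] (p : X ⟶ S) (q : Y ⟶ S) [Dual3.IsSepFT p] [Dual3.IsSepFT q] (f : X ⟶ Y) (w : f ≫ q = p) (c : DEt.Compactification f) [DCoh.HasRpush c.fbar] (hc : DCoh.RpushPreservesQCoh c.fbar) (a : DCoh.DQCoh Y ⥤ DCoh.DQCoh c.Xbar) (adj : DCoh.RpushQ c.fbar hc ⊣ a) [∀ (U V : Scheme.{u}) (j : U ⟶ V) [IsOpenImmersion j], PreservesFiniteLimits (Scheme.Modules.restrictFunctor j)] [∀ (R : CommRingCat.{u}), PreservesFiniteLimits (tilde.functor R)] [DCoh.HasLpull f] (K : DCoh.DQCoh Y) (c₀ : ℤ) (hK : ∀ i : ℤ, i < c₀ → IsZero (DCoh.HD K.obj i)) (hKd : Dual2.IsDualizingSch Y K.obj) (M : DCoh.DQCoh Y) (c₁ : ℤ) (hM : ∀ i : ℤ, i < c₁ → IsZero (DCoh.HD M.obj i)) (hMc : ∀ i : ℤ, Coh.IsCoh (DCoh.HD M.obj i)) (M' : CochainComplex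 Y.Modules ℤ) (hM' : Nonempty (DCoh.toD Y M' ≅ M.obj)) [DCoh.HasLTensorCx M'] [DCoh.HasRSheafHom M'] (N' : CochainComplex X.Modules ℤ) (hN' : Nonempty (DCoh.toD X N' ≅ (DCoh.Lpull f).obj ((DCoh.RSheafHom M').obj K.obj))) [DCoh.HasLTensorCx N'] [DCoh.HasRSheafHom N'] : Nonempty ((Dual3.shriekC c a).obj M ≅ (DCoh.RSheafHom N').obj ((Dual3.shriekC c a).obj K)) := by
  haveI : IsLocallyNoetherian Y := LocallyOfFiniteType.isLocallyNoetherian q
  haveI : CompactSpace Y := QuasiCompact.compactSpace_of_compactSpace q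
  haveI : IsNoetherian Y := {}
  haveI : IsLocallyNoetherian c.Xbar := LocallyOfFiniteType.isLocallyNoetherian c.fbar
  haveI : CompactSpace c.Xbar := QuasiCompact.compactSpace_of_compactSpace c.fbar
  haveI : IsNoetherian c.Xbar := {}
  haveI := fun {A B : Scheme.{u}} (k : A ⟶ B) => Groth.L00.KFlat.hasLpull k
  obtain ⟨eM⟩ := hM'
  obtain ⟨eN'⟩ := hN'
  have hL : ∀ i : ℤ, Coh.IsCoh (DCoh.HD (DCoh.toD Y M') i) := fun i =>
    Groth.L16.CohSupport.isCoh_of_iso ((DerivedCategory.homologyFunctor _ i).mapIso eM.symm) (hMc i)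
  obtain ⟨hNc, hbid⟩ := Groth.Agent.S1823.result Y K.obj hKd M' hL
  let N := (DCoh.RSheafHom M').obj K.obj
  let P := DerivedCategory.Q.objPreimage N
  let eP : DCoh.toD Y P ≅ N := DerivedCategory.Q.objObjPreimageIso N
  obtain ⟨b⟩ := hbid P ⟨eP⟩
  have hM'ge : (DCoh.toD Y M').IsGE c₁ := (DerivedCategory.isGE_iff _ _).2 fun i hi =>
    (hM i hi).of_iso ((DerivedCategory.homologyFunctor _ i).mapIso eM)
  obtain ⟨d, hd⟩ := Groth.L10.ShriekDual.exists_isLE_dual K.obj hKd M' c₁ hM'ge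
  haveI := hd
  have hNq : DCoh.IsQCohD N := fun i => (hNc i).1
  have hPq : DCoh.IsQCohD (DCoh.toD Y P) := Groth.L29.DC.isQCohD_of_iso eP.symm hNq
  let P' := DerivedCategory.Q.objPreimage ((DCoh.Lpull c.fbar).obj (DCoh.toD Y P))
  let eP' : DCoh.toD c.Xbar P' ≅ (DCoh.Lpull c.fbar).obj (DCoh.toD Y P) := DerivedCategory.Q.objObjPreimageIso _
  have hpc : ∀ m : ℤ, DCoh.IsPseudoCoherentD m (DCoh.toD c.Xbar P') := fun m =>
    Groth.L29.DC.isPseudoCoherentD_of_iso eP'.symm (Groth.L29.DC.isPseudoCoherentD_Lpull c.fbar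
      (Groth.L29.DC.isPseudoCoherentD_of_iso eP.symm
        (Groth.L29.DC.PCNoeth.pc_of_coh hNq m d fun i _ => hNc i)))
  have hKge : K.obj.IsGE c₀ := (DerivedCategory.isGE_iff _ _).2 fun i hi => hK i hi
  obtain ⟨c', hc'⟩ := Groth.L10.ShriekLoc.exists_isGE adj K c₀ hKge
  haveI := hc'
  have hq' := Groth.Agent.S1115.result c.Xbar P' hpc (a.obj K).obj (a.obj K).property c'
  have hqq : DCoh.IsQCohD ((DCoh.RSheafHom P).obj K.obj) :=
    Groth.L29.DC.isQCohD_of_iso (b ≪≫ eM).symm M.property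
  obtain ⟨e₁⟩ := Groth.L10.ShriekDual.nonempty_shriek_RSheafHom c.fbar hc adj P hPq K hqq P' eP' hq'
  let t : (⟨(DCoh.RSheafHom P).obj K.obj, hqq⟩ : DCoh.DQCoh Y) ≅ M := ObjectProperty.isoMk _ (b ≪≫ eM)
  obtain ⟨r⟩ := Groth.L29.SchUnique.restrict_RSheafHom c.j P' (a.obj K).obj
  obtain ⟨l₁⟩ := Groth.L29.DC.nonempty_Lpull_iso_restrictD c.j (DCoh.toD c.Xbar P')
  obtain ⟨l₂⟩ := Groth.L10.FMBC.nonempty_lpull_comp' c.j c.fbar c.fac
  obtain ⟨s⟩ := Groth.L29.DC.EvalMain.nonempty_RSheafHom_iso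
    (E := (Groth.L29.DC.ExtZero.rCx c.j).obj P') (E' := N')
    (((Scheme.Modules.restrictFunctor c.j).mapDerivedCategoryFactors.app P').symm ≪≫ l₁.symm ≪≫
      (DCoh.Lpull c.j).mapIso eP' ≪≫ l₂.app _ ≪≫ (DCoh.Lpull f).mapIso eP ≪≫ eN'.symm)
  exact ⟨(DCoh.restrictD c.j).mapIso ((ObjectProperty.ι _).mapIso (a.mapIso t).symm ≪≫ e₁) ≪≫ r ≪≫ s.app _⟩

end Groth.Agent.S3656
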