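import Groth.Statements.S3659
import Groth.Agent.L29.Dual.PushDual

set_option linter.style.haveILetI false
set_option maxHeartbeats 1600000
set_option maxSynthPendingDepth 4
set_option backward.defeqAttrib.useBackward true
set_option backward.isDefEq.respectTransparency false
set_option backward.isDefEq.respectTransparency.types false

set_option autoImplicit false
universe u
open CategoryTheory CategoryTheory.Limits AlgebraicGeometry
attribute [local instance] HasDerivedCategory.standard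
open Dual3

namespace Groth.Agent.S3659

/-- Let f : X → Y be a morphism of quasi-compact quasi-separated schemes. Assume the derived direct
image Rf_* exists and preserves quasi-coherence of cohomology sheaves (both known results), so that
it restricts to a functor D_QCoh(O_X) → D_QCoh(O_Y), and let a : D_QCoh(O_Y) → D_QCoh(O_X) be a
right adjoint of this restricted functor. Let Lf^* be the derived pullback (assumed to exist), K a
perfect object of D_QCoh(O_Y) and L any object of D_QCoh(O_Y). Let K' be a complex representing K,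
with the derived tensor product − ⊗^L K' assumed to exist and K ⊗^L L (computed as L ⊗^L K') assumed
to lie again in D_QCoh (a known fact, taken as a hypothesis), and let E be a complex representing
a(L), with − ⊗^L E assumed to exist. Then a(K ⊗^L L) ≅ Lf^*K ⊗^L a(L) in D(O_X). -/
theorem result (X Y : Scheme.{u}) [CompactSpace X] [QuasiSeparatedSpace X] [CompactSpace Y] [QuasiSeparatedSpace Y] (f : X ⟶ Y) [DCoh.HasRpush f] (hf : DCoh.RpushPreservesQCoh f) (a : DCoh.DQCoh Y ⥤ DCoh.DQCoh X) (adj : DCoh.RpushQ f hf ⊣ a) [DCoh.HasLpull f] (K L : DCoh.DQCoh Y) (hK : DCoh.IsPerfect K.obj) (K' : CochainComplex Y.Modules ℤ) (hK' : Nonempty (DCoh.toD Y K' ≅ K.obj)) [DCoh.HasLTensorCx K'] (hKL : DCoh.IsQCohD ((DCoh.LTensorCx K').obj L.obj)) (E : CochainComplex X.Modules ℤ) (hE : Nonempty (DCoh.toD X E ≅ (a.obj L).obj)) [DCoh.HasLTensorCx E] : Nonempty ((a.obj ⟨(DCoh.LTensorCx K').obj L.obj, hKL⟩).obj ≅ (DCoh.LTensorCx E).obj ((DCoh.Lpull f).obj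 K.obj)) := by
  haveI := fun {V : Scheme.{u}} (F : CochainComplex V.Modules ℤ) => Groth.L00.KFlat.hasLTensorCx F
  haveI := fun {V : Scheme.{u}} (F : CochainComplex V.Modules ℤ) => Groth.L29.DC.RHom.hasRSheafHom F
  haveI : QuasiCompact f := QuasiCompact.of_comp f (terminal.from Y)
  haveI : QuasiSeparated f := QuasiSeparated.of_comp f (terminal.from Y)
  obtain ⟨kK⟩ := hK'
  obtain ⟨eE⟩ := hE
  -- K-flat representatives and duals
  obtain ⟨P, hP, ⟨eP⟩⟩ := Groth.L07.BvdB.DualHom.exists_kflat_rep K.obj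
  have hPp : DCoh.IsPerfect (DCoh.toD Y P) := Groth.L29.DC.isPerfect_of_iso eP.symm hK
  obtain ⟨D, hD, ⟨d⟩⟩ := Groth.L07.BvdB.DualHom.exists_kflat_rep
    ((DCoh.RSheafHom P).obj (DCoh.inD Y (Coh.structureModule Y)))
  obtain ⟨hDp, -⟩ := Groth.L10.DualNat.nonempty_RSheafHom_iso_LT P hPp D ⟨d⟩
  obtain ⟨o⟩ := Groth.L29.DC.EvalMain.nonempty_O0_iso (X := Y)
  obtain ⟨o'⟩ := Groth.L29.DC.EvalMain.nonempty_O0_iso (X := X)
  obtain ⟨σ⟩ := Groth.L10.DualNat.nonempty_LT_iso_RHom P D hP hPp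
    ⟨d ≪≫ (DCoh.RSheafHom P).mapIso o.symm⟩
  let P' := (Groth.L29.DC.Proj.pullCx f).obj P
  let D' := (Groth.L29.DC.Proj.pullCx f).obj D
  have hP' : DCoh.IsKFlat P' := Groth.L00.KFlat.pullback_kflat f P hP
  let oP := Groth.L00.DerivedApi.objIso (Groth.L00.DerivedApi.acyclicKFlat_pullback f) P hP
  let oD := Groth.L00.DerivedApi.objIso (Groth.L00.DerivedApi.acyclicKFlat_pullback f) D hD
  have hPp' : DCoh.IsPerfect (DCoh.toD X P') :=
    Groth.L29.DC.isPerfect_of_iso oP (Groth.L29.DC.isPerfect_Lpull f hPp)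
  have hDp' : DCoh.IsPerfect (DCoh.toD X D') :=
    Groth.L29.DC.isPerfect_of_iso oD (Groth.L29.DC.isPerfect_Lpull f hDp)
  obtain ⟨d'⟩ := Groth.L29.PushDual.nonempty_dual_pull f P D hP hPp hD d
  obtain ⟨σ'⟩ := Groth.L10.DualNat.nonempty_LT_iso_RHom P' D' hP' hPp'
    ⟨d' ≪≫ (DCoh.RSheafHom P').mapIso o'.symm⟩
  have hqP := Groth.L29.DC.PCQCoh.isQCohD_of_perfect hPp
  have hqD := Groth.L29.DC.PCQCoh.isQCohD_of_perfect hDp
  have hqP' := Groth.L29.DC.PCQCoh.isQCohD_of_perfect hPp'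
  have hqD' := Groth.L29.DC.PCQCoh.isQCohD_of_perfect hDp'
  -- tensoring with duals is adjoint to tensoring
  obtain ⟨adjY⟩ := Groth.L10.FMAdj.nonempty_restrict ((DCoh.RSheafHomAdj D).ofNatIsoRight σ.symm)
    (DCoh.IsQCohD (X := Y)) (DCoh.IsQCohD (X := Y))
    (fun M hM => Groth.L29.DC.isQCohD_LTensorCx D hqD hM) (fun M hM => Groth.L29.DC.isQCohD_LTensorCx P hqP hM)
  obtain ⟨adjX⟩ := Groth.L10.FMAdj.nonempty_restrict ((DCoh.RSheafHomAdj D').ofNatIsoRight σ'.symm)
    (DCoh.IsQCohD (X := X)) (DCoh.IsQCohD (X := X))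
    (fun M hM => Groth.L29.DC.isQCohD_LTensorCx D' hqD' hM)
    (fun M hM => Groth.L29.DC.isQCohD_LTensorCx P' hqP' hM)
  obtain ⟨τ, hτ⟩ := Groth.L10.FMBC.exists_projection f D hD hqD
  let u := ((adj.comp adjY).ofNatIsoLeft (NatIso.ofComponents
    (fun N => ObjectProperty.isoMk _ (@asIso _ _ _ _ _ (hτ N.obj N.property)))
    (fun v => by apply ObjectProperty.hom_ext; exact τ.naturality v.hom))).rightAdjointUniq (adjX.comp adj)
  -- identification of the objects
  obtain ⟨c⟩ := Groth.L29.BC.ProjQC.nonempty_LTensorCx_congr (kK ≪≫ eP.symm)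
  obtain ⟨Ek, hEk, ⟨eEk⟩⟩ := Groth.L07.BvdB.DualHom.exists_kflat_rep (a.obj L).obj
  obtain ⟨cE⟩ := Groth.L29.BC.ProjQC.nonempty_LTensorCx_congr (eE ≪≫ eEk.symm)
  obtain ⟨sw⟩ := Groth.L07.BvdB.DualHom.nonempty_lt_swap hP' hEk
  exact ⟨(DCoh.IsQCohD (X := X)).ι.mapIso
      (a.mapIso (ObjectProperty.isoMk _ (c.app L.obj) :
        (⟨(DCoh.LTensorCx K').obj L.obj, hKL⟩ : DCoh.DQCoh Y) ≅
          ⟨(DCoh.LTensorCx P).obj L.obj, Groth.L29.DC.isQCohD_LTensorCx P hqP L.property⟩) ≪≫ u.app L) ≪≫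
    (DCoh.LTensorCx P').mapIso eEk.symm ≪≫ sw ≪≫ (cE.app _).symm ≪≫
    (DCoh.LTensorCx E).mapIso (oP.symm ≪≫ (DCoh.Lpull f).mapIso eP)⟩

end Groth.Agent.S3659
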