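import Groth.Statements.S3660
import Groth.Agent.Lead.PerfTensor.Devissage
import Groth.Agent.Lead.ShriekIndep.Indep
import Groth.Agent.L10.ShriekLoc.Compact


set_option autoImplicit false
universe u
open CategoryTheory CategoryTheory.Limits AlgebraicGeometry
attribute [local instance] HasDerivedCategory.standard
open Dual3

namespace Groth.Agent.S3660

/-- Let S be a Noetherian scheme, X and Y schemes separated and of finite type over S, and f : X → Y a
morphism over S. Compute f^! through a compactification of f — an open immersion j : X → X̄ followed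
by a proper p : X̄ → Y, with Rp_* on D_QCoh assumed to exist and to preserve quasi-coherence of
cohomology, a a right adjoint of Rp_*, and restriction of modules to opens assumed exact — so that
f^!K = a(K)|_X. Assume f is perfect (for instance flat), let O be an object of D_QCoh(O_Y)
isomorphic to the structure sheaf of Y in degree 0, E a complex of O_X-modules representing f^!O for
which − ⊗^L E is available, and Lf^* the derived pullback (assumed to exist). Then f^! ≅ Lf^*(−) ⊗^L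
E, that is f^!K ≅ Lf^*K ⊗^L f^!O_Y, as functors on D^+_QCoh(O_Y). -/
theorem result (S X Y : Scheme.{u}) [IsNoetherian S] (p : X ⟶ S) (q : Y ⟶ S) [Dual3.IsSepFT p] [Dual3.IsSepFT q] (f : X ⟶ Y) (w : f ≫ q = p) (hf : MoreMor.IsPerfectMor f) (c : DEt.Compactification f) [DCoh.HasRpush c.fbar] (hc : DCoh.RpushPreservesQCoh c.fbar) (a : DCoh.DQCoh Y ⥤ DCoh.DQCoh c.Xbar) (adj : DCoh.RpushQ c.fbar hc ⊣ a) [∀ (U V : Scheme.{u}) (j : U ⟶ V) [IsOpenImmersion j], PreservesFiniteLimits (Scheme.Modules.restrictFunctor j)] (O : DCoh.DQCoh Y) (hO : Nonempty (O.obj ≅ DCoh.inD Y (Coh.structureModule Y))) [DCoh.HasLpull f] (E : CochainComplex X.Modules ℤ) (hE : Nonempty (DCoh.toD X E ≅ (Dual3.shriekC c a).obj O)) [DCoh.HasLTensorCx E] : Nonempty (Dual3.bddι Y ⋙ Dual3.shriekC c a ≅ Dual3.bddι Y ⋙ ObjectProperty.ι _ ⋙ DCoh.Lpull f ⋙ DCoh.LTensorCx E) := by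
  open Groth.L00 Groth.L29 Groth.L29.DC Groth.L29.BCAdj Groth.L10.ShriekLoc Groth.Lead.PerfTensor Groth.Lead.ShriekIndep in
  haveI := fun {A B : Scheme.{u}} (k : A ⟶ B) => RpushQC.hasRpush k
  haveI := fun {A B : Scheme.{u}} (k : A ⟶ B) => KFlat.hasLpull k
  haveI : IsNoetherian Y := isNoetherian_of_sepFT q
  haveI : IsProper c.fbar := inferInstance
  haveI : IsNoetherian c.Xbar := by
    haveI : CompactSpace c.Xbar := QuasiCompact.compactSpace_of_compactSpace c.fbar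
    haveI : IsLocallyNoetherian c.Xbar := LocallyOfFiniteType.isLocallyNoetherian c.fbar
    exact ⟨⟩
  obtain ⟨I, hLI, hI, Ψ, ⟨eI⟩, h0⟩ := Groth.L29.BC.AdjTensor.exists_comparison c.fbar adj
  haveI := hLI
  -- the comparison restricted to `X`
  let q' := (DCoh.IsQCohD (X := c.Xbar)).ι ⋙ DCoh.Lpull c.j
  let Φ := Functor.whiskerLeft (Dual3.bddι Y) (Functor.whiskerRight Ψ q')
  haveI : ∀ K, IsIso (Φ.app K) := fun K => by
    obtain ⟨lo, hlo⟩ := K.property
    change IsIso ((DCoh.Lpull c.j).map ((DCoh.IsQCohD (X := c.Xbar)).ι.map (Ψ.app K.obj)))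
    refine Groth.L29.BC.isIso_of_Lpull_cover _ fun x => ?_
    obtain ⟨C, n, ψ, hx, hψ, hp⟩ := exists_chart_perfect hf x
    obtain ⟨d, hd⟩ := exists_bound c adj C n ψ hψ hp I eI
    have hk := isIso_devissage c.fbar adj I hI Ψ h0 C.R C.jV (C.jU ≫ c.j) d hd K.obj lo hlo
    obtain ⟨l⟩ := Groth.L10.FMBC.nonempty_lpull_comp' C.jU c.j (show C.jU ≫ c.j = C.jU ≫ c.j from rfl)
    refine ⟨C.jU.opensRange, inferInstance, hx, ?_⟩
    obtain ⟨l'⟩ := Groth.L10.FMBC.nonempty_lpull_comp' C.jU.isoOpensRange.inv C.jU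
      (show C.jU.isoOpensRange.inv ≫ C.jU = C.jU.opensRange.ι by
        rw [Iso.inv_comp_eq, Scheme.Hom.isoOpensRange_hom_ι])
    refine (NatIso.isIso_map_iff l' _).1 ?_
    haveI : IsIso ((DCoh.Lpull C.jU).map ((DCoh.Lpull c.j).map
        ((DCoh.IsQCohD (X := c.Xbar)).ι.map (Ψ.app K.obj)))) := (NatIso.isIso_map_iff l _).2 hk
    change IsIso ((DCoh.Lpull _).map ((DCoh.Lpull C.jU).map _))
    infer_instance
  haveI : IsIso Φ := NatIso.isIso_of_isIso_app Φ
  -- the right-hand side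
  obtain ⟨P, r, hP, -, hr, -⟩ := KFlat.exists_resolution I
  haveI := (DerivedCategory.isIso_Q_map_iff_quasiIso _ r).2 hr
  haveI : DCoh.HasLTensorCx P := KFlat.hasLTensorCx P
  haveI : DCoh.HasLTensorCx ((Proj.pullCx c.j).obj P) := KFlat.hasLTensorCx _
  let eP : DerivedCategory.Q.obj P ≅ DerivedCategory.Q.obj I := asIso (DerivedCategory.Q.map r)
  obtain ⟨eO⟩ := hO
  obtain ⟨eE⟩ := hE
  obtain ⟨rj⟩ := nonempty_Lpull_restrictD c.j
  let e0 : O.obj ≅ (Groth.L29.BC.AdjTensor.O₀ Y).obj := eO ≪≫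
    ((SingleFunctors.evaluation _ _ 0).mapIso (DerivedCategory.singleFunctorsPostcompQIso Y.Modules)).app _
  let eE' : DCoh.toD X ((Proj.pullCx c.j).obj P) ≅ DCoh.toD X E :=
    (DerivedApi.objIso (DerivedApi.acyclicKFlat_pullback c.j) P hP).symm ≪≫
      (DCoh.Lpull c.j).mapIso (eP ≪≫ eI ≪≫
        (DCoh.IsQCohD (X := c.Xbar)).ι.mapIso (a.mapIso (ObjectProperty.isoMk _ e0).symm)) ≪≫
      rj.app _ ≪≫ eE.symm
  obtain ⟨cE⟩ := RHom.nonempty_lt_iso eE'
  obtain ⟨cP⟩ := RHom.nonempty_lt_iso eP.symm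
  obtain ⟨pt⟩ := Groth.L10.FMBC.nonempty_pullTensorD c.j P hP
  obtain ⟨lf⟩ := Groth.L10.FMBC.nonempty_lpull_comp' c.j c.fbar c.fac
  let ιY := (DCoh.IsQCohD (X := Y)).ι
  refine ⟨Functor.isoWhiskerLeft (Dual3.bddι Y) (Functor.isoWhiskerLeft
    (a ⋙ (DCoh.IsQCohD (X := c.Xbar)).ι) rj.symm) ≪≫ (asIso Φ).symm ≪≫
    Functor.isoWhiskerLeft (Dual3.bddι Y) (Functor.isoWhiskerLeft ιY (
      Functor.isoWhiskerLeft (DCoh.Lpull c.fbar) (Functor.isoWhiskerRight cP (DCoh.Lpull c.j) ≪≫ pt) ≪≫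
      (Functor.associator _ _ _).symm ≪≫ Functor.isoWhiskerRight lf _ ≪≫
      Functor.isoWhiskerLeft _ cE))⟩


end Groth.Agent.S3660
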