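import Groth.Statements.S3669
import Groth.Agent.L22.FLI.Main
import Groth.Agent.L16.AffineBC.Local
import Groth.Agent.L16.Acc
import Groth.Agent.L22.ExtSh.DualSheaf

set_option linter.style.haveILetI false
set_option backward.isDefEq.respectTransparency false
set_option backward.isDefEq.respectTransparency.types false


set_option autoImplicit false
universe u
open CategoryTheory CategoryTheory.Limits AlgebraicGeometry
attribute [local instance] HasDerivedCategory.standard
open Dual3

namespace Groth.Agent.S3669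

/-- Let i : Z → X be a closed immersion of schemes with ideal sheaf I, Hom(O_Z, -) a right adjoint of
i_* on modules (it exists; here the chosen one) with counit i_* Hom(O_Z, F) → F. Then for every
O_X-module F and every affine open U ⊆ X, the counit on sections over U, Γ(i⁻¹U, Hom(O_Z, F)) → Γ(U,
F), is injective with image exactly the sections s of F over U with I(U) · s = 0. -/
theorem result (Z X : Scheme.{u}) (i : Z ⟶ X) [IsClosedImmersion i] [Dual3.HasHomO i] (F : X.Modules) (U : X.affineOpens) : Function.Injective ⇑(ConcreteCategory.hom (((Dual3.homOAdj i).counit.app F).val.app (Opposite.op U.1))) ∧ Set.range ⇑(ConcreteCategory.hom (((Dual3.homOAdj i).counit.app F).val.app (Opposite.op U.1))) = ((LocCoh.torsionBy (i.ker.ideal U) (F.val.obj (Opposite.op U.1)) : Submodule Γ(X, U.1) (F.val.obj (Opposite.op U.1))) : Set (F.val.obj (Opposite.op U.1))) := by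
  obtain ⟨e⟩ := Groth.L22.DualSheaf.nonempty_homO_push i
  let push := Scheme.Modules.pushforward i
  let adj := Dual3.homOAdj i
  let H := (Dual3.homO i).obj F
  let η : push.obj H ⟶ F := adj.counit.app F
  obtain ⟨Φ, hΦ⟩ := Groth.L16.AffineBC.exists_hom_affine
    (M := Groth.L16.HomSh.homMod (Groth.L22.FLI.sO i) F) (N := F)
    (fun W _ => Groth.L22.FLI.evOne (ι := i) F W)
    (fun W V _ _ h m => Groth.L22.FLI.evOne_rs F h m)
    (fun W _ r m => Groth.L22.FLI.evOne_smul F W r m)
  haveI : Mono Φ := Preadditive.mono_of_cancel_zero _ fun g hg =>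
    Groth.L16.AffineBC.hom_ext_affine _ _ fun W hW x => Groth.L22.FLI.evOne_injective (ι := i) F hW <| by
      refine (hΦ W hW _).symm.trans ((congr($(congrArg (fun k => Scheme.Modules.Hom.app k W) hg) x)).trans ?_)
      exact (map_zero (Groth.L22.FLI.evOne (ι := i) F W)).symm
  let eF : push.obj H ≅ Groth.L16.HomSh.homMod (Groth.L22.FLI.sO i) F := e.app F
  let m : push.obj H ⟶ F := eF.hom ≫ Φ
  let ψ : H ⟶ H := adj.homEquiv H F m
  have hψ : push.map ψ ≫ η = m := by
    rw [← (adj.homEquiv H F).symm_apply_apply m, Adjunction.homEquiv_counit]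
  have hkill : ∀ (W : X.Opens) (x : Γ(push.obj H, W)) (a : Γ(X, W)), i.app W a = 0 → a • η.app W x = 0 := by
    intro W x a ha
    have h : a • x = 0 := by
      show (i.app W a) • (show Γ(H, i ⁻¹ᵁ W) from x) = 0
      rw [ha, zero_smul]
    exact ((η.app_smul a x).symm.trans (congrArg (η.app W) h)).trans (map_zero _)
  have hπ : η ≫ cokernel.π Φ = 0 := Groth.L16.AffineBC.hom_ext_affine _ _ fun W hW x => by
    obtain ⟨s, hs⟩ := Groth.L22.FLI.exists_evOne (ι := i) F hW (η.app W x) (hkill W x)
    show (cokernel.π Φ).app W (η.app W x) = 0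
    rw [← hs, ← hΦ W hW s]
    exact congr($(congrArg (fun k => Scheme.Modules.Hom.app k W) (cokernel.condition Φ)) s)
  let θ := Abelian.monoLift Φ η hπ ≫ eF.inv
  have hθ : θ ≫ m = η := by simp [θ, m]
  haveI := Groth.L17.ClosedPush.isIso_counit i
  let ff := (Scheme.Modules.pullbackPushforwardAdjunction i).fullyFaithfulROfIsIsoCounit
  let χ : H ⟶ H := ff.preimage θ
  have h1 : χ ≫ ψ = 𝟙 H := by
    refine (adj.homEquiv H F).symm.injective ?_
    rw [Adjunction.homEquiv_counit, Adjunction.homEquiv_counit]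
    change push.map (χ ≫ ψ) ≫ η = push.map (𝟙 H) ≫ η
    rw [push.map_comp, Category.assoc, hψ, push.map_id, Category.id_comp,
      show push.map χ = θ from ff.map_preimage θ, hθ]
  have h2 : push.map ψ ≫ θ = 𝟙 _ := by
    rw [← cancel_mono m, Category.assoc, hθ, Category.id_comp]
    exact hψ
  haveI : IsIso θ := ⟨⟨push.map ψ, by rw [← ff.map_preimage θ, ← push.map_comp]; exact (congrArg push.map h1).trans (push.map_id H), h2⟩⟩
  haveI : Mono η := hθ ▸ mono_comp θ m
  refine ⟨Groth.L16.Acc.app_injective η U.1, Set.ext fun w => ⟨?_, fun hw => ?_⟩⟩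
  · rintro ⟨x, rfl⟩
    refine (Submodule.mem_torsionBySet_iff _ _).2 fun ⟨a, ha⟩ => ?_
    rw [SetLike.mem_coe, i.ker_apply U] at ha
    exact hkill U.1 x a ha
  · have hw' := (Submodule.mem_torsionBySet_iff _ _).1 hw
    obtain ⟨s, hs⟩ := Groth.L22.FLI.exists_evOne (ι := i) F U.2 w fun a ha =>
      hw' ⟨a, by rw [SetLike.mem_coe, i.ker_apply U]; exact ha⟩
    refine ⟨(push.map ψ).app U.1 (eF.inv.app U.1 s), ?_⟩
    have h3 : eF.inv ≫ push.map ψ ≫ η = Φ := by rw [hψ]; simp [m]
    exact (congr($(congrArg (fun k => Scheme.Modules.Hom.app k U.1) h3) s)).trans ((hΦ U.1 U.2 s).trans hs)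


end Groth.Agent.S3669
#print axioms Groth.Agent.S3669.result
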