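import Groth.Statements.S3670
import Groth.Agent.L21.GorChart
import Groth.Agent.L21.GorOpen.Main
import Groth.Agent.L07.EquidimCrit
import Mathlib.AlgebraicGeometry.ZariskisMainTheorem

set_option autoImplicit false
set_option backward.isDefEq.respectTransparency false
set_option backward.isDefEq.respectTransparency.types false
universe u
open CategoryTheory CategoryTheory.Limits AlgebraicGeometry
attribute [local instance] HasDerivedCategory.standard
open Dual3

namespace Groth.Agent.S3670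

/-- (1) ⇔ (2) ⇔ (3) ⇔ (4): Let f : X → S be flat and locally of finite presentation, x a point of X and
d = dim_x(X_{f(x)}) the local dimension of its fibre. Then the following are equivalent: (1) f is
Gorenstein at x; (2) there are an open neighbourhood U of x and a locally quasi-finite morphism g :
U → A^d_S over S which is Gorenstein at x; (3) there are an open neighbourhood U of x and a locally
quasi-finite Gorenstein morphism g : U → A^d_S over S; (4) for every open neighbourhood U of x and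
every morphism g : U → A^d_S over S, if x is isolated in its fibre under g (g is quasi-finite at x)
then g is Gorenstein at x. -/
theorem result (X S : Scheme.{u}) (f : X ⟶ S) [Flat f] [LocallyOfFinitePresentation f] (x : X) (d : ℕ) (hd : Dual3.localFibreDim f x = (d : WithBot ℕ∞)) : (Dual3.IsGorensteinAt f x ↔ ∃ (U : X.Opens) (hx : x ∈ U) (g : (U : Scheme.{u}) ⟶ AffineSpace (ULift.{u} (Fin d)) S), g ≫ (AffineSpace (ULift.{u} (Fin d)) S ↘ S) = U.ι ≫ f ∧ LocallyQuasiFinite g ∧ Dual3.IsGorensteinAt g ⟨x, hx⟩) ∧ (Dual3.IsGorensteinAt f x ↔ ∃ (U : X.Opens) (_ : x ∈ U) (g : (U : Scheme.{u}) ⟶ AffineSpace (ULift.{u} (Fin d)) S), g ≫ (AffineSpace (ULift.{u} (Fin d)) S ↘ S) = U.ι ≫ f ∧ LocallyQuasiFinite g ∧ Dual3.IsGorensteinMor g) ∧ (Dual3.IsGorensteinAt f x ↔ ∀ (U : X.Opens) (hx : x ∈ U) (g : (U : Scheme.{u}) ⟶ AffineSpace (ULift.{u} (Fin d)) S), g ≫ (AffineSpace (ULift.{u} (Fin d)) S ↘ S) = U.ι ≫ f → Dual3.QuasiFiniteAt g ⟨x, hx⟩ → Dual3.IsGorensteinAt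 g ⟨x, hx⟩) := by
  have hfd : FlatMor.fibreDimAt f x = (d : WithBot ℕ∞) := by
    rw [← hd]
    exact iInf_subtype
  let π := AffineSpace (ULift.{u} (Fin d)) S ↘ S
  haveI : Smooth π := L02.CMMor.smooth_affineSpace _ S
  have hA : ∀ (U : X.Opens) (hx : x ∈ U) (g : (U : Scheme.{u}) ⟶ AffineSpace (ULift.{u} (Fin d)) S),
      g ≫ π = U.ι ≫ f → Dual3.IsGorensteinAt g ⟨x, hx⟩ → Dual3.IsGorensteinAt f x := by
    intro U hx g hg hG
    refine (Groth.L21.GorensteinCharts.isGorensteinAt_etale_comp_iff U.ι f ⟨x, hx⟩).1 ?_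
    rw [Groth.L21.GorensteinCharts.isGorensteinAt_congr hg.symm]
    refine (Groth.L21.GorensteinCharts.isGorensteinAt_comp_of g π ⟨x, hx⟩).1 ?_ hG
      (Groth.L21.GorOpen.isGorensteinAt_of_smooth π _)
    haveI : LocallyOfFiniteType (g ≫ π) := by rw [hg]; infer_instance
    haveI : LocallyOfFiniteType ((g ≫ π).fiberToSpecResidueField ((g ≫ π) ⟨x, hx⟩)) :=
      MorphismProperty.pullback_snd (g ≫ π) (S.fromSpecResidueField ((g ≫ π) ⟨x, hx⟩)) inferInstance
    haveI := LocallyOfFiniteType.isLocallyNoetherian ((g ≫ π).fiberToSpecResidueField ((g ≫ π) ⟨x, hx⟩))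
    infer_instance
  have hB : Dual3.IsGorensteinAt f x → ∃ (U : X.Opens) (_ : x ∈ U)
      (g : (U : Scheme.{u}) ⟶ AffineSpace (ULift.{u} (Fin d)) S),
      g ≫ π = U.ι ≫ f ∧ LocallyQuasiFinite g ∧ Dual3.IsGorensteinMor g := by
    intro hG
    obtain ⟨V, g, hxV, hg, hflat, hlqf⟩ :=
      (Groth.L20.CMChart.main f x d hfd).1 (Groth.L21.GorOpen.isCMAt_of_isGorensteinAt f x hG)
    haveI : LocallyOfFinitePresentation (g ≫ π) := by rw [hg]; infer_instance
    haveI : LocallyOfFinitePresentation g := Groth.L20.locallyOfFinitePresentation_of_comp g π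
    have h0 : Dual3.IsGorensteinAt g ⟨x, hxV⟩ := by
      have h1 : Dual3.IsGorensteinAt (V.ι ≫ f) ⟨x, hxV⟩ :=
        (Groth.L21.GorensteinCharts.isGorensteinAt_etale_comp_iff V.ι f _).2 hG
      rw [Groth.L21.GorensteinCharts.isGorensteinAt_congr hg.symm] at h1
      exact ((Groth.L21.GorensteinCharts.isGorensteinAt_comp_of g π _).2 h1 (Flat.stalkMap g _)).1
    let O : (V : Scheme.{u}).Opens := ⟨{z | Dual3.IsGorensteinAt g z}, Groth.L21.GorOpen.isOpen_gorenstein g⟩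
    let U : X.Opens := V.ι ''ᵁ O
    let e : (U : Scheme.{u}) ≅ (O : Scheme.{u}) := (IsOpenImmersion.isoOfRangeEq (O.ι ≫ V.ι) U.ι (by
      rw [Scheme.Hom.comp_base, TopCat.coe_comp, Set.range_comp, Scheme.Opens.range_ι, Scheme.Opens.range_ι]
      rfl)).symm
    refine ⟨U, ⟨⟨x, hxV⟩, h0, rfl⟩, (e.hom ≫ O.ι) ≫ g, ?_, inferInstance, fun z => ?_⟩
    · rw [Category.assoc, hg, ← Category.assoc _ V.ι, Category.assoc e.hom]
      congr 1
      exact IsOpenImmersion.lift_fac _ _ _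
    · exact (Groth.L21.GorensteinCharts.isGorensteinAt_etale_comp_iff (e.hom ≫ O.ι) g z).2 (e.hom z).2
  refine ⟨⟨fun hG => ?_, fun ⟨U, hx, g, hg, _, hGg⟩ => hA U hx g hg hGg⟩,
    ⟨fun hG => hB hG, fun ⟨U, hx, g, hg, _, hGg⟩ => hA U hx g hg (hGg _)⟩, ⟨fun hG => ?_, fun hC => ?_⟩⟩
  · obtain ⟨U, hx, g, hg, hq, hGg⟩ := hB hG
    exact ⟨U, hx, g, hg, hq, hGg _⟩
  · intro U hx g hg hq
    haveI : LocallyOfFinitePresentation (g ≫ π) := by rw [hg]; infer_instance
    haveI : LocallyOfFinitePresentation g := Groth.L20.locallyOfFinitePresentation_of_comp g π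
    let h := U.ι ≫ f
    let z : (U : Scheme.{u}) := ⟨x, hx⟩
    have hz : Dual3.IsGorensteinAt h z := (Groth.L21.GorensteinCharts.isGorensteinAt_etale_comp_iff U.ι f z).2 hG
    let W : (U : Scheme.{u}).Opens := g.quasiFiniteLocus ⊓ ⟨{y | MoreMor.IsCMAt h y}, L02.CMMor.isOpen_cmLocus h⟩
    have hzW : z ∈ W :=
      ⟨Scheme.Hom.quasiFiniteAt_iff_isOpen_singleton_asFiber.2 hq, Groth.L21.GorOpen.isCMAt_of_isGorensteinAt h z hz⟩
    let w : (W : Scheme.{u}) := ⟨z, hzW⟩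
    haveI : LocallyQuasiFinite (W.ι ≫ g) := (W.ι ≫ g).quasiFiniteLocus_eq_top_iff.1 <| top_le_iff.1 fun y _ =>
      Scheme.Hom.quasiFiniteAt_comp_iff_of_isOpenImmersion.2 y.2.1
    have hcm : ∀ y, MoreMor.IsCMAt (W.ι ≫ h) y := fun y => (L02.CMMor.isCMAt_openImmersion_comp W.ι h y).2 y.2.2
    have hdim : FlatMor.fibreDimAt (W.ι ≫ h) w = (d : WithBot ℕ∞) := by
      show FlatMor.fibreDimAt (W.ι ≫ U.ι ≫ f) w = _
      rw [← Category.assoc, ← Groth.L07.SyntDim.fibreDimAt_congr f ((W.ι ≫ U.ι) ≫ f) (W.ι ≫ U.ι) (𝟙 _)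
        (Category.comp_id _).symm]
      exact hfd
    have hflat : ((W.ι ≫ g).stalkMap w).hom.Flat :=
      Groth.L21.GorChart.flat_chart (W.ι ≫ h) hcm d (W.ι ≫ g)
        (by rw [Category.assoc]; exact congrArg (W.ι ≫ ·) hg) w hdim
    refine (Groth.L21.GorensteinCharts.isGorensteinAt_etale_comp_iff W.ι g w).1 ?_
    refine ((Groth.L21.GorensteinCharts.isGorensteinAt_comp_of (W.ι ≫ g) π w).2 ?_ hflat).1
    rw [Groth.L21.GorensteinCharts.isGorensteinAt_congr (show (W.ι ≫ g) ≫ π = W.ι ≫ h by rw [Category.assoc, hg])]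
    exact (Groth.L21.GorensteinCharts.isGorensteinAt_etale_comp_iff W.ι h w).2 hz
  · obtain ⟨V, hxV, hV⟩ := (Groth.L07.FibreDim.fibreDimAt_le_iff f x _).1 hfd.le
    obtain ⟨D, g, hxD, -, hg, hqf⟩ := Groth.L07.Equidim.exists_qf_affineSpace f V x hxV d hV
    haveI : DiscreteTopology ↥(g.fiber (g ⟨x, hxD⟩)) := inferInstance
    exact hA D hxD g hg (hC D hxD g hg (isOpen_discrete _))

end Groth.Agent.S3670
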