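import Groth.Statements.S3675
import Groth.Agent.L29.Dual.SchLocus

set_option autoImplicit false
set_option backward.isDefEq.respectTransparency false
universe u
open CategoryTheory CategoryTheory.Limits AlgebraicGeometry
attribute [local instance] HasDerivedCategory.standard
open Dual3

namespace Groth.Agent.S3675

/-- Let X be a locally Noetherian scheme (exactness instances as in the definition of dualizing
complexes) and ω a coherent O_X-module such that ω[0] is a dualizing complex on X. Then X is
Cohen–Macaulay: every local ring O_{X,x} is a Cohen–Macaulay local ring. -/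
theorem result (X : Scheme.{u}) [IsLocallyNoetherian X] [∀ (U V : Scheme.{u}) (j : U ⟶ V) [IsOpenImmersion j], PreservesFiniteLimits (Scheme.Modules.restrictFunctor j)] [∀ (R : CommRingCat.{u}), PreservesFiniteLimits (tilde.functor R)] (ω : X.Modules) (hω : Coh.IsCoh ω) (hD : Dual2.IsDualizingSch X (DCoh.inD X ω)) (x : X) : LocCoh.IsCohenMacaulayLocalRing (X.presheaf.stalk x) := by
  haveI : ∀ (U : Scheme.{u}) (j : U ⟶ X) [IsOpenImmersion j],
      PreservesFiniteLimits (Scheme.Modules.restrictFunctor j) := fun U j _ => inferInstance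
  obtain ⟨A, _, j, _, ω', hx, hω', hst⟩ := Groth.L29.SchLocus.exists_chart hD x
  obtain ⟨q, hq⟩ := hx
  subst hq
  rw [Groth.L29.SchLocus.cm_stalk_iff j q, Groth.L29.SchLocus.cm_iff_existsUnique hω' q]
  have hz : ∀ i : ℤ, q ∈ Module.support A (Dual.HD A ω' i) → i = 0 := fun i hi => by
    by_contra hne
    have h0 : IsZero (DCoh.HD (DCoh.inD X ω) i) := by
      rcases lt_or_gt_of_ne hne with h' | h'
      · exact DerivedCategory.isZero_of_isGE _ 0 i h'
      · exact DerivedCategory.isZero_of_isLE _ 0 i h'
    haveI := (hst q i).2 hi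
    have h1 : IsZero (Groth.L29.DC.PCStalk.stk (DCoh.inD X ω) i (j q)) := (Groth.L00.Stk.F X (j q)).map_isZero h0
    exact not_nontrivial_iff_subsingleton.2 (ModuleCat.subsingleton_of_isZero h1)
      (inferInstanceAs (Nontrivial ((DCoh.HD (DCoh.inD X ω) i).presheaf.stalk (j q))))
  obtain ⟨i, hi⟩ := Groth.L29.SchLocus.exists_mem_support hω' q
  rw [(Groth.L29.HomD.evalShiftEquiv ω' i).support_eq] at hi
  exact ⟨i, hi, fun k hk => (hz k hk).trans (hz i hi).symm⟩

end Groth.Agent.S3675
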