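import Groth.Statements.S3683
import Groth.Agent.L27.Product.Split

set_option autoImplicit false
universe u
open Pi1

namespace Groth.Agent.S3683

open AlgebraicGeometry CategoryTheory CategoryTheory.Limits in
/-- The part saying that the homomorphism from the fundamental group of X x_k Y to the product of the
fundamental groups is injective, in terms of covers (so that, with the surjectivity part, it is an
isomorphism). Let k be algebraically closed, X proper and connected over k, Y locally Noetherian and
connected over k. Then every connected finite etale cover W of the product of X and Y admits, for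
some finite etale cover X' of X and some finite etale cover Y' of Y, a surjective morphism over the
product from the product of X' and Y'. -/
theorem result (k : Type u) [Field k] [IsAlgClosed k] {X Y : Scheme.{u}}
    (pX : X ⟶ Spec (CommRingCat.of k)) (pY : Y ⟶ Spec (CommRingCat.of k)) [IsProper pX] [ConnectedSpace X]
    [IsLocallyNoetherian Y] [ConnectedSpace Y]
    (W : FEt.Cat (pullback pX pY)) [ConnectedSpace W.left] :
    ∃ (X' : FEt.Cat X) (Y' : FEt.Cat Y) (φ : pullback (X'.hom ≫ pX) (Y'.hom ≫ pY) ⟶ W.left),
      φ ≫ W.hom = pullback.map (X'.hom ≫ pX) (Y'.hom ≫ pY) pX pY X'.hom Y'.hom (𝟙 _)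
        (Category.comp_id _) (Category.comp_id _) ∧ Surjective φ := by
  obtain ⟨P, U, hP, ⟨i⟩⟩ := Groth.L27.Product.exists_split_family pX pY W
  let μ := pullback.map (P.hom ≫ pX) pY pX pY P.hom (𝟙 Y) (𝟙 _)
    (Category.comp_id _) ((Category.comp_id _).trans (Category.id_comp _).symm)
  have sq : IsPullback (pullback.fst (P.hom ≫ pX) pY) μ P.hom (pullback.fst pX pY) :=
    IsPullback.of_right (by
        rw [show μ ≫ pullback.snd pX pY = pullback.snd (P.hom ≫ pX) pY from (pullback.lift_snd _ _ _).trans (Category.comp_id _)]
        exact (IsPullback.of_hasPullback (P.hom ≫ pX) pY).flip)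
      (pullback.lift_fst _ _ _) (IsPullback.of_hasPullback pX pY).flip |>.flip
  haveI : Surjective μ := MorphismProperty.of_isPullback (P := @Surjective) sq hP
  let il : pullback U.hom (pullback.snd (P.hom ≫ pX) pY) ≅ pullback W.hom μ :=
    (MorphismProperty.Over.forget _ _ _ ⋙ Over.forget _).mapIso i
  have hil : il.hom ≫ pullback.snd W.hom μ = pullback.snd U.hom (pullback.snd (P.hom ≫ pX) pY) :=
    MorphismProperty.Over.w i.hom
  let f := pullback.snd (P.hom ≫ pX) pY
  have sqD : IsPullback (pullback.snd U.hom f ≫ pullback.fst (P.hom ≫ pX) pY) (pullback.fst U.hom f) (P.hom ≫ pX) (U.hom ≫ pY) :=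
    ((IsPullback.of_hasPullback U.hom f).paste_vert (IsPullback.of_hasPullback (P.hom ≫ pX) pY).flip).flip
  let j := sqD.isoPullback.inv
  have hj1 : j ≫ pullback.snd U.hom f ≫ pullback.fst (P.hom ≫ pX) pY = pullback.fst (P.hom ≫ pX) (U.hom ≫ pY) :=
    sqD.isoPullback_inv_fst
  have hj2 : j ≫ pullback.fst U.hom f = pullback.snd (P.hom ≫ pX) (U.hom ≫ pY) := sqD.isoPullback_inv_snd
  haveI : Surjective (pullback.fst W.hom μ) := MorphismProperty.pullback_fst _ _ inferInstance
  refine ⟨P, U, j ≫ il.hom ≫ pullback.fst W.hom μ, ?_, inferInstance⟩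
  simp only [Category.assoc]
  erw [pullback.condition, reassoc_of% hil]
  apply pullback.hom_ext
  · refine ((Category.assoc _ _ _).trans (congrArg (j ≫ ·) (Category.assoc _ _ _))).trans ?_
    erw [pullback.lift_fst, pullback.lift_fst]
    exact (congrArg (j ≫ ·) (Category.assoc _ _ _).symm).trans
      ((Category.assoc _ _ _).symm.trans (congrArg (· ≫ P.hom) hj1))
  · refine ((Category.assoc _ _ _).trans (congrArg (j ≫ ·) (Category.assoc _ _ _))).trans ?_
    erw [pullback.lift_snd, pullback.lift_snd, Category.comp_id]
    rw [← pullback.condition]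
    exact (Category.assoc _ _ _).symm.trans (congrArg (· ≫ U.hom) hj2)


end Groth.Agent.S3683
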