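import Groth.Statements.S3688
import Groth.Agent.L27.KummerSNC.RelTameMain

set_option autoImplicit false
set_option linter.style.haveILetI false
set_option backward.isDefEq.respectTransparency.types false
open CategoryTheory CategoryTheory.Limits AlgebraicGeometry
universe u
open SGA1t

namespace Groth.Agent.S3688

/-- Let f : X -> S and let global sections φ_1, ..., φ_r of X cut out a strict normal crossings divisor
relative to S, with complement U. Let x be a point where some φ_i vanishes, A = O_{X,x}, X_1 = Spec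
A, U_1 the inverse image of U, and for the indices i with φ_i(x) = 0 let n_i ≥ 1 be integers
invertible in the residue field of x. Let X'_1 = Spec A[T_i]/(T_i^{n_i} - φ_i) (those i only) and
U'_1 its part over U_1. Then U'_1 -> U_1 is finite etale, U'_1 is connected, and U'_1 is tamely
ramified on X_1 along the divisor relatively to S. (The published statement also asserts smoothness
of the global Kummer scheme at the point over x; that first assertion is not stated here.) -/
theorem result {X S : Scheme.{u}} (f : X ⟶ S) {r : ℕ} (φ : Fin r → Γ(X, ⊤))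
    (hD : SGA1t.IsRelSNC f φ) (x : X) (hx : Nonempty (SGA1t.vanishingAt φ x))
    (n : SGA1t.vanishingAt φ x → ℕ) (hn1 : ∀ i, 1 ≤ n i) (hnu : ∀ i, IsUnit ((n i : ℕ) : X.residueField x)) :
    letI A := X.presheaf.stalk x
    letI a : SGA1t.vanishingAt φ x → A := fun i => (X.presheaf.germ ⊤ x trivial).hom (φ i.1)
    letI π : Spec (CommRingCat.of (SGA1t.kummer A a n)) ⟶ Spec (CommRingCat.of A) :=
      Spec.map (CommRingCat.ofHom (algebraMap A (SGA1t.kummer A a n)))
    letI φ₁ : Fin r → Γ(Spec (CommRingCat.of A), ⊤) := fun i => (X.fromSpecStalk x).appTop (φ i)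
    IsFinite (π ∣_ SGA1t.compl φ₁) ∧ Etale (π ∣_ SGA1t.compl φ₁) ∧
      ConnectedSpace ↥(π ⁻¹ᵁ SGA1t.compl φ₁) ∧
      ∀ [hF : IsFinite (π ∣_ SGA1t.compl φ₁)] [hE : Etale (π ∣_ SGA1t.compl φ₁)],
        SGA1t.IsRelTame (X.fromSpecStalk x ≫ f) φ₁ (MorphismProperty.Over.mk ⊤ (π ∣_ SGA1t.compl φ₁) ⟨hF, hE⟩) := by
  classical
  obtain ⟨U, hU, θ, d, ψ, e, -, -, -, hψ, he, hφ⟩ := Groth.L27.KummerSNC.exists_coords f φ hD x hx
  letI : Algebra (MvPolynomial (ULift.{u} (Fin d)) Γ(S, U)) (X.presheaf.stalk x) := ψ.toAlgebra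
  haveI : Algebra.WeaklyEtale (MvPolynomial (ULift.{u} (Fin d)) Γ(S, U)) (X.presheaf.stalk x) := hψ
  letI : Fintype (SGA1t.vanishingAt φ x) := Subtype.fintype _
  let b : Fin r → X.presheaf.stalk x := fun i => (X.presheaf.germ ⊤ x trivial).hom (φ i)
  have hb : ∀ i, x ∈ X.basicOpen (φ i) → IsUnit (b i) := fun i h => (Scheme.mem_basicOpen_top _ _ _).1 h
  obtain ⟨v, hv⟩ : ∃ v : (X.presheaf.stalk x)ˣ, ∏ i : {i : Fin r // ¬ x ∉ X.basicOpen (φ i)}, b i = ↑v := by
    have h : IsUnit (∏ i : {i : Fin r // ¬ x ∉ X.basicOpen (φ i)}, b i) :=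
      IsUnit.prod_iff.2 fun i _ => hb i (not_not.1 i.2)
    exact ⟨h.unit, rfl⟩
  obtain ⟨h1, h2, h3⟩ := Groth.L27.KummerSNC.finite_etale_connected (O := Γ(S, U)) (σ := ULift.{u} (Fin d))
    (fun i : SGA1t.vanishingAt φ x => b i.1) n (fun i => ULift.up (e i))
    (fun i j h => he (congrArg ULift.down h)) hφ
    (fun i => (IsLocalRing.mem_maximalIdeal _).2 fun h => i.2 ((Scheme.mem_basicOpen_top _ _ _).2 h)) hn1
    (fun i => (isUnit_map_iff (IsLocalRing.residue (X.presheaf.stalk x)) _).1 (by rw [map_natCast]; exact hnu i))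
    (SGA1t.compl fun i => (X.fromSpecStalk x).appTop (φ i)) (∏ i, b i) (by
      have happ : ∀ i, (X.fromSpecStalk x).appTop (φ i) = (Scheme.ΓSpecIso (X.presheaf.stalk x)).inv (b i) := by
        intro i
        have h1 := congrArg (fun t => t (φ i)) (show (X.fromSpecStalk x).appTop = X.presheaf.germ ⊤ x trivial ≫
          (Scheme.ΓSpecIso (X.presheaf.stalk x)).inv by
            rw [Scheme.fromSpecStalk_appTop]
            simp
            try rfl)
        exact h1
      simp only [SGA1t.compl, happ, ← map_prod]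
      exact congrArg SetLike.coe (AlgebraicGeometry.basicOpen_eq_of_affine _))
    (Finset.univ : Finset (SGA1t.vanishingAt φ x)).toList (fun i => Finset.mem_toList.2 (Finset.mem_univ i)) v (by
      rw [← hv, ← Fintype.prod_subtype_mul_prod_subtype (fun i => x ∉ X.basicOpen (φ i)) b, mul_comm, Finset.prod_map_toList]
      rfl)
  refine ⟨h1, h2, h3, ?_⟩
  intro hF hE
  exact Groth.L27.KummerSNC.isRelTame_kummer f φ hD x hx n hn1 hnu

end Groth.Agent.S3688
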