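import Groth.Statements.S3692
import Groth.Agent.L27.KummerSNC.Coords
import Groth.Agent.L27.KummerSNC.Cover
import Groth.Agent.L05.Henselization.StrictUniq
import Groth.Agent.L27.IndEtale

set_option autoImplicit false
set_option linter.style.haveILetI false
set_option backward.isDefEq.respectTransparency.types false
open CategoryTheory CategoryTheory.Limits AlgebraicGeometry
universe u
open SGA1t

namespace Groth.Agent.S3692

/-- Structure of the Kummer covers along a relative normal crossings divisor: let f : X → S be a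
morphism and φ_1, …, φ_r global functions on X cutting out a strict normal crossings divisor
relative to S, with complement U; let x be a point of the divisor, R a strict henselization of
O_{X,x}, U_1 the complement of the divisor in Spec R, and, for each index i with φ_i(x) = 0, an
integer n_i ≥ 1 invertible in the residue field of x. Let U'_1 be the part lying over U_1 of the
spectrum of the Kummer algebra R[T_i]/(T_i^{n_i} − φ_i) (one variable for each such i). Then,
granted that U'_1 → U_1 is finite étale, U'_1 is a Galois cover of U_1, and there is a group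
isomorphism from the product over i of the groups of n_i-th roots of unity in R onto the group of
U_1-automorphisms of U'_1 that sends a family ζ = (ζ_i) to the automorphism induced by T_i ↦ ζ_i
T_i. -/
theorem result {X S : Scheme.{u}} (f : X ⟶ S) {r : ℕ} (φ : Fin r → Γ(X, ⊤))
    (hD : SGA1t.IsRelSNC f φ) (x : X) (hx : Nonempty (SGA1t.vanishingAt φ x))
    (R : Type u) [CommRing R] [IsLocalRing R] [Algebra (X.presheaf.stalk x) R]
    [IsLocalHom (algebraMap (X.presheaf.stalk x) R)] [Hensel.IsStrictHenselization (X.presheaf.stalk x) R]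
    (n : SGA1t.vanishingAt φ x → ℕ) (hn1 : ∀ i, 1 ≤ n i) (hnu : ∀ i, IsUnit ((n i : ℕ) : X.residueField x)) :
    letI a : SGA1t.vanishingAt φ x → R := fun i =>
      algebraMap (X.presheaf.stalk x) R ((X.presheaf.germ ⊤ x trivial).hom (φ i.1))
    letI π : Spec (CommRingCat.of (SGA1t.kummer R a n)) ⟶ Spec (CommRingCat.of R) :=
      Spec.map (CommRingCat.ofHom (algebraMap R (SGA1t.kummer R a n)))
    letI U₁ := SGA1t.compl (fun i => (Hens2.specOf X x R).appTop (φ i))
    ∀ [hF : IsFinite (π ∣_ U₁)] [hE : Etale (π ∣_ U₁)],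
      PiSp.IsGaloisCover (MorphismProperty.Over.mk ⊤ (π ∣_ U₁) ⟨hF, hE⟩) ∧
      ∃ θ : ((i : SGA1t.vanishingAt φ x) → ↥(rootsOfUnity (n i) R)) ≃*
          Aut (MorphismProperty.Over.mk ⊤ (π ∣_ U₁) ⟨hF, hE⟩ : FEt.Cat (U₁ : Scheme.{u})),
        ∀ ζ, (θ ζ).hom.left ≫ (π ⁻¹ᵁ U₁).ι =
          (π ⁻¹ᵁ U₁).ι ≫ Spec.map (CommRingCat.ofHom (SGA1t.kummerTwist R a n ζ)) := by
  intro hF hE
  classical
  obtain ⟨U, hU, θ, d, ψ, e, -, -, -, hψ, he, hφ⟩ := Groth.L27.KummerSNC.exists_coords f φ hD x hx
  haveI := (inferInstance : Hensel.IsStrictHenselization (X.presheaf.stalk x) R).henselian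
  haveI : IsSepClosed (IsLocalRing.ResidueField R) := (inferInstance : Hensel.IsStrictHenselization (X.presheaf.stalk x) R).isSepClosure.sep_closed
  letI : Algebra (MvPolynomial (ULift.{u} (Fin d)) Γ(S, U)) (X.presheaf.stalk x) := ψ.toAlgebra
  letI : Algebra (MvPolynomial (ULift.{u} (Fin d)) Γ(S, U)) R := ((algebraMap (X.presheaf.stalk x) R).comp ψ).toAlgebra
  haveI : IsScalarTower (MvPolynomial (ULift.{u} (Fin d)) Γ(S, U)) (X.presheaf.stalk x) R := IsScalarTower.of_algebraMap_eq fun _ => rfl
  haveI : Algebra.WeaklyEtale (MvPolynomial (ULift.{u} (Fin d)) Γ(S, U)) (X.presheaf.stalk x) := hψ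
  haveI : Algebra.WeaklyEtale (X.presheaf.stalk x) R :=
    Groth.L27.IndEtale.weaklyEtale _ _ (Groth.L05.Henselization.isIndEtale_of_isStrictHenselization (X.presheaf.stalk x) R)
  haveI := Algebra.WeaklyEtale.trans (MvPolynomial (ULift.{u} (Fin d)) Γ(S, U)) (X.presheaf.stalk x) R
  letI : Fintype (SGA1t.vanishingAt φ x) := Subtype.fintype _
  let b : Fin r → R := fun i => algebraMap (X.presheaf.stalk x) R ((X.presheaf.germ ⊤ x trivial).hom (φ i))
  have hb : ∀ i, x ∈ X.basicOpen (φ i) → IsUnit (b i) := fun i h =>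
    ((Scheme.mem_basicOpen_top _ _ _).1 h).map _
  obtain ⟨v, hv⟩ : ∃ v : Rˣ, ∏ i : {i : Fin r // ¬ x ∉ X.basicOpen (φ i)}, b i = ↑v := by
    have h : IsUnit (∏ i : {i : Fin r // ¬ x ∉ X.basicOpen (φ i)}, b i) :=
      IsUnit.prod_iff.2 fun i _ => hb i (not_not.1 i.2)
    exact ⟨h.unit, rfl⟩
  refine Groth.L27.KummerSNC.exists_galois (O := Γ(S, U)) (σ := ULift.{u} (Fin d)) _ n (fun i => ULift.up (e i))
    (fun i j h => he (congrArg ULift.down h)) (fun i => congrArg (algebraMap (X.presheaf.stalk x) R) (hφ i))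
    (fun i => ?_) hn1 (fun i => ?_) _ (∏ i, b i) ?_ (Finset.univ : Finset (SGA1t.vanishingAt φ x)).toList
    (fun i => Finset.mem_toList.2 (Finset.mem_univ i)) v ?_
  · refine (IsLocalRing.mem_maximalIdeal _).2 fun h => i.2 ?_
    rw [Scheme.mem_basicOpen_top]
    exact IsLocalHom.map_nonunit _ h
  · rw [← map_natCast (algebraMap (X.presheaf.stalk x) R)]
    refine IsUnit.map _ ((isUnit_map_iff (IsLocalRing.residue (X.presheaf.stalk x)) _).1 ?_)
    rw [map_natCast]; exact hnu i
  · have happ : ∀ i, (Hens2.specOf X x R).appTop (φ i) = (Scheme.ΓSpecIso (CommRingCat.of R)).inv (b i) := by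
      intro i
      have h1 := congrArg (fun t => t (φ i)) (show (Hens2.specOf X x R).appTop = X.presheaf.germ ⊤ x trivial ≫
        CommRingCat.ofHom (algebraMap (X.presheaf.stalk x) R) ≫ (Scheme.ΓSpecIso (CommRingCat.of R)).inv by
          rw [Scheme.Hom.comp_appTop, Scheme.fromSpecStalk_appTop, Scheme.ΓSpecIso_inv_naturality]
          simp
          try rfl)
      exact h1
    simp only [SGA1t.compl, happ, ← map_prod]
    exact congrArg SetLike.coe (AlgebraicGeometry.basicOpen_eq_of_affine _)
  · rw [← hv, ← Fintype.prod_subtype_mul_prod_subtype (fun i => x ∉ X.basicOpen (φ i)) b, mul_comm, Finset.prod_map_toList]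
    rfl

end Groth.Agent.S3692
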