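import Groth.Statements.S3699
import Groth.Agent.L20.NormalCard.Main
import Groth.Agent.L20.NormalCard.Bridge
import Groth.Agent.L21.Curve.SmoothDescent

set_option autoImplicit false
universe u
open SGA1

set_option backward.isDefEq.respectTransparency.types false
set_option backward.isDefEq.respectTransparency.types false
set_option backward.isDefEq.respectTransparency false

open AlgebraicGeometry CategoryTheory CategoryTheory.Limits in
theorem main {X Y : Scheme.{u}} (f : X ⟶ Y) [IsSeparated f] [LocallyQuasiFinite f]
    [LocallyOfFiniteType f] [QuasiCompact f] [IrreducibleSpace Y] [IsLocallyNoetherian Y] [IsReduced X]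
    (hdom : ∀ x : X, (∀ x' : X, x' ⤳ x → x' = x) → f.base x = genericPoint Y)
    (hfin : (f.base ⁻¹' {genericPoint Y}).Finite)
    (y : Y) [IsDomain (Y.presheaf.stalk y)] (hy : IsIntegrallyClosed (Y.presheaf.stalk y))
    {E : Type u} [Field E] [IsAlgClosed E] (ι : Y.residueField y ⟶ CommRingCat.of E) :
    Nat.card (Groth.L20.NormalCard.Pts f ι) ≤ ∑ x ∈ hfin.toFinset, EGA4loc.residueDegree f x ∧
    (Nat.card (Groth.L20.NormalCard.Pts f ι) = ∑ x ∈ hfin.toFinset, EGA4loc.residueDegree f x ↔
      ∃ U : Y.Opens, y ∈ U ∧ IsFinite (f ∣_ U) ∧ Etale (f ∣_ U)) := by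
  classical
  obtain ⟨U, hU, hyU, hdomU⟩ := Groth.L21.SmoothDescent.exists_isAffineOpen_isDomain y
  haveI := hdomU
  have hdom' : ∀ Z ∈ irreducibleComponents ↥X, genericPoint Y ∈ f.base '' Z := by
    intro Z hZ
    have hZc := isClosed_of_mem_irreducibleComponents Z hZ
    have hg := hZ.1.isGenericPoint_genericPoint hZc
    refine ⟨hZ.1.genericPoint, hg.mem, hdom _ fun x' hx' => ?_⟩
    have h1 : Z ⊆ closure {x'} := by
      rw [← hg.def]
      exact closure_minimal (Set.singleton_subset_iff.mpr hx'.mem_closure) isClosed_closure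
    have h2 : closure {x'} ⊆ Z := hZ.2 isIrreducible_singleton.closure h1
    exact (hx'.antisymm (hg.specializes (h2 (subset_closure rfl)))).eq
  let P := Groth.L20.NormalCard.Pts f ι
  let n := ∑ x ∈ hfin.toFinset, EGA4loc.residueDegree f x
  have near : ∀ m, n ≤ m → ∀ g : Fin m ↪ P,
      m = n ∧ ∃ U' : Y.Opens, y ∈ U' ∧ IsFinite (f ∣_ U') ∧ Etale (f ∣_ U') := fun m hm g =>
    Groth.L20.NormalCard.finite_etale_near f hdom' hfin hU y hyU hy ι m hm (fun i => (g i).1)
      (fun i j h => g.injective (Subtype.ext h)) (fun i => (g i).2) (fun i => f.quasiFiniteAt _)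
  haveI : Finite P := by
    by_contra h
    haveI : Infinite P := not_finite_iff_infinite.mp h
    have := (near (n + 1) (Nat.le_succ n) ((Fin.valEmbedding).trans (Infinite.natEmbedding P))).1
    omega
  let g : Fin (Nat.card P) ≃ P := (Finite.equivFin P).symm
  have hle : Nat.card P ≤ n := by
    by_contra h
    push Not at h
    have := (near (Nat.card P) h.le g.toEmbedding).1
    omega
  refine ⟨hle, fun h => (near (Nat.card P) h.ge g.toEmbedding).2, ?_⟩
  rintro ⟨W, hyW, hfinW, hetW⟩
  -- a smaller affine neighbourhood with integral ring of functions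
  obtain ⟨g₀, hg₀W, hyg₀⟩ := hU.exists_basicOpen_le (V := W) ⟨y, hyW⟩ hyU
  let V := Y.basicOpen g₀
  have hV : IsAffineOpen V := hU.basicOpen g₀
  haveI : IsLocalization.Away g₀ Γ(Y, V) := hU.isLocalization_basicOpen g₀
  haveI : IsDomain Γ(Y, V) := by
    refine IsLocalization.isDomain_of_le_nonZeroDivisors (M := Submonoid.powers g₀) Γ(Y, V)
      (powers_le_nonZeroDivisors_of_noZeroDivisors ?_)
    rintro rfl
    have h0 : y ∈ Y.basicOpen (0 : Γ(Y, U)) := hyg₀
    rw [Scheme.basicOpen_zero] at h0
    exact h0.elim
  let V' : W.toScheme.Opens := W.ι ⁻¹ᵁ V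
  have himg : W.ι ''ᵁ V' = V := by
    rw [Scheme.Hom.image_preimage_eq_opensRange_inf, Scheme.Opens.opensRange_ι, inf_eq_right.mpr hg₀W]
  haveI : Etale (f ∣_ V) := by
    have h' : Etale (f ∣_ (W.ι ''ᵁ V')) :=
      (MorphismProperty.arrow_mk_iso_iff @Etale (morphismRestrictRestrict f W V')).mp
        (IsZariskiLocalAtTarget.restrict hetW V')
    rwa [himg] at h'
  haveI : IsFinite (f ∣_ V) := by
    have h' : IsFinite (f ∣_ (W.ι ''ᵁ V')) :=
      (MorphismProperty.arrow_mk_iso_iff @IsFinite (morphismRestrictRestrict f W V')).mp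
        (IsZariskiLocalAtTarget.restrict hfinW V')
    rwa [himg] at h'
  let η := genericPoint Y
  have hηV : η ∈ V := ((genericPoint_spec Y).mem_open_set_iff V.isOpen).mpr ⟨y, trivial, hyg₀⟩
  let Ω := AlgebraicClosure (Y.residueField η)
  let ιη : Y.residueField η ⟶ CommRingCat.of Ω :=
    CommRingCat.ofHom (algebraMap (Y.residueField η) Ω)
  obtain ⟨-, h1⟩ := Groth.L20.NormalCard.card_pts_of_finite_etale f hV hyg₀ ι hηV
  obtain ⟨_, h2⟩ := Groth.L20.NormalCard.card_pts_of_finite_etale f hV hηV ιη hηV
  show Nat.card P = n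
  rw [h1, ← h2,
    ← Nat.card_congr (Equiv.ofBijective _ (Groth.L20.NormalCard.ptOf_bijective f ιη))]
  haveI : Finite {x : X // f x = η} := hfin.to_subtype
  haveI := Fintype.ofFinite {x : X // f x = η}
  haveI : ∀ x : {x : X // f x = η}, Finite (Groth.L06.SepDegFibre.Emb f x.1 x.2 ιη.hom) := fun x =>
    (Groth.L06.SepDegFibre.emb_facts f x.1 x.2 (f.quasiFiniteAt _) ιη.hom).1
  rw [Nat.card_sigma]
  show _ = ∑ x ∈ hfin.toFinset, EGA4loc.residueDegree f x
  rw [Finset.sum_subtype hfin.toFinset (p := fun x => f x = η) (fun x => hfin.mem_toFinset)]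
  refine Finset.sum_congr rfl fun x _ => ?_
  rw [(Groth.L06.SepDegFibre.emb_facts f x.1 x.2 (f.quasiFiniteAt _) ιη.hom).2.2.1]
  exact Groth.L20.NormalCard.residueSepDegree_eq_residueDegree f x.1 (U := V)
    (show f x.1 ∈ V from x.2.symm ▸ hηV) (f.quasiFiniteAt _)
namespace Groth.Agent.S3699

open AlgebraicGeometry CategoryTheory CategoryTheory.Limits in
/-- Let f : X -> Y be separated, quasi-finite and of finite type, with Y irreducible and locally
Noetherian, X reduced, and every irreducible component of X dominating Y (every maximal point of X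
maps to the generic point η of Y). Let n be the degree of X over Y, the dimension over κ(η) of the
ring of global sections of the generic fibre (the sum of the degrees of the function fields of the
components of X over that of Y), and for a point y let n(y) be the number of points of the geometric
fibre of f at y. If the local ring of Y at y is a normal domain, then n(y) ≤ n, with equality if and
only if over some open neighbourhood U of y the restriction of f is a finite etale cover of U. -/
theorem result {X Y : Scheme.{u}} (f : X ⟶ Y) [IsSeparated f] [LocallyQuasiFinite f]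
    [LocallyOfFiniteType f] [QuasiCompact f] [IrreducibleSpace Y] [IsLocallyNoetherian Y] [IsReduced X]
    (hdom : ∀ x : X, (∀ x' : X, x' ⤳ x → x' = x) → f.base x = genericPoint Y)
    (y : Y) [IsDomain (Y.presheaf.stalk y)] (hy : IsIntegrallyClosed (Y.presheaf.stalk y)) :
    letI := (((pullback.snd f (Y.fromSpecResidueField (genericPoint Y))).appTop).hom.comp
      (Scheme.ΓSpecIso (Y.residueField (genericPoint Y))).inv.hom).toAlgebra
    letI n := Module.finrank (Y.residueField (genericPoint Y)) Γ(pullback f (Y.fromSpecResidueField (genericPoint Y)), ⊤)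
    letI ny := Nat.card ↥(pullback f (Spec.map (CommRingCat.ofHom (algebraMap (Y.residueField y)
      (AlgebraicClosure (Y.residueField y)))) ≫ Y.fromSpecResidueField y))
    ny ≤ n ∧ (ny = n ↔ ∃ U : Y.Opens, y ∈ U ∧ IsFinite (f ∣_ U) ∧ Etale (f ∣_ U)) := by
  haveI : IsFinite (f.fiberToSpecResidueField (genericPoint Y)) := inferInstance
  haveI : IsReduced (f.fiber (genericPoint Y)) :=
    Groth.L20.NormalCard.isReduced_fiber f _ fun x hx x' hx' => by
      -- a point of the generic fibre has no proper generization
      have hfx' : f x' = genericPoint Y := by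
        have h1 : f x' ⤳ genericPoint Y := hx ▸ hx'.map f.continuous
        exact (h1.antisymm (genericPoint_specializes _)).eq
      let P := f.fiber (genericPoint Y)
      let q := (f.fiberHomeo (genericPoint Y)).symm ⟨x, hx⟩
      let q' := (f.fiberHomeo (genericPoint Y)).symm ⟨x', hfx'⟩
      have hq : q' ⤳ q := by
        rw [← (f.fiberι (genericPoint Y)).isEmbedding.isInducing.specializes_iff]
        rw [f.fiberι_fiberHomeo_symm, f.fiberι_fiberHomeo_symm]
        exact hx'
      haveI : DiscreteTopology ↥P := by
        have h := (f.fiberToSpecResidueField (genericPoint Y)).isDiscrete_preimage_singleton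
          (IsLocalRing.closedPoint (Y.residueField (genericPoint Y)))
        rw [show (f.fiberToSpecResidueField (genericPoint Y)) ⁻¹'
          {IsLocalRing.closedPoint (Y.residueField (genericPoint Y))} = Set.univ from
          Set.eq_univ_of_forall fun z => f.fiberToSpecResidueField_apply _ z] at h
        exact isDiscrete_univ_iff.mp h
      have h2 := congrArg (f.fiberι (genericPoint Y)) hq.eq
      rwa [f.fiberι_fiberHomeo_symm, f.fiberι_fiberHomeo_symm] at h2
  have hfin : (f.base ⁻¹' {genericPoint Y}).Finite := f.finite_preimage_singleton (genericPoint Y)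
  have hn := Groth.L20.NormalCard.finrank_fiber f (genericPoint Y) hfin
  have hny := Groth.L20.NormalCard.card_geometric_fiber f
    (CommRingCat.ofHom (algebraMap (Y.residueField y) (AlgebraicClosure (Y.residueField y))))
  have h := main f hdom hfin y hy
    (CommRingCat.ofHom (algebraMap (Y.residueField y) (AlgebraicClosure (Y.residueField y))))
  rw [← hny, ← hn] at h
  exact h


end Groth.Agent.S3699
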