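import Groth.Statements.S3700
import Groth.Agent.S1677
import Groth.Agent.L07.SyntMor
import Groth.Agent.L14.RegImmStalk.Stalk
import Groth.Agent.L05.RegSeqSmooth.Main

set_option autoImplicit false
set_option linter.style.haveILetI false
set_option backward.isDefEq.respectTransparency.types false
universe u
open SGA1

namespace Groth.Agent.S3700

open AlgebraicGeometry CategoryTheory CategoryTheory.Limits in
/-- Let S be locally Noetherian, f : X -> S locally of finite type, Y the closed subscheme of X defined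
by a quasi-coherent ideal, and x a point of Y at which Y is smooth over S. Then X is smooth over S
at x if and only if the closed immersion of Y in X is regular at x, that is, the kernel of O_{X,x}
-> O_{Y,x} is generated by a regular sequence. (Smoothness at a point is membership in Mathlib's
smooth locus, the set of points where the map of local rings is formally smooth.) -/
theorem result {X S : Scheme.{u}} [IsLocallyNoetherian S] (f : X ⟶ S)
    [LocallyOfFiniteType f] [LocallyOfFinitePresentation f] (I : X.IdealSheafData)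
    [LocallyOfFinitePresentation (I.subschemeι ≫ f)] (x : ↥I.subscheme) (hY : x ∈ (I.subschemeι ≫ f).smoothLocus) :
    I.subschemeι.base x ∈ f.smoothLocus ↔ CInt.IsRegularIdeal (RingHom.ker (I.subschemeι.stalkMap x).hom) := by
  haveI : IsLocallyNoetherian X := LocallyOfFiniteType.isLocallyNoetherian f
  have hV : Smooth ((I.subschemeι ≫ f).smoothLocus.ι ≫ (I.subschemeι ≫ f)) := by
    rw [← Scheme.Hom.smoothLocus_eq_top_iff, ← Scheme.Hom.preimage_smoothLocus_eq (I.subschemeι ≫ f).smoothLocus.ι (I.subschemeι ≫ f),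
      Scheme.Opens.ι_preimage_self]
  constructor
  · intro hx
    obtain ⟨U1, hU1o, hU1⟩ := I.subschemeι.isClosedEmbedding.isInducing.isOpen_iff.mp
      (I.subschemeι ≫ f).smoothLocus.isOpen
    let W : X.Opens := f.smoothLocus ⊓ ⟨U1, hU1o⟩
    have hxW : I.subschemeι.base x ∈ W :=
      ⟨hx, show x ∈ I.subschemeι.base ⁻¹' U1 from hU1.symm ▸ hY⟩
    haveI : Smooth (W.ι ≫ f) := by
      rw [← Scheme.Hom.smoothLocus_eq_top_iff, ← Scheme.Hom.preimage_smoothLocus_eq, eq_top_iff]
      intro w _
      exact w.2.1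
    have hle : I.subschemeι ⁻¹ᵁ W ≤ (I.subschemeι ≫ f).smoothLocus := fun y hy =>
      show y ∈ ((I.subschemeι ≫ f).smoothLocus : Set _) from hU1 ▸ hy.2
    haveI : Smooth ((I.subschemeι ⁻¹ᵁ W).ι ≫ (I.subschemeι ≫ f)) := by
      rw [← Scheme.Hom.smoothLocus_eq_top_iff,
        ← Scheme.Hom.preimage_smoothLocus_eq (I.subschemeι ⁻¹ᵁ W).ι (I.subschemeι ≫ f), eq_top_iff]
      intro w _
      exact hle w.2
    haveI : Smooth ((I.subschemeι ∣_ W) ≫ W.ι ≫ f) := by
      rw [morphismRestrict_ι_assoc]; infer_instance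
    exact (Groth.L14.RegImmStalk.exists_restrict_iff_stalk I.subschemeι x).mp
      ⟨W, hxW, Groth.Agent.S1677.result (W.ι ≫ f) (I.subschemeι ∣_ W) (Groth.L07.SyntMor.isCIMorphism_of_smooth _)⟩
  · intro hreg
    obtain ⟨⟨U, hU⟩, hxU, -, rs, hrs, hker⟩ :=
      (Groth.L14.RegImmStalk.regularAt_iff_stalk I.subschemeι RegImm.Kind.regular x).mpr hreg
    obtain ⟨U', hxU', hsm⟩ := Groth.L05.RegSeqSmooth.smooth_nhd_of_regular f (I.subschemeι ≫ f) I.subschemeι rfl x
      ⟨_, hY, hV⟩ ⟨U, hU, hxU, rs, hrs, by rw [Scheme.Hom.ker_apply]; exact hker⟩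
    have h1 : (⟨_, hxU'⟩ : U') ∈ (U'.ι ≫ f).smoothLocus := by
      haveI := hsm
      rw [Scheme.Hom.smoothLocus_eq_top]; trivial
    rw [← Scheme.Hom.preimage_smoothLocus_eq] at h1
    exact h1

end Groth.Agent.S3700
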