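import Groth.Statements.S3707
import Mathlib.AlgebraicGeometry.PullbackCarrier
import Mathlib.AlgebraicGeometry.Morphisms.FormallyUnramified
import Mathlib.AlgebraicGeometry.Morphisms.Etale
-- import your own Groth.Agent.* helpers here

set_option autoImplicit false
universe u
open SGA1

open AlgebraicGeometry CategoryTheory CategoryTheory.Limits

namespace Groth.Agent.S3707

open AlgebraicGeometry CategoryTheory CategoryTheory.Limits in
/-- Let g : S' -> S be a surjective morphism of schemes, X and Y schemes over S with Y unramified over S
(formally unramified and locally of finite type), and X', Y' their base changes to S'. Then the map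
sending an S-morphism X -> Y to the induced S'-morphism X' -> Y' is injective. -/
theorem result {S S' X Y : Scheme.{u}} (g : S' ⟶ S) [Surjective g]
    (p : X ⟶ S) (q : Y ⟶ S) [FormallyUnramified q] [LocallyOfFiniteType q]
    (u v : X ⟶ Y) (hu : p ≫ 𝟙 S = u ≫ q) (hv : p ≫ 𝟙 S = v ≫ q)
    (h : pullback.map p g q g u (𝟙 S') (𝟙 S) hu ((Category.comp_id _).trans (Category.id_comp _).symm) =
      pullback.map p g q g v (𝟙 S') (𝟙 S) hv ((Category.comp_id _).trans (Category.id_comp _).symm)) :
    u = v := by
  have h2 : pullback.fst p g ≫ u = pullback.fst p g ≫ v := by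
    have := congrArg (· ≫ pullback.fst q g) h
    simp only [pullback.map, pullback.lift_fst] at this
    exact this
  rw [Category.comp_id] at hu hv
  let γ : X ⟶ pullback q q := pullback.lift u v (by rw [← hu, ← hv])
  haveI : IsOpenImmersion (pullback.diagonal q) := inferInstance
  let j := pullback.fst γ (pullback.diagonal q)
  haveI : IsOpenImmersion j := inferInstance
  let t : pullback p g ⟶ pullback γ (pullback.diagonal q) :=
    pullback.lift (pullback.fst p g) (pullback.fst p g ≫ u)
      (pullback.hom_ext
        (by rw [Category.assoc, Category.assoc, Category.assoc, pullback.diagonal_fst]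
            erw [pullback.lift_fst, Category.comp_id])
        (by rw [Category.assoc, Category.assoc, Category.assoc, pullback.diagonal_snd]
            erw [pullback.lift_snd, Category.comp_id]
            exact h2.symm))
  haveI : Surjective (pullback.fst p g) := inferInstance
  haveI : Surjective j := ⟨fun y => by
    obtain ⟨z, hz⟩ := (pullback.fst p g).surjective y
    exact ⟨t z, by rw [← Scheme.Hom.comp_apply, pullback.lift_fst, hz]⟩⟩
  haveI : IsIso j := (isIso_iff_isOpenImmersion_and_epi_base j).mpr
    ⟨inferInstance, (TopCat.epi_iff_surjective _).mpr j.surjective⟩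
  rw [← cancel_epi j]
  have hc := pullback.condition (f := γ) (g := pullback.diagonal q)
  have e1 := congrArg (· ≫ pullback.fst q q) hc
  have e2 := congrArg (· ≫ pullback.snd q q) hc
  simp only [Category.assoc, pullback.diagonal_fst, pullback.diagonal_snd, Category.comp_id, γ,
    pullback.lift_fst, pullback.lift_snd] at e1 e2
  exact e1.trans e2.symm

end Groth.Agent.S3707
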