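import Groth.Statements.S3708
import Groth.Agent.L11.SmoothLift.Tower
import Groth.Agent.L18.AlgebraizeH2
import Groth.Agent.L07.SmoothFibre
import Groth.Agent.L14.GeomSmoothing.Basic
import Groth.Agent.L21.RR.Coh
import Groth.Agent.L22.VeryAmple.Over
import Groth.Agent.S7645
import Groth.Agent.S11762

set_option autoImplicit false
set_option backward.isDefEq.respectTransparency.types false
set_option backward.isDefEq.respectTransparency false
universe u
open SGA1

namespace Groth.Agent.S3708

open AlgebraicGeometry CategoryTheory CategoryTheory.Limits in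
/-- Let A be a Noetherian local ring that is complete, with residue field k, and let X₀ be a smooth
proper k-scheme of dimension one. Then there exist a smooth proper A-scheme X and an isomorphism of
k-schemes between X₀ and the closed fibre X ×_A k. -/
theorem result (A : Type u) [CommRing A] [IsLocalRing A] [IsNoetherianRing A]
    [IsAdicComplete (IsLocalRing.maximalIdeal A) A] {X₀ : Scheme.{u}}
    (f₀ : X₀ ⟶ Spec (CommRingCat.of (IsLocalRing.ResidueField A))) [Smooth f₀] [IsProper f₀]
    (hdim : topologicalKrullDim X₀ = 1) :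
    ∃ (X : Scheme.{u}) (f : X ⟶ Spec (CommRingCat.of A)) (_ : Smooth f) (_ : IsProper f)
      (e : X₀ ≅ pullback f (Spec.map (CommRingCat.ofHom (IsLocalRing.residue A)))),
      e.hom ≫ pullback.snd f _ = f₀ := by
  let J := IsLocalRing.maximalIdeal A
  let q : A ⧸ J ^ (0 + 1) ≃+* IsLocalRing.ResidueField A :=
    Ideal.quotEquivOfEq (by rw [zero_add, pow_one])
  let r : Spec (CommRingCat.of (IsLocalRing.ResidueField A)) ≅ Spec (CommRingCat.of (A ⧸ J ^ (0 + 1))) :=
    Scheme.Spec.mapIso q.toCommRingCatIso.op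
  have hr : r.hom ≫ CohB1.specQuot J 0 = Spec.map (CommRingCat.ofHom (IsLocalRing.residue A)) := by
    show Spec.map _ ≫ Spec.map _ = _
    rw [← Spec.map_comp]
    rfl
  haveI : CompactSpace X₀ := QuasiCompact.compactSpace_of_compactSpace f₀
  obtain ⟨Xs, fs, ts, hsm, hcart, e₀, he₀⟩ := Groth.L11.SmoothLift.exists_tower J
    ⟨X₀, f₀ ≫ r.hom, inferInstance, inferInstance, hdim.le⟩
  haveI : IsProper (fs 0) := by
    rw [← he₀]
    infer_instance
  haveI : (Xs 0).IsSeparated := by
    refine ⟨?_⟩
    rw [← terminal.comp_from (fs 0)]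
    infer_instance
  haveI : IsLocallyNoetherian (Xs 0) := LocallyOfFiniteType.isLocallyNoetherian (fs 0)
  haveI : CompactSpace (Xs 0) := QuasiCompact.compactSpace_of_compactSpace (fs 0)
  haveI : IsNoetherian (Xs 0) := {}
  have hd0 : topologicalKrullDim (Xs 0) ≤ 1 :=
    (e₀.hom.isOpenEmbedding.isInducing.topologicalKrullDim_le).trans hdim.le
  have hflat : ∀ n, Flat (fs n) := fun n => by
    haveI := hsm n
    infer_instance
  have hH2 : Subsingleton (Coh.HH (Xs 0) (Coh.structureModule (Xs 0)) 2) :=
    Groth.L21.RR.subsingleton_HH_two hd0 _ 0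
  -- an ample module
  obtain ⟨L₀, hL₀⟩ : ∃ L₀ : (Xs 0).Modules, CohB1.IsAmple L₀ := by
    letI : (Xs 0).Over (Spec (CommRingCat.of (IsLocalRing.ResidueField A))) := ⟨fs 0 ≫ r.inv⟩
    haveI : IsProper (Xs 0 ↘ Spec (CommRingCat.of (IsLocalRing.ResidueField A))) :=
      inferInstanceAs (IsProper (fs 0 ≫ r.inv))
    obtain ⟨n, i, hi, -⟩ := Groth.Agent.S7645.result (IsLocalRing.ResidueField A) (Xs 0) hd0
    haveI := hi
    exact ⟨_, Groth.L18.Ample.isAmple_pullback_of_isAffineHom (u := i) (Groth.L22.VeryAmple.isAmple_O1 n _)⟩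
  obtain ⟨L, hL, ⟨φ₀⟩, hφ⟩ := Groth.L12.LineLift.exists_system (A := A) (fs := fs) (ts := ts) hcart hflat hH2 L₀ hL₀.1
  letI : ∀ k, (Xs k).Over (Spec (CommRingCat.of A)) := fun k => ⟨fs k ≫ CohB1.specQuot J k⟩
  have S : Groth.L16.Exist.Adic.IsSys J Xs fs ts := Groth.L16.Exist.Adic.isSys_of_cart J (fun _ => rfl) hcart
  haveI : IsProper (Xs 0 ↘ Spec (CommRingCat.of A)) := by
    haveI := Groth.L16.Exist.Adic.isClosedImmersion_specQuot J 0
    exact inferInstanceAs (IsProper (fs 0 ≫ CohB1.specQuot J 0))
  obtain ⟨Y, g, M, e, hg, -, -, hcartY, -, -⟩ :=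
    Groth.L16.Exist.Adic.exists_algebraization_ample S L hL (fun k => (hφ k).some)
      (Groth.L18.Ample.isAmple_of_iso φ₀.symm hL₀)
  haveI := hg
  haveI : Flat g := Groth.Agent.S11762.result A g fun n => by
    haveI := hflat n
    show Flat (pullback.snd g (CohB1.specQuot J n))
    rw [← (hcartY n).isoPullback_inv_snd]
    infer_instance
  haveI : IsLocallyNoetherian Y := LocallyOfFiniteType.isLocallyNoetherian g
  haveI : LocallyOfFinitePresentation g := inferInstance
  have hsq : IsPullback (e₀.inv ≫ e 0) f₀ g (Spec.map (CommRingCat.ofHom (IsLocalRing.residue A))) := by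
    refine (hcartY 0).of_iso e₀ (Iso.refl _) r.symm (Iso.refl _) ?_ ?_ ?_ ?_
    · simp
    · simp [← he₀]
    · simp
    · simp [← hr]
  haveI : Smooth g := by
    refine Groth.L07.SmoothFibre.smooth_of_fibres g fun s => ?_
    have hc : Smooth (g.fiberToSpecResidueField (IsLocalRing.closedPoint A)) := by
      have h : Smooth (pullback.snd g (Spec.map (CommRingCat.ofHom (IsLocalRing.residue A)))) := by
        rw [← hsq.isoPullback_inv_snd]
        infer_instance
      have h' := (Groth.L14.GeomSmoothing.smooth_fiber_iff g _).1 h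
      rwa [show Spec.map (CommRingCat.ofHom (IsLocalRing.residue A))
        (IsLocalRing.closedPoint (IsLocalRing.ResidueField A)) = IsLocalRing.closedPoint A from
          IsLocalRing.comap_closedPoint (IsLocalRing.residue A)] at h'
    exact (IsLocalRing.specializes_closedPoint s).mem_open (Groth.L07.SmoothFibre.isOpen_smooth_fibre g) hc
  exact ⟨Y, g, inferInstance, inferInstance, hsq.isoPullback, hsq.isoPullback_hom_snd⟩

end Groth.Agent.S3708
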