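import Groth.Statements.S3709
import Groth.Agent.L27.TopInv.Hom

set_option autoImplicit false
universe u
open SGA1

namespace Groth.Agent.S3709

open AlgebraicGeometry CategoryTheory CategoryTheory.Limits in
/-- A universally submersive morphism is a descent morphism for etale schemes (exactness of Hom_S(X, Y)
-> Hom_S'(X', Y') => Hom_S''(X'', Y'')): let g : S' -> S be universally submersive, X and Y schemes
over S with Y etale over S, X' and Y' their base changes along g, and f' : X' -> Y' an S'-morphism
whose two pullbacks to S'' = S' x_S S' coincide (equivalently: the two composites X'' -> X' -> Y' ->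
Y along the two projections agree). Then there is exactly one S-morphism u : X -> Y whose base
change is f'. -/
theorem result {S S' X Y : Scheme.{u}} (g : S' ⟶ S) (hg : SGA1.UnivSubmersive g)
    (p : X ⟶ S) (q : Y ⟶ S) [Etale q]
    (f' : pullback p g ⟶ pullback q g) (hf' : f' ≫ pullback.snd q g = pullback.snd p g)
    (hcoc : pullback.map p (pullback.fst g g ≫ g) p g (𝟙 X) (pullback.fst g g) (𝟙 S)
        ((Category.comp_id _).trans (Category.id_comp _).symm) (Category.comp_id _) ≫ f' ≫ pullback.fst q g =
      pullback.map p (pullback.fst g g ≫ g) p g (𝟙 X) (pullback.snd g g) (𝟙 S)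
        ((Category.comp_id _).trans (Category.id_comp _).symm) ((Category.comp_id _).trans pullback.condition) ≫
        f' ≫ pullback.fst q g) :
    ∃! u : X ⟶ Y, u ≫ q = p ∧ f' ≫ pullback.fst q g = pullback.fst p g ≫ u := by
  let h := pullback.fst p g
  let c : pullback h h ⟶ pullback p (pullback.fst g g ≫ g) :=
    pullback.lift (pullback.fst h h ≫ h)
      (pullback.lift (pullback.fst h h ≫ pullback.snd p g) (pullback.snd h h ≫ pullback.snd p g) (by
        rw [Category.assoc, Category.assoc, ← pullback.condition]
        exact pullback.condition_assoc p))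
      (by rw [pullback.lift_fst_assoc, Category.assoc, Category.assoc, pullback.condition])
  have e := congrArg (c ≫ ·) hcoc
  have e1 : c ≫ pullback.map p (pullback.fst g g ≫ g) p g (𝟙 X) (pullback.fst g g) (𝟙 S)
      ((Category.comp_id _).trans (Category.id_comp _).symm) (Category.comp_id _) = pullback.fst h h := by
    apply pullback.hom_ext
    · exact (Category.assoc _ _ _).trans ((congrArg (c ≫ ·) ((pullback.lift_fst _ _ _).trans
        (Category.comp_id _))).trans (pullback.lift_fst _ _ _))
    · exact (Category.assoc _ _ _).trans ((congrArg (c ≫ ·) (pullback.lift_snd _ _ _)).trans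
        ((pullback.lift_snd_assoc _ _ _ _).trans (pullback.lift_fst _ _ _)))
  have e2 : c ≫ pullback.map p (pullback.fst g g ≫ g) p g (𝟙 X) (pullback.snd g g) (𝟙 S)
      ((Category.comp_id _).trans (Category.id_comp _).symm) ((Category.comp_id _).trans pullback.condition) =
        pullback.snd h h := by
    apply pullback.hom_ext
    · exact (Category.assoc _ _ _).trans ((congrArg (c ≫ ·) ((pullback.lift_fst _ _ _).trans
        (Category.comp_id _))).trans ((pullback.lift_fst _ _ _).trans pullback.condition))
    · exact (Category.assoc _ _ _).trans ((congrArg (c ≫ ·) (pullback.lift_snd _ _ _)).trans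
        ((pullback.lift_snd_assoc _ _ _ _).trans (pullback.lift_snd _ _ _)))
  simp only [reassoc_of% e1, reassoc_of% e2] at e
  obtain ⟨u, hu, huniq⟩ := Groth.L27.TopInv.existsUnique_hom g hg p q (f' ≫ pullback.fst q g)
    (by rw [Category.assoc, pullback.condition, reassoc_of% hf', pullback.condition]) e
  exact ⟨u, hu, huniq⟩

end Groth.Agent.S3709
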