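import Groth.Statements.S3710
import Groth.Agent.L27.KummerSNC.Smooth

set_option autoImplicit false
set_option linter.style.haveILetI false
set_option backward.isDefEq.respectTransparency.types false
open CategoryTheory CategoryTheory.Limits AlgebraicGeometry
universe u
open SGA1t

namespace Groth.Agent.S3710

/-- Let f : X -> S and φ_1, ..., φ_r cut out a strict normal crossings divisor relative to S, x a point
where some φ_i vanishes, A = O_{X,x}, and n_i ≥ 1 integers for the indices i with φ_i(x) = 0 (no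
condition on the residue characteristic). Then the Kummer scheme X' = Spec A[T_i]/(T_i^{n_i} - φ_i)
is smooth over S at its point x' over x: the homomorphism from the local ring of S at the image
point to the local ring of X' at x' is formally smooth. -/
theorem result {X S : Scheme.{u}} (f : X ⟶ S) {r : ℕ} (φ : Fin r → Γ(X, ⊤))
    (hD : SGA1t.IsRelSNC f φ) (x : X) (hx : Nonempty (SGA1t.vanishingAt φ x))
    (n : SGA1t.vanishingAt φ x → ℕ) (hn1 : ∀ i, 1 ≤ n i) :
    letI A := X.presheaf.stalk x
    letI a : SGA1t.vanishingAt φ x → A := fun i => (X.presheaf.germ ⊤ x trivial).hom (φ i.1)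
    letI π : Spec (CommRingCat.of (SGA1t.kummer A a n)) ⟶ Spec (CommRingCat.of A) :=
      Spec.map (CommRingCat.ofHom (algebraMap A (SGA1t.kummer A a n)))
    ∀ x' : Spec (CommRingCat.of (SGA1t.kummer A a n)), π.base x' = IsLocalRing.closedPoint A →
      ((π ≫ X.fromSpecStalk x ≫ f).stalkMap x').hom.FormallySmooth := by
  intro x' _
  obtain ⟨U, hU, θ, d, ψ, e, hfac, hC, hψ, -, he, hφ⟩ := Groth.L27.KummerSNC.exists_coords f φ hD x hx
  letI := θ.toAlgebra
  let A := X.presheaf.stalk x
  let a : SGA1t.vanishingAt φ x → A := fun i => (X.presheaf.germ ⊤ x trivial).hom (φ i.1)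
  let ψ' : MvPolynomial (ULift.{u} (Fin d)) Γ(S, U) →ₐ[Γ(S, U)] A :=
    { ψ with commutes' := fun r => RingHom.congr_fun hC r }
  have hK := Groth.L27.KummerSNC.formallySmooth_kummer ψ' hψ (fun i => ULift.up (e i)) (fun i j h => he (congrArg ULift.down h)) a hφ n
  let κ : Γ(S, U) ⟶ CommRingCat.of (SGA1t.kummer A a n) :=
    CommRingCat.ofHom (algebraMap Γ(S, U) (SGA1t.kummer A a n))
  have hκ : κ = CommRingCat.ofHom θ ≫ CommRingCat.ofHom (algebraMap A (SGA1t.kummer A a n)) :=
    CommRingCat.hom_ext (IsScalarTower.algebraMap_eq _ A _)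
  have h := Groth.L27.KummerSNC.formallySmooth_stalkMap hU κ (RingHom.formallySmooth_algebraMap.2 hK) x'
  rw [hκ] at h
  have heq : Spec.map (CommRingCat.ofHom (algebraMap A (SGA1t.kummer A a n))) ≫ X.fromSpecStalk x ≫ f =
      Spec.map (CommRingCat.ofHom θ ≫ CommRingCat.ofHom (algebraMap A (SGA1t.kummer A a n))) ≫ hU.fromSpec := by
    rw [Spec.map_comp, Category.assoc, hfac]
  exact (RingHom.FormallySmooth.respectsIso.arrow_mk_iso_iff
    (Scheme.Hom.arrowStalkMapIsoOfEq _ rfl)).1 (heq ▸ h)

end Groth.Agent.S3710
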