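import Groth.Statements.S3719
import Groth.Agent.L16.Hyperplane.ImageDim
import Groth.Agent.S0246
import Mathlib.AlgebraicGeometry.Morphisms.Etale

set_option autoImplicit false
universe u
open Pi1

namespace Groth.Agent.S3719

open AlgebraicGeometry CategoryTheory CategoryTheory.Limits in
/-- Let k be algebraically closed, X a proper, irreducible, normal k-scheme, g : X -> P^r_k a k-morphism
whose image has closure of dimension at least 2, H the hyperplane where a nonzero linear form ℓ
vanishes, and X' a connected finite etale cover of X. Then the inverse image of H in X' is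
connected. (For X' = X this is the connectedness of the hyperplane section Y = g⁻¹(H), and the
general case is the surjectivity of the fundamental group of Y onto that of X.) -/
theorem result (k : Type u) [Field k] [IsAlgClosed k] (X : Scheme.{u})
    [X.Over (Spec (CommRingCat.of k))] [IsProper (X ↘ Spec (CommRingCat.of k))] [IrreducibleSpace X]
    (hN : Pi1.IsNormalScheme X) (r : ℕ) (g : X ⟶ CohB1.ProjSpace r k)
    (hg : g ≫ CohB1.ProjSpace.toSpec r k = X ↘ Spec (CommRingCat.of k))
    (hdim : 2 ≤ topologicalKrullDim ↥(closure (Set.range g.base)))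
    (ℓ : MvPolynomial (Fin (r + 1)) k) (hℓ : ℓ ∈ CohB1.polyGrading r k 1) (hℓ0 : ℓ ≠ 0)
    (X' : FEt.Cat X) [ConnectedSpace X'.left] :
    IsConnected (((X'.hom ≫ g).base ⁻¹' (Proj.basicOpen (CohB1.polyGrading r k) ℓ).carrier)ᶜ) := by
  haveI : ∀ x : X, _root_.IsReduced (X.presheaf.stalk x) := fun x => by
    haveI := (hN x).1
    infer_instance
  haveI : AlgebraicGeometry.IsReduced X := isReduced_of_isReduced_stalk X
  haveI : IsIntegral X := isIntegral_of_irreducibleSpace_of_isReduced X
  haveI : IsIntegral X'.left := (Groth.Agent.S0246.result hN X').1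
  let h' : X'.left ⟶ X := X'.hom
  haveI : IsFinite h' := X'.prop.1
  haveI : Etale h' := X'.prop.2
  show IsConnected (((h' ≫ g).base ⁻¹' (Proj.basicOpen (CohB1.polyGrading r k) ℓ).carrier)ᶜ)
  let p' : X'.left ⟶ Spec (CommRingCat.of k) := h' ≫ (X ↘ Spec (CommRingCat.of k))
  haveI : IsProper p' := inferInstance
  let π : X'.left ⟶ CohB1.ProjSpace r k := h' ≫ g
  have hπ : π ≫ CohB1.ProjSpace.toSpec r k = p' := by rw [Category.assoc, hg]
  have hsurj : Set.range h'.base = Set.univ :=
    (IsClopen.eq_univ ⟨h'.isClosedMap.isClosed_range, h'.isOpenMap.isOpen_range⟩ (Set.range_nonempty _))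
  have hcl : closure (Set.range g.base) = closure {π.base (genericPoint X'.left)} := by
    refine subset_antisymm (closure_minimal ?_ isClosed_closure) (closure_mono ?_)
    · rintro _ ⟨x, rfl⟩
      obtain ⟨x', rfl⟩ := hsurj.ge (Set.mem_univ x)
      exact ((genericPoint_specializes x').map π.continuous).mem_closure
    · rintro _ rfl
      exact ⟨_, rfl⟩
  by_cases hη : π.base (genericPoint X'.left) ∈ Proj.basicOpen (CohB1.polyGrading r k) ℓ
  · let ℓ' : CohB1.polyGrading r k 1 := ⟨ℓ, hℓ⟩
    letI := (Groth.L16.Hyper.baseHom p').toAlgebra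
    have hsep : ∀ e : X'.left.functionField, IsSeparable k e → e ∈ (algebraMap k X'.left.functionField).range := by
      intro e he
      refine (minpoly.mem_range_of_degree_eq_one k e ?_)
      exact IsAlgClosed.degree_eq_one_of_irreducible k (minpoly.irreducible he.isIntegral)
    obtain ⟨a, b, ha, hb⟩ := Groth.L16.Hyper.exists_pair_of_dim p' π hπ ℓ' hη (by rw [hcl] at hdim; exact hdim)
    exact Groth.L16.Hyper.isConnected_compl_preimage_basicOpen p' hsep π ℓ' hη a b ha hb
  · have hemp : π.base ⁻¹' (Proj.basicOpen (CohB1.polyGrading r k) ℓ).carrier = ∅ := by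
      rw [Set.eq_empty_iff_forall_notMem]
      intro x hx
      exact hη (((genericPoint_specializes x).map π.continuous).mem_open
        (Proj.basicOpen (CohB1.polyGrading r k) ℓ).isOpen hx)
    rw [hemp, Set.compl_empty]
    exact ⟨Set.univ_nonempty, PreconnectedSpace.isPreconnected_univ⟩
end Groth.Agent.S3719
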