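import Groth.Statements.S3720
import Groth.Agent.L27.Principal.Affine
import Groth.Agent.L27.Principal.Kummer

set_option autoImplicit false
set_option linter.style.haveILetI false
open CategoryTheory CategoryTheory.Limits AlgebraicGeometry
universe u
open SGA1t

namespace Groth.Agent.S3720

/-- Kummer theory over a local ring: let A be a local ring, n ≥ 1 an integer invertible in A, and
suppose A contains a primitive n-th root of unity (so that the group μ_n(A) of n-th roots of unity
in A is cyclic of order n). Then every principal μ_n(A)-cover P of Spec A is isomorphic over Spec A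
to a Kummer cover Spec A[T]/(Tⁿ − a) for some unit a of A, compatibly with the actions: the given
action of a root of unity ζ on P corresponds to the automorphism of A[T]/(Tⁿ − a) induced by T ↦ ζT. -/
theorem result (A : Type u) [CommRing A] [IsLocalRing A] (n : ℕ) (hn1 : 1 ≤ n)
    (hn : IsUnit ((n : ℕ) : A)) (ζ₀ : A) (hζ₀ : IsPrimitiveRoot ζ₀ n)
    (P : FEt.Cat (Spec (CommRingCat.of A))) (ρ : ↥(rootsOfUnity n A) →* Aut P)
    (hP : SGA1t.IsPrincipal ↥(rootsOfUnity n A) P ρ) :
    ∃ (a : Aˣ) (e : P.left ≅ Spec (CommRingCat.of (SGA1t.kummer A (fun _ : Unit => (a : A)) (fun _ => n)))),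
      e.hom ≫ Spec.map (CommRingCat.ofHom (algebraMap A (SGA1t.kummer A (fun _ : Unit => (a : A)) (fun _ => n)))) = P.hom ∧
      ∀ ζ : ↥(rootsOfUnity n A), (ρ ζ).hom.left ≫ e.hom =
        e.hom ≫ Spec.map (CommRingCat.ofHom (SGA1t.kummerTwist A (fun _ : Unit => (a : A)) (fun _ => n) (fun _ => ζ))) := by
  obtain ⟨B, _, _, _, _, _, _, _, e, he, hst, hρ⟩ :=
    Groth.L27.Principal.exists_algebra (G := Groth.L27.Principal.Mu A n) P ρ hP
  obtain ⟨t, a, ht, hta, hbij⟩ := Groth.L27.Principal.exists_kummer (A := A) (B := B) hn1 hn hζ₀ hst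
  let f : CommRingCat.of (SGA1t.kummer A (fun _ : Unit => (a : A)) (fun _ => n)) ⟶ CommRingCat.of B :=
    CommRingCat.ofHom (Groth.L27.Principal.kHom t (a : A) hta).toRingHom
  haveI : IsIso f := (ConcreteCategory.isIso_iff_bijective f).mpr hbij
  refine ⟨a, e ≪≫ asIso (Spec.map f), ?_, fun ζ => ?_⟩
  · rw [Iso.trans_hom, asIso_hom, Category.assoc, ← Spec.map_comp, ← he]
    congr 2
    exact CommRingCat.hom_ext (RingHom.ext fun r => (Groth.L27.Principal.kHom t (a : A) hta).commutes r)
  · rw [Iso.trans_hom, asIso_hom, ← Category.assoc]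
    refine Eq.trans (congrArg (· ≫ Spec.map f) (hρ ζ)) ?_
    rw [Category.assoc, Category.assoc, ← Spec.map_comp, ← Spec.map_comp]
    congr 2
    exact CommRingCat.hom_ext (Groth.L27.Principal.kHom_twist t (a : A) hta ht ζ).symm

end Groth.Agent.S3720
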