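import Groth.Statements.S3724
import Groth.Agent.L27.RShriek.PlusBound
import Groth.Agent.L10.InjAmpGen

set_option linter.style.haveILetI false
set_option maxHeartbeats 1600000
set_option maxSynthPendingDepth 4
set_option synthInstance.maxHeartbeats 400000
set_option backward.defeqAttrib.useBackward true
set_option backward.isDefEq.respectTransparency false
set_option backward.isDefEq.respectTransparency.types false

set_option autoImplicit false
universe u
open CategoryTheory CategoryTheory.Limits AlgebraicGeometry Opposite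
attribute [local instance] HasDerivedCategory.standard
open EtDl

namespace Groth.Agent.S3724

open CategoryTheory.Limits in
theorem isGE_rightDerived {A B : Type*} [Category A] [Abelian A] [EnoughInjectives A] [HasDerivedCategory A]
    [Category B] [Abelian B] [HasDerivedCategory B] [Groth.L10.KInjDerived.EnoughKInjectives A] (F : A ⥤ B)
    [F.Additive] {RF : DerivedCategory A ⥤ DerivedCategory B}
    (α : F.mapHomotopyCategory (ComplexShape.up ℤ) ⋙ DerivedCategory.Qh ⟶ DerivedCategory.Qh ⋙ RF)
    [RF.IsRightDerivedFunctor α (HomotopyCategory.quasiIso A (ComplexShape.up ℤ))]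
    (K : DerivedCategory A) (n : ℤ) (hK : K.IsGE n) : (RF.obj K).IsGE n := by
  obtain ⟨P, hP, ⟨e⟩⟩ := DerivedCategory.exists_iso_Q_obj_of_isGE K n
  obtain ⟨I, j, hj, hI, hge⟩ := CochainComplex.Plus.modelCategoryQuillen.exists_quasiIso_injective P n
  haveI : ∀ i, Injective (I.X i) := hI
  haveI := CochainComplex.isKInjective_of_injective I n
  haveI := Groth.L10.KInjDerived.isIso_app_quotient α I
  haveI : IsIso (DerivedCategory.Q.map j) := (DerivedCategory.isIso_Q_map_iff_quasiIso _ _).2 hj
  let ε := e ≪≫ asIso (DerivedCategory.Q.map j) ≪≫ ((DerivedCategory.quotientCompQhIso A).app I).symm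
  let θ : DerivedCategory.Q.obj ((F.mapHomologicalComplex (ComplexShape.up ℤ)).obj I) ≅ RF.obj K :=
    ((DerivedCategory.quotientCompQhIso B).app _).symm ≪≫
      DerivedCategory.Qh.mapIso ((F.mapHomotopyCategoryFactors (ComplexShape.up ℤ)).app I).symm ≪≫
      asIso (α.app ((HomotopyCategory.quotient A (ComplexShape.up ℤ)).obj I)) ≪≫ RF.mapIso ε.symm
  haveI : CochainComplex.IsStrictlyGE ((F.mapHomologicalComplex (ComplexShape.up ℤ)).obj I) n :=
    (CochainComplex.isStrictlyGE_iff _ _).2 fun i hi => F.map_isZero (I.isZero_of_isStrictlyGE n i hi)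
  haveI : DerivedCategory.TStructure.t.IsGE
      (DerivedCategory.Q.obj ((F.mapHomologicalComplex (ComplexShape.up ℤ)).obj I)) n :=
    inferInstanceAs (DerivedCategory.IsGE _ n)
  exact DerivedCategory.TStructure.t.isGE_of_iso θ n

/-- Let f : X -> S be a morphism of quasi-compact quasi-separated schemes with a compactification c, Λ a
commutative ring with n·1 = 0 for some n ≥ 1, and Rf^! any right adjoint of Rf_! : D^+(X_et, Λ) ->
D^+(S_et, Λ). Let L in D^b(S_et, Λ) have injective dimension at most m, in the sense that Hom(F,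
L[i]) = 0 for every sheaf of Λ-modules F on S_et and every i > m. Then Rf^! L has injective
dimension at most m in the same sense on X_et. -/
theorem result {X S : Scheme.{u}} [CompactSpace ↥X] [QuasiSeparatedSpace ↥X] [CompactSpace ↥S] [QuasiSeparatedSpace ↥S]
    {f : X ⟶ S} (c : DEt.Compactification f)
    (Λ : Type (u + 1)) [CommRing Λ] (n : ℕ) (hn : 0 < n) (hΛ : (n : Λ) = 0)
    (G : DerivedCategory.Plus (EtModW.Mod Λ S) ⥤ DerivedCategory.Plus (EtModW.Mod Λ X))
    (adj : EtDl.RshriekPlus Λ c ⊣ G) (L : DerivedCategory.Plus (EtModW.Mod Λ S)) (a b : ℤ)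
    (ha : L.IsGE a) (hb : L.IsLE b) (m : ℤ)
    (hL : ∀ (F : EtModW.Mod Λ S) (i : ℤ), m < i →
      Subsingleton ((DerivedCategory.Plus.singleFunctor (EtModW.Mod Λ S) 0).obj F ⟶ L⟦i⟧))
    (F : EtModW.Mod Λ X) (i : ℤ) (hi : m < i) :
    Subsingleton ((DerivedCategory.Plus.singleFunctor (EtModW.Mod Λ X) 0).obj F ⟶ (G.obj L)⟦i⟧) := by
  haveI := Groth.L27.RShriek.hasRpushMod (Λ := Λ) c.fbar
  let K := ((DerivedCategory.Plus.singleFunctor (EtModW.Mod Λ X) 0).obj F)⟦-i⟧
  have hK : ((EtDl.RshriekPlus Λ c).obj K).obj.IsGE i := by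
    obtain ⟨e⟩ := Groth.L27.RShriek.nonempty_shriekPlusObj c K
    haveI hK₀ : DerivedCategory.TStructure.t.IsGE K.obj i := by
      haveI : DerivedCategory.TStructure.t.IsGE ((DerivedCategory.singleFunctor (EtModW.Mod Λ X) 0).obj F) 0 :=
        inferInstanceAs (DerivedCategory.IsGE _ 0)
      haveI : DerivedCategory.TStructure.t.IsGE
          ((((ObjectProperty.ι _) : DerivedCategory.Plus (EtModW.Mod Λ X) ⥤ DerivedCategory (EtModW.Mod Λ X)) ⋙
            shiftFunctor _ (-i)).obj ((DerivedCategory.Plus.singleFunctor (EtModW.Mod Λ X) 0).obj F)) i :=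
        DerivedCategory.TStructure.t.isGE_shift ((DerivedCategory.singleFunctor (EtModW.Mod Λ X) 0).obj F) 0 (-i) i (by omega)
      exact DerivedCategory.TStructure.t.isGE_of_iso ((((ObjectProperty.ι _) :
        DerivedCategory.Plus (EtModW.Mod Λ X) ⥤ _).commShiftIso (-i)).app
          ((DerivedCategory.Plus.singleFunctor (EtModW.Mod Λ X) 0).obj F)).symm i
    haveI : K.obj.IsGE i := hK₀
    have h := isGE_rightDerived (EtModW.push Λ c.fbar)
      ((EtBC.pushModKh Λ c.fbar).totalRightDerivedUnit DerivedCategory.Qh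
        (HomotopyCategory.quasiIso (EtModW.Mod Λ c.Xbar) (ComplexShape.up ℤ))) _ i
      (Groth.L10.DerivedAdj.isGE_map (w := EtDl.extZeroMod Λ c.j) K.obj i)
    haveI : DerivedCategory.TStructure.t.IsGE ((EtBC.RpushModD Λ c.fbar).obj
        ((EtDl.extZeroMod Λ c.j).mapDerivedCategory.obj K.obj)) i := h
    exact DerivedCategory.TStructure.t.isGE_of_iso e.symm i
  -- maps from objects in degrees `≥ i` to `L` vanish
  have hv : Groth.L10.InjAmpGen.Vanish L.obj (min a m) m := fun F' j hj φ => by
    rcases hj with hj | hj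
    · haveI : DerivedCategory.TStructure.t.IsGE L.obj a := (DerivedCategory.Plus.isGE_ι_obj_iff L a).2 ha
      haveI : DerivedCategory.TStructure.t.IsLE ((DerivedCategory.singleFunctor (EtModW.Mod Λ S) 0).obj F') 0 :=
        inferInstanceAs (DerivedCategory.IsLE _ 0)
      haveI := DerivedCategory.TStructure.t.isGE_shift L.obj a j (a - j) (by omega)
      exact DerivedCategory.TStructure.t.zero φ 0 (a - j) (by omega)
    · haveI := hL F' j (by omega)
      let P := DerivedCategory.TStructure.t.plus (C := DerivedCategory (EtModW.Mod Λ S))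
      let s := (DerivedCategory.Plus.singleFunctor (EtModW.Mod Λ S) 0).obj F'
      let κ := (P.fullyFaithfulι.homEquiv (X := s) (Y := L⟦j⟧)).trans
        ((Iso.refl (P.ι.obj s)).homCongr ((P.ι.commShiftIso j).app L))
      haveI : Subsingleton ((DerivedCategory.singleFunctor (EtModW.Mod Λ S) 0).obj F' ⟶ L.obj⟦j⟧) :=
        κ.symm.subsingleton
      exact Subsingleton.elim _ _
  obtain ⟨I, hinj, hz, ⟨eI⟩⟩ :=
    (Groth.L10.InjAmpGen.iff_exists_complex (min_le_right a m)).1 hv
  have hvan : ∀ v : ((EtDl.RshriekPlus Λ c).obj K).obj ⟶ L.obj, v = 0 := fun v => by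
    obtain ⟨P, hP, ⟨eP⟩⟩ := DerivedCategory.exists_iso_Q_obj_of_isGE ((EtDl.RshriekPlus Λ c).obj K).obj i
    haveI : ∀ j, Injective (I.X j) := hinj
    haveI : I.IsStrictlyGE (min a m) := (CochainComplex.isStrictlyGE_iff _ _).2 fun j hj => hz j (Or.inl hj)
    haveI := CochainComplex.isKInjective_of_injective I (min a m)
    obtain ⟨w, hw⟩ := Groth.L10.InjAmpGen.exists_Q_map (eP.inv ≫ v ≫ eI.inv)
    have hw0 : w = 0 := by
      refine HomologicalComplex.hom_ext _ _ fun j => ?_
      by_cases hj : j < i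
      · exact (P.isZero_of_isStrictlyGE i j hj).eq_of_src _ _
      · exact (hz j (Or.inr (by omega))).eq_of_tgt _ _
    rw [hw0, Functor.map_zero] at hw
    have h := eP.hom ≫= (hw.symm =≫ eI.hom)
    simpa using h
  haveI : Subsingleton ((EtDl.RshriekPlus Λ c).obj K ⟶ L) :=
    ⟨fun v w => DerivedCategory.Plus.ι.map_injective (by rw [hvan (DerivedCategory.Plus.ι.map v), hvan (DerivedCategory.Plus.ι.map w)])⟩
  haveI : Subsingleton (K ⟶ G.obj L) := (adj.homEquiv K L).symm.subsingleton
  exact @Equiv.subsingleton _ _ ((shiftEquiv _ i).symm.toAdjunction.homEquiv _ _).symm (by assumption)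

end Groth.Agent.S3724
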