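import Groth.Statements.S3731
import Groth.Agent.L10.DerTrunc
import Mathlib.CategoryTheory.Triangulated.Yoneda

set_option autoImplicit false
universe u v
open CategoryTheory CategoryTheory.Limits
attribute [local instance] HasDerivedCategory.standard
open EtDl

namespace Groth.Agent.S3731

open DerivedCategory Pretriangulated

lemma factor_step {A : Type u} [Category.{v} A] [Abelian A] {X Y : DerivedCategory A} (m : ℤ)
    [X.IsLE m] (f : X ⟶ Y) (hf : (homologyFunctor A m).map f = 0) :
    ∃ g, f = g ≫ ((TStructure.t).truncLTι m).app Y := by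
  haveI : (((TStructure.t).truncGE m).obj Y).IsGE m := inferInstanceAs ((TStructure.t).IsGE _ m)
  have h0 : f ≫ ((TStructure.t).truncGEπ m).app Y = 0 :=
    Groth.L10.eq_zero_of_H_eq_zero m _ (by rw [Functor.map_comp, hf, zero_comp])
  exact Triangle.coyoneda_exact₂ _ ((TStructure.t).triangleLTGE_distinguished m Y) f h0
/-- Let A be an abelian category, k ≥ 0, and K_0 -> K_1 -> ... -> K_{2k} a chain of 2k morphisms in the
derived category of A such that every K_i has H^p(K_i) = 0 for p outside [0, k] and every morphism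
K_i -> K_{i+1} induces the zero map on H^p for all p < k. Let π : K_0 -> H^k(K_0)[-k] be the
morphism to the top cohomology object placed in degree k that induces the identity on H^k. Then the
composite K_0 -> K_{2k} factors through π. -/
theorem result {A : Type u} [Category.{v} A] [Abelian A] (k : ℕ)
    (K : ComposableArrows (DerivedCategory A) (2 * k))
    (hK : ∀ (i : ℕ) (hi : i ≤ 2 * k) (p : ℤ), p < 0 ∨ (k : ℤ) < p →
      IsZero ((DerivedCategory.homologyFunctor A p).obj (K.obj' i)))
    (hf : ∀ (i : ℕ) (hi : i < 2 * k) (p : ℤ), p < (k : ℤ) →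
      (DerivedCategory.homologyFunctor A p).map (K.map' i (i + 1)) = 0)
    (π : K.obj' 0 ⟶ (DerivedCategory.singleFunctor A (k : ℤ)).obj
      ((DerivedCategory.homologyFunctor A (k : ℤ)).obj (K.obj' 0)))
    (hπ : (DerivedCategory.homologyFunctor A (k : ℤ)).map π ≫
      (DerivedCategory.singleFunctorCompHomologyFunctorIso A (k : ℤ)).hom.app
        ((DerivedCategory.homologyFunctor A (k : ℤ)).obj (K.obj' 0)) = 𝟙 _) :
    ∃ φ : (DerivedCategory.singleFunctor A (k : ℤ)).obj
        ((DerivedCategory.homologyFunctor A (k : ℤ)).obj (K.obj' 0)) ⟶ K.obj' (2 * k),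
      K.map' 0 (2 * k) = π ≫ φ := by
  open DerivedCategory Pretriangulated in
  have claim : ∀ (j : ℕ) (hj : j ≤ k), ∃ g, ((TStructure.t).truncLTι (k : ℤ)).app (K.obj' 0) ≫
      K.map' 0 j (by omega) (by omega) = g ≫ ((TStructure.t).truncLTι ((k : ℤ) - j)).app (K.obj' j) := by
    intro j
    induction j with
    | zero =>
      intro hj
      refine ⟨((TStructure.t).natTransTruncLTOfLE (k : ℤ) ((k : ℤ) - (0 : ℕ)) (by simp)).app _, ?_⟩
      rw [(TStructure.t).natTransTruncLTOfLE_ι_app, K.map'_self 0]
      exact Category.comp_id _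
    | succ j ih =>
      intro hj
      obtain ⟨g, hg⟩ := ih (by omega)
      haveI : (((TStructure.t).truncLT ((k : ℤ) - j)).obj (K.obj' j)).IsLE ((k : ℤ) - (j + 1 : ℕ)) :=
        (TStructure.t).isLE_truncLT_obj _ _ _ (by omega)
      obtain ⟨g', hg'⟩ := factor_step ((k : ℤ) - (j + 1 : ℕ))
        (((TStructure.t).truncLTι ((k : ℤ) - j)).app (K.obj' j (show j ≤ 2 * k by omega)) ≫ K.map' j (j + 1) (by omega) (by omega))
        (by rw [Functor.map_comp, hf j (by omega) _ (by omega), comp_zero])
      refine ⟨g ≫ g', ?_⟩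
      rw [K.map'_comp 0 j (j + 1), ← Category.assoc, hg, Category.assoc, hg', Category.assoc]
  obtain ⟨g, hg⟩ := claim k le_rfl
  haveI hge : (K.obj' k).IsGE ((k : ℤ) - k) := by
    rw [DerivedCategory.isGE_iff]
    exact fun i hi => hK k (by omega) i (Or.inl (by omega))
  have hzero : ((DerivedCategory.TStructure.t).truncLTι (k : ℤ)).app (K.obj' 0) ≫ K.map' 0 (2 * k) = 0 := by
    have h1 : g = 0 := ((DerivedCategory.TStructure.t).isZero_truncLT_obj_of_isGE _ _).eq_of_tgt _ _
    rw [h1, zero_comp] at hg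
    rw [K.map'_comp 0 k (2 * k), ← Category.assoc, hg, zero_comp]
  obtain ⟨ψ, hψ⟩ := Pretriangulated.Triangle.yoneda_exact₂ _
    ((DerivedCategory.TStructure.t).triangleLTGE_distinguished (k : ℤ) (K.obj' 0)) _ hzero
  let P := ((DerivedCategory.TStructure.t).truncGE (k : ℤ)).obj (K.obj' 0)
  let p := ((DerivedCategory.TStructure.t).truncGEπ (k : ℤ)).app (K.obj' 0)
  let M := (DerivedCategory.homologyFunctor A (k : ℤ)).obj (K.obj' 0)
  haveI : P.IsGE (k : ℤ) := inferInstanceAs ((DerivedCategory.TStructure.t).IsGE _ _)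
  haveI : (K.obj' 0).IsLE (k : ℤ) := by
    rw [DerivedCategory.isLE_iff]
    exact fun i hi => hK 0 (by omega) i (Or.inr hi)
  haveI : P.IsLE (k : ℤ) := inferInstanceAs ((DerivedCategory.TStructure.t).IsLE
    (((DerivedCategory.TStructure.t).truncGE (k : ℤ)).obj (K.obj' 0)) _)
  haveI : IsIso ((DerivedCategory.homologyFunctor A (k : ℤ)).map p) :=
    Groth.L10.isIso_H_π (k : ℤ) k le_rfl (K.obj' 0)
  let π' : P ⟶ (DerivedCategory.singleFunctor A (k : ℤ)).obj M :=
    (DerivedCategory.TStructure.t).descTruncGE π (k : ℤ)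
  have hπ' : p ≫ π' = π := (DerivedCategory.TStructure.t).π_descTruncGE π (k : ℤ)
  haveI : IsIso ((DerivedCategory.homologyFunctor A (k : ℤ)).map π') := by
    haveI : IsIso ((DerivedCategory.homologyFunctor A (k : ℤ)).map π) := by
      haveI : IsIso ((DerivedCategory.homologyFunctor A (k : ℤ)).map π ≫
        (DerivedCategory.singleFunctorCompHomologyFunctorIso A (k : ℤ)).hom.app M) := by
        rw [hπ]; infer_instance
      exact IsIso.of_isIso_comp_right _
        ((DerivedCategory.singleFunctorCompHomologyFunctorIso A (k : ℤ)).hom.app M)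
    haveI : IsIso ((DerivedCategory.homologyFunctor A (k : ℤ)).map p ≫
        (DerivedCategory.homologyFunctor A (k : ℤ)).map π') := by
      rw [← Functor.map_comp, hπ']; infer_instance
    exact IsIso.of_isIso_comp_left ((DerivedCategory.homologyFunctor A (k : ℤ)).map p) _
  haveI : IsIso π' := by
    obtain ⟨e⟩ := Groth.L10.exists_iso_single_H P (k : ℤ)
    obtain ⟨m, hm⟩ := (DerivedCategory.singleFunctor A (k : ℤ)).map_surjective (e.inv ≫ π')
    haveI : IsIso m := by
      have hn := NatIso.naturality_1 (DerivedCategory.singleFunctorCompHomologyFunctorIso A (k : ℤ)) m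
      simp only [Functor.comp_map, Functor.id_map] at hn
      rw [← hn, hm, Functor.map_comp]
      infer_instance
    haveI : IsIso (e.inv ≫ π') := hm ▸ inferInstance
    exact IsIso.of_isIso_comp_left e.inv π'
  exact ⟨inv π' ≫ ψ, by rw [← hπ', Category.assoc, IsIso.hom_inv_id_assoc]; exact hψ⟩

end Groth.Agent.S3731
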