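import Groth.Statements.S3734
import Groth.Agent.L27.PBC.ShriekTop

set_option autoImplicit false
set_option linter.style.haveILetI false
set_option backward.isDefEq.respectTransparency.types false
universe u
open CategoryTheory CategoryTheory.Limits AlgebraicGeometry Opposite
open EtDl

namespace Groth.Agent.S3734

/-- Let f : X -> S be a morphism of quasi-compact quasi-separated schemes with a compactification c (f =
j_c followed by the proper fbar), all of whose fibres have dimension at most d; let j : U -> X be a
quasi-compact open immersion and i : Z -> X a closed immersion onto the complement of U such that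
every fibre of Z -> S has dimension less than d; and let F be a torsion abelian sheaf on X_et. Then
the canonical map R^{2d}(f j)_! j^* F -> R^{2d} f_! F is an isomorphism. Here both sides are
computed through c — R^{2d} f_! F = R^{2d} fbar_* (j_c)_! F and R^{2d}(f j)_! j^* F = R^{2d} fbar_*
(j_c)_! (j_! j^* F) — and the map is induced by the counit j_! j^* F -> F. -/
theorem result {X S U Z : Scheme.{u}} [CompactSpace ↥X] [QuasiSeparatedSpace ↥X] [CompactSpace ↥S] [QuasiSeparatedSpace ↥S]
    {f : X ⟶ S} (c : DEt.Compactification f) (d : ℕ)
    (hdim : ∀ s : S, topologicalKrullDim ↥(f.fiber s) ≤ d)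
    (j : U ⟶ X) [IsOpenImmersion j] [QuasiCompact j] (i : Z ⟶ X) [IsClosedImmersion i]
    (hij : Set.range j.base = (Set.range i.base)ᶜ)
    (hZ : ∀ s : S, topologicalKrullDim ↥((i ≫ f).fiber s) < d)
    (F : EtCoh.Ab X) (hF : EtCoh.IsTorsion F) :
    IsIso ((EtCoh.Rpush c.fbar (2 * d)).map
      ((EtShriek.extZero c.j).map ((EtShriek.extZeroAdj j).counit.app F))) := by
  exact Groth.L27.PBC.isIso_topShriek c.j c.fbar d (fun s => c.fac.symm ▸ hdim s) j i hij (fun s => c.fac.symm ▸ hZ s) F hF

end Groth.Agent.S3734
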