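import Groth.Statements.S3745
import Groth.Agent.L12.KRes.Cx
-- import your own Groth.Agent.* helpers here

set_option autoImplicit false
universe v u
open CategoryTheory CategoryTheory.Limits AlgebraicGeometry
attribute [local instance] HasDerivedCategory.standard
open KRR

namespace Groth.Agent.S3745

/-- Let X be a Noetherian scheme on which every coherent module is a quotient of a finite locally free
module. Then the homomorphism from K₀ of finite locally free O_X-modules to K₀ of the coherent
O_X-modules admitting a finite resolution by finite locally free modules, induced by the inclusion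
of categories (the argument h records that inclusion), is bijective. (Its inverse sends the class of
such a module to the alternating sum of the classes of the terms of any finite locally free
resolution. The source's standing connectedness assumption plays no role here and is omitted.) -/
theorem result (X : Scheme.{u}) [IsNoetherian X] (hX : KRR.HasEnoughLocFree X)
    (h : ∀ M : X.Modules, FlatMod.IsFinLocFree M → Coh.IsCoh M ∧ KRR.HasLFRes M) :
    Function.Bijective (SGA6.mapSub (𝟭 X.Modules) (KRR.vbP X) (fun M : X.Modules => Coh.IsCoh M ∧ KRR.HasLFRes M) h) := by
  have e : (fun M : X.Modules => Coh.IsCoh M ∧ KRR.HasLFRes M) = fun M : X.Modules => Groth.L12.KRes.CohPd M :=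
    funext fun M => propext ⟨fun hM => (Groth.L12.KRes.hasLFRes_iff hX).1 hM.2,
      fun hM => ⟨hM.1, (Groth.L12.KRes.hasLFRes_iff hX).2 hM⟩⟩
  have hb := Groth.L29.Resolution.bijective (Groth.L12.KRes.hyp hX) (Groth.L12.KRes.hfin hX)
  have key : ∀ (P : ObjectProperty X.Modules) (h' : ∀ M, FlatMod.IsFinLocFree M → P M),
      P = (fun M : X.Modules => Groth.L12.KRes.CohPd M) →
      Function.Bijective (SGA6.mapSub (𝟭 X.Modules) (KRR.vbP X) P h') := by
    rintro P h' rfl
    exact hb
  exact key _ h e

end Groth.Agent.S3745
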