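import Groth.Statements.S3747
import Groth.Agent.L12.KRes.Tensor
-- import your own Groth.Agent.* helpers here

set_option autoImplicit false
universe v u
open CategoryTheory CategoryTheory.Limits AlgebraicGeometry
attribute [local instance] HasDerivedCategory.standard
open KRR

namespace Groth.Agent.S3747

/-- Let f : X ⟶ Y be a regular closed imbedding of connected Noetherian schemes, where on Y every
coherent module is a quotient of a finite locally free one. Let (KX, PX, φX), (KY, PY, φY) be models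
of the λ-rings K(X), K(Y); let g : K(Y) ⟶ K(X) be the pull-back f^K ([E] ↦ [f^*E]) and h : K(X) ⟶
K(Y) the push-forward f_K ([F] ↦ alternating sum of the terms of a finite locally free resolution of
f_*F). Then h (x · g y) = h x · y for all x, y. -/
theorem result {X Y : Scheme.{u}} (f : X ⟶ Y) (hf : Mor2.IsRegularClosedImmersion f)
    [IsNoetherian X] [ConnectedSpace ↥X] [IsNoetherian Y] [ConnectedSpace ↥Y] (hYe : KRR.HasEnoughLocFree Y)
    (KX : Type v) [CommRing KX] [LambdaRing.LambdaOps KX] (PX : LambdaRing.PosStructure KX) (φX : SGA6.Kvb X →+ KX) (hKX : KRR.IsModel X KX PX φX)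
    (KY : Type v) [CommRing KY] [LambdaRing.LambdaOps KY] (PY : LambdaRing.PosStructure KY) (φY : SGA6.Kvb Y →+ KY) (hKY : KRR.IsModel Y KY PY φY)
    (g : KY →+ KX) (hg : KRR.IsPull f φY φX g) (h : KX →+ KY) (hh : KRR.IsPushCl f φX φY h)
    (x : KX) (y : KY) : h (x * g y) = h x * y := by
  haveI := hf.1
  have key : ∀ F : X.Modules, FlatMod.IsFinLocFree F → ∀ E : Y.Modules, FlatMod.IsFinLocFree E →
      h (φX (KRR.cl X F) * g (φY (KRR.cl Y E))) = h (φX (KRR.cl X F)) * φY (KRR.cl Y E) := fun F hF E hE => by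
    have hpE := Groth.L29.LocFree.pullback f hE
    have hpush := Groth.L12.KRes.cohPd_push f hf hYe hF
    let w : (Scheme.Modules.pushforward f).obj (CohB1.tensorMod F ((Scheme.Modules.pullback f).obj E)) ≅
        CohB1.tensorMod E ((Scheme.Modules.pushforward f).obj F) :=
      (Scheme.Modules.pushforward f).mapIso (Groth.L00.Tensor.tensorComm _ _) ≪≫
        ((Groth.L17.ClosedPush.thetaIso f F).app E).symm
    rw [hg E hE, hKX.map_mul F _ hF hpE, Groth.L12.KRes.map_pushCl f hf hYe φX φY hh,
      Groth.L12.KRes.map_pushCl f hf hYe φX φY hh, Groth.L12.KRes.pushCl_cl f hf hYe hF, mul_comm,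
      ← Groth.L12.KRes.cl_tensor hYe hKY hE hpush]
    refine congrArg φY ?_
    refine (Groth.L12.KRes.pushCl_cl f hf hYe (Groth.L29.DC.isFinLocFree_tensor hF hpE)).trans ?_
    exact Groth.L12.KRes.clPd_iso hYe w
      (Groth.L12.KRes.cohPd_push f hf hYe (Groth.L29.DC.isFinLocFree_tensor hF hpE))
  obtain ⟨a, rfl⟩ := hKX.bijective.2 x
  obtain ⟨b, rfl⟩ := hKY.bijective.2 y
  have h1 : ∀ F : X.Modules, FlatMod.IsFinLocFree F →
      (h.comp ((AddMonoidHom.mulLeft (φX (KRR.cl X F))).comp (g.comp φY))) =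
        (AddMonoidHom.mulLeft (h (φX (KRR.cl X F)))).comp φY := fun F hF =>
    Groth.L29.KSub.hom_ext fun E hE => key F hF E hE
  have h2 : (h.comp ((AddMonoidHom.mulRight (g (φY b))).comp φX)) =
      ((AddMonoidHom.mulRight (φY b)).comp (h.comp φX)) :=
    Groth.L29.KSub.hom_ext fun F hF => DFunLike.congr_fun (h1 F hF) b
  exact DFunLike.congr_fun h2 a

end Groth.Agent.S3747
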