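import Groth.Statements.S3748
import Groth.Agent.L12.KRes.PushPd
-- import your own Groth.Agent.* helpers here

set_option autoImplicit false
universe v u
open CategoryTheory CategoryTheory.Limits AlgebraicGeometry
attribute [local instance] HasDerivedCategory.standard
open KRR

namespace Groth.Agent.S3748

/-- Let f : X ⟶ Y and g : Y ⟶ Z be regular closed imbeddings of connected Noetherian schemes, where on Y
and on Z every coherent module is a quotient of a finite locally free one. With models of K(X),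
K(Y), K(Z) and push-forwards a = f_K, b = g_K, c = (f ≫ g)_K (each defined through finite locally
free resolutions of direct images of bundles), one has c = b ∘ a. -/
theorem result {X Y Z : Scheme.{u}} (f : X ⟶ Y) (g : Y ⟶ Z)
    (hf : Mor2.IsRegularClosedImmersion f) (hg : Mor2.IsRegularClosedImmersion g)
    [IsNoetherian X] [ConnectedSpace ↥X] [IsNoetherian Y] [ConnectedSpace ↥Y] (hYe : KRR.HasEnoughLocFree Y) [IsNoetherian Z] [ConnectedSpace ↥Z] (hZe : KRR.HasEnoughLocFree Z)
    (KX : Type v) [CommRing KX] [LambdaRing.LambdaOps KX] (PX : LambdaRing.PosStructure KX) (φX : SGA6.Kvb X →+ KX) (hKX : KRR.IsModel X KX PX φX)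
    (KY : Type v) [CommRing KY] [LambdaRing.LambdaOps KY] (PY : LambdaRing.PosStructure KY) (φY : SGA6.Kvb Y →+ KY) (hKY : KRR.IsModel Y KY PY φY)
    (KZ : Type v) [CommRing KZ] [LambdaRing.LambdaOps KZ] (PZ : LambdaRing.PosStructure KZ) (φZ : SGA6.Kvb Z →+ KZ) (hKZ : KRR.IsModel Z KZ PZ φZ)
    (a : KX →+ KY) (ha : KRR.IsPushCl f φX φY a) (b : KY →+ KZ) (hb : KRR.IsPushCl g φY φZ b)
    (c : KX →+ KZ) (hc : KRR.IsPushCl (f ≫ g) φX φZ c) : c = b.comp a := by
  refine AddMonoidHom.ext fun x => ?_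
  obtain ⟨x, rfl⟩ := hKX.bijective.2 x
  refine DFunLike.congr_fun (f := c.comp φX) (g := (b.comp a).comp φX) (Groth.L29.KSub.hom_ext fun F hF => ?_) x
  show c (φX (KRR.cl X F)) = b (a (φX (KRR.cl X F)))
  have h1 := Groth.L12.KRes.cohPd_push f hf hYe hF
  have h2 := Groth.L12.KRes.cohPd_push_cohPd g hg hYe hZe h1
  let e := ((Scheme.Modules.pushforwardComp f g).app F)
  have h3 : Groth.L12.KRes.CohPd ((Scheme.Modules.pushforward (f ≫ g)).obj F) := Groth.L12.KRes.CohPd.iso e h2
  rw [Groth.L12.KRes.push_apply (f ≫ g) hZe φX φZ hc hF h3,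
    Groth.L12.KRes.push_apply f hYe φX φY ha hF h1, Groth.L12.KRes.map_pushCl g hg hZe φY φZ hb,
    Groth.L12.KRes.pushCl_clPd g hg hYe hZe h1]
  exact congrArg φZ (Groth.L12.KRes.clPd_iso hZe e h2).symm

end Groth.Agent.S3748
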