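import Groth.Statements.S3750
import Groth.Agent.L12.RR.Disjoint
-- import your own Groth.Agent.* helpers here

set_option autoImplicit false
universe v u
open CategoryTheory CategoryTheory.Limits AlgebraicGeometry
attribute [local instance] HasDerivedCategory.standard
open KRR

set_option maxHeartbeats 400000
set_option backward.isDefEq.respectTransparency false
set_option backward.isDefEq.respectTransparency.types false

namespace Groth.Agent.S3750

/-- Let F : P ⟶ M and f : X ⟶ Y be regular closed imbeddings whose conormal sheaves are locally free of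
the same rank d, fitting in a cartesian square with φ : Y ⟶ M and ψ : X ⟶ P (so X = Y ×_M P), all
these schemes Noetherian and connected and Y, M having enough locally free sheaves. Let k : Z ⟶ Y be
a morphism from a connected Noetherian scheme whose image is disjoint from f(X), and h = k ≫ φ : Z ⟶
M. Then, on models of the λ-rings K(P), K(M) and K(Z), the pull-back h^K : K(M) → K(Z) kills the
image of the push-forward F_K : K(P) → K(M): h^K(F_K(p)) = 0 for every p ∈ K(P). -/
theorem result {X Y P M Z : Scheme.{u}} (F : P ⟶ M) (φ : Y ⟶ M) (f : X ⟶ Y) (ψ : X ⟶ P)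
    (hsq : IsPullback f ψ φ F) (hF : Mor2.IsRegularClosedImmersion F) (hf : Mor2.IsRegularClosedImmersion f) (d : ℕ)
    (hcF : FlatMod.IsFinLocFreeOfRank d (Omega.conormal F)) (hcf : FlatMod.IsFinLocFreeOfRank d (Omega.conormal f))
    (k : Z ⟶ Y) (hk : Disjoint (Set.range k.base) (Set.range f.base))
    [IsNoetherian X] [ConnectedSpace ↥X] [IsNoetherian P] [ConnectedSpace ↥P] [IsNoetherian Z] [ConnectedSpace ↥Z] [IsNoetherian Y] [ConnectedSpace ↥Y] (hYe : KRR.HasEnoughLocFree Y) [IsNoetherian M] [ConnectedSpace ↥M] (hMe : KRR.HasEnoughLocFree M)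
    (KP : Type v) [CommRing KP] [LambdaRing.LambdaOps KP] (PP : LambdaRing.PosStructure KP) (φP : SGA6.Kvb P →+ KP) (hKP : KRR.IsModel P KP PP φP)
    (KM : Type v) [CommRing KM] [LambdaRing.LambdaOps KM] (PM : LambdaRing.PosStructure KM) (φM : SGA6.Kvb M →+ KM) (hKM : KRR.IsModel M KM PM φM)
    (KZ : Type v) [CommRing KZ] [LambdaRing.LambdaOps KZ] (PZ : LambdaRing.PosStructure KZ) (φZ : SGA6.Kvb Z →+ KZ) (hKZ : KRR.IsModel Z KZ PZ φZ)
    (gh : KM →+ KZ) (hgh : KRR.IsPull (k ≫ φ) φM φZ gh)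
    (gF : KP →+ KM) (hgF : KRR.IsPushCl F φP φM gF) (p : KP) : gh (gF p) = 0 := by
  let U : M.Opens := ⟨(Set.range F.base)ᶜ, by
    haveI : IsClosedImmersion F := hF.1
    exact F.isClosedEmbedding.isClosed_range.isOpen_compl⟩
  have hsub : Set.range (k ≫ φ).base ⊆ (U : Set M) := by
    rintro _ ⟨z, rfl⟩ ⟨q, hq⟩
    obtain ⟨x, hx, -⟩ := Scheme.Pullback.exists_preimage_pullback (k.base z) q (f := φ) (g := F) hq.symm
    refine hk.le_bot ⟨⟨z, rfl⟩, ⟨hsq.isoPullback.inv.base x, ?_⟩⟩
    rw [← hx, ← hsq.isoPullback_inv_fst]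
    rfl
  let k' : Z ⟶ U.toScheme := IsOpenImmersion.lift U.ι (k ≫ φ) (by rw [Scheme.Opens.range_ι]; exact hsub)
  have hk' : k' ≫ U.ι = k ≫ φ := IsOpenImmersion.lift_fac _ _ _
  suffices H : (gh.comp gF).comp φP = 0 by
    obtain ⟨x, rfl⟩ := hKP.bijective.2 p
    exact DFunLike.congr_fun H x
  refine Groth.L29.KSub.hom_ext fun E hE => ?_
  obtain ⟨n, L, π, hL⟩ := Groth.L12.KRes.hasLFRes_of_cohPd hMe (Groth.L12.KRes.cohPd_push F hF hMe hE)
  show gh (gF (φP (KRR.cl P E))) = 0
  have hA : IsZero ((Scheme.Modules.restrictFunctor U.ι).obj ((Scheme.Modules.pushforward F).obj E)) :=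
    Groth.L16.Exist.isZero_restrict_push F U.ι E fun x _ hx => by
      rw [Scheme.Opens.range_ι] at hx
      exact hx ⟨x, rfl⟩
  have h := Groth.L12.RR.sum_kc_pullback_eq_zero hL U hA k'
  rw [hk'] at h
  let e : Groth.L12.Kvb.KR Z →+ KZ :=
    { toFun := fun x => φZ x, map_zero' := map_zero φZ, map_add' := fun a b => map_add φZ a b }
  have h' := congrArg e h
  rw [map_zero, map_sum] at h'
  rw [hgF E hE n L π hL, map_sum]
  refine (Finset.sum_congr rfl fun i _ => ?_).trans h'
  rw [map_zsmul, map_zsmul, hgh _ (hL.finLocFree i)]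
  rfl

end Groth.Agent.S3750
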