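import Groth.Statements.S3751
import Groth.Agent.L12.RR.Def.Build
import Groth.Agent.L12.RR.Models
-- import your own Groth.Agent.* helpers here

set_option autoImplicit false
universe v u
open CategoryTheory CategoryTheory.Limits AlgebraicGeometry
attribute [local instance] HasDerivedCategory.standard
open KRR

set_option maxHeartbeats 400000
set_option backward.isDefEq.respectTransparency false
set_option backward.isDefEq.respectTransparency.types false

namespace Groth.Agent.S3751

/-- Let S be an affine Noetherian scheme, Y a connected scheme quasi-projective over S, and f : X ⟶ Y a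
regular closed imbedding with X connected, whose conormal module C is finite locally free of rank d.
Let (KX, PX, φX), (KY, PY, φY) be models of the λ-rings K(X), K(Y) and h = f_K the push-forward
(alternating sum of a finite locally free resolution of f_*F). Then for every j ≥ 1 and x ∈ K(X),
ψ^j (f_K x) = f_K (θ^j([C]) · ψ^j x), where ψ^j is the j-th Adams operation and θ^j([C]) is Bott's
cannibalistic class of the positive element [C] (the universal polynomial in the λ^i[C] whose value
on a sum of line elements u_1 + ⋯ + u_d is Π (1 + u_i + ⋯ + u_i^{j-1})). No denominators are needed. -/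
theorem result (S : Scheme.{u}) [IsAffine S] [IsNoetherian S] {X Y : Scheme.{u}} [IsNoetherian Y] [ConnectedSpace ↥Y] (qY : Y ⟶ S) (hqY : KRR.IsQProjOver qY)
    (f : X ⟶ Y) (hf : Mor2.IsRegularClosedImmersion f) [ConnectedSpace ↥X] (d : ℕ)
    (hC : FlatMod.IsFinLocFreeOfRank d (Omega.conormal f))
    (KX : Type v) [CommRing KX] [LambdaRing.LambdaOps KX] (PX : LambdaRing.PosStructure KX) (φX : SGA6.Kvb X →+ KX) (hKX : KRR.IsModel X KX PX φX)
    (KY : Type v) [CommRing KY] [LambdaRing.LambdaOps KY] (PY : LambdaRing.PosStructure KY) (φY : SGA6.Kvb Y →+ KY) (hKY : KRR.IsModel Y KY PY φY)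
    (h : KX →+ KY) (hh : KRR.IsPushCl f φX φY h) (j : ℕ) (hj : 1 ≤ j) (x : KX) :
    LambdaRing.adams PY j (h x) = h (KRR.bott PX j (φX (KRR.cl X (Omega.conormal f))) * LambdaRing.adams PX j x) := by
  haveI := hf.1
  haveI : IsLocallyNoetherian X := LocallyOfFiniteType.isLocallyNoetherian f
  haveI : CompactSpace X := QuasiCompact.compactSpace_of_compactSpace f
  haveI : IsNoetherian X := {}
  have hYe := Groth.L12.RR.hasEnough_of_ample (Groth.L12.RR.exists_ample_of_qproj hqY)
  have hj0 : j ≠ 0 := by omega
  obtain ⟨eX, hX, hXc, hXl⟩ := Groth.L12.RR.exists_equiv hKX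
  obtain ⟨eY, hY, -, hYl⟩ := Groth.L12.RR.exists_equiv hKY
  obtain ⟨x, rfl⟩ := eX.surjective x
  have hC' := Groth.L18.KRRAmple.isFinLocFree_of_rank hC
  rw [Groth.L12.RR.bott_eq_theta PX j (hKX.aug_cl d _ hC), ← hXc _ hC', Groth.L12.RR.adams_eq_psi PX hj0,
    show Groth.L12.RR.psi j (eX x) = eX (Groth.L12.RR.psi j x) from
      (Groth.L12.RR.map_psi eX.toRingHom hXl j x).symm,
    show Groth.L12.RR.theta j d (eX (Groth.L12.KBunQ.kc X (Omega.conormal f))) =
      eX (Groth.L12.RR.theta j d (Groth.L12.KBunQ.kc X (Omega.conormal f))) from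
      (Groth.L12.RR.map_theta eX.toRingHom hXl j d _).symm,
    ← map_mul, Groth.L12.RR.map_pushK f hf hYe hh hX hY, Groth.L12.RR.map_pushK f hf hYe hh hX hY,
    Groth.L12.RR.adams_eq_psi PY hj0, ← Groth.L12.RR.adamsRR hqY f hf hC hYe hj0 x]
  exact (Groth.L12.RR.map_psi eY.toRingHom hYl j _).symm

end Groth.Agent.S3751
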