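import Groth.Statements.S3752
import Groth.Agent.S3776
import Groth.Agent.S3760
import Groth.Agent.S3762
import Groth.Agent.L13.ElemExt.RR.Main
import Groth.Agent.L22.Adams
-- import your own Groth.Agent.* helpers here

set_option autoImplicit false
universe v u
open CategoryTheory CategoryTheory.Limits AlgebraicGeometry
attribute [local instance] HasDerivedCategory.standard
open scoped TensorProduct
open KRR

set_option maxHeartbeats 800000
set_option backward.isDefEq.respectTransparency false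
set_option backward.isDefEq.respectTransparency.types false

namespace Groth.Agent.S3752

section Adams

open LambdaRing Groth.L22.Lambda

variable {K : Type v} [CommRing K] [LambdaOps K] (P : PosStructure K)

/-- `ψ^j` on a multiple by a twisting element. -/
theorem adams_twist {u x : K} (h : ∀ i, LambdaOps.lam i (u * x) = u ^ i * LambdaOps.lam i x) {j : ℕ} (hj : 1 ≤ j) :
    adams P j (u * x) = u ^ j * adams P j x := by
  set a := PowerSeries.rescale (-1 : K) (lamSeries x)
  have ha0 : PowerSeries.constantCoeff a = 1 := constantCoeff_rescale_lamSeries x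
  have ha' : PowerSeries.rescale (-1 : K) (lamSeries (u * x)) = PowerSeries.rescale u a := by
    ext k
    simp only [a, PowerSeries.coeff_rescale, coeff_lamSeries, h]
    ring
  have hd : PowerSeries.X * PowerSeries.derivative K (PowerSeries.rescale u a) =
      PowerSeries.rescale u (PowerSeries.X * PowerSeries.derivative K a) := by
    ext k
    rw [PowerSeries.coeff_rescale]
    rcases k with - | k
    · simp
    · simp only [PowerSeries.coeff_succ_X_mul, PowerSeries.coeff_derivative, PowerSeries.coeff_rescale]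
      ring
  have hi : (PowerSeries.rescale u a).invOfUnit 1 = PowerSeries.rescale u (a.invOfUnit 1) := by
    have A := congrArg (PowerSeries.rescale u) (PowerSeries.mul_invOfUnit a 1 (by rw [ha0, Units.val_one]))
    rw [map_mul, map_one] at A
    have B := PowerSeries.invOfUnit_mul (PowerSeries.rescale u a) 1 (by
      rw [← PowerSeries.coeff_zero_eq_constantCoeff_apply, PowerSeries.coeff_rescale, pow_zero, one_mul,
        PowerSeries.coeff_zero_eq_constantCoeff_apply, ha0, Units.val_one])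
    exact left_inv_eq_right_inv B A
  have hC : ∀ z : K, PowerSeries.coeff j (PowerSeries.C z) = 0 := fun z => by
    rw [PowerSeries.coeff_C, if_neg (by omega)]
  simp only [adams, adamsSeries, map_sub, hC, zero_sub, ha', hd, hi]
  rw [← map_mul, PowerSeries.coeff_rescale, mul_neg]

theorem map_adams' {L : Type*} [CommRing L] [LambdaOps L] (P' : PosStructure L) {f : K →+* L}
    (hl : ∀ i x, f (LambdaOps.lam i x) = LambdaOps.lam i (f x)) (ha : ∀ x, P'.aug (f x) = P.aug x) (j : ℕ) (x : K) :
    f (adams P j x) = adams P' j (f x) := by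
  have hlam : PowerSeries.map f (PowerSeries.rescale (-1 : K) (lamSeries x)) =
      PowerSeries.rescale (-1 : L) (lamSeries (f x)) := by
    ext k
    simp [PowerSeries.coeff_rescale, coeff_lamSeries, hl k x]
  have hder : ∀ a : PowerSeries K, PowerSeries.map f (PowerSeries.derivative K a) =
      PowerSeries.derivative L (PowerSeries.map f a) := fun a => by
    ext k
    simp [PowerSeries.coeff_derivative]
  have hinv : PowerSeries.map f ((PowerSeries.rescale (-1 : K) (lamSeries x)).invOfUnit 1) =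
      (PowerSeries.rescale (-1 : L) (lamSeries (f x))).invOfUnit 1 := by
    have a := congrArg (PowerSeries.map f)
      (PowerSeries.mul_invOfUnit (PowerSeries.rescale (-1 : K) (lamSeries x)) 1
        (by rw [constantCoeff_rescale_lamSeries, Units.val_one]))
    rw [map_mul, map_one, hlam] at a
    have b := PowerSeries.mul_invOfUnit (PowerSeries.rescale (-1 : L) (lamSeries (f x))) 1
        (by rw [constantCoeff_rescale_lamSeries, Units.val_one])
    exact left_inv_eq_right_inv (by rw [mul_comm]; exact a) b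
  have key : PowerSeries.map f (adamsSeries P x) = adamsSeries P' (f x) := by
    unfold adamsSeries
    rw [map_sub, map_mul, map_mul, PowerSeries.map_X, hder, hlam, hinv, PowerSeries.map_C,
      map_intCast, ha]
  rw [adams, adams, ← key, PowerSeries.coeff_map]

end Adams

theorem hh_ones {B : Type*} [CommRing B] (n i : ℕ) :
    Groth.L13.ElemExt.RR.hh (fun _ : Fin (n + 1) => (1 : B)) i = (((n + i).choose i : ℕ) : B) := by
  have h : Groth.L13.ElemExt.RR.geom (1 : B) = PowerSeries.mk 1 := by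
    ext k; simp [Groth.L13.ElemExt.RR.geom]
  rw [Groth.L13.ElemExt.RR.hh, Finset.prod_const, Finset.card_univ, Fintype.card_fin, h,
    PowerSeries.mk_one_pow_eq_mk_choose_add, PowerSeries.coeff_mk]
  exact congrArg Nat.cast (Nat.choose_symm_of_eq_add rfl)


/-- The core computation, with coefficients in any ring in which `j` is a unit. -/
theorem core (n : ℕ) (Y : Scheme.{u}) [IsNoetherian Y] [ConnectedSpace ↥Y]
    (KP : Type v) [CommRing KP] [LambdaRing.LambdaOps KP] (PP : LambdaRing.PosStructure KP) (φP : SGA6.Kvb (KRR.PY n Y) →+ KP) (hKP : KRR.IsModel (KRR.PY n Y) KP PP φP)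
    (KY : Type v) [CommRing KY] [LambdaRing.LambdaOps KY] (PY : LambdaRing.PosStructure KY) (φY : SGA6.Kvb Y →+ KY) (hKY : KRR.IsModel Y KY PY φY)
    (g : KP →+ KY) (hg : KRR.IsPushPr n Y φP φY g) (j : ℕ) (hj : 1 ≤ j) (z : KP)
    (R : Type) [CommRing R] (hjR : IsUnit (j : R)) :
    (∃ w : TensorProduct ℤ R KP, w * ((1 : R) ⊗ₜ[ℤ] KRR.bott PP j (φP (KRR.cl (KRR.PY n Y)
      (KRR.twF n Y (-1) ((Scheme.Modules.pullback (KRR.pr n Y)).obj (FlatMod.freeMod Y (n + 1))))))) = 1) ∧
    ∀ w : TensorProduct ℤ R KP, w * ((1 : R) ⊗ₜ[ℤ] KRR.bott PP j (φP (KRR.cl (KRR.PY n Y)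
      (KRR.twF n Y (-1) ((Scheme.Modules.pullback (KRR.pr n Y)).obj (FlatMod.freeMod Y (n + 1))))))) = 1 →
    (1 : R) ⊗ₜ[ℤ] LambdaRing.adams PY j (g z) =
      LinearMap.lTensor R g.toIntLinearMap
        ((j : TensorProduct ℤ R KP) * ((1 : R) ⊗ₜ[ℤ] LambdaRing.adams PP j z) * w) := by
  classical
  have hjB : IsUnit (j : (TensorProduct ℤ R KY)) := Groth.L13.ElemExt.RR.isUnit_natCast_tensor j hjR
  obtain ⟨q, hq⟩ := Groth.L12.KRR.exists_isPull (KRR.pr n Y) (φX := φP) (φY := φY) hKY.bijective
  obtain ⟨Q, hQ⟩ := Groth.L12.KRR.exists_pullHom hKP hKY hq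
  set lp := φP (KRR.cl _ (Twist.twistOver n Y (1 : ℤ))) with hlp
  set lm := φP (KRR.cl _ (Twist.twistOver n Y (-1 : ℤ))) with hlm
  have hlml : lm * lp = 1 := by
    rw [hlm, hlp, Groth.L12.KRR.cl_O_add hKP, neg_add_cancel, Groth.L12.KRR.cl_O_zero hKP]
  have isLine : ∀ d : ℤ, PP.IsLine (φP (KRR.cl _ (Twist.twistOver n Y d))) := fun d => by
    have hr : FlatMod.IsFinLocFreeOfRank 1 (Twist.twistOver n Y d) :=
      Groth.L18.KRRAmple.isRankOne_of_isInvertible (Groth.L17.Strat.isInvertible_twistOver n Y d)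
    exact ⟨(hKP.mem_pos_iff _).2 ⟨1, _, le_rfl, hr, rfl⟩, by exact_mod_cast hKP.aug_cl 1 _ hr⟩
  -- the values of the push-forward
  have hpow : ∀ k : ℕ, φP (KRR.cl _ (Twist.twistOver n Y (k : ℤ))) = lp ^ k := fun k => by
    induction k with
    | zero => rw [pow_zero, Nat.cast_zero, Groth.L12.KRR.cl_O_zero hKP]
    | succ k ih =>
      rw [pow_succ, ← ih, hlp, Groth.L12.KRR.cl_O_add hKP, show (k : ℤ) + 1 = ((k + 1 : ℕ) : ℤ) by push_cast; rfl]
  have hglp : ∀ k : ℕ, g (lp ^ k) = (((n + k).choose k : ℕ) : KY) := fun k => by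
    rw [← Groth.Agent.S3760.result n Y KP PP φP hKP KY PY φY hKY g hg k,
      Groth.L12.KRR.cl_twF hKP _ Groth.L12.Kvb.isFinLocFree_O, hKP.map_one, mul_one, hpow]
  have hgQ : ∀ (x : KP) (y : KY), g (x * Q y) = g x * y := fun x y => by
    rw [hQ]
    exact Groth.Agent.S3762.result n Y KP PP φP hKP KY PY φY hKY g hg q hq x y
  -- the tensored rings
  let QR : (TensorProduct ℤ R KY) →+* (TensorProduct ℤ R KP) := (Algebra.TensorProduct.map (AlgHom.id ℤ R) Q.toIntAlgHom).toRingHom
  let inA : KP →+* (TensorProduct ℤ R KP) := (Algebra.TensorProduct.includeRight (R := ℤ) (A := R) (B := KP)).toRingHom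
  let G : (TensorProduct ℤ R KP) →ₗ[ℤ] (TensorProduct ℤ R KY) := LinearMap.lTensor R g.toIntLinearMap
  have hQR : ∀ (c : R) (y : KY), QR (c ⊗ₜ[ℤ] y) = c ⊗ₜ[ℤ] Q y := fun _ _ => rfl
  have hinA : ∀ x : KP, inA x = (1 : R) ⊗ₜ[ℤ] x := fun _ => rfl
  have hGQ : ∀ (b : (TensorProduct ℤ R KY)) (a : (TensorProduct ℤ R KP)), G (QR b * a) = b * G a := fun b a => by
    induction b using TensorProduct.induction_on with
    | zero => simp
    | add b b' hb hb' => simp only [map_add, add_mul, hb, hb']
    | tmul c y =>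
      induction a using TensorProduct.induction_on with
      | zero => simp
      | add a a' ha ha' => simp only [map_add, mul_add, ha, ha']
      | tmul d x =>
        rw [hQR, Algebra.TensorProduct.tmul_mul_tmul]
        show (c * d) ⊗ₜ[ℤ] g (Q y * x) = (c ⊗ₜ[ℤ] y) * (d ⊗ₜ[ℤ] g x)
        rw [Algebra.TensorProduct.tmul_mul_tmul, mul_comm (Q y), hgQ, mul_comm y]
  set one : Fin (n + 1) → (TensorProduct ℤ R KY) := fun _ => 1 with hone
  let Ev : Polynomial (TensorProduct ℤ R KY) →+* (TensorProduct ℤ R KP) := Polynomial.eval₂RingHom QR (inA lp)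
  have hGEv : ∀ f : Polynomial (TensorProduct ℤ R KY), G (Ev f) = Groth.L13.ElemExt.RR.phi one f := fun f => by
    induction f using Polynomial.induction_on' with
    | add p p' hp hp' => rw [map_add, map_add, map_add, hp, hp']
    | monomial k b =>
      rw [Groth.L13.ElemExt.RR.phi_monomial, hone, hh_ones]
      show G (Polynomial.eval₂ QR (inA lp) (Polynomial.monomial k b)) = _
      rw [Polynomial.eval₂_monomial, hGQ, ← map_pow, hinA]
      show b * ((1 : R) ⊗ₜ[ℤ] g (lp ^ k)) = _
      rw [hglp, ← Algebra.TensorProduct.includeRight_apply, map_natCast]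
  have hp : Ev (Groth.L13.ElemExt.RR.pPoly one) = 0 := by
    simp only [Groth.L13.ElemExt.RR.pPoly, hone, Finset.prod_const, Finset.card_univ, Fintype.card_fin,
      map_pow, map_sub, map_one]
    rw [show Ev (Polynomial.X - 1) = Polynomial.eval₂ QR (inA lp) Polynomial.X - Polynomial.eval₂ QR (inA lp) 1
      from Polynomial.eval₂_sub _, Polynomial.eval₂_one]
    show (Polynomial.eval₂ QR (inA lp) Polynomial.X - 1) ^ (n + 1) = 0
    rw [Polynomial.eval₂_X, ← map_one inA, ← map_sub, ← map_pow,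
      Groth.Agent.S3776.sub_one_pow_eq_zero n Y KP PP φP hKP, map_zero]
  -- the Bott class
  set e := φP (KRR.cl (KRR.PY n Y)
    (KRR.twF n Y (-1) ((Scheme.Modules.pullback (KRR.pr n Y)).obj (FlatMod.freeMod Y (n + 1))))) with he
  have hfree : FlatMod.IsFinLocFree (FlatMod.freeMod Y (n + 1)) := Groth.L18.KRRAmple.isFinLocFree_freeMod _
  have hem : e = (Multiset.map (fun _ => lm) (Finset.univ : Finset (Fin (n + 1))).val).sum := by
    rw [he, Groth.L12.KRR.cl_twF hKP _ (Groth.L29.LocFree.pullback _ hfree), ← hq _ hfree,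
      Groth.L18.KRRAmple.phi_freeMod hKY, ← hQ, map_natCast, Multiset.map_const', Multiset.sum_replicate,
      nsmul_eq_mul, mul_comm, ← hlm]
    simp
  have hlines : ∀ v ∈ Multiset.map (fun _ : Fin (n + 1) => lm) (Finset.univ : Finset (Fin (n + 1))).val,
      PP.IsLine v := fun v hv => by
    obtain ⟨_, _, rfl⟩ := Multiset.mem_map.1 hv; exact isLine _
  have haug : (PP.aug e).toNat = n + 1 := by
    rw [hem, Groth.L22.Lambda.aug_sum_lines PP hlines, Multiset.card_map, Finset.card_val, Finset.card_univ,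
      Fintype.card_fin, Int.toNat_natCast]
  have hbott : KRR.bott PP j e = (∑ k ∈ Finset.range j, lm ^ k) ^ (n + 1) := by
    rw [KRR.bott, haug, show (fun i : Fin (n + 1) => LambdaRing.LambdaOps.lam (i.1 + 1) e) =
        fun i : Fin (n + 1) => ((Finset.univ : Finset (Fin (n + 1))).val.map fun _ => lm).esymm (i.1 + 1) from
      funext fun i => by rw [hem]; exact Groth.L22.Lambda.lam_sum_lines PP hlines _,
      Groth.L13.ElemExt.RR.aeval_bottPoly]
    simp
  obtain ⟨W, Qp, hW⟩ := Groth.L13.ElemExt.RR.exists_inverse (m := n + 1) (u := one) (j := j) fun k l => by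
    simpa [hone] using hjB
  have hth : lm ^ ((n + 1) * (j - 1)) * ((∑ k ∈ Finset.range j, lp ^ (j - 1 - k))) ^ (n + 1) =
      KRR.bott PP j e := by
    rw [hbott, mul_comm (n + 1), pow_mul, ← mul_pow, Finset.mul_sum]
    refine congrArg (· ^ (n + 1)) (Finset.sum_congr rfl fun k hk => ?_)
    have hk' := Finset.mem_range.1 hk
    rw [show lm ^ (j - 1) = lm ^ k * lm ^ (j - 1 - k) by rw [← pow_add]; congr 1; omega, mul_assoc, ← mul_pow,
      hlml, one_pow, mul_one]
  have hEvθ : Ev (Groth.L13.ElemExt.RR.thetaPoly one j) = inA ((∑ k ∈ Finset.range j, lp ^ (j - 1 - k)) ^ (n + 1)) := by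
    simp only [Groth.L13.ElemExt.RR.thetaPoly, hone, Finset.prod_const, Finset.card_univ, Fintype.card_fin,
      map_pow, map_sum, map_one, one_pow, one_mul]
    exact congrArg (· ^ (n + 1)) (Finset.sum_congr rfl fun k _ => congrArg (· ^ (j - 1 - k)) (Polynomial.eval₂_X _ _))
  let w₀ : (TensorProduct ℤ R KP) := inA lp ^ ((n + 1) * (j - 1)) * Ev W
  have hw₀ : w₀ * inA (KRR.bott PP j e) = 1 := by
    have h := congrArg Ev hW
    rw [map_add, map_mul, map_mul, hp, mul_zero, add_zero, map_one, hEvθ] at h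
    rw [← hth, map_mul, map_pow, map_pow]
    rw [map_pow] at h
    have h' : inA lp ^ ((n + 1) * (j - 1)) * inA lm ^ ((n + 1) * (j - 1)) = 1 := by
      rw [← mul_pow, ← map_mul, mul_comm, hlml, map_one, one_pow]
    show inA lp ^ ((n + 1) * (j - 1)) * Ev W * _ = 1
    linear_combination (Ev W * inA (∑ k ∈ Finset.range j, lp ^ (j - 1 - k)) ^ (n + 1)) * h' + h
  refine ⟨⟨w₀, hw₀⟩, fun w hw => ?_⟩
  obtain rfl : w = w₀ := by
    rw [hinA] at hw₀
    linear_combination w₀ * hw - w * hw₀
  -- additivity in `z`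
  suffices H : ∀ (i : ℕ) (y : KY), inA (LambdaRing.adams PP j (Q y * lp ^ i)) =
      QR ((1 : R) ⊗ₜ[ℤ] LambdaRing.adams PY j y) * inA lp ^ (i * j) ∧ g (Q y * lp ^ i) = y * (((n + i).choose i : ℕ) : KY) by
    let L₁ : KP →+ (TensorProduct ℤ R KY) := ((TensorProduct.mk ℤ R KY 1).toAddMonoidHom.comp (Groth.L22.Lambda.adamsHom PY j)).comp g
    let L₂ : KP →+ (TensorProduct ℤ R KY) := G.toAddMonoidHom.comp ((AddMonoidHom.mulRight w₀).comp
      ((AddMonoidHom.mulLeft (j : (TensorProduct ℤ R KP))).comp (inA.toAddMonoidHom.comp (Groth.L22.Lambda.adamsHom PP j))))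
    suffices hL : ∀ x, L₁ x = L₂ x by exact hL z
    have hgen : ∀ (i : ℕ) (y : KY), L₁ (Q y * lp ^ i) = L₂ (Q y * lp ^ i) := fun i y => by
      obtain ⟨h1, h2⟩ := H i y
      show (1 : R) ⊗ₜ[ℤ] LambdaRing.adams PY j (g (Q y * lp ^ i)) = G ((j : (TensorProduct ℤ R KP)) * inA (LambdaRing.adams PP j (Q y * lp ^ i)) * w₀)
      have hEv : (j : (TensorProduct ℤ R KP)) * inA (LambdaRing.adams PP j (Q y * lp ^ i)) * w₀ =
          QR ((1 : R) ⊗ₜ[ℤ] LambdaRing.adams PY j y) *
            Ev ((j : Polynomial (TensorProduct ℤ R KY)) * W * Polynomial.X ^ ((n + 1) * (j - 1)) * Polynomial.X ^ (i * j)) := by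
        simp only [map_mul, map_pow, map_natCast]
        rw [h1, show Ev Polynomial.X = inA lp from Polynomial.eval₂_X _ _]
        ring
      rw [hEv, hGQ, hGEv, Groth.L13.ElemExt.RR.identity hjB hj (fun _ => isUnit_one)
        (fun k l => by simpa [hone] using hjB) hW, h2]
      simp only [hone, one_pow, hh_ones]
      rw [mul_comm y, ← nsmul_eq_mul, mul_comm ((1 : R) ⊗ₜ[ℤ] LambdaRing.adams PY j y), ← nsmul_eq_mul,
        show LambdaRing.adams PY j ((n + i).choose i • y) = (n + i).choose i • LambdaRing.adams PY j y from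
          map_nsmul (Groth.L22.Lambda.adamsHom PY j) _ _]
      exact map_nsmul (TensorProduct.mk ℤ R KY 1) _ _
    intro x
    have hlm0 : lm ∈ AddSubgroup.closure {z | ∃ (y : KY) (i : ℕ), z = Q y * lp ^ i} := by
      set M := AddSubgroup.closure {z | ∃ (y : KY) (i : ℕ), z = Q y * lp ^ i}
      have hrel := Groth.Agent.S3776.sub_one_pow_eq_zero n Y KP PP φP hKP
      rw [← hlp, sub_eq_add_neg, add_pow, Finset.sum_range_succ', pow_zero, one_mul] at hrel
      have h1 := congrArg (fun t => lm * t * (-1 : KP) ^ (n + 1)) hrel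
      simp only [mul_add, add_mul, mul_zero, zero_mul, Finset.mul_sum, Finset.sum_mul, Nat.choose_zero_right,
        Nat.cast_one, mul_one, Nat.sub_zero] at h1
      rw [mul_assoc lm, ← pow_add, Even.neg_one_pow (Even.add_self (n + 1)), mul_one] at h1
      rw [eq_neg_of_add_eq_zero_right h1]
      refine neg_mem (sum_mem fun k _ => AddSubgroup.subset_closure
        ⟨(-1) ^ (n + 1 - (k + 1)) * ((n + 1).choose (k + 1) : KY) * (-1) ^ (n + 1), k, ?_⟩)
      rw [map_mul, map_mul, map_pow, map_pow, map_neg, map_one, map_natCast, pow_succ lp]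
      linear_combination ((-1 : KP) ^ (n + 1 - (k + 1)) * ((n + 1).choose (k + 1) : KP) * (-1 : KP) ^ (n + 1) * lp ^ k) * hlml
    have hall : x ∈ AddSubgroup.closure {z | ∃ (y : KY) (i : ℕ), z = Q y * lp ^ i} := by
      set M := AddSubgroup.closure {z | ∃ (y : KY) (i : ℕ), z = Q y * lp ^ i}
      have hmul : ∀ a ∈ M, ∀ b ∈ M, a * b ∈ M := fun a ha b hb => by
        induction ha using AddSubgroup.closure_induction with
        | mem a ha =>
          obtain ⟨y, i, rfl⟩ := ha
          induction hb using AddSubgroup.closure_induction with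
          | mem b hb =>
            obtain ⟨y', i', rfl⟩ := hb
            exact AddSubgroup.subset_closure ⟨y * y', i + i', by rw [map_mul, pow_add]; ring⟩
          | zero => rw [mul_zero]; exact zero_mem _
          | add b b' _ _ h h' => rw [mul_add]; exact add_mem h h'
          | neg b _ h => rw [mul_neg]; exact neg_mem h
        | zero => rw [zero_mul]; exact zero_mem _
        | add a a' _ _ h h' => rw [add_mul]; exact add_mem h h'
        | neg a _ h => rw [neg_mul]; exact neg_mem h
      refine (AddSubgroup.closure_le _).2 ?_ (Groth.L12.KRR.mem_closure_twists hKP hq x)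
      rintro _ ⟨y, i, rfl⟩
      rw [← hQ]
      refine hmul _ (AddSubgroup.subset_closure ⟨y, 0, by rw [pow_zero, mul_one]⟩) _ ?_
      induction i with
      | zero => exact AddSubgroup.subset_closure ⟨1, 0, by simp⟩
      | succ i ih => rw [pow_succ]; exact hmul _ ih _ hlm0
    induction hall using AddSubgroup.closure_induction with
    | mem a ha => obtain ⟨y, i, rfl⟩ := ha; exact hgen i y
    | zero => rw [map_zero, map_zero]
    | add a a' _ _ h h' => rw [map_add, map_add, h, h']
    | neg a _ h => rw [map_neg, map_neg, h]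
  intro i y
  constructor
  · have hl : PP.IsLine (lp ^ i) := Groth.L22.Lambda.isLine_pow PP (isLine 1) i
    rw [mul_comm, adams_twist PP (fun k => Groth.L12.KRR.lam_line_mul hKP hl k _) hj,
      ← map_adams' PY PP (f := Q) (fun k x => by
          rw [hQ, hQ]; exact Groth.L12.KRR.pull_lam hKP hKY hq k x)
        (fun x => by rw [hQ]; exact Groth.L12.KRR.aug_pull hKP hKY hq x) j y,
      map_mul, map_pow, map_pow, ← pow_mul, mul_comm (inA lp ^ (i * j))]
    rfl
  · rw [mul_comm, hgQ, hglp, mul_comm]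



/-- Adams Riemann–Roch for the projection p : P = Pⁿ_Y ⟶ Y: let S be an affine Noetherian scheme, Y
connected, Noetherian and quasi-projective over S, (KP, PP, φP) and (KY, PY, φY) models of K(P) and
K(Y) as λ-rings with positive structure, and g = p_K : K(P) → K(Y) the push-forward ([F] ↦ [p_*F] on
regular finite locally free F). Fix j ≥ 1, put R = ℤ[1/j] and let q = [p^*O_Y^{n+1} ⊗ O_P(−1)] ∈
K(P) (the class of the cotangent module of p plus 1, by the Euler sequence), so that the usual Adams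
Riemann–Roch multiplier θ^j(T_p^∨)^{−1} is j · θ^j(q)^{−1}, θ^j denoting the Bott cannibalistic
class. Then 1 ⊗ θ^j(q) is invertible in R ⊗ K(P) and, for every z ∈ K(P) and every inverse w of 1 ⊗
θ^j(q): 1 ⊗ ψ^j(p_K z) = (R ⊗ p_K)(j · (1 ⊗ ψ^j z) · w) in R ⊗ K(Y). -/
theorem result (S : Scheme.{u}) [IsAffine S] [IsNoetherian S] (n : ℕ) (Y : Scheme.{u}) [IsNoetherian Y] [ConnectedSpace ↥Y] (qY : Y ⟶ S) (hqY : KRR.IsQProjOver qY)
    (KP : Type v) [CommRing KP] [LambdaRing.LambdaOps KP] (PP : LambdaRing.PosStructure KP) (φP : SGA6.Kvb (KRR.PY n Y) →+ KP) (hKP : KRR.IsModel (KRR.PY n Y) KP PP φP)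
    (KY : Type v) [CommRing KY] [LambdaRing.LambdaOps KY] (PY : LambdaRing.PosStructure KY) (φY : SGA6.Kvb Y →+ KY) (hKY : KRR.IsModel Y KY PY φY)
    (g : KP →+ KY) (hg : KRR.IsPushPr n Y φP φY g) (j : ℕ) (hj : 1 ≤ j) (z : KP)
    :
    (∃ w : TensorProduct ℤ (Localization.Away (j : ℤ)) KP, w * ((1 : Localization.Away (j : ℤ)) ⊗ₜ[ℤ] KRR.bott PP j (φP (KRR.cl (KRR.PY n Y)
      (KRR.twF n Y (-1) ((Scheme.Modules.pullback (KRR.pr n Y)).obj (FlatMod.freeMod Y (n + 1))))))) = 1) ∧
    ∀ w : TensorProduct ℤ (Localization.Away (j : ℤ)) KP, w * ((1 : Localization.Away (j : ℤ)) ⊗ₜ[ℤ] KRR.bott PP j (φP (KRR.cl (KRR.PY n Y)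
      (KRR.twF n Y (-1) ((Scheme.Modules.pullback (KRR.pr n Y)).obj (FlatMod.freeMod Y (n + 1))))))) = 1 →
    (1 : Localization.Away (j : ℤ)) ⊗ₜ[ℤ] LambdaRing.adams PY j (g z) =
      LinearMap.lTensor (Localization.Away (j : ℤ)) g.toIntLinearMap
        ((j : TensorProduct ℤ (Localization.Away (j : ℤ)) KP) * ((1 : Localization.Away (j : ℤ)) ⊗ₜ[ℤ] LambdaRing.adams PP j z) * w) := by
  refine core n Y KP PP φP hKP KY PY φY hKY g hg j hj z (Localization.Away (j : ℤ)) ?_
  simpa using IsLocalization.Away.algebraMap_isUnit (S := Localization.Away (j : ℤ)) (j : ℤ)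

end Groth.Agent.S3752
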