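import Groth.Statements.S3753
import Groth.Agent.S3751
import Groth.Agent.S3752
import Groth.Agent.S3747
import Groth.Agent.L12.RR.ProjConn
-- import your own Groth.Agent.* helpers here

set_option autoImplicit false
universe v u
open CategoryTheory CategoryTheory.Limits AlgebraicGeometry
attribute [local instance] HasDerivedCategory.standard
open scoped TensorProduct
open KRR

set_option maxHeartbeats 400000
set_option backward.isDefEq.respectTransparency false
set_option backward.isDefEq.respectTransparency.types false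

namespace Groth.Agent.S3753

/-- Composing Adams Riemann–Roch for an immersion and a projection. -/
theorem compose {R : Type} [CommRing R] {A B C : Type v} [CommRing A] [CommRing B] [CommRing C]
    (Q : B →+* A) (a : A →+ B) (b : B →+ C) (hproj : ∀ z y, a (z * Q y) = a z * y) {j : ℕ} (β : B) (θ : A)
    {z : A} {L : C}
    (hex : ∃ w : TensorProduct ℤ R B, w * ((1 : R) ⊗ₜ[ℤ] β) = 1)
    (hb : ∀ w : TensorProduct ℤ R B, w * ((1 : R) ⊗ₜ[ℤ] β) = 1 →
      (1 : R) ⊗ₜ[ℤ] L = LinearMap.lTensor R b.toIntLinearMap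
        ((j : TensorProduct ℤ R B) * ((1 : R) ⊗ₜ[ℤ] a z) * w))
    (hθ : Q β = θ) :
    (∃ w : TensorProduct ℤ R A, w * ((1 : R) ⊗ₜ[ℤ] θ) = 1) ∧
      ∀ w : TensorProduct ℤ R A, w * ((1 : R) ⊗ₜ[ℤ] θ) = 1 →
        (1 : R) ⊗ₜ[ℤ] L = LinearMap.lTensor R (b.comp a).toIntLinearMap
          ((j : TensorProduct ℤ R A) * ((1 : R) ⊗ₜ[ℤ] z) * w) := by
  let QR : TensorProduct ℤ R B →+* TensorProduct ℤ R A :=
    (Algebra.TensorProduct.map (AlgHom.id ℤ R) Q.toIntAlgHom).toRingHom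
  have hQR : ∀ (r : R) (y : B), QR (r ⊗ₜ[ℤ] y) = r ⊗ₜ[ℤ] Q y := fun _ _ => rfl
  obtain ⟨w₀, hw₀⟩ := hex
  have hQw : QR w₀ * ((1 : R) ⊗ₜ[ℤ] θ) = 1 := by
    rw [← hθ, ← hQR, ← map_mul, hw₀, map_one]
  refine ⟨⟨QR w₀, hQw⟩, fun w hw => ?_⟩
  obtain rfl : w = QR w₀ := by linear_combination (QR w₀) * hw - w * hQw
  rw [hb w₀ hw₀]
  have key : ∀ v : TensorProduct ℤ R B, LinearMap.lTensor R (b.comp a).toIntLinearMap
      ((1 : R) ⊗ₜ[ℤ] z * QR v) = LinearMap.lTensor R b.toIntLinearMap ((1 : R) ⊗ₜ[ℤ] a z * v) := fun v => by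
    induction v using TensorProduct.induction_on with
    | zero => simp
    | add v v' hv hv' => simp only [map_add, mul_add, hv, hv']
    | tmul r y =>
      rw [hQR, Algebra.TensorProduct.tmul_mul_tmul, Algebra.TensorProduct.tmul_mul_tmul]
      show (1 * r) ⊗ₜ[ℤ] b (a (z * Q y)) = (1 * r) ⊗ₜ[ℤ] b (a z * y)
      rw [hproj]
  rw [← nsmul_eq_mul, smul_mul_assoc, map_nsmul, ← nsmul_eq_mul, smul_mul_assoc, map_nsmul, key]

/-- Let S be affine Noetherian, Y connected and quasi-projective over S, and f = i ≫ p : X ⟶ Y with i :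
X ⟶ P = P^n_Y a regular closed imbedding (X connected, conormal module C finite locally free of rank
c) and p the projection. With models of K(X), K(P), K(Y), the pull-back i^K, and push-forwards i_K
(via resolutions) and p_K (via regular sheaves), put f_K = p_K ∘ i_K and R = ℤ[1/j]. The source's
multiplier θ^j(T_f^∨)^{-1}, where T_f = [i^* T_{P/Y}] - [N_{X/P}] is the tangent element, equals j ·
θ^j([C]) · θ^j(i^K q)^{-1} with q = [p^*O_Y^{n+1} ⊗ O_P(-1)]. Then 1 ⊗ θ^j(i^K q) is invertible in R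
⊗ K(X) and, for every x ∈ K(X) and every inverse w of it: 1 ⊗ ψ^j(f_K x) = (R ⊗ f_K)(j · (1 ⊗
θ^j([C]) ψ^j(x)) · w). -/
theorem result (S : Scheme.{u}) [IsAffine S] [IsNoetherian S] (n : ℕ) {X Y : Scheme.{u}} [IsNoetherian Y] [ConnectedSpace ↥Y] (qY : Y ⟶ S) (hqY : KRR.IsQProjOver qY)
    (i : X ⟶ KRR.PY n Y) (hi : Mor2.IsRegularClosedImmersion i) [ConnectedSpace ↥X] (c : ℕ)
    (hC : FlatMod.IsFinLocFreeOfRank c (Omega.conormal i))
    (KX : Type v) [CommRing KX] [LambdaRing.LambdaOps KX] (PX : LambdaRing.PosStructure KX) (φX : SGA6.Kvb X →+ KX) (hKX : KRR.IsModel X KX PX φX)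
    (KP : Type v) [CommRing KP] [LambdaRing.LambdaOps KP] (PP : LambdaRing.PosStructure KP) (φP : SGA6.Kvb (KRR.PY n Y) →+ KP) (hKP : KRR.IsModel (KRR.PY n Y) KP PP φP)
    (KY : Type v) [CommRing KY] [LambdaRing.LambdaOps KY] (PY : LambdaRing.PosStructure KY) (φY : SGA6.Kvb Y →+ KY) (hKY : KRR.IsModel Y KY PY φY)
    (gi : KP →+ KX) (hgi : KRR.IsPull i φP φX gi)
    (a : KX →+ KP) (ha : KRR.IsPushCl i φX φP a) (b : KP →+ KY) (hb : KRR.IsPushPr n Y φP φY b)
    (j : ℕ) (hj : 1 ≤ j) (x : KX)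
    :
    (∃ w : TensorProduct ℤ (Localization.Away (j : ℤ)) KX, w * ((1 : Localization.Away (j : ℤ)) ⊗ₜ[ℤ] KRR.bott PX j (gi (φP (KRR.cl (KRR.PY n Y)
      (KRR.twF n Y (-1) ((Scheme.Modules.pullback (KRR.pr n Y)).obj (FlatMod.freeMod Y (n + 1)))))))) = 1) ∧
    ∀ w : TensorProduct ℤ (Localization.Away (j : ℤ)) KX, w * ((1 : Localization.Away (j : ℤ)) ⊗ₜ[ℤ] KRR.bott PX j (gi (φP (KRR.cl (KRR.PY n Y)
      (KRR.twF n Y (-1) ((Scheme.Modules.pullback (KRR.pr n Y)).obj (FlatMod.freeMod Y (n + 1)))))))) = 1 →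
    (1 : Localization.Away (j : ℤ)) ⊗ₜ[ℤ] LambdaRing.adams PY j (b (a x)) =
      LinearMap.lTensor (Localization.Away (j : ℤ)) (b.comp a).toIntLinearMap
        ((j : TensorProduct ℤ (Localization.Away (j : ℤ)) KX) *
          ((1 : Localization.Away (j : ℤ)) ⊗ₜ[ℤ] (KRR.bott PX j (φX (KRR.cl X (Omega.conormal i))) * LambdaRing.adams PX j x)) * w) := by
  classical
  haveI := Groth.L12.KRes.isNoetherian_PY n Y
  haveI := Groth.L12.RR.connectedSpace_PY n Y
  haveI := hi.1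
  haveI : IsLocallyNoetherian X := LocallyOfFiniteType.isLocallyNoetherian i
  haveI : CompactSpace X := QuasiCompact.compactSpace_of_compactSpace i
  haveI : IsNoetherian X := {}
  let R := Localization.Away (j : ℤ)
  set q := φP (KRR.cl (KRR.PY n Y)
    (KRR.twF n Y (-1) ((Scheme.Modules.pullback (KRR.pr n Y)).obj (FlatMod.freeMod Y (n + 1))))) with hq
  obtain ⟨Q, hQ⟩ := Groth.L12.KRR.exists_pullHom hKX hKP hgi
  have hlam : ∀ k z, Q (LambdaRing.LambdaOps.lam k z) = LambdaRing.LambdaOps.lam k (Q z) := fun k z => by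
    rw [hQ, hQ]; exact Groth.L12.KRR.pull_lam hKX hKP hgi k z
  have haug : PX.aug (gi q) = PP.aug q := Groth.L12.KRR.aug_pull hKX hKP hgi q
  have hbott : Q (KRR.bott PP j q) = KRR.bott PX j (gi q) := by
    by_cases h0 : 0 ≤ PP.aug q
    · obtain ⟨m, hm⟩ := Int.eq_ofNat_of_zero_le h0
      rw [Groth.L12.RR.bott_eq_theta PP j hm, Groth.L12.RR.bott_eq_theta PX j (haug.trans hm),
        Groth.L12.RR.map_theta Q hlam, hQ]
    · have h1 : (PP.aug q).toNat = 0 := Int.toNat_of_nonpos (by omega)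
      have h2 : (PX.aug (gi q)).toNat = 0 := by rw [haug]; exact h1
      have e1 : KRR.bott PP j q = Groth.L12.RR.theta j 0 q := by unfold KRR.bott Groth.L12.RR.theta; rw [h1]
      have e2 : KRR.bott PX j (gi q) = Groth.L12.RR.theta j 0 (gi q) := by
        unfold KRR.bott Groth.L12.RR.theta; rw [h2]
      rw [e1, e2, Groth.L12.RR.map_theta Q hlam, hQ]
  have hqY' := Groth.L12.RR.isQProj_PY n hqY
  have hPe := Groth.L12.RR.hasEnough_of_ample (Groth.L12.RR.exists_ample_of_qproj hqY')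
  have h52 := Groth.Agent.S3752.result S n Y qY hqY KP PP φP hKP KY PY φY hKY b hb j hj (a x)
  refine compose (R := Localization.Away (j : ℤ)) Q a b (fun z y => ?_) _ _ h52.1 (fun w hw => ?_) hbott
  · rw [hQ, Groth.Agent.S3747.result i hi hPe KX PX φX hKX KP PP φP hKP gi hgi a ha z y]
  · rw [h52.2 w hw, Groth.Agent.S3751.result S (KRR.pr n Y ≫ qY) hqY' i hi c hC KX PX φX hKX KP PP φP hKP a ha j hj x]

end Groth.Agent.S3753
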