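import Groth.Statements.S3761
import Groth.Agent.L12.PushFree.FormsPush
import Mathlib.Algebra.Group.ForwardDiff
-- import your own Groth.Agent.* helpers here

set_option autoImplicit false
universe v u
open CategoryTheory CategoryTheory.Limits AlgebraicGeometry
attribute [local instance] HasDerivedCategory.standard
open KRR

namespace Groth.Agent.S3761

open Groth.L12.KReg Groth.L12.PushFree Groth.L22.Reg
open Groth.L00.Tensor (tensorIso tensorUnitRight)

theorem alt_choose (n a : ℕ) :
    ((a + (n + 1)).choose n : ℤ) -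
      ∑ j ∈ Finset.range n, (-1) ^ j * ((n + 1).choose (j + 1) * ((a + (n - j)).choose n : ℤ)) =
    (-1) ^ n * (a.choose n : ℤ) := by
  have hz : (fwdDiff (1 : ℕ))^[n + 1] (fun x ↦ x.choose n : ℕ → ℤ) a = 0 := by
    have h0 : (fwdDiff (1 : ℕ))^[n] (fun x ↦ x.choose n : ℕ → ℤ) = fun x ↦ x.choose 0 := fwdDiff_iter_choose 0 n
    rw [Function.iterate_succ_apply', h0]
    simp [fwdDiff]
  have h := fwdDiff_iter_eq_sum_shift (h := (1 : ℕ)) (fun x ↦ x.choose n : ℕ → ℤ) (n + 1) a
  simp only [smul_eq_mul, mul_one] at h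
  rw [hz, ← Finset.sum_range_reflect, Finset.sum_range_succ, Finset.sum_range_succ'] at h
  have ht : ∀ j ∈ Finset.range n, (-1 : ℤ) ^ (n + 1 - (n + 1 + 1 - 1 - (j + 1))) * ((n + 1).choose (n + 1 + 1 - 1 - (j + 1)) : ℤ) *
      ((a + (n + 1 + 1 - 1 - (j + 1))).choose n : ℤ) =
      - ((-1) ^ j * ((n + 1).choose (j + 1) * ((a + (n - j)).choose n : ℤ))) := fun j hj => by
    rw [Finset.mem_range] at hj
    rw [show n + 1 + 1 - 1 - (j + 1) = n - j by omega, show n + 1 - (n - j) = j + 1 by omega,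
      Nat.choose_symm_of_eq_add (show n + 1 = (n - j) + (j + 1) by omega)]
    ring
  rw [Finset.sum_congr rfl ht, Finset.sum_neg_distrib, show n + 1 + 1 - 1 - 0 = n + 1 by omega,
    show n + 1 + 1 - 1 - (n + 1) = 0 by omega, Nat.sub_self, Nat.sub_zero, Nat.choose_self, Nat.choose_zero_right,
    Nat.add_zero, pow_zero, pow_succ] at h
  push_cast at h
  linear_combination -h


/-- Let Y be a connected Noetherian scheme and p : P = Pⁿ_Y ⟶ Y projective n-space over Y; fix models of
the λ-rings K(P) and K(Y) (receiving the classes of finite locally free modules) and let g = p_K :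
K(P) → K(Y) be the push-forward along p (g[F] = [p_* F] for every regular finite locally free F).
Then p_K [O_P(−i)] = 0 for 1 ≤ i ≤ n. -/
theorem result (n : ℕ) (Y : Scheme.{u}) [IsNoetherian Y] [ConnectedSpace ↥Y]
    (KP : Type v) [CommRing KP] [LambdaRing.LambdaOps KP] (PP : LambdaRing.PosStructure KP) (φP : SGA6.Kvb (KRR.PY n Y) →+ KP) (hKP : KRR.IsModel (KRR.PY n Y) KP PP φP)
    (KY : Type v) [CommRing KY] [LambdaRing.LambdaOps KY] (PY : LambdaRing.PosStructure KY) (φY : SGA6.Kvb Y →+ KY) (hKY : KRR.IsModel Y KY PY φY)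
    (g : KP →+ KY) (hg : KRR.IsPushPr n Y φP φY g) (i : ℕ) (hi : 1 ≤ i) (hin : i ≤ n) :
    g (φP (KRR.cl (KRR.PY n Y) (KRR.twF n Y (-(i : ℤ)) (Coh.structureModule (KRR.PY n Y))))) = 0 := by
  let O := Coh.structureModule (KRR.PY n Y)
  have hO : FlatMod.IsFinLocFree O :=
    Groth.L16.Existence.isFinLocFree_of_isInvertible (Groth.L18.Ample.isInvertible_structureModule _)
  have htw : ∀ (d e c : ℤ), d + e = c → Nonempty (KRR.twF n Y d (KRR.twF n Y e O) ≅ KRR.twF n Y c O) :=
    fun d e c hc => by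
      obtain ⟨e₁⟩ := nonempty_twF_iso n Y d (KRR.twF n Y e O)
      obtain ⟨e₂⟩ := nonempty_twF_iso n Y e O
      obtain ⟨e₃⟩ := nonempty_twF_iso n Y c O
      obtain ⟨a⟩ := nonempty_OT_add n Y hc
      exact ⟨e₁ ≪≫ tensorIso (Iso.refl _) (e₂ ≪≫ tensorUnitRight _) ≪≫ a ≪≫ (e₃ ≪≫ tensorUnitRight _).symm⟩
  let h : (KRR.PY n Y).Modules → KY := fun M => g (φP (KRR.cl (KRR.PY n Y) M))
  have hcl : ∀ {A B : (KRR.PY n Y).Modules}, (A ≅ B) → FlatMod.IsFinLocFree A → h A = h B := fun e hA => by
    simp only [h, Groth.L12.PushFree.cl_iso e hA]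
  have hpos : ∀ m : ℕ, h (KRR.twF n Y (m : ℤ) O) = ((n + m).choose n : ℤ) := fun m => by
    obtain ⟨hvb, hreg⟩ := isRegSheaf_twF_structure n Y m
    obtain ⟨-, hc⟩ := (copies_push_twist_over n Y m).mem_and_cl isSumClosed_vb
      (Groth.L16.Existence.isFinLocFree_of_isInvertible (Groth.L18.Ample.isInvertible_structureModule Y))
    rw [show h (KRR.twF n Y (m : ℤ) O) = _ from hg _ hvb hreg, Int.cast_natCast,
      show KRR.cl Y ((Scheme.Modules.pushforward (KRR.pr n Y)).obj _) = _ from hc, map_nsmul,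
      show φY (KZero.clSub (KRR.vbP Y) (Coh.structureModule Y)) = 1 from hKY.map_one, nsmul_one,
      ← Nat.choose_symm_add]
  have key : ∀ i : ℕ, i ≤ n → h (KRR.twF n Y (-(i : ℤ)) O) = (((n - i).choose n : ℕ) : ℤ) := by
    intro i
    induction i using Nat.strong_induction_on with
    | _ i ih =>
      intro hin
      rcases Nat.eq_zero_or_pos i with rfl | hi
      · simpa using hpos 0
      let F := KRR.twF n Y (-(i : ℤ)) O
      have hF : FlatMod.IsFinLocFree F := isFinLocFree_tw _ hO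
      have hT : h F = T h F := by
        have := congrArg (g.comp φP) (cl_eq_T isSumClosed_vb hF (fun k => isFinLocFree_tw _ hF) (vb_kosG hF) (vb_Z hF))
        rw [map_T] at this
        exact this
      have hval : ∀ k : ℕ, 1 ≤ k → h (KRR.twF n Y (k : ℤ) F) = ((n - i + k).choose n : ℤ) := fun k hk => by
        rcases Nat.lt_or_ge k i with hki | hki
        · obtain ⟨e⟩ := htw (k : ℤ) (-(i : ℤ)) (-((i - k : ℕ) : ℤ)) (by omega)
          rw [hcl e (isFinLocFree_tw _ hF), ih (i - k) (by omega) (by omega),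
            show n - (i - k) = n - i + k by omega]
        · obtain ⟨e⟩ := htw (k : ℤ) (-(i : ℤ)) ((k - i : ℕ) : ℤ) (by omega)
          rw [hcl e (isFinLocFree_tw _ hF), hpos, show n + (k - i) = n - i + k by omega]
      rw [hT, T_congr (h' := fun M => h M) F fun k _ => rfl, T, hval (n + 1) (by omega),
        Finset.sum_congr rfl fun j (hj : j ∈ Finset.range n) => show
          (-1 : ℤ) ^ j • ((n + 1).choose (j + 1) • h (KRR.twF n Y ((n : ℤ) - j) F)) =
            (((-1) ^ j * ((n + 1).choose (j + 1) * ((n - i + (n - j)).choose n : ℤ)) : ℤ) : KY) by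
          rw [Finset.mem_range] at hj
          rw [show (n : ℤ) - j = ((n - j : ℕ) : ℤ) by omega, hval _ (by omega)]
          simp only [zsmul_eq_mul, nsmul_eq_mul, Int.cast_mul, Int.cast_pow, Int.cast_natCast],
        ← Int.cast_sum, ← Int.cast_sub, alt_choose, zsmul_eq_mul, ← Int.cast_mul, ← mul_assoc, ← pow_add,
        Even.neg_one_pow (Even.add_self n), one_mul]
  have := key i hin
  rw [Nat.choose_eq_zero_of_lt (by omega), Nat.cast_zero, Int.cast_zero] at this
  exact this

end Groth.Agent.S3761
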