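import Groth.Statements.S3763
import Groth.Agent.L12.RR.GRR.GrMap
import Groth.Agent.L12.KNil.GammaVanish
-- import your own Groth.Agent.* helpers here

set_option autoImplicit false
universe v u
open CategoryTheory CategoryTheory.Limits AlgebraicGeometry
attribute [local instance] HasDerivedCategory.standard
open KRR

set_option maxHeartbeats 400000
set_option backward.isDefEq.respectTransparency false
set_option backward.isDefEq.respectTransparency.types false

namespace Groth.Agent.S3763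

/-- Grothendieck–Riemann–Roch. Let S be an affine Noetherian scheme, Y a connected Noetherian scheme
quasi-projective over S of dimension at most dY, and f = i ≫ p : X ⟶ Y with i : X ⟶ P = P^n_Y a
regular closed imbedding (X connected of dimension at most dX, conormal module C finite locally free
of rank c) and p : P ⟶ Y the projection; f has codimension c − n. Let (KX, PX, φX), (KP, PP, φP),
(KY, PY, φY) be models of the λ-rings K(X), K(P), K(Y), and f_K = p_K ∘ i_K the push-forward, i_K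
being the push-forward along the closed imbedding i and p_K that along the projection. The tangent
element is T_f = [i^* T_{P/Y}] − [N_{X/P}] = ((n+1)·[i^* O_P(1)] − 1) − [C^∨] ∈ K(X). Let ℚGr denote
the graded ring of the γ-filtration tensored with ℚ, and ch and td the Chern character and Todd
class with values in it (built from the Chern classes c^i(x) = γ^i(x − ε(x)) mod F^{i+1} by the
Hirzebruch polynomials of exp(t) and t·e^t/(e^t − 1); the truncations at dX, dY are exact because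
F^{d+1} K = 0 in dimension ≤ d). Then f_K induces a homomorphism f_G : ℚGr K(X) ⟶ ℚGr K(Y) of graded
degree c − n, and for every x ∈ K(X): ch(f_K x) = f_G(td(T_f) · ch(x)). -/
theorem result (S : Scheme.{u}) [IsAffine S] [IsNoetherian S] (n : ℕ) {X Y : Scheme.{u}} [IsNoetherian Y] [ConnectedSpace ↥Y] (qY : Y ⟶ S) (hqY : KRR.IsQProjOver qY)
    (dY : ℕ) (hdY : topologicalKrullDim ↥Y ≤ (dY : WithBot ℕ∞))
    (i : X ⟶ KRR.PY n Y) (hi : Mor2.IsRegularClosedImmersion i) [ConnectedSpace ↥X]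
    (dX : ℕ) (hdX : topologicalKrullDim ↥X ≤ (dX : WithBot ℕ∞)) (c : ℕ)
    (hC : FlatMod.IsFinLocFreeOfRank c (Omega.conormal i)) [DCoh.HasSheafHom (Omega.conormal i)]
    (KX : Type v) [CommRing KX] [LambdaRing.LambdaOps KX] (PX : LambdaRing.PosStructure KX) (φX : SGA6.Kvb X →+ KX) (hKX : KRR.IsModel X KX PX φX)
    (KP : Type v) [CommRing KP] [LambdaRing.LambdaOps KP] (PP : LambdaRing.PosStructure KP) (φP : SGA6.Kvb (KRR.PY n Y) →+ KP) (hKP : KRR.IsModel (KRR.PY n Y) KP PP φP)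
    (KY : Type v) [CommRing KY] [LambdaRing.LambdaOps KY] (PY : LambdaRing.PosStructure KY) (φY : SGA6.Kvb Y →+ KY) (hKY : KRR.IsModel Y KY PY φY)
    (a : KX →+ KP) (ha : KRR.IsPushCl i φX φP a) (b : KP →+ KY) (hb : KRR.IsPushPr n Y φP φY b)
    :
    ∃ fG : KGr.Gr PX →+ KGr.Gr PY, KGr.IsGrPush PX PY (b.comp a) ((c : ℤ) - n) fG ∧
      ∀ x : KX, KGr.chK PY dY (b (a x)) =
        fG (KGr.tdK PX dX (((n + 1 : ℕ) : KX) * φX (KRR.cl X ((Scheme.Modules.pullback i).obj (Twist.twistOver n Y 1))) - 1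
              - φX (KRR.cl X ((DCoh.sheafHom (Omega.conormal i)).obj (Coh.structureModule X))))
            * KGr.chK PX dX x) := by
  haveI := Groth.L12.KRes.isNoetherian_PY n Y
  haveI := Groth.L12.RR.connectedSpace_PY n Y
  haveI := hi.1
  haveI : IsLocallyNoetherian X := LocallyOfFiniteType.isLocallyNoetherian i
  haveI : CompactSpace X := QuasiCompact.compactSpace_of_compactSpace i
  haveI : IsNoetherian X := {}
  have hqX : KRR.IsQProjOver (i ≫ KRR.pr n Y ≫ qY) := by
    obtain ⟨m, j, hj, hjq⟩ := Groth.L12.RR.isQProj_PY n hqY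
    exact ⟨m, i ≫ j, inferInstance, by rw [Category.assoc, hjq]⟩
  obtain ⟨LX, hLX⟩ := Groth.L12.RR.exists_ample_of_qproj hqX
  obtain ⟨LY, hLY⟩ := Groth.L12.RR.exists_ample_of_qproj hqY
  have hbX := Groth.L12.KNil.gammaFiltration_eq_bot (Groth.L12.Kvb.isModel (X := X)) hLX hdX
  have hbY := Groth.L12.KNil.gammaFiltration_eq_bot (Groth.L12.Kvb.isModel (X := Y)) hLY hdY
  obtain ⟨eX, heX, hlX, haX⟩ := Groth.L12.KBun.exists_modelEquiv Groth.L12.Kvb.isModel hKX
  obtain ⟨eP, heP, hlP, haP⟩ := Groth.L12.KBun.exists_modelEquiv Groth.L12.Kvb.isModel hKP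
  obtain ⟨eY, heY, hlY, haY⟩ := Groth.L12.KBun.exists_modelEquiv Groth.L12.Kvb.isModel hKY
  have hX : ∀ z, eX (Groth.L12.Kvb.toKR X z) = φX z := fun z =>
    DFunLike.congr_fun (Groth.L29.KSub.hom_ext (φ := eX.toAddMonoidHom.comp (Groth.L12.Kvb.toKR X))
      fun F hF => heX F hF) z
  have hP : ∀ z, eP (Groth.L12.Kvb.toKR _ z) = φP z := fun z =>
    DFunLike.congr_fun (Groth.L29.KSub.hom_ext (φ := eP.toAddMonoidHom.comp (Groth.L12.Kvb.toKR (KRR.PY n Y)))
      fun F hF => heP F hF) z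
  have hY : ∀ z, eY (Groth.L12.Kvb.toKR Y z) = φY z := fun z =>
    DFunLike.congr_fun (Groth.L29.KSub.hom_ext (φ := eY.toAddMonoidHom.comp (Groth.L12.Kvb.toKR Y))
      fun F hF => heY F hF) z
  let a' : Groth.L12.Kvb.KR X →+ Groth.L12.Kvb.KR (KRR.PY n Y) :=
    eP.symm.toAddMonoidHom.comp (a.comp eX.toAddMonoidHom)
  let b' : Groth.L12.Kvb.KR (KRR.PY n Y) →+ Groth.L12.Kvb.KR Y :=
    eY.symm.toAddMonoidHom.comp (b.comp eP.toAddMonoidHom)
  have ha' : KRR.IsPushCl i (Groth.L12.Kvb.toKR X) (Groth.L12.Kvb.toKR _) a' := fun F hF m L π hL => by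
    apply eP.injective
    show eP (eP.symm (a (eX _))) = _
    rw [eP.apply_symm_apply, hX, ha F hF m L π hL, map_sum]
    exact Finset.sum_congr rfl fun k _ => by rw [map_zsmul, hP]
  have hb' : KRR.IsPushPr n Y (Groth.L12.Kvb.toKR _) (Groth.L12.Kvb.toKR Y) b' := fun F hF hreg => by
    apply eY.injective
    show eY (eY.symm (b (eP _))) = _
    rw [eY.apply_symm_apply, hP, hb F hF hreg, hY]
  have hSX := Groth.L12.RR.GRR.hasSplitting_KR X
  have hSY := Groth.L12.RR.GRR.hasSplitting_KR Y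
  have hshift : ∀ (k : ℕ) (x : Groth.L12.Kvb.KR X),
      x ∈ LambdaRing.gammaFiltration (Groth.L12.Kvb.posStructure (X := X)) k → ∃ N : ℕ, 1 ≤ N ∧
        (N : Groth.L12.Kvb.KR Y) * (b'.comp a') x ∈
          LambdaRing.gammaFiltration (Groth.L12.Kvb.posStructure (X := Y)) (k + c - n) :=
    fun k x hx => Groth.Agent.S3777.result S n qY hqY i hi c hC _ _ _ Groth.L12.Kvb.isModel _ _ _
      Groth.L12.Kvb.isModel _ _ _ Groth.L12.Kvb.isModel a' ha' b' hb' k x hx
  obtain ⟨w, hw, hA⟩ := Groth.L12.RR.GRR.adams_rat n hqY i hi hC ha' hb'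
  have hrk : FlatMod.IsFinLocFreeOfRank 1 (Groth.L12.RR.GRR.oneLine n i) :=
    Groth.L18.KRRAmple.isRankOne_of_isInvertible
      (Groth.L18.Ample.isInvertible_pullback i (Groth.L17.Strat.isInvertible_twistOver n Y 1))
  obtain ⟨hτ1, hτ2⟩ := Groth.L12.RR.GRR.tau_spec hLX hSX hbX n hrk hC
  have hlY' : ∀ k z, eY (LambdaRing.LambdaOps.lam k z) = LambdaRing.LambdaOps.lam k (eY z) := hlY
  have hlX' : ∀ k z, eX.symm (LambdaRing.LambdaOps.lam k z) = LambdaRing.LambdaOps.lam k (eX.symm z) :=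
    fun k z => eX.injective (by rw [eX.apply_symm_apply, hlX, eX.apply_symm_apply])
  have haX' : ∀ z, (Groth.L12.Kvb.posStructure (X := X)).aug (eX.symm z) = PX.aug z := fun z => by
    rw [← haX, eX.apply_symm_apply]
  let mY := Groth.L12.RR.GRR.grMap eY hlY' haY
  let mX := Groth.L12.RR.GRR.grMap eX.symm hlX' haX'
  let f' := Groth.L12.RR.GRR.fG hSX hbX hSY hbY (b'.comp a') (c := c) (n := n)
  have hba : ∀ x, eY ((b'.comp a') (eX.symm x)) = b (a x) := fun x => by
    show eY (eY.symm (b (eP (eP.symm (a (eX (eX.symm x))))))) = _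
    rw [eY.apply_symm_apply, eP.apply_symm_apply, eX.apply_symm_apply]
  refine ⟨mY.toRingHom.toAddMonoidHom.comp (f'.comp mX.toRingHom.toAddMonoidHom), fun m x hx => ?_, fun x => ?_⟩
  · show mY (f' (mX (KGr.grK PX (m : ℤ) x))) = _
    rw [Groth.L12.RR.GRR.grMap_grK, Groth.L12.RR.GRR.isGrPush_fG hSX hbX hSY hbY _ hshift m _
      (Groth.L12.RR.GRR.map_gammaFiltration eX.symm hlX' haX' hx), Groth.L12.RR.GRR.grMap_grK, hba]
    rfl
  · show _ = mY (f' (mX _))
    have hvC := Groth.L18.KRRAmple.isFinLocFree_of_rank hC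
    have hd : φX (KRR.cl X ((DCoh.sheafHom (Omega.conormal i)).obj (Coh.structureModule X))) =
        eX (Groth.L12.KBunQ.kc X (RefHull.dual (Omega.conormal i))) :=
      ((hX _).trans (congrArg φX (Groth.L12.Kvb.cl_iso (Groth.L17.SheafHomCoh.isoHomSh (Omega.conormal i)
        (Coh.structureModule X)).symm (Groth.L12.DualVb.isFinLocFree_dual hvC)))).symm
    have hl : φX (KRR.cl X ((Scheme.Modules.pullback i).obj (Twist.twistOver n Y 1))) =
        eX (Groth.L12.KBunQ.kc X (Groth.L12.RR.GRR.oneLine n i)) := (hX _).symm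
    rw [hd, hl, map_mul mX, Groth.L12.RR.GRR.grMap_chK, Groth.L12.RR.GRR.grMap_tdK]
    simp only [map_sub, map_mul, map_one, map_natCast, RingEquiv.symm_apply_apply]
    rw [← Groth.L12.RR.GRR.fG_chK hSX hbX hSY hbY (b'.comp a') hshift hw hA hτ1 hτ2,
      Groth.L12.RR.GRR.grMap_chK, hba]

end Groth.Agent.S3763
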