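import Groth.Statements.S3764
import Groth.Agent.S3763
import Groth.Agent.L12.RR.GRR.Hrr
import Groth.Agent.L15.ChernChar
import Groth.Agent.L22.Inter.Fga
-- import your own Groth.Agent.* helpers here

set_option autoImplicit false
universe v u
open CategoryTheory CategoryTheory.Limits AlgebraicGeometry
attribute [local instance] HasDerivedCategory.standard
open KRR

set_option maxHeartbeats 400000
set_option backward.isDefEq.respectTransparency false
set_option backward.isDefEq.respectTransparency.types false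

namespace Groth.Agent.S3764

/-- Let k be a field and X a connected scheme over Spec k of dimension at most dX whose structure
morphism factors as a regular closed imbedding i : X ⟶ P = P^n_k (conormal module finite locally
free of rank c) followed by the projection, so that X is a projective local complete intersection
over k. With models of K(X), K(P), K(Spec k), f_K = p_K ∘ i_K, and the tangent element T_X =
((n+1)[i^*O_P(1)] - 1) - [C^∨]: f_K induces f_G : ℚGr K(X) ⟶ ℚGr K(Spec k) of graded degree c - n,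
and for every finite locally free O_X-module E: f_G(td(T_X) · ch([E])) = χ(X, E) = Σ_{q ≤ dX} (-1)^q
dim_k H^q(X, E), as elements of ℚGr K(Spec k) (through ℚ). -/
theorem result (k : Type u) [Field k] (n : ℕ) (X : Scheme.{u}) [X.Over (Spec (CommRingCat.of k))]
    [ConnectedSpace ↥X] (dX : ℕ) (hdX : topologicalKrullDim ↥X ≤ (dX : WithBot ℕ∞))
    (i : X ⟶ KRR.PY n (Spec (CommRingCat.of k))) (hi : Mor2.IsRegularClosedImmersion i)
    (hfac : i ≫ KRR.pr n (Spec (CommRingCat.of k)) = X ↘ Spec (CommRingCat.of k)) (c : ℕ)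
    (hC : FlatMod.IsFinLocFreeOfRank c (Omega.conormal i)) [DCoh.HasSheafHom (Omega.conormal i)]
    (KX : Type v) [CommRing KX] [LambdaRing.LambdaOps KX] (PX : LambdaRing.PosStructure KX) (φX : SGA6.Kvb X →+ KX) (hKX : KRR.IsModel X KX PX φX)
    (KP : Type v) [CommRing KP] [LambdaRing.LambdaOps KP] (PP : LambdaRing.PosStructure KP) (φP : SGA6.Kvb (KRR.PY n (Spec (CommRingCat.of k))) →+ KP) (hKP : KRR.IsModel (KRR.PY n (Spec (CommRingCat.of k))) KP PP φP)
    (KY : Type v) [CommRing KY] [LambdaRing.LambdaOps KY] (PY : LambdaRing.PosStructure KY) (φY : SGA6.Kvb (Spec (CommRingCat.of k)) →+ KY) (hKY : KRR.IsModel (Spec (CommRingCat.of k)) KY PY φY)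
    (a : KX →+ KP) (ha : KRR.IsPushCl i φX φP a) (b : KP →+ KY) (hb : KRR.IsPushPr n (Spec (CommRingCat.of k)) φP φY b)
    :
    ∃ fG : KGr.Gr PX →+ KGr.Gr PY, KGr.IsGrPush PX PY (b.comp a) ((c : ℤ) - n) fG ∧
      ∀ E : X.Modules, FlatMod.IsFinLocFree E →
      fG (KGr.tdK PX dX (((n + 1 : ℕ) : KX) * φX (KRR.cl X ((Scheme.Modules.pullback i).obj (Twist.twistOver n (Spec (CommRingCat.of k)) 1))) - 1
          - φX (KRR.cl X ((DCoh.sheafHom (Omega.conormal i)).obj (Coh.structureModule X)))) * KGr.chK PX dX (φX (KRR.cl X E))) =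
      algebraMap ℚ (KGr.Gr PY) (∑ q ∈ Finset.range (dX + 1), (-1 : ℚ) ^ q * (Module.finrank k (Coh.HH X E q) : ℚ)) := by
  haveI : ConnectedSpace ↥(Spec (CommRingCat.of k)) :=
    haveI : Subsingleton ↥(Spec (CommRingCat.of k)) := inferInstanceAs (Subsingleton (PrimeSpectrum k))
    haveI : Nonempty ↥(Spec (CommRingCat.of k)) := inferInstanceAs (Nonempty (PrimeSpectrum k))
    haveI : PreconnectedSpace ↥(Spec (CommRingCat.of k)) := inferInstance
    ⟨inferInstance⟩
  have hd0 : topologicalKrullDim ↥(Spec (CommRingCat.of k)) ≤ ((0 : ℕ) : WithBot ℕ∞) :=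
    ((PrimeSpectrum.topologicalKrullDim_eq_ringKrullDim k).trans (ringKrullDim_eq_zero_of_field k)).le
  obtain ⟨fG, hG, hch⟩ := Groth.Agent.S3763.result (Spec (CommRingCat.of k)) n (𝟙 _)
    (Groth.L12.RR.GRR.isQProjOver_id k) 0 hd0 i hi dX hdX c hC KX PX φX hKX KP PP φP hKP KY PY φY hKY a ha b hb
  refine ⟨fG, hG, fun E hE => ?_⟩
  rw [← hch]
  haveI := hi.1
  haveI : IsProper (KRR.pr n (Spec (CommRingCat.of k))) :=
    Groth.L16.ProjSpace.isProper_toBase n (Spec (CommRingCat.of k))
  haveI : IsProper (X ↘ Spec (CommRingCat.of k)) := by rw [← hfac]; infer_instance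
  haveI : IsLocallyNoetherian X := LocallyOfFiniteType.isLocallyNoetherian (X ↘ Spec (CommRingCat.of k))
  haveI : CompactSpace X := QuasiCompact.compactSpace_of_compactSpace (X ↘ Spec (CommRingCat.of k))
  haveI : IsNoetherian X := {}
  have haug := Groth.L12.RR.GRR.aug_push k n i hi hfac hKY ha hb hE
  have hsum := Groth.L03.Euler.euler_eq_sum (k := k) (M := E) (N := dX + 1)
    fun m hm => Groth.L22.Inter.subsingleton_HH_of_dim hdX E hm
  rw [hsum] at haug
  unfold KGr.chK
  rw [Groth.L15.ChernChar.chPoly_eq, haug]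
  simp

end Groth.Agent.S3764
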