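import Groth.Statements.S3765
import Groth.Agent.L12.KRes.PushReg
import Groth.Agent.S1676
-- import your own Groth.Agent.* helpers here

set_option autoImplicit false
universe v u
open CategoryTheory CategoryTheory.Limits AlgebraicGeometry
attribute [local instance] HasDerivedCategory.standard
open KRR

namespace Groth.Agent.S3765

/-- For the trivial bundle P = P^n_Y: let Y be a connected Noetherian scheme, p : P ⟶ Y the projection
and s : Y ⟶ P a section of p (s ≫ p = 𝟙); assume every coherent module on P is a quotient of a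
finite locally free one. Then s is a regular closed imbedding (of codimension n), and with models of
K(Y), K(P), the push-forward s_K (via finite locally free resolutions of s_*F) and p_K (via regular
sheaves) satisfy p_K ∘ s_K = id. -/
theorem result (n : ℕ) (Y : Scheme.{u}) [IsNoetherian Y] [ConnectedSpace ↥Y]
    (hPe : KRR.HasEnoughLocFree (KRR.PY n Y)) (s : Y ⟶ KRR.PY n Y) (hs : s ≫ KRR.pr n Y = 𝟙 Y)
    (KP : Type v) [CommRing KP] [LambdaRing.LambdaOps KP] (PP : LambdaRing.PosStructure KP) (φP : SGA6.Kvb (KRR.PY n Y) →+ KP) (hKP : KRR.IsModel (KRR.PY n Y) KP PP φP)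
    (KY : Type v) [CommRing KY] [LambdaRing.LambdaOps KY] (PY : LambdaRing.PosStructure KY) (φY : SGA6.Kvb Y →+ KY) (hKY : KRR.IsModel Y KY PY φY)
    (gs : KY →+ KP) (hgs : KRR.IsPushCl s φY φP gs) (gp : KP →+ KY) (hgp : KRR.IsPushPr n Y φP φY gp) :
    Mor2.IsRegularClosedImmersion s ∧ gp.comp gs = AddMonoidHom.id KY := by
  haveI : IsProper (KRR.pr n Y) := Groth.L16.ProjSpace.isProper_toBase n Y
  haveI : Smooth (KRR.pr n Y) := Groth.L16.ProjSpace.smooth_toBase (n := n) (S := Y)
  haveI : IsNoetherian (KRR.PY n Y) := Groth.L12.KRes.isNoetherian_PY n Y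
  haveI : IsClosedImmersion (s ≫ KRR.pr n Y) := by rw [hs]; infer_instance
  haveI : IsClosedImmersion s := IsClosedImmersion.of_comp s (KRR.pr n Y)
  have hsr := Groth.Agent.S1676.result (KRR.pr n Y) s hs
  refine ⟨hsr, AddMonoidHom.ext fun x => ?_⟩
  obtain ⟨a, rfl⟩ := hKY.bijective.2 x
  have hgp' : ∀ z, gp (φP z) = φY (Groth.L12.KReg.pushK n Y z) := fun z => DFunLike.congr_fun
    (Groth.L12.KReg.hom_ext_regular n Y (φ := gp.comp φP) (ψ := φY.comp (Groth.L12.KReg.pushK n Y))
      fun F hF hreg => (hgp F hF hreg).trans (congrArg φY (Groth.L12.KReg.pushK_cl n Y hF hreg).symm)) z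
  have key : ((Groth.L12.KReg.pushK n Y).comp (Groth.L12.KRes.pushCl s hsr hPe)) = AddMonoidHom.id _ := by
    refine Groth.L29.KSub.hom_ext fun F hF => ?_
    show Groth.L12.KReg.pushK n Y (Groth.L12.KRes.pushCl s hsr hPe (KRR.cl Y F)) = KRR.cl Y F
    have hYe : KRR.HasEnoughLocFree Y := Groth.L12.KRes.hasEnough_of_closed s hPe
    have hgood : Groth.L12.KRes.Good ((Scheme.Modules.pushforward s).obj F) := by
      refine ⟨Groth.L12.KRes.cohPd_push s hsr hPe hF, Groth.L12.KRes.isRegSheaf_push s F fun i hi W hW => ?_⟩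
      have hG := Groth.L29.DC.isFinLocFree_tensor
        (Groth.L29.LocFree.pullback s (Groth.L12.KReg.isFinLocFree_O (n := n) (Y := Y) (-(i : ℤ)))) hF
      haveI := (Groth.L16.NegPow.isCoh_of_isFinLocFree hG).1
      obtain ⟨q, rfl⟩ := Nat.exists_eq_add_of_le' hi
      rw [hs]
      exact subsingleton_of_forall_eq 0 (Groth.L17.hu_affine_eq_zero _ hW q)
    obtain ⟨-, -, he⟩ := Groth.L12.KRes.nice_of_good hPe hYe hgood
    have hid : Nonempty ((Scheme.Modules.pushforward (KRR.pr n Y)).obj ((Scheme.Modules.pushforward s).obj F) ≅ F) := ⟨(Scheme.Modules.pushforwardComp s (KRR.pr n Y)).app F ≪≫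
      (Scheme.Modules.pushforwardCongr hs).app F ≪≫ (Scheme.Modules.pushforwardId Y).app F⟩
    obtain ⟨e⟩ := hid
    rw [Groth.L12.KRes.pushCl_cl s hsr hPe hF, he,
      ← Groth.L12.KRes.clPd_iso hYe e.symm ((Groth.L12.KRes.hyp hYe).le F hF), Groth.L12.KRes.clPd_vb hYe hF]
  show gp (gs (φY a)) = φY a
  rw [Groth.L12.KRes.map_pushCl s hsr hPe φY φP hgs, hgp', ← AddMonoidHom.comp_apply (Groth.L12.KReg.pushK n Y), key]
  rfl

end Groth.Agent.S3765
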