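import Groth.Statements.S3766
import Groth.Agent.L12.KRes.PushReg
import Groth.Agent.L12.PushFree.RegBC
import Groth.Agent.S2886
-- import your own Groth.Agent.* helpers here

set_option autoImplicit false
universe v u
open CategoryTheory CategoryTheory.Limits AlgebraicGeometry
attribute [local instance] HasDerivedCategory.standard
open KRR

namespace Groth.Agent.S3766

/-- Let i : X ⟶ Y be a regular closed imbedding of connected Noetherian schemes, j : P^n_X ⟶ P^n_Y the
induced morphism, g : P^n_X ⟶ X and f : P^n_Y ⟶ Y the projections; assume every coherent module on Y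
and on P^n_Y is a quotient of a finite locally free one. Then j is a regular closed imbedding and,
with models of the four K-rings and push-forwards i_K, j_K (via resolutions), g_K, f_K (via regular
sheaves): i_K ∘ g_K = f_K ∘ j_K. -/
theorem result (n : ℕ) {X Y : Scheme.{u}} (i : X ⟶ Y) (hi : Mor2.IsRegularClosedImmersion i)
    [IsNoetherian X] [ConnectedSpace ↥X] [IsNoetherian Y] [ConnectedSpace ↥Y] (hYe : KRR.HasEnoughLocFree Y) (hPe : KRR.HasEnoughLocFree (KRR.PY n Y))
    (KX : Type v) [CommRing KX] [LambdaRing.LambdaOps KX] (PX : LambdaRing.PosStructure KX) (φX : SGA6.Kvb X →+ KX) (hKX : KRR.IsModel X KX PX φX)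
    (KY : Type v) [CommRing KY] [LambdaRing.LambdaOps KY] (PY : LambdaRing.PosStructure KY) (φY : SGA6.Kvb Y →+ KY) (hKY : KRR.IsModel Y KY PY φY)
    (KPX : Type v) [CommRing KPX] [LambdaRing.LambdaOps KPX] (PPX : LambdaRing.PosStructure KPX) (φPX : SGA6.Kvb (KRR.PY n X) →+ KPX) (hKPX : KRR.IsModel (KRR.PY n X) KPX PPX φPX)
    (KPY : Type v) [CommRing KPY] [LambdaRing.LambdaOps KPY] (PPY : LambdaRing.PosStructure KPY) (φPY : SGA6.Kvb (KRR.PY n Y) →+ KPY) (hKPY : KRR.IsModel (KRR.PY n Y) KPY PPY φPY)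
    (gi : KX →+ KY) (hgi : KRR.IsPushCl i φX φY gi)
    (gj : KPX →+ KPY) (hgj : KRR.IsPushCl (KRR.projSpaceMap n i) φPX φPY gj)
    (gX : KPX →+ KX) (hgX : KRR.IsPushPr n X φPX φX gX) (gY : KPY →+ KY) (hgY : KRR.IsPushPr n Y φPY φY gY) :
    Mor2.IsRegularClosedImmersion (KRR.projSpaceMap n i) ∧ gi.comp gX = gY.comp gj := by
  haveI : IsProper (KRR.pr n Y) := Groth.L16.ProjSpace.isProper_toBase n Y
  haveI : IsProper (KRR.pr n X) := Groth.L16.ProjSpace.isProper_toBase n X
  haveI : Flat (KRR.pr n Y) := Groth.L16.ProjSpace.flat_toBase n Y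
  haveI : IsNoetherian (KRR.PY n Y) := Groth.L12.KRes.isNoetherian_PY n Y
  haveI : IsNoetherian (KRR.PY n X) := Groth.L12.KRes.isNoetherian_PY n X
  have hsq := Groth.L12.PushFree.isPullback_projSpaceMap n i
  have hj : Mor2.IsRegularClosedImmersion (KRR.projSpaceMap n i) := by
    rw [← hsq.flip.isoPullback_hom_snd]
    exact Groth.L12.KRes.isRegularClosedImmersion_comp_iso hsq.flip.isoPullback.hom
      (Groth.Agent.S2886.result i (KRR.pr n Y) hi)
  refine ⟨hj, AddMonoidHom.ext fun x => ?_⟩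
  haveI := hj.1
  haveI := hi.1
  obtain ⟨a, rfl⟩ := hKPX.bijective.2 x
  have hgY' : ∀ z, gY (φPY z) = φY (Groth.L12.KReg.pushK n Y z) := fun z => DFunLike.congr_fun
    (Groth.L12.KReg.hom_ext_regular n Y (φ := gY.comp φPY) (ψ := φY.comp (Groth.L12.KReg.pushK n Y))
      fun F hF hreg => (hgY F hF hreg).trans (congrArg φY (Groth.L12.KReg.pushK_cl n Y hF hreg).symm)) z
  refine DFunLike.congr_fun (f := (gi.comp gX).comp φPX) (g := (gY.comp gj).comp φPX)
    (Groth.L12.KReg.hom_ext_regular n X fun F hF hreg => ?_) a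
  show gi (gX (φPX (KRR.cl _ F))) = gY (gj (φPX (KRR.cl _ F)))
  have hpush := Groth.L12.PushFree.isFinLocFree_push_regular n X hF hreg
  rw [hgX F hF hreg, Groth.L12.KRes.map_pushCl i hi hYe φX φY hgi, Groth.L12.KRes.pushCl_cl i hi hYe hpush,
    Groth.L12.KRes.map_pushCl (KRR.projSpaceMap n i) hj hPe φPX φPY hgj,
    Groth.L12.KRes.pushCl_cl (KRR.projSpaceMap n i) hj hPe hF, hgY']
  have hgood : Groth.L12.KRes.Good ((Scheme.Modules.pushforward (KRR.projSpaceMap n i)).obj F) := by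
    refine ⟨Groth.L12.KRes.cohPd_push _ hj hPe hF, Groth.L12.KRes.isRegSheaf_push _ F fun q hq W hW => ?_⟩
    have hG := Groth.L29.DC.isFinLocFree_tensor (Groth.L29.LocFree.pullback (KRR.projSpaceMap n i)
      (Groth.L12.KReg.isFinLocFree_O (n := n) (Y := Y) (-(q : ℤ)))) hF
    haveI := (Groth.L16.NegPow.isCoh_of_isFinLocFree hG).1
    obtain ⟨t⟩ := Groth.L12.PushFree.nonempty_pullback_twistOver n i (-(q : ℤ))
    obtain ⟨e⟩ := Groth.L22.Reg.nonempty_twF_iso n X (-(q : ℤ)) F
    have hz : IsZero ((Coh.RpushAb (KRR.pr n X) q).obj (Coh.toAb (CohB1.tensorMod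
        ((Scheme.Modules.pullback (KRR.projSpaceMap n i)).obj (Twist.twistOver n Y (-(q : ℤ)))) F))) :=
      (Groth.L22.Reg.isVan_vpush (KRR.pr n X)).iso
        (e ≪≫ Groth.L00.Tensor.tensorIso t.symm (Iso.refl _)) q (hreg q hq)
    rw [hsq.w]
    exact Groth.L12.KRes.subsingleton_HU_of_Rpush (KRR.pr n X) (hW.preimage i) _ q hz
  obtain ⟨-, hpd, he⟩ := Groth.L12.KRes.nice_of_good hPe hYe hgood
  rw [he]
  let w := (Scheme.Modules.pushforwardComp (KRR.projSpaceMap n i) (KRR.pr n Y)).app F ≪≫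
    (Scheme.Modules.pushforwardCongr hsq.w).app F ≪≫
    ((Scheme.Modules.pushforwardComp (KRR.pr n X) i).app F).symm
  exact congrArg φY (Groth.L12.KRes.clPd_iso hYe w hpd).symm

end Groth.Agent.S3766
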