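import Groth.Statements.S3767
import Groth.Agent.L12.KRes.Fact
-- import your own Groth.Agent.* helpers here

set_option autoImplicit false
universe v u
open CategoryTheory CategoryTheory.Limits AlgebraicGeometry
attribute [local instance] HasDerivedCategory.standard
open KRR

namespace Groth.Agent.S3767

/-- Let Y be a connected Noetherian scheme such that every coherent module on Y, on each P^a_Y and on
each P^a over P^b_Y is a quotient of a finite locally free one, and let f : X ⟶ Y (X connected)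
admit two factorizations f = i₁ ≫ p and f = i₂ ≫ p' with i₁ : X ⟶ P^n_Y, i₂ : X ⟶ P^m_Y regular
closed imbeddings and p, p' the projections. With models of the K-rings, push-forwards (i₁)_K,
(i₂)_K via resolutions and p_K, p'_K via regular sheaves: p_K ∘ (i₁)_K = p'_K ∘ (i₂)_K. So f_K is
well defined. -/
theorem result (n m : ℕ) {X Y : Scheme.{u}} [IsNoetherian Y] [ConnectedSpace ↥Y] (hYe : KRR.HasEnoughLocFree Y) (hstar : ∀ a : ℕ, KRR.HasEnoughLocFree (KRR.PY a Y) ∧ ∀ b : ℕ, KRR.HasEnoughLocFree (KRR.PY a (KRR.PY b Y)))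
    [ConnectedSpace ↥X] (f : X ⟶ Y) (i₁ : X ⟶ KRR.PY n Y) (i₂ : X ⟶ KRR.PY m Y)
    (h₁ : Mor2.IsRegularClosedImmersion i₁) (h₂ : Mor2.IsRegularClosedImmersion i₂)
    (hf₁ : i₁ ≫ KRR.pr n Y = f) (hf₂ : i₂ ≫ KRR.pr m Y = f)
    (KX : Type v) [CommRing KX] [LambdaRing.LambdaOps KX] (PX : LambdaRing.PosStructure KX) (φX : SGA6.Kvb X →+ KX) (hKX : KRR.IsModel X KX PX φX)
    (KY : Type v) [CommRing KY] [LambdaRing.LambdaOps KY] (PY : LambdaRing.PosStructure KY) (φY : SGA6.Kvb Y →+ KY) (hKY : KRR.IsModel Y KY PY φY)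
    (K₁ : Type v) [CommRing K₁] [LambdaRing.LambdaOps K₁] (P₁ : LambdaRing.PosStructure K₁) (φ₁ : SGA6.Kvb (KRR.PY n Y) →+ K₁) (hK₁ : KRR.IsModel (KRR.PY n Y) K₁ P₁ φ₁)
    (K₂ : Type v) [CommRing K₂] [LambdaRing.LambdaOps K₂] (P₂ : LambdaRing.PosStructure K₂) (φ₂ : SGA6.Kvb (KRR.PY m Y) →+ K₂) (hK₂ : KRR.IsModel (KRR.PY m Y) K₂ P₂ φ₂)
    (a₁ : KX →+ K₁) (ha₁ : KRR.IsPushCl i₁ φX φ₁ a₁) (b₁ : K₁ →+ KY) (hb₁ : KRR.IsPushPr n Y φ₁ φY b₁)
    (a₂ : KX →+ K₂) (ha₂ : KRR.IsPushCl i₂ φX φ₂ a₂) (b₂ : K₂ →+ KY) (hb₂ : KRR.IsPushPr m Y φ₂ φY b₂) :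
    b₁.comp a₁ = b₂.comp a₂ := by
  haveI := Groth.L12.KRes.isNoetherian_PY n Y
  haveI := Groth.L12.KRes.isNoetherian_PY m Y
  haveI := h₁.1
  haveI := h₂.1
  haveI : IsLocallyNoetherian X := LocallyOfFiniteType.isLocallyNoetherian i₁
  haveI : CompactSpace X := QuasiCompact.compactSpace_of_compactSpace i₁
  haveI : IsNoetherian X := { }
  haveI : IsProper (KRR.pr n Y) := Groth.L16.ProjSpace.isProper_toBase n Y
  haveI : IsProper f := hf₁ ▸ inferInstance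
  refine AddMonoidHom.ext fun x => ?_
  obtain ⟨a, rfl⟩ := hKX.bijective.2 x
  refine DFunLike.congr_fun (f := (b₁.comp a₁).comp φX) (g := (b₂.comp a₂).comp φX)
    (Groth.L12.KRes.hom_ext_twists i₁ fun F hF => ?_) a
  have hamp : RelAmple.IsRelAmple f (Groth.L12.KRes.O1 i₁) := hf₁ ▸ Groth.L12.KRes.isRelAmple_O1 i₁
  obtain ⟨N₁, hN₁⟩ := Groth.L12.KRes.exists_regular_push i₁ hf₁ hamp (Groth.L12.KRes.isInvertible_O1 i₁) hF
  obtain ⟨N₂, hN₂⟩ := Groth.L12.KRes.exists_regular_push i₂ hf₂ hamp (Groth.L12.KRes.isInvertible_O1 i₁) hF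
  refine ⟨max N₁ N₂, fun k hk => ?_⟩
  have hG := Groth.L29.DC.isFinLocFree_tensor hF (Groth.L16.Existence.isFinLocFree_of_isInvertible
    (Groth.L18.Ample.isInvertible_tensorPow (Groth.L12.KRes.isInvertible_O1 i₁) k))
  exact (Groth.L12.KRes.push_apply_factor i₁ h₁ (hstar n).1 hYe hf₁ φX φ₁ φY ha₁ hb₁ hG
      (hN₁ k ((le_max_left _ _).trans hk))).2.trans
    (Groth.L12.KRes.push_apply_factor i₂ h₂ (hstar m).1 hYe hf₂ φX φ₂ φY ha₂ hb₂ hG
      (hN₂ k ((le_max_right _ _).trans hk))).2.symm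

end Groth.Agent.S3767
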