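import Groth.Statements.S3768
import Groth.Agent.L12.KRes.Fact
-- import your own Groth.Agent.* helpers here

set_option autoImplicit false
universe v u
open CategoryTheory CategoryTheory.Limits AlgebraicGeometry
attribute [local instance] HasDerivedCategory.standard
open KRR

namespace Groth.Agent.S3768

/-- Let Y, Z be connected Noetherian schemes such that every coherent module on Y, Z, on each P^a over
them and on each P^a over P^b over them is a quotient of a finite locally free one. Let f = i ≫ p :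
X ⟶ Y and g = j ≫ q : Y ⟶ Z be regular morphisms factored through P^n_Y and P^m_Z (i, j regular
closed imbeddings; X connected), and let f ≫ g = k ≫ r be a factorization through P^l_Z with k a
regular closed imbedding. With models and push-forwards as before: (r_K ∘ k_K) = (q_K ∘ j_K) ∘ (p_K
∘ i_K). -/
theorem result (n m l : ℕ) {X Y Z : Scheme.{u}} [IsNoetherian Y] [ConnectedSpace ↥Y] (hYe : KRR.HasEnoughLocFree Y) [IsNoetherian Z] [ConnectedSpace ↥Z] (hZe : KRR.HasEnoughLocFree Z)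
    (hstarY : ∀ a : ℕ, KRR.HasEnoughLocFree (KRR.PY a Y) ∧ ∀ b : ℕ, KRR.HasEnoughLocFree (KRR.PY a (KRR.PY b Y)))
    (hstarZ : ∀ a : ℕ, KRR.HasEnoughLocFree (KRR.PY a Z) ∧ ∀ b : ℕ, KRR.HasEnoughLocFree (KRR.PY a (KRR.PY b Z)))
    [ConnectedSpace ↥X] (f : X ⟶ Y) (g : Y ⟶ Z)
    (i : X ⟶ KRR.PY n Y) (hi : Mor2.IsRegularClosedImmersion i) (hf : i ≫ KRR.pr n Y = f)
    (j : Y ⟶ KRR.PY m Z) (hj : Mor2.IsRegularClosedImmersion j) (hg : j ≫ KRR.pr m Z = g)
    (k : X ⟶ KRR.PY l Z) (hk : Mor2.IsRegularClosedImmersion k) (hfg : k ≫ KRR.pr l Z = f ≫ g)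
    (KX : Type v) [CommRing KX] [LambdaRing.LambdaOps KX] (PX : LambdaRing.PosStructure KX) (φX : SGA6.Kvb X →+ KX) (hKX : KRR.IsModel X KX PX φX)
    (KY : Type v) [CommRing KY] [LambdaRing.LambdaOps KY] (PY : LambdaRing.PosStructure KY) (φY : SGA6.Kvb Y →+ KY) (hKY : KRR.IsModel Y KY PY φY)
    (KZ : Type v) [CommRing KZ] [LambdaRing.LambdaOps KZ] (PZ : LambdaRing.PosStructure KZ) (φZ : SGA6.Kvb Z →+ KZ) (hKZ : KRR.IsModel Z KZ PZ φZ)
    (K₁ : Type v) [CommRing K₁] [LambdaRing.LambdaOps K₁] (P₁ : LambdaRing.PosStructure K₁) (φ₁ : SGA6.Kvb (KRR.PY n Y) →+ K₁) (hK₁ : KRR.IsModel (KRR.PY n Y) K₁ P₁ φ₁)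
    (K₂ : Type v) [CommRing K₂] [LambdaRing.LambdaOps K₂] (P₂ : LambdaRing.PosStructure K₂) (φ₂ : SGA6.Kvb (KRR.PY m Z) →+ K₂) (hK₂ : KRR.IsModel (KRR.PY m Z) K₂ P₂ φ₂)
    (K₃ : Type v) [CommRing K₃] [LambdaRing.LambdaOps K₃] (P₃ : LambdaRing.PosStructure K₃) (φ₃ : SGA6.Kvb (KRR.PY l Z) →+ K₃) (hK₃ : KRR.IsModel (KRR.PY l Z) K₃ P₃ φ₃)
    (a₁ : KX →+ K₁) (ha₁ : KRR.IsPushCl i φX φ₁ a₁) (b₁ : K₁ →+ KY) (hb₁ : KRR.IsPushPr n Y φ₁ φY b₁)
    (a₂ : KY →+ K₂) (ha₂ : KRR.IsPushCl j φY φ₂ a₂) (b₂ : K₂ →+ KZ) (hb₂ : KRR.IsPushPr m Z φ₂ φZ b₂)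
    (a₃ : KX →+ K₃) (ha₃ : KRR.IsPushCl k φX φ₃ a₃) (b₃ : K₃ →+ KZ) (hb₃ : KRR.IsPushPr l Z φ₃ φZ b₃) :
    b₃.comp a₃ = (b₂.comp a₂).comp (b₁.comp a₁) := by
  haveI := Groth.L12.KRes.isNoetherian_PY n Y
  haveI := Groth.L12.KRes.isNoetherian_PY m Z
  haveI := Groth.L12.KRes.isNoetherian_PY l Z
  haveI := hi.1
  haveI := hj.1
  haveI := hk.1
  haveI : IsLocallyNoetherian X := LocallyOfFiniteType.isLocallyNoetherian i
  haveI : CompactSpace X := QuasiCompact.compactSpace_of_compactSpace i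
  haveI : IsNoetherian X := { }
  haveI : IsProper (KRR.pr n Y) := Groth.L16.ProjSpace.isProper_toBase n Y
  haveI : IsProper (KRR.pr l Z) := Groth.L16.ProjSpace.isProper_toBase l Z
  haveI : IsProper (KRR.pr m Z) := Groth.L16.ProjSpace.isProper_toBase m Z
  haveI : IsProper f := hf ▸ inferInstance
  haveI : IsProper g := hg ▸ inferInstance
  haveI : IsProper (f ≫ g) := inferInstance
  have hamp : RelAmple.IsRelAmple (f ≫ g) (Groth.L12.KRes.O1 k) := hfg ▸ Groth.L12.KRes.isRelAmple_O1 k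
  let k' : X ⟶ KRR.PY l Y := pullback.lift (k ≫ pullback.fst _ _) f (specULiftZIsTerminal.hom_ext _ _)
  have hk'p : k' ≫ KRR.pr l Y = f := pullback.lift_snd _ _ _
  have hk' : k' ≫ KRR.projSpaceMap l g = k := by
    refine pullback.hom_ext ?_ ?_
    · erw [Category.assoc, pullback.lift_fst, Category.comp_id]
      exact pullback.lift_fst _ _ _
    · have h1 : KRR.projSpaceMap l g ≫ KRR.pr l Z = KRR.pr l Y ≫ g := pullback.lift_snd _ _ _
      change (k' ≫ KRR.projSpaceMap l g) ≫ KRR.pr l Z = k ≫ KRR.pr l Z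
      rw [Category.assoc, h1, reassoc_of% hk'p, hfg]
  haveI : IsProper (KRR.projSpaceMap l g) := MorphismProperty.of_isPullback (P := @IsProper)
    (Groth.L12.PushFree.isPullback_projSpaceMap l g).flip inferInstance
  haveI : IsClosedImmersion (k' ≫ KRR.projSpaceMap l g) := hk'.symm ▸ inferInstance
  haveI : IsClosedImmersion k' := IsClosedImmersion.of_comp k' (KRR.projSpaceMap l g)
  obtain ⟨tw⟩ := Groth.L12.PushFree.nonempty_pullback_twistOver l g 1
  have hampf : RelAmple.IsRelAmple f (Groth.L12.KRes.O1 k) := hk'p ▸ Groth.L18.Ample.isRelAmple_congr_iso _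
    ((Scheme.Modules.pullback k').mapIso tw.symm ≪≫ (Scheme.Modules.pullbackComp k' _).app _ ≪≫
      (Scheme.Modules.pullbackCongr hk').app _) (Groth.L12.KRes.isRelAmple_O1 k')
  refine AddMonoidHom.ext fun x => ?_
  obtain ⟨a, rfl⟩ := hKX.bijective.2 x
  refine DFunLike.congr_fun (f := (b₃.comp a₃).comp φX) (g := ((b₂.comp a₂).comp (b₁.comp a₁)).comp φX)
    (Groth.L12.KRes.hom_ext_twists k fun F hF => ?_) a
  have hLi := Groth.L12.KRes.isInvertible_O1 k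
  obtain ⟨N₁, hN₁⟩ := Groth.L12.KRes.exists_regular_push i hf hampf hLi hF
  obtain ⟨N₃, hN₃⟩ := Groth.L12.KRes.exists_regular_push k hfg hamp hLi hF
  let E : ℕ → Y.Modules := fun s => (Scheme.Modules.pullback j).obj (Twist.twistOver m Z (-(s : ℤ)))
  have hE : ∀ s, FlatMod.IsFinLocFree (E s) := fun s =>
    Groth.L29.LocFree.pullback j (Groth.L12.KReg.isFinLocFree_O _)
  have hEF : ∀ s, Coh.IsCoh (CohB1.tensorMod ((Scheme.Modules.pullback f).obj (E s)) F) := fun s =>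
    (Groth.L12.KRes.vb_iff.1 (Groth.L29.DC.isFinLocFree_tensor (Groth.L29.LocFree.pullback f (hE s)) hF)).1
  choose Nf hNf using fun s : ℕ => Groth.L12.KRes.exists_vanishing f hampf hLi (hEF s)
  choose Nh hNh using fun s : ℕ => Groth.L12.KRes.exists_vanishing (f ≫ g) hamp hLi (hEF s)
  refine ⟨max (max N₁ N₃) ((Finset.range (m + 1)).sup fun s => max (Nf s) (Nh s)), fun t ht => ?_⟩
  simp only [max_le_iff] at ht
  have hP := Groth.L16.Existence.isFinLocFree_of_isInvertible (Groth.L18.Ample.isInvertible_tensorPow hLi t)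
  have hG := Groth.L29.DC.isFinLocFree_tensor hF hP
  obtain ⟨hpdY, h1⟩ := Groth.L12.KRes.push_apply_factor i hi (hstarY n).1 hYe hf φX φ₁ φY ha₁ hb₁ hG (hN₁ t ht.1.1)
  obtain ⟨hpdZ, h3⟩ := Groth.L12.KRes.push_apply_factor k hk (hstarZ l).1 hZe hfg φX φ₃ φZ ha₃ hb₃ hG (hN₃ t ht.1.2)
  show b₃ (a₃ (φX _)) = b₂ (a₂ (b₁ (a₁ (φX _))))
  rw [h1, h3]
  have hpdP := Groth.L12.KRes.cohPd_push_cohPd j hj hYe (hstarZ m).1 hpdY
  have hreg : KRR.IsRegSheaf m Z ((Scheme.Modules.pushforward j).obj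
      ((Scheme.Modules.pushforward f).obj (CohB1.tensorMod F (CohB1.tensorPow (Groth.L12.KRes.O1 k) t)))) := by
    refine Groth.L12.KRes.isRegSheaf_push_of_le j _ hpdP.1 fun s hs hsm W hW => ?_
    rw [hg]
    have hle := (Finset.le_sup (f := fun s => max (Nf s) (Nh s)) (Finset.mem_range.2 (Nat.lt_succ_of_le hsm))).trans ht.2
    simp only [max_le_iff] at hle
    refine Groth.L12.KRes.subsingleton_HU_iso
      ((Scheme.Modules.pushforward f).mapIso (Groth.L00.Tensor.tensorAssoc _ _ _) ≪≫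
        ((Groth.L17.ProjFormula.projIso f (E s) (hE s)).app _).symm) _ _ ?_
    haveI : Coh.IsQCoh (CohB1.tensorMod (CohB1.tensorMod ((Scheme.Modules.pullback f).obj (E s)) F)
        (CohB1.tensorPow (Groth.L12.KRes.O1 k) t)) :=
      (Groth.L12.KRes.vb_iff.1 (Groth.L29.DC.isFinLocFree_tensor
        (Groth.L29.DC.isFinLocFree_tensor (Groth.L29.LocFree.pullback f (hE s)) hF) hP)).1.1
    obtain ⟨e⟩ := Groth.L10.SiteCoh.nonempty_push_compare (Opens.grothendieckTopology Y.toTopCat)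
      (TopologicalSpace.Opens.map f.base) (g ⁻¹ᵁ W)
      (fun I q _ => Groth.L10.TopCoh.subsingleton_ext_of_flasque _
        (@Groth.L10.TopCoh.isFlasque_of_injective _ _ (Groth.L10.TopCoh.push_injective f.base I)) (g ⁻¹ᵁ W) q)
      (Coh.toAb (CohB1.tensorMod (CohB1.tensorMod ((Scheme.Modules.pullback f).obj (E s)) F)
        (CohB1.tensorPow (Groth.L12.KRes.O1 k) t)))
      ((Groth.L10.SiteCoh.isZero_Rpush_succ_iff _ _ _).1 fun q => hNf s t hle.1 (q + 1) (Nat.succ_pos q)) s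
    exact @Equiv.subsingleton _ _ e.toEquiv.symm
      (Groth.L12.KRes.subsingleton_HU_of_Rpush (f ≫ g) hW _ s (hNh s t hle.2 s hs))
  obtain ⟨-, hpdpr, he⟩ := Groth.L12.KRes.nice_of_good (hstarZ m).1 hZe (⟨hpdP, hreg⟩ : Groth.L12.KRes.Good _)
  have hb' : ∀ z, b₂ (φ₂ z) = φZ (Groth.L12.KReg.pushK m Z z) := fun z => DFunLike.congr_fun
    (Groth.L12.KReg.hom_ext_regular m Z (φ := b₂.comp φ₂) (ψ := φZ.comp (Groth.L12.KReg.pushK m Z))
      fun F hF hr => (hb₂ F hF hr).trans (congrArg φZ (Groth.L12.KReg.pushK_cl m Z hF hr).symm)) z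
  rw [Groth.L12.KRes.map_pushCl j hj (hstarZ m).1 φY φ₂ ha₂, Groth.L12.KRes.pushCl_clPd j hj hYe (hstarZ m).1 hpdY,
    hb', he]
  exact congrArg φZ (Groth.L12.KRes.clPd_iso hZe ((Scheme.Modules.pushforwardComp j (KRR.pr m Z)).app _ ≪≫
    (Scheme.Modules.pushforwardCongr hg).app _ ≪≫ (Scheme.Modules.pushforwardComp f g).app _) hpdpr).symm

end Groth.Agent.S3768
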