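import Groth.Statements.S3769
import Groth.Agent.L12.RR.Def.ExcessK
import Groth.Agent.L12.RR.Models
import Groth.Agent.L13.Canon.Conormal
-- import your own Groth.Agent.* helpers here

set_option autoImplicit false
universe v u
open CategoryTheory CategoryTheory.Limits AlgebraicGeometry
attribute [local instance] HasDerivedCategory.standard
open KRR

set_option maxHeartbeats 400000
set_option backward.isDefEq.respectTransparency false
set_option backward.isDefEq.respectTransparency.types false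

namespace Groth.Agent.S3769

/-- Let S be affine Noetherian and Y, Y₁ connected schemes quasi-projective over S; let f : X ⟶ Y be a
regular closed imbedding (X connected, conormal module C finite locally free of rank d), φ : Y₁ ⟶ Y
a morphism, and X₁ = X ×_Y Y₁ with projections f₁ : X₁ ⟶ Y₁, ψ : X₁ ⟶ X; assume f₁ is again a
regular closed imbedding (X₁ connected, conormal C₁ finite locally free of rank d₁). Let e = ψ^K[C]
- [C₁] ∈ K(X₁), the class of the excess conormal module (locally free of rank d - d₁), and λ_{-1}(e)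
= Σ_{i ≤ ε(e)} (-1)^i λ^i(e). Then with models and the maps φ^K, ψ^K (pull-backs), f_K, (f₁)_K
(push-forwards via resolutions): φ^K (f_K x) = (f₁)_K (λ_{-1}(e) · ψ^K x) for all x ∈ K(X). -/
theorem result (S : Scheme.{u}) [IsAffine S] [IsNoetherian S] {X Y X₁ Y₁ : Scheme.{u}} [IsNoetherian Y] [ConnectedSpace ↥Y] (qY : Y ⟶ S) (hqY : KRR.IsQProjOver qY)
    [IsNoetherian Y₁] [ConnectedSpace ↥Y₁] (qY₁ : Y₁ ⟶ S) (hqY₁ : KRR.IsQProjOver qY₁)
    (f : X ⟶ Y) (hf : Mor2.IsRegularClosedImmersion f) [ConnectedSpace ↥X] (d : ℕ)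
    (hC : FlatMod.IsFinLocFreeOfRank d (Omega.conormal f))
    (φ : Y₁ ⟶ Y) (f₁ : X₁ ⟶ Y₁) (ψ : X₁ ⟶ X) (hsq : IsPullback f₁ ψ φ f)
    (hf₁ : Mor2.IsRegularClosedImmersion f₁) [ConnectedSpace ↥X₁] (d₁ : ℕ)
    (hC₁ : FlatMod.IsFinLocFreeOfRank d₁ (Omega.conormal f₁))
    (KX : Type v) [CommRing KX] [LambdaRing.LambdaOps KX] (PX : LambdaRing.PosStructure KX) (φX : SGA6.Kvb X →+ KX) (hKX : KRR.IsModel X KX PX φX)
    (KY : Type v) [CommRing KY] [LambdaRing.LambdaOps KY] (PY : LambdaRing.PosStructure KY) (φY : SGA6.Kvb Y →+ KY) (hKY : KRR.IsModel Y KY PY φY)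
    (KX₁ : Type v) [CommRing KX₁] [LambdaRing.LambdaOps KX₁] (PX₁ : LambdaRing.PosStructure KX₁) (φX₁ : SGA6.Kvb X₁ →+ KX₁) (hKX₁ : KRR.IsModel X₁ KX₁ PX₁ φX₁)
    (KY₁ : Type v) [CommRing KY₁] [LambdaRing.LambdaOps KY₁] (PY₁ : LambdaRing.PosStructure KY₁) (φY₁ : SGA6.Kvb Y₁ →+ KY₁) (hKY₁ : KRR.IsModel Y₁ KY₁ PY₁ φY₁)
    (gφ : KY →+ KY₁) (hgφ : KRR.IsPull φ φY φY₁ gφ) (gψ : KX →+ KX₁) (hgψ : KRR.IsPull ψ φX φX₁ gψ)
    (gf : KX →+ KY) (hgf : KRR.IsPushCl f φX φY gf) (gf₁ : KX₁ →+ KY₁) (hgf₁ : KRR.IsPushCl f₁ φX₁ φY₁ gf₁)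
    (x : KX) :
    gφ (gf x) = gf₁ (KRR.lamAlt PX₁ (gψ (φX (KRR.cl X (Omega.conormal f))) - φX₁ (KRR.cl X₁ (Omega.conormal f₁))) * gψ x) := by
  haveI := hf.1
  haveI := hf₁.1
  haveI : IsLocallyNoetherian X := LocallyOfFiniteType.isLocallyNoetherian f
  haveI : CompactSpace X := QuasiCompact.compactSpace_of_compactSpace f
  haveI : IsNoetherian X := {}
  haveI : IsLocallyNoetherian X₁ := LocallyOfFiniteType.isLocallyNoetherian f₁
  haveI : CompactSpace X₁ := QuasiCompact.compactSpace_of_compactSpace f₁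
  haveI : IsNoetherian X₁ := {}
  obtain ⟨q, hq⟩ := Groth.L12.RR.exists_conormal_epi hsq
  haveI := hq
  have hP := Groth.L18.MapEpi.isFinLocFreeOfRank_pullback ψ hC
  have hv := Groth.L29.DC.isFinLocFree_kernel_of_epi q (Groth.L18.KRRAmple.isFinLocFree_of_rank hP)
    (Groth.L18.KRRAmple.isFinLocFree_of_rank hC₁)
  obtain ⟨m, hm⟩ := Groth.L18.KRRAmple.exists_rank hv
  have hS : (ShortComplex.mk (kernel.ι q) q (kernel.condition q)).ShortExact :=
    ShortComplex.ShortExact.mk' (ShortComplex.exact_of_f_is_kernel _ (kernelIsKernel _)) inferInstance inferInstance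
  have hmid := Groth.L13.Canon.isFinLocFreeOfRank_middle hS hm hC₁
  obtain rfl : m + d₁ = d := by
    obtain ⟨z⟩ := (inferInstance : Nonempty ↥X₁)
    obtain ⟨U, hU, ⟨e⟩⟩ := hmid z
    obtain ⟨V, hV, ⟨e'⟩⟩ := hP z
    exact Groth.L18.KRRAmple.rank_unique hU hV e e'
  have hYe := Groth.L12.RR.hasEnough_of_ample (Groth.L12.RR.exists_ample_of_qproj hqY)
  have hYe₁ := Groth.L12.RR.hasEnough_of_ample (Groth.L12.RR.exists_ample_of_qproj hqY₁)
  obtain ⟨eX, hX, hXc, hXl⟩ := Groth.L12.RR.exists_equiv hKX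
  obtain ⟨eX₁, hX₁, hX₁c, hX₁l⟩ := Groth.L12.RR.exists_equiv hKX₁
  obtain ⟨eY, hY, hYc, hYl⟩ := Groth.L12.RR.exists_equiv hKY
  obtain ⟨eY₁, hY₁, hY₁c, hY₁l⟩ := Groth.L12.RR.exists_equiv hKY₁
  have hψ : ∀ z, gψ (eX z) = eX₁ (Groth.L12.RR.pull ψ z) := fun z =>
    DFunLike.congr_fun (Groth.L12.KBunQ.KR_hom_ext (φ := gψ.comp eX.toAddMonoidHom)
      (ψ := eX₁.toAddMonoidHom.comp (Groth.L12.RR.pull ψ).toAddMonoidHom) fun M hM => by
        show gψ (eX _) = eX₁ (Groth.L12.RR.pull ψ _)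
        rw [hXc M hM, hgψ M hM, Groth.L12.RR.pull_kc ψ hM, hX₁c _ (Groth.L29.LocFree.pullback ψ hM)]) z
  have hφ : ∀ z, gφ (eY z) = eY₁ (Groth.L12.RR.pull φ z) := fun z =>
    DFunLike.congr_fun (Groth.L12.KBunQ.KR_hom_ext (φ := gφ.comp eY.toAddMonoidHom)
      (ψ := eY₁.toAddMonoidHom.comp (Groth.L12.RR.pull φ).toAddMonoidHom) fun M hM => by
        show gφ (eY _) = eY₁ (Groth.L12.RR.pull φ _)
        rw [hYc M hM, hgφ M hM, Groth.L12.RR.pull_kc φ hM, hY₁c _ (Groth.L29.LocFree.pullback φ hM)]) z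
  obtain ⟨x, rfl⟩ := eX.surjective x
  have hC' := Groth.L18.KRRAmple.isFinLocFree_of_rank hC
  have hC₁' := Groth.L18.KRRAmple.isFinLocFree_of_rank hC₁
  have haug : PX₁.aug (gψ (φX (KRR.cl X (Omega.conormal f))) - φX₁ (KRR.cl X₁ (Omega.conormal f₁))) = (m : ℤ) := by
    rw [hgψ _ hC', map_sub, hKX₁.aug_cl _ _ hP, hKX₁.aug_cl _ _ hC₁]
    push_cast
    ring
  have hlam : KRR.lamAlt PX₁ (gψ (φX (KRR.cl X (Omega.conormal f))) - φX₁ (KRR.cl X₁ (Omega.conormal f₁))) =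
      eX₁ (Groth.L12.RR.lamA m (Groth.L12.RR.pull ψ (Groth.L12.KBunQ.kc X (Omega.conormal f)) -
        Groth.L12.KBunQ.kc X₁ (Omega.conormal f₁))) := by
    rw [show eX₁ (Groth.L12.RR.lamA m _) = _ from Groth.L12.RR.map_lamA eX₁.toRingHom hX₁l m _]
    show _ = Groth.L12.RR.lamA m (eX₁ _)
    rw [map_sub, ← hψ, hXc _ hC', hX₁c _ hC₁']
    unfold KRR.lamAlt Groth.L12.RR.lamA
    rw [haug, Int.toNat_natCast]
  rw [hlam, hψ, ← map_mul, Groth.L12.RR.map_pushK f hf hYe hgf hX hY, hφ,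
    Groth.L12.RR.map_pushK f₁ hf₁ hYe₁ hgf₁ hX₁ hY₁,
    Groth.L12.RR.excess_KR hqY hqY₁ hsq hf hf₁ hC hC₁ hYe hYe₁ x]

end Groth.Agent.S3769
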