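import Groth.Statements.S3772
import Groth.Agent.L12.RR.Def.ExcDiv
import Groth.Agent.L12.RR.Models
-- import your own Groth.Agent.* helpers here

set_option autoImplicit false
universe v u
open CategoryTheory CategoryTheory.Limits AlgebraicGeometry
attribute [local instance] HasDerivedCategory.standard
open KRR

set_option maxHeartbeats 400000
set_option backward.isDefEq.respectTransparency false
set_option backward.isDefEq.respectTransparency.types false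

namespace Groth.Agent.S3772

/-- Let S be affine Noetherian, Y connected and quasi-projective over S, f : X ⟶ Y a regular closed
imbedding of codimension d ≥ 1 (conormal module C finite locally free of rank d) with X connected, φ
: Y₁ ⟶ Y the blowing up of Y along X and X₁ = Y₁ ×_Y X the exceptional divisor with f₁ : X₁ ⟶ Y₁, ψ
: X₁ ⟶ X (X₁, Y₁ connected). Put c = [C] ∈ K(X), ℓ = [C₁] ∈ K(X₁) the class of the conormal
(invertible) module of f₁, e = ψ^K c - ℓ (the class of the universal sub-bundle, rank d - 1) and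
λ_{-1}(e) = Σ_{i ≤ ε(e)} (-1)^i λ^i(e). With models and the maps φ^K, ψ^K, f_K, (f₁)_K, define u :
K(X) ⟶ K(X₁) ⊕ K(Y), u(x) = (-λ_{-1}(e) ψ^K x, f_K x) and v : K(X₁) ⊕ K(Y) ⟶ K(Y₁), v(x₁, y) =
(f₁)_K x₁ + φ^K y. Then u is injective (this part needs no regularity of X or Y: it is split by
-ψ_K). -/
theorem result (S : Scheme.{u}) [IsAffine S] [IsNoetherian S] {X Y X₁ Y₁ : Scheme.{u}} [IsNoetherian Y] [ConnectedSpace ↥Y] (qY : Y ⟶ S) (hqY : KRR.IsQProjOver qY)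
    (f : X ⟶ Y) (hf : Mor2.IsRegularClosedImmersion f) [ConnectedSpace ↥X] (d : ℕ) (hd : 1 ≤ d)
    (hC : FlatMod.IsFinLocFreeOfRank d (Omega.conormal f))
    (φ : Y₁ ⟶ Y) (hφ : BlowUp.IsBlowUp φ f.ker) (f₁ : X₁ ⟶ Y₁) (ψ : X₁ ⟶ X) (hsq : IsPullback f₁ ψ φ f)
    [IsClosedImmersion f₁] (hC₁ : FlatMod.IsFinLocFreeOfRank 1 (Omega.conormal f₁)) [ConnectedSpace ↥X₁] [ConnectedSpace ↥Y₁]
    (KX : Type v) [CommRing KX] [LambdaRing.LambdaOps KX] (PX : LambdaRing.PosStructure KX) (φX : SGA6.Kvb X →+ KX) (hKX : KRR.IsModel X KX PX φX)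
    (KY : Type v) [CommRing KY] [LambdaRing.LambdaOps KY] (PY : LambdaRing.PosStructure KY) (φY : SGA6.Kvb Y →+ KY) (hKY : KRR.IsModel Y KY PY φY)
    (KX₁ : Type v) [CommRing KX₁] [LambdaRing.LambdaOps KX₁] (PX₁ : LambdaRing.PosStructure KX₁) (φX₁ : SGA6.Kvb X₁ →+ KX₁) (hKX₁ : KRR.IsModel X₁ KX₁ PX₁ φX₁)
    (KY₁ : Type v) [CommRing KY₁] [LambdaRing.LambdaOps KY₁] (PY₁ : LambdaRing.PosStructure KY₁) (φY₁ : SGA6.Kvb Y₁ →+ KY₁) (hKY₁ : KRR.IsModel Y₁ KY₁ PY₁ φY₁)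
    (gφ : KY →+ KY₁) (hgφ : KRR.IsPull φ φY φY₁ gφ) (gψ : KX →+ KX₁) (hgψ : KRR.IsPull ψ φX φX₁ gψ)
    (gf : KX →+ KY) (hgf : KRR.IsPushCl f φX φY gf) (gf₁ : KX₁ →+ KY₁) (hgf₁ : KRR.IsPushCl f₁ φX₁ φY₁ gf₁) :
    Function.Injective (fun x : KX => (-(KRR.lamAlt PX₁ (gψ (φX (KRR.cl X (Omega.conormal f))) - φX₁ (KRR.cl X₁ (Omega.conormal f₁))) * gψ x), gf x)) := by
  haveI := hf.1
  haveI : IsLocallyNoetherian X := LocallyOfFiniteType.isLocallyNoetherian f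
  haveI : CompactSpace X := QuasiCompact.compactSpace_of_compactSpace f
  haveI : IsNoetherian X := {}
  obtain ⟨r, rfl⟩ : ∃ r, d = r + 1 := ⟨d - 1, by omega⟩
  obtain ⟨A⟩ := Groth.L12.RR.exists_atlas_exceptional hf hC hφ hsq
  haveI := A.isProper
  haveI : IsLocallyNoetherian X₁ := LocallyOfFiniteType.isLocallyNoetherian ψ
  haveI : CompactSpace X₁ := QuasiCompact.compactSpace_of_compactSpace ψ
  haveI : IsNoetherian X₁ := {}
  obtain ⟨eX, hX, hXc, hXl⟩ := Groth.L12.RR.exists_equiv hKX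
  obtain ⟨eX₁, hX₁, hX₁c, hX₁l⟩ := Groth.L12.RR.exists_equiv hKX₁
  have hψ : ∀ z, gψ (eX z) = eX₁ (Groth.L12.RR.pull ψ z) := fun z =>
    DFunLike.congr_fun (Groth.L12.KBunQ.KR_hom_ext (φ := gψ.comp eX.toAddMonoidHom)
      (ψ := eX₁.toAddMonoidHom.comp (Groth.L12.RR.pull ψ).toAddMonoidHom) fun M hM => by
        show gψ (eX _) = eX₁ (Groth.L12.RR.pull ψ _)
        rw [hXc M hM, hgψ M hM, Groth.L12.RR.pull_kc ψ hM, hX₁c _ (Groth.L29.LocFree.pullback ψ hM)]) z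
  have hC' := Groth.L18.KRRAmple.isFinLocFree_of_rank hC
  have hC₁' := Groth.L18.KRRAmple.isFinLocFree_of_rank hC₁
  have haug : PX₁.aug (gψ (φX (KRR.cl X (Omega.conormal f))) - φX₁ (KRR.cl X₁ (Omega.conormal f₁))) = (r : ℤ) := by
    rw [hgψ _ hC', map_sub, hKX₁.aug_cl _ _ (Groth.L18.MapEpi.isFinLocFreeOfRank_pullback ψ hC), hKX₁.aug_cl _ _ hC₁]
    push_cast
    ring
  have hlam : KRR.lamAlt PX₁ (gψ (φX (KRR.cl X (Omega.conormal f))) - φX₁ (KRR.cl X₁ (Omega.conormal f₁))) =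
      eX₁ (Groth.L12.RR.lamA r (Groth.L12.RR.pull ψ (Groth.L12.KBunQ.kc X (Omega.conormal f)) -
        Groth.L12.KBunQ.kc X₁ (Omega.conormal f₁))) := by
    rw [show eX₁ (Groth.L12.RR.lamA r _) = _ from Groth.L12.RR.map_lamA eX₁.toRingHom hX₁l r _]
    show _ = Groth.L12.RR.lamA r (eX₁ _)
    rw [map_sub, ← hψ, hXc _ hC', hX₁c _ hC₁']
    unfold KRR.lamAlt Groth.L12.RR.lamA
    rw [haug, Int.toNat_natCast]
  intro a b hab
  obtain ⟨a, rfl⟩ := eX.surjective a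
  obtain ⟨b, rfl⟩ := eX.surjective b
  have h := congrArg Prod.fst hab
  simp only [hlam, hψ, ← map_mul, neg_inj] at h
  refine congrArg eX (sub_eq_zero.1 (Groth.L12.RR.excess_injective hf hC hφ hsq hC₁ ?_))
  rw [map_sub, mul_sub, eX₁.injective h, sub_self]

end Groth.Agent.S3772
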