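import Groth.Statements.S3773
import Groth.Agent.L12.RR.Def.BlowSeq
import Groth.Agent.L12.RR.Models
-- import your own Groth.Agent.* helpers here

set_option autoImplicit false
universe v u
open CategoryTheory CategoryTheory.Limits AlgebraicGeometry
attribute [local instance] HasDerivedCategory.standard
open KRR

set_option maxHeartbeats 400000
set_option backward.isDefEq.respectTransparency false
set_option backward.isDefEq.respectTransparency.types false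

namespace Groth.Agent.S3773

/-- Exactness in the middle of the K-theory sequence of a blow-up: let S be an affine Noetherian scheme,
Y a connected Noetherian scheme, quasi-projective over S, all of whose local rings are regular, f :
X ⟶ Y a regular closed immersion of codimension d ≥ 1 (conormal module C finite locally free of rank
d) with X connected and all local rings of X regular, φ : Y₁ ⟶ Y the blowing up of Y along X, and X₁
= Y₁ ×_Y X the exceptional divisor with projections f₁ : X₁ ⟶ Y₁ (a closed immersion whose conormal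
module C₁ is invertible) and ψ : X₁ ⟶ X, with X₁ and Y₁ connected. Work in models K(X), K(Y), K(X₁),
K(Y₁) of the Grothendieck rings of vector bundles as λ-rings with positive structure, with pullback
maps φ^K : K(Y) → K(Y₁), ψ^K : K(X) → K(X₁) and push-forward maps f_K : K(X) → K(Y), (f₁)_K : K(X₁)
→ K(Y₁). Put c = [C] ∈ K(X), ℓ = [C₁] ∈ K(X₁), e = ψ^K c − ℓ (the class of the universal sub-bundle,
of rank d − 1) and λ_{−1}(e) = Σ_{i ≤ ε(e)} (−1)^i λ^i(e). Define u : K(X) ⟶ K(X₁) ⊕ K(Y) by u(x) =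
(−λ_{−1}(e) · ψ^K x, f_K x) and v : K(X₁) ⊕ K(Y) ⟶ K(Y₁) by v(x₁, y) = (f₁)_K x₁ + φ^K y. Then v ∘ u
= 0, that is φ^K f_K x = (f₁)_K(λ_{−1}(e) · ψ^K x) for every x, and every (x₁, y) with v(x₁, y) = 0
is of the form u(x) for some x ∈ K(X). -/
theorem result (S : Scheme.{u}) [IsAffine S] [IsNoetherian S] {X Y X₁ Y₁ : Scheme.{u}} [IsNoetherian Y] [ConnectedSpace ↥Y] (qY : Y ⟶ S) (hqY : KRR.IsQProjOver qY)
    (hYreg : ∀ y : Y, IsRegularLocalRing (Y.presheaf.stalk y))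
    (f : X ⟶ Y) (hf : Mor2.IsRegularClosedImmersion f) [ConnectedSpace ↥X] (d : ℕ) (hd : 1 ≤ d)
    (hC : FlatMod.IsFinLocFreeOfRank d (Omega.conormal f)) (hXreg : ∀ x : X, IsRegularLocalRing (X.presheaf.stalk x))
    (φ : Y₁ ⟶ Y) (hφ : BlowUp.IsBlowUp φ f.ker) (f₁ : X₁ ⟶ Y₁) (ψ : X₁ ⟶ X) (hsq : IsPullback f₁ ψ φ f)
    [IsClosedImmersion f₁] (hC₁ : FlatMod.IsFinLocFreeOfRank 1 (Omega.conormal f₁)) [ConnectedSpace ↥X₁] [ConnectedSpace ↥Y₁]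
    (KX : Type v) [CommRing KX] [LambdaRing.LambdaOps KX] (PX : LambdaRing.PosStructure KX) (φX : SGA6.Kvb X →+ KX) (hKX : KRR.IsModel X KX PX φX)
    (KY : Type v) [CommRing KY] [LambdaRing.LambdaOps KY] (PY : LambdaRing.PosStructure KY) (φY : SGA6.Kvb Y →+ KY) (hKY : KRR.IsModel Y KY PY φY)
    (KX₁ : Type v) [CommRing KX₁] [LambdaRing.LambdaOps KX₁] (PX₁ : LambdaRing.PosStructure KX₁) (φX₁ : SGA6.Kvb X₁ →+ KX₁) (hKX₁ : KRR.IsModel X₁ KX₁ PX₁ φX₁)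
    (KY₁ : Type v) [CommRing KY₁] [LambdaRing.LambdaOps KY₁] (PY₁ : LambdaRing.PosStructure KY₁) (φY₁ : SGA6.Kvb Y₁ →+ KY₁) (hKY₁ : KRR.IsModel Y₁ KY₁ PY₁ φY₁)
    (gφ : KY →+ KY₁) (hgφ : KRR.IsPull φ φY φY₁ gφ) (gψ : KX →+ KX₁) (hgψ : KRR.IsPull ψ φX φX₁ gψ)
    (gf : KX →+ KY) (hgf : KRR.IsPushCl f φX φY gf) (gf₁ : KX₁ →+ KY₁) (hgf₁ : KRR.IsPushCl f₁ φX₁ φY₁ gf₁) :
    (∀ x : KX, gf₁ (-(KRR.lamAlt PX₁ (gψ (φX (KRR.cl X (Omega.conormal f))) - φX₁ (KRR.cl X₁ (Omega.conormal f₁))) * gψ x)) + gφ (gf x) = 0) ∧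
    ∀ (x₁ : KX₁) (y : KY), gf₁ x₁ + gφ y = 0 → ∃ x : KX, -(KRR.lamAlt PX₁ (gψ (φX (KRR.cl X (Omega.conormal f))) - φX₁ (KRR.cl X₁ (Omega.conormal f₁))) * gψ x) = x₁ ∧ gf x = y := by
  haveI := hf.1
  obtain ⟨r, rfl⟩ : ∃ r, d = r + 1 := ⟨d - 1, by omega⟩
  obtain ⟨hnX, hnX₁, hnY₁, hq₁, hqX₁, hXe, hYe, hXe₁, hYe₁, hf₁⟩ := Groth.L12.RR.blowUp_setting hqY hf hC hφ hsq
  haveI := hnX
  haveI := hnX₁
  haveI := hnY₁
  obtain ⟨eX, hX, hXc, hXl⟩ := Groth.L12.RR.exists_equiv hKX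
  obtain ⟨eX₁, hX₁, hX₁c, hX₁l⟩ := Groth.L12.RR.exists_equiv hKX₁
  obtain ⟨eY, hY, hYc, hYl⟩ := Groth.L12.RR.exists_equiv hKY
  obtain ⟨eY₁, hY₁, hY₁c, hY₁l⟩ := Groth.L12.RR.exists_equiv hKY₁
  have hψ : ∀ z, gψ (eX z) = eX₁ (Groth.L12.RR.pull ψ z) := fun z =>
    DFunLike.congr_fun (Groth.L12.KBunQ.KR_hom_ext (φ := gψ.comp eX.toAddMonoidHom)
      (ψ := eX₁.toAddMonoidHom.comp (Groth.L12.RR.pull ψ).toAddMonoidHom) fun M hM => by
        show gψ (eX _) = eX₁ (Groth.L12.RR.pull ψ _)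
        rw [hXc M hM, hgψ M hM, Groth.L12.RR.pull_kc ψ hM, hX₁c _ (Groth.L29.LocFree.pullback ψ hM)]) z
  have hφ' : ∀ z, gφ (eY z) = eY₁ (Groth.L12.RR.pull φ z) := fun z =>
    DFunLike.congr_fun (Groth.L12.KBunQ.KR_hom_ext (φ := gφ.comp eY.toAddMonoidHom)
      (ψ := eY₁.toAddMonoidHom.comp (Groth.L12.RR.pull φ).toAddMonoidHom) fun M hM => by
        show gφ (eY _) = eY₁ (Groth.L12.RR.pull φ _)
        rw [hYc M hM, hgφ M hM, Groth.L12.RR.pull_kc φ hM, hY₁c _ (Groth.L29.LocFree.pullback φ hM)]) z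
  have hpf : ∀ z, gf (eX z) = eY (Groth.L12.RR.pushK f hf hYe z) := fun z =>
    Groth.L12.RR.map_pushK f hf hYe hgf hX hY z
  have hpf₁ : ∀ z, gf₁ (eX₁ z) = eY₁ (Groth.L12.RR.pushK f₁ hf₁ hYe₁ z) := fun z =>
    Groth.L12.RR.map_pushK f₁ hf₁ hYe₁ hgf₁ hX₁ hY₁ z
  have hC' := Groth.L18.KRRAmple.isFinLocFree_of_rank hC
  have hC₁' := Groth.L18.KRRAmple.isFinLocFree_of_rank hC₁
  have haug : PX₁.aug (gψ (φX (KRR.cl X (Omega.conormal f))) - φX₁ (KRR.cl X₁ (Omega.conormal f₁))) = (r : ℤ) := by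
    rw [hgψ _ hC', map_sub, hKX₁.aug_cl _ _ (Groth.L18.MapEpi.isFinLocFreeOfRank_pullback ψ hC), hKX₁.aug_cl _ _ hC₁]
    push_cast
    ring
  have hlam : KRR.lamAlt PX₁ (gψ (φX (KRR.cl X (Omega.conormal f))) - φX₁ (KRR.cl X₁ (Omega.conormal f₁))) =
      eX₁ (Groth.L12.RR.lamA r (Groth.L12.RR.pull ψ (Groth.L12.KBunQ.kc X (Omega.conormal f)) -
        Groth.L12.KBunQ.kc X₁ (Omega.conormal f₁))) := by
    rw [show eX₁ (Groth.L12.RR.lamA r _) = _ from Groth.L12.RR.map_lamA eX₁.toRingHom hX₁l r _]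
    show _ = Groth.L12.RR.lamA r (eX₁ _)
    rw [map_sub, ← hψ, hXc _ hC', hX₁c _ hC₁']
    unfold KRR.lamAlt Groth.L12.RR.lamA
    rw [haug, Int.toNat_natCast]
  refine ⟨fun x => ?_, fun x₁ y hxy => ?_⟩
  · obtain ⟨x, rfl⟩ := eX.surjective x
    rw [hlam, hψ, ← map_mul, ← map_neg, hpf₁, hpf, hφ', map_neg, map_neg,
      Groth.L12.RR.excess_KR hqY hq₁ hsq hf hf₁ hC hC₁ hYe hYe₁ x, neg_add_cancel]
  · obtain ⟨x₁, rfl⟩ := eX₁.surjective x₁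
    obtain ⟨y, rfl⟩ := eY.surjective y
    rw [hpf₁, hφ', ← map_add] at hxy
    obtain ⟨x, hx, hxy'⟩ := Groth.L12.RR.blowUp_exact hqY hYreg hf hXreg hC hφ hsq hC₁ hf₁ hYe hYe₁
      (eY₁.injective (hxy.trans (map_zero eY₁).symm))
    exact ⟨eX x, by rw [hlam, hψ, ← map_mul, ← map_neg, hx], by rw [hpf, hxy']⟩

end Groth.Agent.S3773
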