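import Groth.Statements.S3774
import Groth.Agent.L12.RR.Def.BlowSeq
import Groth.Agent.L12.RR.Models
-- import your own Groth.Agent.* helpers here

set_option autoImplicit false
universe v u
open CategoryTheory CategoryTheory.Limits AlgebraicGeometry
attribute [local instance] HasDerivedCategory.standard
open KRR

set_option maxHeartbeats 400000
set_option backward.isDefEq.respectTransparency false
set_option backward.isDefEq.respectTransparency.types false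

namespace Groth.Agent.S3774

/-- Let S be affine Noetherian, Y connected and quasi-projective over S, f : X ⟶ Y a regular closed
imbedding of codimension d ≥ 1 (conormal module C finite locally free of rank d) with X connected, X
and Y regular (all local rings regular), φ : Y₁ ⟶ Y the blowing up of Y along X and X₁ = Y₁ ×_Y X
the exceptional divisor with f₁ : X₁ ⟶ Y₁, ψ : X₁ ⟶ X (X₁, Y₁ connected). Put c = [C] ∈ K(X), ℓ =
[C₁] ∈ K(X₁) the class of the conormal (invertible) module of f₁, e = ψ^K c - ℓ (the class of the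
universal sub-bundle, rank d - 1) and λ_{-1}(e) = Σ_{i ≤ ε(e)} (-1)^i λ^i(e). With models and the
maps φ^K, ψ^K, f_K, (f₁)_K, define u : K(X) ⟶ K(X₁) ⊕ K(Y), u(x) = (-λ_{-1}(e) ψ^K x, f_K x) and v :
K(X₁) ⊕ K(Y) ⟶ K(Y₁), v(x₁, y) = (f₁)_K x₁ + φ^K y. Then v is surjective, so 0 ⟶ K(X) ⟶ K(X₁) ⊕ K(Y)
⟶ K(Y₁) ⟶ 0 is exact. -/
theorem result (S : Scheme.{u}) [IsAffine S] [IsNoetherian S] {X Y X₁ Y₁ : Scheme.{u}} [IsNoetherian Y] [ConnectedSpace ↥Y] (qY : Y ⟶ S) (hqY : KRR.IsQProjOver qY)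
    (hYreg : ∀ y : Y, IsRegularLocalRing (Y.presheaf.stalk y))
    (f : X ⟶ Y) (hf : Mor2.IsRegularClosedImmersion f) [ConnectedSpace ↥X] (d : ℕ) (hd : 1 ≤ d)
    (hC : FlatMod.IsFinLocFreeOfRank d (Omega.conormal f)) (hXreg : ∀ x : X, IsRegularLocalRing (X.presheaf.stalk x))
    (φ : Y₁ ⟶ Y) (hφ : BlowUp.IsBlowUp φ f.ker) (f₁ : X₁ ⟶ Y₁) (ψ : X₁ ⟶ X) (hsq : IsPullback f₁ ψ φ f)
    [IsClosedImmersion f₁] (hC₁ : FlatMod.IsFinLocFreeOfRank 1 (Omega.conormal f₁)) [ConnectedSpace ↥X₁] [ConnectedSpace ↥Y₁]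
    (KX : Type v) [CommRing KX] [LambdaRing.LambdaOps KX] (PX : LambdaRing.PosStructure KX) (φX : SGA6.Kvb X →+ KX) (hKX : KRR.IsModel X KX PX φX)
    (KY : Type v) [CommRing KY] [LambdaRing.LambdaOps KY] (PY : LambdaRing.PosStructure KY) (φY : SGA6.Kvb Y →+ KY) (hKY : KRR.IsModel Y KY PY φY)
    (KX₁ : Type v) [CommRing KX₁] [LambdaRing.LambdaOps KX₁] (PX₁ : LambdaRing.PosStructure KX₁) (φX₁ : SGA6.Kvb X₁ →+ KX₁) (hKX₁ : KRR.IsModel X₁ KX₁ PX₁ φX₁)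
    (KY₁ : Type v) [CommRing KY₁] [LambdaRing.LambdaOps KY₁] (PY₁ : LambdaRing.PosStructure KY₁) (φY₁ : SGA6.Kvb Y₁ →+ KY₁) (hKY₁ : KRR.IsModel Y₁ KY₁ PY₁ φY₁)
    (gφ : KY →+ KY₁) (hgφ : KRR.IsPull φ φY φY₁ gφ) (gψ : KX →+ KX₁) (hgψ : KRR.IsPull ψ φX φX₁ gψ)
    (gf : KX →+ KY) (hgf : KRR.IsPushCl f φX φY gf) (gf₁ : KX₁ →+ KY₁) (hgf₁ : KRR.IsPushCl f₁ φX₁ φY₁ gf₁) :
    ∀ y₁ : KY₁, ∃ (x₁ : KX₁) (y : KY), gf₁ x₁ + gφ y = y₁ := by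
  haveI := hf.1
  obtain ⟨r, rfl⟩ : ∃ r, d = r + 1 := ⟨d - 1, by omega⟩
  obtain ⟨hnX, hnX₁, hnY₁, hq₁, hqX₁, hXe, hYe, hXe₁, hYe₁, hf₁⟩ := Groth.L12.RR.blowUp_setting hqY hf hC hφ hsq
  haveI := hnX
  haveI := hnX₁
  haveI := hnY₁
  obtain ⟨eX, hX, hXc, hXl⟩ := Groth.L12.RR.exists_equiv hKX
  obtain ⟨eX₁, hX₁, hX₁c, hX₁l⟩ := Groth.L12.RR.exists_equiv hKX₁
  obtain ⟨eY, hY, hYc, hYl⟩ := Groth.L12.RR.exists_equiv hKY
  obtain ⟨eY₁, hY₁, hY₁c, hY₁l⟩ := Groth.L12.RR.exists_equiv hKY₁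
  have hψ : ∀ z, gψ (eX z) = eX₁ (Groth.L12.RR.pull ψ z) := fun z =>
    DFunLike.congr_fun (Groth.L12.KBunQ.KR_hom_ext (φ := gψ.comp eX.toAddMonoidHom)
      (ψ := eX₁.toAddMonoidHom.comp (Groth.L12.RR.pull ψ).toAddMonoidHom) fun M hM => by
        show gψ (eX _) = eX₁ (Groth.L12.RR.pull ψ _)
        rw [hXc M hM, hgψ M hM, Groth.L12.RR.pull_kc ψ hM, hX₁c _ (Groth.L29.LocFree.pullback ψ hM)]) z
  have hφ' : ∀ z, gφ (eY z) = eY₁ (Groth.L12.RR.pull φ z) := fun z =>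
    DFunLike.congr_fun (Groth.L12.KBunQ.KR_hom_ext (φ := gφ.comp eY.toAddMonoidHom)
      (ψ := eY₁.toAddMonoidHom.comp (Groth.L12.RR.pull φ).toAddMonoidHom) fun M hM => by
        show gφ (eY _) = eY₁ (Groth.L12.RR.pull φ _)
        rw [hYc M hM, hgφ M hM, Groth.L12.RR.pull_kc φ hM, hY₁c _ (Groth.L29.LocFree.pullback φ hM)]) z
  have hpf : ∀ z, gf (eX z) = eY (Groth.L12.RR.pushK f hf hYe z) := fun z =>
    Groth.L12.RR.map_pushK f hf hYe hgf hX hY z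
  have hpf₁ : ∀ z, gf₁ (eX₁ z) = eY₁ (Groth.L12.RR.pushK f₁ hf₁ hYe₁ z) := fun z =>
    Groth.L12.RR.map_pushK f₁ hf₁ hYe₁ hgf₁ hX₁ hY₁ z
  intro y₁
  obtain ⟨y₁, rfl⟩ := eY₁.surjective y₁
  obtain ⟨x₁, y, h⟩ := Groth.L12.RR.blowUp_surjective hqY hYreg hf hXreg hC hφ hsq hf₁ hYe hYe₁ y₁
  exact ⟨eX₁ x₁, eY y, by rw [hpf₁, hφ', ← map_add, h]⟩

end Groth.Agent.S3774
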