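import Groth.Statements.S3781
import Groth.Agent.L13.ElemExt.Det

set_option autoImplicit false
universe v u
open CategoryTheory CategoryTheory.Limits AlgebraicGeometry
attribute [local instance] HasDerivedCategory.standard
open KRR

namespace Groth.Agent.S3781

/-- Let K be a λ-ring with positive structure having the splitting property, L its group of line
elements and F^n the γ-filtration. Assume moreover that the inverse of a line element is a line
element and that for a positive e with ε(e) = r the element det e = λ^r(e) is positive (hence a line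
element); these are part of the published setting but are not implied by the axioms used here, so
they are hypotheses. Then u ↦ u − 1 induces an isomorphism L ≅ Gr^1 K = F^1/F^2: every x ∈ F^1 is
congruent modulo F^2 to u − 1 for some line element u, and line elements u, v with u − v ∈ F^2 are
equal. -/
theorem result (K : Type v) [CommRing K] [LambdaRing.LambdaOps K] (P : LambdaRing.PosStructure K) (hK : LambdaRing.HasSplitting K P)
    (hLinv : ∀ w : K, P.IsLine w → ∃ w' : K, P.IsLine w' ∧ w * w' = 1)
    (hdet : ∀ e : K, e ∈ P.pos → LambdaRing.LambdaOps.lam (P.aug e).toNat e ∈ P.pos) :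
    (∀ x : K, x ∈ LambdaRing.gammaFiltration P 1 → ∃ u : K, P.IsLine u ∧ x - (u - 1) ∈ LambdaRing.gammaFiltration P 2) ∧
    ∀ u v : K, P.IsLine u → P.IsLine v → u - v ∈ LambdaRing.gammaFiltration P 2 → u = v := by
  have haug : ∀ y ∈ LambdaRing.gammaFiltration P 1, P.aug y = 0 := by
    intro y hy
    rw [LambdaRing.gammaFiltration, if_neg one_ne_zero] at hy
    induction hy using AddSubgroup.closure_induction with
    | mem y hy =>
      obtain ⟨l, hl, hw, rfl⟩ := hy
      clear! y
      induction l with
      | nil => simp at hw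
      | cons p l ih =>
        simp only [List.map_cons, List.sum_cons, List.prod_cons, map_mul] at hw ⊢
        rcases Nat.eq_zero_or_pos p.1 with h | h
        · rw [ih (fun q hq => hl q (List.mem_cons_of_mem _ hq)) (by omega), mul_zero]
        · rw [Groth.L13.ElemExt.aug_gamma P hK (hl p (List.mem_cons_self ..)) h, zero_mul]
    | zero => exact map_zero _
    | add a b _ _ ha hb => rw [map_add, ha, hb, add_zero]
    | neg a _ ha => rw [map_neg, ha, neg_zero]
  refine ⟨fun x hx => ?_, fun u v hu hv huv => ?_⟩
  · obtain ⟨e, f, he, hf, rfl⟩ := P.exists_sub x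
    obtain ⟨r, hr⟩ := Int.eq_ofNat_of_zero_le (P.aug_pos e he).le
    have hx0 := haug _ hx
    rw [map_sub, sub_eq_zero] at hx0
    have hr' : P.aug f = r := hx0.symm.trans hr
    have hline : ∀ g : K, g ∈ P.pos → P.aug g = r → P.IsLine (LambdaRing.LambdaOps.lam r g) := by
      intro g hg hgr
      refine ⟨?_, ?_⟩
      · have := hdet g hg
        rwa [hgr, Int.toNat_natCast] at this
      · rw [Groth.L22.Lambda.aug_lam P hK hg hgr, Nat.choose_self, Nat.cast_one]
    have hmem : ∀ g : K, g ∈ P.pos → P.aug g = r →
        LambdaRing.LambdaOps.lam r g - 1 - (g - (r : K)) ∈ LambdaRing.gammaFiltration P 2 := by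
      intro g hg hgr
      obtain ⟨j, rfl⟩ : ∃ j, r = j + 1 := ⟨r - 1, by have := P.aug_pos g hg; omega⟩
      rw [← Groth.L13.ElemExt.sum_gamma_rank P hg hgr, Finset.sum_range_succ', Groth.L08.Lambda.gamma_zero,
        Finset.sum_range_succ', Groth.L08.Lambda.gamma_one]
      have hgoal : ∑ n ∈ Finset.range j, LambdaRing.gamma (n + 1 + 1) (g - ((j + 1 : ℕ) : K)) + (g - ((j + 1 : ℕ) : K)) + 1 - 1 -
          (g - ((j + 1 : ℕ) : K)) = ∑ n ∈ Finset.range j, LambdaRing.gamma (n + 1 + 1) (g - ((j + 1 : ℕ) : K)) := by ring
      rw [hgoal]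
      refine sum_mem fun n _ => ?_
      have := Groth.L08.Lambda.prod_mem_gammaFiltration P [(n + 1 + 1, g - ((j + 1 : ℕ) : K))]
        (fun p hp => by simp only [List.mem_singleton] at hp; subst hp; simp [hgr]) 2 (by simp)
      simpa using this
    obtain ⟨w, hw, hwf⟩ := hLinv _ (hline f hf hr')
    refine ⟨LambdaRing.LambdaOps.lam r e * w, Groth.L22.Lambda.isLine_mul P (hline e he hr) hw, ?_⟩
    set de := LambdaRing.LambdaOps.lam r e
    set df := LambdaRing.LambdaOps.lam r f
    have h11 : ∀ a b : K, P.aug a = 0 → P.aug b = 0 → a * b ∈ LambdaRing.gammaFiltration P 2 := by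
      intro a b ha hb
      have := Groth.L08.Lambda.prod_mem_gammaFiltration P [(1, a), (1, b)]
        (fun p hp => by simp only [List.mem_cons, List.not_mem_nil, or_false] at hp
                        rcases hp with rfl | rfl <;> assumption) 2 (by simp)
      simpa [Groth.L08.Lambda.gamma_one] using this
    have hid : e - f - (de * w - 1) = (df - 1 - (f - (r : K))) - (de - 1 - (e - (r : K))) -
        (de - df) * (w - 1) := by linear_combination -hwf
    rw [hid]
    refine sub_mem (sub_mem (hmem f hf hr') (hmem e he hr)) (h11 _ _ ?_ ?_)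
    · rw [map_sub, (hline e he hr).2, (hline f hf hr').2, sub_self]
    · rw [map_sub, hw.2, map_one, sub_self]
  · have := Groth.L13.ElemExt.detElt_eq_of_mem P hu.1 hv.1 (Groth.L13.ElemExt.gammaFiltration_two_le P hK huv)
    rwa [Groth.L13.ElemExt.detElt_of_isLine P hu, Groth.L13.ElemExt.detElt_of_isLine P hv] at this

end Groth.Agent.S3781
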