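import Groth.Statements.S3783
import Groth.Agent.S3776
import Groth.Agent.S3761
import Groth.Agent.S3760
-- import your own Groth.Agent.* helpers here

set_option autoImplicit false
universe v u
open CategoryTheory CategoryTheory.Limits AlgebraicGeometry
attribute [local instance] HasDerivedCategory.standard
open KRR

namespace Groth.Agent.S3783

/-- `p_K((1 - [O(-1)])^n) = 1`. -/
theorem push_pow (n : ℕ) (Y : Scheme.{u}) [IsNoetherian Y] [ConnectedSpace ↥Y]
    (KP : Type v) [CommRing KP] [LambdaRing.LambdaOps KP] (PP : LambdaRing.PosStructure KP) (φP : SGA6.Kvb (KRR.PY n Y) →+ KP) (hKP : KRR.IsModel (KRR.PY n Y) KP PP φP)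
    (KY : Type v) [CommRing KY] [LambdaRing.LambdaOps KY] (PY : LambdaRing.PosStructure KY) (φY : SGA6.Kvb Y →+ KY) (hKY : KRR.IsModel Y KY PY φY)
    (g : KP →+ KY) (hg : KRR.IsPushPr n Y φP φY g) :
    g ((1 - φP (KRR.cl _ (Twist.twistOver n Y (-1)))) ^ n) = 1 := by
  set lm := φP (KRR.cl _ (Twist.twistOver n Y (-1)))
  have hpow : ∀ i : ℕ, φP (KRR.cl _ (Twist.twistOver n Y (-(i : ℤ)))) = lm ^ i := fun i => by
    induction i with
    | zero => rw [pow_zero, Nat.cast_zero, neg_zero, Groth.L12.KRR.cl_O_zero hKP]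
    | succ i ih =>
      rw [pow_succ, ← ih, Groth.L12.KRR.cl_O_add hKP, show -(i : ℤ) + -1 = -((i + 1 : ℕ) : ℤ) by push_cast; ring]
  have htw : ∀ i : ℕ, φP (KRR.cl _ (KRR.twF n Y (-(i : ℤ)) (Coh.structureModule (KRR.PY n Y)))) = lm ^ i := fun i => by
    rw [Groth.L12.KRR.cl_twF hKP _ Groth.L12.Kvb.isFinLocFree_O, hKP.map_one, mul_one, hpow]
  have hzero : ∀ i : ℕ, 1 ≤ i → i ≤ n → g (lm ^ i) = 0 := fun i h1 h2 => by
    rw [← htw]
    exact Groth.Agent.S3761.result n Y KP PP φP hKP KY PY φY hKY g hg i h1 h2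
  have hone : g 1 = 1 := by
    have h := Groth.Agent.S3760.result n Y KP PP φP hKP KY PY φY hKY g hg 0
    rw [show ((0 : ℕ) : ℤ) = -((0 : ℕ) : ℤ) by simp, htw, pow_zero, Nat.choose_zero_right, Nat.cast_one] at h
    exact h
  rw [sub_eq_neg_add, add_pow, map_sum, Finset.sum_range_succ', pow_zero, one_pow, Nat.choose_zero_right,
    Nat.cast_one, one_mul, one_mul, hone, add_eq_right]
  refine Finset.sum_eq_zero fun i hi => ?_
  have hi' := Finset.mem_range.1 hi
  rw [neg_pow, one_pow, mul_one, show (-1 : KP) ^ (i + 1) * lm ^ (i + 1) * (n.choose (i + 1) : KP) =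
      (((-1) ^ (i + 1) * (n.choose (i + 1) : ℤ) : ℤ)) • lm ^ (i + 1) by rw [zsmul_eq_mul]; push_cast; ring,
    map_zsmul, hzero (i + 1) (by omega) (by omega), smul_zero]

/-- For P = P^n_Y: let Y be a connected Noetherian scheme, p : P^n_Y ⟶ Y, with models of K(P), K(Y)
having the splitting property and q = p^K the pull-back. Then for every k, an element y ∈ K(Y) lies
in F^k K(Y) if and only if p^K y lies in F^k K(P) (γ-filtrations). -/
theorem result (n : ℕ) (Y : Scheme.{u}) [IsNoetherian Y] [ConnectedSpace ↥Y]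
    (KP : Type v) [CommRing KP] [LambdaRing.LambdaOps KP] (PP : LambdaRing.PosStructure KP) (φP : SGA6.Kvb (KRR.PY n Y) →+ KP) (hKP : KRR.IsModel (KRR.PY n Y) KP PP φP) (hsP : LambdaRing.HasSplitting KP PP)
    (KY : Type v) [CommRing KY] [LambdaRing.LambdaOps KY] (PY : LambdaRing.PosStructure KY) (φY : SGA6.Kvb Y →+ KY) (hKY : KRR.IsModel Y KY PY φY) (hsY : LambdaRing.HasSplitting KY PY)
    (q : KY →+ KP) (hq : KRR.IsPull (KRR.pr n Y) φY φP q) (k : ℕ) :
    (LambdaRing.gammaFiltration PP k).comap q = LambdaRing.gammaFiltration PY k := by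
  set lm := φP (KRR.cl _ (Twist.twistOver n Y (-1)))
  obtain ⟨g, hg, -⟩ := Groth.L12.KReg.existsUnique_isPushPr n Y φP hKP.bijective φY
  have hz : (1 - lm) ^ (n + 1) = 0 := by
    have h1 : lm * φP (KRR.cl _ (Twist.twistOver n Y 1)) = 1 := by
      rw [Groth.L12.KRR.cl_O_add hKP, show (-1 : ℤ) + 1 = 0 by norm_num, Groth.L12.KRR.cl_O_zero hKP]
    rw [show 1 - lm = lm * (φP (KRR.cl _ (Twist.twistOver n Y 1)) - 1) by rw [mul_sub, h1, mul_one],
      mul_pow, Groth.Agent.S3776.sub_one_pow_eq_zero n Y KP PP φP hKP, mul_zero]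
  refine le_antisymm (fun y hy => ?_) fun y hy => ?_
  · have hJ := Groth.Agent.S3776.gammaFiltration_le_closure n Y KP PP φP hKP KY PY φY hKY q hq k
      (AddSubgroup.mem_comap.1 hy)
    clear hy
    suffices hs : ∀ z : KP, z ∈ AddSubgroup.closure {z | ∃ (j : ℕ) (a : KY),
        a ∈ LambdaRing.gammaFiltration PY (k - j) ∧ z = q a * (1 - lm) ^ j} →
        g (z * (1 - lm) ^ n) ∈ LambdaRing.gammaFiltration PY k by
      have h := hs _ hJ
      rwa [mul_comm, Groth.Agent.S3762.result n Y KP PP φP hKP KY PY φY hKY g hg q hq,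
        push_pow n Y KP PP φP hKP KY PY φY hKY g hg, one_mul] at h
    intro z hz'
    induction hz' using AddSubgroup.closure_induction with
    | mem w hw =>
      obtain ⟨j, a, ha, rfl⟩ := hw
      rcases Nat.eq_zero_or_pos j with rfl | hj
      · rw [pow_zero, mul_one, mul_comm, Groth.Agent.S3762.result n Y KP PP φP hKP KY PY φY hKY g hg q hq,
          push_pow n Y KP PP φP hKP KY PY φY hKY g hg, one_mul]
        simpa using ha
      · rw [mul_assoc, ← pow_add, show j + n = n + 1 + (j - 1) by omega, pow_add _ (n + 1) (j - 1), hz, zero_mul, mul_zero, map_zero]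
        exact zero_mem _
    | zero => rw [zero_mul, map_zero]; exact zero_mem _
    | add a b _ _ ha hb => rw [add_mul, map_add]; exact add_mem ha hb
    | neg a _ ha => rw [neg_mul, map_neg]; exact neg_mem ha
  · rw [AddSubgroup.mem_comap]
    rcases Nat.eq_zero_or_pos k with rfl | hk
    · rw [LambdaRing.gammaFiltration, if_pos rfl]; exact AddSubgroup.mem_top _
    rw [LambdaRing.gammaFiltration, if_neg (by omega)] at hy
    induction hy using AddSubgroup.closure_induction with
    | mem w hw =>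
      obtain ⟨l, hl, hs, rfl⟩ := hw
      obtain ⟨Q, hQ⟩ := Groth.L12.KRR.exists_pullHom hKP hKY hq
      rw [← hQ, map_list_prod, List.map_map]
      rw [show (l.map (⇑Q ∘ fun p => LambdaRing.gamma p.1 p.2)) =
          ((l.map fun p => (p.1, q p.2)).map fun p => LambdaRing.gamma p.1 p.2) by
        rw [List.map_map]
        exact List.map_congr_left fun p _ => (hQ _).trans (Groth.L12.KRR.pull_gamma hKP hKY hq p.1 p.2)]
      refine Groth.L08.Lambda.prod_mem_gammaFiltration PP _ ?_ k ?_
      · intro p hp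
        obtain ⟨p', hp', rfl⟩ := List.mem_map.1 hp
        rw [Groth.L12.KRR.aug_pull hKP hKY hq]
        exact hl p' hp'
      · simpa [List.map_map, Function.comp_def] using hs
    | zero => rw [map_zero]; exact zero_mem _
    | add a b _ _ ha hb => rw [map_add]; exact add_mem ha hb
    | neg a _ ha => rw [map_neg]; exact neg_mem ha

end Groth.Agent.S3783
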