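import Groth.Statements.S3786
import Groth.Agent.L12.KRes.Fact
import Groth.Agent.L17.BC.Bc0
-- import your own Groth.Agent.* helpers here

set_option autoImplicit false
universe v u
open CategoryTheory CategoryTheory.Limits AlgebraicGeometry
attribute [local instance] HasDerivedCategory.standard
open KRR

namespace Groth.Agent.S3786

/-- Let Y be a connected Noetherian scheme in which every coherent module on Y and on P^n_Y is a
quotient of a finite locally free one, and f = i ≫ p : X ⟶ Y with i : X ⟶ P^n_Y a regular closed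
imbedding (X connected) and p the projection. Let δ_X : K₀(bundles on X) ⟶ K₀(Coh X) and δ_Y be the
maps induced by the inclusions (arguments hX, hY), f_K = p_K ∘ i_K the push-forward on K of bundles
(through models (KX, PX, φX), (KP, PP, φP), (KY, PY, φY)), and g the push-forward on K₀ of coherent
modules, g[F] = Σ_{i ≤ N} (-1)^i [R^i f_* F]. Then δ_Y ∘ f_K = g ∘ δ_X: for x ∈ K₀(bundles on X) and
y ∈ K₀(bundles on Y) with φY y = f_K (φX x), δ_Y y = g (δ_X x). -/
theorem result (n : ℕ) {X Y : Scheme.{u}} [IsNoetherian X] [ConnectedSpace ↥X] [IsNoetherian Y] [ConnectedSpace ↥Y] (hYe : KRR.HasEnoughLocFree Y)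
    (hPe : KRR.HasEnoughLocFree (KRR.PY n Y)) [HasInjectiveResolutions X.Modules]
    (i : X ⟶ KRR.PY n Y) (hi : Mor2.IsRegularClosedImmersion i)
    (hX : ∀ M : X.Modules, FlatMod.IsFinLocFree M → Coh.IsCoh M) (hY : ∀ M : Y.Modules, FlatMod.IsFinLocFree M → Coh.IsCoh M)
    (KX : Type v) [CommRing KX] [LambdaRing.LambdaOps KX] (PX : LambdaRing.PosStructure KX) (φX : SGA6.Kvb X →+ KX) (hKX : KRR.IsModel X KX PX φX)
    (KP : Type v) [CommRing KP] [LambdaRing.LambdaOps KP] (PP : LambdaRing.PosStructure KP) (φP : SGA6.Kvb (KRR.PY n Y) →+ KP) (hKP : KRR.IsModel (KRR.PY n Y) KP PP φP)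
    (KY : Type v) [CommRing KY] [LambdaRing.LambdaOps KY] (PY : LambdaRing.PosStructure KY) (φY : SGA6.Kvb Y →+ KY) (hKY : KRR.IsModel Y KY PY φY)
    (a : KX →+ KP) (ha : KRR.IsPushCl i φX φP a) (b : KP →+ KY) (hb : KRR.IsPushPr n Y φP φY b)
    (N : ℕ) (g : SGA6.Kcoh X →+ SGA6.Kcoh Y) (hg : KRR.IsPushCoh (i ≫ KRR.pr n Y) N g)
    (x : SGA6.Kvb X) (y : SGA6.Kvb Y) (hxy : φY y = b (a (φX x))) :
    SGA6.mapSub (𝟭 Y.Modules) (KRR.vbP Y) (fun M : Y.Modules => Coh.IsCoh M) hY y =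
      g (SGA6.mapSub (𝟭 X.Modules) (KRR.vbP X) (fun M : X.Modules => Coh.IsCoh M) hX x) := by
  haveI := hi.1
  haveI : IsNoetherian (KRR.PY n Y) := Groth.L12.KRes.isNoetherian_PY n Y
  haveI : IsProper (KRR.pr n Y) := Groth.L16.ProjSpace.isProper_toBase n Y
  let δY := SGA6.mapSub (𝟭 Y.Modules) (KRR.vbP Y) (fun M : Y.Modules => Coh.IsCoh M) hY
  let δX := SGA6.mapSub (𝟭 X.Modules) (KRR.vbP X) (fun M : X.Modules => Coh.IsCoh M) hX
  let eY := AddEquiv.ofBijective φY hKY.bijective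
  have hδcl : ∀ (Z : Scheme.{u}) (hZ : ∀ M : Z.Modules, FlatMod.IsFinLocFree M → Coh.IsCoh M) (E : Z.Modules),
      FlatMod.IsFinLocFree E → SGA6.mapSub (𝟭 Z.Modules) (KRR.vbP Z) (fun M : Z.Modules => Coh.IsCoh M) hZ
        (KRR.cl Z E) = KZero.clSub (fun M : Z.Modules => Coh.IsCoh M) E := by
    intro Z hZ E hE
    rw [KRR.cl, Groth.L29.KSub.clSub_of (KRR.vbP Z) hE,
      Groth.L29.KSub.clSub_of (fun M : Z.Modules => Coh.IsCoh M) (hZ E hE)]
    rfl
  have hpd : ∀ M : Y.Modules, Groth.L12.KRes.CohPd M →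
      δY (Groth.L12.KRes.clPd hYe M) = KZero.clSub (fun M : Y.Modules => Coh.IsCoh M) M := by
    intro M hM
    let ι := SGA6.mapSub (𝟭 Y.Modules) (fun M : Y.Modules => Groth.L12.KRes.CohPd M)
      (fun M : Y.Modules => Coh.IsCoh M) (fun M h => h.1)
    have h1 : ι.comp (Groth.L12.KRes.toPd hYe) = δY := Groth.L29.KSub.hom_ext fun E hE => by
      show ι (Groth.L12.KRes.toPd hYe (KRR.cl Y E)) = δY (KRR.cl Y E)
      rw [Groth.L12.KRes.toPd_cl hYe hE, hδcl Y hY E hE,
        Groth.L29.KSub.clSub_of (fun M : Y.Modules => Groth.L12.KRes.CohPd M) ((Groth.L12.KRes.hyp hYe).le E hE),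
        Groth.L29.KSub.clSub_of (fun M : Y.Modules => Coh.IsCoh M) (hY E hE)]
      rfl
    rw [← h1, AddMonoidHom.comp_apply, Groth.L12.KRes.toPd_clPd,
      Groth.L29.KSub.clSub_of (fun M : Y.Modules => Groth.L12.KRes.CohPd M) hM,
      Groth.L29.KSub.clSub_of (fun M : Y.Modules => Coh.IsCoh M) hM.1]
    rfl
  have key : ((δY.comp eY.symm.toAddMonoidHom).comp (b.comp (a.comp φX))) = g.comp δX := by
    refine Groth.L12.KRes.hom_ext_twists i fun F hF => ?_
    have hamp := Groth.L12.KRes.isRelAmple_O1 i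
    have hL := Groth.L12.KRes.isInvertible_O1 i
    obtain ⟨N₁, hN₁⟩ := Groth.L12.KRes.exists_regular_push i rfl hamp hL hF
    obtain ⟨N₂, hN₂⟩ := Groth.L12.KRes.exists_vanishing (i ≫ KRR.pr n Y) hamp hL (hX F hF)
    refine ⟨max N₁ N₂, fun k hk => ?_⟩
    let G := CohB1.tensorMod F (CohB1.tensorPow (Groth.L12.KRes.O1 i) k)
    have hG : FlatMod.IsFinLocFree G := Groth.L29.DC.isFinLocFree_tensor hF
      (Groth.L16.Existence.isFinLocFree_of_isInvertible (Groth.L18.Ample.isInvertible_tensorPow hL k))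
    obtain ⟨hh, hb'⟩ := Groth.L12.KRes.push_apply_factor i hi hPe hYe rfl φX φP φY ha hb hG
      (hN₁ k ((le_max_left _ _).trans hk))
    show δY (eY.symm (b (a (φX (KRR.cl X G))))) = g (δX (KRR.cl X G))
    rw [hb', show eY.symm (φY (Groth.L12.KRes.clPd hYe ((Scheme.Modules.pushforward (i ≫ KRR.pr n Y)).obj G))) =
      Groth.L12.KRes.clPd hYe ((Scheme.Modules.pushforward (i ≫ KRR.pr n Y)).obj G) from eY.symm_apply_apply _,
      hpd _ hh, hδcl X hX G hG, hg.2 G (hX G hG), Finset.sum_eq_single 0]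
    · obtain ⟨e0⟩ := Groth.L17.BC.Classes.nonempty_Rpush_zero_iso (i ≫ KRR.pr n Y) G
      rw [pow_zero, one_smul]
      haveI : ObjectProperty.IsClosedUnderIsomorphisms (fun M : Y.Modules => Coh.IsCoh M) :=
        ⟨fun e h => Groth.L16.CohSupport.isCoh_of_iso e h⟩
      exact Groth.L29.KSub.clSub_iso _ e0.symm (isZero_zero _)
        (hY _ (Groth.L29.LocFree.of_isZero (isZero_zero _))) hh.1
    · intro q _ hq
      obtain ⟨e⟩ := Groth.L17.nonempty_toAb_Rpush_iso (i ≫ KRR.pr n Y) G q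
      have hz : IsZero ((Coh.Rpush (i ≫ KRR.pr n Y) q).obj G) := Groth.L17.PushQCoh.isZero_of_toAb
        ((hN₂ k ((le_max_right _ _).trans hk) q (Nat.one_le_iff_ne_zero.2 hq)).of_iso e)
      rw [Groth.L29.KSub.clSub_zero _ hz (hY _ (Groth.L29.LocFree.of_isZero hz)), smul_zero]
    · exact fun h => (h (Finset.mem_range.2 (Nat.succ_pos N))).elim
  have h2 := DFunLike.congr_fun key x
  simp only [AddMonoidHom.comp_apply, ← hxy] at h2
  rwa [show eY.symm.toAddMonoidHom (φY y) = y from eY.symm_apply_apply y] at h2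

end Groth.Agent.S3786
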