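import Groth.Statements.S3787
import Groth.Agent.L12.RR.Def.CycleClass
import Groth.Agent.L12.RR.GRR.GrMap
-- import your own Groth.Agent.* helpers here

set_option autoImplicit false
universe v u
open CategoryTheory CategoryTheory.Limits AlgebraicGeometry
attribute [local instance] HasDerivedCategory.standard
open KRR

set_option maxHeartbeats 400000
set_option backward.isDefEq.respectTransparency false
set_option backward.isDefEq.respectTransparency.types false

namespace Groth.Agent.S3787

/-- The key step of its last assertion: let X be a connected Noetherian scheme with an ample invertible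
module, all of whose local rings are regular, and (K, P, φ) a model of K(X); let δ : K₀(bundles) ⟶
K₀(Coh X) be induced by the inclusion (argument hX). Let ι : V ⟶ X be a closed immersion with V
integral, whose generic point maps to a point ξ with dim O_{X,ξ} = n (V has codimension n). Then
[O_V] ∈ ℚF^n K(X): there are N ≥ 1 and z ∈ K₀(bundles) with φ z ∈ F^n K(X) (γ-filtration) and N ·
[ι_* O_V] = δ z in K₀(Coh X). -/
theorem result (X : Scheme.{u}) [IsNoetherian X] [ConnectedSpace ↥X]
    (L : X.Modules) (hL : CohB1.IsAmple L) (hreg : ∀ x : X, IsRegularLocalRing (X.presheaf.stalk x))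
    (K : Type v) [CommRing K] [LambdaRing.LambdaOps K] (P : LambdaRing.PosStructure K) (φ : SGA6.Kvb X →+ K) (hK : KRR.IsModel X K P φ)
    (hX : ∀ M : X.Modules, FlatMod.IsFinLocFree M → Coh.IsCoh M)
    {V : Scheme.{u}} (ι : V ⟶ X) [IsClosedImmersion ι] [IsIntegral V] (n : ℕ)
    (hn : ringKrullDim (X.presheaf.stalk (ι (genericPoint V))) = n) :
    ∃ (N : ℕ) (z : SGA6.Kvb X), 1 ≤ N ∧ φ z ∈ LambdaRing.gammaFiltration P n ∧
      N • KZero.clSub (fun M : X.Modules => Coh.IsCoh M) ((Scheme.Modules.pushforward ι).obj (Coh.structureModule V)) =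
        SGA6.mapSub (𝟭 X.Modules) (KRR.vbP X) (fun M : X.Modules => Coh.IsCoh M) hX z := by
  haveI : IsLocallyNoetherian V := LocallyOfFiniteType.isLocallyNoetherian ι
  haveI : IsIntegral X := Groth.L21.NormalTotal.isIntegral_of_connected fun x => by
    haveI := hreg x
    exact Groth.L01.isDomain_of_regular _
  let T : TopologicalSpace.Closeds X := ⟨Set.range ι, ι.isClosedEmbedding.isClosed_range⟩
  have hT : ∀ t ∈ (T : Set X), (n : WithBot ℕ∞) ≤ ringKrullDim (X.presheaf.stalk t) := by
    rintro _ ⟨w, rfl⟩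
    rw [← hn]
    exact Groth.L18.Codim1.ringKrullDim_stalk_le_of_specializes
      ((genericPoint_specializes w).map ι.continuous)
  have hc : Coh.IsCoh ((Coh.push ι).obj (Coh.structureModule V)) :=
    Groth.L16.CohClosedPush.isCoh_push ι Groth.L16.CohClosedPush.isCoh_structure
  obtain ⟨N, z₀, hN, hz₀, he⟩ := Groth.L12.RR.Loc.S_le_ratF ⟨L, hL⟩ hreg n T hT
    (Groth.L13.KcohNilp.cl_mem hc (Groth.L16.CohClosedPush.support_push_subset ι _))
  obtain ⟨z, rfl⟩ := Groth.L12.Kvb.toKR_bijective.2 z₀
  obtain ⟨e, he', hl, ha⟩ := Groth.L12.KBun.exists_modelEquiv Groth.L12.Kvb.isModel hK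
  have hz : e (Groth.L12.Kvb.toKR X z) = φ z :=
    DFunLike.congr_fun (Groth.L29.KSub.hom_ext (φ := e.toAddMonoidHom.comp (Groth.L12.Kvb.toKR X))
      fun F hF => he' F hF) z
  refine ⟨N, z, hN, ?_, ?_⟩
  · rw [← hz]
    exact Groth.L12.RR.GRR.map_gammaFiltration e hl ha hz₀
  · exact he.trans (Groth.L12.RR.Loc.dlt_eq hX z)

end Groth.Agent.S3787
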