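import Groth.Statements.S3790
import Groth.Agent.S3749
import Groth.Agent.S3747
import Groth.Agent.S3748
import Groth.Agent.L12.KRR.Pull
import Groth.Agent.L12.KRes.PushReg
-- import your own Groth.Agent.* helpers here

set_option autoImplicit false
universe v u
open CategoryTheory CategoryTheory.Limits AlgebraicGeometry
attribute [local instance] HasDerivedCategory.standard
open KRR

set_option maxHeartbeats 400000
set_option backward.isDefEq.respectTransparency false
set_option backward.isDefEq.respectTransparency.types false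

namespace Groth.Agent.S3790

theorem isNoetherian_closed {A B : Scheme.{u}} [IsNoetherian B] (i : A ⟶ B) [IsClosedImmersion i] : IsNoetherian A := by
  haveI : IsLocallyNoetherian A := LocallyOfFiniteType.isLocallyNoetherian i
  haveI : CompactSpace A := QuasiCompact.compactSpace_of_compactSpace i
  exact {}


/-- Let X be a connected Noetherian scheme on which every coherent module is a quotient of a finite
locally free one, and i : Y ⟶ X, j : Z ⟶ X regular closed imbeddings (Y, Z connected) meeting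
regularly: with W = Y ×_X Z and projections h : W ⟶ Y, g : W ⟶ Z, the base change g is a regular
closed imbedding of the same codimension as i (conormal modules of i and g finite locally free of
the same rank), W connected. With models and push-forwards i_K, j_K, (g ≫ j)_K: [O_Y] · [O_Z] =
[O_{Y ∩ Z}] in K(X), i.e. i_K(1) · j_K(1) = (g ≫ j)_K(1). -/
theorem result {X Y Z W : Scheme.{u}} [IsNoetherian X] [ConnectedSpace ↥X] (hXe : KRR.HasEnoughLocFree X)
    (i : Y ⟶ X) (hi : Mor2.IsRegularClosedImmersion i) [ConnectedSpace ↥Y]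
    (j : Z ⟶ X) (hj : Mor2.IsRegularClosedImmersion j) [ConnectedSpace ↥Z]
    (h : W ⟶ Y) (g : W ⟶ Z) (hsq : IsPullback g h j i) (hg : Mor2.IsRegularClosedImmersion g) [ConnectedSpace ↥W]
    (d : ℕ) (hci : FlatMod.IsFinLocFreeOfRank d (Omega.conormal i)) (hcg : FlatMod.IsFinLocFreeOfRank d (Omega.conormal g))
    (KX : Type v) [CommRing KX] [LambdaRing.LambdaOps KX] (PX : LambdaRing.PosStructure KX) (φX : SGA6.Kvb X →+ KX) (hKX : KRR.IsModel X KX PX φX)
    (KY : Type v) [CommRing KY] [LambdaRing.LambdaOps KY] (PY : LambdaRing.PosStructure KY) (φY : SGA6.Kvb Y →+ KY) (hKY : KRR.IsModel Y KY PY φY)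
    (KZ : Type v) [CommRing KZ] [LambdaRing.LambdaOps KZ] (PZ : LambdaRing.PosStructure KZ) (φZ : SGA6.Kvb Z →+ KZ) (hKZ : KRR.IsModel Z KZ PZ φZ)
    (KW : Type v) [CommRing KW] [LambdaRing.LambdaOps KW] (PW : LambdaRing.PosStructure KW) (φW : SGA6.Kvb W →+ KW) (hKW : KRR.IsModel W KW PW φW)
    (a : KY →+ KX) (ha : KRR.IsPushCl i φY φX a) (b : KZ →+ KX) (hb : KRR.IsPushCl j φZ φX b)
    (c : KW →+ KX) (hc : KRR.IsPushCl (g ≫ j) φW φX c) :
    a 1 * b 1 = c 1 := by
  haveI : IsClosedImmersion i := hi.1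
  haveI : IsClosedImmersion j := hj.1
  haveI : IsClosedImmersion g := hg.1
  haveI : IsNoetherian Y := Groth.Agent.S3790.isNoetherian_closed i
  haveI : IsNoetherian Z := Groth.Agent.S3790.isNoetherian_closed j
  haveI : IsNoetherian W := Groth.Agent.S3790.isNoetherian_closed (g ≫ j)
  have hZe := Groth.L12.KRes.hasEnough_of_closed j hXe
  obtain ⟨pj, hpj⟩ := Groth.L12.KRR.exists_isPull (φX := φZ) (φY := φX) j hKX.bijective
  obtain ⟨ph, hph⟩ := Groth.L12.KRR.exists_isPull (φX := φW) (φY := φY) h hKY.bijective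
  obtain ⟨gK, hgK, -⟩ := Groth.L12.KRes.existsUnique_isPushCl g hg hZe φW φZ hKW.bijective
  have hbc : pj (a 1) = gK (ph 1) := Groth.Agent.S3749.result i j g h hsq hi hg d hci hcg hZe hXe KW PW φW hKW
    KZ PZ φZ hKZ KY PY φY hKY KX PX φX hKX pj hpj ph hph a ha gK hgK 1
  have hcomp : c = b.comp gK := Groth.Agent.S3748.result g j hg hj hZe hXe KW PW φW hKW KZ PZ φZ hKZ
    KX PX φX hKX gK hgK b hb c hc
  have hpf := Groth.Agent.S3747.result j hj hXe KZ PZ φZ hKZ KX PX φX hKX pj hpj b hb 1 (a 1)
  rw [one_mul, hbc, Groth.L12.KRR.pull_one hKW hKY hph] at hpf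
  rw [hcomp, mul_comm, ← hpf]
  rfl

end Groth.Agent.S3790
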