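
import Groth.Statements.S3791
import Groth.Agent.L22.Lambda
import Mathlib.RingTheory.Nilpotent.Basic
import Mathlib.Tactic.LinearCombination

set_option autoImplicit false
universe v u
open CategoryTheory CategoryTheory.Limits AlgebraicGeometry
attribute [local instance] HasDerivedCategory.standard
open KRR

namespace Groth.Agent.S3791

/-- Let K be a λ-ring with positive structure P and u an ample line element (for every x, u^n x is a
positive element minus a natural number for all large n). Then for every line element v, the element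
v - 1 is nilpotent. -/
theorem result (K : Type v) [CommRing K] [LambdaRing.LambdaOps K] (P : LambdaRing.PosStructure K)
    (u : K) (hu : KRR.IsAmpleElt P u) (w : K) (hw : P.IsLine w) : IsNilpotent (w - 1) := by
  have key : ∀ w : K, P.IsLine w → ∀ (m : ℕ) (e : K), e ∈ P.pos → w + e = (m : K) →
      IsNilpotent (w - 1) := by
    intro a ha m e he hsum
    have hm : P.aug e + 1 = m := by
      have := congrArg P.aug hsum
      rw [map_add, map_natCast, ha.2] at this
      omega
    have h := congrArg LambdaRing.lamSeries hsum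
    rw [Groth.L22.Lambda.lamSeries_add, Groth.L22.Lambda.lamSeries_of_isLine P ha,
      Groth.L22.Lambda.lamSeries_natCast P] at h
    -- both sides are polynomials, evaluate at `-a⁻¹`
    let Q : Polynomial K :=
      ∑ i ∈ Finset.range m, Polynomial.C (LambdaRing.LambdaOps.lam i e) * Polynomial.X ^ i
    have hQ : LambdaRing.lamSeries e = (Q : PowerSeries K) := by
      ext i
      rw [Groth.L22.Lambda.coeff_lamSeries, Polynomial.coeff_coe]
      simp only [Q, Polynomial.finsetSum_coeff, Polynomial.coeff_C_mul_X_pow, Finset.sum_ite_eq,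
        Finset.mem_range]
      split_ifs with hi
      · rfl
      · exact P.lam_eq_zero e he i (by omega)
    have hpoly : (1 + Polynomial.C a * Polynomial.X) * Q =
        (1 + Polynomial.X) ^ m := by
      apply Polynomial.coe_inj.1
      push_cast
      rw [← hQ]
      exact h
    obtain ⟨b, hb⟩ := isUnit_iff_exists_inv.1 (Groth.L22.Lambda.isUnit_of_isLine P ha)
    have h0 := congrArg (Polynomial.eval (-b)) hpoly
    simp only [Polynomial.eval_mul, Polynomial.eval_add, Polynomial.eval_one, Polynomial.eval_C,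
      Polynomial.eval_X, Polynomial.eval_pow] at h0
    rw [show 1 + a * -b = 0 by rw [mul_neg, hb, add_neg_cancel], zero_mul] at h0
    refine ⟨m, ?_⟩
    rw [show a - 1 = a * (1 + -b) by rw [mul_add, mul_neg, hb]; ring, mul_pow, ← h0, mul_zero]
  have big : ∀ v : K, P.IsLine v → ∃ n₀, ∀ n, n₀ ≤ n → IsNilpotent (u ^ n * v - 1) := by
    intro v hv
    obtain ⟨n₀, hn₀⟩ := hu.2 (-v)
    refine ⟨n₀, fun n hn => ?_⟩
    obtain ⟨e, m, he, hem⟩ := hn₀ n hn
    exact key _ (Groth.L22.Lambda.isLine_mul P (Groth.L22.Lambda.isLine_pow P hu.1 n) hv) m e he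
      (by linear_combination -hem)
  obtain ⟨n₁, h₁⟩ := big 1 (Groth.L22.Lambda.isLine_one P)
  obtain ⟨n₂, h₂⟩ := big w hw
  have e₁ := h₁ (n₁ + n₂) (by omega)
  have e₂ := h₂ (n₁ + n₂) (by omega)
  rw [mul_one] at e₁
  have hun : IsUnit (u ^ (n₁ + n₂)) := (Groth.L22.Lambda.isUnit_of_isLine P hu.1).pow _
  have hd : IsNilpotent (u ^ (n₁ + n₂) * (w - 1)) := by
    rw [show u ^ (n₁ + n₂) * (w - 1) =
      (u ^ (n₁ + n₂) * w - 1) - (u ^ (n₁ + n₂) - 1) by ring]
    exact (Commute.all _ _).isNilpotent_sub e₂ e₁
  obtain ⟨N, hN⟩ := hd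
  rw [mul_pow] at hN
  exact ⟨N, ((hun.pow N).mul_right_eq_zero).1 hN⟩

end Groth.Agent.S3791
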