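
import Groth.Statements.S3792
import Groth.Agent.L22.Adams
import Groth.Agent.L22.Sigma
import Mathlib.Algebra.Ring.GeomSum

set_option autoImplicit false
universe v u
open CategoryTheory CategoryTheory.Limits AlgebraicGeometry
attribute [local instance] HasDerivedCategory.standard
open KRR

namespace Groth.Agent.S3792

/-- Let K be a λ-ring with positive structure having the splitting property, e a positive element and j
≥ 1. Then ψ^j(λ_{-1}(e)) = λ_{-1}(e) · θ^j(e), where λ_{-1}(e) = Σ_{i ≤ ε(e)} (-1)^i λ^i(e), ψ^j is
the Adams operation and θ^j(e) is Bott's cannibalistic class (the universal polynomial in the λ^i(e)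
which is Π (1 + u_i + ⋯ + u_i^{j-1}) on a splitting e = Σ u_i). -/
theorem result (K : Type v) [CommRing K] [LambdaRing.LambdaOps K] (P : LambdaRing.PosStructure K) (hK : LambdaRing.HasSplitting K P) (e : K) (he : e ∈ P.pos) (j : ℕ) (hj : 1 ≤ j) :
    LambdaRing.adams P j (KRR.lamAlt P e) = KRR.lamAlt P e * KRR.bott P j e := by
  obtain ⟨L, _, _, Q, f, s, hf, -, hs, -, hcard, hlam⟩ :=
    Groth.L22.Lambda.exists_splitting P hK he
  have hm : (P.aug e).toNat = Multiset.card s := by rw [← hcard, Int.toNat_natCast]
  apply hf.injective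
  rw [Groth.L22.Lambda.map_adams hf, map_mul]
  have h1 : f (KRR.lamAlt P e) = (s.map fun u => 1 - u).prod := by
    rw [KRR.lamAlt, hm, map_sum, ← Groth.L22.Lambda.alt_esymm]
    exact Finset.sum_congr rfl fun i _ => by rw [map_mul, map_pow, map_neg, map_one, hlam]
  have h2 : LambdaRing.adams Q j ((s.map fun u => 1 - u).prod) =
      (s.map fun u => 1 - u ^ j).prod := by
    rw [← Groth.L22.Lambda.alt_esymm]
    change Groth.L22.Lambda.adamsHom Q j _ = _
    rw [map_sum, show (s.map fun u => 1 - u ^ j) = ((s.map fun u => u ^ j).map fun u => 1 - u) by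
      rw [Multiset.map_map]; rfl, ← Groth.L22.Lambda.alt_esymm, Multiset.card_map]
    refine Finset.sum_congr rfl fun i _ => ?_
    have : ∀ x : L, (-1 : L) ^ i * x = ((-1 : ℤ) ^ i) • x := fun x => by simp [zsmul_eq_mul]
    rw [this, this, map_zsmul]
    exact congrArg _ (Groth.L22.Lambda.adams_esymm Q hs i j)
  rw [h1, h2]
  have h3 : f (KRR.bott P j e) = (s.map fun u => ∑ k ∈ Finset.range j, u ^ k).prod := by
    have aux : ∀ (m : ℕ) (_ : Multiset.card s = m),
        f (MvPolynomial.aeval (fun i : Fin m => LambdaRing.LambdaOps.lam (i.1 + 1) e)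
          (KRR.bottPoly j m)) = (s.map fun u => ∑ k ∈ Finset.range j, u ^ k).prod := by
      intro m hm'
      obtain ⟨v, hv⟩ : ∃ v : Fin m → L, Multiset.map v Finset.univ.val = s := by
        subst hm'
        exact ⟨fun i => s.toList.get (i.cast (Multiset.length_toList s).symm), by
          rw [Fin.univ_val_map]; simp only [List.get_eq_getElem, Fin.val_cast]
          conv_rhs => rw [← Multiset.coe_toList s]
          exact congrArg _ (List.ext_getElem (by simp) (by simp))⟩
      have e1 : f (MvPolynomial.aeval (fun i : Fin m => LambdaRing.LambdaOps.lam (i.1 + 1) e)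
          (KRR.bottPoly j m)) = MvPolynomial.aeval v (MvPolynomial.aeval
            (fun i : Fin m => MvPolynomial.esymm (Fin m) ℤ (i + 1)) (KRR.bottPoly j m)) := by
        have := MvPolynomial.comp_aeval_apply (R := ℤ)
          (f := fun i : Fin m => LambdaRing.LambdaOps.lam (i.1 + 1) e) f.toIntAlgHom
          (KRR.bottPoly j m)
        refine this.trans ?_
        rw [MvPolynomial.comp_aeval_apply]
        congr 1
        congr 1
        funext i
        change f _ = _
        rw [hlam, MvPolynomial.aeval_esymm_eq_multiset_esymm, hv]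
      rw [e1, ← MvPolynomial.esymmAlgHom_apply]
      have e2 : (MvPolynomial.esymmAlgHom (Fin m) ℤ m (KRR.bottPoly j m)).val =
          KRR.bottSym j m :=
        congrArg Subtype.val
          ((MvPolynomial.esymmAlgEquiv (Fin m) ℤ (Fintype.card_fin m)).apply_symm_apply
            ⟨KRR.bottSym j m, KRR.bottSym_isSymmetric j m⟩)
      rw [e2, KRR.bottSym, map_prod, ← hv, Multiset.map_map]
      simp only [map_sum, map_pow, MvPolynomial.aeval_X]
      rfl
    exact aux _ hm.symm
  rw [h3, ← Multiset.prod_map_mul]
  exact congrArg Multiset.prod (Multiset.map_congr rfl fun u _ => (mul_neg_geom_sum u j).symm)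

end Groth.Agent.S3792
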