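import Groth.Statements.S3793
import Groth.Agent.L12.RR.GRR.TEl
import Groth.Agent.L12.RR.GRR.GrMap
import Groth.Agent.L12.KBun.Transfer
-- import your own Groth.Agent.* helpers here

set_option autoImplicit false
universe v u
open CategoryTheory CategoryTheory.Limits AlgebraicGeometry
attribute [local instance] HasDerivedCategory.standard
open KRR

set_option maxHeartbeats 400000
set_option backward.isDefEq.respectTransparency false
set_option backward.isDefEq.respectTransparency.types false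

namespace Groth.Agent.S3793

/-- Let S be affine Noetherian, Y connected and quasi-projective over S, and f : X ⟶ Y (X connected)
with two factorizations f = i₁ ≫ p = i₂ ≫ p' through regular closed imbeddings i₁ : X ⟶ P^n_Y, i₂ :
X ⟶ P^m_Y (conormal modules C₁, C₂ finite locally free of ranks c₁, c₂) and the projections. With a
model of K(X), the tangent element computed from either factorization is the same: ((n+1)[i₁^*O(1)]
- 1) - [C₁^∨] = ((m+1)[i₂^*O(1)] - 1) - [C₂^∨] (duals as sheaf Hom into O_X; [T_{P/Y}] = (n+1)[O(1)]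
- 1 by the Euler sequence). -/
theorem result (S : Scheme.{u}) [IsAffine S] [IsNoetherian S] (n m : ℕ) {X Y : Scheme.{u}} [IsNoetherian Y] [ConnectedSpace ↥Y] (qY : Y ⟶ S) (hqY : KRR.IsQProjOver qY)
    [ConnectedSpace ↥X] (f : X ⟶ Y)
    (i₁ : X ⟶ KRR.PY n Y) (h₁ : Mor2.IsRegularClosedImmersion i₁) (hf₁ : i₁ ≫ KRR.pr n Y = f) (c₁ : ℕ)
    (hC₁ : FlatMod.IsFinLocFreeOfRank c₁ (Omega.conormal i₁)) [DCoh.HasSheafHom (Omega.conormal i₁)]
    (i₂ : X ⟶ KRR.PY m Y) (h₂ : Mor2.IsRegularClosedImmersion i₂) (hf₂ : i₂ ≫ KRR.pr m Y = f) (c₂ : ℕ)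
    (hC₂ : FlatMod.IsFinLocFreeOfRank c₂ (Omega.conormal i₂)) [DCoh.HasSheafHom (Omega.conormal i₂)]
    (KX : Type v) [CommRing KX] [LambdaRing.LambdaOps KX] (PX : LambdaRing.PosStructure KX) (φX : SGA6.Kvb X →+ KX) (hKX : KRR.IsModel X KX PX φX) :
    ((n + 1 : ℕ) : KX) * φX (KRR.cl X ((Scheme.Modules.pullback i₁).obj (Twist.twistOver n Y 1))) - 1
        - φX (KRR.cl X ((DCoh.sheafHom (Omega.conormal i₁)).obj (Coh.structureModule X))) =
      ((m + 1 : ℕ) : KX) * φX (KRR.cl X ((Scheme.Modules.pullback i₂).obj (Twist.twistOver m Y 1))) - 1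
        - φX (KRR.cl X ((DCoh.sheafHom (Omega.conormal i₂)).obj (Coh.structureModule X))) := by
  haveI := Groth.L12.KRes.isNoetherian_PY n Y
  haveI := h₁.1
  haveI := h₂.1
  haveI : IsLocallyNoetherian X := LocallyOfFiniteType.isLocallyNoetherian i₁
  haveI : CompactSpace X := QuasiCompact.compactSpace_of_compactSpace i₁
  haveI : IsNoetherian X := {}
  obtain ⟨eX, heX, -, -⟩ := Groth.L12.KBun.exists_modelEquiv Groth.L12.Kvb.isModel hKX
  have hX : ∀ z, eX (Groth.L12.Kvb.toKR X z) = φX z := fun z =>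
    DFunLike.congr_fun (Groth.L29.KSub.hom_ext (φ := eX.toAddMonoidHom.comp (Groth.L12.Kvb.toKR X))
      fun F hF => heX F hF) z
  have hd : ∀ {r : ℕ} {M : X.Modules}, FlatMod.IsFinLocFreeOfRank r M → ∀ [DCoh.HasSheafHom M],
      φX (KRR.cl X ((DCoh.sheafHom M).obj (Coh.structureModule X))) =
        eX (Groth.L12.KBunQ.kc X (RefHull.dual M)) := fun {r M} hM _ =>
    ((hX _).trans (congrArg φX (Groth.L12.Kvb.cl_iso (Groth.L17.SheafHomCoh.isoHomSh M
      (Coh.structureModule X)).symm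
        (Groth.L12.DualVb.isFinLocFree_dual (Groth.L18.KRRAmple.isFinLocFree_of_rank hM))))).symm
  have h := congrArg eX (Groth.L12.RR.GRR.tangent_indep f i₁ hf₁ hC₁ i₂ hf₂ hC₂)
  simp only [map_sub, map_mul, map_one, map_natCast, ← hd hC₁, ← hd hC₂] at h
  simp only [Groth.L12.KBunQ.kc, hX] at h
  exact h

end Groth.Agent.S3793
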