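import Groth.Statements.S3795
import Groth.Agent.L08.Lambda.Inv

set_option autoImplicit false
universe v u
open CategoryTheory CategoryTheory.Limits AlgebraicGeometry
attribute [local instance] HasDerivedCategory.standard
open KRR

namespace Groth.Agent.S3795

/-- Let K be a λ-ring with positive structure having the splitting property, j ≥ 2, n ≥ 0 and x ∈ K. If
ψ^j(x) - j^n x lies in ℚF^{n+1} (some positive multiple lies in F^{n+1}, γ-filtration), then x lies
in ℚF^n (some positive multiple of x lies in F^n). -/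
theorem result (K : Type v) [CommRing K] [LambdaRing.LambdaOps K] (P : LambdaRing.PosStructure K) (hK : LambdaRing.HasSplitting K P) (j : ℕ) (hj : 2 ≤ j) (n : ℕ) (x : K)
    (hx : ∃ N : ℕ, 1 ≤ N ∧ (N : K) * (LambdaRing.adams P j x - (j : K) ^ n * x) ∈ LambdaRing.gammaFiltration P (n + 1)) :
    ∃ N : ℕ, 1 ≤ N ∧ (N : K) * x ∈ LambdaRing.gammaFiltration P n := by
  obtain ⟨N₀, hN₀, h₀⟩ := hx
  suffices ∀ m ≤ n, ∃ N : ℕ, 1 ≤ N ∧ (N : K) * x ∈ LambdaRing.gammaFiltration P m from this n le_rfl
  intro m
  induction m with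
  | zero => exact fun _ => ⟨1, le_rfl, by simp [LambdaRing.gammaFiltration]⟩
  | succ m ih =>
    intro hm
    obtain ⟨N, hN, h⟩ := ih (by omega)
    have h1 := Groth.L08.Lambda.adams_sub_mem P hK (k := j) (by omega) m _ h
    have h2 := Groth.L08.Lambda.smul_mem_gammaFiltration P (N : K) _
      (Groth.L08.Lambda.gammaFiltration_antitone P (show m + 1 ≤ n + 1 by omega) h₀)
    have h3 := sub_mem (Groth.L08.Lambda.smul_mem_gammaFiltration P (N₀ : K) _ h1) h2
    have hadd : LambdaRing.adams P j ((N : K) * x) = (N : K) * LambdaRing.adams P j x := by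
      rw [← nsmul_eq_mul, ← nsmul_eq_mul]
      exact map_nsmul (Groth.L22.Lambda.adamsHom P j) N x
    have hlt : j ^ m < j ^ n := Nat.pow_lt_pow_right (by omega) (by omega)
    refine ⟨N₀ * N * (j ^ n - j ^ m), by
      have : 0 < N₀ * N * (j ^ n - j ^ m) := Nat.mul_pos (Nat.mul_pos (by omega) (by omega)) (by omega)
      omega, ?_⟩
    rw [hadd] at h3
    convert h3 using 1
    push_cast [Nat.cast_sub hlt.le]
    ring

end Groth.Agent.S3795
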