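import Groth.Agent.L17.BC.Efface
import Groth.Agent.L29.K.Sub
import Groth.Agent.L18.LocFreeTilde
import Groth.Agent.L20.DescLocus.Main
import Groth.Statements.S3797
-- import your own Groth.Agent.* helpers here

set_option autoImplicit false
universe v u
open CategoryTheory CategoryTheory.Limits AlgebraicGeometry
attribute [local instance] HasDerivedCategory.standard
open KRR

namespace Groth.Agent.S3797

/-- For a morphism f : X ⟶ Y of connected Noetherian schemes and models (KX, PX, φX), (KY, PY, φY) of
K(X) and K(Y), there is a unique additive map g : K(Y) ⟶ K(X) with g[E] = [f^*E] for every finite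
locally free O_Y-module E (the pull-back f^K). (The published treatment adds that f^K is a
homomorphism of λ-rings; that is not asserted here.) -/
theorem result {X Y : Scheme.{u}} (f : X ⟶ Y) [IsNoetherian X] [ConnectedSpace ↥X] [IsNoetherian Y] [ConnectedSpace ↥Y]
    (KX : Type v) [CommRing KX] [LambdaRing.LambdaOps KX] (PX : LambdaRing.PosStructure KX) (φX : SGA6.Kvb X →+ KX) (hKX : KRR.IsModel X KX PX φX)
    (KY : Type v) [CommRing KY] [LambdaRing.LambdaOps KY] (PY : LambdaRing.PosStructure KY) (φY : SGA6.Kvb Y →+ KY) (hKY : KRR.IsModel Y KY PY φY) :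
    ∃! g : KY →+ KX, KRR.IsPull f φY φX g := by

  let P : ObjectProperty X.Modules := fun M => FlatMod.IsFinLocFree M
  let f' : Y.Modules → KX := fun E => φX (KRR.cl X ((Scheme.Modules.pullback f).obj E))
  have hadd : ∀ S : ShortComplex Y.Modules, S.ShortExact → FlatMod.IsFinLocFree S.X₁ → FlatMod.IsFinLocFree S.X₂ →
      FlatMod.IsFinLocFree S.X₃ → f' S.X₂ = f' S.X₁ + f' S.X₃ := by
    intro S hS h1 h2 h3
    have hsplit : Groth.L17.BC.Efface.StalkSplit S.f := fun x => by
      have hSx := hS.map_of_exact (Groth.L00.Stk.F Y x)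
      haveI : Module.Free (Y.presheaf.stalk x) ((S.map (Groth.L00.Stk.F Y x)).X₃) :=
        Groth.L18.LFP.free_stalk S.X₃ h3 x
      haveI : Module.Projective (Y.presheaf.stalk x) ((S.map (Groth.L00.Stk.F Y x)).X₃) := Module.Projective.of_free
      haveI : Projective ((S.map (Groth.L00.Stk.F Y x)).X₃) := (IsProjective.iff_projective _).1 ‹_›
      exact hSx.splittingOfProjective.isSplitMono_f
    have hT := Groth.L17.BC.Efface.shortExact_pullback hS hsplit f
    have := congrArg φX (Groth.L29.KSub.clSub_shortExact P hT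
      (Groth.L20.DescLocus.isFinLocFree_pullback f h1) (Groth.L20.DescLocus.isFinLocFree_pullback f h2)
      (Groth.L20.DescLocus.isFinLocFree_pullback f h3))
    rw [map_add] at this
    exact this
  let e := AddEquiv.ofBijective φY hKY.bijective
  refine ⟨(Groth.L29.KSub.lift (P := fun M : Y.Modules => FlatMod.IsFinLocFree M) f' hadd).comp e.symm.toAddMonoidHom,
    fun E hE => ?_, fun g hg => ?_⟩
  · show Groth.L29.KSub.lift f' hadd (e.symm (e (KRR.cl Y E))) = _
    rw [e.symm_apply_apply]
    exact Groth.L29.KSub.lift_clSub f' hadd hE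
  · refine AddMonoidHom.ext fun y => ?_
    obtain ⟨z, rfl⟩ := hKY.bijective.2 y
    show g (φY z) = Groth.L29.KSub.lift f' hadd (e.symm (e z))
    rw [e.symm_apply_apply]
    refine DFunLike.congr_fun (Groth.L29.KSub.hom_ext (φ := g.comp φY) (ψ := Groth.L29.KSub.lift f' hadd) fun E hE => ?_) z
    exact (hg E hE).trans (Groth.L29.KSub.lift_clSub f' hadd hE).symm

end Groth.Agent.S3797
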