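import Groth.Statements.S3801
import Groth.Agent.S3769
import Groth.Agent.S3775
import Groth.Agent.L12.RR.Def.ExcessGr
-- import your own Groth.Agent.* helpers here

set_option autoImplicit false
universe v u
open CategoryTheory CategoryTheory.Limits AlgebraicGeometry
attribute [local instance] HasDerivedCategory.standard
open KRR

set_option maxHeartbeats 400000
set_option backward.isDefEq.respectTransparency false
set_option backward.isDefEq.respectTransparency.types false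

namespace Groth.Agent.S3801

/-- Graded excess intersection formula, for a regular imbedding. Let S be an affine Noetherian scheme;
Y, Y₁ connected Noetherian schemes quasi-projective over S; f : X → Y and f₁ : X₁ → Y₁ regular
closed imbeddings with X, X₁ connected and with conormal sheaves C, C₁ locally free of ranks d and
d₁ ≤ d, fitting in a fibre square with φ : Y₁ → Y and ψ : X₁ → X. Work in models of the K-theory of
vector bundles on the four schemes as λ-rings with positive structure, with φ^K, ψ^K induced by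
pull-back and f_K, (f₁)_K by push-forward, and let φ^G, ψ^G and f_G, (f₁)_G be the induced maps on
the associated graded rings ℚGr of the γ-filtrations (the push-forwards of graded degrees d, d₁).
Let e = ψ^K[C] − [C₁] be the excess class and m = d − d₁. Then for every x ∈ F^k K(X):
(f₁)_G(c_m(e^∨) · ψ^G [x]_k) = φ^G(f_G [x]_k), where c_m(e^∨) = (−1)^m c_m(e) is the top Chern class
of the dual of the excess bundle. -/
theorem result (S : Scheme.{u}) [IsAffine S] [IsNoetherian S] {X Y X₁ Y₁ : Scheme.{u}} [IsNoetherian Y] [ConnectedSpace ↥Y] (qY : Y ⟶ S) (hqY : KRR.IsQProjOver qY)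
    [IsNoetherian Y₁] [ConnectedSpace ↥Y₁] (qY₁ : Y₁ ⟶ S) (hqY₁ : KRR.IsQProjOver qY₁)
    (f : X ⟶ Y) (hf : Mor2.IsRegularClosedImmersion f) [ConnectedSpace ↥X] (d : ℕ)
    (hC : FlatMod.IsFinLocFreeOfRank d (Omega.conormal f))
    (φ : Y₁ ⟶ Y) (f₁ : X₁ ⟶ Y₁) (ψ : X₁ ⟶ X) (hsq : IsPullback f₁ ψ φ f)
    (hf₁ : Mor2.IsRegularClosedImmersion f₁) [ConnectedSpace ↥X₁] (d₁ : ℕ) (hd : d₁ ≤ d)
    (hC₁ : FlatMod.IsFinLocFreeOfRank d₁ (Omega.conormal f₁))
    (KX : Type v) [CommRing KX] [LambdaRing.LambdaOps KX] (PX : LambdaRing.PosStructure KX) (φX : SGA6.Kvb X →+ KX) (hKX : KRR.IsModel X KX PX φX)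
    (KY : Type v) [CommRing KY] [LambdaRing.LambdaOps KY] (PY : LambdaRing.PosStructure KY) (φY : SGA6.Kvb Y →+ KY) (hKY : KRR.IsModel Y KY PY φY)
    (KX₁ : Type v) [CommRing KX₁] [LambdaRing.LambdaOps KX₁] (PX₁ : LambdaRing.PosStructure KX₁) (φX₁ : SGA6.Kvb X₁ →+ KX₁) (hKX₁ : KRR.IsModel X₁ KX₁ PX₁ φX₁)
    (KY₁ : Type v) [CommRing KY₁] [LambdaRing.LambdaOps KY₁] (PY₁ : LambdaRing.PosStructure KY₁) (φY₁ : SGA6.Kvb Y₁ →+ KY₁) (hKY₁ : KRR.IsModel Y₁ KY₁ PY₁ φY₁)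
    (gφ : KY →+ KY₁) (hgφ : KRR.IsPull φ φY φY₁ gφ) (gψ : KX →+ KX₁) (hgψ : KRR.IsPull ψ φX φX₁ gψ)
    (gf : KX →+ KY) (hgf : KRR.IsPushCl f φX φY gf) (gf₁ : KX₁ →+ KY₁) (hgf₁ : KRR.IsPushCl f₁ φX₁ φY₁ gf₁)
    (φG : KGr.Gr PY →+ KGr.Gr PY₁) (hφG : KGr.IsGrPull PY PY₁ gφ φG)
    (ψG : KGr.Gr PX →+ KGr.Gr PX₁) (hψG : KGr.IsGrPull PX PX₁ gψ ψG)
    (fG : KGr.Gr PX →+ KGr.Gr PY) (hfG : KGr.IsGrPush PX PY gf d fG)
    (f₁G : KGr.Gr PX₁ →+ KGr.Gr PY₁) (hf₁G : KGr.IsGrPush PX₁ PY₁ gf₁ d₁ f₁G)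
    (k : ℕ) (x : KX) (hx : x ∈ LambdaRing.gammaFiltration PX k) :
    f₁G ((-1 : KGr.Gr PX₁) ^ (d - d₁) *
        KGr.chern PX₁ (d - d₁) (gψ (φX (KRR.cl X (Omega.conormal f))) - φX₁ (KRR.cl X₁ (Omega.conormal f₁))) *
        ψG (KGr.grK PX (k : ℤ) x)) = φG (fG (KGr.grK PX (k : ℤ) x)) := by
  haveI := hf.1
  haveI := hf₁.1
  haveI : IsLocallyNoetherian X := LocallyOfFiniteType.isLocallyNoetherian f
  haveI : CompactSpace X := QuasiCompact.compactSpace_of_compactSpace f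
  haveI : IsNoetherian X := {}
  haveI : IsLocallyNoetherian X₁ := LocallyOfFiniteType.isLocallyNoetherian f₁
  haveI : CompactSpace X₁ := QuasiCompact.compactSpace_of_compactSpace f₁
  haveI : IsNoetherian X₁ := {}
  obtain ⟨q, hq⟩ := Groth.L12.RR.exists_conormal_epi hsq
  haveI := hq
  obtain ⟨m, rfl⟩ := Nat.exists_eq_add_of_le' hd
  rw [Nat.add_sub_cancel_right]
  have hP := Groth.L18.MapEpi.isFinLocFreeOfRank_pullback ψ hC
  have hC' := Groth.L18.KRRAmple.isFinLocFree_of_rank hC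
  have hC₁' := Groth.L18.KRRAmple.isFinLocFree_of_rank hC₁
  have hP' := Groth.L18.KRRAmple.isFinLocFree_of_rank hP
  have hv := Groth.L29.DC.isFinLocFree_kernel_of_epi q hP' hC₁'
  have hS : (ShortComplex.mk (kernel.ι q) q (kernel.condition q)).ShortExact :=
    ShortComplex.ShortExact.mk' (ShortComplex.exact_of_f_is_kernel _ (kernelIsKernel _)) inferInstance inferInstance
  have hK := Groth.L12.KBunQ.rank_left hS hv hP hC₁
  obtain ⟨eX₁, hX₁, hX₁c, hX₁l⟩ := Groth.L12.RR.exists_equiv hKX₁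
  obtain ⟨g', hg', hgl, hga⟩ := Groth.L12.RR.exists_hom_of_isPull ψ hKX hKX₁ hgψ
  obtain ⟨p', hp', hpl, hpa⟩ := Groth.L12.RR.exists_hom_of_isPull φ hKY hKY₁ hgφ
  set e := gψ (φX (KRR.cl X (Omega.conormal f))) - φX₁ (KRR.cl X₁ (Omega.conormal f₁)) with he
  have haug : PX₁.aug e = (m : ℤ) := by
    rw [he, hgψ _ hC', map_sub, hKX₁.aug_cl _ _ hP, hKX₁.aug_cl _ _ hC₁]
    push_cast
    ring
  have hkey : e = eX₁ (Groth.L12.KBunQ.kc X₁ (kernel q)) := by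
    have h : Groth.L12.KBunQ.kc X₁ ((Scheme.Modules.pullback ψ).obj (Omega.conormal f)) =
        Groth.L12.KBunQ.kc X₁ (kernel q) + Groth.L12.KBunQ.kc X₁ (Omega.conormal f₁) :=
      Groth.L12.KBunQ.kc_shortExact hS hv hP' hC₁'
    rw [he, hgψ _ hC', ← hX₁c _ hP', ← hX₁c _ hC₁', h, map_add, add_sub_cancel_right]
  set γ := LambdaRing.gamma m (e - (PX₁.aug e : KX₁)) with hγ
  have hγm : γ ∈ LambdaRing.gammaFiltration PX₁ m :=
    Groth.L15.ChernChar.gamma_mem PX₁ (by simp) m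
  have hlam : (-1 : KX₁) ^ m * γ = KRR.lamAlt PX₁ e := by
    have h := congrArg eX₁ (Groth.L12.RR.gamma_rank hK)
    have h1 : eX₁ (LambdaRing.gamma m (Groth.L12.KBunQ.kc X₁ (kernel q) - (m : Groth.L12.Kvb.KR X₁))) = γ := by
      show eX₁.toRingHom _ = _
      rw [Groth.L12.RR.GRR.map_gamma eX₁.toRingHom hX₁l, map_sub, map_natCast, hγ, haug, Int.cast_natCast, hkey]
      rfl
    have h2 : eX₁ (Groth.L12.RR.lamA m (Groth.L12.KBunQ.kc X₁ (kernel q))) = KRR.lamAlt PX₁ e := by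
      show eX₁.toRingHom _ = _
      rw [Groth.L12.RR.map_lamA eX₁.toRingHom hX₁l]
      unfold KRR.lamAlt Groth.L12.RR.lamA
      rw [haug, Int.toNat_natCast, hkey]
      rfl
    rw [h1, map_mul, map_pow, map_neg, map_one, h2] at h
    rw [h, ← mul_assoc, ← mul_pow, neg_one_mul, neg_neg, one_pow, one_mul]
  have hz : gψ x ∈ LambdaRing.gammaFiltration PX₁ k := hg' x ▸ Groth.L12.RR.map_gammaFiltration PX g' hgl hga hx
  have hsγ : (-1 : KX₁) ^ m * γ ∈ LambdaRing.gammaFiltration PX₁ m := by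
    rcases neg_one_pow_eq_or KX₁ m with h | h <;> rw [h]
    · rwa [one_mul]
    · rw [show (-1 : KX₁) * γ = -γ by ring]; exact neg_mem hγm
  obtain ⟨M, hM, hMx⟩ := Groth.Agent.S3775.result S qY hqY f hf _ hC KX PX φX hKX KY PY φY hKY gf hgf k x hx
  have hMy : (M : KY₁) * gφ (gf x) ∈ LambdaRing.gammaFiltration PY₁ (k + (m + d₁)) := by
    have := Groth.L12.RR.map_gammaFiltration PY p' hpl hpa hMx
    rwa [map_mul, map_natCast, hp'] at this
  have hR : φG (fG (KGr.grK PX (k : ℤ) x)) = KGr.grK PY₁ ((k + (m + d₁) : ℕ) : ℤ) (gφ (gf x)) := by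
    rw [hfG k x hx, show (k : ℤ) + ((m + d₁ : ℕ) : ℤ) = ((k + (m + d₁) : ℕ) : ℤ) by push_cast; ring,
      Groth.L12.RR.grK_natCast_mul PY hM hMx, map_rat_smul, hφG _ _ hMx,
      Groth.L12.RR.grK_natCast_mul PY₁ hM hMy, ← hp' ((M : KY) * gf x), map_mul, map_natCast, hp']
  have hex := Groth.Agent.S3769.result S qY hqY qY₁ hqY₁ f hf _ hC φ f₁ ψ hsq hf₁ d₁ hC₁ KX PX φX hKX
    KY PY φY hKY KX₁ PX₁ φX₁ hKX₁ KY₁ PY₁ φY₁ hKY₁ gφ hgφ gψ hgψ gf hgf gf₁ hgf₁ x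
  rw [hR, hψG k x hx, hex, ← he, ← hlam]
  show f₁G ((-1 : KGr.Gr PX₁) ^ m * KGr.grK PX₁ (m : ℤ) γ * KGr.grK PX₁ (k : ℤ) (gψ x)) = _
  rw [Groth.L12.RR.grK_sign PX₁ hγm, Groth.L12.RR.grK_mul PX₁ hsγ hz,
    hf₁G _ _ (Groth.L08.Lambda.mul_mem_gammaFiltration PX₁ hsγ hz)]
  congr 1
  push_cast
  ring

end Groth.Agent.S3801
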