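
import Groth.Statements.S3802
import Groth.Agent.L22.Sigma
import Mathlib.Tactic.LinearCombination

set_option autoImplicit false
universe v u
open CategoryTheory CategoryTheory.Limits AlgebraicGeometry
attribute [local instance] HasDerivedCategory.standard
open KRR

namespace Groth.Agent.S3802

/-- Let K be a λ-ring with positive structure having the splitting property, c positive with ε(c) = r +
1, and K_c = K[T]/(p_c) with generator ℓ, equipped with a λ-structure extending that of K with
λ^i(ℓ) = 0 for i ≥ 2 and a positive structure making K ⟶ K_c an extension with ℓ a line element and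
c - ℓ positive (when r ≥ 1), having the splitting property; let f : K_c ⟶ K be the associated
K-linear functional (f(ℓ^i) = σ^i(c) for i ≤ r). If z ∈ K_c satisfies z (1 - ℓ) = 0, then z = f(z) ·
λ_{-1}(c - ℓ), where λ_{-1}(c - ℓ) = Σ_{i ≤ r} (-1)^i λ^i(c - ℓ). -/
theorem result (K : Type v) [CommRing K] [LambdaRing.LambdaOps K] (P : LambdaRing.PosStructure K) (hK : LambdaRing.HasSplitting K P) (c : K) (hc : c ∈ P.pos) (r : ℕ) (hr : P.aug c = r + 1)
    (inst : LambdaRing.LambdaOps (AdjoinRoot (KRR.extPoly P c))) (Pc : @LambdaRing.PosStructure _ _ inst)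
    (hext : @LambdaRing.IsExtension K _ _ _ _ inst P Pc (AdjoinRoot.of (KRR.extPoly P c)))
    (hroot : ∀ i : ℕ, 2 ≤ i → @LambdaRing.LambdaOps.lam _ _ inst i (AdjoinRoot.root (KRR.extPoly P c)) = 0)
    (hline : @LambdaRing.PosStructure.IsLine _ _ inst Pc (AdjoinRoot.root (KRR.extPoly P c)))
    (hpos : 1 ≤ r → AdjoinRoot.of (KRR.extPoly P c) c - AdjoinRoot.root (KRR.extPoly P c) ∈ (@LambdaRing.PosStructure.pos _ _ inst Pc))
    (hsplit : @LambdaRing.HasSplitting _ _ inst Pc)
    (f : AdjoinRoot (KRR.extPoly P c) →ₗ[K] K)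
    (hf : ∀ i : ℕ, i ≤ r → f (AdjoinRoot.root (KRR.extPoly P c) ^ i) = KRR.sigma i c)
    (z : AdjoinRoot (KRR.extPoly P c)) (hz : z * (1 - AdjoinRoot.root (KRR.extPoly P c)) = 0) :
    z = AdjoinRoot.of (KRR.extPoly P c) (f z) *
      @KRR.lamAlt _ _ inst Pc (AdjoinRoot.of (KRR.extPoly P c) c - AdjoinRoot.root (KRR.extPoly P c)) := by
  set ℓ := AdjoinRoot.root (KRR.extPoly P c) with hℓ
  have hlam : ∀ (i : ℕ) (x : K), @LambdaRing.LambdaOps.lam _ _ inst i
      (AdjoinRoot.of (KRR.extPoly P c) x) =
      AdjoinRoot.of (KRR.extPoly P c) (LambdaRing.LambdaOps.lam i x) :=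
    fun i x => (hext.isLambdaHom i x).symm
  have hmonic := Groth.L22.Lambda.monic_extPoly P hr
  haveI : Nontrivial K := Groth.L22.Lambda.nontrivial_of_aug P
  have hz' : z * ℓ = z := by linear_combination -hz
  have hzi : ∀ i, z * ℓ ^ i = z := fun i => by
    induction i with
    | zero => simp
    | succ i ih => rw [pow_succ, ← mul_assoc, ih, hz']
  obtain ⟨linv, hlinv⟩ : ∃ b, ℓ * b = 1 :=
    isUnit_iff_exists_inv.1 (@Groth.L22.Lambda.isUnit_of_isLine _ _ inst Pc _ hline)
  have haug : @LambdaRing.PosStructure.aug _ _ inst Pc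
      (AdjoinRoot.of (KRR.extPoly P c) c - ℓ) = (r : ℤ) := by
    rw [map_sub, hext.aug_comp, hr, hline.2]; ring
  set L := @KRR.lamAlt _ _ inst Pc (AdjoinRoot.of (KRR.extPoly P c) c - ℓ) with hL
  have hLsum : L = ∑ i ∈ Finset.range (r + 1), (-1) ^ i *
      @LambdaRing.LambdaOps.lam _ _ inst i
        (@Groth.L22.Lambda.qElt K _ _ P c) := by
    rw [hL, KRR.lamAlt, haug, Int.toNat_natCast]
  have hfL : f L = 1 := by
    rw [hLsum, map_sum, Finset.sum_eq_single_of_mem 0 (Finset.mem_range.2 (by omega))]
    · rw [pow_zero, one_mul,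
        @Groth.L22.Lambda.f_lam_qElt K _ _ P c inst hlam hroot hc r hr f hf 0, if_pos rfl]
    · intro i _ hi
      have : ((-1 : AdjoinRoot (KRR.extPoly P c))) ^ i =
          AdjoinRoot.of (KRR.extPoly P c) ((-1) ^ i) := by simp
      rw [this, Groth.L22.Lambda.f_of_mul,
        @Groth.L22.Lambda.f_lam_qElt K _ _ P c inst hlam hroot hc r hr f hf i, if_neg hi, mul_zero]
  have hLl : L * (1 - ℓ) = AdjoinRoot.of (KRR.extPoly P c)
      (∑ i ∈ Finset.range (r + 2), (-1) ^ i * LambdaRing.LambdaOps.lam i c) := by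
    rw [hLsum]; exact @Groth.L22.Lambda.alt_qElt_mul K _ _ P c inst hlam hroot r hr
  set lam := ∑ i ∈ Finset.range (r + 2), (-1) ^ i * LambdaRing.LambdaOps.lam i c with hlamdef
  have hfz : f z * lam = 0 := by
    have : AdjoinRoot.of (KRR.extPoly P c) lam * z = 0 := by
      rw [← hLl, mul_assoc, mul_comm (1 - ℓ), hz, mul_zero]
    rw [mul_comm, ← Groth.L22.Lambda.f_of_mul, this, map_zero]
  set d := z - AdjoinRoot.of (KRR.extPoly P c) (f z) * L with hd
  have hdl : d * (1 - ℓ) = 0 := by
    rw [hd, sub_mul, hz, mul_assoc, hLl, ← map_mul, hfz, map_zero, sub_zero]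
  have hdl' : d * linv = d := by
    linear_combination linv * hdl + d * hlinv
  have hdj : ∀ j, d * linv ^ j = d := fun j => by
    induction j with
    | zero => simp
    | succ j ih => rw [pow_succ, ← mul_assoc, ih, hdl']
  have hfd : f d = 0 := by
    rw [hd, map_sub, Groth.L22.Lambda.f_of_mul, hfL, mul_one, sub_self]
  suffices d = 0 from sub_eq_zero.1 this
  let pb := AdjoinRoot.powerBasis' hmonic
  have hdim : pb.dim = r + 1 := by
    rw [show pb.dim = (KRR.extPoly P c).natDegree from rfl,
      Groth.L22.Lambda.natDegree_extPoly P hr]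
  let a : ℕ → K := fun i => if h : i < pb.dim then pb.basis.repr d ⟨i, h⟩ else 0
  have hexp : d = ∑ i ∈ Finset.range (r + 1), AdjoinRoot.of (KRR.extPoly P c) (a i) * ℓ ^ i := by
    conv_lhs => rw [← pb.basis.sum_repr d]
    rw [← hdim, ← Fin.sum_univ_eq_sum_range]
    refine Finset.sum_congr rfl fun i _ => ?_
    rw [PowerBasis.basis_eq_pow, show pb.gen = ℓ from rfl, Algebra.smul_def,
      AdjoinRoot.algebraMap_eq]
    simp [a]
  have ha : ∀ k, k ≤ r → a (r - k) = 0 := by
    intro k
    induction k using Nat.strong_induction_on with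
    | _ k ih =>
      intro hk
      have h := congrArg f (hdj (r - k))
      rw [hfd, hexp, Finset.sum_mul, map_sum,
        Finset.sum_eq_single_of_mem (r - k) (Finset.mem_range.2 (by omega))] at h
      · rw [mul_assoc, ← mul_pow, hlinv, one_pow, Groth.L22.Lambda.f_of_mul,
          ← pow_zero ℓ, hf 0 (Nat.zero_le _), Groth.L22.Lambda.sigma_zero, mul_one] at h
        exact h
      · intro i hi hne
        have hi' := Finset.mem_range.1 hi
        rw [mul_assoc, Groth.L22.Lambda.f_of_mul]
        rcases Nat.lt_or_ge i (r - k) with hlt | hge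
        · have : ℓ ^ i * linv ^ (r - k) = linv ^ (r - k - i) := by
            conv_lhs => rw [show r - k = i + (r - k - i) by omega, pow_add]
            rw [← mul_assoc, ← mul_pow, hlinv, one_pow, one_mul]
          rw [this, Groth.L22.Lambda.f_inv_pow P hc hr f hf linv (by rw [mul_comm]; exact hlinv) _
            (by omega) (by omega), mul_zero]
        · have : a i = 0 := by
            have := ih (r - i) (by omega) (by omega)
            rwa [show r - (r - i) = i by omega] at this
          rw [this, zero_mul]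
  rw [hexp]
  refine Finset.sum_eq_zero fun i hi => ?_
  have hi' := Finset.mem_range.1 hi
  have := ha (r - i) (by omega)
  rw [show r - (r - i) = i by omega] at this
  rw [this, map_zero, zero_mul]

end Groth.Agent.S3802
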