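import Groth.Statements.S3825
import Groth.Agent.L14.QRegRegular
import Mathlib.RingTheory.Nakayama
import Mathlib.LinearAlgebra.Dimension.StrongRankCondition
import Mathlib.RingTheory.Ideal.Cotangent

set_option autoImplicit false
universe u
open QReg16

namespace Groth.Agent.S3825

open Groth.L07

set_option linter.style.haveILetI false

/-- a) iff c) (affine local form): let A be a local ring and I a proper ideal generated by some
quasi-regular sequence. For a finite family (f_i) of elements of I, the following are equivalent: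
(a) (f_i) is a quasi-regular sequence generating I; (c) the classes of the f_i form a basis of the
A/I-module I/I² (equivalently, b): (f_i) is a minimal system of generators of I). -/
theorem result {A : Type u} [CommRing A] [IsLocalRing A]
    (I : Ideal A) (hI : I ≤ IsLocalRing.maximalIdeal A)
    (hq : ∃ (r : ℕ) (g : Fin r → A), CAlgX.IsQuasiRegular g ∧ Ideal.span (Set.range g) = I)
    {m : ℕ} (f : Fin m → I) :
    (CAlgX.IsQuasiRegular (fun i => (f i : A)) ∧ Ideal.span (Set.range fun i => (f i : A)) = I) ↔
      (LinearIndependent (A ⧸ I) (fun i => I.toCotangent (f i)) ∧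
        Submodule.span (A ⧸ I) (Set.range fun i => I.toCotangent (f i)) = ⊤) := by
  have hbasis : ∀ {k : ℕ} (e : Fin k → I), CAlgX.IsQuasiRegular (fun i => (e i : A)) →
      Ideal.span (Set.range fun i => (e i : A)) = I →
      LinearIndependent (A ⧸ I) (fun i => I.toCotangent (e i)) ∧
        Submodule.span (A ⧸ I) (Set.range fun i => I.toCotangent (e i)) = ⊤ := by
    intro k e he hspan
    have hsum : ∀ c : Fin k → A, ∑ i, Ideal.Quotient.mk I (c i) • I.toCotangent (e i) =
        I.toCotangent (∑ i, c i • e i) := by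
      intro c
      rw [map_sum]
      exact Finset.sum_congr rfl fun i _ => by rw [map_smul]; rfl
    constructor
    · rw [Fintype.linearIndependent_iff]
      intro g hg i
      choose c hc using fun j => Ideal.Quotient.mk_surjective (g j)
      have hmem : ∑ j, c j * (e j : A) ∈ I ^ 2 := by
        have h0 := hsum c
        simp only [hc, hg] at h0
        simpa using (I.toCotangent_eq_zero _).mp h0.symm
      let P : MvPolynomial (Fin k) A := ∑ j, MvPolynomial.C (c j) * MvPolynomial.X j
      have hP : P.IsHomogeneous 1 := MvPolynomial.IsHomogeneous.sum _ _ _ fun j _ =>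
        (MvPolynomial.isHomogeneous_X _ j).C_mul _
      have h1 := he 1 P hP (by rw [hspan]; simpa [P] using hmem) (Finsupp.single i 1)
      rw [← hc i, Ideal.Quotient.eq_zero_iff_mem, ← hspan]
      simpa [P, MvPolynomial.coeff_sum, MvPolynomial.coeff_C_mul, MvPolynomial.coeff_X,
        Finsupp.single_left_inj] using h1
    · rw [eq_top_iff]
      rintro y -
      obtain ⟨⟨z, hz⟩, rfl⟩ := I.toCotangent_surjective y
      obtain ⟨c, hc⟩ := Ideal.mem_span_range_iff_exists_fun.mp (hspan.symm ▸ hz)
      have : (⟨z, hz⟩ : I) = ∑ i, c i • e i := by ext; simp [← hc]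
      rw [this, ← hsum c]
      exact Submodule.sum_mem _ fun i _ => Submodule.smul_mem _ _ (Submodule.subset_span ⟨i, rfl⟩)
  obtain ⟨r, g, hg, hgI⟩ := hq
  refine ⟨fun h => hbasis f h.1 h.2, fun ⟨hli, hsp⟩ => ?_⟩
  let g' : Fin r → I := fun i => ⟨g i, hgI ▸ Ideal.subset_span (Set.mem_range_self i)⟩
  obtain ⟨hli', hsp'⟩ := hbasis g' hg hgI
  have hne : I ≠ ⊤ := ne_top_of_le_ne_top (IsLocalRing.maximalIdeal.isMaximal A).ne_top hI
  haveI : Nontrivial (A ⧸ I) := Ideal.Quotient.nontrivial_iff.mpr hne
  have hrm : Fintype.card (Fin r) = Fintype.card (Fin m) :=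
    Fintype.card_congr ((Module.Basis.mk hli' hsp'.ge).indexEquiv (Module.Basis.mk hli hsp.ge))
  rw [Fintype.card_fin, Fintype.card_fin] at hrm
  subst hrm
  set S := Ideal.span (Set.range fun i => (f i : A))
  have hSI : S ≤ I := Ideal.span_le.mpr (by rintro _ ⟨i, rfl⟩; exact (f i).2)
  have hIS : I ≤ S ⊔ I • I := by
    intro z hz
    have hy : I.toCotangent ⟨z, hz⟩ ∈ Submodule.span (A ⧸ I) (Set.range fun i => I.toCotangent (f i)) := by
      rw [hsp]; trivial
    obtain ⟨c, hc⟩ := (Submodule.mem_span_range_iff_exists_fun _).mp hy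
    choose d hd using fun j => Ideal.Quotient.mk_surjective (c j)
    have he : I.toCotangent (∑ j, d j • f j) = I.toCotangent ⟨z, hz⟩ := by
      rw [← hc, map_sum]
      exact Finset.sum_congr rfl fun j _ => by rw [map_smul, ← hd]; rfl
    rw [Ideal.toCotangent_eq] at he
    rw [smul_eq_mul, ← pow_two]
    have hmem : z - ∑ j, d j * (f j : A) ∈ I ^ 2 := by
      have h2 := neg_mem he
      simpa using h2
    rw [← sub_add_cancel z (∑ j, d j * (f j : A))]
    exact add_mem (Submodule.mem_sup_right hmem) (Submodule.mem_sup_left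
      (Ideal.sum_mem _ fun j _ => S.mul_mem_left _ (Ideal.subset_span (Set.mem_range_self j))))
  have hfg : I.FG := hgI ▸ Submodule.fg_span (Set.finite_range g)
  have hS : S = I := le_antisymm hSI (Submodule.le_of_le_smul_of_le_jacobson_bot hfg
    (by rw [IsLocalRing.jacobson_eq_maximalIdeal ⊥ bot_ne_top]; exact hI) hIS)
  exact ⟨Groth.L14.QRR.isQuasiRegular_of_span_eq g _ hg (hS.trans hgI.symm), hS⟩

end Groth.Agent.S3825
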