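import Groth.Statements.S3827
import Groth.Agent.L07.CoeffProp

set_option autoImplicit false
universe u
open QReg16

namespace Groth.Agent.S3827

open Groth.L07 Groth.L07.Coeff

/-- Let A be a ring, J an ideal, A' = A/J and f_1, …, f_r elements of A forming an A'-regular sequence
(each f_i a non-zero-divisor on A' modulo the previous ones); let R be the ideal generated by the
f_i. Then for all integers 0 < n ≤ N one has J ∩ Rⁿ = J·Rⁿ + (J ∩ R^N). -/
theorem result {A : Type u} [CommRing A] (J : Ideal A) {r : ℕ} (f : Fin r → A)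
    (hf : RingTheory.Sequence.IsWeaklyRegular (A ⧸ J) (List.ofFn f)) (n N : ℕ) (hn : 0 < n) (hnN : n ≤ N) :
    J ⊓ Ideal.span (Set.range f) ^ n =
      J * Ideal.span (Set.range f) ^ n ⊔ J ⊓ Ideal.span (Set.range f) ^ N := by
  have hq : CAlgX.IsQuasiRegular (fun i => Ideal.Quotient.mk J (f i)) := by
    apply QReg.isQuasiRegular_of_isWeaklyRegular
    have h1 := (RingTheory.Sequence.isWeaklyRegular_map_algebraMap_iff (A ⧸ J) (A ⧸ J) (List.ofFn f)).mpr hf
    rw [List.map_ofFn] at h1
    exact h1
  set I := Ideal.span (Set.range f)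
  apply le_antisymm
  · induction N, hnN using Nat.le_induction with
    | base => exact le_sup_right
    | succ N hN ih =>
      refine ih.trans (sup_le le_sup_left ?_)
      have h := ker_inf_le_step (coeffIn_quotient J hq) J.mkQ (Submodule.mkQ_surjective J) N
      rw [Submodule.ker_mkQ, smul_eq_mul, smul_eq_mul, smul_eq_mul, Ideal.mul_top, Ideal.mul_top] at h
      refine h.trans (sup_le_sup_right ?_ _)
      rw [mul_comm]
      exact Ideal.mul_mono_right (Ideal.pow_le_pow_right hN)
  · exact sup_le (le_inf Ideal.mul_le_left Ideal.mul_le_right)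
      (inf_le_inf_left _ (Ideal.pow_le_pow_right hnN))

end Groth.Agent.S3827
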