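import Groth.Statements.S3828
import Groth.Agent.L07.CoeffProp

set_option autoImplicit false
universe u
open QReg16

namespace Groth.Agent.S3828

open Groth.L07 Groth.L07.Coeff

/-- Let A be a Noetherian ring, J an ideal of A, and f_1, …, f_r elements of A forming a weakly regular
sequence on A/J (each f_i a nonzerodivisor on A/(J + (f_1, …, f_{i−1}))) and generating an ideal R
contained in the Jacobson radical of A; put Q = J + R. Then J ∩ Rⁿ = J·Rⁿ for every n > 0, and J ∩
Q² = J·Q (equivalently, the canonical map J/JQ → Q/Q² is injective). -/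
theorem result {A : Type u} [CommRing A] [IsNoetherianRing A] (J : Ideal A)
    {r : ℕ} (f : Fin r → A) (hf : RingTheory.Sequence.IsWeaklyRegular (A ⧸ J) (List.ofFn f))
    (hrad : Ideal.span (Set.range f) ≤ (⊥ : Ideal A).jacobson) :
    (∀ n : ℕ, 0 < n → J ⊓ Ideal.span (Set.range f) ^ n = J * Ideal.span (Set.range f) ^ n) ∧
      J ⊓ (J ⊔ Ideal.span (Set.range f)) ^ 2 = J * (J ⊔ Ideal.span (Set.range f)) := by
  have hq : CAlgX.IsQuasiRegular (fun i => Ideal.Quotient.mk J (f i)) := by
    apply QReg.isQuasiRegular_of_isWeaklyRegular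
    have h1 := (RingTheory.Sequence.isWeaklyRegular_map_algebraMap_iff (A ⧸ J) (A ⧸ J) (List.ofFn f)).mpr hf
    rw [List.map_ofFn] at h1
    exact h1
  set I := Ideal.span (Set.range f) with hI
  have key : ∀ n : ℕ, J ⊓ I ^ n ≤ J * I ^ n := by
    intro n
    have h := ker_inf_le hrad (coeffIn_quotient J hq) J.mkQ (Submodule.mkQ_surjective J) n
    rw [Submodule.ker_mkQ, smul_eq_mul, smul_eq_mul, Ideal.mul_top, ← hI, mul_comm (I ^ n)] at h
    exact h
  refine ⟨fun n _ => le_antisymm (key n) (le_inf Ideal.mul_le_left Ideal.mul_le_right), ?_⟩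
  apply le_antisymm
  · intro x ⟨hxJ, hxQ⟩
    have hle : (J ⊔ I) ^ 2 ≤ J * (J ⊔ I) ⊔ I ^ 2 := by
      rw [pow_two, pow_two, Ideal.sup_mul]
      refine sup_le le_sup_left ?_
      rw [Ideal.mul_sup]
      refine sup_le ?_ le_sup_right
      rw [mul_comm]
      exact (Ideal.mul_mono_right le_sup_right).trans le_sup_left
    obtain ⟨a, ha, b, hb, rfl⟩ := Submodule.mem_sup.mp (hle hxQ)
    have hbJ : b ∈ J := (Submodule.add_mem_iff_right J (Ideal.mul_le_left ha)).mp hxJ
    refine add_mem ha ?_
    refine (key 2).trans (Ideal.mul_mono_right ?_) ⟨hbJ, hb⟩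
    exact (Ideal.pow_le_self two_ne_zero).trans le_sup_right
  · refine le_inf Ideal.mul_le_left ?_
    rw [pow_two]
    exact Ideal.mul_mono_left le_sup_left

end Groth.Agent.S3828
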