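import Groth.Statements.S3833
import Mathlib.AlgebraicGeometry.AffineScheme
-- import your own Groth.Agent.* helpers here

set_option autoImplicit false
universe u
open CategoryTheory CategoryTheory.Limits AlgebraicGeometry TopologicalSpace
open Rat20

namespace Groth.Agent.S3833

/-- Stated for a global section, the case of a section over an open subset U being the same statement
for the open subscheme U: let X be a scheme and s a global section of O_X which is regular in the
sense that its germ at every point x is a non-zero-divisor of the local ring O_{X,x} (on an affine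
scheme this is the same as being a non-zero-divisor of Γ(X, O_X), but not in general). Then the open
subset X_s where s is invertible is schematically dense in X. -/
theorem result (X : Scheme.{u}) (s : Γ(X, ⊤))
    (hs : ∀ x : ↥X, (X.presheaf.germ ⊤ x trivial s) ∈ nonZeroDivisors ↑(X.presheaf.stalk x)) :
    CInt.IsSchematicallyDense (X.basicOpen s) := by
  intro W
  rw [injective_iff_map_eq_zero]
  intro a ha
  refine TopCat.Presheaf.section_ext X.sheaf W a 0 fun x hx => ?_
  obtain ⟨V, hV, hxV, hVW0⟩ := exists_isAffineOpen_mem_and_subset (x := x) (U := W) hx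
  have hVW : V ≤ W := hVW0
  set a' := X.presheaf.map (homOfLE hVW).op a with ha'
  set s' := X.presheaf.map (homOfLE (le_top : V ≤ ⊤)).op s with hs'
  have := hV.isLocalization_basicOpen s'
  have hle : X.basicOpen s' ≤ W ⊓ X.basicOpen s := by
    rw [hs', Scheme.basicOpen_res]
    exact le_inf (inf_le_left.trans hVW) inf_le_right
  have h0 : algebraMap Γ(X, V) Γ(X, X.basicOpen s') a' = 0 := by
    have := congrArg (X.presheaf.map (homOfLE hle).op) ha
    rw [map_zero, ← ConcreteCategory.comp_apply, ← Functor.map_comp] at this
    change X.presheaf.map _ (X.presheaf.map _ a) = 0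
    rw [← ConcreteCategory.comp_apply, ← Functor.map_comp]
    exact this
  obtain ⟨⟨_, n, rfl⟩, hn⟩ :=
    (IsLocalization.map_eq_zero_iff (Submonoid.powers s') Γ(X, X.basicOpen s') a').1 h0
  have h1 := congrArg (X.presheaf.germ V x hxV) hn
  rw [map_mul, map_pow, map_zero, hs', ha', TopCat.Presheaf.germ_res_apply, TopCat.Presheaf.germ_res_apply] at h1
  show X.presheaf.germ W x hx a = X.presheaf.germ W x hx 0
  rw [map_zero]
  exact (mul_right_mem_nonZeroDivisors_eq_zero_iff (pow_mem (hs x) n)).1 (by rw [mul_comm]; exact h1)

end Groth.Agent.S3833
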