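import Groth.Statements.S3834
import Groth.Agent.L02.SchDom.FlatInj
import Groth.Agent.L04.Depth
import Mathlib.AlgebraicGeometry.Noetherian

set_option autoImplicit false
set_option linter.style.haveILetI false
universe u
open CategoryTheory CategoryTheory.Limits AlgebraicGeometry TopologicalSpace
open Rat20

namespace Groth.Agent.S3834

/-- Let X = Spec A be an affine scheme, with A Noetherian, or A reduced with finitely many minimal
primes. Then an open subset U of X is schematically dense if and only if it contains an open subset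
of the form X_t with t a regular element of A = Γ(X, O_X). -/
theorem result (X : Scheme.{u}) [IsAffine X]
    (hX : IsNoetherian X ∨ (IsReduced X ∧ (irreducibleComponents ↥X).Finite)) (U : X.Opens) :
    CInt.IsSchematicallyDense U ↔ ∃ t : Γ(X, ⊤), t ∈ nonZeroDivisors Γ(X, ⊤) ∧ X.basicOpen t ≤ U := by
  constructor
  · intro hU
    let hA := isAffineOpen_top X
    let I : Ideal Γ(X, ⊤) := Groth.L02.SchDom.offIdeal hA U
    by_contra hcon
    push Not at hcon
    have hzd : ∀ g ∈ I, g ∉ nonZeroDivisors Γ(X, ⊤) := fun g hg hreg =>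
      hcon g hreg (Groth.L02.SchDom.basicOpen_le_of_mem_offIdeal hA U hg)
    -- no element outside zero kills `I`
    have hkill : ∀ a : Γ(X, ⊤), (∀ g ∈ I, g * a = 0) → a = 0 := by
      intro a ha
      apply hU ⊤
      rw [map_zero]
      refine TopCat.Presheaf.section_ext X.sheaf _ _ _ fun y hy => ?_
      obtain ⟨g, hg, hyg⟩ := hA.exists_basicOpen_le (V := U) ⟨y, hy.2⟩ hy.1
      have h1 := congrArg (X.presheaf.germ ⊤ y hy.1) (ha g (Groth.L02.SchDom.mem_offIdeal_of_basicOpen_le hA U hg))
      rw [map_mul, map_zero] at h1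
      have h2 : X.presheaf.germ ⊤ y hy.1 a = 0 :=
        ((X.mem_basicOpen g y hy.1).mp hyg).mul_right_eq_zero.mp h1
      show X.presheaf.germ _ y hy (X.presheaf.map _ a) = X.presheaf.germ _ y hy 0
      rw [TopCat.Presheaf.germ_res_apply, map_zero, h2]
    rcases hX with hN | ⟨hR, hfin⟩
    · haveI : IsNoetherianRing Γ(X, ⊤) := IsLocallyNoetherian.component_noetherian ⟨⊤, hA⟩
      rcases Groth.L04.exists_regular_or_killed I Γ(X, ⊤) with ⟨r, hr, hreg⟩ | ⟨z, hz0, hz⟩
      · exact hzd r hr (mem_nonZeroDivisors_iff_right.mpr fun x hx =>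
          hreg (show r * x = r * 0 by rw [mul_zero, mul_comm]; exact hx))
      · exact hz0 (hkill z hz)
    · classical
      have hmin : (minimalPrimes Γ(X, ⊤)).Finite := by
        rw [← PrimeSpectrum.vanishingIdeal_irreducibleComponents]
        refine Set.Finite.image _ ?_
        let e := Scheme.homeoOfIso X.isoSpec
        refine (hfin.image (fun Z => e '' Z)).subset fun Z hZ => ⟨e ⁻¹' Z, ?_, Set.image_preimage_eq _ e.surjective⟩
        exact preimage_mem_irreducibleComponents hZ e.isOpenEmbedding (hZ.1.nonempty.mono fun z hz => ⟨hz, e.surjective z⟩)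
      have hsInf : ∀ a : Γ(X, ⊤), (∀ p ∈ minimalPrimes Γ(X, ⊤), a ∈ p) → a = 0 := fun a ha => by
        have h1 : a ∈ sInf (minimalPrimes Γ(X, ⊤)) := Submodule.mem_sInf.mpr ha
        rw [show minimalPrimes Γ(X, ⊤) = (⊥ : Ideal Γ(X, ⊤)).minimalPrimes from rfl, Ideal.sInf_minimalPrimes] at h1
        obtain ⟨n, hn⟩ := h1
        exact IsReduced.eq_zero a ⟨n, hn⟩
      have hsub : (I : Set Γ(X, ⊤)) ⊆ ⋃ p ∈ minimalPrimes Γ(X, ⊤), (p : Set Γ(X, ⊤)) := by
        intro g hg
        by_contra hgn
        simp only [Set.mem_iUnion, not_exists, SetLike.mem_coe] at hgn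
        exact hzd g hg (mem_nonZeroDivisors_iff_right.mpr fun x hx => hsInf x fun p hp =>
          ((hp.1.1).mem_or_mem (hx ▸ p.zero_mem : x * g ∈ p)).resolve_right (hgn p hp))
      obtain ⟨p, hp, hIp⟩ := (I.subset_union_prime_finite hmin (f := fun p => p) ⊤ ⊤
        fun q hq _ _ => hq.1.1).mp hsub
      have hne : ∀ q ∈ hmin.toFinset.erase p, ∃ a, a ∈ q ∧ a ∉ p := fun q hq => by
        rw [Finset.mem_erase, Set.Finite.mem_toFinset] at hq
        by_contra hc
        push Not at hc
        exact hq.1 (le_antisymm hc (hp.2 hq.2.1 hc))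
      choose a ha hap using hne
      let b := ∏ q ∈ (hmin.toFinset.erase p).attach, a q.1 q.2
      have hbp : b ∉ p := by
        intro hb
        haveI := hp.1.1
        obtain ⟨q, -, hq⟩ := (Ideal.IsPrime.prod_mem_iff).mp hb
        exact hap q.1 q.2 hq
      refine hbp (?_ : b ∈ p)
      rw [hkill b fun g hg => hsInf _ fun q hq => ?_]
      · exact p.zero_mem
      · by_cases hqp : q = p
        · exact q.mul_mem_right _ (hqp ▸ hIp hg)
        · refine q.mul_mem_left _ ?_
          haveI := hq.1.1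
          have hqm : q ∈ hmin.toFinset.erase p := Finset.mem_erase.mpr ⟨hqp, hmin.mem_toFinset.mpr hq⟩
          exact Ideal.IsPrime.prod_mem_iff.mpr ⟨⟨q, hqm⟩, Finset.mem_attach _ _, ha q hqm⟩
  · rintro ⟨t, ht, htU⟩ W
    rw [injective_iff_map_eq_zero]
    intro s hs
    refine TopCat.Presheaf.section_ext X.sheaf _ _ _ fun x hx => ?_
    obtain ⟨h, hhW, hxh⟩ := (isAffineOpen_top X).exists_basicOpen_le ⟨x, hx⟩ (Opens.mem_top x)
    haveI := (isAffineOpen_top X).isLocalization_basicOpen h
    haveI := (isAffineOpen_top X).isLocalization_basicOpen (h * t)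
    obtain ⟨⟨a, ⟨_, n, rfl⟩⟩, ha⟩ := IsLocalization.surj (Submonoid.powers h) (X.presheaf.map (homOfLE hhW).op s)
    have hle : X.basicOpen (h * t) ≤ X.basicOpen h := by rw [Scheme.basicOpen_mul]; exact inf_le_left
    have hle' : X.basicOpen (h * t) ≤ W ⊓ U := by
      rw [Scheme.basicOpen_mul]; exact inf_le_inf hhW htU
    have h0 := congrArg (X.presheaf.map (homOfLE hle').op) hs
    rw [map_zero, ← ConcreteCategory.comp_apply, ← Functor.map_comp] at h0
    have h1 : algebraMap Γ(X, ⊤) Γ(X, X.basicOpen (h * t)) a = 0 := by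
      have h2 := congrArg (X.presheaf.map (homOfLE hle).op) ha
      rw [map_mul, ← ConcreteCategory.comp_apply (X.presheaf.map _) (X.presheaf.map _) s, ← Functor.map_comp] at h2
      have h3 : X.presheaf.map ((homOfLE hhW).op ≫ (homOfLE hle).op) s = 0 := h0
      rw [h3, zero_mul] at h2
      refine Eq.trans ?_ h2.symm
      show X.presheaf.map _ a = X.presheaf.map _ (X.presheaf.map _ a)
      rw [← ConcreteCategory.comp_apply, ← Functor.map_comp]
      rfl
    obtain ⟨⟨_, m, rfl⟩, hm⟩ := (IsLocalization.map_eq_zero_iff (Submonoid.powers (h * t)) _ a).mp h1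
    have hm' : (h ^ m * a) * t ^ m = 0 := by
      rw [← hm]; show _ = (h * t) ^ m * a; ring
    have h4 : algebraMap Γ(X, ⊤) Γ(X, X.basicOpen h) a = 0 :=
      (IsLocalization.map_eq_zero_iff (Submonoid.powers h) _ a).mpr
        ⟨⟨h ^ m, m, rfl⟩, mem_nonZeroDivisors_iff_right.mp (pow_mem ht m) _ hm'⟩
    rw [h4] at ha
    have h5 := (IsUnit.mul_left_eq_zero (IsLocalization.map_units Γ(X, X.basicOpen h)
      (⟨h ^ n, n, rfl⟩ : Submonoid.powers h))).mp ha
    have h6 := congrArg (X.presheaf.germ (X.basicOpen h) x hxh) h5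
    rw [TopCat.Presheaf.germ_res_apply, map_zero] at h6
    exact h6.trans (map_zero _).symm

end Groth.Agent.S3834
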