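import Groth.Statements.S3836
import Groth.Agent.L07.RatNormal

set_option autoImplicit false
set_option linter.style.haveILetI false
universe u
open CategoryTheory CategoryTheory.Limits AlgebraicGeometry TopologicalSpace
open Rat20

namespace Groth.Agent.S3836

/-- Let X be a locally integral S-scheme, Y an S-scheme locally of finite type and separated over S, and
h : U → Y an S-morphism on a dense open subset (a rational S-map ω). Let Γ be the closure in X ×_S Y
of the graph of h and p : Γ → X the projection. If x is a point of X whose local ring is integrally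
closed and the fibre p⁻¹(x) contains an isolated point, then ω is defined at x: some S-morphism from
an open neighbourhood of x to Y agrees with h on U. -/
theorem result {X Y S : Scheme.{u}} (pX : X ⟶ S) (pY : Y ⟶ S)
    [LocallyOfFiniteType pY] [IsSeparated pY] (hX : ∀ y : ↥X, ∃ W : X.Opens, y ∈ W ∧ IsIntegral (W : Scheme.{u}))
    (U : X.Opens) (hU : Dense (U : Set ↥X)) (h : (U : Scheme.{u}) ⟶ Y) (hh : U.ι ≫ pX = h ≫ pY)
    (x : ↥X) (hx : IsIntegrallyClosed (X.presheaf.stalk x))
    (z : ↥(pullback pX pY)) (hz : pullback.fst pX pY z = x)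
    (hzΓ : z ∈ closure (Set.range (pullback.lift U.ι h hh)))
    (hiso : ∃ W : (pullback pX pY).Opens, (W : Set ↥(pullback pX pY)) ∩ closure (Set.range (pullback.lift U.ι h hh)) ∩
      (pullback.fst pX pY) ⁻¹' {x} = {z}) :
    ∃ (V : X.Opens) (v : (V : Scheme.{u}) ⟶ Y), x ∈ V ∧ v ≫ pY = V.ι ≫ pX ∧
      X.homOfLE (inf_le_right : U ⊓ V ≤ V) ≫ v = X.homOfLE (inf_le_left : U ⊓ V ≤ U) ≫ h := by
  obtain ⟨V₀, hxV₀, hV₀⟩ := hX x
  obtain ⟨W, hW⟩ := hiso
  have hzW : z ∈ W := ((Set.ext_iff.mp hW z).mpr rfl).1.1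
  haveI := hV₀
  obtain ⟨V, hxV, s, -, hs, -, hag⟩ := Groth.L07.RatNormal.extends_of_isolated (pullback.fst pX pY) U
    (pullback.lift U.ι h hh) (pullback.lift_fst _ _ _) z hzΓ x hz V₀ hxV₀ hx W hzW
    (fun w hw hwΓ hwx => (Set.ext_iff.mp hW w).mp ⟨⟨hw, hwΓ⟩, hwx⟩)
  refine ⟨V, s ≫ pullback.snd pX pY, hxV, ?_, ?_⟩
  · rw [Category.assoc, ← pullback.condition, reassoc_of% hs]
  · rw [reassoc_of% hag, pullback.lift_snd]

end Groth.Agent.S3836
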