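import Groth.Statements.S3837
import Groth.Agent.L07.RatNormal

set_option autoImplicit false
set_option linter.style.haveILetI false
universe u
set_option maxHeartbeats 2000000
set_option backward.isDefEq.respectTransparency.types false
set_option backward.isDefEq.respectTransparency false
open CategoryTheory CategoryTheory.Limits AlgebraicGeometry TopologicalSpace
open Rat20

namespace Groth.Agent.S3837

/-- Let X be a normal S-scheme (locally integral with integrally closed local rings), Y an S-scheme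
locally of finite type and separated over S, h : U → Y an S-morphism on a dense open subset (a
rational S-map ω), and f : X' → X a morphism locally of finite type and universally open with X'
reduced, so that f⁻¹(U) is dense and ω ∘ f is defined. Then for x' in X' with image x, ω is defined
at x if and only if ω ∘ f is defined at x': some S-morphism on an open neighbourhood of x agrees
with h on U if and only if some S-morphism on an open neighbourhood of x' agrees with h ∘ f on the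
preimage of U. -/
theorem result {X X' Y S : Scheme.{u}} (pX : X ⟶ S) (pY : Y ⟶ S)
    [LocallyOfFiniteType pY] [IsSeparated pY] (hX : ∀ y : ↥X, ∃ W : X.Opens, y ∈ W ∧ IsIntegral (W : Scheme.{u}))
    (hXn : ∀ y : ↥X, IsIntegrallyClosed (X.presheaf.stalk y))
    (U : X.Opens) (hU : Dense (U : Set ↥X)) (h : (U : Scheme.{u}) ⟶ Y) (hh : h ≫ pY = U.ι ≫ pX)
    (f : X' ⟶ X) [LocallyOfFiniteType f] [UniversallyOpen f] [IsReduced X'] (x' : ↥X') :
    (∃ (V : X.Opens) (v : (V : Scheme.{u}) ⟶ Y), f x' ∈ V ∧ v ≫ pY = V.ι ≫ pX ∧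
        X.homOfLE (inf_le_right : U ⊓ V ≤ V) ≫ v = X.homOfLE (inf_le_left : U ⊓ V ≤ U) ≫ h) ↔
      ∃ (V' : X'.Opens) (v' : (V' : Scheme.{u}) ⟶ Y), x' ∈ V' ∧ v' ≫ pY = V'.ι ≫ f ≫ pX ∧
        X'.homOfLE (inf_le_right : f ⁻¹ᵁ U ⊓ V' ≤ V') ≫ v' =
          X'.homOfLE (inf_le_left : f ⁻¹ᵁ U ⊓ V' ≤ f ⁻¹ᵁ U) ≫ (f ∣_ U) ≫ h := by
  set x := f x' with hxdef
  constructor
  · rintro ⟨V, v, hxV, hv, hag⟩
    refine ⟨f ⁻¹ᵁ V, (f ∣_ V) ≫ v, hxV, ?_, ?_⟩
    · rw [Category.assoc, hv, morphismRestrict_ι_assoc]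
    · have aux : ∀ (W₁ W₂ : X.Opens) (hW : W₁ ≤ W₂),
          X'.homOfLE ((Opens.map f.base).monotone hW) ≫ (f ∣_ W₂) = (f ∣_ W₁) ≫ X.homOfLE hW := by
        intro W₁ W₂ hW
        rw [← cancel_mono W₂.ι]
        simp
      have e1 : X'.homOfLE (inf_le_right : f ⁻¹ᵁ U ⊓ f ⁻¹ᵁ V ≤ f ⁻¹ᵁ V) ≫ (f ∣_ V) =
          (f ∣_ (U ⊓ V)) ≫ X.homOfLE (inf_le_right : U ⊓ V ≤ V) := aux (U ⊓ V) V inf_le_right
      have e2 : X'.homOfLE (inf_le_left : f ⁻¹ᵁ U ⊓ f ⁻¹ᵁ V ≤ f ⁻¹ᵁ U) ≫ (f ∣_ U) =
          (f ∣_ (U ⊓ V)) ≫ X.homOfLE (inf_le_left : U ⊓ V ≤ U) := aux (U ⊓ V) U inf_le_left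
      rw [reassoc_of% e1, reassoc_of% e2, hag]
  · rintro ⟨V', v', hx'V', hv', hag⟩
    let σ : (U : Scheme.{u}) ⟶ pullback pX pY := pullback.lift U.ι h hh.symm
    let q := pullback.fst pX pY
    let q' := pullback.fst f q
    let F := pullback.snd f q
    let Q := pullback f q
    let ρ₂ : (V' : Scheme.{u}) ⟶ pullback pX pY :=
      pullback.lift (V'.ι ≫ f) v' (by rw [Category.assoc, hv'])
    let ρ : (V' : Scheme.{u}) ⟶ Q := pullback.lift V'.ι ρ₂ (pullback.lift_fst _ _ _).symm
    have hρq : ρ ≫ q' = V'.ι := pullback.lift_fst _ _ _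
    have hρF : ρ ≫ F = ρ₂ := pullback.lift_snd _ _ _
    -- the range of `ρ` is closed over `V'`
    have hρcl : ∀ w : Q, q' w ∈ V' → w ∈ closure (Set.range ρ) → w ∈ Set.range ρ := by
      intro w hwV hw
      have hr : Set.range ρ ⊆ Set.range (q' ⁻¹ᵁ V').ι := by
        rintro _ ⟨v, rfl⟩
        rw [Scheme.Opens.range_ι]
        show q' (ρ v) ∈ V'
        rw [← Scheme.Hom.comp_apply, hρq]
        exact v.2
      let ρ' := IsOpenImmersion.lift (q' ⁻¹ᵁ V').ι ρ hr
      have hρ' : ρ' ≫ (q' ⁻¹ᵁ V').ι = ρ := IsOpenImmersion.lift_fac _ _ _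
      have h1 : ρ' ≫ (q' ∣_ V') = 𝟙 _ := by
        rw [← cancel_mono V'.ι, Category.assoc, morphismRestrict_ι, ← Category.assoc, hρ', hρq,
          Category.id_comp]
      have : IsClosedImmersion (ρ' ≫ (q' ∣_ V')) := by rw [h1]; infer_instance
      have : IsClosedImmersion ρ' := IsClosedImmersion.of_comp ρ' (q' ∣_ V')
      obtain ⟨c, hc, hcO⟩ : ∃ c, IsClosed c ∧ (q' ⁻¹ᵁ V').ι ⁻¹' c = Set.range ρ' :=
        (q' ⁻¹ᵁ V').ι.isOpenEmbedding.isInducing.isClosed_iff.mp ρ'.isClosedEmbedding.isClosed_range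
      have hmem : (⟨w, hwV⟩ : (q' ⁻¹ᵁ V' : Q.Opens)) ∈ closure (Set.range ρ') := by
        rw [mem_closure_iff]
        intro O hO hwO
        obtain ⟨_, ⟨o, ho, hov⟩, v, rfl⟩ :=
          mem_closure_iff.mp hw _ ((q' ⁻¹ᵁ V').ι.isOpenEmbedding.isOpenMap O hO) ⟨_, hwO, rfl⟩
        refine ⟨o, ho, v, (q' ⁻¹ᵁ V').ι.isOpenEmbedding.injective ?_⟩
        rw [← Scheme.Hom.comp_apply, hρ', hov]
      rw [ρ'.isClosedEmbedding.isClosed_range.closure_eq] at hmem
      obtain ⟨v, hv⟩ := hmem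
      exact ⟨v, by rw [← hρ', Scheme.Hom.comp_apply, hv]; rfl⟩
    -- points of `Q` over the graph
    have hE : ∀ w : Q, q' w ∈ V' → F w ∈ Set.range σ → w ∈ Set.range ρ := by
      rintro w hwV ⟨u, hu⟩
      have hσq : σ ≫ q = U.ι := pullback.lift_fst _ _ _
      have hb : Function.Surjective (σ.residueFieldMap u).hom := by
        have h1 : Function.Bijective ((σ ≫ q).residueFieldMap u).hom := by
          rw [Scheme.Hom.residueFieldMap_congr hσq u]
          exact ConcreteCategory.bijective_of_isIso _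
        rw [Scheme.residueFieldMap_comp] at h1
        exact Function.Surjective.of_comp h1.2
      have : IsIso (σ.residueFieldMap u) :=
        (ConcreteCategory.isIso_iff_bijective _).mpr ⟨RingHom.injective _, hb⟩
      let e : Spec (Q.residueField w) ⟶ (U : Scheme.{u}) :=
        Spec.map (F.residueFieldMap w) ≫ Spec.map (Scheme.residueFieldCongr hu).hom ≫
          Spec.map (inv (σ.residueFieldMap u)) ≫ (U : Scheme.{u}).fromSpecResidueField u
      have he : e ≫ σ = Q.fromSpecResidueField w ≫ F := by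
        have h1 : Spec.map (inv (σ.residueFieldMap u)) ≫ (U : Scheme.{u}).fromSpecResidueField u ≫ σ =
            (pullback pX pY).fromSpecResidueField (σ u) := by
          rw [← Scheme.Hom.SpecMap_residueFieldMap_fromSpecResidueField, ← Spec.map_comp_assoc,
            IsIso.hom_inv_id, Spec.map_id, Category.id_comp]
        simp only [e, Category.assoc, h1, Scheme.residueFieldCongr_fromSpecResidueField,
          Scheme.Hom.SpecMap_residueFieldMap_fromSpecResidueField]
        rfl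
      let b := Q.fromSpecResidueField w ≫ q'
      have hbr : Set.range b ⊆ Set.range V'.ι := by
        rintro _ ⟨t, rfl⟩
        rw [Scheme.Opens.range_ι]
        show q' (Q.fromSpecResidueField w t) ∈ V'
        rw [Scheme.fromSpecResidueField_apply]
        exact hwV
      let b' := IsOpenImmersion.lift V'.ι b hbr
      have hb' : b' ≫ V'.ι = b := IsOpenImmersion.lift_fac _ _ _
      have hbf : b ≫ f = e ≫ U.ι := by
        rw [← hσq, reassoc_of% he, Category.assoc, pullback.condition]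
      have hbr2 : Set.range b ⊆ Set.range (f ⁻¹ᵁ U ⊓ V').ι := by
        rintro _ ⟨t, rfl⟩
        rw [Scheme.Opens.range_ι]
        refine ⟨?_, by simpa using hbr ⟨t, rfl⟩⟩
        show f (b t) ∈ U
        rw [← Scheme.Hom.comp_apply, hbf]
        exact (e t).2
      let b'' := IsOpenImmersion.lift (f ⁻¹ᵁ U ⊓ V').ι b hbr2
      have hb'' : b'' ≫ (f ⁻¹ᵁ U ⊓ V').ι = b := IsOpenImmersion.lift_fac _ _ _
      have hsnd : e ≫ h = b' ≫ v' := by
        have e1 : b'' ≫ X'.homOfLE (inf_le_right : f ⁻¹ᵁ U ⊓ V' ≤ V') = b' := by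
          rw [← cancel_mono V'.ι, Category.assoc, Scheme.homOfLE_ι, hb'', hb']
        have e2 : b'' ≫ X'.homOfLE (inf_le_left : f ⁻¹ᵁ U ⊓ V' ≤ f ⁻¹ᵁ U) ≫ (f ∣_ U) = e := by
          rw [← cancel_mono U.ι]
          simp only [Category.assoc, morphismRestrict_ι, Scheme.homOfLE_ι_assoc]
          rw [reassoc_of% hb'', hbf]
        rw [← e1, Category.assoc b'', hag, ← Category.assoc, ← Category.assoc, Category.assoc b'', e2]
      have key : Q.fromSpecResidueField w = b' ≫ ρ := by
        refine pullback.hom_ext ?_ ?_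
        · rw [Category.assoc, hρq, hb']
        · rw [Category.assoc, hρF, ← he]
          refine pullback.hom_ext ?_ ?_
          · simp only [Category.assoc, ρ₂, pullback.lift_fst]
            rw [reassoc_of% hb', show σ ≫ pullback.fst pX pY = U.ι from hσq]
            exact hbf.symm
          · simp only [Category.assoc, ρ₂, σ, pullback.lift_snd]
            exact hsnd
      refine ⟨b' (IsLocalRing.closedPoint _), ?_⟩
      rw [← Scheme.Hom.comp_apply, ← key, Scheme.fromSpecResidueField_apply]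
    -- the point `z` and its isolation
    let w₀ : Q := ρ ⟨x', hx'V'⟩
    have hw₀q : q' w₀ = x' := by
      show q' (ρ ⟨x', hx'V'⟩) = x'
      rw [← Scheme.Hom.comp_apply, hρq]
      rfl
    have hclF : F ⁻¹' closure (Set.range σ) = closure (F ⁻¹' Set.range σ) :=
      F.isOpenMap.preimage_closure_eq_closure_preimage F.continuous _
    have hw₀E : F w₀ ∈ closure (Set.range σ) := by
      show w₀ ∈ F ⁻¹' closure (Set.range σ)
      rw [hclF]
      have hd : Dense ((f ⁻¹ᵁ U : X'.Opens) : Set X') := hU.preimage f.isOpenMap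
      have hd' : Dense (V'.ι ⁻¹' ((f ⁻¹ᵁ U : X'.Opens) : Set X')) :=
        hd.preimage V'.ι.isOpenEmbedding.isOpenMap
      refine closure_mono ?_ ((image_closure_subset_closure_image ρ.continuous)
        ⟨_, hd' ⟨x', hx'V'⟩, rfl⟩)
      rintro _ ⟨v, hv, rfl⟩
      let j := IsOpenImmersion.lift V'.ι (f ⁻¹ᵁ U ⊓ V').ι
        (by rw [Scheme.Opens.range_ι, Scheme.Opens.range_ι]; exact fun _ h => h.2)
      have hjr : X'.homOfLE (inf_le_right : f ⁻¹ᵁ U ⊓ V' ≤ V') ≫ ρ₂ =
          X'.homOfLE (inf_le_left : f ⁻¹ᵁ U ⊓ V' ≤ f ⁻¹ᵁ U) ≫ (f ∣_ U) ≫ σ := by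
        refine pullback.hom_ext ?_ ?_
        · simp only [Category.assoc, ρ₂, σ, pullback.lift_fst, morphismRestrict_ι,
            Scheme.homOfLE_ι_assoc]
        · simp only [Category.assoc, ρ₂, σ, pullback.lift_snd]
          exact hag
      show F (ρ v) ∈ Set.range σ
      rw [← Scheme.Hom.comp_apply, hρF]
      refine ⟨(X'.homOfLE (inf_le_left : f ⁻¹ᵁ U ⊓ V' ≤ f ⁻¹ᵁ U) ≫ (f ∣_ U)) ⟨v.1, hv, v.2⟩, ?_⟩
      rw [← Scheme.Hom.comp_apply, Category.assoc, ← hjr, Scheme.Hom.comp_apply]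
      congr 1
      exact Subtype.ext (by simp)
    obtain ⟨V₀, hxV₀, hV₀⟩ := hX x
    haveI := hV₀
    have hqF : q (F w₀) = x := by
      rw [← Scheme.Hom.comp_apply, ← pullback.condition, Scheme.Hom.comp_apply, hw₀q]
    obtain ⟨V, hxV, s, -, hs, -, hag'⟩ := Groth.L07.RatNormal.extends_of_isolated q U σ
      (pullback.lift_fst _ _ _) (F w₀) hw₀E x hqF V₀ hxV₀ (hXn x) ⊤ trivial
      (fun wP _ hwE hwx => by
        obtain ⟨w, hw1, hw2⟩ := Scheme.Pullback.exists_preimage_pullback (f := f) (g := q) x' wP hwx.symm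
        change q' w = x' at hw1
        change F w = wP at hw2
        have hwV : q' w ∈ V' := hw1 ▸ hx'V'
        have hwZ : w ∈ closure (F ⁻¹' Set.range σ) := by
          rw [← hclF]
          refine Set.mem_preimage.mpr ?_
          rw [hw2]
          exact hwE
        have hwρ : w ∈ closure (Set.range ρ) :=
          closure_mono (fun a ha => hE a ha.1 ha.2)
            ((q' ⁻¹ᵁ V').2.inter_closure ⟨hwV, hwZ⟩)
        obtain ⟨v, hv⟩ := hρcl w hwV hwρ
        have : v = ⟨x', hx'V'⟩ := by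
          apply V'.ι.isOpenEmbedding.injective
          show V'.ι v = x'
          rw [← hρq, Scheme.Hom.comp_apply, hv, hw1]
        rw [← hw2, ← hv, this])
    refine ⟨V, s ≫ pullback.snd pX pY, hxV, ?_, ?_⟩
    · rw [Category.assoc, ← pullback.condition, reassoc_of% hs]
    · rw [reassoc_of% hag', pullback.lift_snd]

end Groth.Agent.S3837
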