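import Groth.Statements.S3842
import Mathlib.AlgebraicGeometry.Properties

set_option autoImplicit false
set_option linter.style.haveILetI false
universe u
open CategoryTheory CategoryTheory.Limits AlgebraicGeometry TopologicalSpace
open Rat20

namespace Groth.Agent.S3842

/-- For the open subset U = X; the general case is the same statement over the open subscheme U: let f :
X' → X be a morphism of schemes with X' reduced, suppose the irreducible components of X form a
locally finite family and that every irreducible component of X' dominates an irreducible component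
of X (the closure of its image is an irreducible component of X). Then for every schematically dense
open subset V of X, the preimage f⁻¹(V) is schematically dense in X'. -/
theorem result {X X' : Scheme.{u}} (f : X' ⟶ X) [IsReduced X']
    (hfin : ∀ x : ↥X, ∃ W : X.Opens, x ∈ W ∧ {Z ∈ irreducibleComponents ↥X | (Z ∩ (W : Set ↥X)).Nonempty}.Finite)
    (hdom : ∀ Z' ∈ irreducibleComponents ↥X', closure (f '' Z') ∈ irreducibleComponents ↥X)
    (V : X.Opens) (hV : CInt.IsSchematicallyDense V) : CInt.IsSchematicallyDense (f ⁻¹ᵁ V) := by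
  have hgen : ∀ Z ∈ irreducibleComponents ↥X, ∀ η : ↥X, IsGenericPoint η Z → η ∈ V := by
    intro Z hZ η hη
    by_contra hηV
    obtain ⟨W, hxW, hW⟩ := hfin η
    let T := {Z' ∈ irreducibleComponents ↥X | (Z' ∩ (W : Set ↥X)).Nonempty ∧ Z' ≠ Z}
    have hT : T.Finite := hW.subset fun Z' hZ' => ⟨hZ'.1, hZ'.2.1⟩
    have hc : IsClosed (⋃₀ T) := by
      rw [Set.sUnion_eq_biUnion]
      exact hT.isClosed_biUnion fun Z' hZ' => isClosed_of_mem_irreducibleComponents Z' hZ'.1
    let N : X.Opens := ⟨(W : Set ↥X) ∩ (⋃₀ T)ᶜ, W.2.inter hc.isOpen_compl⟩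
    have hηN : η ∈ N := ⟨hxW, by
      rintro ⟨Z', hZ', hη'⟩
      refine hZ'.2.2 (le_antisymm (hZ.2 hZ'.1.1 ?_) ?_) <;> rw [← hη.def]
      · exact (isClosed_of_mem_irreducibleComponents Z' hZ'.1).closure_subset_iff.mpr (by simpa using hη')
      · exact (isClosed_of_mem_irreducibleComponents Z' hZ'.1).closure_subset_iff.mpr (by simpa using hη')⟩
    -- the open `N` lies in `Z`, so it cannot meet `V`
    have hNV : N ⊓ V = ⊥ := by
      refine Opens.ext (Set.eq_empty_iff_forall_notMem.mpr ?_)
      rintro y ⟨hyN, hyV⟩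
      have hyZ : y ∈ Z := by
        by_contra hy
        exact hyN.2 ⟨irreducibleComponent y, ⟨irreducibleComponent_mem_irreducibleComponents y,
          ⟨y, mem_irreducibleComponent, hyN.1⟩, fun he => hy (he ▸ mem_irreducibleComponent)⟩,
          mem_irreducibleComponent⟩
      have hspec : η ⤳ y := hη.specializes hyZ
      exact hηV (hspec.mem_open V.2 hyV)
    haveI : Nonempty N.toScheme := ⟨⟨η, hηN⟩⟩
    have := Scheme.component_nontrivial X N
    have hsub : Subsingleton Γ(X, N ⊓ V) := by
      rw [hNV]; exact CommRingCat.subsingleton_of_isTerminal X.sheaf.isTerminalOfEmpty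
    exact one_ne_zero (hV N (Subsingleton.elim _ (X.presheaf.map (homOfLE (inf_le_left : N ⊓ V ≤ N)).op 0)))
  intro W
  rw [injective_iff_map_eq_zero]
  intro s hs
  apply eq_zero_of_basicOpen_eq_bot
  by_contra hne
  obtain ⟨y, hy⟩ := (Opens.not_nonempty_iff_eq_bot _).not.mpr hne |> not_not.mp
  obtain ⟨η', hη'⟩ := QuasiSober.sober (isIrreducible_irreducibleComponent (x := y))
    isClosed_irreducibleComponent
  have hη'V : η' ∈ f ⁻¹ᵁ V := hgen _ (hdom _ (irreducibleComponent_mem_irreducibleComponents y)) (f η')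
    (hη'.image f.continuous)
  have hη'U : η' ∈ X'.basicOpen s := (hη'.specializes mem_irreducibleComponent).mem_open (X'.basicOpen s).2 hy
  have h1 : X'.basicOpen (X'.presheaf.map (homOfLE (inf_le_left : W ⊓ f ⁻¹ᵁ V ≤ W)).op s) =
      (W ⊓ f ⁻¹ᵁ V) ⊓ X'.basicOpen s := X'.basicOpen_res s _
  rw [hs, Scheme.basicOpen_zero] at h1
  exact (h1.ge ⟨⟨X'.basicOpen_le s hη'U, hη'V⟩, hη'U⟩ : η' ∈ (⊥ : X'.Opens))

end Groth.Agent.S3842
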