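import Groth.Statements.S3846
import Mathlib.AlgebraicGeometry.Morphisms.Etale
import Mathlib.AlgebraicGeometry.Morphisms.FlatMono
-- import your own Groth.Agent.* helpers here

set_option autoImplicit false
universe u
open CategoryTheory CategoryTheory.Limits AlgebraicGeometry TopologicalSpace
open Unram17

namespace Groth.Agent.S3846

/-- a) iff b''): let f : X → Y be locally of finite presentation and x a point of X. Then f is
unramified on some open neighbourhood of x if and only if, for every base change g : Y' → Y and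
every section s' of X ×_Y Y' → Y', s' is a local isomorphism at every point y' of Y' such that
s'(y') lies over x. -/
theorem result {X Y : Scheme.{u}} (f : X ⟶ Y) [LocallyOfFinitePresentation f]
    (x : ↥X) :
    (∃ U : X.Opens, x ∈ U ∧ FormallyUnramified (U.ι ≫ f)) ↔
      ∀ (Y' : Scheme.{u}) (g : Y' ⟶ Y) (s' : Y' ⟶ pullback f g), s' ≫ pullback.snd f g = 𝟙 Y' →
        ∀ y' : ↥Y', pullback.fst f g (s' y') = x → SchLoc.IsLocalIsoAt s' y' := by
  constructor
  · rintro ⟨U, hxU, hU⟩ Y' g s' hs y' hy
    let V : (pullback f g).Opens := pullback.fst f g ⁻¹ᵁ U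
    have H := (isPullback_morphismRestrict (pullback.fst f g) U).paste_vert
      (IsPullback.of_hasPullback f g)
    haveI : FormallyUnramified (V.ι ≫ pullback.snd f g) := MorphismProperty.of_isPullback H hU
    haveI : LocallyOfFiniteType (V.ι ≫ pullback.snd f g) := inferInstance
    let t : (s' ⁻¹ᵁ V).toScheme ⟶ V.toScheme := s' ∣_ V
    have ht : t ≫ V.ι ≫ pullback.snd f g = (s' ⁻¹ᵁ V).ι := by
      rw [morphismRestrict_ι_assoc, hs, Category.comp_id]
    haveI : Etale (t ≫ V.ι ≫ pullback.snd f g) := by rw [ht]; infer_instance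
    haveI : Etale t := Etale.of_comp t (V.ι ≫ pullback.snd f g)
    haveI : Mono t := @mono_of_mono _ _ _ _ _ t (V.ι ≫ pullback.snd f g) (by rw [ht]; infer_instance)
    haveI : IsOpenImmersion t := IsOpenImmersion.of_flat_of_mono t
    refine ⟨s' ⁻¹ᵁ V, ?_, ?_⟩
    · show pullback.fst f g (s' y') ∈ U
      rw [hy]; exact hxU
    · rw [← morphismRestrict_ι]; infer_instance
  · intro h
    obtain ⟨U, hxU, hU⟩ := h X f (pullback.diagonal f) (pullback.diagonal_snd f) x
      (by rw [← Scheme.Hom.comp_apply, pullback.diagonal_fst]; rfl)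
    refine ⟨U, hxU, ?_⟩
    let m : pullback (U.ι ≫ f) (U.ι ≫ f) ⟶ pullback f f :=
      pullback.map _ _ _ _ U.ι U.ι (𝟙 _) (Category.comp_id _) (Category.comp_id _)
    haveI : IsOpenImmersion (pullback.diagonal (U.ι ≫ f) ≫ m) := by
      have e : pullback.diagonal (U.ι ≫ f) ≫ m = U.ι ≫ pullback.diagonal f := by
        apply pullback.hom_ext <;> simp only [m, pullback.map, Category.assoc, pullback.lift_fst, pullback.lift_snd, pullback.diagonal_fst, pullback.diagonal_snd, pullback.diagonal_fst_assoc, pullback.diagonal_snd_assoc, Category.comp_id]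
      rw [e]; exact hU
    haveI : IsOpenImmersion (pullback.diagonal (U.ι ≫ f)) := IsOpenImmersion.of_comp _ m
    infer_instance

end Groth.Agent.S3846
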