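import Groth.Statements.S3849
import Groth.Agent.L07.RatSection

set_option autoImplicit false
set_option linter.style.haveILetI false
universe u
set_option maxHeartbeats 1000000
set_option backward.isDefEq.respectTransparency.types false
set_option backward.isDefEq.respectTransparency false
open CategoryTheory CategoryTheory.Limits AlgebraicGeometry TopologicalSpace
open Rat20

namespace Groth.Agent.S3849

/-- In the case S = X (sections of q : Y → X): let X be a locally Noetherian scheme, q : Y → X
separated, locally of finite type and locally quasi-finite, U a dense open subset of X, h : U → Y a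
section of q over U, and x a point of X outside U whose local ring is an integrally closed domain.
Then h extends to a section of q over an open subset containing U and x if and only if there exist a
discrete valuation ring R, a morphism u : Spec R → X sending the closed point to x and the generic
point into U, and a morphism Spec R → Y over X agreeing with h at the generic point. -/
theorem result {X Y : Scheme.{u}} [IsLocallyNoetherian X] (q : Y ⟶ X)
    [LocallyOfFiniteType q] [IsSeparated q] [LocallyQuasiFinite q] (U : X.Opens) (hU : Dense (U : Set ↥X))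
    (h : (U : Scheme.{u}) ⟶ Y) (hh : h ≫ q = U.ι) (x : ↥X) (hxU : x ∉ U) [IsDomain ↑(X.presheaf.stalk x)]
    (hx : IsIntegrallyClosed ↑(X.presheaf.stalk x)) :
    (∃ (U' : X.Opens) (hUU' : U ≤ U') (h' : (U' : Scheme.{u}) ⟶ Y),
        x ∈ U' ∧ h' ≫ q = U'.ι ∧ X.homOfLE hUU' ≫ h' = h) ↔
      ∃ (R : Type u) (_ : CommRing R) (_ : IsDomain R) (_ : IsDiscreteValuationRing R)
        (u : Spec (CommRingCat.of R) ⟶ X) (ub : Spec (CommRingCat.of (FractionRing R)) ⟶ (U : Scheme.{u}))
        (h₁ : Spec (CommRingCat.of R) ⟶ Y),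
        u (IsLocalRing.closedPoint R) = x ∧
          ub ≫ U.ι = Spec.map (CommRingCat.ofHom (algebraMap R (FractionRing R))) ≫ u ∧
          h₁ ≫ q = u ∧ Spec.map (CommRingCat.ofHom (algebraMap R (FractionRing R))) ≫ h₁ = ub ≫ h := by
  obtain ⟨V₀, hxV₀, -, hV₀⟩ := Groth.L07.RatSection.exists_integral_nhd x
  haveI := hV₀
  constructor
  · rintro ⟨U', hUU', h', hxU', hh', hag⟩
    let η₀ := genericPoint (V₀ : Scheme.{u})
    have hηx : V₀.ι η₀ ⤳ x :=
      (show η₀ ⤳ (⟨x, hxV₀⟩ : (V₀ : Scheme.{u})) from (genericPoint_spec _).specializes trivial).map V₀.ι.continuous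
    have hηU : V₀.ι η₀ ∈ U := by
      obtain ⟨d, hdV, hdU⟩ := dense_iff_inter_open.mp hU _ V₀.2 ⟨x, hxV₀⟩
      exact ((show η₀ ⤳ (⟨d, hdV⟩ : (V₀ : Scheme.{u})) from
        (genericPoint_spec _).specializes trivial).map V₀.ι.continuous).mem_open U.2 hdU
    obtain ⟨R, i1, i2, i3, u, ub, hu, hub, -⟩ := Groth.L07.RatSection.exists_dvr_into hηx hηU hxU
    obtain ⟨h₁, h1, -, h3⟩ := Groth.L07.RatSection.exists_lift_of_extension q U U' hUU' h h' hh' hag u
      hu hxU' ub _ hub
    exact ⟨R, i1, i2, i3, u, ub, h₁, hu, hub, h1, h3⟩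
  · rintro ⟨R, _, _, _, u, ub, h₁, hu, hub, h1, h3⟩
    let y₀ := h₁ (IsLocalRing.closedPoint R)
    have hqy : q y₀ = x := by
      rw [← hu, ← h1]
      rfl
    have hz : y₀ ∈ closure (Set.range h) := by
      rw [mem_closure_iff]
      intro O hO hyO
      let η := Spec.map (CommRingCat.ofHom (algebraMap R (FractionRing R))) (IsLocalRing.closedPoint (FractionRing R))
      refine ⟨h₁ η, ((IsLocalRing.specializes_closedPoint η).map h₁.continuous).mem_open hO hyO,
        ub (IsLocalRing.closedPoint (FractionRing R)), ?_⟩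
      show (ub ≫ h) _ = _
      rw [← h3]
      rfl
    haveI : DiscreteTopology (q ⁻¹' {x}) := (q.isDiscrete_preimage_singleton x).to_subtype
    obtain ⟨O, hO, hOe⟩ := isOpen_induced_iff.mp (isOpen_discrete ({⟨y₀, hqy⟩} : Set (q ⁻¹' {x})))
    obtain ⟨V, hxV, s, -, hs, -, hag⟩ := Groth.L07.RatNormal.extends_of_isolated q U h hh y₀ hz x hqy
      V₀ hxV₀ hx ⟨O, hO⟩ ((Set.ext_iff.mp hOe ⟨y₀, hqy⟩).mpr rfl)
      (fun w hw _ hwx => congrArg Subtype.val ((Set.ext_iff.mp hOe ⟨w, hwx⟩).mp hw))
    obtain ⟨U', hUU', hxU', h', hh', hag', -⟩ :=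
      Groth.L07.RatSection.exists_extension_of_agree q U V h hh hxV s hs hag
    exact ⟨U', hUU', h', hxU', hh', hag'⟩

end Groth.Agent.S3849
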