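import Groth.Statements.S3851
import Groth.Agent.L06.CplGeomMain
import Mathlib.FieldTheory.IsAlgClosed.AlgebraicClosure

set_option autoImplicit false
set_option maxSynthPendingDepth 3
set_option linter.style.haveILetI false
universe u
open scoped TensorProduct
open EGA418

namespace Groth.Agent.S3851

/-- a) iff a') iff b), and b) implies d): let k be a field, A a complete Noetherian local k-algebra
whose residue field is finite over k, p a non-maximal prime of A, n the largest dimension of an
irreducible component of Spec A containing p, and Ω̂ the completion of the module of differentials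
of A over k for the topology of the maximal ideal. For a field extension k' of k write A' = A ⊗̂_k
k' (the completion of A ⊗_k k' for the extension of the maximal ideal). The following are
equivalent: (a) for every extension k' and every prime p' of A' over p, A'_{p'} is regular; (a') for
some perfect extension k' and some prime p' of A' over p, A'_{p'} is regular; (b) Ω̂_p is a free
A_p-module of rank n. Moreover (b) implies (d): A_p is geometrically regular over k. (The converse
of the last implication, valid when [k : k^p] is finite, is not stated.) -/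
theorem result (k A : Type u) [Field k] [CommRing A]
    [IsLocalRing A] [IsNoetherianRing A] [Algebra k A] [IsAdicComplete (IsLocalRing.maximalIdeal A) A]
    [Module.Finite k (IsLocalRing.ResidueField A)] (p : Ideal A) [p.IsPrime] (hp : p ≠ IsLocalRing.maximalIdeal A)
    (n : ℕ) (hn₁ : ∀ q ∈ minimalPrimes A, q ≤ p → ringKrullDim (A ⧸ q) ≤ n)
    (hn₂ : ∃ q ∈ minimalPrimes A, q ≤ p ∧ ringKrullDim (A ⧸ q) = n) :
    List.TFAE [
      ∀ (k' : Type u) [Field k'] [Algebra k k']
        (p' : Ideal (AdicCompletion ((IsLocalRing.maximalIdeal A).map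
          (Algebra.TensorProduct.includeLeft : A →ₐ[k] A ⊗[k] k')) (A ⊗[k] k'))) [p'.IsPrime],
        (p'.comap (algebraMap (A ⊗[k] k') _)).comap
            (Algebra.TensorProduct.includeLeft : A →ₐ[k] A ⊗[k] k').toRingHom = p →
          IsRegularLocalRing (Localization.AtPrime p'),
      ∃ (k' : Type u) (_ : Field k') (_ : Algebra k k') (_ : PerfectField k')
        (p' : Ideal (AdicCompletion ((IsLocalRing.maximalIdeal A).map
          (Algebra.TensorProduct.includeLeft : A →ₐ[k] A ⊗[k] k')) (A ⊗[k] k'))) (_ : p'.IsPrime),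
        (p'.comap (algebraMap (A ⊗[k] k') _)).comap
            (Algebra.TensorProduct.includeLeft : A →ₐ[k] A ⊗[k] k').toRingHom = p ∧
          IsRegularLocalRing (Localization.AtPrime p'),
      Module.Free (Localization.AtPrime p)
          (LocalizedModule p.primeCompl (AdicCompletion (IsLocalRing.maximalIdeal A) (KaehlerDifferential k A))) ∧
        Module.finrank (Localization.AtPrime p)
          (LocalizedModule p.primeCompl (AdicCompletion (IsLocalRing.maximalIdeal A) (KaehlerDifferential k A))) = n] ∧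
    ((Module.Free (Localization.AtPrime p)
          (LocalizedModule p.primeCompl (AdicCompletion (IsLocalRing.maximalIdeal A) (KaehlerDifferential k A))) ∧
        Module.finrank (Localization.AtPrime p)
          (LocalizedModule p.primeCompl (AdicCompletion (IsLocalRing.maximalIdeal A) (KaehlerDifferential k A))) = n) →
      CAlg.IsGeometricallyRegular k (Localization.AtPrime p)) := by
  classical
  let φ₀ := algebraMap A (Localization.AtPrime p)
  let q₀ : Ideal A := RingHom.ker φ₀
  have hkill : ∀ x ∈ q₀, ∃ t ∉ p, t * x = 0 := fun x hx => by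
    obtain ⟨⟨t, ht⟩, htx⟩ := (IsLocalization.map_eq_zero_iff p.primeCompl (Localization.AtPrime p) x).mp (RingHom.mem_ker.mp hx)
    exact ⟨t, ht, htx⟩
  have hq0p : q₀ ≤ p := fun x hx => by
    obtain ⟨t, ht, htx⟩ := hkill x hx
    exact ((inferInstance : p.IsPrime).mem_or_mem (htx.symm ▸ p.zero_mem)).resolve_left ht
  have hq0q : ∀ q ∈ minimalPrimes A, q ≤ p → q₀ ≤ q := fun q hq hqp x hx => by
    obtain ⟨t, ht, htx⟩ := hkill x hx
    exact (hq.1.1.mem_or_mem (htx.symm ▸ q.zero_mem)).resolve_left fun h => ht (hqp h)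
  have hcover : ∀ P : Ideal A, P.IsPrime → q₀ ≤ P → ∃ q ∈ minimalPrimes A, q ≤ p ∧ q ≤ P := by
    intro P hP hqP
    by_contra hcon
    push Not at hcon
    have hx : ∀ q : {q : Ideal A // q ∈ minimalPrimes A ∧ q ≤ p}, ∃ x ∈ q.1, x ∉ P :=
      fun q => Set.not_subset.mp (hcon q.1 q.2.1 q.2.2)
    choose x hx hxP using hx
    haveI : Finite {q : Ideal A // q ∈ minimalPrimes A ∧ q ≤ p} :=
      ((minimalPrimes.finite_of_isNoetherianRing A).subset fun q hq => hq.1).to_subtype
    letI := Fintype.ofFinite {q : Ideal A // q ∈ minimalPrimes A ∧ q ≤ p}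
    have hnil : IsNilpotent (φ₀ (∏ q, x q)) := nilpotent_iff_mem_prime.mpr fun Q hQ => by
      haveI := hQ
      obtain ⟨q, hq, hqQ⟩ := Ideal.exists_minimalPrimes_le (I := (⊥ : Ideal A)) (J := Q.comap φ₀) bot_le
      have hqp : q ≤ p := hqQ.trans fun a ha => by
        by_contra hap
        exact hQ.ne_top (Ideal.eq_top_of_isUnit_mem Q ha (IsLocalization.map_units (Localization.AtPrime p) (⟨a, hap⟩ : p.primeCompl)))
      show ∏ q, x q ∈ Q.comap φ₀
      rw [← Finset.mul_prod_erase _ _ (Finset.mem_univ (⟨q, hq, hqp⟩ : {q : Ideal A // q ∈ minimalPrimes A ∧ q ≤ p}))]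
      exact Ideal.mul_mem_right _ _ (hqQ (hx ⟨q, hq, hqp⟩))
    obtain ⟨N, hN⟩ := hnil
    rw [← map_pow] at hN
    obtain ⟨q, -, hq⟩ := Ideal.IsPrime.prod_mem_iff.mp (hP.mem_of_pow_mem N (hqP hN))
    exact hxP q hq
  haveI : IsLocalRing (A ⧸ q₀) := by
    haveI : Nontrivial (A ⧸ q₀) := Ideal.Quotient.nontrivial_iff.mpr fun h => (inferInstance : p.IsPrime).ne_top (top_le_iff.mp (h ▸ hq0p))
    exact IsLocalRing.of_surjective' _ Ideal.Quotient.mk_surjective
  haveI : IsAdicComplete (IsLocalRing.maximalIdeal (A ⧸ q₀)) (A ⧸ q₀) := Groth.L01.NagataComplete.isAdicComplete_quotient q₀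
  haveI : Module.Finite k (IsLocalRing.ResidueField (A ⧸ q₀)) := Groth.L06.CplKaehlerGeomReg.finite_residue_quotient k q₀
  let pb := p.map (Ideal.Quotient.mk q₀)
  haveI : pb.IsPrime := Ideal.map_isPrime_of_surjective Ideal.Quotient.mk_surjective (by rwa [Ideal.mk_ker])
  have hpc : pb.comap (Ideal.Quotient.mk q₀) = p := by
    rw [Ideal.comap_map_of_surjective _ Ideal.Quotient.mk_surjective, ← RingHom.ker_eq_comap_bot, Ideal.mk_ker, sup_eq_left.mpr hq0p]
  have hpb : pb ≠ IsLocalRing.maximalIdeal (A ⧸ q₀) := fun h => hp (by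
    haveI : pb.IsMaximal := h ▸ IsLocalRing.maximalIdeal.isMaximal _
    exact hpc ▸ IsLocalRing.eq_maximalIdeal (Ideal.comap_isMaximal_of_surjective _ Ideal.Quotient.mk_surjective))
  have hdim : ringKrullDim (A ⧸ q₀) ≤ n := by
    rw [ringKrullDim_quotient]
    refine iSup_le fun l => ?_
    obtain ⟨q, hq, hqp, hql⟩ := hcover l.head.1.asIdeal l.head.1.2 l.head.2
    let l' : LTSeries (PrimeSpectrum.zeroLocus (R := A) q) :=
      { length := l.length
        toFun := fun i => ⟨(l i).1, fun a ha => (show l.head.1 ≤ (l i).1 from l.monotone (Fin.zero_le i)) (hql ha)⟩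
        step := fun i => l.step i }
    calc ((l.length : ℕ∞) : WithBot ℕ∞) ≤ Order.krullDim (PrimeSpectrum.zeroLocus (R := A) q) :=
          le_iSup (fun L : LTSeries (PrimeSpectrum.zeroLocus (R := A) q) => ((L.length : ℕ∞) : WithBot ℕ∞)) l'
      _ = ringKrullDim (A ⧸ q) := (ringKrullDim_quotient q).symm
      _ ≤ n := hn₁ q hq hqp
  obtain ⟨q, hqmin, hqp, hqn⟩ := hn₂
  let qb := q.map (Ideal.Quotient.mk q₀)
  haveI : q.IsPrime := hqmin.1.1
  haveI : qb.IsPrime := Ideal.map_isPrime_of_surjective Ideal.Quotient.mk_surjective (by rw [Ideal.mk_ker]; exact hq0q q hqmin hqp)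
  have hqpb : qb ≤ pb := Ideal.map_mono hqp
  have hqnb : ringKrullDim ((A ⧸ q₀) ⧸ qb) = n := by
    rw [ringKrullDim_eq_of_ringEquiv (DoubleQuot.quotQuotEquivQuotOfLE (hq0q q hqmin hqp)), hqn]
  -- the localisations agree
  let ψ : Localization.AtPrime p →ₐ[k] Localization.AtPrime pb :=
    { Localization.localRingHom p pb (Ideal.Quotient.mk q₀) hpc.symm with
      commutes' := fun c => by
        show Localization.localRingHom p pb (Ideal.Quotient.mk q₀) hpc.symm (algebraMap k (Localization.AtPrime p) c) = _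
        rw [IsScalarTower.algebraMap_apply k A (Localization.AtPrime p), Localization.localRingHom_to_map,
          IsScalarTower.algebraMap_apply k (A ⧸ q₀) (Localization.AtPrime pb), IsScalarTower.algebraMap_apply k A (A ⧸ q₀)]
        rfl }
  have hψ : Function.Bijective ψ := by
    refine ⟨(injective_iff_map_eq_zero ψ).mpr fun z hz => ?_, fun z => ?_⟩
    · obtain ⟨⟨a, s⟩, rfl⟩ := IsLocalization.mk'_surjective p.primeCompl z
      change Localization.localRingHom p pb (Ideal.Quotient.mk q₀) hpc.symm (IsLocalization.mk' _ a s) = 0 at hz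
      rw [Localization.localRingHom_mk', IsLocalization.mk'_eq_zero_iff] at hz
      obtain ⟨⟨t, ht⟩, hta⟩ := hz
      obtain ⟨t, rfl⟩ := Ideal.Quotient.mk_surjective t
      rw [← map_mul, Ideal.Quotient.eq_zero_iff_mem] at hta
      obtain ⟨u, hu, hua⟩ := hkill _ hta
      have ht' : t ∉ p := fun h => ht (Ideal.mem_map_of_mem _ h)
      exact (IsLocalization.mk'_eq_zero_iff a s).mpr
        ⟨⟨u * t, p.primeCompl.mul_mem hu ht'⟩, (mul_assoc u t a).trans hua⟩
    · obtain ⟨⟨a, ⟨s, hs⟩⟩, rfl⟩ := IsLocalization.mk'_surjective pb.primeCompl z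
      obtain ⟨a, rfl⟩ := Ideal.Quotient.mk_surjective a
      obtain ⟨s, rfl⟩ := Ideal.Quotient.mk_surjective s
      exact ⟨IsLocalization.mk' (Localization.AtPrime p) a (⟨s, fun h => hs (Ideal.mem_map_of_mem _ h)⟩ : p.primeCompl), Localization.localRingHom_mk' _ _ _ hpc.symm _ _⟩
  have hgeo : CAlg.IsGeometricallyRegular k (Localization.AtPrime pb) → CAlg.IsGeometricallyRegular k (Localization.AtPrime p) :=
    fun h k' _ _ hk' => by
      haveI := h k' hk'
      exact IsRegularRing.of_ringEquiv (Algebra.TensorProduct.congr (AlgEquiv.refl (R := k) (A₁ := k'))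
        (AlgEquiv.ofBijective ψ hψ).symm).toRingEquiv
  have hdown : (Module.Free (Localization.AtPrime p) (LocalizedModule p.primeCompl (Groth.L06.CplKaehlerUniv.Om k A)) ∧
      Module.finrank (Localization.AtPrime p) (LocalizedModule p.primeCompl (Groth.L06.CplKaehlerUniv.Om k A)) = n) →
      CAlg.IsGeometricallyRegular k (Localization.AtPrime pb) ∧
      ∀ (k' : Type u) [Field k'] [Algebra k k'] (P : Ideal (Groth.L06.CplGeom.Cpl' k k' (A ⧸ q₀))) [P.IsPrime],
        P.comap (Groth.L06.CplGeom.iota k k' (A ⧸ q₀)) = pb → IsRegularLocalRing (Localization.AtPrime P) := by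
    rintro ⟨hf, hr⟩
    obtain ⟨g, hg⟩ := Groth.L06.CplGeom.exists_isBasisAt_of_free k p n hf hr
    obtain ⟨g', hg'⟩ := Groth.L06.CplGeom.isBasisAt_quotient k p q₀ hq0p hkill g hg
    obtain ⟨hf', hr'⟩ := Groth.L06.CplKaehlerGeomReg.free_of_isBasisAt pb g' hg'
    exact Groth.L06.CplGeom.of_free k pb hpb n hdim qb hqpb hqnb hf' hr'
  refine ⟨?_, fun h => hgeo (hdown h).1⟩
  tfae_have 1 → 2 := fun h => by
    obtain ⟨N, hN⟩ := Groth.L01.exists_dim_eq_nat (R := A)
    obtain ⟨alg, hT, hloc, hfin⟩ := Groth.L06.CplGeom.exists_finite k p hp hN.le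
    letI := alg
    haveI := hT
    haveI := hloc
    haveI := hfin
    obtain ⟨P, hPp, hP⟩ := Groth.L06.CplGeom.exists_cpl_prime (k := k) (k' := AlgebraicClosure k) (n := N) p
    exact ⟨AlgebraicClosure k, inferInstance, inferInstance, inferInstance, P, hPp, hP, @h (AlgebraicClosure k) _ _ P hPp hP⟩
  tfae_have 2 → 3 := by
    rintro ⟨k', _, _, hperf, P, hPp, hP, hreg⟩
    obtain ⟨P', hP'p, hP', ⟨e⟩⟩ := Groth.L06.CplGeom.exists_localization_iso k p q₀ hq0p hkill hp k' P hP
    haveI := hreg
    haveI := IsRegularLocalRing.of_ringEquiv e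
    obtain ⟨hf, hr⟩ := Groth.L06.CplGeom.free_of_regular k pb hpb n hdim qb hqpb hqnb k' P' hP'
    obtain ⟨g, hg⟩ := Groth.L06.CplGeom.exists_isBasisAt_of_free k pb n hf hr
    obtain ⟨g', hg'⟩ := Groth.L06.CplKaehlerGeomReg.isBasisAt_of_quotient k p q₀ hq0p hkill g hg
    exact Groth.L06.CplKaehlerGeomReg.free_of_isBasisAt p g' hg'
  tfae_have 3 → 1 := by
    intro h k' _ _ P _ hP
    obtain ⟨P', hP'p, hP', ⟨e⟩⟩ := Groth.L06.CplGeom.exists_localization_iso k p q₀ hq0p hkill hp k' P hP
    haveI := (hdown h).2 k' P' hP'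
    exact IsRegularLocalRing.of_ringEquiv e.symm
  tfae_finish

end Groth.Agent.S3851
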