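import Groth.Statements.S3856
import Groth.Agent.L01.AdicNoeth

set_option autoImplicit false
universe u
open AdicRing

namespace Groth.Agent.S3856

/-- Let A be a ring that is complete and separated for the J-adic topology of an ideal J. If A/J² is
Noetherian (equivalently, A/J is Noetherian and J/J² is a finitely generated A/J-module), then A is
Noetherian. The published statement is phrased for a formal spectrum Spf(A) all of whose levels
Spec(A/J^(n+1)) are Noetherian; it is stated here with the weaker hypothesis that A/J² is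
Noetherian. -/
theorem result (A : Type u) [CommRing A]
    (J : Ideal A) [IsAdicComplete J A] [IsNoetherianRing (A ⧸ J ^ 2)] : IsNoetherianRing A := by
  obtain ⟨s, hs⟩ := (IsNoetherian.noetherian (J.map (Ideal.Quotient.mk (J ^ 2))) : (J.map (Ideal.Quotient.mk (J ^ 2))).FG)
  have hfg : J.FG := by
    classical
    choose g hg hgs using fun a : (s : Set (A ⧸ J ^ 2)) => (Ideal.mem_map_iff_of_surjective _
      Ideal.Quotient.mk_surjective).1 ((hs ▸ Ideal.subset_span a.2 : (a : A ⧸ J ^ 2) ∈ J.map (Ideal.Quotient.mk (J ^ 2))))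
    let t : Ideal A := Ideal.span (Set.range g)
    have htJ : t ≤ J := Ideal.span_le.2 (by rintro _ ⟨a, rfl⟩; exact hg a)
    have htfg : t.FG := Submodule.fg_span (Set.finite_range g)
    have key : J ≤ t ⊔ J ^ 2 := by
      have : J.map (Ideal.Quotient.mk (J ^ 2)) ≤ t.map (Ideal.Quotient.mk (J ^ 2)) := by
        rw [← hs, Ideal.map_span]
        exact Ideal.span_mono fun a ha => ⟨g ⟨a, ha⟩, ⟨_, rfl⟩, hgs _⟩
      intro x hx
      have := this (Ideal.mem_map_of_mem _ hx)
      rwa [← Ideal.mem_comap, Ideal.comap_map_of_surjective _ Ideal.Quotient.mk_surjective,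
        ← RingHom.ker_eq_comap_bot, Ideal.mk_ker] at this
    let f : (↥(↑s : Set (A ⧸ J ^ 2)) → A) →ₗ[A] J := LinearMap.codRestrict J (Fintype.linearCombination A g) (fun c => by
      rw [Fintype.linearCombination_apply]; exact Submodule.sum_mem _ fun i _ => J.mul_mem_left _ (hg i))
    haveI : IsPrecomplete J (↥(↑s : Set (A ⧸ J ^ 2)) → A) := by
      refine ⟨fun x hx => ?_⟩
      have hcomp : ∀ i (k : ℕ) (v : ↥(↑s : Set (A ⧸ J ^ 2)) → A), v ∈ J ^ k • (⊤ : Submodule A _) → v i ∈ J ^ k := by
        intro i k v hv
        refine Submodule.smul_induction_on hv (fun a ha w _ => ?_) (fun u v hu hv => Ideal.add_mem _ hu hv)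
        exact Ideal.mul_mem_right _ _ ha
      choose L hL using fun i => IsPrecomplete.prec (I := J) (M := A) inferInstance (f := fun k => x k i) (fun {m n} hmn => by
        rw [SModEq.sub_mem, smul_eq_mul, Ideal.mul_top]
        exact hcomp i m _ (SModEq.sub_mem.1 (hx hmn)))
      refine ⟨L, fun k => SModEq.sub_mem.2 ?_⟩
      have hsum : x k - L = ∑ i, (x k i - L i) • (Pi.single i 1 : ↥(↑s : Set (A ⧸ J ^ 2)) → A) := by
        funext j
        simp [Finset.sum_apply, Pi.single_apply]
      rw [hsum]
      refine Submodule.sum_mem _ fun i _ => Submodule.smul_mem_smul ?_ Submodule.mem_top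
      have := hL i k
      rwa [SModEq.sub_mem, smul_eq_mul, Ideal.mul_top] at this
    haveI : IsHausdorff J J := by
      refine ⟨fun x hx => Subtype.ext (IsHausdorff.haus (I := J) (M := A) inferInstance (x : A) fun k => ?_)⟩
      have h1 := SModEq.sub_mem.1 (hx k)
      rw [sub_zero] at h1
      rw [SModEq.sub_mem, sub_zero, smul_eq_mul, Ideal.mul_top]
      refine Submodule.smul_induction_on h1 (fun a ha w _ => ?_) (fun u v hu hv => ?_)
      · exact Ideal.mul_mem_right _ _ ha
      · exact Ideal.add_mem _ hu hv
    have hsurj : Function.Surjective f := by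
      refine surjective_of_mkQ_comp_surjective (I := J) ?_
      intro y
      obtain ⟨y, rfl⟩ := Submodule.mkQ_surjective _ y
      obtain ⟨a, ha, b, hb, hab⟩ := Submodule.mem_sup.1 (key y.2)
      obtain ⟨c, hc⟩ := (Submodule.mem_span_range_iff_exists_fun A).1 ha
      refine ⟨c, (Submodule.Quotient.eq _).2 ?_⟩
      have hfc : (f c : A) = a := by
        show Fintype.linearCombination A g c = a
        rw [Fintype.linearCombination_apply, hc]
      have hmem : ∀ b : A, b ∈ J ^ 2 → ∀ hb : b ∈ J, (⟨b, hb⟩ : J) ∈ J • (⊤ : Submodule A J) := by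
        intro b hb hbJ
        rw [pow_two] at hb
        refine (Submodule.comap_map_eq_of_injective (f := J.subtype) J.injective_subtype (J • (⊤ : Submodule A J))).le ?_
        rw [Submodule.mem_comap, Submodule.map_smul'', Submodule.map_top, Submodule.range_subtype, smul_eq_mul]
        exact hb
      have hb' : -b ∈ J := J.neg_mem (Ideal.pow_le_self two_ne_zero hb)
      have : f c - y = (⟨-b, hb'⟩ : J) := Subtype.ext (by
        show (f c : A) - (y : A) = -b
        rw [hfc, ← hab]; ring)
      rw [this]
      exact hmem _ (neg_mem hb) hb'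
    have hJt : J = t := le_antisymm (fun y hy => by
      obtain ⟨c, hc⟩ := hsurj ⟨y, hy⟩
      have := congrArg (fun z : J => (z : A)) hc
      simp only [f, LinearMap.codRestrict_apply, Fintype.linearCombination_apply] at this
      rw [← this]
      exact Submodule.sum_mem _ fun i _ => t.mul_mem_left _ (Ideal.subset_span ⟨i, rfl⟩)) htJ
    rw [hJt]; exact htfg
  haveI : IsNoetherianRing (A ⧸ J) := isNoetherianRing_of_surjective _ _ (Ideal.Quotient.factor (Ideal.pow_le_self two_ne_zero))
    (Ideal.Quotient.factor_surjective _)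
  exact Groth.L01.AdicNoeth.isNoetherianRing_of_quotient J hfg

end Groth.Agent.S3856
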