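import Groth.Statements.S3858
import Groth.Agent.L17.ThickSys

set_option autoImplicit false
universe u
open FCompl

namespace Groth.Agent.S3858

open AlgebraicGeometry in
/-- Formal schemes are presented as systems of thickenings (X_n)_n and fibre products of systems are
taken levelwise. Let X → S be an adic morphism of systems (every square X_n → X_(n+1), S_n → S_(n+1)
is cartesian) whose level-0 morphism X_0 → S_0 is locally of finite type, and S' → S a morphism from
a locally Noetherian adic formal system S'. Then the levelwise fibre product (X_n ×_(S_n) S'_n)_n is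
a locally Noetherian adic formal system, its projection to S' is adic, and the level-0 projection
X_0 ×_(S_0) S'_0 → S'_0 is locally of finite type. The published statement concerns the fibre
product of formal schemes, which the levelwise fibre product presents because X is adic over S, and
also assumes X and S locally Noetherian, which is not assumed here. -/
theorem result {𝔛 𝔖 𝔖' : FSch.Sys.{u}} (f : 𝔛 ⟶ 𝔖) (g : 𝔖' ⟶ 𝔖)
    (h𝔖' : 𝔖'.IsLocNoethFormal) (hf : FSch.IsAdicHom f) [LocallyOfFiniteType ((f : FSch.Hom 𝔛 𝔖).app 0)] :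
    (FSch.pullbackSys f g).IsLocNoethFormal ∧ FSch.IsAdicHom (FSch.pullbackSnd f g) ∧
      LocallyOfFiniteType ((FSch.pullbackSnd f g : FSch.Hom _ _).app 0) := by
  open CategoryTheory CategoryTheory.Limits AlgebraicGeometry in
  have hadic : FSch.IsAdicHom (FSch.pullbackSnd f g) := by
    intro n
    simp only [FSch.pullbackSnd_app]
    have h1 : IsPullback (pullback.fst ((f : FSch.Hom 𝔛 𝔖).app n) ((g : FSch.Hom 𝔖' 𝔖).app n) ≫ 𝔛.ι n)
        (pullback.snd ((f : FSch.Hom 𝔛 𝔖).app n) ((g : FSch.Hom 𝔖' 𝔖).app n))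
        ((f : FSch.Hom 𝔛 𝔖).app (n + 1))
        ((g : FSch.Hom 𝔖' 𝔖).app n ≫ 𝔖.ι n) :=
      (IsPullback.of_hasPullback _ _).paste_horiz (hf n)
    rw [(g : FSch.Hom 𝔖' 𝔖).comm n, ← pullback.lift_fst (f := (f : FSch.Hom 𝔛 𝔖).app (n + 1))
      (g := (g : FSch.Hom 𝔖' 𝔖).app (n + 1))
      (pullback.fst ((f : FSch.Hom 𝔛 𝔖).app n) ((g : FSch.Hom 𝔖' 𝔖).app n) ≫ 𝔛.ι n)
      (pullback.snd ((f : FSch.Hom 𝔛 𝔖).app n) ((g : FSch.Hom 𝔖' 𝔖).app n) ≫ 𝔖'.ι n) (by
        rw [Category.assoc, Category.assoc, ← (f : FSch.Hom 𝔛 𝔖).comm n, pullback.condition_assoc,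
          (g : FSch.Hom 𝔖' 𝔖).comm n])] at h1
    exact IsPullback.of_right h1 (pullback.lift_snd _ _ _) (IsPullback.of_hasPullback _ _)
  have hl : LocallyOfFiniteType ((FSch.pullbackSnd f g : FSch.Hom _ _).app 0) := by
    rw [FSch.pullbackSnd_app]
    exact inferInstanceAs (LocallyOfFiniteType (pullback.snd _ _))
  refine ⟨?_, hadic, hl⟩
  have := h𝔖'.2.2 0
  have : IsLocallyNoetherian ((FSch.pullbackSys f g).X 0) :=
    LocallyOfFiniteType.isLocallyNoetherian ((FSch.pullbackSnd f g : FSch.Hom _ _).app 0)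
  exact Groth.L17.Thick.isLocNoethFormal_of_isAdicHom _ h𝔖' hadic

end Groth.Agent.S3858
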