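import Groth.Statements.S3859
import Groth.Prelude.Def_FSch3

set_option autoImplicit false
universe u
open FCompl

namespace Groth.Agent.S3859

open AlgebraicGeometry in
open CategoryTheory in
/-- In the presentation by systems of thickenings: For morphisms of systems X -> S and Y -> S, the
levelwise fibre product with its two projections is a fibre product in the category of systems; it
presents the fibre product of formal schemes when one factor is adic over the base, and otherwise
only up to cofinality of the levels. -/
theorem result {𝔛 𝔜 𝔖 : FSch.Sys.{u}} (f : 𝔛 ⟶ 𝔖) (g : 𝔜 ⟶ 𝔖) :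
    IsPullback (FSch.pullbackFst f g) (FSch.pullbackSnd f g) f g := by
  open CategoryTheory CategoryTheory.Limits AlgebraicGeometry in
  refine IsPullback.of_isLimit' ⟨FSch.Hom.ext (funext fun n => pullback.condition)⟩ ?_
  refine PullbackCone.IsLimit.mk _ (fun s => ⟨fun n => pullback.lift
      ((s.fst : FSch.Hom _ _).app n) ((s.snd : FSch.Hom _ _).app n)
      (congrArg (fun φ : s.pt ⟶ 𝔖 => (φ : FSch.Hom _ _).app n) s.condition), fun n => ?_⟩)
    (fun s => FSch.Hom.ext (funext fun n => pullback.lift_fst _ _ _))
    (fun s => FSch.Hom.ext (funext fun n => pullback.lift_snd _ _ _))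
    (fun s m h1 h2 => FSch.Hom.ext (funext fun n => pullback.hom_ext ?_ ?_))
  · dsimp [FSch.pullbackSys]
    apply pullback.hom_ext
    · simp only [Category.assoc, pullback.lift_fst, pullback.lift_fst_assoc]
      exact (s.fst : FSch.Hom _ _).comm n
    · simp only [Category.assoc, pullback.lift_snd, pullback.lift_snd_assoc]
      exact (s.snd : FSch.Hom _ _).comm n
  · exact (congrArg (fun φ : s.pt ⟶ 𝔛 => (φ : FSch.Hom _ _).app n) h1).trans
      (pullback.lift_fst _ _ _).symm
  · exact (congrArg (fun φ : s.pt ⟶ 𝔜 => (φ : FSch.Hom _ _).app n) h2).trans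
      (pullback.lift_snd _ _ _).symm

end Groth.Agent.S3859
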