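import Groth.Statements.S3860
import Mathlib.RingTheory.AdicCompletion.RingHom
import Mathlib.AlgebraicGeometry.GammaSpecAdjunction

set_option autoImplicit false
universe u
open FCompl

namespace Groth.Agent.S3860

open AlgebraicGeometry in
/-- (Affine adic case; the formal spectra presented as the systems Spec(A/I^(n+1)) and Spec(B/K^(n+1)).)
Let I be an ideal of a ring A which is complete and separated for the I-adic topology, and K an
ideal of a ring B. Then φ ↦ (Spec of the induced maps B/K^(n+1) -> A/I^(n+1)) is a bijection from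
the ring homomorphisms φ : B -> A with φ(K) ⊆ I onto the morphisms of systems from Spf(A) to Spf(B),
i.e. the compatible families of morphisms Spec(A/I^(n+1)) -> Spec(B/K^(n+1)). -/
theorem result (A B : Type u) [CommRing A] [CommRing B] (I : Ideal A) (K : Ideal B)
    [IsAdicComplete I A] :
    Function.Bijective (fun φ : {φ : B →+* A // K ≤ I.comap φ} ↦ FSch.spfMap I K φ.1 φ.2) := by
  have ha : StrictMono (fun n : ℕ => n + 1) := fun a b h => Nat.succ_lt_succ h
  constructor
  · intro φ ψ h
    apply Subtype.ext
    refine RingHom.ext fun b => sub_eq_zero.1 (IsHausdorff.haus (I := I) inferInstance _ fun n => ?_)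
    rw [SModEq.zero, smul_eq_mul, Ideal.mul_top]
    have h1 := congrArg (fun t : FSch.Hom _ _ => t.app n) h
    simp only [FSch.spfMap_app] at h1
    have h2 := congrArg (fun t => t (Ideal.Quotient.mk (K ^ (n + 1)) b))
      (congrArg CommRingCat.Hom.hom (AlgebraicGeometry.Spec.map_injective h1))
    exact Ideal.pow_le_pow_right (Nat.le_succ n) (Ideal.Quotient.eq.1 h2)
  · intro g
    let q : ∀ n, B ⧸ K ^ (n + 1) →+* A ⧸ I ^ (n + 1) := fun n =>
      (AlgebraicGeometry.Spec.preimage ((g : FSch.Hom _ _).app n)).hom
    have hq : ∀ n, AlgebraicGeometry.Spec.map (CommRingCat.ofHom (q n)) = (g : FSch.Hom _ _).app n :=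
      fun n => AlgebraicGeometry.Spec.map_preimage _
    let f : ∀ n, B →+* A ⧸ I ^ (n + 1) := fun n => (q n).comp (Ideal.Quotient.mk (K ^ (n + 1)))
    have hf : ∀ {m : ℕ}, (Ideal.Quotient.factorPow I (ha.monotone m.le_succ)).comp (f (m + 1)) = f m := by
      intro m
      have h1 := (g : FSch.Hom _ _).comm m
      rw [← hq m, ← hq (m + 1)] at h1
      simp only [FSch.spf, CohB1.specQuotTrans] at h1
      rw [← AlgebraicGeometry.Spec.map_comp, ← AlgebraicGeometry.Spec.map_comp] at h1
      refine RingHom.ext fun b => ?_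
      exact (congrArg (fun t => t (Ideal.Quotient.mk (K ^ (m + 2)) b))
        (congrArg CommRingCat.Hom.hom (AlgebraicGeometry.Spec.map_injective h1))).symm
    let φ : B →+* A := IsAdicComplete.StrictMono.liftRingHom I ha f hf
    have hφ : ∀ n b, Ideal.Quotient.mk (I ^ (n + 1)) (φ b) = q n (Ideal.Quotient.mk _ b) := fun n b =>
      IsAdicComplete.StrictMono.mk_liftRingHom I ha f hf b
    have hK : K ≤ I.comap φ := fun b hb => by
      have h1 := hφ 0 b
      have h2 : Ideal.Quotient.mk (K ^ (0 + 1)) b = 0 :=
        Ideal.Quotient.eq_zero_iff_mem.2 (by rwa [pow_one])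
      rw [h2, map_zero, Ideal.Quotient.eq_zero_iff_mem, pow_one] at h1
      exact h1
    refine ⟨⟨φ, hK⟩, FSch.Hom.ext (funext fun n => ?_)⟩
    refine Eq.trans ?_ (hq n)
    show AlgebraicGeometry.Spec.map _ = _
    congr 2
    exact Ideal.Quotient.ringHom_ext (RingHom.ext fun b => hφ n b)


end Groth.Agent.S3860
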