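import Groth.Statements.S3867
import Mathlib.RingTheory.AdicCompletion.Basic
import Mathlib.RingTheory.Nakayama
import Mathlib.AlgebraicGeometry.Pullbacks

set_option autoImplicit false
universe u
open FCompl

namespace Groth.Agent.S3867

open AlgebraicGeometry in
/-- Formal spectra are presented as the systems Spec(A/I^(n+1)) and Spec(B/K^(n+1)), a morphism of
systems being adic when all its squares are cartesian. Let A be a Noetherian ring, complete and
separated for the I-adic topology of an ideal I, K an ideal of a ring B and φ : B → A a ring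
homomorphism with φ(K) ⊆ I. Then the induced morphism Spf(A) → Spf(B) is adic if and only if the
ideal of A generated by φ(K) is I. -/
theorem result (A B : Type u) [CommRing A] [CommRing B] [IsNoetherianRing A]
    (I : Ideal A) (K : Ideal B) [IsAdicComplete I A] (φ : B →+* A) (h : K ≤ I.comap φ) :
    FSch.IsAdicHom (FSch.spfMap I K φ h) ↔ K.map φ = I := by
  open CategoryTheory CategoryTheory.Limits in
    have hJI : K.map φ ≤ I := Ideal.map_le_iff_le_comap.2 h
    constructor
    · intro H
      refine le_antisymm hJI ?_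
      let J : Ideal A := K.map φ ⊔ I ^ (0 + 2)
      let π₁ : A ⧸ I ^ (0 + 2) →+* A ⧸ J := Ideal.Quotient.factor le_sup_right
      have hKJ : ∀ b ∈ K ^ (0 + 1), (Ideal.Quotient.mk J).comp φ b = 0 := fun b hb => by
        rw [pow_one] at hb
        exact Ideal.Quotient.eq_zero_iff_mem.2 (le_sup_left (a := K.map φ) (Ideal.mem_map_of_mem φ hb))
      let π₂ : B ⧸ K ^ (0 + 1) →+* A ⧸ J :=
        Ideal.Quotient.lift (K ^ (0 + 1)) ((Ideal.Quotient.mk J).comp φ) hKJ
      obtain ⟨l, hl, -⟩ := (H 0).exists_lift (AlgebraicGeometry.Spec.map (CommRingCat.ofHom π₁))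
        (AlgebraicGeometry.Spec.map (CommRingCat.ofHom π₂)) (by
          show AlgebraicGeometry.Spec.map _ ≫ AlgebraicGeometry.Spec.map _ =
            AlgebraicGeometry.Spec.map _ ≫ AlgebraicGeometry.Spec.map _
          rw [← AlgebraicGeometry.Spec.map_comp, ← AlgebraicGeometry.Spec.map_comp]
          congr 1
          apply CommRingCat.hom_ext
          exact Ideal.Quotient.ringHom_ext (RingHom.ext fun b => rfl))
      have hfac : I ^ (0 + 2) ≤ I ^ (0 + 1) := Ideal.pow_le_pow_right (by omega)
      obtain ⟨p, h1⟩ : ∃ p : CommRingCat.of (A ⧸ I ^ (0 + 1)) ⟶ CommRingCat.of (A ⧸ J),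
          CommRingCat.ofHom (Ideal.Quotient.factor hfac) ≫ p =
            CommRingCat.ofHom π₁ := by
        refine ⟨AlgebraicGeometry.Spec.preimage l, AlgebraicGeometry.Spec.map_injective ?_⟩
        rw [AlgebraicGeometry.Spec.map_comp, AlgebraicGeometry.Spec.map_preimage]
        exact hl
      have hle : I ≤ K.map φ ⊔ I • I := fun x hx => by
        have h2 : p.hom (Ideal.Quotient.factor hfac
            (Ideal.Quotient.mk (I ^ (0 + 2)) x)) = π₁ (Ideal.Quotient.mk (I ^ (0 + 2)) x) :=
          RingHom.congr_fun (congrArg CommRingCat.Hom.hom h1) (Ideal.Quotient.mk (I ^ (0 + 2)) x)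
        have h3 : Ideal.Quotient.mk (I ^ (0 + 1)) x = 0 :=
          Ideal.Quotient.eq_zero_iff_mem.2 (by rwa [pow_one])
        simp only [Ideal.Quotient.factor_mk, π₁] at h2
        have h5 : p.hom (Ideal.Quotient.mk (I ^ (0 + 1)) x) = 0 := by rw [h3]; exact map_zero _
        have h4 : Ideal.Quotient.mk J x = 0 := h2.symm.trans h5
        rw [Ideal.Quotient.eq_zero_iff_mem] at h4
        rw [smul_eq_mul, ← sq]
        exact h4
      exact Submodule.le_of_le_smul_of_le_jacobson_bot (IsNoetherian.noetherian I)
        (IsAdicComplete.le_jacobson_bot I) hle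
    · rintro rfl n
      apply AlgebraicGeometry.isPullback_SpecMap_of_isPushout
      have w : CommRingCat.ofHom (FSch.quotPowMap (K.map φ) K φ h (n + 1)) ≫
            CommRingCat.ofHom (Ideal.Quotient.factor (Ideal.pow_le_pow_right (Nat.le_succ (n + 1)))) =
          CommRingCat.ofHom (Ideal.Quotient.factor (Ideal.pow_le_pow_right (Nat.le_succ (n + 1)))) ≫
            CommRingCat.ofHom (FSch.quotPowMap (K.map φ) K φ h n) := by
        apply CommRingCat.hom_ext
        exact Ideal.Quotient.ringHom_ext (RingHom.ext fun b => rfl)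
      refine IsPushout.of_isColimit' ⟨w⟩ (PushoutCocone.IsColimit.mk _
        (fun s => CommRingCat.ofHom (Ideal.Quotient.lift (K.map φ ^ (n + 1))
          (s.inl.hom.comp (Ideal.Quotient.mk (K.map φ ^ (n + 2)))) (fun a ha => ?_)))
        (fun s => ?_) (fun s => ?_) (fun s m hm1 hm2 => ?_))
      · rw [← Ideal.map_pow] at ha
        have hle : (K ^ (n + 1)).map φ ≤
            RingHom.ker (s.inl.hom.comp (Ideal.Quotient.mk (K.map φ ^ (n + 2)))) := by
          rw [Ideal.map_le_iff_le_comap]
          intro b hb
          have h1 := congrArg (fun t => t (Ideal.Quotient.mk (K ^ (n + 2)) b))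
            (congrArg CommRingCat.Hom.hom s.condition)
          have h2 : Ideal.Quotient.mk (K ^ (n + 1)) b = 0 := Ideal.Quotient.eq_zero_iff_mem.2 hb
          exact h1.trans ((congrArg s.inr.hom h2).trans (map_zero _))
        exact hle ha
      · apply CommRingCat.hom_ext
        exact Ideal.Quotient.ringHom_ext (RingHom.ext fun b => rfl)
      · apply CommRingCat.hom_ext
        refine Ideal.Quotient.ringHom_ext (RingHom.ext fun b => ?_)
        exact congrArg (fun t => t (Ideal.Quotient.mk (K ^ (n + 2)) b))
          (congrArg CommRingCat.Hom.hom s.condition)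
      · apply CommRingCat.hom_ext
        refine Ideal.Quotient.ringHom_ext (RingHom.ext fun a => ?_)
        exact congrArg (fun t => t (Ideal.Quotient.mk (K.map φ ^ (n + 2)) a))
          (congrArg CommRingCat.Hom.hom hm1)

end Groth.Agent.S3867
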