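import Groth.Statements.S3868
import Groth.Agent.L17.ThickBasic
import Groth.Agent.L20.ThickAffine
import Groth.Agent.S4339

set_option autoImplicit false
universe u
open FCompl

namespace Groth.Agent.S3868

open AlgebraicGeometry in
open CategoryTheory in
/-- (Systems of thickenings.) Let (X_n) be a system of schemes whose transition maps are surjective
closed immersions, with the kernel ideal of X_n -> X_(n+1) the (n+1)-st power of that of X_0 ->
X_(n+1), X_0 affine and locally Noetherian, and the kernel ideal of X_0 -> X_1 of finite type. Then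
the system is isomorphic to the formal spectrum Spec(A/J) -> Spec(A/J^2) -> ... of some Noetherian
ring A complete and separated for the J-adic topology, J an ideal of A. -/
theorem result (𝔛 : FSch.Sys.{u}) (hF : 𝔛.IsFormal) (hA : 𝔛.IsAdic)
    [IsAffine (𝔛.X 0)] [IsLocallyNoetherian (𝔛.X 0)] (hft : FSch.IdealFT (𝔛.ι 0).ker) :
    ∃ (A : Type u) (_ : CommRing A) (J : Ideal A),
      IsNoetherianRing A ∧ IsAdicComplete J A ∧ Nonempty (𝔛 ≅ FSch.spf A J) := by
  open CategoryTheory CategoryTheory.Limits Opposite in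
  haveI haff : ∀ n, IsAffine (𝔛.X n) := fun n => Nat.rec ‹IsAffine (𝔛.X 0)› (fun k hk =>
    haveI := (hF k).1
    haveI := hk
    Groth.L20.ThickAffine.isAffine_of_surjective (𝔛.ι k) (hF k).2) n
  let B : ℕ → Type u := fun n => Γ(𝔛.X n, ⊤)
  let u : ∀ n, Γ(𝔛.X (n + 1), ⊤) →+* Γ(𝔛.X n, ⊤) := fun n => (𝔛.ι n).appTop.hom
  let v : ∀ n, Γ(𝔛.X n, ⊤) →+* Γ(𝔛.X 0, ⊤) := fun n => (𝔛.toX n).appTop.hom
  have hu : ∀ n, Function.Surjective (u n) := fun n => by
    haveI := (hF n).1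
    haveI := haff (n + 1)
    exact (IsClosedImmersion.isAffine_surjective_of_isAffine (f := 𝔛.ι n)).2
  have hv0 : v 0 = RingHom.id _ := by
    show (𝟙 (𝔛.X 0) : _ ⟶ _).appTop.hom = _
    simp
  have hv : ∀ n, (v n).comp (u n) = v (n + 1) := fun n => by
    show _ = (𝔛.toX n ≫ 𝔛.ι n).appTop.hom
    rw [Scheme.Hom.comp_appTop, CommRingCat.hom_comp]
  have hker : ∀ n, RingHom.ker (u n) = RingHom.ker (v (n + 1)) ^ (n + 1) := fun n => by
    haveI := haff (n + 1)
    exact Groth.L17.Thick.ker_app_eq hF hA n ⟨⊤, isAffineOpen_top _⟩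
  have hfg : (RingHom.ker (v 1)).FG := by
    haveI := haff 1
    haveI := (hF 0).1
    have h := hft ⟨⊤, isAffineOpen_top _⟩
    rw [Scheme.Hom.ker_apply] at h
    rw [← hv 0, hv0, RingHom.id_comp]
    exact h
  let A : Subring (∀ n, Γ(𝔛.X n, ⊤)) :=
    { carrier := {s | ∀ n, u n (s (n + 1)) = s n}
      mul_mem' := fun {s t} hs ht n => by rw [Pi.mul_apply, Pi.mul_apply, map_mul, hs n, ht n]
      one_mem' := fun n => by rw [Pi.one_apply, Pi.one_apply, map_one]
      add_mem' := fun {s t} hs ht n => by rw [Pi.add_apply, Pi.add_apply, map_add, hs n, ht n]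
      zero_mem' := fun n => by rw [Pi.zero_apply, Pi.zero_apply, map_zero]
      neg_mem' := fun {s} hs n => by rw [Pi.neg_apply, Pi.neg_apply, map_neg, hs n] }
  let p : ∀ n, A →+* Γ(𝔛.X n, ⊤) := fun n => (Pi.evalRingHom (fun m => Γ(𝔛.X m, ⊤)) n).comp A.subtype
  have hp : ∀ n, (u n).comp (p (n + 1)) = p n := fun n => RingHom.ext fun a => a.2 n
  have hinj : ∀ x : A, (∀ n, p n x = 0) → x = 0 := fun x hx => Subtype.ext (funext hx)
  have hlift : ∀ y : (∀ n, Γ(𝔛.X n, ⊤)), (∀ n, u n (y (n + 1)) = y n) → ∃ x : A, ∀ n, p n x = y n :=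
    fun y hy => ⟨⟨y, hy⟩, fun _ => rfl⟩
  obtain ⟨hc, hs, hI⟩ := Groth.Agent.S2292.result (fun n => Γ(𝔛.X n, ⊤)) u hu v hv0 hv hker hfg A p hp hinj hlift
  have hN : IsNoetherianRing A :=
    (Groth.Agent.S4339.result (fun n => Γ(𝔛.X n, ⊤)) u hu v hv0 hv hker hfg A p hp hinj hlift).2
      (IsLocallyNoetherian.component_noetherian (X := 𝔛.X 0) ⟨⊤, isAffineOpen_top _⟩)
  refine ⟨A, inferInstance, RingHom.ker (p 0), hN, hc, ?_⟩
  let φ : ∀ n, (A ⧸ RingHom.ker (p 0) ^ (n + 1)) →+* Γ(𝔛.X n, ⊤) := fun n =>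
    Ideal.Quotient.lift _ (p n) fun a ha => RingHom.mem_ker.1 ((hs n).2 ▸ ha)
  have hφ : ∀ n, Function.Bijective (φ n) := fun n => by
    refine ⟨(injective_iff_map_eq_zero _).2 fun a ha => ?_, fun b => ?_⟩
    · obtain ⟨a, rfl⟩ := Ideal.Quotient.mk_surjective a
      rw [Ideal.Quotient.eq_zero_iff_mem, ← (hs n).2]
      exact RingHom.mem_ker.2 ha
    · obtain ⟨a, rfl⟩ := (hs n).1 b
      exact ⟨Ideal.Quotient.mk _ a, rfl⟩
  let e : ∀ n, 𝔛.X n ≅ (FSch.spf A (RingHom.ker (p 0))).X n := fun n =>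
    haveI := haff n
    (𝔛.X n).isoSpec ≪≫ (Scheme.Spec.mapIso
      ((RingEquiv.ofBijective (φ n) (hφ n)).toCommRingCatIso).op)
  have he : ∀ n, (e n).hom ≫ (FSch.spf A (RingHom.ker (p 0))).ι n = 𝔛.ι n ≫ (e (n + 1)).hom := fun n => by
    haveI := haff n
    haveI := haff (n + 1)
    show ((𝔛.X n).isoSpec.hom ≫ Spec.map (CommRingCat.ofHom (φ n))) ≫ CohB1.specQuotTrans _ n =
      𝔛.ι n ≫ (𝔛.X (n + 1)).isoSpec.hom ≫ Spec.map (CommRingCat.ofHom (φ (n + 1)))
    rw [Category.assoc, ← Category.assoc (𝔛.ι n), ← Scheme.isoSpec_hom_naturality, Category.assoc]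
    congr 1
    unfold CohB1.specQuotTrans
    rw [← Spec.map_comp, ← Spec.map_comp]
    congr 1
    refine CommRingCat.hom_ext (Ideal.Quotient.ringHom_ext (RingHom.ext fun a => ?_))
    exact (a.2 n).symm
  exact ⟨⟨⟨fun n => (e n).hom, he⟩, ⟨fun n => (e n).inv, fun n => by
      rw [Iso.inv_comp_eq, ← Category.assoc, he n, Category.assoc, Iso.hom_inv_id, Category.comp_id]⟩,
    FSch.Hom.ext (funext fun n => (e n).hom_inv_id), FSch.Hom.ext (funext fun n => (e n).inv_hom_id)⟩⟩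

end Groth.Agent.S3868
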