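import Groth.Statements.S3872
import Groth.Agent.Lead.StalkSubring

set_option autoImplicit false
universe u
open FCompl

namespace Groth.Agent.S3872

/-- For a ring A, an ideal J and a prime ideal 𝔭 with J ⊆ 𝔭, let A{S⁻¹}, S = A ∖ 𝔭, be the completion of
A_𝔭 for the topology defined by the extension of J, and A_{S} the subring of A{S⁻¹} generated by the
images of the completed localizations A_{f}, f ∉ 𝔭 (the stalk ring of Spf(A) at 𝔭). Given that A_{S}
and A{S⁻¹} are local rings and that the inclusion A_{S} → A{S⁻¹} and the canonical map A_𝔭 → A{S⁻¹}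
are local homomorphisms (all four are carried here as instance hypotheses; the two about A_{S} are
stated separately), both maps induce bijections on residue fields; so the residue field of A_{S} is
the residue field κ(𝔭) of A_𝔭. -/
theorem result (A : Type u) [CommRing A] (J : Ideal A) (𝔭 : Ideal A)
    [𝔭.IsPrime] (hJ : J ≤ 𝔭) [IsLocalRing (FSch.stalkSubring A J 𝔭)] [IsLocalRing (FSch.cAtPrime A J 𝔭)]
    [IsLocalHom (FSch.stalkSubring A J 𝔭).subtype]
    [IsLocalHom (algebraMap (Localization.AtPrime 𝔭) (FSch.cAtPrime A J 𝔭))] :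
    Function.Bijective (IsLocalRing.ResidueField.map (FSch.stalkSubring A J 𝔭).subtype) ∧
      Function.Bijective
        (IsLocalRing.ResidueField.map (algebraMap (Localization.AtPrime 𝔭) (FSch.cAtPrime A J 𝔭))) := by
  let I := J.map (algebraMap A (Localization.AtPrime 𝔭))
  haveI : Nontrivial (Localization.AtPrime 𝔭 ⧸ I) := Ideal.Quotient.nontrivial_iff.2
    (ne_top_of_le_ne_top (IsLocalRing.maximalIdeal.isMaximal _).ne_top
      (Groth.Lead.StalkSubring.map_le_maximalIdeal J 𝔭 hJ))
  have hmem : ∀ a : Localization.AtPrime 𝔭,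
      algebraMap (Localization.AtPrime 𝔭) (FSch.cAtPrime A J 𝔭) a ∈ FSch.stalkSubring A J 𝔭 := by
    intro a
    obtain ⟨⟨c, s, hs⟩, hcs⟩ := IsLocalization.surj 𝔭.primeCompl a
    let z : Localization.Away s := IsLocalization.mk' (M := Submonoid.powers s) _ c ⟨s, Submonoid.mem_powers s⟩
    refine (Groth.Lead.StalkSubring.mem_iff J 𝔭).2 ⟨s, hs, AdicCompletion.of _ _ z, ?_⟩
    have hz : FSch.awayToAtPrime A 𝔭 s hs z = a := by
      have e := congrArg (FSch.awayToAtPrime A 𝔭 s hs)
        (IsLocalization.mk'_spec (M := Submonoid.powers s) (Localization.Away s) c ⟨s, Submonoid.mem_powers s⟩)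
      simp only [map_mul, FSch.awayToAtPrime, IsLocalization.Away.lift_eq] at e
      exact (IsLocalization.map_units (Localization.AtPrime 𝔭) (⟨s, hs⟩ : 𝔭.primeCompl)).mul_right_cancel
        (e.trans hcs.symm)
    refine AdicCompletion.ext_evalₐ fun n => ?_
    have e := Groth.Lead.StalkSubring.evalₐ_complMap _ _ (FSch.awayToAtPrime A 𝔭 s hs)
      (FSch.map_awayToAtPrime_le A J 𝔭 s hs) n ⟨fun _ => z, fun {_ _} _ => SModEq.refl _⟩
    refine Eq.trans (Eq.trans (congrArg (fun w => AdicCompletion.evalₐ _ n (FSch.cAwayToAtPrime A J 𝔭 s hs w)) ?_) e) ?_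
    · refine AdicCompletion.ext_evalₐ fun m => ?_
      rw [AdicCompletion.evalₐ_mk, AdicCompletion.evalₐ_of]
    · show Ideal.Quotient.mk _ (FSch.awayToAtPrime A 𝔭 s hs z) = _
      rw [hz]
      exact (AdicCompletion.evalₐ_of _ n a).symm
  have hsur : Function.Surjective
      (IsLocalRing.ResidueField.map (algebraMap (Localization.AtPrime 𝔭) (FSch.cAtPrime A J 𝔭))) := by
    intro y
    obtain ⟨x, rfl⟩ := IsLocalRing.residue_surjective y
    obtain ⟨a, ha⟩ := Ideal.Quotient.mk_surjective (AdicCompletion.evalOneₐ I x)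
    refine ⟨IsLocalRing.residue _ a, ?_⟩
    rw [IsLocalRing.ResidueField.map_residue, ← sub_eq_zero, ← map_sub, IsLocalRing.residue_eq_zero_iff]
    intro hu
    have h0 := hu.map (AdicCompletion.evalOneₐ I)
    rw [map_sub, show AdicCompletion.evalOneₐ I (algebraMap (Localization.AtPrime 𝔭) (FSch.cAtPrime A J 𝔭) a) =
      Ideal.Quotient.mk I a from (AdicCompletion.evalOneₐ I).commutes a, ha, sub_self] at h0
    exact not_isUnit_zero h0
  refine ⟨⟨RingHom.injective _, fun y => ?_⟩, RingHom.injective _, hsur⟩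
  obtain ⟨z, rfl⟩ := hsur y
  obtain ⟨a, rfl⟩ := IsLocalRing.residue_surjective z
  exact ⟨IsLocalRing.residue _ ⟨_, hmem a⟩, rfl⟩

end Groth.Agent.S3872
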