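import Groth.Statements.S3874
import Groth.Agent.L03.AdicFSCompletion
import Mathlib.RingTheory.Localization.Ideal
import Mathlib.RingTheory.Localization.Away.Basic

set_option autoImplicit false
universe u
open FCompl

namespace Groth.Agent.S3874

/-- Let A be a Noetherian ring, J an ideal, f ∈ A and n ≥ 0, and let A_{f} be the completion of the
localization A_f for the topology defined by the extension of J. There is a ring isomorphism from
the localization of A/J^(n+1) away from the class of f onto A_{f} modulo the (n+1)-st power of the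
extension of J to A_{f}, compatible with the canonical maps from A (and hence unique). In terms of
formal spectra: the open D(f) of Spf(A) is Spf(A_{f}), and at level n its ring is the ring
(A/J^(n+1))_f of the open D(f) of Spec(A/J^(n+1)). -/
theorem result (A : Type u) [CommRing A] [IsNoetherianRing A] (J : Ideal A)
    (f : A) (n : ℕ) :
    ∃ e : Localization.Away (Ideal.Quotient.mk (J ^ (n + 1)) f) ≃+*
        FSch.cAway A J f ⧸ (J.map (algebraMap A (FSch.cAway A J f))) ^ (n + 1),
      ∀ a : A, e (algebraMap (A ⧸ J ^ (n + 1)) _ (Ideal.Quotient.mk (J ^ (n + 1)) a)) =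
        Ideal.Quotient.mk _ (algebraMap A (FSch.cAway A J f) a) := by
  let L := Localization.Away f
  let I' : Ideal L := J.map (algebraMap A L)
  let C := FSch.cAway A J f
  let K : Ideal C := (J.map (algebraMap A C)) ^ (n + 1)
  have hIfg : I'.FG := Ideal.FG.map (IsNoetherian.noetherian J) (algebraMap A L)
  have hK : K = RingHom.ker (AdicCompletion.evalₐ I' (n + 1)).toRingHom := by
    rw [Groth.L03.AdicFS.ker_evalₐ_eq hIfg]
    show (J.map (algebraMap A C)) ^ (n + 1) = ((J.map (algebraMap A L)).map (algebraMap L C)) ^ (n + 1)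
    rw [Ideal.map_map, ← IsScalarTower.algebraMap_eq A L C]
  let g : L →+* C ⧸ K := (Ideal.Quotient.mk K).comp (algebraMap L C)
  have hev : ∀ x : L, AdicCompletion.evalₐ I' (n + 1) (algebraMap L C x) = Ideal.Quotient.mk (I' ^ (n + 1)) x :=
    fun x => (AdicCompletion.evalₐ I' (n + 1)).commutes x
  have hgA : ∀ a : A, g (algebraMap A L a) = Ideal.Quotient.mk K (algebraMap A C a) := fun a => by
    show Ideal.Quotient.mk K (algebraMap L C (algebraMap A L a)) = _
    rw [← IsScalarTower.algebraMap_apply A L C]
  have hg : Function.Surjective g := fun z => by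
    obtain ⟨c, rfl⟩ := Ideal.Quotient.mk_surjective z
    obtain ⟨x, hx⟩ := Ideal.Quotient.mk_surjective (AdicCompletion.evalₐ I' (n + 1) c)
    refine ⟨x, Ideal.Quotient.eq.2 ?_⟩
    rw [hK, RingHom.mem_ker, map_sub]
    show AdicCompletion.evalₐ I' (n + 1) (algebraMap L C x) - AdicCompletion.evalₐ I' (n + 1) c = 0
    rw [hev, hx, sub_self]
  have hker : RingHom.ker g ≤ (RingHom.ker (Ideal.Quotient.mk (J ^ (n + 1)))).map (algebraMap A L) :=
    fun x hx => by
      have h1 : algebraMap L C x ∈ K := Ideal.Quotient.eq_zero_iff_mem.1 hx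
      rw [hK, RingHom.mem_ker] at h1
      have h2 : Ideal.Quotient.mk (I' ^ (n + 1)) x = 0 := (hev x).symm.trans h1
      rw [Ideal.mk_ker, Ideal.map_pow]
      exact Ideal.Quotient.eq_zero_iff_mem.1 h2
  letI alg : Algebra (A ⧸ J ^ (n + 1)) (C ⧸ K) :=
    (Ideal.Quotient.lift (J ^ (n + 1)) (g.comp (algebraMap A L)) fun a ha => by
      show g (algebraMap A L a) = 0
      rw [hgA, Ideal.Quotient.eq_zero_iff_mem]
      show _ ∈ (J.map (algebraMap A C)) ^ (n + 1)
      rw [← Ideal.map_pow]
      exact Ideal.mem_map_of_mem _ ha).toAlgebra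
  have h1 := IsLocalization.of_surjective (Submonoid.powers f) L (Ideal.Quotient.mk (J ^ (n + 1)))
    Ideal.Quotient.mk_surjective g hg (RingHom.ext fun a => rfl) hker
  rw [Submonoid.map_powers] at h1
  haveI : IsLocalization.Away (Ideal.Quotient.mk (J ^ (n + 1)) f) (C ⧸ K) := h1
  let e := IsLocalization.algEquiv (Submonoid.powers (Ideal.Quotient.mk (J ^ (n + 1)) f))
    (Localization.Away (Ideal.Quotient.mk (J ^ (n + 1)) f)) (C ⧸ K)
  exact ⟨e.toRingEquiv, fun a => (e.commutes _).trans (hgA a)⟩


end Groth.Agent.S3874
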