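import Groth.Statements.S3880
import Groth.Agent.L07.Hyper.Path

set_option autoImplicit false
universe u
open CategoryTheory
open Hyper

namespace Groth.Agent.S3880

open Opposite CategoryTheory.Limits in
/-- For hypercoverings of an object X of a small site with fibre products (coskeleta assumed to exist):
(a) any two hypercoverings K, L of X receive morphisms from a common hypercovering M; (b) for any
two morphisms a, b : K -> L of hypercoverings there is a morphism of hypercoverings c : M -> K such
that c followed by a and c followed by b are homotopic (simplicial homotopy in the combinatorial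
sense, equivalent to a morphism from the product of M with the simplicial interval). In other words
the opposite of the category of hypercoverings up to homotopy is filtered. -/
theorem result {C : Type u} [SmallCategory C] [HasPullbacks C]
    (J : GrothendieckTopology C) (X : C)
    [∀ (n : ℕ) (F : (SimplexCategory.Truncated n)ᵒᵖ ⥤ Limits.FormalCoproduct.{u} (Over X)),
      (SimplexCategory.Truncated.inclusion n).op.HasRightKanExtension F]
    (K L : SimplicialObject (FormalCoproduct.{u} (Over X)))
    (hK : Hyper.IsHypercovering J X K) (hL : Hyper.IsHypercovering J X L) :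
    (∃ (M : SimplicialObject (FormalCoproduct.{u} (Over X))) (_ : M ⟶ K) (_ : M ⟶ L),
      Hyper.IsHypercovering J X M) ∧
    ∀ (a b : K ⟶ L), ∃ (M : SimplicialObject (FormalCoproduct.{u} (Over X))) (c : M ⟶ K),
      Hyper.IsHypercovering J X M ∧ Nonempty (SimplicialObject.Homotopy (c ≫ a) (c ≫ b)) := by
  have := Groth.L10.Hyper.hasFiniteProducts_formalCoproduct_over X
  have : HasEqualizers (FormalCoproduct.{u} (Over X)) := hasEqualizers_of_hasPullbacks_and_binary_products
  have hX := fun (P : SimplicialObject (FormalCoproduct.{u} (Over X))) (hP : Hyper.IsHypercovering J X P) =>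
    Groth.L10.Hyper.locFill_of_isHypercovering J X P hP
  have hv : ∀ (P : SimplicialObject (FormalCoproduct.{u} (Over X))), Hyper.IsHypercovering J X P →
      Groth.L10.Hyper.HomVertex (J.over X) P := fun P hP U => by
    obtain ⟨S, hS, h⟩ := (hX P hP).vertex U
    exact ⟨S, hS, fun V g hg => (h g hg).map (fun s => (Groth.L10.Hyper.readHom _).app _ s)⟩
  have hf := fun P hP => Groth.L10.Hyper.homFill_of_locFill (hX P hP)
  refine ⟨⟨Groth.L07.Hyper.prodObj K L, Groth.L07.Hyper.prodFst K L, Groth.L07.Hyper.prodSnd K L,
    Groth.L10.Hyper.isHypercovering_of_fill J X _ ?_ (Groth.L07.Hyper.homFill_prod (hf K hK) (hf L hL))⟩, fun a b =>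
    ⟨Groth.L07.Hyper.path a b, Groth.L07.Hyper.pathFst a b,
      Groth.L10.Hyper.isHypercovering_of_fill J X _ ?_ (Groth.L07.Hyper.homFill_path a b (hf K hK) (hf L hL)),
      ⟨Groth.L07.Hyper.pathHomotopy a b⟩⟩⟩
  · exact Groth.L10.Hyper.cover_of_vertex J X _ (Groth.L07.Hyper.homVertex_prod (hv K hK) (hv L hL) _)
  · exact Groth.L10.Hyper.cover_of_vertex J X _ (Groth.L07.Hyper.homVertex_path a b (hv K hK) (hf L hL) _)

end Groth.Agent.S3880
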