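import Groth.Statements.S3884
import Groth.Agent.L27.LimCoh.Thm
import Groth.Agent.L27.LimCoh.PushSys

set_option autoImplicit false
set_option linter.style.haveILetI false
open CategoryTheory CategoryTheory.Limits AlgebraicGeometry Opposite
universe u
open EtLim

set_option backward.isDefEq.respectTransparency.types false

namespace Groth.Agent.S3884

/-- Let ι be a nonempty directed preordered set, (X_i) an inverse system of quasi-compact
quasi-separated schemes indexed by ι with affine transition morphisms, X a limit with projections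
u_i : X -> X_i, and F an abelian sheaf on the small etale site of X. Then the canonical maps
H^n(X_i, u_{i*} F) -> H^n(X, F) (pull back along u_i, then apply the counit u_i^{-1} u_{i*} F -> F)
identify H^n(X, F) with the directed colimit of the H^n(X_i, u_{i*} F), in the concrete sense: every
class on X comes from some stage, and a class at stage j mapping to zero on X already maps to zero
at some stage k ≥ j under the transition map. (Exactness of pullback of abelian sheaves, which
always holds, is carried as an instance hypothesis.) -/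
theorem result {ι : Type u} [Preorder ι] [Nonempty ι] [IsDirected ι (· ≤ ·)] (Xs : ιᵒᵖ ⥤ Scheme.{u})
    (haff : ∀ ⦃a b : ιᵒᵖ⦄ (h : a ⟶ b), IsAffineHom (Xs.map h))
    (hqc : ∀ a, CompactSpace ↥(Xs.obj a)) (hqs : ∀ a, QuasiSeparatedSpace ↥(Xs.obj a))
    (c : Cone Xs) (hc : IsLimit c) (F : EtCoh.Ab c.pt) (n : ℕ)
    [∀ a, PreservesFiniteLimits (EtCoh.pull (c.π.app a))]
    [∀ ⦃a b : ιᵒᵖ⦄ (h : a ⟶ b), PreservesFiniteLimits (EtCoh.pull (Xs.map h))] :
    (∀ ξ : EtCoh.H c.pt F n,
      ∃ (j : ι) (ξj : EtCoh.H (Xs.obj (op j)) ((EtCoh.push (c.π.app (op j))).obj F) n),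
        EtLim.HofPush (c.π.app (op j)) F n ξj = ξ) ∧
    (∀ (j : ι) (ξj : EtCoh.H (Xs.obj (op j)) ((EtCoh.push (c.π.app (op j))).obj F) n),
      EtLim.HofPush (c.π.app (op j)) F n ξj = 0 →
        ∃ (k : ι) (hk : j ≤ k),
          EtLim.HpushTrans (Xs.map (homOfLE hk).op) (c.π.app (op k)) (c.π.app (op j))
            (c.w (homOfLE hk).op) F n ξj = 0) := by
  haveI : IsFiltered ι := inferInstance
  haveI : ∀ (j k : ιᵒᵖ) (f : j ⟶ k), IsAffineHom (Xs.map f) := fun _ _ f => haff f
  haveI := hqc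
  haveI := hqs
  haveI : ∀ i, PreservesFiniteLimits (EtCoh.pull (Groth.L27.LimCoh.prj c i)) := fun i => ‹∀ a, PreservesFiniteLimits (EtCoh.pull (c.π.app a))› i
  obtain ⟨h1, h2⟩ := Groth.L27.LimCoh.commutes_isLim hc (Groth.L27.LimCoh.pushCocn c F)
    (Groth.L27.LimCoh.isLim_pushCocn c F) n
  have hα : ∀ i, ((EtCoh.pullPushAdj (c.π.app i)).homEquiv _ _).symm (𝟙 ((EtCoh.push (c.π.app i)).obj F)) =
      (EtCoh.pullPushAdj (c.π.app i)).counit.app F := fun i => by
    rw [Adjunction.homEquiv_counit, CategoryTheory.Functor.map_id, Category.id_comp]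
  have hΦ : ∀ (j : ι) (ξj : EtCoh.H (Xs.obj (op j)) ((EtCoh.push (c.π.app (op j))).obj F) n),
      Groth.L27.LimCoh.ΦL (Groth.L27.LimCoh.pushCocn c F) (op j) n ξj =
        EtLim.HofPush (c.π.app (op j)) F n ξj := fun j ξj => by
    show EtLim.HpullThen (c.π.app (op j)) _ _ n ξj = _
    exact congrArg (fun a => EtLim.HpullThen (c.π.app (op j)) ((EtCoh.push (c.π.app (op j))).obj F) a n ξj)
      (hα (op j))
  refine ⟨fun ξ => ?_, fun j ξj h => ?_⟩
  · obtain ⟨j, ξj, hj⟩ := h1 ξ
    exact ⟨j.unop, ξj, (hΦ j.unop ξj).symm.trans hj⟩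
  · obtain ⟨k, g, hk⟩ := h2 (op j) ξj ((hΦ j ξj).trans h)
    refine ⟨k.unop, leOfHom g.unop, ?_⟩
    rw [show (homOfLE (leOfHom g.unop)).op = g from Subsingleton.elim _ _] at *
    refine Eq.trans ?_ hk
    refine Eq.trans ?_ (Groth.L27.LimCoh.HpullThen_eq (Xs.map g) _ _ n ξj).symm
    exact congrArg (fun a => EtLim.HofPush (Xs.map g) ((EtCoh.push (c.π.app k)).obj F) n
      ((EtCoh.HF (Xs.obj (op j)) n).map a ξj))
      ((Groth.L27.LimCoh.pushCongr_pushComp_inv (c.π.app k) (Xs.map g) (c.w g) F).trans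
        (Equiv.apply_symm_apply ((EtCoh.pullPushAdj (Xs.map g)).homEquiv ((EtCoh.push (c.π.app (op j))).obj F)
          ((EtCoh.push (c.π.app k)).obj F)) _).symm)

end Groth.Agent.S3884
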