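import Groth.Statements.S3885
import Groth.Agent.L27.LimCoh.GammaSys

set_option autoImplicit false
set_option linter.style.haveILetI false
open CategoryTheory CategoryTheory.Limits AlgebraicGeometry Opposite
universe u
open EtLim

set_option backward.isDefEq.respectTransparency.types false

namespace Groth.Agent.S3885

/-- For the multiplicative group (the source treats any commutative group scheme locally of finite
presentation over some stage): let ι be a nonempty directed preordered set, (X_i) an inverse system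
of quasi-compact quasi-separated schemes indexed by ι with affine transition morphisms, and X a
limit with projections u_i. Then the pullback maps H^n(X_i, G_m) -> H^n(X, G_m) on etale cohomology
identify H^n(X, G_m) with the directed colimit of the H^n(X_i, G_m), in the concrete sense: every
class on X comes from some stage, and a class at stage j mapping to zero on X already maps to zero
at some stage k ≥ j. (Exactness of pullback of abelian sheaves, which always holds, is carried as an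
instance hypothesis.) -/
theorem result {ι : Type u} [Preorder ι] [Nonempty ι] [IsDirected ι (· ≤ ·)] (Xs : ιᵒᵖ ⥤ Scheme.{u})
    (haff : ∀ ⦃a b : ιᵒᵖ⦄ (h : a ⟶ b), IsAffineHom (Xs.map h))
    (hqc : ∀ a, CompactSpace ↥(Xs.obj a)) (hqs : ∀ a, QuasiSeparatedSpace ↥(Xs.obj a))
    (c : Cone Xs) (hc : IsLimit c) (n : ℕ)
    [∀ a, PreservesFiniteLimits (EtCoh.pull (c.π.app a))]
    [∀ ⦃a b : ιᵒᵖ⦄ (h : a ⟶ b), PreservesFiniteLimits (EtCoh.pull (Xs.map h))] :
    (∀ ξ : EtCoh.H c.pt (EtCoh.Gm c.pt) n,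
      ∃ (j : ι) (ξj : EtCoh.H (Xs.obj (op j)) (EtCoh.Gm (Xs.obj (op j))) n),
        EtLim.HGmPull (c.π.app (op j)) n ξj = ξ) ∧
    (∀ (j : ι) (ξj : EtCoh.H (Xs.obj (op j)) (EtCoh.Gm (Xs.obj (op j))) n),
      EtLim.HGmPull (c.π.app (op j)) n ξj = 0 →
        ∃ (k : ι) (hk : j ≤ k), EtLim.HGmPull (Xs.map (homOfLE hk).op) n ξj = 0) := by
  haveI : IsFiltered ι := inferInstance
  haveI : ∀ (j k : ιᵒᵖ) (f : j ⟶ k), IsAffineHom (Xs.map f) := fun _ _ f => haff f
  haveI := hqc
  haveI := hqs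
  haveI : ∀ i, PreservesFiniteLimits (EtCoh.pull (Groth.L27.LimCoh.prj c i)) := fun i => ‹∀ a, PreservesFiniteLimits (EtCoh.pull (c.π.app a))› i
  obtain ⟨h1, h2⟩ := Groth.L27.LimCoh.commutes_isLim hc
    (Groth.L27.LimCoh.bigCocn ⟨EtCoh.ΓUnits, EtCoh.isSheaf_ΓUnits⟩ c)
    (Groth.L27.LimCoh.isLim_bigCocn _ c hc Groth.L27.LimCoh.continuous_ΓUnits) n
  have key : ∀ {X Y : Scheme.{u}} (u : X ⟶ Y) [PreservesFiniteLimits (EtCoh.pull u)]
      (x : EtCoh.H Y (EtCoh.Gm Y) n),
      EtLim.HpullThen u (EtCoh.Gm Y) (((EtCoh.pullPushAdj u).homEquiv _ _).symm (EtLim.GmPush u)) n x =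
        EtLim.HGmPull u n x := fun u _ x => by
    rw [Groth.L27.LimCoh.HpullThen_eq, Equiv.apply_symm_apply]
    rfl
  refine ⟨fun ξ => ?_, fun j ξj h => ?_⟩
  · obtain ⟨j, ξj, hj⟩ := h1 ξ
    exact ⟨j.unop, ξj, (key (c.π.app j) ξj).symm.trans hj⟩
  · obtain ⟨k, g, hk⟩ := h2 (op j) ξj ((key (c.π.app (op j)) ξj).trans h)
    refine ⟨k.unop, leOfHom g.unop, ?_⟩
    exact (key (Xs.map g) ξj).symm.trans hk

end Groth.Agent.S3885
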