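import Groth.Statements.S3888
import Groth.Agent.L27.EtSite.PropA
import Groth.Agent.L27.EtSite.PushStalk
import Groth.Agent.L27.ExtZero.Restr
import Mathlib.AlgebraicGeometry.Morphisms.Immersion
import Mathlib.CategoryTheory.Adjunction.Whiskering
import Mathlib.CategoryTheory.Adjunction.Opposites
import Mathlib.CategoryTheory.Adjunction.FullyFaithful

set_option autoImplicit false
open CategoryTheory CategoryTheory.Limits AlgebraicGeometry Opposite
universe u
open EtDesc

set_option backward.isDefEq.respectTransparency.types false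

namespace Groth.Agent.S3888

theorem full_faithful_pushSh_open {U X : Scheme.{u}} (j : U ⟶ X) [IsOpenImmersion j] :
    (EtDesc.pushSh j).Full ∧ (EtDesc.pushSh j).Faithful := by
  let adj : EtShriek.compEtale j ⊣ EtCoh.bc j := Adjunction.mkOfUnitCounit
    { unit := { app := fun T => Groth.L27.ExtZero.etaE j T
                naturality := fun T T' m => Groth.L27.ExtZero.etaE_nat j m }
      counit := { app := fun V => Groth.L27.ExtZero.epsE j V
                  naturality := fun V V' m => Groth.L27.ExtZero.epsE_nat j m }
      left_triangle := by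
        ext T
        simpa using Groth.L27.ExtZero.etaE_epsE j T
      right_triangle := by
        ext V
        simpa using Groth.L27.ExtZero.etaE_map_epsE j V }
  haveI : IsIso adj.unit := by
    haveI : ∀ T, IsIso (adj.unit.app T) := fun T => by
      have h := Groth.L27.ExtZero.isIso_etaE j T
      simpa [adj] using h
    exact NatIso.isIso_of_isIso_app _
  let wadj := adj.op.whiskerLeft (Type (u + 1))
  haveI : IsIso wadj.counit := by
    haveI : ∀ F, IsIso (wadj.counit.app F) := fun F => by
      haveI : ∀ T, IsIso ((wadj.counit.app F).app T) := fun T => by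
        dsimp [wadj, Adjunction.whiskerLeft]
        infer_instance
      exact NatIso.isIso_of_isIso_app _
    exact NatIso.isIso_of_isIso_app _
  haveI := wadj.fullyFaithfulROfIsIsoCounit.full
  haveI := wadj.fullyFaithfulROfIsIsoCounit.faithful
  let e : EtDesc.pushSh j ⋙ sheafToPresheaf X.smallEtaleTopology (Type (u + 1)) ≅
      sheafToPresheaf U.smallEtaleTopology (Type (u + 1)) ⋙
        (Functor.whiskeringLeft X.Etaleᵒᵖ U.Etaleᵒᵖ (Type (u + 1))).obj (EtCoh.bc j).op := Iso.refl _
  haveI := Functor.Full.of_iso e.symm
  haveI := Functor.Faithful.of_iso e.symm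
  exact ⟨Functor.Full.of_comp_faithful _ (sheafToPresheaf X.smallEtaleTopology (Type (u + 1))),
    Functor.Faithful.of_comp _ (sheafToPresheaf X.smallEtaleTopology (Type (u + 1)))⟩

/-- Let f : X -> Y be an immersion of schemes. Then for every sheaf of sets F on the small etale site of
X the counit f^* f_* F -> F of the adjunction between inverse and direct image is an isomorphism. -/
theorem result {X Y : Scheme.{u}} (f : X ⟶ Y) [IsImmersion f] (F : EtDesc.Sh X) :
    IsIso ((EtDesc.adjSh f).counit.app F) := by
  obtain ⟨hf1, hf2⟩ := full_faithful_pushSh_open f.coborderRange.ι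
  haveI : ∀ G, IsIso ((EtDesc.adjSh f.liftCoborder).counit.app G) := fun G =>
    Groth.L27.EtSite.isIso_counitSh f.liftCoborder
      (Groth.L27.EtSite.propA_of_isIntegralHom f.liftCoborder) G
  haveI : IsIso (EtDesc.adjSh f.liftCoborder).counit := NatIso.isIso_of_isIso_app _
  haveI := (EtDesc.adjSh f.liftCoborder).fullyFaithfulROfIsIsoCounit.full
  haveI := (EtDesc.adjSh f.liftCoborder).fullyFaithfulROfIsIsoCounit.faithful
  let ι' := f.coborderRange.ι
  let e : EtDesc.pushSh f.liftCoborder ⋙ EtDesc.pushSh ι' ≅ EtDesc.pushSh (f.liftCoborder ≫ ι') :=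
    Functor.sheafPushforwardContinuousComp' (F := EtCoh.bc ι') (G := EtCoh.bc f.liftCoborder)
      (FG := EtCoh.bc (f.liftCoborder ≫ ι'))
      ((MorphismProperty.Over.pullbackComp (P := EtCoh.etaleMP) (Q := ⊤) f.liftCoborder ι').symm :
        EtCoh.bc ι' ⋙ EtCoh.bc f.liftCoborder ≅ EtCoh.bc (f.liftCoborder ≫ ι'))
      (Type (u + 1)) Y.smallEtaleTopology (f.coborderRange : Scheme.{u}).smallEtaleTopology X.smallEtaleTopology
  haveI := Functor.Full.of_iso e
  haveI := Functor.Faithful.of_iso e
  have h : (EtDesc.pushSh f).Full ∧ (EtDesc.pushSh f).Faithful := by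
    rw [show f = f.liftCoborder ≫ ι' from f.liftCoborder_ι.symm]
    exact ⟨inferInstance, inferInstance⟩
  haveI := h.1
  haveI := h.2
  infer_instance

end Groth.Agent.S3888
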