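import Groth.Statements.S3894
import Mathlib.CategoryTheory.Limits.Types.Products
import Mathlib.CategoryTheory.Sites.Limits
-- import your own Groth.Agent.* helpers here

set_option autoImplicit false
universe u
open CategoryTheory CategoryTheory.Limits Opposite
open Tors

namespace Groth.Agent.S3894

/-- A torsor P under an abelian sheaf G is trivial, i.e. equivariantly isomorphic to G acting on itself
by translations, if and only if P has a global section (a morphism from the final sheaf of sets). -/
theorem result {C : Type u} [SmallCategory C] {J : GrothendieckTopology C}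
    {G : Sheaf J AddCommGrpCat.{u}} (T : Tors.Torsor G) : T.IsTrivial ↔ T.HasSection := by
  constructor
  · rintro ⟨e, -⟩
    exact ⟨⟨{ app := fun U => TypeCat.ofHom fun _ => e.hom.hom.app U (0 : G.obj.obj U)
              naturality := fun U V f => by
                refine ConcreteCategory.hom_ext _ _ fun _ => ?_
                have := NatTrans.naturality_apply e.hom.hom f (0 : G.obj.obj U)
                exact ((congrArg (e.hom.hom.app V) (map_zero (G.obj.map f).hom).symm)).trans this }⟩⟩
  · rintro ⟨σ⟩
    have hU : ∀ U : Cᵒᵖ, Nonempty ((⊤_ (Sheaf J (Type u))).obj.obj U) := fun U =>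
      let h := IsTerminal.isTerminalObj (sheafToPresheaf J (Type u) ⋙ (evaluation Cᵒᵖ (Type u)).obj U) _ terminalIsTerminal
      ⟨(Types.isTerminalEquivUnique _ h).default⟩
    have hs : ∀ U : Cᵒᵖ, Subsingleton ((⊤_ (Sheaf J (Type u))).obj.obj U) := fun U =>
      let h := IsTerminal.isTerminalObj (sheafToPresheaf J (Type u) ⋙ (evaluation Cᵒᵖ (Type u)).obj U) _ terminalIsTerminal
      (Types.isTerminalEquivUnique _ h).instSubsingleton
    let s : ∀ U : Cᵒᵖ, T.P.obj.obj U := fun U => σ.hom.app U (hU U).some
    have hnat : ∀ {U V : Cᵒᵖ} (f : U ⟶ V), T.P.obj.map f (s U) = s V := fun {U V} f => by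
      rw [← NatTrans.naturality_apply]
      exact congrArg (σ.hom.app V) (@Subsingleton.elim _ (hs V) _ _)
    let φ : ((sheafCompose J (forget AddCommGrpCat.{u})).obj G).obj ⟶ T.P.obj :=
      { app := fun U => TypeCat.ofHom fun g => T.vadd g (s U)
        naturality := fun U V f => by
          refine ConcreteCategory.hom_ext _ _ fun g => ?_
          change T.vadd (G.obj.map f g) (s V) = T.P.obj.map f (T.vadd g (s U))
          rw [T.map_vadd, hnat] }
    haveI : ∀ U, IsIso (φ.app U) := fun U => (isIso_iff_bijective _).2
      ⟨fun g h e => (T.free_transitive (s U) (T.vadd g (s U))).unique rfl e.symm,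
        fun q => (T.free_transitive (s U) q).exists⟩
    refine ⟨(fullyFaithfulSheafToPresheaf J (Type u)).preimageIso (NatIso.ofComponents (fun U => asIso (φ.app U)) (fun f => φ.naturality f)), fun U g h => ?_⟩
    exact T.add_vadd g h (s U)

end Groth.Agent.S3894
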