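import Groth.Statements.S3896
import Groth.Agent.L27.EtSite.Points
import Mathlib.AlgebraicGeometry.Morphisms.UniversallyOpen

set_option autoImplicit false
open CategoryTheory CategoryTheory.Limits AlgebraicGeometry Opposite
universe u
open EtDesc

set_option backward.isDefEq.respectTransparency.types false
set_option linter.style.haveILetI false

namespace Groth.Agent.S3896

variable {X : Scheme.{u}}

theorem sep {F : EtDesc.Sh X} {W : X.Etale} (s t : F.obj.obj (op W)) (S : Sieve W) (hS : S ∈ X.smallEtaleTopology W)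
    (h : ∀ ⦃W' : X.Etale⦄ (g : W' ⟶ W), S g → F.obj.map g.op s = F.obj.map g.op t) : s = t :=
  (((isSheaf_iff_isSheaf_of_type _ _).1 F.property).isSeparated S hS).ext h

theorem hom_unique {U : X.Opens} {W : X.Etale} (a b : W ⟶ EtDesc.ofOpen U) : a = b :=
  MorphismProperty.Over.Hom.ext ((cancel_mono U.ι).1
    ((MorphismProperty.Over.w a).trans (MorphismProperty.Over.w b).symm))

theorem rep_subsingleton (U : X.Opens) (W : X.Etale) :
    Subsingleton ((EtDesc.repSh (EtDesc.ofOpen U)).obj.obj (op W)) := by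
  refine ⟨fun s t => ?_⟩
  let P : X.Etaleᵒᵖ ⥤ Type (u + 1) := yoneda.obj (EtDesc.ofOpen U) ⋙ uliftFunctor.{u + 1, u}
  refine sep s t _ (X.smallEtaleTopology.intersection_covering
    (Presheaf.imageSieve_mem X.smallEtaleTopology (toSheafify _ P) s)
    (Presheaf.imageSieve_mem X.smallEtaleTopology (toSheafify _ P) t)) fun W' g hg => ?_
  obtain ⟨⟨a, ha⟩, ⟨b, hb⟩⟩ := hg
  refine ha.symm.trans (Eq.trans ?_ hb)
  exact congrArg _ (ULift.ext _ _ (hom_unique _ _))

theorem mono_iff (F : EtDesc.Sh X) : Mono (terminal.from F) ↔ ∀ W : X.Etale, Subsingleton (F.obj.obj (op W)) := by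
  refine ⟨fun _ W => ⟨fun s t => ?_⟩, fun h => ⟨fun a b _ => ?_⟩⟩
  · let α : F.obj.obj (op W) → (yoneda.obj W ⋙ uliftFunctor.{u + 1, u} ⟶ F.obj) := fun s =>
      { app := fun W' => TypeCat.ofHom fun g => F.obj.map g.down.op s
        naturality := fun W' W'' k => ConcreteCategory.hom_ext _ _ fun g =>
          Functor.map_comp_apply F.obj g.down.op k s }
    let e := (sheafificationAdjunction X.smallEtaleTopology (Type (u + 1))).homEquiv
      (yoneda.obj W ⋙ uliftFunctor.{u + 1, u}) F
    have h : α s = α t := e.symm.injective ((cancel_mono (terminal.from F)).1 (terminal.hom_ext _ _))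
    have h2 := congrArg (fun m : (yoneda.obj W ⋙ uliftFunctor.{u + 1, u} ⟶ F.obj) => m.app (op W) ⟨𝟙 W⟩) h
    exact (Functor.map_id_apply F.obj _ s).symm.trans (h2.trans (Functor.map_id_apply F.obj _ t))
  · exact ObjectProperty.hom_ext _ (NatTrans.ext (funext fun W => ConcreteCategory.hom_ext _ _ fun x =>
      @Subsingleton.elim _ (h W.unop) _ _))

theorem le_of_hom {U V : X.Opens} (φ : EtDesc.repSh (EtDesc.ofOpen U) ⟶ EtDesc.repSh (EtDesc.ofOpen V)) :
    U ≤ V := fun x hx => by
  let P : X.Opens → X.Etaleᵒᵖ ⥤ Type (u + 1) := fun U => yoneda.obj (EtDesc.ofOpen U) ⋙ uliftFunctor.{u + 1, u}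
  let s := φ.hom.app (op (EtDesc.ofOpen U))
    ((toSheafify X.smallEtaleTopology (P U)).app (op (EtDesc.ofOpen U)) ⟨𝟙 (EtDesc.ofOpen U)⟩)
  have hsv := Presheaf.imageSieve_mem X.smallEtaleTopology (toSheafify X.smallEtaleTopology (P V)) s
  let x' : (EtDesc.ofOpen U).left := (⟨x, hx⟩ : U)
  obtain ⟨W, g, w, hg, hw⟩ := (Groth.L27.EtSite.mem_topology_iff _).1 hsv x'
  obtain ⟨t, -⟩ := hg
  let a : W ⟶ EtDesc.ofOpen V := t.down
  have e1 : V.ι.base (a.left.base w) = W.hom.base w :=
    congrArg (fun m : W.left ⟶ X => m.base w) (MorphismProperty.Over.w a)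
  have e2 : U.ι.base (g.left.base w) = W.hom.base w :=
    congrArg (fun m : W.left ⟶ X => m.base w) (MorphismProperty.Over.w g)
  have e3 : W.hom.base w = x := e2.symm.trans (congrArg U.ι.base hw)
  exact e3 ▸ e1 ▸ (a.left.base w).2


/-- Let X be a scheme. Sending a Zariski open U of X to the etale sheaf of sets attached to the open
immersion U -> X gives an isomorphism of ordered sets from the opens of X onto the subobjects of the
final object of the etale topos of X: (a) each such sheaf is a subobject of the final sheaf; (b) U ≤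
V if and only if there is a morphism between the attached sheaves; (c) every subobject of the final
sheaf is isomorphic to the sheaf attached to some open. -/
theorem result (X : Scheme.{u}) :
    (∀ U : X.Opens, Mono (terminal.from (EtDesc.repSh (EtDesc.ofOpen U)))) ∧
    (∀ U V : X.Opens, U ≤ V ↔ Nonempty (EtDesc.repSh (EtDesc.ofOpen U) ⟶ EtDesc.repSh (EtDesc.ofOpen V))) ∧
    (∀ F : EtDesc.Sh X, Mono (terminal.from F) → ∃ U : X.Opens, Nonempty (F ≅ EtDesc.repSh (EtDesc.ofOpen U))) := by
  refine ⟨fun U => (mono_iff _).2 (rep_subsingleton U), fun U V => ⟨fun h => ⟨?_⟩, fun ⟨φ⟩ => le_of_hom φ⟩, fun F hF => ?_⟩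
  · exact (presheafToSheaf X.smallEtaleTopology (Type (u + 1))).map (Functor.whiskerRight
      (yoneda.map (MorphismProperty.Over.homMk (X.homOfLE h) (X.homOfLE_ι h) : EtDesc.ofOpen U ⟶ EtDesc.ofOpen V)) _)
  · have hs := (mono_iff F).1 hF
    let U : X.Opens := ⟨{x | ∃ (W : X.Etale) (w : W.left), W.hom.base w = x ∧ Nonempty (F.obj.obj (op W))}, by
      refine isOpen_iff_forall_mem_open.2 ?_
      rintro x ⟨W, w, hw, hF'⟩
      let a : W.left ⟶ X := W.hom
      haveI : Etale a := W.prop
      exact ⟨Set.range a.base, by rintro _ ⟨w', rfl⟩; exact ⟨W, w', rfl, hF'⟩, a.isOpenMap.isOpen_range, w, hw⟩⟩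
    have hrange : ∀ W : X.Etale, Nonempty (F.obj.obj (op W)) ↔ Nonempty (W ⟶ EtDesc.ofOpen U) := by
      intro W
      refine ⟨fun hW => ?_, fun ⟨a⟩ => ?_⟩
      · let c : W.left ⟶ X := W.hom
        have hc : Set.range c.base ⊆ Set.range U.ι.base := by
          rw [Scheme.Opens.range_ι]
          rintro _ ⟨w, rfl⟩
          exact ⟨W, w, rfl, hW⟩
        let l : W.left ⟶ U.toScheme := IsOpenImmersion.lift U.ι c hc
        have hl : l ≫ U.ι = c := IsOpenImmersion.lift_fac U.ι c hc
        exact ⟨MorphismProperty.Over.homMk l hl⟩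
      · let S : Sieve W := ⟨fun W' _ => Nonempty (F.obj.obj (op W')), fun {W' W''} g ⟨s⟩ k => ⟨F.obj.map k.op s⟩⟩
        have hS : S ∈ X.smallEtaleTopology W := (Groth.L27.EtSite.mem_topology_iff S).2 fun w => by
          have hx : U.ι.base (a.left.base w) = W.hom.base w :=
            congrArg (fun m : W.left ⟶ X => m.base w) (MorphismProperty.Over.w a)
          have hm : W.hom.base w ∈ U := Eq.mp (congrArg (· ∈ (U : Set X)) hx) (a.left.base w).2
          obtain ⟨W₁, w₁, hw₁, ⟨s⟩⟩ := hm
          obtain ⟨z, hz1, -⟩ := Scheme.Pullback.exists_preimage_pullback (f := W.hom) (g := W₁.hom) w w₁ hw₁.symm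
          let c : W.left ⟶ X := W.hom
          let c₁ : W₁.left ⟶ X := W₁.hom
          haveI : Etale c := W.prop
          haveI : Etale c₁ := W₁.prop
          haveI : Etale (pullback.fst c c₁) := MorphismProperty.pullback_fst _ _ ‹Etale c₁›
          let W₂ : X.Etale := MorphismProperty.Over.mk ⊤ (pullback.fst c c₁ ≫ c)
            (inferInstanceAs (Etale (pullback.fst c c₁ ≫ c)))
          exact ⟨W₂, MorphismProperty.Over.homMk (pullback.fst c c₁) rfl, z,
            ⟨F.obj.map (MorphismProperty.Over.homMk (pullback.snd c c₁) pullback.condition.symm : W₂ ⟶ W₁).op s⟩, hz1⟩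
        have hfor : Presieve.IsSheafFor F.obj (S : Presieve W) := (isSheaf_iff_isSheaf_of_type _ _).1 F.property S hS
        exact ⟨hfor.amalgamate (fun W' g hg => hg.some) (fun _ _ _ _ _ _ _ _ _ _ => @Subsingleton.elim _ (hs _) _ _)⟩
    let e : F.obj ≅ yoneda.obj (EtDesc.ofOpen U) ⋙ uliftFunctor.{u + 1, u} :=
      NatIso.ofComponents (fun W => Equiv.toIso
        { toFun := fun s => ⟨((hrange W.unop).1 ⟨s⟩).some⟩
          invFun := fun a => ((hrange W.unop).2 ⟨a.down⟩).some
          left_inv := fun s => @Subsingleton.elim _ (hs _) _ _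
          right_inv := fun a => ULift.ext _ _ (hom_unique _ _) })
        (fun {W W'} k => ConcreteCategory.hom_ext (C := Type (u + 1)) _ _ fun s =>
          ULift.ext (α := (unop W' ⟶ EtDesc.ofOpen U)) _ _ (hom_unique _ _))
    exact ⟨U, ⟨sheafificationIso F ≪≫ (presheafToSheaf _ _).mapIso e⟩⟩

end Groth.Agent.S3896
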