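import Groth.Statements.S3897
import Groth.Agent.S3896
import Groth.Agent.L27.EffDesc.EtaleBC
import Mathlib.AlgebraicGeometry.Morphisms.Etale
import Mathlib.CategoryTheory.Limits.Shapes.BinaryProducts
import Mathlib.CategoryTheory.Limits.Types.Products

set_option backward.isDefEq.respectTransparency.types false
set_option linter.style.haveILetI false
set_option maxHeartbeats 1000000

set_option autoImplicit false
open CategoryTheory CategoryTheory.Limits AlgebraicGeometry Opposite
universe u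
open EtDesc

namespace Groth.Agent.S3897

open Groth.L27.EffDesc Groth.L27.EtSite

variable {X : Scheme.{u}} (U : X.Opens)

local notation "T" => EtDesc.repSh (EtDesc.ofOpen U)

attribute [local irreducible] Groth.L27.EffDesc.el

/-- An etale scheme lands in the open. -/
def Lands (V : X.Etale) : Prop := Set.range V.hom.base ⊆ Set.range U.ι.base

variable {U}

theorem lands_of_section {V : X.Etale} (s : (T).obj.obj (op V)) : Lands U V := by
  let P : X.Etaleᵒᵖ ⥤ Type (u + 1) := yoneda.obj (EtDesc.ofOpen U) ⋙ uliftFunctor.{u + 1, u}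
  rintro _ ⟨v, rfl⟩
  obtain ⟨W, g, w, hg, hw⟩ := (Groth.L27.EtSite.mem_topology_iff _).1
    (Presheaf.imageSieve_mem X.smallEtaleTopology (toSheafify X.smallEtaleTopology P) s) v
  obtain ⟨t, -⟩ := hg
  let a : W ⟶ EtDesc.ofOpen U := t.down
  refine ⟨a.left w, ?_⟩
  exact (congrArg (fun m : W.left ⟶ X => m w) (MorphismProperty.Over.w a)).trans
    ((congrArg (fun m : W.left ⟶ X => m w) (MorphismProperty.Over.w g)).symm.trans (congrArg V.hom hw))

theorem lands_shriek (W : U.toScheme.Etale) : Lands U (shriek U.ι W) := by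
  rintro _ ⟨w, rfl⟩
  exact ⟨W.hom w, rfl⟩

theorem nonempty_of_lands {V : X.Etale} (h : Lands U V) : Nonempty ((T).obj.obj (op V)) := by
  let c : V.left ⟶ X := V.hom
  let l : V.left ⟶ U.toScheme := IsOpenImmersion.lift U.ι c h
  have hl : l ≫ U.ι = c := IsOpenImmersion.lift_fac U.ι c h
  let a : V ⟶ EtDesc.ofOpen U := MorphismProperty.Over.homMk l hl
  exact ⟨(toSheafify X.smallEtaleTopology (yoneda.obj (EtDesc.ofOpen U) ⋙ uliftFunctor.{u + 1, u})).app (op V) ⟨a⟩⟩

theorem exists_shriek {V : X.Etale} (h : Lands U V) :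
    ∃ (W : U.toScheme.Etale) (a : shriek U.ι W ⟶ V), IsIso a.left ∧
      ∀ (W' : U.toScheme.Etale) (b : shriek U.ι W' ⟶ V), ∃ d : W' ⟶ W, shriekMap U.ι d ≫ a = b := by
  let c : V.left ⟶ X := V.hom
  let l : V.left ⟶ U.toScheme := IsOpenImmersion.lift U.ι c h
  have hl : l ≫ U.ι = c := IsOpenImmersion.lift_fac U.ι c h
  haveI : Etale c := V.prop
  haveI : Etale (l ≫ U.ι) := by rw [hl]; infer_instance
  haveI : Etale l := Etale.of_comp l U.ι
  let W : U.toScheme.Etale := MorphismProperty.Over.mk _ l ‹Etale l›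
  let a : shriek U.ι W ⟶ V := MorphismProperty.Over.homMk (𝟙 V.left)
    ((Category.id_comp _).trans hl.symm)
  refine ⟨W, a, inferInstanceAs (IsIso (𝟙 V.left)), fun W' b => ?_⟩
  have hw : b.left ≫ W.hom = W'.hom := (cancel_mono U.ι).1
    ((Category.assoc _ _ _).trans ((congrArg (b.left ≫ ·) hl).trans (MorphismProperty.Over.w b)))
  exact ⟨MorphismProperty.Over.homMk b.left hw,
    MorphismProperty.Over.Hom.ext (show b.left ≫ 𝟙 V.left = b.left from Category.comp_id _)⟩

theorem lands_of_elem {A : Over (T)} {V : X.Etale} (s : A.left.obj.obj (op V)) : Lands U V :=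
  lands_of_section (A.hom.hom.app (op V) s)

theorem app_restr {A B : EtDesc.Sh X} (φ : A ⟶ B) (W : U.toScheme.Etale) (t : A.obj.obj (op (shriek U.ι W))) :
    ((EtDesc.pullSh U.ι).map φ).hom.app (op W) (restr U.ι A W t) =
      restr U.ι B W (φ.hom.app (op (shriek U.ι W)) t) :=
  app_el U.ι A φ (𝟙 W.left) (id_w U.ι W) t

theorem hom_ext_shriek {A B : EtDesc.Sh X} {φ ψ : A ⟶ B}
    (hA : ∀ (V : X.Etale), A.obj.obj (op V) → Lands U V)
    (h : ∀ W t, φ.hom.app (op (shriek U.ι W)) t = ψ.hom.app (op (shriek U.ι W)) t) : φ = ψ := by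
  refine CategoryTheory.Sheaf.hom_ext (NatTrans.ext (funext fun ⟨V⟩ => ConcreteCategory.hom_ext _ _ fun s => ?_))
  obtain ⟨W, a, ha, -⟩ := exists_shriek (hA V s)
  haveI := ha
  refine (bijective_map_of_isIso_left B a).1 ?_
  exact (NatTrans.naturality_apply φ.hom a.op s).symm.trans ((h W _).trans (NatTrans.naturality_apply ψ.hom a.op s))

theorem full_hom {A B : Over (T)} (θ : (EtDesc.pullSh U.ι).obj A.left ⟶ (EtDesc.pullSh U.ι).obj B.left) :
    ∃ φ : A ⟶ B, (EtDesc.pullSh U.ι).map φ.left = θ := by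
  let Q : ∀ (V : X.Etale), A.left.obj.obj (op V) → B.left.obj.obj (op V) → Prop := fun V s t =>
    ∀ (W : U.toScheme.Etale) (b : shriek U.ι W ⟶ V),
      restr U.ι B.left W (B.left.obj.map b.op t) = θ.hom.app (op W) (restr U.ι A.left W (A.left.obj.map b.op s))
  have hu : ∀ (V : X.Etale) (s : A.left.obj.obj (op V)), ∃! t, Q V s t := fun V s => by
    obtain ⟨W, a, ha, hfac⟩ := exists_shriek (lands_of_elem s)
    haveI := ha
    obtain ⟨t₀, ht₀⟩ := restr_surjective U.ι B.left W (θ.hom.app (op W) (restr U.ι A.left W (A.left.obj.map a.op s)))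
    obtain ⟨t, rfl⟩ := (bijective_map_of_isIso_left B.left a).2 t₀
    refine ⟨t, fun W' b => ?_, fun t' ht' =>
      (bijective_map_of_isIso_left B.left a).1 (restr_injective U.ι B.left W ((ht' W a).trans ht₀.symm))⟩
    obtain ⟨d, rfl⟩ := hfac W' b
    rw [op_comp, Functor.map_comp_apply, Functor.map_comp_apply, ← restr_map, ← restr_map, ht₀]
    exact (NatTrans.naturality_apply θ.hom d.op _).symm
  choose f hf hf' using hu
  let φ₀ : A.left ⟶ B.left := ⟨{
    app := fun V => TypeCat.ofHom fun s => f V.unop s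
    naturality := fun ⟨V⟩ ⟨V'⟩ k => ConcreteCategory.hom_ext _ _ fun s => by
      change f V' (A.left.obj.map k s) = B.left.obj.map k (f V s)
      refine (hf' V' _ _ fun W b => ?_).symm
      have := hf V s W (b ≫ k.unop)
      rw [op_comp, Functor.map_comp_apply, Functor.map_comp_apply] at this
      exact this }⟩
  have hw : φ₀ ≫ B.hom = A.hom := CategoryTheory.Sheaf.hom_ext (NatTrans.ext (funext fun V =>
    ConcreteCategory.hom_ext _ _ fun s => @Subsingleton.elim _ (Groth.Agent.S3896.rep_subsingleton U V.unop) _ _))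
  refine ⟨Over.homMk φ₀ hw, CategoryTheory.Sheaf.hom_ext (NatTrans.ext (funext fun ⟨W⟩ =>
    ConcreteCategory.hom_ext _ _ fun x => ?_))⟩
  obtain ⟨t, rfl⟩ := restr_surjective U.ι A.left W x
  refine (app_restr φ₀ W t).trans ?_
  have := hf (shriek U.ι W) t W (𝟙 _)
  rw [op_id, Functor.map_id_apply, Functor.map_id_apply] at this
  exact this

theorem counit_restr (G : EtDesc.Sh U.toScheme) (W : U.toScheme.Etale)
    (t : ((EtDesc.pushSh U.ι).obj G).obj.obj (op (shriek U.ι W))) :
    ((EtDesc.adjSh U.ι).counit.app G).hom.app (op W) (restr U.ι ((EtDesc.pushSh U.ι).obj G) W t) =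
      G.obj.map (toBc U.ι (U := shriek U.ι W) (𝟙 W.left) (id_w U.ι W)).op t := by
  unfold restr el
  refine (NatTrans.naturality_apply ((EtDesc.adjSh U.ι).counit.app G).hom
    (toBc U.ι (U := shriek U.ι W) (𝟙 W.left) (id_w U.ι W)).op _).trans (congrArg _ ?_)
  exact congrArg (fun χ => χ.hom.app (op (shriek U.ι W)) t) ((EtDesc.adjSh U.ι).right_triangle_components G)

theorem isIso_toBc (W : U.toScheme.Etale) :
    IsIso (toBc U.ι (U := shriek U.ι W) (𝟙 W.left) (id_w U.ι W)).left := by
  refine ⟨⟨pullback.fst (shriek U.ι W).hom U.ι, toBc_fst U.ι _ _, pullback.hom_ext ?_ ?_⟩⟩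
  · exact (Category.assoc _ _ _).trans ((congrArg (_ ≫ ·) (toBc_fst U.ι _ _)).trans
      ((Category.comp_id _).trans (Category.id_comp _).symm))
  · refine (Category.assoc _ _ _).trans ((congrArg (_ ≫ ·) (pullback.lift_snd _ _ _)).trans
      (Eq.trans ?_ (Category.id_comp _).symm))
    exact (cancel_mono U.ι).1 ((Category.assoc _ _ _).trans pullback.condition)

theorem essSurj_obj (G : EtDesc.Sh U.toScheme) :
    ∃ A : Over (T), Nonempty ((EtDesc.pullSh U.ι).obj A.left ≅ G) := by
  let P := (EtDesc.pushSh U.ι).obj G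
  refine ⟨Over.mk (prod.snd : P ⨯ (T) ⟶ (T)), ?_⟩
  let χ : (EtDesc.pullSh U.ι).obj (P ⨯ (T)) ⟶ G :=
    (EtDesc.pullSh U.ι).map prod.fst ≫ (EtDesc.adjSh U.ι).counit.app G
  have hbij : ∀ W : U.toScheme.Etale, Function.Bijective (χ.hom.app (op W)) := fun W => by
    let E : EtDesc.Sh X ⥤ Type (u + 1) := sheafToPresheaf _ _ ⋙ (evaluation _ _).obj (op (shriek U.ι W))
    haveI : Subsingleton ((T).obj.obj (op (shriek U.ι W))) := Groth.Agent.S3896.rep_subsingleton U _
    obtain ⟨t₀⟩ := nonempty_of_lands (lands_shriek W)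
    haveI : PreservesLimit (pair P (T)) E := inferInstance
    have hfst : Function.Bijective (E.map (prod.fst : P ⨯ (T) ⟶ P)) := by
      rw [← prodComparison_fst E, ← Types.binaryProductIso_hom_comp_fst, ← Category.assoc,
        CategoryTheory.types_comp]
      refine Function.Bijective.comp ⟨fun x y h => Prod.ext h (@Subsingleton.elim _ (Groth.Agent.S3896.rep_subsingleton U (shriek U.ι W)) _ _), fun x => ⟨(x, t₀), rfl⟩⟩
        (ConcreteCategory.bijective_of_isIso (prodComparison E P (T) ≫ (Types.binaryProductIso _ _).hom))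
    haveI := isIso_toBc W
    have hkey : ∀ t, χ.hom.app (op W) (restr U.ι (P ⨯ (T)) W t) =
        G.obj.map (toBc U.ι (U := shriek U.ι W) (𝟙 W.left) (id_w U.ι W)).op
          ((prod.fst : P ⨯ (T) ⟶ P).hom.app (op (shriek U.ι W)) t) := fun t =>
      (congrArg (((EtDesc.adjSh U.ι).counit.app G).hom.app (op W)) (app_restr prod.fst W t)).trans (counit_restr G W _)
    have hb : Function.Bijective fun t => χ.hom.app (op W) (restr U.ι (P ⨯ (T)) W t) := by
      simp_rw [hkey]
      exact (bijective_map_of_isIso_left G _).comp hfst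
    exact (Function.Bijective.of_comp_iff _ (bijective_restr U.ι (P ⨯ (T)) W)).1 hb
  haveI : ∀ W, IsIso (((sheafToPresheaf _ _).map χ).app W) := fun W =>
    (CategoryTheory.isIso_iff_bijective _).2 (hbij W.unop)
  haveI : IsIso ((sheafToPresheaf _ _).map χ) := NatIso.isIso_of_isIso_app _
  haveI : IsIso χ := isIso_of_reflects_iso _ (sheafToPresheaf _ _)
  exact ⟨asIso χ⟩


/-- Let U be a Zariski open of the scheme X, with open immersion j : U -> X and attached subterminal
etale sheaf of sets U~ on X. Then the functor from sheaves of sets on X over U~ to sheaves of sets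
on U, (F -> U~) ↦ j^* F, is an equivalence of categories. -/
theorem result (X : Scheme.{u}) (U : X.Opens) :
    (Over.forget (EtDesc.repSh (EtDesc.ofOpen U)) ⋙ EtDesc.pullSh U.ι).IsEquivalence := by
  refine { faithful := ⟨fun {A B f g} h => ?_⟩, full := ⟨fun {A B} θ => full_hom θ⟩, essSurj := ⟨fun G => ?_⟩ }
  · refine Over.OverMorphism.ext (hom_ext_shriek (fun V s => lands_of_elem s) fun W t => ?_)
    refine restr_injective U.ι B.left W ?_
    exact (app_restr f.left W t).symm.trans ((congrArg (fun m => m.hom.app (op W) (restr U.ι A.left W t)) h).trans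
      (app_restr g.left W t))
  · obtain ⟨A, ⟨e⟩⟩ := essSurj_obj G
    exact ⟨A, ⟨e⟩⟩

end Groth.Agent.S3897
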