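import Groth.Statements.S3956
import Groth.Agent.L14.Chev.Cell.Generated

set_option autoImplicit false
set_option backward.isDefEq.respectTransparency.types false
open CategoryTheory MonoidalCategory CartesianMonoidalCategory MonObj GrpObj AlgebraicGeometry
universe u
open RedSub Groth.L14.Chev Groth.L14.Chev.Cell Groth.L14.RankOne Groth.L14.Chart Groth.L25 CategoryTheory.Limits

namespace Groth.Agent.S3956

/-- Let A be a local ring, S = Spec A, and G a split reductive S-group with a pinning D (splitting plus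
simple roots). Then the group G(S) of sections is generated by T(S) together with the sections of
the root groups u_a(G_a(S)) for a a simple root or the negative of a simple root. -/
theorem result {A : Type u} [CommRing A] [IsLocalRing A]
    {G : Over (Spec (CommRingCat.of A))} [GrpObj G] (D : Red.Pinning G) :
    Subgroup.closure
        ({g : 𝟙_ (Over (Spec (CommRingCat.of A))) ⟶ G | ∃ t : 𝟙_ _ ⟶ D.T, g = t ≫ D.i} ∪
          {g | ∃ a : D.idx, (a ∈ D.base.support ∨ D.P.reflectionPerm a a ∈ D.base.support) ∧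
            ∃ x : 𝟙_ _ ⟶ Red.Ga (Spec (CommRingCat.of A)), g = x ≫ D.u a}) = ⊤ := by
  classical
  haveI : Finite D.idx := Finite.of_fintype _
  let j : Spec (CommRingCat.of A) ⟶ Spec (CommRingCat.of A) := 𝟙 _
  obtain ⟨e⟩ : Nonempty (𝟙_ (Over (Spec (CommRingCat.of A))) ≅ Sp j A) := ⟨Over.isoMk (Iso.refl _) (by
    show 𝟙 _ ≫ Spec.map (CommRingCat.ofHom (algebraMap A A)) ≫ 𝟙 _ = 𝟙 _
    rw [Algebra.algebraMap_self, CommRingCat.ofHom_id, Spec.map_id, Category.comp_id, Category.comp_id])⟩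
  obtain ⟨H, hHdef⟩ : ∃ H, H = Subgroup.closure
    ({g : 𝟙_ (Over (Spec (CommRingCat.of A))) ⟶ G | ∃ t : 𝟙_ _ ⟶ D.T, g = t ≫ D.i} ∪
      {g | ∃ a : D.idx, (a ∈ D.base.support ∨ D.P.reflectionPerm a a ∈ D.base.support) ∧
        ∃ x : 𝟙_ _ ⟶ Red.Ga (Spec (CommRingCat.of A)), g = x ≫ D.u a}) :=
    ⟨_, rfl⟩
  let φ : (Sp j A ⟶ G) →* (𝟙_ (Over (Spec (CommRingCat.of A))) ⟶ G) :=
    { toFun := fun p => e.hom ≫ p
      map_one' := MonObj.comp_one _
      map_mul' := fun p q => MonObj.comp_mul _ _ _ }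
  have hφ : ∀ p, φ p = e.hom ≫ p := fun _ => rfl
  refine eq_top_iff.2 fun g _ => ?_
  obtain ⟨n, eneg, hneg⟩ := exists_enum (D := D.toSplitRed) (RedSub.negRoots D.P D.base)
  obtain ⟨m, epos, hpos⟩ := exists_enum (D := D.toSplitRed) (RedSub.posRoots D.P D.base)
  choose nr hnr using D.refl
  obtain ⟨w, hw⟩ := exists_translate hneg hpos (nr := nr) hnr (g.left (IsLocalRing.closedPoint A))
  let T := (toUnit _ ≫ (w.map nr).prod) * RedSub.cellMap D.toSplitRed eneg epos
  haveI : IsOpenImmersion T.left := isOpenImmersion_translate hneg hpos _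
  have hr : Set.range g.left ⊆ Set.range T.left := by
    rintro _ ⟨p, rfl⟩
    exact ((IsLocalRing.specializes_closedPoint (R := A) p).map g.left.continuous).mem_open
      T.left.isOpenEmbedding.isOpen_range hw
  let t : 𝟙_ (Over (Spec (CommRingCat.of A))) ⟶ cellSpace D.toSplitRed n m :=
    Over.homMk (IsOpenImmersion.lift T.left g.left hr) (by
      rw [← Over.w T, IsOpenImmersion.lift_fac_assoc, Over.w])
  have ht : t ≫ T = g := Over.OverMorphism.ext (IsOpenImmersion.lift_fac _ _ _)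
  have hHT : ∀ x : 𝟙_ (Over (Spec (CommRingCat.of A))) ⟶ D.T, x ≫ D.i ∈ H := fun x =>
    hHdef ▸ Subgroup.subset_closure (Or.inl ⟨x, rfl⟩)
  have hHU : ∀ a : D.idx, (a ∈ D.base.support ∨ D.P.reflectionPerm a a ∈ D.base.support) →
      ∀ x : 𝟙_ (Over (Spec (CommRingCat.of A))) ⟶ Red.Ga _, x ≫ D.u a ∈ H := fun a ha x =>
    hHdef ▸ Subgroup.subset_closure (Or.inr ⟨a, ha, x, rfl⟩)
  have hneg2 : ∀ a : D.idx, D.P.reflectionPerm (D.P.reflectionPerm a a) (D.P.reflectionPerm a a) = a := fun a =>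
    D.P.root.injective (by rw [root_neg', root_neg', neg_neg])
  have key : (e.inv ≫ t) ≫ T ∈ H.comap φ := translate_mem (j := j) (C := A) D.base (H.comap φ)
    (fun χ => by
      rw [Subgroup.mem_comap, hφ, ← Category.assoc]
      exact hHT _)
    (fun a ha x => by
      rw [Subgroup.mem_comap, Subgroup.mem_comap, hφ, hφ, ← Category.assoc, ← Category.assoc]
      exact ⟨hHU a (Or.inl ha) _, hHU _ (Or.inr (by rw [hneg2]; exact ha)) _⟩)
    (fun a => actsBy_of_refl (hnr a)) w hneg.1 hpos.1 (e.inv ≫ t)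
  rw [Category.assoc, ht] at key
  rw [← hHdef]
  rw [Subgroup.mem_comap, hφ] at key
  have h2 : e.hom ≫ e.inv ≫ g ∈ H := key
  rwa [Iso.hom_inv_id_assoc] at h2

end Groth.Agent.S3956
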