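import Groth.Statements.S3957
import Groth.Agent.L14.Coroot.Gen
import Groth.Agent.S3956

set_option autoImplicit false
set_option backward.isDefEq.respectTransparency.types false
set_option linter.style.haveILetI false
open CategoryTheory MonoidalCategory CartesianMonoidalCategory MonObj GrpObj AlgebraicGeometry
universe u
open RedSub

open Groth.L14.RankOne Groth.L25 Groth.L14.Chart Groth.L14.Chev.Cell
namespace Groth.Agent.S3957

/-- Let A be a local ring, S = Spec A, and G a split reductive S-group with a pinning D which is simply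
connected (the coroots span the coweight lattice). Then G(S) is generated by the sections of the
root groups u_a(G_a(S)) for a a simple root or the negative of a simple root. -/
theorem result {A : Type u} [CommRing A] [IsLocalRing A]
    {G : Over (Spec (CommRingCat.of A))} [GrpObj G] (D : Red.Pinning G)
    (hsc : Submodule.span ℤ (Set.range D.P.coroot) = ⊤) :
    Subgroup.closure
        {g : 𝟙_ (Over (Spec (CommRingCat.of A))) ⟶ G | ∃ a : D.idx, (a ∈ D.base.support ∨ D.P.reflectionPerm a a ∈ D.base.support) ∧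
            ∃ x : 𝟙_ _ ⟶ Red.Ga (Spec (CommRingCat.of A)), g = x ≫ D.u a} = ⊤ := by
  obtain ⟨H, hHdef⟩ : ∃ H, H = Subgroup.closure
      {g : 𝟙_ (Over (Spec (CommRingCat.of A))) ⟶ G | ∃ a : D.idx, (a ∈ D.base.support ∨ D.P.reflectionPerm a a ∈ D.base.support) ∧
          ∃ x : 𝟙_ _ ⟶ Red.Ga (Spec (CommRingCat.of A)), g = x ≫ D.u a} :=
    ⟨_, rfl⟩
  rw [← hHdef, eq_top_iff, ← Groth.Agent.S3956.result D, Subgroup.closure_le]
  have hneg2 : ∀ a : D.idx, D.P.reflectionPerm (D.P.reflectionPerm a a) (D.P.reflectionPerm a a) = a := fun a =>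
    D.P.root.injective (by rw [root_neg', root_neg', neg_neg])
  have hU : ∀ a : D.idx, (a ∈ D.base.support ∨ D.P.reflectionPerm a a ∈ D.base.support) →
      ∀ x : 𝟙_ (Over (Spec (CommRingCat.of A))) ⟶ Red.Ga _, x ≫ D.u a ∈ H := fun a ha x =>
    hHdef ▸ Subgroup.subset_closure ⟨a, ha, x, rfl⟩
  rintro g (⟨t, rfl⟩ | ⟨a, ha, x, rfl⟩)
  · exact Groth.L14.Coroot.torus_mem D.toSplitRed D.base hsc H
      (fun a ha x => ⟨hU a (Or.inl ha) x, hU _ (Or.inr (by rw [hneg2]; exact ha)) x⟩) t
  · exact hU a ha x

end Groth.Agent.S3957
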