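import Groth.Statements.S3961
import Groth.Agent.L15.TypeRConj.Main
-- import your own Groth.Agent.* helpers here

set_option autoImplicit false
open CategoryTheory MonoidalCategory CartesianMonoidalCategory MonObj GrpObj AlgebraicGeometry
universe u
open RedSub

namespace Groth.Agent.S3961

/-- (ii) implies (i), for a reductive S-group G. Let H, H' be subgroups of G of type (R) such that for
every point s of S the geometric fibres of H and H' at s are conjugate under a point of the
geometric fibre of G. Then H and H' are conjugate locally for the etale topology: every point of S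
is in the image of an etale morphism U ⟶ S over which some U-point of G conjugates H_U onto H'_U. -/
theorem result {S : Scheme.{u}} {G H H' : Over S} [GrpObj G] [GrpObj H] [GrpObj H']
    (hG : Red.IsReductive G) (i : H ⟶ G) (i' : H' ⟶ G) (hH : RedSub.IsTypeR i) (hH' : RedSub.IsTypeR i')
    (hconj : ∀ s : S, ∃ g : 𝟙_ _ ⟶ Red.geomFibre s G,
      RedSub.ConjEq ((Over.pullback (Red.geomPt s)).map i) ((Over.pullback (Red.geomPt s)).map i') g)
    (s : S) :
    ∃ (U : Scheme.{u}) (f : U ⟶ S) (_ : Etale f), s ∈ Set.range f.base ∧
      ∃ g : 𝟙_ _ ⟶ Red.bc f G, RedSub.ConjEq ((Over.pullback f).map i) ((Over.pullback f).map i') g := by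
  exact Groth.L15.TypeRConj.conjLoc_typeR hG i i' hH hH' hconj s

end Groth.Agent.S3961
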