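import Groth.Statements.S3963
import Groth.Agent.L14.BorelLoc.Conjugacy

set_option autoImplicit false
set_option backward.isDefEq.respectTransparency.types false
set_option linter.style.haveILetI false
open CategoryTheory MonoidalCategory CartesianMonoidalCategory MonObj GrpObj AlgebraicGeometry
universe u
open RedSub

namespace Groth.Agent.S3963

/-- Last assertion, for a reductive S-group G. Two Borel subgroups B, B' of G (in the sense of the
source) are conjugate locally for the etale topology on S. -/
theorem result {S : Scheme.{u}} {G B B' : Over S} [GrpObj G] [GrpObj B] [GrpObj B']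
    (hG : Red.IsReductive G) (i : B ⟶ G) (i' : B' ⟶ G) (hB : RedSub.IsBorelSub i) (hB' : RedSub.IsBorelSub i') (s : S) :
    ∃ (U : Scheme.{u}) (f : U ⟶ S) (_ : Etale f), s ∈ Set.range f.base ∧
      ∃ g : 𝟙_ _ ⟶ Red.bc f G, RedSub.ConjEq ((Over.pullback f).map i) ((Over.pullback f).map i') g := by
  have h : ∀ {X : Over S} [GrpObj X] (j : X ⟶ G), RedSub.IsBorelSub j → Red.IsBorel j := fun j hj =>
    ⟨hj.1.1.1, (Groth.Agent.S3962.result hG j hj).1, hj.1.2.1, hj.2⟩
  exact Groth.L14.BorelLoc.conjLoc_borel hG (h i hB) (h i' hB') s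

end Groth.Agent.S3963
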