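import Groth.Statements.S3965
import Groth.Agent.L24.MSub.ToriFibres
import Groth.Agent.L08.TorusWeights.Reductive

set_option autoImplicit false
set_option backward.isDefEq.respectTransparency.types false
open CategoryTheory MonoidalCategory CartesianMonoidalCategory MonObj GrpObj AlgebraicGeometry
universe u
open RedSub

namespace Groth.Agent.S3965

/-- Let G be a reductive S-group. The functor S' ↦ {maximal tori of G_{S'}} is representable: there are
an S-scheme M and a maximal torus of G_M such that every maximal torus of every base change G_{S'}
is its pullback along a unique S-morphism S' ⟶ M (same points in G). Moreover M is smooth and affine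
over S with integral geometric fibres. -/
theorem result {S : Scheme.{u}} (G : Over S) [GrpObj G] (hG : Red.IsReductive G) :
    ∃ (M : Over S) (H : Over M.left) (_ : GrpObj H) (h : H ⟶ Red.bc M.hom G),
      RedSub.RepresentsTor G M H h ∧ Smooth M.hom ∧ IsAffineHom M.hom ∧
        ∀ s : S, IsIntegral (Red.geomFibre s M).left := by
  haveI := hG.1
  haveI := hG.2.1
  have hr := Groth.L08.TorusWeights.redRankLocallyConstant_of_isReductive hG
  obtain ⟨R⟩ := Groth.L24.MSub.nonempty_mrep G
  obtain ⟨hg, hj⟩ := R.exists_grp
  letI := hg
  haveI := hj
  refine ⟨R.torT, R.torK, inferInstance, R.torJ, R.representsTor hr, R.smooth_torT,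
    R.isAffineHom_torT (Groth.L08.Borel.hasMaxTorusEtaleLocally hr), fun s => ?_⟩
  haveI := (hG.2.2 s).2.2.1
  exact R.isIntegral_fibre hr s

end Groth.Agent.S3965
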