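import Groth.Statements.S3967
import Groth.Agent.L24.MSub.ToriQuot
import Groth.Agent.L08.TorusWeights.Reductive

set_option autoImplicit false
set_option backward.isDefEq.respectTransparency.types false
open CategoryTheory MonoidalCategory CartesianMonoidalCategory MonObj GrpObj AlgebraicGeometry
universe u
open RedSub

namespace Groth.Agent.S3967

/-- Let G be a reductive S-group, (M, h) the scheme of maximal tori of G with its universal maximal
torus, T a maximal torus of G and N ⟶ G its normaliser. Then the S-morphism q : G ⟶ M classifying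
the family of conjugates int(g)T presents M as the fppf quotient G/N. -/
theorem result {S : Scheme.{u}} {G T N : Over S} [GrpObj G] [GrpObj T] [GrpObj N]
    (hG : Red.IsReductive G) (M : Over S) (H : Over M.left) [GrpObj H] (h : H ⟶ Red.bc M.hom G)
    (hM : RedSub.RepresentsTor G M H h) (i : T ⟶ G) (hT : Red.IsMaximalTorus i) (n : N ⟶ G)
    (hN : Red.IsNormalizerOf i n) :
    ∃ q : G ⟶ M, RedSub.SamePoints G G.hom (RedSub.conjFamily i) M h q.left ∧ RedSub.IsQuotient n q := by
  haveI := hG.1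
  haveI := hG.2.1
  obtain ⟨R⟩ := Groth.L24.MSub.nonempty_mrep G
  obtain ⟨hg, hj⟩ := R.exists_grp
  letI := hg
  haveI := hj
  have hr := Groth.L08.TorusWeights.redRankLocallyConstant_of_isReductive hG
  obtain ⟨v, hv⟩ := R.exists_torus_map hr hM.1
  obtain ⟨w', ⟨hw', hws'⟩, -⟩ := hM.2 R.torT.left R.torT.hom R.torK R.torJ R.isMaximalTorus_torJ
  let w : R.torT ⟶ M := Over.homMk w' hw'
  have hws := (Groth.L24.MSub.samePoints_iff R.torT.hom R.torJ h w).1 hws'
  have h1 : w ≫ v = 𝟙 R.torT := R.torT_ext _ _ fun Y t x => by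
    rw [Category.comp_id, ← Category.assoc, ← hv]
    exact (hws Y t x).symm
  have h2 : v ≫ w = 𝟙 M := by
    obtain ⟨g, -, hgu⟩ := hM.2 M.left M.hom H h hM.1
    have e1 := hgu (v ≫ w).left ⟨Over.w (v ≫ w),
      (Groth.L24.MSub.samePoints_iff M.hom h h (v ≫ w)).2 fun Y t x => by
        rw [← Category.assoc]
        exact (hv Y t x).trans (hws Y (t ≫ v) x)⟩
    have e2 := hgu (𝟙 M : M ⟶ M).left ⟨Over.w (𝟙 M),
      (Groth.L24.MSub.samePoints_iff M.hom h h (𝟙 M)).2 fun Y t x => by
        erw [Category.comp_id]⟩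
    exact Over.OverMorphism.ext (e1.trans e2.symm)
  obtain ⟨q₀, hq₀, hqs⟩ := R.exists_quotient_map hT hN
  let e : R.torT ≅ M := ⟨w, v, h1, h2⟩
  haveI : IsIso w.left := ((Over.forget S).mapIso e).isIso_hom
  haveI := hq₀.1; haveI := hq₀.2.1; haveI := hq₀.2.2.1
  refine ⟨q₀ ≫ w, ?_, inferInstanceAs (Surjective (q₀.left ≫ w.left)), inferInstanceAs (Flat (q₀.left ≫ w.left)),
    inferInstanceAs (LocallyOfFinitePresentation (q₀.left ≫ w.left)),
    hq₀.2.2.2.of_iso (Iso.refl _) (Iso.refl _) (Iso.refl _) e (by simp) (by simp) (by simp [e]) (by simp [e])⟩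
  exact (Groth.L24.MSub.samePoints_iff G.hom (RedSub.conjFamily i) h (q₀ ≫ w)).2 fun Y t x => by
    rw [← Category.assoc]
    exact (hqs Y t x).trans (hws Y (t ≫ q₀) x)

end Groth.Agent.S3967
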