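import Groth.Statements.S3992
import Groth.Agent.L08.UnipMult
-- import your own Groth.Agent.* helpers here

set_option autoImplicit false
set_option backward.isDefEq.respectTransparency.types false
set_option linter.style.haveILetI false
open CategoryTheory MonoidalCategory CartesianMonoidalCategory MonObj GrpObj AlgebraicGeometry
universe u
open RedSub

namespace Groth.Agent.S3992

/-- Let G be a reductive S-group, T a maximal torus of G and U a sub-group-scheme of G, smooth over S,
whose geometric fibres are connected and unipotent (contain no non-trivial subtorus), and which is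
normalised by T. Then U x_G T is trivial: a point of U whose image in G lies in T is the unit. (The
source does not require connected fibres; with the prelude's surrogate for unipotency, connectedness
is needed for the hypothesis to mean unipotent.) -/
theorem result {S : Scheme.{u}} {G T U : Over S} [GrpObj G]
    [GrpObj T] [GrpObj U] (hG : Red.IsReductive G) (i : T ⟶ G) (hT : Red.IsMaximalTorus i) (j : U ⟶ G)
    (hU : RedSub.IsSubgrp j) [Smooth U.hom]
    (hfib : ∀ s : S, ConnectedSpace ↥(Red.geomFibre s U).left ∧
      Red.HasNoSubtorus (AlgebraicClosure (S.residueField s)) (Red.geomFibre s U))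
    (hnorm : ∀ (X : Over S) (x : X ⟶ T) (y : X ⟶ U), ∃ y' : X ⟶ U, (x ≫ i) * (y ≫ j) * (x ≫ i)⁻¹ = y' ≫ j)
    (X : Over S) (y : X ⟶ U) (x : X ⟶ T) (h : y ≫ j = x ≫ i) : y = 1 := by
  haveI := hU.1; haveI := hU.2; haveI := hT.1; haveI := hT.2.1
  haveI := hG.2.1
  haveI : Smooth T.hom := Groth.L08.Borel.smooth_of_isTorus hT.2.2.1
  haveI : Mono j := Over.mono_of_mono_left j
  let P := Limits.pullback j i
  let pU : P ⟶ U := Limits.pullback.fst j i
  let pT : P ⟶ T := Limits.pullback.snd j i
  have sq : IsPullback pU pT j i := IsPullback.of_hasPullback j i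
  let e : 𝟙_ (Over S) ⟶ P := sq.lift η[U] η[T] (by rw [IsMonHom.one_hom, IsMonHom.one_hom])
  haveI : LocallyOfFiniteType pT.left := MorphismProperty.of_isPullback (P := @LocallyOfFiniteType)
    (sq.map (Over.forget _)) (by
      haveI : LocallyOfFiniteType (j.left ≫ G.hom) := by rw [Over.w j]; infer_instance
      exact locallyOfFiniteType_of_comp j.left G.hom)
  haveI : LocallyOfFiniteType P.hom := by rw [← Over.w pT]; infer_instance
  haveI : Smooth (𝟙_ (Over S)).hom := inferInstanceAs (Smooth (𝟙 S))
  haveI : IsSplitMono e := IsSplitMono.mk' ⟨toUnit P, toUnit_unique _ _⟩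
  haveI : IsIso e := by
    refine Groth.L08.Borel.isIso_of_geomFibres e fun s => ?_
    let F := Over.pullback (Red.geomPt s)
    haveI : IsMonHom (F.map i) := Groth.L25.MonoClosed.isMonHom_pullbackMap _ _
    haveI : IsMonHom (F.map j) := Groth.L25.MonoClosed.isMonHom_pullbackMap _ _
    haveI : Mono (F.map i) := Functor.map_mono _ _
    haveI : Mono (F.map j) := Functor.map_mono _ _
    haveI : IsAffine (Red.geomFibre s G).left := (hG.2.2 s).1
    haveI : Smooth (Red.geomFibre s U).hom := MorphismProperty.pullback_snd _ _ ‹Smooth U.hom›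
    haveI : LocallyOfFiniteType (Red.geomFibre s G).hom :=
      MorphismProperty.pullback_snd _ _ (inferInstance : LocallyOfFiniteType G.hom)
    haveI := (hfib s).1
    have sq' := sq.map F
    have h1 : F.map pU = (1 : F.obj P ⟶ Red.geomFibre s U) :=
      Groth.L08.UnipMult.inter_eq_one (hfib s).2 (Groth.L25.Locus.isTorus_bc hT.2.2.1 (Red.geomPt s))
        (F.map i) (F.map j) (F.map pU) (F.map pT) sq'.w
    have h2 : F.map pT = (1 : F.obj P ⟶ Red.geomFibre s T) := by
      refine (cancel_mono (F.map i)).1 ?_
      rw [← sq'.w, h1]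
      exact (MonObj.one_comp _).trans (MonObj.one_comp _).symm
    refine ⟨F.map (toUnit P), by rw [← F.map_comp, toUnit_unique (e ≫ toUnit P) (𝟙 _), F.map_id], ?_⟩
    refine sq'.hom_ext ?_ ?_
    · rw [Category.assoc, ← F.map_comp, sq.lift_fst, ← F.map_comp, Category.id_comp, h1, ← Hom.one_def]
      exact map_one F.homMonoidHom
    · rw [Category.assoc, ← F.map_comp, sq.lift_snd, ← F.map_comp, Category.id_comp, h2, ← Hom.one_def]
      exact map_one F.homMonoidHom
  obtain ⟨l, hl, -⟩ := sq.exists_lift y x h
  rw [← hl, show l = toUnit X ≫ e by rw [← cancel_mono (inv e), Category.assoc, IsIso.hom_inv_id, Category.comp_id]; exact toUnit_unique _ _,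
    Category.assoc, sq.lift_fst]
  exact Hom.one_def.symm

end Groth.Agent.S3992
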