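import Groth.Statements.S3993
import Groth.Agent.L28.Nearby.Smooth

set_option autoImplicit false
universe u
open CategoryTheory CategoryTheory.Limits AlgebraicGeometry
open VanCyc

set_option linter.style.haveILetI false
set_option backward.isDefEq.respectTransparency.types false

namespace Groth.Agent.S3993

open Groth.L27

/-- Let R be a strictly henselian discrete valuation ring with fraction field K, Ω a separable closure
of K, f : X -> Spec R a morphism, N an integer invertible in R, F a locally constant abelian sheaf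
on X killed by N, and x a point of the special fibre X_s at which f is smooth (x lies in an open U
of X with U -> Spec R smooth). Then at every geometric point ξ of X_s centred at x the vanishing
cycles of F are zero: the canonical map from (i^* F)_ξ to the stalk of the degree-zero nearby cycles
i^* jbar_* jbar^* F is an isomorphism, and the stalk at ξ of i^* R^q jbar_* (jbar^* F) vanishes for
every q ≥ 1 (i : X_s -> X and jbar : X ×_{Spec R} Spec Ω -> X the two fibre inclusions). -/
theorem result (R K Ω : Type u) [CommRing R] [IsDomain R] [IsDiscreteValuationRing R]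
    (hR : EtCoh.IsStrictlyHenselianLocalRing R) [Field K] [Algebra R K] [IsFractionRing R K] [Field Ω] [Algebra K Ω]
    [IsSepClosure K Ω] [Algebra R Ω] [IsScalarTower R K Ω]
    {X : Scheme.{u}} (f : X ⟶ Spec (CommRingCat.of R))
    (U : X.Opens) (hU : Smooth (U.ι ≫ f)) (x : ↥(VanCyc.spFib R f)) (hx : (VanCyc.icl R f).base x ∈ U)
    {Ω' : Type u} [Field Ω'] [IsSepClosed Ω']
    (ξ : Spec (CommRingCat.of Ω') ⟶ VanCyc.spFib R f) (hξ : ξ.base (IsLocalRing.closedPoint Ω') = x) (N : ℕ) (hN : IsUnit (N : R))
    (F : EtCoh.Ab X) (hF : EtRest.IsLocallyConstant F) (hFN : EtCoh.KilledBy N F) :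
    IsIso ((EtCoh.stalk ξ).map (VanCyc.psi0Unit R Ω f F)) ∧
      ∀ q : ℕ, 1 ≤ q → IsZero ((EtCoh.stalk ξ).obj (VanCyc.psi R Ω f q ((EtCoh.pull (VanCyc.jA R f Ω)).obj F))) := by
  haveI : HenselianLocalRing R := hR.1
  haveI : IsSepClosed (IsLocalRing.ResidueField R) := hR.2
  haveI : IsSepClosed Ω := IsSepClosure.sep_closed K
  haveI : Smooth (U.ι ≫ f) := hU
  let y := (VanCyc.icl R f).base x
  have hy : f.base y = IsLocalRing.closedPoint R := by
    show f ((pullback.fst f (VanCyc.toSk R)) x) = _
    rw [← Scheme.Hom.comp_apply, pullback.condition, Scheme.Hom.comp_apply]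
    refine Eq.trans (congrArg _ (Subsingleton.elim _ (IsLocalRing.closedPoint (IsLocalRing.ResidueField R)))) ?_
    exact IsLocalRing.comap_closedPoint (IsLocalRing.residue R)
  have hFN' : N • 𝟙 F = 0 := Sheaf.hom_ext (NatTrans.ext (funext fun U => ConcreteCategory.hom_ext _ _ fun s =>
    (Groth.L27.Colim.hom_nsmul_app (𝟙 F) N U.unop s).trans (hFN U.unop s)))
  have hξ' : (ξ ≫ VanCyc.icl R f).base default = y := by
    show (ξ ≫ VanCyc.icl R f) default = _
    rw [Scheme.Hom.comp_apply, Subsingleton.elim (α := Spec (CommRingCat.of Ω')) default (IsLocalRing.closedPoint Ω')]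
    exact congrArg _ hξ
  obtain ⟨h1, h2⟩ := Groth.L28.Nearby.vanishing_smooth_point R Ω f y hy U hx N hN F hF hFN' (ξ ≫ VanCyc.icl R f) hξ'
  refine ⟨?_, fun q hq => (h2 q hq).of_iso ((EtSite.stalkPullIso (VanCyc.icl R f) ξ).app _)⟩
  exact (NatIso.isIso_map_iff (EtSite.stalkPullIso (VanCyc.icl R f) ξ) _).2 h1

end Groth.Agent.S3993
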