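import Groth.Statements.S4005
import Groth.Agent.L28.Cone.Contract
import Groth.Agent.L28.CurveCd.Points

set_option autoImplicit false
universe u
open CategoryTheory CategoryTheory.Limits AlgebraicGeometry
open VanCyc


set_option linter.style.haveILetI false
set_option backward.isDefEq.respectTransparency.types false

namespace Groth.Agent.S4005

/-- Let k be an algebraically closed field, Y ⊂ P^r a projective variety given by a homogeneous prime
ideal I of k[x_0, …, x_r] (spanned by homogeneous polynomials of positive degree), X = Spec k[x_0,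
…, x_r]/I its affine cone with vertex 0 (the k-point ε killing all x_i), and N an integer nonzero in
k. Then restriction to the vertex H^0(X, Z/N) -> H^0(0, Z/N) is bijective and H^i(X, Z/N) = 0 for
all i ≥ 1. Coefficients are Z/N with N nonzero in k. -/
theorem result (k : Type u) [Field k] [IsAlgClosed k] (r : ℕ)
    (I : Ideal (MvPolynomial (Fin (r + 1)) k)) (hI : I.IsPrime)
    (hIh : ∃ T : Set (MvPolynomial (Fin (r + 1)) k), I = Ideal.span T ∧
      ∀ p ∈ T, ∃ d : ℕ, 1 ≤ d ∧ MvPolynomial.IsHomogeneous p d)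
    (ε : (MvPolynomial (Fin (r + 1)) k ⧸ I) →ₐ[k] k) (hε : ∀ i, ε (Ideal.Quotient.mk I (MvPolynomial.X i)) = 0)
    (N : ℕ) (hN : (N : k) ≠ 0)
    [PreservesFiniteLimits (EtCoh.pull (Spec.map (CommRingCat.ofHom ε.toRingHom)))] :
    Function.Bijective (EtCore.Hpull (Spec.map (CommRingCat.ofHom ε.toRingHom))
        (EtCoh.const (Spec (CommRingCat.of (MvPolynomial (Fin (r + 1)) k ⧸ I))) (ZMod N)) 0) ∧
      ∀ i : ℕ, 1 ≤ i →
        Subsingleton (EtCoh.H (Spec (CommRingCat.of (MvPolynomial (Fin (r + 1)) k ⧸ I)))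
          (EtCoh.const (Spec (CommRingCat.of (MvPolynomial (Fin (r + 1)) k ⧸ I))) (ZMod N)) i) := by
  obtain ⟨T, hT, hTh⟩ := hIh
  obtain ⟨h, h1, h0⟩ := Groth.L28.Cone.exists_contraction T hT (fun p hp => (hTh p hp).imp fun _ hd => hd.2)
    ε.toRingHom (fun c => ε.commutes c) hε
  have hb : ∀ q, Function.Bijective (EtCore.Hpull (Spec.map (CommRingCat.ofHom ε.toRingHom))
      (EtCoh.const (Spec (CommRingCat.of (MvPolynomial (Fin (r + 1)) k ⧸ I))) (ZMod N)) q) := fun q =>
    Groth.L28.Cone.bijective_Hpull_point ε.toRingHom ε.commutes h h1 h0 hN q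
  refine ⟨hb 0, fun i hi => ?_⟩
  obtain ⟨j, rfl⟩ : ∃ j, i = j + 1 := ⟨i - 1, by omega⟩
  haveI := Groth.L28.CurveCd.subsingleton_H_sepClosed k
    ((EtCoh.pull (Spec.map (CommRingCat.ofHom ε.toRingHom))).obj
      (EtCoh.const (Spec (CommRingCat.of (MvPolynomial (Fin (r + 1)) k ⧸ I))) (ZMod N))) j
  exact (hb (j + 1)).1.subsingleton

end Groth.Agent.S4005
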