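import Groth.Statements.S4019
import Groth.Agent.L05.Pencil.Lef

set_option autoImplicit false
universe u
open CategoryTheory CategoryTheory.Limits AlgebraicGeometry
open LefPen

namespace Groth.Agent.S4019
set_option backward.isDefEq.respectTransparency false
set_option backward.isDefEq.respectTransparency.types false
set_option linter.style.haveILetI false

/-- Let k be an algebraically closed field and X an irreducible smooth proper k-scheme of dimension n ≥
1 embedded in projective r-space by a closed immersion i. For every d ≥ 2 the composite of i with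
the d-uple embedding is a Lefschetz embedding: the pairs (F, G) of degree-d forms spanning a
Lefschetz pencil for X (independent forms; base locus X ∩ V(F, G) a transversal section; all but
finitely many members transversal to X; each other member cutting X in a scheme smooth except at one
ordinary quadratic singularity) contain the non-vanishing locus of a polynomial function of the
coefficients that is not identically zero, i.e. a dense open set of the space of pencils. -/
theorem result (k : Type u) [Field k] [IsAlgClosed k] (r n : ℕ) (hn : 1 ≤ n)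
    {X : Scheme.{u}} (i : X ⟶ CohB1.ProjSpace r k) [IsClosedImmersion i] [IrreducibleSpace X]
    [SmoothOfRelativeDimension n (i ≫ CohB1.ProjSpace.toSpec r k)]
    (d : ℕ) (hd : 2 ≤ d) : LefPen.IsLefschetzEmb k n i d := by
  haveI := Groth.L05.DualVar.isReduced_of_smooth i n
  haveI : IsLocallyNoetherian X := LocallyOfFiniteType.isLocallyNoetherian i
  obtain ⟨S, m, hE⟩ := Groth.L05.DualVar.exists_eqns i n
  obtain ⟨H₁, hH₁⟩ := Groth.L05.Pencil.exists_oneOrdQuad hE hn hd
  obtain ⟨f, -, ⟨H₀, hH₀⟩, hfT⟩ := Groth.L05.HypBertini.isGeneric_transversal i n hn d (by omega)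
  obtain ⟨g, -, ⟨G, hG⟩, hgP⟩ := Groth.L05.Pencil.isGeneric_pencils hE hn (by omega)
    (Groth.L05.Pencil.two_le_finrank hE hn (by omega)) (hfT H₀ hH₀)
    (Groth.L05.Pencil.isGeneric_line_of_oneOrdQuad hE hn (by omega) (hfT H₀ hH₀) hH₁)
  obtain ⟨φ, hφ, hφ0, hφP⟩ := Groth.L05.Pencil.isZOpen_lefschetz hE hn (H₀, G) (hgP G hG)
  exact ⟨φ, hφ, ⟨_, hφ0⟩, hφP⟩

end Groth.Agent.S4019
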