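import Groth.Statements.S4020
import Groth.Agent.L05.Pencil.Lef
import Groth.Agent.L05.Pencil.Char0Main

set_option autoImplicit false
universe u
open CategoryTheory CategoryTheory.Limits AlgebraicGeometry
open LefPen

namespace Groth.Agent.S4020
set_option backward.isDefEq.respectTransparency false
set_option backward.isDefEq.respectTransparency.types false
set_option linter.style.haveILetI false

/-- Let k be an algebraically closed field and X an irreducible smooth proper k-scheme of dimension n ≥
1 embedded in projective r-space by a closed immersion i; assume k has characteristic zero. Then i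
itself is a Lefschetz embedding: the pairs of linear forms spanning a Lefschetz pencil of hyperplane
sections of X contain the non-vanishing locus of a not identically zero polynomial function of their
coefficients. -/
theorem result (k : Type u) [Field k] [IsAlgClosed k] (r n : ℕ) (hn : 1 ≤ n)
    {X : Scheme.{u}} (i : X ⟶ CohB1.ProjSpace r k) [IsClosedImmersion i] [IrreducibleSpace X]
    [SmoothOfRelativeDimension n (i ≫ CohB1.ProjSpace.toSpec r k)]
    [CharZero k] : LefPen.IsLefschetzEmb k n i 1 := by
  haveI := Groth.L05.DualVar.isReduced_of_smooth i n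
  haveI : IsLocallyNoetherian X := LocallyOfFiniteType.isLocallyNoetherian i
  obtain ⟨S, m, hE⟩ := Groth.L05.DualVar.exists_eqns i n
  obtain ⟨f, -, ⟨H₀, hH₀⟩, hfT⟩ := Groth.L05.HypBertini.isGeneric_transversal i n hn 1 le_rfl
  obtain ⟨g, -, ⟨G, hG⟩, hgP⟩ := Groth.L05.Pencil.isGeneric_pencils hE hn le_rfl
    (Groth.L05.Pencil.two_le_finrank hE hn le_rfl) (hfT H₀ hH₀)
    (Groth.L05.Pencil.isGeneric_line_char0 hE hn le_rfl (hfT H₀ hH₀))
  obtain ⟨φ, hφ, hφ0, hφP⟩ := Groth.L05.Pencil.isZOpen_lefschetz hE hn (H₀, G) (hgP G hG)
  exact ⟨φ, hφ, ⟨_, hφ0⟩, hφP⟩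

end Groth.Agent.S4020
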