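import Groth.Statements.S4022
import Groth.Agent.L05.Pencil.Lef

set_option autoImplicit false
universe u
open CategoryTheory CategoryTheory.Limits AlgebraicGeometry
open LefPen

namespace Groth.Agent.S4022
set_option backward.isDefEq.respectTransparency false
set_option backward.isDefEq.respectTransparency.types false
set_option linter.style.haveILetI false

/-- Let k be an algebraically closed field and X an irreducible smooth proper k-scheme of dimension n ≥
1 embedded in projective r-space by a closed immersion i; let d ≥ 1 be such that the degree-d
embedding is a Lefschetz embedding, and let H₀ be a degree-d form whose hypersurface cuts X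
transversally. Then the forms G such that (H₀, G) spans a Lefschetz pencil contain the non-vanishing
locus of a not identically zero polynomial function: the Lefschetz pencils through H₀ are dense open
among pencils through H₀. -/
theorem result (k : Type u) [Field k] [IsAlgClosed k] (r n : ℕ) (hn : 1 ≤ n)
    {X : Scheme.{u}} (i : X ⟶ CohB1.ProjSpace r k) [IsClosedImmersion i] [IrreducibleSpace X]
    [SmoothOfRelativeDimension n (i ≫ CohB1.ProjSpace.toSpec r k)]
    (d : ℕ) (hd : 1 ≤ d) (hL : LefPen.IsLefschetzEmb k n i d) (H₀ : LefPen.Form r k d)
    (hH₀ : LefPen.Transversal k n 1 (LefPen.secToSpec i ({H₀} : Set (LefPen.Form r k d)))) :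
    LefPen.IsGeneric k {G : LefPen.Form r k d | LefPen.IsLefschetzPencil k n i d H₀ G} := by
  haveI := Groth.L05.DualVar.isReduced_of_smooth i n
  haveI : IsLocallyNoetherian X := LocallyOfFiniteType.isLocallyNoetherian i
  obtain ⟨S, m, hE⟩ := Groth.L05.DualVar.exists_eqns i n
  obtain ⟨f, hf, ⟨v, hv⟩, hfP⟩ := hL
  exact Groth.L05.Pencil.isGeneric_pencils hE hn hd (Groth.L05.Pencil.two_le_finrank hE hn hd) hH₀
    (Groth.L05.Pencil.isGeneric_line_of_pencil hE hn hH₀ (hfP v hv))

end Groth.Agent.S4022
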