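import Groth.Statements.S4024
import Groth.Agent.L28.Tangency.Basic
import Mathlib.RingTheory.MvPolynomial.Basic

set_option autoImplicit false
universe u
open CategoryTheory CategoryTheory.Limits AlgebraicGeometry
open LefPen

namespace Groth.Agent.S4024

/-- Let k be a field (the source works over an algebraically closed field; the count is the same over
any field), d ≥ 2, x₁ = [v₁] and x₂ = [v₂] two distinct points of projective r-space and P(W₁) ∋ x₁,
P(W₂) ∋ x₂ linear subspaces. In the space of degree-d forms, those whose hypersurface passes through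
x₁ tangentially to P(W₁) and through x₂ tangentially to P(W₂) form a linear subspace of codimension
dim P(W₁) + dim P(W₂) + 2 = dim W₁ + dim W₂ when d ≥ 3 or when the line x₁x₂ is not contained in
both P(W₁) and P(W₂), and of codimension dim W₁ + dim W₂ - 1 when d = 2 and the line x₁x₂ lies in
P(W₁) ∩ P(W₂). -/
theorem result (k : Type u) [Field k] (r d : ℕ) (hd : 2 ≤ d)
    (W₁ W₂ : Submodule k (Fin (r + 1) → k)) (v₁ v₂ : Fin (r + 1) → k) (h₁ : v₁ ∈ W₁) (h₂ : v₂ ∈ W₂)
    (hv : LinearIndependent k ![v₁, v₂]) :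
    ((3 ≤ d ∨ ¬ (v₂ ∈ W₁ ∧ v₁ ∈ W₂)) →
      Module.finrank k (LefPen.Form r k d) =
        Module.finrank k ↥(LefPen.tangentForms k d W₁ v₁ W₂ v₂) + (Module.finrank k ↥W₁ + Module.finrank k ↥W₂)) ∧
    ((d = 2 ∧ v₂ ∈ W₁ ∧ v₁ ∈ W₂) →
      Module.finrank k (LefPen.Form r k d) + 1 =
        Module.finrank k ↥(LefPen.tangentForms k d W₁ v₁ W₂ v₂) + (Module.finrank k ↥W₁ + Module.finrank k ↥W₂)) := by
  classical
  have : FiniteDimensional k (LefPen.Form r k d) :=
    Submodule.finiteDimensional_of_le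
      (show CohB1.polyGrading r k d ≤ MvPolynomial.restrictTotalDegree (Fin (r + 1)) k d from
        fun p hp => by
          rw [MvPolynomial.mem_restrictTotalDegree]
          exact ((MvPolynomial.mem_homogeneousSubmodule d p).1 hp).totalDegree_le)
  have hv' : LinearIndependent k ![v₂, v₁] := by
    rw [LinearIndependent.pair_iff] at hv ⊢
    intro s t h
    exact (hv t s ((add_comm _ _).trans h)).symm
  obtain ⟨l₁, h11, h12⟩ := Groth.L28.Tangency.dual_pair hv
  obtain ⟨l₂, h22, h21⟩ := Groth.L28.Tangency.dual_pair hv'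
  have h := LinearMap.finrank_range_add_finrank_ker
    (Groth.L28.Tangency.T d (W₁ ⊓ LinearMap.ker l₁) (W₂ ⊓ LinearMap.ker l₂) v₁ v₂)
  rw [Groth.L28.Tangency.ker_T d W₁ W₂ v₁ v₂ h₁ h₂ l₁ l₂ h11 h22] at h
  have e1 := Groth.L28.Tangency.finrank_slot W₁ v₁ h₁ l₁ h11
  have e2 := Groth.L28.Tangency.finrank_slot W₂ v₂ h₂ l₂ h22
  constructor
  · intro hc
    rw [Groth.L28.Tangency.range_T d hd W₁ W₂ v₁ v₂ h₁ h₂ l₁ l₂ h11 h12 h22 h21 hc, finrank_top,
      Module.finrank_prod, e1, e2] at h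
    omega
  · rintro ⟨rfl, hv₂, hv₁⟩
    rw [Groth.L28.Tangency.range_T_two W₁ W₂ v₁ v₂ h₁ h₂ l₁ l₂ h11 h12 h22 h21 hv₂ hv₁] at h
    let χ := Groth.L28.Tangency.chi (W₁ ⊓ LinearMap.ker l₁) (W₂ ⊓ LinearMap.ker l₂)
      ⟨v₂, hv₂, LinearMap.mem_ker.2 h12⟩ ⟨v₁, hv₁, LinearMap.mem_ker.2 h21⟩
    have hsurj : LinearMap.range χ = ⊤ := LinearMap.range_eq_top.2 fun c =>
      ⟨((0, c • (W₁ ⊓ LinearMap.ker l₁).subtype.dualMap l₂), 0), by
        show c * l₂ v₂ - 0 = c
        rw [h22, mul_one, sub_zero]⟩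
    have h' := LinearMap.finrank_range_add_finrank_ker χ
    rw [hsurj, finrank_top, Module.finrank_self, Module.finrank_prod, e1, e2] at h'
    change Module.finrank k (LinearMap.ker χ) + _ = _ at h
    omega

end Groth.Agent.S4024
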