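import Groth.Statements.S4027
import Mathlib.RingTheory.Polynomial.GaussLemma
import Mathlib.RingTheory.MvPolynomial.Homogeneous
import Mathlib.RingTheory.Polynomial.UniqueFactorization
import Mathlib.Algebra.Polynomial.RingDivision
import Mathlib.RingTheory.Localization.FractionRing
import Mathlib.Algebra.MvPolynomial.Nilpotent

set_option autoImplicit false
universe u
open LefPen

namespace Groth.Agent.S4027

section aux

open Polynomial

variable {k : Type u} [Field k] {r : ℕ}

local notation "P" => MvPolynomial (Fin r) k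

noncomputable def χ : P →+* P[X] :=
  MvPolynomial.eval₂Hom (Polynomial.C.comp MvPolynomial.C)
    (fun j => Polynomial.C (MvPolynomial.X j) * Polynomial.X)

lemma χ_coeff (p : P) (n : ℕ) : (χ p).coeff n = MvPolynomial.homogeneousComponent n p := by
  induction p using MvPolynomial.induction_on' with
  | monomial d c =>
    have h : (χ (MvPolynomial.monomial d c) : P[X]) =
        Polynomial.C (MvPolynomial.monomial d c) * Polynomial.X ^ d.degree := by
      rw [χ, MvPolynomial.eval₂Hom_monomial, MvPolynomial.monomial_eq, map_mul, RingHom.comp_apply,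
        mul_assoc]
      congr 1
      simp only [Finsupp.prod, map_prod, map_pow, mul_pow, Finset.prod_mul_distrib, Finset.prod_pow_eq_pow_sum]
      rfl
    rw [h, Polynomial.coeff_C_mul_X_pow,
      MvPolynomial.homogeneousComponent_of_mem (MvPolynomial.isHomogeneous_monomial c rfl)]
  | add p q hp hq => simp [hp, hq]

lemma eval_one_χ (p : P) : (χ p).eval 1 = p := by
  have : (Polynomial.evalRingHom (1 : P)).comp χ = RingHom.id P :=
    MvPolynomial.ringHom_ext (fun c => by simp [χ]) (fun j => by simp [χ])
  exact RingHom.congr_fun this p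

/-- clearing the weights of `A` -/
noncomputable def clearW (A : P[X]) : P[X] :=
  ∑ i ∈ Finset.range (A.natDegree + 1), χ (A.coeff i) * X ^ (A.natDegree - i)

local notation "L" => FractionRing (Polynomial P)

lemma clearW_spec (A : P[X]) :
    algebraMap (Polynomial P) L (clearW A) = algebraMap (Polynomial P) L X ^ A.natDegree *
      A.eval₂ ((algebraMap (Polynomial P) L).comp χ) (algebraMap (Polynomial P) L X)⁻¹ := by
  have hX : algebraMap (Polynomial P) L X ≠ 0 :=
    (map_ne_zero_iff _ (IsFractionRing.injective _ _)).2 X_ne_zero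
  rw [eval₂_eq_sum_range, clearW, map_sum, Finset.mul_sum]
  refine Finset.sum_congr rfl fun i hi => ?_
  rw [Finset.mem_range] at hi
  rw [map_mul, map_pow, pow_sub₀ _ hX (by omega), RingHom.comp_apply, inv_pow]
  ring

lemma eval_one_clearW (A : P[X]) : (clearW A).eval 1 = A.eval 1 := by
  rw [clearW, eval_finset_sum, eval_eq_sum_range]
  simp [eval_one_χ]

lemma monomial_of_mul_eq {R : Type*} [CommRing R] [IsDomain R] {p q : R[X]} {c : R} (hc : c ≠ 0) {n : ℕ}
    (h : p * q = C c * X ^ n) : ∃ (e : ℕ) (α : R), p = C α * X ^ e := by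
  have hpq : p * q ≠ 0 := by rw [h]; exact mul_ne_zero (C_ne_zero.2 hc) (pow_ne_zero _ X_ne_zero)
  have hp := left_ne_zero_of_mul hpq
  have hq := right_ne_zero_of_mul hpq
  have h1 := congrArg natDegree h
  rw [natDegree_mul hp hq, natDegree_C_mul_X_pow n c hc] at h1
  have h2 := congrArg natTrailingDegree h
  rw [natTrailingDegree_mul hp hq, C_mul_X_pow_eq_monomial, natTrailingDegree_monomial hc] at h2
  have h3 := natTrailingDegree_le_natDegree p
  have h4 := natTrailingDegree_le_natDegree q
  refine ⟨p.natDegree, p.leadingCoeff, ?_⟩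
  ext i
  rw [coeff_C_mul_X_pow]
  split_ifs with hi
  · rw [hi, leadingCoeff]
  · rcases lt_or_gt_of_ne hi with hlt | hgt
    · exact coeff_eq_zero_of_lt_natTrailingDegree (by omega)
    · exact coeff_eq_zero_of_natDegree_lt hgt

theorem isUnit_of_eval_one {F : P} (hF0 : F ≠ 0) {A B : P[X]} (hAB : χ F = A * B)
    (h0 : IsUnit (A.coeff 0)) (h1 : IsUnit (A.eval 1)) : IsUnit A := by
  classical
  have hkey : clearW A * clearW B = C F * X ^ (A.natDegree + B.natDegree) := by
    refine IsFractionRing.injective (Polynomial P) L ?_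
    rw [map_mul, clearW_spec, clearW_spec, map_mul, map_pow, pow_add]
    have hm : A.eval₂ ((algebraMap (Polynomial P) L).comp χ) (algebraMap (Polynomial P) L X)⁻¹ *
        B.eval₂ ((algebraMap (Polynomial P) L).comp χ) (algebraMap (Polynomial P) L X)⁻¹ =
        algebraMap (Polynomial P) L (C F) := by
      rw [← eval₂_mul, ← hAB]
      have : (eval₂RingHom ((algebraMap (Polynomial P) L).comp χ) (algebraMap (Polynomial P) L X)⁻¹).comp χ =
          (algebraMap (Polynomial P) L).comp C := by
        refine MvPolynomial.ringHom_ext (fun c => by simp [χ]) fun j => ?_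
        have hX : algebraMap (Polynomial P) L X ≠ 0 :=
          (map_ne_zero_iff _ (IsFractionRing.injective _ _)).2 X_ne_zero
        simp [χ, mul_assoc, mul_inv_cancel₀ hX]
      exact RingHom.congr_fun this F
    rw [← hm]; ring
  obtain ⟨e, α, he⟩ := monomial_of_mul_eq hF0 hkey
  obtain ⟨c, hcu, hc⟩ := MvPolynomial.isUnit_iff_eq_C_of_isReduced.1 h1
  obtain ⟨c₀, hc₀u, hc₀⟩ := MvPolynomial.isUnit_iff_eq_C_of_isReduced.1 h0
  have hα : α = MvPolynomial.C c := by
    rw [← hc, ← eval_one_clearW, he]; simp
  -- coefficients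
  have hcoef : ∀ i ≤ A.natDegree, ∀ j : ℕ, MvPolynomial.homogeneousComponent j (A.coeff i) =
      MvPolynomial.homogeneousComponent j ((clearW A).coeff (j + (A.natDegree - i))) := by
    intro i hi j
    rw [clearW, finset_sum_coeff, map_sum, Finset.sum_eq_single i]
    · rw [coeff_mul_X_pow', if_pos (by omega), χ_coeff, Nat.add_sub_cancel,
        MvPolynomial.homogeneousComponent_of_mem (MvPolynomial.homogeneousComponent_isHomogeneous _ _),
        if_pos rfl]
    · intro i' hi' hne
      rw [Finset.mem_range] at hi'
      rw [coeff_mul_X_pow']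
      split_ifs with h
      · rw [χ_coeff, MvPolynomial.homogeneousComponent_of_mem
          (MvPolynomial.homogeneousComponent_isHomogeneous _ _), if_neg (by omega)]
      · rw [map_zero]
    · intro h; exact absurd (Finset.mem_range.2 (Nat.lt_succ_of_le hi)) h
  have hCj : ∀ (j : ℕ) (x : k), MvPolynomial.homogeneousComponent j (MvPolynomial.C x : P) =
      if j = 0 then MvPolynomial.C x else 0 := fun j x =>
    MvPolynomial.homogeneousComponent_of_mem (MvPolynomial.isHomogeneous_C (Fin r) x)
  have hea : e = A.natDegree := by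
    by_contra hne
    have := hcoef 0 (Nat.zero_le _) 0
    rw [hc₀, hCj, if_pos rfl, zero_add, Nat.sub_zero, he, coeff_C_mul_X_pow, if_neg (Ne.symm hne),
      map_zero, ← MvPolynomial.C_0, MvPolynomial.C_inj] at this
    exact hc₀u.ne_zero this
  have hA : A = C (A.coeff 0) := by
    ext1 i
    rcases i with _ | i
    · rw [coeff_C_zero]
    rw [coeff_C_ne_zero (by omega)]
    by_cases hi : A.natDegree < i + 1
    · exact coeff_eq_zero_of_natDegree_lt hi
    rw [← MvPolynomial.sum_homogeneousComponent (A.coeff (i + 1))]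
    refine Finset.sum_eq_zero fun j _ => ?_
    rw [hcoef (i + 1) (by omega) j, he, hea, coeff_C_mul_X_pow]
    split_ifs with h
    · rw [hα, hCj, if_neg (by omega)]
    · rw [map_zero]
  rw [hA]
  exact isUnit_C.2 h0

end aux

/-- Let k be an algebraically closed field, r ≥ 2, and F ∈ k[X_1, …, X_r] an irreducible polynomial with
F(0) ≠ 0 (in the source the origin is the base point of the lines considered and lies off the
hypersurface F = 0; without this the claim fails, e.g. for X_1 - X_2^2). Then the polynomial G(T) =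
F(X_1 T, …, X_r T), with coefficients in the field of rational functions k(X_1, …, X_r), is
irreducible. -/
theorem result (k : Type u) [Field k] [IsAlgClosed k] (r : ℕ) (hr : 2 ≤ r)
    (F : MvPolynomial (Fin r) k) (hF : Irreducible F) (hF0 : MvPolynomial.eval (fun _ => (0 : k)) F ≠ 0) :
    Irreducible ((MvPolynomial.eval₂ (Polynomial.C.comp MvPolynomial.C)
        (fun j => Polynomial.C (MvPolynomial.X j) * Polynomial.X) F).map
      (algebraMap (MvPolynomial (Fin r) k) (FractionRing (MvPolynomial (Fin r) k)))) := by
  change Irreducible ((χ F).map _)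
  have h00 : (χ F).coeff 0 = MvPolynomial.C (MvPolynomial.eval (fun _ => (0 : k)) F) := by
    rw [χ_coeff, MvPolynomial.homogeneousComponent_zero]
    rw [MvPolynomial.eval_zero']; rfl
  have hu : IsUnit ((χ F).coeff 0) := h00 ▸ (isUnit_iff_ne_zero.2 hF0).map MvPolynomial.C
  have hirr : Irreducible (χ F) := by
    refine ⟨fun h => hF.not_isUnit ?_, fun A B hAB => ?_⟩
    · simpa [eval_one_χ] using h.map (Polynomial.evalRingHom (1 : MvPolynomial (Fin r) k))
    · have h0 : IsUnit (A.coeff 0) ∧ IsUnit (B.coeff 0) := IsUnit.mul_iff.1 (by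
        rwa [← Polynomial.mul_coeff_zero, ← hAB])
      have h1 := congrArg (Polynomial.eval 1) hAB
      rw [eval_one_χ, Polynomial.eval_mul] at h1
      rcases hF.isUnit_or_isUnit h1 with h | h
      · exact Or.inl (isUnit_of_eval_one hF.ne_zero hAB h0.1 h)
      · exact Or.inr (isUnit_of_eval_one hF.ne_zero (hAB.trans (mul_comm _ _)) h0.2 h)
  refine (Polynomial.IsPrimitive.irreducible_iff_irreducible_map_fraction_map ?_).1 hirr
  intro a ha
  exact isUnit_of_dvd_unit ((Polynomial.C_dvd_iff_dvd_coeff a _).1 ha 0) hu

end Groth.Agent.S4027
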