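import Groth.Statements.S4037
import Groth.Agent.L13.CIPic.Root
import Groth.Agent.L00.TensorMod
-- import your own Groth.Agent.* helpers here

set_option autoImplicit false
set_option backward.isDefEq.respectTransparency false
set_option linter.style.haveILetI false
set_option backward.isDefEq.respectTransparency.types false
universe u
open CategoryTheory CategoryTheory.Limits AlgebraicGeometry
open LefPen

namespace Groth.Agent.S4037

/-- At the level of the Picard group (Pic^τ(Y) = 0, so that the Néron-Severi group is Pic(Y)): let k be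
an algebraically closed field and Y ⊆ P^{2+d}_k the common zero scheme of d ≥ 1 forms of degrees a_j
≥ 1, assumed smooth over k of relative dimension 2 (a smooth complete intersection surface); O_Y(1)
denotes the restriction of O(1). (1) If L is an invertible O_Y-module and some tensor power L^{⊗m},
m ≥ 1, is isomorphic to O_Y, then L is isomorphic to O_Y (no torsion in Pic(Y)). (2) The class of
O_Y(1) is not divisible: for no invertible M and e ≥ 2 is M^{⊗e} isomorphic to O_Y(1). -/
theorem result (k : Type u) [Field k] [IsAlgClosed k]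
    (d : ℕ) (hd : 1 ≤ d) (a : Fin d → ℕ) (ha : ∀ j, 1 ≤ a j) (G : ∀ j : Fin d, LefPen.Form (2 + d) k (a j))
    [SmoothOfRelativeDimension 2 ((LefPen.ciIdeal G).subschemeι ≫ CohB1.ProjSpace.toSpec (2 + d) k)] :
    (∀ (L : (LefPen.ciIdeal G).subscheme.Modules), PicF.IsInvertible L → ∀ m : ℕ, 1 ≤ m →
      Nonempty (CohB1.tensorPow L m ≅ Coh.structureModule (LefPen.ciIdeal G).subscheme) →
        Nonempty (L ≅ Coh.structureModule (LefPen.ciIdeal G).subscheme)) ∧
    (∀ (M : (LefPen.ciIdeal G).subscheme.Modules), PicF.IsInvertible M → ∀ e : ℕ, 2 ≤ e →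
      ¬ Nonempty (CohB1.tensorPow M e ≅
        (Scheme.Modules.pullback (LefPen.ciIdeal G).subschemeι).obj (Twist.twistProjSpace (2 + d) k 1))) := by
  have core : ∀ (p : ℕ), p.Prime → ∀ (c : ℕ), c ≤ 1 → ∀ (L : (LefPen.ciIdeal G).subscheme.Modules), PicF.IsInvertible L →
      Nonempty (CohB1.tensorPow L p ≅ Groth.L21.PlaneCurve.OC (LefPen.ciIdeal G) (c : ℤ)) →
      c = 0 ∧ Nonempty (L ≅ Coh.structureModule (LefPen.ciIdeal G).subscheme) := by
    rintro p hp c hc L hL ⟨σ⟩
    haveI : Fact p.Prime := ⟨hp⟩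
    by_cases hq : (p : k) = 0
    · haveI : CharP k p := by
        rcases CharP.exists k with ⟨q, hq'⟩
        have h1 : q ∣ p := (CharP.cast_eq_zero_iff k q p).1 hq
        rcases hp.eq_one_or_self_of_dvd q h1 with rfl | rfl
        · exact absurd rfl (CharP.char_ne_one k 1)
        · exact hq'
      have h0 := Groth.L13.CIPic.natCast_eq_zero_of_root ha G σ hL
      have hc0 : c = 0 := by
        rcases Nat.le_one_iff_eq_zero_or_eq_one.1 hc with h | h
        · exact h
        · rw [h, Nat.cast_one] at h0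
          exact absurd h0 one_ne_zero
      exact ⟨hc0, Groth.L13.CIPic.nonempty_iso_of_root_zero ha G σ hc0 hL⟩
    · obtain ⟨e, he, ⟨φ⟩⟩ := Groth.L13.CIPic.exists_iso_of_root ha G hq (c : ℤ) hL σ
      have h2 : 2 ≤ p := hp.two_le
      have hc0 : c = 0 := by
        rcases Nat.le_one_iff_eq_zero_or_eq_one.1 hc with h | h
        · exact h
        · subst h
          have h3 : (p : ℤ) ∣ 1 := ⟨e, by simpa using he.symm⟩
          have := Int.le_of_dvd one_pos h3
          omega
      subst hc0
      have he0 : e = 0 := by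
        have h3 : (p : ℤ) * e = 0 := by simpa using he
        rcases mul_eq_zero.1 h3 with h | h
        · omega
        · exact h
      subst he0
      obtain ⟨f⟩ := Groth.L18.CIProj.nonempty_OC_zero (LefPen.ciIdeal G)
      exact ⟨rfl, ⟨φ ≪≫ f⟩⟩
  refine ⟨?_, ?_⟩
  · intro L hL m
    induction m using Nat.strong_induction_on generalizing L with
    | _ m ih =>
      intro hm hiso
      obtain ⟨σ⟩ := hiso
      by_cases h1 : m = 1
      · subst h1
        exact ⟨(Groth.L00.Tensor.tensorPowOne L).symm ≪≫ σ⟩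
      · obtain ⟨p, hp, m', rfl⟩ := Nat.exists_prime_and_dvd h1
        have hm' : 1 ≤ m' := Nat.pos_of_ne_zero (by rintro rfl; simp at hm)
        obtain ⟨f⟩ := Groth.L18.CIProj.nonempty_OC_zero (LefPen.ciIdeal G)
        obtain ⟨-, hL'⟩ := core p hp 0 (Nat.zero_le 1) (CohB1.tensorPow L m')
          (Groth.L18.Ample.isInvertible_tensorPow hL m')
          ⟨Groth.L00.Tensor.tensorPowMul L m' p ≪≫ eqToIso (by rw [mul_comm]) ≪≫ σ ≪≫ f.symm⟩
        exact ih m' (lt_mul_left hm' hp.one_lt) L hL hm' hL'
  · rintro M hM e he ⟨σ⟩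
    obtain ⟨p, hp, m', rfl⟩ := Nat.exists_prime_and_dvd (show e ≠ 1 by omega)
    obtain ⟨h, -⟩ := core p hp 1 le_rfl (CohB1.tensorPow M m') (Groth.L18.Ample.isInvertible_tensorPow hM m')
      ⟨Groth.L00.Tensor.tensorPowMul M m' p ≪≫ eqToIso (by rw [mul_comm]) ≪≫ σ⟩
    exact one_ne_zero h

end Groth.Agent.S4037
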