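import Groth.Statements.S4039
import Groth.Agent.L05.Quadric.Scheme

set_option autoImplicit false
universe u
open CategoryTheory CategoryTheory.Limits AlgebraicGeometry
open LefPen

namespace Groth.Agent.S4039
set_option backward.isDefEq.respectTransparency false
set_option backward.isDefEq.respectTransparency.types false
set_option linter.style.haveILetI false

/-- Let k be a finite field with q elements, n ≥ 0, and Q a quadratic form in n + 2 variables over k
whose zero scheme X = V(Q) ⊆ P^{n+1}_k is smooth over k of relative dimension n (a smooth quadric of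
dimension n over k). Then the number of k-rational points of X is Σ_{i=0}^{n} q^i if n is odd, and
Σ_{i=0}^{n} q^i + ε q^{n/2} with ε = 1 or ε = -1 if n is even, where ε = 1 exactly when X is split,
i.e. contains a k-rational linear subspace of dimension n/2 (Q vanishes on a subspace of k^{n+2} of
dimension n/2 + 1). -/
theorem result (k : Type u) [Field k] [Fintype k] (n : ℕ) (Q : LefPen.Form (n + 1) k 2)
    [SmoothOfRelativeDimension n ((LefPen.hypIdeal Q).subschemeι ≫ CohB1.ProjSpace.toSpec (n + 1) k)] :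
    (Odd n → (SgaExt.pointCount ((LefPen.hypIdeal Q).subschemeι ≫ CohB1.ProjSpace.toSpec (n + 1) k) k : ℤ) =
      ∑ i ∈ Finset.range (n + 1), (Fintype.card k : ℤ) ^ i) ∧
    (Even n → ∃ ε : ℤ, (ε = 1 ∨ ε = -1) ∧
      (SgaExt.pointCount ((LefPen.hypIdeal Q).subschemeι ≫ CohB1.ProjSpace.toSpec (n + 1) k) k : ℤ) =
        (∑ i ∈ Finset.range (n + 1), (Fintype.card k : ℤ) ^ i) + ε * (Fintype.card k : ℤ) ^ (n / 2) ∧
      (ε = 1 ↔ ∃ W : Submodule k (Fin (n + 1 + 1) → k), Module.finrank k ↥W = n / 2 + 1 ∧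
        ∀ w ∈ W, MvPolynomial.eval w Q.1 = 0)) := by
  classical
  obtain ⟨F, hF, hF'⟩ := Groth.L05.Quadric.exists_quadraticForm Q
  have hnd := Groth.L05.Quadric.nondeg_of_smooth Q hF hF'
  have hP := Groth.L05.Quadric.pointCount_hyp (by norm_num) Q (Groth.L05.Quadric.eval_smul Q)
  obtain ⟨hodd, heven⟩ := Groth.L05.Quadric.card_zeros_formula hnd
  simp only [hF, ← hP, Nat.card_eq_fintype_card] at hodd heven
  rw [Module.finrank_fin_fun] at hodd heven
  set P : ℕ := SgaExt.pointCount ((LefPen.hypIdeal Q).subschemeι ≫ CohB1.ProjSpace.toSpec (n + 1) k) k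
  have h1 : 1 < Fintype.card k := Fintype.one_lt_card
  have hq : ((Fintype.card k : ℤ)) ≠ 0 := by positivity
  have hq1 : ((Fintype.card k : ℤ) - 1) ≠ 0 := by omega
  have hgeom := geom_sum_mul (Fintype.card k : ℤ) (n + 1)
  rw [Nat.cast_add, Nat.cast_mul, Nat.cast_sub h1.le, Nat.cast_one] at hodd heven
  refine ⟨fun hn => ?_, fun hn => ?_⟩
  · have h := hodd (Nat.odd_iff.2 (by have := Nat.odd_iff.1 hn; omega))
    refine mul_right_cancel₀ hq1 (mul_left_cancel₀ hq ?_)
    rw [hgeom]
    linear_combination h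
  · obtain ⟨m, hm⟩ : ∃ m, n = 2 * m := by
      obtain ⟨m, hm⟩ := hn
      exact ⟨m, by omega⟩
    have hm2 : n / 2 = m := by omega
    obtain ⟨hs, hns⟩ := heven (m + 1) (by omega)
    rw [hm2]
    have hW : Groth.L05.Quadric.Split F ↔ ∃ W : Submodule k (Fin (n + 1 + 1) → k),
        Module.finrank k ↥W = m + 1 ∧ ∀ w ∈ W, MvPolynomial.eval w Q.1 = 0 := by
      rw [Groth.L05.Quadric.Split]
      simp only [hF, Module.finrank_fin_fun]
      exact exists_congr fun W => and_congr_left' (by omega)
    by_cases hsp : Groth.L05.Quadric.Split F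
    · refine ⟨1, Or.inl rfl, mul_right_cancel₀ hq1 (mul_left_cancel₀ hq ?_), iff_of_true rfl (hW.1 hsp)⟩
      linear_combination (norm := (subst hm; ring_nf)) hs hsp - (Fintype.card k : ℤ) * hgeom
    · refine ⟨-1, Or.inr rfl, mul_right_cancel₀ hq1 (mul_left_cancel₀ hq ?_),
        iff_of_false (by norm_num) fun h => hsp (hW.2 h)⟩
      linear_combination (norm := (subst hm; ring_nf)) hns hsp - (Fintype.card k : ℤ) * hgeom

end Groth.Agent.S4039
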