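import Groth.Agent.S19656
import Groth.Agent.L07.DVRProper
import Mathlib.AlgebraicGeometry.Geometrically.Integral
import Mathlib.AlgebraicGeometry.Geometrically.Connected
import Groth.Statements.S4058
-- import your own Groth.Agent.* helpers here

set_option autoImplicit false
universe u
open CategoryTheory CategoryTheory.Limits AlgebraicGeometry MonObj
open SGA7

namespace Groth.Agent.S4058

/-- (iii) ⇒ (iv): let R be a discrete valuation ring with fraction field K and residue field k, and N a
group scheme over Spec R which is a Néron model of its generic fibre, an abelian variety over K. If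
the special fibre N ×_R k is proper over k, then N is proper over Spec R. (In (iii) as published the
special fibre is an abelian variety; connectedness of the special fibre is not assumed here.) -/
theorem result (R K : Type u) [CommRing R] [IsDomain R] [IsDiscreteValuationRing R] [Field K]
    [Algebra R K] [IsFractionRing R K]
    (N : Over (Spec (CommRingCat.of R))) [GrpObj N] (hN : SGA7.IsNeron R K N)
    [IsProper ((SGA7.genFib R K).obj N).hom] [GeometricallyIntegral ((SGA7.genFib R K).obj N).hom]
    [IsProper (Red.bc (Spec.map (CommRingCat.ofHom (IsLocalRing.residue R))) N).hom] :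
    IsProper N.hom := by
  haveI : Smooth N.hom := hN.1
  haveI : IsSeparated N.hom := hN.2.1
  haveI : QuasiCompact N.hom := hN.2.2.1
  have key : ∀ (P : MorphismProperty Scheme.{u}) [P.IsStableUnderBaseChange] [P.RespectsIso]
      {L : Type u} [Field L] (c : Spec (CommRingCat.of L) ⟶ Spec (CommRingCat.of R)) [IsPreimmersion c],
      P (pullback.snd N.hom c) → P (N.hom.fiberToSpecResidueField (c (IsLocalRing.closedPoint L))) := by
    intro P _ _ L _ c _ hc
    obtain ⟨r, hr, hbij⟩ := Groth.L07.DVRProper.exists_residueField_bijective c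
    haveI : IsIso r := (ConcreteCategory.isIso_iff_bijective r).2 hbij
    have hi : inv (Spec.map r) ≫ c =
        (Spec (CommRingCat.of R)).fromSpecResidueField (c (IsLocalRing.closedPoint L)) :=
      (IsIso.inv_comp_eq _).2 hr.symm
    show P (pullback.snd N.hom ((Spec (CommRingCat.of R)).fromSpecResidueField (c (IsLocalRing.closedPoint L))))
    rw [← hi]
    have h2 := MorphismProperty.pullback_snd (P := P) (pullback.snd N.hom c) (inv (Spec.map r)) hc
    rwa [← pullbackLeftPullbackSndIso_hom_snd, P.cancel_left_of_respectsIso] at h2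
  let c₀ : Spec (CommRingCat.of (IsLocalRing.ResidueField R)) ⟶ Spec (CommRingCat.of R) :=
    Spec.map (CommRingCat.ofHom (IsLocalRing.residue R))
  haveI : IsClosedImmersion c₀ := IsClosedImmersion.spec_of_surjective _ IsLocalRing.residue_surjective
  have hpt : c₀ (IsLocalRing.closedPoint (IsLocalRing.ResidueField R)) = IsLocalRing.closedPoint R :=
    IsLocalRing.comap_closedPoint (IsLocalRing.residue R)
  have hs : IsProper (N.hom.fiberToSpecResidueField (IsLocalRing.closedPoint R)) := by
    rw [← hpt]
    exact key @IsProper c₀ (inferInstanceAs (IsProper (Red.bc c₀ N).hom))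
  have hsec : (MonObj.one (X := N)).left ≫ N.hom = 𝟙 _ := Over.w _
  haveI : Nonempty ↥(N.hom.fiber (IsLocalRing.closedPoint R)) :=
    ⟨(N.hom.fiberHomeo (IsLocalRing.closedPoint R)).symm
      ⟨(MonObj.one (X := N)).left (IsLocalRing.closedPoint R), by
        show N.hom _ = _
        rw [← Scheme.Hom.comp_apply, hsec]
        rfl⟩⟩
  let c₁ : Spec (CommRingCat.of K) ⟶ Spec (CommRingCat.of R) := Spec.map (CommRingCat.ofHom (algebraMap R K))
  haveI : IsPreimmersion c₁ := IsPreimmersion.of_isLocalization (R := R) (S := K) (nonZeroDivisors R)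
  obtain ⟨U, hU, hUp⟩ := Groth.Agent.S19656.result N.hom (fun pt hpt _ => by
    have he : pt = c₁ (IsLocalRing.closedPoint K) := by
      have h0 : c₁ (IsLocalRing.closedPoint K) = (⟨⊥, Ideal.isPrime_bot⟩ : PrimeSpectrum R) := by
        refine PrimeSpectrum.ext ?_
        show (IsLocalRing.maximalIdeal K).comap (algebraMap R K) = ⊥
        rw [IsLocalRing.isField_iff_maximalIdeal_eq.1 (Field.toIsField K), ← RingHom.ker_eq_comap_bot]
        exact (RingHom.injective_iff_ker_eq_bot _).1 (IsFractionRing.injective R K)
      rw [h0]
      exact (hpt _ ((PrimeSpectrum.le_iff_specializes (⟨⊥, Ideal.isPrime_bot⟩ : PrimeSpectrum R) pt).1 bot_le)).symm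
    subst he
    refine key @GeometricallyConnected c₁ ⟨fun L _ y Z fst snd h => ?_⟩
    haveI : IsIntegral Z := GeometricallyIntegral.geometrically_isIntegral
      (f := ((SGA7.genFib R K).obj N).hom) y fst snd h
    exact inferInstance) (IsLocalRing.closedPoint R) hs
  have hUt : U = ⊤ := top_unique fun p _ => (IsLocalRing.specializes_closedPoint p).mem_open U.2 hU
  subst hUt
  exact (IsZariskiLocalAtTarget.iff_of_iSup_eq_top (P := @IsProper) (fun _ : Unit => ⊤) (by simp)).2 fun _ => hUp

end Groth.Agent.S4058
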