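import Groth.Statements.S4064
import Mathlib.Algebra.Homology.DerivedCategory.Ext.ExactSequences
import Mathlib.Algebra.Homology.DerivedCategory.TStructure
import Mathlib.Algebra.Homology.DerivedCategory.FullyFaithful
import Mathlib.Algebra.Homology.DerivedCategory.HomologySequence
import Groth.Agent.L28.Elt

set_option autoImplicit false
universe w v v'
open CategoryTheory CategoryTheory.Abelian
open SGA7

namespace Groth.Agent.S4064


open Limits Pretriangulated in
theorem realize {C : Type w} [Category.{v} C] [Abelian C] [HasExt.{v'} C] {P F R E : C} (a : P ⟶ F)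
    (b : F ⟶ R) (wF : a ≫ b = 0) (hF : (ShortComplex.mk a b wF).ShortExact) (c : R ⟶ E)
    (x : Ext E P 1) (hx : (Ext.mk₀ c).comp x (zero_add 1) = hF.extClass) :
    ∃ (X : C) (i : F ⟶ X) (p : X ⟶ E), i ≫ p = b ≫ c ∧
      ∃ w : (a ≫ i) ≫ p = 0, (ShortComplex.mk (a ≫ i) p w).ShortExact := by
  let := HasDerivedCategory.standard C
  let S := DerivedCategory.singleFunctor C 0
  let H := DerivedCategory.homologyFunctor C 0
  let φ := DerivedCategory.singleFunctorCompHomologyFunctorIso C 0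
  let x' : S.obj E ⟶ (S.obj P)⟦(1 : ℤ)⟧ := x.hom
  obtain ⟨Y, f, g, hT⟩ := distinguished_cocone_triangle₂ x'
  have hcomm : hF.singleTriangle.mor₃ ≫ (𝟙 (S.obj P))⟦(1 : ℤ)⟧' = S.map c ≫ x' := by
    refine (congrArg (hF.singleTriangle.mor₃ ≫ ·)
      ((shiftFunctor (DerivedCategory C) (1 : ℤ)).map_id _)).trans ?_
    refine (Category.comp_id _).trans ?_
    have h := congrArg (fun y => y.hom) hx
    simp only [Ext.comp_hom, Ext.mk₀_hom, ShiftedHom.mk₀_comp] at h
    exact hF.extClass_hom.symm.trans h.symm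
  have hγ : ∃ γ : S.obj F ⟶ Y, S.map a ≫ γ = f ∧ γ ≫ g = S.map b ≫ S.map c := by
    obtain ⟨γ, hγ1, hγ2⟩ := complete_distinguished_triangle_morphism₂ hF.singleTriangle
      (Triangle.mk f g x') hF.singleTriangle_distinguished hT (𝟙 _) (S.map c) hcomm
    exact ⟨γ, hγ1.trans (Category.id_comp f), hγ2.symm⟩
  obtain ⟨γ, hγ1', hγ2'⟩ := hγ
  let i : F ⟶ H.obj Y := φ.inv.app F ≫ H.map γ
  let p : H.obj Y ⟶ E := H.map g ≫ φ.hom.app E
  have hai : a ≫ i = φ.inv.app P ≫ H.map f := by
    rw [← hγ1', H.map_comp, ← Category.assoc]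
    exact (congrArg (· ≫ H.map γ) (φ.inv.naturality a)).trans (Category.assoc _ _ _)
  refine ⟨H.obj Y, i, p, ?_, ?_⟩
  · simp only [i, p, Category.assoc]
    rw [← H.map_comp_assoc, hγ2', ← S.map_comp]
    have h := φ.hom.naturality (b ≫ c)
    refine (congrArg (φ.inv.app F ≫ ·) h).trans ?_
    simp
  · have hfg : H.map f ≫ H.map g = 0 := by
      have h0 : f ≫ g = 0 := comp_distTriang_mor_zero₁₂ _ hT
      rw [← H.map_comp, h0, Functor.map_zero]
    have hex : (ShortComplex.mk (H.map f) (H.map g) hfg).Exact :=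
      DerivedCategory.HomologySequence.exact₂ (Triangle.mk f g x') hT 0
    have hmono : Mono (H.map f) :=
      (DerivedCategory.HomologySequence.mono_homologyMap_mor₁_iff (Triangle.mk f g x') hT (-1) 0).mpr
        ((DerivedCategory.isZero_of_isGE (S.obj E) 0 (-1) (by omega)).eq_of_src _ _)
    have hepi : Epi (H.map g) :=
      (DerivedCategory.HomologySequence.epi_homologyMap_mor₂_iff (Triangle.mk f g x') hT 0 1).mpr
        ((DerivedCategory.isZero_of_isLE (S.obj P) 0 1 (by omega)).eq_of_tgt _ _)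
    have w : (a ≫ i) ≫ p = 0 := by
      simp only [hai, p, Category.assoc]
      rw [← Category.assoc (H.map f), hfg, zero_comp, comp_zero]
    refine ⟨w, ShortComplex.shortExact_of_iso ?_
      (ShortComplex.ShortExact.mk' hex hmono hepi)⟩
    exact ShortComplex.isoMk (φ.app P) (Iso.refl _) (φ.app E)
      (by
        show φ.hom.app P ≫ (a ≫ i) = H.map f ≫ 𝟙 _
        rw [hai, Category.comp_id, Iso.hom_inv_id_app_assoc])
      (by
        show 𝟙 _ ≫ p = H.map g ≫ φ.hom.app E
        simp [p])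

open Limits Groth.L28.Elt in
theorem secondSequence {C : Type w} [Category.{v} C] [Abelian C] {P F R E Q X : C}
    (a : P ⟶ F) (b : F ⟶ R) (wF : a ≫ b = 0) (hF : (ShortComplex.mk a b wF).ShortExact)
    (c : R ⟶ E) (d : E ⟶ Q) (wE : c ≫ d = 0) (hE : (ShortComplex.mk c d wE).ShortExact)
    (i : F ⟶ X) (p : X ⟶ E) (hip : i ≫ p = b ≫ c) (w : (a ≫ i) ≫ p = 0)
    (hX : (ShortComplex.mk (a ≫ i) p w).ShortExact) :
    ∃ w : i ≫ (p ≫ d) = 0, (ShortComplex.mk i (p ≫ d) w).ShortExact := by
  have w' : i ≫ (p ≫ d) = 0 := by rw [← Category.assoc, hip, Category.assoc, wE, comp_zero]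
  have : Mono c := hE.mono_f
  have : Epi d := hE.epi_g
  have : Epi p := hX.epi_g
  have : Mono (a ≫ i) := hX.mono_f
  have eF := (Groth.L28.Elt.exact_iff _).1 hF.exact
  have eE := (Groth.L28.Elt.exact_iff _).1 hE.exact
  have eX := (Groth.L28.Elt.exact_iff _).1 hX.exact
  have hip' : ∀ z, ev p (ev i z) = ev c (ev b z) := fun z => by
    rw [← ev_comp, hip, ev_comp]
  refine ⟨w', ShortComplex.ShortExact.mk' ?_ ?_ (epi_comp p d)⟩
  · rw [Groth.L28.Elt.exact_iff]
    intro z hz
    obtain ⟨r, hr⟩ := eE (ev p z) (by simpa using hz)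
    obtain ⟨y, rfl⟩ := haveI : Epi b := hF.epi_g; surj b r
    obtain ⟨u, hu⟩ := eX (z - ev i y) (by
      show ev p (z - ev i y) = 0
      rw [map_sub, hip', sub_eq_zero]
      exact hr.symm)
    refine ⟨y + ev a u, ?_⟩
    show ev i (y + ev a u) = z
    rw [map_add, ← ev_comp]
    exact (congrArg _ hu).trans (add_sub_cancel _ _)
  · rw [mono_iff]
    intro z z' hzz
    rw [← sub_eq_zero]
    have h0 : ev i (z - z') = 0 := by rw [map_sub, hzz, sub_self]
    have hb : ev b (z - z') = 0 := eq_zero_of_mono c (by rw [← hip', h0, map_zero])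
    obtain ⟨y, hy⟩ := eF _ hb
    have hy' : ev a y = z - z' := hy
    have : y = 0 := eq_zero_of_mono (a ≫ i) (by rw [ev_comp, hy', h0])
    rw [← hy', this, map_zero]

open Limits in
theorem main {C : Type w} [Category.{v} C] [Abelian C]
    [HasExt.{v'} C] {P F R E Q : C} (a : P ⟶ F) (b : F ⟶ R) (wF : a ≫ b = 0)
    (hF : (ShortComplex.mk a b wF).ShortExact) (c : R ⟶ E) (d : E ⟶ Q) (wE : c ≫ d = 0)
    (hE : (ShortComplex.mk c d wE).ShortExact) :
    (∃ (X : C) (i : F ⟶ X) (p : X ⟶ E), i ≫ p = b ≫ c ∧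
        (∃ w : (a ≫ i) ≫ p = 0, (ShortComplex.mk (a ≫ i) p w).ShortExact) ∧
        (∃ w : i ≫ (p ≫ d) = 0, (ShortComplex.mk i (p ≫ d) w).ShortExact)) ↔
      hE.extClass.comp hF.extClass (rfl : 1 + 1 = 2) = 0 := by
  constructor
  · rintro ⟨X, i, p, hip, ⟨w, hX⟩, -⟩
    have h := ShortComplex.ShortExact.extClass_naturality hF hX
      ({ τ₁ := 𝟙 _, τ₂ := i, τ₃ := c } :
        ShortComplex.mk a b wF ⟶ ShortComplex.mk (a ≫ i) p w)
    simp only [Ext.comp_mk₀_id] at h
    rw [h]
    exact hE.extClass_comp_assoc hX.extClass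
  · intro h
    obtain ⟨x, hx⟩ := Ext.contravariant_sequence_exact₁ hE P hF.extClass rfl h
    obtain ⟨X, i, p, hip, w, hX⟩ := realize a b wF hF c x hx
    exact ⟨X, i, p, hip, ⟨w, hX⟩, secondSequence a b wF hF c d wE hE i p hip w hX⟩

/-- Let P -> F -> R and R -> E -> Q be short exact sequences in an abelian category (F an extension of R
by P, E an extension of Q by R). A blended extension of E by F is an object X with a monomorphism i
: F -> X and an epimorphism p : X -> E such that P -> X -> E (via i) and F -> X -> Q (via p) are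
short exact and F -> X -> E is the composite F -> R -> E. Such an X exists if and only if the
composite of the two extension classes, an element of Ext^2(Q, P), is zero. -/
theorem result {C : Type w} [Category.{v} C] [Abelian C]
    [HasExt.{v'} C] {P F R E Q : C} (a : P ⟶ F) (b : F ⟶ R) (wF : a ≫ b = 0)
    (hF : (ShortComplex.mk a b wF).ShortExact) (c : R ⟶ E) (d : E ⟶ Q) (wE : c ≫ d = 0)
    (hE : (ShortComplex.mk c d wE).ShortExact) :
    (∃ (X : C) (i : F ⟶ X) (p : X ⟶ E), i ≫ p = b ≫ c ∧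
        (∃ w : (a ≫ i) ≫ p = 0, (ShortComplex.mk (a ≫ i) p w).ShortExact) ∧
        (∃ w : i ≫ (p ≫ d) = 0, (ShortComplex.mk i (p ≫ d) w).ShortExact)) ↔
      hE.extClass.comp hF.extClass (rfl : 1 + 1 = 2) = 0 := by
  exact main a b wF hF c d wE hE

end Groth.Agent.S4064
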