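import Groth.Statements.S4065


set_option autoImplicit false
universe w v
open CategoryTheory
open SGA7

namespace Groth.Agent.S4065

/-- Let P -> F -> R and R -> E -> Q be short exact sequences in an abelian category and X a blended
extension of E by F: i : F -> X and p : X -> E with i, p composing to F -> R -> E and with P -> X ->
E and F -> X -> Q short exact. Then u ↦ 1_X + (X -> E -> Q -> P -> F -> X) is a bijection from
Hom(Q, P) onto the set of endomorphisms φ of X with i φ = i and φ p = p (the automorphisms of the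
blended extension; every such φ is invertible), and it turns addition into composition (a group
isomorphism Hom(Q, P) ≅ Aut(X)). -/
theorem result {C : Type w} [Category.{v} C] [Abelian C]
    {P F R E Q X : C} (a : P ⟶ F) (b : F ⟶ R) (wF : a ≫ b = 0)
    (hF : (ShortComplex.mk a b wF).ShortExact) (c : R ⟶ E) (d : E ⟶ Q) (wE : c ≫ d = 0)
    (hE : (ShortComplex.mk c d wE).ShortExact) (i : F ⟶ X) (p : X ⟶ E) (hip : i ≫ p = b ≫ c)
    (w₁ : (a ≫ i) ≫ p = 0) (h₁ : (ShortComplex.mk (a ≫ i) p w₁).ShortExact)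
    (w₂ : i ≫ (p ≫ d) = 0) (h₂ : (ShortComplex.mk i (p ≫ d) w₂).ShortExact) :
    Set.BijOn (fun v : Q ⟶ P => 𝟙 X + p ≫ d ≫ v ≫ a ≫ i) Set.univ
      {φ : X ⟶ X | i ≫ φ = i ∧ φ ≫ p = p} ∧
      ∀ v v' : Q ⟶ P, 𝟙 X + p ≫ d ≫ (v + v') ≫ a ≫ i =
        (𝟙 X + p ≫ d ≫ v ≫ a ≫ i) ≫ (𝟙 X + p ≫ d ≫ v' ≫ a ≫ i) := by
  have hai : (a ≫ i) ≫ p = 0 := w₁
  haveI hm1 : Mono (a ≫ i) := h₁.mono_f
  haveI he1 : Epi p := h₁.epi_g
  haveI hm2 : Mono i := h₂.mono_f
  haveI he2 : Epi (p ≫ d) := h₂.epi_g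
  have hzero : (a ≫ i) ≫ (p ≫ d) = 0 := by rw [← Category.assoc (a ≫ i) p d, hai, Limits.zero_comp]
  refine ⟨⟨?_, ?_, ?_⟩, ?_⟩
  · intro v _
    refine ⟨?_, ?_⟩
    · rw [Preadditive.comp_add, Category.comp_id, ← Category.assoc p d, ← Category.assoc i (p ≫ d), w₂,
        Limits.zero_comp, add_zero]
    · simp only [Preadditive.add_comp, Category.id_comp, Category.assoc]
      rw [← Category.assoc a i p, hai, Limits.comp_zero, Limits.comp_zero, Limits.comp_zero, add_zero]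
  · intro v _ v' _ hvv
    have : (p ≫ d) ≫ v ≫ a ≫ i = (p ≫ d) ≫ v' ≫ a ≫ i := by simpa using hvv
    exact (cancel_mono (a ≫ i)).1 ((cancel_epi (p ≫ d)).1 this)
  · rintro φ ⟨hφi, hφp⟩
    have hk : i ≫ (φ - 𝟙 X) = 0 := by rw [Preadditive.comp_sub, hφi, Category.comp_id, sub_self]
    obtain ⟨ψ, hψ⟩ : ∃ ψ : Q ⟶ X, (p ≫ d) ≫ ψ = φ - 𝟙 X :=
      ⟨h₂.exact.desc _ hk, h₂.exact.g_desc _ hk⟩
    have hψp : ψ ≫ p = 0 := by
      apply (cancel_epi (p ≫ d)).1
      rw [← Category.assoc, hψ, Preadditive.sub_comp, hφp, Category.id_comp, sub_self, Limits.comp_zero]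
    obtain ⟨v, hv⟩ : ∃ v : Q ⟶ P, v ≫ (a ≫ i) = ψ := ⟨h₁.exact.lift _ hψp, h₁.exact.lift_f _ hψp⟩
    refine ⟨v, trivial, ?_⟩
    show 𝟙 X + p ≫ d ≫ v ≫ a ≫ i = φ
    rw [hv, ← Category.assoc, hψ]
    abel
  · intro v v'
    simp only [Preadditive.add_comp, Preadditive.comp_add, Category.id_comp, Category.comp_id,
      Category.assoc]
    rw [show a ≫ i ≫ p ≫ d ≫ v' ≫ a ≫ i = ((a ≫ i) ≫ (p ≫ d)) ≫ v' ≫ a ≫ i by simp only [Category.assoc], hzero]
    simp only [Limits.zero_comp, Limits.comp_zero]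
    abel

end Groth.Agent.S4065
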