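import Groth.Statements.S4067
import Groth.Agent.L27.SmoothLA.Nearby

set_option autoImplicit false
set_option linter.style.haveILetI false
set_option backward.isDefEq.respectTransparency.types false
universe u
open CategoryTheory CategoryTheory.Limits AlgebraicGeometry MonObj
open SGA7

namespace Groth.Agent.S4067

/-- Let V be a strictly henselian discrete valuation ring with fraction field K, Ω a separable closure
of K, m an integer invertible in the residue field of V, f : X -> Spec V of finite type, x a point
of the special fibre at which f is smooth (some open neighbourhood of x is smooth over Spec V) and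
Osh a strict henselisation of the local ring of X at x. Then the scheme Y = Spec(Osh) ×_V Spec Ω
computing the nearby cycles at x is connected and nonempty (the zeroth nearby-cycle group is ℤ/m)
and H^i(Y, ℤ/m) = 0 for i > 0. -/
theorem result (V K Ω : Type u) [CommRing V] [IsDomain V] [IsDiscreteValuationRing V] [HenselianLocalRing V]
    [IsSepClosed (IsLocalRing.ResidueField V)] [Field K] [Algebra V K] [IsFractionRing V K]
    [Field Ω] [Algebra K Ω] [IsSepClosure K Ω] [Algebra V Ω] [IsScalarTower V K Ω]
    (m : ℕ) (hm : (m : IsLocalRing.ResidueField V) ≠ 0)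
    {X : Scheme.{u}} (f : X ⟶ Spec (CommRingCat.of V)) [LocallyOfFiniteType f] [QuasiCompact f]
    (x : ↥X) (hx : f.base x = IsLocalRing.closedPoint V) (U : X.Opens) (hxU : x ∈ U) [Smooth (U.ι ≫ f)]
    (Osh : Type u) [CommRing Osh] [IsLocalRing Osh] [Algebra ↑(X.presheaf.stalk x) Osh]
    [IsLocalHom (algebraMap ↑(X.presheaf.stalk x) Osh)] [Hensel.IsStrictHenselization ↑(X.presheaf.stalk x) Osh] :
    ConnectedSpace ↥(SGA7.nearbyFibre f x Osh Ω) ∧
      ∀ i : ℕ, 0 < i → Subsingleton (EtCoh.H (SGA7.nearbyFibre f x Osh Ω)
        (EtCoh.const (SGA7.nearbyFibre f x Osh Ω) (ZMod m)) i) := by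
  haveI : IsSepClosed Ω := IsSepClosure.sep_closed K
  exact Groth.L27.SmoothLA.nearby_smooth Ω m hm f x hx U hxU Osh

end Groth.Agent.S4067
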