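import Groth.Statements.S4071
import Groth.Agent.L26.Neron.UnitDiv
import Groth.Agent.L26.Neron.PseudoNeron
import Groth.Agent.L26.AV.NonNoethHom
import Groth.Agent.L26.AV.SmoothField

set_option autoImplicit false
universe u
open CategoryTheory CategoryTheory.Limits AlgebraicGeometry MonObj
open MonoidalCategory
open SGA7

namespace Groth.Agent.S4071

open Groth.L26.CompGroup Groth.L26.PseudoNeron CategoryTheory.MonoidalCategory CategoryTheory.CartesianMonoidalCategory

/-- Let R be a strictly henselian discrete valuation ring with fraction field K, N a group scheme over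
Spec R which is a Néron model of its generic fibre, an abelian variety A over K, and n an integer
invertible in the residue field of R. If x is a section of N (a K-point of A) whose n-th power meets
the connected component of the unit section in the special fibre, then there is a section y with y^n
= 1 such that x · y⁻¹ meets the connected component of the unit section: the n-torsion of the
component group is the image of the n-torsion of A(K). -/
theorem result (R K : Type u) [CommRing R] [IsDomain R] [IsDiscreteValuationRing R] [HenselianLocalRing R]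
    [IsSepClosed (IsLocalRing.ResidueField R)] [Field K] [Algebra R K] [IsFractionRing R K]
    (N : Over (Spec (CommRingCat.of R))) [GrpObj N] (hN : SGA7.IsNeron R K N)
    [IsProper ((SGA7.genFib R K).obj N).hom] [GeometricallyIntegral ((SGA7.genFib R K).obj N).hom]
    (n : ℕ) (hn : (n : IsLocalRing.ResidueField R) ≠ 0)
    (x : 𝟙_ (Over (Spec (CommRingCat.of R))) ⟶ N) (hx : x ^ n ∈ SGA7.secUnitComp R N) :
    ∃ y : 𝟙_ (Over (Spec (CommRingCat.of R))) ⟶ N, y ^ n = 1 ∧ x * y⁻¹ ∈ SGA7.secUnitComp R N := by
  haveI : Smooth N.hom := hN.1
  haveI : QuasiCompact N.hom := hN.2.2.1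
  let A := (SGA7.genFib R K).obj N
  haveI : Smooth A.hom := inferInstanceAs (Smooth (pullback.snd N.hom _))
  haveI : IsCommMonObj A := Groth.Agent.AV.isCommMonObj_base A
  haveI : IsCommMonObj N := ⟨by
    have e1 : (μ[N] : N ⊗ N ⟶ N) = fst N N * snd N N := by rw [Hom.mul_def, lift_fst_snd, Category.id_comp]
    rw [e1, MonObj.comp_mul, braiding_hom_fst, braiding_hom_snd]
    refine eq_of_map hN (smooth_tensor N) ?_
    rw [Functor.map_mul, Functor.map_mul]
    exact mul_comm _ _⟩
  obtain ⟨h, hh, he⟩ := exists_root_henselian N hn (z := x ^ n) hx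
  refine ⟨x * h⁻¹, by rw [mul_pow, inv_pow, he, mul_inv_cancel], ?_⟩
  rw [_root_.mul_inv_rev, inv_inv, mul_left_comm, mul_inv_cancel, _root_.mul_one]
  exact hh

end Groth.Agent.S4071
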