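import Groth.Statements.S4075
import Groth.Agent.L26.Neron.SpecialiseNeron
import Groth.Agent.L26.Neron.PseudoNeron
import Groth.Agent.L26.AV.NonNoethHom
import Groth.Agent.L26.AV.SmoothField

set_option autoImplicit false
universe u
open CategoryTheory CategoryTheory.Limits AlgebraicGeometry MonObj
open SGA7

namespace Groth.Agent.S4075

open Groth.L26.Specialise CategoryTheory.MonoidalCategory CategoryTheory.CartesianMonoidalCategory

/-- Let R be a henselian discrete valuation ring with fraction field K, Ω a separable closure of K, W a
valuation subring of Ω lying over R, N a group scheme over Spec R which is a Néron model of its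
generic fibre A = N_K, an abelian variety, and m an integer invertible in the residue field. For an
m-torsion Ω-point x of A, the inertia group at W fixes x if and only if the point of N underlying x
specialises to a point of the special fibre of N (x factors through the finite part of the m-torsion
of N): the fixed part of the m-torsion is the inertia invariants. -/
theorem result (R K Ω : Type u) [CommRing R] [IsDomain R]
    [IsDiscreteValuationRing R] [HenselianLocalRing R] [Field K] [Algebra R K] [IsFractionRing R K]
    [Field Ω] [Algebra K Ω] [IsSepClosure K Ω] (W : ValuationSubring Ω) (hW : SGA7.LiesOver K R W)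
    (N : Over (Spec (CommRingCat.of R))) [GrpObj N] (hN : SGA7.IsNeron R K N)
    [IsProper ((SGA7.genFib R K).obj N).hom] [GeometricallyIntegral ((SGA7.genFib R K).obj N).hom]
    (m : ℕ) (hm : (m : IsLocalRing.ResidueField R) ≠ 0)
    (x : SGA7.Pts Ω ((SGA7.genFib R K).obj N)) (hx : x ^ m = 1) :
    (∀ σ : Ω ≃ₐ[K] Ω, SGA7.IsInertia W σ → SGA7.galAct σ x = x) ↔
      ∃ z ∈ SGA7.specialFibreSet R N,
        (x.left ≫ pullback.fst N.hom (Spec.map (CommRingCat.ofHom (algebraMap R K)))).base
          (IsLocalRing.closedPoint Ω) ⤳ z := by
  haveI : Smooth N.hom := hN.1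
  haveI : IsSeparated N.hom := hN.2.1
  haveI : QuasiCompact N.hom := hN.2.2.1
  let A := (SGA7.genFib R K).obj N
  haveI : Smooth A.hom := inferInstanceAs (Smooth (pullback.snd N.hom _))
  haveI : IsCommMonObj A := Groth.Agent.AV.isCommMonObj_base A
  haveI : IsCommMonObj N := ⟨by
    have e1 : (μ[N] : N ⊗ N ⟶ N) = fst N N * snd N N := by rw [Hom.mul_def, lift_fst_snd, Category.id_comp]
    rw [e1, MonObj.comp_mul, braiding_hom_fst, braiding_hom_snd]
    refine Groth.L26.PseudoNeron.eq_of_map hN (Groth.L26.PseudoNeron.smooth_tensor N) ?_
    rw [Functor.map_mul, Functor.map_mul]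
    exact mul_comm _ _⟩
  letI : Algebra R Ω := ((algebraMap K Ω).comp (algebraMap R K)).toAlgebra
  haveI : IsScalarTower R K Ω := IsScalarTower.of_algebraMap_eq fun _ => rfl
  refine ⟨fun h => specializes_of_fixed W hW N hN x h, fun ⟨z, hz, hs⟩ σ hσ => ?_⟩
  refine fixed_of_specializes W hW N ?_ x hx z hz hs σ hσ
  by_contra h
  exact hm (by rw [← map_natCast (IsLocalRing.residue R), IsLocalRing.residue_eq_zero_iff]; exact h)

end Groth.Agent.S4075
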