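import Groth.Statements.S4078
import Groth.Agent.L16.SerreLemma.Main

set_option autoImplicit false
universe u
open CategoryTheory CategoryTheory.Limits AlgebraicGeometry MonObj
open SGA7

namespace Groth.Agent.S4078

/-- Let k be a field, G a smooth connected commutative group scheme over k whose geometric fibre
contains no copy of the additive group (an extension of an abelian variety by a torus), n ≥ 2 an
integer and u an automorphism of the group scheme G of finite order (some positive power of u under
composition is the identity) which induces the identity on the n-torsion: for every k-scheme T and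
every T-point x of G with x^n = 1 one has u(x) = x. Then u is the identity if n ≥ 3, and u composed
with itself is the identity if n = 2. -/
theorem result (k : Type u) [Field k] (G : Over (Spec (CommRingCat.of k))) [GrpObj G]
    [IsCommMonObj G] [Smooth G.hom] [ConnectedSpace ↥G.left] (hG : SGA7.FibresUnipotentRankZero G)
    (n : ℕ) (hn : 2 ≤ n) (u : Aut G) [IsMonHom u.hom] (N : ℕ) (hN : 0 < N) (huN : u ^ N = 1)
    (hu : ∀ (T : Over (Spec (CommRingCat.of k))) (x : T ⟶ G), x ^ n = 1 → x ≫ u.hom = x) :
    (3 ≤ n → u = 1) ∧ (n = 2 → u * u = 1) := by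
  haveI := Groth.L16.SerreLemma.quasiCompact_of_connected G
  have hS := Groth.L16.SerreLemma.isSemiab_of_fibres G hG
  let U : EndAV.End G := EndAV.End.of u.hom
  have hpow : ∀ i : ℕ, (U ^ i).toHom = (u ^ i).hom := fun i => by
    induction i with
    | zero => rw [pow_zero, pow_zero, EndAV.End.toHom_one]; rfl
    | succ i ih => rw [pow_succ' u, EndAV.End.toHom_pow_succ, ih]; rfl
  have hUN : U ^ N = 1 := EndAV.End.ext (by rw [hpow, huN, EndAV.End.toHom_one]; rfl)
  have hcong : Groth.L16.SerreLemma.Cong U n := fun T x hx => hu T x hx
  refine ⟨fun h3 => Iso.ext ?_, fun h2 => Iso.ext ?_⟩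
  · have h := congrArg EndAV.End.toHom (Groth.L16.SerreLemma.eq_one_of_three_le hS h3 hcong N hN hUN)
    exact h.trans rfl
  · subst h2
    have h := congrArg EndAV.End.toHom (Groth.L16.SerreLemma.sq_eq_one_of_two hS hcong hN hUN)
    rw [hpow, pow_two] at h
    exact h.trans rfl
end Groth.Agent.S4078
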