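import Groth.Statements.S4085
import Groth.Agent.L24.Quot.FreeGlue
-- import your own Groth.Agent.* helpers here

set_option autoImplicit false
universe u
open CategoryTheory MonoidalCategory CartesianMonoidalCategory MonObj GrpObj AlgebraicGeometry CategoryTheory.Limits
open GrpQ

namespace Groth.Agent.S4085

/-- Let (U, R, s, t, c) be a groupoid scheme over S such that the source map s is finite locally free
and, for every point x of U, the set t(s⁻¹(x)) is contained in an affine open of U. Then there are a
scheme Y and a morphism p : U → Y with t ≫ p = s ≫ p which is a coequalizer of (t, s) in the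
category of schemes; p is integral, surjective and open, two points of U have the same image exactly
when they are the target and source of a point of R, the morphism R → U ×_Y U with components (t, s)
is surjective, and Y is affine when U is. (The source also shows that (Y, p) is a cokernel in all
ringed spaces.) -/
theorem result (S : Scheme.{u}) (G : Grpd.GroupoidScheme S)
    (ha : Mor2.IsFinLocFree G.s)
    (hb : ∀ x : G.U, ∃ V : G.U.Opens, IsAffineOpen V ∧ G.t.base '' (G.s.base ⁻¹' {x}) ⊆ (V : Set G.U)) :
    ∃ (Y : Scheme.{u}) (p : G.U ⟶ Y) (w : G.t ≫ p = G.s ≫ p),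
      Nonempty (IsColimit (Cofork.ofπ p w)) ∧ IsIntegralHom p ∧ Surjective p ∧ IsOpenMap p.base ∧
      (∀ x y : G.U, p.base x = p.base y ↔ ∃ r : G.R, G.t.base r = x ∧ G.s.base r = y) ∧
      Function.Surjective (pullback.lift G.t G.s w).base ∧ (IsAffine G.U → IsAffine Y) := by
  obtain ⟨_, _, _⟩ := ha
  obtain ⟨Y, p, w, hc, hint, hsurj, hopen, hfib, hpair, haff, -⟩ :=
    L24.Quot.exists_quotient (G := G) (fun x => by
      obtain ⟨V, hV, hx⟩ := hb x
      exact ⟨V, hV, fun y ⟨r, hr, hry⟩ => hx ⟨r, hr, hry⟩⟩)
  refine ⟨Y, p, w, hc, hint, hsurj, hopen, fun x y => ?_, hpair, haff⟩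
  refine (hfib x y).trans ⟨fun h => ?_, fun ⟨r, hrx, hry⟩ => ?_⟩
  · obtain ⟨r, hr, hr'⟩ := L24.Quot.rel_symm G h
    exact ⟨r, hr', hr⟩
  · exact L24.Quot.rel_symm G ⟨r, hry, hrx⟩
end Groth.Agent.S4085
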