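import Groth.Statements.S4086
import Groth.Agent.L24.Quot.FreeGlue
-- import your own Groth.Agent.* helpers here

set_option autoImplicit false
universe u
open CategoryTheory MonoidalCategory CartesianMonoidalCategory MonObj GrpObj AlgebraicGeometry CategoryTheory.Limits
open GrpQ

namespace Groth.Agent.S4086

/-- Let (U, R, s, t, c) be a groupoid scheme over S with s finite locally free and every set t(s⁻¹(x))
contained in an affine open of U, and assume that j = (t, s) : R → U ×_S U is a monomorphism. Then
for every coequalizer p : U → Y of (t, s) in schemes, the square formed by t, s, p, p is cartesian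
(R ≅ U ×_Y U) and p is finite locally free. (The source adds that Y is then the quotient sheaf for
the fppf topology and that its formation commutes with base change on Y.) -/
theorem result (S : Scheme.{u}) (G : Grpd.GroupoidScheme S)
    (ha : Mor2.IsFinLocFree G.s)
    (hb : ∀ x : G.U, ∃ V : G.U.Opens, IsAffineOpen V ∧ G.t.base '' (G.s.base ⁻¹' {x}) ⊆ (V : Set G.U))
    [Mono G.j] (Y : Scheme.{u}) (p : G.U ⟶ Y) (w : G.t ≫ p = G.s ≫ p) (hc : IsColimit (Cofork.ofπ p w)) :
    IsPullback G.t G.s p p ∧ Mor2.IsFinLocFree p := by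
  obtain ⟨_, _, _⟩ := ha
  obtain ⟨Y', p', w', ⟨hc'⟩, hpb, hfin, hflat, hfp⟩ :=
    L24.Quot.exists_free_quotient G (fun x => by
      obtain ⟨V, hV, hx⟩ := hb x
      exact ⟨V, hV, fun y ⟨r, hr, hry⟩ => hx ⟨r, hr, hry⟩⟩)
  let e := hc'.coconePointUniqueUpToIso hc
  have he : p' ≫ e.hom = p := hc'.comp_coconePointUniqueUpToIso_hom hc WalkingParallelPair.one
  refine ⟨hpb.of_iso (Iso.refl _) (Iso.refl _) (Iso.refl _) e (by simp) (by simp) (by simpa using he)
    (by simpa using he), ?_⟩
  haveI := hfin
  haveI := hflat
  haveI := hfp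
  rw [← he]
  exact ⟨inferInstance, inferInstance, inferInstance⟩
end Groth.Agent.S4086
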