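import Groth.Statements.S4088
import Groth.Agent.L24.GenQuot.ProperQS
import Groth.Agent.L24.GenQuot.GQGlue
import Groth.Agent.L24.GenQuot.ArtinTate
import Groth.Agent.L16.ProjSpace.Basic
import Groth.Agent.L18.VeryAmpleOver
import Mathlib.Topology.JacobsonSpace

set_option autoImplicit false
universe u
open CategoryTheory MonoidalCategory CartesianMonoidalCategory MonObj GrpObj AlgebraicGeometry CategoryTheory.Limits
open GrpQ

set_option linter.style.haveILetI false
set_option backward.isDefEq.respectTransparency.types false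

namespace Groth.Agent.S4088

open Groth.L24.GenQuot Groth.Agent.L24.Quot

theorem lift_map {C : Type*} [Category C] [HasPullbacks C] {T W X Z W' X' Z' : C} {f₁ : W ⟶ Z} {f₂ : X ⟶ Z}
    {g₁ : W' ⟶ Z'} {g₂ : X' ⟶ Z'} (a : T ⟶ W) (b : T ⟶ X) (h : a ≫ f₁ = b ≫ f₂) (i₁ : W ⟶ W') (i₂ : X ⟶ X')
    (i₃ : Z ⟶ Z') (e₁ : f₁ ≫ i₃ = i₁ ≫ g₁) (e₂ : f₂ ≫ i₃ = i₂ ≫ g₂) :
    pullback.lift a b h ≫ pullback.map f₁ f₂ g₁ g₂ i₁ i₂ i₃ e₁ e₂ =
      pullback.lift (a ≫ i₁) (b ≫ i₂) (by rw [Category.assoc, Category.assoc, ← e₁, ← e₂, reassoc_of% h]) := by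
  apply pullback.hom_ext
  · rw [Category.assoc, pullback.map, pullback.lift_fst, pullback.lift_fst_assoc, pullback.lift_fst]
  · rw [Category.assoc, pullback.map, pullback.lift_snd, pullback.lift_snd_assoc, pullback.lift_snd]

theorem lift_congr {C : Type*} [Category C] [HasPullbacks C] {T W X Z : C} {f : W ⟶ Z} {g : X ⟶ Z}
    {a a' : T ⟶ W} {b b' : T ⟶ X} (h : a ≫ f = b ≫ g) (h' : a' ≫ f = b' ≫ g) (ha : a = a') (hb : b = b') :
    pullback.lift a b h = pullback.lift a' b' h' := by
  subst ha hb; rfl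

theorem comp_lift {C : Type*} [Category C] [HasPullbacks C] {T' T W X Z : C} {f : W ⟶ Z} {g : X ⟶ Z}
    (k : T' ⟶ T) (a : T ⟶ W) (b : T ⟶ X) (h : a ≫ f = b ≫ g) :
    k ≫ pullback.lift a b h = pullback.lift (k ≫ a) (k ≫ b) (by rw [Category.assoc, Category.assoc, h]) := by
  apply pullback.hom_ext
  · rw [Category.assoc, pullback.lift_fst, pullback.lift_fst]
  · rw [Category.assoc, pullback.lift_snd, pullback.lift_snd]

theorem lift_eq_isoPullback {C : Type*} [Category C] [HasPullbacks C] {P W X Z : C} {a : P ⟶ W} {b : P ⟶ X}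
    {f : W ⟶ Z} {g : X ⟶ Z} (h : IsPullback a b f g) (w : a ≫ f = b ≫ g) :
    IsIso (pullback.lift a b w) := by
  rw [show pullback.lift a b w = h.isoPullback.hom from pullback.hom_ext ((pullback.lift_fst _ _ _).trans h.isoPullback_hom_fst.symm) ((pullback.lift_snd _ _ _).trans h.isoPullback_hom_snd.symm)]
  infer_instance

/-- Every point specialises to a point closed in its fibre. -/
theorem exists_closed_in_fibre {U S : Scheme.{u}} (f : U ⟶ S) [LocallyOfFiniteType f] (x : U) :
    ∃ z : U, x ⤳ z ∧ ∀ z' : U, z ⤳ z' → f z' = f z → z' = z := by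
  haveI : LocallyOfFiniteType (f.fiberToSpecResidueField (f x)) :=
    MorphismProperty.pullback_snd f (S.fromSpecResidueField (f x)) inferInstance
  haveI : JacobsonSpace (f.fiber (f x)) := LocallyOfFiniteType.jacobsonSpace (f.fiberToSpecResidueField (f x))
  obtain ⟨w, hw, hwc⟩ := nonempty_inter_closedPoints (X := f.fiber (f x)) (Z := closure {f.asFiber x})
    ⟨_, subset_closure rfl⟩ isClosed_closure.isLocallyClosed
  refine ⟨f.fiberι (f x) w, ?_, fun z' hz' he => ?_⟩
  · have := (specializes_iff_mem_closure.2 hw).map (f.fiberι (f x)).continuous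
    rwa [f.fiberι_asFiber] at this
  · have h1 : f.fiberι (f x) w ∈ Set.range (f.fiberι (f x)) := ⟨w, rfl⟩
    rw [f.range_fiberι] at h1
    obtain ⟨w', rfl⟩ : z' ∈ Set.range (f.fiberι (f x)) := by
      rw [f.range_fiberι]; exact he.trans h1
    refine congrArg _ ?_
    exact Set.mem_singleton_iff.1 ((hwc.closure_eq).le (specializes_iff_mem_closure.1
      ((f.fiberι (f x)).isEmbedding.isInducing.specializes_iff.1 hz')))

/-- With the object scheme assumed to admit an S-immersion into some P^n_S (a special case of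
quasi-projective): let S be locally noetherian and (U, R, s, t, c) a groupoid scheme over S such
that s is proper and flat, U admits an immersion e into P^n_S over S, and j = (t, s) : R → U ×_S U
is quasi-finite (locally quasi-finite and locally of finite type). Then (t, s) has a coequalizer p :
U → Y in schemes together with q : Y → S through which U → S factors; p is surjective, open, proper
and of finite presentation, q is separated and of finite presentation; R → U ×_Y U is surjective;
and if j is a monomorphism then R ≅ U ×_Y U and p is flat. -/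
theorem result (S : Scheme.{u}) [IsLocallyNoetherian S] (G : Grpd.GroupoidScheme S)
    [IsProper G.s] [Flat G.s] (n : ℕ) (e : G.U ⟶ CohB1.ProjSpaceOver n S) [IsImmersion e]
    (he : e ≫ CohB1.ProjSpaceOver.toBase n S = G.pU) [LocallyQuasiFinite G.j] [LocallyOfFiniteType G.j] :
    ∃ (Y : Scheme.{u}) (p : G.U ⟶ Y) (w : G.t ≫ p = G.s ≫ p) (q : Y ⟶ S),
      Nonempty (IsColimit (Cofork.ofπ p w)) ∧ p ≫ q = G.pU ∧ Surjective p ∧ IsOpenMap p.base ∧ IsProper p ∧
      LocallyOfFinitePresentation p ∧ IsSeparated q ∧ LocallyOfFinitePresentation q ∧ QuasiCompact q ∧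
      Function.Surjective (pullback.lift G.t G.s w).base ∧
      (Mono G.j → IsPullback G.t G.s p p ∧ Flat p) := by
  haveI : IsLocallyNoetherian (CohB1.ProjSpaceOver n S) :=
    LocallyOfFiniteType.isLocallyNoetherian (CohB1.ProjSpaceOver.toBase n S)
  haveI : LocallyOfFiniteType G.pU := by rw [← he]; infer_instance
  haveI : QuasiCompact e := by rw [← e.liftCoborder_ι]; infer_instance
  haveI : QuasiCompact (CohB1.ProjSpaceOver.toBase n S) := inferInstance
  haveI : QuasiCompact G.pU := by rw [← he]; infer_instance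
  haveI : IsSeparated G.pU := by rw [← he]; infer_instance
  haveI : IsLocallyNoetherian G.U := LocallyOfFiniteType.isLocallyNoetherian G.pU
  haveI : IsIso G.i := ⟨G.i, L02.CMMor.i_i G, L02.CMMor.i_i G⟩
  haveI : Flat G.t := by rw [← G.i_s]; infer_instance
  haveI : IsProper G.t := by rw [← G.i_s]; infer_instance
  haveI : LocallyOfFinitePresentation G.t :=
    LocallyOfFinitePresentation.iff_locallyOfFiniteType.mpr inferInstance
  have hU : RelProj.IsQuasiProjective G.pU := ⟨inferInstance, inferInstance,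
    Groth.L18.VeryAmpleOver.exists_isRelAmple_of_isRelVeryAmplePn G.pU ⟨n, e, ‹_›, he, ⟨Iso.refl _⟩⟩⟩
  have hcover : ∀ x : G.U, ∃ W : G.U.Opens, x ∈ W ∧ HasQS G W := fun x => by
    obtain ⟨z, hxz, hz⟩ := exists_closed_in_fibre G.pU x
    obtain ⟨W, hzW, hW⟩ := exists_hasQS_proper G hU z hz
    exact ⟨W, hxz.mem_open W.isOpen hzW, hW⟩
  choose W hxW hqs using hcover
  choose Yl pl hgq huc hls hsec hmono using fun x => exists_isGQ_of_hasQS G (W x) (hqs x) G.t.isOpenMap
  obtain ⟨Y, p, w, hcol, hps, hpo, hfib, hloc⟩ :=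
    exists_glued_quotient (G := G) fun x => ⟨⟨W x, Yl x, pl x, hgq x⟩, hxW x⟩
  choose em hι hsq using fun x => hloc (W x) (Yl x) (pl x) (hgq x)
  haveI := hι
  obtain ⟨c⟩ := id hcol
  obtain ⟨q, hq⟩ := Cofork.IsColimit.desc' c G.pU (G.t_over.trans G.s_over.symm)
  change Y ⟶ S at q
  change p ≫ q = G.pU at hq
  have hmem : ∀ x, p x ∈ (em x).opensRange := fun x => by
    refine ⟨pl x ⟨x, hxW x⟩, ?_⟩
    rw [← Scheme.Hom.comp_apply, (hsq x).w]
    rfl
  have htop : ⨆ x, (em x).opensRange = ⊤ := eq_top_iff.2 fun y _ => by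
    obtain ⟨x, rfl⟩ := hps.surj y
    exact TopologicalSpace.Opens.mem_iSup.2 ⟨x, hmem x⟩
  have local_target : ∀ (P : MorphismProperty Scheme.{u}) [IsZariskiLocalAtTarget P],
      (∀ x, P (pl x)) → P p := by
    intro P _ h
    refine IsZariskiLocalAtTarget.of_openCover (P := P) (Y.openCoverOfIsOpenCover _ htop) fun x => ?_
    show P (pullback.snd p (em x).opensRange.ι)
    have sq' : IsPullback (pl x ≫ (em x).isoOpensRange.hom) (W x).ι (em x).opensRange.ι p :=
      (hsq x).of_iso (Iso.refl _) (em x).isoOpensRange (Iso.refl _) (Iso.refl _) (by simp) (by simp) (by simp) (by simp)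
    have h' : P (pl x ≫ (em x).isoOpensRange.hom) := (P.cancel_right_of_respectsIso _ _).2 (h x)
    rw [← sq'.flip.isoPullback_hom_snd] at h'
    exact (P.cancel_left_of_respectsIso _ _).1 h'
  haveI : UniversallyClosed p := local_target @UniversallyClosed huc
  haveI : LocallyOfFiniteType (p ≫ q) := by rw [hq]; infer_instance
  haveI : LocallyOfFiniteType p := locallyOfFiniteType_of_comp p q
  haveI : IsSeparated (p ≫ q) := by rw [hq]; infer_instance
  haveI : IsSeparated p := IsSeparated.of_comp p q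
  haveI : IsProper p := {}
  haveI := hps
  haveI : QuasiCompact (p ≫ q) := by rw [hq]; infer_instance
  haveI : QuasiCompact q := quasiCompact_iff_forall_isAffineOpen.mpr fun V hV => by
    rw [show ((q ⁻¹ᵁ V : Y.Opens) : Set Y) = p '' (((p ≫ q) ⁻¹ᵁ V : G.U.Opens) : Set G.U) from
      (Set.image_preimage_eq _ hps.surj).symm]
    exact ((p ≫ q).isCompact_preimage hV.isCompact).image p.continuous
  have hlq : ∀ x : G.U, LocallyOfFiniteType (em x ≫ q) := fun x => by
    obtain ⟨U', u, hu, hu', hint, hσf, hσs⟩ := hsec x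
    change U' ⟶ (W x).toScheme at u
    let qx := em x ≫ q
    have hqx : pl x ≫ qx = (W x).ι ≫ G.pU := by simp only [qx, ← hq, reassoc_of% (hsq x).w]
    haveI : IsImmersion (u ≫ (W x).ι) := hu'
    haveI : LocallyOfFiniteType ((u ≫ pl x) ≫ qx) := by
      rw [Category.assoc, hqx, ← Category.assoc]; infer_instance
    haveI : LocallyOfFiniteType (u ≫ pl x) := locallyOfFiniteType_of_comp (u ≫ pl x) qx
    haveI : IsFinite (u ≫ pl x) := (IsFinite.iff_isIntegralHom_and_locallyOfFiniteType _).2 ⟨hint, inferInstance⟩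
    haveI : IsSchemeTheoreticallyDominant (u ≫ pl x) := by
      let σ' := pullback.fst (tW G (W x) (hqs x).1.symm) u ≫ sW G (W x)
      change Mor2.IsFinLocFree σ' at hσf
      change Surjective σ' at hσs
      obtain ⟨_, _, _⟩ := hσf
      haveI := hσs
      have wl : tW G (W x) (hqs x).1.symm ≫ pl x = sW G (W x) ≫ pl x :=
        (hgq x).inv _ _ _ (tW_ι G _ _).symm (sW_ι G _).symm
      let f := u ≫ pl x
      let τ := pullback.snd (tW G (W x) (hqs x).1.symm) u
      have hp : σ' ≫ pl x = τ ≫ f := by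
        simp only [σ', τ, f, Category.assoc, ← pullback.condition_assoc, wl]
      obtain ⟨g, hg⟩ : ∃ g, σ' ≫ g = τ ≫ f.toImage :=
        ⟨EffectiveEpi.desc _ (τ ≫ f.toImage) fun g₁ g₂ hgg => by
          rw [← cancel_mono f.imageι]
          simp only [Category.assoc, Scheme.Hom.toImage_imageι, ← hp]
          rw [reassoc_of% hgg], EffectiveEpi.fac _ _ _⟩
      have hg' : g ≫ f.imageι = pl x := by
        rw [← cancel_epi σ', ← Category.assoc, hg, Category.assoc, Scheme.Hom.toImage_imageι, hp]
      obtain ⟨h, hh, -⟩ := (hgq x).desc_top g (fun T a b r ha hb => by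
        rw [← cancel_mono f.imageι, Category.assoc, Category.assoc, hg']
        exact (hgq x).inv a b r ha hb)
      refine dominant_of_split f h ((hgq x).hom_ext ?_)
      rw [reassoc_of% hh, Category.comp_id]
      exact hg'
    haveI : LocallyOfFiniteType qx := lft_of_finite_dominant (u ≫ pl x) qx
    exact this
  haveI : LocallyOfFiniteType q := by
    refine IsZariskiLocalAtSource.of_openCover (P := @LocallyOfFiniteType) (Y.openCoverOfIsOpenCover _ htop) fun x => ?_
    show LocallyOfFiniteType ((em x).opensRange.ι ≫ q)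
    haveI := hlq x
    rw [← (em x).isoOpensRange_inv_comp, Category.assoc]
    infer_instance
  haveI : IsLocallyNoetherian Y := LocallyOfFiniteType.isLocallyNoetherian q
  have hj : G.j ≫ pullback.map G.pU G.pU q q p p (𝟙 S) (by simp [hq]) (by simp [hq]) =
      (G.t ≫ p) ≫ pullback.diagonal q := by
    rw [Grpd.GroupoidScheme.j, lift_map]
    apply pullback.hom_ext
    · rw [pullback.lift_fst, Category.assoc, pullback.diagonal_fst, Category.comp_id]
    · rw [pullback.lift_snd, Category.assoc, pullback.diagonal_snd, Category.comp_id, w]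
  haveI : IsSeparated q := by
    haveI : IsProper (G.j ≫ pullback.snd G.pU G.pU) := by
      simp only [Grpd.GroupoidScheme.j, pullback.lift_snd]; infer_instance
    haveI : IsProper G.j := IsProper.of_comp G.j (pullback.snd G.pU G.pU)
    haveI : UniversallyClosed (pullback.map G.pU G.pU q q p p (𝟙 S) (by simp [hq]) (by simp [hq])) :=
      MorphismProperty.pullbackMap (P := @UniversallyClosed) inferInstance inferInstance hq.symm hq.symm
    haveI : UniversallyClosed ((G.t ≫ p) ≫ pullback.diagonal q) := by rw [← hj]; infer_instance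
    haveI : Surjective G.t := ⟨fun x => ⟨G.e x, congrArg (fun m : G.U ⟶ G.U => m x) G.e_t⟩⟩
    haveI : Surjective (G.t ≫ p) := inferInstance
    have hr : Set.range (pullback.diagonal q) = Set.range ((G.t ≫ p) ≫ pullback.diagonal q) := by
      rw [Scheme.Hom.comp_base, TopCat.coe_comp, Set.range_comp _ (G.t ≫ p).base,
        (Surjective.surj : Function.Surjective (G.t ≫ p)).range_eq, Set.image_univ]
    refine ⟨IsClosedImmersion.of_isPreimmersion _ ?_⟩
    rw [hr]
    exact ((G.t ≫ p) ≫ pullback.diagonal q).isClosedMap.isClosed_range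
  have hpl : ∀ z : ↑(pullback p p), ∃ x, pullback.fst p p z ∈ W x ∧ pullback.snd p p z ∈ W x := fun z => by
    refine ⟨pullback.fst p p z, hxW _, (hgq _).sat_mem ((hfib _ _).1 ?_) (hxW _)⟩
    rw [← Scheme.Hom.comp_apply, pullback.condition]
    rfl
  let mp : ∀ x, pullback (pl x) (pl x) ⟶ pullback p p := fun x =>
    pullback.map _ _ _ _ (W x).ι (W x).ι (em x) (hsq x).w (hsq x).w
  have hmp : ∀ x z, pullback.fst p p z ∈ W x → pullback.snd p p z ∈ W x → z ∈ Set.range (mp x) := by
    intro x z h1 h2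
    haveI : Mono (em x) := inferInstance
    rw [Scheme.Pullback.range_map]
    exact ⟨by rwa [Scheme.Opens.range_ι], by rwa [Scheme.Opens.range_ι]⟩
  have wl : ∀ x, tW G (W x) (hqs x).1.symm ≫ pl x = sW G (W x) ≫ pl x := fun x =>
    (hgq x).inv _ _ _ (tW_ι G _ _).symm (sW_ι G _).symm
  have hmpl : ∀ x, pullback.lift (tW G (W x) (hqs x).1.symm) (sW G (W x)) (wl x) ≫ mp x =
      (G.s ⁻¹ᵁ W x).ι ≫ pullback.lift G.t G.s w := fun x => by
    simp only [mp]
    rw [lift_map, comp_lift]
    exact lift_congr _ _ (tW_ι G _ _) (sW_ι G _)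
  refine ⟨Y, p, w, q, hcol, hq, hps, hpo, inferInstance, ?_, inferInstance, ?_, inferInstance, ?_, fun hm => ?_⟩
  · exact LocallyOfFinitePresentation.iff_locallyOfFiniteType.mpr inferInstance
  · exact LocallyOfFinitePresentation.iff_locallyOfFiniteType.mpr inferInstance
  · intro z
    obtain ⟨x, h1, h2⟩ := hpl z
    obtain ⟨z', rfl⟩ := hmp x z h1 h2
    obtain ⟨r, rfl⟩ := hls x (wl x) z'
    exact ⟨(G.s ⁻¹ᵁ W x).ι r, (congrArg (fun f : (G.s ⁻¹ᵁ W x).toScheme ⟶ pullback p p => f r) (hmpl x)).symm⟩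
  · refine ⟨?_, local_target @Flat fun x => (hmono x hm).2⟩
    let L := pullback.lift G.t G.s w
    haveI : Mono L := by
      haveI : Mono (L ≫ pullback.map p p G.pU G.pU (𝟙 _) (𝟙 _) q (by simp [hq]) (by simp [hq])) := by
        have : L ≫ pullback.map p p G.pU G.pU (𝟙 _) (𝟙 _) q (by simp [hq]) (by simp [hq]) = G.j := by
          rw [lift_map, Grpd.GroupoidScheme.j]
          exact lift_congr _ _ (Category.comp_id _) (Category.comp_id _)
        rw [this]; exact hm
      exact mono_of_mono L (pullback.map p p G.pU G.pU (𝟙 _) (𝟙 _) q _ _)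
    let O : G.U → (pullback p p).Opens := fun x => pullback.fst p p ⁻¹ᵁ W x ⊓ pullback.snd p p ⁻¹ᵁ W x
    have hO : ∀ x, ∃ r : (O x).toScheme ⟶ G.R, r ≫ L = (O x).ι := by
      intro x
      haveI : IsIso (pullback.lift (tW G (W x) (hqs x).1.symm) (sW G (W x)) (wl x)) :=
        lift_eq_isoPullback (hmono x hm).1 (wl x)
      haveI : Mono (em x) := inferInstance
      haveI : IsOpenImmersion (mp x) := inferInstanceAs (IsOpenImmersion (pullback.map _ _ _ _ _ _ _ _ _))
      have hr : Set.range (O x).ι ⊆ Set.range (mp x) := by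
        rintro _ ⟨z, rfl⟩
        exact hmp x _ z.2.1 z.2.2
      refine ⟨IsOpenImmersion.lift (mp x) (O x).ι hr ≫
        CategoryTheory.inv (pullback.lift (tW G (W x) (hqs x).1.symm) (sW G (W x)) (wl x)) ≫ (G.s ⁻¹ᵁ W x).ι, ?_⟩
      simp only [L, Category.assoc, ← hmpl, IsIso.inv_hom_id_assoc, IsOpenImmersion.lift_fac]
    choose r hr using hO
    obtain ⟨R', hR'⟩ := exists_glue O (fun z => (hpl z).imp fun x h => h) r fun a b => by
      rw [← cancel_mono L, Category.assoc, Category.assoc, hr, hr, Scheme.homOfLE_ι, Scheme.homOfLE_ι]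
    have h1 : R' ≫ L = 𝟙 _ := Scheme.hom_ext_of_forall _ _ fun z => by
      obtain ⟨x, hx⟩ := hpl z
      exact ⟨O x, hx, by rw [reassoc_of% hR', hr, Category.comp_id]⟩
    haveI : IsIso L := ⟨R', by rw [← cancel_mono L, Category.assoc, h1, Category.comp_id, Category.id_comp], h1⟩
    exact IsPullback.of_iso_pullback ⟨w⟩ (asIso L) (pullback.lift_fst _ _ _) (pullback.lift_snd _ _ _)

end Groth.Agent.S4088
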