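import Groth.Statements.S4091
import Groth.Agent.L24.Alg.SourceFppf

set_option autoImplicit false
universe u
open CategoryTheory MonoidalCategory CartesianMonoidalCategory MonObj GrpObj AlgebraicGeometry CategoryTheory.Limits
open GrpQ

namespace Groth.Agent.S4091

/-- Let p : X → Y and q : Y → S be morphisms of schemes with p surjective, flat and of finite
presentation. If p ≫ q is of finite type then q is of finite type; if p ≫ q is of finite
presentation then q is of finite presentation. -/
theorem result {X Y S : Scheme.{u}} (p : X ⟶ Y) (q : Y ⟶ S)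
    [Surjective p] [Flat p] [LocallyOfFinitePresentation p] [QuasiCompact p] [QuasiSeparated p] :
    ((LocallyOfFiniteType (p ≫ q) ∧ QuasiCompact (p ≫ q)) → (LocallyOfFiniteType q ∧ QuasiCompact q)) ∧
    ((LocallyOfFinitePresentation (p ≫ q) ∧ QuasiCompact (p ≫ q) ∧ QuasiSeparated (p ≫ q)) →
      (LocallyOfFinitePresentation q ∧ QuasiCompact q ∧ QuasiSeparated q)) := by
  have hqc : ∀ {A B C : Scheme.{u}} (a : A ⟶ B) (b : B ⟶ C), Surjective a → QuasiCompact (a ≫ b) → QuasiCompact b := by
    intro A B C a b ha h
    refine ⟨fun U hU hU' => ?_⟩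
    have h' := h.isCompact_preimage U hU hU'
    have e : (b : B → C) ⁻¹' U = (a : A → B) '' ((a ≫ b) ⁻¹' U) := by
      rw [Scheme.Hom.comp_base]
      exact (Function.Surjective.image_preimage ha.surj _).symm
    rw [e]
    exact h'.image a.continuous
  refine ⟨fun h => ⟨Groth.L24.Alg.locallyOfFiniteType_of_fppf_comp p q h.1, hqc p q inferInstance h.2⟩,
    fun h => ⟨Groth.L24.Alg.locallyOfFinitePresentation_of_fppf_comp p q h.1, hqc p q inferInstance h.2.1, ⟨?_⟩⟩⟩
  refine hqc p (pullback.diagonal q) inferInstance ?_
  have e : p ≫ pullback.diagonal q = pullback.diagonal (p ≫ q) ≫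
      pullback.map (p ≫ q) (p ≫ q) q q p p (𝟙 _) (by simp) (by simp) := by
    apply pullback.hom_ext
    · rw [Category.assoc, Category.assoc, pullback.diagonal_fst, Category.comp_id]
      erw [pullback.lift_fst, ← Category.assoc, pullback.diagonal_fst, Category.id_comp]
    · rw [Category.assoc, Category.assoc, pullback.diagonal_snd, Category.comp_id]
      erw [pullback.lift_snd, ← Category.assoc, pullback.diagonal_snd, Category.id_comp]
  have h3 := h.2.2.quasiCompact_diagonal
  have hm : QuasiCompact (pullback.map (p ≫ q) (p ≫ q) q q p p (𝟙 _) (by simp) (by simp)) :=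
    MorphismProperty.pullback_map (P := @QuasiCompact) (by assumption) (by assumption) rfl rfl
  rw [e]
  infer_instance

end Groth.Agent.S4091
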