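import Groth.Statements.S4092
import Groth.Agent.L24.Mono.Factor
-- import your own Groth.Agent.* helpers here

set_option autoImplicit false
universe u
open CategoryTheory MonoidalCategory CartesianMonoidalCategory MonObj GrpObj AlgebraicGeometry CategoryTheory.Limits
open GrpQ

namespace Groth.Agent.S4092

/-- Let f : X → Y be a morphism of schemes which is locally of finite presentation. Then f factors as f
= f'' ∘ f' with f' : X → X' surjective, flat and locally of finite presentation and f'' : X' → Y a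
monomorphism if and only if the first projection X ×_Y X → X is flat. Moreover two such
factorisations are isomorphic: there is an isomorphism of the middle schemes compatible with both
maps. -/
theorem result {X Y : Scheme.{u}} (f : X ⟶ Y) [LocallyOfFinitePresentation f] :
    ((∃ (X' : Scheme.{u}) (f' : X ⟶ X') (f'' : X' ⟶ Y),
        Surjective f' ∧ Flat f' ∧ LocallyOfFinitePresentation f' ∧ Mono f'' ∧ f' ≫ f'' = f) ↔
      Flat (pullback.fst f f)) ∧
    (∀ (X₁ X₂ : Scheme.{u}) (g₁ : X ⟶ X₁) (h₁ : X₁ ⟶ Y) (g₂ : X ⟶ X₂) (h₂ : X₂ ⟶ Y),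
      Surjective g₁ → Flat g₁ → LocallyOfFinitePresentation g₁ → Mono h₁ → g₁ ≫ h₁ = f →
      Surjective g₂ → Flat g₂ → LocallyOfFinitePresentation g₂ → Mono h₂ → g₂ ≫ h₂ = f →
      ∃ φ : X₁ ≅ X₂, g₁ ≫ φ.hom = g₂ ∧ φ.hom ≫ h₂ = h₁) := by
  constructor
  · constructor
    · rintro ⟨X', f', f'', -, hfl, -, hm, rfl⟩
      have sq : IsPullback (pullback.fst (f' ≫ f'') (f' ≫ f'')) (pullback.snd (f' ≫ f'') (f' ≫ f'')) f' f' :=
        IsPullback.of_isLimit (PullbackCone.IsLimit.mk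
          (by rw [← cancel_mono f'', Category.assoc, Category.assoc]; exact pullback.condition)
          (fun c => pullback.lift c.fst c.snd (c.condition_assoc f''))
          (fun c => pullback.lift_fst _ _ _) (fun c => pullback.lift_snd _ _ _)
          (fun c m h₁ h₂ => pullback.hom_ext (by rw [pullback.lift_fst]; exact h₁)
            (by rw [pullback.lift_snd]; exact h₂)))
      exact MorphismProperty.of_isPullback (P := @Flat) sq.flip hfl
    · intro hflat
      let a : (Over.mk f : Over Y) ⟶ Over.mk (𝟙 Y) := Over.homMk f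
      haveI : LocallyOfFinitePresentation a.left := inferInstanceAs (LocallyOfFinitePresentation f)
      obtain ⟨G₀, f', f'', hs, hf, hp, hm, he⟩ := Groth.L24.MonoFac.exists_factor a hflat
      exact ⟨G₀.left, f'.left, f''.left, hs, hf, hp, hm, congrArg (fun g => g.left) he⟩
  · intro X₁ X₂ g₁ h₁ g₂ h₂ _ _ _ _ e₁ _ _ _ _ e₂
    have key : ∀ {X₁ X₂ : Scheme.{u}} (g₁ : X ⟶ X₁) (h₁ : X₁ ⟶ Y) (g₂ : X ⟶ X₂) (h₂ : X₂ ⟶ Y)
        [Surjective g₁] [Flat g₁] [LocallyOfFinitePresentation g₁] [Mono h₂],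
        g₁ ≫ h₁ = f → g₂ ≫ h₂ = f → ∃ φ : X₁ ⟶ X₂, g₁ ≫ φ = g₂ := by
      intro X₁ X₂ g₁ h₁ g₂ h₂ _ _ _ _ e₁ e₂
      refine ⟨EffectiveEpi.desc g₁ g₂ fun u v huv => ?_, EffectiveEpi.fac _ _ _⟩
      rw [← cancel_mono h₂, Category.assoc, Category.assoc, e₂, ← e₁, reassoc_of% huv]
    obtain ⟨φ, hφ⟩ := key g₁ h₁ g₂ h₂ e₁ e₂
    obtain ⟨ψ, hψ⟩ := key g₂ h₂ g₁ h₁ e₂ e₁
    refine ⟨⟨φ, ψ, ?_, ?_⟩, hφ, ?_⟩
    · rw [← cancel_epi g₁, reassoc_of% hφ, hψ, Category.comp_id]
    · rw [← cancel_epi g₂, reassoc_of% hψ, hφ, Category.comp_id]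
    · show φ ≫ h₂ = h₁
      rw [← cancel_epi g₁, reassoc_of% hφ, e₂, e₁]

end Groth.Agent.S4092
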