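import Groth.Statements.S4093
import Groth.Agent.L24.Mono.Over
-- import your own Groth.Agent.* helpers here

set_option autoImplicit false
universe u
open CategoryTheory MonoidalCategory CartesianMonoidalCategory MonObj GrpObj AlgebraicGeometry CategoryTheory.Limits
open GrpQ

namespace Groth.Agent.S4093

/-- Case a: ): let S be a scheme, G an S-group scheme locally of finite presentation over S acting on an
S-scheme X which is locally of finite type over S, and ξ an S-point of X whose stabilizer H (the
fibre of the orbit map g ↦ g·ξ over ξ) is flat over S. Then there are an S-scheme Q, locally of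
finite presentation over S, and a factorisation of the orbit map as p : G → Q followed by i : Q → X,
where p is surjective, flat and locally of finite presentation and i is a monomorphism; moreover the
square formed by (g, h) ↦ g·h, the first projection G ×_S H → G and p is cartesian (Q is the
quotient G/H). -/
theorem result (S : Scheme.{u}) (G X : Over S) [GrpObj G]
    [LocallyOfFinitePresentation G.hom] [LocallyOfFiniteType X.hom] (a : AlgGrp.Action G X)
    (ξ : 𝟙_ (Over S) ⟶ X) (hH : Flat (pullback (a.orbitMap ξ) ξ).hom) :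
    ∃ (Q : Over S) (p : G ⟶ Q) (i : Q ⟶ X), p ≫ i = a.orbitMap ξ ∧
      Surjective p.left ∧ Flat p.left ∧ LocallyOfFinitePresentation p.left ∧ Mono i ∧
      LocallyOfFinitePresentation Q.hom ∧
      IsPullback ((G ◁ pullback.fst (a.orbitMap ξ) ξ) ≫ μ[G]) (fst G (pullback (a.orbitMap ξ) ξ)) p p := by
  let j := pullback.fst (a.orbitMap ξ) ξ
  have ho : ∀ {T : Over S} (g : T ⟶ G), g ≫ a.orbitMap ξ = lift g (toUnit T ≫ ξ) ≫ a.act := fun g => by
    rw [AlgGrp.Action.orbitMap, comp_lift_assoc, Category.comp_id, comp_toUnit_assoc]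
  have hmul : ∀ {T : Over S} (g : T ⟶ G) (h : T ⟶ pullback (a.orbitMap ξ) ξ),
      lift g h ≫ (G ◁ j) ≫ μ[G] = g * (h ≫ j) := fun g h => by
    rw [lift_whiskerLeft_assoc, Hom.mul_def]
  have hfix : ∀ {T : Over S} (h : T ⟶ pullback (a.orbitMap ξ) ξ),
      lift (h ≫ j) (toUnit T ≫ ξ) ≫ a.act = toUnit T ≫ ξ := fun h => by
    rw [← ho, Category.assoc, pullback.condition, ← Category.assoc]
    congr 1
    exact toUnit_unique _ _
  have sq : IsPullback ((G ◁ j) ≫ μ[G]) (fst G (pullback (a.orbitMap ξ) ξ)) (a.orbitMap ξ) (a.orbitMap ξ) := by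
    refine IsPullback.mk' ?_ (fun T φ ψ h₁ h₂ => ?_) (fun T u v e => ?_)
    · have e := hmul (fst G (pullback (a.orbitMap ξ) ξ)) (snd G _)
      rw [lift_fst_snd, Category.id_comp] at e
      rw [e, ho, ho, Groth.L25.Actions.mul_act, hfix]
    · apply CartesianMonoidalCategory.hom_ext
      · exact h₂
      · apply pullback.hom_ext
        · have e₁ : ∀ χ : T ⟶ G ⊗ pullback (a.orbitMap ξ) ξ,
              χ ≫ (G ◁ j) ≫ μ[G] = (χ ≫ fst _ _) * ((χ ≫ snd _ _) ≫ j) := fun χ => by
            rw [← hmul, lift_comp_fst_snd]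
          rw [e₁, e₁, h₂] at h₁
          exact mul_left_cancel h₁
        · exact toUnit_unique _ _
    · have e' : (v⁻¹ * u) ≫ a.orbitMap ξ = toUnit T ≫ ξ := by
        rw [ho, Groth.L25.Actions.mul_act, ← ho u, e, ho v, Groth.L25.Actions.inv_act]
      refine ⟨lift v (pullback.lift (v⁻¹ * u) (toUnit T) e'), ?_, lift_fst _ _⟩
      rw [hmul, pullback.lift_fst, mul_inv_cancel_left]
  exact Groth.L24.MonoFac.exists_factor_over (a.orbitMap ξ) sq
    (MorphismProperty.of_isPullback (P := @Flat) (Groth.L25.Actions.isPullback_snd G _).flip hH)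

end Groth.Agent.S4093
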