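import Groth.Statements.S4095
import Groth.Agent.L24.GenQuot.Act
import Groth.Agent.S4089

set_option autoImplicit false
set_option linter.style.haveILetI false
universe u
open CategoryTheory MonoidalCategory CartesianMonoidalCategory MonObj GrpObj AlgebraicGeometry CategoryTheory.Limits
open GrpQ

namespace Groth.Agent.S4095

/-- Let S be noetherian, G an S-group scheme flat and of finite type over S acting on an S-scheme X of
finite type, with action d₀ : G ×_S X → X and projection d₁, and suppose the stabilizer F of the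
diagonal (the pullback of (d₀, d₁) : G ×_S X → X ×_S X along the diagonal) is quasi-finite over X.
Then there is a dense open U of X, saturated (d₀⁻¹(U) = d₁⁻¹(U)), such that the pair d₀|, d₁| :
d₁⁻¹(U) ⇉ U has a coequalizer p : U → V in schemes, with V of finite presentation over S and p
surjective, open and of finite presentation, and d₁⁻¹(U) → U ×_V U surjective; if moreover G acts
freely ((d₀, d₁) a monomorphism) then d₁⁻¹(U) ≅ U ×_V U via (d₀, d₁) and p is faithfully flat (U is
a G-torsor over V for the fppf topology). -/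
theorem result (S : Scheme.{u}) [IsNoetherian S] (G X : Over S) [GrpObj G]
    [Flat G.hom] [LocallyOfFiniteType G.hom] [QuasiCompact G.hom] [LocallyOfFiniteType X.hom] [QuasiCompact X.hom]
    (a : AlgGrp.Action G X)
    (hF : LocallyQuasiFinite (pullback.snd (lift a.act (snd G X)) (lift (𝟙 X) (𝟙 X))).left) :
    ∃ (U : X.left.Opens) (hU : a.act.left ⁻¹ᵁ U = (snd G X).left ⁻¹ᵁ U), Dense (U : Set X.left) ∧
      ∃ (V : Scheme.{u}) (p : (U : Scheme.{u}) ⟶ V)
        (w : a.act.left.resLE U ((snd G X).left ⁻¹ᵁ U) hU.ge ≫ p = ((snd G X).left ∣_ U) ≫ p) (q : V ⟶ S),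
        Nonempty (IsColimit (Cofork.ofπ p w)) ∧ p ≫ q = U.ι ≫ X.hom ∧
        Surjective p ∧ IsOpenMap p.base ∧ LocallyOfFinitePresentation p ∧
        LocallyOfFinitePresentation q ∧ QuasiCompact q ∧ QuasiSeparated q ∧
        Function.Surjective (pullback.lift (a.act.left.resLE U ((snd G X).left ⁻¹ᵁ U) hU.ge) ((snd G X).left ∣_ U) w).base ∧
        (Mono (lift a.act (snd G X)) →
          IsPullback (a.act.left.resLE U ((snd G X).left ⁻¹ᵁ U) hU.ge) ((snd G X).left ∣_ U) p p ∧ Flat p) := by
  let H := Groth.L24.GenQuot.actGrpd a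
  haveI : Flat H.s := inferInstanceAs (Flat (pullback.snd G.hom X.hom))
  haveI : LocallyOfFiniteType H.s := inferInstanceAs (LocallyOfFiniteType (pullback.snd G.hom X.hom))
  haveI : QuasiCompact H.s := inferInstanceAs (QuasiCompact (pullback.snd G.hom X.hom))
  haveI : LocallyOfFiniteType H.pU := inferInstanceAs (LocallyOfFiniteType X.hom)
  haveI : QuasiCompact H.pU := inferInstanceAs (QuasiCompact X.hom)
  have hj : H.j = (lift a.act (snd G X)).left := rfl
  have hd : H.diag = (lift (𝟙 X) (𝟙 X)).left := rfl
  haveI : LocallyQuasiFinite H.stabilizerToU := by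
    have sq := (IsPullback.of_hasPullback (lift a.act (snd G X)) (lift (𝟙 X) (𝟙 X))).map (Over.forget S)
    have h := sq.isoPullback_inv_snd
    show LocallyQuasiFinite (pullback.snd (lift a.act (snd G X)).left (lift (𝟙 X) (𝟙 X)).left)
    rw [show pullback.snd (lift a.act (snd G X)).left (lift (𝟙 X) (𝟙 X)).left =
      sq.isoPullback.inv ≫ (pullback.snd (lift a.act (snd G X)) (lift (𝟙 X) (𝟙 X))).left from h.symm]
    have hi : LocallyQuasiFinite sq.isoPullback.inv := inferInstance
    exact MorphismProperty.comp_mem (W := @LocallyQuasiFinite.{u}) _ _ hi hF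
  haveI : LocallyQuasiFinite H.j := Groth.L24.GenQuot.lqf_j H
  haveI : LocallyOfFiniteType H.j := by
    haveI : LocallyOfFiniteType (H.j ≫ pullback.snd H.pU H.pU) := by
      rw [show H.j ≫ pullback.snd H.pU H.pU = H.s from pullback.lift_snd _ _ _]; infer_instance
    exact locallyOfFiniteType_of_comp H.j (pullback.snd H.pU H.pU)
  obtain ⟨W, hW, hd, V, p, w, q, hc, hpq, h1, h2, h3, h4, h5, h6, h7, h8⟩ := Groth.Agent.S4089.result S H
  refine ⟨W, hW, hd, V, p, w, q, hc, hpq, h1, h2, h3, h4, h5, h6, h7, fun hm => ?_⟩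
  exact h8 (show Mono (lift a.act (snd G X)).left from inferInstance)

end Groth.Agent.S4095
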