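import Groth.Statements.S4096
import Groth.Agent.L24.Mono.Over
import Groth.Agent.L24.LocQ.Descent
-- import your own Groth.Agent.* helpers here

set_option autoImplicit false
universe u
open CategoryTheory MonoidalCategory CartesianMonoidalCategory MonObj GrpObj AlgebraicGeometry CategoryTheory.Limits
open GrpQ

namespace Groth.Agent.S4096

/-- Let S be noetherian, G an S-group scheme flat and of finite type acting on an S-scheme X of finite
type, d = (d₀, d₁) : G ×_S X → X ×_S X, and F the stabilizer of the diagonal. Then a) d factors as ψ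
: G ×_S X → Y surjective, flat and locally of finite presentation followed by a monomorphism τ : Y →
X ×_S X (Y represents the sheaf image of d) if and only if F is flat over X; b) in that case the two
morphisms Y → X induced by the projections are surjective, flat and of finite presentation. -/
theorem result (S : Scheme.{u}) [IsNoetherian S] (G X : Over S) [GrpObj G]
    [Flat G.hom] [LocallyOfFiniteType G.hom] [QuasiCompact G.hom] [LocallyOfFiniteType X.hom] [QuasiCompact X.hom]
    (a : AlgGrp.Action G X) :
    ((∃ (Y : Over S) (ψ : G ⊗ X ⟶ Y) (τ : Y ⟶ X ⊗ X), ψ ≫ τ = lift a.act (snd G X) ∧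
        Surjective ψ.left ∧ Flat ψ.left ∧ LocallyOfFinitePresentation ψ.left ∧ Mono τ) ↔
      Flat (pullback.snd (lift a.act (snd G X)) (lift (𝟙 X) (𝟙 X))).left) ∧
    (∀ (Y : Over S) (ψ : G ⊗ X ⟶ Y) (τ : Y ⟶ X ⊗ X), ψ ≫ τ = lift a.act (snd G X) →
      Surjective ψ.left → Flat ψ.left → LocallyOfFinitePresentation ψ.left → Mono τ →
      (Surjective (τ ≫ fst X X).left ∧ Flat (τ ≫ fst X X).left ∧ LocallyOfFinitePresentation (τ ≫ fst X X).left ∧
        QuasiCompact (τ ≫ fst X X).left ∧ QuasiSeparated (τ ≫ fst X X).left ∧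
       Surjective (τ ≫ snd X X).left ∧ Flat (τ ≫ snd X X).left ∧ LocallyOfFinitePresentation (τ ≫ snd X X).left ∧
        QuasiCompact (τ ≫ snd X X).left ∧ QuasiSeparated (τ ≫ snd X X).left)) := by
  let d := lift a.act (snd G X)
  let δ := lift (𝟙 X) (𝟙 X)
  haveI : LocallyOfFinitePresentation G.hom := LocallyOfFinitePresentation.iff_locallyOfFiniteType.2 inferInstance
  haveI : LocallyOfFinitePresentation X.hom := LocallyOfFinitePresentation.iff_locallyOfFiniteType.2 inferInstance
  haveI : LocallyOfFinitePresentation (G ⊗ X).hom := by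
    have : LocallyOfFinitePresentation ((snd G X).left ≫ X.hom) := by
      have : LocallyOfFinitePresentation (snd G X).left :=
        MorphismProperty.of_isPullback (P := @LocallyOfFinitePresentation) (Groth.L25.Actions.isPullback_snd G X) ‹_›
      infer_instance
    rwa [Over.w] at this
  refine ⟨⟨?_, fun hF => ?_⟩, ?_⟩
  · rintro ⟨Y, ψ, τ, he, hs, hf, hp, hm⟩
    haveI := hm
    let e : X ⟶ G ⊗ X := lift (toUnit X ≫ η[G]) (𝟙 X)
    have hed : e ≫ d = δ := by
      apply CartesianMonoidalCategory.hom_ext
      · simp only [d, δ, Category.assoc, lift_fst]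
        exact Groth.L25.Actions.one_act a (𝟙 X) |> fun h => by simpa [e, Hom.one_def] using h
      · simp [d, δ, e]
    have hδ : (e ≫ ψ) ≫ τ = δ := by rw [Category.assoc, he]; exact hed
    have sq : IsPullback (pullback.fst d δ) (pullback.snd d δ) ψ (e ≫ ψ) :=
      IsPullback.mk' (by rw [← cancel_mono τ, Category.assoc, Category.assoc, he, hδ]; exact pullback.condition)
        (fun T φ φ' h₁ h₂ => pullback.hom_ext h₁ h₂)
        (fun T x y hxy => ⟨pullback.lift x y (by rw [← hδ, show d = ψ ≫ τ from he.symm, reassoc_of% hxy]; simp),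
          pullback.lift_fst _ _ _, pullback.lift_snd _ _ _⟩)
    exact MorphismProperty.of_isPullback (P := @Flat) (sq.map (Over.forget S)) hf
  · let F := pullback d δ
    let g₀ : F ⟶ G := pullback.fst d δ ≫ fst G X
    let x₀ : F ⟶ X := pullback.snd d δ
    have hF₀ : lift g₀ x₀ = pullback.fst d δ := by
      apply CartesianMonoidalCategory.hom_ext
      · simp [g₀]
      · have h := (pullback.condition (f := d) (g := δ)) =≫ snd X X
        simp only [d, δ, Category.assoc, lift_snd, Category.comp_id] at h
        rw [lift_snd]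
        exact h.symm
    have hfix : lift g₀ x₀ ≫ a.act = x₀ := by
      rw [hF₀]
      have := (pullback.condition (f := d) (g := δ)) =≫ fst X X
      simpa [d, δ, x₀] using this
    let P : Over S := pullback (snd G X) x₀
    let q₁ : P ⟶ G ⊗ X := pullback.fst _ _
    let q₂ : P ⟶ F := pullback.snd _ _
    let c : P ⟶ G ⊗ X := lift ((q₁ ≫ fst G X) * (q₂ ≫ g₀)) (q₁ ≫ snd G X)
    have hq : q₁ ≫ snd G X = q₂ ≫ x₀ := pullback.condition
    have hd : ∀ {T : Over S} (g : T ⟶ G) (x : T ⟶ X), lift g x ≫ d = lift (lift g x ≫ a.act) x := fun g x => by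
      rw [comp_lift, lift_snd]
    have hdd : ∀ {T : Over S} (w : T ⟶ G ⊗ X), lift (w ≫ fst G X) (w ≫ snd G X) = w := fun w => lift_comp_fst_snd w
    have sq : IsPullback c q₁ d d := by
      refine IsPullback.mk' ?_ (fun T φ φ' h₁ h₂ => ?_) (fun T u v e => ?_)
      · rw [hd, Groth.L25.Actions.mul_act]
        conv_lhs => arg 1; arg 1; arg 2; rw [hq, ← comp_lift_assoc, hfix, ← hq]
        conv_rhs => rw [← hdd q₁, hd]
      · apply pullback.hom_ext h₂
        apply pullback.hom_ext
        · rw [← hF₀]
          apply CartesianMonoidalCategory.hom_ext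
          · have e := h₁ =≫ fst G X
            rw [Category.assoc, Category.assoc, lift_fst, MonObj.comp_mul, MonObj.comp_mul, ← Category.assoc φ q₁, ← Category.assoc φ' q₁] at e
            rw [h₂] at e
            simpa using mul_left_cancel e
          · simp only [Category.assoc, lift_snd]
            change φ ≫ q₂ ≫ x₀ = φ' ≫ q₂ ≫ x₀
            rw [← hq, ← Category.assoc, ← Category.assoc, h₂]
        · change (φ ≫ q₂) ≫ x₀ = (φ' ≫ q₂) ≫ x₀
          rw [Category.assoc, Category.assoc, ← hq, ← Category.assoc, ← Category.assoc, h₂]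
      · rw [← hdd u, ← hdd v, hd, hd] at e
        have e₂ : u ≫ snd G X = v ≫ snd G X := by simpa using e =≫ snd X X
        have e₁ := e =≫ fst X X
        rw [lift_fst, lift_fst] at e₁
        let g := (v ≫ fst G X)⁻¹ * (u ≫ fst G X)
        have hg : lift g (v ≫ snd G X) ≫ a.act = v ≫ snd G X := by
          rw [Groth.L25.Actions.mul_act]
          conv_lhs => arg 1; arg 2; rw [← e₂, e₁]
          rw [Groth.L25.Actions.inv_act]
        let z : T ⟶ F := pullback.lift (lift g (v ≫ snd G X)) (v ≫ snd G X) (by rw [hd, hg, comp_lift, Category.comp_id])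
        refine ⟨pullback.lift v z (pullback.lift_snd _ _ _).symm, ?_, pullback.lift_fst _ _ _⟩
        apply CartesianMonoidalCategory.hom_ext
        · simp only [c, Category.assoc, lift_fst, comp_mul, q₁, q₂, g₀, pullback.lift_fst_assoc,
            pullback.lift_snd_assoc, z, g, mul_inv_cancel_left]
        · simp only [c, q₁, Category.assoc, lift_snd, pullback.lift_fst_assoc, e₂]
    have hb : Flat q₁.left :=
      MorphismProperty.of_isPullback (P := @Flat)
        (((IsPullback.of_hasPullback (snd G X) x₀).map (Over.forget S)).flip) hF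
    haveI : LocallyOfFiniteType (X ⊗ X).hom := by
      have : LocallyOfFiniteType ((snd X X).left ≫ X.hom) := by
        have : LocallyOfFiniteType (snd X X).left :=
          MorphismProperty.of_isPullback (P := @LocallyOfFiniteType) (Groth.L25.Actions.isPullback_snd X X) inferInstance
        infer_instance
      rwa [Over.w] at this
    obtain ⟨Y, ψ, τ, he, hs, hf, hp, hm, -, -⟩ := Groth.L24.MonoFac.exists_factor_over d sq hb
    exact ⟨Y, ψ, τ, he, hs, hf, hp, hm⟩
  · intro Y ψ τ he hs hf hp hm
    haveI := hs; haveI := hf; haveI := hp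
    have key : ∀ (π : X ⊗ X ⟶ X), Surjective ((d ≫ π).left) → Flat ((d ≫ π).left) →
        LocallyOfFinitePresentation ((d ≫ π).left) → QuasiCompact ((d ≫ π).left) →
        Surjective (τ ≫ π).left ∧ Flat (τ ≫ π).left ∧ LocallyOfFinitePresentation (τ ≫ π).left ∧
        QuasiCompact (τ ≫ π).left ∧ QuasiSeparated (τ ≫ π).left := by
      intro π h₁ h₂ h₃ h₄
      rw [show d = ψ ≫ τ from he.symm, Category.assoc, Over.comp_left] at h₁ h₂ h₃ h₄
      have hlfp := Groth.L24.Alg.locallyOfFinitePresentation_of_fppf_comp ψ.left (τ ≫ π).left h₃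
      haveI : LocallyOfFiniteType ((τ ≫ π).left ≫ X.hom) := by haveI := hlfp; infer_instance
      haveI : IsLocallyNoetherian X.left := LocallyOfFiniteType.isLocallyNoetherian X.hom
      haveI : IsLocallyNoetherian Y.left := by
        haveI := hlfp
        exact LocallyOfFiniteType.isLocallyNoetherian (τ ≫ π).left
      refine ⟨Surjective.of_comp ψ.left _, Groth.L24.LocQ.flat_of_comp_surjective ψ.left _ h₂, hlfp, ?_, inferInstance⟩
      refine ⟨fun U hU hU' => ?_⟩
      have := ((h₄.isCompact_preimage U hU hU')).image ψ.left.continuous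
      rwa [Scheme.Hom.comp_base, TopCat.coe_comp, Set.preimage_comp,
        Set.image_preimage_eq _ ψ.left.surjective] at this
    haveI : QuasiCompact G.hom := ‹_›
    have hsnd : ∀ (P : MorphismProperty Scheme.{u}) [P.IsStableUnderBaseChange], P G.hom → P (d ≫ snd X X).left :=
      fun P _ h => by
        rw [show d ≫ snd X X = snd G X from lift_snd _ _]
        exact MorphismProperty.of_isPullback (Groth.L25.Actions.isPullback_snd G X) h
    have hfst : ∀ (P : MorphismProperty Scheme.{u}) [P.IsStableUnderBaseChange], P G.hom → P (d ≫ fst X X).left :=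
      fun P _ h => by
        rw [show d ≫ fst X X = a.act from lift_fst _ _]
        exact Groth.L25.Actions.act_of_hom a P h
    haveI hsG : Surjective G.hom := Groth.L25.Actions.surjective_grp G
    obtain ⟨a₁, a₂, a₃, a₄, a₅⟩ := key (fst X X) (hfst _ hsG) (hfst _ ‹_›) (hfst _ ‹_›) (hfst _ ‹_›)
    exact ⟨a₁, a₂, a₃, a₄, a₅, key (snd X X) (hsnd _ hsG) (hsnd _ ‹_›) (hsnd _ ‹_›) (hsnd _ ‹_›)⟩

end Groth.Agent.S4096
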