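import Groth.Statements.S4097
import Groth.Agent.L24.GenQuot.FlatStab
import Groth.Agent.L20.GenericFlatScheme

set_option autoImplicit false
universe u
open CategoryTheory MonoidalCategory CartesianMonoidalCategory MonObj GrpObj AlgebraicGeometry CategoryTheory.Limits
open GrpQ

namespace Groth.Agent.S4097

/-- Let S be noetherian, G an S-group scheme flat and of finite type acting on an S-scheme X of finite
type, and suppose that the stabilizer F of the diagonal is flat over X, or that X is reduced. Then
there is a dense open U of X, saturated for the action, and a coequalizer p : U → V in schemes of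
the induced pair d₀|, d₁| : d₁⁻¹(U) ⇉ U, with V of finite type over S and p surjective, flat and of
finite presentation. -/
theorem result (S : Scheme.{u}) [IsNoetherian S] (G X : Over S) [GrpObj G]
    [Flat G.hom] [LocallyOfFiniteType G.hom] [QuasiCompact G.hom] [LocallyOfFiniteType X.hom] [QuasiCompact X.hom]
    (a : AlgGrp.Action G X)
    (hF : Flat (pullback.snd (lift a.act (snd G X)) (lift (𝟙 X) (𝟙 X))).left ∨ IsReduced X.left) :
    ∃ (U : X.left.Opens) (hU : a.act.left ⁻¹ᵁ U = (snd G X).left ⁻¹ᵁ U), Dense (U : Set X.left) ∧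
      ∃ (V : Scheme.{u}) (p : (U : Scheme.{u}) ⟶ V)
        (w : a.act.left.resLE U ((snd G X).left ⁻¹ᵁ U) hU.ge ≫ p = ((snd G X).left ∣_ U) ≫ p) (q : V ⟶ S),
        Nonempty (IsColimit (Cofork.ofπ p w)) ∧ p ≫ q = U.ι ≫ X.hom ∧
        Surjective p ∧ Flat p ∧ LocallyOfFinitePresentation p ∧ LocallyOfFiniteType q ∧ QuasiCompact q := by
  let H := Groth.L24.GenQuot.actGrpd a
  haveI : Flat H.s := inferInstanceAs (Flat (pullback.snd G.hom X.hom))
  haveI : LocallyOfFiniteType H.s := inferInstanceAs (LocallyOfFiniteType (pullback.snd G.hom X.hom))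
  haveI : QuasiCompact H.s := inferInstanceAs (QuasiCompact (pullback.snd G.hom X.hom))
  haveI : LocallyOfFiniteType H.pU := inferInstanceAs (LocallyOfFiniteType X.hom)
  haveI : QuasiCompact H.pU := inferInstanceAs (QuasiCompact X.hom)
  haveI := Groth.L24.GenQuot.isNoetherian_U H
  obtain ⟨V₀, hd, hV₀⟩ : ∃ V₀ : H.U.Opens, Dense (V₀ : Set H.U) ∧ Flat (H.stabilizerToU ∣_ V₀) := by
    rcases hF with hF | hF
    · refine ⟨⊤, dense_univ, ?_⟩
      have sq := (IsPullback.of_hasPullback (lift a.act (snd G X)) (lift (𝟙 X) (𝟙 X))).map (Over.forget S)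
      have hf : Flat H.stabilizerToU := by
        show Flat (pullback.snd (lift a.act (snd G X)).left (lift (𝟙 X) (𝟙 X)).left)
        rw [show pullback.snd (lift a.act (snd G X)).left (lift (𝟙 X) (𝟙 X)).left =
          sq.isoPullback.inv ≫ (pullback.snd (lift a.act (snd G X)) (lift (𝟙 X) (𝟙 X))).left from
          sq.isoPullback_inv_snd.symm]
        haveI := hF
        exact MorphismProperty.comp_mem (W := @Flat.{u}) _ _ (inferInstance : Flat sq.isoPullback.inv) hF
      haveI := hf
      infer_instance
    · haveI : IsReduced H.U := hF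
      haveI : IsLocallyNoetherian H.R := LocallyOfFiniteType.isLocallyNoetherian H.s
      haveI : CompactSpace H.R := QuasiCompact.compactSpace_of_compactSpace H.s
      haveI : IsNoetherian H.R := {}
      haveI : LocallyOfFiniteType (H.j ≫ pullback.snd H.pU H.pU) := by
        rw [show H.j ≫ pullback.snd H.pU H.pU = H.s from pullback.lift_snd _ _ _]; infer_instance
      haveI : LocallyOfFiniteType H.j := locallyOfFiniteType_of_comp H.j (pullback.snd H.pU H.pU)
      haveI : QuasiCompact H.j := Groth.L24.GenQuot.quasiCompact_of_isNoetherian H.j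
      haveI : LocallyOfFiniteType H.stabilizerToU := inferInstanceAs (LocallyOfFiniteType (pullback.snd H.j H.diag))
      haveI : QuasiCompact H.stabilizerToU := inferInstanceAs (QuasiCompact (pullback.snd H.j H.diag))
      obtain ⟨V₀, hd, hf, -⟩ := Groth.L20.GFR.exists_dense_flat_lfp H.stabilizerToU
      exact ⟨V₀, hd, hf⟩
  exact Groth.L24.GenQuot.exists_dense_quotient_of_flat H V₀ hd hV₀

end Groth.Agent.S4097
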