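import Groth.Prelude.Def_SGA3x
import Groth.Prelude.Def_SGA3
import Groth.Prelude.Def_AlgGrp
import Groth.Prelude.Def_Red
import Groth.Prelude.Def_Mor2
import Mathlib.AlgebraicGeometry.Morphisms.Smooth
import Mathlib.AlgebraicGeometry.Morphisms.Etale
import Mathlib.AlgebraicGeometry.Morphisms.Flat
import Mathlib.AlgebraicGeometry.Morphisms.FinitePresentation
import Mathlib.AlgebraicGeometry.Morphisms.Separated
import Mathlib.AlgebraicGeometry.Morphisms.UniversallyOpen
import Mathlib.AlgebraicGeometry.Morphisms.ClosedImmersion
import Mathlib.AlgebraicGeometry.Morphisms.Affine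
import Mathlib.AlgebraicGeometry.ResidueField
import Mathlib.AlgebraicGeometry.Noetherian
import Mathlib.Topology.KrullDimension
import Mathlib.Topology.LocallyConstant.Basic
import Mathlib.Topology.Constructible
import Mathlib.CategoryTheory.Limits.Shapes.Pullback.IsPullback.Defs
import Mathlib.RingTheory.HopfAlgebra.Basic
import Mathlib.RingTheory.Flat.FaithfullyFlat.Basic
import Mathlib.RingTheory.DedekindDomain.Basic
import Mathlib.RingTheory.Localization.FractionRing
import Mathlib.RingTheory.MvPolynomial.Basic
import Mathlib.RingTheory.Ideal.Quotient.Operations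
import Mathlib.RingTheory.Etale.Basic
import Mathlib.Algebra.CharP.Defs
import Mathlib.RingTheory.Artinian.Ring
import Mathlib.RingTheory.HopfAlgebra.Quotient
import Groth.Agent.L02.NeutralOpen.Main

set_option autoImplicit false
set_option linter.style.haveILetI false
namespace CartesianMonoidalCategory
end CartesianMonoidalCategory
namespace GrpObj
end GrpObj
namespace MonObj
end MonObj
namespace SGA3
end SGA3
set_option linter.style.haveILetI false
universe u
open CategoryTheory MonoidalCategory CartesianMonoidalCategory MonObj GrpObj AlgebraicGeometry CategoryTheory.Limits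
open SGA3

namespace Groth.Agent.S4098

/-- Let G be an S-group scheme which is smooth over S at every point of the unit section (some open of G
containing the unit section is smooth over S). Then the union G⁰ of the connected components of the
unit in the fibres G_s is open in G, and there is an open subgroup scheme of G, smooth and
quasi-compact over S, with underlying set G⁰. -/
theorem result (S : Scheme.{u}) (G : Over S) [GrpObj G]
    (hsm : ∃ U : G.left.Opens, Smooth (U.ι ≫ G.hom) ∧ ∀ p : ↥(𝟙_ (Over S)).left, η[G].left.base p ∈ U) :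
    IsOpen (SGA3x.neutralSet G) ∧
    ∃ (G0 : Over S) (_ : GrpObj G0) (i : G0 ⟶ G), IsMonHom i ∧ IsOpenImmersion i.left ∧
      Set.range i.left.base = SGA3x.neutralSet G ∧ Smooth G0.hom ∧ QuasiCompact G0.hom := by
  obtain ⟨O, hO, hO1⟩ := hsm
  obtain ⟨N, hN, hqc, hS⟩ := Groth.L02.NeutralOpen.of_smooth_unit G O hO1
  obtain ⟨g, hg⟩ := Groth.L02.NeutralOpen.exists_subgroup G N hN
  refine ⟨hN ▸ N.isOpen, Over.mk (N.ι ≫ G.hom), g, Over.homMk N.ι rfl, hg, ?_, ?_, hS, hqc⟩
  · exact inferInstanceAs (IsOpenImmersion N.ι)
  · show Set.range N.ι.base = _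
    rw [← hN]
    exact N.range_ι

end Groth.Agent.S4098
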