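import Groth.Prelude.Def_SGA3x
import Groth.Prelude.Def_SGA3
import Groth.Prelude.Def_AlgGrp
import Groth.Prelude.Def_Red
import Groth.Prelude.Def_Mor2
import Mathlib.AlgebraicGeometry.Morphisms.Smooth
import Mathlib.AlgebraicGeometry.Morphisms.Etale
import Mathlib.AlgebraicGeometry.Morphisms.Flat
import Mathlib.AlgebraicGeometry.Morphisms.FinitePresentation
import Mathlib.AlgebraicGeometry.Morphisms.Separated
import Mathlib.AlgebraicGeometry.Morphisms.UniversallyOpen
import Mathlib.AlgebraicGeometry.Morphisms.ClosedImmersion
import Mathlib.AlgebraicGeometry.Morphisms.Affine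
import Mathlib.AlgebraicGeometry.ResidueField
import Mathlib.AlgebraicGeometry.Noetherian
import Mathlib.Topology.KrullDimension
import Mathlib.Topology.LocallyConstant.Basic
import Mathlib.Topology.Constructible
import Mathlib.CategoryTheory.Limits.Shapes.Pullback.IsPullback.Defs
import Mathlib.RingTheory.HopfAlgebra.Basic
import Mathlib.RingTheory.Flat.FaithfullyFlat.Basic
import Mathlib.RingTheory.DedekindDomain.Basic
import Mathlib.RingTheory.Localization.FractionRing
import Mathlib.RingTheory.MvPolynomial.Basic
import Mathlib.RingTheory.Ideal.Quotient.Operations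
import Mathlib.RingTheory.Etale.Basic
import Mathlib.Algebra.CharP.Defs
import Mathlib.RingTheory.Artinian.Ring
import Mathlib.RingTheory.HopfAlgebra.Quotient
import Groth.Agent.L02.NeutralOpen.Main

set_option autoImplicit false
set_option linter.style.haveILetI false
namespace CartesianMonoidalCategory
end CartesianMonoidalCategory
namespace GrpObj
end GrpObj
namespace MonObj
end MonObj
namespace SGA3
end SGA3
set_option linter.style.haveILetI false
universe u
open CategoryTheory MonoidalCategory CartesianMonoidalCategory MonObj GrpObj AlgebraicGeometry CategoryTheory.Limits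
open SGA3

namespace Groth.Agent.S4099

/-- (ii) ⟹ (iv): let S be a reduced scheme and G an S-group scheme locally of finite presentation over S
such that every fibre G_s is smooth over κ(s) and s ↦ dim G_s is locally constant on S. Then G⁰ (the
union of the neutral components of the fibres) is open, underlies an open subgroup scheme smooth
over S, and G is smooth over S at every point of the unit section. (Without 'S reduced' the last two
conclusions fail.) -/
theorem result (S : Scheme.{u}) [IsReduced S] (G : Over S) [GrpObj G]
    [LocallyOfFinitePresentation G.hom]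
    (hfib : ∀ s : S, Smooth (pullback.snd G.hom (S.fromSpecResidueField s)))
    (hdim : IsLocallyConstant (fun s : S => topologicalKrullDim ↥(G.hom.base ⁻¹' {s}))) :
    IsOpen (SGA3x.neutralSet G) ∧
    (∃ (G0 : Over S) (_ : GrpObj G0) (i : G0 ⟶ G), IsMonHom i ∧ IsOpenImmersion i.left ∧
      Set.range i.left.base = SGA3x.neutralSet G ∧ Smooth G0.hom) ∧
    ∃ U : G.left.Opens, Smooth (U.ι ≫ G.hom) ∧ ∀ p : ↥(𝟙_ (Over S)).left, η[G].left.base p ∈ U := by
  obtain ⟨N, hN, -, hsm⟩ := Groth.L02.NeutralOpen.of_fibres G hdim
    (fun x _ => Groth.L05.Point.nhd_top (hfib (G.hom x)) _)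
  have hS : Smooth (N.ι ≫ G.hom) := hsm ‹_›
  obtain ⟨g, hg⟩ := Groth.L02.NeutralOpen.exists_subgroup G N hN
  refine ⟨hN ▸ N.isOpen, ⟨Over.mk (N.ι ≫ G.hom), g, Over.homMk N.ι rfl, hg, ?_, ?_, hS⟩, N, hS,
    fun p => hN.ge (Groth.L02.NeutralOpen.one_mem G p)⟩
  · exact inferInstanceAs (IsOpenImmersion N.ι)
  · show Set.range N.ι.base = _
    rw [← hN]
    exact N.range_ι

end Groth.Agent.S4099
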