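import Groth.Prelude.Def_SGA3x
import Groth.Prelude.Def_SGA3
import Groth.Prelude.Def_AlgGrp
import Groth.Prelude.Def_Red
import Groth.Prelude.Def_Mor2
import Mathlib.AlgebraicGeometry.Morphisms.Smooth
import Mathlib.AlgebraicGeometry.Morphisms.Etale
import Mathlib.AlgebraicGeometry.Morphisms.Flat
import Mathlib.AlgebraicGeometry.Morphisms.FinitePresentation
import Mathlib.AlgebraicGeometry.Morphisms.Separated
import Mathlib.AlgebraicGeometry.Morphisms.UniversallyOpen
import Mathlib.AlgebraicGeometry.Morphisms.ClosedImmersion
import Mathlib.AlgebraicGeometry.Morphisms.Affine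
import Mathlib.AlgebraicGeometry.ResidueField
import Mathlib.AlgebraicGeometry.Noetherian
import Mathlib.Topology.KrullDimension
import Mathlib.Topology.LocallyConstant.Basic
import Mathlib.Topology.Constructible
import Mathlib.CategoryTheory.Limits.Shapes.Pullback.IsPullback.Defs
import Mathlib.RingTheory.HopfAlgebra.Basic
import Mathlib.RingTheory.Flat.FaithfullyFlat.Basic
import Mathlib.RingTheory.DedekindDomain.Basic
import Mathlib.RingTheory.Localization.FractionRing
import Mathlib.RingTheory.MvPolynomial.Basic
import Mathlib.RingTheory.Ideal.Quotient.Operations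
import Mathlib.RingTheory.Etale.Basic
import Mathlib.Algebra.CharP.Defs
import Mathlib.RingTheory.Artinian.Ring
import Mathlib.RingTheory.HopfAlgebra.Quotient
import Groth.Agent.L02.SchDom.EssFree

set_option autoImplicit false
namespace SGA3
end SGA3
universe u
open CategoryTheory MonoidalCategory CartesianMonoidalCategory MonObj GrpObj AlgebraicGeometry CategoryTheory.Limits
open SGA3

namespace Groth.Agent.S4101

/-- Let f : Z → S be essentially free (every point of S has an affine open neighbourhood U and a flat
surjective morphism S' → U from an affine scheme S' such that Z ×_S S' is covered by affine opens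
whose rings of sections are projective Γ(S')-modules) and j : Y → Z a closed immersion. Then there
is a closed immersion t : T → S such that a morphism g : S' → S factors through T exactly when the
closed immersion Y ×_Z Z_{S'} → Z_{S'} deduced from j by base change is an isomorphism; if moreover
Z is quasi-compact over S and j is of finite presentation, then t is of finite presentation. (The
published statement omits the quasi-compactness of Z over S in the last clause; it is stated here
with it.) -/
theorem result (S Z Y : Scheme.{u}) (f : Z ⟶ S)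
    (hf : SGA3x.IsEssentiallyFree f) (j : Y ⟶ Z) [IsClosedImmersion j] :
    ∃ (T : Scheme.{u}) (t : T ⟶ S), IsClosedImmersion t ∧
      (∀ (S' : Scheme.{u}) (g : S' ⟶ S),
        (∃ g' : S' ⟶ T, g' ≫ t = g) ↔ IsIso (pullback.snd j (pullback.fst f g))) ∧
      (QuasiCompact f → LocallyOfFinitePresentation j → LocallyOfFinitePresentation t) := by
  obtain ⟨T, t, ht, hlfp, hT⟩ := Groth.L02.SchDom.exists_weilLocus_free (j := j) hf
  refine ⟨T, t, ht, fun S' g => (hT S' g).trans ?_, fun hq hj => hlfp ⟨hq, hj⟩⟩
  show (∃ l, l ≫ j = Limits.pullback.fst f g ≫ 𝟙 Z) ↔ _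
  rw [Category.comp_id]
  constructor
  · rintro ⟨l, hl⟩
    haveI : IsSplitEpi (Limits.pullback.snd j (Limits.pullback.fst f g)) :=
      ⟨⟨Limits.pullback.lift l (𝟙 _) (by rw [Category.id_comp, hl]), Limits.pullback.lift_snd _ _ _⟩⟩
    exact isIso_of_mono_of_isSplitEpi _
  · intro h
    exact ⟨inv (Limits.pullback.snd j (Limits.pullback.fst f g)) ≫ Limits.pullback.fst _ _, by
      rw [Category.assoc, Limits.pullback.condition, IsIso.inv_hom_id_assoc]⟩

end Groth.Agent.S4101
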