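import Groth.Statements.S4104
import Groth.Agent.L25.HopfFlatGen

set_option autoImplicit false
universe u
open CategoryTheory MonoidalCategory CartesianMonoidalCategory MonObj GrpObj AlgebraicGeometry CategoryTheory.Limits
open SGA3

namespace Groth.Agent.S4104

/-- Let φ : A' → A be a bialgebra map between commutative Hopf algebras over a field k (a homomorphism
of affine k-groups Spec A → Spec A', not necessarily of finite type). If the corresponding morphism
of schemes is a monomorphism, i.e. φ is an epimorphism in the category of commutative rings, then φ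
is surjective (the homomorphism is a closed immersion). -/
theorem result (k : Type u) [Field k] (A' A : Type u) [CommRing A'] [HopfAlgebra k A']
    [CommRing A] [HopfAlgebra k A] (φ : A' →ₐc[k] A)
    (hepi : ∀ (R : Type u) [CommRing R] (f g : A →+* R), f.comp (φ : A' →+* A) = g.comp (φ : A' →+* A) → f = g) :
    Function.Surjective φ := by
  let f : A' →ₐ[k] A := (φ : A' →ₐ[k] A)
  let B : Subalgebra k A := f.range
  have hB : SGA3.IsHopfSubalgebra k A B := by
    refine ⟨?_, ?_⟩
    · rintro b ⟨a, rfl⟩
      let g : A' →ₐ[k] B := f.rangeRestrict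
      refine ⟨TensorProduct.map g.toLinearMap g.toLinearMap (Coalgebra.comul (R := k) a), ?_⟩
      have h : (TensorProduct.map B.val.toLinearMap B.val.toLinearMap) ∘ₗ
          (TensorProduct.map g.toLinearMap g.toLinearMap) =
          TensorProduct.map f.toLinearMap f.toLinearMap := by
        rw [← TensorProduct.map_comp]
        rfl
      exact (LinearMap.congr_fun h _).trans (CoalgHomClass.map_comp_comul_apply φ a)
    · rintro b ⟨a, rfl⟩
      refine ⟨HopfAlgebraStruct.antipode (R := k) a, ?_⟩
      have h1 : (Groth.L25.HopfFlat.preHom (R' := A) φ)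
          (WithConv.toConv (HopfAlgebra.antipodeAlgHom k A)) * WithConv.toConv f = 1 := by
        have h2 := (Groth.L25.HopfFlat.conv_antipode (AlgHom.id k A)).2
        have h3 := congrArg (Groth.L25.HopfFlat.preHom (R' := A) φ) h2
        rw [map_mul, map_one] at h3
        exact h3
      have h4 := (Groth.L25.HopfFlat.conv_antipode f).1
      have h5 := left_inv_eq_right_inv h1 h4
      exact (AlgHom.congr_fun (congrArg WithConv.ofConv h5) a).symm
  haveI := Groth.L25.HopfFlat.faithfullyFlat B hB
  intro a
  have h : (a ⊗ₜ[↥B] (1 : A)) = (1 : A) ⊗ₜ[↥B] a := by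
    have := hepi (TensorProduct ↥B A A) (Algebra.TensorProduct.includeLeft : A →ₐ[B] TensorProduct ↥B A A).toRingHom
      (Algebra.TensorProduct.includeRight : A →ₐ[B] TensorProduct ↥B A A).toRingHom (RingHom.ext fun x => by
        change (f x) ⊗ₜ[↥B] (1 : A) = (1 : A) ⊗ₜ[↥B] f x
        have e : f x = (⟨f x, x, rfl⟩ : B) • (1 : A) := by
          rw [Algebra.smul_def, _root_.mul_one]
          rfl
        rw [e, TensorProduct.smul_tmul])
    exact RingHom.congr_fun this a
  let q := (Submodule.span B ({1} : Set A)).mkQ
  have h6 : ((1 : A) ⊗ₜ[↥B] q a) = 0 := by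
    have h7 := congrArg (q.lTensor A) h
    simp only [LinearMap.lTensor_tmul] at h7
    rw [← h7, show q 1 = 0 from (Submodule.Quotient.mk_eq_zero _).2
      (Submodule.mem_span_singleton_self 1), TensorProduct.tmul_zero]
  have h8 : q a = 0 := Module.FaithfullyFlat.tensorProduct_mk_injective (A := B) (B := A) _
    (h6.trans (TensorProduct.tmul_zero _ _).symm)
  obtain ⟨⟨_, x, rfl⟩, hb⟩ := Submodule.mem_span_singleton.1 ((Submodule.Quotient.mk_eq_zero _).1 h8)
  refine ⟨x, ?_⟩
  rw [← hb, Algebra.smul_def, _root_.mul_one]
  rfl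
end Groth.Agent.S4104
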