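import Groth.Statements.S4107
import Groth.Agent.L08.AffHull.AntiAffine
-- import your own Groth.Agent.* helpers here

set_option autoImplicit false
universe u
open CategoryTheory MonoidalCategory CartesianMonoidalCategory MonObj GrpObj AlgebraicGeometry CategoryTheory.Limits
open SGA3

namespace Groth.Agent.S4107

/-- Let G be an algebraic group over a field k, ρ : G → Spec O(G) the canonical morphism and N = Ker ρ,
the fibre of ρ over the image of the unit section. Then O(N) = k (the structure morphism N → Spec k
induces an isomorphism on global sections), and N is smooth over k and connected. (The source adds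
that N is commutative and characteristic in G.) -/
theorem result (k : Type u) [Field k] (G : Over (Spec (CommRingCat.of k))) [GrpObj G]
    [LocallyOfFiniteType G.hom] [QuasiCompact G.hom] :
    IsIso (pullback.snd G.left.toSpecΓ (η[G].left ≫ G.left.toSpecΓ) ≫ (𝟙_ (Over (Spec (CommRingCat.of k)))).hom).appTop ∧
    Smooth (pullback.snd G.left.toSpecΓ (η[G].left ≫ G.left.toSpecΓ) ≫ (𝟙_ (Over (Spec (CommRingCat.of k)))).hom) ∧
    ConnectedSpace ↥(pullback G.left.toSpecΓ (η[G].left ≫ G.left.toSpecΓ)) := by
  haveI := Groth.L08.AffHull.compactSpace (G := G)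
  haveI := Groth.L08.AffHull.quasiSeparatedSpace (G := G)
  obtain ⟨K, gK, i, _, _, -, sq⟩ := Groth.L08.AbelianGrp.exists_kernel (Groth.L08.AffHull.rho G)
  haveI : LocallyOfFiniteType K.hom := by rw [← Over.w i]; infer_instance
  haveI : QuasiCompact K.hom := by rw [← Over.w i]; infer_instance
  have hO := Groth.L08.AffHull.isIso_appTop_kernel i sq
  haveI := Groth.L08.AffHull.smooth_of_antiAffine K hO
  haveI := Groth.L08.AffHull.connectedSpace_of_antiAffine K hO
  have sq' : IsPullback i.left (toUnit K).left G.left.toSpecΓ (η[G].left ≫ G.left.toSpecΓ) :=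
    sq.map (Over.forget _)
  let e := sq'.isoPullback
  have he : Limits.pullback.snd G.left.toSpecΓ (η[G].left ≫ G.left.toSpecΓ) ≫ (𝟙_ (Over (Spec (CommRingCat.of k)))).hom =
      e.inv ≫ K.hom := by
    rw [← Over.w (toUnit K), ← sq'.isoPullback_inv_snd, Category.assoc]
  refine ⟨?_, ?_, ?_⟩
  · rw [he, Scheme.Hom.comp_appTop]
    haveI := hO
    haveI : IsIso e.inv.appTop := inferInstanceAs (IsIso (e.inv.app ⊤))
    infer_instance
  · rw [he]; infer_instance
  · exact e.hom.surjective.connectedSpace e.hom.continuous

end Groth.Agent.S4107
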