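import Groth.Statements.S5337
import Groth.Agent.L08.ArtinGroup

set_option autoImplicit false
universe u
open CategoryTheory CategoryTheory.Limits MonoidalCategory CartesianMonoidalCategory MonObj GrpObj AlgebraicGeometry
open SGA3

namespace Groth.Agent.S5337
open scoped CategoryTheory.Obj

/-- Quasi-finite, unramified, smooth and etale cases: let A be a local artinian ring, G an A-group
scheme which is flat and locally of finite type over A, and u : G → H a homomorphism of A-group
schemes. If u is locally quasi-finite (resp. unramified, that is formally unramified and locally of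
finite presentation, resp. smooth, resp. etale) on some nonempty open subscheme of G, then u is
locally quasi-finite (resp. unramified, resp. smooth, resp. etale). (Here u is automatically locally
of finite type.) -/
theorem result (A : Type u) [CommRing A] [IsArtinianRing A] [IsLocalRing A] (G H : Over (Spec (CommRingCat.of A))) [GrpObj G] [GrpObj H]
    [Flat G.hom] [LocallyOfFiniteType G.hom] (u : G ⟶ H) [IsMonHom u] (W : G.left.Opens) (hW : (W : Set G.left).Nonempty) :
    (LocallyQuasiFinite (W.ι ≫ u.left) → LocallyQuasiFinite u.left) ∧
    (FormallyUnramified (W.ι ≫ u.left) → LocallyOfFinitePresentation (W.ι ≫ u.left) →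
      FormallyUnramified u.left ∧ LocallyOfFinitePresentation u.left) ∧
    (Smooth (W.ι ≫ u.left) → Smooth u.left) ∧ (Etale (W.ι ≫ u.left) → Etale u.left) := by
  have hn := Groth.L08.ArtinGroup.isNilpotent_maximal (A := CommRingCat.of A)
  open Groth.L08 in
  refine ⟨fun h => ArtinLift.locallyQuasiFinite hn u (ArtinGroup.red_of_open u W hW h),
    fun h h' => ⟨ArtinLift.formallyUnramified hn u (ArtinGroup.red_of_open u W hW h),
      ArtinLift.locallyOfFinitePresentation hn u (ArtinGroup.red_of_open u W hW h')⟩,
    fun h => ArtinLift.smooth hn u (ArtinGroup.red_of_open u W hW h),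
    fun h => ArtinLift.etale hn u (ArtinGroup.red_of_open u W hW h)⟩

end Groth.Agent.S5337
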