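import Groth.Statements.S4112
import Groth.Agent.Lead.PowEtale
import Groth.Agent.S5337

set_option autoImplicit false
universe u
open CategoryTheory MonoidalCategory CartesianMonoidalCategory MonObj GrpObj AlgebraicGeometry CategoryTheory.Limits
open SGA3

namespace Groth.Agent.S4112

/-- Let G be a commutative algebraic group over a field k and n a natural number invertible in k. Then
the n-th power morphism G → G is etale. -/
theorem result (k : Type u) [Field k] (G : Over (Spec (CommRingCat.of k))) [GrpObj G]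
    [IsCommMonObj G] [LocallyOfFiniteType G.hom] [QuasiCompact G.hom] (n : ℕ) (hn : (n : k) ≠ 0) :
    Etale ((𝟙 G : G ⟶ G) ^ n).left := by
  obtain ⟨U, hU, hE⟩ := Groth.Lead.PowEtale.etale_nhd G n hn
  have hpow : ∀ (X : Over (Spec (CommRingCat.of k))) (f : X ⟶ G) (j : ℕ), f ≫ (𝟙 G : G ⟶ G) ^ j = f ^ j := by
    intro X f j
    induction j with
    | zero => rw [pow_zero, pow_zero, MonObj.comp_one]
    | succ j ih => rw [pow_succ (𝟙 G : G ⟶ G) j, pow_succ f j, MonObj.comp_mul, ih, Category.comp_id]
  haveI : IsMonHom ((𝟙 G : G ⟶ G) ^ n) :=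
    { one_hom := by rw [hpow, MonObj.one_eq_one, one_pow]
      mul_hom := by
        rw [hpow, show μ[G] = fst G G * snd G G from MonObj.mul_eq_mul G, mul_pow, MonObj.comp_mul,
          tensorHom_fst, tensorHom_snd, hpow, hpow] }
  exact (Groth.Agent.S5337.result k G G ((𝟙 G : G ⟶ G) ^ n) U ⟨_, hU⟩).2.2.2 hE

end Groth.Agent.S4112
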