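import Groth.Statements.S4117
import Groth.Agent.L08.Borel.MaxTorusEtale
-- import your own Groth.Agent.* helpers here

set_option autoImplicit false
set_option backward.isDefEq.respectTransparency.types false
set_option linter.style.haveILetI false
set_option backward.isDefEq.respectTransparency.types false
set_option linter.style.haveILetI false
universe u
open CategoryTheory MonoidalCategory CartesianMonoidalCategory MonObj GrpObj AlgebraicGeometry CategoryTheory.Limits
open SGA3x

namespace Groth.Agent.S4117

/-- Let G be an S-group scheme which is smooth, separated and of finite type over S and which acquires a
maximal torus after a flat surjective base change that is an fpqc covering. Then G acquires a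
maximal torus after an etale surjective base change. -/
theorem result (S : Scheme.{u}) (G : Over S) [GrpObj G]
    [Smooth G.hom] [IsSeparated G.hom] [QuasiCompact G.hom] (hG : SGA3x.HasMaxTorusFpqcLocally G) :
    SGA3x.HasMaxTorusEtaleLocally G := by
  exact Groth.L08.Borel.maxTorus_etale_of_fpqc hG

end Groth.Agent.S4117
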