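import Groth.Statements.S4122
import Groth.Agent.L24.TorusLift.Sep
import Groth.Agent.L24.TorusLift.Field
import Groth.Agent.L24.TorusLift.Lift
import Groth.Agent.L25.Locus.Transporter
import Groth.Agent.L08.Borel.CentBorel

set_option autoImplicit false
set_option backward.isDefEq.respectTransparency.types false
universe u
open CategoryTheory MonoidalCategory CartesianMonoidalCategory MonObj GrpObj AlgebraicGeometry CategoryTheory.Limits
open SGA3x

namespace Groth.Agent.S4122

set_option backward.isDefEq.respectTransparency false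
set_option backward.isDefEq.respectTransparency.types false

open CategoryTheory CategoryTheory.Limits AlgebraicGeometry MonoidalCategory CartesianMonoidalCategory MonObj
open Groth.L24.TorusLift
open Groth.L25.TorLift (bi red)

/-- Let A be a local artinian ring and G an A-group scheme smooth and of finite type over A. Then G has
a maximal torus, and every subtorus j : R → G factors through some maximal torus of G. -/
theorem result (A : Type u) [CommRing A] [IsArtinianRing A] [IsLocalRing A]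
    (G : Over (Spec (CommRingCat.of A))) [GrpObj G] [Smooth G.hom] [QuasiCompact G.hom] :
    (∃ (T : Over (Spec (CommRingCat.of A))) (_ : GrpObj T) (i : T ⟶ G), Red.IsMaximalTorus i) ∧
    ∀ (R : Over (Spec (CommRingCat.of A))) [GrpObj R] (j : R ⟶ G) [IsMonHom j] [Mono j], Red.IsTorus R →
      ∃ (T : Over (Spec (CommRingCat.of A))) (_ : GrpObj T) (i : T ⟶ G) (f : R ⟶ T),
        Red.IsMaximalTorus i ∧ f ≫ i = j := by
  classical
  let J := IsLocalRing.maximalIdeal A
  have hJ : IsNilpotent J := by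
    have h := IsArtinianRing.isNilpotent_jacobson_bot (R := A)
    rwa [IsLocalRing.jacobson_eq_maximalIdeal ⊥ bot_ne_top] at h
  letI : Field (A ⧸ J) := Ideal.Quotient.field J
  haveI := isSeparated_artinian G
  refine ⟨?_, fun R _ j _ _ hR => ?_⟩
  · haveI : Smooth (Red.bc (bi J) G).hom := inferInstanceAs (Smooth (pullback.snd G.hom (bi J)))
    haveI : QuasiCompact (Red.bc (bi J) G).hom := inferInstanceAs (QuasiCompact (pullback.snd G.hom (bi J)))
    obtain ⟨T₀, g₀, i₀, h₀⟩ := Groth.L24.TorusField.exists_maximalTorus (k := A ⧸ J) (Red.bc (bi J) G)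
    obtain ⟨T, gT, i, e, hT, -, -⟩ := exists_maximalTorus_lift hJ G h₀
    exact ⟨T, gT, i, hT⟩
  have hm := Groth.L25.Locus.isMultTypeFT_of_isTorus hR
  obtain ⟨Z, gZ, z, hZ, hzc, hZs⟩ :=
    Groth.L25.Locus.exists_smooth_centralizer (Groth.L25.Locus.locally_of_multTypeFT hm) j
  haveI := hzc; haveI := hZs; haveI := hZ.1; haveI := hZ.2.1
  haveI : QuasiCompact Z.hom := by rw [← Over.w z]; infer_instance
  haveI := isSeparated_artinian Z
  obtain ⟨jZ, hjZ⟩ := (hZ.2.2 R j).2 fun X' x h => by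
    rw [← MonObj.mul_comp, ← MonObj.mul_comp, Groth.L25.Central.mul_comm_of_multTypeFT hm]
  haveI : IsMonHom jZ := Groth.L08.Borel.isMonHom_lift_mono z j jZ hjZ
  haveI : Mono jZ := mono_of_mono_fac hjZ
  have hcent : ∀ (X : Over (Spec (CommRingCat.of A))) (x : X ⟶ R) (g : X ⟶ Z),
      (x ≫ jZ) * g = g * (x ≫ jZ) := fun X x g => by
    have e := (hZ.2.2 X (g ≫ z)).1 ⟨g, rfl⟩ X (𝟙 X) x
    rw [Category.id_comp] at e
    rw [← cancel_mono z, MonObj.mul_comp, MonObj.mul_comp, Category.assoc, hjZ]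
    exact e.symm
  haveI : Smooth (Red.bc (bi J) Z).hom := inferInstanceAs (Smooth (pullback.snd Z.hom (bi J)))
  haveI : QuasiCompact (Red.bc (bi J) Z).hom := inferInstanceAs (QuasiCompact (pullback.snd Z.hom (bi J)))
  obtain ⟨T₀, g₀, i₀, h₀⟩ := Groth.L24.TorusField.exists_maximalTorus (k := A ⧸ J) (Red.bc (bi J) Z)
  haveI := h₀.1; haveI := h₀.2.1
  obtain ⟨T, gT, i, e, hT, he, hei⟩ := exists_maximalTorus_lift hJ Z h₀
  haveI := hT.1; haveI := hT.2.1; haveI := he
  haveI : IsMonHom (red J jZ) := Groth.L25.MonoClosed.isMonHom_pullbackMap _ _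
  haveI : Mono (red J jZ) := Functor.map_mono _ _
  have hc₀ : ∀ (X : Over (Spec (CommRingCat.of (A ⧸ J)))) (x : X ⟶ Red.bc (bi J) R) (g : X ⟶ Red.bc (bi J) Z),
      (x ≫ red J jZ) * g = g * (x ≫ red J jZ) := by
    intro X x g
    apply Groth.L25.CentralLift.toBase_injective
    rw [Groth.L25.NilAction.toBase_mul, Groth.L25.NilAction.toBase_mul, Groth.L25.Locus.toBase_map]
    exact hcent _ _ _
  obtain ⟨f₀, hf₀⟩ := exists_factor_of_central (k := A ⧸ J) (red J jZ) (Groth.L25.Locus.isTorus_bc hR (bi J)) hc₀ h₀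
  haveI : IsMonHom f₀ := Groth.L08.Borel.isMonHom_lift_mono i₀ (red J jZ) f₀ hf₀
  -- lifting of the inclusion
  obtain ⟨B, _, _, _, hB, eB, heB, heB'⟩ := Groth.L25.TorLift.exists_model R hR
  haveI := heB; haveI := heB'
  obtain ⟨BT, _, _, _, hBT, eT, heT, heT'⟩ := Groth.L25.TorLift.exists_model T hT.2.2.1
  haveI := heT; haveI := heT'
  have hmB := Groth.L25.Locus.isMultTypeFT_of_isTorus hB
  have hmBT := Groth.L25.Locus.isMultTypeFT_of_isTorus hBT
  haveI : Flat (Groth.L25.TorLift.Xp A BT).hom := Groth.L25.Bridge.flat_of_locally (Groth.L25.Bridge.locally_of_ft hmBT)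
  haveI : LocallyOfFinitePresentation (Groth.L25.TorLift.Xp A BT).hom := Groth.L25.Locus.lfp_of_multTypeFT hmBT
  haveI : QuasiCompact (Groth.L25.TorLift.Xp A BT).hom := inferInstance
  have hqs : ∀ q ∈ ({2, 3} : Finset ℕ), 1 < q ∧ ∀ k, q ^ k ∈ (Set.univ : Set ℕ) := fun q hq => by
    simp only [Finset.mem_insert, Finset.mem_singleton] at hq
    exact ⟨by omega, fun _ => trivial⟩
  have hcov : ∀ p : PrimeSpectrum A, ∃ q ∈ ({2, 3} : Finset ℕ), (q : A) ∉ p.asIdeal := fun p => by
    by_contra hcon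
    push Not at hcon
    refine p.isPrime.ne_top ((Ideal.eq_top_iff_one _).2 ?_)
    have := sub_mem (hcon 3 (by simp)) (hcon 2 (by simp))
    norm_num at this
    exact this
  have c := Groth.L25.TorLift.cov_of_torus hB Set.univ (fun _ _ _ _ => trivial) {2, 3} hqs hcov
  haveI : IsMonHom e.inv := inferInstance
  haveI : IsMonHom (red J eB.hom) := Groth.L25.MonoClosed.isMonHom_pullbackMap _ _
  haveI : IsMonHom (red J eT.inv) := Groth.L25.MonoClosed.isMonHom_pullbackMap _ _
  obtain ⟨w, hw, hwr, -, -⟩ := Groth.L25.TorLift.exists_central_hom c hJ (red J eB.hom ≫ f₀ ≫ e.inv ≫ red J eT.inv)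
    (fun W x g => Groth.L25.Central.mul_comm_of_multTypeFT (Groth.L25.MultTypeBC.isMultTypeFT_bc hmBT (bi J)) (Y := W) _ g)
  haveI := hw
  haveI : LocallyOfFinitePresentation Z.hom := inferInstance
  haveI : Flat Z.hom := inferInstance
  obtain ⟨w', -, -, -, huniq⟩ := Groth.L25.TorLift.exists_central_hom c hJ (red J (eB.hom ≫ jZ))
    (fun W x g => by rw [Groth.L25.TorLift.red_comp, ← Category.assoc]; exact hc₀ W _ g)
  have hfac : (eB.inv ≫ w ≫ eT.hom) ≫ i = jZ := by
    have h1 : w ≫ eT.hom ≫ i = eB.hom ≫ jZ := by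
      rw [huniq (eB.hom ≫ jZ) inferInstance rfl, huniq (w ≫ eT.hom ≫ i) inferInstance]
      rw [Groth.L25.TorLift.red_comp, Groth.L25.TorLift.red_comp, hwr, Groth.L25.TorLift.red_comp]
      simp only [Category.assoc]
      rw [show red J eT.inv ≫ red J eT.hom ≫ red J i = red J i by
        rw [← Category.assoc, ← Groth.L25.TorLift.red_comp, eT.inv_hom_id]
        exact (congrArg (· ≫ red J i) ((Over.pullback (bi J)).map_id T)).trans (Category.id_comp _),
        ← hei, e.inv_hom_id_assoc, hf₀]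
    simp only [Category.assoc, h1, Iso.inv_hom_id_assoc]
  refine ⟨T, gT, i ≫ z, eB.inv ≫ w ≫ eT.hom, ?_, by rw [← Category.assoc, hfac, hjZ]⟩
  refine ⟨inferInstance, mono_comp _ _, hT.2.2.1, fun s T' _ a _ _ f hT' hf => ?_⟩
  let F := Over.pullback (Red.geomPt s)
  have hZ' := Groth.L08.Borel.isCentralizerOf_bc (Red.geomPt s) hZ
  haveI : IsMonHom (F.map z) := hZ'.1
  haveI : Mono (F.map z) := hZ'.2.1
  obtain ⟨aZ, haZ⟩ := (hZ'.2.2 T' a).2 fun X' x h => by
    have e : h ≫ F.map j = (h ≫ F.map (eB.inv ≫ w ≫ eT.hom) ≫ f) ≫ a := by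
      simp only [Category.assoc]
      rw [hf, ← Functor.map_comp, ← Category.assoc (eB.inv ≫ w ≫ eT.hom), hfac, hjZ]
    rw [e, ← MonObj.mul_comp, ← MonObj.mul_comp,
      Groth.L25.Central.mul_comm_of_multTypeFT (Groth.L25.Locus.isMultTypeFT_of_isTorus hT')]
  haveI : IsMonHom aZ := Groth.L08.Borel.isMonHom_lift_mono (F.map z) a aZ haZ
  haveI : Mono aZ := mono_of_mono_fac haZ
  exact hT.2.2.2 s T' aZ f hT' (by rw [← cancel_mono (F.map z), Category.assoc, haZ, hf, Functor.map_comp])

end Groth.Agent.S4122
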