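import Groth.Statements.S4126
import Groth.Agent.L25.AffRed.Spread
import Groth.Agent.L08.Borel.CartanPreimage

set_option autoImplicit false
universe u
open CategoryTheory MonoidalCategory CartesianMonoidalCategory MonObj GrpObj AlgebraicGeometry CategoryTheory.Limits
open Red

namespace Groth.Agent.S4126

/-- Let G be an S-group scheme, smooth and of finite presentation over S, with connected fibres, and s a
point of S whose geometric fibre is semisimple. Then there is an open neighbourhood U of s over
which G is semisimple (affine and smooth with connected semisimple geometric fibres). -/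
theorem result (S : Scheme.{u}) (G : Over S) [GrpObj G]
    [Smooth G.hom] [QuasiCompact G.hom] [QuasiSeparated G.hom]
    (hconn : ∀ s : S, _root_.IsConnected (G.hom.base ⁻¹' {s})) (s : S)
    (hs : Red.IsSemisimpleOver (AlgebraicClosure (S.residueField s)) (Red.geomFibre s G)) :
    ∃ U : S.Opens, s ∈ U ∧ Red.IsSemisimple (Red.bc U.ι G) := by
  exact Groth.L25.AffRed.exists_semisimple_nhd hconn s hs

end Groth.Agent.S4126
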