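import Groth.Statements.S4127
import Groth.Agent.L08.MonoRed.Immersion
-- import your own Groth.Agent.* helpers here

set_option autoImplicit false
set_option linter.style.haveILetI false
universe u
open CategoryTheory MonoidalCategory CartesianMonoidalCategory MonObj GrpObj AlgebraicGeometry CategoryTheory.Limits
open Red

namespace Groth.Agent.S4127

/-- Let G be a reductive S-group (affine and smooth over S with connected reductive geometric fibres), H
an S-group scheme of finite presentation over S and u : G → H a homomorphism which is a
monomorphism. Then u is an immersion, and a closed immersion if H is separated over S. -/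
theorem result (S : Scheme.{u}) (G H : Over S) [GrpObj G] [GrpObj H]
    (hG : Red.IsReductive G) [LocallyOfFinitePresentation H.hom] [QuasiCompact H.hom] [QuasiSeparated H.hom]
    (u : G ⟶ H) [IsMonHom u] [Mono u] :
    IsImmersion u.left ∧ (IsSeparated H.hom → IsClosedImmersion u.left) := by
  exact Groth.L08.MonoRed.isImmersion_of_mono hG u

end Groth.Agent.S4127
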