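import Groth.Statements.S4136
import Groth.Agent.L08.Borel.RedRank
-- import your own Groth.Agent.* helpers here

set_option autoImplicit false
set_option backward.isDefEq.respectTransparency.types false
set_option linter.style.haveILetI false
set_option backward.isDefEq.respectTransparency.types false
set_option linter.style.haveILetI false
universe u
open CategoryTheory MonoidalCategory CartesianMonoidalCategory MonObj GrpObj AlgebraicGeometry CategoryTheory.Limits
open SGA3x

namespace Groth.Agent.S4136

/-- First assertion: let G be an S-group scheme which is affine and smooth over S. Then the reductive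
rank of the geometric fibres (the dimension of their maximal tori) is a lower semicontinuous
function on S: for every n the set of points whose geometric fibre has a maximal torus of dimension
≥ n is open. (The source also proves that the nilpotent rank is upper semicontinuous.) -/
theorem result (S : Scheme.{u}) (G : Over S) [GrpObj G] [IsAffineHom G.hom] [Smooth G.hom] (n : ℕ) :
    IsOpen {s : S | ∃ r : WithBot ℕ∞, SGA3x.HasRedRank G s r ∧ (n : WithBot ℕ∞) ≤ r} := by
  rw [isOpen_iff_forall_mem_open]
  rintro s ⟨r, hr, hn⟩
  obtain ⟨m, S', e, w, rfl, he, hes, hwh, hwm⟩ := Groth.L08.Borel.exists_chart_of_rank hr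
  haveI := he; haveI := hwh; haveI := hwm
  refine ⟨Set.range e.base, fun t ht => ?_, e.isOpenMap.isOpen_range, hes⟩
  obtain ⟨k, hk, hk'⟩ := Groth.L08.Borel.exists_rank_ge_of_chart e w ht
  exact ⟨k, hk', hn.trans (by exact_mod_cast hk)⟩

end Groth.Agent.S4136
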