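import Groth.Statements.S5374
import Groth.Agent.L19.Limit.ProperNearPoint
import Groth.Agent.L02.ConsP.PairDescends
import Groth.Agent.L26.AV.GroupSep
import Groth.Agent.L20.GenericFreeness
import Groth.Agent.L25.FixedClosed
import Groth.Agent.L25.Locus.Main
import Groth.Agent.S4101
import Groth.Agent.S5356

set_option autoImplicit false
set_option backward.isDefEq.respectTransparency.types false
set_option linter.style.haveILetI false
universe u
open CategoryTheory CategoryTheory.Limits MonoidalCategory CartesianMonoidalCategory MonObj GrpObj AlgebraicGeometry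
open SGA3 TopologicalSpace

namespace Groth.Agent.S5374

open scoped TensorProduct

theorem pb_of_fac {P : MorphismProperty Scheme.{u}} [P.IsStableUnderBaseChange] {X S W U : Scheme.{u}}
    (a : X ⟶ S) (j : W ⟶ S) (i : U ⟶ S) (l : U ⟶ W) (h : l ≫ j = i)
    (hP : P (pullback.snd a j)) : P (pullback.snd a i) := by
  let m : pullback a i ⟶ pullback a j := pullback.lift (pullback.fst _ _) (pullback.snd _ _ ≫ l)
    (by rw [Category.assoc, h, pullback.condition])
  have hm : IsPullback m (pullback.snd a i) (pullback.snd a j) l :=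
    IsPullback.of_right (h₁₂ := pullback.fst a j) (h₂₂ := j)
      (by rw [pullback.lift_fst, h]; exact IsPullback.of_hasPullback a i)
      (pullback.lift_snd _ _ _) (IsPullback.of_hasPullback a j)
  exact P.of_isPullback hm hP

theorem snd_of_fst {P : MorphismProperty Scheme.{u}} [P.RespectsIso] {X S W : Scheme.{u}} (a : X ⟶ S)
    (j : W ⟶ S) (hP : P (pullback.fst j a)) : P (pullback.snd a j) := by
  rw [← pullbackSymmetry_hom_comp_fst a j]
  exact (MorphismProperty.cancel_left_of_respectsIso P _ _).mpr hP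

theorem fst_of_snd {P : MorphismProperty Scheme.{u}} [P.RespectsIso] {X S W : Scheme.{u}} (a : X ⟶ S)
    (j : W ⟶ S) (hP : P (pullback.snd a j)) : P (pullback.fst j a) := by
  rw [← pullbackSymmetry_hom_comp_snd j a]
  exact (MorphismProperty.cancel_left_of_respectsIso P _ _).mpr hP

theorem free_localization {R B L B' : Type u} [CommRing R] [CommRing B] [CommRing L] [CommRing B']
    [Algebra R B] [Algebra R L] [Algebra B B'] [Algebra R B'] [IsScalarTower R B B'] [Algebra L B']
    [IsScalarTower R L B'] (fV f : R) (hd : fV ∣ f) [IsLocalization.Away f L]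
    [IsLocalization.Away (algebraMap R B f) B']
    (hfree : Module.Free (Localization.Away fV) (Localization.Away fV ⊗[R] B)) :
    Module.Free L B' := by
  have hu : IsUnit (algebraMap R L fV) :=
    isUnit_of_dvd_unit (map_dvd _ hd) (IsLocalization.Away.algebraMap_isUnit f)
  letI : Algebra (Localization.Away fV) L := (IsLocalization.Away.lift fV hu).toAlgebra
  haveI : IsScalarTower R (Localization.Away fV) L :=
    IsScalarTower.of_algebraMap_eq fun r => (IsLocalization.Away.lift_eq fV hu r).symm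
  haveI := hfree
  haveI : Module.Free L (L ⊗[R] B) :=
    Module.Free.of_equiv (TensorProduct.AlgebraTensorModule.cancelBaseChange R (Localization.Away fV) L L B)
  haveI : IsLocalization (Algebra.algebraMapSubmonoid B (Submonoid.powers f)) B' := by
    rw [Algebra.algebraMapSubmonoid, Submonoid.map_powers]
    infer_instance
  haveI : IsLocalizedModule (Submonoid.powers f) (IsScalarTower.toAlgHom R B B').toLinearMap :=
    isLocalizedModule_iff_isLocalization.mpr inferInstance
  exact Module.Free.of_equiv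
    (IsLocalizedModule.isBaseChange (Submonoid.powers f) L (IsScalarTower.toAlgHom R B B').toLinearMap).equiv

/-- A scheme over an affine base covered by affine opens with projective rings of sections. -/
theorem isEssentiallyFree_of_cover {X S : Scheme.{u}} [IsAffine S] (f : X ⟶ S)
    (h : ∀ x : X, ∃ V : X.Opens, x ∈ V ∧ IsAffineOpen V ∧
      @Module.Projective Γ(S, ⊤) _ Γ(X, V) _ (f.appLE ⊤ V (by simp)).hom.toAlgebra.toModule) :
    SGA3x.IsEssentiallyFree f := by
  intro s
  refine ⟨⊤, Opens.mem_top _, isAffineOpen_top S, S, inferInstance, (Scheme.topIso S).inv, inferInstance,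
    inferInstance, fun x => ?_⟩
  have hι : (Scheme.topIso S).inv ≫ (⊤ : S.Opens).ι = 𝟙 S := (Scheme.topIso S).inv_hom_id
  haveI : IsIso ((Scheme.topIso S).inv ≫ (⊤ : S.Opens).ι) := by rw [hι]; infer_instance
  let pr := pullback.fst f ((Scheme.topIso S).inv ≫ (⊤ : S.Opens).ι)
  haveI : IsIso pr := inferInstance
  have hpr : pr ≫ f = pullback.snd f _ := by
    refine pullback.condition.trans ?_
    rw [hι]
    exact Category.comp_id _
  obtain ⟨V, hxV, hV, hproj⟩ := h (pr x)
  refine ⟨pr ⁻¹ᵁ V, hxV, hV.preimage_of_isIso pr, ?_⟩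
  refine Groth.L06.PureLocus.projective_transfer (f.appLE ⊤ V (by simp)).hom _ (RingEquiv.refl _)
    ((asIso (pr.app V) ≪≫ (pr ⁻¹ᵁ V).topIso.symm).commRingCatIsoToRingEquiv) (fun r => ?_) hproj
  show (f.appLE ⊤ V (by simp) ≫ pr.app V ≫ (pr ⁻¹ᵁ V).topIso.inv) r =
    ((pr ⁻¹ᵁ V).ι ≫ pullback.snd f _).appTop r
  suffices e : f.appLE ⊤ V (by simp) ≫ pr.app V ≫ (pr ⁻¹ᵁ V).topIso.inv =
      ((pr ⁻¹ᵁ V).ι ≫ pullback.snd f _).appTop by
    exact congrArg (fun φ => φ r) e
  rw [← hpr, ← Category.assoc, Scheme.Hom.appTop, Scheme.Hom.app_eq_appLE, Scheme.Hom.app_eq_appLE,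
    Scheme.Hom.appLE_comp_appLE]
  rw [← Scheme.Hom.appLE_comp_appLE (pr ⁻¹ᵁ V).ι (pr ≫ f) ⊤ (pr ⁻¹ᵁ V) _ (by simp) (by simp)]
  rw [Scheme.Opens.ι_appLE]
  rfl

theorem exists_free_open {X S : Scheme.{u}} [IsIntegral S] (f : X ⟶ S) [LocallyOfFiniteType f]
    [QuasiCompact f] {U₀ : S.Opens} (hU₀ : IsAffineOpen U₀) (hne : (U₀ : Set S).Nonempty) :
    ∃ U : S.Opens, U ≤ U₀ ∧ (U : Set S).Nonempty ∧ SGA3x.IsEssentiallyFree (pullback.snd f U.ι) := by
  obtain ⟨Us, hUs, hfin, hsup⟩ := X.isBasis_affineOpens.exists_finite_of_isCompact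
    (U := f ⁻¹ᵁ U₀) (QuasiCompact.isCompact_preimage (f := f) U₀ U₀.isOpen hU₀.isCompact)
  haveI : Nonempty U₀ := hne.to_subtype
  haveI := hfin.fintype
  have hle : ∀ V : Us, (V : X.Opens) ≤ f ⁻¹ᵁ U₀ := fun V => hsup ▸ le_sSup V.2
  have hex : ∀ V : Us, ∃ a : Γ(S, U₀), a ≠ 0 ∧
      (letI := (f.appLE U₀ V (hle V)).hom.toAlgebra
       Module.Free (Localization.Away a) (Localization.Away a ⊗[Γ(S, U₀)] Γ(X, V))) := fun V => by
    letI := (f.appLE U₀ V (hle V)).hom.toAlgebra
    haveI : Algebra.FiniteType Γ(S, U₀) Γ(X, V) :=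
      LocallyOfFiniteType.finiteType_appLE f hU₀ (hUs V.2) (hle V)
    obtain ⟨a, h1, h2, -⟩ := Groth.L20.GF.exists_free_and_nearlyFP (R := Γ(S, U₀)) (S := Γ(X, V)) Γ(X, V)
    exact ⟨a, h1, h2⟩
  choose a ha hfree using hex
  have ha0 : (∏ V, a V) ≠ 0 := Finset.prod_ne_zero_iff.mpr fun V _ => ha V
  let b : Γ(S, U₀) := ∏ V, a V
  let U := S.basicOpen b
  have hU : IsAffineOpen U := hU₀.basicOpen b
  haveI : IsAffine (U : Scheme.{u}) := hU
  refine ⟨U, S.basicOpen_le b, ?_, ?_⟩
  · rw [Set.nonempty_iff_ne_empty]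
    exact fun h => ha0 ((AlgebraicGeometry.basicOpen_eq_bot_iff b).mp (Opens.ext h))
  refine isEssentiallyFree_of_cover _ fun x => ?_
  let pr := pullback.fst f U.ι
  have hxU : f (pr x) ∈ U := by
    rw [← Scheme.Hom.comp_apply, pullback.condition, Scheme.Hom.comp_apply]
    exact (pullback.snd f U.ι x).2
  have hx0 : pr x ∈ f ⁻¹ᵁ U₀ := S.basicOpen_le b hxU
  rw [hsup] at hx0
  obtain ⟨V, hV, hxV⟩ := Opens.mem_sSup.mp hx0
  let V' := X.basicOpen (f.appLE U₀ V (hle ⟨V, hV⟩) b)
  have hV' : V' = V ⊓ f ⁻¹ᵁ U := Scheme.basicOpen_appLE f V U₀ (hle ⟨V, hV⟩) b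
  have hV'U : V' ≤ f ⁻¹ᵁ U := hV' ▸ inf_le_right
  have hrange : V' ≤ pr.opensRange := by
    refine hV'U.trans (le_of_eq (Opens.ext ?_))
    show f ⁻¹' (U : Set S) = Set.range pr
    rw [Scheme.Pullback.range_fst]
    simp
  haveI : IsIso (pr.app V') := pr.isIso_app V' hrange
  refine ⟨pr ⁻¹ᵁ V', show pr x ∈ V' by rw [hV']; exact ⟨hxV, hxU⟩,
    ((hUs hV).basicOpen _).preimage_of_isOpenImmersion pr hrange, ?_⟩
  refine Groth.L06.PureLocus.projective_transfer (f.appLE U V' hV'U).hom _
    U.topIso.symm.commRingCatIsoToRingEquiv (asIso (pr.app V')).commRingCatIsoToRingEquiv (fun r => ?_) ?_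
  · suffices e : f.appLE U V' hV'U ≫ pr.app V' =
        U.topIso.inv ≫ (pullback.snd f U.ι).appLE ⊤ (pr ⁻¹ᵁ V') (by simp) by
      exact congrArg (fun φ => φ r) e
    rw [Scheme.Hom.app_eq_appLE, Scheme.Hom.appLE_comp_appLE]
    have hi : U.topIso.inv = U.ι.appLE U ⊤ (by simp) := by
      rw [Scheme.Opens.ι_appLE]; rfl
    rw [hi, Scheme.Hom.appLE_comp_appLE]
    simp only [pr, pullback.condition]
  · letI algB := (f.appLE U₀ V (hle ⟨V, hV⟩)).hom.toAlgebra
    letI algL : Algebra Γ(S, U₀) Γ(S, U) := (S.presheaf.map (homOfLE (S.basicOpen_le b)).op).hom.toAlgebra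
    letI algB' : Algebra Γ(X, V) Γ(X, V') :=
      (X.presheaf.map (homOfLE (X.basicOpen_le _)).op).hom.toAlgebra
    letI algRB' : Algebra Γ(S, U₀) Γ(X, V') := ((algebraMap Γ(X, V) Γ(X, V')).comp (algebraMap _ _)).toAlgebra
    haveI : IsScalarTower Γ(S, U₀) Γ(X, V) Γ(X, V') := IsScalarTower.of_algebraMap_eq fun _ => rfl
    letI algLB' := (f.appLE U V' hV'U).hom.toAlgebra
    haveI : IsScalarTower Γ(S, U₀) Γ(S, U) Γ(X, V') := IsScalarTower.of_algebraMap_eq fun r => by
      show (f.appLE U₀ V _ ≫ X.presheaf.map _) r = (S.presheaf.map _ ≫ f.appLE U V' hV'U) r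
      rw [Scheme.Hom.appLE_map, Scheme.Hom.map_appLE]
    haveI : IsLocalization.Away b Γ(S, U) := hU₀.isLocalization_basicOpen b
    haveI : IsLocalization.Away (algebraMap Γ(S, U₀) Γ(X, V) b) Γ(X, V') :=
      (hUs hV).isLocalization_basicOpen _
    haveI : Module.Free Γ(S, U) Γ(X, V') :=
      free_localization (a ⟨V, hV⟩) b (Finset.dvd_prod_of_mem _ (Finset.mem_univ _)) (hfree ⟨V, hV⟩)
    infer_instance

theorem transporter_of_free {S : Scheme.{u}} (G Y : Over S) [GrpObj G] [IsSeparated G.hom]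
    [LocallyOfFinitePresentation G.hom] [QuasiCompact G.hom] [QuasiSeparated G.hom] [QuasiCompact Y.hom]
    (hY : SGA3x.IsEssentiallyFree Y.hom) (u v : Y ⟶ G) :
    ∃ (T : Over S) (t : T ⟶ G), IsClosedImmersion t.left ∧
        LocallyOfFinitePresentation T.hom ∧ QuasiCompact T.hom ∧ QuasiSeparated T.hom ∧
        ∀ (S' : Over S) (g : S' ⟶ G), (∃ z : S' ⟶ T, z ≫ t = g) ↔
          ∀ (S'' : Over S) (s : S'' ⟶ S') (y : S'' ⟶ Y),
            (s ≫ g) * (y ≫ u) * (s ≫ g)⁻¹ = y ≫ v := by
  let a : Y ⊗ G ⟶ G := snd Y G * (fst Y G ≫ u) * (snd Y G)⁻¹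
  let b : Y ⊗ G ⟶ G := fst Y G ≫ v
  haveI : IsClosedImmersion (Groth.L25.Locus.diag G).left := Groth.L25.Locus.isClosedImmersion_diag
  haveI : LocallyOfFinitePresentation (Groth.L25.Locus.diag G).left := Groth.L25.Locus.lfp_diag
  let j := pullback.fst (lift a b).left (Groth.L25.Locus.diag G).left
  let f : (Y ⊗ G).left ⟶ G.left := pullback.snd Y.hom G.hom
  have hf : SGA3x.IsEssentiallyFree f := Groth.Agent.S5356.result.2.2.2 _ _ _ Y.hom G.hom hY
  obtain ⟨T, t, ht, hT, hlfp⟩ := Groth.Agent.S4101.result G.left (Y ⊗ G).left _ f hf j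
  haveI := hlfp (MorphismProperty.pullback_snd _ _ inferInstance) (MorphismProperty.pullback_fst _ _ inferInstance)
  refine ⟨Over.mk (t ≫ G.hom), Over.homMk t rfl, ht, inferInstanceAs (LocallyOfFinitePresentation (t ≫ G.hom)),
    inferInstanceAs (QuasiCompact (t ≫ G.hom)), inferInstanceAs (QuasiSeparated (t ≫ G.hom)), fun S' g => ?_⟩
  have h1 : (∃ z : S' ⟶ Over.mk (t ≫ G.hom), z ≫ Over.homMk t rfl = g) ↔ ∃ g', g' ≫ t = g.left := by
    constructor
    · rintro ⟨z, rfl⟩
      exact ⟨z.left, rfl⟩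
    · rintro ⟨g', hg'⟩
      refine ⟨Over.homMk g' ?_, Over.OverMorphism.ext hg'⟩
      show g' ≫ t ≫ G.hom = S'.hom
      rw [← Category.assoc, hg', Over.w g]
  refine h1.trans ((hT S'.left g.left).trans ?_)
  let P : Over S := Over.mk (pullback.snd f g.left ≫ S'.hom)
  let pt : P ⟶ Y ⊗ G := Over.homMk (pullback.fst f g.left) (by
    show pullback.fst f g.left ≫ (Y ⊗ G).hom = pullback.snd f g.left ≫ S'.hom
    rw [← Over.w g, ← pullback.condition_assoc, Over.tensorObj_hom]
    simp only [f, pullback.condition])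
  let s₀ : P ⟶ S' := Over.homMk (pullback.snd f g.left) rfl
  have hs₀ : s₀ ≫ g = pt ≫ snd Y G := Over.OverMorphism.ext pullback.condition.symm
  have h2 : IsIso (pullback.snd j (pullback.fst f g.left)) ↔ pt ≫ a = pt ≫ b := by
    constructor
    · intro h
      let m : P ⟶ G := Over.homMk (inv (pullback.snd j (pullback.fst f g.left)) ≫ pullback.fst _ _ ≫
          pullback.snd (lift a b).left (Groth.L25.Locus.diag G).left) (by
        have e := congrArg (· ≫ (G ⊗ G).hom) (pullback.condition (f := (lift a b).left)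
          (g := (Groth.L25.Locus.diag G).left))
        simp only [Category.assoc, Over.w] at e
        show (_ ≫ _ ≫ _) ≫ G.hom = _
        rw [Category.assoc, Category.assoc, ← e, pullback.condition_assoc, IsIso.inv_hom_id_assoc]
        exact Over.w pt)
      have hm : pt ≫ lift a b = m ≫ Groth.L25.Locus.diag G := by
        refine Over.OverMorphism.ext ?_
        show pullback.fst f g.left ≫ (lift a b).left = (_ ≫ _ ≫ _) ≫ _
        rw [Category.assoc, Category.assoc, ← pullback.condition, pullback.condition_assoc,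
          IsIso.inv_hom_id_assoc]
      have e1 := congrArg (· ≫ fst G G) hm
      have e2 := congrArg (· ≫ snd G G) hm
      simp only [Category.assoc, lift_fst, lift_snd] at e1 e2
      exact e1.trans e2.symm
    · intro h
      have e : pullback.fst f g.left ≫ (lift a b).left = (pt ≫ a).left ≫ (Groth.L25.Locus.diag G).left := by
        have e' : pt ≫ lift a b = (pt ≫ a) ≫ Groth.L25.Locus.diag G := by
          ext1 <;> simp [h]
        exact congrArg (fun k => k.left) e'
      haveI : IsSplitEpi (pullback.snd j (pullback.fst f g.left)) :=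
        ⟨⟨pullback.lift (pullback.lift (pullback.fst f g.left) (pt ≫ a).left e) (𝟙 _)
          (by rw [Category.id_comp]; exact pullback.lift_fst _ _ _), pullback.lift_snd _ _ _⟩⟩
      exact isIso_of_mono_of_isSplitEpi _
  refine h2.trans ⟨fun h S'' s y => ?_, fun h => ?_⟩
  · let m : S'' ⟶ P := Over.homMk (pullback.lift (lift y (s ≫ g)).left s.left (by
        have := congrArg (fun k => k.left) (lift_snd y (s ≫ g))
        exact this)) (by
      show _ ≫ pullback.snd f g.left ≫ S'.hom = _
      rw [pullback.lift_snd_assoc]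
      exact Over.w s)
    have hm : m ≫ pt = lift y (s ≫ g) := Over.OverMorphism.ext (pullback.lift_fst _ _ _)
    have := congrArg (m ≫ ·) h
    rw [reassoc_of% hm, reassoc_of% hm] at this
    simpa only [a, b, MonObj.comp_mul, GrpObj.comp_inv, lift_fst_assoc, lift_snd] using this
  · have := h P s₀ (pt ≫ fst Y G)
    rw [hs₀] at this
    simpa only [a, b, MonObj.comp_mul, GrpObj.comp_inv, Category.assoc] using this

end Groth.Agent.S5374

namespace Groth.Agent.S5374

/-- The transporter of two morphisms; the centralizer of a morphism is the case u = v: let S be an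
integral scheme, G an S-group scheme of finite presentation, Y an S-scheme of finite presentation
and u, v : Y → G two morphisms of S-schemes. Then there is a nonempty open subscheme S' of S such
that, after base change to S', the transporter of u into v (points g with g u(y) g⁻¹ = v(y) for all
points y of Y after any base change) is represented by a closed subscheme of G_{S'} of finite
presentation over S'. (The published statement also treats, over the same open, the transporter and
the strict transporter of two subschemes and the normalizer of a subscheme; this row treats the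
transporter of two morphisms only.) -/
theorem result (S : Scheme.{u}) [IsIntegral S] (G Y : Over S) [GrpObj G]
    [LocallyOfFinitePresentation G.hom] [QuasiCompact G.hom] [QuasiSeparated G.hom]
    [LocallyOfFinitePresentation Y.hom] [QuasiCompact Y.hom] [QuasiSeparated Y.hom] (u v : Y ⟶ G) :
    ∃ U : S.Opens, (U : Set S).Nonempty ∧
      ∃ (T : Over (U : Scheme.{u})) (t : T ⟶ Red.bc U.ι G), IsClosedImmersion t.left ∧
        LocallyOfFinitePresentation T.hom ∧ QuasiCompact T.hom ∧ QuasiSeparated T.hom ∧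
        ∀ (S' : Over (U : Scheme.{u})) (g : S' ⟶ Red.bc U.ι G), (∃ z : S' ⟶ T, z ≫ t = g) ↔
          ∀ (S'' : Over (U : Scheme.{u})) (s : S'' ⟶ S') (y : S'' ⟶ Red.bc U.ι Y),
            (s ≫ g) * (y ≫ (Over.pullback U.ι).map u) * (s ≫ g)⁻¹ = y ≫ (Over.pullback U.ι).map v := by
  obtain ⟨W, hηW, hW⟩ := Groth.L19.Limit.exists_nhd_pb G.hom (𝟙 S) (genericPoint S)
    L02.ConsP.descends_isSeparated'
    ⟨⟨inferInstance, inferInstance⟩, inferInstance⟩
    (fst_of_snd _ _ (pb_of_fac _ _ _ (pullback.snd (𝟙 S) _)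
      (by rw [← pullback.condition, Category.comp_id])
      (Groth.Agent.AV.isSeparated_of_grpObj (k := S.functionField)
        (Red.bc (S.fromSpecStalk (genericPoint S)) G))))
  obtain ⟨U₀, hU₀, hη₀, hU₀W⟩ := exists_isAffineOpen_mem_and_subset (X := S) (x := genericPoint S) (U := W) hηW
  obtain ⟨U, hUle, hne, hfree⟩ := exists_free_open Y.hom hU₀ ⟨_, hη₀⟩
  haveI : IsSeparated (Red.bc U.ι G).hom := by
    have h := snd_of_fst (P := @IsSeparated) G.hom _ hW
    exact pb_of_fac G.hom _ U.ι (S.homOfLE (hUle.trans hU₀W)) (S.homOfLE_ι _) h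
  haveI : LocallyOfFinitePresentation (Red.bc U.ι G).hom := MorphismProperty.pullback_snd _ _ inferInstance
  haveI : QuasiCompact (Red.bc U.ι G).hom := MorphismProperty.pullback_snd _ _ inferInstance
  haveI : QuasiCompact (Red.bc U.ι Y).hom := MorphismProperty.pullback_snd _ _ inferInstance
  exact ⟨U, hne, transporter_of_free (Red.bc U.ι G) (Red.bc U.ι Y) hfree _ _⟩

end Groth.Agent.S5374
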