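import Groth.Statements.S4137
import Groth.Agent.S5374
import Groth.Agent.S3036
import Groth.Agent.L25.Locus.Smooth

set_option autoImplicit false
set_option backward.isDefEq.respectTransparency.types false
set_option linter.style.haveILetI false
universe u
open CategoryTheory MonoidalCategory CartesianMonoidalCategory MonObj GrpObj AlgebraicGeometry CategoryTheory.Limits
open SGA3 TopologicalSpace
open Groth.Agent.S5374 (pb_of_fac fst_of_snd snd_of_fst exists_free_open)

namespace Groth.Agent.S4137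

theorem pb_map_iff {P : MorphismProperty Scheme.{u}} [P.RespectsIso] {S S' : Scheme.{u}} {H G : Over S}
    (i : H ⟶ G) (σ : S' ⟶ S) :
    P ((Over.pullback σ).map i).left ↔ P (pullback.fst (pullback.fst G.hom σ) i.left) := by
  have hm : ((Over.pullback σ).map i).left ≫ pullback.fst G.hom σ = pullback.fst H.hom σ ≫ i.left :=
    pullback.lift_fst _ _ _
  have hH : IsPullback (pullback.fst H.hom σ) (pullback.snd H.hom σ) H.hom σ := IsPullback.of_hasPullback _ _
  have sq : IsPullback (pullback.fst H.hom σ) ((Over.pullback σ).map i).left i.left (pullback.fst G.hom σ) := by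
    refine IsPullback.of_bot ?_ hm.symm (IsPullback.of_hasPullback G.hom σ)
    rw [show ((Over.pullback σ).map i).left ≫ pullback.snd G.hom σ = pullback.snd H.hom σ from
      pullback.lift_snd _ _ _, Over.w i]
    exact hH
  rw [← sq.flip.isoPullback_hom_fst]
  exact MorphismProperty.cancel_left_of_respectsIso P _ _

theorem isClosedImmersion_field (k : Type u) [Field k] (G H : Over (Spec (CommRingCat.of k))) [GrpObj G] [GrpObj H]
    [LocallyOfFiniteType G.hom] [LocallyOfFiniteType H.hom]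
    (u : G ⟶ H) [IsMonHom u] [Mono u] [QuasiCompact u.left] : IsClosedImmersion u.left :=
  Groth.Agent.S3036.result k G H u

theorem exists_factor_locus {S : Scheme.{u}} (G Y P Q : Over S) [QuasiCompact Y.hom]
    (hY : SGA3x.IsEssentiallyFree Y.hom) (c : Y ⊗ G ⟶ P) (i : Q ⟶ P) [IsClosedImmersion i.left]
    [LocallyOfFinitePresentation i.left] :
    ∃ (T : Over S) (t : T ⟶ G), IsClosedImmersion t.left ∧ LocallyOfFinitePresentation t.left ∧
        ∀ (S' : Over S) (g : S' ⟶ G), (∃ z : S' ⟶ T, z ≫ t = g) ↔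
          ∀ (S'' : Over S) (s : S'' ⟶ S') (y : S'' ⟶ Y),
            ∃ q : S'' ⟶ Q, lift y (s ≫ g) ≫ c = q ≫ i := by
  let j := pullback.fst c.left i.left
  let f : (Y ⊗ G).left ⟶ G.left := pullback.snd Y.hom G.hom
  have hf : SGA3x.IsEssentiallyFree f := Groth.Agent.S5356.result.2.2.2 _ _ _ Y.hom G.hom hY
  obtain ⟨T, t, ht, hT, hlfp⟩ := Groth.Agent.S4101.result G.left (Y ⊗ G).left _ f hf j
  haveI := hlfp (MorphismProperty.pullback_snd _ _ inferInstance) (MorphismProperty.pullback_fst _ _ inferInstance)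
  refine ⟨Over.mk (t ≫ G.hom), Over.homMk t rfl, ht, this, fun S' g => ?_⟩
  have h1 : (∃ z : S' ⟶ Over.mk (t ≫ G.hom), z ≫ Over.homMk t rfl = g) ↔ ∃ g', g' ≫ t = g.left := by
    constructor
    · rintro ⟨z, rfl⟩
      exact ⟨z.left, rfl⟩
    · rintro ⟨g', hg'⟩
      refine ⟨Over.homMk g' ?_, Over.OverMorphism.ext hg'⟩
      show g' ≫ t ≫ G.hom = S'.hom
      rw [← Category.assoc, hg', Over.w g]
  refine h1.trans ((hT S'.left g.left).trans ?_)
  let P₀ : Over S := Over.mk (pullback.snd f g.left ≫ S'.hom)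
  let pt : P₀ ⟶ Y ⊗ G := Over.homMk (pullback.fst f g.left) (by
    show pullback.fst f g.left ≫ (Y ⊗ G).hom = pullback.snd f g.left ≫ S'.hom
    rw [← Over.w g, ← pullback.condition_assoc, Over.tensorObj_hom]
    simp only [f, pullback.condition])
  let s₀ : P₀ ⟶ S' := Over.homMk (pullback.snd f g.left) rfl
  have hs₀ : s₀ ≫ g = pt ≫ snd Y G := Over.OverMorphism.ext pullback.condition.symm
  have h2 : IsIso (pullback.snd j (pullback.fst f g.left)) ↔ ∃ q : P₀ ⟶ Q, pt ≫ c = q ≫ i := by
    constructor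
    · intro h
      have e : pullback.fst f g.left ≫ c.left =
          (inv (pullback.snd j (pullback.fst f g.left)) ≫ pullback.fst _ _ ≫ pullback.snd c.left i.left) ≫ i.left := by
        rw [Category.assoc, Category.assoc, ← pullback.condition, pullback.condition_assoc,
          IsIso.inv_hom_id_assoc]
      refine ⟨Over.homMk (inv (pullback.snd j (pullback.fst f g.left)) ≫ pullback.fst _ _ ≫
        pullback.snd c.left i.left) ?_, Over.OverMorphism.ext e⟩
      have e' := congrArg (· ≫ P.hom) e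
      simp only [Category.assoc, Over.w] at e' ⊢
      exact e'.symm.trans (Over.w pt)
    · rintro ⟨q, h⟩
      haveI : IsSplitEpi (pullback.snd j (pullback.fst f g.left)) :=
        ⟨⟨pullback.lift (pullback.lift (pullback.fst f g.left) q.left (congrArg (fun k => k.left) h)) (𝟙 _)
          (by rw [Category.id_comp]; exact pullback.lift_fst _ _ _), pullback.lift_snd _ _ _⟩⟩
      exact isIso_of_mono_of_isSplitEpi _
  refine h2.trans ⟨fun ⟨q, h⟩ S'' s y => ?_, fun h => ?_⟩
  · let m : S'' ⟶ P₀ := Over.homMk (pullback.lift (lift y (s ≫ g)).left s.left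
      (congrArg (fun k => k.left) (lift_snd y (s ≫ g)))) (by
      show _ ≫ pullback.snd f g.left ≫ S'.hom = _
      rw [pullback.lift_snd_assoc]
      exact Over.w s)
    have hm : m ≫ pt = lift y (s ≫ g) := Over.OverMorphism.ext (pullback.lift_fst _ _ _)
    exact ⟨m ≫ q, by rw [← hm, Category.assoc, h, Category.assoc]⟩
  · obtain ⟨q, e⟩ := h P₀ s₀ (pt ≫ fst Y G)
    refine ⟨q, ?_⟩
    rwa [hs₀, ← comp_lift, lift_fst_snd, Category.comp_id] at e

theorem centNorm_of_free {S : Scheme.{u}} {G H : Over S} [GrpObj G] [GrpObj H] [IsSeparated G.hom]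
    [LocallyOfFinitePresentation G.hom] [QuasiCompact G.hom] [LocallyOfFinitePresentation H.hom]
    [QuasiCompact H.hom] (hH : SGA3x.IsEssentiallyFree H.hom) (i : H ⟶ G) [IsMonHom i]
    [IsClosedImmersion i.left] :
    ∃ (C N : Over S) (_ : GrpObj C) (_ : GrpObj N) (c : C ⟶ G) (n : N ⟶ G),
        Red.IsCentralizerOf i c ∧ IsClosedImmersion c.left ∧
          LocallyOfFinitePresentation C.hom ∧ QuasiCompact C.hom ∧
        Red.IsNormalizerOf i n ∧ IsClosedImmersion n.left ∧
          LocallyOfFinitePresentation N.hom ∧ QuasiCompact N.hom := by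
  haveI : LocallyOfFinitePresentation i.left := by
    have : LocallyOfFinitePresentation (i.left ≫ G.hom) := by rw [Over.w i]; infer_instance
    exact Groth.L20.locallyOfFinitePresentation_of_comp i.left G.hom
  haveI : IsClosedImmersion (Groth.L25.Locus.diag G).left := Groth.L25.Locus.isClosedImmersion_diag
  haveI : LocallyOfFinitePresentation (Groth.L25.Locus.diag G).left := Groth.L25.Locus.lfp_diag
  obtain ⟨C, c, hc, hcl, hC⟩ := exists_factor_locus G H (G ⊗ G) G hH
    (lift (snd H G * (fst H G ≫ i)) ((fst H G ≫ i) * snd H G)) (Groth.L25.Locus.diag G)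
  obtain ⟨N₁, n₁, hn₁, hn₁l, hN₁⟩ := exists_factor_locus G H G H hH
    (snd H G * (fst H G ≫ i) * (snd H G)⁻¹) i
  obtain ⟨N₂, n₂, hn₂, hn₂l, hN₂⟩ := exists_factor_locus G H G H hH
    ((snd H G)⁻¹ * (fst H G ≫ i) * snd H G) i
  simp only [MonObj.comp_mul, GrpObj.comp_inv, lift_fst_assoc, lift_snd] at hN₁ hN₂
  let F : ∀ T : Over S, (T ⟶ G) → Prop := fun T g => ∀ (X' : Over S) (x : X' ⟶ T) (h : X' ⟶ H),
    (x ≫ g) * (h ≫ i) = (h ≫ i) * (x ≫ g)
  let F' : ∀ T : Over S, (T ⟶ G) → Prop := fun T g => ∀ (X' : Over S) (x : X' ⟶ T) (h : X' ⟶ H),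
    (∃ h' : X' ⟶ H, (x ≫ g) * (h ≫ i) * (x ≫ g)⁻¹ = h' ≫ i) ∧
      (∃ h' : X' ⟶ H, (x ≫ g)⁻¹ * (h ≫ i) * (x ≫ g) = h' ≫ i)
  have hCF : ∀ (T : Over S) (g : T ⟶ G), (∃ z, z ≫ c = g) ↔ F T g := fun T g => by
    refine (hC T g).trans ⟨fun h X' x y => ?_, fun h X' x y => ⟨(y ≫ i) * (x ≫ g), ?_⟩⟩
    · obtain ⟨q, hq⟩ := h X' x y
      simp only [comp_lift, MonObj.comp_mul, lift_fst_assoc, lift_snd, Category.comp_id] at hq
      have e1 := congrArg (· ≫ fst G G) hq
      have e2 := congrArg (· ≫ snd G G) hq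
      simp only [lift_fst, lift_snd] at e1 e2
      exact e1.trans e2.symm
    · simp only [comp_lift, MonObj.comp_mul, lift_fst_assoc, lift_snd, Category.comp_id]
      rw [h X' x y]
  let Nl := pullback.fst n₁.left n₂.left
  let N : Over S := Over.mk ((Nl ≫ n₁.left) ≫ G.hom)
  let n : N ⟶ G := Over.homMk (Nl ≫ n₁.left) rfl
  have hn : IsClosedImmersion n.left := inferInstanceAs (IsClosedImmersion (Nl ≫ n₁.left))
  have hNF : ∀ (T : Over S) (g : T ⟶ G), (∃ z, z ≫ n = g) ↔ F' T g := fun T g => by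
    constructor
    · rintro ⟨z, rfl⟩ X' x h
      let a : N ⟶ N₁ := Over.homMk Nl (by
        show Nl ≫ N₁.hom = (Nl ≫ n₁.left) ≫ G.hom
        rw [Category.assoc, Over.w n₁])
      let b : N ⟶ N₂ := Over.homMk (pullback.snd _ _) (by
        show pullback.snd _ _ ≫ N₂.hom = (Nl ≫ n₁.left) ≫ G.hom
        rw [show Nl ≫ n₁.left = pullback.snd _ _ ≫ n₂.left from pullback.condition, Category.assoc, Over.w n₂])
      have hb : b ≫ n₂ = n := Over.OverMorphism.ext pullback.condition.symm
      exact ⟨(hN₁ T (z ≫ n)).1 ⟨z ≫ a, Category.assoc _ _ _⟩ X' x h,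
        (hN₂ T (z ≫ n)).1 ⟨z ≫ b, by rw [Category.assoc, hb]⟩ X' x h⟩
    · intro h
      obtain ⟨z₁, e₁⟩ := (hN₁ T g).2 fun X' x y => (h X' x y).1
      obtain ⟨z₂, e₂⟩ := (hN₂ T g).2 fun X' x y => (h X' x y).2
      have e : z₁.left ≫ n₁.left = z₂.left ≫ n₂.left :=
        (congrArg (fun k => k.left) e₁).trans (congrArg (fun k => k.left) e₂).symm
      refine ⟨Over.homMk (pullback.lift z₁.left z₂.left e) ?_, Over.OverMorphism.ext ?_⟩
      · show _ ≫ (Nl ≫ n₁.left) ≫ G.hom = _
        rw [Category.assoc, pullback.lift_fst_assoc, Over.w n₁]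
        exact Over.w z₁
      · show _ ≫ Nl ≫ n₁.left = g.left
        exact (pullback.lift_fst_assoc _ _ _ _).trans (congrArg (fun k => k.left) e₁)
  haveI : Mono c := Over.mono_of_mono_left c
  haveI : Mono n := Over.mono_of_mono_left n
  obtain ⟨gC, mC⟩ := Groth.L25.Locus.exists_subgroup c F hCF
    (fun X' x h => by rw [MonObj.comp_one, _root_.one_mul, _root_.mul_one])
    (fun T a b ha hb X' x h => by
      rw [MonObj.comp_mul, _root_.mul_assoc, hb X' x h, ← _root_.mul_assoc, ha X' x h, _root_.mul_assoc])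
    (fun T a ha X' x h => by
      rw [GrpObj.comp_inv, inv_mul_eq_iff_eq_mul, ← _root_.mul_assoc, ha X' x h, mul_inv_cancel_right])
  obtain ⟨gN, mN⟩ := Groth.L25.Locus.exists_subgroup n F' hNF
    (fun X' x h => by
      simp only [MonObj.comp_one, inv_one, _root_.one_mul, _root_.mul_one]
      exact ⟨⟨h, rfl⟩, ⟨h, rfl⟩⟩)
    (fun T a b ha hb X' x h => by
      rw [MonObj.comp_mul]
      constructor
      · obtain ⟨h₁, e₁⟩ := (hb X' x h).1
        obtain ⟨h₂, e₂⟩ := (ha X' x h₁).1
        exact ⟨h₂, by rw [← e₂, ← e₁]; group⟩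
      · obtain ⟨h₁, e₁⟩ := (ha X' x h).2
        obtain ⟨h₂, e₂⟩ := (hb X' x h₁).2
        exact ⟨h₂, by rw [← e₂, ← e₁]; group⟩)
    (fun T a ha X' x h => by
      rw [GrpObj.comp_inv, _root_.inv_inv]
      exact ⟨(ha X' x h).2, (ha X' x h).1⟩)
  haveI : LocallyOfFinitePresentation c.left := hcl
  have hC1 : LocallyOfFinitePresentation C.hom := by rw [← Over.w c]; infer_instance
  have hC2 : QuasiCompact C.hom := by rw [← Over.w c]; infer_instance
  exact ⟨C, N, gC, gN, c, n, ⟨mC, inferInstance, hCF⟩, hc, hC1, hC2, ⟨mN, inferInstance, hNF⟩, hn,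
    inferInstanceAs (LocallyOfFinitePresentation ((Nl ≫ n₁.left) ≫ G.hom)),
    inferInstanceAs (QuasiCompact ((Nl ≫ n₁.left) ≫ G.hom))⟩

end Groth.Agent.S4137

namespace Groth.Agent.S4137

/-- Let S be an integral scheme, G and H S-group schemes of finite presentation over S and i : H → G a
homomorphism which is a quasi-compact monomorphism. Then there is a non-empty open U of S over which
i becomes a closed immersion and the centralizer and the normalizer of H_U in G_U are representable
by closed subgroup schemes of G_U of finite presentation over U. -/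
theorem result (S : Scheme.{u}) [IsIntegral S] (G H : Over S)
    [GrpObj G] [GrpObj H] [LocallyOfFinitePresentation G.hom] [QuasiCompact G.hom] [QuasiSeparated G.hom]
    [LocallyOfFinitePresentation H.hom] [QuasiCompact H.hom] [QuasiSeparated H.hom]
    (i : H ⟶ G) [IsMonHom i] [Mono i] [QuasiCompact i.left] :
    ∃ U : S.Opens, (U : Set S).Nonempty ∧ IsClosedImmersion ((Over.pullback U.ι).map i).left ∧
      ∃ (C N : Over (U : Scheme.{u})) (_ : GrpObj C) (_ : GrpObj N) (c : C ⟶ Red.bc U.ι G) (n : N ⟶ Red.bc U.ι G),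
        Red.IsCentralizerOf ((Over.pullback U.ι).map i) c ∧ IsClosedImmersion c.left ∧
          LocallyOfFinitePresentation C.hom ∧ QuasiCompact C.hom ∧
        Red.IsNormalizerOf ((Over.pullback U.ι).map i) n ∧ IsClosedImmersion n.left ∧
          LocallyOfFinitePresentation N.hom ∧ QuasiCompact N.hom := by
  haveI : LocallyOfFinitePresentation i.left := by
    have : LocallyOfFinitePresentation (i.left ≫ G.hom) := by rw [Over.w i]; infer_instance
    exact Groth.L20.locallyOfFinitePresentation_of_comp i.left G.hom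
  haveI : QuasiSeparated i.left := by
    have : QuasiSeparated (i.left ≫ G.hom) := by rw [Over.w i]; infer_instance
    exact QuasiSeparated.of_comp i.left G.hom
  let η' := genericPoint S
  let σ := S.fromSpecStalk η'
  haveI : LocallyOfFiniteType (Red.bc σ G).hom := MorphismProperty.pullback_snd _ _ inferInstance
  haveI : LocallyOfFiniteType (Red.bc σ H).hom := MorphismProperty.pullback_snd _ _ inferInstance
  haveI : QuasiCompact ((Over.pullback σ).map i).left :=
    (pb_map_iff (P := @QuasiCompact) i σ).mpr (MorphismProperty.pullback_fst _ _ inferInstance)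
  have hgen : IsClosedImmersion ((Over.pullback σ).map i).left :=
    isClosedImmersion_field S.functionField (Red.bc σ H) (Red.bc σ G) ((Over.pullback σ).map i)
  obtain ⟨W₁, hq₁, hW₁⟩ := Groth.L19.Limit.exists_nhd_pb i.left G.hom η'
    L02.ConsP.descends_isClosedImmersion' ⟨⟨inferInstance, inferInstance⟩, inferInstance⟩
    ((pb_map_iff i σ).mp hgen)
  obtain ⟨W₂, hq₂, hW₂⟩ := Groth.L19.Limit.exists_nhd_pb G.hom (𝟙 S) η'
    L02.ConsP.descends_isSeparated'
    ⟨⟨inferInstance, inferInstance⟩, inferInstance⟩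
    (fst_of_snd _ _ (pb_of_fac _ _ _ (pullback.snd (𝟙 S) _)
      (by rw [← pullback.condition, Category.comp_id])
      (Groth.Agent.AV.isSeparated_of_grpObj (k := S.functionField) (Red.bc σ G))))
  obtain ⟨U₀, hU₀, hq₀, hU₀W⟩ := exists_isAffineOpen_mem_and_subset (X := S) (x := η') (U := W₁ ⊓ W₂) ⟨hq₁, hq₂⟩
  obtain ⟨U, hUle, hne, hfree⟩ := exists_free_open H.hom hU₀ ⟨_, hq₀⟩
  haveI hsep : IsSeparated (Red.bc U.ι G).hom := by
    have h := snd_of_fst (P := @IsSeparated) G.hom _ hW₂
    exact pb_of_fac G.hom _ U.ι (S.homOfLE ((hUle.trans hU₀W).trans inf_le_right)) (S.homOfLE_ι _) h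
  have hle : U ≤ W₁ := (hUle.trans hU₀W).trans inf_le_left
  have hr : Set.range (pullback.fst G.hom U.ι) ⊆ Set.range (G.hom ⁻¹ᵁ W₁).ι := by
    rw [Scheme.Pullback.range_fst, Scheme.Opens.range_ι, Scheme.Opens.range_ι]
    exact Set.preimage_mono hle
  haveI hcl : IsClosedImmersion ((Over.pullback U.ι).map i).left :=
    (pb_map_iff i U.ι).mpr (fst_of_snd _ _ (pb_of_fac _ _ _
      (IsOpenImmersion.lift (G.hom ⁻¹ᵁ W₁).ι _ hr) (IsOpenImmersion.lift_fac _ _ _)
      (snd_of_fst (P := @IsClosedImmersion) i.left _ hW₁)))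
  haveI : LocallyOfFinitePresentation (Red.bc U.ι G).hom := MorphismProperty.pullback_snd _ _ inferInstance
  haveI : QuasiCompact (Red.bc U.ι G).hom := MorphismProperty.pullback_snd _ _ inferInstance
  haveI : LocallyOfFinitePresentation (Red.bc U.ι H).hom := MorphismProperty.pullback_snd _ _ inferInstance
  haveI : QuasiCompact (Red.bc U.ι H).hom := MorphismProperty.pullback_snd _ _ inferInstance
  exact ⟨U, hne, hcl, centNorm_of_free hfree ((Over.pullback U.ι).map i)⟩

end Groth.Agent.S4137
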