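import Groth.Statements.S4139
import Groth.Agent.L08.Borel.CentralMax
-- import your own Groth.Agent.* helpers here

set_option autoImplicit false
set_option backward.isDefEq.respectTransparency.types false
set_option linter.style.haveILetI false
set_option backward.isDefEq.respectTransparency.types false
set_option linter.style.haveILetI false
universe u
open CategoryTheory MonoidalCategory CartesianMonoidalCategory MonObj GrpObj AlgebraicGeometry CategoryTheory.Limits
open SGA3x

namespace Groth.Agent.S4139

/-- Let G be a commutative S-group scheme, smooth and affine over S, whose geometric fibres have locally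
constant reductive rank. Then G has a maximal torus T, and every subtorus of G is contained in T (in
particular T is the unique maximal torus). -/
theorem result (S : Scheme.{u}) (G : Over S) [GrpObj G] [IsCommMonObj G]
    [IsAffineHom G.hom] [Smooth G.hom] (hr : SGA3x.RedRankLocallyConstant G) :
    ∃ (T : Over S) (_ : GrpObj T) (i : T ⟶ G), Red.IsMaximalTorus i ∧
      ∀ (R : Over S) [GrpObj R] (j : R ⟶ G) [IsMonHom j] [Mono j], Red.IsTorus R → ∃ f : R ⟶ T, f ≫ i = j := by
  have hc : ∀ (P : Scheme.{u}) (q : P ⟶ S), Groth.L08.Borel.FibCentral (Red.bc q G) := fun P q => by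
    intro p R _ j _ _ _ X g t
    apply Groth.L25.CentralLift.toBase_injective
    rw [Groth.L25.NilAction.toBase_mul, Groth.L25.NilAction.toBase_mul]
    apply Groth.L25.CentralLift.toBase_injective
    rw [Groth.L25.NilAction.toBase_mul, Groth.L25.NilAction.toBase_mul]
    exact mul_comm _ _
  obtain ⟨T, gT, i, h1, -, h2⟩ :=
    Groth.L08.Borel.exists_central_maximalTorus G hr (Groth.L08.Borel.fibCentral_of_comm G) hc
  exact ⟨T, gT, i, h1, h2⟩

end Groth.Agent.S4139
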