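import Groth.Prelude.Def_SGA3x
import Groth.Prelude.Def_SGA3
import Groth.Prelude.Def_AlgGrp
import Groth.Prelude.Def_Red
import Groth.Prelude.Def_Mor2
import Mathlib.AlgebraicGeometry.Morphisms.Smooth
import Mathlib.AlgebraicGeometry.Morphisms.Etale
import Mathlib.AlgebraicGeometry.Morphisms.Flat
import Mathlib.AlgebraicGeometry.Morphisms.FinitePresentation
import Mathlib.AlgebraicGeometry.Morphisms.Separated
import Mathlib.AlgebraicGeometry.Morphisms.UniversallyOpen
import Mathlib.AlgebraicGeometry.Morphisms.ClosedImmersion
import Mathlib.AlgebraicGeometry.Morphisms.Affine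
import Mathlib.AlgebraicGeometry.ResidueField
import Mathlib.AlgebraicGeometry.Noetherian
import Mathlib.Topology.KrullDimension
import Mathlib.Topology.LocallyConstant.Basic
import Mathlib.Topology.Constructible
import Mathlib.CategoryTheory.Limits.Shapes.Pullback.IsPullback.Defs
import Mathlib.RingTheory.HopfAlgebra.Basic
import Mathlib.RingTheory.Flat.FaithfullyFlat.Basic
import Mathlib.RingTheory.DedekindDomain.Basic
import Mathlib.RingTheory.Localization.FractionRing
import Mathlib.RingTheory.MvPolynomial.Basic
import Mathlib.RingTheory.Ideal.Quotient.Operations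
import Mathlib.RingTheory.Etale.Basic
import Mathlib.Algebra.CharP.Defs
import Mathlib.RingTheory.Artinian.Ring
import Mathlib.RingTheory.HopfAlgebra.Quotient
import Groth.Agent.L02.NeutralOpen.Translate
import Mathlib.AlgebraicGeometry.Morphisms.Separated

set_option autoImplicit false
set_option linter.style.haveILetI false
namespace CartesianMonoidalCategory
end CartesianMonoidalCategory
namespace GrpObj
end GrpObj
namespace MonObj
end MonObj
namespace SGA3
end SGA3
set_option linter.style.haveILetI false
set_option backward.isDefEq.respectTransparency.types false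
set_option backward.isDefEq.respectTransparency false
universe u
open CategoryTheory MonoidalCategory CartesianMonoidalCategory MonObj GrpObj AlgebraicGeometry CategoryTheory.Limits
open SGA3

namespace Groth.Agent.S4140

/-- Let G be an S-group scheme locally of finite presentation over S such that s ↦ dim G_s is locally
constant, and σ, τ two S-points of G with values in the neutral component G⁰ (their images lie in
the union of the neutral components of the fibres). Then the subscheme of coincidences of σ and τ
(the pullback of the diagonal of G along (σ, τ)) is a closed subscheme of S. -/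
theorem result (S : Scheme.{u}) (G : Over S) [GrpObj G]
    [LocallyOfFinitePresentation G.hom]
    (hdim : IsLocallyConstant (fun s : S => topologicalKrullDim ↥(G.hom.base ⁻¹' {s})))
    (σ τ : 𝟙_ (Over S) ⟶ G) (hσ : Set.range σ.left.base ⊆ SGA3x.neutralSet G)
    (hτ : Set.range τ.left.base ⊆ SGA3x.neutralSet G) :
    IsClosedImmersion (pullback.fst (lift σ τ) (lift (𝟙 G) (𝟙 G))).left := by
  let a : AlgGrp.Action G G := ⟨μ[G], MonObj.one_mul G, MonObj.mul_assoc G⟩
  have hfst : ∀ f : 𝟙_ (Over S) ⟶ G, ∀ s, (fst G G).left ((lift f η[G]).left s) = f.left s := fun f s => by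
    rw [← Scheme.Hom.comp_apply, ← Over.comp_left, lift_fst]
  have hsnd : ∀ f : 𝟙_ (Over S) ⟶ G, ∀ s, (snd G G).left ((lift f η[G]).left s) = η[G].left s := fun f s => by
    rw [← Scheme.Hom.comp_apply, ← Over.comp_left, lift_snd]
  have hcl : IsClosed (Groth.L02.NeutralOpen.coinc σ τ) := by
    rw [← isOpen_compl_iff, isOpen_iff_mem_nhds]
    intro s hs
    let o : G.left := η[G].left s
    obtain ⟨V, hV, hoV, -⟩ := exists_isAffineOpen_mem_and_subset (X := S) (x := G.hom o) (U := ⊤) trivial
    obtain ⟨U, hU, hoU, hUV⟩ := exists_isAffineOpen_mem_and_subset (X := G.left) (x := o) (U := G.hom ⁻¹ᵁ V) hoV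
    haveI : IsSeparated (U.ι ≫ G.hom) := by
      haveI : IsAffine U.toScheme := hU
      haveI : IsAffine V.toScheme := hV
      rw [← Scheme.Hom.resLE_comp_ι G.hom hUV]
      infer_instance
    have hmem : ∀ f : 𝟙_ (Over S) ⟶ G, Set.range f.left.base ⊆ SGA3x.neutralSet G →
        f.left s ∈ Groth.L02.NeutralOpen.translates G a (U : Set G.left) := fun f hf => by
      refine ⟨(lift f η[G]).left s, ⟨?_, ?_⟩, ?_⟩
      · rw [hfst]; exact hf ⟨s, rfl⟩
      · rw [hsnd]; exact hoU
      · show μ[G].left _ = _
        rw [← Scheme.Hom.comp_apply, ← Over.comp_left, ← Hom.mul_def, MonObj.one_eq_one, _root_.mul_one]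
    exact Groth.L02.NeutralOpen.compl_coinc_mem_nhds G hdim a U σ τ (hmem σ hσ) (hmem τ hτ) hs
  rw [Groth.L02.NeutralOpen.coinc_eq_range] at hcl
  haveI : IsPreimmersion (lift (𝟙 G) (𝟙 G)).left := by
    have e : (lift (𝟙 G) (𝟙 G)).left = pullback.diagonal G.hom := by
      rw [Over.lift_left]; rfl
    rw [e]; infer_instance
  haveI : IsPreimmersion (pullback.fst (lift σ τ) (lift (𝟙 G) (𝟙 G))).left :=
    MorphismProperty.of_isPullback (P := @IsPreimmersion)
      ((IsPullback.of_hasPullback (lift σ τ) (lift (𝟙 G) (𝟙 G))).map (Over.forget S)).flip ‹_›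
  exact IsClosedImmersion.of_isPreimmersion _ hcl

end Groth.Agent.S4140
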