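import Groth.Statements.S4144
import Groth.Agent.L08.MonoURZ.UrzImm
-- import your own Groth.Agent.* helpers here

set_option autoImplicit false
set_option backward.isDefEq.respectTransparency.types false
set_option linter.style.haveILetI false
universe u
open CategoryTheory MonoidalCategory CartesianMonoidalCategory MonObj GrpObj AlgebraicGeometry CategoryTheory.Limits
open SGA3x

namespace Groth.Agent.S4144

/-- Let G be an S-group scheme, smooth and of finite presentation over S, of unipotent rank zero, with
connected fibres, acquiring a maximal torus after an fpqc covering base change; let H be an S-group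
scheme which is either of finite presentation over S or locally of finite type over a locally
noetherian S, and u : G → H a homomorphism which is a monomorphism. Then u is an immersion. -/
theorem result (S : Scheme.{u}) (G H : Over S) [GrpObj G] [GrpObj H]
    [Smooth G.hom] [QuasiCompact G.hom] [QuasiSeparated G.hom] (hu0 : SGA3x.UnipotentRankZero G)
    (hT : SGA3x.HasMaxTorusFpqcLocally G) (hconn : ∀ s : S, _root_.IsConnected (G.hom.base ⁻¹' {s}))
    [LocallyOfFiniteType H.hom]
    (hH : (LocallyOfFinitePresentation H.hom ∧ QuasiCompact H.hom ∧ QuasiSeparated H.hom) ∨ IsLocallyNoetherian S)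
    (u : G ⟶ H) [IsMonHom u] [Mono u] : IsImmersion u.left := by
  refine Groth.L08.MonoURZ.isImmersion_of_mono_urz hu0 hT hconn u ?_
  haveI : QuasiCompact (u.left ≫ H.hom) := by rw [Over.w u]; infer_instance
  rcases hH with ⟨-, -, hqs⟩ | hS
  · haveI := hqs
    exact QuasiCompact.of_comp u.left H.hom
  · haveI := hS
    haveI : QuasiSeparated H.hom := by
      rw [HasAffineProperty.eq_targetAffineLocally @QuasiSeparated]
      intro W
      haveI : IsLocallyNoetherian H.left := LocallyOfFiniteType.isLocallyNoetherian H.hom
      exact inferInstanceAs (QuasiSeparatedSpace (H.hom ⁻¹ᵁ W.1).toScheme)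
    exact QuasiCompact.of_comp u.left H.hom

end Groth.Agent.S4144
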