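import Groth.Statements.S4145
import Groth.Agent.L08.MonoURZ.SolvImm
-- import your own Groth.Agent.* helpers here

set_option autoImplicit false
set_option backward.isDefEq.respectTransparency.types false
universe u
open CategoryTheory MonoidalCategory CartesianMonoidalCategory MonObj GrpObj AlgebraicGeometry CategoryTheory.Limits
open SGA3x

namespace Groth.Agent.S4145

/-- Let G be an S-group scheme, smooth and of finite presentation over S, whose fibres are affine and
connected and whose geometric fibres are solvable of unipotent rank zero; let H be an S-group scheme
of finite presentation and u : G → H a homomorphism which is a monomorphism. Then u is an immersion,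
and a closed immersion if H is separated over S. -/
theorem result (S : Scheme.{u}) (G H : Over S) [GrpObj G] [GrpObj H]
    [Smooth G.hom] [QuasiCompact G.hom] [QuasiSeparated G.hom] (hu0 : SGA3x.UnipotentRankZero G)
    (haff : ∀ s : S, IsAffine (pullback G.hom (S.fromSpecResidueField s)))
    (hconn : ∀ s : S, _root_.IsConnected (G.hom.base ⁻¹' {s}))
    (hsolv : ∀ s : S, Red.IsSolvableGrp (Red.geomFibre s G))
    [LocallyOfFinitePresentation H.hom] [QuasiCompact H.hom] [QuasiSeparated H.hom]
    (u : G ⟶ H) [IsMonHom u] [Mono u] :
    IsImmersion u.left ∧ (IsSeparated H.hom → IsClosedImmersion u.left) := by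
  exact Groth.L08.MonoURZ.isImmersion_of_mono_solv hu0 haff hconn hsolv u

end Groth.Agent.S4145
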