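import Groth.Statements.S4152
import Groth.Agent.L08.MonoURZ.Closed
-- import your own Groth.Agent.* helpers here

set_option autoImplicit false
universe u
open CategoryTheory MonoidalCategory CartesianMonoidalCategory MonObj GrpObj AlgebraicGeometry CategoryTheory.Limits
open SGA3x

namespace Groth.Agent.S4152

/-- Let G be an S-group scheme, smooth and of finite presentation over S, of unipotent rank zero in the
strong sense that on every geometric fibre each maximal torus is its own centralizer in the whole
fibre (not only in its neutral component), acquiring a maximal torus after an fpqc covering base
change; let H be an S-group scheme, separated and quasi-compact over S, which is either of finite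
presentation over S or of finite type over a locally noetherian S, and u : G → H a homomorphism
which is a monomorphism. Suppose that for every base change S' → S and every maximal torus T of
G_{S'}, the Weyl group is representable and finite over S': there are subgroup schemes N = Norm(T)
and C = Centr(T) of G_{S'} and a surjective flat homomorphism N → W with kernel C onto an S'-group
scheme W finite over S'. Then u is a closed immersion. The published statement allows, over a
locally noetherian S, an H which is only locally of finite type; without quasi-compactness of H it
fails (over a discrete valuation ring the Néron model of 𝔾_m, a group scheme locally of finite type,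
contains 𝔾_m as an open subgroup which is not closed), so this row takes H quasi-compact over S. -/
theorem result (S : Scheme.{u}) (G H : Over S) [GrpObj G] [GrpObj H]
    [Smooth G.hom] [QuasiCompact G.hom] [QuasiSeparated G.hom] (hu0 : SGA3x.UnipotentRankZero G)
    (hT : SGA3x.HasMaxTorusFpqcLocally G)
    [LocallyOfFiniteType H.hom] [QuasiCompact H.hom] [IsSeparated H.hom]
    (hH : (LocallyOfFinitePresentation H.hom ∧ QuasiSeparated H.hom) ∨ IsLocallyNoetherian S)
    (u : G ⟶ H) [IsMonHom u] [Mono u]
    (hW : ∀ (S' : Scheme.{u}) (f : S' ⟶ S) (T : Over S') [GrpObj T] (i : T ⟶ Red.bc f G), Red.IsMaximalTorus i →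
      ∃ (N C W : Over S') (_ : GrpObj N) (_ : GrpObj C) (_ : GrpObj W) (n : N ⟶ Red.bc f G) (c : C ⟶ N) (q : N ⟶ W),
        Red.IsNormalizerOf i n ∧ Red.IsCentralizerOf i (c ≫ n) ∧ IsMonHom q ∧ Surjective q.left ∧ Flat q.left ∧
        AlgGrp.IsKernel c q ∧ IsFinite W.hom) :
    IsClosedImmersion u.left := by
  exact Groth.L08.MonoURZ.isClosedImmersion hu0 hT u hW

end Groth.Agent.S4152
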