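import Groth.Prelude.Def_AnPts
import Mathlib.AlgebraicGeometry.Morphisms.FiniteType
import Mathlib.AlgebraicGeometry.AffineSpace
import Mathlib.Topology.Homeomorph.Defs
import Groth.Agent.L02.An.Affine

set_option autoImplicit false
namespace CAlg
end CAlg
open CategoryTheory AlgebraicGeometry Topology TopologicalSpace
open An

namespace Groth.Agent.S4183

/-- For affine n-space over ℂ, the map sending a ℂ-point to the values of the n coordinate functions is
a homeomorphism from its space of ℂ-points, with the complex topology of this problem, onto ℂ^n with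
its usual topology. -/
theorem result (n : ℕ) :
    IsHomeomorph (fun (x : An.Pts (𝔸(Fin n; An.SC))) (i : Fin n) => x.evTop (AffineSpace.coord An.SC i)) := by
  have hs : Function.Surjective (MvPolynomial.eval₂Hom (An.strHom (𝔸(Fin n; An.SC)))
      (AffineSpace.coord An.SC)) := by
    intro f
    have h1 : (AffineSpace.SpecIso (Fin n) (CommRingCat.of ℂ)).inv.appTop ≫
        (AffineSpace.SpecIso (Fin n) (CommRingCat.of ℂ)).hom.appTop = 𝟙 _ := by
      rw [← Scheme.Hom.comp_appTop, Iso.hom_inv_id]; rfl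
    refine ⟨(Scheme.ΓSpecIso _).hom
      ((AffineSpace.SpecIso (Fin n) (CommRingCat.of ℂ)).inv.appTop f), ?_⟩
    refine Eq.trans ?_ congr($h1 f)
    rw [CommRingCat.comp_apply, AffineSpace.SpecIso_hom_appTop]
    rfl
  refine isHomeomorph_iff_isEmbedding_surjective.mpr
    ⟨(Groth.L02.An.isClosedEmbedding_evTop _ hs).isEmbedding, fun z => ?_⟩
  let g : An.SC ⟶ 𝔸(Fin n; An.SC) :=
    AffineSpace.homOfVector (𝟙 An.SC) fun i => (Scheme.ΓSpecIso (CommRingCat.of ℂ)).inv (z i)
  refine ⟨⟨g, AffineSpace.homOfVector_over _ _⟩, funext fun i => ?_⟩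
  show (Scheme.ΓSpecIso (CommRingCat.of ℂ)).hom (g.appLE ⊤ ⊤ _ (AffineSpace.coord An.SC i)) = z i
  rw [show g.appLE ⊤ ⊤ (le_refl _) = g.appTop from Scheme.Hom.appLE_eq_app _]
  erw [AffineSpace.homOfVector_appTop_coord]
  simp

end Groth.Agent.S4183
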