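import Groth.Prelude.Def_AnPts
import Mathlib.AlgebraicGeometry.Morphisms.FiniteType
import Mathlib.Topology.Compactness.LocallyCompact
import Groth.Agent.L02.An.Affine

set_option autoImplicit false
namespace CAlg
end CAlg
open CategoryTheory AlgebraicGeometry Topology TopologicalSpace
open An

namespace Groth.Agent.S4185

/-- For X locally of finite type over ℂ the space X(ℂ) with its complex topology is locally compact. -/
theorem result (X : Scheme.{0}) [X.Over An.SC] [LocallyOfFiniteType (X ↘ An.SC)] :
    LocallyCompactSpace (An.Pts X) := by
  exact Groth.L02.An.locallyCompactSpace_pts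

end Groth.Agent.S4185
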