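import Groth.Prelude.Def_AnPts
import Mathlib.AlgebraicGeometry.Morphisms.FiniteType
import Groth.Agent.L02.An.Affine

set_option autoImplicit false
namespace CAlg
end CAlg
open CategoryTheory AlgebraicGeometry Topology TopologicalSpace
open An

namespace Groth.Agent.S4186

/-- A scheme locally of finite type over ℂ is nonempty if and only if it has a ℂ-point. -/
theorem result (X : Scheme.{0}) [X.Over An.SC] [LocallyOfFiniteType (X ↘ An.SC)] :
    Nonempty ↥X ↔ Nonempty (An.Pts X) := by
  refine ⟨fun h => ?_, fun ⟨x⟩ => ⟨x.pt⟩⟩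
  have : JacobsonSpace ↥X := LocallyOfFiniteType.jacobsonSpace (X ↘ An.SC)
  obtain ⟨p, -, hp⟩ := nonempty_inter_closedPoints (Z := (Set.univ : Set ↥X))
    Set.univ_nonempty isClosed_univ.isLocallyClosed
  exact ⟨(Groth.L02.An.exists_pt_eq hp).choose⟩

end Groth.Agent.S4186
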