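import Groth.Prelude.Def_AnPts
import Mathlib.AlgebraicGeometry.Morphisms.FiniteType
import Mathlib.AlgebraicGeometry.Morphisms.Finite
import Mathlib.AlgebraicGeometry.Morphisms.Etale
import Mathlib.Topology.Covering.Basic
import Groth.Agent.L02.An.Etale
import Groth.Agent.L02.An.Proper

set_option autoImplicit false
namespace CAlg
end CAlg
open CategoryTheory AlgebraicGeometry Topology TopologicalSpace
open An

namespace Groth.Agent.S4206

/-- A finite etale morphism f : X → Y of schemes locally of finite type over ℂ (f a ℂ-morphism) induces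
a covering map X(ℂ) → Y(ℂ) with finite fibres for the complex topologies. -/
theorem result (X Y : Scheme.{0}) [X.Over An.SC] [LocallyOfFiniteType (X ↘ An.SC)]
    [Y.Over An.SC] [LocallyOfFiniteType (Y ↘ An.SC)] (f : X ⟶ Y) [f.IsOver An.SC] [IsFinite f] [Etale f] :
    IsCoveringMap (An.Pts.map f) ∧ ∀ y : An.Pts Y, (An.Pts.map f ⁻¹' {y}).Finite := by
  obtain ⟨hp, hs, hfin⟩ := (Groth.L02.An.isFinite_iff f).mp inferInstance
  refine ⟨isCoveringMap_iff_isCoveringMapOn_univ.mpr fun y _ => ?_, hfin⟩
  have hl := Groth.L02.An.isLocalHomeomorph_map f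
  obtain ⟨V, hV, hyV⟩ := Groth.L02.An.exists_affine_mem y
  set S : Set (An.Pts Y) := {v | v.pt ∈ V}
  have hSo : IsOpen S := An.Pts.isOpen_preimage_pt V
  have hfS : IsOpen (An.Pts.map f ⁻¹' S) := hSo.preimage (An.Pts.continuous_map f)
  obtain ⟨n, s, hgen⟩ := Groth.L02.An.exists_generators hV
  have hT : T2Space S := (Groth.L02.An.isClosedEmbedding_coords hV s hgen).isEmbedding.t2Space
  have hT2 : T2Space (An.Pts.map f ⁻¹' S) := by
    refine ⟨fun a b hab => ?_⟩
    by_cases h : An.Pts.map f a.1 = An.Pts.map f b.1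
    · obtain ⟨u, v, hu, hv, hau, hbv, huv⟩ := hs a.1 b.1 h (fun e => hab (Subtype.ext e))
      exact ⟨_, _, hu.preimage continuous_subtype_val, hv.preimage continuous_subtype_val, hau, hbv,
        huv.preimage _⟩
    · obtain ⟨u, v, hu, hv, hau, hbv, huv⟩ := t2_separation
        (x := S.restrictPreimage (An.Pts.map f) a) (y := S.restrictPreimage (An.Pts.map f) b)
        (fun e => h (congrArg Subtype.val e))
      exact ⟨_, _, hu.preimage (An.Pts.continuous_map f).restrictPreimage,
        hv.preimage (An.Pts.continuous_map f).restrictPreimage, hau, hbv, huv.preimage _⟩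
  have hl' : IsLocalHomeomorph (S.restrictPreimage (An.Pts.map f)) := by
    refine IsLocalHomeomorph.of_comp (g := Subtype.val) ?_ hSo.isOpenEmbedding_subtypeVal.isLocalHomeomorph
      (An.Pts.continuous_map f).restrictPreimage
    exact hl.comp hfS.isOpenEmbedding_subtypeVal.isLocalHomeomorph
  have hc : IsCoveringMap (S.restrictPreimage (An.Pts.map f)) := by
    refine isCoveringMap_iff_isCoveringMapOn_univ.mpr
      (IsClosedMap.isCoveringMapOn_of_isLocalHomeomorphOn ?_ (fun v _ => ?_) hl'.isLocalHomeomorphOn)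
    · exact hp.isClosedMap.restrictPreimage S
    · refine ((hfin v.1).preimage Subtype.val_injective.injOn).subset ?_
      intro a ha
      exact congrArg Subtype.val (show S.restrictPreimage (An.Pts.map f) a = v from ha)
  exact IsCoveringMapOn.of_isCoveringMap_restrictPreimage S hSo hfS hc y hyV

end Groth.Agent.S4206
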