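import Groth.Prelude.Def_AnEps
import Groth.Agent.L02.An.Sites
import Groth.Agent.L02.An.LanFlat

set_option autoImplicit false
namespace CAlg
end CAlg
open CategoryTheory AlgebraicGeometry Topology TopologicalSpace
open An

namespace Groth.Agent.S4210

/-- Ε is a morphism of sites, so its inverse image functor is exact: for X locally of finite type over ℂ
the inverse image ε^* from abelian etale sheaves on X to abelian sheaves on the classical site of
X(ℂ) preserves finite limits (it preserves colimits, being a left adjoint). This is the exactness
hypothesis carried by the comparison maps on cohomology. -/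
theorem result (X : Scheme.{0}) [X.Over An.SC] [LocallyOfFiniteType (X ↘ An.SC)]
    [Fact An.EtaleLH] [An.EpsCont X] :
    Limits.PreservesFiniteLimits (An.epsPull X) := by
  have := Groth.L02.An.eps_representablyFlat X
  have : ∀ G : (X.Etale)ᵒᵖ ⥤ AddCommGrpCat.{1}, (An.eps X).op.HasLeftKanExtension G := fun G => inferInstance
  have := Groth.L02.An.lan_preservesFiniteLimits.{1} (An.eps X)
  exact Functor.sheafPullbackConstruction.preservesFiniteLimits (An.eps X) AddCommGrpCat.{1} _ _

end Groth.Agent.S4210
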