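import Groth.Statements.S4243
import Mathlib.FieldTheory.Finite.Polynomial

set_option autoImplicit false
open SGA4h

namespace Groth.Agent.S4243

/-- Let k be a finite field with q elements and P a nonzero homogeneous polynomial of degree d in r+1
variables over k. If P vanishes at every point of k^{r+1} (that is, the hypersurface P = 0 in
projective r-space passes through every rational point), then d ≥ q + 1. -/
theorem result (k : Type) [Field k] [Fintype k] (r d : ℕ)
    (P : MvPolynomial (Fin (r + 1)) k) (hP : P.IsHomogeneous d) (hP0 : P ≠ 0)
    (hvan : ∀ x : Fin (r + 1) → k, MvPolynomial.eval x P = 0) :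
    Fintype.card k + 1 ≤ d := by
  classical
  by_contra hd
  have hdq : d ≤ Fintype.card k := by omega
  have hq : 1 < Fintype.card k := Fintype.one_lt_card
  have hcoef : ∀ j : Fin (r + 1), P.coeff (Finsupp.single j d) = 0 := by
    intro j
    rcases Nat.eq_zero_or_pos d with hd0 | hd0
    · subst hd0
      have := hvan 0
      rw [Finsupp.single_zero]
      simpa [MvPolynomial.constantCoeff_eq] using this
    have := hvan (Pi.single j 1)
    rw [MvPolynomial.eval_eq'] at this
    rw [Finset.sum_eq_single (Finsupp.single j d)] at this
    · simpa [Finsupp.single_apply, Pi.single_apply, Finset.prod_eq_single j] using this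
    · intro m hm hne
      have hdeg : ∑ i, m i = d := by
        have := hP (MvPolynomial.mem_support_iff.1 hm)
        simpa [Finsupp.weight_apply, Finsupp.sum_fintype] using this
      obtain ⟨i, hi, hij⟩ : ∃ i, m i ≠ 0 ∧ i ≠ j := by
        by_contra hcon
        push Not at hcon
        apply hne
        ext i
        by_cases hij : i = j
        · subst hij
          rw [Finsupp.single_eq_same, ← hdeg, Finset.sum_eq_single i]
          · intro b _ hb
            by_contra hb'
            exact hb (hcon b hb')
          · simp
        · rw [Finsupp.single_apply, if_neg (Ne.symm hij)]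
          by_contra hb'
          exact hij (hcon i hb')
      rw [Finset.prod_eq_zero (Finset.mem_univ i)]
      · simp
      · simp [Pi.single_apply, hij, zero_pow hi]
    · intro h
      simp [MvPolynomial.notMem_support_iff.1 h]
  refine hP0 (MvPolynomial.eq_zero_of_eval_eq_zero (Fin (r + 1)) k P hvan ?_)
  rw [MvPolynomial.mem_restrictDegree]
  intro m hm i
  have hdeg : ∑ i, m i = d := by
    have := hP (MvPolynomial.mem_support_iff.1 hm)
    simpa [Finsupp.weight_apply, Finsupp.sum_fintype] using this
  by_contra hlt
  have hle : m i ≤ d := hdeg ▸ Finset.single_le_sum (fun x _ => Nat.zero_le (m x)) (Finset.mem_univ i)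
  apply MvPolynomial.mem_support_iff.1 hm
  have : m = Finsupp.single i d := by
    ext b
    by_cases hb : b = i
    · subst hb; rw [Finsupp.single_eq_same]; omega
    · rw [Finsupp.single_apply, if_neg (Ne.symm hb)]
      have := Finset.sum_erase_add Finset.univ (fun x => m x) (Finset.mem_univ i)
      have := Finset.single_le_sum (s := Finset.univ.erase i) (fun x _ => Nat.zero_le (m x))
        (Finset.mem_erase.2 ⟨hb, Finset.mem_univ b⟩)
      omega
  rw [this]
  exact hcoef i

end Groth.Agent.S4243
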