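import Groth.Statements.S4256
import Mathlib.Algebra.BigOperators.Ring.Finset

set_option autoImplicit false
open scoped BigOperators
open SGA4h

namespace Groth.Agent.S4256

theorem addChar_map_sum {A R ι : Type*} [AddCommMonoid A] [CommMonoid R] (ψ : AddChar A R)
    (s : Finset ι) (x : ι → A) : ψ (∑ i ∈ s, x i) = ∏ i ∈ s, ψ (x i) := by
  classical
  induction s using Finset.induction_on with
  | empty => simp
  | insert a s ha ih => rw [Finset.sum_insert ha, Finset.prod_insert ha, AddChar.map_add_eq_mul, ih]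

/-- Let k be a finite field, ψ a nontrivial additive character of k with values in a domain R, and n ≥
1. Then the generalised Kloosterman sum with parameter 0, Σ ψ(x_1 + ⋯ + x_n) over all (x_1, …, x_n)
∈ k^n with x_1 ⋯ x_n = 0, equals (-1)^{n-1}. -/
theorem result (k : Type) [Field k] [Fintype k] [DecidableEq k] (R : Type) [CommRing R] [IsDomain R]
    (ψ : AddChar k R) (hψ : ψ ≠ 1) (n : ℕ) (hn : 1 ≤ n) :
    ∑ x ∈ (Finset.univ : Finset (Fin n → k)).filter (fun x => ∏ i, x i = 0), ψ (∑ i, x i) = (-1) ^ (n - 1) := by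
  have h0 : ∑ x : k, ψ x = 0 := AddChar.sum_eq_zero_of_ne_one hψ
  have hall : ∑ x : Fin n → k, ψ (∑ i, x i) = 0 := by
    simp_rw [addChar_map_sum]
    rw [← Fintype.prod_sum (fun _ : Fin n => fun a : k => ψ a)]
    simp only [h0, Finset.prod_const, Finset.card_univ, Fintype.card_fin]
    exact zero_pow (by omega)
  have hne : ∑ x ∈ (Finset.univ : Finset (Fin n → k)).filter (fun x => ¬ ∏ i, x i = 0), ψ (∑ i, x i)
      = (-1) ^ n := by
    have hset : (Finset.univ : Finset (Fin n → k)).filter (fun x => ¬ ∏ i, x i = 0) =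
        Fintype.piFinset (fun _ : Fin n => (Finset.univ : Finset k).erase 0) := by
      ext x; simp [Finset.prod_ne_zero_iff]
    rw [hset]
    simp_rw [addChar_map_sum]
    rw [← Finset.prod_univ_sum (fun _ : Fin n => (Finset.univ : Finset k).erase 0) (fun _ a => ψ a)]
    have : ∑ a ∈ (Finset.univ : Finset k).erase 0, ψ a = -1 := by
      rw [Finset.sum_erase_eq_sub (Finset.mem_univ _), h0, AddChar.map_zero_eq_one, zero_sub]
    simp [this]
  have := Finset.sum_filter_add_sum_filter_not (Finset.univ : Finset (Fin n → k))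
    (fun x => ∏ i, x i = 0) (fun x => ψ (∑ i, x i))
  rw [hne, hall] at this
  obtain ⟨m, rfl⟩ : ∃ m, n = m + 1 := ⟨n - 1, by omega⟩
  rw [eq_neg_of_add_eq_zero_left this]
  simp [pow_succ]

end Groth.Agent.S4256
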