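import Groth.Statements.S4265
import Groth.Agent.L29.DCoh.RpushProj

set_option autoImplicit false
set_option backward.isDefEq.respectTransparency false
universe u
open CategoryTheory CategoryTheory.Limits AlgebraicGeometry
attribute [local instance] HasDerivedCategory.standard
open KSix

namespace Groth.Agent.S4265

/-- Let Y be an affine scheme, X = P^r_Y with projection f : X ⟶ Y, and E an object of D(O_X) which is
pseudo-coherent with bounded cohomology, acyclic in degrees > a. Assuming the total derived functor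
Rf_* exists, Rf_*E is acyclic in degrees > a + r. -/
theorem result (Y : Scheme.{u}) [IsAffine Y] (r : ℕ)
    [DCoh.HasRpush (CohB1.ProjSpaceOver.toBase r Y)]
    (E : DCoh.D (CohB1.ProjSpaceOver r Y)) (hE : ∀ m : ℤ, DCoh.IsPseudoCoherentD m E)
    (a b : ℤ) [E.IsGE b] [E.IsLE a] :
    ((DCoh.Rpush (CohB1.ProjSpaceOver.toBase r Y)).obj E).IsLE (a + r) := by
  haveI := Groth.L17.PushQCoh.hasInjectiveResolutions (CohB1.ProjSpaceOver r Y)
  haveI := Groth.L29.DC.QRlim.enoughKInj (CohB1.ProjSpaceOver r Y)
  haveI := Groth.L17.PushQCoh.additive_push (CohB1.ProjSpaceOver.toBase r Y)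
  haveI : EnoughInjectives (CohB1.ProjSpaceOver r Y).Modules :=
    (Groth.L10.ModRDer.insts (CohB1.ProjSpaceOver r Y).sheaf).1
  refine (DerivedCategory.isLE_iff _ _).2 fun j hj => ?_
  refine Groth.L29.DC.RDerLE.isZero_H_above (F := Scheme.Modules.pushforward (CohB1.ProjSpaceOver.toBase r Y))
    ((DCoh.pushKh (CohB1.ProjSpaceOver.toBase r Y)).totalRightDerivedUnit DerivedCategory.Qh
      (HomotopyCategory.quasiIso (CohB1.ProjSpaceOver r Y).Modules (ComplexShape.up ℤ)))
    (r : ℤ) a (a + 1 - b).toNat E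
    ((DerivedCategory.isGE_iff E _).2 fun k hk => ?_) inferInstance (fun k _ _ p hp => ?_) j (by omega)
  · by_cases hk' : k < b
    · exact DerivedCategory.isZero_of_isGE E b k hk'
    · exact DerivedCategory.isZero_of_isLE E a k (by omega)
  · haveI : Coh.IsQCoh (DCoh.HD E k) := Groth.L29.DC.PCQCoh.isQCohD_of_pc hE k
    exact Groth.L29.DC.RpushQC.isZero_Rpush_projSpace Y r (DCoh.HD E k) p (by omega)

end Groth.Agent.S4265
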