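import Groth.Statements.S4266
import Groth.Agent.L29.BC.PCPush
import Groth.Agent.L29.BC.Comp
import Groth.Agent.L16.ProjSpace.Basic

set_option linter.style.haveILetI false
set_option backward.isDefEq.respectTransparency false


set_option autoImplicit false
universe u
open CategoryTheory CategoryTheory.Limits AlgebraicGeometry
attribute [local instance] HasDerivedCategory.standard
open KSix

namespace Groth.Agent.S4266

/-- Let Y be a scheme, i : X ⟶ P^r_Y a closed immersion and f : X ⟶ Y the composite with the projection.
Let E be a bounded below object of D(O_X) which is pseudo-coherent relative to Y, which here means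
that i_*E (computed here as Ri_*) is pseudo-coherent on P^r_Y. Assuming the derived direct images
exist, Rf_*E is pseudo-coherent on Y. (The published statement allows any closed immersion of X into
a projective bundle P(F) with F quasi-coherent of finite type on Y.) -/
theorem result {X Y : Scheme.{u}} (r : ℕ)
    (i : X ⟶ CohB1.ProjSpaceOver r Y) [IsClosedImmersion i]
    [DCoh.HasRpush i] [DCoh.HasRpush (i ≫ CohB1.ProjSpaceOver.toBase r Y)]
    (E : DCoh.D X) (b : ℤ) [E.IsGE b]
    (hE : ∀ m : ℤ, DCoh.IsPseudoCoherentD m ((DCoh.Rpush i).obj E)) (m : ℤ) :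
    DCoh.IsPseudoCoherentD m ((DCoh.Rpush (i ≫ CohB1.ProjSpaceOver.toBase r Y)).obj E) := by
  haveI := Groth.L29.DC.RpushQC.hasRpush (CohB1.ProjSpaceOver.toBase r Y)
  exact Groth.L29.DC.isPseudoCoherentD_of_iso
    ((Groth.L29.BC.cR (g := i) (f := CohB1.ProjSpaceOver.toBase r Y) rfl).app E)
    (Groth.L29.BC.pc_Rpush (CohB1.ProjSpaceOver.toBase r Y) hE m)


end Groth.Agent.S4266
#print axioms Groth.Agent.S4266.result
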