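import Groth.Statements.S4268
import Groth.Agent.Lead.PerfPD

set_option linter.style.haveILetI false
set_option backward.isDefEq.respectTransparency false
set_option maxHeartbeats 400000


set_option autoImplicit false
universe u
open CategoryTheory CategoryTheory.Limits AlgebraicGeometry
attribute [local instance] HasDerivedCategory.standard
open KSix

namespace Groth.Agent.S4268

/-- In the case where f is projective, over an arbitrary base: let Y be a scheme, i : X ⟶ P^r_Y a closed
immersion and f : X ⟶ Y the composite with the projection; suppose f is a perfect morphism and let E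
be a bounded below perfect object of D(O_X). Assuming Rf_* exists, Rf_*E is perfect on Y. (The
source allows a closed immersion into any P(F) with F quasi-coherent of finite type on Y.) -/
theorem result {X Y : Scheme.{u}} (r : ℕ)
    (i : X ⟶ CohB1.ProjSpaceOver r Y) [IsClosedImmersion i]
    (hf : MoreMor.IsPerfectMor (i ≫ CohB1.ProjSpaceOver.toBase r Y)) [DCoh.HasRpush (i ≫ CohB1.ProjSpaceOver.toBase r Y)]
    (E : DCoh.D X) (b : ℤ) [E.IsGE b] (hE : DCoh.IsPerfect E) :
    DCoh.IsPerfect ((DCoh.Rpush (i ≫ CohB1.ProjSpaceOver.toBase r Y)).obj E) := by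
  haveI := Groth.L29.DC.RpushQC.hasRpush i
  haveI := Groth.L29.DC.RpushQC.hasRpush (CohB1.ProjSpaceOver.toBase r Y)
  have hi := Groth.L29.RelPC.perfect_of_comp_smooth i (CohB1.ProjSpaceOver.toBase r Y) hf
  obtain ⟨e⟩ := Groth.Lead.ClosedRpush.nonempty_Rpush_iso_pD i E
  have h1 : DCoh.IsPerfect ((DCoh.Rpush i).obj E) :=
    Groth.L29.DC.isPerfect_of_iso e.symm (Groth.Lead.PerfPD.isPerfect_pD i hi hE)
  have h2 := Groth.L29.BC.isPerfect_Rpush (CohB1.ProjSpaceOver.toBase r Y) h1
  have e2 := (Groth.L29.BC.cR (g := i) (f := CohB1.ProjSpaceOver.toBase r Y) (h := i ≫ CohB1.ProjSpaceOver.toBase r Y) rfl).app E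
  exact Groth.L29.DC.isPerfect_of_iso e2 h2


end Groth.Agent.S4268
#print axioms Groth.Agent.S4268.result
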