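import Groth.Statements.S4272
import Groth.Agent.L08.Cube.DivSection
import Groth.Agent.L21.Curve.NormalConnected
import Groth.Agent.L18.Ample
import Groth.Agent.L18.GenLocus
import Groth.Agent.L22.Div.ComplAffine
import Groth.Agent.L10.RegularUFD

set_option autoImplicit false
universe u
open CategoryTheory CategoryTheory.Limits AlgebraicGeometry
attribute [local instance] HasDerivedCategory.standard
open KSix

namespace Groth.Agent.S4272

/-- A separated Noetherian scheme whose local rings are factorial (unique factorisation domains) is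
divisorial, i.e. admits an ample family of invertible modules. -/
theorem result (X : Scheme.{u}) [IsNoetherian X] [X.IsSeparated]
    (hfact : ∀ x : X, ∃ _ : IsDomain (X.presheaf.stalk x), UniqueFactorizationMonoid (X.presheaf.stalk x)) :
    MoreMor.HasAmpleFamily X := by
  classical
  have hdiag : ∀ U V : X.Opens, IsAffineOpen U → IsAffineOpen V → IsAffineOpen (U ⊓ V) := fun _ _ hU hV => hU.inf hV
  refine ⟨inferInstance, fun x => ?_⟩
  have hdom : ∀ y : X, IsDomain (X.presheaf.stalk y) := fun y => (hfact y).1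
  have hfin : (irreducibleComponents (X : Type u)).Finite := TopologicalSpace.NoetherianSpace.finite_irreducibleComponents
  have hopen : ∀ Z ∈ irreducibleComponents (X : Type u), IsOpen Z := fun Z hZ => by
    have hcompl : Zᶜ = ⋃ W ∈ irreducibleComponents (X : Type u) \ {Z}, W := by
      ext y
      simp only [Set.mem_compl_iff, Set.mem_iUnion, Set.mem_diff, Set.mem_singleton_iff, exists_prop]
      constructor
      · intro hy
        exact ⟨irreducibleComponent y, ⟨irreducibleComponent_mem_irreducibleComponents y,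
          fun e => hy (e ▸ mem_irreducibleComponent)⟩, mem_irreducibleComponent⟩
      · rintro ⟨W, ⟨hW, hne⟩, hyW⟩ hyZ
        haveI := hdom y
        exact hne (Groth.L21.NormalTotal.eq_of_mem_irreducibleComponents y hW hZ hyW hyZ)
    rw [← isClosed_compl_iff, hcompl]
    exact (hfin.diff).isClosed_biUnion fun W hW => isClosed_of_mem_irreducibleComponents W hW.1
  have hV : ∀ Z : irreducibleComponents (X : Type u), ∃ (V : X.Opens), IsAffineOpen V ∧ (V : Set X) ⊆ Z ∧
      (V : Set X).Nonempty ∧ (x ∈ (Z : Set X) → x ∈ V) := fun Z => by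
    obtain ⟨y, hy, hyx⟩ : ∃ y ∈ (Z : Set X), x ∈ (Z : Set X) → y = x := by
      by_cases hx : x ∈ (Z : Set X)
      · exact ⟨x, hx, fun _ => rfl⟩
      · obtain ⟨y, hy⟩ := Z.2.1.1
        exact ⟨y, hy, fun h => absurd h hx⟩
    obtain ⟨V, hV, hyV, hVZ⟩ := exists_isAffineOpen_mem_and_subset (x := y) (U := ⟨Z, hopen Z Z.2⟩) hy
    exact ⟨V, hV, hVZ, ⟨y, hyV⟩, fun h => hyx h ▸ hyV⟩
  choose V hVa hVZ hVne hVx using hV
  haveI : Finite (irreducibleComponents (X : Type u)) := hfin.to_subtype
  have hU : IsAffineOpen (iSup V) := IsAffineOpen.iSup_of_disjoint hVa fun i j hij => by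
    rw [Function.onFun, disjoint_iff, ← le_bot_iff]
    intro y hy
    haveI := hdom y
    exact (hij (Subtype.ext (Groth.L21.NormalTotal.eq_of_mem_irreducibleComponents y i.2 j.2
      (hVZ i hy.1) (hVZ j hy.2)))).elim
  have hdense : Dense ((iSup V : X.Opens) : Set X) := fun y => by
    let Z : irreducibleComponents (X : Type u) := ⟨irreducibleComponent y, irreducibleComponent_mem_irreducibleComponents y⟩
    obtain ⟨w, hw⟩ := hVne Z
    have h1 := subset_closure_inter_of_isPreirreducible_of_isOpen (S := (Z : Set X)) (U := (V Z : Set X))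
      Z.2.1.2 (V Z).2 ⟨w, hVZ Z hw, hw⟩ (mem_irreducibleComponent (x := y))
    exact closure_mono (fun z hz => TopologicalSpace.Opens.mem_iSup.2 ⟨Z, hz.2⟩) h1
  haveI := Groth.L22.Div.isAffineHom_ι_of_inf hdiag hU
  obtain ⟨I, hI, hsupp⟩ := Groth.L22.Div.exists_effCartier_compl (iSup V) hdense fun y _ => by
    obtain ⟨_, h⟩ := hfact y
    exact ⟨hdom y, h⟩
  obtain ⟨N, s, hN, -, hs⟩ := Groth.L08.Cube.exists_section_of_effCartier I hI
  have hgen : CohB1.genLocus (CohB1.tensorPow N 1) (Groth.L18.GenLoc.tensHom (𝟙 (Coh.structureModule X)) s) =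
      iSup V := by
    refine (Groth.L18.GenLoc.genLocus_tensHom (Groth.L18.Ample.isInvertible_structureModule X) hN
      (𝟙 (Coh.structureModule X)) s).trans ?_
    rw [Groth.L18.Ample.genLocus_id, top_inf_eq]
    exact TopologicalSpace.Opens.ext (hs.trans (by rw [hsupp, compl_compl]))
  refine ⟨N, 1, Groth.L18.GenLoc.tensHom (𝟙 (Coh.structureModule X)) s, hN, le_rfl, ?_, ?_⟩
  · rw [hgen]
    exact TopologicalSpace.Opens.mem_iSup.2 ⟨⟨irreducibleComponent x, irreducibleComponent_mem_irreducibleComponents x⟩,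
      hVx _ mem_irreducibleComponent⟩
  · rw [hgen]
    exact hU
end Groth.Agent.S4272
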