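import Groth.Prelude.Def_Pic13
import Mathlib.FieldTheory.IsAlgClosed.Basic
import Mathlib.AlgebraicGeometry.Morphisms.Proper
import Groth.Agent.L11.NumOrth.TauProj
-- import your own Groth.Agent.* helpers here

set_option autoImplicit false
universe u
open CategoryTheory CategoryTheory.Limits AlgebraicGeometry
open Pic13

namespace Groth.Agent.S4279

/-- Let k be an algebraically closed field, X a proper k-scheme carrying an ample invertible module H,
and L an invertible O_X-module with inverse L' (L ⊗ L' ≅ O_X). If L^{⊗ m} ⊗ H and L'^{⊗ m} ⊗ H are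
ample for every m ≥ 0 (that is, L^{⊗ m}(1) is ample for every integer m), then L is τ-equivalent to
zero. -/
theorem result (k : Type u) [Field k] [IsAlgClosed k] (X : Scheme.{u}) [X.Over (Spec (CommRingCat.of k))]
    [IsProper (X ↘ Spec (CommRingCat.of k))]
    (H : X.Modules) (hH : CohB1.IsAmple H) (L L' : X.Modules) (hL : PicF.IsInvertible L)
    (hLL' : Nonempty (CohB1.tensorMod L L' ≅ Coh.structureModule X))
    (hamp : ∀ m : ℕ, CohB1.IsAmple (CohB1.tensorMod (CohB1.tensorPow L m) H) ∧ CohB1.IsAmple (CohB1.tensorMod (CohB1.tensorPow L' m) H)) :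
    Pic13.IsTauEquivZero k X L := by
  haveI := Groth.L21.RR.isNoetherian_of_proper (X := X) k
  obtain ⟨e⟩ := hLL'
  obtain ⟨Q, hQ, ⟨eQ⟩⟩ := Groth.L08.Cube.exists_inverse hL
  have hL' : PicF.IsInvertible L' :=
    Groth.L18.Ample.isInvertible_of_iso
      (Groth.L00.Tensor.tensorUnitLeft Q ≪≫ Iso.refl Q)
      (Groth.L18.GenLoc.isInvertible_tensor (Groth.L18.Ample.isInvertible_structureModule X) hQ) |> fun hQ' =>
    Groth.L18.Ample.isInvertible_of_iso
      ((Groth.L00.Tensor.tensorUnitRight Q).symm ≪≫ Groth.L00.Tensor.tensorIso (Iso.refl Q) e.symm ≪≫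
        (Groth.L00.Tensor.tensorAssoc Q L L').symm ≪≫
        Groth.L00.Tensor.tensorIso (Groth.L00.Tensor.tensorComm Q L ≪≫ eQ) (Iso.refl L') ≪≫
        Groth.L00.Tensor.tensorUnitLeft L') hQ'
  have hNT : Groth.L11.NumOrth.NT k L := by
    refine ⟨hL, (Groth.L11.NumOrth.numZero_iff k hL).2 fun y hy => ?_⟩
    have hpow : ∀ (N : X.Modules), PicF.IsInvertible N → ∀ m : ℕ,
        Groth.L22.Inter.altT k (fun _ : Fin 1 => CohB1.tensorPow N m) (ClSub.quotMod (Groth.L22.Inter.pt y)) =
          (m : ℚ) * Groth.L22.Inter.altT k (fun _ : Fin 1 => N) (ClSub.quotMod (Groth.L22.Inter.pt y)) := by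
      intro N hN m
      induction m with
      | zero => rw [Nat.cast_zero, zero_mul]; exact Groth.L02.Num.deg_unit y
      | succ m ih =>
        rw [show CohB1.tensorPow N (m + 1) = CohB1.tensorMod (CohB1.tensorPow N m) N from rfl,
          Groth.L02.Num.deg_tensor (Groth.L18.Ample.isInvertible_tensorPow hN m) hN y hy, ih]
        push_cast; ring
    have hbound : ∀ (N : X.Modules), PicF.IsInvertible N → (∀ m : ℕ, CohB1.IsAmple (CohB1.tensorMod (CohB1.tensorPow N m) H)) →
        0 ≤ Groth.L22.Inter.altT k (fun _ : Fin 1 => N) (ClSub.quotMod (Groth.L22.Inter.pt y)) := by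
      intro N hN hA
      by_contra hneg
      obtain ⟨m, hm⟩ := exists_nat_gt
        (Groth.L22.Inter.altT k (fun _ : Fin 1 => H) (ClSub.quotMod (Groth.L22.Inter.pt y)) /
          -Groth.L22.Inter.altT k (fun _ : Fin 1 => N) (ClSub.quotMod (Groth.L22.Inter.pt y)))
      have h1 := (Groth.L22.Nef.IsNef.of_isAmple (k := k) (hA m)).2 y hy
      rw [Groth.L02.Num.deg_tensor (Groth.L18.Ample.isInvertible_tensorPow hN m) hH.1 y hy, hpow N hN m] at h1
      rw [div_lt_iff₀ (by linarith)] at hm
      nlinarith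
    have h1 := hbound L hL fun m => (hamp m).1
    have h2 := hbound L' hL' fun m => (hamp m).2
    have h3 := Groth.L02.Num.deg_tensor (k := k) hL hL' y hy
    rw [Groth.L22.Nef.altT_congr k (fun _ => ⟨e⟩), Groth.L02.Num.deg_unit] at h3
    linarith
  obtain ⟨m₀, hm₀⟩ := Groth.L03.SurfAdj.exists_embedding (k := k) hH
  obtain ⟨n, i, hi, hik, -⟩ := hm₀ m₀ le_rfl
  exact Groth.L11.NumOrth.isTauEquivZero_of_NT k i hik hNT

end Groth.Agent.S4279
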