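import Groth.Prelude.Def_Pic13
import Groth.Agent.L26.Pic13.TauChi
import Groth.Agent.S11371
import Groth.Agent.L16.NegPow.Gen

set_option autoImplicit false
universe u
open CategoryTheory CategoryTheory.Limits AlgebraicGeometry
open Pic13

namespace Groth.Agent.S4280

/-- Let k be an algebraically closed field, X a proper k-scheme carrying an ample invertible module H,
and L an invertible O_X-module, with inverse L', which is τ-equivalent to zero. Then L^{⊗ m} ⊗ H and
L'^{⊗ m} ⊗ H are ample for every m ≥ 0. -/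
theorem result (k : Type u) [Field k] [IsAlgClosed k] (X : Scheme.{u}) [X.Over (Spec (CommRingCat.of k))]
    [IsProper (X ↘ Spec (CommRingCat.of k))]
    (H : X.Modules) (hH : CohB1.IsAmple H) (L L' : X.Modules) (hL : PicF.IsInvertible L)
    (hLL' : Nonempty (CohB1.tensorMod L L' ≅ Coh.structureModule X)) (hτ : Pic13.IsTauEquivZero k X L) (m : ℕ) :
    CohB1.IsAmple (CohB1.tensorMod (CohB1.tensorPow L m) H) ∧ CohB1.IsAmple (CohB1.tensorMod (CohB1.tensorPow L' m) H) := by
  haveI := Groth.Agent.Pic13Tau.noeth k (X := X)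
  obtain ⟨e⟩ := hLL'
  have hL' := Groth.L16.NegPow.isInvertible_inverse hL e
  have hc := Groth.Agent.Pic13Tau.chiTriv_of_tauEquiv k hL hτ
  have hc' := Groth.Agent.Pic13Tau.chiTriv_inv k hL' e hc
  have key : ∀ A : X.Modules, PicF.IsInvertible A → Groth.Agent.Pic13Tau.ChiTriv k A →
      CohB1.IsAmple (CohB1.tensorMod (CohB1.tensorPow A m) H) := fun A hA hAc => by
    have hAm := Groth.L18.Ample.isInvertible_tensorPow hA m
    refine Groth.Agent.S11371.result k X H _ hH.1 (Groth.L18.GenLoc.isInvertible_tensor hAm hH.1) (fun C _ _ => ?_) hH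
    rw [Groth.L03.Euler.euler_iso (Groth.L00.Tensor.tensorIso (Iso.refl (ClSub.quotMod C))
        (Groth.L00.Tensor.tensorComm (CohB1.tensorPow A m) H) ≪≫ (Groth.L00.Tensor.tensorAssoc _ _ _).symm),
      Groth.Agent.Pic13Tau.chiTriv_pow k hA hAc m _
        (Groth.L03.Euler.isCoh_tensor hH.1 (Groth.L21.RR.isCoh_quotMod C))]
  exact ⟨key L hL hc, key L' hL' hc'⟩

end Groth.Agent.S4280
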