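import Groth.Prelude.Def_Pic13
import Mathlib.FieldTheory.IsAlgClosed.Basic
import Mathlib.AlgebraicGeometry.Morphisms.Proper
import Groth.Agent.L11.Bdd.Good
-- import your own Groth.Agent.* helpers here

set_option autoImplicit false
set_option backward.isDefEq.respectTransparency false
set_option backward.isDefEq.respectTransparency.types false
universe u
open CategoryTheory CategoryTheory.Limits AlgebraicGeometry
open Pic13

namespace Groth.Agent.S4287

/-- (i) if and only if (iv), over the base S = Spec k with k algebraically closed: let X be a proper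
integral k-scheme carrying an ample invertible module H, and P a family of invertible O_X-modules.
Then P is bounded if and only if there is an integer N such that H^{⊗ N} ⊗ L and H^{⊗ N} ⊗ L' are
ample for every member L of P and every inverse L' of L (L ⊗ L' ≅ O_X). (The source: X projective
over a Noetherian S with integral geometric fibres of dimension r, H relatively ample.) -/
theorem result (k : Type u) [Field k] [IsAlgClosed k] (X : Scheme.{u}) [X.Over (Spec (CommRingCat.of k))]
    [IsProper (X ↘ Spec (CommRingCat.of k))] [IsIntegral X]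
    (H : X.Modules) (hH : CohB1.IsAmple H) (P : X.Modules → Prop) (hP : ∀ L, P L → PicF.IsInvertible L) :
    Pic13.IsBounded k X P ↔ ∃ N : ℕ, ∀ L L' : X.Modules, P L → Nonempty (CohB1.tensorMod L L' ≅ Coh.structureModule X) →
      CohB1.IsAmple (CohB1.tensorMod (CohB1.tensorPow H N) L) ∧ CohB1.IsAmple (CohB1.tensorMod (CohB1.tensorPow H N) L') := by
  refine ⟨fun hb => Groth.L11.Bdd.exists_good_of_bounded k hH hP hb, fun ⟨N, hN⟩ => ?_⟩
  haveI := Groth.L21.RR.isNoetherian_of_proper (X := X) k
  obtain ⟨D, hD, -⟩ := Groth.L11.NumOrth.exists_nat_dim_le k k (X := X)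
  obtain ⟨T, q, h1, h2, G, hG, h⟩ := Groth.L11.Bdd.isBounded_good k D X
    (hD.trans (by exact_mod_cast Nat.le_add_right D 2)) H hH N
  refine ⟨T, q, h1, h2, G, hG, fun L hL => h L ⟨hP L hL, ?_⟩⟩
  obtain ⟨L', -, e⟩ := Groth.L08.Cube.exists_inverse (hP L hL)
  exact ⟨L', e, hN L L' hL e⟩
end Groth.Agent.S4287
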