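import Groth.Statements.S4288
import Groth.Agent.L10.TwistPush.Main
import Groth.Agent.L17.FM.PCTensorGlobal
import Groth.Agent.L29.BC.ProjQC
import Groth.Agent.L10.FMBC.ModKernel
import Groth.Agent.Lead.ClosedRpush

set_option linter.style.haveILetI false
set_option backward.defeqAttrib.useBackward true
set_option backward.isDefEq.respectTransparency false
set_option backward.isDefEq.respectTransparency.types false
set_option maxHeartbeats 1000000

set_option autoImplicit false
universe u
open CategoryTheory CategoryTheory.Limits AlgebraicGeometry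
attribute [local instance] HasDerivedCategory.standard
open KSix

namespace Groth.Agent.S4288

/-- Let Y be an affine scheme, i : X ⟶ P^r_Y a closed immersion, f : X ⟶ Y the composite with the
projection, L = i^* O(1), and E a bounded below object of D(O_X), acyclic in degrees > a, which is
pseudo-coherent relative to Y (i.e. Ri_*E is pseudo-coherent on P^r_Y). Assuming the derived
functors exist, there is an integer N such that for every n ≥ N the complex Rf_*(E ⊗^L L^{⊗ n}) is
pseudo-coherent on Y and acyclic in degrees > a. (The published statement allows any quasi-compact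
base S, Y of finite type over S and a closed immersion into P(F) with F quasi-coherent of finite
type.) -/
theorem result {X Y : Scheme.{u}} [IsAffine Y] (r : ℕ)
    (i : X ⟶ CohB1.ProjSpaceOver r Y) [IsClosedImmersion i]
    [DCoh.HasRpush i] [DCoh.HasRpush (i ≫ CohB1.ProjSpaceOver.toBase r Y)]
    [∀ n : ℤ, DCoh.HasLTensorMod ((Scheme.Modules.pullback i).obj (Twist.twistOver r Y n))]
    (E : DCoh.D X) (a b : ℤ) [E.IsGE b] [E.IsLE a]
    (hE : ∀ m : ℤ, DCoh.IsPseudoCoherentD m ((DCoh.Rpush i).obj E)) :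
    ∃ N : ℤ, ∀ n : ℤ, N ≤ n →
      (∀ m : ℤ, DCoh.IsPseudoCoherentD m ((DCoh.Rpush (i ≫ CohB1.ProjSpaceOver.toBase r Y)).obj
        ((DCoh.LTensorMod ((Scheme.Modules.pullback i).obj (Twist.twistOver r Y n))).obj E))) ∧
      ((DCoh.Rpush (i ≫ CohB1.ProjSpaceOver.toBase r Y)).obj
        ((DCoh.LTensorMod ((Scheme.Modules.pullback i).obj (Twist.twistOver r Y n))).obj E)).IsLE a := by
  let p := CohB1.ProjSpaceOver.toBase r Y
  haveI := Groth.L29.DC.RpushQC.hasRpush p
  haveI := Groth.L29.DC.ClosedPC.exactLeft i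
  haveI := Groth.L29.DC.ClosedPC.exactRight i
  haveI := Groth.L29.DC.ClosedPC.additive i
  let F := (DCoh.Rpush i).obj E
  obtain ⟨eF⟩ := Groth.Lead.ClosedRpush.nonempty_Rpush_iso_pD i E
  haveI : F.IsLE a := (DerivedCategory.isLE_iff F a).2 fun j hj =>
    ((Groth.L29.DC.ClosedPC.isZero_HD_iff i E j).2 (DerivedCategory.isZero_of_isLE E a j hj)).of_iso
      ((DerivedCategory.homologyFunctor _ j).mapIso eF)
  haveI : F.IsGE b := (DerivedCategory.isGE_iff F b).2 fun j hj =>
    ((Groth.L29.DC.ClosedPC.isZero_HD_iff i E j).2 (DerivedCategory.isZero_of_isGE E b j hj)).of_iso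
      ((DerivedCategory.homologyFunctor _ j).mapIso eF)
  obtain ⟨N, hN⟩ := Groth.L10.TwistPush.exists_bound r Y F hE a b
  refine ⟨N, fun n hn => ?_⟩
  let A := Twist.twistOver r Y n
  let A' := (Scheme.Modules.pullback i).obj A
  let P := Groth.Lead.LTMod.S0 A
  have hA : FlatMod.IsFinLocFree A := Groth.L10.TwistPush.hfl r Y n
  haveI := fun {Z : Scheme.{u}} (C : CochainComplex Z.Modules ℤ) => Groth.L00.KFlat.hasLTensorCx C
  haveI := fun {Z : Scheme.{u}} (M : Z.Modules) => Groth.L00.DerivedApi.hasLTensorMod M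
  haveI : DCoh.HasLTensorMod A' := inferInstance
  haveI := (Scheme.Modules.pullbackPushforwardAdjunction i).left_adjoint_additive
  let E' := (DCoh.LTensorMod A').obj E
  obtain ⟨q⟩ := Groth.L29.DC.ClosedProj.nonempty_projection i P (Groth.L10.FMBC.isKFlat_S0 (Groth.L17.Strat.isInvertible_twistOver r Y n)) E
  obtain ⟨c⟩ := Groth.L29.BC.ProjQC.nonempty_LTensorCx_congr
    (A := ((Scheme.Modules.pullback i).mapHomologicalComplex (ComplexShape.up ℤ)).obj P)
    (B := Groth.Lead.LTMod.S0 A')
    (DerivedCategory.Q.mapIso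
      ((HomologicalComplex.singleMapHomologicalComplex (Scheme.Modules.pullback i) (ComplexShape.up ℤ) 0).app A))
  let eP : (DCoh.Rpush i).obj E' ≅ (DCoh.LTensorCx P).obj F :=
    (DCoh.Rpush i).mapIso ((Groth.Lead.LTMod.iso A').app E ≪≫ (c.app E).symm) ≪≫ q.symm
  let eT : (DCoh.Rpush i).obj E' ≅ (Groth.L10.TwistPush.Tw r Y n).obj F :=
    eP ≪≫ ((Groth.Lead.LTMod.iso A).app F).symm ≪≫ (Groth.Lead.TwistEquiv.ltIso A hA).app F
  let eR : (DCoh.Rpush p).obj ((DCoh.Rpush i).obj E') ≅ (DCoh.Rpush (i ≫ p)).obj E' :=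
    (Groth.L29.BC.cR (g := i) (f := p) (h := i ≫ p) rfl).app E'
  constructor
  · intro m
    have hPp : DCoh.IsPerfect (DCoh.toD (CohB1.ProjSpaceOver r Y) P) :=
      Groth.L29.DC.PushPerfect.isPerfect_of_strictly ⟨⟨0, 0, fun j hj =>
        HomologicalComplex.isZero_single_obj_X _ _ _ _ (by omega)⟩, fun j => by
          by_cases hj : j = 0
          · subst hj
            exact Groth.L29.LocFree.of_iso (HomologicalComplex.singleObjXSelf _ _ A).symm hA
          · exact Groth.L29.LocFree.of_isZero (HomologicalComplex.isZero_single_obj_X _ _ _ _ hj)⟩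
    refine Groth.Lead.ClosedRpush.pc_Rpush_projSpace r i (fun k => ?_) m
    exact Groth.L29.DC.isPseudoCoherentD_of_iso eP.symm (Groth.L17.PCTensor.pc_LTensorCx P F
      (Groth.L29.DC.PCQCoh.isQCohD_of_pc hE) (Groth.L29.DC.PCQCoh.isQCohD_of_perfect hPp) hE
      (fun k => Groth.L29.DC.pc_of_perfect hPp k) k)
  · exact @CategoryTheory.Triangulated.TStructure.isLE_of_iso _ _ _ _ _ _ _ DerivedCategory.TStructure.t _ _
      ((DCoh.Rpush p).mapIso eT.symm ≪≫ eR) a (hN n hn)

end Groth.Agent.S4288
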