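import Groth.Prelude.Def_Pic13
import Mathlib.FieldTheory.IsAlgClosed.Basic
import Mathlib.AlgebraicGeometry.Morphisms.Proper
import Groth.Agent.L11.Bdd.Tau
-- import your own Groth.Agent.* helpers here

set_option autoImplicit false
set_option backward.isDefEq.respectTransparency false
set_option backward.isDefEq.respectTransparency.types false
universe u
open CategoryTheory CategoryTheory.Limits AlgebraicGeometry
open Pic13

namespace Groth.Agent.S4292

/-- The n-th power map on the Picard functor is of finite type: over S = Spec k with k algebraically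
closed and for n > 0: let X be a proper k-scheme and P a bounded family of O_X-modules. Then the
family of invertible O_X-modules M such that M^{⊗ n} is isomorphic to a member of P is bounded. (The
source allows every integer n ≠ 0.) -/
theorem result (k : Type u) [Field k] [IsAlgClosed k] (X : Scheme.{u}) [X.Over (Spec (CommRingCat.of k))]
    [IsProper (X ↘ Spec (CommRingCat.of k))] (n : ℕ) (hn : 0 < n)
    (P : X.Modules → Prop) (hP : Pic13.IsBounded k X P) :
    Pic13.IsBounded k X (fun M : X.Modules => PicF.IsInvertible M ∧ ∃ L : X.Modules, P L ∧ Nonempty (CohB1.tensorPow M n ≅ L)) := by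
  refine Groth.L11.Bdd.isBounded_preimage (fun M : X.Modules => CohB1.tensorPow M n)
    (fun e => ⟨Groth.L00.Tensor.tensorPowIso e n⟩) ⟨Groth.L00.Tensor.tensorPowUnit X n⟩
    (fun A B => ⟨Groth.L00.Tensor.tensorPowTensor A B n⟩)
    (fun A hA => Groth.L18.Ample.isInvertible_tensorPow hA n) (fun A hA h => ?_) P hP
  obtain ⟨m, hm, halg⟩ := Groth.L11.Bdd.isTauEquivZero_of_NT k h
  refine Groth.L11.Bdd.NT_of_tau k hA ⟨n * m, Nat.mul_pos hn hm, ?_⟩
  obtain ⟨T, q, h1, h2, h3, M, hM, t, t₀, ht, ht₀, ⟨e⟩, h4⟩ := halg
  exact ⟨T, q, h1, h2, h3, M, hM, t, t₀, ht, ht₀, ⟨e ≪≫ Groth.L00.Tensor.tensorPowMul A n m⟩, h4⟩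
end Groth.Agent.S4292
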