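import Groth.Statements.S4295
import Groth.Agent.L13.PCoh.Limit

set_option autoImplicit false
universe w v u
open CategoryTheory CategoryTheory.Limits
open PCoh

namespace Groth.Agent.S4295

open scoped ZeroObject

/-- Punctual site: let C be an abelian category and C₀ a strictly full additive subcategory (closed
under isomorphisms, containing zero, closed under binary products) which is quasi-stable under
kernels of epimorphisms and quasi-liftable in C. If F ∈ D(C) is C₀-pseudo-coherent (for every n
isomorphic to a bounded above complex with terms in C₀ from degree n on), then F is isomorphic in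
D(C) to the image of one bounded above complex all of whose terms lie in C₀. -/
theorem result {C : Type u} [Category.{v} C] [Abelian C] [HasDerivedCategory.{w} C]
    (P : ObjectProperty C) [P.IsClosedUnderIsomorphisms] [P.ContainsZero] (hsum : ∀ X Y : C, P X → P Y → P (X ⨯ Y))
    (hqs : PCoh.IsQuasiStableUnderKernels P) (hql : PCoh.IsQuasiLiftable P)
    (F : DerivedCategory C) (hF : PCoh.IsPC P F) :
    ∃ E : CochainComplex C ℤ, PCoh.IsStrictPCAll P E ∧ Nonempty (DerivedCategory.Q.obj E ≅ F) := by
  obtain ⟨b, hb⟩ := Groth.L13.PCoh.IsN.exists_bound P (hF 0)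
  let X := DerivedCategory.Q.objPreimage F
  let e : DerivedCategory.Q.obj X ≅ F := DerivedCategory.Q.objObjPreimageIso F
  obtain ⟨E, -, t, -, hE, ht, -, -⟩ := Groth.L13.PCoh.completeAll P hsum hql
    (0 : (0 : CochainComplex C ℤ) ⟶ X)
    ⟨⟨0, fun j _ => Groth.L13.PCoh.isZero_zero_X j⟩,
      fun j => Groth.L13.PCoh.prop_of_isZero P (Groth.L13.PCoh.isZero_zero_X j)⟩ (b + 1)
    (Groth.L13.PCoh.approx_zero (b + 1) fun i hi => (Groth.L13.PCoh.isZero_homologyFunctor_Q_iff X i).1
      ((hb i (by omega)).of_iso ((DerivedCategory.homologyFunctor C i).mapIso e)))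
    (fun k => Groth.L13.PCoh.crit P hsum hqs hql (Groth.L13.PCoh.IsN.of_iso P (hF k) e.symm))
  exact ⟨E, hE, ⟨asIso (DerivedCategory.Q.map t) ≪≫ e⟩⟩

end Groth.Agent.S4295
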