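import Groth.Prelude.Def_Pic13
import Mathlib.AlgebraicGeometry.Morphisms.Proper
import Mathlib.AlgebraicGeometry.Noetherian
import Groth.Agent.L02.TauOpen.Finite
import Groth.Agent.L02.TauOpen.Generize
import Groth.Agent.S0025

set_option autoImplicit false
set_option linter.style.haveILetI false
namespace Pic13
end Pic13
universe u
open CategoryTheory CategoryTheory.Limits AlgebraicGeometry
open Pic13

namespace Groth.Agent.S4300

open Groth.L02.TauOpen TopologicalSpace

/-- Openness from stability under generization and openness in closures of points. -/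
theorem isOpen_of_generic {X : Type*} [TopologicalSpace X] [NoetherianSpace X] [QuasiSober X] {E : Set X}
    (hgen : ∀ t s, t ⤳ s → s ∈ E → t ∈ E)
    (hgeneric : ∀ η ∈ E, ∃ O, IsOpen O ∧ η ∈ O ∧ O ∩ closure {η} ⊆ E) : IsOpen E := by
  rw [← isClosed_compl_iff]
  suffices h : ∀ C : Closeds X, IsClosed ((C : Set X) ∩ Eᶜ) by simpa using h ⊤
  intro C
  induction C using WellFoundedLT.induction with
  | _ C ih =>
    by_cases hC : IsPreirreducible (C : Set X)
    · rcases (C : Set X).eq_empty_or_nonempty with he | hne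
      · simp [he]
      have hirr : IsIrreducible (C : Set X) := ⟨hne, hC⟩
      have hη := hirr.isGenericPoint_genericPoint C.isClosed
      by_cases hηE : hirr.genericPoint ∈ E
      · obtain ⟨O, hO, hηO, hOE⟩ := hgeneric _ hηE
        rw [hη.def] at hOE
        let C' : Closeds X := ⟨(C : Set X) ∩ Oᶜ, C.isClosed.inter hO.isClosed_compl⟩
        have hlt : C' < C := SetLike.coe_ssubset_coe.1
          ⟨Set.inter_subset_left, fun h => (h hη.mem).2 hηO⟩
        have : (C : Set X) ∩ Eᶜ = (C' : Set X) ∩ Eᶜ := by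
          ext x
          exact ⟨fun h => ⟨⟨h.1, fun hxO => h.2 (hOE ⟨hxO, h.1⟩)⟩, h.2⟩, fun h => ⟨h.1.1, h.2⟩⟩
        rw [this]
        exact ih C' hlt
      · have : (C : Set X) ∩ Eᶜ = C :=
          Set.inter_eq_left.2 fun x hx hxE => hηE (hgen _ x (hη.specializes hx) hxE)
        rw [this]
        exact C.isClosed
    · rw [isPreirreducible_iff_isClosed_union_isClosed] at hC
      push Not at hC
      obtain ⟨z₁, z₂, h₁, h₂, hcov, hn₁, hn₂⟩ := hC
      have hlt : ∀ z (hz : IsClosed z), ¬(C : Set X) ⊆ z → (⟨(C : Set X) ∩ z, C.isClosed.inter hz⟩ : Closeds X) < C :=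
        fun z hz hn => SetLike.coe_ssubset_coe.1 ⟨Set.inter_subset_left, fun h => hn fun x hx => (h hx).2⟩
      have : (C : Set X) ∩ Eᶜ = ((C : Set X) ∩ z₁) ∩ Eᶜ ∪ ((C : Set X) ∩ z₂) ∩ Eᶜ := by
        ext x
        constructor
        · rintro ⟨hx, hxE⟩
          rcases hcov hx with h | h
          · exact Or.inl ⟨⟨hx, h⟩, hxE⟩
          · exact Or.inr ⟨⟨hx, h⟩, hxE⟩
        · rintro (⟨⟨hx, -⟩, hxE⟩ | ⟨⟨hx, -⟩, hxE⟩) <;> exact ⟨hx, hxE⟩
      rw [this]
      exact (ih _ (hlt z₁ h₁ hn₁)).union (ih _ (hlt z₂ h₂ hn₂))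

/-- In the form reached in its proof: let S be a Noetherian scheme, f : X ⟶ S a proper morphism and L an
invertible O_X-module. Then the set of points s of S such that L is τ-equivalent to zero on the
geometric fibre of f at s is open. (The source's (i): Pic^τ_{X/S} ⟶ Pic_{X/S} is representable by an
open immersion.) -/
theorem result {X S : Scheme.{u}} [IsNoetherian S] (f : X ⟶ S) [IsProper f] (L : X.Modules) (hL : PicF.IsInvertible L) :
    IsOpen {s : S | Pic13.IsTauTrivialAt f L s} := by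
  obtain ⟨n, X', π, j, hj, hjf, hπp, hπs, -⟩ := Groth.Agent.S0025.result f
  haveI := hj; haveI := hπp; haveI := hπs
  haveI : IsProper (CohB1.ProjSpaceOver.toBase n S) := MorphismProperty.pullback_snd _ _ inferInstance
  haveI : IsProper (j ≫ CohB1.ProjSpaceOver.toBase n S) := by rw [hjf]; infer_instance
  haveI : IsProper j := IsProper.of_comp j (CohB1.ProjSpaceOver.toBase n S)
  haveI : IsClosedImmersion j := IsClosedImmersion.of_isPreimmersion j j.isClosedMap.isClosed_range
  let f' := j ≫ CohB1.ProjSpaceOver.toBase n S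
  haveI : IsProper f' := inferInstanceAs (IsProper (j ≫ CohB1.ProjSpaceOver.toBase n S))
  haveI : IsLocallyNoetherian X' := LocallyOfFiniteType.isLocallyNoetherian f'
  let L' := (Scheme.Modules.pullback π).obj L
  have hL' : PicF.IsInvertible L' := Groth.L18.Ample.isInvertible_pullback π hL
  let H := (Scheme.Modules.pullback j).obj (Twist.twistOver n S 1)
  have hHi : PicF.IsInvertible H :=
    Groth.L18.Ample.isInvertible_pullback j (Groth.L18.Ample.isInvertible_pullback _
      (Groth.L22.VeryAmple.isAmple_O1 n (ULift.{u} ℤ)).1)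
  have hH : GeomAmple f' H := fun Ω _ σ => Groth.L02.Pic13Deg.isAmple_geomFibre j Ω σ
  have hset : {s : S | Pic13.IsTauTrivialAt f L s} = {s : S | FibNum f' L' s} := by
    ext s
    have h := fibNum_pullback f hL π f' hjf.symm s
    exact (isTauTrivialAt_iff f hL s).trans ⟨h.1, h.2 hπs⟩
  rw [hset]
  refine isOpen_of_generic (fun t s hts hs => fibNum_generize f' hL' hts hs) fun η hη => ?_
  obtain ⟨_, ⟨V, (hV : IsAffineOpen V), rfl⟩, hηV, -⟩ := S.isBasis_affineOpens.exists_subset_of_mem_open (Set.mem_univ η) isOpen_univ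
  let P := (hV.primeIdealOf ⟨η, hηV⟩).asIdeal
  let A := Γ(S, V) ⧸ P
  haveI : IsNoetherianRing Γ(S, V) := IsLocallyNoetherian.component_noetherian ⟨V, hV⟩
  let c : Spec (CommRingCat.of A) ⟶ Spec Γ(S, V) := Spec.map (CommRingCat.ofHom (Ideal.Quotient.mk P))
  haveI : IsClosedImmersion c := IsClosedImmersion.spec_of_surjective _ Ideal.Quotient.mk_surjective
  let g := c ≫ hV.fromSpec
  let a₀ : Spec (CommRingCat.of A) := ⟨⊥, Ideal.isPrime_bot⟩
  have hc₀ : c a₀ = hV.primeIdealOf ⟨η, hηV⟩ := PrimeSpectrum.ext (by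
    show (⊥ : Ideal A).comap (Ideal.Quotient.mk P) = P
    exact Ideal.mk_ker)
  have hga : g a₀ = η := by
    show hV.fromSpec (c a₀) = η
    rw [hc₀]
    exact hV.fromSpec_primeIdealOf ⟨η, hηV⟩
  haveI : IsProper (pullback.snd f' g) := MorphismProperty.pullback_snd _ _ inferInstance
  obtain ⟨U, hU₀, hU⟩ := exists_open_fibNum A (pullback.snd f' g) (Groth.L18.Ample.isInvertible_pullback _ hHi)
    (hH.bc g) (Groth.L18.Ample.isInvertible_pullback _ hL') a₀ rfl ((fibNum_bc f' hL' g a₀).2 (hga.symm ▸ hη))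
  obtain ⟨O, hO, hOU⟩ := (Topology.IsEmbedding.isInducing (hV.fromSpec.isEmbedding.comp c.isEmbedding)).isOpen_iff.1 U.isOpen
  refine ⟨O ∩ V, hO.inter V.isOpen, ⟨hga ▸ (hOU.symm.subset hU₀ : a₀ ∈ _), hηV⟩, fun s hs => ?_⟩
  obtain ⟨⟨hsO, hsV⟩, hsη⟩ := hs
  obtain ⟨q, rfl⟩ : s ∈ Set.range hV.fromSpec := by rw [hV.range_fromSpec]; exact hsV
  have hspec : hV.primeIdealOf ⟨η, hηV⟩ ⤳ q := by
    refine hV.fromSpec.isEmbedding.isInducing.specializes_iff.1 ?_
    rw [hV.fromSpec_primeIdealOf]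
    exact specializes_iff_mem_closure.2 hsη
  obtain ⟨q', rfl⟩ : q ∈ Set.range c.base := by
    have h1 := c.isClosedMap.isClosed_range
    exact hspec.mem_closed h1 ⟨a₀, hc₀⟩
  exact (fibNum_bc f' hL' g q').1 (hU q' (hOU.subset hsO))

end Groth.Agent.S4300
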