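import Groth.Prelude.Def_Pic13
import Mathlib.AlgebraicGeometry.Morphisms.Proper
import Mathlib.AlgebraicGeometry.Morphisms.Flat
import Mathlib.AlgebraicGeometry.Noetherian
import Groth.Agent.L02.Pic13Deg.GeomEuler
import Groth.Agent.S4305
import Groth.Agent.S4306
import Groth.Agent.L22.Big.Nef

set_option autoImplicit false
set_option linter.style.haveILetI false
namespace Pic13
end Pic13
universe u
open CategoryTheory CategoryTheory.Limits AlgebraicGeometry
open Pic13

namespace Groth.Agent.S4301

open Groth.L02.Pic13Deg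

/-- Let S be a Noetherian scheme, i : X ⟶ P^n_S a closed immersion with f : X ⟶ S the composite with the
projection, f flat with integral geometric fibres, and L an invertible O_X-module. Then the set of
points s of S such that L is τ-equivalent to zero on the geometric fibre at s is closed (it is also
open, but only closedness is asserted here). (The published statement is that Pic^τ_{X/S} ⟶
Pic_{X/S} is representable by an open and closed immersion; this is the form reached in its proof.) -/
theorem result {X S : Scheme.{u}} [IsNoetherian S] (n : ℕ)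
    (i : X ⟶ CohB1.ProjSpaceOver n S) [IsClosedImmersion i] [Flat (i ≫ CohB1.ProjSpaceOver.toBase n S)]
    (hint : ∀ (Ω : Type u) [Field Ω] [IsAlgClosed Ω] (σ : Spec (CommRingCat.of Ω) ⟶ S), IsIntegral (pullback (i ≫ CohB1.ProjSpaceOver.toBase n S) σ))
    (L : X.Modules) (hL : PicF.IsInvertible L) :
    IsClosed {s : S | Pic13.IsTauTrivialAt (i ≫ CohB1.ProjSpaceOver.toBase n S) L s} := by
  classical
  haveI : IsProper (CohB1.ProjSpaceOver.toBase n S) :=
    MorphismProperty.pullback_snd _ _ inferInstance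
  let f := i ≫ CohB1.ProjSpaceOver.toBase n S
  haveI : IsProper f := inferInstanceAs (IsProper (i ≫ CohB1.ProjSpaceOver.toBase n S))
  haveI : IsLocallyNoetherian X := LocallyOfFiniteType.isLocallyNoetherian f
  haveI : LocallyOfFinitePresentation f := LocallyOfFinitePresentation.iff_locallyOfFiniteType.2 inferInstance
  let H := (Scheme.Modules.pullback i).obj (Twist.twistOver n S 1)
  have hHi : PicF.IsInvertible H :=
    Groth.L18.Ample.isInvertible_pullback i (Groth.L18.Ample.isInvertible_pullback _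
      (Groth.L22.VeryAmple.isAmple_O1 n (ULift.{u} ℤ)).1)
  obtain ⟨H', hH'i, ⟨eH⟩⟩ := Groth.L08.Cube.exists_inverse hHi
  obtain ⟨L', hL'i, ⟨eL⟩⟩ := Groth.L08.Cube.exists_inverse hL
  have hinv : ∀ (A B : X.Modules), PicF.IsInvertible A → PicF.IsInvertible B → ∀ a b : ℕ,
      PicF.IsInvertible (CohB1.tensorMod (CohB1.tensorPow A a) (CohB1.tensorPow B b)) := fun A B hA hB a b =>
    Groth.L18.GenLoc.isInvertible_tensor (Groth.L18.Ample.isInvertible_tensorPow hA a)
      (Groth.L18.Ample.isInvertible_tensorPow hB b)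
  have hlc : ∀ G : X.Modules, PicF.IsInvertible G → IsLocallyConstant (fun s => PerfAux.eulerChar f G s) :=
    fun G hG => Groth.Agent.S1026.result f G
      (Groth.L15.Ref.isFP_of_isCoh (Groth.L16.ProperFinite.isCoh_of_isInvertible hG))
      (Groth.Agent.Pic0.isFlatOver_of_isInvertible f hG)
  have hcl : ∀ G G₀ : X.Modules, PicF.IsInvertible G → PicF.IsInvertible G₀ →
      IsClosed {s : S | PerfAux.eulerChar f G s = PerfAux.eulerChar f G₀ s} := fun G G₀ hG hG₀ =>
    by simpa using ((hlc G hG).comp₂ (hlc G₀ hG₀) (fun a b => a = b)).isClosed_fiber True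
  let E : ℕ → ℕ → Set S := fun a b =>
    {s | PerfAux.eulerChar f (CohB1.tensorMod (CohB1.tensorPow L a) (CohB1.tensorPow H b)) s =
        PerfAux.eulerChar f (CohB1.tensorPow H b) s} ∩
    {s | PerfAux.eulerChar f (CohB1.tensorMod (CohB1.tensorPow L a) (CohB1.tensorPow H' b)) s =
        PerfAux.eulerChar f (CohB1.tensorPow H' b) s} ∩
    {s | PerfAux.eulerChar f (CohB1.tensorMod (CohB1.tensorPow L' a) (CohB1.tensorPow H b)) s =
        PerfAux.eulerChar f (CohB1.tensorPow H b) s} ∩
    {s | PerfAux.eulerChar f (CohB1.tensorMod (CohB1.tensorPow L' a) (CohB1.tensorPow H' b)) s =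
        PerfAux.eulerChar f (CohB1.tensorPow H' b) s}
  suffices hset : {s : S | Pic13.IsTauTrivialAt (i ≫ CohB1.ProjSpaceOver.toBase n S) L s} = ⋂ a, ⋂ b, E a b by
    rw [hset]
    refine isClosed_iInter fun a => isClosed_iInter fun b => ?_
    have hb := Groth.L18.Ample.isInvertible_tensorPow hHi b
    have hb' := Groth.L18.Ample.isInvertible_tensorPow hH'i b
    exact (((hcl _ _ (hinv _ _ hL hHi a b) hb).inter (hcl _ _ (hinv _ _ hL hH'i a b) hb')).inter
      (hcl _ _ (hinv _ _ hL'i hHi a b) hb)).inter (hcl _ _ (hinv _ _ hL'i hH'i a b) hb')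
  -- the criterion on one geometric fibre
  have key : ∀ (Ω : Type u) [Field Ω] [IsAlgClosed Ω] (σ : Spec (CommRingCat.of Ω) ⟶ S) (s : S),
      Set.range σ.base = {s} →
      (@Pic13.IsTauEquivZero Ω _ (pullback f σ) ⟨pullback.snd f σ⟩ ((Scheme.Modules.pullback (pullback.fst f σ)).obj L) ↔
        ∀ a b, s ∈ E a b) := by
    intro Ω _ _ σ s hs
    letI : (pullback f σ).Over (Spec (CommRingCat.of Ω)) := ⟨pullback.snd f σ⟩
    haveI : IsProper (pullback f σ ↘ Spec (CommRingCat.of Ω)) := MorphismProperty.pullback_snd _ _ inferInstance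
    haveI := hint Ω σ
    haveI : IsIntegral (pullback f σ) := hint Ω σ
    haveI := Groth.L21.RR.isNoetherian_of_proper (X := pullback f σ) Ω
    obtain ⟨d, hd⟩ := Groth.L03.Euler.exists_dim_bound Ω (pullback f σ)
    let P := Scheme.Modules.pullback (pullback.fst f σ)
    have hpi : ∀ {A B : X.Modules}, (CohB1.tensorMod A B ≅ Coh.structureModule X) →
        Nonempty (CohB1.tensorMod (P.obj A) (P.obj B) ≅ Coh.structureModule (pullback f σ)) := fun e =>
      ⟨Groth.L29.DC.PullTensor.pullTensor _ _ _ ≪≫ P.mapIso e ≪≫ Groth.L29.LocFree.pullbackUnitIso _⟩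
    have hample : CohB1.IsAmple (P.obj H) := isAmple_geomFibre i Ω σ
    have hLi : PicF.IsInvertible (P.obj L) := Groth.L18.Ample.isInvertible_pullback _ hL
    have hE : ∀ (A : X.Modules), PicF.IsInvertible A → PerfAux.eulerChar f A s =
        FGA.eulerCharLE Ω (pullback f σ) (P.obj A) d := fun A hA => by
      rw [Groth.L22.Inter.eulerCharLE_eq Ω hd]
      exact euler_geomFibre f (Groth.L16.ProperFinite.isCoh_of_isInvertible hA) Ω σ s hs rfl
    have hpow : ∀ (A : X.Modules) (a : ℕ), PicF.IsInvertible A → PerfAux.eulerChar f (CohB1.tensorPow A a) s =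
        FGA.eulerCharLE Ω (pullback f σ) (CohB1.tensorPow (P.obj A) a) d := fun A a hA => by
      obtain ⟨e⟩ := Groth.L05.EulerDiv.nonempty_pullback_tensorPow (pullback.fst f σ) A a
      rw [hE _ (Groth.L18.Ample.isInvertible_tensorPow hA a), Groth.L22.Inter.eulerCharLE_eq Ω hd,
        Groth.L22.Inter.eulerCharLE_eq Ω hd]
      exact Groth.L03.Euler.euler_iso e
    have hten : ∀ (A B : X.Modules) (a b : ℕ), PicF.IsInvertible A → PicF.IsInvertible B →
        PerfAux.eulerChar f (CohB1.tensorMod (CohB1.tensorPow A a) (CohB1.tensorPow B b)) s =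
        FGA.eulerCharLE Ω (pullback f σ) (CohB1.tensorMod (CohB1.tensorPow (P.obj A) a) (CohB1.tensorPow (P.obj B) b)) d :=
      fun A B a b hA hB => by
      obtain ⟨e⟩ := Groth.L05.EulerDiv.nonempty_pullback_tensorPow (pullback.fst f σ) A a
      obtain ⟨e'⟩ := Groth.L05.EulerDiv.nonempty_pullback_tensorPow (pullback.fst f σ) B b
      rw [hE _ (hinv A B hA hB a b), Groth.L22.Inter.eulerCharLE_eq Ω hd, Groth.L22.Inter.eulerCharLE_eq Ω hd]
      exact Groth.L03.Euler.euler_iso ((Groth.L29.DC.PullTensor.pullTensor _ _ _).symm ≪≫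
        Groth.L00.Tensor.tensorIso e e')
    simp only [E, Set.mem_inter_iff, Set.mem_ofPred_eq, hten _ _ _ _ hL hHi, hten _ _ _ _ hL hH'i,
      hten _ _ _ _ hL'i hHi, hten _ _ _ _ hL'i hH'i, hpow _ _ hHi, hpow _ _ hH'i, and_assoc]
    exact ⟨fun h a b => Groth.Agent.S4305.result Ω (pullback f σ) d hd _ _ _ _ hample hLi (hpi eH) (hpi eL) h a b,
      fun h => Groth.Agent.S4306.result Ω (pullback f σ) d hd _ _ _ _ hample hLi (hpi eH) (hpi eL) h⟩
  ext s
  simp only [Set.mem_iInter, Set.mem_ofPred_eq]
  constructor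
  · intro h
    let K := AlgebraicClosure (S.residueField s)
    let σ : Spec (CommRingCat.of K) ⟶ S :=
      Spec.map (CommRingCat.ofHom (algebraMap (S.residueField s) K)) ≫ S.fromSpecResidueField s
    have hs : Set.range σ.base = {s} := by
      refine Set.eq_singleton_iff_nonempty_unique_mem.2 ⟨Set.range_nonempty _, ?_⟩
      rintro _ ⟨y, rfl⟩
      have := Scheme.range_fromSpecResidueField s
      have hm : σ.base y ∈ Set.range (S.fromSpecResidueField s) := ⟨_, rfl⟩
      rw [this] at hm
      exact hm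
    exact (key K σ s hs).1 (h K σ hs)
  · intro h Ω _ _ σ hs
    exact (key Ω σ s hs).2 h

end Groth.Agent.S4301
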