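import Groth.Statements.S4302
import Groth.Agent.Lead.AmpRpush
import Groth.Agent.Lead.ClosedRpush
import Groth.Agent.L29.DCoh.RpushProj
import Groth.Agent.L29.DCoh.Gen.Loc
import Groth.Agent.S4265

set_option linter.style.haveILetI false
set_option backward.isDefEq.respectTransparency false
set_option backward.isDefEq.respectTransparency.types false
set_option maxHeartbeats 1000000


set_option autoImplicit false
universe u
open CategoryTheory CategoryTheory.Limits AlgebraicGeometry
attribute [local instance] HasDerivedCategory.standard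
open KSix

namespace Groth.Agent.S4302

/-- Over an affine base Y, through the embedding criterion for perfect amplitude: let i : X ⟶ P^r_Y be a
closed immersion with Y affine, f : X ⟶ Y the composite with the projection, and E a bounded object
of D(O_X) such that Ri_*E has perfect amplitude in [a, b] on P^r_Y. Assuming the derived functors
exist, Rf_*E has perfect amplitude in [a, b + r] on Y (r bounds the cohomological dimension of f on
quasi-coherent modules). -/
theorem result {X Y : Scheme.{u}} [IsAffine Y] (r : ℕ)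
    (i : X ⟶ CohB1.ProjSpaceOver r Y) [IsClosedImmersion i]
    [DCoh.HasRpush i] [DCoh.HasRpush (i ≫ CohB1.ProjSpaceOver.toBase r Y)]
    (E : DCoh.D X) (a₀ b₀ : ℤ) [E.IsGE a₀] [E.IsLE b₀] (a b : ℤ)
    (hE : KSix.HasPerfectAmplitudeIn a b ((DCoh.Rpush i).obj E)) :
    KSix.HasPerfectAmplitudeIn a (b + r) ((DCoh.Rpush (i ≫ CohB1.ProjSpaceOver.toBase r Y)).obj E) := by
  haveI := Groth.L29.DC.RpushQC.hasRpush (CohB1.ProjSpaceOver.toBase r Y)
  let p := CohB1.ProjSpaceOver.toBase r Y
  let K := (DCoh.Rpush i).obj E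
  have hloc := (Groth.L29.DC.hasPerfectAmplitudeIn_iff_local K a b).1 hE
  have hpc : ∀ m, DCoh.IsPseudoCoherentD m K := fun m => Groth.L29.DC.pc_of_perfect
    ((Groth.L29.DC.isPerfect_iff K).2 fun x => by
      obtain ⟨V, hx, T, hv, hf, e⟩ := hloc x
      exact ⟨V, hx, T, ⟨⟨a, b, hv⟩, hf⟩, e⟩) m
  have hvan : ∀ j, j < a ∨ b < j → IsZero (DCoh.HD K j) := fun j hj => Groth.L29.DC.isZero_HD_of_local K j fun x => by
    obtain ⟨V, hx, T, hv, hf, ⟨e⟩⟩ := hloc x
    exact ⟨V, hx, (ShortComplex.isZero_homology_of_isZero_X₂ (T.sc j) (hv j hj)).of_iso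
      ((DerivedCategory.homologyFunctor _ j).mapIso e ≪≫ (DerivedCategory.homologyFunctorFactors _ j).app T)⟩
  haveI : K.IsLE b := (K.isLE_iff b).2 fun j hj => hvan j (Or.inr hj)
  haveI : K.IsGE a := (K.isGE_iff a).2 fun j hj => hvan j (Or.inl hj)
  have eR : (DCoh.Rpush p).obj K ≅ (DCoh.Rpush (i ≫ p)).obj E :=
    (Groth.L29.BC.cR (g := i) (f := p) (h := i ≫ p) rfl).app E
  haveI := Groth.Agent.S4265.result Y r K hpc b a
  by_cases hab : a ≤ b
  · have hf := ((Groth.L29.DC.hasPerfectAmplitudeIn_iff K a b hab).1 hE).2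
    refine (Groth.L29.DC.hasPerfectAmplitudeIn_iff _ a (b + r) (by omega)).2
      ⟨Groth.Lead.ClosedRpush.pc_Rpush_projSpace r i hpc _, Groth.L29.DC.flatAmp_of_iso eR ?_⟩
    exact Groth.Lead.AmpRpush.flatAmp_Rpush p (by omega) hf hpc fun j hj =>
      DerivedCategory.isZero_of_isLE ((DCoh.Rpush p).obj K) (b + r) j hj
  · haveI : (DCoh.Rpush p).Additive := Groth.L29.DC.RpushColim.additive_Rpush p
    have hK : IsZero K := Groth.L29.DC.Gen.isZero_of_hd fun j => hvan j (by omega)
    refine (Groth.L29.DC.hasPerfectAmplitudeIn_iff_local _ a (b + r)).2 fun y => ?_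
    have h0 : ∀ j, IsZero ((HomologicalComplex.zero : CochainComplex ((⊤ : Y.Opens) : Scheme.{u}).Modules ℤ).X j) :=
      fun j => isZero_zero _
    exact ⟨⊤, trivial, HomologicalComplex.zero, fun j _ => h0 j, fun j => Groth.L29.LocFree.of_isZero (h0 j),
      ⟨((Groth.L29.DC.resD ⊤).map_isZero (((DCoh.Rpush p).map_isZero hK).of_iso eR.symm)).iso
        (DerivedCategory.Q.map_isZero HomologicalComplex.isZero_zero)⟩⟩


end Groth.Agent.S4302
#print axioms Groth.Agent.S4302.result
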