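import Groth.Prelude.Def_Pic13
import Mathlib.FieldTheory.IsAlgClosed.Basic
import Mathlib.AlgebraicGeometry.Morphisms.Proper
import Mathlib.Topology.KrullDimension
import Mathlib.Data.Fin.VecNotation
import Groth.Agent.L02.Pic13Deg.BoundedInt

set_option autoImplicit false
set_option linter.style.haveILetI false
namespace Pic13
end Pic13
universe u
open CategoryTheory CategoryTheory.Limits AlgebraicGeometry
open Pic13

namespace Groth.Agent.S4303

open Groth.L22.Inter Groth.L22.Nef Groth.L11.NumOrth Groth.L02.Pic13Deg Groth.L16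
open Groth.L00.Tensor (tensorComm)

/-- (i) implies (iii), over S = Spec k with k algebraically closed: let X be a proper integral k-scheme
of dimension r = s + 2 ≥ 2 carrying an ample invertible module H with inverse H', and P a family of
invertible O_X-modules. Condition (iii): as L runs through P (with inverse L'), the degree
(c₁(L)·c₁(H)^{r-1}) stays bounded and (c₁(L)²·c₁(H)^{r-2}) stays bounded below; condition (i): P is
bounded. Intersection numbers are those of FGA.intNum, taking the inverse modules as arguments. -/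
theorem result (k : Type u) [Field k] [IsAlgClosed k] (X : Scheme.{u})
    [X.Over (Spec (CommRingCat.of k))] [IsProper (X ↘ Spec (CommRingCat.of k))] [IsIntegral X] (s : ℕ)
    (hdim : topologicalKrullDim X = (s + 2 : ℕ)) (H H' : X.Modules) (hH : CohB1.IsAmple H)
    (hHH' : Nonempty (CohB1.tensorMod H H' ≅ Coh.structureModule X))
    (P : X.Modules → Prop) (hP : ∀ L, P L → PicF.IsInvertible L)
    (hb : Pic13.IsBounded k X P) :
    ∃ B : ℤ, ∀ L L' : X.Modules, P L → Nonempty (CohB1.tensorMod L L' ≅ Coh.structureModule X) →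
      |FGA.intNum k X (s + 2) (Matrix.vecCons L' (fun _ : Fin (s + 1) => H')) (Coh.structureModule X)| ≤ B ∧
      -B ≤ FGA.intNum k X (s + 2) (Matrix.vecCons L' (Matrix.vecCons L' (fun _ : Fin s => H'))) (Coh.structureModule X) := by
  classical
  haveI : CompactSpace X := QuasiCompact.compactSpace_of_compactSpace (X ↘ Spec (CommRingCat.of k))
  haveI := Groth.L21.RR.isNoetherian_of_proper (X := X) k
  haveI : X.IsSeparated := ⟨by
    have : terminal.from X = (X ↘ Spec (CommRingCat.of k)) ≫ terminal.from _ := Subsingleton.elim _ _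
    rw [this]; infer_instance⟩
  obtain ⟨N, hN, n, ι₀, hι₀, himm, ⟨eN⟩⟩ :=
    Groth.L22.VeryAmple.exists_immersion_of_isAmple (X ↘ Spec (CommRingCat.of k)) hH
  let ι : X ⟶ CohB1.ProjSpace n k := ι₀
  have hι : ι ≫ CohB1.ProjSpace.toSpec n k = (X ↘ Spec (CommRingCat.of k)) := hι₀
  haveI : IsImmersion ι := himm
  haveI : IsProper (ι ≫ CohB1.ProjSpace.toSpec n k) := by rw [hι]; infer_instance
  haveI : IsClosedImmersion ι := by
    haveI : IsProper ι := IsProper.of_comp ι (CohB1.ProjSpace.toSpec n k)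
    exact IsClosedImmersion.of_isPreimmersion ι ι.isClosedMap.isClosed_range
  have eA : OX ι 1 ≅ CohB1.tensorPow H N :=
    (Scheme.Modules.pullback ι).mapIso (show Twist.twistProjSpace n k 1 ≅ Groth.L18.PUP.O1 n k from Iso.refl _) ≪≫ eN
  have hO := CohClosedPush.isCoh_structure (X := X)
  have hd : topologicalKrullDim (CohB1.support (Coh.structureModule X)) ≤ (s + 2 : ℕ) :=
    (Groth.L22.Nakai.dim_support_structure X).le.trans hdim.le
  have hHi : PicF.IsInvertible H := hH.1
  have hH'H : Nonempty (CohB1.tensorMod H' H ≅ Coh.structureModule X) :=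
    hHH'.map fun e => tensorComm H' H ≪≫ e
  have hH'i : PicF.IsInvertible H' := Groth.L22.Big.isInvertible_inv hHi hH'H
  obtain ⟨C₁, hC₁⟩ := exists_altT_bound k ι hι (isBounded_unit k hb) (s + 1)
  obtain ⟨C₂, hC₂⟩ := exists_altT_bound k ι hι (isBounded_unit k hb) s
  obtain ⟨C₃, hC₃⟩ := exists_altT_bound k ι hι (isBounded_sq k hb) s
  let a₁ := |altT k (fun _ : Fin (s + 1) => OX ι 1) (Coh.structureModule X)|
  let a₀ := |altT k (fun _ : Fin s => OX ι 1) (Coh.structureModule X)|
  obtain ⟨B, hB⟩ : ∃ B : ℤ, max (C₁ + a₁) (C₃ + 2 * C₂ + a₀) ≤ (B : ℚ) := ⟨_, Int.le_ceil _⟩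
  refine ⟨B, fun L L' hL hLL' => ?_⟩
  have hLi := hP L hL
  have hL'L : Nonempty (CohB1.tensorMod L' L ≅ Coh.structureModule X) := hLL'.map fun e => tensorComm L' L ≪≫ e
  have hL'i : PicF.IsInvertible L' := Groth.L22.Big.isInvertible_inv hLi hL'L
  have h1 := Groth.L22.Big.intNum_inv_eq k hdim.le
    (L := Matrix.vecCons L (fun _ : Fin (s + 1) => H)) (L' := Matrix.vecCons L' (fun _ : Fin (s + 1) => H'))
    (Fin.cases hLi fun _ => hHi) (Fin.cases hL'i fun _ => hH'i) (Fin.cases hL'L fun _ => hH'H)
  have h2 := Groth.L22.Big.intNum_inv_eq k hdim.le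
    (L := Matrix.vecCons L (Matrix.vecCons L (fun _ : Fin s => H)))
    (L' := Matrix.vecCons L' (Matrix.vecCons L' (fun _ : Fin s => H')))
    (Fin.cases hLi (Fin.cases hLi fun _ => hHi)) (Fin.cases hL'i (Fin.cases hL'i fun _ => hH'i))
    (Fin.cases hL'L (Fin.cases hL'L fun _ => hH'H))
  have hpow : ∀ r, ∀ F : X.Modules, altT k (fun _ : Fin r => CohB1.tensorPow H N) F =
      altT k (fun _ : Fin r => OX ι 1) F := fun r F => altT_const_congr k eA.symm r F
  have eL : CohB1.tensorPow L 1 ≅ L := Groth.L00.Tensor.tensorUnitLeft L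
  have hN1 : (1 : ℚ) ≤ N := by exact_mod_cast hN
  have k1 : (N : ℚ) ^ (s + 1) * altT k (Fin.cons L fun _ : Fin (s + 1) => H) (Coh.structureModule X) =
      altT k (fun _ : Fin (s + 1) => OX ι 1) (CohB1.tensorMod (Coh.structureModule X) L) -
        altT k (fun _ : Fin (s + 1) => OX ι 1) (Coh.structureModule X) := by
    have h := altT_powAll k (L := Fin.cons L fun _ : Fin (s + 1) => H) (Fin.cases hLi fun _ => hHi)
      (Fin.cons 1 fun _ => N) hO hd
    rw [show (fun i => CohB1.tensorPow ((Fin.cons L fun _ : Fin (s + 1) => H : Fin (s + 2) → X.Modules) i)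
      ((Fin.cons 1 fun _ => N : Fin (s + 2) → ℕ) i)) =
      Fin.cons (CohB1.tensorPow L 1) fun _ : Fin (s + 1) => CohB1.tensorPow H N from
        funext (Fin.cases rfl fun _ => rfl)] at h
    rw [altT_slot_congr k eL, altT_cons,
      hpow, hpow] at h
    rw [h, Fin.prod_univ_succ]
    simp
  have k2 : (N : ℚ) ^ s * altT k (Fin.cons L (Fin.cons L fun _ : Fin s => H)) (Coh.structureModule X) =
      altT k (fun _ : Fin s => OX ι 1) (CohB1.tensorMod (CohB1.tensorMod (Coh.structureModule X) L) L) -
        2 * altT k (fun _ : Fin s => OX ι 1) (CohB1.tensorMod (Coh.structureModule X) L) +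
        altT k (fun _ : Fin s => OX ι 1) (Coh.structureModule X) := by
    have h := altT_powAll k (L := Fin.cons L (Fin.cons L fun _ : Fin s => H))
      (Fin.cases hLi (Fin.cases hLi fun _ => hHi)) (Fin.cons 1 (Fin.cons 1 fun _ => N)) hO hd
    rw [show (fun i => CohB1.tensorPow ((Fin.cons L (Fin.cons L fun _ : Fin s => H) : Fin (s + 2) → X.Modules) i)
      ((Fin.cons 1 (Fin.cons 1 fun _ => N) : Fin (s + 2) → ℕ) i)) =
      Fin.cons (CohB1.tensorPow L 1) (Fin.cons (CohB1.tensorPow L 1) fun _ : Fin s => CohB1.tensorPow H N) from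
        funext (Fin.cases rfl (Fin.cases rfl fun _ => rfl))] at h
    rw [altT_slot_congr k eL, altT_cons,
      altT_slot_congr k eL,
      altT_slot_congr k eL,
      altT_cons, altT_cons, hpow, hpow, hpow] at h
    rw [Fin.prod_univ_succ, Fin.prod_univ_succ] at h
    simp only [Fin.cons_zero, Fin.cons_succ, Nat.cast_one, one_mul, Finset.prod_const, Finset.card_univ,
      Fintype.card_fin] at h
    rw [← h]
    ring
  have b1 := hC₁ _ ⟨L, hL, rfl⟩
  have b2 := hC₂ _ ⟨L, hL, rfl⟩
  have b3 := hC₃ _ ⟨L, hL, rfl⟩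
  constructor
  · have : (|FGA.intNum k X (s + 2) (Matrix.vecCons L' (fun _ : Fin (s + 1) => H')) (Coh.structureModule X)| : ℚ) ≤ B := by
      rw [h1]
      calc |altT k (Fin.cons L fun _ : Fin (s + 1) => H) (Coh.structureModule X)|
          ≤ (N : ℚ) ^ (s + 1) * |altT k (Fin.cons L fun _ : Fin (s + 1) => H) (Coh.structureModule X)| :=
            le_mul_of_one_le_left (abs_nonneg _) (one_le_pow₀ hN1)
        _ = |(N : ℚ) ^ (s + 1) * altT k (Fin.cons L fun _ : Fin (s + 1) => H) (Coh.structureModule X)| := by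
            rw [abs_mul, abs_of_nonneg (a := (N : ℚ) ^ (s + 1)) (pow_nonneg (Nat.cast_nonneg N) (s + 1))]
        _ ≤ _ := by
            rw [k1]
            exact (abs_sub _ _).trans ((add_le_add_left b1 a₁).trans ((le_max_left _ _).trans hB))
    exact_mod_cast this
  · have : (-(B : ℚ)) ≤ (FGA.intNum k X (s + 2) (Matrix.vecCons L' (Matrix.vecCons L' (fun _ : Fin s => H')))
        (Coh.structureModule X) : ℚ) := by
      rw [h2, neg_le]
      refine (neg_le_abs _).trans ?_
      calc |altT k (Fin.cons L (Fin.cons L fun _ : Fin s => H)) (Coh.structureModule X)|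
          ≤ (N : ℚ) ^ s * |altT k (Fin.cons L (Fin.cons L fun _ : Fin s => H)) (Coh.structureModule X)| :=
            le_mul_of_one_le_left (abs_nonneg _) (one_le_pow₀ hN1)
        _ = |(N : ℚ) ^ s * altT k (Fin.cons L (Fin.cons L fun _ : Fin s => H)) (Coh.structureModule X)| := by
            rw [abs_mul, abs_of_nonneg (a := (N : ℚ) ^ s) (pow_nonneg (Nat.cast_nonneg N) s)]
        _ ≤ _ := by
            rw [k2]
            refine le_trans ?_ ((le_max_right _ _).trans hB)
            rw [abs_le] at b2 b3 ⊢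
            have := abs_le.1 (le_refl a₀)
            constructor <;> linarith
    exact_mod_cast this

end Groth.Agent.S4303
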