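import Groth.Prelude.Def_Pic13
import Mathlib.FieldTheory.IsAlgClosed.Basic
import Mathlib.AlgebraicGeometry.Morphisms.Proper
import Mathlib.Topology.KrullDimension
import Mathlib.Data.Fin.VecNotation
import Groth.Agent.L11.Bdd.Degree
-- import your own Groth.Agent.* helpers here

set_option autoImplicit false
set_option backward.isDefEq.respectTransparency false
set_option backward.isDefEq.respectTransparency.types false
universe u
open CategoryTheory CategoryTheory.Limits AlgebraicGeometry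
open Pic13

namespace Groth.Agent.S4304

/-- (iii) implies (i), over S = Spec k with k algebraically closed: let X be a proper integral k-scheme
of dimension r = s + 2 ≥ 2 carrying an ample invertible module H with inverse H', and P a family of
invertible O_X-modules. Condition (iii): as L runs through P (with inverse L'), the degree
(c₁(L)·c₁(H)^{r-1}) stays bounded and (c₁(L)²·c₁(H)^{r-2}) stays bounded below; condition (i): P is
bounded. Intersection numbers are those of FGA.intNum, taking the inverse modules as arguments. -/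
theorem result (k : Type u) [Field k] [IsAlgClosed k] (X : Scheme.{u})
    [X.Over (Spec (CommRingCat.of k))] [IsProper (X ↘ Spec (CommRingCat.of k))] [IsIntegral X] (s : ℕ)
    (hdim : topologicalKrullDim X = (s + 2 : ℕ)) (H H' : X.Modules) (hH : CohB1.IsAmple H)
    (hHH' : Nonempty (CohB1.tensorMod H H' ≅ Coh.structureModule X))
    (P : X.Modules → Prop) (hP : ∀ L, P L → PicF.IsInvertible L)
    (hiii : ∃ B : ℤ, ∀ L L' : X.Modules, P L → Nonempty (CohB1.tensorMod L L' ≅ Coh.structureModule X) →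
      |FGA.intNum k X (s + 2) (Matrix.vecCons L' (fun _ : Fin (s + 1) => H')) (Coh.structureModule X)| ≤ B ∧
      -B ≤ FGA.intNum k X (s + 2) (Matrix.vecCons L' (Matrix.vecCons L' (fun _ : Fin s => H'))) (Coh.structureModule X)) :
    Pic13.IsBounded k X P := by
  haveI := Groth.L21.RR.isNoetherian_of_proper (X := X) k
  obtain ⟨B, hB⟩ := hiii
  obtain ⟨m₀, hm⟩ := Groth.L03.SurfAdj.exists_embedding k hH
  obtain ⟨n, ι, hιc, hι, ⟨eι⟩⟩ := hm (m₀ + 1) (Nat.le_succ _)
  haveI := hιc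
  let e : ℕ := m₀ + 1
  obtain ⟨T, q, h1, h2, G, hG, hmem⟩ :=
    Groth.L11.Bdd.isBounded_DQ k s X ι hι hdim ((e : ℚ) ^ (s + 1) * |(B : ℚ)|)
  refine ⟨T, q, h1, h2, G, hG, fun L hL => hmem L ⟨hP L hL, ?_⟩⟩
  obtain ⟨L', hL', ⟨eL⟩⟩ := Groth.L08.Cube.exists_inverse (hP L hL)
  obtain ⟨hl, hq⟩ := hB L L' hL ⟨eL⟩
  obtain ⟨Q, hQ, ⟨eQ⟩⟩ := Groth.L08.Cube.exists_inverse hH.1
  obtain ⟨eH⟩ := hHH'
  have hH' : PicF.IsInvertible H' := Groth.L18.Ample.isInvertible_of_iso
    ((Groth.L00.Tensor.tensorUnitRight Q).symm ≪≫ Groth.L00.Tensor.tensorIso (Iso.refl Q) eH.symm ≪≫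
      (Groth.L00.Tensor.tensorAssoc Q H H').symm ≪≫
      Groth.L00.Tensor.tensorIso (Groth.L00.Tensor.tensorComm Q H ≪≫ eQ) (Iso.refl H') ≪≫
      Groth.L00.Tensor.tensorUnitLeft H') hQ
  have hd : topologicalKrullDim (CohB1.support (Coh.structureModule X)) ≤ ((s + 2 : ℕ) : WithBot ℕ∞) :=
    (topologicalKrullDim_subspace_le X _).trans hdim.le
  have conv : ∀ {M M' : Fin (s + 2) → X.Modules}, (∀ i, PicF.IsInvertible (M i)) → (∀ i, PicF.IsInvertible (M' i)) →
      (∀ i, Nonempty (CohB1.tensorMod (M i) (M' i) ≅ Coh.structureModule X)) →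
      (FGA.intNum k X (s + 2) M' (Coh.structureModule X) : ℚ) =
        Groth.L22.Inter.altT k M (Coh.structureModule X) := by
    intro M M' hM hM' he
    rw [Groth.L22.Inter.intNum_eq k hdim.le, Groth.L11.NumOrth.altT_inv k hM hM' he Groth.L16.CohClosedPush.isCoh_structure hd,
      ← mul_assoc, ← mul_pow]
    norm_num
  have hLi := hP L hL
  have c1 := conv (M := Fin.cons L fun _ : Fin (s + 1) => H) (M' := Matrix.vecCons L' fun _ : Fin (s + 1) => H')
    (Fin.cases hLi fun _ => hH.1) (Fin.cases hL' fun _ => hH') (Fin.cases ⟨eL⟩ fun _ => ⟨eH⟩)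
  have c2 := conv (M := Fin.cons L (Fin.cons L fun _ : Fin s => H))
    (M' := Matrix.vecCons L' (Matrix.vecCons L' fun _ : Fin s => H'))
    (Fin.cases hLi (Fin.cases hLi fun _ => hH.1)) (Fin.cases hL' (Fin.cases hL' fun _ => hH'))
    (Fin.cases ⟨eL⟩ (Fin.cases ⟨eL⟩ fun _ => ⟨eH⟩))
  have p1 := Groth.L11.Bdd.altT_pow_slots k (L := Fin.cons L fun _ : Fin (s + 1) => H)
    (L' := Fin.cons L fun _ : Fin (s + 1) => Groth.L11.NumOrth.OX ι 1)
    (Fin.cases hLi fun _ => hH.1) (Fin.cons 1 fun _ => e)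
    (Fin.cases ⟨(Groth.L00.Tensor.tensorPowOne L).symm⟩ fun _ => ⟨eι⟩) Groth.L16.CohClosedPush.isCoh_structure hd
  have p2 := Groth.L11.Bdd.altT_pow_slots k (L := Fin.cons L (Fin.cons L fun _ : Fin s => H))
    (L' := Fin.cons L (Fin.cons L fun _ : Fin s => Groth.L11.NumOrth.OX ι 1))
    (Fin.cases hLi (Fin.cases hLi fun _ => hH.1)) (Fin.cons 1 (Fin.cons 1 fun _ => e))
    (Fin.cases ⟨(Groth.L00.Tensor.tensorPowOne L).symm⟩
      (Fin.cases ⟨(Groth.L00.Tensor.tensorPowOne L).symm⟩ fun _ => ⟨eι⟩)) Groth.L16.CohClosedPush.isCoh_structure hd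
  simp only [Fin.prod_univ_succ, Fin.cons_zero, Fin.cons_succ, Finset.prod_const, Finset.card_univ, Fintype.card_fin,
    Nat.cast_one, one_mul, ← c1, ← c2] at p1 p2
  have he1 : (1 : ℚ) ≤ (e : ℚ) := by exact_mod_cast Nat.succ_pos m₀
  have hl' : |(FGA.intNum k X (s + 2) (Matrix.vecCons L' fun _ : Fin (s + 1) => H') (Coh.structureModule X) : ℚ)| ≤ |(B : ℚ)| :=
    le_trans (by exact_mod_cast hl) (le_abs_self _)
  have hq' : -|(B : ℚ)| ≤ (FGA.intNum k X (s + 2) (Matrix.vecCons L' (Matrix.vecCons L' fun _ : Fin s => H'))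
      (Coh.structureModule X) : ℚ) :=
    le_trans (neg_le_neg (le_abs_self _)) (by exact_mod_cast hq)
  refine ⟨?_, ?_⟩
  · rw [Groth.L11.Bdd.dg, p1, abs_mul]
    refine mul_le_mul (le_of_eq ?_) hl' (abs_nonneg _) (by positivity)
    rw [abs_of_nonneg (by positivity)]
  · rw [Groth.L11.Bdd.pr, p2]
    refine le_trans ?_ (mul_le_mul_of_nonneg_left hq' (by positivity))
    rw [mul_neg, neg_le_neg_iff]
    exact mul_le_mul_of_nonneg_right (pow_le_pow_right₀ he1 (Nat.le_succ s)) (abs_nonneg _)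
end Groth.Agent.S4304
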