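import Groth.Prelude.Def_AnHol
import Mathlib.AlgebraicGeometry.AffineSpace
import Groth.Agent.L02.An.Hol

set_option autoImplicit false
namespace CAlg
end CAlg
open CategoryTheory AlgebraicGeometry Topology TopologicalSpace
open An

namespace Groth.Agent.S4307

/-- A sanity check of the definition of holomorphic functions: for an open set U of complex points of
affine n-space over ℂ and g : U → ℂ, g is holomorphic (satisfies the local predicate An.holPred of
the prelude) if and only if g = G ∘ (coordinates) for some G : ℂ^n → ℂ complex-differentiable on the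
image of U in ℂ^n. -/
theorem result (n : ℕ) (U : TopologicalSpace.Opens (An.Pts (𝔸(Fin n; An.SC))))
    (g : U → ℂ) :
    (An.holPred (𝔸(Fin n; An.SC))).pred g ↔
      ∃ G : (Fin n → ℂ) → ℂ,
        DifferentiableOn ℂ G ((fun (x : An.Pts (𝔸(Fin n; An.SC))) (i : Fin n) =>
          x.evTop (AffineSpace.coord An.SC i)) '' (U : Set (An.Pts (𝔸(Fin n; An.SC))))) ∧
        ∀ x : U, g x = G (fun i => (x : An.Pts (𝔸(Fin n; An.SC))).evTop (AffineSpace.coord An.SC i)) := by
  constructor
  · intro hg
    refine ⟨Groth.L02.An.inCoords U g, ?_, fun x => ?_⟩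
    · rintro _ ⟨x, hx, rfl⟩
      obtain ⟨V, hxV, i, hV⟩ := hg ⟨x, hx⟩
      refine DifferentiableAt.differentiableWithinAt ?_
      have hpt := Groth.L02.An.pointOf_coord x
      have h1 := Groth.L02.An.differentiableAt_chartAlg hV
        (z := fun j => x.evTop (AffineSpace.coord An.SC j)) (by rw [hpt]; exact hxV)
      refine h1.congr_of_eventuallyEq ?_
      filter_upwards [(Groth.L02.An.continuous_pointOf.tendsto _).eventually
        (V.2.mem_nhds (show Groth.L02.An.pointOf (fun j => x.evTop (AffineSpace.coord An.SC j)) ∈ V by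
          rw [hpt]; exact hxV))] with w hw
      exact (Groth.L02.An.inCoords_of_mem U g (i.le hw)).trans
        (Groth.L02.An.inCoords_of_mem V (fun y => g (i y)) hw).symm
    · have hpt := Groth.L02.An.pointOf_coord x.1
      rw [Groth.L02.An.inCoords_of_mem U g (show Groth.L02.An.pointOf _ ∈ U by rw [hpt]; exact x.2)]
      exact congrArg g (Subtype.ext hpt.symm)
  · rintro ⟨G, hG, hg⟩
    refine An.holPred_of_chartAlg (Algebra.subset_adjoin ?_)
    exact ⟨⊤, fun _ => trivial, n, AffineSpace.coord An.SC, _, G,
      Groth.L02.An.isHomeomorph_coord.isOpenMap _ U.2, hG, fun x => ⟨⟨x.1, x.2, rfl⟩, hg x⟩⟩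

end Groth.Agent.S4307
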