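import Groth.Prelude.Def_AnHol
import Mathlib.AlgebraicGeometry.Morphisms.Flat
import Mathlib.AlgebraicGeometry.Morphisms.Etale
import Mathlib.AlgebraicGeometry.Morphisms.FormallyUnramified
import Mathlib.RingTheory.RingHom.Flat
import Mathlib.RingTheory.RingHom.Unramified
import Mathlib.Geometry.RingedSpace.Stalks
import Groth.Agent.L02.An.Germ.MapProps

set_option autoImplicit false
namespace CAlg
end CAlg
open CategoryTheory AlgebraicGeometry Topology TopologicalSpace
open An

namespace Groth.Agent.S4323

/-- Let X and Y be reduced schemes locally of finite type over ℂ and f : X → Y a morphism over ℂ. Then f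
is unramified (encoded as formally unramified, f being locally of finite type automatically) if and
only if f^an is, i.e. if and only if for every ℂ-point x of X and every maximal ideal m of
O_{X^an,x}, m is generated by the image of a maximal ideal of O_{Y^an,f(x)} under the stalk map of
f^an (these stalks being local rings, this says m_{f(x)} O_{X^an,x} = m_x). -/
theorem result (X Y : Scheme.{0}) [X.Over An.SC] [Y.Over An.SC] [LocallyOfFiniteType (X ↘ An.SC)]
    [LocallyOfFiniteType (Y ↘ An.SC)] [IsReduced X] [IsReduced Y] (f : X ⟶ Y) [f.IsOver An.SC] :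
    FormallyUnramified f ↔ ∀ (x : An.Pts X) (m : Ideal ((An.anSpace X).presheaf.stalk x)), m.IsMaximal →
      ∃ m' : Ideal ((An.anSpace Y).presheaf.stalk (An.Pts.map f x)), m'.IsMaximal ∧
        m'.map (PresheafedSpace.Hom.stalkMap (An.anMap f) x).hom = m := by
  refine (Groth.L02.An.unramified_iff f).trans (forall_congr' fun x => ?_)
  have : IsLocalRing ((An.anSpace X).presheaf.stalk x) := Groth.L02.An.isLocalRing_anStalk x
  have : IsLocalRing ((An.anSpace Y).presheaf.stalk (An.Pts.map f x)) :=
    Groth.L02.An.isLocalRing_anStalk (An.Pts.map f x)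
  refine ⟨fun h m hm => ?_, fun h => ?_⟩
  · exact ⟨IsLocalRing.maximalIdeal _, IsLocalRing.maximalIdeal.isMaximal _,
      h.trans (IsLocalRing.eq_maximalIdeal hm).symm⟩
  · obtain ⟨m', hm', he⟩ := h (IsLocalRing.maximalIdeal _) (IsLocalRing.maximalIdeal.isMaximal _)
    rw [IsLocalRing.eq_maximalIdeal hm'] at he
    exact he

end Groth.Agent.S4323
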