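import Groth.Statements.S4329
import Groth.Agent.L27.EtSite.Pull
import Groth.Agent.L10.KInjDerived
import Groth.Agent.L10.KInjTransfer

set_option autoImplicit false
set_option backward.defeqAttrib.useBackward true
set_option backward.isDefEq.respectTransparency false
set_option backward.isDefEq.respectTransparency.types false
set_option backward.defeqAttrib.useBackward true
set_option backward.isDefEq.respectTransparency false
universe u
open CategoryTheory CategoryTheory.Limits AlgebraicGeometry Opposite
attribute [local instance] HasDerivedCategory.standard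
open EtSix

namespace Groth.Agent.S4329

/-- Composition of derived direct images: for the small etale sites of schemes and abelian sheaves: let
f : X -> Y and g : Y -> Z be morphisms of schemes and assume the unbounded derived direct images
Rf_*, Rg_* and R(g ∘ f)_* exist (they do; the existence is recorded as instance hypotheses). Then
the canonical morphism R(g ∘ f)_* -> Rg_* ∘ Rf_* of functors D(X_et) -> D(Z_et), induced by (g ∘
f)_* ≅ g_* ∘ f_* through the universal property of R(g ∘ f)_* as a right derived functor, is an
isomorphism. -/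
theorem result {X Y Z : Scheme.{u}} (f : X ⟶ Y) (g : Y ⟶ Z)
    [DCoh.HasRpushEt X f] [DCoh.HasRpushEt Y g] [DCoh.HasRpushEt X (f ≫ g)] :
    IsIso (EtSix.compMap f g) := by
  haveI := Groth.L27.EtSite.preservesFiniteLimits_pull f
  haveI : PreservesFiniteColimits (EtCoh.pull f) :=
    haveI : PreservesColimitsOfSize.{0, 0} (EtCoh.pull f) := (EtCoh.pullPushAdj f).leftAdjoint_preservesColimits
    PreservesColimitsOfSize.preservesFiniteColimits _
  let αfg := (DCoh.pushEtKh X (f ≫ g)).totalRightDerivedUnit DerivedCategory.Qh
    (HomotopyCategory.quasiIso (EtCoh.Ab X) (ComplexShape.up ℤ))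
  have : ∀ K, IsIso ((EtSix.compMap f g).app K) := fun K => by
    obtain ⟨e⟩ : Nonempty (K ≅ DerivedCategory.Qh.obj ((Groth.L10.KInjDerived.kInj (EtCoh.Ab X)).ι.obj
        ((Groth.L10.KInjDerived.equiv (A := EtCoh.Ab X)).inverse.obj K))) :=
      ⟨((Groth.L10.KInjDerived.equiv (A := EtCoh.Ab X)).counitIso.app K).symm⟩
    refine (NatTrans.isIso_app_iff_of_iso _ e).2 ?_
    generalize ((Groth.L10.KInjDerived.equiv (A := EtCoh.Ab X)).inverse.obj K) = W
    obtain ⟨W, hW⟩ := W
    obtain ⟨I⟩ := W
    have hI : CochainComplex.IsKInjective I := hW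
    have : IsIso (αfg.app ((HomotopyCategory.quotient _ _).obj I)) :=
      Groth.L10.KInjDerived.isIso_app_quotient αfg I
    have : IsIso (((DCoh.pushEtKh X f).totalRightDerivedUnit DerivedCategory.Qh
        (HomotopyCategory.quasiIso (EtCoh.Ab X) (ComplexShape.up ℤ))).app ((HomotopyCategory.quotient _ _).obj I)) :=
      Groth.L10.KInjDerived.isIso_app_quotient _ I
    have : CochainComplex.IsKInjective (((EtCoh.push f).mapHomologicalComplex (ComplexShape.up ℤ)).obj I) :=
      Groth.L10.KInjTransfer.isKInjective_map (EtCoh.pullPushAdj f) I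
    have : IsIso (((DCoh.pushEtKh Y g).totalRightDerivedUnit DerivedCategory.Qh
        (HomotopyCategory.quasiIso (EtCoh.Ab Y) (ComplexShape.up ℤ))).app
          (((EtCoh.push f).mapHomotopyCategory (ComplexShape.up ℤ)).obj ((HomotopyCategory.quotient _ _).obj I))) :=
      Groth.L10.KInjDerived.isIso_app_quotient _ (((EtCoh.push f).mapHomologicalComplex (ComplexShape.up ℤ)).obj I)
    have h := (DCoh.RpushEt X (f ≫ g)).rightDerived_fac_app αfg
      (HomotopyCategory.quasiIso (EtCoh.Ab X) (ComplexShape.up ℤ))
      (DCoh.RpushEt X f ⋙ DCoh.RpushEt Y g) (EtSix.compUnit f g) ((HomotopyCategory.quotient _ _).obj I)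
    have : IsIso ((NatTrans.mapHomotopyCategory (EtCoh.pushComp g f).inv (ComplexShape.up ℤ)).app
        ((HomotopyCategory.quotient _ _).obj I)) := by
      have : IsIso ((NatTrans.mapHomologicalComplex (EtCoh.pushComp g f).inv (ComplexShape.up ℤ)).app I) :=
        inferInstanceAs (IsIso ((NatIso.mapHomologicalComplex (EtCoh.pushComp g f).symm (ComplexShape.up ℤ)).hom.app I))
      exact inferInstanceAs (IsIso ((HomotopyCategory.quotient _ _).map
        ((NatTrans.mapHomologicalComplex (EtCoh.pushComp g f).inv (ComplexShape.up ℤ)).app I)))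
    have : IsIso ((EtSix.compUnit f g).app ((HomotopyCategory.quotient _ _).obj I)) := by
      simp only [EtSix.compUnit, NatTrans.comp_app, Functor.whiskerRight_app, Functor.whiskerLeft_app,
        Functor.associator_hom_app, Functor.associator_inv_app]
      infer_instance
    have h' : IsIso (αfg.app ((HomotopyCategory.quotient _ _).obj I) ≫
        (EtSix.compMap f g).app (DerivedCategory.Qh.obj ((HomotopyCategory.quotient _ _).obj I))) := h ▸ inferInstance
    exact @IsIso.of_isIso_comp_left _ _ _ _ _ (αfg.app ((HomotopyCategory.quotient _ _).obj I)) _ inferInstance h'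
  exact NatIso.isIso_of_isIso_app _

end Groth.Agent.S4329
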