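import Groth.Statements.S4330
import Groth.Agent.L28.Strata.EtMod
import Groth.Agent.L00.RPlusUnit

set_option autoImplicit false
set_option backward.defeqAttrib.useBackward true
set_option backward.isDefEq.respectTransparency false
set_option backward.isDefEq.respectTransparency.types false
set_option backward.defeqAttrib.useBackward true
set_option backward.isDefEq.respectTransparency false
universe u
open CategoryTheory CategoryTheory.Limits AlgebraicGeometry Opposite
attribute [local instance] HasDerivedCategory.standard
open EtSix

namespace Groth.Agent.S4330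

/-- Composition of derived direct images: bounded-below version for sheaves of Λ-modules on small etale
sites: let f : X -> Y and g : Y -> Z be morphisms of schemes and Λ a commutative ring. Then the
canonical morphism R⁺(g ∘ f)_* -> R⁺g_* ∘ R⁺f_* of functors D⁺(X_et, Λ) -> D⁺(Z_et, Λ)
(bounded-below derived functors computed with injective resolutions; the morphism is induced by (g ∘
f)_* ≅ g_* ∘ f_* through the universal property of R⁺(g ∘ f)_*) is an isomorphism. -/
theorem result (Λ : Type (u + 1)) [CommRing Λ] {X Y Z : Scheme.{u}} (f : X ⟶ Y) (g : Y ⟶ Z) :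
    IsIso (EtSix.compMapMod Λ f g) := by
  haveI := Groth.L28.Strata.preservesFiniteLimits_pullMod (Λ := Λ) f
  let α := EtSix.rPlusUnit₂ (EtSix.pushModComp Λ g f).inv
  haveI : ((EtModW.push Λ f).rightDerivedFunctorPlus ⋙ (EtModW.push Λ g).rightDerivedFunctorPlus).IsRightDerivedFunctor
      α (HomotopyCategory.Plus.quasiIso (EtModW.Mod Λ X)) := by
    refine (HomotopyCategory.Plus.localizerMorphism_derives _).isRightDerivedFunctor_of_isIso _ fun W => ?_
    obtain ⟨K, rfl⟩ := HomotopyCategory.Plus.quotient_obj_surjective W
    let L : CochainComplex.Plus (EtModW.Mod Λ X) := (InjectiveObject.ι _).mapCochainComplexPlus.obj K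
    change IsIso (NatTrans.app _ ((HomotopyCategory.Plus.quotient _).obj L))
    have hinj : ∀ n, Injective (L.obj.X n) := fun n => inferInstanceAs (Injective (((InjectiveObject.ι _).obj (K.obj.X n))))
    have : IsIso ((EtModW.push Λ f).rightDerivedFunctorPlusUnit.app ((HomotopyCategory.Plus.quotient _).obj L)) :=
      inferInstance
    have hinj' : ∀ n, Injective (((EtModW.push Λ f).mapCochainComplexPlus.obj L).obj.X n) := fun n =>
      (Groth.L28.Strata.pullPushAdjMod (Λ := Λ) f).map_injective _ (hinj n)
    have : IsIso ((EtModW.push Λ g).rightDerivedFunctorPlusUnit.app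
        ((EtModW.push Λ f).mapHomotopyCategoryPlus.obj ((HomotopyCategory.Plus.quotient _).obj L))) :=
      (Groth.L00.RPlusUnit.unit_isIso_iff (EtModW.push Λ g) (𝟙 ((EtModW.push Λ f).mapCochainComplexPlus.obj L))
        hinj').2 (by rw [ObjectProperty.FullSubcategory.id_hom, CategoryTheory.Functor.map_id]; infer_instance)
    have : IsIso ((EtSix.plusNatTrans (EtSix.pushModComp Λ g f).inv).app ((HomotopyCategory.Plus.quotient _).obj L)) := by
      have : IsIso ((HomotopyCategory.Plus.ι _).map
          ((EtSix.plusNatTrans (EtSix.pushModComp Λ g f).inv).app ((HomotopyCategory.Plus.quotient _).obj L))) := by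
        have e := congr_app (((HomotopyCategory.plus (EtModW.Mod Λ Z)).fullyFaithfulι.whiskeringRight
          (HomotopyCategory.Plus (EtModW.Mod Λ X))).map_preimage
            (X := (EtModW.push Λ (f ≫ g)).mapHomotopyCategoryPlus)
            (Y := (EtModW.push Λ f ⋙ EtModW.push Λ g).mapHomotopyCategoryPlus)
            (Functor.whiskerLeft (HomotopyCategory.Plus.ι (EtModW.Mod Λ X))
              (NatTrans.mapHomotopyCategory (EtSix.pushModComp Λ g f).inv (ComplexShape.up ℤ))))
          ((HomotopyCategory.Plus.quotient _).obj L)
        have : IsIso ((NatTrans.mapHomologicalComplex (EtSix.pushModComp Λ g f).inv (ComplexShape.up ℤ)).app L.obj) :=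
          inferInstanceAs (IsIso ((NatIso.mapHomologicalComplex (EtSix.pushModComp Λ g f).symm (ComplexShape.up ℤ)).hom.app L.obj))
        have h : IsIso ((NatTrans.mapHomotopyCategory (EtSix.pushModComp Λ g f).inv (ComplexShape.up ℤ)).app
            ((HomotopyCategory.Plus.ι _).obj ((HomotopyCategory.Plus.quotient _).obj L))) :=
          inferInstanceAs (IsIso ((HomotopyCategory.quotient _ _).map
            ((NatTrans.mapHomologicalComplex (EtSix.pushModComp Λ g f).inv (ComplexShape.up ℤ)).app L.obj)))
        exact @Eq.subst _ (fun m => IsIso m) _ _ e.symm h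
      exact isIso_of_fully_faithful (HomotopyCategory.Plus.ι _) _
    simp only [α, EtSix.rPlusUnit₂, NatTrans.comp_app, Functor.whiskerRight_app, Functor.whiskerLeft_app,
      Functor.associator_hom_app, Functor.associator_inv_app]
    infer_instance
  let U := (EtModW.push Λ (f ≫ g)).rightDerivedFunctorPlusUnit
  change IsIso ((EtModW.push Λ (f ≫ g)).rightDerivedFunctorPlus.rightDerivedDesc U
    (HomotopyCategory.Plus.quasiIso (EtModW.Mod Λ X)) _ α)
  simpa [Functor.rightDerivedUnique, Functor.rightDerivedNatTrans] using
    (Functor.rightDerivedUnique _ _ U α (HomotopyCategory.Plus.quasiIso (EtModW.Mod Λ X))).isIso_hom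

end Groth.Agent.S4330
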