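import Groth.Statements.S4337
import Groth.Agent.L05.LinTop.Basic
import Mathlib.RingTheory.Nakayama
import Mathlib.LinearAlgebra.TensorProduct.Quotient
import Mathlib.LinearAlgebra.TensorProduct.RightExactness

set_option autoImplicit false
universe u
open LinTop

namespace Groth.Agent.S4337

/-- Let A be an admissible ring, J an ideal of definition, and u : M -> N a homomorphism of A-modules
with N of finite type. Then u is surjective if and only if u tensored with A/J is surjective. -/
theorem result
    (A : Type u) [CommRing A] [UniformSpace A] [IsUniformAddGroup A] [IsTopologicalRing A]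
    (hA : LinTop.IsAdmissible A) (J : Ideal A) (hJ : LinTop.IsIdealOfDefinition A J)
    (M N : Type u) [AddCommGroup M] [Module A M] [AddCommGroup N] [Module A N] [Module.Finite A N]
    (u : M →ₗ[A] N) :
    Function.Surjective u ↔ Function.Surjective (u.rTensor (A ⧸ J)) := by
  obtain ⟨⟨hlin, -⟩, hT2, hC⟩ := hA
  have hjac : J ≤ (⊥ : Ideal A).jacobson :=
    Groth.L05.LinTop.le_jacobson_of_isTN fun x hx => Groth.L05.LinTop.isTN_of_mem hJ hx
  refine ⟨fun h => LinearMap.rTensor_surjective _ h, fun h => ?_⟩
  rw [← LinearMap.range_eq_top]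
  refine top_unique (Submodule.le_of_le_smul_of_le_jacobson_bot Module.Finite.fg_top hjac ?_)
  intro x _
  obtain ⟨y, hy⟩ := h (x ⊗ₜ Ideal.Quotient.mk J 1)
  have h2 := congrArg (TensorProduct.tensorQuotEquivQuotSMul N J) hy
  have hz : ∀ y : TensorProduct A M (A ⧸ J), ∃ z, z ⊗ₜ (Ideal.Quotient.mk J 1) = y := by
    intro y
    induction y using TensorProduct.induction_on with
    | zero => exact ⟨0, TensorProduct.zero_tmul _ _⟩
    | tmul a b =>
      obtain ⟨c, rfl⟩ := Ideal.Quotient.mk_surjective b
      refine ⟨c • a, ?_⟩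
      rw [TensorProduct.smul_tmul]
      congr 1
      rw [Algebra.smul_def, Ideal.Quotient.algebraMap_eq, map_one, mul_one]
    | add a b ha hb =>
      obtain ⟨p, hp⟩ := ha
      obtain ⟨q, hq⟩ := hb
      exact ⟨p + q, by rw [TensorProduct.add_tmul, hp, hq]⟩
  obtain ⟨z, rfl⟩ := hz y
  simp only [LinearMap.rTensor_tmul, TensorProduct.tensorQuotEquivQuotSMul_tmul_mk,
    Submodule.Quotient.eq, one_smul] at h2
  exact Submodule.mem_sup.mpr ⟨u z, LinearMap.mem_range_self u z, x - u z, by simpa using neg_mem h2, by abel⟩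

end Groth.Agent.S4337
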