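import Groth.Statements.S4338
import Groth.Agent.L05.LinTop.Basic

set_option autoImplicit false
universe u
open LinTop

namespace Groth.Agent.S4338

/-- For a finitely generated ideal. Let A be an admissible ring and I a finitely generated ideal
contained in an ideal of definition of A. Then A is separated and complete for the I-adic topology.
(The published statement has no finiteness hypothesis on I and is then not correct: the completion
of a polynomial ring in countably many variables over a field along the ideal generated by the
variables, with its inverse-limit topology, is admissible, the kernel of its projection onto the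
field is an ideal of definition, and the ring is not adically complete for that kernel.) -/
theorem result
    (A : Type u) [CommRing A] [UniformSpace A] [IsUniformAddGroup A] [IsTopologicalRing A]
    (hA : LinTop.IsAdmissible A) (J : Ideal A) (hJ : LinTop.IsIdealOfDefinition A J)
    (I : Ideal A) (hI : I.FG) (hIJ : I ≤ J) :
    IsAdicComplete I A := by
  obtain ⟨⟨hlin, -⟩, hT2, hC⟩ := hA
  refine Groth.L05.LinTop.isAdicComplete_of_fg hI fun U hU => ?_
  obtain ⟨n, -, hn⟩ := hJ.2 U hU
  exact ⟨n, (SetLike.coe_subset_coe.mpr (Ideal.pow_right_mono hIJ n)).trans hn⟩

end Groth.Agent.S4338
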