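import Groth.Statements.S4342
-- import your own Groth.Agent.* helpers here
import Groth.Agent.L00.SubExtendMain

set_option autoImplicit false
universe u
open QCohSup

namespace Groth.Agent.S4342

open AlgebraicGeometry in
open CategoryTheory in
open Opposite in
/-- In the sectionwise form its proof gives. Let X be a scheme whose underlying space is locally
Noetherian and F a quasi-coherent O_X-module. For every affine open U and every section s of F over
U there is a quasi-coherent sub-O_X-module of finite type of F having s among its sections over U;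
hence F is the inductive limit of its quasi-coherent submodules of finite type. -/
theorem result
    {X : Scheme.{u}}
    (hX : ∀ x : X, ∃ U : X.Opens, x ∈ U ∧ TopologicalSpace.NoetherianSpace (U : Set X))
    (F : X.Modules) [Coh.IsQCoh F]
    (U : X.affineOpens) (s : F.val.obj (op (U : X.Opens))) :
    ∃ (G' : X.Modules) (i' : G' ⟶ F), Mono i' ∧ Coh.IsQCoh G' ∧ CohB1.IsFT G' ∧
      ∃ g : G'.val.obj (op (U : X.Opens)), (i'.val.app (op (U : X.Opens))).hom g = s := by
  classical
  let W : X.Opens := U.1
  haveI : Coh.IsQCoh (F.restrict W.ι) := Scheme.Modules.isQuasicoherent_restrictFunctor _ F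
  obtain ⟨K, a, ha, hK, hKft, hat⟩ := Groth.L17.Approx.exists_image_sections (F.restrict W.ι)
    (fun _ : PUnit.{u + 1} => Groth.L18.Frame.rs F W.ι_image_top.le (show Γ(F, W) from s))
  obtain ⟨G', i', e, hi, hq, hft, he⟩ :=
    Groth.L00.SubExtend.exists_extension_locallyNoetherian F hX W K a hKft
  obtain ⟨k, hk⟩ := hat PUnit.unit
  let k' : Γ(G', W.ι ''ᵁ ⊤) := e.inv.app ⊤ k
  have h' : i'.app (W.ι ''ᵁ ⊤) k' = Groth.L18.Frame.rs F W.ι_image_top.le (show Γ(F, W) from s) := by
    have h2 : e.inv ≫ (Scheme.Modules.restrictFunctor W.ι).map i' = a := by rw [← he, Iso.inv_hom_id_assoc]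
    refine Eq.trans ?_ hk
    exact congr(($h2).app ⊤ k)
  refine ⟨G', i', hi, hq, hft, Groth.L18.Frame.rs G' W.ι_image_top.ge k', ?_⟩
  show i'.app W (Groth.L18.Frame.rs G' W.ι_image_top.ge k') = _
  rw [Groth.L16.EpiFrames.app_rs, h']
  exact (Groth.L18.Frame.rs_rs F _ _ _).trans (Groth.L18.Frame.rs_self F _ _)

end Groth.Agent.S4342
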