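import Groth.Agent.L18.Domination
import Groth.Statements.S4345
-- import your own Groth.Agent.* helpers here

set_option autoImplicit false
universe u
open SchLoc

namespace Groth.Agent.S4345

/-- Let A and B be subrings of a field R, C the subring generated by A and B, and for a subring E let
L(E) be the set of local subrings E_p of R, p a prime ideal of E. The following are equivalent: (i)
for every local subring Q of R containing A and B, the localizations of A and of B at the traces of
the maximal ideal of Q coincide; (ii) for every prime ideal r of C the localizations of A and B at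
the traces of r coincide; (iii) two members of L(A) and L(B) dominated by a common local subring of
R are equal; (iv) the intersection of L(A) and L(B) is L(C). -/
theorem result
    (R : Type u) [Field R] (A B : Subring R) :
    [ ∀ (Q : LocalSubring R) (hA : A ≤ Q.toSubring) (hB : B ≤ Q.toSubring),
        LocalSubring.ofPrime A ((IsLocalRing.maximalIdeal Q.toSubring).comap (Subring.inclusion hA)) =
          LocalSubring.ofPrime B ((IsLocalRing.maximalIdeal Q.toSubring).comap (Subring.inclusion hB)),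
      ∀ r : PrimeSpectrum ↥(A ⊔ B),
        LocalSubring.ofPrime A (r.asIdeal.comap (Subring.inclusion (le_sup_left : A ≤ A ⊔ B))) =
          LocalSubring.ofPrime B (r.asIdeal.comap (Subring.inclusion (le_sup_right : B ≤ A ⊔ B))),
      ∀ (p : PrimeSpectrum A) (q : PrimeSpectrum B),
        (∃ Q : LocalSubring R, LocalSubring.ofPrime A p.asIdeal ≤ Q ∧ LocalSubring.ofPrime B q.asIdeal ≤ Q) →
          LocalSubring.ofPrime A p.asIdeal = LocalSubring.ofPrime B q.asIdeal,
      Set.range (fun p : PrimeSpectrum A ↦ LocalSubring.ofPrime A p.asIdeal) ∩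
          Set.range (fun q : PrimeSpectrum B ↦ LocalSubring.ofPrime B q.asIdeal) =
        Set.range (fun r : PrimeSpectrum ↥(A ⊔ B) ↦ LocalSubring.ofPrime (A ⊔ B) r.asIdeal) ].TFAE := by
  tfae_have 1 → 2 := by
    intro h r
    obtain ⟨hC, hr⟩ := (Groth.L18.ofPrime_le_iff (A ⊔ B) r.asIdeal _).mp le_rfl
    have := h _ (le_sup_left.trans hC) (le_sup_right.trans hC)
    have hr' := congrArg (Ideal.comap (Subring.inclusion (le_sup_left : A ≤ A ⊔ B))) hr
    have hr'' := congrArg (Ideal.comap (Subring.inclusion (le_sup_right : B ≤ A ⊔ B))) hr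
    rw [Ideal.comap_comap] at hr' hr''
    convert this using 2
    · exact hr'
    · exact hr''
  tfae_have 2 → 3 := by
    rintro h p q ⟨Q, hp, hq⟩
    obtain ⟨hA, ep⟩ := (Groth.L18.ofPrime_le_iff A p.asIdeal Q).mp hp
    obtain ⟨hB, eq⟩ := (Groth.L18.ofPrime_le_iff B q.asIdeal Q).mp hq
    have := h ⟨(IsLocalRing.maximalIdeal Q.toSubring).comap (Subring.inclusion (sup_le hA hB)),
      inferInstance⟩
    convert this using 2
    · rw [ep, Ideal.comap_comap]; rfl
    · rw [eq, Ideal.comap_comap]; rfl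
  tfae_have 3 → 4 := by
    intro h
    apply Set.Subset.antisymm
    · rintro M ⟨⟨p, rfl⟩, q, hq⟩
      set M := LocalSubring.ofPrime A p.asIdeal with hM
      obtain ⟨hA, ep⟩ := (Groth.L18.ofPrime_le_iff A p.asIdeal M).mp le_rfl
      obtain ⟨hB, -⟩ := (Groth.L18.ofPrime_le_iff B q.asIdeal M).mp (le_of_eq hq)
      refine ⟨⟨(IsLocalRing.maximalIdeal M.toSubring).comap (Subring.inclusion (sup_le hA hB)),
        inferInstance⟩, le_antisymm
          ((Groth.L18.ofPrime_le_iff _ _ M).mpr ⟨sup_le hA hB, rfl⟩) ?_⟩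
      obtain ⟨hC, er⟩ := (Groth.L18.ofPrime_le_iff (A ⊔ B)
        ((IsLocalRing.maximalIdeal M.toSubring).comap (Subring.inclusion (sup_le hA hB))) _).mp le_rfl
      refine (Groth.L18.ofPrime_le_iff A _ _).mpr ⟨le_sup_left.trans hC, ?_⟩
      have er' := congrArg (Ideal.comap (Subring.inclusion (le_sup_left : A ≤ A ⊔ B))) er
      rw [Ideal.comap_comap, Ideal.comap_comap] at er'
      exact ep.trans er'
    · rintro _ ⟨r, rfl⟩
      set N := LocalSubring.ofPrime (A ⊔ B) r.asIdeal with hN
      obtain ⟨hC, er⟩ := (Groth.L18.ofPrime_le_iff (A ⊔ B) r.asIdeal N).mp le_rfl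
      let p : PrimeSpectrum A := ⟨(IsLocalRing.maximalIdeal N.toSubring).comap
        (Subring.inclusion (le_sup_left.trans hC : A ≤ N.toSubring)), inferInstance⟩
      let q : PrimeSpectrum B := ⟨(IsLocalRing.maximalIdeal N.toSubring).comap
        (Subring.inclusion (le_sup_right.trans hC : B ≤ N.toSubring)), inferInstance⟩
      have hp : LocalSubring.ofPrime A p.asIdeal ≤ N :=
        (Groth.L18.ofPrime_le_iff _ _ _).mpr ⟨_, rfl⟩
      have hq : LocalSubring.ofPrime B q.asIdeal ≤ N :=
        (Groth.L18.ofPrime_le_iff _ _ _).mpr ⟨_, rfl⟩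
      have e := h p q ⟨N, hp, hq⟩
      have hCE : A ⊔ B ≤ (LocalSubring.ofPrime A p.asIdeal).toSubring :=
        sup_le (LocalSubring.le_ofPrime A _) (e ▸ LocalSubring.le_ofPrime B _)
      have hge : N ≤ LocalSubring.ofPrime A p.asIdeal := by
        refine (Groth.L18.ofPrime_le_iff _ _ _).mpr ⟨hCE, ?_⟩
        rw [er]
        ext a
        simp only [Ideal.mem_comap, IsLocalRing.mem_maximalIdeal, mem_nonunits_iff, not_iff_not]
        exact ⟨fun ha => hp.2.map_nonunit (Subring.inclusion hCE a) ha,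
          fun ha => ha.map (Subring.inclusion hp.1)⟩
      exact ⟨⟨p, le_antisymm hp hge⟩, ⟨q, e.symm.trans (le_antisymm hp hge)⟩⟩
  tfae_have 4 → 1 := by
    intro h Q hA hB
    let r : PrimeSpectrum ↥(A ⊔ B) :=
      ⟨(IsLocalRing.maximalIdeal Q.toSubring).comap (Subring.inclusion (sup_le hA hB)), inferInstance⟩
    obtain ⟨⟨p, hp⟩, q, hq⟩ := h.ge ⟨r, rfl⟩
    dsimp only at hp hq
    have hr : LocalSubring.ofPrime (A ⊔ B) r.asIdeal ≤ Q :=
      (Groth.L18.ofPrime_le_iff _ _ _).mpr ⟨_, rfl⟩
    obtain ⟨_, ep⟩ := (Groth.L18.ofPrime_le_iff A p.asIdeal Q).mp (hp ▸ hr)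
    obtain ⟨_, eq⟩ := (Groth.L18.ofPrime_le_iff B q.asIdeal Q).mp (hq ▸ hr)
    convert hp.trans hq.symm using 2
    · exact ep.symm
    · exact eq.symm
  tfae_finish

end Groth.Agent.S4345
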