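import Groth.Statements.S4348
import Groth.Agent.L29.DCoh.QCohOps
import Groth.Agent.L16.QcqsPush
import Groth.Agent.L16.AffineBC.Pullback
import Groth.Agent.L17.QCohExtension

set_option autoImplicit false
universe u
open QCohSup

namespace Groth.Agent.S4348

open AlgebraicGeometry CategoryTheory CategoryTheory.Limits in
/-- Fibre products of quasi-coherent modules are quasi-coherent. -/
theorem isQCoh_pullback' {X : Scheme.{u}} {A B C : X.Modules} (f : A ⟶ C) (g : B ⟶ C)
    (hA : Coh.IsQCoh A) (hB : Coh.IsQCoh B) (hC : Coh.IsQCoh C) : Coh.IsQCoh (pullback f g) := by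
  have h3 : Coh.IsQCoh (A ⊞ B) :=
    Groth.L17.QCohExtension.isQCoh_extension
      (ShortComplex.mk (biprod.inl : A ⟶ A ⊞ B) biprod.snd biprod.inl_snd)
      (ShortComplex.Splitting.ofHasBinaryBiproduct A B).shortExact hA hB
  exact Groth.L29.DC.isQCoh_of_iso'
    (((Abelian.PullbackToBiproductIsKernel.isLimitPullbackToBiproduct f g).conePointUniqueUpToIso
      (kernelIsKernel _)).symm) (Groth.L29.DC.isQCoh_kernel' _ h3 hC)

open AlgebraicGeometry in
open CategoryTheory in
open CategoryTheory.Limits in
/-- Let X be a scheme and U an open subscheme such that the inclusion j : U -> X is quasi-compact. For a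
quasi-coherent O_X-module F and a quasi-coherent submodule G of F|U, the canonical extension of G to
X (the preimage of j_*(G) under F -> j_*(F|U), here the fibre product in the category of
O_X-modules) is quasi-coherent. -/
theorem result
    {X : Scheme.{u}} (U : X.Opens) [QuasiCompact U.ι] (F : X.Modules) [Coh.IsQCoh F]
    (G : (U : Scheme.{u}).Modules) [Coh.IsQCoh G]
    (i : G ⟶ (Scheme.Modules.pullback U.ι).obj F) [Mono i] :
    Coh.IsQCoh (pullback ((Scheme.Modules.pushforward U.ι).map i)
      ((Scheme.Modules.pullbackPushforwardAdjunction U.ι).unit.app F)) := by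
  have h1 : Coh.IsQCoh ((Scheme.Modules.pushforward U.ι).obj G) :=
    Groth.L16.QcqsPush.isQCoh_push (f := U.ι) ..
  haveI hF' : Coh.IsQCoh ((Scheme.Modules.pullback U.ι).obj F) :=
    Groth.L16.AffineBC.isQCoh_pullback U.ι F
  have h2 : Coh.IsQCoh ((Scheme.Modules.pushforward U.ι).obj ((Scheme.Modules.pullback U.ι).obj F)) :=
    Groth.L16.QcqsPush.isQCoh_push (f := U.ι) ..
  exact isQCoh_pullback' _ _ h1 (show Coh.IsQCoh F from inferInstance) h2

end Groth.Agent.S4348
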