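import Groth.Statements.S4352
-- import your own Groth.Agent.* helpers here
import Groth.Agent.L00.SubAlg

set_option autoImplicit false
universe u
open QCohSup

namespace Groth.Agent.S4352

open AlgebraicGeometry in
open CategoryTheory in
open Opposite in
/-- Case b), in the sectionwise form its proof gives. Let X be a scheme that is quasi-compact and
separated and B a quasi-coherent O_X-algebra. Every section of B over an affine open U lies in a
quasi-coherent sub-O_X-algebra of B whose sections over every affine open form an algebra of finite
type over the functions; hence B is the inductive limit of its quasi-coherent sub-O_X-algebras of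
finite type. -/
theorem result
    {X : Scheme.{u}} [CompactSpace X] [X.IsSeparated] (B : RelSpec.QCAlg X)
    (U : X.affineOpens) (b : B.presheaf.obj (op (U : X.Opens))) :
    ∃ (B' : RelSpec.QCAlg X) (φ : B' ⟶ B),
      (∀ V : X.Opens, Function.Injective (φ.hom.app (op V)).hom) ∧
      (∀ V : X.affineOpens, (B'.str.app (op (V : X.Opens))).hom.FiniteType) ∧
      b ∈ Set.range (φ.hom.app (op (U : X.Opens))).hom := by
  haveI := Groth.L00.QCAlgModule.isQCoh_toModule B
  obtain ⟨E, j, -, hq, hft, hb⟩ := Groth.L17.Approx.exists_submodule_sections B.toModule U.1 U.2.isCompact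
    (fun _ : PUnit.{u + 1} => (show Γ(B.toModule, U.1) from b))
  haveI := hq
  obtain ⟨e, he⟩ := hb PUnit.unit
  exact ⟨Groth.L00.SubAlg.alg B j, Groth.L00.SubAlg.incl B j, Groth.L00.SubAlg.incl_injective B j,
    fun V => Groth.L00.SubAlg.finiteType B j hft V.2,
    he ▸ Groth.L00.SubAlg.mem_range_incl B j U.2 e⟩

end Groth.Agent.S4352
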