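import Groth.Statements.S4359
import Mathlib.AlgebraicGeometry.Noetherian
import Mathlib.AlgebraicGeometry.Morphisms.FiniteType
-- import your own Groth.Agent.* helpers here

set_option autoImplicit false
universe u
open FinCond

namespace Groth.Agent.S4359

open AlgebraicGeometry in
open CategoryTheory in
/-- Let S be a locally Noetherian scheme, p : X -> S a morphism of finite type (locally of finite type
and quasi-compact) and q : Y -> S any morphism. Then every morphism f : X -> Y with f followed by q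
equal to p is of finite type, that is, locally of finite type and quasi-compact. -/
theorem result
    {X Y S : Scheme.{u}} [IsLocallyNoetherian S] (p : X ⟶ S) (q : Y ⟶ S)
    [LocallyOfFiniteType p] [QuasiCompact p] (f : X ⟶ Y) (hf : f ≫ q = p) :
    LocallyOfFiniteType f ∧ QuasiCompact f := by
  subst hf
  refine ⟨locallyOfFiniteType_of_comp f q, ⟨fun V hV hVc => ?_⟩⟩
  haveI : IsLocallyNoetherian X := LocallyOfFiniteType.isLocallyNoetherian (f ≫ q)
  obtain ⟨t, ht, htc⟩ : ∃ t : Finset ↥(S.affineOpens), q '' V ⊆ ⋃ U ∈ t, (U.1 : Set S) ∧ True := by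
    obtain ⟨t, ht⟩ := (hVc.image q.continuous).elim_finite_subcover (fun U : S.affineOpens => (U.1 : Set S)) (fun U => U.1.2) (fun s _ => by
      obtain ⟨_, ⟨W, hW, rfl⟩, hsW, -⟩ := S.isBasis_affineOpens.exists_subset_of_mem_open (Set.mem_univ s) isOpen_univ
      exact Set.mem_iUnion.mpr ⟨⟨W, hW⟩, hsW⟩)
    exact ⟨t, ht, trivial⟩
  have hK : IsCompact (⋃ U ∈ t, (f ≫ q) ⁻¹' (U.1 : Set S)) :=
    t.finite_toSet.isCompact_biUnion fun U _ => (f ≫ q).isCompact_preimage U.2.isCompact
  let W : X.Opens := ⟨⋃ U ∈ t, (f ≫ q) ⁻¹' (U.1 : Set S), isOpen_biUnion fun U _ => U.1.2.preimage (f ≫ q).continuous⟩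
  haveI : CompactSpace ↥W := isCompact_iff_compactSpace.mp hK
  haveI : CompactSpace ↥(W : Scheme.{u}) := isCompact_iff_compactSpace.mp hK
  haveI : IsLocallyNoetherian (W : Scheme.{u}) := isLocallyNoetherian_of_isOpenImmersion W.ι
  haveI : AlgebraicGeometry.IsNoetherian (W : Scheme.{u}) := {}
  haveI : TopologicalSpace.NoetherianSpace ↥(W : Scheme.{u}) := inferInstance
  have hsub : f ⁻¹' V ⊆ (W : Set X) := fun x hx => by
    have := ht ⟨f x, hx, rfl⟩
    simpa [W, Set.mem_iUnion] using this
  have := (TopologicalSpace.NoetherianSpace.isCompact (W.ι ⁻¹' (f ⁻¹' V))).image W.ι.continuous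
  rwa [Set.image_preimage_eq_of_subset (by rw [Scheme.Opens.range_ι]; exact hsub)] at this

end Groth.Agent.S4359
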