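import Groth.Statements.S4360
import Mathlib.Topology.NoetherianSpace
import Mathlib.AlgebraicGeometry.Morphisms.Immersion
-- import your own Groth.Agent.* helpers here

set_option autoImplicit false
universe u
open FinCond

namespace Groth.Agent.S4360

open AlgebraicGeometry in
open CategoryTheory in
/-- Let f : X -> Y be an immersion and suppose that the underlying space of Y is locally Noetherian,
i.e. every point of Y has an open neighbourhood which is a Noetherian topological space. Then f is
quasi-compact (and hence of finite type, an immersion being locally of finite type). -/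
theorem result
    {X Y : Scheme.{u}} (f : X ⟶ Y) [IsImmersion f]
    (hY : ∀ y : Y, ∃ U : Y.Opens, y ∈ U ∧ TopologicalSpace.NoetherianSpace U) :
    QuasiCompact f := by
  choose U hyU hU using hY
  have hT : iSup U = ⊤ := top_le_iff.mp fun y _ => TopologicalSpace.Opens.mem_iSup.mpr ⟨y, hyU y⟩
  refine (IsZariskiLocalAtTarget.iff_of_iSup_eq_top (P := @QuasiCompact) U hT).mpr fun i => ?_
  haveI : TopologicalSpace.NoetherianSpace ↥(f ⁻¹ᵁ U i) := by
    haveI : TopologicalSpace.NoetherianSpace ↥(U i : Scheme.{u}) := hU i
    exact (f ∣_ U i).isEmbedding.isInducing.noetherianSpace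
  haveI : TopologicalSpace.NoetherianSpace ↥((f ⁻¹ᵁ U i : X.Opens) : Scheme.{u}) := this
  exact ⟨fun _ _ _ => TopologicalSpace.NoetherianSpace.isCompact _⟩

end Groth.Agent.S4360
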