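import Groth.Statements.S4361
import Mathlib.AlgebraicGeometry.Morphisms.QuasiCompact
-- import your own Groth.Agent.* helpers here

set_option autoImplicit false
universe u
open FinCond

namespace Groth.Agent.S4361

open AlgebraicGeometry in
open CategoryTheory in
/-- Let f : X -> Y and g : Y -> Z be morphisms whose composite is quasi-compact, and suppose the
underlying space of X is locally Noetherian (every point has an open neighbourhood which is a
Noetherian topological space). Then f is quasi-compact. (The published statement also covers the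
case g separated, which is the standard cancellation property; this row states only the case of a
locally Noetherian source.) -/
theorem result
    {X Y Z : Scheme.{u}} (f : X ⟶ Y) (g : Y ⟶ Z) [QuasiCompact (f ≫ g)]
    (hX : ∀ x : X, ∃ U : X.Opens, x ∈ U ∧ TopologicalSpace.NoetherianSpace U) :
    QuasiCompact f := by
  refine ⟨fun V hV hVc => ?_⟩
  -- cover `V` by the preimages of finitely many affine opens of `Z`
  have hV' : IsCompact (g '' V) := hVc.image g.continuous
  obtain ⟨W, hW, hsub⟩ : ∃ W : Set Z, IsCompact W ∧ IsOpen W ∧ g '' V ⊆ W := by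
    choose U hU hxU hUV using fun z : Z => exists_isAffineOpen_mem_and_subset (x := z) (U := (⊤ : Z.Opens)) trivial
    obtain ⟨s, hs⟩ := hV'.elim_finite_subcover (fun z => (U z : Set Z)) (fun z => (U z).2)
      (fun z _ => Set.mem_iUnion.2 ⟨z, hxU z⟩)
    exact ⟨⋃ z ∈ s, (U z : Set Z), s.isCompact_biUnion fun z _ => (hU z).isCompact,
      isOpen_biUnion fun z _ => (U z).2, hs⟩
  obtain ⟨hWo, hsub⟩ := hsub
  have hc : IsCompact ((f ≫ g) ⁻¹' W) := QuasiCompact.isCompact_preimage W hWo hW
  -- the compact set is a Noetherian space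
  choose U hxU hU using hX
  obtain ⟨s, hs⟩ := hc.elim_finite_subcover (fun x => (U x : Set X)) (fun x => (U x).2)
    (fun x _ => Set.mem_iUnion.2 ⟨x, hxU x⟩)
  have hs : (f ≫ g) ⁻¹' W ⊆ ⋃ x : {x // x ∈ s}, (U x.1 : Set X) := fun x hx => by
    obtain ⟨i, hi, hxi⟩ := Set.mem_iUnion₂.1 (hs hx)
    exact Set.mem_iUnion.2 ⟨⟨i, hi⟩, hxi⟩
  have hN : TopologicalSpace.NoetherianSpace ↥(⋃ x : {x // x ∈ s}, (U x.1 : Set X)) := by
    haveI : ∀ x : {x // x ∈ s}, TopologicalSpace.NoetherianSpace ↥(U x.1 : Set X) := fun x => hU x.1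
    exact TopologicalSpace.NoetherianSpace.iUnion _
  have hle : f ⁻¹' V ⊆ ⋃ x : {x // x ∈ s}, (U x.1 : Set X) := fun x hx => hs (by
    show g (f x) ∈ W
    exact hsub ⟨f x, hx, rfl⟩)
  have := TopologicalSpace.NoetherianSpace.isCompact
    ((Subtype.val : ↥(⋃ x : {x // x ∈ s}, (U x.1 : Set X)) → X) ⁻¹' (f ⁻¹' V))
  rw [← Set.inter_eq_right.2 hle, ← Subtype.image_preimage_coe]
  exact this.image continuous_subtype_val

end Groth.Agent.S4361
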