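import Groth.Statements.S4365
import Mathlib.RingTheory.NoetherNormalization
import Mathlib.AlgebraicGeometry.AlgClosed.Basic
import Mathlib.FieldTheory.IsAlgClosed.Basic
import Mathlib.RingTheory.AlgebraicIndependent.Defs
-- import your own Groth.Agent.* helpers here

set_option autoImplicit false
universe u
open FinCond

namespace Groth.Agent.S4365

open AlgebraicGeometry CategoryTheory in
theorem exists_point (K Ω : Type u) [Field K] [Field Ω] [IsAlgClosed Ω] [Algebra K Ω]
    (t : ℕ → Ω) (ht : AlgebraicIndependent K t) {Y : Scheme.{u}} (pY : Y ⟶ Spec (CommRingCat.of K))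
    [LocallyOfFiniteType pY] (y₀ : Y) :
    ∃ y : Spec (CommRingCat.of Ω) ⟶ Y, y ≫ pY = Spec.map (CommRingCat.ofHom (algebraMap K Ω)) ∧
      ∀ z, y z = y₀ := by
  obtain ⟨U, hU, hyU, -⟩ := exists_isAffineOpen_mem_and_subset (U := (⊤ : Y.Opens)) (x := y₀)
    (TopologicalSpace.Opens.mem_top _)
  let φ : CommRingCat.of K ⟶ Γ(Y, U) := Spec.preimage (hU.fromSpec ≫ pY)
  have hφ : Spec.map φ = hU.fromSpec ≫ pY := Spec.map_preimage _
  have hft : φ.hom.FiniteType := by
    rw [← HasRingHomProperty.Spec_iff (P := @LocallyOfFiniteType), hφ]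
    infer_instance
  algebraize [φ.hom]
  let q := (hU.primeIdealOf ⟨y₀, hyU⟩).asIdeal
  let D : Type u := Γ(Y, U) ⧸ q
  haveI : Algebra.FiniteType K D :=
    Algebra.FiniteType.of_surjective (Ideal.Quotient.mkₐ K q) (Ideal.Quotient.mkₐ_surjective K q)
  obtain ⟨s, g, hg, hgf⟩ := exists_finite_inj_algHom_of_fg K D
  let P := MvPolynomial (Fin s) K
  letI : Algebra P D := g.toRingHom.toAlgebra
  haveI : IsScalarTower K P D := IsScalarTower.of_algebraMap_eq fun r => (g.commutes r).symm
  haveI : Module.Finite P D := hgf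
  haveI : Algebra.IsAlgebraic P D := Algebra.IsIntegral.isAlgebraic
  haveI : Module.IsTorsionFree P D := Module.isTorsionFree_iff_algebraMap_injective.mpr hg
  let ψ : P →ₐ[K] Ω := MvPolynomial.aeval (fun i : Fin s => t i)
  have hψ : Function.Injective ψ := ht.comp _ Fin.val_injective
  letI : Algebra P Ω := ψ.toRingHom.toAlgebra
  haveI : IsScalarTower K P Ω := IsScalarTower.of_algebraMap_eq fun r => (ψ.commutes r).symm
  haveI : Module.IsTorsionFree P Ω := Module.isTorsionFree_iff_algebraMap_injective.mpr hψ
  let l : D →ₐ[P] Ω := IsAlgClosed.lift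
  have hl : RingHom.ker l.toRingHom = ⊥ := by
    refine Ideal.eq_bot_of_comap_eq_bot (R := P) ?_
    refine le_bot_iff.1 fun x hx => ?_
    rw [Ideal.mem_bot]
    refine hψ ?_
    rw [map_zero]
    have : l (algebraMap P D x) = 0 := hx
    rwa [l.commutes] at this
  let e : Γ(Y, U) →ₐ[K] Ω := (l.restrictScalars K).comp (Ideal.Quotient.mkₐ K q)
  have hker : RingHom.ker e.toRingHom = q := by
    ext a
    show l (Ideal.Quotient.mk q a) = 0 ↔ a ∈ q
    rw [← Ideal.Quotient.eq_zero_iff_mem]
    exact ⟨fun h => by
      have : Ideal.Quotient.mk q a ∈ RingHom.ker l.toRingHom := h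
      rwa [hl, Ideal.mem_bot] at this, fun h => by rw [h, map_zero]⟩
  refine ⟨Spec.map (CommRingCat.ofHom e.toRingHom) ≫ hU.fromSpec, ?_, fun z => ?_⟩
  · rw [Category.assoc, ← hφ, ← Spec.map_comp]
    congr 1
    exact CommRingCat.hom_ext (RingHom.ext fun r => e.commutes r)
  · rw [Scheme.Hom.comp_apply]
    have : Spec.map (CommRingCat.ofHom e.toRingHom) z = hU.primeIdealOf ⟨y₀, hyU⟩ := by
      refine PrimeSpectrum.ext ?_
      show Ideal.comap e.toRingHom z.asIdeal = q
      rw [← hker, ((Ideal.eq_bot_or_top z.asIdeal).resolve_right z.2.ne_top)]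
      rfl
    rw [this]
    exact hU.fromSpec_primeIdealOf _

open AlgebraicGeometry in
open CategoryTheory in
/-- Let K be a field, X and Y schemes locally of finite type over K, f : X -> Y a K-morphism and Ω an
algebraically closed extension field of K of infinite transcendence degree over K (there is an
algebraically independent sequence in Ω). Then f is surjective if and only if the map it induces
from the K-points of X with values in Ω to those of Y is surjective, i.e. every K-morphism Spec Ω ->
Y factors through f. (The published proposition assumes X and Y of finite type over K, and a later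
remark of the same text extends it to X and Y locally of finite type over K, the form stated here.) -/
theorem result
    (K Ω : Type u) [Field K] [Field Ω] [IsAlgClosed Ω] [Algebra K Ω]
    (t : ℕ → Ω) (ht : AlgebraicIndependent K t)
    {X Y : Scheme.{u}} (pX : X ⟶ Spec (CommRingCat.of K)) (pY : Y ⟶ Spec (CommRingCat.of K))
    [LocallyOfFiniteType pX] [LocallyOfFiniteType pY] (f : X ⟶ Y) (hf : f ≫ pY = pX) :
    Surjective f ↔ ∀ y : Spec (CommRingCat.of Ω) ⟶ Y,
      y ≫ pY = Spec.map (CommRingCat.ofHom (algebraMap K Ω)) →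
        ∃ x : Spec (CommRingCat.of Ω) ⟶ X, x ≫ f = y := by
  constructor
  · intro hsf y hy
    let P := Limits.pullback f y
    let π : P ⟶ Spec (CommRingCat.of Ω) := Limits.pullback.snd f y
    haveI : LocallyOfFiniteType (f ≫ pY) := hf ▸ inferInstance
    haveI : LocallyOfFiniteType f := locallyOfFiniteType_of_comp f pY
    haveI : LocallyOfFiniteType π := MorphismProperty.pullback_snd f y inferInstance
    haveI : Surjective π := MorphismProperty.pullback_snd f y hsf
    haveI : JacobsonSpace P := LocallyOfFiniteType.jacobsonSpace π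
    obtain ⟨z, -⟩ := π.surjective (IsLocalRing.closedPoint Ω)
    obtain ⟨c, -, hc⟩ := nonempty_inter_closedPoints (X := P) (Z := Set.univ) ⟨z, trivial⟩
      isOpen_univ.isLocallyClosed
    obtain ⟨s, hs⟩ := (pointEquivClosedPoint π).symm ⟨c, hc⟩
    refine ⟨s ≫ Limits.pullback.fst f y, ?_⟩
    rw [Category.assoc, Limits.pullback.condition, ← Category.assoc, hs, Category.id_comp]
  · intro h
    refine ⟨fun y₀ => ?_⟩
    obtain ⟨y, hy, hy₀⟩ := exists_point K Ω t ht pY y₀
    obtain ⟨x, hx⟩ := h y hy
    exact ⟨x (IsLocalRing.closedPoint Ω), by rw [← Scheme.Hom.comp_apply, hx]; exact hy₀ _⟩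

end Groth.Agent.S4365
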