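import Groth.Statements.S4368
import Groth.Agent.L18.KerReduced
-- import your own Groth.Agent.* helpers here

set_option autoImplicit false
universe u
open RedSep

namespace Groth.Agent.S4368

open AlgebraicGeometry in
open CategoryTheory in
/-- Let X be a scheme and I a quasi-coherent sheaf of ideals of O_X whose support is all of X, so that
the closed subscheme it defines has underlying space X. Then that closed subscheme is reduced if and
only if I is the nilradical of O_X. In particular the closed subscheme defined by the nilradical is
the unique reduced closed subscheme of X with underlying space X (and, the support condition being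
equivalent to I being contained in the nilradical, the smallest one). -/
theorem result
    (X : Scheme.{u}) (I : X.IdealSheafData) (hI : I.support = ⊤) :
    IsReduced I.subscheme ↔ I = X.nilradical := by
  open AlgebraicGeometry in
  have hrad : I.radical = X.nilradical := by
    rw [← Scheme.IdealSheafData.vanishingIdeal_support, hI, Scheme.IdealSheafData.vanishingIdeal_top]
  refine ⟨fun h => ?_, ?_⟩
  · haveI := h
    rw [← hrad]
    ext U : 2
    haveI : _root_.IsReduced Γ(I.subscheme, I.subschemeι ⁻¹ᵁ U.1) := inferInstance
    haveI : _root_.IsReduced (Γ(X, U.1) ⧸ I.ideal U) :=
      isReduced_of_injective (I.subschemeObjIso U).commRingCatIsoToRingEquiv.symm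
        (I.subschemeObjIso U).commRingCatIsoToRingEquiv.symm.injective
    rw [Scheme.IdealSheafData.radical_ideal]
    exact (Ideal.radical_eq_iff.mpr ((Ideal.isRadical_iff_quotient_reduced _).mpr inferInstance)).symm
  · rintro rfl
    rw [← Scheme.IdealSheafData.vanishingIdeal_top]
    exact Groth.L18.isReduced_vanishingIdeal_subscheme ⊤

end Groth.Agent.S4368
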