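import Groth.Statements.S4369
-- import your own Groth.Agent.* helpers here

set_option autoImplicit false
universe u
open AffSch

namespace Groth.Agent.S4369

/-- Let φ : A' -> A be a ring homomorphism such that every f in A can be written f = h φ(f') with h
invertible in A (this holds in particular when φ is surjective). Then the associated continuous map
Spec A -> Spec A' is a homeomorphism onto its image. -/
theorem result
    {A' A : Type u} [CommRing A'] [CommRing A] (φ : A' →+* A)
    (h : ∀ f : A, ∃ (u : Aˣ) (f' : A'), f = (u : A) * φ f') :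
    Topology.IsEmbedding (PrimeSpectrum.comap φ) := by
  have hiff : ∀ (f : A) (P : PrimeSpectrum A) (u : Aˣ) (f' : A'), f = (u : A) * φ f' →
      (f ∈ P.asIdeal ↔ f' ∈ (PrimeSpectrum.comap φ P).asIdeal) := by
    intro f P u f' he
    subst he
    rw [Ideal.unit_mul_mem_iff_mem _ u.isUnit]
    rfl
  refine ⟨⟨?_⟩, ?_⟩
  · refine le_antisymm (continuous_iff_le_induced.mp (PrimeSpectrum.continuous_comap φ)) ?_
    conv_rhs => rw [(PrimeSpectrum.isTopologicalBasis_basic_opens (R := A)).eq_generateFrom]
    refine le_generateFrom ?_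
    rintro _ ⟨f, rfl⟩
    obtain ⟨u, f', hf⟩ := h f
    refine isOpen_induced_iff.mpr ⟨PrimeSpectrum.basicOpen f', (PrimeSpectrum.basicOpen f').2, ?_⟩
    ext P
    exact (not_congr (hiff f P u f' hf)).symm
  · intro P Q hPQ
    apply PrimeSpectrum.ext
    ext f
    obtain ⟨u, f', hf⟩ := h f
    rw [hiff f P u f' hf, hiff f Q u f' hf, hPQ]

end Groth.Agent.S4369
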