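import Groth.Statements.S4370
import Groth.Agent.L18.KerReduced
import Mathlib.AlgebraicGeometry.Morphisms.ClosedImmersion
import Mathlib.AlgebraicGeometry.PullbackCarrier
-- import your own Groth.Agent.* helpers here

set_option autoImplicit false
universe u
open RedSep

namespace Groth.Agent.S4370

open AlgebraicGeometry in
open CategoryTheory in
/-- Let f : X -> Y be an open immersion and let g : X_red -> Y_red be the morphism of reduced schemes
induced by f, i.e. the morphism between the closed subschemes defined by the nilradicals whose
composite with the inclusion of Y_red in Y is the inclusion of X_red in X followed by f. Then g is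
an open immersion. -/
theorem result
    {X Y : Scheme.{u}} (f : X ⟶ Y) [IsOpenImmersion f]
    (g : X.nilradical.subscheme ⟶ Y.nilradical.subscheme)
    (hg : g ≫ Y.nilradical.subschemeι = X.nilradical.subschemeι ≫ f) :
    IsOpenImmersion g := by
  open AlgebraicGeometry CategoryTheory CategoryTheory.Limits in
  haveI : IsReduced Y.nilradical.subscheme := by
    rw [← Scheme.IdealSheafData.vanishingIdeal_top]
    exact Groth.L18.isReduced_vanishingIdeal_subscheme ⊤
  let P := pullback f Y.nilradical.subschemeι
  let p₁ : P ⟶ X := pullback.fst f Y.nilradical.subschemeι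
  let p₂ : P ⟶ Y.nilradical.subscheme := pullback.snd f Y.nilradical.subschemeι
  haveI : IsOpenImmersion p₂ := inferInstanceAs (IsOpenImmersion (pullback.snd f Y.nilradical.subschemeι))
  haveI : IsReduced P := isReduced_of_isOpenImmersion p₂
  let h : X.nilradical.subscheme ⟶ P := pullback.lift X.nilradical.subschemeι g hg.symm
  have hh : h ≫ p₁ = X.nilradical.subschemeι := pullback.lift_fst _ _ _
  haveI : IsClosedImmersion p₁ := inferInstanceAs (IsClosedImmersion (pullback.fst f Y.nilradical.subschemeι))
  haveI : IsClosedImmersion (h ≫ p₁) := hh ▸ inferInstance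
  haveI : IsClosedImmersion h := IsClosedImmersion.of_comp_isClosedImmersion h p₁
  haveI : Surjective h := ⟨fun z => by
    have hr : p₁ z ∈ Set.range X.nilradical.subschemeι := by
      rw [Scheme.IdealSheafData.range_subschemeι, Scheme.support_nilradical]
      trivial
    obtain ⟨w, hw⟩ := hr
    refine ⟨w, (IsClosedImmersion.base_closed (f := p₁)).injective ?_⟩
    rw [← hh, Scheme.Hom.comp_apply] at hw
    exact hw⟩
  haveI := isIso_of_isClosedImmersion_of_surjective h
  have hg' : h ≫ p₂ = g := pullback.lift_snd _ _ _
  rw [← hg']
  infer_instance

end Groth.Agent.S4370
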