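import Mathlib.AlgebraicGeometry.AffineScheme
import Mathlib.Algebra.MvPolynomial.CommRing
import Groth.Agent.L02.Misc.Punctured
import Mathlib.Algebra.MvPolynomial.Division

set_option autoImplicit false
set_option linter.style.haveILetI false
namespace RedSep
end RedSep
universe u
open RedSep

namespace Groth.Agent.S4371

open AlgebraicGeometry in
open CategoryTheory in
/-- Let K be a field and Y = Spec K[s, t] the affine plane over K. The open subset D(s) ∪ D(t) of Y, the
complement of the closed point s = t = 0, is not affine. -/
theorem result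
    (K : Type u) [Field K] :
    ¬ IsAffineOpen (X := Spec (CommRingCat.of (MvPolynomial (Fin 2) K)))
      (PrimeSpectrum.basicOpen (MvPolynomial.X 0 : MvPolynomial (Fin 2) K) ⊔
        PrimeSpectrum.basicOpen (MvPolynomial.X 1 : MvPolynomial (Fin 2) K)) := by
  refine Groth.L02.Punctured.not_isAffineOpen_sup (R := CommRingCat.of (MvPolynomial (Fin 2) K)) _ _
    MvPolynomial.X_prime (MvPolynomial.X_ne_zero 0) (MvPolynomial.X_ne_zero 1)
    (fun hd => by simpa using MvPolynomial.X_dvd_X.1 hd) (fun p q h => ?_)
  have h1 := congrArg (MvPolynomial.constantCoeff (R := K) (σ := Fin 2)) h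
  simp at h1

end Groth.Agent.S4371
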