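import Groth.Statements.S4372
import Groth.Agent.L00.ReducedSub
-- import your own Groth.Agent.* helpers here

set_option autoImplicit false
universe u
open RedSep

namespace Groth.Agent.S4372

open AlgebraicGeometry in
open CategoryTheory in
/-- Let h : Z -> X be an immersion with Z reduced (a reduced subscheme of X), and let W be the reduced
closed subscheme of X whose underlying space is the closure of h(Z). Then Z is an open subscheme of
W: h factors as an open immersion Z -> W followed by the closed immersion W -> X. Stated as the
existence of such a factorization through a reduced scheme W closed-immersed onto the closure of the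
image. -/
theorem result
    {Z X : Scheme.{u}} (h : Z ⟶ X) [IsImmersion h] [IsReduced Z] :
    ∃ (W : Scheme.{u}) (j : Z ⟶ W) (i : W ⟶ X), IsOpenImmersion j ∧ IsClosedImmersion i ∧
      IsReduced W ∧ Set.range i = closure (Set.range h) ∧ j ≫ i = h := by
  obtain ⟨W, w, hw, hred, hrange⟩ := Groth.L00.ReducedSub.exists_reduced (closure (Set.range h))
    isClosed_closure.isLocallyClosed
  haveI := hw
  haveI : IsClosedImmersion w := IsClosedImmersion.of_isPreimmersion w (hrange ▸ isClosed_closure)
  haveI := hred
  let O : W.Opens := w ⁻¹ᵁ h.coborderRange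
  haveI : IsReduced (O : Scheme.{u}) := isReduced_of_isOpenImmersion O.ι
  have hO : Set.range h = Set.range (O.ι ≫ w) := by
    ext x
    constructor
    · intro hx
      obtain ⟨v, hv⟩ := hrange.symm.subset (subset_closure hx)
      refine ⟨⟨v, ?_⟩, ?_⟩
      · show w v ∈ coborder (Set.range h)
        rw [hv]; exact subset_coborder hx
      · rw [Scheme.Hom.comp_apply]; exact hv
    · rintro ⟨v, rfl⟩
      rw [Scheme.Hom.comp_apply]
      have h2 : w (O.ι v) ∈ closure (Set.range h) := hrange.subset ⟨_, rfl⟩
      have h3 : w (O.ι v) ∈ coborder (Set.range h) := v.2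
      exact coborder_inter_closure (s := Set.range h) ▸ ⟨h3, h2⟩
  obtain ⟨e, he⟩ := Groth.L00.ReducedSub.exists_iso (O.ι ≫ w) h hO
  exact ⟨W, e.hom ≫ O.ι, w, inferInstance, inferInstance, hred, hrange, by rw [Category.assoc]; exact he⟩

end Groth.Agent.S4372
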