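import Groth.Statements.S4395
import Mathlib.RingTheory.GradedAlgebra.Radical
-- import your own Groth.Agent.* helpers here

set_option autoImplicit false
universe u
open EGA2

namespace Groth.Agent.S4395

/-- Let S be a ring graded in nonnegative degrees, n₀ > 0 an integer and, for every n ≥ n₀, p_n an
additive subgroup of S_n. Then there is a graded prime ideal p of S not containing S_+ with p ∩ S_n
= p_n for all n ≥ n₀ if and only if: (1) S_m p_n ⊆ p_{m+n} for all m ≥ 0 and n ≥ n₀; (2) for m ≥ n₀,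
n ≥ n₀, f ∈ S_m, g ∈ S_n, fg ∈ p_{m+n} implies f ∈ p_m or g ∈ p_n; (3) p_n ≠ S_n for at least one n
≥ n₀. Moreover such a graded prime ideal is unique. -/
theorem result {R A : Type u} [CommRing R] [CommRing A] [Algebra R A] (𝒜 : ℕ → Submodule R A) [GradedAlgebra 𝒜]
    (n₀ : ℕ) (hn₀ : 0 < n₀) (p : ℕ → AddSubgroup A) (hp : ∀ n : ℕ, n₀ ≤ n → (p n : Set A) ⊆ 𝒜 n) :
    ((∃ 𝔭 : HomogeneousIdeal 𝒜, 𝔭.toIdeal.IsPrime ∧ ¬ HomogeneousIdeal.irrelevant 𝒜 ≤ 𝔭 ∧
        ∀ n : ℕ, n₀ ≤ n → (𝔭.toIdeal : Set A) ∩ 𝒜 n = p n) ↔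
      ((∀ m n : ℕ, n₀ ≤ n → ∀ a ∈ 𝒜 m, ∀ b ∈ p n, a * b ∈ p (m + n)) ∧
        (∀ m n : ℕ, n₀ ≤ m → n₀ ≤ n → ∀ f ∈ 𝒜 m, ∀ g ∈ 𝒜 n, f * g ∈ p (m + n) → f ∈ p m ∨ g ∈ p n) ∧
        ∃ n : ℕ, n₀ ≤ n ∧ (p n : Set A) ≠ 𝒜 n)) ∧
    ∀ 𝔭 𝔮 : HomogeneousIdeal 𝒜, 𝔭.toIdeal.IsPrime → 𝔮.toIdeal.IsPrime →
      ¬ HomogeneousIdeal.irrelevant 𝒜 ≤ 𝔭 → ¬ HomogeneousIdeal.irrelevant 𝒜 ≤ 𝔮 →
      (∀ n : ℕ, n₀ ≤ n → (𝔭.toIdeal : Set A) ∩ 𝒜 n = p n) → (∀ n : ℕ, n₀ ≤ n → (𝔮.toIdeal : Set A) ∩ 𝒜 n = p n) →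
      𝔭 = 𝔮 := by
  classical
  -- a witness of large degree outside a given prime
  have wit : ∀ 𝔭 : HomogeneousIdeal 𝒜, 𝔭.toIdeal.IsPrime → ¬ HomogeneousIdeal.irrelevant 𝒜 ≤ 𝔭 →
      ∃ N, n₀ ≤ N ∧ ∃ e ∈ 𝒜 N, e ∉ 𝔭.toIdeal := by
    intro 𝔭 hprime hirr
    obtain ⟨a, ha, hap⟩ : ∃ a, a ∈ (HomogeneousIdeal.irrelevant 𝒜).toIdeal ∧ a ∉ 𝔭.toIdeal :=
      Set.not_subset.mp hirr
    obtain ⟨d, hd⟩ : ∃ d, (DirectSum.decompose 𝒜 a d : A) ∉ 𝔭.toIdeal := by
      by_contra h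
      push_neg at h
      exact hap (DirectSum.sum_support_decompose 𝒜 a ▸ Ideal.sum_mem _ fun i _ => h i)
    have hd0 : 0 < d := by
      rcases Nat.eq_zero_or_pos d with rfl | h
      · refine absurd ?_ hd
        rw [HomogeneousIdeal.mem_iff, HomogeneousIdeal.mem_irrelevant_iff, GradedRing.proj_apply] at ha
        rw [ha]; exact zero_mem _
      · exact h
    refine ⟨n₀ * d, Nat.le_mul_of_pos_right _ hd0, _, ?_, fun h => hd (hprime.mem_of_pow_mem n₀ h)⟩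
    simpa [smul_eq_mul] using SetLike.pow_mem_graded n₀ (SetLike.coe_mem (DirectSum.decompose 𝒜 a d))
  refine ⟨⟨?_, ?_⟩, ?_⟩
  · rintro ⟨𝔭, hprime, hirr, h⟩
    have hmem : ∀ n, n₀ ≤ n → ∀ x, x ∈ p n ↔ x ∈ 𝔭.toIdeal ∧ x ∈ 𝒜 n := fun n hn x => by
      rw [← SetLike.mem_coe, ← h n hn]; rfl
    refine ⟨fun m n hn a ha b hb => ?_, fun m n hm hn f hf g hg hfg => ?_, ?_⟩
    · obtain ⟨hb1, hb2⟩ := (hmem n hn b).mp hb
      exact (hmem (m + n) (hn.trans (Nat.le_add_left n m)) _).mpr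
        ⟨Ideal.mul_mem_left _ a hb1, SetLike.mul_mem_graded ha hb2⟩
    · rcases hprime.mem_or_mem ((hmem (m + n) (hm.trans (Nat.le_add_right m n)) _).mp hfg).1 with h1 | h1
      · exact Or.inl ((hmem m hm f).mpr ⟨h1, hf⟩)
      · exact Or.inr ((hmem n hn g).mpr ⟨h1, hg⟩)
    · obtain ⟨N, hN, e, he, hep⟩ := wit 𝔭 hprime hirr
      refine ⟨N, hN, fun heq => hep ((hmem N hN e).mp ?_).1⟩
      rw [← SetLike.mem_coe, heq]; exact he
  · rintro ⟨h1, h2, N, hN, hne⟩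
    obtain ⟨e, he, hep⟩ : ∃ e ∈ 𝒜 N, e ∉ p N := by
      by_contra h
      push_neg at h
      exact hne ((hp N hN).antisymm h)
    let I : Ideal A :=
      { carrier := {x | ∀ i, (DirectSum.decompose 𝒜 x i : A) * e ∈ p (i + N)}
        add_mem' := fun {x y} hx hy i => by
          rw [DirectSum.decompose_add, DirectSum.add_apply, Submodule.coe_add, add_mul]
          exact add_mem (hx i) (hy i)
        zero_mem' := fun i => by simp
        smul_mem' := fun c x hx => by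
          show ∀ i, (DirectSum.decompose 𝒜 (c * x) i : A) * e ∈ p (i + N)
          induction c using DirectSum.Decomposition.inductionOn 𝒜 with
          | zero => simp
          | @homogeneous j a =>
            intro i
            rw [DirectSum.coe_decompose_mul_of_left_mem 𝒜 i a.2]
            split
            · rename_i hji
              rw [mul_assoc, show i + N = j + ((i - j) + N) by omega]
              exact h1 j _ (hN.trans (Nat.le_add_left N _)) a a.2 _ (hx (i - j))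
            · rw [zero_mul]; exact zero_mem _
          | add a b ha hb =>
            intro i
            rw [add_mul, DirectSum.decompose_add, DirectSum.add_apply, Submodule.coe_add, add_mul]
            exact add_mem (ha i) (hb i) }
    have hI : I.IsHomogeneous 𝒜 := fun k x hx i => by
      by_cases hki : k = i
      · subst hki
        rw [DirectSum.decompose_of_mem_same 𝒜 (SetLike.coe_mem _)]
        exact hx k
      · rw [DirectSum.decompose_of_mem_ne 𝒜 (SetLike.coe_mem _) hki, zero_mul]; exact zero_mem _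
    have hmem : ∀ i, ∀ x ∈ 𝒜 i, (x ∈ I ↔ x * e ∈ p (i + N)) := fun i x hx => by
      constructor
      · intro h
        have := h i
        rwa [DirectSum.decompose_of_mem_same 𝒜 hx] at this
      · intro h k
        by_cases hik : i = k
        · subst hik; rwa [DirectSum.decompose_of_mem_same 𝒜 hx]
        · rw [DirectSum.decompose_of_mem_ne 𝒜 hx hik, zero_mul]; exact zero_mem _
    have hagree : ∀ n, n₀ ≤ n → ∀ x ∈ 𝒜 n, (x ∈ I ↔ x ∈ p n) := fun n hn x hx => by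
      rw [hmem n x hx]
      refine ⟨fun h => (h2 n N hn hN x hx e he h).resolve_right hep, fun h => ?_⟩
      rw [mul_comm, add_comm n N]
      exact h1 N n hn e he x h
    have heI : e ∉ I := fun h => hep ((hagree N hN e he).mp h)
    refine ⟨⟨I, hI⟩, Ideal.IsHomogeneous.isPrime_of_homogeneous_mem_or_mem hI (fun h => heI (by rw [show I = ⊤ from h]; exact Submodule.mem_top)) ?_,
      fun h => heI (h (HomogeneousIdeal.mem_irrelevant_of_mem 𝒜 (hn₀.trans_le hN) he)), fun n hn => ?_⟩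
    · rintro x y ⟨i, hx⟩ ⟨j, hy⟩ hxy
      rw [hmem _ _ (SetLike.mul_mem_graded hx hy)] at hxy
      have := h1 N (i + j + N) (hN.trans (Nat.le_add_left N _)) e he _ hxy
      rw [show N + (i + j + N) = (i + N) + (j + N) by omega,
        show e * (x * y * e) = (x * e) * (y * e) by ring] at this
      rcases h2 _ _ (hN.trans (Nat.le_add_left N i)) (hN.trans (Nat.le_add_left N j)) _
        (SetLike.mul_mem_graded hx he) _ (SetLike.mul_mem_graded hy he) this with h | h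
      · exact Or.inl ((hmem i x hx).mpr h)
      · exact Or.inr ((hmem j y hy).mpr h)
    · ext x
      exact ⟨fun h => (hagree n hn x h.2).mp h.1, fun h => ⟨(hagree n hn x (hp n hn h)).mpr h, hp n hn h⟩⟩
  · intro 𝔭 𝔮 hP hQ hP' hQ' hp1 hq1
    have key : ∀ (𝔞 𝔟 : HomogeneousIdeal 𝒜), 𝔟.toIdeal.IsPrime → ¬ HomogeneousIdeal.irrelevant 𝒜 ≤ 𝔟 →
        (∀ n : ℕ, n₀ ≤ n → (𝔞.toIdeal : Set A) ∩ 𝒜 n = p n) →
        (∀ n : ℕ, n₀ ≤ n → (𝔟.toIdeal : Set A) ∩ 𝒜 n = p n) → 𝔞.toIdeal ≤ 𝔟.toIdeal := by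
      intro 𝔞 𝔟 hb hb' ha1 hb1 x hx
      obtain ⟨N, hN, e, he, heb⟩ := wit 𝔟 hb hb'
      rw [← DirectSum.sum_support_decompose 𝒜 x]
      refine Ideal.sum_mem _ fun i _ => ?_
      have h1 : (DirectSum.decompose 𝒜 x i : A) * e ∈ (𝔞.toIdeal : Set A) ∩ 𝒜 (i + N) :=
        ⟨Ideal.mul_mem_right _ _ (𝔞.isHomogeneous i hx), SetLike.mul_mem_graded (SetLike.coe_mem _) he⟩
      rw [ha1 _ (hN.trans (Nat.le_add_left N i)), ← hb1 _ (hN.trans (Nat.le_add_left N i))] at h1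
      exact (hb.mem_or_mem h1.1).resolve_right heb
    exact HomogeneousIdeal.ext ((key 𝔭 𝔮 hQ hQ' hp1 hq1).antisymm (key 𝔮 𝔭 hP hP' hq1 hp1))

end Groth.Agent.S4395
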