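import Groth.Statements.S4401
import Groth.Agent.L16.ProjSpace.Ample

set_option autoImplicit false
universe u
open CategoryTheory CategoryTheory.Limits AlgebraicGeometry
open EGA2

namespace Groth.Agent.S4401

/-- Let S be a ring graded in nonnegative degrees whose irrelevant ideal S_+ is generated by finitely
many elements of degree one, and X = Proj S. Then for every integer n ≥ 0 there exist an integer k
and an epimorphism of O_X-modules O_X^k → O_X(n). -/
theorem result {R A : Type u} [CommRing R] [CommRing A] [Algebra R A] (𝒜 : ℕ → Submodule R A) [GradedAlgebra 𝒜]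
    (s : Finset A) (hs1 : ∀ f ∈ s, f ∈ 𝒜 1)
    (hs : (HomogeneousIdeal.irrelevant 𝒜).toIdeal = Ideal.span (s : Set A)) (n : ℕ) :
    ∃ (k : ℕ) (p : FlatMod.freeMod (Proj 𝒜) k ⟶ Twist.twist 𝒜 (n : ℤ)), Epi p := by
  classical
  have hcov : ⨆ f : s, Proj.basicOpen 𝒜 (f : A) = ⊤ :=
    Proj.iSup_basicOpen_eq_top 𝒜 _ (hs.trans_le (Ideal.span_mono fun f hf => ⟨⟨f, hf⟩, rfl⟩))
  let e := (Fintype.equivFin s).symm
  let F : Fin (Fintype.card s) → 𝒜 n := fun i =>
    ⟨(e i).1 ^ n, by simpa using SetLike.pow_mem_graded n (hs1 _ (e i).2)⟩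
  have hF : ⨆ i, Proj.basicOpen 𝒜 (F i).1 = ⊤ := by
    refine top_le_iff.1 fun x hx => ?_
    obtain ⟨f, hf⟩ := TopologicalSpace.Opens.mem_iSup.1 (hcov.ge hx)
    refine TopologicalSpace.Opens.mem_iSup.2 ⟨e.symm f, (Proj.mem_basicOpen _ _ _).2 fun h => ?_⟩
    have h' : (f.1 : A) ^ n ∈ x.asHomogeneousIdeal.toIdeal := by
      have : (F (e.symm f)).1 = f.1 ^ n := by simp [F]
      exact this ▸ h
    exact (Proj.mem_basicOpen _ _ _).1 hf (x.isPrime.mem_of_pow_mem n h')
  exact ⟨_, Groth.L16.ProjTwist.exists_epi_free 𝒜 F hF⟩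

end Groth.Agent.S4401
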