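import Groth.Agent.L18.ChowExtra
import Groth.Agent.S4418
import Groth.Statements.S4416
-- import your own Groth.Agent.* helpers here

set_option autoImplicit false
universe u
open CategoryTheory CategoryTheory.Limits AlgebraicGeometry
open EGA2

namespace Groth.Agent.S4416

/-- Let r : X → S be separated of finite type, and assume either S Noetherian, or S quasi-compact and
separated with X having finitely many irreducible components. Then r is proper if and only if there
are a scheme X' and a surjective morphism f : X' → X with f ≫ r projective. Moreover, when r is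
proper, f can be chosen so that in addition there is a dense open U of X with f⁻¹(U) dense in X'
over which f is an isomorphism, and with X' irreducible (resp. reduced) if X is. (The published
statement also remarks that f is then projective; that is not stated here.) -/
theorem result {X S : Scheme.{u}} (r : X ⟶ S) [IsSeparated r] [LocallyOfFiniteType r] [QuasiCompact r]
    (h : IsNoetherian S ∨ (CompactSpace S ∧ S.IsSeparated ∧ (irreducibleComponents X).Finite)) :
    (IsProper r ↔ ∃ (X' : Scheme.{u}) (f : X' ⟶ X), Surjective f ∧ RelProj.IsProjective (f ≫ r)) ∧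
    (IsProper r → ∃ (X' : Scheme.{u}) (f : X' ⟶ X), Surjective f ∧ RelProj.IsProjective (f ≫ r) ∧
        (∃ U : X.Opens, Dense (U : Set X) ∧ Dense ((f ⁻¹ᵁ U : X'.Opens) : Set X') ∧ IsIso (f ∣_ U)) ∧
        (IrreducibleSpace X → IrreducibleSpace X') ∧ (IsReduced X → IsReduced X')) := by
  haveI : CompactSpace X := by
    rcases h with h | ⟨h1, -, -⟩ <;> exact QuasiCompact.compactSpace_of_compactSpace r
  have hS : CompactSpace S ∧ QuasiSeparatedSpace S ∧ (irreducibleComponents X).Finite := by
    rcases h with h | ⟨h1, h2, h3⟩
    · haveI : IsLocallyNoetherian X := LocallyOfFiniteType.isLocallyNoetherian r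
      haveI : CompactSpace X := QuasiCompact.compactSpace_of_compactSpace r
      haveI : IsNoetherian X := {}
      exact ⟨inferInstance, inferInstance, TopologicalSpace.NoetherianSpace.finite_irreducibleComponents⟩
    · haveI := h2
      exact ⟨h1, inferInstance, h3⟩
  obtain ⟨_, _, hirr⟩ := hS
  haveI : QuasiSeparatedSpace X := quasiSeparatedSpace_of_quasiSeparated r
  obtain ⟨X', π, hπ, hπr, hsurj, U, hd, hd', hiso, hdom, hqc⟩ :=
    Groth.L18.ChowExtra.exists_chow_dense_proj r hirr
  have hred : IsReduced X → IsReduced X' := by
    intro _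
    haveI : IsReduced U.toScheme := inferInstance
    haveI : IsReduced (π ⁻¹ᵁ U).toScheme := isReduced_of_isOpenImmersion (π ∣_ U)
    exact IsSchemeTheoreticallyDominant.isReduced (π ⁻¹ᵁ U).ι
  have hirred : IrreducibleSpace X → IrreducibleSpace X' := fun _ =>
    Groth.L18.ChowExtra.irreducibleSpace_of_dense π U hd hd'
  refine ⟨⟨fun hr => ?_, ?_⟩, fun hr => ?_⟩
  · haveI := hr
    haveI : IsProper π := ((Groth.Agent.S9705.result π).1 hπ).2
    exact ⟨X', π, hsurj, Groth.Agent.S9717.result _
      ((Groth.Agent.S9705.result _).2 ⟨hπr, inferInstance⟩)⟩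
  · rintro ⟨X'', g, hg, hgr⟩
    haveI := hg
    haveI : IsProper (g ≫ r) := (Groth.Agent.S4418.result (g ≫ r) hgr).2
    haveI : UniversallyClosed r := UniversallyClosed.of_comp_surjective g r
    exact {}
  · haveI := hr
    haveI : IsProper π := ((Groth.Agent.S9705.result π).1 hπ).2
    exact ⟨X', π, hsurj, Groth.Agent.S9717.result _
      ((Groth.Agent.S9705.result _).2 ⟨hπr, inferInstance⟩), ⟨U, hd, hd', hiso⟩, hirred, hred⟩

end Groth.Agent.S4416
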