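import Groth.Agent.L18.CoprodModules
import Groth.Statements.S4417
-- import your own Groth.Agent.* helpers here

set_option autoImplicit false
universe u
open CategoryTheory CategoryTheory.Limits AlgebraicGeometry
open EGA2

namespace Groth.Agent.S4417

/-- Let f : X → Y and f' : X' → Y be quasi-projective morphisms (of finite type, each admitting a
relatively ample module). Then the morphism X ⨿ X' → Y restricting to f and f' on the two summands
is quasi-projective. -/
theorem result {X X' Y : Scheme.{u}} (f : X ⟶ Y) (f' : X' ⟶ Y)
    (hf : RelProj.IsQuasiProjective f) (hf' : RelProj.IsQuasiProjective f') :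
    RelProj.IsQuasiProjective (coprod.desc f f') := by
  obtain ⟨h1, h2, L, hL⟩ := hf
  obtain ⟨h1', h2', L', hL'⟩ := hf'
  have h := Groth.L18.Ample.exists_isRelAmple_coprod f f' hL hL'
  refine ⟨IsZariskiLocalAtSource.of_openCover (P := @LocallyOfFiniteType) (coprodOpenCover.{u, u} X X') ?_, h.1, _, h⟩
  rintro (⟨⟩ | ⟨⟩)
  · exact (coprod.inl_desc f f').symm ▸ h1
  · exact (coprod.inr_desc f f').symm ▸ h1'

end Groth.Agent.S4417
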