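import Groth.Agent.L18.CharpolyIntegral
import Groth.Statements.S4430
-- import your own Groth.Agent.* helpers here

set_option autoImplicit false
universe u
open EGA2

namespace Groth.Agent.S4430

/-- Let A be an integral domain with fraction field K, E a finitely generated A-module and u an
endomorphism of E whose characteristic-polynomial coefficients (those of u ⊗ 1 on K ⊗_A E) all lie
in A. If u is an automorphism of E, then its determinant, as an element of A, is invertible in A. -/
theorem result (A : Type u) [CommRing A] [IsDomain A] (K : Type u) [Field K]
    [Algebra A K] [IsFractionRing A K] (E : Type u) [AddCommGroup E] [Module A E] [Module.Finite A E]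
    (u : E →ₗ[A] E) (hcoeff : ∀ i : ℕ, ((u.baseChange K).charpoly).coeff i ∈ (algebraMap A K).range)
    (a : A) (ha : algebraMap A K a = LinearMap.det (u.baseChange K)) (hu : Function.Bijective u) :
    IsUnit a := by
  have hint : ∀ v : E →ₗ[A] E, IsIntegral A (LinearMap.det (v.baseChange K)) := fun v => by
    rw [LinearMap.det_eq_sign_charpoly_coeff]
    exact ((isIntegral_one (R := A)).neg.pow _).mul (Groth.L18.Charpoly.isIntegral_coeff v 0)
  let e := LinearEquiv.ofBijective u hu
  have h1 : algebraMap A K a * LinearMap.det (e.symm.toLinearMap.baseChange K) = 1 := by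
    rw [ha, ← map_mul, Module.End.mul_eq_comp, ← LinearMap.baseChange_comp]
    rw [show u ∘ₗ e.symm.toLinearMap = LinearMap.id from LinearMap.ext fun x => e.apply_symm_apply x,
      LinearMap.baseChange_id, LinearMap.det_id]
  let c : integralClosure A K := ⟨_, hint e.symm.toLinearMap⟩
  have hu' : IsUnit (algebraMap A (integralClosure A K) a) :=
    IsUnit.of_mul_eq_one c (Subtype.ext h1)
  have hinj : Function.Injective (algebraMap A (integralClosure A K)) := fun x y h =>
    IsFractionRing.injective A K (congrArg Subtype.val h)
  haveI : FaithfulSMul A (integralClosure A K) := (faithfulSMul_iff_algebraMap_injective _ _).mpr hinj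
  exact (RingHom.IsIntegral.isLocalHom (algebraMap_isIntegral_iff.mpr inferInstance) hinj).map_nonunit a hu'

end Groth.Agent.S4430
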