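import Groth.Agent.L18.CharpolyIntegral
import Groth.Statements.S4431
-- import your own Groth.Agent.* helpers here

set_option autoImplicit false
universe u
open EGA2

namespace Groth.Agent.S4431

/-- Let A be an integral domain with fraction field K, E a finitely generated torsion-free A-module and
u an endomorphism of E whose characteristic-polynomial coefficients (those of u ⊗ 1 on K ⊗_A E) all
lie in A. If the determinant of u is the image of a unit of A, then u is an automorphism of E. -/
theorem result (A : Type u) [CommRing A] [IsDomain A] (K : Type u) [Field K]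
    [Algebra A K] [IsFractionRing A K] (E : Type u) [AddCommGroup E] [Module A E] [Module.Finite A E]
    [Module.IsTorsionFree A E]
    (u : E →ₗ[A] E) (hcoeff : ∀ i : ℕ, ((u.baseChange K).charpoly).coeff i ∈ (algebraMap A K).range)
    (a : A) (ha : algebraMap A K a = LinearMap.det (u.baseChange K)) (hunit : IsUnit a) :
    Function.Bijective u := by
  have hl : (u.baseChange K).charpoly ∈ Polynomial.lifts (algebraMap A K) :=
    (Polynomial.lifts_iff_coeff_lifts _).mpr hcoeff
  obtain ⟨q, hq, -, -⟩ := Polynomial.lifts_and_degree_eq_and_monic hl (LinearMap.charpoly_monic _)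
  have hq0 : Polynomial.aeval u q = 0 := by
    have h := LinearMap.aeval_self_charpoly (u.baseChange K)
    rw [← hq, Polynomial.aeval_map_algebraMap, Groth.L18.Charpoly.aeval_baseChange] at h
    refine LinearMap.ext fun x => ?_
    have h2 : TensorProduct.mk A K E 1 (Polynomial.aeval u q x) = 0 := by
      have h3 := LinearMap.congr_fun h (1 ⊗ₜ[A] x)
      rwa [LinearMap.baseChange_tmul, LinearMap.zero_apply] at h3
    obtain ⟨s, hs⟩ := (IsLocalizedModule.eq_zero_iff (nonZeroDivisors A) (TensorProduct.mk A K E 1)).mp h2
    rw [Submonoid.smul_def, smul_eq_zero] at hs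
    exact hs.resolve_left (nonZeroDivisors.ne_zero s.2)
  have hc : IsUnit (q.coeff 0) := by
    have h := LinearMap.det_eq_sign_charpoly_coeff (u.baseChange K)
    rw [← ha, ← hq, Polynomial.coeff_map, ← map_one (algebraMap A K), ← map_neg, ← map_pow, ← map_mul] at h
    rw [IsFractionRing.injective A K h] at hunit
    exact isUnit_of_mul_isUnit_right hunit
  obtain ⟨c, hcc⟩ := hc
  let r := Polynomial.aeval u q.divX
  have hrel : u * r + (q.coeff 0) • 1 = 0 := by
    have h := congrArg (Polynomial.aeval u) (Polynomial.X_mul_divX_add q)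
    rw [map_add, map_mul, Polynomial.aeval_X, Polynomial.aeval_C, hq0, Algebra.algebraMap_eq_smul_one] at h
    exact h
  have hcomm : r * u = u * r := by
    have := (Polynomial.aeval u).congr_arg (Polynomial.X_mul (p := q.divX))
    rw [map_mul, map_mul, Polynomial.aeval_X] at this
    exact this.symm
  have hur : u * (-(↑c⁻¹ : A) • r) = 1 := by
    rw [mul_smul_comm, eq_neg_of_add_eq_zero_left hrel, neg_smul, smul_neg, neg_neg, smul_smul, ← hcc,
      Units.inv_mul, one_smul]
  have hru : (-(↑c⁻¹ : A) • r) * u = 1 := by rw [smul_mul_assoc, hcomm, ← mul_smul_comm, hur]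
  exact ⟨(Function.LeftInverse.injective (g := ⇑(-(↑c⁻¹ : A) • r)) fun x => LinearMap.congr_fun hru x),
    Function.RightInverse.surjective (g := ⇑(-(↑c⁻¹ : A) • r)) fun x => LinearMap.congr_fun hur x⟩

end Groth.Agent.S4431
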