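import Groth.Agent.L18.CharpolyIntegral
import Mathlib.RingTheory.Localization.Submodule
import Mathlib.RingTheory.LocalProperties.Reduced
import Groth.Statements.S4432
-- import your own Groth.Agent.* helpers here

set_option autoImplicit false
universe u
open EGA2

namespace Groth.Agent.S4432

/-- Let A be a reduced Noetherian ring, K its total ring of fractions, and E a finitely generated
A-module with K ⊗_A E free over K. The A-subalgebra of K generated by the coefficients of the
characteristic polynomials of v ⊗ 1 (v running through all endomorphisms of E), i.e. by all
elementary symmetric functions of all endomorphisms of E, is a finitely generated A-module. -/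
theorem result (A : Type u) [CommRing A] [IsNoetherianRing A] [IsReduced A]
    (E : Type u) [AddCommGroup E] [Module A E] [Module.Finite A E]
    [Module.Free (FractionRing A) (TensorProduct A (FractionRing A) E)] :
    (Algebra.adjoin A {c : FractionRing A | ∃ (v : E →ₗ[A] E) (j : ℕ),
        c = ((v.baseChange (FractionRing A)).charpoly).coeff j}).toSubmodule.FG := by
  have : IsNoetherianRing (FractionRing A) := IsLocalization.isNoetherianRing (nonZeroDivisors A) _ inferInstance
  have : IsReduced (FractionRing A) := isReduced_localizationPreserves (nonZeroDivisors A) _ inferInstance
  exact Groth.L18.Charpoly.fg_adjoin_charpoly_coeffs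

end Groth.Agent.S4432
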