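import Groth.Agent.L18.DominatingDVR
import Groth.Statements.S4434
-- import your own Groth.Agent.* helpers here

set_option autoImplicit false
universe u
open EGA2

namespace Groth.Agent.S4434

/-- Let A be a Noetherian domain with field of fractions K and L a finitely generated field extension of
K. The integral closure of A in L is the intersection of the discrete valuation subrings of L (with
fraction field L) containing the image of A: an element of L is integral over A exactly when it
belongs to all of them. -/
theorem result (A : Type u) [CommRing A] [IsDomain A] [IsNoetherianRing A]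
    (K : Type u) [Field K] [Algebra A K] [IsFractionRing A K]
    (L : Type u) [Field L] [Algebra K L] [Algebra A L] [IsScalarTower A K L] (hfg : (⊤ : IntermediateField K L).FG) (x : L) :
    IsIntegral A x ↔ ∀ R : ValuationSubring L, IsDiscreteValuationRing R → (∀ a : A, algebraMap A L a ∈ R) → x ∈ R := by
  classical
  constructor
  · intro hx R _ hR
    let _ : Algebra A R := ((algebraMap A L).codRestrict R.toSubring hR).toAlgebra
    have : IsScalarTower A R L := IsScalarTower.of_algebraMap_eq' rfl
    obtain ⟨y, hy⟩ := IsIntegrallyClosed.isIntegral_iff.mp (hx.tower_top : IsIntegral R x)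
    exact hy ▸ y.2
  · intro h
    by_contra hx
    have hx0 : x ≠ 0 := fun h0 => hx (h0 ▸ isIntegral_zero)
    have : Invertible x := invertibleOfNonzero hx0
    let B : Subalgebra A L := Algebra.adjoin A {x⁻¹}
    let ξ : B := ⟨x⁻¹, Algebra.subset_adjoin rfl⟩
    have : IsNoetherianRing B := by
      have : Algebra.FiniteType A B :=
        (Subalgebra.fg_iff_finiteType B).mp ⟨{x⁻¹}, by rw [Finset.coe_singleton]⟩
      exact Algebra.FiniteType.isNoetherianRing A B
    have hne : Ideal.span {ξ} ≠ ⊤ := by
      intro htop
      obtain ⟨p, hp, hpx⟩ :=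
        Algebra.exists_aeval_invOf_eq_zero_of_idealMap_adjoin_sup_span_eq_top _
          (⊥ : Ideal A) bot_ne_top (top_unique <| htop.ge.trans le_sup_right)
      exact hx ⟨p, by simpa [Polynomial.Monic, sub_eq_zero] using hp, hpx⟩
    obtain ⟨V, hV, hVn⟩ := Ideal.image_subset_nonunits_valuationSubring
      (A := B.toSubring) (Ideal.span {ξ}) hne
    obtain ⟨t, ht⟩ := hfg
    have hgen : Subfield.closure (Set.range (algebraMap B L) ∪ (t : Set L)) = ⊤ := by
      refine top_unique ((Groth.L18.closure_range_union_eq_top (A := A) K ht).ge.trans ?_)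
      refine Subfield.closure_mono (Set.union_subset_union_left _ ?_)
      rintro _ ⟨a, rfl⟩
      exact ⟨algebraMap A B a, rfl⟩
    obtain ⟨R, hR, hBR, hξR⟩ := Groth.L18.exists_isDiscreteValuationRing_of_le
      t.finite_toSet hgen (Ideal.span {ξ}) V (fun b => hV b.2) (fun b hb => hVn ⟨b, hb, rfl⟩)
      ⟨ξ, Ideal.subset_span rfl, inv_ne_zero hx0⟩
    have h1 : R.valuation x⁻¹ < 1 := hξR ξ (Ideal.subset_span rfl)
    have h2 := (R.valuation_le_one_iff x).mpr (h R hR fun a => hBR (algebraMap A B a))
    have h3 : (1 : R.ValueGroup) < 1 :=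
      calc (1 : R.ValueGroup) = R.valuation x⁻¹ * R.valuation x := by
            rw [← map_mul, inv_mul_cancel₀ hx0, map_one]
        _ ≤ R.valuation x⁻¹ * 1 := mul_le_mul_right h2 _
        _ < 1 := by rwa [mul_one]
    exact lt_irrefl _ h3

end Groth.Agent.S4434
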