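import Groth.Agent.L18.NormModule
import Groth.Agent.L18.NormPre
import Groth.Agent.L18.NormRelAmple
import Groth.Statements.S4438
-- import your own Groth.Agent.* helpers here

set_option autoImplicit false
universe u
open CategoryTheory CategoryTheory.Limits AlgebraicGeometry
open EGA2

namespace Groth.Agent.S4438

/-- In existence form: let f : X ⟶ Y be a quasi-compact morphism and g : X' ⟶ X a finite surjective
morphism such that the direct image of O_{X'} is a finite locally free O_X-module. Then there is an
invertible O_X-module ample relative to f if and only if there is an invertible O_{X'}-module ample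
relative to f ∘ g. (For the descent direction the published statement names the module on X, the
norm of the given one; this row asserts existence only. The other direction is the inverse image
along the affine morphism g.) -/
theorem result {X X' Y : Scheme.{u}} (f : X ⟶ Y) [QuasiCompact f]
    (g : X' ⟶ X) [IsFinite g] [Surjective g]
    (hfree : FlatMod.IsFinLocFree ((Coh.push g).obj (Coh.structureModule X'))) :
    (∃ L : X.Modules, PicF.IsInvertible L ∧ RelAmple.IsRelAmple f L) ↔
      ∃ L' : X'.Modules, PicF.IsInvertible L' ∧ RelAmple.IsRelAmple (g ≫ f) L' := by
  constructor
  · rintro ⟨L, hL, h⟩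
    exact ⟨_, Groth.L18.Ample.isInvertible_pullback g hL,
      Groth.L18.Ample.isRelAmple_pullback_quasiAffine f g (Groth.L18.NormFree.isQuasiAffineHom_of_isAffineHom g) h⟩
  · rintro ⟨L', hL', h⟩
    obtain ⟨N⟩ := Groth.L18.NormFree.exists_preNorm_of_goodBases (Groth.L18.NormFree.exists_goodBasis hfree)
    exact Groth.L18.NormDesc.exists_isRelAmple_of_preNorm f N h hL'

end Groth.Agent.S4438
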