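import Groth.Agent.L18.ValCrit2
import Groth.Statements.S4441
-- import your own Groth.Agent.* helpers here

set_option autoImplicit false
universe u
open CategoryTheory CategoryTheory.Limits AlgebraicGeometry
open EGA2

namespace Groth.Agent.S4441

/-- Let X and Y be integral separated schemes and f : X ⟶ Y a dominant, quasi-compact, universally
closed morphism, ξ the generic point of X. Every valuation subring R of the function field K(X) of X
which dominates the local ring of Y at a point y (via O_{Y,y} → O_{Y,f(ξ)} → K(X): image inside R,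
maximal ideal into the maximal ideal of R) also dominates the local ring of X at some point x (via
O_{X,x} → K(X)). -/
theorem result {X Y : Scheme.{u}} [IsIntegral X] [IsIntegral Y]
    [X.IsSeparated] [Y.IsSeparated] (f : X ⟶ Y) [IsDominant f] [QuasiCompact f] [UniversallyClosed f]
    (R : ValuationSubring X.functionField) (y : Y) (hy : f.base (genericPoint X) ⤳ y)
    (hdom : (∀ a : Y.presheaf.stalk y, (Y.presheaf.stalkSpecializes hy ≫ f.stalkMap (genericPoint X)).hom a ∈ R) ∧
      ∀ a ∈ IsLocalRing.maximalIdeal (Y.presheaf.stalk y),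
        R.valuation ((Y.presheaf.stalkSpecializes hy ≫ f.stalkMap (genericPoint X)).hom a) < 1) :
    ∃ x : X, (∀ a : X.presheaf.stalk x, algebraMap (X.presheaf.stalk x) X.functionField a ∈ R) ∧
      ∀ a ∈ IsLocalRing.maximalIdeal (X.presheaf.stalk x), R.valuation (algebraMap (X.presheaf.stalk x) X.functionField a) < 1 := by
  have hex : ValuativeCriterion.Existence f := by
    have : UniversallyClosed f := inferInstance
    rw [UniversallyClosed.eq_valuativeCriterion] at this
    exact this.1
  set ψ := (Y.presheaf.stalkSpecializes hy ≫ f.stalkMap (genericPoint X)) with hψ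
  let θ : Y.presheaf.stalk y ⟶ CommRingCat.of R :=
    CommRingCat.ofHom (ψ.hom.codRestrict R.toSubring hdom.1)
  let gen : Spec (CommRingCat.of X.functionField) ⟶ X := X.fromSpecStalk (genericPoint X)
  let i₂ : Spec (CommRingCat.of R) ⟶ Y := Spec.map θ ≫ Y.fromSpecStalk y
  have w : gen ≫ f = Spec.map (CommRingCat.ofHom R.subtype) ≫ i₂ := by
    simp only [gen, i₂]
    rw [← Scheme.SpecMap_stalkMap_fromSpecStalk,
      ← Scheme.SpecMap_stalkSpecializes_fromSpecStalk hy]
    simp only [← Spec.map_comp_assoc]
    rfl
  let S : ValuativeCommSq f := ⟨R, X.functionField, gen, i₂, ⟨w⟩⟩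
  obtain ⟨⟨⟨l, hl, -⟩⟩⟩ := hex S
  change Spec.map (CommRingCat.ofHom R.subtype) ≫ l = gen at hl
  refine ⟨l (IsLocalRing.closedPoint R), ?_⟩
  have hsp : genericPoint X ⤳ l (IsLocalRing.closedPoint R) := (genericPoint_spec X).specializes trivial
  have e : Scheme.stalkClosedPointTo l ≫ CommRingCat.ofHom R.subtype =
      X.presheaf.stalkSpecializes hsp := by
    apply Spec.map_injective
    rw [← cancel_mono (X.fromSpecStalk (l (IsLocalRing.closedPoint R))),
      Scheme.SpecMap_stalkSpecializes_fromSpecStalk, Spec.map_comp, Category.assoc,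
      Scheme.Spec_stalkClosedPointTo_fromSpecStalk]
    exact hl
  have he : ∀ a, algebraMap (X.presheaf.stalk (l (IsLocalRing.closedPoint R))) X.functionField a =
      ((Scheme.stalkClosedPointTo l).hom a : X.functionField) := fun a => congr($e.symm a)
  refine ⟨fun a => Set.mem_of_eq_of_mem (he a) ((Scheme.stalkClosedPointTo l).hom a).2, fun a ha => ?_⟩
  rw [he]
  refine (R.valuation_lt_one_iff _).mp fun hu => ha ?_
  exact (Scheme.isLocalHom_stalkClosedPointTo' l).map_nonunit a hu

end Groth.Agent.S4441
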