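import Groth.Agent.L16.RatMapExt
import Groth.Statements.S9799
-- import your own Groth.Agent.* helpers here

set_option autoImplicit false
universe u
open CategoryTheory AlgebraicGeometry TopologicalSpace
open Props

namespace Groth.Agent.S9799

/-- Let X be a normal scheme (all local rings are integrally closed domains) such that every
quasi-compact open subset has finitely many irreducible components. Then the irreducible components
of X are open and pairwise disjoint; hence X is the disjoint union of its irreducible components,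
each an open subscheme which is normal and integral. -/
theorem result (X : Scheme.{u})
    (hfin : ∀ U : X.Opens, IsCompact (U : Set X) → (irreducibleComponents ↥U).Finite)
    (hN : Pi1.IsNormalScheme X) :
    (∀ Z ∈ irreducibleComponents X, IsOpen Z) ∧
      ∀ Z ∈ irreducibleComponents X, ∀ Z' ∈ irreducibleComponents X, Z ≠ Z' → Disjoint Z Z' := by
  have huniq : ∀ x : X, ∀ Z ∈ irreducibleComponents X, ∀ Z' ∈ irreducibleComponents X, x ∈ Z → x ∈ Z' → Z = Z' := by
    intro x Z hZ Z' hZ' hxZ hxZ'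
    obtain ⟨z, hz, rfl⟩ := (Groth.L16.bijOn_irreducibleComponents_specStalk X x).surjOn ⟨hZ, hxZ⟩
    obtain ⟨z', hz', rfl⟩ := (Groth.L16.bijOn_irreducibleComponents_specStalk X x).surjOn ⟨hZ', hxZ'⟩
    haveI := (hN x).1
    haveI : IrreducibleSpace (Spec (X.presheaf.stalk x)) := PrimeSpectrum.irreducibleSpace
    simp only [Set.mem_setOf_eq, irreducibleComponents_eq_singleton, Set.mem_singleton_iff] at hz hz'
    have : z = z' := ((inseparable_iff_closure_eq).2 (hz.trans hz'.symm)).eq
    rw [this]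
  refine ⟨fun Z hZ => ?_, fun Z hZ Z' hZ' hne => Set.disjoint_left.mpr fun x hx hx' => hne (huniq x Z hZ Z' hZ' hx hx')⟩
  rw [isOpen_iff_forall_mem_open]
  intro x hx
  obtain ⟨_, ⟨(U : X.Opens), hU, rfl⟩, hxU, -⟩ :=
    X.isBasis_affineOpens.exists_subset_of_mem_open (Set.mem_univ x) isOpen_univ
  let E : Set (Set X) := {W | W ∈ irreducibleComponents X ∧ W ≠ Z ∧ (W ∩ U).Nonempty}
  have hEfin : E.Finite := by
    refine Set.Finite.of_finite_image (f := fun W => Subtype.val ⁻¹' W) ((hfin U hU.isCompact).subset ?_) ?_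
    · rintro _ ⟨W, ⟨hW, -, ⟨w, hw, hwU⟩⟩, rfl⟩
      exact preimage_mem_irreducibleComponents hW U.2.isOpenEmbedding_subtypeVal
        ⟨w, hw, ⟨⟨w, hwU⟩, rfl⟩⟩
    · rintro W ⟨hW, -, ⟨w, hw, hwU⟩⟩ W' ⟨hW', -, -⟩ e
      exact huniq w W hW W' hW' hw ((Set.ext_iff.mp e ⟨w, hwU⟩).mp hw)
  refine ⟨(U : Set X) \ ⋃ W ∈ E, W, fun y ⟨hyU, hy⟩ => ?_,
    U.2.sdiff (hEfin.isClosed_biUnion fun W hW => isClosed_of_mem_irreducibleComponents W hW.1), hxU, ?_⟩
  · by_contra hyZ
    refine hy (Set.mem_iUnion₂.mpr ⟨irreducibleComponent y, ⟨irreducibleComponent_mem_irreducibleComponents y,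
      fun e => hyZ (e ▸ mem_irreducibleComponent), ⟨y, mem_irreducibleComponent, hyU⟩⟩, mem_irreducibleComponent⟩)
  · intro hx2
    obtain ⟨W, hW, hxW⟩ := Set.mem_iUnion₂.mp hx2
    exact hW.2.1 (huniq x W hW.1 Z hZ hxW hx)

end Groth.Agent.S9799
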