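import Groth.Statements.S4444
import Groth.Agent.S1625
import Groth.Agent.S7616
import Groth.Agent.S9799
import Groth.Agent.L16.CurveCompletion.Normal
import Groth.Agent.L16.ProjSpace.Basic
import Groth.Agent.L18.CurveDimension
import Groth.Agent.L22.SchemeDim
import Groth.Agent.L15.CohFlat
import Mathlib.AlgebraicGeometry.ZariskisMainTheorem
-- import your own Groth.Agent.* helpers here

set_option autoImplicit false
universe u
open CategoryTheory CategoryTheory.Limits AlgebraicGeometry
open EGA2

namespace Groth.Agent.S4444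

/-- A completion of `W` by a normal proper curve. -/
def Comp (k : Type u) [Field k] (W : Scheme.{u}) (q : W ⟶ Spec (CommRingCat.of k)) : Prop :=
  ∃ (Xc : Scheme.{u}) (sc : Xc ⟶ Spec (CommRingCat.of k)) (j : W ⟶ Xc), IsOpenImmersion j ∧
    Dense (Set.range j.base) ∧ j ≫ sc = q ∧ IsProper sc ∧ Pi1.IsNormalScheme Xc ∧
      ∀ x : Xc, IsClosed ({x} : Set Xc) → ringKrullDim (Xc.presheaf.stalk x) = 1

/-- The case of an integral curve. -/
theorem comp_of_isIntegral (k : Type u) [Field k] (Z : Scheme.{u}) [IsIntegral Z] (q : Z ⟶ Spec (CommRingCat.of k))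
    [LocallyOfFiniteType q] [QuasiCompact q] [IsSeparated q]
    (hcurve : ∀ x : Z, IsClosed ({x} : Set Z) → ringKrullDim (Z.presheaf.stalk x) = 1)
    (hnorm : Pi1.IsNormalScheme Z) : Comp k Z q := by
  letI : Z.Over (Spec (CommRingCat.of k)) := ⟨q⟩
  haveI : LocallyOfFiniteType (Z ↘ Spec (CommRingCat.of k)) := inferInstanceAs (LocallyOfFiniteType q)
  haveI : QuasiCompact (Z ↘ Spec (CommRingCat.of k)) := inferInstanceAs (QuasiCompact q)
  haveI : IsSeparated (Z ↘ Spec (CommRingCat.of k)) := inferInstanceAs (IsSeparated q)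
  haveI : CompactSpace Z := QuasiCompact.compactSpace_of_compactSpace q
  obtain ⟨n, hn, htr, -⟩ := Groth.L22.SchemeDim.exists_dim_eq_trdeg k Z
  have h1 := (Groth.L18.CurveDim.trdeg_generic_eq_one_iff (k := k)).2 hcurve (genericPoint Z)
    (by rw [genericPoint_closure, irreducibleComponents_eq_singleton]; rfl)
  have hn1 : n = 1 := by exact_mod_cast htr.symm.trans h1
  subst hn1
  obtain ⟨d, Y₁, c, j₁, hc, hj₁, hjc, hdense, -, -, -⟩ := Groth.Agent.S1625.result k Z hn.le
  haveI := hc
  haveI := hj₁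
  haveI : IsProper (CohB1.ProjSpace.toSpec d k) := Groth.L16.ProjSpace.isProper_toSpec d k
  letI : Y₁.Over (Spec (CommRingCat.of k)) := ⟨c ≫ CohB1.ProjSpace.toSpec d k⟩
  haveI : IsProper (Y₁ ↘ Spec (CommRingCat.of k)) :=
    inferInstanceAs (IsProper (c ≫ CohB1.ProjSpace.toSpec d k))
  haveI : IsLocallyNoetherian Y₁ := LocallyOfFiniteType.isLocallyNoetherian (Y₁ ↘ Spec (CommRingCat.of k))
  haveI : CompactSpace Y₁ := QuasiCompact.compactSpace_of_compactSpace (Y₁ ↘ Spec (CommRingCat.of k))
  haveI : AlgebraicGeometry.IsNoetherian Y₁ := {}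
  haveI : IsDominant j₁ := ⟨hdense⟩
  haveI : PreirreducibleSpace Y₁ := by
    refine ⟨?_⟩
    have h := (IrreducibleSpace.isIrreducible_univ Z).image j₁.base (by fun_prop)
    have h2 := h.closure
    rw [Set.image_univ, hdense.closure_eq] at h2
    exact h2.2
  haveI : j₁.IsOver (Spec (CommRingCat.of k)) := ⟨hjc⟩
  haveI : IsLocallyNoetherian Z := LocallyOfFiniteType.isLocallyNoetherian q
  haveI : AlgebraicGeometry.IsNoetherian Z := {}
  haveI : QuasiCompact j₁ := inferInstance
  haveI : IsFinite j₁.fromNormalization := Groth.Agent.S7616.result k Y₁ Z j₁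
  haveI : IsOpenImmersion j₁.toNormalization := inferInstance
  haveI : IsIntegral j₁.normalization := inferInstance
  have hnY : Pi1.IsNormalScheme j₁.normalization :=
    Groth.L16.CurveCompletion.isNormalScheme_normalization j₁
      (Groth.L16.CurveCompletion.isIntegrallyClosed_sections fun x => (hnorm x).2)
  let pY : j₁.normalization ⟶ Spec (CommRingCat.of k) :=
    j₁.fromNormalization ≫ (Y₁ ↘ Spec (CommRingCat.of k))
  letI : j₁.normalization.Over (Spec (CommRingCat.of k)) := ⟨pY⟩
  haveI hpr : IsProper pY := inferInstanceAs (IsProper (j₁.fromNormalization ≫ (Y₁ ↘ Spec (CommRingCat.of k))))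
  haveI : LocallyOfFiniteType (j₁.normalization ↘ Spec (CommRingCat.of k)) :=
    inferInstanceAs (LocallyOfFiniteType pY)
  obtain ⟨m, hm, -, hmU⟩ := Groth.L22.SchemeDim.exists_dim_eq_trdeg k j₁.normalization
  have hdimY : topologicalKrullDim j₁.normalization = 1 := by
    have h := hmU j₁.toNormalization.opensRange
      ⟨j₁.toNormalization (genericPoint Z), genericPoint Z, rfl⟩
    rw [hm, ← h]
    exact (Groth.L22.SchemeDim.topologicalKrullDim_eq_of_isEmbedding
      j₁.toNormalization.isOpenEmbedding.isEmbedding rfl).trans hn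
  refine ⟨j₁.normalization, pY, j₁.toNormalization, inferInstance, ?_, ?_, hpr, hnY, fun y hy => ?_⟩
  · exact j₁.toNormalization.isOpenEmbedding.isOpen_range.dense (Set.range_nonempty _)
  · show j₁.toNormalization ≫ j₁.fromNormalization ≫ _ = _
    rw [Scheme.Hom.toNormalization_fromNormalization_assoc]
    exact hjc
  · refine le_antisymm ((Groth.L15.CohFlat.ringKrullDim_stalk_le y).trans hdimY.le)
      ((Groth.L18.CurveDim.one_le_dim_stalk_iff y).2
        ⟨genericPoint _, (genericPoint_spec _).specializes trivial, fun e => ?_⟩)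
    have hall : ∀ z : j₁.normalization, z = y := fun z =>
      Groth.L18.CurveDim.eq_of_specializes_of_isClosed hy (e ▸ (genericPoint_spec _).specializes trivial)
    haveI : Subsingleton ↥j₁.normalization := ⟨fun a b => (hall a).trans (hall b).symm⟩
    have h0 : topologicalKrullDim j₁.normalization ≤ 0 := by
      haveI : Subsingleton (TopologicalSpace.IrreducibleCloseds ↥j₁.normalization) :=
        ⟨fun A B => SetLike.coe_injective ((Subsingleton.eq_univ_of_nonempty A.isIrreducible.nonempty).trans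
          (Subsingleton.eq_univ_of_nonempty B.isIrreducible.nonempty).symm)⟩
      exact Order.krullDim_nonpos_of_subsingleton
    rw [hdimY] at h0
    exact not_le.mpr zero_lt_one h0

/-- Properties local at the target pass to the coproduct of two morphisms. -/
theorem coprodMap {P : MorphismProperty Scheme.{u}} [IsZariskiLocalAtTarget P] {A B A' B' : Scheme.{u}}
    (f : A ⟶ A') (g : B ⟶ B') (hf : P f) (hg : P g) : P (coprod.map f g) := by
  refine (IsZariskiLocalAtTarget.iff_of_openCover (coprodOpenCover.{u, u} A' B')).2 fun i => ?_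
  rcases i with i | i
  · exact (P.arrow_mk_iso_iff (Arrow.isoMk (isPullback_inl_inl_coprodMap f g).flip.isoPullback (Iso.refl _)
      (by simp [coprodOpenCover, Scheme.Cover.pullbackHom]))).1 hf
  · exact (P.arrow_mk_iso_iff (Arrow.isoMk (isPullback_inr_inr_coprodMap f g).flip.isoPullback (Iso.refl _)
      (by simp [coprodOpenCover, Scheme.Cover.pullbackHom]))).1 hg

theorem stalk_transfer {A B : Scheme.{u}} (i : A ⟶ B) [IsOpenImmersion i] (a : A) :
    ((IsDomain (A.presheaf.stalk a) ∧ IsIntegrallyClosed (A.presheaf.stalk a)) ↔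
      (IsDomain (B.presheaf.stalk (i a)) ∧ IsIntegrallyClosed (B.presheaf.stalk (i a)))) ∧
    ringKrullDim (A.presheaf.stalk a) = ringKrullDim (B.presheaf.stalk (i a)) := by
  let e := (asIso (i.stalkMap a)).commRingCatIsoToRingEquiv
  refine ⟨⟨fun h => ?_, fun h => ?_⟩, (ringKrullDim_eq_of_ringEquiv e).symm⟩
  · haveI := h.1
    haveI := h.2
    haveI := e.toMulEquiv.isDomain _
    exact ⟨inferInstance, IsIntegrallyClosed.of_equiv e.symm⟩
  · haveI := h.1
    haveI := h.2
    haveI := e.symm.toMulEquiv.isDomain _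
    exact ⟨inferInstance, IsIntegrallyClosed.of_equiv e⟩

/-- Completions of the two parts of a disjoint decomposition give a completion. -/
theorem comp_of_isColimit {k : Type u} [Field k] {U V W : Scheme.{u}} (a : U ⟶ W) (b : V ⟶ W)
    (hc : IsColimit (BinaryCofan.mk a b)) (q : W ⟶ Spec (CommRingCat.of k))
    (hU : Comp k U (a ≫ q)) (hV : Comp k V (b ≫ q)) : Comp k W q := by
  obtain ⟨A, sA, jA, hjA, hdA, hcA, hpA, hnA, hkA⟩ := hU
  obtain ⟨B, sB, jB, hjB, hdB, hcB, hpB, hnB, hkB⟩ := hV
  let e : (U ⨿ V : Scheme.{u}) ≅ W := (coprodIsCoprod U V).coconePointUniqueUpToIso hc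
  have el : coprod.inl ≫ e.hom = a :=
    (coprodIsCoprod U V).comp_coconePointUniqueUpToIso_hom hc ⟨WalkingPair.left⟩
  have er : coprod.inr ≫ e.hom = b :=
    (coprodIsCoprod U V).comp_coconePointUniqueUpToIso_hom hc ⟨WalkingPair.right⟩
  haveI : IsOpenImmersion (coprod.map jA jB) := coprodMap (P := @IsOpenImmersion) jA jB hjA hjB
  haveI : IsProper (coprod.map sA sB) := coprodMap (P := @IsProper) sA sB hpA hpB
  let fold : Spec (CommRingCat.of k) ⨿ Spec (CommRingCat.of k) ⟶ Spec (CommRingCat.of k) :=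
    coprod.desc (𝟙 _) (𝟙 _)
  refine ⟨A ⨿ B, coprod.map sA sB ≫ fold, e.inv ≫ coprod.map jA jB, inferInstance, ?_, ?_, inferInstance,
    fun z => ?_, fun z hz => ?_⟩
  · have hs : Set.range (e.inv ≫ coprod.map jA jB).base = Set.range (coprod.map jA jB).base := by
      rw [Scheme.Hom.comp_base, TopCat.coe_comp, Set.range_comp, Set.range_eq_univ.2 e.inv.surjective,
        Set.image_univ]
    rw [hs, dense_iff_closure_eq, Set.eq_univ_iff_forall]
    intro z
    obtain ⟨(z | z), rfl⟩ := (coprodMk A B).surjective z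
    · rw [coprodMk_inl]
      refine closure_mono ?_ (image_closure_subset_closure_image
        (coprod.inl : A ⟶ A ⨿ B).continuous ⟨z, hdA z, rfl⟩)
      rintro _ ⟨_, ⟨y, rfl⟩, rfl⟩
      refine ⟨(coprod.inl : U ⟶ U ⨿ V) y, ?_⟩
      rw [← Scheme.Hom.comp_apply, coprod.inl_map, Scheme.Hom.comp_apply]
    · rw [coprodMk_inr]
      refine closure_mono ?_ (image_closure_subset_closure_image
        (coprod.inr : B ⟶ A ⨿ B).continuous ⟨z, hdB z, rfl⟩)
      rintro _ ⟨_, ⟨y, rfl⟩, rfl⟩
      refine ⟨(coprod.inr : V ⟶ U ⨿ V) y, ?_⟩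
      rw [← Scheme.Hom.comp_apply, coprod.inr_map, Scheme.Hom.comp_apply]
  · rw [Category.assoc, Iso.inv_comp_eq]
    apply coprod.hom_ext
    · rw [← Category.assoc coprod.inl e.hom, el]; simp [fold, hcA, hcB, coprod.inl_desc]
    · rw [← Category.assoc coprod.inr e.hom, er]; simp [fold, hcA, hcB, coprod.inr_desc]
  · obtain ⟨(w | w), rfl⟩ := (coprodMk A B).surjective z
    · rw [coprodMk_inl]; exact (stalk_transfer coprod.inl w).1.1 (hnA w)
    · rw [coprodMk_inr]; exact (stalk_transfer coprod.inr w).1.1 (hnB w)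
  · obtain ⟨(w | w), rfl⟩ := (coprodMk A B).surjective z
    · rw [coprodMk_inl] at hz ⊢
      rw [← (stalk_transfer coprod.inl w).2]
      refine hkA w ?_
      have := hz.preimage (coprod.inl : A ⟶ A ⨿ B).continuous
      rwa [← Set.image_singleton (f := (coprod.inl : A ⟶ A ⨿ B)),
        Set.preimage_image_eq _ (coprod.inl : A ⟶ A ⨿ B).isOpenEmbedding.injective] at this
    · rw [coprodMk_inr] at hz ⊢
      rw [← (stalk_transfer coprod.inr w).2]
      refine hkB w ?_
      have := hz.preimage (coprod.inr : B ⟶ A ⨿ B).continuous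
      rwa [← Set.image_singleton (f := (coprod.inr : B ⟶ A ⨿ B)),
        Set.preimage_image_eq _ (coprod.inr : B ⟶ A ⨿ B).isOpenEmbedding.injective] at this

theorem comp_of_isEmpty (k : Type u) [Field k] (W : Scheme.{u}) [IsEmpty W]
    (q : W ⟶ Spec (CommRingCat.of k)) : Comp k W q :=
  ⟨W, q, 𝟙 W, inferInstance, fun x => isEmptyElim x, Category.id_comp q, inferInstance,
    fun x => isEmptyElim x, fun x => isEmptyElim x⟩

/-- Every normal algebraic curve X over a field k (separated and of finite type over k, nonempty, local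
rings at closed points of dimension one, all local rings integrally closed domains) admits a
k-morphism which is an open immersion with dense image into a normal algebraic curve proper over k.
(The uniqueness of this completion up to unique isomorphism is not part of this row.) -/
theorem result (k : Type u) [Field k] (X : Scheme.{u})
    [X.Over (Spec (CommRingCat.of k))] [LocallyOfFiniteType (X ↘ (Spec (CommRingCat.of k)))]
    [QuasiCompact (X ↘ (Spec (CommRingCat.of k)))] [IsSeparated (X ↘ (Spec (CommRingCat.of k)))] [Nonempty X]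
    (hcurve : ∀ x : X, IsClosed ({x} : Set X) → ringKrullDim (X.presheaf.stalk x) = 1) (hnorm : Pi1.IsNormalScheme X) :
    ∃ (Xc : Scheme.{u}) (sc : Xc ⟶ Spec (CommRingCat.of k)) (j : X ⟶ Xc), IsOpenImmersion j ∧ Dense (Set.range j.base) ∧
      j ≫ sc = X ↘ (Spec (CommRingCat.of k)) ∧ IsProper sc ∧ Pi1.IsNormalScheme Xc ∧
      ∀ x : Xc, IsClosed ({x} : Set Xc) → ringKrullDim (Xc.presheaf.stalk x) = 1 := by
  let q := X ↘ Spec (CommRingCat.of k)
  haveI : IsLocallyNoetherian X := LocallyOfFiniteType.isLocallyNoetherian q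
  haveI : CompactSpace X := QuasiCompact.compactSpace_of_compactSpace q
  haveI : AlgebraicGeometry.IsNoetherian X := {}
  haveI : ∀ x : X, IsReduced (Spec (X.presheaf.stalk x)) := fun x => by
    haveI := (hnorm x).1; infer_instance
  haveI : IsReduced X := by
    haveI : ∀ x : X, _root_.IsReduced (X.presheaf.stalk x) := fun x => by
      haveI := (hnorm x).1; infer_instance
    exact isReduced_of_isReduced_stalk X
  obtain ⟨hopen, -⟩ := Groth.Agent.S9799.result X
    (fun U _ => by
      haveI : TopologicalSpace.NoetherianSpace ↥U := TopologicalSpace.NoetherianSpace.set (U : Set X)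
      exact TopologicalSpace.NoetherianSpace.finite_irreducibleComponents) hnorm
  suffices H : ∀ C : TopologicalSpace.Closeds X, ∀ hC : IsOpen (C : Set X),
      Comp k (Scheme.Opens.toScheme (⟨C, hC⟩ : X.Opens)) (Scheme.Opens.ι (⟨C, hC⟩ : X.Opens) ≫ q) by
    obtain ⟨Xc, sc, j, hj, hd, hc, hp, hn, hk⟩ := H ⊤ isOpen_univ
    let e := X.topIso
    refine ⟨Xc, sc, e.inv ≫ j, inferInstance, ?_, ?_, hp, hn, hk⟩
    · rwa [Scheme.Hom.comp_base, TopCat.coe_comp, Set.range_comp, Set.range_eq_univ.2 e.inv.surjective,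
        Set.image_univ]
    · rw [Category.assoc, Iso.inv_comp_eq]
      exact hc
  intro C
  induction C using WellFoundedLT.induction with
  | ind C ih =>
  intro hC
  set Co : X.Opens := ⟨C, hC⟩
  rcases (C : Set X).eq_empty_or_nonempty with he | ⟨x, hx⟩
  · haveI : IsEmpty Co.toScheme := ⟨fun z => (Set.ext_iff.1 he z.1).1 z.2⟩
    exact comp_of_isEmpty k _ _
  let Z := irreducibleComponent x
  have hZc := irreducibleComponent_mem_irreducibleComponents x
  have hZC : Z ⊆ C := (isIrreducible_irreducibleComponent.isConnected.isPreconnected).subset_isClopen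
    ⟨C.2, hC⟩ ⟨x, mem_irreducibleComponent, hx⟩
  let U : X.Opens := ⟨Z, hopen Z hZc⟩
  let R : TopologicalSpace.Closeds X := ⟨(C : Set X) \ Z, C.2.sdiff (hopen Z hZc)⟩
  have hR : IsOpen (R : Set X) := hC.sdiff isClosed_irreducibleComponent
  have hRC : R < C := lt_of_le_of_ne (fun z hz => hz.1) fun e =>
    ((SetLike.ext_iff.1 e x).2 hx).2 mem_irreducibleComponent
  have hVC := ih R hRC hR
  haveI : IrreducibleSpace U.toScheme :=
    Subtype.irreducibleSpace (s := Z) isIrreducible_irreducibleComponent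
  haveI : IsIntegral U.toScheme := isIntegral_of_irreducibleSpace_of_isReduced _
  have hUcomp : Comp k U.toScheme (U.ι ≫ q) := by
    refine comp_of_isIntegral k U.toScheme (U.ι ≫ q) (fun z hz => ?_)
      fun z => (stalk_transfer U.ι z).1.2 (hnorm _)
    rw [(stalk_transfer U.ι z).2]
    refine hcurve _ ?_
    have hUclosed : IsClosed (Set.range U.ι.base) := by
      rw [Scheme.Opens.range_ι]; exact isClosed_irreducibleComponent
    rw [← Set.image_singleton (f := U.ι)]
    exact (Topology.IsClosedEmbedding.isClosedMap ⟨U.ι.isOpenEmbedding.isEmbedding, hUclosed⟩) _ hz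
  let V : X.Opens := ⟨R, hR⟩
  have hU : U ≤ Co := fun z hz => hZC hz
  have hV : V ≤ Co := fun z hz => hz.1
  have hcompl : IsCompl (X.homOfLE hU).opensRange (X.homOfLE hV).opensRange := by
    have hrU : (X.homOfLE hU).opensRange = Co.ι ⁻¹ᵁ U := Scheme.opensRange_homOfLE hU
    have hrV : (X.homOfLE hV).opensRange = Co.ι ⁻¹ᵁ V := Scheme.opensRange_homOfLE hV
    rw [hrU, hrV]
    refine IsCompl.of_eq ?_ ?_
    · ext z
      exact ⟨fun h => h.2.2 h.1, fun h => h.elim⟩
    · ext z
      refine ⟨fun _ => trivial, fun _ => ?_⟩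
      by_cases h : z.1 ∈ Z
      exacts [Or.inl h, Or.inr ⟨z.2, h⟩]
  obtain ⟨hc⟩ := nonempty_isColimit_binaryCofanMk_of_isCompl (X.homOfLE hU) (X.homOfLE hV) hcompl
  exact comp_of_isColimit _ _ hc _ (by rw [Scheme.homOfLE_ι_assoc]; exact hUcomp)
    (by rw [Scheme.homOfLE_ι_assoc]; exact hVC)

end Groth.Agent.S4444
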