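import Groth.Agent.S2344
import Mathlib.AlgebraicGeometry.SpreadingOut
import Groth.Statements.S4445
-- import your own Groth.Agent.* helpers here

set_option autoImplicit false
universe u
open CategoryTheory CategoryTheory.Limits AlgebraicGeometry
attribute [local instance] Curv2.stalkAlgebra
open EGA2

namespace Groth.Agent.S4445

theorem fromSpecStalk_comp {X : Scheme.{u}} {R : CommRingCat.{u}} (p : X ⟶ Spec R) (x : X) :
    X.fromSpecStalk x ≫ p =
      Spec.map ((Scheme.ΓSpecIso R).inv ≫ p.appTop ≫ X.presheaf.germ ⊤ x trivial) := by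
  have h : p = X.toSpecΓ ≫ Spec.map p.appTop ≫ Spec.map (Scheme.ΓSpecIso R).inv := by
    rw [← Scheme.toSpecΓ_naturality_assoc, ← SpecMap_ΓSpecIso_hom, ← Spec.map_comp,
      Iso.inv_hom_id, Spec.map_id, Category.comp_id]
  conv_lhs => rw [h]
  rw [Scheme.fromSpecStalk_toSpecΓ_assoc, ← Spec.map_comp, ← Spec.map_comp, Category.assoc]

theorem specMap_fromSpecStalk_over (k : Type u) [Field k] (X Y : Scheme.{u})
    [X.Over (Spec (CommRingCat.of k))] [Y.Over (Spec (CommRingCat.of k))] (x : X) (y : Y)
    (φ : Y.presheaf.stalk y ⟶ X.presheaf.stalk x)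
    (hφ : φ.hom.comp (Curv2.stalkMap k Y y) = Curv2.stalkMap k X x) :
    (Spec.map φ ≫ Y.fromSpecStalk y) ≫ Y ↘ Spec (CommRingCat.of k) =
      X.fromSpecStalk x ≫ X ↘ Spec (CommRingCat.of k) := by
  rw [Category.assoc, fromSpecStalk_comp, fromSpecStalk_comp, ← Spec.map_comp]
  congr 1
  ext c
  exact RingHom.congr_fun hφ c

/-- Let X be a normal irreducible algebraic curve over a field k with field of rational functions K, and
Y an integral complete (proper over k) algebraic curve with field of rational functions L. Dominant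
k-morphisms X ⟶ Y correspond bijectively to k-embeddings L → K: for every k-algebra homomorphism φ :
L → K there is exactly one k-morphism u : X ⟶ Y mapping the generic point of X to the generic point
of Y and inducing φ on the stalks at the generic points. -/
theorem result (k : Type u) [Field k] (X Y : Scheme.{u})
    [X.Over (Spec (CommRingCat.of k))] [LocallyOfFiniteType (X ↘ (Spec (CommRingCat.of k)))]
    [QuasiCompact (X ↘ (Spec (CommRingCat.of k)))] [IsSeparated (X ↘ (Spec (CommRingCat.of k)))] [IsIntegral X]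
    (hX : ∀ x : X, IsClosed ({x} : Set X) → ringKrullDim (X.presheaf.stalk x) = 1) (hnorm : Pi1.IsNormalScheme X)
    [Y.Over (Spec (CommRingCat.of k))] [IsProper (Y ↘ (Spec (CommRingCat.of k)))] [IsIntegral Y]
    (hY : ∀ y : Y, IsClosed ({y} : Set Y) → ringKrullDim (Y.presheaf.stalk y) = 1)
    (φ : Y.functionField →ₐ[k] X.functionField) :
    ∃! u : X ⟶ Y, u ≫ (Y ↘ (Spec (CommRingCat.of k))) = X ↘ (Spec (CommRingCat.of k)) ∧
      ∃ hu : u.base (genericPoint X) = genericPoint Y,
        (Y.presheaf.stalkSpecializes (specializes_of_eq hu) ≫ u.stalkMap (genericPoint X)).hom = (φ : Y.functionField →+* X.functionField) := by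
  let pX := X ↘ (Spec (CommRingCat.of k))
  let pY := Y ↘ (Spec (CommRingCat.of k))
  haveI : LocallyOfFiniteType pY := inferInstance
  let φs : Spec (X.presheaf.stalk (genericPoint X)) ⟶ Y :=
    Spec.map (CommRingCat.ofHom (φ : Y.functionField →+* X.functionField)) ≫ Y.fromSpecStalk (genericPoint Y)
  have hφs : φs ≫ pY = X.fromSpecStalk (genericPoint X) ≫ pX :=
    specMap_fromSpecStalk_over k X Y _ _ _ (RingHom.ext φ.commutes)
  obtain ⟨U, hxU, f, hf, hfp⟩ := spread_out_of_isGermInjective' pX pY φs hφs
  obtain ⟨u, ⟨hu, hup⟩, -⟩ := Groth.Agent.S2344.result k X Y hX hnorm U (U.2.dense ⟨_, hxU⟩) f hfp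
  have hpt : φs (IsLocalRing.closedPoint (X.presheaf.stalk (genericPoint X))) = genericPoint Y := by
    haveI : Subsingleton ↥(Spec Y.functionField) :=
      inferInstanceAs (Subsingleton (PrimeSpectrum Y.functionField))
    refine (congrArg (fun t => Y.fromSpecStalk (genericPoint Y) t) (Subsingleton.elim
      (α := ↥(Spec Y.functionField)) _ (IsLocalRing.closedPoint Y.functionField))).trans ?_
    exact Scheme.fromSpecStalk_closedPoint
  have key : ∀ v : X ⟶ Y, (X.fromSpecStalk (genericPoint X) ≫ v = φs ↔
      ∃ hv : v.base (genericPoint X) = genericPoint Y,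
        (Y.presheaf.stalkSpecializes (specializes_of_eq hv) ≫ v.stalkMap (genericPoint X)).hom =
          (φ : Y.functionField →+* X.functionField)) := by
    intro v
    have hsq : ∀ hv : v.base (genericPoint X) = genericPoint Y,
        Spec.map (Y.presheaf.stalkSpecializes (specializes_of_eq hv) ≫ v.stalkMap (genericPoint X)) ≫
          Y.fromSpecStalk (genericPoint Y) = X.fromSpecStalk (genericPoint X) ≫ v := fun hv => by
      rw [Spec.map_comp, Category.assoc, Scheme.SpecMap_stalkSpecializes_fromSpecStalk,
        Scheme.SpecMap_stalkMap_fromSpecStalk]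
    constructor
    · intro h
      have hv : v.base (genericPoint X) = genericPoint Y := by
        rw [← hpt, ← h, Scheme.Hom.comp_apply]
        erw [Scheme.fromSpecStalk_closedPoint]
      refine ⟨hv, ?_⟩
      have h1 : Spec.map (Y.presheaf.stalkSpecializes (specializes_of_eq hv) ≫ v.stalkMap (genericPoint X)) =
          Spec.map (CommRingCat.ofHom (φ : Y.functionField →+* X.functionField)) := by
        rw [← cancel_mono (Y.fromSpecStalk (genericPoint Y)), hsq hv, h]; rfl
      exact congrArg CommRingCat.Hom.hom (Spec.map_injective h1)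
    · rintro ⟨hv, h⟩
      rw [← hsq hv]
      exact congrArg (fun t => Spec.map t ≫ Y.fromSpecStalk (genericPoint Y)) (CommRingCat.hom_ext h)
  have hu' : X.fromSpecStalk (genericPoint X) ≫ u = φs := by
    rw [hf, ← Scheme.Opens.fromSpecStalkOfMem_ι U (genericPoint X) hxU, Category.assoc, hu]
  refine ⟨u, ⟨hup, (key u).mp hu'⟩, fun v ⟨hvp, hv⟩ => ?_⟩
  haveI : IsDominant (X.fromSpecStalk (genericPoint X)) := ⟨fun x => by
    refine closure_mono (s := {genericPoint X}) ?_ (by rw [genericPoint_closure]; trivial)
    rw [Set.singleton_subset_iff, Scheme.range_fromSpecStalk]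
    exact specializes_rfl⟩
  exact ext_of_isDominant_of_isSeparated pY (hvp.trans hup.symm) (X.fromSpecStalk (genericPoint X))
    (((key v).mpr hv).trans hu'.symm)

end Groth.Agent.S4445
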