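import Groth.Agent.L18.ValCrit2
import Mathlib.AlgebraicGeometry.Morphisms.Proper
import Groth.Statements.S4449
-- import your own Groth.Agent.* helpers here

set_option autoImplicit false
universe u
open CategoryTheory CategoryTheory.Limits AlgebraicGeometry
open EGA2

namespace Groth.Agent.S4449

/-- Case of an arbitrary integral separated base: let Y and X be integral separated schemes and f : X ⟶
Y a dominant morphism of finite type, ξ the generic point of X. Suppose that every valuation subring
R of K(X) other than K(X) itself which dominates the local ring of Y at a point y (via O_{Y,y} →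
O_{Y,f(ξ)} → K(X)) dominates the local ring of X at some point x (via O_{X,x} → K(X)). Then f is
proper. (Compare the locally Noetherian variant with discrete valuation rings.) -/
theorem result {X Y : Scheme.{u}} [IsIntegral X] [IsIntegral Y]
    [X.IsSeparated] [Y.IsSeparated] (f : X ⟶ Y) [IsDominant f] [LocallyOfFiniteType f] [QuasiCompact f]
    (h : ∀ (R : ValuationSubring X.functionField), R ≠ ⊤ →
      ∀ (y : Y) (hy : f.base (genericPoint X) ⤳ y),
        ((∀ a : Y.presheaf.stalk y, (Y.presheaf.stalkSpecializes hy ≫ f.stalkMap (genericPoint X)).hom a ∈ R) ∧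
          ∀ a ∈ IsLocalRing.maximalIdeal (Y.presheaf.stalk y),
            R.valuation ((Y.presheaf.stalkSpecializes hy ≫ f.stalkMap (genericPoint X)).hom a) < 1) →
        ∃ x : X, (∀ a : X.presheaf.stalk x, algebraMap (X.presheaf.stalk x) X.functionField a ∈ R) ∧
          ∀ a ∈ IsLocalRing.maximalIdeal (X.presheaf.stalk x), R.valuation (algebraMap (X.presheaf.stalk x) X.functionField a) < 1) :
    IsProper f := by
  have : IsSeparated (f ≫ terminal.from Y) := by
    rw [terminal.comp_from]; infer_instance
  have : IsSeparated f := IsSeparated.of_comp f (terminal.from Y)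
  set ξ := genericPoint X
  have hlift : ∀ (R : ValuationSubring (X.residueField ξ)) (φ : Spec (CommRingCat.of R) ⟶ Y),
      Spec.map (CommRingCat.ofHom R.subtype) ≫ φ = X.fromSpecResidueField ξ ≫ f →
      ∃ l : Spec (CommRingCat.of R) ⟶ X,
        l ≫ f = φ ∧ Spec.map (CommRingCat.ofHom R.subtype) ≫ l = X.fromSpecResidueField ξ := by
    intro R φ w
    by_cases hR : R.comap (X.residue ξ).hom = ⊤
    · have hall : ∀ a, a ∈ R := fun a => by
        obtain ⟨a', ha'⟩ := X.residue_surjective ξ a
        have := hR.ge (ValuationSubring.mem_top a')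
        exact Set.mem_of_eq_of_mem ha'.symm this
      let κ : X.residueField ξ →+* R := (RingHom.id _).codRestrict R.toSubring hall
      have hκ : Spec.map (CommRingCat.ofHom R.subtype) ≫ Spec.map (CommRingCat.ofHom κ) ≫
          X.fromSpecResidueField ξ = X.fromSpecResidueField ξ := by
        rw [← Spec.map_comp_assoc]
        exact (congrArg (· ≫ X.fromSpecResidueField ξ) (Spec.map_id _)).trans (Category.id_comp _)
      refine ⟨Spec.map (CommRingCat.ofHom κ) ≫ X.fromSpecResidueField ξ, ?_, hκ⟩
      refine Groth.L18.ext_of_isSeparated _ _ ?_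
      simp only [← Category.assoc] at hκ ⊢
      rw [hκ, w]
    · exact Groth.L18.exists_lift_of_center f R φ w fun y hy hd => h _ hR y hy hd
  refine .of_valuativeCriterion f (ValuativeCriterion.iff.mpr
    ⟨Groth.L18.existence_of_residueField f fun y V φ w => ?_, IsSeparated.valuativeCriterion f⟩)
  refine Groth.L18.exists_lift_of_refined (𝟙 X) f (z := ξ)
    ((genericPoint_spec X).specializes trivial) (fun R φ' w' => ?_)
    (fun R φ₁ φ₂ e₁ e₂ _ => Groth.L18.ext_of_isSeparated φ₁ φ₂ (e₁.trans e₂.symm)) V φ w
  obtain ⟨l, hl, hl'⟩ := hlift R φ' (by rw [w', Category.id_comp])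
  exact ⟨l, by rw [hl', Category.comp_id], hl⟩

end Groth.Agent.S4449
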