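import Groth.Agent.L18.CurveBasic
import Groth.Agent.L18.CurveCenter
import Groth.Agent.L18.Domination
import Mathlib.AlgebraicGeometry.ValuativeCriterion
import Groth.Statements.S4451
-- import your own Groth.Agent.* helpers here

set_option autoImplicit false
universe u
open CategoryTheory CategoryTheory.Limits AlgebraicGeometry
attribute [local instance] Curv2.stalkAlgebra
open EGA2

namespace Groth.Agent.S4451

/-- Let X be a normal, complete, irreducible algebraic curve over a field k with field of rational
functions K. The set of local rings of X, as subrings of K, consists of K itself (at the generic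
point) and of the valuation rings of K containing k (and distinct from K): every non-generic point
has such a valuation ring as local ring, and every such valuation ring is the local ring of exactly
one point. -/
theorem result (k : Type u) [Field k] (X : Scheme.{u})
    [X.Over (Spec (CommRingCat.of k))] [IsProper (X ↘ (Spec (CommRingCat.of k)))] [IsIntegral X]
    (hX : ∀ x : X, IsClosed ({x} : Set X) → ringKrullDim (X.presheaf.stalk x) = 1) (hnorm : Pi1.IsNormalScheme X) :
    (∀ x : X, x ≠ genericPoint X → ∃ R : ValuationSubring X.functionField, R ≠ ⊤ ∧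
        (R : Set X.functionField) = Set.range (algebraMap (X.presheaf.stalk x) X.functionField)) ∧
      ∀ R : ValuationSubring X.functionField, R ≠ ⊤ → (∀ c : k, algebraMap k X.functionField c ∈ R) →
        ∃! x : X, (R : Set X.functionField) = Set.range (algebraMap (X.presheaf.stalk x) X.functionField) := by
  haveI : CompactSpace X := QuasiCompact.compactSpace_of_compactSpace (X ↘ (Spec (CommRingCat.of k)))
  haveI : IsLocallyNoetherian X := LocallyOfFiniteType.isLocallyNoetherian (X ↘ (Spec (CommRingCat.of k)))
  haveI : X.IsSeparated := ⟨by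
    rw [show terminal.from X = (X ↘ (Spec (CommRingCat.of k))) ≫ terminal.from _ from (terminal.comp_from _).symm]
    infer_instance⟩
  have hgen := Groth.L18.Curve.eq_genericPoint_of_not_isClosed hX
  have hA : ∀ x : X, x ≠ genericPoint X → ∃ R : ValuationSubring X.functionField, R ≠ ⊤ ∧
      (R : Set X.functionField) = Set.range (algebraMap (X.presheaf.stalk x) X.functionField) := fun x hx => by
    haveI := (hnorm x).2
    exact Groth.L18.Curve.exists_valuationSubring x (hX x (by_contra fun h => hx (hgen x h)))
  refine ⟨hA, fun R hR hk => ?_⟩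
  obtain ⟨x, hxR, hloc⟩ := Groth.L18.CurveCenter.exists_center (X ↘ (Spec (CommRingCat.of k))) R hk
  have hxgen : x ≠ genericPoint X := by
    intro hxg
    refine hR (eq_top_iff.mpr fun z _ => ?_)
    have hF : IsField (X.presheaf.stalk x) := by
      rw [hxg]
      exact Field.toIsField _
    obtain ⟨a, ha⟩ := IsFractionRing.surjective_iff_isField.mpr hF z
    rw [← ha]
    exact hxR a
  obtain ⟨R', hR', hR'eq⟩ := hA x hxgen
  have hxeq : (R : Set X.functionField) = Set.range (algebraMap (X.presheaf.stalk x) X.functionField) := by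
    refine Set.Subset.antisymm (fun z hz => ?_) (fun z ⟨a, ha⟩ => ha ▸ hxR a)
    rcases R'.mem_or_inv_mem z with h | h
    · exact hR'eq ▸ h
    · obtain ⟨b, hb⟩ : z⁻¹ ∈ Set.range (algebraMap (X.presheaf.stalk x) X.functionField) := hR'eq ▸ h
      by_cases hz0 : z = 0
      · exact ⟨0, by rw [map_zero, hz0]⟩
      have hu : IsUnit (⟨_, hxR b⟩ : R.toSubring) := by
        refine IsUnit.of_mul_eq_one ⟨z, hz⟩ (Subtype.ext ?_)
        show algebraMap _ _ b * z = 1
        rw [hb, inv_mul_cancel₀ hz0]
      refine ⟨((hloc b hu).unit⁻¹ : (X.presheaf.stalk x)ˣ), ?_⟩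
      rw [map_units_inv, IsUnit.unit_spec, hb, inv_inv]
  refine ⟨x, hxeq, fun y hy => ?_⟩
  let Q := R.toLocalSubring
  refine Groth.L18.eq_of_localRing_le (Q := Q) ((Groth.L18.localRing_le_iff y Q).mpr
    ⟨fun a => (Set.ext_iff.mp hy _).mpr ⟨a, rfl⟩, fun a ha => ?_⟩)
    ((Groth.L18.localRing_le_iff x Q).mpr ⟨hxR, hloc⟩)
  obtain ⟨⟨c, hc⟩, hac⟩ := ha.exists_right_inv
  obtain ⟨b, rfl⟩ := (Set.ext_iff.mp hy c).mp hc
  refine IsUnit.of_mul_eq_one b (IsFractionRing.injective (X.presheaf.stalk y) X.functionField ?_)
  rw [map_mul, map_one]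
  exact congrArg Subtype.val hac

end Groth.Agent.S4451
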