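import Groth.Statements.S4453
import Groth.Agent.L18.RelAmpleLocal
import Groth.Agent.L18.NormRelAmple
import Groth.Agent.L18.NormModule
import Groth.Agent.L20.ThickeningTopology
import Groth.Agent.S4418
import Groth.Agent.L18.PBundle.FTProj

set_option autoImplicit false
universe u
open CategoryTheory CategoryTheory.Limits AlgebraicGeometry
open EGA2

namespace Groth.Agent.S4453

/-- Let Y be a quasi-compact separated scheme or a scheme whose underlying space is Noetherian, f : X ⟶
Y a morphism of finite type and g : X' ⟶ X a finite surjective morphism such that the direct image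
of O_{X'} is a finite locally free O_X-module. Then f is projective if and only if f ∘ g is
projective. (The companion assertion, on quasi-projectivity, is the
existence-of-a-relatively-ample-module equivalence stated separately.) -/
theorem result {X X' Y : Scheme.{u}} (f : X ⟶ Y) [LocallyOfFiniteType f]
    [QuasiCompact f] (g : X' ⟶ X) [IsFinite g] [Surjective g]
    (hfree : FlatMod.IsFinLocFree ((Coh.push g).obj (Coh.structureModule X')))
    (hY : (CompactSpace Y ∧ Y.IsSeparated) ∨ TopologicalSpace.NoetherianSpace Y) :
    RelProj.IsProjective f ↔ RelProj.IsProjective (g ≫ f) := by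
  obtain ⟨hYc, hYs⟩ : CompactSpace Y ∧ QuasiSeparatedSpace Y := by
    rcases hY with ⟨h1, h2⟩ | h1
    · haveI := h2
      exact ⟨h1, inferInstance⟩
    · haveI := h1
      exact ⟨inferInstance, inferInstance⟩
  constructor
  · intro hf
    obtain ⟨⟨_, _, L, hL⟩, hp⟩ := Groth.Agent.S4418.result f hf
    exact Groth.L18.PBundle.isProjective_of_isQuasiProjective (g ≫ f) ⟨inferInstance, inferInstance, _,
      Groth.L18.Ample.isRelAmple_pullback_quasiAffine f g (Groth.L18.NormFree.isQuasiAffineHom_of_isAffineHom g) hL⟩
  · intro hgf
    obtain ⟨⟨_, _, L, hL⟩, hp⟩ := Groth.Agent.S4418.result (g ≫ f) hgf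
    haveI : IsSeparated f := Groth.L20.Thick.isSeparated_of_comp_surjective g f
    haveI : UniversallyClosed f := UniversallyClosed.of_comp_surjective g f
    haveI : IsProper f := ⟨⟩
    haveI : CompactSpace X := QuasiCompact.compactSpace_of_compactSpace f
    obtain ⟨m, ⟨N⟩⟩ := Groth.L18.NormFree.exists_hasNorm (π := g) hfree
    obtain ⟨M, hM, hMa⟩ := Groth.L18.NormDesc.exists_isRelAmple_of_preNorm f (Groth.L18.NormDesc.toPre N) hL
      (Groth.L18.PBundle.isInvertible_of_isRelAmple _ hL)
    exact Groth.L18.PBundle.isProjective_of_isQuasiProjective f ⟨inferInstance, inferInstance, M, hMa⟩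

end Groth.Agent.S4453
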