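import Groth.Statements.S4456
import Groth.Agent.L17.AcyclicThen
import Groth.Agent.L17.AffinePush
import Groth.Agent.L10.SiteRightDerived

set_option autoImplicit false
universe u
open Coherent

namespace Groth.Agent.S4456

open AlgebraicGeometry CategoryTheory in
/-- Let f : X → Y be an affine morphism, g : Y → Z a morphism of schemes and F a quasi-coherent
O_X-module. Then for every p ≥ 0 the higher direct image R^p g_*(f_* F) is isomorphic to R^p (g ∘
f)_* F (higher direct images of the underlying abelian sheaves). The source shows that the canonical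
comparison map is an isomorphism; only the existence of an isomorphism is asserted here. -/
theorem result {X Y Z : Scheme.{u}} (f : X ⟶ Y) (g : Y ⟶ Z)
    [IsAffineHom f] (F : X.Modules) [Coh.IsQCoh F] (p : ℕ) :
    Nonempty ((Coh.RpushAb g p).obj (Coh.toAb ((Coh.push f).obj F)) ≅
      (Coh.RpushAb (f ≫ g) p).obj (Coh.toAb F)) := by
  letI := HasDerivedCategory.standard (Sheaf (Opens.grothendieckTopology Y) AddCommGrpCat.{u})
  haveI : Limits.PreservesFiniteLimits (Coh.pushAb f) :=
    inferInstanceAs (Limits.PreservesFiniteLimits (TopCat.Sheaf.pushforward AddCommGrpCat.{u} f.base))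
  haveI : Limits.PreservesFiniteLimits (Coh.pushAb g) :=
    inferInstanceAs (Limits.PreservesFiniteLimits (TopCat.Sheaf.pushforward AddCommGrpCat.{u} g.base))
  haveI : (Coh.pushAb f ⋙ Coh.pushAb g).Additive := inferInstance
  obtain ⟨e⟩ := Groth.L17.GrothSS.nonempty_rightDerived_comp_of_acyclic (Coh.pushAb f) (Coh.pushAb g)
    (fun Q hQ q hq => by
      obtain ⟨k, rfl⟩ : ∃ k, q = k + 1 := ⟨q - 1, by omega⟩
      haveI : Injective ((Coh.pushAb f).obj Q) :=
        Groth.L10.TopCoh.push_injective (X := X.toTopCat) (Y := Y.toTopCat) f.base Q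
      exact (Coh.pushAb g).isZero_rightDerived_obj_injective_succ k _)
    (Coh.toAb F)
    (fun q hq => by
      obtain ⟨k, rfl⟩ : ∃ k, q = k + 1 := ⟨q - 1, by omega⟩
      exact Groth.L17.isZero_RpushAb_of_isAffineHom f F k) p
  let c : Coh.pushAb f ⋙ Coh.pushAb g ≅ Coh.pushAb (f ≫ g) := Iso.refl _
  exact ⟨e.symm ≪≫ (Groth.L10.SiteCoh.rightDerivedCongr c p).app (Coh.toAb F)⟩

end Groth.Agent.S4456
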