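import Groth.Statements.S4457
import Groth.Agent.L17.CohSections
import Groth.Agent.L17.AffinePush

set_option autoImplicit false
universe u
open Coherent

namespace Groth.Agent.S4457

open AlgebraicGeometry CategoryTheory in
/-- Let f : X → Y be a separated quasi-compact morphism, g : Y → Z an affine morphism and F a
quasi-coherent O_X-module. Then for every p ≥ 0, R^p (g ∘ f)_* F is isomorphic to g_*(R^p f_* F)
(higher direct images and direct image of the underlying abelian sheaves). The source shows that the
canonical comparison map is an isomorphism; only the existence of an isomorphism is asserted here. -/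
theorem result {X Y Z : Scheme.{u}} (f : X ⟶ Y) (g : Y ⟶ Z)
    [IsSeparated f] [QuasiCompact f] [IsAffineHom g] (F : X.Modules) [Coh.IsQCoh F] (p : ℕ) :
    Nonempty ((Coh.RpushAb (f ≫ g) p).obj (Coh.toAb F) ≅
      (Coh.pushAb g).obj ((Coh.RpushAb f p).obj (Coh.toAb F))) := by
  haveI := Groth.L17.PushQCoh.hasInjectiveResolutions X
  haveI := Groth.L17.PushQCoh.hasInjectiveResolutions Y
  haveI := Groth.L17.CohSections.enoughInjectives_modules Y
  haveI : (Scheme.Modules.pushforward f).Additive := Groth.L17.PushQCoh.additive_push f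
  haveI : (Scheme.Modules.pushforward g).Additive := Groth.L17.PushQCoh.additive_push g
  haveI : (Scheme.Modules.pushforward (f ≫ g)).Additive := Groth.L17.PushQCoh.additive_push _
  haveI : (Scheme.Modules.pushforward g).IsRightAdjoint :=
    (Scheme.Modules.pullbackPushforwardAdjunction g).isRightAdjoint
  haveI : Limits.PreservesFiniteLimits (Scheme.Modules.pushforward g) := inferInstance
  have hI : ∀ I : X.Modules, Injective I → Groth.L17.AcyclicHomology.Acyclic (Scheme.Modules.pushforward g)
      ((Scheme.Modules.pushforward f).obj I) := fun I _ q =>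
    Groth.L17.PushQCoh.isZero_Rpush_of_flasque g _
      ⟨fun {U W} i => (Groth.L17.PushMV.isFlasque_of_injective I).1 ((TopologicalSpace.Opens.map f.base).op.map i)⟩ q
  have hR : ∀ q, Groth.L17.AcyclicHomology.Acyclic (Scheme.Modules.pushforward g)
      (((Scheme.Modules.pushforward f).rightDerived q).obj F) := fun q k => by
    haveI := Groth.L17.PushQCoh.isQCoh_Rpush f F q
    obtain ⟨e⟩ := Groth.L17.nonempty_toAb_Rpush_iso g ((Coh.Rpush f q).obj F) (k + 1)
    exact Groth.L17.PushQCoh.isZero_of_toAb ((Groth.L17.isZero_RpushAb_of_isAffineHom g _ k).of_iso e)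
  let c : (Coh.Rpush (f ≫ g) p).obj F ≅ (Scheme.Modules.pushforward g).obj ((Coh.Rpush f p).obj F) :=
    (Groth.L10.SiteCoh.rightDerivedCongr (Scheme.Modules.pushforwardComp f g).symm p).app F ≪≫
      Groth.L17.AcyclicHomology.compIso (Scheme.Modules.pushforward g) (Scheme.Modules.pushforward f) hI F hR p
  obtain ⟨e₁⟩ := Groth.L17.nonempty_toAb_Rpush_iso (f ≫ g) F p
  obtain ⟨e₂⟩ := Groth.L17.nonempty_toAb_Rpush_iso f F p
  exact ⟨e₁.symm ≪≫ (Groth.L17.toAbShF Z).mapIso c ≪≫ (Coh.pushAb g).mapIso e₂⟩

end Groth.Agent.S4457
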