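import Groth.Statements.S4464
import Groth.Agent.L16.Connected.StalkClosure
import Groth.Agent.L06.Unibranch
import Mathlib.AlgebraicGeometry.FunctionField
import Mathlib.RingTheory.IntegralClosure.IntegrallyClosed

set_option autoImplicit false
universe u
open Coherent

namespace Groth.Agent.S4464

open AlgebraicGeometry CategoryTheory in
/-- Let X and Y be locally Noetherian integral schemes, f : X → Y a proper dominant morphism, and
suppose that the algebraic closure of the function field R(Y) in R(X) is purely inseparable over
R(Y): every element of R(X) satisfying a nonzero polynomial over R(Y) has a p^e-th power coming from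
R(Y), p being the characteristic exponent. Then for every point y of Y whose local ring is
unibranch, the fibre X_y is connected and nonempty. -/
theorem result {X Y : Scheme.{u}} [IsIntegral X]
    [IsIntegral Y] [IsLocallyNoetherian X] [IsLocallyNoetherian Y] (f : X ⟶ Y) [IsProper f]
    (hdom : f.base (genericPoint X) ⤳ genericPoint Y)
    (hrad : ∀ x : X.functionField,
      (∃ q : Polynomial Y.functionField, q ≠ 0 ∧
        Polynomial.eval₂ (CohIII.stalkToFunctionField f (genericPoint Y) hdom) x q = 0) →
      ∃ e : ℕ, x ^ (ringExpChar X.functionField ^ e) ∈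
        Set.range (CohIII.stalkToFunctionField f (genericPoint Y) hdom))
    (y : Y) (hy : CAlg2.IsUnibranch (Y.presheaf.stalk y)) :
    ConnectedSpace ↥(f.fiber y) := by
  have hgy : genericPoint Y ⤳ y := genericPoint_specializes y
  have h : f.base (genericPoint X) ⤳ y := hdom.trans hgy
  let O := Y.presheaf.stalk y
  let K := Y.functionField
  letI : Algebra O K := (Y.presheaf.stalkSpecializes hgy).hom.toAlgebra
  haveI : IsFractionRing O K := inferInstance
  let N := integralClosure O K
  haveI : IsIntegrallyClosed N := integralClosure.isIntegrallyClosedOfFiniteExtension K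
  have hO : Function.Injective (algebraMap O K) := IsFractionRing.injective O K
  obtain ⟨-, e, he⟩ := Groth.L06.Unibranch.exists_normRed_equiv (S := O) (N := N) (algebraMap O N)
    (fun x => Algebra.IsIntegral.isIntegral (R := O) x)
    (by rw [(RingHom.injective_iff_ker_eq_bot _).1 (fun a b hab => hO (congrArg Subtype.val hab))]; exact bot_le)
    (fun x => by
      obtain ⟨a, b, hb, hab⟩ := IsFractionRing.div_surjective (A := O) x.1
      refine ⟨b, a, fun h0 => nonZeroDivisors.ne_zero hb (hO ((congrArg Subtype.val h0).trans (map_zero _).symm)),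
        Subtype.ext ?_⟩
      show algebraMap O K b * x.1 = algebraMap O K a
      rw [← hab, mul_div_cancel₀]
      exact fun h0 => nonZeroDivisors.ne_zero hb (hO (h0.trans (map_zero _).symm)))
  haveI := hy.2
  haveI : IsLocalRing N := e.isLocalRing
  let θ : K →+* X.functionField := CohIII.stalkToFunctionField f (genericPoint Y) hdom
  have hθ : ∀ o : O, θ (algebraMap O K o) = CohIII.stalkToFunctionField f y h o := fun o => by
    show f.stalkMap (genericPoint X) (Y.presheaf.stalkSpecializes hdom (Y.presheaf.stalkSpecializes hgy o)) = _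
    rw [← ConcreteCategory.comp_apply, ← ConcreteCategory.comp_apply, TopCat.Presheaf.stalkSpecializes_comp_assoc]
    rfl
  letI : Algebra O X.functionField := (CohIII.stalkToFunctionField f y h).toAlgebra
  let θ' : K →ₐ[O] X.functionField := ⟨θ, hθ⟩
  let C := integralClosure O X.functionField
  let i : N →+* C := (θ'.toRingHom.comp N.val.toRingHom).codRestrict C.toSubring fun n => n.2.map θ'
  have hpow : ∀ c : C, ∃ (k : ℕ) (n : N), c ^ (ringExpChar X.functionField ^ k) = i n := by
    intro c
    obtain ⟨P, hP, hPc⟩ := c.2
    obtain ⟨k, z, hz⟩ := hrad c.1 ⟨P.map (algebraMap O K), (hP.map _).ne_zero, by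
      rw [Polynomial.eval₂_map, show θ.comp (algebraMap O K) = algebraMap O X.functionField from RingHom.ext hθ]
      exact hPc⟩
    refine ⟨k, ⟨z, ?_⟩, Subtype.ext hz.symm⟩
    refine (isIntegral_algHom_iff θ' θ.injective).1 ?_
    show IsIntegral O (θ z)
    rw [hz]
    exact (show IsIntegral O c.1 from c.2).pow _
  have huniq : ∀ Q Q' : Ideal C, Q.IsMaximal → Q'.IsMaximal → Q ≤ Q' := by
    intro Q Q' hQ hQ'
    haveI := hQ
    haveI := hQ'
    letI : Algebra N C := i.toAlgebra
    haveI : IsScalarTower O N C := IsScalarTower.of_algebraMap_eq fun o => Subtype.ext (hθ o).symm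
    haveI : Algebra.IsIntegral N C := ⟨fun c => (Algebra.IsIntegral.isIntegral (R := O) c).tower_top⟩
    have h1 := IsLocalRing.eq_maximalIdeal (Ideal.isMaximal_comap_of_isIntegral_of_isMaximal (R := N) Q)
    have h2 := IsLocalRing.eq_maximalIdeal (Ideal.isMaximal_comap_of_isIntegral_of_isMaximal (R := N) Q')
    intro c hc
    obtain ⟨k, n, hn⟩ := hpow c
    have hpos : 0 < ringExpChar X.functionField ^ k :=
      pow_pos (expChar_pos X.functionField (ringExpChar X.functionField)) k
    have h3 : n ∈ Q.comap (algebraMap N C) := by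
      show i n ∈ Q
      rw [← hn]
      exact Ideal.pow_mem_of_mem Q hc _ hpos
    rw [h1, ← h2] at h3
    have h4 : c ^ (ringExpChar X.functionField ^ k) ∈ Q' := by
      rw [hn]; exact h3
    exact hQ'.isPrime.mem_of_pow_mem _ h4
  obtain ⟨φ, hφ⟩ := Groth.L16.Connected.exists_injective_to_maximalSpectrum f y h
  haveI : Subsingleton (_root_.ConnectedComponents ↥(f.fiber y)) := ⟨fun a b => hφ (MaximalSpectrum.ext
    (le_antisymm (huniq _ _ (φ a).isMaximal (φ b).isMaximal) (huniq _ _ (φ b).isMaximal (φ a).isMaximal)))⟩
  have hne : Nonempty ↥(f.fiber y) := by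
    obtain ⟨x, hx⟩ := h.mem_closed f.isClosedMap.isClosed_range ⟨_, rfl⟩
    exact ⟨(f.fiberHomeo y).symm ⟨x, hx⟩⟩
  exact connectedSpace_iff_connectedComponent.2 ⟨hne.some, Set.eq_univ_of_forall fun z => by
    rw [← ConnectedComponents.coe_eq_coe']
    exact Subsingleton.elim _ _⟩
end Groth.Agent.S4464
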