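import Groth.Statements.S4468
import Groth.Agent.L18.BirBlow.Main
import Groth.Agent.L22.VeryAmple.Over
import Groth.Agent.L16.ProjSpace.BaseChange

set_option autoImplicit false
universe u
open Coherent

namespace Groth.Agent.S4468

open AlgebraicGeometry CategoryTheory in
/-- Let k be a field, X and Y integral schemes projective over k (given with closed immersions into
projective spaces over k) and f : X → Y a birational k-morphism (it sends the generic point of X to
that of Y and induces a bijection between the function fields). Then X is Y-isomorphic to the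
blow-up of Y in a closed subscheme: there is a quasi-coherent ideal sheaf I on Y such that f is a
blowing up of Y in I (universal property of the blow-up). -/
theorem result (k : Type u) [Field k] {X Y : Scheme.{u}} [IsIntegral X] [IsIntegral Y]
    (a b : ℕ) (iX : X ⟶ CohB1.ProjSpace a k) [IsClosedImmersion iX] (iY : Y ⟶ CohB1.ProjSpace b k)
    [IsClosedImmersion iY] (f : X ⟶ Y)
    (hk : f ≫ iY ≫ CohB1.ProjSpace.toSpec b k = iX ≫ CohB1.ProjSpace.toSpec a k)
    (hgen : f.base (genericPoint X) = genericPoint Y)
    (hbir : Function.Bijective (f.residueFieldMap (genericPoint X)).hom) :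
    ∃ I : Y.IdealSheafData, BlowUp.IsBlowUp f I := by
  haveI : CompactSpace Y := iY.isClosedEmbedding.compactSpace
  have hM : CohB1.IsAmple ((Scheme.Modules.pullback iY).obj (Groth.L18.PUP.O1 b k)) :=
    Groth.L18.Ample.isAmple_pullback_of_isInducing iY iY.isClosedEmbedding.isInducing
      (Groth.L22.VeryAmple.isAmple_O1 b k)
  let φ : ULift.{u} ℤ →+* k := (algebraMap ℤ k).comp ULift.ringEquiv.toRingHom
  let j : X ⟶ CohB1.ProjSpaceOver a Y :=
    Limits.pullback.lift (iX ≫ Groth.L16.ProjSpace.map a φ) f (specULiftZIsTerminal.hom_ext _ _)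
  let h : Y ⟶ Spec (CommRingCat.of k) := iY ≫ CohB1.ProjSpace.toSpec b k
  haveI : IsSeparated h := inferInstance
  haveI : IsSeparated (Groth.L16.ProjSpace.overMap a h) :=
    MorphismProperty.of_isPullback (Groth.L16.ProjSpace.isPullback_overMap (n := a) h).flip inferInstance
  have hj : j ≫ Groth.L16.ProjSpace.overMap a h = iX ≫ (Groth.L16.ProjSpace.isoOver a k).hom := by
    refine Limits.pullback.hom_ext ?_ ?_
    · refine (Category.assoc _ _ _).trans ?_
      refine (congrArg (j ≫ ·) ((Limits.pullback.lift_fst _ _ _).trans (Category.comp_id _))).trans ?_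
      refine (Limits.pullback.lift_fst _ _ _).trans ?_
      refine Eq.trans ?_ (Category.assoc _ _ _).symm
      exact congrArg (iX ≫ ·) (Groth.L16.ProjSpace.isPullback_over a (R := k)).isoPullback_hom_fst.symm
    · refine (Category.assoc _ _ _).trans ?_
      refine (congrArg (j ≫ ·) (Limits.pullback.lift_snd _ _ _)).trans ?_
      refine (Category.assoc _ _ _).symm.trans ?_
      refine (congrArg (· ≫ h) (Limits.pullback.lift_snd _ _ _)).trans ?_
      refine Eq.trans ?_ (Category.assoc _ _ _).symm
      exact hk.trans (congrArg (iX ≫ ·) (Groth.L16.ProjSpace.isoOver_hom_toBase (n := a) (R := k)).symm)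
  haveI : IsClosedImmersion (j ≫ Groth.L16.ProjSpace.overMap a h) := by rw [hj]; infer_instance
  haveI : IsClosedImmersion j := IsClosedImmersion.of_comp j (Groth.L16.ProjSpace.overMap a h)
  refine Groth.L18.BirBlow.exists_isBlowUp _ hM f a j (Limits.pullback.lift_snd _ _ _) hgen fun s => ?_
  have hres : Function.Injective (X.residue (genericPoint X)) :=
    (X.residue (genericPoint X)).hom.injective (R := X.functionField)
  obtain ⟨t₀, ht₀⟩ := hbir.2 (X.residue (genericPoint X) s)
  obtain ⟨t, rfl⟩ := Scheme.residue_surjective Y (f (genericPoint X)) t₀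
  exact ⟨t, hres ((ConcreteCategory.congr_hom (Scheme.residue_residueFieldMap f (genericPoint X)) t).symm.trans ht₀)⟩

end Groth.Agent.S4468
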