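import Mathlib.RingTheory.IntegralClosure.IntegrallyClosed
import Mathlib.RingTheory.Localization.FractionRing
import Mathlib.RingTheory.FiniteType
import Mathlib.RingTheory.LocalRing.MaximalIdeal.Basic
import Mathlib.RingTheory.Ideal.Over
import Mathlib.RingTheory.Noetherian.Basic
import Mathlib.RingTheory.ZariskisMainTheorem
import Mathlib.RingTheory.Spectrum.Prime.Jacobson

set_option autoImplicit false
namespace CAlg
end CAlg
universe u
open CAlg

namespace Groth.Agent.S4469

/-- Let A be an integrally closed Noetherian local domain with field of fractions K, B an A-algebra of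
finite type which is a domain with the same field of fractions (A → B → K compatible with A → K),
and 𝔫 a maximal ideal of B lying over the maximal ideal 𝔪 of A and minimal among the prime ideals of
B lying over 𝔪. Then B = A: the structure map A → B is bijective. -/
theorem result (A B K : Type u) [CommRing A]
    [IsDomain A] [IsNoetherianRing A] [IsLocalRing A] [IsIntegrallyClosed A] [CommRing B] [IsDomain B]
    [Field K] [Algebra A B] [Algebra B K] [Algebra A K] [IsScalarTower A B K] [IsFractionRing A K]
    [IsFractionRing B K] [Algebra.FiniteType A B] (n : Ideal B) [n.IsMaximal]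
    (hn : n.comap (algebraMap A B) = IsLocalRing.maximalIdeal A)
    (hmin : ∀ q : Ideal B, q.IsPrime → q.comap (algebraMap A B) = IsLocalRing.maximalIdeal A → q ≤ n → q = n) :
    Function.Bijective (algebraMap A B) := by
  let q : PrimeSpectrum B := ⟨n, inferInstance⟩
  let p := q.comap (algebraMap A B)
  have hp : p.asIdeal = IsLocalRing.maximalIdeal A := hn
  haveI : IsJacobsonRing (p.asIdeal.Fiber B) :=
    isJacobsonRing_of_finiteType (A := p.asIdeal.ResidueField)
  haveI : IsNoetherianRing (p.asIdeal.Fiber B) :=
    Algebra.FiniteType.isNoetherianRing p.asIdeal.ResidueField _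
  let e := PrimeSpectrum.preimageHomeomorphFiber A B p
  have hcl : IsClosed ({⟨q, rfl⟩} : Set (PrimeSpectrum.comap (algebraMap A B) ⁻¹' {p})) := by
    have h := ((PrimeSpectrum.isClosed_singleton_iff_isMaximal q).mpr ‹n.IsMaximal›).preimage
      (continuous_subtype_val (p := fun x => x ∈ PrimeSpectrum.comap (algebraMap A B) ⁻¹' {p}))
    convert h
    ext z
    simp [Subtype.ext_iff]
  have hgen : StableUnderGeneralization
      ({⟨q, rfl⟩} : Set (PrimeSpectrum.comap (algebraMap A B) ⁻¹' {p})) := by
    intro x y hyx hx
    obtain rfl : x = ⟨q, rfl⟩ := hx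
    have hle : y.1 ≤ q := (PrimeSpectrum.le_iff_specializes _ _).mpr
      (hyx.map continuous_subtype_val)
    have hy : y.1.comap (algebraMap A B) = p := y.2
    have : y.1.asIdeal = n := hmin _ y.1.2
      (by rw [← hp]; exact congrArg PrimeSpectrum.asIdeal hy) hle
    exact Subtype.ext (PrimeSpectrum.ext this)
  have hopen : IsOpen ({⟨q, rfl⟩} : Set (PrimeSpectrum.comap (algebraMap A B) ⁻¹' {p})) := by
    rw [← e.isOpen_image, Set.image_singleton]
    have h3 := (PrimeSpectrum.isOpen_singleton_tfae_of_isNoetherian_of_isJacobsonRing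
      (e ⟨q, rfl⟩)).out 0 2 rfl rfl
    refine h3.mpr ⟨?_, ?_⟩
    · rw [← Set.image_singleton]; exact (e.isClosed_image).mpr hcl
    · intro x y hyx hx
      obtain rfl : x = e ⟨q, rfl⟩ := hx
      have h := hgen (hyx.map e.symm.continuous) (by simp)
      rw [Set.mem_singleton_iff] at h ⊢
      rw [← h, e.apply_symm_apply]
  haveI : Algebra.QuasiFiniteAt A n := Algebra.QuasiFiniteAt.of_isOpen_singleton_fiber q hopen
  obtain ⟨r, hr, hri, hx⟩ :=
    Algebra.zariskisMainProperty_iff.mp (Algebra.ZariskisMainProperty.of_finiteType (R := A) n)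
  have hinjA : Function.Injective (algebraMap A B) := fun a b h => IsFractionRing.injective A K (by
    rw [IsScalarTower.algebraMap_apply A B K, IsScalarTower.algebraMap_apply A B K, h])
  have hint : ∀ x : B, IsIntegral A x → ∃ a, algebraMap A B a = x := fun x hx => by
    obtain ⟨a, ha⟩ := (IsIntegrallyClosed.isIntegral_iff (K := K)).mp
      (hx.map (IsScalarTower.toAlgHom A B K))
    refine ⟨a, IsFractionRing.injective B K ?_⟩
    rw [← IsScalarTower.algebraMap_apply]
    exact ha
  refine ⟨hinjA, fun x => ?_⟩
  obtain ⟨r0, rfl⟩ := hint r hri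
  have hr0 : IsUnit r0 := by
    by_contra h
    have : r0 ∈ n.comap (algebraMap A B) := by rw [hn]; exact h
    exact hr this
  obtain ⟨m, hm⟩ := hx x
  obtain ⟨c, hc⟩ := hint _ hm
  obtain ⟨u, hu⟩ := (hr0.pow m).exists_left_inv
  refine ⟨u * c, ?_⟩
  rw [map_mul, hc, ← map_pow, ← mul_assoc, ← map_mul, hu, map_one, one_mul]

end Groth.Agent.S4469
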