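import Groth.Statements.S4470
import Groth.Agent.L07.RelAmp.Local
import Groth.Agent.L18.NormRelAmple
import Groth.Agent.L18.RelAmpleOps
import Groth.Agent.S0790
import Groth.Agent.L18.KerReduced

set_option autoImplicit false
set_option linter.style.haveILetI false
set_option backward.isDefEq.respectTransparency false
set_option backward.isDefEq.respectTransparency.types false
universe u
open Coherent

namespace Groth.Agent.S4470

open AlgebraicGeometry CategoryTheory CategoryTheory.Limits TopologicalSpace in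
/-- The reduced case with an arbitrary scheme of finite type over an affine base. -/
theorem isAmple_of_pullback {A : Type u} [CommRing A] [IsNoetherianRing A] {X X' : Scheme.{u}}
    (p : X ⟶ Spec (CommRingCat.of A)) [LocallyOfFiniteType p] [CompactSpace X] (g : X' ⟶ X) [IsFinite g]
    [Surjective g] (L : X.Modules) (hL : PicF.IsInvertible L) (Z : Set X) (hZ : ClSub.IsProperOver p Z)
    (hreg : ∀ x : X, x ∉ Z → (IsDomain (X.presheaf.stalk x) ∧ IsIntegrallyClosed (X.presheaf.stalk x)) ∨
      ∃ (V : X.Opens) (k : ℕ) (d : Fin k → Γ(X', g ⁻¹ᵁ V)), IsAffineOpen V ∧ x ∈ V ∧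
        Groth.L18.NormFree.IsGoodBasis g d)
    (hA : CohB1.IsAmple ((Scheme.Modules.pullback g).obj L)) : CohB1.IsAmple L := by
  let I := Scheme.IdealSheafData.vanishingIdeal (⊤ : Closeds X)
  let i := I.subschemeι
  haveI : Surjective i := ⟨fun x => (Groth.L17.ProperOver.range_ι (⊤ : Closeds X)).ge trivial⟩
  have hi : IsHomeomorph i.base :=
    isHomeomorph_iff_isEmbedding_surjective.2 ⟨i.isClosedEmbedding.isEmbedding, i.surjective⟩
  refine Groth.L18.AmpleNil.isAmple_of_isAmple_pullback i hi hL ?_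
  haveI : IsReduced I.subscheme := Groth.L18.isReduced_vanishingIdeal_subscheme _
  let g' := pullback.snd g i
  haveI : IsFinite g' := MorphismProperty.pullback_snd _ _ inferInstance
  haveI : Surjective g' := MorphismProperty.pullback_snd _ _ inferInstance
  haveI : CompactSpace I.subscheme := hi.homeomorph.symm.compactSpace
  have hA' : CohB1.IsAmple ((Scheme.Modules.pullback g').obj ((Scheme.Modules.pullback i).obj L)) :=
    Groth.L18.Ample.isAmple_of_iso ((Scheme.Modules.pullbackComp (pullback.fst g i) g).app L ≪≫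
        (Scheme.Modules.pullbackCongr pullback.condition).app L ≪≫ ((Scheme.Modules.pullbackComp g' i).app L).symm)
      (Groth.L18.Ample.isAmple_pullback_of_isAffineHom (pullback.fst g i) hA)
  have hZc : IsClosed (i ⁻¹' Z) := hZ.1.preimage i.continuous
  refine Groth.L07.RelAmp.isAmple_of_pullback_proper_locus (i ≫ p) ⟨i ⁻¹' Z, hZc⟩
    (Groth.Agent.S0790.result (i ≫ p) p i rfl Z hZ) (fun z hz => ?_)
    (Groth.L18.Ample.isInvertible_pullback i hL) hA'
  rcases hreg (i z) hz with ⟨h1, h2⟩ | ⟨V, k, d, hV, hzV, hd⟩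
  · let e := RingEquiv.ofBijective (i.stalkMap z).hom (Groth.L07.RelAmp.bijective_stalkMap i hi z)
    exact Or.inl ⟨e.symm.toMulEquiv.isDomain _, IsIntegrallyClosed.of_equiv e⟩
  · obtain ⟨O, k', c, hzO, hc⟩ := Groth.L07.RelAmp.exists_goodBasis_closed I hV hd hzV
    exact Or.inr ⟨O, k', c, hzO, hc⟩

open AlgebraicGeometry CategoryTheory in
/-- Let Y be a Noetherian scheme, f : X → Y a morphism of finite type, g : X' → X a finite surjective
morphism, L an invertible O_X-module and L' = g^* L. Suppose there is a subset Z of X, proper over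
Y, such that for every point x of X outside Z either the local ring of X at x is an integrally
closed domain or the stalk of g_* O_{X'} at x is a free module over that local ring. Then L is ample
relative to f if and only if L' is ample relative to g ≫ f. -/
theorem result {X X' Y : Scheme.{u}} (f : X ⟶ Y)
    [IsNoetherian Y] [LocallyOfFiniteType f] [QuasiCompact f] (g : X' ⟶ X) [IsFinite g] [Surjective g]
    (L : X.Modules) (hL : PicF.IsInvertible L) (Z : Set X) (hZ : ClSub.IsProperOver f Z)
    (hreg : ∀ x : X, x ∉ Z →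
      (IsDomain (X.presheaf.stalk x) ∧ IsIntegrallyClosed (X.presheaf.stalk x)) ∨
        Module.Free (X.presheaf.stalk x) (((Coh.push g).obj (Coh.structureModule X')).presheaf.stalk x)) :
    RelAmple.IsRelAmple f L ↔ RelAmple.IsRelAmple (g ≫ f) ((Scheme.Modules.pullback g).obj L) := by
  refine ⟨Groth.L18.Ample.isRelAmple_pullback_quasiAffine f g (Groth.L18.NormFree.isQuasiAffineHom_of_isAffineHom g),
    fun h => Groth.L18.Ample.isRelAmple_of_local f fun y => ?_⟩
  haveI : IsLocallyNoetherian X := LocallyOfFiniteType.isLocallyNoetherian f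
  obtain ⟨V, hV, hyV, -⟩ := Groth.L18.Ample.exists_affine_le (TopologicalSpace.Opens.mem_top y)
  refine ⟨V, hV, hyV, (Groth.L18.Ample.isAmple_restrict_iff_pullback _).2 ?_⟩
  set X₁ : X.Opens := f ⁻¹ᵁ V
  haveI : IsNoetherianRing Γ(Y, V) := IsLocallyNoetherian.component_noetherian ⟨V, hV⟩
  haveI : CompactSpace X₁.toScheme := isCompact_iff_compactSpace.1 (f.isCompact_preimage hV.isCompact)
  let p : X₁.toScheme ⟶ Spec (CommRingCat.of Γ(Y, V)) := f ∣_ V ≫ hV.isoSpec.hom
  have hp : ClSub.IsProperOver p (X₁.ι ⁻¹' Z) := by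
    obtain ⟨hc, hp⟩ := Groth.L27.Supp.isProperOver_preimage (isPullback_morphismRestrict f V).flip hZ
    haveI := hp
    refine ⟨hc, ?_⟩
    rw [← Category.assoc]
    infer_instance
  haveI : Surjective (g ∣_ X₁) := MorphismProperty.of_isPullback (P := @Surjective)
    (isPullback_morphismRestrict g X₁).flip inferInstance
  refine isAmple_of_pullback p (g ∣_ X₁) _ (Groth.L18.Ample.isInvertible_pullback X₁.ι hL) _ hp (fun x hx => ?_)
    (Groth.L18.Ample.isAmple_of_iso ((Scheme.Modules.pullbackComp (g ⁻¹ᵁ X₁).ι g).app L ≪≫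
        (Scheme.Modules.pullbackCongr (morphismRestrict_ι g X₁).symm).app L ≪≫
        ((Scheme.Modules.pullbackComp (g ∣_ X₁) X₁.ι).app L).symm)
      ((Groth.L18.Ample.isAmple_restrict_iff_pullback _).1 (h.2 ⟨V, hV⟩)))
  rcases hreg x.1 hx with ⟨h1, h2⟩ | hfree
  · let e := (X₁.stalkIso x).commRingCatIsoToRingEquiv
    exact Or.inl ⟨e.toMulEquiv.isDomain _, IsIntegrallyClosed.of_equiv e.symm⟩
  · obtain ⟨W, k, d, hW, hxW, hd⟩ := Groth.L07.RelAmp.exists_goodBasis_of_free hfree
    obtain ⟨r, hr, hxr⟩ := hW.exists_basicOpen_le (V := X₁) ⟨x.1, x.2⟩ hxW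
    obtain ⟨c, hc⟩ := Groth.L18.NormFree.exists_goodBasis_restrict (A := X₁) (π := g)
      (Groth.L18.NormMixed.goodBasis_res hd (X.basicOpen_le r))
    refine Or.inr ⟨X₁.ι ⁻¹ᵁ X.basicOpen r, k, c, ?_, hxr, hc⟩
    rw [← Scheme.Hom.isAffineOpen_iff_of_isOpenImmersion X₁.ι, Scheme.Hom.image_preimage_eq_opensRange_inf,
      Scheme.Opens.opensRange_ι, inf_eq_right.2 hr]
    exact hW.basicOpen r

end Groth.Agent.S4470
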