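import Groth.Statements.S4472
import Groth.Agent.L16.Blow.Integral
import Groth.Agent.L13.BlowUp.Proper
import Groth.Agent.S4464
import Groth.Agent.L06.Unibranch

set_option autoImplicit false
universe u
open Coherent

namespace Groth.Agent.S4472

open AlgebraicGeometry CategoryTheory in
/-- Let A be a unibranch Noetherian local domain (a local domain whose integral closure is a local ring)
with maximal ideal m, let 𝔞 be an ideal of definition of A (𝔞 ⊆ m and m^p ⊆ 𝔞 for some p), and let b
: X → Spec A be a blowing up of Spec A in the ideal sheaf defined by 𝔞. Then the fibre of b over the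
closed point is preconnected. Its underlying space is that of Proj of the associated graded ring ⊕
𝔞^i/𝔞^(i+1), so this says that Proj is connected (possibly empty). -/
theorem result (A : Type u) [CommRing A] [IsDomain A]
    [IsNoetherianRing A] [IsLocalRing A] (hA : CAlg2.IsUnibranch A) (𝔞 : Ideal A)
    (hle : 𝔞 ≤ IsLocalRing.maximalIdeal A)
    (hpow : ∃ p : ℕ, IsLocalRing.maximalIdeal A ^ p ≤ 𝔞) {X : Scheme.{u}}
    (b : X ⟶ Spec (CommRingCat.of A))
    (hb : BlowUp.IsBlowUp b
      (Scheme.IdealSheafData.ofIdealTop (𝔞.map (Scheme.ΓSpecIso (CommRingCat.of A)).inv.hom))) :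
    PreconnectedSpace ↥(b.fiber (IsLocalRing.closedPoint A)) := by
  let S := Spec (CommRingCat.of A)
  let I : S.IdealSheafData :=
    Scheme.IdealSheafData.ofIdealTop (𝔞.map (Scheme.ΓSpecIso (CommRingCat.of A)).inv.hom)
  haveI : IsDomain (CommRingCat.of A) := inferInstanceAs (IsDomain A)
  haveI : IsNoetherianRing (CommRingCat.of A) := inferInstanceAs (IsNoetherianRing A)
  haveI : IsIntegral S := inferInstance
  let c : S := IsLocalRing.closedPoint A
  by_cases hI : I = ⊥
  · haveI := Groth.L16.Blow.isEmpty_of_support_top (I := I) hb fun y => by rw [hI, Scheme.IdealSheafData.support_bot]; trivial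
    haveI : IsEmpty ↥(b.fiber c) := ⟨fun z => isEmptyElim (b.fiberι c z)⟩
    exact ⟨Set.subsingleton_of_subsingleton.isPreconnected⟩
  obtain ⟨hX, he, hiso⟩ := Groth.L16.Blow.isIntegral_and_birational (I := I) hb hI
  haveI := hX
  haveI : IsProper b := Groth.L13.BU.isProper_blowUp hb fun U => by
    haveI : IsNoetherianRing Γ(S, U.1) := IsLocallyNoetherian.component_noetherian U
    exact IsNoetherian.noetherian _
  haveI : IsLocallyNoetherian X := LocallyOfFiniteType.isLocallyNoetherian b
  have hdom : b.base (genericPoint X) ⤳ genericPoint S := specializes_of_eq he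
  have hsurj : Function.Surjective (CohIII.stalkToFunctionField b (genericPoint S) hdom) := by
    intro z
    obtain ⟨a, ha⟩ := (ConcreteCategory.bijective_of_isIso (b.stalkMap (genericPoint X))).2 z
    obtain ⟨a', ha'⟩ := (ConcreteCategory.bijective_of_isIso (S.presheaf.stalkCongr (.of_eq he)).inv).2 a
    exact ⟨a', (congrArg (b.stalkMap (genericPoint X)) ha').trans ha⟩
  haveI : IsLocalization.AtPrime ((Spec.structureSheaf A).presheaf.stalk c) c.asIdeal :=
    StructureSheaf.IsLocalization.to_stalk A c
  let eA : A ≃+* (Spec.structureSheaf A).presheaf.stalk c :=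
    (IsLocalization.atUnits A c.asIdeal.primeCompl fun a (ha : a ∉ IsLocalRing.maximalIdeal A) =>
      not_not.1 fun h => ha h).toRingEquiv
  have hy : CAlg2.IsUnibranch (S.presheaf.stalk c) := by
    let K := FractionRing A
    let N := integralClosure A K
    haveI : IsIntegrallyClosed N := integralClosure.isIntegrallyClosedOfFiniteExtension K
    have hinj : Function.Injective (algebraMap A N) := fun a a' haa =>
      IsFractionRing.injective A K (congrArg Subtype.val haa)
    have hbir : ∀ x : N, ∃ a d : A, algebraMap A N a ≠ 0 ∧ algebraMap A N a * x = algebraMap A N d := fun x => by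
      obtain ⟨a, d, hd, had⟩ := IsFractionRing.div_surjective (A := A) x.1
      refine ⟨d, a, fun h0 => nonZeroDivisors.ne_zero hd (hinj (h0.trans (map_zero _).symm)), Subtype.ext ?_⟩
      show algebraMap A K d * x.1 = algebraMap A K a
      rw [← had, mul_div_cancel₀]
      exact fun h0 => nonZeroDivisors.ne_zero hd (IsFractionRing.injective A K (h0.trans (map_zero _).symm))
    have hN : IsLocalRing N := (Groth.L06.Unibranch.isUnibranch_iff (S := A) (N := N) (algebraMap A N)
      (fun x => Algebra.IsIntegral.isIntegral (R := A) x)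
      (by rw [(RingHom.injective_iff_ker_eq_bot _).1 hinj]; exact bot_le) hbir).1 hA
    haveI : IsLocalRing ((Spec.structureSheaf A).presheaf.stalk c) := inferInstanceAs (IsLocalRing (S.presheaf.stalk c))
    let φ : (Spec.structureSheaf A).presheaf.stalk c →+* N := (algebraMap A N).comp eA.symm.toRingHom
    refine (Groth.L06.Unibranch.isUnibranch_iff (S := (Spec.structureSheaf A).presheaf.stalk c) (N := N) φ ?_ ?_ ?_).2 hN
    · intro x
      obtain ⟨P, hP, hPx⟩ := Algebra.IsIntegral.isIntegral (R := A) x
      refine ⟨P.map eA.toRingHom, hP.map _, ?_⟩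
      rw [Polynomial.eval₂_map, show φ.comp eA.toRingHom = algebraMap A N from
        RingHom.ext fun a => congrArg (algebraMap A N) (eA.symm_apply_apply a)]
      exact hPx
    · rw [(RingHom.injective_iff_ker_eq_bot φ).1 (hinj.comp eA.symm.injective)]
      exact bot_le
    · intro x
      obtain ⟨a, d, ha, had⟩ := hbir x
      exact ⟨eA a, eA d, by simpa [φ] using ha, by simp only [φ, RingHom.comp_apply, RingEquiv.toRingHom_eq_coe, RingEquiv.coe_toRingHom, RingEquiv.symm_apply_apply]; exact had⟩
  haveI : ConnectedSpace ↥(b.fiber c) :=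
    Groth.Agent.S4464.result b hdom (fun z _ => ⟨0, by rw [pow_zero, pow_one]; exact hsurj z⟩) c hy
  exact inferInstanceAs (PreconnectedSpace ↥(b.fiber c))
end Groth.Agent.S4472
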