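import Groth.Statements.S4476
import Groth.Agent.L16.Rees.HomNearFibre

set_option autoImplicit false
set_option backward.isDefEq.respectTransparency false
universe u
attribute [local instance] HasDerivedCategory.standard
open Coherent

namespace Groth.Agent.S4476

open AlgebraicGeometry CategoryTheory in
/-- Over a local base. Let A be a Noetherian local ring with closed point y, X a scheme proper and flat
over Spec A, F and G finite locally free O_X-modules and F_y, G_y their restrictions (module
pullbacks) to the closed fibre X_y. Assume that the internal Hom functor Hom(F_y, −) exists as the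
right adjoint of F_y ⊗ − and that H^1(X_y, Hom(F_y, G_y)) = 0. Then every morphism u₀ : F_y → G_y is
the restriction to X_y of a morphism u : F → G; moreover for every such u, if u₀ is a monomorphism
(resp. an epimorphism) then u is a monomorphism (resp. an epimorphism). (Over a general locally
Noetherian base the published statements give u on the inverse image of a neighbourhood of y; over
the spectrum of a local ring that neighbourhood is the whole base.) -/
theorem result (A : Type u) [CommRing A] [IsNoetherianRing A]
    [IsLocalRing A] (X : Scheme.{u}) [X.Over (Spec (CommRingCat.of A))]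
    [IsProper (X ↘ Spec (CommRingCat.of A))] [Flat (X ↘ Spec (CommRingCat.of A))]
    (F G : X.Modules) (hF : FlatMod.IsFinLocFree F) (hG : FlatMod.IsFinLocFree G)
    [DCoh.HasSheafHom (CohIII.fiberMod (X ↘ Spec (CommRingCat.of A)) F (IsLocalRing.closedPoint A))]
    (h1 : Subsingleton (Coh.HH ((X ↘ Spec (CommRingCat.of A)).fiber (IsLocalRing.closedPoint A))
      ((DCoh.sheafHom (CohIII.fiberMod (X ↘ Spec (CommRingCat.of A)) F (IsLocalRing.closedPoint A))).obj
        (CohIII.fiberMod (X ↘ Spec (CommRingCat.of A)) G (IsLocalRing.closedPoint A))) 1))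
    (u₀ : CohIII.fiberMod (X ↘ Spec (CommRingCat.of A)) F (IsLocalRing.closedPoint A) ⟶
      CohIII.fiberMod (X ↘ Spec (CommRingCat.of A)) G (IsLocalRing.closedPoint A)) :
    (∃ u : F ⟶ G,
      (Scheme.Modules.pullback ((X ↘ Spec (CommRingCat.of A)).fiberι (IsLocalRing.closedPoint A))).map u = u₀) ∧
    ∀ u : F ⟶ G,
      (Scheme.Modules.pullback ((X ↘ Spec (CommRingCat.of A)).fiberι (IsLocalRing.closedPoint A))).map u = u₀ →
        (Mono u₀ → Mono u) ∧ (Epi u₀ → Epi u) := by
  let f := X ↘ Spec (CommRingCat.of A)
  haveI : LocallyOfFinitePresentation f := inferInstance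
  haveI : IsLocallyNoetherian X := LocallyOfFiniteType.isLocallyNoetherian f
  let g := f.fiberι (IsLocalRing.closedPoint A)
  refine ⟨Groth.L16.Rees.HomNearFibre.exists_hom_of_local f (IsLocalRing.closedPoint A) F G hF hG h1
    (fun q => IsLocalRing.specializes_closedPoint (R := A) q) u₀, fun u hu => ?_⟩
  · have hcoh : ∀ {M : X.Modules}, FlatMod.IsFinLocFree M → Coh.IsCoh M := fun {M} hM => by
      have hfp := Groth.L18.LFP.isFP_of_isFinLocFree M hM
      haveI : SheafOfModules.IsFinitePresentation (R := X.ringCatSheaf) M := hfp
      exact ⟨(inferInstance : SheafOfModules.IsQuasicoherent (R := X.ringCatSheaf) M),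
        (inferInstance : SheafOfModules.IsFiniteType (R := X.ringCatSheaf) M)⟩
    refine ⟨fun h => ?_, fun h => ?_⟩
    · haveI : Mono ((Scheme.Modules.pullback g).map u) := by rw [show (Scheme.Modules.pullback g).map u = u₀ from hu]; exact h
      exact Groth.L16.Rees.FibreMonoEpi.mono_of_fibre f u (hcoh hF) (hcoh hG)
        (Groth.L29.DC.RelTor.isFlatOver_of_isFlat f (Groth.L29.DC.isFlat_of_isFinLocFree hG))
    · haveI : Epi ((Scheme.Modules.pullback g).map u) := by rw [show (Scheme.Modules.pullback g).map u = u₀ from hu]; exact h
      exact Groth.L16.Rees.FibreMonoEpi.epi_of_fibre f u (hcoh hF) (hcoh hG)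


end Groth.Agent.S4476
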