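import Groth.Statements.S4480
import Groth.Agent.L16.Connected.AppIso
import Groth.Agent.L16.Connected.StalkClosure
import Groth.Agent.L00.ProperNorm

set_option autoImplicit false
set_option backward.isDefEq.respectTransparency false
universe u
open Coherent

namespace Groth.Agent.S4480

open AlgebraicGeometry CategoryTheory in
/-- Let X and Y be locally Noetherian integral schemes and f : X → Y a proper dominant morphism such
that the function field R(Y) is algebraically closed in R(X) (every element of R(X) satisfying a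
nonzero polynomial over R(Y) comes from R(Y)). Let y be a point of Y whose local ring is integrally
closed (a normal point). Then the fibre X_y is geometrically connected over the residue field of y
(its base change to every field extension of that residue field is connected and nonempty; in
particular X_y is connected and nonempty), and there is an open neighbourhood U of y such that
O_Y(V) → O_X(f⁻¹V) is an isomorphism for every open V ⊆ U. -/
theorem result {X Y : Scheme.{u}}
    [IsIntegral X] [IsIntegral Y] [IsLocallyNoetherian X] [IsLocallyNoetherian Y] (f : X ⟶ Y) [IsProper f]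
    (hdom : f.base (genericPoint X) ⤳ genericPoint Y)
    (halg : ∀ x : X.functionField,
      (∃ q : Polynomial Y.functionField, q ≠ 0 ∧
        Polynomial.eval₂ (CohIII.stalkToFunctionField f (genericPoint Y) hdom) x q = 0) →
      x ∈ Set.range (CohIII.stalkToFunctionField f (genericPoint Y) hdom))
    (y : Y) (hy : IsIntegrallyClosed (Y.presheaf.stalk y)) :
    GeometricallyConnected (f.fiberToSpecResidueField y) ∧
      ∃ U : Y.Opens, y ∈ U ∧ ∀ V : Y.Opens, V ≤ U → IsIso (f.app V) := by
  have e : f (genericPoint X) = genericPoint Y :=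
    (hdom.antisymm (genericPoint_specializes (f.base (genericPoint X)))).eq
  let θ := CohIII.stalkToFunctionField f (genericPoint Y) hdom
  have hgy : genericPoint Y ⤳ y := genericPoint_specializes y
  letI : Algebra (Y.presheaf.stalk y) Y.functionField := (Y.presheaf.stalkSpecializes hgy).hom.toAlgebra
  haveI : IsFractionRing (Y.presheaf.stalk y) Y.functionField := inferInstance
  haveI := hy
  obtain ⟨V, hV, hyV⟩ : ∃ V : Y.Opens, IsAffineOpen V ∧ y ∈ V := by
    obtain ⟨_, ⟨V, hV, rfl⟩, hy', -⟩ :=
      Y.isBasis_affineOpens.exists_subset_of_mem_open (Set.mem_univ y) isOpen_univ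
    exact ⟨V, hV, hy'⟩
  have hη : genericPoint Y ∈ V := hgy.mem_open V.2 hyV
  have hξ : genericPoint X ∈ f ⁻¹ᵁ V := by
    show f (genericPoint X) ∈ V
    rw [e]; exact hη
  have hgerm : ∀ a, X.presheaf.germ (f ⁻¹ᵁ V) (genericPoint X) hξ (f.app V a) =
      θ (Y.presheaf.germ V (genericPoint Y) hη a) := fun a =>
    (Groth.L16.Connected.stalkToFunctionField_germ f (genericPoint Y) hdom hη hξ a).symm
  have hinjX := germ_injective_of_isIntegral X (genericPoint X) hξ
  have hlift : ∀ r : Γ(X, f ⁻¹ᵁ V), ∃ (s a : Γ(Y, V)), y ∈ Y.basicOpen s ∧ f.app V s * r = f.app V a := by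
    intro r
    obtain ⟨P, hP, hPr⟩ := Groth.L16.Connected.isIntegral_app f hV r
    have hP' : Polynomial.eval₂ θ (X.presheaf.germ (f ⁻¹ᵁ V) (genericPoint X) hξ r)
        (P.map (Y.presheaf.germ V (genericPoint Y) hη).hom) = 0 := by
      rw [Polynomial.eval₂_map, show θ.comp (Y.presheaf.germ V (genericPoint Y) hη).hom =
        (X.presheaf.germ (f ⁻¹ᵁ V) (genericPoint X) hξ).hom.comp (f.app V).hom from RingHom.ext fun a => (hgerm a).symm]
      exact (Polynomial.hom_eval₂ P (f.app V).hom (X.presheaf.germ (f ⁻¹ᵁ V) (genericPoint X) hξ).hom r).symm.trans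
        ((congrArg _ hPr).trans (map_zero _))
    obtain ⟨z, hz⟩ := halg _ ⟨_, (hP.map _).ne_zero, hP'⟩
    have hzi : IsIntegral (Y.presheaf.stalk y) z := by
      refine ⟨P.map (Y.presheaf.germ V y hyV).hom, hP.map _, θ.injective ?_⟩
      rw [map_zero, ← hP', ← hz, Polynomial.eval₂_map, Polynomial.eval₂_map, Polynomial.hom_eval₂]
      congr 1
      refine RingHom.ext fun a => congrArg θ ?_
      exact TopCat.Presheaf.germ_stalkSpecializes_apply Y.presheaf hyV hgy a
    obtain ⟨o, ho⟩ := IsIntegrallyClosed.isIntegral_iff.mp hzi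
    letI : Algebra Γ(Y, V) (Y.presheaf.stalk y) := Y.presheaf.algebra_section_stalk ⟨y, hyV⟩
    haveI := hV.isLocalization_stalk ⟨y, hyV⟩
    obtain ⟨⟨a, s⟩, has⟩ := IsLocalization.surj (hV.primeIdealOf ⟨y, hyV⟩).asIdeal.primeCompl o
    refine ⟨s.1, a, (Scheme.mem_basicOpen _ _ _ hyV).2 (IsLocalization.map_units (Y.presheaf.stalk y) s),
      hinjX ?_⟩
    rw [map_mul, hgerm, hgerm, ← hz, ← map_mul, ← ho]
    refine congrArg θ ?_
    rw [← TopCat.Presheaf.germ_stalkSpecializes_apply Y.presheaf hyV hgy a]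
    show _ = algebraMap (Y.presheaf.stalk y) Y.functionField (algebraMap Γ(Y, V) (Y.presheaf.stalk y) a)
    rw [← has, map_mul, mul_comm]
    congr 1
    exact (TopCat.Presheaf.germ_stalkSpecializes_apply Y.presheaf hyV hgy s.1).symm
  have hfin : (f.app V).hom.Finite := by
    haveI := Groth.L00.ProperNorm.isFinite_fromNormalization f
    have hN : IsIso (f.toNormalization.app (f.fromNormalization ⁻¹ᵁ V)) :=
      Groth.L00.SteinNorm.isIso_toNormalization_app f _
    rw [Scheme.Hom.congr_app f.toNormalization_fromNormalization.symm V, Scheme.Hom.comp_app, Category.assoc,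
      CommRingCat.hom_comp]
    exact RingHom.Finite.comp (RingHom.Finite.of_surjective _ (ConcreteCategory.bijective_of_isIso
      (f.toNormalization.app (f.fromNormalization ⁻¹ᵁ V) ≫ X.presheaf.map (eqToHom _).op)).2)
      (IsFinite.finite_app _ V hV)
  letI := (f.app V).hom.toAlgebra
  haveI : Module.Finite Γ(Y, V) Γ(X, f ⁻¹ᵁ V) := hfin
  obtain ⟨G, hG⟩ := (Module.Finite.fg_top : (⊤ : Submodule Γ(Y, V) Γ(X, f ⁻¹ᵁ V)).FG)
  choose sf af hys hsa using hlift
  classical
  let s := ∏ r ∈ G, sf r
  have hyD : y ∈ Y.basicOpen s := by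
    rw [Scheme.mem_basicOpen _ _ _ hyV, map_prod]
    exact (IsUnit.prod_iff).2 fun r _ => (Scheme.mem_basicOpen _ _ _ hyV).1 (hys r)
  have hs : ∀ r, ∃ a, f.app V s * r = f.app V a := by
    intro r
    have hr : r ∈ Submodule.span Γ(Y, V) (G : Set Γ(X, f ⁻¹ᵁ V)) := by rw [hG]; trivial
    induction hr using Submodule.span_induction with
    | mem x hx =>
      refine ⟨(∏ t ∈ G.erase x, sf t) * af x, ?_⟩
      rw [map_mul, ← hsa, ← mul_assoc, ← map_mul, Finset.prod_erase_mul G sf (Finset.mem_coe.1 hx)]
    | zero => exact ⟨0, by rw [mul_zero, map_zero]⟩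
    | add x z _ _ hx hz =>
      obtain ⟨a, ha⟩ := hx
      obtain ⟨b, hb⟩ := hz
      exact ⟨a + b, by rw [mul_add, ha, hb, map_add]⟩
    | smul c x _ hx =>
      obtain ⟨a, ha⟩ := hx
      refine ⟨c * a, ?_⟩
      show f.app V s * (f.app V c * x) = _
      rw [mul_left_comm, ha, map_mul]
  have hD : IsAffineOpen (Y.basicOpen s) := hV.basicOpen s
  have hbij : Function.Bijective (f.app (Y.basicOpen s)) := by
    have hηD : genericPoint Y ∈ Y.basicOpen s := hgy.mem_open (Y.basicOpen s).2 hyD
    have hξD : genericPoint X ∈ f ⁻¹ᵁ Y.basicOpen s := by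
      show f (genericPoint X) ∈ Y.basicOpen s
      rw [e]; exact hηD
    refine ⟨fun a b hab => germ_injective_of_isIntegral Y (genericPoint Y) hηD (θ.injective ?_), fun t => ?_⟩
    · rw [Groth.L16.Connected.stalkToFunctionField_germ f (genericPoint Y) hdom hηD hξD a,
        Groth.L16.Connected.stalkToFunctionField_germ f (genericPoint Y) hdom hηD hξD b, hab]
    have eD : f ⁻¹ᵁ Y.basicOpen s = X.basicOpen (f.app V s) := Scheme.preimage_basicOpen f s
    haveI := isLocalization_basicOpen_of_qcqs (X := X) (U := f ⁻¹ᵁ V) (f.isCompact_preimage hV.isCompact)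
      (f.isQuasiSeparated_preimage hV.isQuasiSeparated) (f.app V s)
    obtain ⟨⟨r, ⟨_, n, rfl⟩⟩, hr⟩ := IsLocalization.surj (Submonoid.powers (f.app V s))
      (X.presheaf.map (eqToHom eD.symm).op t)
    obtain ⟨a, ha⟩ := hs r
    let ρ : Γ(Y, V) →+* Γ(Y, Y.basicOpen s) := (Y.presheaf.map (homOfLE (Y.basicOpen_le s)).op).hom
    have hu : IsUnit (ρ s) := RingedSpace.isUnit_res_basicOpen Y.toLocallyRingedSpace.toRingedSpace s
    refine ⟨↑(hu.pow (n + 1)).unit⁻¹ * ρ a, ((hu.pow (n + 1)).map (f.app _).hom).mul_left_cancel ?_⟩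
    show f.app _ (ρ s ^ (n + 1)) * f.app _ _ = f.app _ (ρ s ^ (n + 1)) * t
    rw [← map_mul, ← mul_assoc, IsUnit.mul_val_inv, one_mul]
    have hres : ∀ c, f.app (Y.basicOpen s) (ρ c) =
        X.presheaf.map (homOfLE (f.preimage_mono (Y.basicOpen_le s))).op (f.app V c) := fun c =>
      congr($(f.naturality (homOfLE (Y.basicOpen_le s)).op) c)
    apply (ConcreteCategory.bijective_of_isIso (X.presheaf.map (eqToHom eD.symm).op)).1
    rw [hres, ← map_pow ρ, hres, ← ha, map_pow, map_mul, map_mul, map_mul, pow_succ', map_mul, map_mul, mul_assoc]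
    simp only [← CommRingCat.comp_apply, ← Functor.map_comp]
    congr 1
    rw [RingHom.algebraMap_toAlgebra] at hr
    refine hr.symm.trans ?_
    rw [mul_comm]
    congr 1
  exact ⟨Groth.L16.Connected.geometricallyConnected_fiber_of_bijective f hD hbij hyD, Y.basicOpen s, hyD,
    (Groth.L16.Connected.isIso_app_le f hD hbij).1⟩
end Groth.Agent.S4480
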