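import Groth.Statements.S4481
import Groth.Agent.L16.QcqsPush
import Groth.Agent.L10.CechNerves

set_option autoImplicit false
universe u
open Coherent

namespace Groth.Agent.S4481

open AlgebraicGeometry CategoryTheory Opposite TopologicalSpace
open Groth.L18.Frame (rs ro rs_rs ro_ro rs_smul rs_self ro_self)
open Groth.L10.Cech (tup cx co mk co_mk co_ext co_d tup_eq_iInf)

variable {X : Scheme.{u}} {ι : Type u} (U : ι → X.Opens)

theorem tup_cons {k : ℕ} (i : ι) (a : Fin (k + 1) → ι) :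
    tup U (Fin.cons i a) = tup U a ⊓ U i := by
  rw [tup_eq_iInf, tup_eq_iInf]
  refine le_antisymm (le_inf (le_iInf fun l => ?_) ?_) (le_iInf fun l => ?_)
  · exact (iInf_le _ l.succ).trans_eq (by rw [Fin.cons_succ])
  · exact (iInf_le _ (0 : Fin (k + 2))).trans_eq (by rw [Fin.cons_zero])
  · refine Fin.cases ?_ ?_ l
    · rw [Fin.cons_zero]; exact inf_le_right
    · intro l; rw [Fin.cons_succ]; exact inf_le_left.trans (iInf_le _ l)

theorem isCompact_tup [QuasiSeparatedSpace X] (hqc : ∀ i, IsCompact (U i : Set X)) :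
    ∀ {k : ℕ} (a : Fin (k + 1) → ι), IsCompact ((tup U a : X.Opens) : Set X) := by
  intro k
  induction k with
  | zero =>
    intro a
    have e : tup U a = U (a 0) := by
      rw [tup_eq_iInf]
      exact le_antisymm (iInf_le _ 0) (le_iInf fun l => (congrArg (fun l => U (a l))
        (Subsingleton.elim (α := Fin 1) 0 l)).le)
    rw [e]
    exact hqc _
  | succ k ih =>
    intro a
    rw [show tup U a = tup U (Fin.tail a) ⊓ U (a 0) by rw [← tup_cons U (a 0) (Fin.tail a), Fin.cons_self_tail],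
      Opens.coe_inf]
    exact QuasiSeparatedSpace.inter_isCompact _ _ (tup U _).2 (ih _) (U _).2 (hqc _)

theorem tup_face_le {k : ℕ} (a : Fin (k + 2) → ι) (j : Fin (k + 2)) :
    tup U a ≤ tup U (a ∘ j.succAbove) := by
  rw [tup_eq_iInf, tup_eq_iInf]
  exact le_iInf fun l => iInf_le _ (j.succAbove l)

variable {U} (G : X.Modules)

theorem exactAt_of (K : CochainComplex AddCommGrpCat.{u} ℕ) (k : ℕ)
    (h : ∀ x : K.X (k + 1), K.d (k + 1) (k + 2) x = 0 → ∃ y : K.X k, K.d k (k + 1) y = x) :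
    K.ExactAt (k + 1) := by
  rw [HomologicalComplex.exactAt_iff' K k (k + 1) (k + 2) (by simp) (by simp),
    CategoryTheory.ShortComplex.ab_exact_iff]
  exact h

/-- Coordinates of a cochain. -/
noncomputable abbrev cc {k : ℕ} (a : Fin (k + 1) → ι)
    (x : (cx (𝟭 (Opens X)) U G.presheaf).X k) : Γ(G, tup U a) := co a x

theorem cc_d {k : ℕ} (a : Fin (k + 2) → ι) (x : (cx (𝟭 (Opens X)) U G.presheaf).X k) :
    cc G a ((cx (𝟭 (Opens X)) U G.presheaf).d k (k + 1) x) =
      ∑ j : Fin (k + 2), (-1 : ℤ) ^ (j : ℕ) • rs G (tup_face_le U a j) (cc G (a ∘ j.succAbove) x) :=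
  co_d a x

theorem rs_cast {k : ℕ} (x : (cx (𝟭 (Opens X)) U G.presheaf).X k) {a b : Fin (k + 1) → ι} (h : a = b)
    {V : X.Opens} (ha : V ≤ tup U a) :
    rs G ha (cc G a x) = rs G (h ▸ ha : V ≤ tup U b) (cc G b x) := by
  subst h; rfl

variable [Coh.IsQCoh G] [Finite ι] [QuasiSeparatedSpace X]

/-- A cocycle of positive degree times a power of the function is a coboundary. -/
theorem pow_smul_boundary (hqc : ∀ i, IsCompact (U i : Set X)) (W : X.Opens) (hW : ∀ i, U i ≤ W)
    (i : ι) (r : Γ(X, W)) (hr : U i = X.basicOpen r) {k : ℕ}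
    (c : (cx (𝟭 (Opens X)) U G.presheaf).X (k + 1))
    (hc : (cx (𝟭 (Opens X)) U G.presheaf).d (k + 1) (k + 2) c = 0) :
    ∃ (N : ℕ) (h : ∀ a : Fin (k + 1) → ι, Γ(G, tup U a)), ∀ b : Fin (k + 2) → ι,
      ∀ hbW : tup U b ≤ W,
      ∑ j : Fin (k + 2), (-1 : ℤ) ^ (j : ℕ) • rs G (tup_face_le U b j) (h (b ∘ j.succAbove)) =
        ro hbW (r ^ N) • cc G b c := by
  classical
  haveI : Fintype ι := Fintype.ofFinite ι
  have hle : ∀ {k : ℕ} (a : Fin (k + 1) → ι), tup U a ≤ W := fun a => by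
    rw [tup_eq_iInf]; exact (iInf_le _ 0).trans (hW _)
  have hb : ∀ {k : ℕ} (a : Fin (k + 1) → ι), X.basicOpen (ro (hle a) r) = tup U (Fin.cons i a) := fun a => by
    rw [Groth.L16.QcqsPush.basicOpen_ro, tup_cons, hr]
  have hex : ∀ a : Fin (k + 1) → ι, ∃ (N : ℕ) (t : Γ(G, tup U a)),
      rs G (X.basicOpen_le (ro (hle a) r)) t =
        ro (X.basicOpen_le _) (ro (hle a) r ^ N) • rs G (hb a).le (cc G (Fin.cons i a) c) := fun a =>
    Groth.L16.QcqsPush.exists_pow_smul_eq_res G (isCompact_tup U hqc a)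
      (isQuasiSeparated_univ.of_subset (Set.subset_univ _)) _ _
  choose n t ht using hex
  let N₀ := Finset.univ.sup n
  let t' : ∀ a : Fin (k + 1) → ι, Γ(G, tup U a) := fun a => ro (hle a) (r ^ (N₀ - n a)) • t a
  have ht' : ∀ (a : Fin (k + 1) → ι) (V : X.Opens) (hV : V ≤ tup U a) (hV' : V ≤ tup U (Fin.cons i a)),
      rs G hV (t' a) = ro (hV.trans (hle a)) (r ^ N₀) • rs G hV' (cc G (Fin.cons i a) c) := by
    intro a V hV hV'
    have h1 := congrArg (rs G (hV'.trans (hb a).ge)) (ht a)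
    simp only [rs_rs, rs_smul, ← Groth.L16.QcqsPush.ro_pow, ro_ro] at h1
    simp only [t', rs_smul, ro_ro]
    rw [h1, smul_smul, ← map_mul, ← pow_add, Nat.sub_add_cancel (Finset.le_sup (Finset.mem_univ a))]
  let D : ∀ b : Fin (k + 2) → ι, Γ(G, tup U b) := fun b =>
    ∑ j : Fin (k + 2), (-1 : ℤ) ^ (j : ℕ) • rs G (tup_face_le U b j) (t' (b ∘ j.succAbove)) -
      ro (hle b) (r ^ N₀) • cc G b c
  have hD : ∀ b, ∃ M : ℕ, ro (hle b) r ^ M • D b = 0 := by
    intro b
    refine Groth.L16.QcqsPush.exists_pow_smul_eq_zero G (isCompact_tup U hqc b) _ _ ?_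
    set V := X.basicOpen (ro (hle b) r) with hV
    have hVb : V ≤ tup U b := X.basicOpen_le _
    have hVi : V ≤ tup U (Fin.cons i b) := (hb b).le
    have hco : cc G (Fin.cons i b : Fin (k + 3) → ι) ((cx (𝟭 (Opens X)) U G.presheaf).d (k + 1) (k + 2) c) = 0 := by
      rw [hc]; exact map_zero _
    rw [cc_d, Fin.sum_univ_succ] at hco
    have h2 := congrArg (rs G hVi) hco
    simp only [rs, map_add, map_sum, map_zsmul, map_zero, Fin.val_zero, pow_zero, one_smul, Fin.val_succ] at h2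
    change rs G hVi (rs G _ _) + ∑ x : Fin (k + 2), (-1 : ℤ) ^ ((x : ℕ) + 1) • rs G hVi (rs G _ _) = 0 at h2
    have e0 : (Fin.cons i b : Fin (k + 3) → ι) ∘ (0 : Fin (k + 3)).succAbove = b := by
      funext l; simp
    have ej : ∀ j : Fin (k + 2), (Fin.cons i b : Fin (k + 3) → ι) ∘ j.succ.succAbove =
        Fin.cons i (b ∘ j.succAbove) := by
      intro j; funext l
      refine Fin.cases ?_ ?_ l
      · simp
      · intro l; simp
    simp only [rs_rs] at h2
    rw [rs_cast G c e0] at h2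
    simp only [fun j => rs_cast G c (ej j) (V := V), pow_succ, mul_neg, mul_one, neg_smul,
      Finset.sum_neg_distrib, ← sub_eq_add_neg, sub_eq_zero] at h2
    show rs G hVb (D b) = 0
    simp only [D, rs, map_sub, map_sum, map_zsmul]
    change (∑ x : Fin (k + 2), (-1 : ℤ) ^ (x : ℕ) • rs G hVb (rs G _ _)) - rs G hVb (_ • _) = 0
    simp only [rs_rs, rs_smul, ro_ro]
    rw [h2, Finset.smul_sum, ← Finset.sum_sub_distrib]
    refine Finset.sum_eq_zero fun j _ => ?_
    rw [ht' (b ∘ j.succAbove) V (hVb.trans (tup_face_le U b j))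
      (by
        rw [hb] at hV
        rw [tup_cons]
        exact le_inf (hVb.trans (tup_face_le U b j)) (hVi.trans ((tup_cons U i b).le.trans inf_le_right))),
      smul_comm, sub_self]
  choose M hM using hD
  let M₀ := Finset.univ.sup M
  refine ⟨M₀ + N₀, fun a => ro (hle a) (r ^ M₀) • t' a, fun b hbW => ?_⟩
  have h3 : ro (hle b) r ^ M₀ • D b = 0 := by
    obtain ⟨d, hd⟩ := Nat.exists_eq_add_of_le (show M b ≤ M₀ from Finset.le_sup (f := M) (Finset.mem_univ b))
    rw [hd, add_comm (M b) d, pow_add, mul_smul, hM, smul_zero]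
  simp only [D, smul_sub, Finset.smul_sum, sub_eq_zero, ← Groth.L16.QcqsPush.ro_pow] at h3
  rw [pow_add, Groth.L18.Frame.ro_mul, mul_smul, ← h3]
  refine Finset.sum_congr rfl fun j _ => ?_
  rw [rs_smul, ro_ro, smul_comm]


theorem ro_one {V W : X.Opens} (h : V ≤ W) : ro h (1 : Γ(X, W)) = 1 := map_one _

omit [Coh.IsQCoh G] [Finite ι] [QuasiSeparatedSpace X] in
theorem boundary_sum {κ : Type u} (W : X.Opens) {k : ℕ}
    (hle : ∀ a : Fin (k + 1) → ι, tup U a ≤ W) (s : Finset κ) (e p : κ → Γ(X, W))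
    (h : κ → ∀ a : Fin (k + 1) → ι, Γ(G, tup U a)) (c : (cx (𝟭 (Opens X)) U G.presheaf).X (k + 1))
    (b : Fin (k + 2) → ι)
    (hh : ∀ i, ∑ j : Fin (k + 2), (-1 : ℤ) ^ (j : ℕ) • rs G (tup_face_le U b j) (h i (b ∘ j.succAbove)) =
        ro ((tup_face_le U b 0).trans (hle _)) (p i) • cc G b c) :
    cc G b ((cx (𝟭 (Opens X)) U G.presheaf).d k (k + 1) (mk fun a => ∑ i ∈ s, ro (hle a) (e i) • h i a)) =
      ro ((tup_face_le U b 0).trans (hle _)) (∑ i ∈ s, e i * p i) • cc G b c := by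
  rw [cc_d]
  have h1 : ∀ j : Fin (k + 2),
      rs G (tup_face_le U b j) (cc G (b ∘ j.succAbove) (mk fun a => ∑ i ∈ s, ro (hle a) (e i) • h i a)) =
        ∑ i ∈ s, ro ((tup_face_le U b 0).trans (hle _)) (e i) • rs G (tup_face_le U b j) (h i (b ∘ j.succAbove)) := by
    intro j
    rw [show cc G (b ∘ j.succAbove) (mk fun a => ∑ i ∈ s, ro (hle a) (e i) • h i a) = _ from co_mk _ _]
    refine (map_sum (G.presheaf.map (homOfLE (tup_face_le U b j)).op).hom _ s).trans (Finset.sum_congr rfl fun i _ => ?_)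
    exact (rs_smul G (tup_face_le U b j) _ _).trans (by rw [ro_ro])
  simp only [h1, Finset.smul_sum]
  rw [Finset.sum_comm, show ro ((tup_face_le U b 0).trans (hle _)) (∑ i ∈ s, e i * p i) =
    ∑ i ∈ s, ro ((tup_face_le U b 0).trans (hle _)) (e i) * ro ((tup_face_le U b 0).trans (hle _)) (p i) from
    (map_sum _ _ _).trans (Finset.sum_congr rfl fun i _ => map_mul _ _ _), Finset.sum_smul]
  refine Finset.sum_congr rfl fun i _ => ?_
  rw [mul_smul, ← hh i, Finset.smul_sum]
  exact Finset.sum_congr rfl fun j _ => smul_comm _ _ _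

/-- The Čech complex of a family of basic opens of functions generating the unit ideal is acyclic. -/
theorem exactAt_of_unitIdeal [Fintype ι] (hqc : ∀ i, IsCompact (U i : Set X)) (W : X.Opens) (hW : ∀ i, U i ≤ W)
    (r : ι → Γ(X, W)) (hr : ∀ i, U i = X.basicOpen (r i)) (hspan : Ideal.span (Set.range r) = ⊤) (k : ℕ) :
    (cx (𝟭 (Opens X)) U G.presheaf).ExactAt (k + 1) := by
  classical
  refine exactAt_of _ k fun c hc => ?_
  have hle : ∀ {k : ℕ} (a : Fin (k + 1) → ι), tup U a ≤ W := fun a => by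
    rw [tup_eq_iInf]; exact (iInf_le _ 0).trans (hW _)
  choose N h hh using fun i : ι => pow_smul_boundary G hqc W hW i (r i) (hr i) c hc
  let N₀ := Finset.univ.sup N
  have hpow := Ideal.span_pow_eq_top (Set.range r) hspan N₀
  rw [← Set.range_comp', Ideal.eq_top_iff_one, Ideal.mem_span_range_iff_exists_fun] at hpow
  obtain ⟨e, he⟩ := hpow
  refine ⟨mk fun a => ∑ i, ro (hle a) (e i * r i ^ (N₀ - N i)) • h i a, co_ext fun b => ?_⟩
  have hcalc := boundary_sum G W (fun a => hle a) Finset.univ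
    (fun i => e i * r i ^ (N₀ - N i)) (fun i => r i ^ N i) h c b (fun i => hh i b (hle b))
  have hone : (∑ i, e i * r i ^ (N₀ - N i) * r i ^ N i) = 1 := by
    rw [← he]
    refine Finset.sum_congr rfl fun i _ => ?_
    rw [mul_assoc, ← pow_add, Nat.sub_add_cancel (Finset.le_sup (Finset.mem_univ i))]
  rw [hone, ro_one, one_smul] at hcalc
  exact hcalc

open AlgebraicGeometry CategoryTheory Opposite in
/-- Let X be a separated scheme, f_1, …, f_n global functions on X such that every open X_{f_i} is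
quasi-compact, U the union of the X_{f_i}, and suppose there are sections g_1, …, g_n of O_X over U
with Σ g_i · (f_i|_U) = 1. Then for every quasi-coherent O_X-module G and every p > 0 the Čech
cohomology group of G in degree p with respect to the family of opens (X_{f_i}) is zero. (The
published statement also covers a scheme whose underlying space is Noetherian, not necessarily
separated; this row treats separated X.) -/
theorem result (X : Scheme.{u}) [X.IsSeparated] (n : ℕ)
    (f : Fin n → Γ(X, ⊤)) (hqc : ∀ i, IsCompact (X.basicOpen (f i) : Set X))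
    (g : Fin n → Γ(X, ⨆ i, X.basicOpen (f i)))
    (hg : (Finset.univ.sum fun i => g i *
      (X.presheaf.map (homOfLE (le_top : (⨆ i, X.basicOpen (f i)) ≤ ⊤)).op).hom (f i)) = 1)
    (G : X.Modules) [Coh.IsQCoh G] (p : ℕ) (hp : 0 < p) :
    Limits.IsZero (CohB1.cechH (fun i : ULift.{u} (Fin n) => X.basicOpen (f i.down)) G p) := by
  classical
  obtain ⟨k, rfl⟩ : ∃ k, p = k + 1 := ⟨p - 1, by omega⟩
  refine (exactAt_of_unitIdeal G (U := fun i : ULift.{u} (Fin n) => X.basicOpen (f i.down)) (fun i => hqc i.down)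
    (⨆ i, X.basicOpen (f i)) (fun i => le_iSup (fun i => X.basicOpen (f i)) i.down)
    (fun i => ro le_top (f i.down)) (fun i => ?_) ?_ k).isZero_homology
  · rw [Groth.L16.QcqsPush.basicOpen_ro, inf_eq_right.2 (le_iSup (fun i => X.basicOpen (f i)) i.down)]
  · rw [Ideal.eq_top_iff_one, ← hg]
    exact Ideal.sum_mem _ fun i _ => Ideal.mul_mem_left _ _ (Ideal.subset_span ⟨⟨i⟩, rfl⟩)

end Groth.Agent.S4481
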