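import Groth.Statements.S4485
import Groth.Agent.L01.FlatCx.Rank

set_option autoImplicit false
universe u
open FlatCx

namespace Groth.Agent.S4485

open CategoryTheory CategoryTheory.Limits
open scoped TensorProduct
open Groth.L01.FlatCx

lemma hi' (j : ℤ) : (ComplexShape.down ℤ).prev j = j + 1 := (ComplexShape.down ℤ).prev_eq' rfl
lemma hk' (j : ℤ) : (ComplexShape.down ℤ).next j = j - 1 := (ComplexShape.down ℤ).next_eq' (by simp)
lemma hkj' (j : ℤ) : (ComplexShape.down ℤ).prev (j - 1) = j := (ComplexShape.down ℤ).prev_eq' (by simp)


/-- For the homological functor T_p(M) = H_p(P ⊗_A M) of a chain complex P of flat modules over a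
commutative ring A. If T_p takes injections to injections and surjections to surjections and T_p(A)
is a finitely presented A-module, then the function x ↦ dim_{k(x)} H_p(P ⊗_A k(x)) is locally
constant on Spec A (hence constant when Spec A is connected). No Noetherian hypothesis on A. -/
theorem result {A : Type u} [CommRing A]
    (P : ChainComplex (ModuleCat.{u} A) ℤ) (hP : ∀ i, Module.Flat A (P.X i)) (p : ℤ)
    (hex : (CohIII.TFun P p).PreservesMonomorphisms ∧ (CohIII.TFun P p).PreservesEpimorphisms)
    (hfp : Module.FinitePresentation A (CohIII.T P p (ModuleCat.of A A))) :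
    IsLocallyConstant (CohIII.dRank P p) := by
  obtain ⟨hm, he⟩ := hex
  have : Module.Flat A ((CohIII.TFun P p).obj (ModuleCat.of A A) : Type u) := flat_homology_of_exact P p hP
  have : Module.FinitePresentation A ((CohIII.TFun P p).obj (ModuleCat.of A A) : Type u) := hfp
  rw [show CohIII.dRank P p = mu ((CohIII.TFun P p).obj (ModuleCat.of A A) : Type u) from
    funext (dRank_eq_mu P p hP)]
  exact isLocallyConstant_mu _

end Groth.Agent.S4485
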