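import Groth.Statements.S4487
import Groth.Agent.L01.FlatCx.Bounded
import Mathlib.RingTheory.Spectrum.Prime.RingHom

set_option autoImplicit false
universe u
open FlatCx

namespace Groth.Agent.S4487

open CategoryTheory CategoryTheory.Limits
open scoped TensorProduct
open Groth.L01.FlatCx


/-- The case of the homological functor T_p(M) = H_p(P ⊗_A M) of a chain complex P of flat modules over
a commutative ring A. Let A be Noetherian and suppose P_i = 0 for i < i₀ and that every T_n(A) is a
finitely generated A-module. Then for every integer N there is a dense open subset U of Spec A such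
that, for every p ≤ N, the function x ↦ dim_{k(x)} H_p(P ⊗_A k(x)) is locally constant on U. (The
published statement says constant on U; over the product of two fields, with P the projective module
supported on one factor placed in degree 0, the only dense open set is the whole two-point spectrum
and the ranks there are 1 and 0, so locally constant on U is what holds; the argument produces U as
a disjoint union of opens, one dense in each irreducible component, on each of which the functions
are constant.) -/
theorem result {A : Type u} [CommRing A] [IsNoetherianRing A]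
    (P : ChainComplex (ModuleCat.{u} A) ℤ) (hP : ∀ i, Module.Flat A (P.X i)) (i₀ : ℤ)
    (hb : ∀ i < i₀, IsZero (P.X i))
    (hfg : ∀ n : ℤ, Module.Finite A (CohIII.T P n (ModuleCat.of A A))) (N : ℤ) :
    ∃ U : Set (PrimeSpectrum A), IsOpen U ∧ Dense U ∧
      ∀ p ≤ N, IsLocallyConstant (fun x : U => CohIII.dRank P p x) := by
  classical
  have key : ∀ q : Ideal A, q ∈ minimalPrimes A → ∃ g : A, g ∉ q ∧ ∀ p ≤ N, ∀ x : PrimeSpectrum A,
      g ∉ x.asIdeal → ∀ y : PrimeSpectrum A, g ∉ y.asIdeal → CohIII.dRank P p x = CohIII.dRank P p y := by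
    intro q hq
    have hqp : q.IsPrime := hq.1.1
    let A' := A ⧸ q
    have : Module.Finite A A' := inferInstance
    have hfin : ∀ n, Module.FinitePresentation A'
        ((CohIII.TFun (bc A' P) n).obj (ModuleCat.of A' A') : Type u) := fun n => by
      have := finite_T_of_bounded P hP hb hfg n (ModuleCat.of A A')
      have := finite_homology_bc P A' n
      have : Module.Finite A' ((CohIII.TFun (bc A' P) n).obj (ModuleCat.of A' A') : Type u) :=
        Module.Finite.equiv (unitEquiv (bc A' P) n).symm
      exact Module.finitePresentation_of_finite A' _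
    have hflat := flat_bc A' P hP
    have hb' : ∀ i < i₀, IsZero ((bc A' P).X i) := fun i hi => by
      have := ModuleCat.subsingleton_of_isZero (hb i hi)
      have : Subsingleton ((bc A' P).X i) := (bcE A' (P.X i)).toEquiv.subsingleton
      exact ModuleCat.isZero_of_subsingleton _
    obtain ⟨f, hf0, hf⟩ := exists_away_exact (bc A' P) hflat hb' hfin N
    obtain ⟨f₀, rfl⟩ := Ideal.Quotient.mk_surjective f
    have hfin' : (minimalPrimes A).Finite := minimalPrimes.finite_of_isNoetherianRing A
    have hex : ∀ q' ∈ (hfin'.toFinset.erase q : Finset (Ideal A)), ∃ a, a ∈ q' ∧ a ∉ q := by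
      intro q' hq'
      rw [Finset.mem_erase, Set.Finite.mem_toFinset] at hq'
      by_contra! hle
      exact hq'.1 (le_antisymm hle (hq.2 ⟨hq'.2.1.1, bot_le⟩ hle))
    choose a ha ha' using hex
    let g := ∏ q' ∈ (hfin'.toFinset.erase q).attach, a q'.1 q'.2
    refine ⟨f₀ * g, fun hmem => ?_, fun p hp x hx y hy => ?_⟩
    · rcases hqp.mem_or_mem hmem with h | h
      · exact hf0 (Ideal.Quotient.eq_zero_iff_mem.mpr h)
      · obtain ⟨q', -, hq'⟩ := (hqp.prod_mem_iff).mp h
        exact ha' _ _ hq'
    let B := Localization.Away (Ideal.Quotient.mk q f₀)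
    obtain ⟨hm, he⟩ := hf p hp
    have hflatB := flat_bc B (bc A' P) hflat
    let H : Type u := (CohIII.TFun (bc B (bc A' P)) p).obj (ModuleCat.of B B)
    have : Module.Finite B H := by
      have := finite_T_of_bounded P hP hb hfg p (ModuleCat.of A A')
      have := finite_homology_bc P A' p
      have hAB : Module.Flat A' B := IsLocalization.flat B (Submonoid.powers (Ideal.Quotient.mk q f₀))
      obtain ⟨e⟩ := nonempty_homology_bc B (bc A' P) p (bijective_tMap_of_flat _ p (ModuleCat.of A' B))
      have : Module.Finite A' ((CohIII.TFun (bc A' P) p).obj (ModuleCat.of A' A') : Type u) :=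
        Module.Finite.equiv (unitEquiv (bc A' P) p).symm
      exact Module.Finite.equiv (e.symm.trans (unitEquiv (bc B (bc A' P)) p).symm)
    have : Module.Flat B H := flat_homology_of_exact (bc B (bc A' P)) p hflatB
    have hdom : IsDomain B := IsLocalization.isDomain_localization
      (powers_le_nonZeroDivisors_of_noZeroDivisors hf0)
    have hlift : ∀ x : PrimeSpectrum A, f₀ * g ∉ x.asIdeal →
        ∃ z : PrimeSpectrum B, CohIII.dRank P p x = CohIII.dRank (bc B (bc A' P)) p z := by
      intro x hx
      obtain ⟨m, hm', hmx⟩ := Ideal.exists_minimalPrimes_le (I := ⊥) (J := x.asIdeal) bot_le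
      have hmq : m = q := by
        by_contra hne
        refine hx (x.asIdeal.mul_mem_left f₀ (hmx ?_))
        exact hm'.1.1.prod_mem_iff.mpr ⟨⟨m, Finset.mem_erase.mpr ⟨hne, hfin'.mem_toFinset.mpr hm'⟩⟩,
          Finset.mem_attach _ _, ha _ _⟩
      subst hmq
      obtain ⟨x', hx'⟩ : ∃ x' : PrimeSpectrum A', PrimeSpectrum.comap (algebraMap A A') x' = x := by
        have : x ∈ Set.range (PrimeSpectrum.comap (Ideal.Quotient.mk m)) := by
          rw [_root_.range_comap_of_surjective _ _ Ideal.Quotient.mk_surjective, Ideal.mk_ker]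
          exact hmx
        exact this
      obtain ⟨z, hz⟩ : ∃ z : PrimeSpectrum B, PrimeSpectrum.comap (algebraMap A' B) z = x' := by
        have : x' ∈ Set.range (PrimeSpectrum.comap (algebraMap A' B)) := by
          rw [PrimeSpectrum.localization_away_comap_range B (Ideal.Quotient.mk m f₀)]
          intro h
          refine hx (x.asIdeal.mul_mem_right g ?_)
          rw [← hx']
          exact h
        exact this
      refine ⟨z, ?_⟩
      rw [← hx', ← hz]
      exact (dRank_baseChange P p _).symm.trans (dRank_baseChange (bc A' P) p z).symm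
    obtain ⟨z₁, e₁⟩ := hlift x hx
    obtain ⟨z₂, e₂⟩ := hlift y hy
    have hconst : ∀ z : PrimeSpectrum B, CohIII.dRank (bc B (bc A' P)) p z =
        Module.rankAtStalk (R := B) H ⟨⊥, Ideal.isPrime_bot⟩ := fun z => by
      rw [dRank_eq_mu (bc B (bc A' P)) p hflatB z, mu_eq_rankAtStalk]
      exact (Module.rankAtStalk_eq_of_le_of_finite_of_flat H
        (show (⟨⊥, Ideal.isPrime_bot⟩ : PrimeSpectrum B) ≤ z from bot_le)).symm
    rw [e₁, e₂, hconst, hconst]
  choose g hg hconst using key
  let U : Set (PrimeSpectrum A) := ⋃ q, ⋃ hq : q ∈ minimalPrimes A, (PrimeSpectrum.basicOpen (g q hq) : Set _)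
  have hU : IsOpen U := isOpen_iUnion fun q => isOpen_iUnion fun hq => (PrimeSpectrum.basicOpen _).2
  refine ⟨U, hU, ?_, fun p hp => ?_⟩
  · rw [dense_iff_inter_open]
    intro V hV ⟨x, hx⟩
    obtain ⟨m, hm, hmx⟩ := Ideal.exists_minimalPrimes_le (I := ⊥) (J := x.asIdeal) bot_le
    let y : PrimeSpectrum A := ⟨m, hm.1.1⟩
    exact ⟨y, ((PrimeSpectrum.le_iff_specializes y x).mp hmx).mem_open hV hx,
      Set.mem_iUnion₂.mpr ⟨m, hm, hg m hm⟩⟩
  · rw [IsLocallyConstant.iff_exists_open]
    intro ⟨x, hx⟩
    obtain ⟨q, hq, hxq⟩ := Set.mem_iUnion₂.mp hx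
    let W : Set (PrimeSpectrum A) := (PrimeSpectrum.basicOpen (g q hq) : Set _)
    refine ⟨(Subtype.val : U → PrimeSpectrum A) ⁻¹' W,
      (PrimeSpectrum.basicOpen _).2.preimage continuous_subtype_val, hxq, fun y hy => ?_⟩
    exact hconst q hq p hp y.1 hy x hxq

end Groth.Agent.S4487
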