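import Groth.Statements.S4488
import Groth.Agent.L01.FlatCx.Bounded
import Mathlib.RingTheory.Spectrum.Prime.RingHom

set_option autoImplicit false
universe u
open FlatCx

namespace Groth.Agent.S4488

open CategoryTheory CategoryTheory.Limits
open scoped TensorProduct
open Groth.L01.FlatCx


/-- For the homological functor T_q(M) = H_q(P ⊗_A M) of a chain complex P of flat modules over a
commutative local ring A with residue field k. Suppose P_i = 0 for i < i₀ and that every T_n(A) is a
finitely presented A-module, and let p be an integer. If T_q takes injections to injections and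
surjections to surjections for every q ≤ p, then dim_{k(x)} T_q(k(x)) = dim_k T_q(k) for every point
x of Spec A and every q ≤ p. Conversely, if A is reduced and this equality holds at the generic
point of every irreducible component of Spec A (every minimal prime) for every q ≤ p, then T_q takes
injections to injections and surjections to surjections for every q ≤ p. No Noetherian hypothesis on
A. -/
theorem result {A : Type u} [CommRing A] [IsLocalRing A]
    (P : ChainComplex (ModuleCat.{u} A) ℤ) (hP : ∀ i, Module.Flat A (P.X i)) (i₀ : ℤ)
    (hb : ∀ i < i₀, IsZero (P.X i))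
    (hfp : ∀ n : ℤ, Module.FinitePresentation A (CohIII.T P n (ModuleCat.of A A))) (p : ℤ) :
    ((∀ q ≤ p, (CohIII.TFun P q).PreservesMonomorphisms ∧ (CohIII.TFun P q).PreservesEpimorphisms) →
        ∀ (x : PrimeSpectrum A), ∀ q ≤ p, CohIII.dRank P q x = CohIII.dRank P q (IsLocalRing.closedPoint A)) ∧
      (IsReduced A →
        (∀ x : PrimeSpectrum A, x.asIdeal ∈ minimalPrimes A →
          ∀ q ≤ p, CohIII.dRank P q x = CohIII.dRank P q (IsLocalRing.closedPoint A)) →
        ∀ q ≤ p, (CohIII.TFun P q).PreservesMonomorphisms ∧ (CohIII.TFun P q).PreservesEpimorphisms) := by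
  let H : ℤ → Type u := fun q => (CohIII.TFun P q).obj (ModuleCat.of A A)
  have hH : ∀ q, Module.FinitePresentation A (H q) := fun q => hfp q
  have hd : ∀ q, (CohIII.TFun P q).PreservesEpimorphisms → ∀ x,
      CohIII.dRank P q x = mu (A := A) (H q) x := fun q _ x => dRank_eq_mu P q hP x
  have hcc : ∀ q : PrimeSpectrum A, q ≤ IsLocalRing.closedPoint A :=
    fun q => IsLocalRing.le_maximalIdeal (Ideal.IsPrime.ne_top q.2)
  constructor
  · intro h x q hq
    obtain ⟨hm, he⟩ := h q hq
    have : Module.Flat A (H q) := flat_homology_of_exact P q hP
    rw [hd q he, hd q he, mu_eq_rankAtStalk, mu_eq_rankAtStalk]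
    exact Module.rankAtStalk_eq_of_le_of_finite_of_flat _ (hcc x)
  · intro _ h
    refine exact_upTo P hP hb p fun q hq he => ?_
    have := free_of_mu_minimal (A := A) (H q) fun x hx => by
      rw [← hd q he, ← hd q he]
      exact h x hx q hq
    exact inferInstanceAs (Module.Flat A (H q))

end Groth.Agent.S4488
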