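import Groth.Statements.S4489
import Groth.Agent.L01.FlatCx.Seq
import Mathlib.RingTheory.Flat.TorsionFree

set_option autoImplicit false
universe u
open FlatCx

namespace Groth.Agent.S4489

open CategoryTheory CategoryTheory.Limits in
/-- For the homological functor T_p(M) = H_p(P ⊗_A M) of a chain complex P of flat modules, stated over
a Dedekind domain A. (The published statement allows A to be a finite product of Dedekind domains,
that is, a Noetherian regular ring of dimension at most 1; this row takes A a Dedekind domain.) Then
T_p takes injections to injections if and only if H_p(P) is a flat A-module; and, with q + 1 = p,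
T_p takes injections to injections and surjections to surjections if and only if H_p(P) and H_q(P)
are both flat. -/
theorem result {A : Type u} [CommRing A] [IsDedekindDomain A]
    (P : ChainComplex (ModuleCat.{u} A) ℤ) (hP : ∀ i, Module.Flat A (P.X i)) (p q : ℤ) (hpq : q + 1 = p) :
    ((CohIII.TFun P p).PreservesMonomorphisms ↔ Module.Flat A (P.homology p)) ∧
      (((CohIII.TFun P p).PreservesMonomorphisms ∧ (CohIII.TFun P p).PreservesEpimorphisms) ↔
        (Module.Flat A (P.homology p) ∧ Module.Flat A (P.homology q))) := by
  have hk : (ComplexShape.down ℤ).next p = q := (ComplexShape.down ℤ).next_eq' hpq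
  have hkj : (ComplexShape.down ℤ).prev q = p := (ComplexShape.down ℤ).prev_eq' hpq
  have hflat : ∀ i j : ℤ, Module.Flat A (LinearMap.range (Groth.L01.FlatCx.dd P i j)) := fun i j => by
    have := hP j
    infer_instance
  have hkp : (ComplexShape.down ℤ).next q = q - 1 := (ComplexShape.down ℤ).next_eq' (by simp)
  have hp : (ComplexShape.down ℤ).prev p = p + 1 := (ComplexShape.down ℤ).prev_eq' rfl
  have H : ∀ j, Module.Flat A ((CohIII.TFun P j).obj (ModuleCat.of A A)) ↔ Module.Flat A (P.homology j) :=
    fun j => Module.Flat.equiv_iff (Groth.L01.FlatCx.unitEquiv P j)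
  have h1 : (CohIII.TFun P p).PreservesMonomorphisms ↔ Module.Flat A (P.homology p) := by
    rw [Groth.L01.FlatCx.preservesMono_iff P hp hP, ← H p]
    have := hflat p q
    exact Groth.L01.FlatCx.flat_coker_iff P hp hk
  have h2 : (CohIII.TFun P p).PreservesEpimorphisms ↔ Module.Flat A (P.homology q) := by
    rw [Groth.L01.FlatCx.preservesEpi_iff P hk hkj hP, ← H q]
    have := hflat q (q - 1)
    exact Groth.L01.FlatCx.flat_coker_iff P hkj hkp
  exact ⟨h1, and_congr h1 h2⟩

end Groth.Agent.S4489
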