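import Groth.Statements.S4490
import Groth.Agent.L01.FlatCx.Local

set_option autoImplicit false
universe u
open FlatCx

namespace Groth.Agent.S4490

open CategoryTheory CategoryTheory.Limits in
/-- The case of the functor T_p(M) = H_p(P ⊗_A M) of a chain complex P of finitely generated flat
modules over a Noetherian local ring A with maximal ideal m and residue field k. Then T_p takes
surjections to surjections if and only if the map T_p(A) → T_p(k) induced by A → k is surjective;
and also if and only if, for all sufficiently large n (there is n₀ such that for every n ≥ n₀), the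
map T_p(A/m^(n+1)) → T_p(A/m) induced by the projection is surjective. (Surjectivity at one n gives
it at every smaller n, so this is the same as asking it for every n; at n = 0 alone the map is an
isomorphism and the condition would be empty.) -/
theorem result {A : Type u} [CommRing A] [IsNoetherianRing A]
    [IsLocalRing A] (P : ChainComplex (ModuleCat.{u} A) ℤ)
    (hP : ∀ i, Module.Finite A (P.X i) ∧ Module.Flat A (P.X i)) (p : ℤ) :
    ((CohIII.TFun P p).PreservesEpimorphisms ↔
      Function.Surjective ((CohIII.TFun P p).map
        (ModuleCat.ofHom (Algebra.linearMap A (IsLocalRing.ResidueField A)))).hom) ∧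
    ((CohIII.TFun P p).PreservesEpimorphisms ↔
      ∃ n₀ : ℕ, ∀ n : ℕ, n₀ ≤ n → Function.Surjective ((CohIII.TFun P p).map (ModuleCat.ofHom
        (Ideal.Quotient.factorₐ A (Ideal.pow_le_self (I := IsLocalRing.maximalIdeal A)
          (Nat.succ_ne_zero n))).toLinearMap :
        ModuleCat.of A (A ⧸ IsLocalRing.maximalIdeal A ^ (n + 1)) ⟶
          ModuleCat.of A (A ⧸ IsLocalRing.maximalIdeal A))).hom) := by
  have := fun i => (hP i).1
  have hP' := fun i => (hP i).2
  have hk : (ComplexShape.down ℤ).next p = p - 1 := (ComplexShape.down ℤ).next_eq' (by simp)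
  have hkj : (ComplexShape.down ℤ).prev (p - 1) = p := (ComplexShape.down ℤ).prev_eq' (by simp)
  have h1 := Groth.L01.FlatCx.preservesEpi_iff_surjective_residue P hk hkj hP'
  refine ⟨h1, fun h => ⟨0, fun n _ => ?_⟩, fun ⟨n₀, hn⟩ => ?_⟩
  · have : Epi (ModuleCat.ofHom (Ideal.Quotient.factorₐ A
        (Ideal.pow_le_self (I := IsLocalRing.maximalIdeal A) (Nat.succ_ne_zero n))).toLinearMap :
        ModuleCat.of A (A ⧸ IsLocalRing.maximalIdeal A ^ (n + 1)) ⟶
          ModuleCat.of A (A ⧸ IsLocalRing.maximalIdeal A)) :=
      (ModuleCat.epi_iff_surjective _).mpr (Ideal.Quotient.factor_surjective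
        (Ideal.pow_le_self (I := IsLocalRing.maximalIdeal A) (Nat.succ_ne_zero n)))
    exact (ModuleCat.epi_iff_surjective _).mp (Functor.map_epi (CohIII.TFun P p) _)
  · obtain ⟨r, hr⟩ := Groth.L01.FlatCx.exists_forall_surjective_residue P hk
    exact h1.mpr (hr (max n₀ r) (le_max_right _ _) (hn _ (le_max_left _ _)))

end Groth.Agent.S4490
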