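import Groth.Statements.S4492
import Groth.Agent.L01.FlatCx.Len
import Groth.Agent.L01.FlatCx.Local

set_option autoImplicit false
universe u
open FlatCx

namespace Groth.Agent.S4492

open CategoryTheory CategoryTheory.Limits
open scoped TensorProduct
open Groth.L01.FlatCx


/-- (The published statement is for arbitrary abelian categories; this row is for functors between
module categories.) Let F be an additive functor from A-modules to B-modules which is half exact
(every short exact sequence 0 → E' → E → E'' → 0 goes to a sequence F(E') → F(E) → F(E'') exact at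
the middle) and such that F(S) has finite length for every simple A-module S. Then F(E) has finite
length for every A-module E of finite length; and for every short exact sequence 0 → E' → E → E'' →
0 of A-modules with E of finite length one has length F(E) ≤ length F(E') + length F(E''), with
equality if and only if 0 → F(E') → F(E) → F(E'') → 0 is (short) exact. Lengths are Mathlib's,
valued in ℕ∞. -/
theorem result {A B : Type u} [Ring A] [Ring B]
    (F : ModuleCat.{u} A ⥤ ModuleCat.{u} B) [F.Additive]
    (hF : ∀ S : ShortComplex (ModuleCat.{u} A), S.ShortExact → (S.map F).Exact)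
    (hS : ∀ M : ModuleCat.{u} A, IsSimpleModule A M → Module.length B (F.obj M) ≠ ⊤) :
    (∀ E : ModuleCat.{u} A, Module.length A E ≠ ⊤ → Module.length B (F.obj E) ≠ ⊤) ∧
      ∀ S : ShortComplex (ModuleCat.{u} A), S.ShortExact → Module.length A S.X₂ ≠ ⊤ →
        Module.length B (F.obj S.X₂) ≤ Module.length B (F.obj S.X₁) + Module.length B (F.obj S.X₃) ∧
          (Module.length B (F.obj S.X₂) = Module.length B (F.obj S.X₁) + Module.length B (F.obj S.X₃) ↔
            (S.map F).ShortExact) := by
  refine ⟨fun E hE => Len.length_ne_top F hF hS E hE, fun S hSS hfin => ?_⟩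
  have := hSS.mono_f
  have := hSS.epi_g
  have h1 : Module.length A S.X₁ ≠ ⊤ := ne_top_of_le_ne_top hfin
    (Module.length_le_of_injective S.f.hom ((ModuleCat.mono_iff_injective _).mp inferInstance))
  have h3 : Module.length A S.X₃ ≠ ⊤ := ne_top_of_le_ne_top hfin
    (Module.length_le_of_surjective S.g.hom ((ModuleCat.epi_iff_surjective _).mp inferInstance))
  refine ⟨Len.length_le F hF hSS, (Len.length_eq_iff F hF hSS (WithTop.add_ne_top.mpr
    ⟨Len.length_ne_top F hF hS _ h1, Len.length_ne_top F hF hS _ h3⟩)).trans ⟨fun h => ?_, fun h => ?_⟩⟩
  · have : Mono (S.map F).f := (ModuleCat.mono_iff_injective _).mpr h.1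
    have : Epi (S.map F).g := (ModuleCat.epi_iff_surjective _).mpr h.2
    exact { exact := hF S hSS }
  · exact ⟨(ModuleCat.mono_iff_injective (S.map F).f).mp h.mono_f,
      (ModuleCat.epi_iff_surjective (S.map F).g).mp h.epi_g⟩

end Groth.Agent.S4492
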