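import Groth.Statements.S4495
import Mathlib.Geometry.RingedSpace.LocallyRingedSpace
import Mathlib.Topology.Sheaves.SheafCondition.UniqueGluing
import Mathlib.Topology.Connected.Clopen
import Mathlib.RingTheory.LocalRing.Basic

set_option autoImplicit false
universe u
open FlatCx

namespace Groth.Agent.S4495

theorem idem_local {R : Type u} [CommRing R] [IsLocalRing R] {e : R} (he : IsIdempotentElem e) :
    e = 0 ∨ e = 1 := by
  rcases IsLocalRing.isUnit_or_isUnit_one_sub_self e with h | h
  · exact Or.inr (h.mul_left_cancel (he.eq.trans (mul_one e).symm))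
  · refine Or.inl (h.mul_left_cancel ?_)
    rw [mul_zero, sub_mul, one_mul, he.eq, sub_self]

open CategoryTheory AlgebraicGeometry Opposite in

/-- A locally ringed space Z is connected, in the sense that it is not the disjoint union of two
nonempty open subsets (the empty space being allowed), if and only if every idempotent of the ring
of global sections Γ(Z, O_Z) is 0 or 1 (equivalently, Γ(Z, O_Z) is not isomorphic to a product of
two nonzero rings). -/
theorem result (Z : LocallyRingedSpace.{u}) :
    PreconnectedSpace Z ↔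
      ∀ e : Z.presheaf.obj (op ⊤), IsIdempotentElem e → e = 0 ∨ e = 1 := by
  let X := Z.toRingedSpace
  have hidem : ∀ (x : Z) (e : Z.presheaf.obj (op ⊤)), IsIdempotentElem e →
      Z.presheaf.germ ⊤ x trivial e = 0 ∨ Z.presheaf.germ ⊤ x trivial e = 1 := fun x e he =>
    idem_local ((IsIdempotentElem.map he (Z.presheaf.germ ⊤ x trivial).hom))
  constructor
  · intro hc e he
    let U := X.basicOpen e
    let V := X.basicOpen (1 - e)
    have hU : ∀ x : Z, x ∈ U ↔ Z.presheaf.germ ⊤ x trivial e = 1 := fun x => by
      refine (X.mem_top_basicOpen e x).trans ⟨fun h => ?_, fun h => ?_⟩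
      · rcases hidem x e he with h0 | h1
        · exact absurd h0 h.ne_zero
        · exact h1
      · show IsUnit (Z.presheaf.germ ⊤ x trivial e)
        rw [h]; exact isUnit_one
    have hV : ∀ x : Z, x ∈ V ↔ Z.presheaf.germ ⊤ x trivial e = 0 := fun x => by
      refine (X.mem_top_basicOpen (1 - e) x).trans ?_
      show IsUnit (Z.presheaf.germ ⊤ x trivial (1 - e)) ↔ _
      rw [map_sub, map_one]
      rcases hidem x e he with h0 | h1
      · rw [h0, sub_zero]
        exact iff_of_true isUnit_one rfl
      · rw [h1, sub_self]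
        exact iff_of_false (fun h => h.ne_zero rfl) one_ne_zero
    have hclopen : IsClopen ({x : Z | x ∈ U}) := by
      refine ⟨⟨?_⟩, U.isOpen⟩
      suffices heq : ({x : Z | x ∈ U}ᶜ : Set Z) = {x : Z | x ∈ V} by rw [heq]; exact V.isOpen
      refine Set.ext fun x => ?_
      show ¬ (x ∈ U) ↔ x ∈ V
      rw [hU, hV]
      rcases hidem x e he with h0 | h1
      · rw [h0]; exact iff_of_true zero_ne_one rfl
      · rw [h1]; exact iff_of_false (fun h => h rfl) one_ne_zero
    rcases preconnectedSpace_iff_clopen.mp hc _ hclopen with h | h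
    · refine Or.inl (TopCat.Presheaf.section_ext Z.sheaf ⊤ e 0 fun x hx => ?_)
      rw [map_zero]
      rcases hidem x e he with h0 | h1
      · exact h0
      · exact absurd ((Set.ext_iff.mp h x).mp ((hU x).mpr h1)) (Set.notMem_empty x)
    · refine Or.inr (TopCat.Presheaf.section_ext Z.sheaf ⊤ e 1 fun x hx => ?_)
      rw [map_one]
      exact (hU x).mp ((Set.ext_iff.mp h x).mpr trivial)
  · intro h
    rw [preconnectedSpace_iff_clopen]
    intro s hs
    let W : Bool → TopologicalSpace.Opens Z := fun b => cond b ⟨s, hs.isOpen⟩ ⟨sᶜ, hs.compl.isOpen⟩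
    let sf : ∀ b, Z.presheaf.obj (op (W b)) := fun b => cond b 1 0
    have hcomp : TopCat.Presheaf.IsCompatible Z.sheaf.1 W sf := fun a b => by
      refine TopCat.Presheaf.section_ext Z.sheaf _ _ _ fun x hx => ?_
      have ha : x ∈ W a := hx.1
      have hb : x ∈ W b := hx.2
      refine (TopCat.Presheaf.germ_res_apply Z.presheaf ((W a).infLELeft (W b)) x hx (sf a)).trans
        (Eq.trans ?_ (TopCat.Presheaf.germ_res_apply Z.presheaf ((W a).infLERight (W b)) x hx (sf b)).symm)
      cases a <;> cases b
      · rfl
      · exact absurd hb ha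
      · exact absurd ha hb
      · rfl
    obtain ⟨e, he, -⟩ := Z.sheaf.existsUnique_gluing' W ⊤ (fun _ => homOfLE le_top) (fun x _ => by
      by_cases hx : x ∈ s
      · exact TopologicalSpace.Opens.mem_iSup.mpr ⟨true, hx⟩
      · exact TopologicalSpace.Opens.mem_iSup.mpr ⟨false, hx⟩) sf hcomp
    have hgerm : ∀ (b : Bool) (x : Z) (hx : x ∈ W b),
        Z.presheaf.germ ⊤ x trivial e = Z.presheaf.germ (W b) x hx (sf b) := fun b x hx => by
      rw [← he b]
      exact (TopCat.Presheaf.germ_res_apply Z.presheaf (homOfLE le_top) x hx e).symm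
    have hval : ∀ x : Z, (x ∈ s → Z.presheaf.germ ⊤ x trivial e = 1) ∧
        (x ∉ s → Z.presheaf.germ ⊤ x trivial e = 0) := fun x =>
      ⟨fun hx => (hgerm true x hx).trans (map_one _), fun hx => (hgerm false x hx).trans (map_zero _)⟩
    have hee : IsIdempotentElem e := by
      refine TopCat.Presheaf.section_ext Z.sheaf ⊤ (e * e) e fun x hx => ?_
      rw [map_mul]
      by_cases hxs : x ∈ s
      · rw [show Z.sheaf.presheaf.germ ⊤ x hx e = 1 from (hval x).1 hxs, one_mul]
      · rw [show Z.sheaf.presheaf.germ ⊤ x hx e = 0 from (hval x).2 hxs, zero_mul]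
    rcases h e hee with h0 | h1
    · refine Or.inl (Set.eq_empty_iff_forall_notMem.mpr fun x hx => ?_)
      have := (hval x).1 hx
      rw [h0, map_zero] at this
      exact zero_ne_one this
    · refine Or.inr (Set.eq_univ_iff_forall.mpr fun x => ?_)
      by_contra hx
      have := (hval x).2 hx
      rw [h1, map_one] at this
      exact one_ne_zero this

end Groth.Agent.S4495
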