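import Groth.Statements.S4497
import Groth.Agent.L01.FlatCx.Len
import Groth.Agent.L01.FlatCx.Local

set_option autoImplicit false
universe u
open FlatCx

namespace Groth.Agent.S4497

open CategoryTheory CategoryTheory.Limits
open scoped TensorProduct
open Groth.L01.FlatCx

open IsLocalRing in
lemma exact_aux {A : Type u} [CommRing A] [IsArtinianRing A] [IsLocalRing A]
    (P : ChainComplex (ModuleCat.{u} A) ℤ) (hP : ∀ i, Module.Flat A (P.X i)) (p : ℤ)
    (hd : Module.length A ((CohIII.TFun P p).obj (ModuleCat.of A (ResidueField A))) ≠ ⊤)
    (hj : Module.length A ((CohIII.TFun P p).obj (ModuleCat.of A A)) =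
      Module.length A ((CohIII.TFun P p).obj (ModuleCat.of A (ResidueField A))) * Module.length A A) :
    Function.Surjective ((CohIII.TFun P p).map
        (ModuleCat.ofHom (Algebra.linearMap A (ResidueField A)))).hom ∧
      Module.Flat A ((CohIII.TFun P p).obj (ModuleCat.of A A) : Type u) ∧
      (CohIII.TFun P p).PreservesEpimorphisms ∧ (CohIII.TFun P p).PreservesMonomorphisms := by
  have hex := fun I => Len.exact_of_length_eq (CohIII.TFun P p) (halfExact_TFun P p hP) hd hj I
  have hs : Function.Surjective ((CohIII.TFun P p).map
      (ModuleCat.ofHom (Algebra.linearMap A (ResidueField A)))).hom := (hex (maximalIdeal A)).2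
  have := preservesEpi_of_surjective (surjective_of_artinian (gen_TFun P p) (halfExact_TFun P p hP) hs)
  have hflat : Module.Flat A ((CohIII.TFun P p).obj (ModuleCat.of A A) : Type u) := by
    refine Module.Flat.iff_lTensor_injective.mpr fun I _ => ?_
    intro a b hab
    refine (bijective_of_preservesEpi P p hP (ModuleCat.of A I)).1 ((hex I).1 ?_)
    exact (tMap_natural _ (ModuleCat.ofHom I.subtype) a).trans
      ((congrArg (tMap (CohIII.TFun P p) (ModuleCat.of A A)) hab).trans
        (tMap_natural _ (ModuleCat.ofHom I.subtype) b).symm)
  exact ⟨hs, hflat, this, (preservesMono_iff_flat_obj P p hP).mpr hflat⟩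


/-- For the homological functor T_i(M) = H_i(P ⊗_A M) of a chain complex P of flat modules over a
commutative Artinian local ring A with residue field k; the terms of P need not be finitely
generated. With p + 1 = q: T_p takes injections to injections and surjections to surjections if and
only if the maps T_p(A) → T_p(k) and T_q(A) → T_q(k) induced by A → k are both surjective. If
moreover T_p(k) has finite length d, these conditions are also equivalent to: length T_p(M) = d ·
length M for every A-module M of finite length (lengths valued in ℕ∞). -/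
theorem result {A : Type u} [CommRing A] [IsArtinianRing A]
    [IsLocalRing A] (P : ChainComplex (ModuleCat.{u} A) ℤ) (hP : ∀ i, Module.Flat A (P.X i)) (p q : ℤ)
    (hpq : p + 1 = q) :
    (((CohIII.TFun P p).PreservesMonomorphisms ∧ (CohIII.TFun P p).PreservesEpimorphisms) ↔
      (Function.Surjective ((CohIII.TFun P p).map
          (ModuleCat.ofHom (Algebra.linearMap A (IsLocalRing.ResidueField A)))).hom ∧
        Function.Surjective ((CohIII.TFun P q).map
          (ModuleCat.ofHom (Algebra.linearMap A (IsLocalRing.ResidueField A)))).hom)) ∧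
    (Module.length A (CohIII.T P p (ModuleCat.of A (IsLocalRing.ResidueField A))) ≠ ⊤ →
      (((CohIII.TFun P p).PreservesMonomorphisms ∧ (CohIII.TFun P p).PreservesEpimorphisms) ↔
        ∀ M : ModuleCat.{u} A, Module.length A M ≠ ⊤ →
          Module.length A (CohIII.T P p M) =
            Module.length A (CohIII.T P p (ModuleCat.of A (IsLocalRing.ResidueField A))) * Module.length A M)) := by
  have hk : (ComplexShape.down ℤ).next q = p := (ComplexShape.down ℤ).next_eq' hpq
  have hkj : (ComplexShape.down ℤ).prev p = q := (ComplexShape.down ℤ).prev_eq' hpq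
  have hepi : ∀ j, (CohIII.TFun P j).PreservesEpimorphisms ↔ Function.Surjective ((CohIII.TFun P j).map
      (ModuleCat.ofHom (Algebra.linearMap A (IsLocalRing.ResidueField A)))).hom := fun j => by
    refine ⟨fun h => ?_, fun h => preservesEpi_of_surjective
      (surjective_of_artinian (gen_TFun P j) (halfExact_TFun P j hP) h)⟩
    have : Epi (ModuleCat.ofHom (Algebra.linearMap A (IsLocalRing.ResidueField A))) :=
      (ModuleCat.epi_iff_surjective _).mpr IsLocalRing.residue_surjective
    exact (ModuleCat.epi_iff_surjective _).mp (Functor.map_epi (CohIII.TFun P j) _)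
  have h1 : ((CohIII.TFun P p).PreservesMonomorphisms ∧ (CohIII.TFun P p).PreservesEpimorphisms) ↔
      (Function.Surjective ((CohIII.TFun P p).map
          (ModuleCat.ofHom (Algebra.linearMap A (IsLocalRing.ResidueField A)))).hom ∧
        Function.Surjective ((CohIII.TFun P q).map
          (ModuleCat.ofHom (Algebra.linearMap A (IsLocalRing.ResidueField A)))).hom) := by
    rw [← hepi p, ← hepi q, preservesEpi_iff_preservesMono P hk hkj hP]
    exact and_comm
  refine ⟨h1, fun hd => ⟨?_, fun h => ?_⟩⟩
  · rintro ⟨_, _⟩ M hM
    exact Len.length_eq_mul (CohIII.TFun P p) (halfExact_TFun P p hP) _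
      (Len.length_simple (CohIII.TFun P p)) M hM
  · obtain ⟨-, -, he, hm⟩ := exact_aux P hP p hd (h (ModuleCat.of A A) Module.length_ne_top)
    exact ⟨hm, he⟩

end Groth.Agent.S4497
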