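import Groth.Statements.S4498
import Groth.Agent.S2436

set_option autoImplicit false
universe u
attribute [local instance] HasDerivedCategory.standard
open Coherent

namespace Groth.Agent.S4498

open AlgebraicGeometry CategoryTheory Opposite in
/-- The global form over an affine base. Let A be a Noetherian ring, X a proper A-scheme with structure
morphism f, and F, F' coherent O_X-modules flat over Spec A. Let η be a natural transformation from
the functor M ↦ Γ(X, f^*(M~) ⊗ F) to the functor M ↦ Γ(X, f^*(M~) ⊗ F') of the A-module M (the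
published statement takes η induced by a homomorphism F → F'; this row allows any natural
transformation, which is all the argument uses). Then the kernel functor M ↦ Ker(η_M) is
corepresentable by a finitely generated A-module R: there are such an R and a natural transformation
ι : Hom_A(R, −) → Γ(X, f^*(−~) ⊗ F) with injective components whose image at every M is exactly the
kernel of η_M. (R is then unique up to unique isomorphism.) -/
theorem result (A : Type u) [CommRing A]
    [IsNoetherianRing A] (X : Scheme.{u}) [X.Over (Spec (CommRingCat.of A))]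
    [IsProper (X ↘ Spec (CommRingCat.of A))] (F F' : X.Modules) (hF : Coh.IsCoh F) (hF' : Coh.IsCoh F')
    (hfl : FlatMod.IsFlatOver (X ↘ Spec (CommRingCat.of A)) F)
    (hfl' : FlatMod.IsFlatOver (X ↘ Spec (CommRingCat.of A)) F')
    (η : CohIII.tensorAFunctor A F ⋙ CohIII.globalSectionsA A ⟶ CohIII.tensorAFunctor A F' ⋙ CohIII.globalSectionsA A) :
    ∃ (R : ModuleCat.{u} A) (ι : (linearCoyoneda A (ModuleCat.{u} A)).obj (op R) ⟶
        CohIII.tensorAFunctor A F ⋙ CohIII.globalSectionsA A),
      Module.Finite A R ∧ (∀ M : ModuleCat.{u} A, Function.Injective (ι.app M).hom) ∧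
        ∀ (M : ModuleCat.{u} A) (x : (CohIII.tensorAFunctor A F ⋙ CohIII.globalSectionsA A).obj M),
          (η.app M).hom x = 0 ↔ ∃ y, (ι.app M).hom y = x := by
  obtain ⟨Q, hQ, ⟨e⟩⟩ := Groth.Agent.S2436.result A X F hF hfl
  obtain ⟨Q', -, ⟨e'⟩⟩ := Groth.Agent.S2436.result A X F' hF' hfl'
  let θ : (linearCoyoneda A (ModuleCat.{u} A)).obj (op Q) ⟶ (linearCoyoneda A (ModuleCat.{u} A)).obj (op Q') :=
    e.inv ≫ η ≫ e'.hom
  let w : Q' ⟶ Q := (θ.app Q).hom (𝟙 Q)
  have hθ : ∀ (M : ModuleCat.{u} A) (g : Q ⟶ M), (θ.app M).hom g = w ≫ g := fun M g => by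
    have h : (θ.app M).hom (𝟙 Q ≫ g) = w ≫ g :=
      congrArg (fun k => k.hom (𝟙 Q)) (θ.naturality g)
    rwa [Category.id_comp] at h
  let R : ModuleCat.{u} A := ModuleCat.of A (Q ⧸ LinearMap.range w.hom)
  let q : Q ⟶ R := ModuleCat.ofHom (Submodule.mkQ _)
  refine ⟨R, (linearCoyoneda A (ModuleCat.{u} A)).map q.op ≫ e.inv,
    Module.Finite.of_surjective (Submodule.mkQ _) (Submodule.mkQ_surjective _), fun M g g' h => ?_, fun M x => ?_⟩
  · have h1 : q ≫ g = q ≫ g' := (e.app M).toLinearEquiv.symm.injective h
    refine ModuleCat.hom_ext (Submodule.linearMap_qext _ ?_)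
    exact congrArg ModuleCat.Hom.hom h1
  · let g : Q ⟶ M := (e.hom.app M).hom x
    have hx : (e.inv.app M).hom g = x := congrArg (fun k => k.hom x) (e.hom_inv_id_app M)
    have hg : (θ.app M).hom g = (e'.hom.app M).hom ((η.app M).hom x) := by
      show (e'.hom.app M).hom ((η.app M).hom ((e.inv.app M).hom g)) = _
      rw [hx]
    constructor
    · intro h
      rw [h, map_zero, hθ] at hg
      refine ⟨ModuleCat.ofHom (Submodule.liftQ _ g.hom ?_), ?_⟩
      · rintro _ ⟨y, rfl⟩
        exact LinearMap.congr_fun (congrArg ModuleCat.Hom.hom hg) y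
      · refine Eq.trans ?_ hx
        exact congrArg (e.inv.app M).hom (ModuleCat.hom_ext (Submodule.liftQ_mkQ _ _ _))
    · rintro ⟨y, hy⟩
      have hgy : g = q ≫ y := by
        show (e.hom.app M).hom x = _
        rw [← hy]
        exact congrArg (fun k => k.hom (q ≫ y)) (e.inv_hom_id_app M)
      rw [hθ, hgy] at hg
      have h0 : w ≫ q ≫ y = 0 := ModuleCat.hom_ext (LinearMap.ext fun z => by
        show y.hom (Submodule.mkQ _ (w.hom z)) = 0
        have h9 : (Submodule.mkQ (LinearMap.range w.hom)) (w.hom z) = 0 :=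
          (Submodule.Quotient.mk_eq_zero _).2 (LinearMap.mem_range_self _ z)
        exact (congrArg y.hom h9).trans (map_zero _))
      rw [h0] at hg
      exact (e'.app M).toLinearEquiv.injective (hg.symm.trans (map_zero _).symm)
end Groth.Agent.S4498
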