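import Groth.Statements.S4500
import Groth.Agent.L16.HomCorep.Main

set_option autoImplicit false
universe u
attribute [local instance] HasDerivedCategory.standard
open Coherent

namespace Groth.Agent.S4500

open AlgebraicGeometry CategoryTheory CategoryTheory.Limits Opposite in
/-- The global form over an affine base. Let A be a Noetherian ring, X a proper A-scheme with structure
morphism f, F a coherent O_X-module flat over Spec A, and G an O_X-module admitting a presentation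
E₁ → E₀ → G → 0 with E₀, E₁ finite locally free O_X-modules. Then there are a finitely generated
A-module N and an isomorphism of functors of the A-module M between Hom_{O_X}(G, f^*(M~) ⊗ F) and
Hom_A(N, M) (as abelian-group-valued functors). (N is then unique up to unique isomorphism.) -/
theorem result (A : Type u) [CommRing A] [IsNoetherianRing A]
    (X : Scheme.{u}) [X.Over (Spec (CommRingCat.of A))] [IsProper (X ↘ Spec (CommRingCat.of A))]
    (F : X.Modules) (hF : Coh.IsCoh F) (hfl : FlatMod.IsFlatOver (X ↘ Spec (CommRingCat.of A)) F)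
    (G E₀ E₁ : X.Modules) (h₀ : FlatMod.IsFinLocFree E₀) (h₁ : FlatMod.IsFinLocFree E₁)
    (v : E₁ ⟶ E₀) (π : E₀ ⟶ G) [Epi π] (w : v ≫ π = 0) (hex : (ShortComplex.mk v π w).Exact) :
    ∃ N : ModuleCat.{u} A, Module.Finite A N ∧
      Nonempty (CohIII.tensorAFunctor A F ⋙ preadditiveCoyoneda.obj (op G) ≅
        (linearCoyoneda A (ModuleCat.{u} A)).obj (op N) ⋙ forget₂ (ModuleCat.{u} A) AddCommGrpCat.{u}) := by
  obtain ⟨Q, hQ, ⟨e⟩⟩ := Groth.L16.HomCorep.exists_corep A X F hF hfl E₀ h₀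
  obtain ⟨Q', -, ⟨e'⟩⟩ := Groth.L16.HomCorep.exists_corep A X F hF hfl E₁ h₁
  let T := CohIII.tensorAFunctor A F
  let θ : (linearCoyoneda A (ModuleCat.{u} A)).obj (op Q) ⋙ forget₂ (ModuleCat.{u} A) AddCommGrpCat.{u} ⟶
      (linearCoyoneda A (ModuleCat.{u} A)).obj (op Q') ⋙ forget₂ (ModuleCat.{u} A) AddCommGrpCat.{u} :=
    e.inv ≫ Functor.whiskerLeft T (preadditiveCoyoneda.map v.op) ≫ e'.hom
  have w₀ := w
  let w : Q' ⟶ Q := (θ.app Q).hom (𝟙 Q)
  have hθ : ∀ (M : ModuleCat.{u} A) (g : Q ⟶ M), (θ.app M).hom g = w ≫ g := fun M g => by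
    have h : (θ.app M).hom (𝟙 Q ≫ g) = w ≫ g :=
      congrArg (fun k => k.hom (𝟙 Q)) (θ.naturality g)
    rwa [Category.id_comp] at h
  have hwv : ∀ (M : ModuleCat.{u} A) (φ : E₀ ⟶ T.obj M),
      (e'.hom.app M).hom (v ≫ φ) = w ≫ ((e.hom.app M).hom φ : Q ⟶ M) := fun M φ => by
    have hx : (e.inv.app M).hom ((e.hom.app M).hom φ) = φ :=
      congrArg (fun k => k.hom φ) (e.hom_inv_id_app M)
    refine Eq.trans ?_ (hθ M ((e.hom.app M).hom φ))
    show (e'.hom.app M).hom (v ≫ φ) = (e'.hom.app M).hom (v ≫ (e.inv.app M).hom ((e.hom.app M).hom φ))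
    rw [hx]
  let R : ModuleCat.{u} A := ModuleCat.of A (Q ⧸ LinearMap.range w.hom)
  let q : Q ⟶ R := ModuleCat.ofHom (Submodule.mkQ _)
  have hwq : w ≫ q = 0 := ModuleCat.hom_ext (LinearMap.ext fun z =>
    (Submodule.Quotient.mk_eq_zero _).2 (LinearMap.mem_range_self _ z))
  have qinj : ∀ {M : ModuleCat.{u} A} (g g' : R ⟶ M), q ≫ g = q ≫ g' → g = g' := fun g g' h =>
    ModuleCat.hom_ext (Submodule.linearMap_qext _ (congrArg ModuleCat.Hom.hom h))
  have ex : ∀ {M : ModuleCat.{u} A} (g : Q ⟶ M), w ≫ g = 0 → ∃ g' : R ⟶ M, q ≫ g' = g := fun {M} g h =>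
    ⟨ModuleCat.ofHom (Submodule.liftQ _ g.hom (by
      rintro _ ⟨y, rfl⟩
      exact LinearMap.congr_fun (congrArg ModuleCat.Hom.hom h) y)),
      ModuleCat.hom_ext (Submodule.liftQ_mkQ _ _ _)⟩
  let f : (linearCoyoneda A (ModuleCat.{u} A)).obj (op R) ⋙ forget₂ (ModuleCat.{u} A) AddCommGrpCat.{u} ⟶
      T ⋙ preadditiveCoyoneda.obj (op E₀) :=
    Functor.whiskerRight ((linearCoyoneda A (ModuleCat.{u} A)).map q.op) _ ≫ e.inv
  have hf : ∀ (M : ModuleCat.{u} A) (g : R ⟶ M), (e.hom.app M).hom ((f.app M).hom g) = q ≫ g := fun M g =>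
    congrArg (fun k => k.hom (q ≫ g)) (e.inv_hom_id_app M)
  have hG : ∀ {M : ModuleCat.{u} A} (φ : E₀ ⟶ T.obj M), v ≫ φ = 0 → ∃ ψ : G ⟶ T.obj M, π ≫ ψ = φ :=
    fun φ h => ⟨hex.desc φ h, hex.g_desc φ h⟩
  have hvf : ∀ (M : ModuleCat.{u} A) (g : R ⟶ M), v ≫ ((f.app M).hom g : E₀ ⟶ T.obj M) = 0 := fun M g => by
    refine (e'.app M).addCommGroupIsoToAddEquiv.injective ?_
    refine Eq.trans ?_ (map_zero _).symm
    show (e'.hom.app M).hom (v ≫ (f.app M).hom g) = 0
    rw [hwv, hf, ← Category.assoc, hwq, Limits.zero_comp]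
    rfl
  let F' : ∀ M : ModuleCat.{u} A, (R ⟶ M) →+ (G ⟶ T.obj M) := fun M => AddMonoidHom.mk'
    (fun g => hex.desc ((f.app M).hom g) (hvf M g)) fun g g' => by
      rw [← cancel_epi π, Preadditive.comp_add]
      exact (hex.g_desc _ _).trans ((map_add (f.app M).hom g g').trans
        (congr (congrArg (fun a b => a + b) (hex.g_desc _ _).symm) (hex.g_desc _ _).symm))
  have hF' : ∀ (M : ModuleCat.{u} A) (g : R ⟶ M), π ≫ F' M g = (f.app M).hom g :=
    fun M g => hex.g_desc _ _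
  have bij : ∀ M, Function.Bijective (F' M) := fun M => by
    refine ⟨fun g g' h => qinj g g' ?_, fun ψ => ?_⟩
    · rw [← hf, ← hf, ← hF', ← hF', h]
    · have hz : v ≫ π ≫ ψ = 0 := by rw [← Category.assoc, w₀, Limits.zero_comp]
      obtain ⟨g', hg'⟩ := ex ((e.hom.app M).hom (π ≫ ψ)) (by
        rw [← hwv, hz]
        exact map_zero _)
      refine ⟨g', (cancel_epi π).1 ?_⟩
      rw [hF']
      refine (e.app M).addCommGroupIsoToAddEquiv.injective ?_
      exact (hf M g').trans hg'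
  refine ⟨R, Module.Finite.of_surjective (Submodule.mkQ _) (Submodule.mkQ_surjective _),
    ⟨(NatIso.ofComponents
      (F := (linearCoyoneda A (ModuleCat.{u} A)).obj (op R) ⋙ forget₂ (ModuleCat.{u} A) AddCommGrpCat.{u})
      (G := T ⋙ preadditiveCoyoneda.obj (op G))
      (fun M => AddEquiv.toAddCommGrpIso (AddEquiv.ofBijective (F' M) (bij M) : (R ⟶ M) ≃+ (G ⟶ T.obj M)))
      fun {M N} h => ?_).symm⟩⟩
  refine AddCommGrpCat.ext fun g => ?_
  show F' N (g ≫ h) = F' M g ≫ T.map h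
  rw [← cancel_epi π, hF', ← Category.assoc, hF']
  exact congrArg (fun k => k.hom g) (f.naturality h)
end Groth.Agent.S4500
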