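import Groth.Statements.S4501
import Groth.Agent.L01.FlatCx.Rank

set_option autoImplicit false
universe u
open FlatCx

namespace Groth.Agent.S4501

open CategoryTheory CategoryTheory.Limits
open scoped TensorProduct
open Groth.L01.FlatCx

lemma hi' (j : ℤ) : (ComplexShape.down ℤ).prev j = j + 1 := (ComplexShape.down ℤ).prev_eq' rfl
lemma hk' (j : ℤ) : (ComplexShape.down ℤ).next j = j - 1 := (ComplexShape.down ℤ).next_eq' (by simp)
lemma hkj' (j : ℤ) : (ComplexShape.down ℤ).prev (j - 1) = j := (ComplexShape.down ℤ).prev_eq' (by simp)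


/-- The case of finitely generated flat terms. Let A be a Noetherian domain, P a chain complex of
finitely generated flat A-modules, and for a prime y of A let P_y be the base change of P to the
local ring A_y. Then the set U of points y of Spec A such that the functor N ↦ H_p(P_y ⊗_{A_y} N) on
A_y-modules takes injections to injections and surjections to surjections is open and nonempty (it
contains the generic point). -/
theorem result {A : Type u} [CommRing A] [IsNoetherianRing A] [IsDomain A]
    (P : ChainComplex (ModuleCat.{u} A) ℤ) (hP : ∀ i, Module.Finite A (P.X i) ∧ Module.Flat A (P.X i))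
    (p : ℤ) :
    IsOpen {y : PrimeSpectrum A |
        (CohIII.TFun (CohIII.bcCx (algebraMap A (Localization.AtPrime y.asIdeal)) P) p).PreservesMonomorphisms ∧
          (CohIII.TFun (CohIII.bcCx (algebraMap A (Localization.AtPrime y.asIdeal)) P) p).PreservesEpimorphisms} ∧
      {y : PrimeSpectrum A |
        (CohIII.TFun (CohIII.bcCx (algebraMap A (Localization.AtPrime y.asIdeal)) P) p).PreservesMonomorphisms ∧
          (CohIII.TFun (CohIII.bcCx (algebraMap A (Localization.AtPrime y.asIdeal)) P) p).PreservesEpimorphisms}.Nonempty := by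
  have := fun i => (hP i).1
  have hfp : ∀ i j : ℤ, Module.FinitePresentation A (Coker P i j) := fun i j =>
    Module.finitePresentation_of_finite A _
  have heq : {y : PrimeSpectrum A |
      (CohIII.TFun (CohIII.bcCx (algebraMap A (Localization.AtPrime y.asIdeal)) P) p).PreservesMonomorphisms ∧
        (CohIII.TFun (CohIII.bcCx (algebraMap A (Localization.AtPrime y.asIdeal)) P) p).PreservesEpimorphisms} =
      Module.freeLocus A (Coker P (p + 1) p) ∩ Module.freeLocus A (Coker P p (p - 1)) := by
    ext y
    rw [Set.mem_setOf_eq, Set.mem_inter_iff,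
      Module.mem_freeLocus_iff_tensor y (Localization.AtPrime y.asIdeal),
      Module.mem_freeLocus_iff_tensor y (Localization.AtPrime y.asIdeal),
      preservesMono_iff (bc (Localization.AtPrime y.asIdeal) P) (hi' p) (flat_bc _ P fun i => (hP i).2),
      preservesEpi_iff (bc (Localization.AtPrime y.asIdeal) P) (hk' p) (hkj' p)
        (flat_bc _ P fun i => (hP i).2)]
    obtain ⟨e1⟩ := nonempty_coker_bc (Localization.AtPrime y.asIdeal) P (p + 1) p
    obtain ⟨e2⟩ := nonempty_coker_bc (Localization.AtPrime y.asIdeal) P p (p - 1)
    rw [Module.Flat.equiv_iff e1, Module.Flat.equiv_iff e2]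
    exact ⟨fun ⟨_, _⟩ => ⟨Module.free_of_flat_of_isLocalRing, Module.free_of_flat_of_isLocalRing⟩,
      fun ⟨_, _⟩ => ⟨inferInstance, inferInstance⟩⟩
  rw [heq]
  refine ⟨Module.isOpen_freeLocus.inter Module.isOpen_freeLocus, ?_⟩
  let η : PrimeSpectrum A := ⟨⊥, Ideal.isPrime_bot⟩
  have hbot : η.asIdeal.primeCompl = nonZeroDivisors A := by
    ext a
    simp [η, Ideal.primeCompl, mem_nonZeroDivisors_iff_ne_zero]
  have : IsLocalization.AtPrime (FractionRing A) η.asIdeal := by
    show IsLocalization η.asIdeal.primeCompl (FractionRing A)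
    rw [hbot]
    infer_instance
  exact ⟨η, (Module.mem_freeLocus_iff_tensor η (FractionRing A)).mpr inferInstance,
    (Module.mem_freeLocus_iff_tensor η (FractionRing A)).mpr inferInstance⟩

end Groth.Agent.S4501
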