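import Groth.Statements.S4505
import Groth.Agent.L17.BC.Exchange
import Groth.Agent.L01.FlatCx.Len

set_option autoImplicit false
universe u
attribute [local instance] HasDerivedCategory.standard
open Coherent

namespace Groth.Agent.S4505

open AlgebraicGeometry CategoryTheory in
/-- (b) ⇔ (c), for a complex reduced to one sheaf and a local base (so that the point y is the closed
point and O_y = A). Let A be a Noetherian local ring with maximal ideal m and residue field k, X a
proper A-scheme with structure morphism f, F a coherent O_X-module flat over Spec A, and write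
T^p(M) = H^p(X, f^*(M~) ⊗ F) for an A-module M. Then the functor T^p takes injections to injections
and surjections to surjections (F is cohomologically flat in degree p) if and only if there is n₀
such that for every n ≥ n₀ one has length_A T^p(A/m^(n+1)) = length_A T^p(k) · length_A (A/m^(n+1))
(lengths of A-modules, valued in ℕ∞; all are finite here). -/
theorem result (A : Type u) [CommRing A]
    [IsNoetherianRing A] [IsLocalRing A] (X : Scheme.{u}) [X.Over (Spec (CommRingCat.of A))]
    [IsProper (X ↘ Spec (CommRingCat.of A))] (F : X.Modules) (hF : Coh.IsCoh F)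
    (hfl : FlatMod.IsFlatOver (X ↘ Spec (CommRingCat.of A)) F) (p : ℕ) :
    ((CohIII.tensorAFunctor A F ⋙ CohIII.HAb X p).PreservesMonomorphisms ∧
        (CohIII.tensorAFunctor A F ⋙ CohIII.HAb X p).PreservesEpimorphisms) ↔
      ∃ n₀ : ℕ, ∀ n : ℕ, n₀ ≤ n →
        Module.length A (Coh.HH X ((CohIII.tensorAFunctor A F).obj
            (ModuleCat.of A (A ⧸ IsLocalRing.maximalIdeal A ^ (n + 1)))) p) =
          Module.length A (Coh.HH X ((CohIII.tensorAFunctor A F).obj
              (ModuleCat.of A (IsLocalRing.ResidueField A))) p) *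
            Module.length A (A ⧸ IsLocalRing.maximalIdeal A ^ (n + 1)) := by
  obtain ⟨m, hm⟩ := Groth.L17.BC.TensorA.exists_complex F hF hfl
  obtain ⟨e⟩ := hm p
  haveI := fun i => (m.finiteFree i).1
  let S := CohIII.TFun m.L (p : ℤ)
  let k : ModuleCat.{u} A := ModuleCat.of A (A ⧸ IsLocalRing.maximalIdeal A)
  let d : ℕ∞ := Module.length A (S.obj k)
  have hS := Groth.L01.FlatCx.halfExact_TFun m.L (p : ℤ) m.flat_X
  have hk : Module.length A (A ⧸ IsLocalRing.maximalIdeal A) = 1 := by
    haveI : IsSimpleModule A (A ⧸ IsLocalRing.maximalIdeal A) :=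
      isSimpleModule_iff_quot_maximal.2 ⟨_, inferInstance, ⟨LinearEquiv.refl A _⟩⟩
    exact Module.length_eq_one A _
  have hkill : ∀ (j : ℕ) (a : A), a ∈ IsLocalRing.maximalIdeal A ^ j →
      ∀ z : A ⧸ IsLocalRing.maximalIdeal A ^ j, a • z = 0 := fun j a ha z => by
    obtain ⟨z, rfl⟩ := Ideal.Quotient.mk_surjective z
    exact Ideal.Quotient.eq_zero_iff_mem.2 (Ideal.mul_mem_right _ _ ha)
  have hEfin : ∀ j : ℕ, Module.length A (A ⧸ IsLocalRing.maximalIdeal A ^ j) ≠ ⊤ := fun j =>
    Groth.L17.BC.Exchange.length_ne_top_of_pow _ j (hkill j)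
  have hdfin : d ≠ ⊤ := by
    haveI := Groth.L01.FlatCx.finite_TFun_obj m.L (p : ℤ) k
    refine Groth.L17.BC.Exchange.length_ne_top_of_pow _ 1 fun a ha x => ?_
    have h0 : a • 𝟙 k = 0 := ModuleCat.hom_ext (LinearMap.ext fun z => by
      obtain ⟨z, rfl⟩ := Ideal.Quotient.mk_surjective z
      exact Ideal.Quotient.eq_zero_iff_mem.2 (Ideal.mul_mem_right _ _ (by simpa using ha)))
    have : a • 𝟙 (S.obj k) = 0 := by rw [← S.map_id, ← S.map_smul, h0, S.map_zero]
    exact congr($(this) x)
  have hrw : ∀ M : ModuleCat.{u} A,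
      Module.length A (Coh.HH X ((CohIII.tensorAFunctor A F).obj M) p) = Module.length A (S.obj M) :=
    fun M => Groth.L17.BC.Exchange.length_eq e M
  simp only [hrw]
  rw [Groth.L17.BC.Exchange.preservesMono_iff e, Groth.L17.BC.Exchange.preservesEpi_iff e]
  constructor
  · rintro ⟨hmono, hepi⟩
    exact ⟨0, fun n _ => @Groth.L01.FlatCx.Len.length_eq_mul _ _ _ _ S inferInstance hS hmono hepi d
      (Groth.L01.FlatCx.Len.length_simple S) (ModuleCat.of A (A ⧸ IsLocalRing.maximalIdeal A ^ (n + 1))) (hEfin _)⟩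
  · rintro ⟨n₀, hlen⟩
    obtain ⟨n₁, hn₁⟩ := Groth.L01.FlatCx.exists_forall_surjective_residue m.L
      (Groth.L17.BC.Exchange.next_eq (p : ℤ))
    obtain ⟨q, hq⟩ : ∃ q : ℤ, (p : ℤ) = q + 1 := ⟨p - 1, by omega⟩
    obtain ⟨n₂, hn₂⟩ := Groth.L01.FlatCx.exists_forall_surjective_residue m.L
      (Groth.L17.BC.Exchange.next_eq q)
    let n := max n₀ (max n₁ n₂)
    let E : ModuleCat.{u} A := ModuleCat.of A (A ⧸ IsLocalRing.maximalIdeal A ^ (n + 1))
    let g : E ⟶ k := ModuleCat.ofHom (Ideal.Quotient.factorₐ A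
      (Ideal.pow_le_self (I := IsLocalRing.maximalIdeal A) (Nat.succ_ne_zero n))).toLinearMap
    have hg : Function.Surjective g.hom := Ideal.Quotient.factor_surjective (Ideal.pow_le_self (Nat.succ_ne_zero n))
    let f : ModuleCat.of A (LinearMap.ker g.hom) ⟶ E := ModuleCat.ofHom (LinearMap.ker g.hom).subtype
    have hf : Function.Injective f.hom := Subtype.val_injective
    have hfg : Function.Exact f.hom g.hom := LinearMap.exact_iff.mpr (Submodule.range_subtype _).symm
    let C : ShortComplex (ModuleCat.{u} A) :=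
      ShortComplex.mk f g (ModuleCat.hom_ext hfg.linearMap_comp_eq_zero)
    have hC : C.ShortExact :=
      haveI : Mono C.f := (ModuleCat.mono_iff_injective _).mpr hf
      haveI : Epi C.g := (ModuleCat.epi_iff_surjective _).mpr hg
      { exact := (ShortComplex.moduleCat_exact_iff _).mpr fun x hx => (hfg x).mp hx }
    have hadd : Module.length A E = Module.length A (LinearMap.ker g.hom) + 1 :=
      (Module.length_eq_add_of_exact f.hom g.hom hf hg hfg).trans (congrArg (Module.length A _ + ·) hk)
    have hN : Module.length A (LinearMap.ker g.hom) ≠ ⊤ := fun h => hEfin (n + 1) (by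
      exact hadd.trans (by rw [h, top_add]))
    have h1 : Module.length A (S.obj C.X₁) ≤ d * Module.length A (LinearMap.ker g.hom) :=
      Groth.L01.FlatCx.Len.length_le_mul S hS d
        (fun M hM => (Groth.L01.FlatCx.Len.length_simple S M hM).le) _ hN
    have hfin1 : Module.length A (S.obj C.X₁) ≠ ⊤ := ne_top_of_le_ne_top (WithTop.mul_ne_top hdfin hN) h1
    obtain ⟨hinj, hsur⟩ := (Groth.L01.FlatCx.Len.length_eq_iff S hS hC
      (WithTop.add_ne_top.mpr ⟨hfin1, hdfin⟩)).1
      (le_antisymm (Groth.L01.FlatCx.Len.length_le S hS hC) ((add_le_add h1 (le_refl d)).trans (le_of_eq (by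
        rw [← mul_add_one, ← hadd]
        exact (hlen n (le_max_left _ _)).symm))))
    refine ⟨?_, (Groth.L17.BC.Exchange.epi_iff_surjective_residue m _).2 (hn₁ n ((le_max_left _ _).trans (le_max_right _ _)) hsur)⟩
    have hinj' : Function.Injective ((CohIII.TFun m.L (p : ℤ)).map f).hom := hinj
    show (CohIII.TFun m.L (p : ℤ)).PreservesMonomorphisms
    rw [hq] at hinj' ⊢
    rw [← Groth.L17.BC.Exchange.epi_iff_mono_succ m, Groth.L17.BC.Exchange.epi_iff_surjective_residue m]
    have hs := Groth.L01.FlatCx.surjective_of_injective m.L (Groth.L17.BC.Exchange.next_eq q)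
      (Groth.L17.BC.Exchange.prev_eq q) m.flat_X f g hf hg hfg hinj'
    exact hn₂ n ((le_max_right _ _).trans (le_max_right _ _)) hs

end Groth.Agent.S4505
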