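import Groth.Statements.S4511
import Groth.Agent.L06.CohenLiftings
import Mathlib.Tactic.TFAE

set_option autoImplicit false
set_option maxSynthPendingDepth 3
set_option linter.style.haveILetI false
universe u
open EGA41

namespace Groth.Agent.S4511

open IsLocalRing in
theorem key (A : Type u) [CommRing A] [IsLocalRing A] [IsNoetherianRing A]
    [IsAdicComplete (maximalIdeal A) A] (p : ℕ) [CharP (ResidueField A) p] (hp0 : (p : A) = 0) :
    ∃ (K : Type u) (_ : Field K) (n : ℕ) (f : MvPowerSeries (Fin n) K →+* A),
      Function.Surjective f ∧ RingHom.ker f ≤ maximalIdeal (MvPowerSeries (Fin n) K) ^ 2 := by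
  obtain ⟨F, hF⟩ : ∃ F : ResidueField A →+* A, (residue A).comp F = RingHom.id _ := by
    rcases CharP.char_is_prime_or_zero (ResidueField A) p with hp | rfl
    · haveI := Fact.mk hp
      exact Groth.L01.Cohen.exists_coefficientField_charP hp0
    · haveI := CharP.charP_to_charZero (ResidueField A)
      exact Groth.L01.Cohen.exists_coefficientField_charZero
  obtain ⟨n, x, hx, h⟩ := Groth.L06.CohenLiftings.exists_cotangent_gens A 0
  obtain ⟨-, hspan, hind⟩ := h.resolve_right fun h => h.1 (zero_mem _)
  obtain ⟨φ, hC, hX, hsurj⟩ := Groth.L01.Cohen.exists_surjective_powerSeries F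
    (by rw [hF]; exact Function.surjective_id) x hspan
  refine ⟨ResidueField A, inferInstance, n, φ, hsurj,
    Groth.L06.CohenLiftings.ker_le_sq φ (fun i => by rw [hX]; exact hx i) fun c₀ c hc => ?_⟩
  simp only [← RingHom.comp_apply φ MvPowerSeries.C, hC, hX] at hc
  have hres : ∀ a, F a ∈ maximalIdeal A → a = 0 := fun a ha => by
    rw [← RingHom.id_apply a, ← hF, RingHom.comp_apply, residue_eq_zero_iff]
    exact ha
  have hc0 : c₀ = 0 := hres _ (by
    have h1 : ∑ i, F (c i) * x i ∈ maximalIdeal A := Ideal.sum_mem _ fun i _ => Ideal.mul_mem_left _ _ (hx i)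
    simpa using sub_mem (Ideal.pow_le_self two_ne_zero hc) h1)
  refine ⟨hc0 ▸ zero_mem _, fun i => ?_⟩
  rw [hc0, map_zero, zero_add] at hc
  rw [hres _ (hind _ hc i)]
  exact zero_mem _

open IsLocalRing in
/-- Let A be a complete Noetherian local ring whose residue field has characteristic p (p = 0 allowed).
The following are equivalent: (a) A contains a field, i.e. there is a ring homomorphism from a field
into A; (b) p·1 = 0 in A; (c) A is isomorphic to a quotient of a power series ring K[[T_1, …, T_n]]
over a field K. Moreover, when they hold, the surjection in (c) may be chosen with kernel contained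
in the square of the maximal ideal of K[[T_1, …, T_n]]. -/
theorem result (A : Type u) [CommRing A] [IsLocalRing A] [IsNoetherianRing A]
    [IsAdicComplete (maximalIdeal A) A] (p : ℕ) [CharP (ResidueField A) p] :
    [∃ (K : Type u) (_ : Field K), Nonempty (K →+* A),
     (p : A) = 0,
     ∃ (K : Type u) (_ : Field K) (n : ℕ) (f : MvPowerSeries (Fin n) K →+* A), Function.Surjective f].TFAE ∧
    ((p : A) = 0 → ∃ (K : Type u) (_ : Field K) (n : ℕ) (f : MvPowerSeries (Fin n) K →+* A),
      Function.Surjective f ∧ RingHom.ker f ≤ maximalIdeal (MvPowerSeries (Fin n) K) ^ 2) := by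
  constructor
  · tfae_have 1 → 2 := by
      rintro ⟨K, _, ⟨f⟩⟩
      have h : ((p : ℕ) : K) = 0 := ((residue A).comp f).injective (by
        rw [map_natCast, map_zero, CharP.cast_eq_zero])
      rw [← map_natCast f, h, map_zero]
    tfae_have 2 → 3 := fun h => (key A p h).imp fun K ⟨iK, n, f, hf, _⟩ => ⟨iK, n, f, hf⟩
    tfae_have 3 → 1 := fun ⟨K, iK, n, f, _⟩ => ⟨K, iK, ⟨f.comp MvPowerSeries.C⟩⟩
    tfae_finish
  · exact key A p

end Groth.Agent.S4511
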