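import Groth.Statements.S4512
import Groth.Agent.L06.FormSmoothField2

set_option autoImplicit false
set_option linter.style.haveILetI false
set_option maxSynthPendingDepth 3
universe u
open EGA41

namespace Groth.Agent.S4512

open IsLocalRing in
/-- Let k be a field and A a Noetherian local k-algebra with residue field K, and suppose A is formally
smooth over k for the adic topology of its maximal ideal (k discrete). Then A is geometrically
regular over k, i.e. A ⊗_k k' is a regular ring for every finite extension k' of k; and the adic
completion of A is isomorphic, as a ring, to a power series ring K[[T_1, …, T_n]] (existence of a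
ring isomorphism; no compatibility with k is asserted, and none holds in general when K is
inseparable over k). -/
theorem result {k A : Type u} [Field k] [CommRing A]
    [IsLocalRing A] [IsNoetherianRing A] [Algebra k A] (h : CAlgX.IsAdicFormallySmooth k A (maximalIdeal A)) :
    CAlg.IsGeometricallyRegular k A ∧
      ∃ n : ℕ, Nonempty (AdicCompletion (maximalIdeal A) A ≃+* MvPowerSeries (Fin n) (ResidueField A)) := by
  refine ⟨Groth.L06.FormSmooth.isGeometricallyRegular_of_adicSmooth h, ?_⟩
  haveI := Groth.L06.FormSmooth.regular_of_adicSmooth_field h
  haveI := Groth.L06.FormSmooth.formallySmooth_bot_field k (IsLocalRing.ResidueField A)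
  obtain ⟨n, e, -⟩ := Groth.L06.FormSmooth.exists_completion_equiv (k := (⊥ : Subfield k)) (A := A)
  exact ⟨n, ⟨e⟩⟩

end Groth.Agent.S4512
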