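import Groth.Statements.S4515
import Mathlib.RingTheory.AdicCompletion.Functoriality
import Mathlib.LinearAlgebra.TensorProduct.RightExactness

set_option autoImplicit false
set_option linter.style.haveILetI false
universe u
open EGA41

namespace Groth.Agent.S4515

/-- Let A be a ring, J an ideal of A, and M, N two A-modules which are Hausdorff for the J-adic
topology; suppose moreover that N is J-adically complete and M is flat. Let u : N → M be A-linear.
If the induced map N/JN → M/JM is bijective (surjectivity and injectivity written out below), then u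
is bijective. -/
theorem result {A : Type u} [CommRing A] (J : Ideal A)
    {M N : Type u} [AddCommGroup M] [Module A M] [AddCommGroup N] [Module A N]
    [IsHausdorff J M] [IsAdicComplete J N] [Module.Flat A M] (u : N →ₗ[A] M)
    (hsurj : ∀ m : M, ∃ n : N, m - u n ∈ (J • ⊤ : Submodule A M))
    (hinj : ∀ n : N, u n ∈ (J • ⊤ : Submodule A M) → n ∈ (J • ⊤ : Submodule A N)) :
    Function.Bijective u := by
  refine ⟨?_, surjective_of_mkQ_comp_surjective (I := J) fun q => ?_⟩
  swap
  · obtain ⟨y, rfl⟩ := Submodule.mkQ_surjective _ q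
    obtain ⟨x, hx⟩ := hsurj y
    exact ⟨x, ((Submodule.Quotient.eq _).mpr hx).symm⟩
  rw [injective_iff_map_eq_zero]
  intro x hx
  have smem : ∀ {P : Type u} [AddCommGroup P] [Module A P] (a : A) (I : Ideal A) (y : P),
      a ∈ I → a • y ∈ (I • ⊤ : Submodule A P) := fun a I y ha => Submodule.smul_mem_smul ha trivial
  suffices key : ∀ k : ℕ, x ∈ (J ^ k • ⊤ : Submodule A N) from
    IsHausdorff.haus inferInstance x fun k => SModEq.zero.mpr (key k)
  intro k
  induction k with
  | zero => simp
  | succ k ih =>
    let Jk : Ideal A := J ^ k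
    let S : Submodule A Jk := Submodule.comap (Submodule.subtype Jk) (J ^ (k + 1))
    let T := Jk ⧸ S
    have hT : ∀ a ∈ J, ∀ t : T, a • t = 0 := by
      intro a ha t
      obtain ⟨t, rfl⟩ := Submodule.mkQ_surjective _ t
      rw [← map_smul, Submodule.mkQ_apply, Submodule.Quotient.mk_eq_zero]
      show a * t.1 ∈ J ^ (k + 1)
      rw [pow_succ']
      exact Ideal.mul_mem_mul ha t.2
    have modJ : ∀ (P : Type u) [AddCommGroup P] [Module A P],
        Function.Injective ((J • ⊤ : Submodule A P).mkQ.lTensor T) := by
      intro P _ _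
      rw [injective_iff_map_eq_zero]
      intro z hz
      obtain ⟨w, rfl⟩ := (lTensor_exact T (LinearMap.exact_subtype_mkQ _) (Submodule.mkQ_surjective _) z).mp hz
      induction w using TensorProduct.induction_on with
      | zero => simp
      | add _ _ h₁ h₂ => simp only [map_add] at hz ⊢; rw [h₁ (by simp [LinearMap.lTensor, ← LinearMap.comp_apply, ← TensorProduct.map_comp, (LinearMap.exact_subtype_mkQ _).linearMap_comp_eq_zero]), h₂ (by simp [LinearMap.lTensor, ← LinearMap.comp_apply, ← TensorProduct.map_comp, (LinearMap.exact_subtype_mkQ _).linearMap_comp_eq_zero]), add_zero]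
      | tmul t p =>
        obtain ⟨p, hp⟩ := p
        rw [LinearMap.lTensor_tmul]
        show t ⊗ₜ[A] p = 0
        refine Submodule.smul_induction_on hp (fun a ha y _ => ?_) (fun y z hy hz => by rw [TensorProduct.tmul_add, hy, hz, add_zero])
        rw [← TensorProduct.smul_tmul, hT a ha, TensorProduct.zero_tmul]
    let ub := Submodule.mapQ (J • ⊤ : Submodule A N) (J • ⊤ : Submodule A M) u
      (Submodule.map_le_iff_le_comap.mp (by rw [Submodule.map_smul'']; exact smul_mono_right _ le_top))
    have hub : Function.Bijective ub := by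
      refine ⟨?_, ?_⟩
      · rw [injective_iff_map_eq_zero]
        intro q hq
        obtain ⟨q, rfl⟩ := Submodule.mkQ_surjective _ q
        exact (Submodule.Quotient.mk_eq_zero _).mpr (hinj q ((Submodule.Quotient.mk_eq_zero _).mp hq))
      · intro q
        obtain ⟨q, rfl⟩ := Submodule.mkQ_surjective _ q
        obtain ⟨p, hp⟩ := hsurj q
        exact ⟨Submodule.mkQ _ p, ((Submodule.Quotient.eq _).mpr hp).symm⟩
    have huT : Function.Injective (u.lTensor T) := by
      have h1 : Function.Injective (ub.lTensor T ∘ (J • ⊤ : Submodule A N).mkQ.lTensor T) :=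
        ((LinearEquiv.ofBijective ub hub).lTensor T).injective.comp (modJ N)
      have h2 : ub.comp (J • ⊤ : Submodule A N).mkQ = (J • ⊤ : Submodule A M).mkQ.comp u := rfl
      rw [← LinearMap.coe_comp, ← LinearMap.lTensor_comp, h2, LinearMap.lTensor_comp, LinearMap.coe_comp] at h1
      exact h1.of_comp
    let μ : ∀ (I : Ideal A) (P : Type u) [AddCommGroup P] [Module A P], TensorProduct A I P →ₗ[A] P :=
      fun I P => TensorProduct.lift ((LinearMap.lsmul A P).comp I.subtype)
    have hμ : ∀ (I : Ideal A) (P : Type u) [AddCommGroup P] [Module A P] (y : P),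
        y ∈ (I • ⊤ : Submodule A P) → ∃ z, μ I P z = y := by
      intro I P _ _ y hy
      refine Submodule.smul_induction_on hy (fun a ha y _ => ⟨⟨a, ha⟩ ⊗ₜ y, rfl⟩) ?_
      rintro y z ⟨a, rfl⟩ ⟨b, rfl⟩
      exact ⟨a + b, map_add _ _ _⟩
    have hinjμ : Function.Injective (μ Jk M) := by
      have h : μ Jk M = (TensorProduct.lid A M).toLinearMap.comp (Jk.subtype.rTensor M) :=
        TensorProduct.ext' fun a y => by simp [μ]
      rw [h]
      exact (TensorProduct.lid A M).injective.comp
        (Module.Flat.rTensor_preserves_injective_linearMap _ Subtype.val_injective)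
    obtain ⟨z, hz⟩ := hμ Jk N x ih
    obtain ⟨w, hw⟩ := hμ (J ^ (k + 1)) M (u x) (by rw [hx]; exact zero_mem _)
    let inc : ↥(J ^ (k + 1)) →ₗ[A] Jk := Submodule.inclusion (Ideal.pow_le_pow_right (Nat.le_succ k))
    have h1 : μ Jk M (u.lTensor Jk z) = u x := by
      rw [← hz]
      have : (μ Jk M).comp (u.lTensor Jk) = u.comp (μ Jk N) := TensorProduct.ext' fun a y => by
        simp [μ]
      exact LinearMap.congr_fun this z
    have h2 : μ Jk M (inc.rTensor M w) = u x := by
      rw [← hw]
      have : (μ Jk M).comp (inc.rTensor M) = μ (J ^ (k + 1)) M := TensorProduct.ext' fun a y => rfl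
      exact LinearMap.congr_fun this w
    have h3 : u.lTensor Jk z = inc.rTensor M w := hinjμ (h1.trans h2.symm)
    have h4 : S.mkQ.rTensor N z = 0 := by
      refine huT ?_
      rw [map_zero, ← LinearMap.comp_apply, LinearMap.lTensor_comp_rTensor,
        ← LinearMap.rTensor_comp_lTensor, LinearMap.comp_apply, h3, ← LinearMap.comp_apply,
        ← LinearMap.rTensor_comp]
      have : S.mkQ.comp inc = 0 := LinearMap.ext fun a => (Submodule.Quotient.mk_eq_zero _).mpr a.2
      rw [this]; simp
    let ν : TensorProduct A T N →ₗ[A] N ⧸ (J ^ (k + 1) • ⊤ : Submodule A N) :=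
      TensorProduct.lift (S.liftQ (((LinearMap.lsmul A N).compr₂ (J ^ (k + 1) • ⊤ : Submodule A N).mkQ).comp Jk.subtype)
        (fun a ha => LinearMap.ext fun y => (Submodule.Quotient.mk_eq_zero _).mpr (smem a.1 _ y ha)))
    have : ν.comp (S.mkQ.rTensor N) = (J ^ (k + 1) • ⊤ : Submodule A N).mkQ.comp (μ Jk N) :=
      TensorProduct.ext' fun a y => rfl
    have h5 := LinearMap.congr_fun this z
    rw [LinearMap.comp_apply, h4, map_zero, LinearMap.comp_apply, hz] at h5
    exact (Submodule.Quotient.mk_eq_zero _).mp h5.symm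

end Groth.Agent.S4515
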