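import Groth.Statements.S4516
import Mathlib.RingTheory.Kaehler.Basic
-- import your own Groth.Agent.* helpers here

set_option autoImplicit false
universe u
open EGA41

namespace Groth.Agent.S4516

/-- Let p be a prime, B an A-algebra of characteristic p and A' an A-subalgebra of B contained in
A[B^p]. Then the canonical map between Ω_{B/A} and Ω_{B/A'} is bijective (every A-derivation of B
vanishes on A[B^p]). -/
theorem result (p : ℕ) [Fact p.Prime] {A B : Type u}
    [CommRing A] [CommRing B] [Algebra A B] [CharP B p] (A' : Subalgebra A B)
    (hA' : A' ≤ EGA41.pPowerSubalgebra p A B) :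
    Function.Bijective (KaehlerDifferential.map A A' B B) := by
  have hvan : ∀ a : A', KaehlerDifferential.D A B (a : B) = 0 := by
    rintro ⟨a, ha'⟩
    have ha := hA' ha'
    show KaehlerDifferential.D A B a = 0
    clear ha'
    induction ha using Algebra.adjoin_induction with
    | mem x hx =>
      obtain ⟨b, rfl⟩ := hx
      rw [Derivation.leibniz_pow, ← Nat.cast_smul_eq_nsmul B, CharP.cast_eq_zero, zero_smul]
    | algebraMap r => exact Derivation.map_algebraMap _ r
    | add x y _ _ hx hy => rw [map_add, hx, hy, add_zero]
    | mul x y _ _ hx hy => rw [Derivation.leibniz, hx, hy, smul_zero, smul_zero, add_zero]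
  let D' : Derivation A' B (Ω[B⁄A]) :=
    { toLinearMap :=
        { toFun := KaehlerDifferential.D A B
          map_add' := map_add _
          map_smul' := fun a x => by
            rw [RingHom.id_apply, Algebra.smul_def, Derivation.leibniz,
              show KaehlerDifferential.D A B (algebraMap A' B a) = 0 from hvan a, smul_zero, add_zero,
              algebraMap_smul] }
      map_one_eq_zero' := Derivation.map_one_eq_zero _
      leibniz' := fun x y => Derivation.leibniz _ x y }
  let g : Ω[B⁄A'] →ₗ[B] Ω[B⁄A] := D'.liftKaehlerDifferential
  have h1 : g ∘ₗ KaehlerDifferential.map A A' B B = LinearMap.id := by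
    refine LinearMap.ext_on_range (KaehlerDifferential.span_range_derivation A B) fun x => ?_
    rw [LinearMap.comp_apply, KaehlerDifferential.map_D, Derivation.liftKaehlerDifferential_comp_D]
    rfl
  exact ⟨Function.LeftInverse.injective (g := g) fun x => LinearMap.congr_fun h1 x,
    KaehlerDifferential.map_surjective_of_surjective A A' B B (fun b => ⟨b, rfl⟩)⟩

end Groth.Agent.S4516
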