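import Groth.Statements.S4524
import Mathlib.RingTheory.AlgebraicIndependent.TranscendenceBasis
import Mathlib.RingTheory.Etale.Field
import Mathlib.RingTheory.Etale.Kaehler
import Mathlib.RingTheory.Kaehler.Polynomial
import Mathlib.RingTheory.AlgebraicIndependent.Adjoin
import Mathlib.FieldTheory.Perfect
import Mathlib.RingTheory.Flat.FaithfullyFlat.Basic

set_option autoImplicit false
set_option linter.style.haveILetI false
universe u
open EGA41

namespace Groth.Agent.S4524

/-- Let k be a field of characteristic 0 and K an extension of k. Then Ω_{K/k} = 0 if and only if K is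
an algebraic extension of k. -/
theorem result {k K : Type u} [Field k] [CharZero k] [Field K] [Algebra k K] :
    Subsingleton (Ω[K⁄k]) ↔ Algebra.IsAlgebraic k K := by
  refine ⟨fun hΩ => ?_, fun hK => ?_⟩
  swap
  · haveI : Algebra.IsSeparable k K := Algebra.IsAlgebraic.isSeparable_of_perfectField
    haveI := Algebra.FormallyUnramified.of_isSeparable k K
    infer_instance
  obtain ⟨T, hT⟩ := exists_isTranscendenceBasis k K
  rw [← hT.isEmpty_iff_isAlgebraic]
  by_contra hne
  rw [not_isEmpty_iff] at hne
  obtain ⟨t⟩ := hne
  let P := MvPolynomial T k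
  let L := IntermediateField.adjoin k (Set.range ((↑) : T → K))
  let e := hT.1.aevalEquivField
  letI : Algebra P L := (e.toRingEquiv.toRingHom.comp (algebraMap P (FractionRing P))).toAlgebra
  haveI : IsFractionRing P L := IsLocalization.isLocalization_of_algEquiv (nonZeroDivisors P)
    ({ e.toRingEquiv with commutes' := fun r => rfl } : FractionRing P ≃ₐ[P] L)
  haveI : IsScalarTower k P L := IsScalarTower.of_algebraMap_eq fun r => by
    show _ = e (algebraMap P (FractionRing P) (algebraMap k P r))
    rw [← IsScalarTower.algebraMap_apply k P (FractionRing P), e.commutes]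
  haveI := hT.isAlgebraic_field
  haveI : CharZero L := charZero_of_injective_algebraMap (algebraMap k L).injective
  haveI : Algebra.IsSeparable L K := Algebra.IsAlgebraic.isSeparable_of_perfectField
  haveI : Algebra.FormallyEtale L K := Algebra.FormallyEtale.of_isSeparable L K
  haveI : Algebra.FormallyEtale P L := Algebra.FormallyEtale.of_isLocalization (nonZeroDivisors P)
  haveI h1 : Subsingleton (TensorProduct L K (Ω[L⁄k])) :=
    (KaehlerDifferential.tensorKaehlerEquivOfFormallyEtale k L K).subsingleton
  haveI h2 : Subsingleton (Ω[L⁄k]) :=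
    Module.FaithfullyFlat.lTensor_reflects_triviality (R := L) (M := K) (Ω[L⁄k])
  haveI h3 : Subsingleton (TensorProduct P L (Ω[P⁄k])) :=
    (KaehlerDifferential.tensorKaehlerEquivOfFormallyEtale k P L).subsingleton
  haveI : Subsingleton (T →₀ L) :=
    ((KaehlerDifferential.mvPolynomialBasis k T).baseChange L).repr.toEquiv.symm.subsingleton
  exact one_ne_zero (α := L) (by
    simpa using DFunLike.congr_fun (Subsingleton.elim (Finsupp.single t (1 : L)) 0) t)

end Groth.Agent.S4524
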