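import Groth.Statements.S4529
import Mathlib.RingTheory.Nakayama
import Mathlib.RingTheory.Nilpotent.Basic
import Mathlib.RingTheory.OrzechProperty
import Mathlib.RingTheory.FiniteType

set_option autoImplicit false
set_option linter.style.haveILetI false
universe u
open EGA41

namespace Groth.Agent.S4529

/-- Let A be a ring, M, N two A-modules with N projective, u : M → N a homomorphism and J an ideal of A;
suppose either (i) J is nilpotent, or (ii) J is contained in the Jacobson radical of A and M is of
finite type. Then u is left invertible if and only if the induced map u₀ : M/JM → N/JN is left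
invertible. (A left inverse of u₀ composed with N → N/JN is an A-linear map v : N → M/JM with v ∘ u
the projection, and conversely; the right-hand side is written in that form.) -/
theorem result {A : Type u} [CommRing A] {M N : Type u} [AddCommGroup M] [Module A M]
    [AddCommGroup N] [Module A N] [Module.Projective A N] (u : M →ₗ[A] N) (J : Ideal A)
    (hJ : IsNilpotent J ∨ (J ≤ (⊥ : Ideal A).jacobson ∧ Module.Finite A M)) :
    (∃ w : N →ₗ[A] M, w ∘ₗ u = LinearMap.id) ↔
      ∃ v : N →ₗ[A] M ⧸ (J • ⊤ : Submodule A M), v ∘ₗ u = (J • ⊤ : Submodule A M).mkQ := by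
  constructor
  · rintro ⟨w, hw⟩
    exact ⟨(J • ⊤ : Submodule A M).mkQ ∘ₗ w, by rw [LinearMap.comp_assoc, hw, LinearMap.comp_id]⟩
  · rintro ⟨v, hv⟩
    obtain ⟨l, hl⟩ := Module.projective_lifting_property (J • ⊤ : Submodule A M).mkQ v (Submodule.mkQ_surjective _)
    set e : Module.End A M := l ∘ₗ u with he
    have hd : ∀ x, e x - x ∈ (J • ⊤ : Submodule A M) := fun x => by
      rw [← Submodule.Quotient.eq]
      have h1 : (J • ⊤ : Submodule A M).mkQ (l (u x)) = v (u x) := LinearMap.congr_fun hl _
      have h2 : v (u x) = (J • ⊤ : Submodule A M).mkQ x := LinearMap.congr_fun hv x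
      exact h1.trans h2
    suffices he' : IsUnit e by
      obtain ⟨f, hf⟩ := he'
      refine ⟨(↑f⁻¹ : Module.End A M) ∘ₗ l, ?_⟩
      rw [LinearMap.comp_assoc, ← he, ← Module.End.mul_eq_comp, ← hf, Units.inv_mul, Module.End.one_eq_id]
    rcases hJ with ⟨k, hk⟩ | ⟨hJ, hfin⟩
    · have hn : IsNilpotent (e - 1) := by
        refine ⟨k, LinearMap.ext fun x => ?_⟩
        suffices ((e - 1) ^ k) x ∈ (J ^ k • ⊤ : Submodule A M) by
          rwa [hk, Submodule.zero_eq_bot, Submodule.bot_smul, Submodule.mem_bot] at this
        clear hk
        induction k with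
        | zero => simp
        | succ k ih =>
          rw [pow_succ' (e - 1) k, Module.End.mul_apply]
          have : (J ^ k • ⊤ : Submodule A M) ≤ (J ^ (k + 1) • ⊤ : Submodule A M).comap (e - 1) := by
            rw [← Submodule.map_le_iff_le_comap, Submodule.map_smul'', pow_succ, Submodule.mul_smul]
            refine Submodule.smul_mono le_rfl ?_
            rintro _ ⟨y, -, rfl⟩
            exact hd y
          exact this ih
      have := IsNilpotent.isUnit_one_add hn
      rwa [add_sub_cancel] at this
    · have hsurj : Function.Surjective e := by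
        rw [← LinearMap.range_eq_top, eq_top_iff]
        refine Submodule.le_of_le_smul_of_le_jacobson_bot (Module.Finite.fg_top) hJ fun x _ => ?_
        rw [show x = e x + -(e x - x) by abel]
        exact add_mem (Submodule.mem_sup_left ⟨x, rfl⟩) (Submodule.mem_sup_right (Submodule.neg_mem _ (hd x)))
      exact (Module.End.isUnit_iff e).mpr
        ⟨OrzechProperty.injective_of_surjective_endomorphism e hsurj, hsurj⟩

end Groth.Agent.S4529
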