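import Groth.Statements.S4530
import Groth.Agent.L06.LeftInverse

set_option autoImplicit false
set_option linter.style.haveILetI false
universe u
open EGA41

namespace Groth.Agent.S4530

open TensorProduct in
/-- Let A be a ring, M an A-module of finite type, N a projective A-module, u : M → N a homomorphism.
For a prime ideal 𝔭 the following are equivalent: (a) u_𝔭 : M_𝔭 → N_𝔭 is left invertible; (b) u ⊗ 1
: M ⊗ k(𝔭) → N ⊗ k(𝔭) is injective; (d) there is f ∉ 𝔭 with u_f : M_f → N_f left invertible.
Moreover the set of such 𝔭 is open in Spec A. (The published statement also has a determinant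
criterion (c); this row omits it.) -/
theorem result {A : Type u} [CommRing A] {M N : Type u} [AddCommGroup M] [Module A M]
    [Module.Finite A M] [AddCommGroup N] [Module A N] [Module.Projective A N] (u : M →ₗ[A] N) :
    (∀ p : PrimeSpectrum A,
      [∃ w : LocalizedModule p.asIdeal.primeCompl N →ₗ[A] LocalizedModule p.asIdeal.primeCompl M,
          w ∘ₗ LocalizedModule.map p.asIdeal.primeCompl u = LinearMap.id,
       Function.Injective (u.lTensor p.asIdeal.ResidueField),
       ∃ f : A, f ∉ p.asIdeal ∧
          ∃ w : LocalizedModule (Submonoid.powers f) N →ₗ[A] LocalizedModule (Submonoid.powers f) M,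
            w ∘ₗ LocalizedModule.map (Submonoid.powers f) u = LinearMap.id].TFAE) ∧
    IsOpen {p : PrimeSpectrum A |
      ∃ w : LocalizedModule p.asIdeal.primeCompl N →ₗ[A] LocalizedModule p.asIdeal.primeCompl M,
        w ∘ₗ LocalizedModule.map p.asIdeal.primeCompl u = LinearMap.id} := by
  open Groth.L06.LeftInverse in
  have ext' : ∀ (S : Submonoid A) (w : LocalizedModule S N →ₗ[A] LocalizedModule S M),
      (∀ x, w (LocalizedModule.mkLinearMap S N (u x)) = LocalizedModule.mkLinearMap S M x) →
      w ∘ₗ LocalizedModule.map S u = LinearMap.id := by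
    intro S w h
    refine IsLocalizedModule.linearMap_ext S (LocalizedModule.mkLinearMap S M) (LocalizedModule.mkLinearMap S M) ?_
    ext x
    simp only [LinearMap.comp_apply, LinearMap.id_apply]
    refine Eq.trans ?_ (h x)
    congr 1
    simp [LocalizedModule.map_mk]
  have ext'' : ∀ (S : Submonoid A) (w : LocalizedModule S N →ₗ[A] LocalizedModule S M),
      w ∘ₗ LocalizedModule.map S u = LinearMap.id →
      ∀ x, w (LocalizedModule.mkLinearMap S N (u x)) = LocalizedModule.mkLinearMap S M x := by
    intro S w h x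
    have := LinearMap.congr_fun h (LocalizedModule.mkLinearMap S M x)
    simp only [LinearMap.comp_apply, LinearMap.id_apply] at this
    simpa [LocalizedModule.map_mk] using this
  have loc : ∀ p : PrimeSpectrum A,
      (∃ w : LocalizedModule p.asIdeal.primeCompl N →ₗ[A] LocalizedModule p.asIdeal.primeCompl M,
        w ∘ₗ LocalizedModule.map p.asIdeal.primeCompl u = LinearMap.id) ↔ ¬ goodIdeal u ≤ p.asIdeal := by
    intro p
    constructor
    · rintro ⟨w, hw⟩ hle
      obtain ⟨f, hf, hfu⟩ := exists_mem_goodIdeal_of_localized u _ w (ext'' _ w hw)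
      exact hf (hle hfu)
    · intro h
      obtain ⟨f, hfu, hfp⟩ := SetLike.not_le_iff_exists.mp h
      obtain ⟨w, hw⟩ := exists_localized_of_mem_goodIdeal u p.asIdeal.primeCompl hfp hfu
      exact ⟨w, ext' _ w hw⟩
  refine ⟨fun p => ?_, ?_⟩
  · tfae_have 1 → 2 := fun h => by
      obtain ⟨f, hfu, hfp⟩ := SetLike.not_le_iff_exists.mp ((loc p).mp h)
      refine injective_lTensor_of_mem_goodIdeal u _ (fun h0 => hfp ?_) hfu
      exact Ideal.algebraMap_residueField_eq_zero.mp h0
    tfae_have 2 → 3 := fun h => by
      obtain ⟨f, hfp, hfu⟩ := exists_notMem_goodIdeal p.asIdeal u h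
      obtain ⟨w, hw⟩ := exists_localized_of_mem_goodIdeal u (Submonoid.powers f) (Submonoid.mem_powers f) hfu
      exact ⟨f, hfp, w, ext' _ w hw⟩
    tfae_have 3 → 1 := fun ⟨f, hfp, w, hw⟩ => by
      obtain ⟨g, ⟨k, hk⟩, hg⟩ := exists_mem_goodIdeal_of_localized u _ w (ext'' _ w hw)
      exact (loc p).mpr fun hle => hfp (p.2.mem_of_pow_mem k ((show f ^ k = g from hk) ▸ hle hg))
    tfae_finish
  · have : {p : PrimeSpectrum A |
        ∃ w : LocalizedModule p.asIdeal.primeCompl N →ₗ[A] LocalizedModule p.asIdeal.primeCompl M,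
          w ∘ₗ LocalizedModule.map p.asIdeal.primeCompl u = LinearMap.id} = (PrimeSpectrum.zeroLocus (goodIdeal u : Set A))ᶜ := by
      ext p
      exact (loc p).trans (by simp [PrimeSpectrum.mem_zeroLocus])
    rw [this]
    exact (PrimeSpectrum.isClosed_zeroLocus _).isOpen_compl

end Groth.Agent.S4530
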