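import Groth.Statements.S4531
import Groth.Agent.L06.LeftInverse
import Mathlib.RingTheory.Spectrum.Prime.Topology
import Mathlib.RingTheory.Flat.FaithfullyFlat.Algebra

set_option autoImplicit false
set_option linter.style.haveILetI false
universe u
open EGA41

namespace Groth.Agent.S4531

open TensorProduct in
/-- Let A be a ring, M an A-module of finite type, N a projective A-module and u : M → N a homomorphism.
(i) u is left invertible if and only if u_𝔪 : M_𝔪 → N_𝔪 is left invertible for every maximal ideal 𝔪
of A. (ii) If A' is an A-algebra which is a faithfully flat A-module, u is left invertible if and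
only if u ⊗ 1 : M ⊗_A A' → N ⊗_A A' is left invertible (as an A'-linear map). -/
theorem result {A : Type u} [CommRing A] {M N : Type u} [AddCommGroup M] [Module A M]
    [Module.Finite A M] [AddCommGroup N] [Module A N] [Module.Projective A N] (u : M →ₗ[A] N) :
    ((∃ w : N →ₗ[A] M, w ∘ₗ u = LinearMap.id) ↔
      ∀ (m : Ideal A) [m.IsMaximal],
        ∃ w : LocalizedModule m.primeCompl N →ₗ[A] LocalizedModule m.primeCompl M,
          w ∘ₗ LocalizedModule.map m.primeCompl u = LinearMap.id) ∧
    ∀ (A' : Type u) [CommRing A'] [Algebra A A'] [Module.FaithfullyFlat A A'],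
      (∃ w : N →ₗ[A] M, w ∘ₗ u = LinearMap.id) ↔
        ∃ w : A' ⊗[A] N →ₗ[A'] A' ⊗[A] M, w ∘ₗ u.baseChange A' = LinearMap.id := by
  open Groth.L06.LeftInverse TensorProduct in
  constructor
  · constructor
    · intro h m _
      obtain ⟨w, hw⟩ := exists_localized_of_mem_goodIdeal u m.primeCompl (one_mem _) (one_mem_goodIdeal_iff.mpr h)
      refine ⟨w, IsLocalizedModule.linearMap_ext m.primeCompl (LocalizedModule.mkLinearMap _ M) (LocalizedModule.mkLinearMap _ M) ?_⟩
      ext x
      simp only [LinearMap.comp_apply, LinearMap.id_apply]
      refine Eq.trans ?_ (hw x)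
      congr 1
      simp [LocalizedModule.map_mk]
    · intro h
      refine exists_leftInverse_of_forall_maximal u fun m _ => ?_
      obtain ⟨w, hw⟩ := h m
      refine exists_mem_goodIdeal_of_localized u _ w fun x => ?_
      have := LinearMap.congr_fun hw (LocalizedModule.mkLinearMap m.primeCompl M x)
      simp only [LinearMap.comp_apply, LinearMap.id_apply] at this
      simpa [LocalizedModule.map_mk] using this
  · intro A' _ _ _
    constructor
    · rintro ⟨w, hw⟩
      exact ⟨w.baseChange A', by rw [← LinearMap.baseChange_comp, hw, LinearMap.baseChange_id]⟩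
    · rintro ⟨w, hw⟩
      refine exists_leftInverse_of_forall_maximal u fun m hm => ?_
      obtain ⟨⟨q, hq⟩, hqm⟩ := PrimeSpectrum.comap_surjective_of_faithfullyFlat (A := A) (B := A') ⟨m, hm.isPrime⟩
      replace hqm : m = q.comap (algebraMap A A') := (congrArg PrimeSpectrum.asIdeal hqm).symm
      let j : m.ResidueField →ₐ[A] q.ResidueField := Ideal.ResidueField.mapₐ m q (Algebra.ofId A A') hqm
      letI : Algebra m.ResidueField q.ResidueField := j.toRingHom.toAlgebra
      haveI : IsScalarTower A m.ResidueField q.ResidueField := .of_algebraMap_eq fun a => (j.commutes a).symm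
      obtain ⟨r, hr⟩ := (Algebra.linearMap m.ResidueField q.ResidueField).exists_leftInverse_of_injective
        (LinearMap.ker_eq_bot.mpr (algebraMap m.ResidueField q.ResidueField).injective)
      let g : A' →ₗ[A] m.ResidueField := r.restrictScalars A ∘ₗ (IsScalarTower.toAlgHom A A' q.ResidueField).toLinearMap
      have hg : g 1 = 1 := by
        simp only [g, LinearMap.comp_apply, AlgHom.toLinearMap_apply, map_one, LinearMap.coe_restrictScalars]
        have := LinearMap.congr_fun hr 1
        simpa using this
      let L : N →ₗ[A] m.ResidueField ⊗[A] M := g.rTensor M ∘ₗ w.restrictScalars A ∘ₗ TensorProduct.mk A A' N 1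
      refine exists_notMem_goodIdeal m u ?_
      refine Function.LeftInverse.injective (g := L.liftBaseChange m.ResidueField) fun z => ?_
      have : (L.liftBaseChange m.ResidueField).restrictScalars A ∘ₗ u.lTensor m.ResidueField = LinearMap.id := by
        refine TensorProduct.ext' fun c x => ?_
        have h1 : w (1 ⊗ₜ u x) = 1 ⊗ₜ x := LinearMap.congr_fun hw (1 ⊗ₜ x)
        simp [L, h1, hg, TensorProduct.smul_tmul']
      exact LinearMap.congr_fun this z

end Groth.Agent.S4531
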