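import Groth.Statements.S4532


set_option autoImplicit false
set_option linter.style.haveILetI false
universe u
open EGA41

namespace Groth.Agent.S4532

/-- Let A be a discrete ring and V a projective A-module. Then the symmetric algebra of V over A, with
the discrete topology, is a formally smooth A-algebra. -/
theorem result (A : Type u) [CommRing A] (V : Type u) [AddCommGroup V] [Module A V]
    [Module.Projective A V] : Algebra.FormallySmooth A (SymmetricAlgebra A V) := by
  refine Algebra.FormallySmooth.of_comp_surjective fun E _ _ I _ g => ?_
  obtain ⟨w, hw⟩ := Module.projective_lifting_property (Ideal.Quotient.mkₐ A I).toLinearMap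
    (g.toLinearMap.comp (SymmetricAlgebra.ι A V)) Ideal.Quotient.mk_surjective
  refine ⟨SymmetricAlgebra.lift w, SymmetricAlgebra.algHom_ext (LinearMap.ext fun x => ?_)⟩
  show Ideal.Quotient.mk I (SymmetricAlgebra.lift w (SymmetricAlgebra.ι A V x)) = _
  rw [SymmetricAlgebra.lift_ι_apply]
  exact LinearMap.congr_fun hw x

end Groth.Agent.S4532
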