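import Groth.Statements.S4539
import Groth.Agent.L06.CohenLiftings
import Groth.Agent.L06.SepKaehler
import Groth.Agent.L03.FieldFS
import Mathlib.RingTheory.DedekindDomain.Dvr
import Mathlib.RingTheory.Flat.TorsionFree

set_option autoImplicit false
set_option maxSynthPendingDepth 3
set_option linter.style.haveILetI false
universe u
open EGA41

namespace Groth.Agent.S4539

open IsLocalRing in
/-- Let A be a local ring with residue characteristic p (p = 0 or a prime), P the prime local ring ℤ_(p)
(ℚ if p = 0) and P → A its unique local homomorphism. Then A is a Cohen ring, i.e. a Cohen P-algebra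
— Noetherian and complete, flat over P, with pA its maximal ideal (and residue field separable over
the prime field) — if and only if A is a field of characteristic 0 or a complete discrete valuation
ring of residue characteristic > 0 whose maximal ideal is generated by p·1. -/
theorem result (p : ℕ) [hp : (Ideal.span {(p : ℤ)}).IsPrime]
    {A : Type} [CommRing A] [IsLocalRing A] [CharP (ResidueField A) p]
    [Algebra (Localization.AtPrime (Ideal.span {(p : ℤ)})) A]
    [IsLocalHom (algebraMap (Localization.AtPrime (Ideal.span {(p : ℤ)})) A)] :
    EGA41.IsCohenAlgebra (Localization.AtPrime (Ideal.span {(p : ℤ)})) A ↔ EGA41.IsCohenRingEGA A := by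
  haveI : CharP (ResidueField A) p := inferInstance
  let P := Localization.AtPrime (Ideal.span {(p : ℤ)})
  have hmP : maximalIdeal P = Ideal.span {(p : P)} := by
    rw [← Localization.AtPrime.map_eq_maximalIdeal, Ideal.map_span, Set.image_singleton, map_natCast]
  have hmap : (maximalIdeal P).map (algebraMap P A) = Ideal.span {(p : A)} := by
    rw [hmP, Ideal.map_span, Set.image_singleton, map_natCast]
  have hinjZ : Function.Injective (algebraMap ℤ P) :=
    IsLocalization.injective P (Ideal.primeCompl_le_nonZeroDivisors (Ideal.span {(p : ℤ)}))
  constructor
  · rintro ⟨-, hnA, hcA, hflat, hm, -⟩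
    have hm' : maximalIdeal A = Ideal.span {(p : A)} := hm.symm.trans hmap
    rcases CharP.char_is_prime_or_zero (ResidueField A) p with hpp | hp0
    · have hne : (p : P) ≠ 0 := fun h => hpp.ne_zero (Int.ofNat_eq_zero.mp (hinjZ (by rw [map_natCast, h, map_zero])))
      have hreg : ∀ a : A, (p : A) * a = 0 → a = 0 := fun a ha => by
        have h1 := (Module.Flat.isSMulRegular_of_nonZeroDivisors (M := A) (mem_nonZeroDivisors_of_ne_zero hne))
        refine h1 ?_
        show (p : P) • a = (p : P) • (0 : A)
        rw [smul_zero, Algebra.smul_def, map_natCast, ha]
      obtain ⟨hd, hv⟩ := Groth.L01.Cohen.exists_dvr_of_maximalIdeal_eq_span hm' hreg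
      exact Or.inr ⟨hd, hv, hcA, p, hpp, hm'⟩
    · subst hp0
      rw [Nat.cast_zero, Ideal.span_singleton_zero, ← IsLocalRing.isField_iff_maximalIdeal_eq] at hm'
      haveI : CharZero (ResidueField A) := CharP.charP_to_charZero _
      exact Or.inl ⟨hm', ⟨fun a b h => Nat.cast_injective (R := ResidueField A)
        (by rw [← map_natCast (residue A), h, map_natCast])⟩⟩
  · intro hA
    have hgr : Algebra.IsGeometricallyReduced (ResidueField P) (ResidueField A) := by
      haveI : PerfectField (ResidueField P) := by
        rcases CharP.char_is_prime_or_zero (ResidueField A) p with hpp | hp0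
        · haveI := Fact.mk hpp
          haveI : CharP (ResidueField P) p :=
            (RingHom.charP_iff (algebraMap (ResidueField P) (ResidueField A))
              (algebraMap (ResidueField P) (ResidueField A)).injective p).mpr inferInstance
          haveI : Finite (ResidueField P) := by
            let φ := ZMod.castHom (dvd_refl p) (ResidueField P)
            refine Finite.of_surjective φ fun y => ?_
            obtain ⟨y, rfl⟩ := residue_surjective y
            obtain ⟨⟨a, s⟩, rfl⟩ := IsLocalization.mk'_surjective (Ideal.span {(p : ℤ)}).primeCompl y
            have hs : ((s : ℤ) : ResidueField P) ≠ 0 := fun h => s.2 (Ideal.mem_span_singleton.mpr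
              ((CharP.intCast_eq_zero_iff (ResidueField P) p (s : ℤ)).mp h))
            refine ⟨(a : ZMod p) * ((s : ℤ) : ZMod p)⁻¹, mul_right_cancel₀ hs ?_⟩
            have hz : ((s : ℤ) : ZMod p) ≠ 0 := fun h => s.2 (Ideal.mem_span_singleton.mpr
              ((ZMod.intCast_zmod_eq_zero_iff_dvd _ p).mp h))
            rw [map_mul, mul_assoc, ← map_intCast φ (s : ℤ), ← map_mul, inv_mul_cancel₀ hz, map_one, mul_one, map_intCast]
            have h2 := congrArg (residue P) (IsLocalization.mk'_spec P a s)
            rw [map_mul, eq_intCast (algebraMap ℤ P), eq_intCast (algebraMap ℤ P), map_intCast, map_intCast] at h2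
            rw [map_intCast]
            exact h2.symm
          infer_instance
        · subst hp0
          haveI : CharZero (ResidueField A) := CharP.charP_to_charZero _
          haveI : CharZero (ResidueField P) :=
            RingHom.charZero (algebraMap (ResidueField P) (ResidueField A))
          infer_instance
      haveI := Groth.L03.FieldFS.formallySmooth_of_perfectField (ResidueField P) (ResidueField A)
      exact Groth.L06.SepKaehler.geometricallyReduced_of_formallySmooth _ _
    rcases hA with ⟨hF, h0⟩ | hC
    · haveI : CharZero A := h0
      have hp0 : p = 0 := by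
        haveI : CharZero (ResidueField A) := by
          letI := hF.toField
          exact charZero_of_injective_ringHom (residue A).injective
        exact CharP.eq (ResidueField A) inferInstance (CharP.ofCharZero _)
      subst hp0
      have hmA : maximalIdeal A = ⊥ := (IsLocalRing.isField_iff_maximalIdeal_eq).mp hF
      have hPF : IsField P := by
        rw [IsLocalRing.isField_iff_maximalIdeal_eq, hmP]
        exact Ideal.span_singleton_eq_bot.mpr Nat.cast_zero
      refine ⟨inferInstance, ?_, ?_, ?_, hmap.trans (hmA ▸ Ideal.span_singleton_eq_bot.mpr Nat.cast_zero), hgr⟩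
      · letI := hF.toField
        infer_instance
      · rw [hmA]; infer_instance
      · letI := hPF.toField
        infer_instance
    · obtain ⟨q, hq, hd, hn, hc, hm, hq0, -⟩ := Groth.L06.CohenLiftings.cohen_data hC
      have hpq : p = q := by
        rcases CharP.char_is_prime_or_zero (ResidueField A) p with hpp | hp0
        · refine Groth.L06.CohenLiftings.prime_unique hpp hq ?_ (hm.ge (Ideal.mem_span_singleton_self _))
          rw [← residue_eq_zero_iff, map_natCast, CharP.cast_eq_zero]
        · have h1 : ((q : ℕ) : ResidueField A) = 0 := by
            rw [← map_natCast (residue A), residue_eq_zero_iff]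
            exact hm.ge (Ideal.mem_span_singleton_self _)
          rw [CharP.cast_eq_zero_iff (ResidueField A) p q, hp0] at h1
          exact absurd (Nat.eq_zero_of_zero_dvd h1) hq.ne_zero
      subst hpq
      haveI := hd
      haveI : IsDomain P := IsLocalization.isDomain_localization (Ideal.primeCompl_le_nonZeroDivisors _)
      haveI : IsDedekindDomain P :=
        IsLocalization.isDedekindDomain ℤ (Ideal.primeCompl_le_nonZeroDivisors (Ideal.span {(p : ℤ)})) P
      refine ⟨inferInstance, hn, hc, ?_, hmap.trans hm.symm, hgr⟩
      have hinj : Function.Injective (algebraMap P A) := by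
        refine (injective_iff_map_eq_zero _).mpr fun x hx => ?_
        obtain ⟨⟨a, s⟩, rfl⟩ := IsLocalization.mk'_surjective (Ideal.span {(p : ℤ)}).primeCompl x
        rw [IsLocalization.mk'_eq_zero_iff]
        refine ⟨1, ?_⟩
        have h2 := congrArg (algebraMap P A) (IsLocalization.mk'_spec P a s)
        rw [map_mul, hx, zero_mul, eq_intCast (algebraMap ℤ P), map_intCast] at h2
        have hA0 : CharZero A := by
          rcases CharP.exists A with ⟨r, hr⟩
          rcases eq_or_ne r 0 with rfl | hr0
          · exact CharP.charP_to_charZero A
          · have hrp : r.Prime := (CharP.char_is_prime_or_zero A r).resolve_right hr0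
            exact absurd (Groth.L06.CohenLiftings.prime_unique hrp hq (by rw [CharP.cast_eq_zero]; exact zero_mem _)
              (hm.ge (Ideal.mem_span_singleton_self _)) ▸ CharP.cast_eq_zero A r) hq0
        haveI := hA0
        simpa using h2.symm
      haveI : Module.IsTorsionFree P A := Module.isTorsionFree_iff_algebraMap_injective.mpr hinj
      infer_instance

end Groth.Agent.S4539
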