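import Groth.Statements.S4540
import Groth.Agent.L06.FormSmoothDer
import Groth.Agent.L01.NilDescent
import Mathlib.RingTheory.LocalRing.RingHom.Basic

set_option autoImplicit false
set_option linter.style.haveILetI false
set_option maxSynthPendingDepth 3
universe u
open EGA41

namespace Groth.Agent.S4540

open IsLocalRing TensorProduct in
/-- Let A, B be Noetherian local rings and A → B a local homomorphism making B a formally smooth
A-algebra for the adic topologies of the maximal ideals. Then for every ideal of definition 𝔟 of B,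
the (B/𝔟)-module Ω_{B/A} ⊗_B (B/𝔟) is free. -/
theorem result {A B : Type u} [CommRing A] [IsLocalRing A]
    [IsNoetherianRing A] [CommRing B] [IsLocalRing B] [IsNoetherianRing B] [Algebra A B] [IsLocalHom (algebraMap A B)]
    (h : EGA41.IsFormallySmoothAdic A (maximalIdeal A) B (maximalIdeal B))
    (𝔟 : Ideal B) (hle : 𝔟 ≤ maximalIdeal B) (hpow : ∃ k : ℕ, maximalIdeal B ^ k ≤ 𝔟) :
    Module.Free (B ⧸ 𝔟) ((B ⧸ 𝔟) ⊗[B] Ω[B⁄A]) := by
  obtain ⟨n, hn⟩ := hpow
  haveI := Groth.L06.FormSmoothAdic.projective_kaehler ⟨1, by rw [pow_one]; exact IsLocalRing.map_maximalIdeal_le _⟩ h 𝔟 ⟨n, hn⟩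
  haveI : ((maximalIdeal B).map (Ideal.Quotient.mk 𝔟)).IsMaximal :=
    Ideal.IsMaximal.map_of_surjective_of_ker_le Ideal.Quotient.mk_surjective (by rw [Ideal.mk_ker]; exact hle)
  have hnil : IsNilpotent ((maximalIdeal B).map (Ideal.Quotient.mk 𝔟)) := ⟨n, by
    rw [Submodule.zero_eq_bot, ← Ideal.map_pow, eq_bot_iff, ← Ideal.map_quotient_self 𝔟]
    exact Ideal.map_mono hn⟩
  haveI : Module.Flat (B ⧸ 𝔟) ((B ⧸ 𝔟) ⊗[B ⧸ 𝔟] ((B ⧸ 𝔟) ⊗[B] Ω[B⁄A])) := inferInstance
  exact Groth.L01.NilDescent.free_of_flat_baseChange _ hnil (B ⧸ 𝔟) (fun x y h => h) _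

end Groth.Agent.S4540
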