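import Groth.Statements.S4547
import Groth.Agent.L06.LeftInverse
import Mathlib.RingTheory.LocalRing.Module
import Mathlib.RingTheory.Nakayama

set_option autoImplicit false
set_option linter.style.haveILetI false
universe u
open EGA41

namespace Groth.Agent.S4547

open TensorProduct IsLocalRing in
theorem aux_criterion {A : Type u} [CommRing A] [IsLocalRing A] {M N : Type u}
    [AddCommGroup M] [Module A M] [Module.Finite A M] [AddCommGroup N] [Module A N] [Module.Projective A N]
    (u : M →ₗ[A] N) {m : ℕ} (x : Fin m → M) (hx : Submodule.span A (Set.range x) = ⊤)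
    (hli : LinearIndependent (ResidueField A) (fun i => (1 : ResidueField A) ⊗ₜ[A] u (x i))) :
    ∃ w : N →ₗ[A] M, w ∘ₗ u = LinearMap.id := by
  open Groth.L06.LeftInverse in
  refine exists_leftInverse_of_forall_maximal u fun q hq => ?_
  obtain rfl : q = maximalIdeal A := IsLocalRing.eq_maximalIdeal hq
  refine exists_notMem_goodIdeal _ u ?_
  let φ : ResidueField A →ₐ[A] (maximalIdeal A).ResidueField :=
    Ideal.Quotient.liftₐ (maximalIdeal A) (Algebra.ofId A _) fun a ha => Ideal.algebraMap_residueField_eq_zero.mpr ha
  have hφ : Function.Bijective φ := Ideal.bijective_algebraMap_quotient_residueField (maximalIdeal A)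
  let ψ := (AlgEquiv.ofBijective φ hφ).toLinearEquiv
  have hinj : Function.Injective (u.lTensor (ResidueField A)) := by
    have hspan : ⊤ ≤ Submodule.span (ResidueField A) (Set.range fun i => (1 : ResidueField A) ⊗ₜ[A] x i) := by
      intro z _
      have : ∀ y : M, (1 : ResidueField A) ⊗ₜ[A] y ∈
          Submodule.span (ResidueField A) (Set.range fun i => (1 : ResidueField A) ⊗ₜ[A] x i) := by
        intro y
        have hy : y ∈ Submodule.span A (Set.range x) := hx ▸ Submodule.mem_top
        induction hy using Submodule.span_induction with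
        | mem y hy =>
          obtain ⟨i, rfl⟩ := hy
          exact Submodule.subset_span ⟨i, rfl⟩
        | zero => simp
        | add a b _ _ ha hb => rw [tmul_add]; exact add_mem ha hb
        | smul a y _ hy => rw [tmul_smul]; exact Submodule.smul_of_tower_mem _ a hy
      induction z with
      | zero => simp
      | add a b ha hb => exact add_mem (ha trivial) (hb trivial)
      | tmul c y =>
        rw [show c ⊗ₜ[A] y = c • ((1 : ResidueField A) ⊗ₜ[A] y) by rw [smul_tmul', smul_eq_mul, mul_one]]
        exact Submodule.smul_mem _ c (this y)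
    let b := Module.Basis.mk (v := fun i => (1 : ResidueField A) ⊗ₜ[A] x i)
      (LinearIndependent.of_comp (u.baseChange (ResidueField A)) hli) hspan
    have : Function.Injective (u.baseChange (ResidueField A)) := by
      rw [← LinearMap.ker_eq_bot]
      refine (LinearMap.ker_eq_bot').mpr fun z hz => ?_
      rw [← b.sum_repr z, map_sum] at hz
      simp only [map_smul, b, Module.Basis.coe_mk, LinearMap.baseChange_tmul] at hz
      have := Fintype.linearIndependent_iff.mp hli _ hz
      exact b.forall_coord_eq_zero_iff.mp this
    exact this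
  have h : u.lTensor (maximalIdeal A).ResidueField =
      ψ.toLinearMap.rTensor N ∘ₗ u.lTensor (ResidueField A) ∘ₗ ψ.symm.toLinearMap.rTensor M := by
    refine TensorProduct.ext' fun c y => ?_
    simp
  rw [h]
  exact (LinearEquiv.rTensor N ψ).injective.comp (hinj.comp (LinearEquiv.rTensor M ψ.symm).injective)

open IsLocalRing TensorProduct in
/-- Let A be a local ring with residue field k, M an A-module of finite type, N a projective A-module
and u : M → N a homomorphism. Then u is left invertible if and only if there is a finite system of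
generators (x_i) of M such that the elements 1 ⊗ u(x_i) of k ⊗_A N are linearly independent over k;
and such a system (x_i) is then a basis of M. -/
theorem result {A : Type u} [CommRing A] [IsLocalRing A] {M N : Type u}
    [AddCommGroup M] [Module A M] [Module.Finite A M] [AddCommGroup N] [Module A N] [Module.Projective A N]
    (u : M →ₗ[A] N) :
    ((∃ w : N →ₗ[A] M, w ∘ₗ u = LinearMap.id) ↔
      ∃ (m : ℕ) (x : Fin m → M), Submodule.span A (Set.range x) = ⊤ ∧
        LinearIndependent (ResidueField A) (fun i => (1 : ResidueField A) ⊗ₜ[A] u (x i))) ∧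
    ∀ (m : ℕ) (x : Fin m → M), Submodule.span A (Set.range x) = ⊤ →
      LinearIndependent (ResidueField A) (fun i => (1 : ResidueField A) ⊗ₜ[A] u (x i)) →
        ∃ b : Module.Basis (Fin m) A M, ∀ i, b i = x i := by

  open TensorProduct IsLocalRing in
  have main : ∀ (m : ℕ) (x : Fin m → M), Submodule.span A (Set.range x) = ⊤ →
      LinearIndependent (ResidueField A) (fun i => (1 : ResidueField A) ⊗ₜ[A] u (x i)) →
        ∃ b : Module.Basis (Fin m) A M, ∀ i, b i = x i := by
    intro m x hx hli
    let π : (Fin m → A) →ₗ[A] M := Fintype.linearCombination A x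
    obtain ⟨w, hw⟩ := aux_criterion (u ∘ₗ π) (fun i => Pi.basisFun A (Fin m) i) (Module.Basis.span_eq _) (by
      classical
      simpa [π, Fintype.linearCombination_apply, Pi.single_apply] using hli)
    have hinj : Function.Injective π := fun a b h => by
      rw [← LinearMap.id_apply (R := A) a, ← LinearMap.id_apply (R := A) b, ← hw]
      simp [h]
    have hsurj : Function.Surjective π := by
      rw [← LinearMap.range_eq_top, Fintype.range_linearCombination, hx]
    refine ⟨(Pi.basisFun A (Fin m)).map (LinearEquiv.ofBijective π ⟨hinj, hsurj⟩), fun i => ?_⟩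
    classical
    simp only [Module.Basis.map_apply, Pi.basisFun_apply]
    refine Eq.trans (LinearEquiv.ofBijective_apply _ _) ?_
    simp [π, Fintype.linearCombination_apply, Pi.single_apply]
  refine ⟨⟨fun ⟨w, hw⟩ => ?_, fun ⟨m, x, hx, hli⟩ => aux_criterion u x hx hli⟩, main⟩
  let b₀ := Module.finBasis (ResidueField A) (ResidueField A ⊗[A] M)
  have hs : ∀ i, ∃ y : M, (1 : ResidueField A) ⊗ₜ[A] y = b₀ i := fun i =>
    TensorProduct.mk_surjective A M (ResidueField A) Ideal.Quotient.mk_surjective (b₀ i)
  choose x hx using hs
  refine ⟨_, x, ?_, ?_⟩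
  · refine IsLocalRing.span_eq_top_of_tmul_eq_basis x b₀ hx
  · have h : (w.baseChange (ResidueField A)) ∘ₗ (u.baseChange (ResidueField A)) = LinearMap.id := by
      rw [← LinearMap.baseChange_comp, hw, LinearMap.baseChange_id]
    refine LinearIndependent.of_comp (w.baseChange (ResidueField A)) ?_
    have he : (w.baseChange (ResidueField A)) ∘ (fun i => (1 : ResidueField A) ⊗ₜ[A] u (x i)) = b₀ := funext fun i => by
      rw [← hx i]
      exact LinearMap.congr_fun h (1 ⊗ₜ x i)
    rw [he]
    exact b₀.linearIndependent

end Groth.Agent.S4547
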