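import Groth.Statements.S4548
import Groth.Agent.L06.PowSerFrobSub
import Mathlib.Algebra.Field.Subfield.Basic

set_option autoImplicit false
set_option maxSynthPendingDepth 3
set_option linter.style.haveILetI false
universe u
open EGA41

namespace Groth.Agent.S4548

/-- Let k be a field of characteristic p > 0, A = k[[T_1, …, T_r]] and K its field of fractions. Then
there is a decreasing filtered family (A_α) of Noetherian subrings of A (rendered: a nonempty
family, directed downwards for inclusion) such that A is a free A_α-module of finite type for every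
α and, K_α denoting the subfield of K generated by A_α (its field of fractions inside K), ⋂_α K_α =
K^p. -/
theorem result (p : ℕ) [Fact p.Prime] (k : Type u) [Field k] [CharP k p]
    (r : ℕ) :
    ∃ (ι : Type u) (_ : Nonempty ι) (S : ι → Subring (MvPowerSeries (Fin r) k)),
      (∀ a b : ι, ∃ c, S c ≤ S a ⊓ S b) ∧
      (∀ i, IsNoetherianRing (S i) ∧ Module.Free (S i) (MvPowerSeries (Fin r) k) ∧ Module.Finite (S i) (MvPowerSeries (Fin r) k)) ∧
      ((⨅ i, Subfield.closure (algebraMap (MvPowerSeries (Fin r) k) (FractionRing (MvPowerSeries (Fin r) k)) '' (S i)) :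
          Set (FractionRing (MvPowerSeries (Fin r) k)))) =
        Set.range fun x : FractionRing (MvPowerSeries (Fin r) k) => x ^ p := by
  classical
  let M := MvPowerSeries (Fin r) k
  let K := FractionRing M
  obtain ⟨ι, hne, L, hdir, hL, hcap⟩ := Groth.L06.PowSerFrobSub.exists_cofinite_family p (k := k)
  let S : ι → Subring M := fun i => Groth.L06.PowSerFrobSub.sub p r (L i)
  refine ⟨ι, hne, S, fun a b => (hdir a b).imp fun c hc => le_inf
      (Groth.L06.PowSerFrobSub.sub_mono p r (hc.trans inf_le_left))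
      (Groth.L06.PowSerFrobSub.sub_mono p r (hc.trans inf_le_right)), fun i => ?_, ?_⟩
  · haveI := (hL i).1
    exact ⟨Groth.L06.PowSerFrobSub.isNoetherianRing p r (L i), Groth.L06.PowSerFrobSub.finite_free p r (L i)⟩
  have hmem : ∀ (i : ι) (x : K), x ∈ Subfield.closure (algebraMap M K '' (S i)) ↔
      ∃ a ∈ S i, ∃ b ∈ S i, algebraMap M K a / algebraMap M K b = x := by
    intro i x
    rw [Subfield.mem_closure_iff, ← Subring.coe_map, Subring.closure_eq]
    constructor
    · rintro ⟨_, ⟨a, ha, rfl⟩, _, ⟨b, hb, rfl⟩, h⟩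
      exact ⟨a, ha, b, hb, h⟩
    · rintro ⟨a, ha, b, hb, h⟩
      exact ⟨_, ⟨a, ha, rfl⟩, _, ⟨b, hb, rfl⟩, h⟩
  have hinj : Function.Injective (algebraMap M K) := IsFractionRing.injective M K
  have hpw : ∀ i (f : M), f ^ p ∈ S i := fun i f => Groth.L06.PowSerFrobSub.pow_mem p r (hL i).2 f
  ext x
  simp only [SetLike.mem_coe, Subfield.mem_iInf, Subfield.coe_iInf, Set.mem_iInter, Set.iInf_eq_iInter, Set.mem_range]
  constructor
  · intro hx
    obtain ⟨a, b, hb, rfl⟩ := IsFractionRing.div_surjective (A := M) x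
    have hb0 : b ≠ 0 := nonZeroDivisors.ne_zero hb
    have hh : b ^ p ≠ 0 := pow_ne_zero _ hb0
    let a₁ : M := a * b ^ (p - 1)
    have hx1 : algebraMap M K a / algebraMap M K b = algebraMap M K a₁ / algebraMap M K (b ^ p) := by
      rw [div_eq_div_iff ((map_ne_zero_iff _ hinj).mpr hb0) ((map_ne_zero_iff _ hinj).mpr hh), ← map_mul, ← map_mul]
      congr 1
      show a * b ^ p = a * b ^ (p - 1) * b
      rw [mul_assoc, ← pow_succ, Nat.sub_add_cancel (Fact.out : p.Prime).one_le]
    have ha : ∀ i, a₁ ∈ S i := by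
      intro i
      obtain ⟨u, hu, v, hv, huv⟩ := (hmem i _).mp (hx i)
      rw [hx1] at huv
      rcases eq_or_ne v 0 with rfl | hv0
      · have h0 : algebraMap M K a₁ = 0 := by
          rw [map_zero, div_zero, eq_comm, div_eq_zero_iff] at huv
          exact huv.resolve_right ((map_ne_zero_iff _ hinj).mpr hh)
        rw [(map_eq_zero_iff _ hinj).mp h0]
        exact zero_mem _
      · refine Groth.L06.PowSerFrobSub.mem_of_mul_eq p r (L i) (mul_mem hu (hpw i b)) hv hv0 (hinj ?_)
        rw [div_eq_div_iff ((map_ne_zero_iff _ hinj).mpr hv0) ((map_ne_zero_iff _ hinj).mpr hh)] at huv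
        rw [map_mul (algebraMap M K) a₁ v, map_mul (algebraMap M K) u (b ^ p), huv]
    obtain ⟨i₀⟩ := hne
    obtain ⟨g, hg⟩ := Groth.L06.PowSerFrobSub.exists_pth_root p r (f := a₁)
      ((Groth.L06.PowSerFrobSub.mem_sub p r).mp (ha i₀)).1
      (fun n => hcap _ fun i => ((Groth.L06.PowSerFrobSub.mem_sub p r).mp (ha i)).2 n)
    refine ⟨algebraMap M K g / algebraMap M K b, ?_⟩
    rw [hx1, div_pow, ← map_pow, ← map_pow, hg]
  · rintro ⟨y, rfl⟩ i
    obtain ⟨a, b, hb, rfl⟩ := IsFractionRing.div_surjective (A := M) y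
    exact (hmem i _).mpr ⟨a ^ p, hpw i a, b ^ p, hpw i b, by rw [div_pow, map_pow, map_pow]⟩

end Groth.Agent.S4548
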