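import Groth.Statements.S4549
import Groth.Agent.L06.PBasisField
import Mathlib.RingTheory.Adjoin.Field
import Mathlib.RingTheory.TensorProduct.Free

set_option autoImplicit false
set_option maxSynthPendingDepth 3
set_option linter.style.haveILetI false
universe u
open EGA41

namespace Groth.Agent.S4549

open TensorProduct in
/-- Let K be a field of characteristic p, k₀ a subfield and L an extension of K such that Υ_{L/K/k₀} has
finite rank over L. Then there is a subfield k of K containing k₀(K^p), with [K : k] finite, which
is k₀-admissible for the extension L of K, i.e. such that Υ_{L/K/k₀} → Υ_{L/K/k} is injective. (The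
published statement uses the characteristic exponent and so also covers characteristic 0, where k =
K works; this row treats characteristic p > 0.) -/
theorem result (p : ℕ) [Fact p.Prime] {k₀ K L : Type u} [Field k₀] [Field K] [Field L]
    [Algebra k₀ K] [Algebra K L] [Algebra k₀ L] [IsScalarTower k₀ K L] [CharP K p]
    [Module.Finite L (EGA41.imperfection k₀ K L)] :
    ∃ k : IntermediateField k₀ K, (∀ y : K, y ^ p ∈ k) ∧ Module.Finite k K ∧
      ∀ ω ∈ EGA41.imperfection k₀ K L,
        ((KaehlerDifferential.map k₀ k K K).restrictScalars K).baseChange L ω = 0 → ω = 0 := by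
  classical
  obtain ⟨B, hB⟩ := Groth.L06.PBasisField.exists_pBasis p k₀ K
  obtain ⟨b, hb⟩ := (Groth.L06.PBasisField.isPBasis_iff p _).mp hB
  let bL := b.baseChange L
  obtain ⟨G, hG⟩ : (EGA41.imperfection k₀ K L).FG := (Submodule.fg_top _).mp Module.Finite.fg_top
  let s : Finset B := G.biUnion fun g => (bL.repr g).support
  let pw : Set K := Set.range fun y : K => y ^ p
  let F : IntermediateField k₀ K := IntermediateField.adjoin k₀ (pw ∪ Subtype.val '' {x : B | x ∉ s})
  have hpow : ∀ x : K, x ^ p ∈ F := fun x => IntermediateField.subset_adjoin _ _ (Or.inl ⟨x, rfl⟩)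
  refine ⟨F, hpow, ?_, ?_⟩
  · have hall : ∀ z : K, z ∈ IntermediateField.adjoin k₀ (pw ∪ B) := by
      intro z
      by_contra hz
      obtain ⟨D, hD, hD1⟩ := Groth.L06.PBasisField.exists_der p hz
      have h0 : D.liftKaehlerDifferential = 0 := b.ext fun i => by
        rw [hb, Derivation.liftKaehlerDifferential_comp_D, LinearMap.zero_apply]
        exact hD _ (IntermediateField.subset_adjoin _ _ (Or.inr i.2))
      rw [← Derivation.liftKaehlerDifferential_comp_D D z, h0, LinearMap.zero_apply] at hD1
      exact zero_ne_one hD1
    let T : IntermediateField F K := IntermediateField.adjoin F (Subtype.val '' (s : Set B))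
    have hint : ∀ x ∈ Subtype.val '' (s : Set B), IsIntegral F x := fun x _ => by
      refine IsIntegral.of_pow (Fact.out : p.Prime).pos ?_
      exact (show algebraMap F K ⟨x ^ p, hpow x⟩ = x ^ p from rfl) ▸ isIntegral_algebraMap
    haveI : Finite (Subtype.val '' (s : Set B) : Set K) := (s.finite_toSet.image _).to_subtype
    haveI : FiniteDimensional F T := IntermediateField.finiteDimensional_adjoin hint
    have hT : T = ⊤ := by
      refine eq_top_iff.mpr fun z _ => ?_
      refine IntermediateField.adjoin_induction k₀ (fun x hx => ?_) (fun c => ?_) (fun _ _ _ _ => T.add_mem)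
        (fun _ _ => T.inv_mem) (fun _ _ _ _ => T.mul_mem) (hall z)
      · rcases hx with hx | hx
        · exact T.algebraMap_mem ⟨x, IntermediateField.subset_adjoin _ _ (Or.inl hx)⟩
        · by_cases hxs : (⟨x, hx⟩ : B) ∈ s
          · exact IntermediateField.subset_adjoin _ _ ⟨⟨x, hx⟩, hxs, rfl⟩
          · exact T.algebraMap_mem ⟨x, IntermediateField.subset_adjoin _ _ (Or.inr ⟨⟨x, hx⟩, hxs, rfl⟩)⟩
      · exact T.algebraMap_mem (algebraMap k₀ F c)
    haveI : FiniteDimensional F (⊤ : IntermediateField F K) := hT ▸ inferInstance
    exact Module.Finite.equiv IntermediateField.topEquiv.toLinearEquiv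
  · intro ω hω hzero
    have hsupp : ∀ i, i ∉ s → bL.repr ω i = 0 := by
      intro i hi
      rw [← hG] at hω
      refine Submodule.span_induction (p := fun ω _ => bL.repr ω i = 0) (fun g hg => ?_) (by simp)
        (fun x y _ _ hx hy => by simp [hx, hy]) (fun c x _ hx => by simp [hx]) hω
      by_contra hne
      exact hi (Finset.mem_biUnion.mpr ⟨g, hg, Finsupp.mem_support_iff.mpr hne⟩)
    have hin : ∀ i, i ∈ s → bL.repr ω i = 0 := by
      intro i hi
      let D₀ : Derivation k₀ K K := (b.coord i).compDer (KaehlerDifferential.D k₀ K)
      have hF : ∀ x : F, D₀ (algebraMap F K x) = 0 := fun x => by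
        refine Groth.L06.PBasisField.kills_adjoin D₀ _ (fun y hy => ?_) _ x.2
        rcases hy with ⟨c, rfl⟩ | ⟨x, hx, rfl⟩
        · exact Groth.L06.PBasisUniv.eq_zero_of_pow_derivation p D₀ c
        · show b.repr (KaehlerDifferential.D k₀ K (x : K)) i = 0
          rw [← hb x, b.repr_self, Finsupp.single_eq_of_ne]
          exact fun h => hx (h ▸ hi)
      let D : Derivation F K K :=
        { toFun := D₀
          map_add' := map_add D₀
          map_smul' := fun x y => by
            show D₀ (x • y) = x • D₀ y
            rw [Algebra.smul_def, Derivation.leibniz, hF, smul_zero, add_zero, smul_eq_mul, Algebra.smul_def]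
          map_one_eq_zero' := D₀.map_one_eq_zero
          leibniz' := D₀.leibniz }
      let φ : Ω[K⁄F] →ₗ[K] K := D.liftKaehlerDifferential
      have hφ : φ ∘ₗ (KaehlerDifferential.map k₀ F K K).restrictScalars K = b.coord i := by
        refine LinearMap.ext_on (KaehlerDifferential.span_range_derivation k₀ K) ?_
        rintro _ ⟨x, rfl⟩
        simp only [LinearMap.comp_apply, LinearMap.restrictScalars_apply, KaehlerDifferential.map_D]
        exact D.liftKaehlerDifferential_comp_D x
      have h1 : (b.coord i).baseChange L ω = 0 := by
        rw [← hφ, LinearMap.baseChange_comp, LinearMap.comp_apply, hzero, map_zero]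
      have h2 : TensorProduct.AlgebraTensorModule.rid K L L ((b.coord i).baseChange L ω) = bL.repr ω i := by
        clear hsupp h1 hzero hω
        induction ω using TensorProduct.induction_on with
        | zero => simp
        | add x y hx hy => simp [hx, hy]
        | tmul l w => simp [bL, Algebra.smul_def, mul_comm]
      rw [← h2, h1, map_zero]
    exact bL.repr.injective (Finsupp.ext fun i => by
      rw [map_zero, Finsupp.zero_apply]
      by_cases hi : i ∈ s
      exacts [hin i hi, hsupp i hi])

end Groth.Agent.S4549
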