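import Groth.Statements.S4550
import Mathlib.RingTheory.MvPowerSeries.Expand
import Mathlib.RingTheory.MvPowerSeries.NoZeroDivisors
import Mathlib.LinearAlgebra.Basis.VectorSpace
import Mathlib.Algebra.Field.Subfield.Basic
import Mathlib.RingTheory.Localization.FractionRing

set_option autoImplicit false
set_option maxSynthPendingDepth 3
set_option linter.style.haveILetI false
universe u
open EGA41

namespace Groth.Agent.S4550

/-- Let k be a field, (k_α) a decreasing filtered family of subfields of k with intersection k₀, and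
suppose there is a power q of the characteristic exponent of k with k^q ⊆ k₀. Then, inside k((T_1,
…, T_r)), one has ⋂_α k_α((T_1, …, T_r)) = k₀((T_1, …, T_r)); here F((T)) is the subfield of the
fraction field of k[[T]] generated by the power series with all coefficients in F. -/
theorem result {k : Type u} [Field k] {ι : Type u} [Nonempty ι] (F : ι → Subfield k)
    (hdir : ∀ a b : ι, ∃ c, F c ≤ F a ⊓ F b) (e : ℕ) (hq : ∀ x : k, x ^ ringExpChar k ^ e ∈ ⨅ i, F i) (r : ℕ) :
    (⨅ i, Subfield.closure (algebraMap (MvPowerSeries (Fin r) k) (FractionRing (MvPowerSeries (Fin r) k)) ''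
        {f | ∀ n, MvPowerSeries.coeff n f ∈ F i})) =
      Subfield.closure (algebraMap (MvPowerSeries (Fin r) k) (FractionRing (MvPowerSeries (Fin r) k)) ''
        {f | ∀ n, MvPowerSeries.coeff n f ∈ ⨅ i, F i}) := by
  classical
  let M := MvPowerSeries (Fin r) k
  let K := FractionRing M
  let q := ringExpChar k
  haveI : ExpChar k q := ringExpChar.expChar k
  let S : Subfield k → Subring M := fun L =>
    (MvPowerSeries.map (σ := Fin r) L.subtype).range
  have hS : ∀ (L : Subfield k) (f : M), f ∈ S L ↔ ∀ n, MvPowerSeries.coeff n f ∈ L := by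
    intro L f
    constructor
    · rintro ⟨g, rfl⟩ n
      rw [MvPowerSeries.coeff_map]
      exact (MvPowerSeries.coeff n g).2
    · intro h
      refine ⟨fun n => ⟨MvPowerSeries.coeff n f, h n⟩, ?_⟩
      ext n
      rw [MvPowerSeries.coeff_map]
      rfl
  have himage : ∀ (L : Subfield k), Subring.closure (algebraMap M K '' {f | ∀ n, MvPowerSeries.coeff n f ∈ L}) =
      (S L).map (algebraMap M K) := by
    intro L
    rw [show {f : M | ∀ n, MvPowerSeries.coeff n f ∈ L} = (S L : Set M) from Set.ext fun f => (hS L f).symm,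
      ← Subring.coe_map, Subring.closure_eq]
  have hmem : ∀ (L : Subfield k) (x : K), x ∈ Subfield.closure (algebraMap M K '' {f | ∀ n, MvPowerSeries.coeff n f ∈ L}) ↔
      ∃ a ∈ S L, ∃ b ∈ S L, algebraMap M K a / algebraMap M K b = x := by
    intro L x
    rw [Subfield.mem_closure_iff, himage]
    constructor
    · rintro ⟨_, ⟨a, ha, rfl⟩, _, ⟨b, hb, rfl⟩, h⟩
      exact ⟨a, ha, b, hb, h⟩
    · rintro ⟨a, ha, b, hb, h⟩
      exact ⟨_, ⟨a, ha, rfl⟩, _, ⟨b, hb, rfl⟩, h⟩
  have hmono : ∀ {L L' : Subfield k}, L ≤ L' → S L ≤ S L' := fun {L L'} h f hf =>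
    (hS L' f).mpr fun n => h ((hS L f).mp hf n)
  have hpow : ∀ g : M, g ^ q ^ e ∈ S (⨅ i, F i) := by
    intro g
    rw [hS, ← MvPowerSeries.map_iterateFrobenius_expand q (expChar_ne_zero k q) g e]
    intro n
    rw [MvPowerSeries.coeff_map, iterateFrobenius_def]
    exact hq _
  have hinter : ∀ (L : Subfield k) (a b c : M), b ∈ S L → c ∈ S L → c ≠ 0 → a * c = b → a ∈ S L := by
    intro L a b c hb hc hc0 habc
    obtain ⟨φ, hφ⟩ := (LinearMap.toSpanSingleton L k 1).exists_leftInverse_of_injective
      (LinearMap.ker_eq_bot.mpr (by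
        intro x y h
        simpa [Subfield.smul_def] using h))
    have hφ1 : ∀ x : L, φ (x : k) = x := fun x => by
      have h := LinearMap.congr_fun hφ x
      simpa [Subfield.smul_def] using h
    let a' : MvPowerSeries (Fin r) L := fun n => φ (MvPowerSeries.coeff n a)
    obtain ⟨b', rfl⟩ := hb
    obtain ⟨c', rfl⟩ := hc
    have h1 : a' * c' = b' := by
      ext n
      have h2 : φ (MvPowerSeries.coeff n (a * MvPowerSeries.map L.subtype c')) =
          φ (MvPowerSeries.coeff n (MvPowerSeries.map L.subtype b')) := by rw [habc]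
      rw [MvPowerSeries.coeff_mul, MvPowerSeries.coeff_map] at h2
      simp only [MvPowerSeries.coeff_map] at h2
      rw [show L.subtype (MvPowerSeries.coeff n b') = ((MvPowerSeries.coeff n b' : L) : k) from rfl, hφ1, map_sum] at h2
      rw [← h2, MvPowerSeries.coeff_mul]
      refine congrArg Subtype.val (Finset.sum_congr rfl fun ij _ => ?_)
      rw [mul_comm (MvPowerSeries.coeff ij.1 a), show L.subtype (MvPowerSeries.coeff ij.2 c') * MvPowerSeries.coeff ij.1 a =
        (MvPowerSeries.coeff ij.2 c') • MvPowerSeries.coeff ij.1 a from rfl, map_smul, smul_eq_mul, mul_comm]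
      rfl
    refine ⟨a', mul_right_cancel₀ hc0 ?_⟩
    rw [← map_mul, h1, habc]
  refine le_antisymm (fun x hx => ?_) (le_iInf fun i => Subfield.closure_mono (Set.image_mono fun f hf n => (iInf_le F i) (hf n)))
  obtain ⟨a, b, hb, rfl⟩ := IsFractionRing.div_surjective (A := M) x
  have hb0 : b ≠ 0 := nonZeroDivisors.ne_zero hb
  let Q := q ^ e
  have hQ : 0 < Q := pow_pos (expChar_pos k q) e
  let a₁ : M := a * b ^ (Q - 1)
  let h₁ : M := b ^ Q
  have hh : h₁ ≠ 0 := pow_ne_zero _ hb0
  have hinj : Function.Injective (algebraMap M K) := IsFractionRing.injective M K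
  have hx1 : algebraMap M K a / algebraMap M K b = algebraMap M K a₁ / algebraMap M K h₁ := by
    rw [div_eq_div_iff ((map_ne_zero_iff _ hinj).mpr hb0) ((map_ne_zero_iff _ hinj).mpr hh), ← map_mul, ← map_mul]
    congr 1
    show a * b ^ Q = a * b ^ (Q - 1) * b
    rw [mul_assoc, ← pow_succ, Nat.sub_add_cancel hQ]
  have ha1 : a₁ ∈ S (⨅ i, F i) := by
    rw [hS]
    intro n
    rw [Subfield.mem_iInf]
    intro i
    refine (hS (F i) a₁).mp ?_ n
    obtain ⟨u, hu, v, hv, huv⟩ := (hmem (F i) _).mp ((Subfield.mem_iInf.mp hx) i)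
    rw [hx1] at huv
    rcases eq_or_ne v 0 with rfl | hv0
    · have h0 : algebraMap M K a₁ = 0 := by
        rw [map_zero, div_zero, eq_comm, div_eq_zero_iff] at huv
        exact huv.resolve_right ((map_ne_zero_iff _ hinj).mpr hh)
      rw [(map_eq_zero_iff _ hinj).mp h0]
      exact zero_mem _
    · refine hinter (F i) a₁ (u * h₁) v (mul_mem hu (hmono (iInf_le F i) (hpow b))) hv hv0 (hinj ?_)
      rw [div_eq_div_iff ((map_ne_zero_iff _ hinj).mpr hv0) ((map_ne_zero_iff _ hinj).mpr hh)] at huv
      rw [map_mul (algebraMap M K) a₁ v, map_mul (algebraMap M K) u h₁, huv]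
  exact (hmem _ _).mpr ⟨a₁, ha1, h₁, hpow b, hx1.symm⟩

end Groth.Agent.S4550
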