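import Groth.Statements.S4551
import Mathlib.RingTheory.Nilpotent.GeometricallyReduced
import Mathlib.RingTheory.MvPowerSeries.NoZeroDivisors
import Mathlib.RingTheory.TensorProduct.Free
import Mathlib.LinearAlgebra.Basis.VectorSpace

set_option autoImplicit false
universe u
open EGA41

namespace Groth.Agent.S4551

variable {_unused : Unit}

open TensorProduct

lemma reduced_base (k Ω : Type u) [Field k] [Field Ω] [Algebra k Ω] (σ : Type) :
    IsReduced (Ω ⊗[k] MvPowerSeries σ k) := by
  let φ : Ω ⊗[k] MvPowerSeries σ k →ₐ[k] MvPowerSeries σ Ω :=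
    Algebra.TensorProduct.productMap
      ((Algebra.ofId Ω (MvPowerSeries σ Ω)).restrictScalars k)
      { MvPowerSeries.map (algebraMap k Ω) with
        commutes' := fun r => by
          show MvPowerSeries.map (algebraMap k Ω) (algebraMap k (MvPowerSeries σ k) r) = _
          rw [IsScalarTower.algebraMap_apply k Ω (MvPowerSeries σ Ω)]
          simp [MvPowerSeries.algebraMap_apply] }
  suffices Function.Injective φ from isReduced_of_injective φ this
  rw [injective_iff_map_eq_zero]
  classical
  intro x hx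
  let b := Module.Basis.ofVectorSpace k Ω
  let e := TensorProduct.equivFinsuppOfBasisLeft (N := MvPowerSeries σ k) b
  have hx' : x = (e x).sum fun i m => b i ⊗ₜ[k] m := by
    conv_lhs => rw [← e.symm_apply_apply x]
    rw [TensorProduct.equivFinsuppOfBasisLeft_symm_apply]
  suffices e x = 0 by simpa using congrArg e.symm this
  ext i n
  rw [hx', Finsupp.sum, map_sum] at hx
  have hn : ∑ j ∈ (e x).support, MvPowerSeries.coeff n (e x j) • b j = 0 := by
    have := congrArg (MvPowerSeries.coeff n) hx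
    rw [map_sum, map_zero] at this
    refine Eq.trans (Finset.sum_congr rfl fun j _ => ?_) this
    simp [φ, MvPowerSeries.algebraMap_apply, MvPowerSeries.coeff_C_mul, MvPowerSeries.coeff_map,
      Algebra.smul_def, mul_comm]
  have := linearIndependent_iff'.1 b.linearIndependent _ _ hn i
  by_cases hi : i ∈ (e x).support
  · simpa using this hi
  · simp [Finsupp.notMem_support_iff.1 hi]

lemma reduced_frac (k Ω A F : Type u) [Field k] [Field Ω] [Algebra k Ω] [CommRing A] [IsDomain A]
    [Algebra k A] [Field F] [Algebra k F] [Algebra A F] [IsScalarTower k A F] [IsFractionRing A F]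
    [IsReduced (Ω ⊗[k] A)] : IsReduced (Ω ⊗[k] F) := by
  let ι : Ω ⊗[k] A →ₐ[k] Ω ⊗[k] F :=
    Algebra.TensorProduct.map (AlgHom.id k Ω) (IsScalarTower.toAlgHom k A F)
  have hι : Function.Injective ι :=
    Module.Flat.lTensor_preserves_injective_linearMap (M := Ω)
      (IsScalarTower.toAlgHom k A F).toLinearMap (IsFractionRing.injective A F)
  have key : ∀ z, ∃ s : A, s ≠ 0 ∧ ∃ y, z * (1 ⊗ₜ algebraMap A F s) = ι y := by
    intro z
    induction z using TensorProduct.induction_on with
    | zero => exact ⟨1, one_ne_zero, 0, by simp⟩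
    | tmul w f =>
      obtain ⟨⟨a, s⟩, h⟩ := IsLocalization.surj (nonZeroDivisors A) f
      exact ⟨s, nonZeroDivisors.coe_ne_zero s, w ⊗ₜ a, by simp [ι, h]⟩
    | add z₁ z₂ h₁ h₂ =>
      obtain ⟨s₁, hs₁, y₁, e₁⟩ := h₁
      obtain ⟨s₂, hs₂, y₂, e₂⟩ := h₂
      refine ⟨s₁ * s₂, mul_ne_zero hs₁ hs₂, y₁ * (1 ⊗ₜ s₂) + y₂ * (1 ⊗ₜ s₁), ?_⟩
      have hh : ∀ s : A, ι ((1 : Ω) ⊗ₜ[k] s) = 1 ⊗ₜ algebraMap A F s := fun s => by simp [ι]
      rw [map_add, map_mul ι, map_mul ι, hh, hh, ← e₁, ← e₂, map_mul, add_mul, mul_assoc, mul_assoc]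
      simp [Algebra.TensorProduct.tmul_mul_tmul, mul_comm]
  refine ⟨fun z ⟨n, hz⟩ => ?_⟩
  obtain ⟨s, hs, y, e⟩ := key z
  have hy : y = 0 := IsReduced.eq_zero y ⟨n, hι (by rw [map_pow, ← e, mul_pow, hz, zero_mul, map_zero])⟩
  rw [hy, map_zero] at e
  have hu : IsUnit ((1 : Ω) ⊗ₜ[k] algebraMap A F s) := by
    have : IsUnit (algebraMap A F s) := isUnit_iff_ne_zero.2
      ((map_ne_zero_iff _ (IsFractionRing.injective A F)).2 hs)
    exact this.map (Algebra.TensorProduct.includeRight : F →ₐ[k] Ω ⊗[k] F)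
  exact hu.mul_left_eq_zero.1 e

open EGA41 in


/-- For every field k (any characteristic) the field of fractions k((T_1, …, T_r)) of the power series
ring k[[T_1, …, T_r]] is a separable extension of k, i.e. it is geometrically reduced over k. -/
theorem result (k : Type u) [Field k] (r : ℕ) :
    Algebra.IsGeometricallyReduced k (FractionRing (MvPowerSeries (Fin r) k)) := by
  rw [Algebra.isGeometricallyReduced_field_iff]
  haveI : IsDomain (MvPowerSeries (Fin r) k) := NoZeroDivisors.to_isDomain _
  haveI := reduced_base k (AlgebraicClosure k) (Fin r)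
  exact reduced_frac k (AlgebraicClosure k) (MvPowerSeries (Fin r) k) (FractionRing (MvPowerSeries (Fin r) k))


end Groth.Agent.S4551
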