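import Groth.Statements.S4552


set_option autoImplicit false
set_option linter.style.haveILetI false
universe u
open EGA41

namespace Groth.Agent.S4552

/-- For the 𝔞-adic topology on A and the deduced topology on M: the topological A-module M is formally
projective (for every open ideal 𝔞ⁿ, every pair of (A/𝔞ⁿ)-modules P, Q, every surjection P → Q and
every continuous A-linear map M → Q — here automatically continuous — there is a continuous A-linear
lift M → P) if and only if it is strictly formally projective, i.e. M/𝔞ⁿM is a projective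
(A/𝔞ⁿ)-module for every n. -/
theorem result {A : Type u} [CommRing A] (𝔞 : Ideal A) (M : Type u)
    [AddCommGroup M] [Module A M] :
    (∀ (n : ℕ) (P Q : Type u) [AddCommGroup P] [Module A P] [AddCommGroup Q] [Module A Q],
      (∀ a ∈ 𝔞 ^ n, ∀ y : P, a • y = 0) → (∀ a ∈ 𝔞 ^ n, ∀ y : Q, a • y = 0) →
      ∀ f : P →ₗ[A] Q, Function.Surjective f → ∀ v : M →ₗ[A] Q, ∃ w : M →ₗ[A] P, f ∘ₗ w = v) ↔
    ∀ n : ℕ, Module.Projective (A ⧸ 𝔞 ^ n) (M ⧸ (𝔞 ^ n • ⊤ : Submodule A M)) := by
  constructor
  · intro h n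
    refine Module.Projective.of_lifting_property'' fun f hf => ?_
    obtain ⟨w, hw⟩ := h n _ _ (fun a ha y => by
        rw [← algebraMap_smul (A ⧸ 𝔞 ^ n) a y, Ideal.Quotient.algebraMap_eq,
          Ideal.Quotient.eq_zero_iff_mem.mpr ha, zero_smul])
      (fun a ha y => by
        rw [← algebraMap_smul (A ⧸ 𝔞 ^ n) a y, Ideal.Quotient.algebraMap_eq,
          Ideal.Quotient.eq_zero_iff_mem.mpr ha, zero_smul])
      (f.restrictScalars A) hf (Submodule.mkQ _)
    refine ⟨((𝔞 ^ n • ⊤ : Submodule A M).liftQ w (Submodule.smul_le.mpr fun a ha x _ => by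
      rw [LinearMap.mem_ker, map_smul, ← algebraMap_smul (A ⧸ 𝔞 ^ n) a (w x), Ideal.Quotient.algebraMap_eq,
          Ideal.Quotient.eq_zero_iff_mem.mpr ha, zero_smul])).extendScalarsOfSurjective
            Ideal.Quotient.mk_surjective, LinearMap.ext fun q => ?_⟩
    obtain ⟨q, rfl⟩ := Submodule.mkQ_surjective _ q
    exact LinearMap.congr_fun hw q
  · intro h n P Q _ _ _ _ hP hQ f hf v
    haveI := h n
    letI mP : Module (A ⧸ 𝔞 ^ n) P := Module.IsTorsionBySet.module fun x a => hP a.1 a.2 x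
    letI mQ : Module (A ⧸ 𝔞 ^ n) Q := Module.IsTorsionBySet.module fun x a => hQ a.1 a.2 x
    haveI tP : IsScalarTower A (A ⧸ 𝔞 ^ n) P := Module.IsTorsionBySet.isScalarTower (fun x a => hP a.1 a.2 x)
    haveI tQ : IsScalarTower A (A ⧸ 𝔞 ^ n) Q := Module.IsTorsionBySet.isScalarTower (fun x a => hQ a.1 a.2 x)
    obtain ⟨w, hw⟩ := Module.projective_lifting_property
      (f.extendScalarsOfSurjective (S := A ⧸ 𝔞 ^ n) Ideal.Quotient.mk_surjective)
      (((𝔞 ^ n • ⊤ : Submodule A M).liftQ v (Submodule.smul_le.mpr fun a ha x _ => by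
        rw [LinearMap.mem_ker, map_smul, hQ a ha])).extendScalarsOfSurjective
          (S := A ⧸ 𝔞 ^ n) Ideal.Quotient.mk_surjective) hf
    refine ⟨(w.restrictScalars A).comp (Submodule.mkQ _), LinearMap.ext fun x => ?_⟩
    exact LinearMap.congr_fun hw (Submodule.Quotient.mk x)

end Groth.Agent.S4552
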