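import Groth.Statements.S4555
import Mathlib.RingTheory.MvPowerSeries.Trunc
import Mathlib.RingTheory.Nilpotent.Basic
import Mathlib.RingTheory.Finiteness.Ideal
import Mathlib.RingTheory.Noetherian.Nilpotent
import Mathlib.Algebra.MvPolynomial.CommRing
-- import your own Groth.Agent.* helpers here

set_option autoImplicit false
universe u
open EGA41

namespace Groth.Agent.S4555

open MvPowerSeries in
/-- A series with vanishing coefficients on a box lies in the ideal of the powers of the variables. -/
lemma mem_span_of_coeff_box {A : Type u} [CommRing A] {n : ℕ} (m : ℕ) (h : MvPowerSeries (Fin n) A)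
    (h0 : ∀ d : Fin n →₀ ℕ, (∀ i, d i ≤ m) → coeff d h = 0) :
    h ∈ Ideal.span (Set.range fun i : Fin n => (X i : MvPowerSeries (Fin n) A) ^ (m + 1)) := by
  classical
  let q : Fin n → MvPowerSeries (Fin n) A := fun i e =>
    if ∀ j < i, (e + Finsupp.single i (m + 1)) j ≤ m then coeff (e + Finsupp.single i (m + 1)) h else 0
  have heq : h = ∑ i, q i * monomial (Finsupp.single i (m + 1)) 1 := by
    ext d
    rw [map_sum]
    simp only [coeff_mul_monomial, mul_one, Finsupp.single_le_iff]
    by_cases hd : ∀ i, d i ≤ m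
    · rw [h0 d hd, Finset.sum_eq_zero]
      exact fun i _ => if_neg (by have := hd i; omega)
    · simp only [not_forall, not_le] at hd
      have hne : (Finset.univ.filter fun i => m < d i).Nonempty := ⟨hd.choose, by simpa using hd.choose_spec⟩
      set i₀ := (Finset.univ.filter fun i => m < d i).min' hne
      have hi₀ : m < d i₀ := by simpa using (Finset.min'_mem _ hne : i₀ ∈ _)
      have hmin : ∀ j, m < d j → i₀ ≤ j := fun j hj => Finset.min'_le _ _ (by simpa using hj)
      have key : ∀ i, m + 1 ≤ d i → coeff (d - Finsupp.single i (m + 1)) (q i) =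
          if ∀ j < i, d j ≤ m then coeff d h else 0 := by
        intro i hi
        show q i _ = _
        simp only [q]
        rw [tsub_add_cancel_of_le (Finsupp.single_le_iff.2 hi)]
      rw [Finset.sum_eq_single i₀]
      · rw [if_pos (by omega), key i₀ (by omega), if_pos fun j hj => ?_]
        by_contra hc
        exact absurd (hmin j (by omega)) (not_le.2 hj)
      · intro i _ hne'
        by_cases hi : m + 1 ≤ d i
        · rw [if_pos hi, key i hi, if_neg]
          intro hall
          exact (Nat.not_le.2 hi₀) (hall i₀ (lt_of_le_of_ne (hmin i (by omega)) (Ne.symm hne')))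
        · rw [if_neg hi]
      · exact fun h' => (h' (Finset.mem_univ _)).elim
  rw [heq]
  refine sum_mem fun i _ => Ideal.mul_mem_left _ _ ?_
  rw [← X_pow_eq]
  exact Ideal.subset_span ⟨i, rfl⟩

/-- Let A carry the 𝔞-adic topology, B = A[[T_1, …, T_n]] the product topology (the adic topology of 𝔞B
+ (T_1, …, T_n)), and let E be a discrete topological A-algebra (a power of 𝔞 kills E). (i) If f : B
→ E is a continuous A-algebra homomorphism then each f(T_i) is nilpotent. (ii) Conversely, for every
family (z_i) of nilpotent elements of E there is one and only one continuous A-algebra homomorphism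
g : B → E with g(T_i) = z_i for all i. -/
theorem result (A : Type u) [CommRing A] (𝔞 : Ideal A) (n : ℕ) (E : Type u) [CommRing E]
    [Algebra A E] (hE : ∃ k : ℕ, (𝔞 ^ k).map (algebraMap A E) = ⊥) :
    (∀ f : MvPowerSeries (Fin n) A →ₐ[A] E,
      (∃ m : ℕ, ∀ x ∈ (𝔞.map (MvPowerSeries.C : A →+* MvPowerSeries (Fin n) A) ⊔
        RingHom.ker (MvPowerSeries.constantCoeff : MvPowerSeries (Fin n) A →+* A)) ^ m, f x = 0) →
      ∀ i, IsNilpotent (f (MvPowerSeries.X i))) ∧
    ∀ z : Fin n → E, (∀ i, IsNilpotent (z i)) →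
      ∃! g : MvPowerSeries (Fin n) A →ₐ[A] E,
        (∃ m : ℕ, ∀ x ∈ (𝔞.map (MvPowerSeries.C : A →+* MvPowerSeries (Fin n) A) ⊔
          RingHom.ker (MvPowerSeries.constantCoeff : MvPowerSeries (Fin n) A →+* A)) ^ m, g x = 0) ∧
        ∀ i, g (MvPowerSeries.X i) = z i := by
  classical
  obtain ⟨k, hk⟩ := hE
  refine ⟨fun f ⟨m, hm⟩ i => ⟨m, ?_⟩, fun z hz => ?_⟩
  · rw [← map_pow]
    exact hm _ (Ideal.pow_mem_pow (Ideal.mem_sup_right (RingHom.mem_ker.2 (by simp))) m)
  choose Nf hNf using hz
  let N := Finset.univ.sup Nf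
  have hN : ∀ i, z i ^ (N + 1) = 0 := fun i =>
    pow_eq_zero_of_le (Nat.le_succ_of_le (Finset.le_sup (f := Nf) (Finset.mem_univ i))) (hNf i)
  let nN : Fin n →₀ ℕ := Finsupp.equivFunOnFinite.symm fun _ => N
  let T : MvPowerSeries (Fin n) A → MvPolynomial (Fin n) A := fun p => MvPowerSeries.trunc' A nN p
  let ev : MvPolynomial (Fin n) A →ₐ[A] E := MvPolynomial.aeval z
  have hev : ∀ P Q : MvPolynomial (Fin n) A, (∀ d, d ≤ nN → P.coeff d = Q.coeff d) → ev P = ev Q := by
    intro P Q hPQ
    rw [← sub_eq_zero, ← map_sub, (P - Q).as_sum, map_sum]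
    refine Finset.sum_eq_zero fun d hd => ?_
    by_cases hle : d ≤ nN
    · exact absurd (by rw [MvPolynomial.coeff_sub, hPQ d hle, sub_self]) (MvPolynomial.mem_support_iff.1 hd)
    · simp only [Finsupp.le_def, not_forall, not_le] at hle
      obtain ⟨i, hi⟩ := hle
      have hz0 : z i ^ d i = 0 := pow_eq_zero_of_le hi (hN i)
      simp only [ev, MvPolynomial.aeval_monomial]
      rw [Finsupp.prod_fintype _ _ (fun _ => pow_zero _), Finset.prod_eq_zero (Finset.mem_univ i) hz0, mul_zero]
  let g : MvPowerSeries (Fin n) A →ₐ[A] E :=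
    { toFun := fun p => ev (T p)
      map_one' := by simp [T, MvPowerSeries.trunc'_one]
      map_mul' := fun p q => by
        rw [← map_mul]
        refine hev _ _ fun d hd => ?_
        simp only [T, MvPowerSeries.coeff_trunc', if_pos hd]
        exact MvPowerSeries.coeff_mul_eq_coeff_trunc'_mul_trunc' nN p q hd
      map_zero' := by simp [T]
      map_add' := fun p q => by simp [T]
      commutes' := fun a => by
        show ev (T (MvPowerSeries.C a)) = _
        simp [T, MvPowerSeries.trunc'_C, ev] }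
  have hgX : ∀ i, g (MvPowerSeries.X i) = z i := by
    intro i
    refine (hev (T (MvPowerSeries.X i)) (MvPolynomial.X i) fun d hd => ?_).trans (by simp [ev])
    simp [T, MvPowerSeries.coeff_trunc', if_pos hd, MvPowerSeries.coeff_X, MvPolynomial.coeff_X', eq_comm]
  let I := 𝔞.map (MvPowerSeries.C : A →+* MvPowerSeries (Fin n) A) ⊔
      RingHom.ker (MvPowerSeries.constantCoeff : MvPowerSeries (Fin n) A →+* A)
  let Q : Ideal E := Ideal.span (Set.range z)
  obtain ⟨l, hl⟩ : IsNilpotent Q := by
    rw [(Ideal.FG.isNilpotent_iff_le_nilradical ⟨Finset.univ.image z, by simp [Q]⟩)]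
    exact Ideal.span_le.2 (by rintro _ ⟨i, rfl⟩; exact ⟨Nf i, hNf i⟩)
  have hIg : I.map g.toRingHom ≤ 𝔞.map (algebraMap A E) ⊔ Q := by
    rw [Ideal.map_le_iff_le_comap]
    refine sup_le ?_ fun p hp => ?_
    · rw [Ideal.map_le_iff_le_comap]
      intro a ha
      simp only [Ideal.mem_comap]
      show g (MvPowerSeries.C a) ∈ _
      rw [show g (MvPowerSeries.C a) = algebraMap A E a from g.commutes a]
      exact Ideal.mem_sup_left (Ideal.mem_map_of_mem _ ha)
    · rw [Ideal.mem_comap]
      show ev (T p) ∈ _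
      refine Ideal.mem_sup_right ?_
      rw [(T p).as_sum, map_sum]
      refine sum_mem fun d hd => ?_
      rcases eq_or_ne d 0 with rfl | hd0
      · have h0 : (T p).coeff 0 = 0 := by
          simp only [T, MvPowerSeries.coeff_trunc', zero_le, if_true]
          simpa using RingHom.mem_ker.1 hp
        exact absurd h0 (MvPolynomial.mem_support_iff.1 hd)
      · obtain ⟨i, hi⟩ : ∃ i, d i ≠ 0 := by
          by_contra hh
          exact hd0 (Finsupp.ext fun i => by simpa using not_exists.1 hh i)
        simp only [ev, MvPolynomial.aeval_monomial]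
        rw [Finsupp.prod_fintype _ _ (fun _ => pow_zero _), ← Finset.mul_prod_erase _ _ (Finset.mem_univ i),
          ← Nat.succ_pred_eq_of_ne_zero hi, pow_succ']
        exact Ideal.mul_mem_left _ _ (Ideal.mul_mem_right _ _ (Ideal.mul_mem_right _ _
          (Ideal.subset_span ⟨i, rfl⟩)))
  refine ⟨g, ⟨⟨k + l, fun x hx => ?_⟩, hgX⟩, fun f ⟨⟨m, hm⟩, hfX⟩ => ?_⟩
  · have h1 : g x ∈ (𝔞.map (algebraMap A E) ⊔ Q) ^ (k + l) :=
      Ideal.pow_right_mono hIg (k + l) (Ideal.map_pow g.toRingHom I (k + l) ▸ Ideal.mem_map_of_mem g.toRingHom hx)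
    have h2 := (Ideal.sup_pow_add_le_pow_sup_pow) h1
    rw [← Ideal.map_pow, hk, hl] at h2
    simpa using h2
  · refine AlgHom.ext fun p => ?_
    let M := max m N
    let nM : Fin n →₀ ℕ := Finsupp.equivFunOnFinite.symm fun _ => M
    set r := p - (MvPowerSeries.trunc' A nM p : MvPowerSeries (Fin n) A) with hr
    have hrem : r ∈ Ideal.span (Set.range fun i : Fin n => (MvPowerSeries.X i : MvPowerSeries (Fin n) A) ^ (M + 1)) := by
      refine mem_span_of_coeff_box M _ fun d hd => ?_
      rw [hr, map_sub, MvPolynomial.coeff_coe, MvPowerSeries.coeff_trunc',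
        if_pos (show d ≤ nM from fun i => hd i), sub_self]
    have hkill : ∀ (f' : MvPowerSeries (Fin n) A →ₐ[A] E), (∀ i, f' (MvPowerSeries.X i) = z i) → f' r = 0 := by
      intro f' hf'
      refine RingHom.mem_ker.1 ((Ideal.span_le (I := RingHom.ker f')).2 ?_ hrem)
      rintro _ ⟨i, rfl⟩
      show f' (MvPowerSeries.X i ^ (M + 1)) = 0
      rw [map_pow, hf', pow_eq_zero_of_le (Nat.succ_le_succ (le_max_right m N)) (hN i)]
    have hpoly : ∀ (f' : MvPowerSeries (Fin n) A →ₐ[A] E), (∀ i, f' (MvPowerSeries.X i) = z i) →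
        ∀ P : MvPolynomial (Fin n) A, f' (P : MvPowerSeries (Fin n) A) = ev P := by
      intro f' hf' P
      induction P using MvPolynomial.induction_on with
      | C a => rw [MvPolynomial.coe_C]; exact (f'.commutes a).trans (by simp [ev])
      | add p q hp hq => rw [MvPolynomial.coe_add, map_add, map_add, hp, hq]
      | mul_X p i hp => rw [MvPolynomial.coe_mul, map_mul, map_mul, hp, MvPolynomial.coe_X, hf']; simp [ev]
    have hp : p = r + (MvPowerSeries.trunc' A nM p : MvPowerSeries (Fin n) A) := by rw [hr, sub_add_cancel]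
    rw [hp, map_add, map_add, hkill f hfX, hkill g hgX, hpoly f hfX, hpoly g hgX]

end Groth.Agent.S4555
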