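import Groth.Statements.S4556


set_option autoImplicit false
set_option linter.style.haveILetI false
universe u
open EGA41

namespace Groth.Agent.S4556

/-- Let B be a formally smooth A-algebra, E and E' two A-algebras, R (resp. R') a nilpotent ideal of E
(resp. E'), f : E → E' a surjective A-algebra homomorphism with f(R) = R', and f' : E/R → E'/R' the
induced homomorphism. Let u : B → E/R be an A-algebra homomorphism and v' : B → E' an A-algebra
homomorphism through which f' ∘ u factors (v' followed by E' → E'/R' equals f' ∘ u). Then there is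
an A-algebra homomorphism v : B → E with f ∘ v = v'. (The published statement assumes only f(R) ⊆
R'; in that form it fails for B = ℚ[x, x⁻¹], E = ℚ[t], E' = ℚ[t]/(t²), R = 0, R' = (t), u : x ↦ 1
and v' : x ↦ 1 + t, since any v sends x to a unit of ℚ[t], a constant; the argument identifies R'
with the image of R, and that equality is assumed here.) -/
theorem result {A B E E' : Type u} [CommRing A] [CommRing B] [Algebra A B]
    [Algebra.FormallySmooth A B] [CommRing E] [CommRing E'] [Algebra A E] [Algebra A E']
    (R : Ideal E) (R' : Ideal E') (hR : IsNilpotent R) (hR' : IsNilpotent R')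
    (f : E →ₐ[A] E') (hf : Function.Surjective f) (hfR : R.map f.toRingHom = R')
    (u : B →ₐ[A] E ⧸ R) (v' : B →ₐ[A] E')
    (huv : (Ideal.Quotient.mkₐ A R').comp v' =
      (Ideal.quotientMapₐ R' f (fun x hx => hfR.le (Ideal.mem_map_of_mem f.toRingHom hx))).comp u) :
    ∃ v : B →ₐ[A] E, f.comp v = v' := by
  let q := (Ideal.Quotient.mkₐ A R').comp (AlgHom.fst A E' (E ⧸ R))
  let q' := (Ideal.quotientMapₐ R' f (fun x hx => hfR.le (Ideal.mem_map_of_mem f.toRingHom hx))).comp
    (AlgHom.snd A E' (E ⧸ R))
  let S : Subalgebra A (E' × (E ⧸ R)) := AlgHom.equalizer q q'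
  let g : E →ₐ[A] S := (f.prod (Ideal.Quotient.mkₐ A R)).codRestrict S (fun x => rfl)
  have hg : Function.Surjective g := by
    rintro ⟨⟨e', e⟩, he⟩
    obtain ⟨x, rfl⟩ := Ideal.Quotient.mk_surjective e
    have hd : e' - f x ∈ R' := Ideal.Quotient.eq.mp he
    rw [← hfR] at hd
    obtain ⟨r, hr, hre⟩ := (Ideal.mem_map_iff_of_surjective f.toRingHom hf).mp hd
    refine ⟨x + r, Subtype.ext (Prod.ext ?_ ?_)⟩
    · show f (x + r) = e'
      rw [map_add]; rw [show f r = e' - f x from hre]; abel
    · show Ideal.Quotient.mk R (x + r) = Ideal.Quotient.mk R x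
      rw [map_add, Ideal.Quotient.eq_zero_iff_mem.mpr hr, add_zero]
  have hker : IsNilpotent (RingHom.ker (g : E →+* S)) := by
    obtain ⟨k, hk⟩ := hR
    refine ⟨k, le_bot_iff.mp ((Ideal.pow_right_mono (fun x hx => ?_) k).trans hk.le)⟩
    exact Ideal.Quotient.eq_zero_iff_mem.mp (congrArg (fun z : S => z.1.2) (RingHom.mem_ker.mp hx))
  refine ⟨Algebra.FormallySmooth.liftOfSurjective ((v'.prod u).codRestrict S fun b =>
    AlgHom.congr_fun huv b) g hg hker, AlgHom.ext fun b => ?_⟩
  exact congrArg (fun z : S => z.1.1) (Algebra.FormallySmooth.liftOfSurjective_apply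
    ((v'.prod u).codRestrict S fun b => AlgHom.congr_fun huv b) g hg hker b)

end Groth.Agent.S4556
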