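import Groth.Statements.S4557
import Groth.Agent.L06.CplKaehlerRank

set_option autoImplicit false
set_option maxSynthPendingDepth 3
set_option linter.style.haveILetI false
universe u
open EGA41

namespace Groth.Agent.S4557

open IsLocalRing in
theorem finite_residue (k : Type u) [Field k] (r : ℕ) (A : Type u) [CommRing A] [IsLocalRing A]
    [Algebra (MvPowerSeries (Fin r) k) A] [Algebra k A] [IsScalarTower k (MvPowerSeries (Fin r) k) A]
    [Module.Finite (MvPowerSeries (Fin r) k) A] : Module.Finite k (ResidueField A) := by
  haveI : IsLocalHom (algebraMap (MvPowerSeries (Fin r) k) A) :=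
    ((IsLocalRing.local_hom_TFAE _).out 0 4).mpr (IsLocalRing.eq_maximalIdeal
      (Ideal.isMaximal_comap_of_isIntegral_of_isMaximal (R := MvPowerSeries (Fin r) k) (maximalIdeal A)))
  haveI : Module.Finite (MvPowerSeries (Fin r) k) (ResidueField A) := Module.Finite.trans A _
  obtain ⟨s, e, he⟩ := Module.Finite.exists_fin (R := MvPowerSeries (Fin r) k) (M := ResidueField A)
  classical
  refine Module.Finite.of_fg_top ⟨Finset.univ.image e, top_le_iff.mp fun z _ => ?_⟩
  obtain ⟨c, rfl⟩ := (Submodule.mem_span_range_iff_exists_fun _).mp (show z ∈ Submodule.span (MvPowerSeries (Fin r) k) (Set.range e) by rw [he]; trivial)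
  refine Submodule.sum_mem _ fun i _ => ?_
  have h1 : c i • e i = MvPowerSeries.constantCoeff (c i) • e i := by
    rw [← sub_eq_zero, ← algebraMap_smul (MvPowerSeries (Fin r) k) (MvPowerSeries.constantCoeff (c i)), ← sub_smul]
    have h2 : c i - algebraMap k (MvPowerSeries (Fin r) k) (MvPowerSeries.constantCoeff (c i)) ∈ maximalIdeal (MvPowerSeries (Fin r) k) := by
      rw [mem_maximalIdeal, mem_nonunits_iff, MvPowerSeries.isUnit_iff_constantCoeff, map_sub,
        show algebraMap k (MvPowerSeries (Fin r) k) (MvPowerSeries.constantCoeff (c i)) = MvPowerSeries.C (MvPowerSeries.constantCoeff (c i)) from rfl,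
        MvPowerSeries.constantCoeff_C, sub_self]
      exact not_isUnit_zero
    rw [Algebra.smul_def, IsScalarTower.algebraMap_apply (MvPowerSeries (Fin r) k) A (ResidueField A),
      show algebraMap A (ResidueField A) (algebraMap _ A _) = 0 from (residue_eq_zero_iff _).mpr (map_nonunit (algebraMap (MvPowerSeries (Fin r) k) A) _ h2),
      zero_mul]
  rw [h1, Finset.coe_image, Finset.coe_univ, Set.image_univ]
  exact Submodule.smul_mem _ _ (Submodule.subset_span ⟨i, rfl⟩)

open IsLocalRing TensorProduct in
/-- Let A be a complete Noetherian local integral domain, A₀ a subring of A isomorphic to a power series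
ring k[[T_1, …, T_r]] over a field k such that A is a finite A₀-algebra and the field of fractions E
of A is a separable extension of the field of fractions L₀ of A₀ (here: A₀ = k[[T]] → A injective
and finite, A a k-algebra through A₀, and every element of A is a root of a polynomial over A₀ which
is separable over L₀). Then rk_A Ω̂_{A/k} = rk_E (Ω̂_{A/k} ⊗_A E) = dim A = r, where Ω̂_{A/k} is the
𝔪-adic completion of Ω_{A/k}; stated as dim_E (E ⊗_A Ω̂_{A/k}) = r. -/
theorem result (k : Type u) [Field k] (r : ℕ) (A : Type u) [CommRing A]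
    [IsDomain A] [IsLocalRing A] [IsNoetherianRing A] [IsAdicComplete (maximalIdeal A) A]
    [Algebra (MvPowerSeries (Fin r) k) A] [Algebra k A] [IsScalarTower k (MvPowerSeries (Fin r) k) A]
    (hinj : Function.Injective (algebraMap (MvPowerSeries (Fin r) k) A)) [Module.Finite (MvPowerSeries (Fin r) k) A]
    (hsep : ∀ a : A, ∃ P : Polynomial (MvPowerSeries (Fin r) k), Polynomial.aeval a P = 0 ∧
      (P.map (algebraMap (MvPowerSeries (Fin r) k) (FractionRing (MvPowerSeries (Fin r) k)))).Separable) :
    Module.finrank (FractionRing A) (FractionRing A ⊗[A] AdicCompletion (maximalIdeal A) (Ω[A⁄k])) = r := by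
  haveI hfr : Module.Finite k (IsLocalRing.ResidueField A) := Groth.Agent.S4557.finite_residue k r A
  haveI : FaithfulSMul (MvPowerSeries (Fin r) k) (FractionRing A) :=
    (faithfulSMul_iff_algebraMap_injective _ _).mpr (by rw [IsScalarTower.algebraMap_eq (MvPowerSeries (Fin r) k) A (FractionRing A)]; exact (IsFractionRing.injective A (FractionRing A)).comp hinj)
  letI : Algebra (FractionRing (MvPowerSeries (Fin r) k)) (FractionRing A) := FractionRing.liftAlgebra _ _
  haveI : IsScalarTower k (FractionRing (MvPowerSeries (Fin r) k)) (FractionRing A) := IsScalarTower.of_algebraMap_eq fun c => by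
    rw [IsScalarTower.algebraMap_apply k (MvPowerSeries (Fin r) k) (FractionRing (MvPowerSeries (Fin r) k)),
      ← IsScalarTower.algebraMap_apply (MvPowerSeries (Fin r) k) (FractionRing (MvPowerSeries (Fin r) k)) (FractionRing A),
      ← IsScalarTower.algebraMap_apply]
  exact le_antisymm (Groth.L06.CplKaehlerRank.finrank_le (k := k) (FractionRing A) A (FractionRing (MvPowerSeries (Fin r) k)) hsep)
    (Groth.L06.CplKaehlerRank.le_finrank (k := k) (FractionRing A) A (FractionRing (MvPowerSeries (Fin r) k))).2

end Groth.Agent.S4557
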