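import Groth.Statements.S4561
import Mathlib.RingTheory.MvPowerSeries.Basic
import Mathlib.RingTheory.Finiteness.Basic
import Mathlib.Algebra.CharP.Algebra
import Mathlib.LinearAlgebra.Finsupp.LinearCombination
import Mathlib.Tactic.FieldSimp

set_option autoImplicit false
universe u
open EGA41

namespace Groth.Agent.S4561

variable {_unused : Unit}

theorem exists_decomp (p : ℕ) [Fact p.Prime] {k₀ K₀ : Type u} [Field k₀] [Field K₀] [Algebra k₀ K₀] [CharP k₀ p]
    (hfin : Module.Finite (Subfield.closure (Set.range fun x : k₀ => x ^ p)) k₀) {r : ℕ}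
    (f : MvPowerSeries (Fin r) K₀)
    (hf : ∀ n, MvPowerSeries.coeff n f ∈ Subfield.closure (Set.range (algebraMap k₀ K₀) ∪ Set.range fun y : K₀ => y ^ p)) :
    ∃ (m : ℕ) (b : Fin m → k₀) (g : Fin m → MvPowerSeries (Fin r) K₀),
      (∀ i n, MvPowerSeries.coeff n (g i) ∈ Subfield.closure (Set.range fun y : K₀ => y ^ p)) ∧
      ∑ i, MvPowerSeries.C (algebraMap k₀ K₀ (b i)) * g i = f := by
  classical
  have : CharP K₀ p := charP_of_injective_algebraMap (algebraMap k₀ K₀).injective p
  obtain ⟨m, b, hb⟩ := hfin.exists_fin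
  set F := Subfield.closure (Set.range fun y : K₀ => y ^ p) with hF
  have hpF : ∀ y : K₀, y ^ p ∈ F := fun y => Subfield.subset_closure ⟨y, rfl⟩
  let M : Submodule F K₀ := Submodule.span F (Set.range fun i => algebraMap k₀ K₀ (b i))
  have hk : ∀ c, algebraMap k₀ K₀ c ∈ M := by
    intro c
    obtain ⟨a, rfl⟩ := (Submodule.mem_span_range_iff_exists_fun _).1 (hb.ge (Submodule.mem_top (x := c)))
    rw [map_sum]
    refine M.sum_mem fun i _ => ?_
    have ha : algebraMap k₀ K₀ (a i : k₀) ∈ F := by
      have : (a i : k₀) ∈ F.comap (algebraMap k₀ K₀) :=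
        Subfield.closure_le.2 (by rintro _ ⟨x, rfl⟩; exact Subfield.subset_closure ⟨algebraMap k₀ K₀ x, by simp⟩) (a i).2
      exact this
    have e : algebraMap k₀ K₀ (a i • b i) = (⟨_, ha⟩ : F) • algebraMap k₀ K₀ (b i) := by
      simp [Subfield.smul_def, map_mul]
    rw [e]
    exact M.smul_mem _ (Submodule.subset_span ⟨i, rfl⟩)
  have hone : (1 : K₀) ∈ M := by rw [← map_one (algebraMap k₀ K₀)]; exact hk 1
  have hmul : ∀ x ∈ M, ∀ y ∈ M, x * y ∈ M := by
    intro x hx y hy
    induction hx using Submodule.span_induction with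
    | mem x hx =>
      obtain ⟨i, rfl⟩ := hx
      induction hy using Submodule.span_induction with
      | mem y hy => obtain ⟨j, rfl⟩ := hy; rw [← map_mul]; exact hk _
      | zero => rw [mul_zero]; exact M.zero_mem
      | add a c _ _ ha hc => rw [mul_add]; exact M.add_mem ha hc
      | smul a c _ hc => rw [mul_smul_comm]; exact M.smul_mem _ hc
    | zero => rw [zero_mul]; exact M.zero_mem
    | add a c _ _ ha hc => rw [add_mul]; exact M.add_mem ha hc
    | smul a c _ hc => rw [smul_mul_assoc]; exact M.smul_mem _ hc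
  have hscal : ∀ (y : K₀), ∀ x ∈ M, y ^ p * x ∈ M := fun y x hx => M.smul_mem ⟨_, hpF y⟩ hx
  have hE : ∀ e ∈ Subfield.closure (Set.range (algebraMap k₀ K₀) ∪ Set.range fun y : K₀ => y ^ p), e ∈ M := by
    intro e he
    induction he using Subfield.closure_induction with
    | mem x hx =>
      rcases hx with ⟨c, rfl⟩ | ⟨y, rfl⟩
      · exact hk c
      · simpa using hscal y 1 hone
    | one => exact hone
    | add x y _ _ hx hy => exact M.add_mem hx hy
    | neg x _ hx => exact M.neg_mem hx
    | inv x _ hx =>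
      have hpow : ∀ j : ℕ, x ^ j ∈ M := fun j => by
        induction j with
        | zero => rw [pow_zero]; exact hone
        | succ j ih => rw [pow_succ]; exact hmul _ ih _ hx
      have e : x⁻¹ = x⁻¹ ^ p * x ^ (p - 1) := by
        rcases eq_or_ne x 0 with rfl | h0
        · simp [(Fact.out : p.Prime).ne_zero]
        · have hp1 : p = p - 1 + 1 := by have := (Fact.out : p.Prime).pos; omega
          conv_rhs => arg 1; rw [hp1, pow_succ]
          rw [inv_pow]; field_simp
      rw [e]; exact hscal _ _ (hpow _)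
    | mul x y _ _ hx hy => exact hmul x hx y hy
  choose c hc using fun n => (Submodule.mem_span_range_iff_exists_fun F).1 (hE _ (hf n))
  refine ⟨m, b, fun i n => (c n i : K₀), fun i n => (c n i).2, ?_⟩
  ext n
  rw [map_sum, ← hc n]
  refine Finset.sum_congr rfl fun i _ => ?_
  rw [MvPowerSeries.coeff_C_mul, Subfield.smul_def, smul_eq_mul, mul_comm]
  rfl

open EGA41 in

/-- Let k₀ be a field of characteristic p > 0 with [k₀ : k₀^p] < ∞ and K₀ an extension of k₀. Inside
K₀((T_1, …, T_r)) one has (k₀(K₀^p))((T_1, …, T_r)) = k₀(K₀^p((T_1, …, T_r))); here, for a subfield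
F of K₀, F((T)) denotes the subfield of the fraction field of K₀[[T]] generated by the power series
with all coefficients in F. -/
theorem result (p : ℕ) [Fact p.Prime] {k₀ K₀ : Type u} [Field k₀] [Field K₀] [Algebra k₀ K₀] [CharP k₀ p]
    (hfin : Module.Finite (Subfield.closure (Set.range fun x : k₀ => x ^ p)) k₀) (r : ℕ) :
    Subfield.closure (algebraMap (MvPowerSeries (Fin r) K₀) (FractionRing (MvPowerSeries (Fin r) K₀)) ''
        {f | ∀ n, MvPowerSeries.coeff n f ∈
          Subfield.closure (Set.range (algebraMap k₀ K₀) ∪ Set.range fun y : K₀ => y ^ p)}) =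
      Subfield.closure
        (Set.range (algebraMap k₀ (FractionRing (MvPowerSeries (Fin r) K₀))) ∪
          (Subfield.closure (algebraMap (MvPowerSeries (Fin r) K₀) (FractionRing (MvPowerSeries (Fin r) K₀)) ''
            {f | ∀ n, MvPowerSeries.coeff n f ∈ Subfield.closure (Set.range fun y : K₀ => y ^ p)}) :
            Set (FractionRing (MvPowerSeries (Fin r) K₀)))) := by
  set ι := algebraMap (MvPowerSeries (Fin r) K₀) (FractionRing (MvPowerSeries (Fin r) K₀))
  have hk : ∀ c : k₀, algebraMap k₀ (FractionRing (MvPowerSeries (Fin r) K₀)) c = ι (MvPowerSeries.C (algebraMap k₀ K₀ c)) := fun c => by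
    rw [IsScalarTower.algebraMap_apply k₀ (MvPowerSeries (Fin r) K₀) (FractionRing (MvPowerSeries (Fin r) K₀)), MvPowerSeries.algebraMap_apply]
  refine le_antisymm (Subfield.closure_le.2 ?_) (Subfield.closure_le.2 ?_)
  · rintro _ ⟨f, hf, rfl⟩
    obtain ⟨m, b, g, hg⟩ := exists_decomp p hfin f hf
    rw [← hg.2, map_sum]
    refine Subfield.sum_mem _ fun i _ => ?_
    rw [map_mul, ← hk]
    exact Subfield.mul_mem _ (Subfield.subset_closure (Or.inl ⟨_, rfl⟩))
      (Subfield.subset_closure (Or.inr (Subfield.subset_closure ⟨g i, hg.1 i, rfl⟩)))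
  · rintro x (⟨c, rfl⟩ | hx)
    · rw [hk]
      refine Subfield.subset_closure ⟨_, fun n => ?_, rfl⟩
      classical
      rw [MvPowerSeries.coeff_C]
      split_ifs
      · exact Subfield.subset_closure (Or.inl ⟨c, rfl⟩)
      · exact Subfield.zero_mem _
    · exact Subfield.closure_mono (by
        rintro _ ⟨f, hf, rfl⟩
        exact ⟨f, fun n => Subfield.closure_mono Set.subset_union_right (hf n), rfl⟩) hx

end Groth.Agent.S4561
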