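import Mathlib.RingTheory.AdicCompletion.Basic
import Mathlib.RingTheory.IntegralClosure.IsIntegralClosure.Basic
import Mathlib.RingTheory.Localization.FractionRing
import Mathlib.RingTheory.LocalRing.MaximalIdeal.Basic
import Mathlib.RingTheory.Noetherian.Defs
import Groth.Agent.S0568
import Groth.Agent.S9405
import Groth.Agent.L05.Hensel.IntegralDomain
import Groth.Agent.L01.NagataComplete

set_option autoImplicit false
namespace CAlg
end CAlg
universe u
open CAlg

namespace Groth.Agent.S4564

/-- Let A be a complete Noetherian local domain with fraction field K and K' a finite extension of K.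
Then the integral closure of A in K' is a local ring, complete for the adic topology of its maximal
ideal. -/
theorem result {A K' : Type u} [CommRing A]
    [IsDomain A] [IsLocalRing A] [IsNoetherianRing A] [IsAdicComplete (IsLocalRing.maximalIdeal A) A]
    [Field K'] [Algebra A K'] [Algebra (FractionRing A) K'] [IsScalarTower A (FractionRing A) K']
    [FiniteDimensional (FractionRing A) K'] :
    ∃ _ : IsLocalRing (integralClosure A K'),
      IsAdicComplete (IsLocalRing.maximalIdeal (integralClosure A K')) (integralClosure A K') := by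
  haveI : (⊥ : Ideal A).IsPrime := Ideal.isPrime_bot
  have hN2 : CAlg.IsN2 A := Groth.L01.NagataComplete.isN2_of_ringEquiv (RingEquiv.quotientBot A)
    ((Groth.Agent.S0568.result A).2 ⊥)
  haveI : Module.Finite A (integralClosure A K') := hN2 K' inferInstance
  haveI : HenselianLocalRing A :=
    { is_henselian := fun f hf a₀ h1 h2 =>
        HenselianRing.is_henselian (I := IsLocalRing.maximalIdeal A) f hf a₀ h1
          (h2.map (Ideal.Quotient.mk _)) }
  haveI : IsLocalRing (integralClosure A K') :=
    Groth.L05.isLocalRing_of_integral_domain (A := A) _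
  refine ⟨inferInstance, ?_⟩
  set S := integralClosure A K'
  haveI : IsNoetherianRing S := IsNoetherianRing.of_finite A S
  haveI : IsAdicComplete (IsLocalRing.maximalIdeal A) S :=
    Groth.Agent.S9405.isAdicComplete_of_finite _ _
  haveI : IsAdicComplete ((IsLocalRing.maximalIdeal A).map (algebraMap A S)) S :=
    (IsAdicComplete.map_algebraMap_iff _ _).2 inferInstance
  have hrad : IsLocalRing.maximalIdeal S ≤
      ((IsLocalRing.maximalIdeal A).map (algebraMap A S)).radical := by
    rw [Ideal.radical_eq_sInf, le_sInf_iff]
    rintro P ⟨hP, hPp⟩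
    have hPmax : P.IsMaximal := by
      refine Ideal.isMaximal_of_isIntegral_of_isMaximal_comap (R := A) P ?_
      exact ((IsLocalRing.maximalIdeal.isMaximal A).eq_of_le (Ideal.comap_ne_top _ hPp.ne_top)
        (Ideal.map_le_iff_le_comap.mp hP)) ▸ IsLocalRing.maximalIdeal.isMaximal A
    exact (IsLocalRing.eq_maximalIdeal hPmax).ge
  obtain ⟨N, hN⟩ := Ideal.exists_pow_le_of_le_radical_of_fg hrad (IsNoetherian.noetherian _)
  refine Groth.Agent.S9405.isAdicComplete_of_pow_le
    (J := (IsLocalRing.maximalIdeal A).map (algebraMap A S)) ?_ hN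
  refine IsLocalRing.le_maximalIdeal fun h => ?_
  have hle : (IsLocalRing.maximalIdeal A).map (algebraMap A S) ≤ Ideal.jacobson ⊥ :=
    IsAdicComplete.le_jacobson_bot _
  rw [h, IsLocalRing.jacobson_eq_maximalIdeal _ bot_ne_top, top_le_iff] at hle
  exact (IsLocalRing.maximalIdeal.isMaximal _).ne_top hle

end Groth.Agent.S4564
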