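import Mathlib.RingTheory.AdicCompletion.Algebra
import Mathlib.RingTheory.IntegralClosure.IsIntegralClosure.Basic
import Mathlib.RingTheory.Localization.FractionRing
import Mathlib.RingTheory.Nilpotent.Defs
import Mathlib.RingTheory.TensorProduct.Basic
import Mathlib.RingTheory.Noetherian.Defs
import Mathlib.RingTheory.LocalRing.MaximalIdeal.Basic
import Groth.Agent.L01.NagataN2

set_option autoImplicit false
namespace CAlg
end CAlg
universe u
open TensorProduct
open CAlg

namespace Groth.Agent.S4565

/-- Let A be a Noetherian local domain with fraction field K whose adic completion Â is reduced, R the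
total ring of fractions of Â and K' a finite extension of K. If R ⊗_A K' (equal to R ⊗_K K', since K
is a localization of A and the nonzero elements of A are invertible in R) is reduced, then the
integral closure of A in K' is a finitely generated A-module. -/
theorem result {A K' R : Type u}
    [CommRing A] [IsDomain A] [IsLocalRing A] [IsNoetherianRing A]
    (hred : IsReduced (AdicCompletion (IsLocalRing.maximalIdeal A) A))
    [CommRing R] [Algebra (AdicCompletion (IsLocalRing.maximalIdeal A) A) R]
    [IsFractionRing (AdicCompletion (IsLocalRing.maximalIdeal A) A) R] [Algebra A R]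
    [IsScalarTower A (AdicCompletion (IsLocalRing.maximalIdeal A) A) R]
    [Field K'] [Algebra A K'] [Algebra (FractionRing A) K'] [IsScalarTower A (FractionRing A) K']
    [FiniteDimensional (FractionRing A) K'] (h : IsReduced (R ⊗[A] K')) :
    Module.Finite A (integralClosure A K') := by
  classical
  let Ah := AdicCompletion (IsLocalRing.maximalIdeal A) A
  let K := FractionRing A
  obtain ⟨s, b, hb⟩ := FiniteDimensional.exists_is_basis_integral A K K'
  let B := Algebra.adjoin A (Set.range b)
  haveI : Module.Finite A B := Algebra.finite_adjoin_of_finite_of_isIntegral (Set.finite_range b)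
    (by rintro _ ⟨i, rfl⟩; exact hb i)
  haveI : FaithfulSMul B K' := (faithfulSMul_iff_algebraMap_injective _ _).mpr Subtype.val_injective
  haveI : IsFractionRing B K' := by
    refine IsFractionRing.of_field B K' fun y => ?_
    obtain ⟨⟨d, hd⟩, hdz⟩ := IsLocalization.exist_integer_multiples_of_finite (nonZeroDivisors A) (fun i => b.repr y i)
    choose r hr using hdz
    refine ⟨∑ i, r i • ⟨b i, Algebra.subset_adjoin ⟨i, rfl⟩⟩, algebraMap A B d, ?_⟩
    have hd0 : algebraMap A K' d ≠ 0 := by
      rw [IsScalarTower.algebraMap_apply A K K']
      exact (map_ne_zero_iff _ (RingHom.injective _)).mpr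
        ((map_ne_zero_iff _ (IsFractionRing.injective A _)).mpr (nonZeroDivisors.ne_zero hd))
    rw [← IsScalarTower.algebraMap_apply A B K', eq_div_iff hd0, map_sum]
    conv_lhs => rw [← b.sum_repr y, Finset.sum_mul]
    refine Finset.sum_congr rfl fun i _ => ?_
    rw [Algebra.smul_def, Algebra.smul_def, map_mul, ← IsScalarTower.algebraMap_apply A B K',
      IsScalarTower.algebraMap_apply A K K' (r i), hr i]
    simp only [Algebra.smul_def, map_mul, ← IsScalarTower.algebraMap_apply]
    change _ = _ * b i
    ring
  haveI : Module.Flat A K := IsLocalization.flat K (nonZeroDivisors A)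
  haveI : Module.Flat A K' := Module.Flat.trans A K K'
  have h1 : Function.Injective (Algebra.TensorProduct.map (AlgHom.id A Ah) (IsScalarTower.toAlgHom A B K')) :=
    Module.Flat.lTensor_preserves_injective_linearMap (M := Ah) (IsScalarTower.toAlgHom A B K').toLinearMap
      (IsFractionRing.injective B K')
  have h2 : Function.Injective (Algebra.TensorProduct.map (IsScalarTower.toAlgHom A Ah R) (AlgHom.id A K')) :=
    Module.Flat.rTensor_preserves_injective_linearMap (M := K') (IsScalarTower.toAlgHom A Ah R).toLinearMap
      (IsFractionRing.injective Ah R)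
  haveI := h
  haveI : IsReduced (Ah ⊗[A] B) :=
    isReduced_of_injective ((Algebra.TensorProduct.map (IsScalarTower.toAlgHom A Ah R) (AlgHom.id A K')).comp
      (Algebra.TensorProduct.map (AlgHom.id A Ah) (IsScalarTower.toAlgHom A B K'))) (h2.comp h1)
  haveI : Module.Finite B (integralClosure B K') := (Groth.L03.Japanese.isN1_iff K').mp
    (Groth.L01.NagataCriteria.isN1_of_isReduced_tensor (A := A))
  haveI : Module.Finite A (integralClosure B K') := Module.Finite.trans B _
  let e : integralClosure A K' →ₗ[A] integralClosure B K' :=
    { toFun := fun z => ⟨z, z.2.tower_top⟩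
      map_add' := fun _ _ => rfl
      map_smul' := fun _ _ => rfl }
  exact Module.Finite.of_injective e fun u v huv =>
    Subtype.ext (congrArg (fun z : integralClosure B K' => (z : K')) huv)

end Groth.Agent.S4565
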