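import Groth.Statements.S4567
import Groth.Agent.L22.Norm.Branch
import Groth.Agent.L28.Unibranch.Alg
import Groth.Agent.L19.Tower.Colimit
import Mathlib.RingTheory.Spectrum.Prime.Topology
import Mathlib.RingTheory.Ideal.GoingUp
import Mathlib.Algebra.CharP.Lemmas

set_option autoImplicit false
universe u
open AlgebraicGeometry
open CAlg2

namespace Groth.Agent.S4567

/-- Let A be a domain with integral closure A' (in its fraction field) and f : Spec A' → Spec A the
canonical morphism. Then f is radicial (universally injective) if and only if every local ring A_p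
is geometrically unibranch; when this holds f is a homeomorphism. -/
theorem result {A : Type u} [CommRing A] [IsDomain A] :
    (UniversallyInjective (Spec.map (CommRingCat.ofHom (algebraMap A (integralClosure A (FractionRing A))))) ↔
      ∀ (p : Ideal A) [p.IsPrime], CAlg2.IsGeomUnibranch (Localization.AtPrime p)) ∧
    ((∀ (p : Ideal A) [p.IsPrime], CAlg2.IsGeomUnibranch (Localization.AtPrime p)) →
      IsHomeomorph (PrimeSpectrum.comap (algebraMap A (integralClosure A (FractionRing A))))) := by
  classical
  let K := FractionRing A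
  let B := integralClosure A K
  have hinjA : Function.Injective (algebraMap A B) := FaithfulSMul.algebraMap_injective A B
  have hBK : IsIntegralClosure B A K := inferInstance
  have hback : (∀ (p : Ideal A) [p.IsPrime], CAlg2.IsGeomUnibranch (Localization.AtPrime p)) →
      UniversallyInjective (Spec.map (CommRingCat.ofHom (algebraMap A B))) := by
    intro h
    refine ((tfae_universallyInjective _).out 0 1).mpr ?_
    intro Ω _ g₁ g₂ hg
    obtain ⟨φ₁, rfl⟩ := Spec.map_surjective g₁
    obtain ⟨φ₂, rfl⟩ := Spec.map_surjective g₂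
    simp only [← Spec.map_comp] at hg
    have h' := congrArg CommRingCat.Hom.hom (Spec.map_injective hg)
    have := Groth.L28.Unibranch.hom_ext_global (R := A) (L := K) (IsFractionRing.injective A K)
      (fun x => by
        obtain ⟨a, d, hd, rfl⟩ := IsFractionRing.div_surjective (A := A) x
        refine ⟨0, a, d, nonZeroDivisors.ne_zero hd, ?_⟩
        rw [pow_zero, pow_one, div_mul_cancel₀ _ (IsFractionRing.to_map_ne_zero_of_mem_nonZeroDivisors hd)])
      (fun p _ => ⟨Localization.AtPrime p, _, inferInstance, _, inferInstance, h p⟩) φ₁.hom φ₂.hom h'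
    exact congrArg Spec.map (CommRingCat.hom_ext this)
  refine ⟨⟨fun hUI p _ => ?_, hback⟩, fun h => ?_⟩
  · have hsi : Groth.L19.Tower.SpecInj A B := Groth.L19.Tower.specInj_of_universallyInjective hUI
    have hrc : Groth.L19.Tower.ResCond A B (fun _ => True) := Groth.L19.Tower.resCond_of_universallyInjective hUI
    let O := Localization.AtPrime p
    obtain ⟨j, hj, hloc⟩ := Groth.L22.Norm.exists_isLocalization_normRed (A := A) (B := B) (K := K) (O := O) p
    letI := j.toAlgebra
    haveI := hloc
    have hint : (Groth.L28.Unibranch.toNorm O).IsIntegral := Groth.L28.Unibranch.toNorm_isIntegral O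
    have hover : ∀ (m' : Ideal (CAlg2.normRed O)) [m'.IsMaximal], (m'.comap j).comap (algebraMap A B) = p := by
      intro m' _
      have hm : (m'.comap (Groth.L28.Unibranch.toNorm O)).IsMaximal := by
        letI := (Groth.L28.Unibranch.toNorm O).toAlgebra
        haveI : Algebra.IsIntegral O (CAlg2.normRed O) := ⟨hint⟩
        exact Ideal.isMaximal_comap_of_isIntegral_of_isMaximal m'
      rw [Ideal.comap_comap, hj, ← Ideal.comap_comap,
        show m'.comap (Groth.L22.Norm.toNormRed O) = IsLocalRing.maximalIdeal O from IsLocalRing.eq_maximalIdeal hm]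
      exact IsLocalization.AtPrime.under_maximalIdeal O p
    have huniq : ∀ (m₁ m₂ : Ideal (CAlg2.normRed O)) [m₁.IsMaximal] [m₂.IsMaximal], m₁ = m₂ := by
      intro m₁ m₂ _ _
      have := hsi (m₁.comap j) (m₂.comap j) inferInstance inferInstance (by rw [hover m₁, hover m₂])
      rw [← IsLocalization.map_comap (Algebra.algebraMapSubmonoid B p.primeCompl) (CAlg2.normRed O) m₁,
        ← IsLocalization.map_comap (Algebra.algebraMapSubmonoid B p.primeCompl) (CAlg2.normRed O) m₂]
      exact congrArg (Ideal.map _) this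
    haveI : IsDomain (CAlg2.red O) := by
      haveI : (nilradical O).IsPrime := by rw [nilradical_eq_zero O]; exact Ideal.isPrime_bot
      exact Ideal.Quotient.isDomain _
    obtain ⟨m₀, hm₀⟩ := Ideal.exists_maximal (CAlg2.normRed O)
    refine ⟨⟨inferInstance, IsLocalRing.of_unique_max_ideal ⟨m₀, hm₀, fun m hm => @huniq m m₀ hm hm₀⟩⟩, ?_⟩
    intro m' hm' x
    obtain ⟨z, rfl⟩ := Ideal.Quotient.mk_surjective x
    obtain ⟨⟨b, ⟨_, s₀, hs₀, rfl⟩⟩, hz⟩ := IsLocalization.surj (Algebra.algebraMapSubmonoid B p.primeCompl) z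
    obtain ⟨e, -, he, hb⟩ := hrc (m'.comap j) inferInstance
    let π := Ideal.Quotient.mk m'
    let τ := π.comp (Groth.L22.Norm.toNormRed O)
    have hτ : ∀ a : A, π (j (algebraMap A B a)) = τ (algebraMap A O a) := fun a =>
      congrArg π (RingHom.congr_fun hj a)
    have hgen : ∀ (n : ℕ) (E : ℕ), E = e ^ n → (∃ a s : A, algebraMap A B s ∉ m'.comap j ∧
        algebraMap A B s * b ^ E - algebraMap A B a ∈ m'.comap j) → π z ^ E ∈ τ.range := by
      rintro n E - ⟨a, s, hs, hmem⟩
      have hs' : s * s₀ ^ E ∈ p.primeCompl := by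
        refine mul_mem (fun hsp => hs ?_) (pow_mem hs₀ E)
        have h1 : s ∈ (m'.comap j).comap (algebraMap A B) := (hover m').symm ▸ hsp
        exact h1
      refine ⟨IsLocalization.mk' O a ⟨s * s₀ ^ E, hs'⟩, ?_⟩
      have hu : IsUnit (τ (algebraMap A O (s * s₀ ^ E))) :=
        (IsLocalization.map_units O (⟨s * s₀ ^ E, hs'⟩ : p.primeCompl)).map τ
      refine hu.mul_left_inj.1 ?_
      rw [← map_mul τ, IsLocalization.mk'_spec, ← hτ, ← hτ, map_mul (algebraMap A B), map_pow (algebraMap A B),
        map_mul j, map_pow j, map_mul π, map_pow π]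
      have h0 : π (j (algebraMap A B s)) * π (j b) ^ E = π (j (algebraMap A B a)) := by
        rw [← map_pow, ← map_mul, ← map_pow, ← map_mul, ← sub_eq_zero, ← map_sub, ← map_sub]
        exact Ideal.Quotient.eq_zero_iff_mem.2 hmem
      rw [← h0, show j b = z * j (algebraMap A B s₀) from hz.symm, map_mul π]
      ring
    rcases he with rfl | ⟨hpr, hemem⟩
    · obtain ⟨n, hn⟩ := hb b
      rw [one_pow] at hn
      refine ⟨0, ?_⟩
      rw [pow_zero]
      exact hgen 0 1 rfl hn
    · have hec : ringExpChar (CAlg2.normRed O ⧸ m') = e := by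
        have h0 : (e : CAlg2.normRed O ⧸ m') = 0 := by
          rw [← map_natCast π, Ideal.Quotient.eq_zero_iff_mem, ← map_natCast j]
          exact hemem
        haveI : IsDomain (CAlg2.normRed O ⧸ m') := Ideal.Quotient.isDomain m'
        haveI : Nontrivial (CAlg2.normRed O ⧸ m') := Ideal.Quotient.nontrivial_iff.2 hm'.ne_top
        haveI : CharP (CAlg2.normRed O ⧸ m') e := (CharP.charP_iff_prime_eq_zero hpr).2 h0
        haveI : ExpChar (CAlg2.normRed O ⧸ m') e := ExpChar.prime hpr
        exact ringExpChar.eq _ e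
      obtain ⟨n, hn⟩ := hb b
      refine ⟨n, ?_⟩
      rw [hec]
      exact hgen n _ rfl hn
  · haveI := hback h
    have hint : (algebraMap A B).IsIntegral := algebraMap_isIntegral_iff.2 inferInstance
    refine isHomeomorph_iff_continuous_isClosedMap_bijective.2 ⟨PrimeSpectrum.continuous_comap _,
      PrimeSpectrum.isClosedMap_comap_of_isIntegral _ hint, ?_, ?_⟩
    · exact (Spec.map (CommRingCat.ofHom (algebraMap A B))).injective
    · intro q
      obtain ⟨Q, -, hQ, hQq⟩ := Ideal.exists_ideal_over_prime_of_isIntegral q.asIdeal (⊥ : Ideal B)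
        (by rw [← RingHom.ker_eq_comap_bot, (RingHom.injective_iff_ker_eq_bot _).1 hinjA]; exact bot_le)
      exact ⟨⟨Q, hQ⟩, PrimeSpectrum.ext hQq⟩

end Groth.Agent.S4567
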