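import Groth.Statements.S4568
import Groth.Agent.L01.MoriNagata
import Mathlib.Tactic.FieldSimp

set_option autoImplicit false
universe u
open CAlg

namespace Groth.Agent.S4568

/-- Let A be a Noetherian domain with fraction field K and A' its integral closure in K. Assume that for
every sub-A-algebra C of A' which is finite over A, every height-one prime of C lies over a
height-one prime of A. Then A' is the intersection in K of the localizations A'_p over the
height-one primes p of A. -/
theorem result {A : Type u} [CommRing A] [IsDomain A] [IsNoetherianRing A]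
    (h : ∀ C : Subalgebra A (FractionRing A), C ≤ integralClosure A (FractionRing A) → Module.Finite A C →
      ∀ (q : Ideal C) [q.IsPrime], q.height = 1 → (q.comap (algebraMap A C)).height = 1) :
    (integralClosure A (FractionRing A) : Set (FractionRing A)) =
      ⋂ (p : PrimeSpectrum A) (_ : p.asIdeal.height = 1),
        {x : FractionRing A | ∃ s : A, s ∉ p.asIdeal ∧
          algebraMap A (FractionRing A) s * x ∈ integralClosure A (FractionRing A)} := by
  classical
  let K := FractionRing A
  ext x
  simp only [SetLike.mem_coe, Set.mem_iInter, Set.mem_setOf_eq]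
  constructor
  · intro hx p hp
    exact ⟨1, fun h1 => p.asIdeal.ne_top_iff_one.mp p.isPrime.ne_top h1, by rwa [map_one, one_mul]⟩
  intro hx
  -- the conductor in `A`
  let D : Ideal A :=
    { carrier := {c | IsIntegral A (algebraMap A K c * x)}
      add_mem' := fun {a b} ha hb => by
        show IsIntegral A (algebraMap A K (a + b) * x)
        rw [map_add, add_mul]; exact ha.add hb
      zero_mem' := by
        show IsIntegral A (algebraMap A K 0 * x)
        rw [map_zero, zero_mul]; exact isIntegral_zero
      smul_mem' := fun c a ha => by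
        show IsIntegral A (algebraMap A K (c * a) * x)
        rw [map_mul, mul_assoc]; exact isIntegral_algebraMap.mul ha }
  by_contra hxA
  obtain ⟨m, hm, hDm⟩ := Ideal.exists_le_maximal D (fun hD => hxA (by
    have h1 : (1 : A) ∈ D := hD ▸ Submodule.mem_top
    have h2 : IsIntegral A (algebraMap A K 1 * x) := h1
    rwa [map_one, one_mul] at h2))
  let Am := Localization.AtPrime m
  haveI : IsDomain Am := IsLocalization.isDomain_localization m.primeCompl_le_nonZeroDivisors
  haveI : IsNoetherianRing Am := IsLocalization.isNoetherianRing m.primeCompl Am inferInstance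
  let K1 := FractionRing Am
  have hAK : Function.Injective (algebraMap A K1) := by
    rw [IsScalarTower.algebraMap_eq A Am K1]
    exact (IsFractionRing.injective Am K1).comp
      (IsLocalization.injective Am m.primeCompl_le_nonZeroDivisors)
  haveI : FaithfulSMul A K1 := (faithfulSMul_iff_algebraMap_injective _ _).mpr hAK
  haveI : IsFractionRing A K1 := IsFractionRing.of_field A K1 fun z => by
    obtain ⟨a, b, hb, rfl⟩ := IsFractionRing.div_surjective (A := Am) z
    obtain ⟨a, s, rfl⟩ := IsLocalization.exists_mk'_eq m.primeCompl a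
    obtain ⟨b, t, rfl⟩ := IsLocalization.exists_mk'_eq m.primeCompl b
    refine ⟨a * t, b * s, ?_⟩
    have hu : ∀ u : m.primeCompl, algebraMap A K1 (u : A) ≠ 0 := fun u h => u.2 (by
      rw [(map_eq_zero_iff _ hAK).mp h]; exact zero_mem _)
    have hb0 : algebraMap Am K1 (IsLocalization.mk' Am b t) ≠ 0 :=
      (map_ne_zero_iff _ (IsFractionRing.injective Am K1)).mpr (nonZeroDivisors.ne_zero hb)
    have hk : ∀ (c : A) (u : m.primeCompl),
        algebraMap Am K1 (IsLocalization.mk' Am c u) * algebraMap A K1 u = algebraMap A K1 c := fun c u => by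
      rw [IsScalarTower.algebraMap_apply A Am K1 u, ← map_mul, IsLocalization.mk'_spec,
        ← IsScalarTower.algebraMap_apply]
    rw [map_mul, map_mul, ← hk a s, ← hk b t]
    rw [mul_assoc, mul_assoc, mul_comm (algebraMap A K1 (t : A)) (algebraMap A K1 (s : A))]
    exact (mul_div_mul_right _ _ (mul_ne_zero (hu s) (hu t))).symm
  let e : K ≃ₐ[A] K1 := IsLocalization.algEquiv (nonZeroDivisors A) _ _
  -- an element of `A` outside `m` clears the denominators of an integral element
  have hclear : ∀ z : K1, IsIntegral Am z → ∃ s : A, s ∉ m ∧ IsIntegral A (s • z) := fun z hz => by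
    obtain ⟨⟨s, hs⟩, h1⟩ := IsIntegral.exists_multiple_integral_of_isLocalization m.primeCompl z hz
    exact ⟨s, hs, h1⟩
  suffices hint : IsIntegral Am (e x) by
    obtain ⟨s, hs, h1⟩ := hclear _ hint
    apply hs
    apply hDm
    show IsIntegral A (algebraMap A K s * x)
    have h2 := h1.map e.symm.toAlgHom
    rw [AlgEquiv.toAlgHom_apply, map_smul, AlgEquiv.symm_apply_apply, Algebra.smul_def] at h2
    exact h2
  obtain ⟨C1, hfin, hC1, hgen⟩ := Groth.L01.MoriCompletion.exists_finite_subalgebra Am
  haveI := hfin
  obtain ⟨t, ht⟩ := hfin.fg_top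
  choose σ hσ hσint using fun g : {g // g ∈ t} => hclear (g.1 : K1) (hC1 _ g.1.2)
  let gens : {g // g ∈ t} → K := fun g => e.symm (σ g • (g.1 : K1))
  have hgens : ∀ g, IsIntegral A (gens g) := fun g => (hσint g).map e.symm.toAlgHom
  let C : Subalgebra A K := Algebra.adjoin A (Set.range gens)
  haveI : Module.Finite A C :=
    Algebra.finite_adjoin_of_finite_of_isIntegral (Set.finite_range _) (by rintro _ ⟨g, rfl⟩; exact hgens g)
  have hCA : C ≤ integralClosure A K := fun c hc =>
    (IsIntegral.of_finite A (⟨c, hc⟩ : C)).map C.val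
  have hmap : ∀ c : C, e (c : K) ∈ C1 := by
    rintro ⟨c, hc⟩
    induction hc using Algebra.adjoin_induction with
    | mem z hz =>
      obtain ⟨g, rfl⟩ := hz
      show e (e.symm (σ g • (g.1 : K1))) ∈ C1
      rw [AlgEquiv.apply_symm_apply, Algebra.smul_def, IsScalarTower.algebraMap_apply A Am K1]
      exact C1.mul_mem (C1.algebraMap_mem _) g.1.2
    | algebraMap r =>
      show e (algebraMap A K r) ∈ C1
      rw [e.commutes, IsScalarTower.algebraMap_apply A Am K1]
      exact C1.algebraMap_mem _
    | add y z _ _ hy hz => show e (y + z) ∈ C1; rw [map_add]; exact C1.add_mem hy hz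
    | mul y z _ _ hy hz => show e (y * z) ∈ C1; rw [map_mul]; exact C1.mul_mem hy hz
  let φ : C →+* C1 :=
    { toFun := fun c => ⟨e (c : K), hmap c⟩
      map_one' := Subtype.ext (by simp)
      map_zero' := Subtype.ext (by simp)
      map_mul' := fun a b => Subtype.ext (by simp)
      map_add' := fun a b => Subtype.ext (by simp) }
  letI : Algebra C C1 := φ.toAlgebra
  let M := Algebra.algebraMapSubmonoid C m.primeCompl
  haveI : IsLocalization M C1 := by
    rw [isLocalization_iff]
    refine ⟨?_, ?_, fun {y z} h => ⟨1, ?_⟩⟩
    · rintro ⟨_, s, hs, rfl⟩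
      have h1 : algebraMap C C1 (algebraMap A C s) = algebraMap Am C1 (algebraMap A Am s) := Subtype.ext (by
        show e (algebraMap A K s) = algebraMap Am K1 (algebraMap A Am s)
        rw [e.commutes, ← IsScalarTower.algebraMap_apply])
      rw [h1]
      exact (IsLocalization.map_units Am (⟨s, hs⟩ : m.primeCompl)).map _
    · intro z
      suffices hz : ∃ (c : C) (s : A), s ∉ m ∧ algebraMap A K1 s * (z : K1) = e (c : K) by
        obtain ⟨c, s, hs, hcs⟩ := hz
        refine ⟨⟨c, ⟨algebraMap A C s, s, hs, rfl⟩⟩, Subtype.ext ?_⟩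
        show (z : K1) * e (algebraMap A K s) = e (c : K)
        rw [e.commutes, mul_comm, hcs]
      have hz : z ∈ Submodule.span Am (t : Set C1) := ht ▸ Submodule.mem_top
      induction hz using Submodule.span_induction with
      | mem g hg =>
        refine ⟨⟨gens ⟨g, hg⟩, Algebra.subset_adjoin ⟨_, rfl⟩⟩, σ ⟨g, hg⟩, hσ _, ?_⟩
        show _ = e (e.symm (σ ⟨g, hg⟩ • (g : K1)))
        rw [AlgEquiv.apply_symm_apply, Algebra.smul_def]
      | zero => exact ⟨0, 1, m.ne_top_iff_one.mp hm.ne_top, by simp⟩
      | add y z _ _ hy hz =>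
        obtain ⟨c, s, hs, hcs⟩ := hy
        obtain ⟨d, u, hu, hdu⟩ := hz
        refine ⟨algebraMap A C u * c + algebraMap A C s * d, s * u, fun hsu =>
          (hm.isPrime.mem_or_mem hsu).elim hs hu, ?_⟩
        show algebraMap A K1 (s * u) * ((y : K1) + (z : K1)) =
          e (algebraMap A K u * (c : K) + algebraMap A K s * (d : K))
        rw [map_add, map_mul, map_mul, map_mul, e.commutes, e.commutes, ← hcs, ← hdu]
        ring
      | smul q y _ hy =>
        obtain ⟨c, s, hs, hcs⟩ := hy
        obtain ⟨r, u, rfl⟩ := IsLocalization.exists_mk'_eq m.primeCompl q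
        refine ⟨algebraMap A C r * c, s * u, fun hsu => (hm.isPrime.mem_or_mem hsu).elim hs u.2, ?_⟩
        show algebraMap A K1 (s * u) * (IsLocalization.mk' Am r u • y : C1) =
          e (algebraMap A K r * (c : K))
        rw [Subalgebra.coe_smul, Algebra.smul_def, map_mul, map_mul, e.commutes, ← hcs,
          show algebraMap A K1 r = algebraMap Am K1 (IsLocalization.mk' Am r u) * algebraMap A K1 u by
            rw [IsScalarTower.algebraMap_apply A Am K1 u, ← map_mul, IsLocalization.mk'_spec,
              ← IsScalarTower.algebraMap_apply]]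
        ring
    · congr 1
      exact Subtype.ext (e.injective (congrArg (fun w : C1 => (w : K1)) h))
  have hC1' : C1 ≤ integralClosure Am K1 := hC1
  refine Groth.L01.MoriNagata.mem_of_forall hC1' hgen (e x) fun q _ hq => ?_
  haveI : (q.comap (algebraMap C C1)).IsPrime := Ideal.IsPrime.comap _
  have hqC : (q.comap (algebraMap C C1)).height = 1 := by
    rw [← Ideal.under_def, IsLocalization.height_under M, hq]
  have hp := h C hCA inferInstance (q.comap (algebraMap C C1)) hqC
  obtain ⟨s, hs, hsx⟩ := hx ⟨(q.comap (algebraMap C C1)).comap (algebraMap A C), inferInstance⟩ hp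
  refine ⟨algebraMap C C1 (algebraMap A C s), hs, ?_⟩
  show IsIntegral Am (e (algebraMap A K s) * e x)
  rw [← map_mul]
  exact IsIntegral.tower_top (R := A) (hsx.map e.toAlgHom)

end Groth.Agent.S4568
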