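import Groth.Statements.S4569
import Mathlib.Tactic
import Mathlib.RingTheory.Spectrum.Prime.Module
import Mathlib.RingTheory.LocalRing.Module
import Mathlib.RingTheory.Localization.AtPrime.Basic
import Mathlib.RingTheory.Ideal.KrullsHeightTheorem
import Mathlib.LinearAlgebra.Matrix.NonsingularInverse
import Mathlib.RingTheory.TensorProduct.Quotient
import Mathlib.RingTheory.Flat.FaithfullyFlat.Basic
import Mathlib.LinearAlgebra.TensorProduct.Prod
import Mathlib.RingTheory.LocalProperties.Reduced

set_option autoImplicit false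
universe u
open CAlg

namespace Groth.Agent.S4569

/-- Let A be a ring, x a non-zero-divisor of A with p = xA prime. For every n > 0 the inverse image in A
of x^n A_p is x^n A. -/
theorem result {A : Type u} [CommRing A] (x : A)
    (hx : x ∈ nonZeroDivisors A) [(Ideal.span ({x} : Set A)).IsPrime] (n : ℕ) (hn : 0 < n) :
    Ideal.comap (algebraMap A (Localization.AtPrime (Ideal.span ({x} : Set A))))
      (Ideal.map (algebraMap A (Localization.AtPrime (Ideal.span ({x} : Set A)))) (Ideal.span ({x ^ n} : Set A))) =
      Ideal.span ({x ^ n} : Set A) := by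
  refine le_antisymm (fun y hy => ?_) Ideal.le_comap_map
  rw [Ideal.mem_comap] at hy
  obtain ⟨⟨⟨z, hz⟩, ⟨s, hs⟩⟩, h⟩ := (IsLocalization.mem_map_algebraMap_iff (Ideal.span {x}).primeCompl _).mp hy
  rw [← map_mul] at h
  obtain ⟨⟨c, hc⟩, hc'⟩ := (IsLocalization.eq_iff_exists (Ideal.span {x}).primeCompl _).mp h
  have hcs : c * s ∉ Ideal.span {x} := fun hm => ((inferInstance : (Ideal.span {x}).IsPrime).mem_or_mem hm).elim hc hs
  have hmem : (c * s) * y ∈ Ideal.span {x ^ n} := by
    have : c * z ∈ Ideal.span {x ^ n} := Ideal.mul_mem_left _ c hz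
    rw [← hc'] at this
    convert this using 1; ring
  have key : ∀ k y, (c * s) * y ∈ Ideal.span {x ^ k} → y ∈ Ideal.span {x ^ k} := by
    intro k
    induction k with
    | zero => intro y _; simp
    | succ k ih =>
      intro y hy
      rw [Ideal.mem_span_singleton] at hy
      have : (c * s) * y ∈ Ideal.span {x} := Ideal.mem_span_singleton.mpr ((dvd_pow_self x (by omega)).trans hy)
      obtain ⟨y', rfl⟩ := Ideal.mem_span_singleton.mp (((inferInstance : (Ideal.span {x}).IsPrime).mem_or_mem this).resolve_left hcs)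
      obtain ⟨w, hw⟩ := hy
      have : (c * s) * y' ∈ Ideal.span {x ^ k} := Ideal.mem_span_singleton.mpr ⟨w, (mul_cancel_left_mem_nonZeroDivisors hx).mp (by rw [mul_left_comm, hw]; ring)⟩
      rw [Ideal.mem_span_singleton]
      rw [pow_succ']
      exact mul_dvd_mul_left x (Ideal.mem_span_singleton.mp (ih y' this))
  exact key n y hmem

end Groth.Agent.S4569
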