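import Groth.Statements.S4570
import Groth.Agent.L06.SymGrSmooth
import Groth.Agent.L06.FormSmoothRelJacobi

set_option autoImplicit false
set_option linter.style.haveILetI false
set_option maxSynthPendingDepth 3
universe u
open TensorProduct KaehlerDifferential
open EGA41

namespace Groth.Agent.S4570

/-- Let Λ → A → B be ring homomorphisms, J an ideal of B and C = B/J, with C formally smooth over Λ for
the discrete topologies. Consider the conditions: (α) J/J² is a projective C-module; (β) the
canonical maps Sym^n_C(J/J²) → J^n/J^(n+1) are bijective for n ≥ 1; (γ') Ω_{A/Λ} ⊗_A C → Ω_{B/Λ} ⊗_B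
C is injective (equivalent to the injectivity of the characteristic homomorphism used in the
published (γ)); (δ) Ω_{B/A} ⊗_B C is a projective C-module. (i) If they hold then B, with the J-adic
topology, is formally smooth over the discrete ring A. (ii) Conversely if B is formally smooth over
A for the J-adic topology and A is formally smooth over Λ for the discrete topology, the four
conditions hold. -/
theorem result {Λ A B : Type u} [CommRing Λ]
    [CommRing A] [CommRing B] [Algebra Λ A] [Algebra A B] [Algebra Λ B] [IsScalarTower Λ A B] (J : Ideal B)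
    [Algebra.FormallySmooth Λ (B ⧸ J)] :
    ((Module.Projective (B ⧸ J) J.Cotangent ∧ PP16.SymGrBijective B J ∧
        Function.Injective ((mapBaseChange Λ A B).lTensor (B ⧸ J)) ∧
        Module.Projective (B ⧸ J) ((B ⧸ J) ⊗[B] (Ω[B⁄A]))) →
      CAlgX.IsAdicFormallySmooth A B J) ∧
    (Algebra.FormallySmooth Λ A → CAlgX.IsAdicFormallySmooth A B J →
      (Module.Projective (B ⧸ J) J.Cotangent ∧ PP16.SymGrBijective B J ∧
        Function.Injective ((mapBaseChange Λ A B).lTensor (B ⧸ J)) ∧
        Module.Projective (B ⧸ J) ((B ⧸ J) ⊗[B] (Ω[B⁄A])))) := by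
  refine ⟨fun ⟨h1, h2, h3, h4⟩ => ?_, fun _ h => ?_⟩
  · haveI := h1
    haveI := h4
    exact Groth.L06.FormSmoothAdic.adicSmooth_of_injective J (Groth.L06.SymGr.adicSmooth_of_symGr (A := Λ) J h2) h3
  · have hΛ : CAlgX.IsAdicFormallySmooth Λ B J := Groth.L06.FormSmoothAdic.restrictScalars_adicSmooth (A := A) J h
    exact ⟨Groth.L06.SymGr.projective_cotangent_of_adicSmooth J hΛ, Groth.L06.SymGr.symGrBijective_of_adicSmooth J hΛ,
      Groth.L06.FormSmoothAdic.injective_of_adicSmooth J h,
      Groth.L06.FormSmoothAdic.projective_kaehler ⟨1, by rw [pow_one, Ideal.map_bot]; exact bot_le⟩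
        ((Groth.L06.FormSmoothAdic.calgx_iff J).mp h) J ⟨1, by rw [pow_one]⟩⟩

end Groth.Agent.S4570
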