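import Groth.Statements.S4575
import Groth.Agent.L01.Regular
import Mathlib.RingTheory.Ideal.Cotangent
import Mathlib.LinearAlgebra.Dimension.OrzechProperty

set_option autoImplicit false
set_option linter.style.haveILetI false
universe u
open IsLocalRing
open EGA41

namespace Groth.Agent.S4575

/-- Let R be a regular local ring with maximal ideal m and n a proper ideal with R/n regular. Then
(n/n²) ⊗_R K → (m/m²) ⊗_R K is injective, K the residue field; stated in the equivalent form n ∩ m²
= m·n (the kernel of n/mn → m/m² is (n ∩ m²)/mn). -/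
theorem result {R : Type u} [CommRing R] [IsRegularLocalRing R]
    (n : Ideal R) (hn : n ≠ ⊤) (hreg : IsRegularRing (R ⧸ n)) :
    n ⊓ maximalIdeal R ^ 2 = maximalIdeal R * n := by
  classical
  haveI : Nontrivial (R ⧸ n) := Ideal.Quotient.nontrivial_iff.mpr hn
  haveI : IsLocalRing (R ⧸ n) :=
    IsLocalRing.of_surjective' (Ideal.Quotient.mk n) Ideal.Quotient.mk_surjective
  haveI := hreg
  have hq : IsRegularLocalRing (R ⧸ n) := IsRegularLocalRing.of_isRegularRing_of_isLocalRing _
  obtain ⟨d, hd⟩ := Groth.L01.exists_dim_eq_nat (R := R)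
  obtain ⟨l₁, l₂, hlen, hgen, hn1⟩ := Groth.L01.exists_lists_of_regular_quotient d R hd n hq
  refine le_antisymm ?_ (le_inf Ideal.mul_le_right ?_)
  swap
  · rw [pow_two]; exact Ideal.mul_mono_right (IsLocalRing.le_maximalIdeal hn)
  let m := maximalIdeal R
  let l := l₁ ++ l₂
  have hmem : ∀ i : Fin l.length, l.get i ∈ m := fun i =>
    (show l.get i ∈ maximalIdeal R by rw [← hgen]; exact Ideal.subset_span (List.get_mem l i))
  let g : Fin l.length → ↥m := fun i => ⟨l.get i, hmem i⟩
  have hspan : Submodule.span R (Set.range g) = ⊤ := by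
    apply Submodule.map_injective_of_injective m.injective_subtype
    rw [Submodule.map_span, Submodule.map_subtype_top, ← Set.range_comp]
    show Ideal.span (Set.range l.get) = m
    rw [Set.range_list_get]; exact hgen
  have hli : LinearIndependent (ResidueField R) (m.toCotangent ∘ g) := by
    apply linearIndependent_of_top_le_span_of_card_eq_finrank
    · rw [Set.range_comp, IsLocalRing.CotangentSpace.span_image_eq_top_iff.mpr hspan]
    · have := (IsRegularLocalRing.iff_finrank_cotangentSpace R).mp inferInstance
      rw [hd] at this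
      rw [Fintype.card_fin, show l.length = d from hlen]
      exact_mod_cast this.symm
  rintro z ⟨hzn, hz2⟩
  rw [hn1] at hzn
  obtain ⟨c, hc⟩ := (Submodule.mem_span_range_iff_exists_fun R).mp
    (show z ∈ Ideal.span (Set.range l₁.get) by rw [Set.range_list_get]; exact hzn)
  let e : Fin l₁.length → Fin l.length := fun i => ⟨i.1, i.2.trans_le (by simp [l])⟩
  have he : Function.Injective e := fun a b h => Fin.ext (congrArg (fun k : Fin l.length => k.1) h)
  have hge : ∀ i, ((g (e i)) : R) = l₁.get i := fun i => by
    show l.get (e i) = _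
    simp [l, e, List.getElem_append_left]
  have h0 : ∑ i, c i • m.toCotangent (g (e i)) = 0 := by
    simp_rw [← map_smul]
    rw [← map_sum, Ideal.toCotangent_eq_zero]
    have : ((∑ i, c i • g (e i) : ↥m) : R) = z := by
      rw [← hc]; simp [hge]
    rw [this]; exact hz2
  have hcm : ∀ i, residue R (c i) = 0 := by
    refine Fintype.linearIndependent_iff.mp (hli.comp e he) (fun i => residue R (c i)) ?_
    rw [← h0]
    exact Finset.sum_congr rfl fun i _ => algebraMap_smul (ResidueField R) (c i) _
  rw [← hc]
  refine Submodule.sum_mem _ fun i _ => Ideal.mul_mem_mul ?_ ?_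
  · exact Ideal.Quotient.eq_zero_iff_mem.mp (hcm i)
  · rw [hn1]; exact Ideal.subset_span (List.get_mem l₁ i)

end Groth.Agent.S4575
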