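import Groth.Statements.S4577
import Mathlib.RingTheory.Smooth.Basic
import Mathlib.RingTheory.Etale.Kaehler
import Mathlib.RingTheory.Flat.EquationalCriterion
import Mathlib.RingTheory.Flat.Localization
import Mathlib.Algebra.Module.FinitePresentation
import Mathlib.RingTheory.Localization.AtPrime.Basic
import Mathlib.RingTheory.LocalProperties.Submodule
import Mathlib.LinearAlgebra.TensorProduct.Prod

set_option autoImplicit false
set_option linter.style.haveILetI false
universe u
open EGA41

namespace Groth.Agent.S4577

theorem flat_prod {C M N : Type u} [CommRing C] [AddCommGroup M] [Module C M] [AddCommGroup N] [Module C N]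
    [Module.Flat C M] [Module.Flat C N] : Module.Flat C (M × N) := by
  rw [Module.Flat.iff_rTensor_preserves_injective_linearMap]
  intro P Q _ _ _ _ f hf
  have h : f.rTensor (M × N) = (TensorProduct.prodRight C C Q M N).symm.toLinearMap ∘ₗ
      ((f.rTensor M).prodMap (f.rTensor N)) ∘ₗ (TensorProduct.prodRight C C P M N).toLinearMap := by
    refine TensorProduct.ext' fun x y => (TensorProduct.prodRight C C Q M N).injective ?_
    simp
  rw [h]
  exact (TensorProduct.prodRight C C Q M N).symm.injective.comp
    ((Prod.map_injective.mpr ⟨Module.Flat.rTensor_preserves_injective_linearMap f hf,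
      Module.Flat.rTensor_preserves_injective_linearMap f hf⟩).comp (TensorProduct.prodRight C C P M N).injective)

theorem exists_leftInverse_of_flat_coker {C M N : Type u} [CommRing C] [AddCommGroup M] [Module C M] [Module.Finite C M]
    [AddCommGroup N] [Module C N] [Module.Projective C N] (u : M →ₗ[C] N) (hu : Function.Injective u)
    [Module.Flat C (N ⧸ LinearMap.range u)] : ∃ l, l ∘ₗ u = LinearMap.id := by
  classical
  let p : (N →₀ C) →ₗ[C] N := Finsupp.linearCombination C id
  obtain ⟨i, hi⟩ : ∃ i : N →ₗ[C] N →₀ C, p ∘ₗ i = LinearMap.id :=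
    Module.projective_lifting_property p LinearMap.id (fun x => ⟨Finsupp.single x 1, by simp [p]⟩)
  have hi' : ∀ x, p (i x) = x := fun x => LinearMap.congr_fun hi x
  obtain ⟨S, hS⟩ := Module.Finite.fg_top (R := C) (M := M)
  let s : Finset N := S.biUnion fun m => (i (u m)).support
  have hsupp : ∀ m : M, i (u m) ∈ Finsupp.supported C C (s : Set N) := by
    intro m
    have : (⊤ : Submodule C M) ≤ (Finsupp.supported C C (s : Set N)).comap (i ∘ₗ u) := by
      rw [← hS, Submodule.span_le]
      intro m hm
      simp only [SetLike.mem_coe, Submodule.mem_comap, Finsupp.mem_supported, LinearMap.comp_apply]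
      exact fun x hx => Finset.mem_coe.mpr (Finset.mem_biUnion.mpr ⟨m, hm, hx⟩)
    exact this trivial
  let W := (s : Set N) →₀ C
  let incl : W →ₗ[C] (N →₀ C) := Finsupp.lmapDomain C C Subtype.val
  let res : (N →₀ C) →ₗ[C] W := Finsupp.lsubtypeDomain (R := C) (M := C) (s : Set N)
  have hri : ∀ w : W, res (incl w) = w := fun w => by
    ext x
    exact Finsupp.mapDomain_apply Subtype.val_injective w x
  have hincl : ∀ m, incl (res (i (u m))) = i (u m) := fun m => by
    ext x
    show Finsupp.mapDomain Subtype.val (res (i (u m))) x = i (u m) x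
    by_cases hx : x ∈ (s : Set N)
    · exact Finsupp.mapDomain_apply Subtype.val_injective (res (i (u m))) ⟨x, hx⟩
    · rw [Finsupp.mapDomain_of_notMem_range _ _ (fun ⟨y, hy⟩ => hx (hy ▸ y.2))]
      exact ((Finsupp.mem_supported' C _).mp (hsupp m) x hx).symm
  let w : M →ₗ[C] W := res ∘ₗ i ∘ₗ u
  haveI : Module.FinitePresentation C (W ⧸ LinearMap.range w) :=
    Module.finitePresentation_of_surjective (LinearMap.range w).mkQ (Submodule.mkQ_surjective _)
      (by rw [Submodule.ker_mkQ, LinearMap.range_eq_map]; exact Module.Finite.fg_top.map w)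
  haveI : Module.Flat C (W ⧸ LinearMap.range w) := by
    let fwd : W →ₗ[C] (N ⧸ LinearMap.range u) × (N →₀ C) :=
      ((LinearMap.range u).mkQ ∘ₗ p ∘ₗ incl).prod (incl - i ∘ₗ p ∘ₗ incl)
    let g : N →ₗ[C] W ⧸ LinearMap.range w := (LinearMap.range w).mkQ ∘ₗ res ∘ₗ i
    have hg : LinearMap.range u ≤ LinearMap.ker g := by
      rintro _ ⟨m, rfl⟩
      simp only [LinearMap.mem_ker, g, LinearMap.comp_apply, Submodule.mkQ_apply, Submodule.Quotient.mk_eq_zero]
      exact ⟨m, rfl⟩
    let bwd : (N ⧸ LinearMap.range u) × (N →₀ C) →ₗ[C] W ⧸ LinearMap.range w :=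
      ((LinearMap.range u).liftQ g hg).coprod ((LinearMap.range w).mkQ ∘ₗ res)
    have hfwd : LinearMap.range w ≤ LinearMap.ker fwd := by
      rintro _ ⟨m, rfl⟩
      rw [LinearMap.mem_ker]
      refine Prod.ext ?_ ?_
      · show Submodule.Quotient.mk (p (incl (res (i (u m))))) = 0
        rw [hincl, hi']
        exact (Submodule.Quotient.mk_eq_zero _).mpr ⟨m, rfl⟩
      · show incl (res (i (u m))) - i (p (incl (res (i (u m))))) = 0
        rw [hincl, hi', sub_self]
    haveI := flat_prod (C := C) (M := N ⧸ LinearMap.range u) (N := N →₀ C)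
    refine Module.Flat.of_retract ((LinearMap.range w).liftQ fwd hfwd) bwd (Submodule.linearMap_qext _ (LinearMap.ext fun x => ?_))
    show (LinearMap.range w).mkQ (res (i (p (incl x)))) + (LinearMap.range w).mkQ (res (incl x - i (p (incl x)))) = (LinearMap.range w).mkQ x
    rw [← map_add, ← map_add, add_sub_cancel, hri]
  haveI : Module.Projective C (W ⧸ LinearMap.range w) := Module.Flat.projective_of_finitePresentation
  have hw : Function.Injective w := fun a b h => hu (by
    have h' := congrArg incl h
    simp only [w, LinearMap.comp_apply, hincl] at h'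
    simpa [hi'] using congrArg p h')
  obtain ⟨σ, hσ⟩ := Module.projective_lifting_property (LinearMap.range w).mkQ LinearMap.id (Submodule.mkQ_surjective _)
  let e := LinearEquiv.ofInjective w hw
  let π : W →ₗ[C] LinearMap.range w := (LinearMap.id - σ ∘ₗ (LinearMap.range w).mkQ).codRestrict _ fun x => by
    rw [← Submodule.Quotient.mk_eq_zero, ← Submodule.mkQ_apply]
    simp only [LinearMap.sub_apply, LinearMap.id_apply, LinearMap.comp_apply, map_sub]
    rw [show (LinearMap.range w).mkQ (σ ((LinearMap.range w).mkQ x)) = (LinearMap.range w).mkQ x from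
      LinearMap.congr_fun hσ _, sub_self]
  refine ⟨e.symm.toLinearMap ∘ₗ π ∘ₗ res ∘ₗ i, LinearMap.ext fun m => ?_⟩
  simp only [LinearMap.comp_apply, LinearMap.id_apply, LinearEquiv.coe_coe]
  rw [LinearEquiv.symm_apply_eq]
  refine Subtype.ext ?_
  change res (i (u m)) - σ ((LinearMap.range w).mkQ (w m)) = w m
  rw [show (LinearMap.range w).mkQ (w m) = 0 from (Submodule.Quotient.mk_eq_zero _).mpr ⟨m, rfl⟩, map_zero, sub_zero]
  rfl

/-- Let B be a formally smooth A-algebra (discrete topologies) and C = B/J a quotient with J/J² finitely
generated. Then C is formally smooth over A if and only if C_m is formally smooth over A for every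
maximal ideal m of C (hence also if and only if every C_p, p prime, is). (Not stated: the variant of
the localised condition with C_m formally smooth over A_q, q the contraction of m to A, and the
further assertion that for B Noetherian the discrete topologies in the localised condition may be
replaced by the adic ones.) -/
theorem result {A B C : Type u} [CommRing A] [CommRing B] [CommRing C]
    [Algebra A B] [Algebra B C] [Algebra A C] [IsScalarTower A B C] [Algebra.FormallySmooth A B]
    (hsurj : Function.Surjective (algebraMap B C)) [Module.Finite B (RingHom.ker (algebraMap B C)).Cotangent] :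
    Algebra.FormallySmooth A C ↔
      ∀ (m : Ideal C) [m.IsMaximal], Algebra.FormallySmooth A (Localization.AtPrime m) := by

  constructor
  · intro h m _
    haveI : Algebra.FormallySmooth C (Localization.AtPrime m) :=
      Algebra.FormallySmooth.of_isLocalization m.primeCompl
    exact Algebra.FormallySmooth.comp A C (Localization.AtPrime m)
  · intro h
    let P : Algebra.Extension.{u} A C := ⟨B, _, Function.surjInv_eq hsurj⟩
    haveI : Algebra.FormallySmooth A P.Ring := ‹Algebra.FormallySmooth A B›
    rw [P.formallySmooth_iff_split_injection]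
    haveI : Subsingleton (Algebra.H1Cotangent A C) := Module.subsingleton_of_localization_maximal
      (fun m _ => Algebra.H1Cotangent A (Localization.AtPrime m))
      (fun m _ => Algebra.H1Cotangent.map A A C (Localization.AtPrime m)) fun m _ => (h m).2
    haveI : Module.Flat C Ω[C⁄A] := Module.flat_of_isLocalized_maximal C
      Ω[C⁄A] (fun m _ => Ω[Localization.AtPrime m⁄A]) (fun m _ => KaehlerDifferential.map A A C (Localization.AtPrime m)) fun m _ => by
        haveI := (h m).1
        haveI : Module.Flat C (Localization.AtPrime m) := IsLocalization.flat _ m.primeCompl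
        exact Module.Flat.trans C (Localization.AtPrime m) _
    haveI : Module.Finite C P.Cotangent := by
      have hfin : Module.Finite P.Ring P.ker.Cotangent := ‹Module.Finite B (RingHom.ker (algebraMap B C)).Cotangent›
      haveI : Module.Finite P.Ring P.Cotangent := hfin.of_surjective
        ({ toFun := Algebra.Extension.Cotangent.of, map_add' := fun _ _ => rfl,
           map_smul' := fun r x => by ext; simp } : P.ker.Cotangent →ₗ[P.Ring] P.Cotangent)
        (fun x => ⟨x.val, by ext; rfl⟩)
      exact Module.Finite.of_restrictScalars_finite P.Ring C P.Cotangent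
    haveI : Module.Flat C (P.CotangentSpace ⧸ LinearMap.range P.cotangentComplex) := by
      refine Module.Flat.of_linearEquiv (M := Ω[C⁄A]) ?_
      refine (Submodule.quotEquivOfEq _ _ ?_).trans (LinearMap.quotKerEquivOfSurjective P.toKaehler P.toKaehler_surjective)
      exact P.exact_cotangentComplex_toKaehler.linearMap_ker_eq.symm
    exact exists_leftInverse_of_flat_coker P.cotangentComplex
      (P.cotangentComplex_injective_iff.mpr inferInstance)

end Groth.Agent.S4577
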