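import Groth.Statements.S4581
import Groth.Agent.L06.CplFiniteSemi

set_option autoImplicit false
set_option maxSynthPendingDepth 3
set_option linter.style.haveILetI false
universe u
open EGA41

open scoped TensorProduct

namespace Groth.Agent.S4581

/-- Let A₀ be a semi-local Noetherian ring, A a module-finite A₀-algebra and Â the completion of A for
the adic topology of its Jacobson radical. For the discrete topologies, Â is a formally smooth
A-algebra relative to A₀. -/
theorem result {A₀ A : Type u} [CommRing A₀]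
    [IsNoetherianRing A₀] [Finite (MaximalSpectrum A₀)] [CommRing A] [Algebra A₀ A] [Module.Finite A₀ A] :
    EGA41.IsFormallySmoothRel A₀ A (AdicCompletion (Ideal.jacobson (⊥ : Ideal A)) A) := by
  intro D _ _ _ _ I hI u₀ hu
  obtain ⟨u, hu⟩ := hu
  obtain ⟨k, hk, hkle⟩ := Groth.L06.CplFiniteSemi.exists_pow_le A₀ A
  obtain ⟨Φ, hΦ, hΦA⟩ := Groth.L06.CplFiniteSemi.exists_equiv A₀ A _ _
    (Groth.L06.CplFiniteSemi.map_jacobson_le A₀ A) hk hkle
  let e := AlgEquiv.ofBijective Φ hΦ
  let a : AdicCompletion (⊥ : Ideal A₀).jacobson A₀ ⊗[A₀] A →ₐ[A₀] D :=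
    Algebra.TensorProduct.lift (u.comp (Φ.comp Algebra.TensorProduct.includeLeft)) (IsScalarTower.toAlgHom A₀ A D)
      fun _ _ => Commute.all _ _
  have ha : ∀ c : A, a (e.symm (algebraMap A _ c)) = algebraMap A D c := fun c => by
    rw [← hΦA c, show e.symm (Φ (1 ⊗ₜ c)) = 1 ⊗ₜ c from e.symm_apply_apply _, Algebra.TensorProduct.lift_tmul,
      map_one, one_mul]
    rfl
  let v : AdicCompletion (Ideal.jacobson (⊥ : Ideal A)) A →ₐ[A] D :=
    { (a.comp e.symm.toAlgHom).toRingHom with commutes' := ha }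
  refine ⟨v, AlgHom.ext fun y => ?_⟩
  obtain ⟨z, rfl⟩ := hΦ.2 y
  show Ideal.Quotient.mkₐ A I (a (e.symm (Φ z))) = u₀ (Φ z)
  rw [show e.symm (Φ z) = z from e.symm_apply_apply z]
  induction z using TensorProduct.induction_on with
  | zero => simp
  | add x w hx hw => rw [map_add, map_add, hx, hw, map_add, map_add]
  | tmul x c =>
    have h1 : Φ (x ⊗ₜ c) = Φ (x ⊗ₜ 1) * algebraMap A _ c := by
      rw [← hΦA, ← map_mul, Algebra.TensorProduct.tmul_mul_tmul, mul_one, one_mul]
    have h2 : Ideal.Quotient.mkₐ A I (u (Φ (x ⊗ₜ 1))) = u₀ (Φ (x ⊗ₜ 1)) := AlgHom.congr_fun hu (Φ (x ⊗ₜ 1))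
    rw [Algebra.TensorProduct.lift_tmul, h1, map_mul, map_mul, AlgHom.commutes,
      show IsScalarTower.toAlgHom A₀ A D c = algebraMap A D c from rfl, AlgHom.commutes,
      show u.comp (Φ.comp Algebra.TensorProduct.includeLeft) x = u (Φ (x ⊗ₜ 1)) from rfl, h2]

end Groth.Agent.S4581
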