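import Groth.Statements.S4582
import Groth.Agent.L06.FormSmoothFormal

set_option autoImplicit false
set_option linter.style.haveILetI false
set_option maxSynthPendingDepth 3
universe u
open IsLocalRing
open EGA41

namespace Groth.Agent.S4582

/-- Let A be a complete Noetherian local ring, p a prime of A, B = A_p, B̂ the completion of B, q a
prime of B̂ and r its contraction to B. Then B̂_q is formally smooth over B_r for the adic
topologies of the maximal ideals. -/
theorem result {A : Type u} [CommRing A]
    [IsLocalRing A] [IsNoetherianRing A] [IsAdicComplete (maximalIdeal A) A] (p : Ideal A) [p.IsPrime]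
    (q : Ideal (AdicCompletion (maximalIdeal (Localization.AtPrime p)) (Localization.AtPrime p))) [q.IsPrime]
    [Algebra (Localization.AtPrime (q.comap (algebraMap (Localization.AtPrime p)
        (AdicCompletion (maximalIdeal (Localization.AtPrime p)) (Localization.AtPrime p)))))
      (Localization.AtPrime q)]
    [IsScalarTower (Localization.AtPrime p)
      (Localization.AtPrime (q.comap (algebraMap (Localization.AtPrime p)
        (AdicCompletion (maximalIdeal (Localization.AtPrime p)) (Localization.AtPrime p)))))
      (Localization.AtPrime q)] :
    EGA41.IsFormallySmoothAdic
      (Localization.AtPrime (q.comap (algebraMap (Localization.AtPrime p)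
        (AdicCompletion (maximalIdeal (Localization.AtPrime p)) (Localization.AtPrime p)))))
      (maximalIdeal _) (Localization.AtPrime q) (maximalIdeal _) := by
  let B := Localization.AtPrime p
  let C := AdicCompletion (maximalIdeal B) B
  let r := q.comap (algebraMap B C)
  have halg : algebraMap (Localization.AtPrime r) (Localization.AtPrime q) =
      Localization.localRingHom r q (algebraMap B C) rfl := by
    refine IsLocalization.ringHom_ext r.primeCompl (RingHom.ext fun b => ?_)
    rw [RingHom.comp_apply, RingHom.comp_apply, ← IsScalarTower.algebraMap_apply, Localization.localRingHom_to_map,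
      IsScalarTower.algebraMap_apply B C (Localization.AtPrime q)]
  have h := Groth.L06.FormSmooth.formalFibre_local A p q
  have hloc : IsLocalHom (algebraMap (Localization.AtPrime r) (Localization.AtPrime q)) := by
    rw [halg]
    exact Localization.isLocalHom_localRingHom r q _ rfl
  haveI := hloc
  refine Groth.L06.FormSmooth.adicSmooth_two_sided_iff.mpr ?_
  convert h using 0
  congr! 1
  exact Algebra.algebra_ext _ _ fun x => RingHom.congr_fun halg x

end Groth.Agent.S4582
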