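import Groth.Statements.S4583
import Groth.Agent.L06.FormSmoothFormal

set_option autoImplicit false
set_option linter.style.haveILetI false
set_option maxSynthPendingDepth 3
universe u
open IsLocalRing
open EGA41

namespace Groth.Agent.S4583

/-- Let A be a complete Noetherian local domain with fraction field K, p a prime of A, B = A_p, q a
prime of the completion B̂ of B with q ∩ B = 0. Then B̂_q is a K-algebra formally smooth over K for
the adic topology of its maximal ideal (the published statement adds that it is then geometrically
regular over K; that consequence is not stated). -/
theorem result {A : Type u} [CommRing A]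
    [IsDomain A] [IsLocalRing A] [IsNoetherianRing A] [IsAdicComplete (maximalIdeal A) A] (p : Ideal A) [p.IsPrime]
    (q : Ideal (AdicCompletion (maximalIdeal (Localization.AtPrime p)) (Localization.AtPrime p))) [q.IsPrime]
    (hq : q.comap (algebraMap (Localization.AtPrime p)
      (AdicCompletion (maximalIdeal (Localization.AtPrime p)) (Localization.AtPrime p))) = ⊥)
    [Algebra A (Localization.AtPrime q)]
    [IsScalarTower A (AdicCompletion (maximalIdeal (Localization.AtPrime p)) (Localization.AtPrime p))
      (Localization.AtPrime q)]
    [Algebra (FractionRing A) (Localization.AtPrime q)] [IsScalarTower A (FractionRing A) (Localization.AtPrime q)] :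
    CAlgX.IsAdicFormallySmooth (FractionRing A) (Localization.AtPrime q) (maximalIdeal (Localization.AtPrime q)) := by
  let B := Localization.AtPrime p
  let C := AdicCompletion (maximalIdeal B) B
  let r := q.comap (algebraMap B C)
  letI : Algebra (Localization.AtPrime r) (Localization.AtPrime q) := (Localization.localRingHom r q (algebraMap B C) rfl).toAlgebra
  haveI : IsScalarTower B (Localization.AtPrime r) (Localization.AtPrime q) := IsScalarTower.of_algebraMap_eq fun b => by
    rw [IsScalarTower.algebraMap_apply B C (Localization.AtPrime q)]
    exact (Localization.localRingHom_to_map r q (algebraMap B C) rfl b).symm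
  haveI : Algebra.FormallySmooth B (Localization.AtPrime r) := Algebra.FormallySmooth.of_isLocalization r.primeCompl
  haveI : Algebra.FormallySmooth A B := Algebra.FormallySmooth.of_isLocalization p.primeCompl
  have h1 := Groth.L06.FormSmooth.comp_base (F := B) _ (Groth.L06.FormSmooth.formalFibre_local A p q)
  -- the towers in the statement use the canonical scalar action of `A` on the localization
  have hcan : ∀ a : A, algebraMap (FractionRing A) (Localization.AtPrime q) (algebraMap A (FractionRing A) a) =
      algebraMap C (Localization.AtPrime q) (algebraMap A C a) := fun a => by
    rw [Algebra.algebraMap_eq_smul_one (R := A) (A := FractionRing A),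
      Algebra.algebraMap_eq_smul_one (R := FractionRing A) (A := Localization.AtPrime q), smul_assoc, one_smul,
      Algebra.algebraMap_eq_smul_one (R := A) (A := C), Algebra.algebraMap_eq_smul_one (R := C) (A := Localization.AtPrime q),
      smul_assoc, one_smul]
  letI : Algebra A (Localization.AtPrime q) := ((algebraMap C (Localization.AtPrime q)).comp (algebraMap A C)).toAlgebra
  haveI := IsScalarTower.of_algebraMap_eq (R := A) (S := B) (A := Localization.AtPrime q) fun a => by
    rw [IsScalarTower.algebraMap_apply B C (Localization.AtPrime q)]
    rfl
  haveI := IsScalarTower.of_algebraMap_eq (R := A) (S := FractionRing A) (A := Localization.AtPrime q) fun a => (hcan a).symm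
  exact Groth.L06.FormSmooth.adicSmooth_base_localization (nonZeroDivisors A) _ (Groth.L06.FormSmooth.comp_base (F := A) _ h1)

end Groth.Agent.S4583
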