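import Groth.Statements.S4587
import Mathlib.AlgebraicGeometry.Properties
import Mathlib.Topology.Sober
-- import your own Groth.Agent.* helpers here

set_option autoImplicit false
universe u
open AlgebraicGeometry CategoryTheory
open EGA41

namespace Groth.Agent.S4587

/-- A morphism of schemes f : X → Y is generizing if and only if, for every irreducible closed subset Y'
of Y, each irreducible component of f⁻¹(Y') has dense image in Y'. -/
theorem result {X Y : Scheme.{u}} (f : X ⟶ Y) :
    GeneralizingMap f.base ↔
      ∀ Y' : Set Y, IsClosed Y' → IsIrreducible Y' →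
        ∀ Z ∈ irreducibleComponents ↥(f.base ⁻¹' Y'), closure (f.base '' (Subtype.val '' Z)) = Y' := by
  constructor
  · intro h Y' hY' hirr Z hZ
    haveI : QuasiSober ↥(f.base ⁻¹' Y') := (hY'.preimage f.continuous).isClosedEmbedding_subtypeVal.quasiSober
    refine subset_antisymm (closure_minimal (by rintro _ ⟨_, ⟨w, -, rfl⟩, rfl⟩; exact w.2) hY') ?_
    have hZirr : IsIrreducible Z := hZ.1
    have hZc : IsClosed Z := isClosed_of_mem_irreducibleComponents Z hZ
    let z := hZirr.genericPoint
    have hz : IsGenericPoint z Z := hZirr.isGenericPoint_genericPoint hZc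
    let η := hirr.genericPoint
    have hη : IsGenericPoint η Y' := hirr.isGenericPoint_genericPoint hY'
    obtain ⟨z', hz', hfz'⟩ := h (a := z.1) (hη.specializes z.2)
    let w : ↥(f.base ⁻¹' Y') := ⟨z', show f.base z' ∈ Y' from hfz' ▸ hη.mem⟩
    have hsp : w ⤳ z := Topology.IsInducing.subtypeVal.specializes_iff.mp hz'
    have hsub : Z ⊆ closure {w} := by
      rw [← hz.def]
      exact specializes_iff_closure_subset.mp hsp
    have hw : w ∈ Z := (hZ.2 isIrreducible_singleton.closure hsub) (subset_closure rfl)
    refine hη.def.symm.le.trans ?_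
    exact closure_mono (Set.singleton_subset_iff.mpr ⟨z', ⟨w, hw, rfl⟩, hfz'⟩)
  · intro h x y' hy
    let Y' := closure ({y'} : Set Y)
    haveI : QuasiSober ↥(f.base ⁻¹' Y') :=
      ((isClosed_closure (s := ({y'} : Set Y))).preimage f.continuous).isClosedEmbedding_subtypeVal.quasiSober
    let x' : ↥(f.base ⁻¹' Y') := ⟨x, hy.mem_closure⟩
    have hC := h Y' isClosed_closure isIrreducible_singleton.closure _ (irreducibleComponent_mem_irreducibleComponents x')
    have hirr := isIrreducible_irreducibleComponent (x := x')
    let z := hirr.genericPoint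
    have hz : IsGenericPoint z (irreducibleComponent x') := hirr.isGenericPoint_genericPoint isClosed_irreducibleComponent
    have hzx : z.1 ⤳ x := (hz.specializes mem_irreducibleComponent).map continuous_subtype_val
    refine ⟨z.1, hzx, ?_⟩
    apply Inseparable.eq
    rw [inseparable_iff_closure_eq]
    refine subset_antisymm (closure_minimal (Set.singleton_subset_iff.mpr z.2) isClosed_closure) ?_
    show Y' ⊆ _
    refine hC.symm.le.trans (closure_minimal ?_ isClosed_closure)
    rintro _ ⟨_, ⟨v, hv, rfl⟩, rfl⟩
    exact (((hz.specializes hv).map continuous_subtype_val).map f.continuous).mem_closure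

end Groth.Agent.S4587
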