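import Groth.Statements.S4588
import Groth.Agent.L06.MonicCotRank
import Groth.Agent.L06.RegularRing
import Groth.Agent.L22.AffineDim

set_option autoImplicit false
set_option maxSynthPendingDepth 3
universe u
open IsLocalRing
open EGA41

namespace Groth.Agent.S4588

/-- Let A be a regular local ring with maximal ideal m and residue field K, and F_i(T_i) = T_i^{d_i} +
Σ_{k<d_i} c_{ik} T_i^k (1 ≤ i ≤ r) monic one-variable polynomials of degrees d_i ≥ 2 with all
non-leading coefficients in m; put A' = A[T_1, …, T_r]/(F_1, …, F_r). Then (i) A' is local with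
residue field K, and (ii) A' is regular if and only if the classes in m/m² of the constant terms
c_{i0} are linearly independent over K. -/
theorem result {A : Type u} [CommRing A]
    [IsRegularLocalRing A] {r : ℕ} (d : Fin r → ℕ) (hd : ∀ i, 2 ≤ d i) (c : Fin r → ℕ → A)
    (hc : ∀ i k, c i k ∈ maximalIdeal A) :
    let F : Fin r → MvPolynomial (Fin r) A := fun i =>
      MvPolynomial.X i ^ d i + (Finset.range (d i)).sum fun k => MvPolynomial.C (c i k) * MvPolynomial.X i ^ k
    IsLocalRing (MvPolynomial (Fin r) A ⧸ Ideal.span (Set.range F)) ∧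
    (∀ (M : Ideal (MvPolynomial (Fin r) A ⧸ Ideal.span (Set.range F))) [M.IsMaximal],
      Function.Surjective ((Ideal.Quotient.mk M).comp (algebraMap A _))) ∧
    (IsRegularRing (MvPolynomial (Fin r) A ⧸ Ideal.span (Set.range F)) ↔
      LinearIndependent (ResidueField A) (fun i => (maximalIdeal A).toCotangent ⟨c i 0, hc i 0⟩)) := by
  intro F
  haveI hl0 : IsLocalRing (Groth.L06.MonicCot.Quot' d c) := Groth.L06.MonicCot.isLocalRing hd hc
  haveI hl : IsLocalRing (MvPolynomial (Fin r) A ⧸ Ideal.span (Set.range F)) := hl0
  refine ⟨hl, fun M hM => ?_, ?_⟩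
  · obtain rfl := IsLocalRing.eq_maximalIdeal hM
    exact Groth.L06.MonicCot.residue_comp_surjective hd hc
  let B := MvPolynomial (Fin r) A ⧸ Ideal.span (Set.range F)
  show IsRegularRing B ↔ _
  haveI : IsLocalRing B := hl
  have hdim : ringKrullDim B = ringKrullDim A :=
    @Groth.L22.AffineDim.ringKrullDim_eq_of_isIntegral A B _ _ _ (Groth.L06.MonicCot.isIntegral d c)
      (Groth.L06.MonicCot.algebraMap_injective d c (fun i => by have := hd i; omega))
  have hiff : IsRegularRing B ↔ IsRegularLocalRing B := by
    refine ⟨fun _ => IsRegularLocalRing.of_isRegularRing_of_isLocalRing B, fun hB => ?_⟩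
    refine Groth.L06.RegularRing.isRegularRing_of_maximal (fun M hM => ?_)
    obtain rfl := IsLocalRing.eq_maximalIdeal hM
    exact IsRegularLocalRing.of_ringEquiv (IsLocalization.atUnits B (maximalIdeal B).primeCompl
      (fun x hx => show IsUnit x from by simpa using hx) : B ≃ₐ[B] Localization.AtPrime (maximalIdeal B)).toRingEquiv
  have h := Groth.L06.MonicCot.finrank_cotangent hd hc
  have hA : ((maximalIdeal A).spanFinrank : WithBot ℕ∞) = ringKrullDim A := IsRegularLocalRing.spanFinrank_maximalIdeal
  rw [hiff, isRegularLocalRing_iff, hdim, ← hA, spanFinrank_maximalIdeal_eq_finrank_cotangentSpace,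
    spanFinrank_maximalIdeal_eq_finrank_cotangentSpace, Nat.cast_inj,
    linearIndependent_iff_card_eq_finrank_span, Fintype.card_fin, Set.finrank]
  change Module.finrank (ResidueField B) (CotangentSpace B) + _ = _ at h
  omega

end Groth.Agent.S4588
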