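import Groth.Statements.S4589
import Groth.Agent.S2480
import Groth.Agent.L06.NagataOpen

set_option autoImplicit false
set_option maxSynthPendingDepth 3
set_option linter.style.haveILetI false
universe u
open IsLocalRing
open EGA41

namespace Groth.Agent.S4589

/-- Under the hypotheses of Nagata's Jacobian criterion — k a field of characteristic exponent p with k
finite over k^p, A a complete Noetherian local ring with residue field finite over a separable
extension K₀ of k, A a K₀-algebra formally smooth for its adic topology, q an ideal of A and B = A/q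
— the set of primes n of B with B_n formally smooth over k for the adic topology of its maximal
ideal is open in Spec B. -/
theorem result (p : ℕ) {k K₀ A : Type u} [Field k] [ExpChar k p]
    (hk : p = 1 ∨ Module.Finite (frobenius k p).fieldRange k)
    [Field K₀] [Algebra k K₀] [Algebra.IsGeometricallyReduced k K₀]
    [CommRing A] [IsLocalRing A] [IsNoetherianRing A] [IsAdicComplete (maximalIdeal A) A]
    [Algebra k A] [Algebra K₀ A] [IsScalarTower k K₀ A] [Module.Finite K₀ (ResidueField A)]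
    (hA : CAlgX.IsAdicFormallySmooth K₀ A (maximalIdeal A))
    (q : Ideal A) :
    IsOpen {n : PrimeSpectrum (A ⧸ q) |
      CAlgX.IsAdicFormallySmooth k (Localization.AtPrime n.asIdeal) (maximalIdeal (Localization.AtPrime n.asIdeal))} := by
  classical
  rw [isOpen_iff_forall_mem_open]
  intro n hn
  let 𝔭 : Ideal A := n.asIdeal.comap (Ideal.Quotient.mk q)
  haveI : 𝔭.IsPrime := Ideal.comap_isPrime _ _
  have hq : q ≤ 𝔭 := fun x hx => by
    show Ideal.Quotient.mk q x ∈ n.asIdeal
    rw [Ideal.Quotient.eq_zero_iff_mem.mpr hx]; exact zero_mem _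
  have hmap : 𝔭.map (Ideal.Quotient.mk q) = n.asIdeal :=
    Ideal.map_comap_of_surjective _ Ideal.Quotient.mk_surjective _
  have key : ∀ (𝔯 : Ideal (A ⧸ q)) [𝔯.IsPrime] (𝔰 : Ideal (A ⧸ q)) [𝔰.IsPrime], 𝔯 = 𝔰 →
      (CAlgX.IsAdicFormallySmooth k (Localization.AtPrime 𝔯) (maximalIdeal (Localization.AtPrime 𝔯)) ↔
       CAlgX.IsAdicFormallySmooth k (Localization.AtPrime 𝔰) (maximalIdeal (Localization.AtPrime 𝔰))) := by
    intro 𝔯 _ 𝔰 _ h
    subst h
    exact Iff.rfl
  haveI : (𝔭.map (Ideal.Quotient.mk q)).IsPrime := by rw [hmap]; exact n.isPrime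
  obtain ⟨m, D, f, hf, hgen, hdet⟩ :=
    (Groth.Agent.S2480.result p hk hA q 𝔭 hq).mp ((key _ _ hmap).mpr hn)
  obtain ⟨s, hs, hsq⟩ := Groth.L06.Nagata.exists_uniform_denominator q 𝔭 f hgen
  refine ⟨(PrimeSpectrum.basicOpen (Ideal.Quotient.mk q (s * Matrix.det (Matrix.of fun i j => D i (f j)))) : Set (PrimeSpectrum (A ⧸ q))),
    fun n' hn' => ?_, PrimeSpectrum.isOpen_basicOpen, ?_⟩
  · let 𝔯 : Ideal A := n'.asIdeal.comap (Ideal.Quotient.mk q)
    haveI : 𝔯.IsPrime := Ideal.comap_isPrime _ _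
    have hq' : q ≤ 𝔯 := fun x hx => by
      show Ideal.Quotient.mk q x ∈ n'.asIdeal
      rw [Ideal.Quotient.eq_zero_iff_mem.mpr hx]; exact zero_mem _
    have hmap' : 𝔯.map (Ideal.Quotient.mk q) = n'.asIdeal :=
      Ideal.map_comap_of_surjective _ Ideal.Quotient.mk_surjective _
    haveI : (𝔯.map (Ideal.Quotient.mk q)).IsPrime := by rw [hmap']; exact n'.isPrime
    have h1 : s * Matrix.det (Matrix.of fun i j => D i (f j)) ∉ 𝔯 := hn'
    exact (key _ _ hmap').mp ((Groth.Agent.S2480.result p hk hA q 𝔯 hq').mpr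
      ⟨m, D, f, hf, Groth.L06.Nagata.map_eq_span_of_denominator q 𝔯 f hf
        (fun h => h1 (Ideal.mul_mem_right _ _ h)) hsq, fun h => h1 (Ideal.mul_mem_left _ _ h)⟩)
  · show s * Matrix.det (Matrix.of fun i j => D i (f j)) ∉ 𝔭
    exact fun h => (Ideal.IsPrime.mem_or_mem ‹_› h).elim hs hdet

end Groth.Agent.S4589
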