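import Mathlib.RingTheory.Flat.FaithfullyFlat.Basic
import Mathlib.RingTheory.Nilpotent.Lemmas
import Mathlib.RingTheory.Localization.FractionRing
import Mathlib.RingTheory.IntegralClosure.IsIntegralClosure.Basic
import Mathlib.RingTheory.Ideal.Quotient.Operations
import Mathlib.RingTheory.Polynomial.ScaleRoots
import Mathlib.Algebra.BigOperators.Field
import Mathlib.Tactic.FieldSimp
import Mathlib.RingTheory.Flat.TorsionFree
import Mathlib.RingTheory.Flat.FaithfullyFlat.Algebra
import Mathlib.RingTheory.IntegralClosure.IsIntegral.Basic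
import Mathlib.RingTheory.Ideal.Quotient.Operations

set_option autoImplicit false
namespace CAlg
end CAlg
universe u
open CAlg

namespace Groth.Agent.S4590

/-- Let A be a domain with fraction field K, B a faithfully flat A-algebra, C = B_red and R the total
ring of fractions of C. Then A → C is injective with nonzero elements going to non-zero-divisors, so
that K embeds in R, and an element of K is integral over C in R if and only if it is integral over
A. -/
theorem result {A B : Type u} [CommRing A] [IsDomain A]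
    [CommRing B] [Algebra A B] [Module.FaithfullyFlat A B] :
    Function.Injective (algebraMap A (B ⧸ nilradical B)) ∧
    (∀ a : A, a ≠ 0 → algebraMap A (B ⧸ nilradical B) a ∈ nonZeroDivisors (B ⧸ nilradical B)) ∧
    ∀ (R : Type u) [CommRing R] [Algebra (B ⧸ nilradical B) R] [IsFractionRing (B ⧸ nilradical B) R]
      [Algebra A R] [IsScalarTower A (B ⧸ nilradical B) R] [Algebra (FractionRing A) R]
      [IsScalarTower A (FractionRing A) R] (x : FractionRing A),
      IsIntegral (B ⧸ nilradical B) (algebraMap (FractionRing A) R x) ↔ IsIntegral A x := by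
  classical
  have hnil : ∀ x : B, Ideal.Quotient.mk (nilradical B) x = 0 ↔ IsNilpotent x := fun x => by
    rw [Ideal.Quotient.eq_zero_iff_mem, mem_nilradical]
  have hreg : ∀ a : A, a ≠ 0 → ∀ x : B, IsNilpotent (algebraMap A B a * x) → IsNilpotent x := by
    rintro a ha x ⟨n, hn⟩
    refine ⟨n, (Module.Flat.isSMulRegular_of_nonZeroDivisors (M := B)
      (mem_nonZeroDivisors_of_ne_zero (pow_ne_zero n ha))) ?_⟩
    show a ^ n • x ^ n = a ^ n • (0 : B)
    rw [smul_zero, Algebra.smul_def, map_pow, ← mul_pow, hn]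
  have hnzd : ∀ a : A, a ≠ 0 → algebraMap A (B ⧸ nilradical B) a ∈ nonZeroDivisors (B ⧸ nilradical B) := by
    intro a ha
    rw [mem_nonZeroDivisors_iff_right]
    intro c hc
    obtain ⟨x, rfl⟩ := Ideal.Quotient.mk_surjective c
    rw [← Ideal.Quotient.mk_algebraMap, ← map_mul, hnil, mul_comm] at hc
    exact (hnil x).mpr (hreg a ha x hc)
  have hinjB : Function.Injective (algebraMap A B) := FaithfulSMul.algebraMap_injective A B
  refine ⟨(injective_iff_map_eq_zero _).mpr fun a ha => ?_, hnzd, fun R _ _ _ _ _ _ _ x => ?_⟩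
  · rw [← Ideal.Quotient.mk_algebraMap, hnil] at ha
    obtain ⟨n, hn⟩ := ha
    rw [← map_pow, map_eq_zero_iff _ hinjB] at hn
    exact (pow_eq_zero_iff'.mp hn).1
  constructor
  swap
  · rintro ⟨p, hp, hp0⟩
    refine IsIntegral.tower_top (R := A) ⟨p, hp, ?_⟩
    rw [IsScalarTower.algebraMap_eq A (FractionRing A) R, ← Polynomial.hom_eval₂, hp0, map_zero]
  rintro ⟨p, hp, hp0⟩
  obtain ⟨a, b, hb, rfl⟩ := IsFractionRing.div_surjective A x
  have hb0 : b ≠ 0 := nonZeroDivisors.ne_zero hb
  set π := Ideal.Quotient.mk (nilradical B)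
  obtain ⟨P, hPp, -, hPm⟩ := Polynomial.lifts_and_natDegree_eq_and_monic
    (Polynomial.map_surjective π Ideal.Quotient.mk_surjective p : p ∈ Polynomial.lifts π) hp
  have hab : algebraMap (FractionRing A) R (algebraMap A _ b) *
      algebraMap (FractionRing A) R (algebraMap A _ a / algebraMap A _ b) = algebraMap A R a := by
    rw [← map_mul, mul_div_cancel₀ _ ((map_ne_zero_iff _ (IsFractionRing.injective A _)).mpr hb0),
      ← IsScalarTower.algebraMap_apply]
  have hz : IsNilpotent ((P.scaleRoots (algebraMap A B b)).eval (algebraMap A B a)) := by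
    rw [← hnil]
    apply IsFractionRing.injective (B ⧸ nilradical B) R
    rw [map_zero, ← RingHom.comp_apply, ← Polynomial.eval₂_id, Polynomial.hom_eval₂, RingHom.comp_id,
      RingHom.comp_apply, Ideal.Quotient.mk_algebraMap, ← IsScalarTower.algebraMap_apply, ← hab,
      show algebraMap (FractionRing A) R (algebraMap A _ b) =
        ((algebraMap (B ⧸ nilradical B) R).comp π) (algebraMap A B b) by
        rw [RingHom.comp_apply, Ideal.Quotient.mk_algebraMap, ← IsScalarTower.algebraMap_apply,
          ← IsScalarTower.algebraMap_apply],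
      Polynomial.scaleRoots_eval₂_mul, ← Polynomial.eval₂_map, hPp, hp0, mul_zero]
  obtain ⟨k, hk⟩ := hz
  rcases subsingleton_or_nontrivial B with hB | hB
  · exact absurd (hinjB (Subsingleton.elim _ _)) hb0
  rw [← Polynomial.eval_pow, ← Polynomial.pow_scaleRoots' _ _ _ (by rw [hPm.leadingCoeff, one_pow]; exact one_ne_zero),
    Polynomial.eval_eq_sum_range, Polynomial.natDegree_scaleRoots, Finset.sum_range_succ] at hk
  set Q := P ^ k
  set N := Q.natDegree
  rw [Polynomial.coeff_scaleRoots_natDegree, (hPm.pow k).leadingCoeff, one_mul] at hk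
  let J : Ideal A := Ideal.span (Set.range fun i : Fin N => a ^ (i : ℕ) * b ^ (N - i))
  have hmem : a ^ N ∈ J := by
    rw [← Ideal.comap_map_eq_self_of_faithfullyFlat (B := B) J, Ideal.mem_comap, map_pow,
      eq_neg_of_add_eq_zero_right hk]
    refine Ideal.neg_mem_iff _ |>.mpr (sum_mem fun i hi => ?_)
    rw [Polynomial.coeff_scaleRoots, mul_assoc, mul_comm ((algebraMap A B b) ^ _), ← map_pow, ← map_pow, ← map_mul]
    exact Ideal.mul_mem_left _ _ (Ideal.mem_map_of_mem _ (Ideal.subset_span ⟨⟨i, Finset.mem_range.mp hi⟩, rfl⟩))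
  obtain ⟨c, hc⟩ := (Submodule.mem_span_range_iff_exists_fun A).mp hmem
  refine ⟨Polynomial.X ^ N - ∑ i : Fin N, Polynomial.C (c i) * Polynomial.X ^ (i : ℕ),
    Polynomial.monic_X_pow_sub (Polynomial.degree_sum_fin_lt c), ?_⟩
  set bK := algebraMap A (FractionRing A) b with hbK
  have hbK0 : bK ≠ 0 := (map_ne_zero_iff _ (IsFractionRing.injective A _)).mpr hb0
  simp only [Polynomial.eval₂_sub, Polynomial.eval₂_X_pow, Polynomial.eval₂_finsetSum, Polynomial.eval₂_mul, Polynomial.eval₂_C]
  have hc' := congrArg (algebraMap A (FractionRing A)) hc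
  simp only [map_sum, smul_eq_mul, map_mul, map_pow, ← hbK] at hc'
  rw [div_pow, ← hc', Finset.sum_div, sub_eq_zero]
  refine Finset.sum_congr rfl fun i _ => ?_
  rw [div_pow, div_eq_iff (pow_ne_zero _ hbK0)]
  field_simp
  rw [show bK ^ N = bK ^ (N - i) * bK ^ (i : ℕ) from by rw [← pow_add, Nat.sub_add_cancel i.2.le]]
  ring

end Groth.Agent.S4590
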