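import Groth.Statements.S4592
import Mathlib.Algebra.Category.Ring.Constructions
import Mathlib.CategoryTheory.Limits.Types.Filtered

set_option autoImplicit false
set_option linter.style.haveILetI false
universe u
open CategoryTheory CategoryTheory.Limits
open EGA41

namespace Groth.Agent.S4592

/-- A filtered colimit of commutative rings is the zero ring if and only if some ring of the system is
zero (the clause that all later rings of the system are then zero is not restated). -/
theorem result {I : Type u} [SmallCategory I] [IsFiltered I]
    (D : I ⥤ CommRingCat.{u}) (c : Cocone D) (hc : IsColimit c) :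
    Subsingleton c.pt ↔ ∃ i : I, Subsingleton (D.obj i) := by
  have hc' := isColimitOfPreserves (CategoryTheory.forget CommRingCat.{u}) hc
  refine ⟨fun h => ?_, fun ⟨i, hi⟩ => ?_⟩
  · haveI := h
    obtain ⟨i⟩ := (IsFiltered.nonempty : Nonempty I)
    obtain ⟨k, f, g, hfg⟩ := (Types.FilteredColimit.isColimit_eq_iff _ hc' (i := i) (j := i)
      (xi := (1 : D.obj i)) (xj := (0 : D.obj i))).mp (Subsingleton.elim (α := c.pt) _ _)
    refine ⟨k, subsingleton_of_zero_eq_one ?_⟩
    have h' : (D.map f).hom 1 = (D.map g).hom 0 := hfg
    rw [map_one, map_zero] at h'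
    exact h'.symm
  · exact (c.ι.app i).hom.codomain_trivial

end Groth.Agent.S4592
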