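import Groth.Statements.S4593
import Mathlib.CategoryTheory.Limits.Types.Filtered
import Mathlib.RingTheory.Spectrum.Prime.RingHom
import Mathlib.Algebra.Category.Ring.Constructions

set_option autoImplicit false
set_option linter.style.haveILetI false
universe u
open CategoryTheory CategoryTheory.Limits AlgebraicGeometry
open EGA41

namespace Groth.Agent.S4593

/-- Let B be a ring, (A_i) a filtered system of B-algebras with colimit A. The image of Spec A in Spec B
is the intersection of the images of the Spec A_i. -/
theorem result {I : Type u} [SmallCategory I] [IsFiltered I]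
    (B : CommRingCat.{u}) (D : I ⥤ CommRingCat.{u}) (s : (Functor.const I).obj B ⟶ D) (c : Cocone D)
    (hc : IsColimit c) (i₀ : I) :
    Set.range (Spec.map (s.app i₀ ≫ c.ι.app i₀)).base = ⋂ i : I, Set.range (Spec.map (s.app i)).base := by
  let a : ∀ i : I, B ⟶ c.pt := fun i => s.app i ≫ c.ι.app i
  have ha : ∀ i, a i = a i₀ := by
    intro i
    let k := IsFiltered.max i i₀
    have h1 : ∀ {j k : I} (g : j ⟶ k), a j = a k := fun {j k} g => by
      have hn := s.naturality g
      simp only [a]
      rw [← c.w g, ← Category.assoc, ← hn]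
      simp
    exact (h1 (IsFiltered.leftToMax i i₀)).trans (h1 (IsFiltered.rightToMax i i₀)).symm
  refine Set.Subset.antisymm (fun p hp => Set.mem_iInter.mpr fun i => ?_) fun p hp => ?_
  · obtain ⟨q, rfl⟩ := hp
    refine ⟨Spec.map (c.ι.app i) q, ?_⟩
    show (Spec.map (c.ι.app i) ≫ Spec.map (s.app i)) q = _
    rw [← Spec.map_comp, show s.app i ≫ c.ι.app i = a i₀ from ha i]
  · show p ∈ Set.range (PrimeSpectrum.comap (a i₀).hom)
    refine (PrimeSpectrum.mem_range_comap_iff _).mpr (le_antisymm (fun b hb => ?_) Ideal.le_comap_map)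
    have hc' := isColimitOfPreserves (CategoryTheory.forget CommRingCat.{u}) hc
    have hmem : ∀ z ∈ Ideal.map (a i₀).hom p.asIdeal, ∃ (j : I) (w : D.obj j),
        w ∈ Ideal.map (s.app j).hom p.asIdeal ∧ (c.ι.app j).hom w = z := by
      intro z hz
      rw [Ideal.map] at hz
      induction hz using Submodule.span_induction with
      | mem z hz =>
        obtain ⟨b, hb, rfl⟩ := hz
        exact ⟨i₀, (s.app i₀).hom b, Ideal.mem_map_of_mem _ hb, rfl⟩
      | zero => exact ⟨i₀, 0, zero_mem _, map_zero _⟩
      | add z z' _ _ h h' =>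
        obtain ⟨j, w, hw, rfl⟩ := h
        obtain ⟨j', w', hw', rfl⟩ := h'
        let g := IsFiltered.leftToMax j j'
        let g' := IsFiltered.rightToMax j j'
        have key : ∀ {j k : I} (g : j ⟶ k) (w : D.obj j), w ∈ Ideal.map (s.app j).hom p.asIdeal →
            (D.map g).hom w ∈ Ideal.map (s.app k).hom p.asIdeal := fun {j k} g w hw => by
          have hn : s.app j ≫ D.map g = s.app k := by rw [← s.naturality g]; simp
          have := Ideal.mem_map_of_mem (D.map g).hom hw
          rwa [Ideal.map_map, ← CommRingCat.hom_comp, hn] at this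
        refine ⟨_, (D.map g).hom w + (D.map g').hom w', add_mem (key g w hw) (key g' w' hw'), ?_⟩
        rw [map_add, ← CommRingCat.comp_apply, ← CommRingCat.comp_apply, c.w, c.w]
      | smul r z _ h =>
        obtain ⟨j, w, hw, rfl⟩ := h
        obtain ⟨j', r', hr'⟩ := Types.jointly_surjective _ hc' r
        let g := IsFiltered.leftToMax j j'
        let g' := IsFiltered.rightToMax j j'
        have hn : s.app j ≫ D.map g = s.app (IsFiltered.max j j') := by rw [← s.naturality g]; simp
        have := Ideal.mem_map_of_mem (D.map g).hom hw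
        rw [Ideal.map_map, ← CommRingCat.hom_comp, hn] at this
        refine ⟨_, (D.map g').hom r' * (D.map g).hom w, Ideal.mul_mem_left _ _ this, ?_⟩
        rw [map_mul, ← CommRingCat.comp_apply, ← CommRingCat.comp_apply, c.w, c.w, smul_eq_mul]
        exact congrArg (· * _) hr'
    obtain ⟨j, w, hw, hwz⟩ := hmem _ hb
    rw [← ha j] at hwz
    obtain ⟨k, g, g', hg⟩ := (Types.FilteredColimit.isColimit_eq_iff _ hc'
      (xi := (w : D.obj j)) (xj := ((s.app j).hom b : D.obj j))).mp hwz
    have hn : ∀ g : j ⟶ k, s.app j ≫ D.map g = s.app k := fun g => by rw [← s.naturality g]; simp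
    have h1 : (s.app k).hom b ∈ Ideal.map (s.app k).hom p.asIdeal := by
      have := Ideal.mem_map_of_mem (D.map g).hom hw
      rw [Ideal.map_map, ← CommRingCat.hom_comp, hn] at this
      rw [show (D.map g).hom w = (D.map g').hom ((s.app j).hom b) from hg] at this
      rwa [← CommRingCat.comp_apply, hn] at this
    obtain ⟨q, hq⟩ := Set.mem_iInter.mp hp k
    have h2 := (PrimeSpectrum.mem_range_comap_iff (s.app k).hom).mp ⟨q, hq⟩
    rw [← h2]; exact h1

end Groth.Agent.S4593
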