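import Groth.Statements.S4594
import Groth.Agent.L06.DiffCot

set_option autoImplicit false
set_option maxSynthPendingDepth 3
universe u
open TensorProduct KaehlerDifferential
open EGA41

namespace Groth.Agent.S4594

/-- Let Λ be a ring, A → C a surjection of Λ-algebras with kernel J, C of characteristic p > 0, and π
the class of p·1 in J/J². If C is formally smooth over Λ/pΛ for the discrete topologies, then 0 →
(J/J²)/Cπ → Ω_{A/Λ} ⊗_A C → Ω_{C/Λ} → 0 is exact: the kernel of the conormal map J/J² → Ω_{A/Λ} ⊗_A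
C is the span of π, and the base-change map to Ω_{C/Λ} is surjective with kernel the image of J/J². -/
theorem result {Λ A C : Type u} [CommRing Λ] [CommRing A]
    [CommRing C] [Algebra Λ A] [Algebra A C] [Algebra Λ C] [IsScalarTower Λ A C]
    (hsurj : Function.Surjective (algebraMap A C)) (p : ℕ) [Fact p.Prime] [CharP C p]
    [Algebra (Λ ⧸ Ideal.span {(p : Λ)}) C] [IsScalarTower Λ (Λ ⧸ Ideal.span {(p : Λ)}) C]
    [Algebra.FormallySmooth (Λ ⧸ Ideal.span {(p : Λ)}) C]
    (hp : (p : A) ∈ RingHom.ker (algebraMap A C)) :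
    LinearMap.ker (kerCotangentToTensor Λ A C) =
        Submodule.span A {(RingHom.ker (algebraMap A C)).toCotangent ⟨(p : A), hp⟩} ∧
      LinearMap.range (kerCotangentToTensor Λ A C) = (LinearMap.ker (mapBaseChange Λ A C)).restrictScalars A ∧
      Function.Surjective (mapBaseChange Λ A C) := by
  refine ⟨?_, KaehlerDifferential.range_kerCotangentToTensor Λ A C hsurj, KaehlerDifferential.mapBaseChange_surjective Λ A C hsurj⟩
  set J := RingHom.ker (algebraMap A C) with hJ
  refine le_antisymm (fun y hy => ?_) ((Submodule.span_singleton_le_iff_mem _ _).mpr ?_)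
  · obtain ⟨x, rfl⟩ := J.toCotangent_surjective y
    rw [LinearMap.mem_ker, kerCotangentToTensor_toCotangent] at hy
    set I : Ideal A := J ^ 2 ⊔ Ideal.span {(p : A)} with hI
    have hIJ : I ≤ J := sup_le (Ideal.pow_le_self two_ne_zero) ((Ideal.span_singleton_le_iff_mem _).mpr hp)
    let j : (Λ ⧸ Ideal.span {(p : Λ)}) →+* A ⧸ I := Ideal.Quotient.lift _ ((Ideal.Quotient.mk I).comp (algebraMap Λ A)) (fun l hl => by
      obtain ⟨b, rfl⟩ := Ideal.mem_span_singleton'.mp hl
      rw [RingHom.comp_apply, map_mul, map_natCast, Ideal.Quotient.eq_zero_iff_mem]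
      exact I.mul_mem_left _ (Ideal.mem_sup_right (Ideal.mem_span_singleton_self _)))
    letI : Algebra (Λ ⧸ Ideal.span {(p : Λ)}) (A ⧸ I) := j.toAlgebra
    have hfac : ∀ a ∈ I, algebraMap A C a = 0 := fun a ha => RingHom.mem_ker.mp (hIJ ha)
    let q : (A ⧸ I) →ₐ[Λ ⧸ Ideal.span {(p : Λ)}] C :=
      { Ideal.Quotient.lift I (algebraMap A C) hfac with
        commutes' := fun l => by
          obtain ⟨l, rfl⟩ := Ideal.Quotient.mk_surjective l
          show algebraMap A C (algebraMap Λ A l) = algebraMap (Λ ⧸ Ideal.span {(p : Λ)}) C (algebraMap Λ (Λ ⧸ Ideal.span {(p : Λ)}) l)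
          rw [← IsScalarTower.algebraMap_apply, ← IsScalarTower.algebraMap_apply] }
    have hq : Function.Surjective q := fun c => by
      obtain ⟨a, ha⟩ := hsurj c
      exact ⟨Ideal.Quotient.mk I a, ha⟩
    have hn : IsNilpotent (RingHom.ker (q : (A ⧸ I) →+* C)) := by
      refine ⟨2, ?_⟩
      have : RingHom.ker (q : (A ⧸ I) →+* C) = J.map (Ideal.Quotient.mk I) := Ideal.ker_quotient_lift _ hfac
      rw [this, ← Ideal.map_pow, Ideal.zero_eq_bot, eq_bot_iff]
      exact (Ideal.map_mono le_sup_left).trans (Ideal.map_quotient_self I).le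
    let s := Algebra.FormallySmooth.liftOfSurjective (AlgHom.id _ C) q hq hn
    let sΛ : C →ₐ[Λ] A ⧸ I :=
      { s.toRingHom with
        commutes' := fun l => by
          show s (algebraMap Λ C l) = Ideal.Quotient.mk I (algebraMap Λ A l)
          rw [IsScalarTower.algebraMap_apply Λ (Λ ⧸ Ideal.span {(p : Λ)}) C, s.commutes]
          rfl }
    have hxI : (x : A) ∈ I := Groth.L06.DiffCot.mem_of_D_eq_zero hsurj le_sup_left hIJ sΛ (fun c a ha => by
      calc algebraMap A C a = q (Ideal.Quotient.mk I a) := rfl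
        _ = q (s c) := congrArg q ha
        _ = c := Algebra.FormallySmooth.liftOfSurjective_apply (AlgHom.id _ C) q hq hn c) x.2 hy
    obtain ⟨u, hu, v, hv, huv⟩ := Submodule.mem_sup.mp hxI
    obtain ⟨b, rfl⟩ := Ideal.mem_span_singleton'.mp hv
    refine Submodule.mem_span_singleton.mpr ⟨b, ?_⟩
    rw [← LinearMap.map_smul, Ideal.toCotangent_eq]
    show b * (p : A) - (x : A) ∈ J ^ 2
    have : b * (p : A) - (x : A) = -u := by linear_combination huv
    rw [this]
    exact neg_mem hu
  · rw [LinearMap.mem_ker, kerCotangentToTensor_toCotangent]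
    show (1 : C) ⊗ₜ[A] D Λ A ((p : A)) = 0
    rw [Derivation.map_natCast, TensorProduct.tmul_zero]

end Groth.Agent.S4594
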