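import Groth.Statements.S4595
import Groth.Agent.L06.DiffCotLocal

set_option autoImplicit false
set_option maxSynthPendingDepth 3
universe u
open TensorProduct IsLocalRing
open EGA41

namespace Groth.Agent.S4595

/-- Let A be an Artinian local ring of characteristic p > 0 with maximal ideal m of square zero and
residue field K, f_1, …, f_r ∈ A, and B = A[T_1, …, T_r]/(T_1^p − f_1, …, T_r^p − f_r). Then B is
local, and dim_K m = dim_{K'}(m'/m'²) (m', K' the maximal ideal and residue field of B) if and only
if the d f_i ⊗ 1 are linearly independent in Ω_A ⊗_A K. -/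
theorem result {A : Type u} [CommRing A]
    [IsArtinianRing A] [IsLocalRing A] (hm : maximalIdeal A ^ 2 = ⊥) (p : ℕ) [Fact p.Prime] [CharP A p]
    {r : ℕ} (f : Fin r → A) :
    let B := MvPolynomial (Fin r) A ⧸ Ideal.span (Set.range fun i => MvPolynomial.X i ^ p - MvPolynomial.C (f i))
    ∃ _ : IsLocalRing B,
      (Module.finrank (ResidueField A) (CotangentSpace A) = Module.finrank (ResidueField B) (CotangentSpace B) ↔
        LinearIndependent (ResidueField A) (fun i => (1 : ResidueField A) ⊗ₜ[A] KaehlerDifferential.D ℤ A (f i))) := by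
  intro B
  have hJ : Groth.L06.DiffCot.relJ p 0 f = Ideal.span (Set.range fun i => MvPolynomial.X i ^ p - MvPolynomial.C (f i)) := by
    simp [Groth.L06.DiffCot.relJ]
  let P : Fin r → Polynomial A := fun i => Polynomial.X ^ p - Polynomial.C (f i)
  have hp0 : 0 < p := (Fact.out (p := p.Prime)).pos
  have hPm : ∀ i, (P i).Monic := fun i => Polynomial.monic_X_pow_sub_C _ hp0.ne'
  have hPd : ∀ i, (P i).natDegree = p := fun i => Polynomial.natDegree_X_pow_sub_C
  have hrel : Groth.L13.Wild.relIdeal P = Ideal.span (Set.range fun i => MvPolynomial.X i ^ p - MvPolynomial.C (f i)) := by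
    simp [Groth.L13.Wild.relIdeal, P, MvPolynomial.algebraMap_eq]
  let b := Groth.L13.Wild.basis P hPm hPd hp0
  haveI hfin : Module.Finite A (MvPolynomial (Fin r) A ⧸ Groth.L06.DiffCot.relJ p 0 f) := by
    rw [hJ, ← hrel]; exact Module.Finite.of_basis b
  haveI hnt : Nontrivial (MvPolynomial (Fin r) A ⧸ Groth.L06.DiffCot.relJ p 0 f) := by
    rw [hJ, ← hrel]; exact b.repr.toEquiv.nontrivial
  have hpA : (p : A) ∈ maximalIdeal A ^ 2 := by rw [CharP.cast_eq_zero]; exact zero_mem _
  haveI : CharP (ResidueField A) p := (CharP.charP_iff_prime_eq_zero Fact.out).mpr (by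
    rw [← map_natCast (residue A), CharP.cast_eq_zero, map_zero])
  haveI : Algebra.IsIntegral A (MvPolynomial (Fin r) A ⧸ Groth.L06.DiffCot.relJ p 0 f) := Algebra.IsIntegral.of_finite _ _
  haveI hloc := Groth.L06.DiffCot.isLocalRing_quot p 0 f (Ideal.pow_le_self two_ne_zero hpA)
  have h := Groth.L06.DiffCot.cotangent_criterion p 0 f hpA
  have key : ∀ (I : Ideal (MvPolynomial (Fin r) A)) (_ : Groth.L06.DiffCot.relJ p 0 f = I),
      ∃ _ : IsLocalRing (MvPolynomial (Fin r) A ⧸ I),
      (Module.finrank (ResidueField A) (CotangentSpace A) = Module.finrank (ResidueField (MvPolynomial (Fin r) A ⧸ I)) (CotangentSpace (MvPolynomial (Fin r) A ⧸ I)) ↔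
        LinearIndependent (ResidueField A) (fun i => (1 : ResidueField A) ⊗ₜ[A] KaehlerDifferential.D ℤ A (f i))) := by
    intro I hI
    subst hI
    exact ⟨hloc, h⟩
  exact key _ hJ

end Groth.Agent.S4595
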