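import Groth.Statements.S4597
import Groth.Agent.L20.ThickeningTopology
-- import your own Groth.Agent.* helpers here

set_option autoImplicit false
universe u
open AlgebraicGeometry CategoryTheory CategoryTheory.Limits
open EGA41

namespace Groth.Agent.S4597

/-- Let f : X → Y, g : Y' → Y and f' : X ×_Y Y' → Y' the base change. If g is quasi-compact surjective
and f' quasi-compact, f is quasi-compact; if g is surjective and f' dominant, f is dominant. -/
theorem result {X Y Y' : Scheme.{u}} (f : X ⟶ Y)
    (g : Y' ⟶ Y) [Surjective g] :
    (QuasiCompact g → QuasiCompact (pullback.snd f g) → QuasiCompact f) ∧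
    (IsDominant (pullback.snd f g) → IsDominant f) := by
  refine ⟨fun h1 h2 => ?_, fun h => ?_⟩
  · haveI := h1
    haveI := h2
    haveI : Surjective (pullback.fst f g) := inferInstance
    haveI : QuasiCompact (pullback.fst f g ≫ f) := by rw [pullback.condition]; infer_instance
    exact Groth.L20.Thick.quasiCompact_of_comp_surjective (pullback.fst f g) f
  · refine ⟨?_⟩
    have hd : DenseRange (pullback.snd f g ≫ g) := g.surjective.denseRange.comp h.denseRange g.continuous
    rw [← pullback.condition] at hd
    exact Dense.mono (Set.range_comp_subset_range _ _) hd

end Groth.Agent.S4597
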