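import Groth.Statements.S4600
import Mathlib.RingTheory.Extension.Presentation.Core
import Mathlib.Algebra.Category.Ring.FinitePresentation
import Mathlib.RingTheory.TensorProduct.Maps
import Mathlib.RingTheory.RingHom.FinitePresentation
import Mathlib.Algebra.Category.Ring.FilteredColimits
-- import your own Groth.Agent.* helpers here

set_option autoImplicit false
universe u
open CategoryTheory CategoryTheory.Limits TensorProduct
open EGA41

namespace Groth.Agent.S4600

/-- Let (A_i) be a filtered system of rings with colimit A and B a finitely presented A-algebra. Then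
some stage A_i carries a finitely presented algebra B_i with B isomorphic to A ⊗_{A_i} B_i as
A-algebras (existence of an isomorphism; the base change is along the colimit map A_i → A). -/
theorem result {I : Type u} [SmallCategory I] [IsFiltered I]
    (D : I ⥤ CommRingCat.{u}) (c : Cocone D) (hc : IsColimit c) (B : Type u) [CommRing B] [Algebra c.pt B]
    [Algebra.FinitePresentation c.pt B] :
    ∃ (i : I) (Bi : Type u) (_ : CommRing Bi) (_ : Algebra (D.obj i) Bi),
      Algebra.FinitePresentation (D.obj i) Bi ∧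
      (letI : Algebra (D.obj i) c.pt := (c.ι.app i).hom.toAlgebra
       Nonempty (B ≃ₐ[c.pt] (c.pt ⊗[D.obj i] Bi))) := by
  let P := Algebra.Presentation.ofFinitePresentation c.pt B
  let A₀ := P.Core
  let B₀ := P.ModelOfHasCoeffs A₀
  haveI : Algebra.FiniteType ℤ A₀ := inferInstance
  haveI : Algebra.FinitePresentation ℤ A₀ := Algebra.FinitePresentation.of_finiteType.mp ‹_›
  have e : B ≃ₐ[c.pt] c.pt ⊗[A₀] B₀ := (P.tensorModelOfHasCoeffsEquiv A₀).symm
  let Z : CommRingCat.{u} := CommRingCat.of (ULift.{u} ℤ)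
  let u₀ : ∀ X : CommRingCat.{u}, Z ⟶ X := fun X =>
    CommRingCat.ofHom ((Int.castRingHom X).comp (ULift.ringEquiv : ULift.{u} ℤ ≃+* ℤ).toRingHom)
  have hu : ∀ (X : CommRingCat.{u}) (a b : Z ⟶ X), a = b := fun X a b => by
    ext1
    have : a.hom.comp (ULift.ringEquiv : ULift.{u} ℤ ≃+* ℤ).symm.toRingHom =
        b.hom.comp (ULift.ringEquiv : ULift.{u} ℤ ≃+* ℤ).symm.toRingHom := RingHom.ext_int _ _
    ext x
    have h2 := DFunLike.congr_fun this ((ULift.ringEquiv : ULift.{u} ℤ ≃+* ℤ) x)
    simp only [RingHom.comp_apply, RingEquiv.toRingHom_eq_coe, RingEquiv.coe_toRingHom, RingEquiv.symm_apply_apply] at h2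
    exact h2
  let α : (Functor.const I).obj Z ⟶ D := ⟨fun j => u₀ _, fun _ _ _ => hu _ _ _⟩
  let f₀ : Z ⟶ CommRingCat.of A₀ := u₀ _
  have hf₀ : f₀.hom.FinitePresentation := by
    refine RingHom.FinitePresentation.comp ?_ (RingHom.FinitePresentation.of_bijective (ULift.ringEquiv : ULift.{u} ℤ ≃+* ℤ).bijective)
    have : (algebraMap ℤ A₀).FinitePresentation := RingHom.finitePresentation_algebraMap.mpr inferInstance
    convert this using 1
    exact Subsingleton.elim _ _
  obtain ⟨i, g', -, hg'⟩ := RingHom.EssFiniteType.exists_eq_comp_ι_app_of_isColimit Z D α f₀ c hc hf₀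
    (CommRingCat.ofHom (algebraMap A₀ c.pt)) (fun j => hu _ _ _)
  letI : Algebra A₀ (D.obj i) := g'.hom.toAlgebra
  letI : Algebra (D.obj i) c.pt := (c.ι.app i).hom.toAlgebra
  haveI : IsScalarTower A₀ (D.obj i) c.pt := IsScalarTower.of_algebraMap_eq fun x => by
    exact congrArg (fun φ => φ.hom x) hg'
  exact ⟨i, (D.obj i) ⊗[A₀] B₀, inferInstance, inferInstance, inferInstance,
    ⟨e.trans (Algebra.TensorProduct.cancelBaseChange A₀ (D.obj i) c.pt c.pt B₀).symm⟩⟩

end Groth.Agent.S4600
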