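import Groth.Statements.S4601
import Mathlib.RingTheory.TensorProduct.Maps
import Mathlib.RingTheory.Flat.Localization
import Mathlib.RingTheory.Flat.Stability
import Mathlib.RingTheory.Ideal.MinimalPrime.Noetherian
import Mathlib.RingTheory.Noetherian.Nilpotent
import Mathlib.RingTheory.Localization.FractionRing
import Mathlib.RingTheory.TensorProduct.Quotient
import Mathlib.LinearAlgebra.Basis.VectorSpace
import Mathlib.RingTheory.Flat.Basic

set_option autoImplicit false
universe u
open TensorProduct
open CAlg

namespace Groth.Agent.S4601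

/-- Let A be a domain with fraction field K, B a Noetherian A-algebra which is flat over A, K' an
extension field of K, B₁ = B_red and R its total ring of fractions. For every sub-A-algebra A' of
K', the map (A' ⊗_A B)_red → (K' ⊗_A R)_red is injective, i.e. an element of A' ⊗_A B with nilpotent
image in K' ⊗_A R is nilpotent. -/
theorem result {A B K' R : Type u} [CommRing A]
    [IsDomain A] [CommRing B] [Algebra A B] [IsNoetherianRing B] [Module.Flat A B]
    [Field K'] [Algebra A K'] [Algebra (FractionRing A) K'] [IsScalarTower A (FractionRing A) K']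
    [CommRing R] [Algebra (B ⧸ nilradical B) R] [IsFractionRing (B ⧸ nilradical B) R]
    [Algebra B R] [IsScalarTower B (B ⧸ nilradical B) R] [Algebra A R] [IsScalarTower A B R]
    (A' : Subalgebra A K') (x : ↥A' ⊗[A] B)
    (hx : IsNilpotent (Algebra.TensorProduct.map A'.val (IsScalarTower.toAlgHom A B R) x)) :
    IsNilpotent x := by
  classical
  let Br := B ⧸ nilradical B
  let π : B →ₐ[A] Br := Ideal.Quotient.mkₐ A _
  letI : IsScalarTower A Br R := IsScalarTower.of_algebraMap_eq fun a => by
    rw [IsScalarTower.algebraMap_apply A B R, IsScalarTower.algebraMap_apply B Br R, ← IsScalarTower.algebraMap_apply A B Br]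
  let ι : Br →ₐ[A] R := IsScalarTower.toAlgHom A Br R
  -- nonzero scalars are nonzerodivisors on `B`, and stay so on the reduced quotient
  have htf : ∀ (a : A), a ≠ 0 → ∀ b : B, algebraMap A B a * b ∈ nilradical B → b ∈ nilradical B := by
    intro a ha b hb
    obtain ⟨m, hm⟩ := mem_nilradical.mp hb
    refine mem_nilradical.mpr ⟨m, ?_⟩
    have hr : IsSMulRegular B (algebraMap A B (a ^ m)) := (IsRegular.of_ne_zero (pow_ne_zero m ha)).left.isSMulRegular.of_flat
    apply hr.right_eq_zero_of_smul
    rw [smul_eq_mul, map_pow, ← mul_pow, hm]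
  haveI : Module.IsTorsionFree A Br := by
    refine ⟨fun a ha => ?_⟩
    rw [isSMulRegular_iff_right_eq_zero_of_smul]
    intro z hz
    obtain ⟨b, rfl⟩ := Ideal.Quotient.mk_surjective z
    rw [Algebra.smul_def, IsScalarTower.algebraMap_apply A B Br, Ideal.Quotient.algebraMap_eq, ← map_mul,
      Ideal.Quotient.eq_zero_iff_mem] at hz
    exact Ideal.Quotient.eq_zero_iff_mem.mpr (htf a (IsRegular.ne_zero ha) b hz)
  haveI : Module.Flat A (FractionRing A) := IsLocalization.flat _ (nonZeroDivisors A)
  haveI : Module.Flat A K' := Module.Flat.trans A (FractionRing A) K'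
  have hinj : Function.Injective (Algebra.TensorProduct.map (AlgHom.id A K') ι) :=
    Module.Flat.lTensor_preserves_injective_linearMap ι.toLinearMap (IsFractionRing.injective Br R)
  have hA' : Function.Injective (Algebra.TensorProduct.map A'.val (AlgHom.id A B)) :=
    Module.Flat.rTensor_preserves_injective_linearMap (M := B) A'.val.toLinearMap Subtype.val_injective
  let z := Algebra.TensorProduct.map A'.val (AlgHom.id A B) x
  have h1 : Algebra.TensorProduct.map A'.val (IsScalarTower.toAlgHom A B R) x =
      Algebra.TensorProduct.map (AlgHom.id A K') ι (Algebra.TensorProduct.map (AlgHom.id A K') π z) := by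
    have : Algebra.TensorProduct.map A'.val (IsScalarTower.toAlgHom A B R) =
        ((Algebra.TensorProduct.map (AlgHom.id A K') ι).comp (Algebra.TensorProduct.map (AlgHom.id A K') π)).comp
          (Algebra.TensorProduct.map A'.val (AlgHom.id A B)) := by
      apply Algebra.TensorProduct.ext'
      intro a b
      simp [ι, π, IsScalarTower.algebraMap_apply B Br R]
      rfl
    rw [this]; rfl
  rw [h1, IsNilpotent.map_iff hinj] at hx
  obtain ⟨n, hn⟩ := hx
  have hz : IsNilpotent z := by
    have hk : z ^ n ∈ RingHom.ker (Algebra.TensorProduct.map (AlgHom.id A K') π) := by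
      rw [RingHom.mem_ker, map_pow, hn]
    rw [Algebra.TensorProduct.lTensor_ker π Ideal.Quotient.mk_surjective] at hk
    have : (RingHom.ker π).map (Algebra.TensorProduct.includeRight : B →ₐ[A] K' ⊗[A] B) ≤ nilradical _ := by
      rw [Ideal.map_le_iff_le_comap]
      intro b hb
      rw [RingHom.mem_ker] at hb
      rw [Ideal.mem_comap, mem_nilradical]
      exact (mem_nilradical.mp (Ideal.Quotient.eq_zero_iff_mem.mp hb)).map _
    exact IsNilpotent.of_pow (mem_nilradical.mp (this hk))
  exact (IsNilpotent.map_iff hA').mp hz

end Groth.Agent.S4601
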