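import Groth.Statements.S4602
import Groth.Agent.L06.FormSmoothFormal

set_option autoImplicit false
set_option linter.style.haveILetI false
set_option maxSynthPendingDepth 3
universe u
open IsLocalRing
open EGA41

namespace Groth.Agent.S4602

/-- Let A be a regular local ring with fraction field of characteristic zero, B a domain containing A
and module-finite over it, with fraction field L, n a prime of B, C = B_n, q a prime of the
completion Ĉ with q ∩ C = 0. Then Ĉ_q is formally smooth over L for the adic topology of its maximal
ideal. (Case (ii) of the published statement, in characteristic p with a suitable filtered family of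
subrings, is not stated.) -/
theorem result
    {A B : Type u} [CommRing A] [IsRegularLocalRing A] [CharZero A] [CommRing B] [IsDomain B] [Algebra A B]
    [Module.Finite A B] (hinj : Function.Injective (algebraMap A B)) (n : Ideal B) [n.IsPrime]
    (q : Ideal (AdicCompletion (maximalIdeal (Localization.AtPrime n)) (Localization.AtPrime n))) [q.IsPrime]
    (hq : q.comap (algebraMap (Localization.AtPrime n)
      (AdicCompletion (maximalIdeal (Localization.AtPrime n)) (Localization.AtPrime n))) = ⊥)
    [Algebra B (Localization.AtPrime q)]
    [IsScalarTower B (AdicCompletion (maximalIdeal (Localization.AtPrime n)) (Localization.AtPrime n))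
      (Localization.AtPrime q)]
    [Algebra (FractionRing B) (Localization.AtPrime q)] [IsScalarTower B (FractionRing B) (Localization.AtPrime q)] :
    CAlgX.IsAdicFormallySmooth (FractionRing B) (Localization.AtPrime q) (maximalIdeal (Localization.AtPrime q)) := by
  let L := FractionRing B
  let S := Localization.AtPrime n
  let C := AdicCompletion (maximalIdeal S) S
  haveI := Groth.L06.FormSmooth.genericFibre_charZero hinj L n
  haveI : IsNoetherianRing B := IsNoetherianRing.of_finite A B
  haveI : IsNoetherianRing S := IsLocalization.isNoetherianRing n.primeCompl _ inferInstance
  haveI := Groth.L01.AnalUnram.isNoetherianRing_completion S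
  haveI : IsRegularLocalRing (Localization.AtPrime q) := by
    refine Groth.L06.FormSmooth.regular_of_regular_fraction_tensor (D := B) (L := L) q ?_
    rw [IsScalarTower.algebraMap_eq B S C, ← Ideal.comap_comap, hq, ← RingHom.ker_eq_comap_bot,
      (RingHom.injective_iff_ker_eq_bot _).mp (IsLocalization.injective S n.primeCompl_le_nonZeroDivisors)]
  haveI : CharZero (FractionRing B) :=
    charZero_of_injective_ringHom (f := (algebraMap B (FractionRing B)).comp (algebraMap A B))
      ((IsFractionRing.injective B (FractionRing B)).comp hinj)
  haveI : Algebra.FormallySmooth (FractionRing B) (ResidueField (Localization.AtPrime q)) :=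
    Groth.L03.FieldFS.formallySmooth_of_perfectField _ _
  exact Groth.L06.FormSmooth.adicSmooth_of_regular

end Groth.Agent.S4602
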