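import Groth.Statements.S4603
import Groth.Agent.L07.Equidim
import Groth.Agent.L19.Closure
-- import your own Groth.Agent.* helpers here

set_option autoImplicit false
universe u
open AlgebraicGeometry CategoryTheory
open EGA41

namespace Groth.Agent.S4603

/-- Let f : X → Y be quasi-compact. The following are equivalent: f is dominant; the fibre of f over
every maximal point of Y (a point with no proper generization, i.e. the generic point of an
irreducible component) is nonempty; every maximal point of Y is the image of a maximal point of X. -/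
theorem result {X Y : Scheme.{u}} (f : X ⟶ Y) [QuasiCompact f] :
    [IsDominant f,
     ∀ y : Y, (∀ y' : Y, y' ⤳ y → y' = y) → y ∈ Set.range f.base,
     ∀ y : Y, (∀ y' : Y, y' ⤳ y → y' = y) → ∃ x : X, (∀ x' : X, x' ⤳ x → x' = x) ∧ f.base x = y].TFAE := by
  tfae_have 1 → 2 := by
    intro h y hy
    obtain ⟨x, hx⟩ := Groth.L19.exists_specializes_of_mem_closure_range f
      (z := y) (by rw [f.denseRange.closure_range]; trivial)
    exact ⟨x, hy _ hx⟩
  tfae_have 2 → 3 := by
    intro h y hy
    obtain ⟨x, rfl⟩ := h y hy
    obtain ⟨p, hpx, hp⟩ := Groth.L07.Equidim.exists_maximal_generization x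
    exact ⟨p, hp, hy _ (hpx.map f.continuous)⟩
  tfae_have 3 → 1 := by
    intro h
    refine ⟨fun y => ?_⟩
    obtain ⟨p, hpy, hp⟩ := Groth.L07.Equidim.exists_maximal_generization y
    obtain ⟨x, -, hx⟩ := h p hp
    exact hpy.mem_closed isClosed_closure (subset_closure ⟨x, hx⟩)
  tfae_finish

end Groth.Agent.S4603
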