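import Groth.Statements.S4605
import Groth.Agent.L13.Wild.MRBasis
import Mathlib.FieldTheory.IsAlgClosed.AlgebraicClosure
import Mathlib.RingTheory.Ideal.GoingUp

set_option autoImplicit false
set_option maxSynthPendingDepth 3
universe u
open IsLocalRing
open EGA41

namespace Groth.Agent.S4605

/-- Let A be a local ring with maximal ideal m of square zero and residue field K of characteristic p >
0, F_i(T_i) = T_i^p + p Σ_{k=1}^{p-1} c_{ik} T_i^{p-k} − f_i (i in a finite index set) with c_{ik},
f_i ∈ A, and suppose the residues of the f_i in K are p-independent over K^p. Then A' = A[T_i]/(F_i)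
is local with maximal ideal m A'. (The identification of the residue field with K(a_i^{1/p}) is not
restated.) -/
theorem result {A : Type u} [CommRing A]
    [IsLocalRing A] (hm : maximalIdeal A ^ 2 = ⊥) (p : ℕ) [Fact p.Prime] [CharP (ResidueField A) p]
    {ι : Type u} [Finite ι] (c : ι → Fin p → A) (f : ι → A)
    (hind : LinearIndependent (↥(frobenius (ResidueField A) p).fieldRange)
      (fun e : {e : ι →₀ ℕ // ∀ i, e i < p} => EGA41.pMonomial (fun i => residue A (f i)) e.1)) :
    let F : ι → MvPolynomial ι A := fun i =>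
      MvPolynomial.X i ^ p + (p : MvPolynomial ι A) * (Finset.univ.sum fun j : Fin p =>
        if (j : ℕ) = 0 then 0 else MvPolynomial.C (c i j) * MvPolynomial.X i ^ (p - (j : ℕ))) - MvPolynomial.C (f i)
    ∃ _ : IsLocalRing (MvPolynomial ι A ⧸ Ideal.span (Set.range F)),
      maximalIdeal (MvPolynomial ι A ⧸ Ideal.span (Set.range F)) =
        (maximalIdeal A).map (algebraMap A (MvPolynomial ι A ⧸ Ideal.span (Set.range F))) := by
  intro F
  classical
  letI := Fintype.ofFinite ι
  have hp0 : 0 < p := (Fact.out (p := p.Prime)).pos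
  let S : ι → Polynomial A := fun i => Finset.univ.sum fun j : Fin p =>
    if (j : ℕ) = 0 then 0 else Polynomial.C (c i j) * Polynomial.X ^ (p - (j : ℕ))
  let Q : ι → Polynomial A := fun i => (p : Polynomial A) * S i - Polynomial.C (f i)
  have hQd : ∀ i, (Q i).degree < p := by
    intro i
    refine lt_of_le_of_lt (Polynomial.degree_sub_le _ _) (max_lt ?_ (lt_of_le_of_lt Polynomial.degree_C_le (by exact_mod_cast hp0)))
    rw [← Polynomial.C_eq_natCast]
    refine lt_of_le_of_lt (Polynomial.degree_mul_le _ _) ?_
    refine lt_of_le_of_lt (add_le_add Polynomial.degree_C_le le_rfl) ?_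
    rw [zero_add]
    refine lt_of_le_of_lt (Polynomial.degree_sum_le _ _) ((Finset.sup_lt_iff (WithBot.bot_lt_coe p)).mpr fun j _ => ?_)
    split_ifs with hj
    · exact (Polynomial.degree_zero (R := A)).trans_lt (WithBot.bot_lt_coe p)
    · refine lt_of_le_of_lt (Polynomial.degree_C_mul_X_pow_le _ _) ?_
      exact WithBot.coe_lt_coe.mpr (Nat.sub_lt hp0 (Nat.pos_of_ne_zero hj))
  let P : ι → Polynomial A := fun i => Polynomial.X ^ p + Q i
  have hPm : ∀ i, (P i).Monic := fun i => Polynomial.monic_X_pow_add (hQd i)
  have hPd : ∀ i, (P i).natDegree = p := fun i => by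
    refine Polynomial.natDegree_eq_of_degree_eq_some ?_
    rw [Polynomial.degree_add_eq_left_of_degree_lt (by rw [Polynomial.degree_X_pow]; exact hQd i), Polynomial.degree_X_pow]
  have hrel : Groth.L13.Wild.relIdeal P = Ideal.span (Set.range F) := by
    refine congrArg (fun g => Ideal.span (Set.range g)) (funext fun i => ?_)
    simp only [P, Q, S, F, map_add, map_sub, map_mul, map_pow, map_sum, map_natCast, Polynomial.aeval_X,
      Polynomial.aeval_C, MvPolynomial.algebraMap_eq, add_sub_assoc]
    congr 2
    refine congrArg _ (Finset.sum_congr rfl fun j _ => ?_)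
    split_ifs
    · exact map_zero _
    · simp [MvPolynomial.algebraMap_eq]
  suffices h : ∃ _ : IsLocalRing (MvPolynomial ι A ⧸ Groth.L13.Wild.relIdeal P),
      maximalIdeal (MvPolynomial ι A ⧸ Groth.L13.Wild.relIdeal P) =
        (maximalIdeal A).map (algebraMap A (MvPolynomial ι A ⧸ Groth.L13.Wild.relIdeal P)) by
    rw [hrel] at h
    exact h
  let B := MvPolynomial ι A ⧸ Groth.L13.Wild.relIdeal P
  let b := Groth.L13.Wild.basis P hPm hPd hp0
  haveI : Module.Finite A B := Module.Finite.of_basis b
  let K := ResidueField A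
  let L := AlgebraicClosure K
  letI : Algebra A L := ((algebraMap K L).comp (residue A)).toAlgebra
  have hAL : ∀ a : A, algebraMap A L a = algebraMap K L (residue A a) := fun a => rfl
  choose α hα using fun i => IsAlgClosed.exists_pow_nat_eq (algebraMap K L (residue A (f i))) hp0
  haveI : CharP L p := charP_of_injective_algebraMap (algebraMap K L).injective p
  let φ : B →ₐ[A] L := Ideal.Quotient.liftₐ _ (MvPolynomial.aeval α) (fun q hq => by
    refine RingHom.mem_ker.mp ((Ideal.span_le.mpr ?_) hq : q ∈ RingHom.ker (MvPolynomial.aeval α))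
    rintro _ ⟨i, rfl⟩
    rw [SetLike.mem_coe, RingHom.mem_ker, ← Polynomial.aeval_algHom_apply, MvPolynomial.aeval_X]
    simp only [P, Q, map_add, map_sub, map_mul, map_natCast, Polynomial.aeval_C, map_pow, Polynomial.aeval_X]
    rw [CharP.cast_eq_zero, zero_mul, zero_sub, hα, hAL, add_neg_cancel])
  have hmker : (maximalIdeal A).map (algebraMap A B) = RingHom.ker (φ : B →+* L) := by
    refine le_antisymm (Ideal.map_le_iff_le_comap.mpr fun a ha => ?_) (fun x hx => ?_)
    · rw [Ideal.mem_comap, RingHom.mem_ker]
      show φ (algebraMap A B a) = 0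
      rw [φ.commutes, hAL, (residue_eq_zero_iff _).mpr ha, map_zero]
    · have h1 : ∑ e, algebraMap K L (residue A (b.repr x e)) * ∏ i, α i ^ (e i : ℕ) = 0 := by
        have h2 : φ x = 0 := hx
        rw [← b.sum_repr x, map_sum] at h2
        rw [← h2]
        refine Finset.sum_congr rfl fun e _ => ?_
        rw [Algebra.smul_def, map_mul, φ.commutes, Groth.L13.Wild.basis_apply, map_prod, hAL]
        refine congrArg₂ _ rfl (Finset.prod_congr rfl fun i _ => ?_)
        rw [map_pow]
        exact congrArg (· ^ (e i : ℕ)) (MvPolynomial.aeval_X α i).symm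
      have h3 := congrArg (frobenius L p) h1
      simp only [map_sum, map_mul, map_prod, map_zero, frobenius_def, ← pow_mul, mul_comm _ p] at h3
      have h4 : ∑ e : ι → Fin p, (residue A (b.repr x e)) ^ p * ∏ i, residue A (f i) ^ (e i : ℕ) = 0 := by
        apply (algebraMap K L).injective
        rw [map_sum, map_zero, ← h3]
        refine Finset.sum_congr rfl fun e _ => ?_
        rw [map_mul, map_pow, map_prod]
        refine congrArg₂ _ rfl (Finset.prod_congr rfl fun i _ => ?_)
        rw [map_pow, pow_mul, hα]
      let em : (ι → Fin p) → {e : ι →₀ ℕ // ∀ i, e i < p} := fun e =>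
        ⟨Finsupp.equivFunOnFinite.symm fun i => (e i : ℕ), fun i => (e i).2⟩
      have hem : Function.Injective em := fun e e' he => funext fun i => Fin.ext (by
        simpa [em] using DFunLike.congr_fun (congrArg Subtype.val he) i)
      have hli := Fintype.linearIndependent_iff.mp (hind.comp em hem)
        (fun e => ⟨frobenius K p (residue A (b.repr x e)), RingHom.mem_fieldRange.mpr ⟨_, rfl⟩⟩) (by
          refine Eq.trans (Finset.sum_congr rfl fun e _ => ?_) h4
          rw [Subfield.smul_def, smul_eq_mul]
          refine congrArg₂ _ rfl ?_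
          rw [Function.comp_apply, EGA41.pMonomial, Finsupp.prod_fintype _ _ (fun i => pow_zero _)]
          exact Finset.prod_congr rfl fun i _ => by simp [em])
      rw [← b.sum_repr x]
      refine Submodule.sum_mem _ fun e _ => ?_
      rw [Algebra.smul_def]
      refine Ideal.mul_mem_right _ _ (Ideal.mem_map_of_mem _ ?_)
      have h5 := congrArg Subtype.val (hli e)
      exact (residue_eq_zero_iff _).mp (pow_eq_zero_iff hp0.ne' |>.mp h5)
  haveI : (RingHom.ker (φ : B →+* L)).IsPrime := RingHom.ker_isPrime _
  have hmax : ((maximalIdeal A).map (algebraMap A B)).IsMaximal := by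
    rw [hmker]
    refine Ideal.isMaximal_of_isIntegral_of_isMaximal_comap (R := A) _ ?_
    have : (RingHom.ker (φ : B →+* L)).comap (algebraMap A B) = maximalIdeal A := by
      refine (IsLocalRing.maximalIdeal.isMaximal A).eq_of_le (Ideal.IsPrime.ne_top (Ideal.IsPrime.comap _)) ?_ |>.symm
      rw [← Ideal.map_le_iff_le_comap, hmker]
    rw [this]; infer_instance
  have huniq : ∀ M : Ideal B, M.IsMaximal → M = (maximalIdeal A).map (algebraMap A B) := fun M hM => by
    refine (hmax.eq_of_le hM.ne_top (Ideal.map_le_iff_le_comap.mpr ?_)).symm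
    haveI := hM
    exact (IsLocalRing.eq_maximalIdeal (Ideal.isMaximal_comap_of_isIntegral_of_isMaximal (R := A) M)).ge
  haveI hloc : IsLocalRing B := IsLocalRing.of_unique_max_ideal ⟨_, hmax, huniq⟩
  exact ⟨hloc, huniq _ (IsLocalRing.maximalIdeal.isMaximal B)⟩

end Groth.Agent.S4605
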