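import Groth.Statements.S4607
import Mathlib.RingTheory.Flat.FaithfullyFlat.Basic
import Mathlib.RingTheory.Spectrum.Prime.RingHom
import Mathlib.LinearAlgebra.TensorProduct.Tower

set_option autoImplicit false
set_option linter.style.haveILetI false
universe u
open TensorProduct
open EGA41

namespace Groth.Agent.S4607

/-- First assertion, case of two factors: for A-algebras A' and A'' the image of Spec(A' ⊗_A A'') in
Spec A is the intersection of the images of Spec A' and Spec A''. -/
theorem result {A A' A'' : Type u} [CommRing A] [CommRing A'] [CommRing A'']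
    [Algebra A A'] [Algebra A A''] :
    Set.range (PrimeSpectrum.comap (algebraMap A (A' ⊗[A] A''))) =
      Set.range (PrimeSpectrum.comap (algebraMap A A')) ∩ Set.range (PrimeSpectrum.comap (algebraMap A A'')) := by
  ext p
  simp only [Set.mem_inter_iff, ← PrimeSpectrum.nontrivial_iff_mem_rangeComap]
  let κ := p.asIdeal.ResidueField
  have e : TensorProduct A κ (TensorProduct A A' A'') ≃ₗ[κ]
      TensorProduct κ (TensorProduct A κ A') (TensorProduct A κ A'') :=
    TensorProduct.AlgebraTensorModule.distribBaseChange A κ A' A''
  constructor
  · intro h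
    have h' := e.toEquiv.nontrivial_congr.mp h
    refine ⟨?_, ?_⟩ <;> by_contra hc <;> rw [not_nontrivial_iff_subsingleton] at hc <;>
      exact not_nontrivial_iff_subsingleton.mpr inferInstance h'
  · rintro ⟨h', h''⟩
    haveI := h'; haveI := h''
    exact e.toEquiv.nontrivial_congr.mpr
      (Module.FaithfullyFlat.lTensor_nontrivial κ (TensorProduct A κ A') (TensorProduct A κ A''))

end Groth.Agent.S4607
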