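import Groth.Statements.S4608
import Mathlib.AlgebraicGeometry.Morphisms.ClosedImmersion
import Mathlib.AlgebraicGeometry.Morphisms.Affine
-- import your own Groth.Agent.* helpers here

set_option autoImplicit false
universe u
open AlgebraicGeometry CategoryTheory CategoryTheory.Limits
open EGA41

namespace Groth.Agent.S4608

/-- A morphism from a disjoint union X' ⨿ X'' → Y is quasi-compact if and only if its two components
are. -/
theorem result {X' X'' Y : Scheme.{u}} (f' : X' ⟶ Y) (f'' : X'' ⟶ Y) :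
    QuasiCompact (coprod.desc f' f'') ↔ QuasiCompact f' ∧ QuasiCompact f'' := by
  constructor
  · intro h
    haveI : IsClosedImmersion (coprod.inl : X' ⟶ X' ⨿ X'') := IsClosedImmersion.of_isPreimmersion _ (by
      rw [(isCompl_range_inl_inr X' X'').eq_compl]
      exact (coprod.inr : X'' ⟶ X' ⨿ X'').isOpenEmbedding.isOpen_range.isClosed_compl)
    haveI : IsClosedImmersion (coprod.inr : X'' ⟶ X' ⨿ X'') := IsClosedImmersion.of_isPreimmersion _ (by
      rw [(isCompl_range_inl_inr X' X'').symm.eq_compl]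
      exact (coprod.inl : X' ⟶ X' ⨿ X'').isOpenEmbedding.isOpen_range.isClosed_compl)
    refine ⟨?_, ?_⟩
    · rw [← coprod.inl_desc f' f'']; infer_instance
    · rw [← coprod.inr_desc f' f'']; infer_instance
  · rintro ⟨h1, h2⟩
    refine ⟨fun U hU hUc => ?_⟩
    have : (coprod.desc f' f'') ⁻¹' U = (coprod.inl : X' ⟶ X' ⨿ X'') '' (f' ⁻¹' U) ∪
        (coprod.inr : X'' ⟶ X' ⨿ X'') '' (f'' ⁻¹' U) := by
      ext z
      obtain ⟨(z | z), rfl⟩ := (coprodMk X' X'').surjective z
      · rw [coprodMk_inl, Set.mem_preimage, ← Scheme.Hom.comp_apply, coprod.inl_desc]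
        refine ⟨fun hz => Or.inl ⟨z, hz, rfl⟩, ?_⟩
        rintro (⟨w, hw, e⟩ | ⟨w, hw, e⟩)
        · exact ((coprod.inl : X' ⟶ X' ⨿ X'').isOpenEmbedding.injective e) ▸ hw
        · exact absurd e (inr_ne_inl _ _ _ _)
      · rw [coprodMk_inr, Set.mem_preimage, ← Scheme.Hom.comp_apply, coprod.inr_desc]
        refine ⟨fun hz => Or.inr ⟨z, hz, rfl⟩, ?_⟩
        rintro (⟨w, hw, e⟩ | ⟨w, hw, e⟩)
        · exact absurd e (inl_ne_inr _ _ _ _)
        · exact ((coprod.inr : X'' ⟶ X' ⨿ X'').isOpenEmbedding.injective e) ▸ hw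
    rw [this]
    exact ((h1.isCompact_preimage U hU hUc).image (Scheme.Hom.continuous _)).union ((h2.isCompact_preimage U hU hUc).image (Scheme.Hom.continuous _))

end Groth.Agent.S4608
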