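import Groth.Statements.S4610
import Mathlib.RingTheory.AdjoinRoot
import Mathlib.RingTheory.AlgebraTower
import Mathlib.RingTheory.MvPolynomial.Basic
import Mathlib.LinearAlgebra.Dimension.FreeAndStrongRankCondition

set_option autoImplicit false
set_option linter.style.haveILetI false
universe u
open EGA41

namespace Groth.Agent.S4610

/-- Let A be a nonzero ring and F_1, …, F_r monic one-variable polynomials of degrees d_1, …, d_r; then
A[T_1, …, T_r]/(F_1(T_1), …, F_r(T_r)) is a free A-module of rank ∏ d_i. (The published statement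
assumes A local with maximal ideal of square zero and A' local, which this assertion does not use;
its bound [K' : K] ≤ d and part (ii) are not stated.) -/
theorem result {A : Type u} [CommRing A] [Nontrivial A]
    {r : ℕ} (F : Fin r → Polynomial A) (hF : ∀ i, (F i).Monic) :
    Module.Free A (MvPolynomial (Fin r) A ⧸ Ideal.span (Set.range fun i => Polynomial.aeval (MvPolynomial.X i : MvPolynomial (Fin r) A) (F i))) ∧
      Module.finrank A (MvPolynomial (Fin r) A ⧸ Ideal.span (Set.range fun i => Polynomial.aeval (MvPolynomial.X i : MvPolynomial (Fin r) A) (F i))) =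
        Finset.univ.prod fun i => (F i).natDegree := by

  induction r with
  | zero =>
    have hb : (Ideal.span (Set.range fun i => Polynomial.aeval (MvPolynomial.X i : MvPolynomial (Fin 0) A) (F i))) = ⊥ := by
      rw [Set.range_eq_empty, Ideal.span_empty]
    let e : (MvPolynomial (Fin 0) A ⧸ Ideal.span (Set.range fun i => Polynomial.aeval (MvPolynomial.X i : MvPolynomial (Fin 0) A) (F i))) ≃ₗ[A] A :=
      ((Ideal.quotientEquivAlgOfEq A hb).trans ((AlgEquiv.quotientBot A _).trans (MvPolynomial.isEmptyAlgEquiv A (Fin 0)))).toLinearEquiv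
    exact ⟨Module.Free.of_equiv e.symm, by rw [e.finrank_eq, Module.finrank_self]; simp⟩
  | succ r ih =>
    let G : Fin r → Polynomial A := fun i => F i.succ
    let I := Ideal.span (Set.range fun i => Polynomial.aeval (MvPolynomial.X i : MvPolynomial (Fin r) A) (G i))
    let Q := MvPolynomial (Fin r) A ⧸ I
    obtain ⟨hfree, hrank⟩ := ih G fun i => hF i.succ
    let J := Ideal.span (Set.range fun i => Polynomial.aeval (MvPolynomial.X i : MvPolynomial (Fin (r + 1)) A) (F i))
    let f0 : Polynomial Q := (F 0).map (algebraMap A Q)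
    let fwd₀ : MvPolynomial (Fin (r + 1)) A →ₐ[A] AdjoinRoot f0 :=
      MvPolynomial.aeval (Fin.cons (AdjoinRoot.root f0) fun i => AdjoinRoot.of f0 (Ideal.Quotient.mk I (MvPolynomial.X i)))
    have hfwd : ∀ a ∈ J, fwd₀ a = 0 := by
      intro a ha
      have : J ≤ RingHom.ker fwd₀.toRingHom := by
        refine Ideal.span_le.mpr ?_
        rintro _ ⟨i, rfl⟩
        rw [SetLike.mem_coe, RingHom.mem_ker]
        show fwd₀ (Polynomial.aeval _ (F i)) = 0
        rw [← Polynomial.aeval_algHom_apply]
        simp only [fwd₀, MvPolynomial.aeval_X]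
        refine Fin.cases ?_ (fun j => ?_) i
        · rw [Fin.cons_zero, ← Polynomial.aeval_map_algebraMap Q]
          exact (AdjoinRoot.aeval_eq f0).trans AdjoinRoot.mk_self
        · rw [Fin.cons_succ]
          have hz : Polynomial.aeval (Ideal.Quotient.mkₐ A I (MvPolynomial.X j)) (G j) = 0 := by
            rw [Polynomial.aeval_algHom_apply]
            exact Ideal.Quotient.eq_zero_iff_mem.mpr (Ideal.subset_span ⟨j, rfl⟩)
          have := congrArg (IsScalarTower.toAlgHom A Q (AdjoinRoot f0)) hz
          rw [← Polynomial.aeval_algHom_apply, map_zero] at this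
          exact this
      exact this ha
    let fwd := Ideal.Quotient.liftₐ J fwd₀ hfwd
    let rn : MvPolynomial (Fin r) A →ₐ[A] MvPolynomial (Fin (r + 1)) A ⧸ J :=
      (Ideal.Quotient.mkₐ A J).comp (MvPolynomial.rename Fin.succ)
    let i0 : Q →ₐ[A] MvPolynomial (Fin (r + 1)) A ⧸ J := Ideal.Quotient.liftₐ I rn fun a ha => by
      have : I ≤ RingHom.ker rn.toRingHom := by
        refine Ideal.span_le.mpr ?_
        rintro _ ⟨i, rfl⟩
        rw [SetLike.mem_coe, RingHom.mem_ker]
        show rn (Polynomial.aeval _ (G i)) = 0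
        rw [← Polynomial.aeval_algHom_apply]
        simp only [rn, AlgHom.comp_apply, MvPolynomial.rename_X]
        rw [Polynomial.aeval_algHom_apply]
        exact Ideal.Quotient.eq_zero_iff_mem.mpr (Ideal.subset_span ⟨i.succ, rfl⟩)
      exact this ha
    let bwd : AdjoinRoot f0 →ₐ[A] MvPolynomial (Fin (r + 1)) A ⧸ J :=
      AdjoinRoot.liftAlgHom f0 i0 (Ideal.Quotient.mk J (MvPolynomial.X 0)) (by
        rw [Polynomial.eval₂_map]
        rw [i0.comp_algebraMap, ← Polynomial.aeval_def]
        show Polynomial.aeval (Ideal.Quotient.mkₐ A J (MvPolynomial.X 0)) (F 0) = 0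
        rw [Polynomial.aeval_algHom_apply]
        exact Ideal.Quotient.eq_zero_iff_mem.mpr (Ideal.subset_span ⟨0, rfl⟩))
    have h1 : bwd.comp fwd = AlgHom.id A _ := by
      refine Ideal.Quotient.algHom_ext _ (MvPolynomial.algHom_ext fun i => ?_)
      show bwd (fwd₀ (MvPolynomial.X i)) = Ideal.Quotient.mk J (MvPolynomial.X i)
      simp only [fwd₀, MvPolynomial.aeval_X]
      refine Fin.cases ?_ (fun j => ?_) i
      · rw [Fin.cons_zero]; exact AdjoinRoot.liftAlgHom_root _ _ _ _
      · rw [Fin.cons_succ]
        refine (AdjoinRoot.liftAlgHom_of _ _ _ _ _).trans ?_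
        show rn (MvPolynomial.X j) = _
        simp [rn]
    have h2 : fwd.comp bwd = AlgHom.id A _ := by
      have hi : ∀ q : Q, fwd (i0 q) = AdjoinRoot.of f0 q := by
        have : fwd.comp i0 = IsScalarTower.toAlgHom A Q (AdjoinRoot f0) :=
          Ideal.Quotient.algHom_ext _ (MvPolynomial.algHom_ext fun j => by
            show fwd₀ (MvPolynomial.rename Fin.succ (MvPolynomial.X j)) = _
            simp [fwd₀]; rfl)
        exact fun q => AlgHom.congr_fun this q
      refine AlgHom.ext fun z => ?_
      induction z using AdjoinRoot.induction_on with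
      | _ p =>
        show fwd (bwd (AdjoinRoot.mk f0 p)) = AdjoinRoot.mk f0 p
        induction p using Polynomial.induction_on' with
        | add p q hp hq => simp only [map_add, hp, hq]
        | monomial n c =>
          rw [AdjoinRoot.liftAlgHom_mk, Polynomial.eval₂_monomial, map_mul, map_pow]
          show fwd (i0 c) * fwd₀ (MvPolynomial.X 0) ^ n = _
          rw [hi, ← Polynomial.C_mul_X_pow_eq_monomial, map_mul, map_pow, AdjoinRoot.mk_C, AdjoinRoot.mk_X]
          simp [fwd₀]
    let e : (MvPolynomial (Fin (r + 1)) A ⧸ J) ≃ₗ[A] AdjoinRoot f0 := (AlgEquiv.ofAlgHom fwd bwd h2 h1).toLinearEquiv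
    suffices Module.Free A (AdjoinRoot f0) ∧
        Module.finrank A (AdjoinRoot f0) = (F 0).natDegree * Module.finrank A Q from
      ⟨(haveI := this.1; Module.Free.of_equiv e.symm), by
        rw [show Module.finrank A (MvPolynomial (Fin (r + 1)) A ⧸ J) = _ from e.finrank_eq, this.2, hrank, Fin.prod_univ_succ]⟩
    rcases subsingleton_or_nontrivial Q with hQ | hQ
    · haveI := hQ
      haveI : Subsingleton (AdjoinRoot f0) := Module.subsingleton Q _
      haveI := hfree
      exact ⟨Module.Free.of_subsingleton A _, by simp [Module.finrank_zero_of_subsingleton]⟩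
    · have hm : f0.Monic := (hF 0).map _
      haveI := hfree
      haveI : Module.Free Q (AdjoinRoot f0) := hm.free_adjoinRoot
      refine ⟨Module.Free.trans (R := A) (S := Q) (M := AdjoinRoot f0), ?_⟩
      rw [← Module.finrank_mul_finrank A Q (AdjoinRoot f0), (AdjoinRoot.powerBasis' hm).finrank,
        AdjoinRoot.powerBasis'_dim, (hF 0).natDegree_map, mul_comm]

end Groth.Agent.S4610
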