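import Groth.Statements.S4611


set_option autoImplicit false
set_option linter.style.haveILetI false
universe u
open EGA41

namespace Groth.Agent.S4611

/-- A local algebra essentially of finite type over a ring A is A-isomorphic to a quotient of a
localization A[T_1, …, T_n]_q of a polynomial algebra at a prime ideal q; stated as the existence of
a surjective A-algebra map from such a localization. -/
theorem result {A B : Type u} [CommRing A]
    [CommRing B] [IsLocalRing B] [Algebra A B] [Algebra.EssFiniteType A B] :
    ∃ (n : ℕ) (q : Ideal (MvPolynomial (Fin n) A)) (_ : q.IsPrime)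
      (φ : Localization.AtPrime q →ₐ[A] B), Function.Surjective φ := by
  classical
  let s := Algebra.EssFiniteType.finset A B
  let g : Fin s.card → B := fun i => (s.equivFin.symm i).1
  let f : MvPolynomial (Fin s.card) A →ₐ[A] B := MvPolynomial.aeval g
  let q := (IsLocalRing.maximalIdeal B).comap f.toRingHom
  haveI : q.IsPrime := Ideal.IsPrime.comap _
  have hu : ∀ y : q.primeCompl, IsUnit (f y) := fun y => of_not_not fun h => y.2 h
  let φ : Localization.AtPrime q →ₐ[A] B := IsLocalization.liftAlgHom (M := q.primeCompl) hu
  refine ⟨s.card, q, inferInstance, φ, fun b => ?_⟩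
  have hrange : Algebra.EssFiniteType.subalgebra A B ≤ f.range := by
    refine Algebra.adjoin_le fun x hx => ⟨MvPolynomial.X (s.equivFin ⟨x, hx⟩), ?_⟩
    simp [f, g]
  obtain ⟨a, t, rfl⟩ := IsLocalization.exists_mk'_eq (Algebra.EssFiniteType.submonoid A B) b
  obtain ⟨a', ha⟩ := hrange a.2
  obtain ⟨t', ht⟩ := hrange t.1.2
  have ht' : IsUnit (f t') := by
    have h : f t' = (t.1 : B) := ht
    rw [h]; exact t.2
  refine ⟨IsLocalization.mk' _ a' (⟨t', fun h => h ht'⟩ : q.primeCompl), ?_⟩
  show IsLocalization.lift hu (IsLocalization.mk' _ a' _) = _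
  rw [IsLocalization.lift_mk'_spec, ha]
  show _ = f t' * _
  rw [show f t' = (t.1 : B) from ht, mul_comm]
  exact (IsLocalization.mk'_spec B a t).symm

end Groth.Agent.S4611
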