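import Groth.Statements.S4612
import Groth.Agent.L06.NagataSep
import Groth.Agent.S4574
import Mathlib.FieldTheory.Separable

set_option autoImplicit false
set_option maxSynthPendingDepth 3
set_option linter.style.haveILetI false
universe u
open IsLocalRing
open EGA41

namespace Groth.Agent.S4612

/-- Nagata's Jacobian criterion for quotients of power series rings: let k be a field, A = k[[T_1, …,
T_r]], q ⊆ p ideals of A with p prime, B = A/q. Suppose A/p contains a sub-k-algebra isomorphic to a
power series algebra k[[X_1, …, X_s]] over which A/p is finite and such that the fraction field L of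
A/p is a separable extension of the fraction field L' of k[[X_1, …, X_s]]; here this is given as an
injective k-algebra map k[[X_1, …, X_s]] → A/p making A/p a finite module, with fraction fields L',
L and a compatible L'-algebra structure on L. Then the following are equivalent: B_p is formally
smooth over k for the adic topology of its maximal ideal; there are k-derivations D_1, …, D_m of A
into itself and f_1, …, f_m ∈ q generating qA_p with det(D_i f_j) ∉ p; B_p is a regular local ring.
(The published statement remarks that the hypothesis on A/p always holds when k has characteristic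
zero.) -/
theorem result {k : Type u} [Field k] (r : ℕ)
    (q p : Ideal (MvPowerSeries (Fin r) k)) [p.IsPrime] (hqp : q ≤ p) [(p.map (Ideal.Quotient.mk q)).IsPrime]
    (s : ℕ) [Algebra (MvPowerSeries (Fin s) k) (MvPowerSeries (Fin r) k ⧸ p)]
    [IsScalarTower k (MvPowerSeries (Fin s) k) (MvPowerSeries (Fin r) k ⧸ p)]
    [Module.Finite (MvPowerSeries (Fin s) k) (MvPowerSeries (Fin r) k ⧸ p)]
    (hinj : Function.Injective (algebraMap (MvPowerSeries (Fin s) k) (MvPowerSeries (Fin r) k ⧸ p)))
    {L' L : Type u} [Field L'] [Field L]
    [Algebra (MvPowerSeries (Fin s) k) L'] [IsFractionRing (MvPowerSeries (Fin s) k) L']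
    [Algebra (MvPowerSeries (Fin r) k ⧸ p) L] [IsFractionRing (MvPowerSeries (Fin r) k ⧸ p) L]
    [Algebra L' L] [Algebra (MvPowerSeries (Fin s) k) L]
    [IsScalarTower (MvPowerSeries (Fin s) k) (MvPowerSeries (Fin r) k ⧸ p) L]
    [IsScalarTower (MvPowerSeries (Fin s) k) L' L] [Algebra.IsSeparable L' L] :
    [CAlgX.IsAdicFormallySmooth k (Localization.AtPrime (p.map (Ideal.Quotient.mk q)))
        (maximalIdeal (Localization.AtPrime (p.map (Ideal.Quotient.mk q)))),
     ∃ (m : ℕ) (D : Fin m → Derivation k (MvPowerSeries (Fin r) k) (MvPowerSeries (Fin r) k))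
        (f : Fin m → MvPowerSeries (Fin r) k), (∀ i, f i ∈ q) ∧
        q.map (algebraMap (MvPowerSeries (Fin r) k) (Localization.AtPrime p)) =
          Ideal.span (Set.range fun i => algebraMap (MvPowerSeries (Fin r) k) (Localization.AtPrime p) (f i)) ∧
        Matrix.det (Matrix.of fun i j => D i (f j)) ∉ p,
     IsRegularLocalRing (Localization.AtPrime (p.map (Ideal.Quotient.mk q)))].TFAE := by
  classical
  let A := MvPowerSeries (Fin r) k
  haveI : IsRegularLocalRing A := Groth.L01.PowSerReg.isRegularLocalRing k r
  haveI : IsDomain A := Groth.L01.isDomain_of_regular A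
  haveI : IsRegularRing A := Groth.Agent.S5784.result k r
  haveI : IsRegularLocalRing (Localization.AtPrime p) := IsRegularRing.isRegularLocalRing_localization p
  have hAp := Groth.Agent.S4574.result (Groth.L06.Nagata.adicSmooth_powerSeries (K := k) (r := r)) p
  tfae_have 2 → 1 := fun ⟨m, D, f, hf, hgen, hdet⟩ =>
    Groth.L06.Nagata.adicSmooth_of_det q hqp hAp D f hf hgen hdet
  tfae_have 1 → 3 := fun h => Groth.L06.Nagata.regular_quotient_of_adicSmooth q hqp h
  tfae_have 3 → 2 := fun h => by
    obtain ⟨m, g, hgq, hgen, hind⟩ := Groth.L06.Nagata.gens_of_regular q hqp h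
    obtain ⟨d, f, hd, hf, hfgen⟩ := Groth.L06.Nagata.exists_parameters (𝔭 := p)
    have hL := Groth.L06.Nagata.isResidue_residueField p
    let T := MvPowerSeries (Fin s) k
    haveI : IsDomain T := NoZeroDivisors.to_isDomain _
    have hsep : ∀ b : A ⧸ p, ∃ P : Polynomial T, P.eval₂ (algebraMap T (A ⧸ p)) b = 0 ∧
        P.derivative.eval₂ (algebraMap T (A ⧸ p)) b ≠ 0 := by
      intro b
      let z := algebraMap (A ⧸ p) L b
      have hz : IsSeparable L' z := Algebra.IsSeparable.isSeparable L' z
      obtain ⟨c, hc⟩ := IsLocalization.integerNormalization_map_to_map (nonZeroDivisors T) (minpoly L' z)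
      let P := IsLocalization.integerNormalization (nonZeroDivisors T) (minpoly L' z)
      have hev : ∀ Q : Polynomial T, algebraMap (A ⧸ p) L (Q.eval₂ (algebraMap T (A ⧸ p)) b) =
          Polynomial.aeval z (Q.map (algebraMap T L')) := fun Q => by
        rw [← Polynomial.aeval_def, Polynomial.aeval_map_algebraMap, Polynomial.aeval_algebraMap_apply]
      have hinjL : Function.Injective (algebraMap (A ⧸ p) L) := IsFractionRing.injective _ _
      have hP : P.map (algebraMap T L') = (algebraMap T L' c) • minpoly L' z := hc.trans (algebraMap_smul L' (c : T) _).symm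
      refine ⟨P, hinjL ?_, fun h0 => ?_⟩
      · rw [hev, hP, map_smul, minpoly.aeval, smul_zero, map_zero]
      · have h1 := hev P.derivative
        rw [h0, map_zero, ← Polynomial.derivative_map, hP, Polynomial.derivative_smul, map_smul] at h1
        refine Polynomial.Separable.aeval_derivative_ne_zero hz (minpoly.aeval L' z) ?_
        exact (smul_eq_zero.mp h1.symm).resolve_left
          ((map_ne_zero_iff _ (IsFractionRing.injective T L')).mpr (nonZeroDivisors.coe_ne_zero c))
    have hfC : ∀ c, algebraMap T (A ⧸ p) (MvPowerSeries.C c) = Ideal.Quotient.mk p (MvPowerSeries.C c) := fun c =>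
      (IsScalarTower.algebraMap_apply k T (A ⧸ p) c).symm
    have hsurj := Groth.L06.Nagata.surj_separable p hL (algebraMap T (A ⧸ p)) hinj
      (RingHom.finite_algebraMap.mpr inferInstance) hfC hsep f hf hfgen hd
    obtain ⟨σ, hσ⟩ := Groth.L06.Nagata.exists_det_derivations hL (fun i => MvPowerSeries.pderiv k i) g
      fun c hc => funext (Groth.L06.Nagata.eq_zero_of_surj hL
        (fun i => Groth.L06.Nagata.resDer p.ResidueField (MvPowerSeries.pderiv k i))
        (fun i => Groth.L06.Nagata.isDer_resDer _ _)
        f hf hfgen hsurj g (fun l => hqp (hgq l)) hind c hc)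
    exact ⟨m, fun i => MvPowerSeries.pderiv k (σ i), g, hgq, hgen, hσ⟩
  tfae_finish

end Groth.Agent.S4612
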