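import Groth.Statements.S4613
import Groth.Agent.L13.FixedLocus.Glue
import Groth.Agent.L19.Approx.Closed
-- import your own Groth.Agent.* helpers here

set_option autoImplicit false
universe u
open AlgebraicGeometry CategoryTheory
open EGA41

namespace Groth.Agent.S4613

/-- For a closed immersion j : X → Y: j is locally of finite presentation if and only if its ideal sheaf
is of finite type, i.e. for every affine open U of Y the kernel of Γ(U, O_Y) → Γ(j⁻¹U, O_X) is
finitely generated. (An immersion with image closed in an open U reduces to this case.) -/
theorem result {X Y : Scheme.{u}} (j : X ⟶ Y)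
    [IsClosedImmersion j] :
    LocallyOfFinitePresentation j ↔ ∀ U : Y.affineOpens, (RingHom.ker (j.app U).hom).FG := by
  refine ⟨fun h U => ?_, Groth.L13.FixedLocus.locallyOfFinitePresentation_of_fg j⟩
  rw [← Scheme.Hom.ker_apply]
  exact Groth.L19.Approx.fgOn_ker j U le_top

end Groth.Agent.S4613
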