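
import Groth.Statements.S4617
import Groth.Agent.L22.GeomConn.Irred

set_option autoImplicit false
open CategoryTheory AlgebraicGeometry
universe u
open FBase

namespace Groth.Agent.S4617

/-- Let X be a scheme over a field k, K any extension field of k and Ω an algebraically closed extension
field of k. Then the set of irreducible components of X ⊗_k K has cardinality at most that of the
set of irreducible components of X ⊗_k Ω. In particular the cardinality of the set of irreducible
components of X ⊗_k Ω does not depend on the algebraically closed extension Ω. -/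
theorem result {k K Ω : Type u} [Field k] [Field K] [Algebra k K]
    [Field Ω] [Algebra k Ω] [IsAlgClosed Ω] {X : Scheme.{u}} (f : X ⟶ Spec (CommRingCat.of k)) :
    Cardinal.mk ↥(irreducibleComponents ↥(FBase.bc f K)) ≤ Cardinal.mk ↥(irreducibleComponents ↥(FBase.bc f Ω)) := by
  obtain ⟨_, _⟩ := Groth.L22.GeomConn.exists_closure (k := k) K
  let j : AlgebraicClosure k →ₐ[k] Ω := IsAlgClosed.lift
  letI := j.toRingHom.toAlgebra
  haveI : IsScalarTower k (AlgebraicClosure k) Ω := .of_algebraMap_eq fun x => (j.commutes x).symm
  have := Groth.L22.GeomConn.geometricallyIrreducible_bcMap f (AlgebraicClosure k) (AlgebraicClosure K)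
  have := Groth.L22.GeomConn.geometricallyIrreducible_bcMap f (AlgebraicClosure k) Ω
  rw [Cardinal.mk_congr ((Groth.L22.GeomConn.bcMap f (AlgebraicClosure k) Ω).irreducibleComponentsEquiv (Scheme.Hom.isOpenMap _))]
  rw [← Cardinal.mk_congr ((Groth.L22.GeomConn.bcMap f (AlgebraicClosure k) (AlgebraicClosure K)).irreducibleComponentsEquiv (Scheme.Hom.isOpenMap _))]
  have hflat := Groth.L22.GeomConn.flat_bcMap f K (AlgebraicClosure K)
  let q := Groth.L22.GeomConn.bcMap f K (AlgebraicClosure K)
  refine Cardinal.mk_le_of_surjective (f := fun T : ↥(irreducibleComponents ↥(FBase.bc f (AlgebraicClosure K))) =>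
    (⟨closure {q T.2.1.genericPoint}, Groth.L22.GeomConn.closure_mem_irreducibleComponents
      ((Groth.L22.GeomConn.isMaxPt_genericPoint T.1 T.2).map q)⟩ : ↥(irreducibleComponents ↥(FBase.bc f K)))) fun S => ?_
  obtain ⟨s, hs⟩ := q.surjective S.2.1.genericPoint
  obtain ⟨t, ht, hts⟩ := Groth.L22.GeomConn.exists_isMaxPt_specializes s
  refine ⟨⟨closure {t}, Groth.L22.GeomConn.closure_mem_irreducibleComponents ht⟩, Subtype.ext ?_⟩
  have hg : (Groth.L22.GeomConn.closure_mem_irreducibleComponents ht).1.genericPoint = t :=
    ((Groth.L22.GeomConn.closure_mem_irreducibleComponents ht).1.isGenericPoint_genericPoint isClosed_closure).eq rfl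
  show closure {q _} = S.1
  rw [hg, show q t = S.2.1.genericPoint from (Groth.L22.GeomConn.isMaxPt_genericPoint S.1 S.2) _ (hs ▸ hts.map q.continuous)]
  exact S.2.1.isGenericPoint_genericPoint (isClosed_of_mem_irreducibleComponents _ S.2)

end Groth.Agent.S4617
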