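
import Groth.Statements.S4618
import Groth.Agent.L22.GeomConn.Main

set_option autoImplicit false
open CategoryTheory AlgebraicGeometry
universe u
open FBase

namespace Groth.Agent.S4618

/-- Let X be a scheme over a field k, K any extension field of k and Ω an algebraically closed extension
field of k. Then the set of connected components of X ⊗_k K has cardinality at most that of the set
of connected components of X ⊗_k Ω. In particular the cardinality of the set of connected components
of X ⊗_k Ω does not depend on the algebraically closed extension Ω. -/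
theorem result {k K Ω : Type u} [Field k] [Field K] [Algebra k K]
    [Field Ω] [Algebra k Ω] [IsAlgClosed Ω] {X : Scheme.{u}} (f : X ⟶ Spec (CommRingCat.of k)) :
    Cardinal.mk (_root_.ConnectedComponents ↥(FBase.bc f K)) ≤ Cardinal.mk (_root_.ConnectedComponents ↥(FBase.bc f Ω)) := by
  obtain ⟨_, _⟩ := Groth.L22.GeomConn.exists_closure (k := k) K
  let j : AlgebraicClosure k →ₐ[k] Ω := IsAlgClosed.lift
  letI := j.toRingHom.toAlgebra
  haveI : IsScalarTower k (AlgebraicClosure k) Ω := .of_algebraMap_eq fun x => (j.commutes x).symm
  have := Groth.L22.GeomConn.geometricallyConnected_bcMap f (AlgebraicClosure k) (AlgebraicClosure K)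
  have := Groth.L22.GeomConn.geometricallyConnected_bcMap f (AlgebraicClosure k) Ω
  rw [Cardinal.mk_congr (Equiv.ofBijective _
    (Groth.L22.GeomConn.bijective_connectedComponentsMap (Groth.L22.GeomConn.bcMap f (AlgebraicClosure k) Ω)))]
  rw [← Cardinal.mk_congr (Equiv.ofBijective _
    (Groth.L22.GeomConn.bijective_connectedComponentsMap (Groth.L22.GeomConn.bcMap f (AlgebraicClosure k) (AlgebraicClosure K))))]
  refine Cardinal.mk_le_of_surjective
    (f := Continuous.connectedComponentsMap (Groth.L22.GeomConn.bcMap f K (AlgebraicClosure K)).continuous) fun c => ?_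
  obtain ⟨z, rfl⟩ := _root_.ConnectedComponents.surjective_coe c
  obtain ⟨z', rfl⟩ := (Groth.L22.GeomConn.bcMap f K (AlgebraicClosure K)).surjective z
  exact ⟨_root_.ConnectedComponents.mk z', rfl⟩

end Groth.Agent.S4618
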