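
import Groth.Statements.S4621
import Groth.Agent.L22.GeomConn.Main

set_option autoImplicit false
open CategoryTheory AlgebraicGeometry
universe u
open FBase

namespace Groth.Agent.S4621

/-- Let h : Y → X be a morphism of schemes over a field k, with Y nonempty and geometrically connected
over k. Then the connected component of X containing the (connected) image h(Y) is geometrically
connected: for every extension field K of k, the inverse image in X ⊗_k K of the connected component
of h(y), for a point y of Y, is connected. -/
theorem result {k K : Type u} [Field k] [Field K] [Algebra k K]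
    {X Y : Scheme.{u}} (f : X ⟶ Spec (CommRingCat.of k)) (g : Y ⟶ Spec (CommRingCat.of k)) (h : Y ⟶ X) (w : h ≫ f = g)
    [GeometricallyConnected g] (y : Y) :
    _root_.IsConnected (⇑(FBase.bcπ f K) ⁻¹' connectedComponent (h y)) := by
  refine Groth.L22.GeomConn.isConnected_preimage_of_algClosure f (h y) ?_ K
  let m := Limits.pullback.map g (Spec.map (CommRingCat.ofHom (algebraMap k (AlgebraicClosure k)))) f
    (Spec.map (CommRingCat.ofHom (algebraMap k (AlgebraicClosure k)))) h (𝟙 _) (𝟙 _)
    (by rw [Category.comp_id, w]) (by rw [Category.comp_id, Category.id_comp])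
  have hc : ConnectedSpace ↥(Limits.pullback g (Spec.map (CommRingCat.ofHom (algebraMap k (AlgebraicClosure k))))) :=
    AlgebraicGeometry.geometrically_iff_of_isClosedUnderIsomorphisms.mp
      GeometricallyConnected.geometrically_connectedSpace _ _
  refine Groth.L22.GeomConn.isConnected_preimage_of_fibre f _ (h y) _
    (_root_.isPreconnected_range m.continuous) ?_
  intro z hz
  exact (Scheme.Pullback.range_map _ _ _ _ _ _ _ _ _).symm.subset ⟨⟨y, (show FBase.bcπ f _ z = h y from hz).symm⟩,
    ⟨(Limits.pullback.snd f _) z, rfl⟩⟩

end Groth.Agent.S4621
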