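import Groth.Statements.S4622
import Mathlib.FieldTheory.IsAlgClosed.AlgebraicClosure
import Mathlib.FieldTheory.PurelyInseparable.Basic
import Mathlib.AlgebraicGeometry.Morphisms.UniversallyInjective
import Groth.Agent.L07.Chevalley
import Groth.Agent.L20.UnivHomeo
-- import your own Groth.Agent.* helpers here

set_option autoImplicit false
open CategoryTheory AlgebraicGeometry
universe u
open FBase

namespace Groth.Agent.S4622

/-- Let k be a separably closed field, k' an algebraic closure of k and X a scheme over k. Then the
projection X ⊗_k k' → X is a universal homeomorphism. -/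
theorem result {k k' : Type u} [Field k] [IsSepClosed k] [Field k'] [Algebra k k']
    [IsAlgClosure k k'] {X : Scheme.{u}} (f : X ⟶ Spec (CommRingCat.of k)) :
    FlatMor.IsUnivHomeo (FBase.bcπ f k') := by
  haveI := IsAlgClosure.isAlgebraic (R := k) (K := k')
  haveI : IsPurelyInseparable k k' := inferInstance
  let φ : CommRingCat.of k ⟶ CommRingCat.of k' := CommRingCat.ofHom (algebraMap k k')
  have h : FlatMor.IsUnivHomeo (Spec.map φ) := by
    refine (Groth.L20.isUnivHomeo_iff _).2 ⟨?_, ?_, ⟨fun x => ⟨(default : PrimeSpectrum k'), Subsingleton.elim (α := PrimeSpectrum k) _ x⟩⟩⟩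
    · haveI : IsIntegralHom (Spec.map φ) := by
        rw [IsIntegralHom.SpecMap_iff]
        exact algebraMap_isIntegral_iff.2 inferInstance
      infer_instance
    · refine ((tfae_universallyInjective (Spec.map φ)).out 1 0).1 fun (K : Type u) [hK : Field K] a b hab => ?_
      obtain ⟨α, rfl⟩ := Spec.map_surjective a
      obtain ⟨β, rfl⟩ := Spec.map_surjective b
      have hab' : φ ≫ α = φ ≫ β := Spec.map_injective (by simpa only [Spec.map_comp] using hab)
      letI : Algebra k K := (φ ≫ α).hom.toAlgebra
      let A : k' →ₐ[k] K := ⟨α.hom, fun _ => rfl⟩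
      let B : k' →ₐ[k] K := ⟨β.hom, fun r => (congrArg (fun g => g.hom r) hab').symm⟩
      have hAB : A = B := Subsingleton.elim _ _
      exact congrArg Spec.map (CommRingCat.hom_ext (congrArg AlgHom.toRingHom hAB))
  exact Groth.L07.Chevalley.isUnivHomeo_of_isPullback
    (CategoryTheory.IsPullback.of_hasPullback f (Spec.map φ)).flip h

end Groth.Agent.S4622
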