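import Groth.Statements.S4623
-- import your own Groth.Agent.* helpers here

set_option autoImplicit false
open CategoryTheory AlgebraicGeometry
universe u
open FBase

namespace Groth.Agent.S4623

/-- Let h : X → Y be a surjective morphism of schemes over a field k. If X is geometrically irreducible
over k, then Y is geometrically irreducible over k. -/
theorem result {k : Type u} [Field k] {X Y : Scheme.{u}}
    (f : X ⟶ Spec (CommRingCat.of k)) (g : Y ⟶ Spec (CommRingCat.of k)) (h : X ⟶ Y) (w : h ≫ g = f)
    [Surjective h] [GeometricallyIrreducible f] : GeometricallyIrreducible g := by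
  refine ⟨fun K _ y Z fst snd hZ => ?_⟩
  haveI : IrreducibleSpace ↥(Limits.pullback f y) :=
    GeometricallyIrreducible.geometrically_irreducibleSpace _ _ _ (IsPullback.of_hasPullback f y)
  let m : Limits.pullback f y ⟶ Z := hZ.lift (Limits.pullback.fst f y ≫ h) (Limits.pullback.snd f y)
    (by rw [Category.assoc, w, Limits.pullback.condition])
  have hsq : IsPullback (Limits.pullback.fst f y) m h fst :=
    IsPullback.of_bot (by rw [hZ.lift_snd, w]; exact IsPullback.of_hasPullback f y) (hZ.lift_fst _ _ _).symm hZ
  haveI : Surjective m := MorphismProperty.of_isPullback hsq ‹Surjective h›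
  show IrreducibleSpace ↥Z
  rw [irreducibleSpace_def]
  rw [Set.top_eq_univ, ← Set.image_univ_of_surjective m.surjective]
  exact (IrreducibleSpace.isIrreducible_univ _).image _ m.continuous.continuousOn

end Groth.Agent.S4623
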