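
import Groth.Statements.S4624
import Groth.Agent.L22.GeomConn.Irred

set_option autoImplicit false
open CategoryTheory AlgebraicGeometry
universe u
open FBase

namespace Groth.Agent.S4624

/-- Let h : X → Y be a surjective morphism of schemes over a field k. If X is geometrically connected
over k, then Y is geometrically connected over k. -/
theorem result {k : Type u} [Field k] {X Y : Scheme.{u}}
    (f : X ⟶ Spec (CommRingCat.of k)) (g : Y ⟶ Spec (CommRingCat.of k)) (h : X ⟶ Y) (w : h ≫ g = f)
    [Surjective h] [GeometricallyConnected f] : GeometricallyConnected g := by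
  let kb := AlgebraicClosure k
  let m := Limits.pullback.map f (Spec.map (CommRingCat.ofHom (algebraMap k kb))) g
    (Spec.map (CommRingCat.ofHom (algebraMap k kb))) h (𝟙 _) (𝟙 _)
    (by rw [Category.comp_id, w]) (by rw [Category.comp_id, Category.id_comp])
  haveI hc : ConnectedSpace ↥(Limits.pullback f (Spec.map (CommRingCat.ofHom (algebraMap k kb)))) :=
    AlgebraicGeometry.geometrically_iff_of_isClosedUnderIsomorphisms.mp
      GeometricallyConnected.geometrically_connectedSpace _ _
  have hs : Function.Surjective m := fun z => by
    obtain ⟨y, hy⟩ := h.surjective (FBase.bcπ g kb z)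
    exact (Scheme.Pullback.range_map _ _ _ _ _ _ _ _ _).symm.subset ⟨⟨y, hy⟩, ⟨(FBase.bcStr g kb).base z, rfl⟩⟩
  haveI : ConnectedSpace ↥(FBase.bc g kb) := hs.connectedSpace m.continuous
  exact Groth.L22.GeomConn.geometricallyConnected_of_sepClosed g kb

end Groth.Agent.S4624
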