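import Groth.Statements.S4628
-- import your own Groth.Agent.* helpers here

import Groth.Agent.L25.GeomRed

set_option autoImplicit false
open CategoryTheory AlgebraicGeometry
universe u
open FBase

open CategoryTheory.Limits TensorProduct in
theorem Groth.Agent.S4628.isReduced_tensor {k : Type u} [Field k] {A C : Type u} [CommRing A] [CommRing C]
    [Algebra k A] [Algebra k C] [_root_.IsReduced C]
    (h : ∀ (K : Type u) [Field K] [Algebra k K], _root_.IsReduced (K ⊗[k] A)) :
    _root_.IsReduced (C ⊗[k] A) := by
  refine ⟨fun x hx => ?_⟩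
  let b := Module.Free.chooseBasis k A
  let bC := Algebra.TensorProduct.basis C b
  refine bC.repr.map_eq_zero_iff.mp (Finsupp.ext fun i => ?_)
  rw [Finsupp.zero_apply]
  refine IsReduced.eq_zero _ (mem_nilradical.1 ?_)
  rw [nilradical_eq_sInf, Submodule.mem_sInf]
  intro (p : Ideal C) hp
  haveI : Ideal.IsPrime p := hp
  let φ : C →ₐ[k] FractionRing (C ⧸ p) :=
    (IsScalarTower.toAlgHom k (C ⧸ p) (FractionRing (C ⧸ p))).comp (Ideal.Quotient.mkₐ k p)
  let ev := Algebra.TensorProduct.map φ (AlgHom.id k A)
  have key : ∀ (z : C ⊗[k] A) (l), (Algebra.TensorProduct.basis (FractionRing (C ⧸ p)) b).repr (ev z) l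
      = φ (bC.repr z l) := by
    intro z l
    induction z using TensorProduct.induction_on with
    | zero => simp
    | tmul a v => simp [ev, bC, Algebra.TensorProduct.basis_repr_tmul]
    | add z w hz hw => simp [hz, hw]
  have h0 : φ (bC.repr x i) = 0 := by
    rw [← key x i]
    haveI := h (FractionRing (C ⧸ p))
    rw [IsReduced.eq_zero _ (hx.map ev), map_zero, Finsupp.zero_apply]
  rw [← Ideal.Quotient.eq_zero_iff_mem]
  exact IsFractionRing.injective (C ⧸ p) (FractionRing (C ⧸ p)) (h0.trans (map_zero _).symm)

namespace Groth.Agent.S4628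

open CategoryTheory.Limits in
/-- Let X be a scheme over a field k which is geometrically reduced (X ⊗_k K is reduced for every
extension field K of k), and let S be any reduced scheme over k. Then the product X ×_k S is
reduced. (No Noetherian or finiteness assumption on S.) -/
theorem result {k : Type u} [Field k] {X S : Scheme.{u}}
    (f : X ⟶ Spec (CommRingCat.of k)) (g : S ⟶ Spec (CommRingCat.of k)) [GeometricallyReduced f]
    [AlgebraicGeometry.IsReduced S] : AlgebraicGeometry.IsReduced (pullback f g) := by
  apply +allowSynthFailures @IsReduced.of_openCover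
    (𝒰 := Scheme.Pullback.openCoverOfLeftRight X.affineOpenCover.openCover S.affineOpenCover.openCover f g)
  rintro ⟨i, l⟩
  let A := X.affineOpenCover.X i
  let B := S.affineOpenCover.X l
  let j : Spec (CommRingCat.of A) ⟶ X := X.affineOpenCover.f i
  let j' : Spec (CommRingCat.of B) ⟶ S := S.affineOpenCover.f l
  letI : Algebra k A := (Spec.preimage (j ≫ f)).hom.toAlgebra
  letI : Algebra k B := (Spec.preimage (j' ≫ g)).hom.toAlgebra
  have hj : j ≫ f = Spec.map (CommRingCat.ofHom (algebraMap k A)) := (Spec.map_preimage _).symm
  have hj' : j' ≫ g = Spec.map (CommRingCat.ofHom (algebraMap k B)) := (Spec.map_preimage _).symm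
  have : IsOpenImmersion j := X.affineOpenCover.map_prop i
  have : IsOpenImmersion j' := S.affineOpenCover.map_prop l
  have hB : IsReduced (Spec (CommRingCat.of B)) := isReduced_of_isOpenImmersion j'
  rw [affine_isReduced_iff] at hB
  have hA : ∀ (K : Type u) [Field K] [Algebra k K], _root_.IsReduced (TensorProduct k K A) := by
    intro K _ _
    let y : Spec (CommRingCat.of K) ⟶ Spec (CommRingCat.of k) :=
      Spec.map (CommRingCat.ofHom (algebraMap k K))
    haveI : IsReduced (pullback y f) :=
      pullback_of_geometrically' GeometricallyReduced.geometrically_isReduced K y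
    haveI : IsOpenImmersion (pullback.map y (j ≫ f) y f (𝟙 _) j (𝟙 _) rfl rfl) :=
      inferInstance
    haveI : IsReduced (pullback y (j ≫ f)) :=
      isReduced_of_isOpenImmersion (pullback.map y (j ≫ f) y f (𝟙 _) j (𝟙 _) rfl rfl)
    haveI : IsReduced (Spec (CommRingCat.of (TensorProduct k K A))) :=
      isReduced_of_isOpenImmersion (pullback.congrHom rfl hj ≪≫ pullbackSpecIso k K A).inv
    exact (affine_isReduced_iff (CommRingCat.of (TensorProduct k K A))).1 inferInstance
  haveI := isReduced_tensor (C := B) hA
  haveI : _root_.IsReduced (TensorProduct k A B) :=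
    isReduced_of_injective (Algebra.TensorProduct.comm k A B).toAlgHom
      (Algebra.TensorProduct.comm k A B).injective
  let e : pullback (j ≫ f) (j' ≫ g) ≅ Spec (CommRingCat.of (TensorProduct k A B)) :=
    pullback.congrHom hj hj' ≪≫ pullbackSpecIso k A B
  show IsReduced (pullback (j ≫ f) (j' ≫ g))
  exact isReduced_of_isOpenImmersion e.hom

end Groth.Agent.S4628
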