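import Groth.Statements.S4629
import Groth.Agent.L00.ReducedProd
-- import your own Groth.Agent.* helpers here

set_option autoImplicit false
open CategoryTheory AlgebraicGeometry
universe u
open FBase

namespace Groth.Agent.S4629

open CategoryTheory.Limits in
/-- If X and Y are schemes over a field k which are both geometrically reduced over k, then X ×_k Y is
geometrically reduced over k. -/
theorem result {k : Type u} [Field k] {X Y : Scheme.{u}}
    (f : X ⟶ Spec (CommRingCat.of k)) (g : Y ⟶ Spec (CommRingCat.of k)) [GeometricallyReduced f]
    [GeometricallyReduced g] : GeometricallyReduced (pullback.fst f g ≫ f) := by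
  refine ⟨fun K _ y Z zfst zsnd hZ => ?_⟩
  haveI : IsReduced (pullback f y) := GeometricallyReduced.geometrically_isReduced _ _ _ (.of_hasPullback f y)
  have hr := IsPullback.of_hasPullback f y
  let r : Z ⟶ pullback f y := hr.lift (zfst ≫ pullback.fst f g) zsnd (by rw [Category.assoc]; exact hZ.w)
  have h1 : IsPullback zfst r (pullback.fst f g) (pullback.fst f y) :=
    IsPullback.of_bot (by rw [hr.lift_snd]; exact hZ) (hr.lift_fst _ _ _).symm hr
  have h2 : IsPullback (zfst ≫ pullback.snd f g) r g (pullback.fst f y ≫ f) :=
    h1.paste_horiz (IsPullback.of_hasPullback f g).flip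
  haveI := Groth.L00.ReducedProd.isReduced_pullback (pullback.fst f y ≫ f) g
  exact isReduced_of_isOpenImmersion h2.flip.isoPullback.hom

end Groth.Agent.S4629
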