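import Groth.Statements.S4633
import Groth.Agent.L19.QuasiFlat
import Groth.Agent.L19.SupportPullback
import Groth.Agent.L19.GenericIso
import Groth.Agent.L08.GrpDim
import Groth.Agent.L29.DCoh.RelBC
import Groth.Agent.L16.AffineBC.Pullback
import Mathlib.AlgebraicGeometry.Morphisms.UniversallyOpen
import Mathlib.AlgebraicGeometry.Morphisms.Preimmersion

set_option autoImplicit false
set_option backward.isDefEq.respectTransparency.types false
set_option backward.isDefEq.respectTransparency false
set_option linter.style.haveILetI false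
open CategoryTheory AlgebraicGeometry
universe u
open FDesc

namespace Groth.Agent.S4633

open CategoryTheory.Limits in
/-- Let f : X → Y be a morphism such that every irreducible component of X dominates an irreducible
component of Y (the closure of its image under f is an irreducible component of Y), and let g : Y' →
Y be quasi-flat (for instance flat). Then every irreducible component of X ×_Y Y' dominates an
irreducible component of Y'. -/
theorem result {X Y Y' : Scheme.{u}} (f : X ⟶ Y) (g : Y' ⟶ Y)
    (hf : ∀ Z ∈ irreducibleComponents ↥X, closure (⇑f '' Z) ∈ irreducibleComponents ↥Y)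
    (hg : FDesc.IsQuasiFlat g) (Z' : Set ↥(pullback f g)) (hZ' : Z' ∈ irreducibleComponents ↥(pullback f g)) :
    closure (⇑(pullback.snd f g) '' Z') ∈ irreducibleComponents ↥Y' := by
  obtain ⟨M, hM, hflat, hne⟩ := hg
  let P := pullback f g
  let p₁ := pullback.fst f g
  let p₂ := pullback.snd f g
  -- the first projection is quasi-flat
  have hq : FDesc.IsQuasiFlat p₁ := by
    refine ⟨(Scheme.Modules.pullback p₂).obj M, Groth.L16.AffineBC.isCoh_pullback p₂ hM,
      Groth.L29.DC.RelBC.isFlatOver_pullback (IsPullback.of_hasPullback f g).flip hflat, fun z => ?_⟩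
    haveI : Coh.IsQCoh M := hM.1
    have hsupp : z ∈ CohB1.support ((Scheme.Modules.pullback p₂).obj M) := by
      rw [Groth.L19.SupportPullback.support_pullback p₂ M hM.2]
      exact not_subsingleton_iff_nontrivial.mpr (hne (p₂ z))
    exact not_subsingleton_iff_nontrivial.mp hsupp
  obtain ⟨z, hz⟩ := QuasiSober.sober hZ'.1 (isClosed_of_mem_irreducibleComponents _ hZ')
  have hzmax : ∀ w : P, w ⤳ z → w = z :=
    fun w hw => Groth.L19.GenericIso.eq_of_specializes (X := P) (hz.def.symm ▸ hZ') hw
  have himg : closure (⇑p₂ '' Z') = closure {p₂ z} := by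
    rw [← hz.def, closure_image_closure p₂.continuous, Set.image_singleton]
  show closure (⇑p₂ '' Z') ∈ _
  rw [himg]
  refine Groth.L08.GrpDim.closure_mem_irreducibleComponents fun w hw => ?_
  let x := p₁ z
  have hxy : f x = g (p₂ z) := by
    rw [← Scheme.Hom.comp_apply, pullback.condition, Scheme.Hom.comp_apply]
  have hxmax : ∀ a : X, a ⤳ x → a = x := by
    intro a ha
    obtain ⟨z₁, hz₁, rfl⟩ := Groth.L19.QFlat.generalizingMap p₁ hq ha
    exact congrArg p₁ (hzmax z₁ hz₁)
  have hymax : ∀ b : Y, b ⤳ f x → b = f x := by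
    intro b hb
    have h := hf _ (Groth.L08.GrpDim.closure_mem_irreducibleComponents hxmax)
    rw [closure_image_closure f.continuous, Set.image_singleton] at h
    exact Groth.L19.GenericIso.eq_of_specializes (X := Y) h hb
  have hgw : g w = f x := hymax _ (hxy ▸ hw.map g.continuous)
  -- the fibres over `f x`
  let j : Spec (X.residueField x) ⟶ X := X.fromSpecResidueField x
  let jy : Spec (Y.residueField (f x)) ⟶ Y := Y.fromSpecResidueField (f x)
  let s : Spec (X.residueField x) ⟶ Spec (Y.residueField (f x)) := Spec.map (f.residueFieldMap x)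
  let b := pullback.fst g jy
  let a := pullback.snd g jy
  let Q := pullback s a
  have hs : s ≫ jy = j ≫ f := f.SpecMap_residueFieldMap_fromSpecResidueField x
  let φ : Q ⟶ P := pullback.lift (pullback.fst s a ≫ j) (pullback.snd s a ≫ b) (by
    rw [Category.assoc, Category.assoc, ← hs, pullback.condition, ← Category.assoc,
      pullback.condition (f := s), Category.assoc])
  have hsq : IsPullback φ (pullback.fst s a) p₁ j := by
    refine IsPullback.of_right (h₁₂ := p₂) (v₁₃ := g) (h₂₂ := f) ?_ (pullback.lift_fst _ _ _)
      (IsPullback.of_hasPullback f g).flip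
    rw [show φ ≫ p₂ = pullback.snd s a ≫ b from pullback.lift_snd _ _ _, ← hs]
    exact (IsPullback.of_hasPullback s a).flip.paste_horiz (IsPullback.of_hasPullback g jy)
  obtain ⟨q₀, hq₀, -⟩ := Scheme.Pullback.exists_preimage_pullback (f := p₁) (g := j) z
    (IsLocalRing.closedPoint (X.residueField x)) (by
      rw [Scheme.fromSpecResidueField_apply])
  let q : Q := hsq.isoPullback.inv q₀
  have hφq : φ q = z := by
    rw [← hq₀, ← hsq.isoPullback_inv_fst, Scheme.Hom.comp_apply]
  obtain ⟨e, he⟩ : w ∈ Set.range b := by
    rw [Scheme.Pullback.range_fst]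
    show g w ∈ Set.range jy
    rw [Scheme.range_fromSpecResidueField]
    exact hgw
  have hbq : b (pullback.snd s a q) = p₂ z := by
    have e2 : φ ≫ p₂ = pullback.snd s a ≫ b := pullback.lift_snd _ _ _
    have h2 := congrArg (fun h : Q ⟶ Y' => h q) e2.symm
    simp only [Scheme.Hom.comp_apply] at h2
    exact h2.trans (congrArg p₂ hφq)
  have hspec : e ⤳ pullback.snd s a q := by
    rw [← b.isEmbedding.specializes_iff, he, hbq]
    exact hw
  obtain ⟨q₁, hq₁, rfl⟩ := Flat.generalizingMap (pullback.snd s a) hspec
  rw [← he, ← Scheme.Hom.comp_apply, show pullback.snd s a ≫ b = φ ≫ p₂ from (pullback.lift_snd _ _ _).symm,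
    Scheme.Hom.comp_apply, hzmax (φ q₁) (hφq ▸ hq₁.map φ.continuous)]

end Groth.Agent.S4633
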