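import Groth.Statements.S4636
import Groth.Agent.L15.WeakAss
-- import your own Groth.Agent.* helpers here

set_option autoImplicit false
open CategoryTheory AlgebraicGeometry
universe u
open AssSch

namespace Groth.Agent.S4636

/-- Let X be a locally Noetherian scheme, F a coherent O_X-module and x a point of X. Then x is a
maximal associated point of F (an associated point such that every associated point specialising to
x equals x) if and only if x is the generic point of an irreducible component of Supp F, i.e. F_x ≠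
0 and every point y with F_y ≠ 0 that specialises to x equals x. -/
theorem result {X : Scheme.{u}} [IsLocallyNoetherian X] (F : X.Modules)
    (hF : Coh.IsCoh F) (x : X) :
    (x ∈ AssSch.Ass F ∧ ∀ y ∈ AssSch.Ass F, y ⤳ x → y = x) ↔
      (Nontrivial ↑(F.presheaf.stalk x) ∧ ∀ y : X, Nontrivial ↑(F.presheaf.stalk y) → y ⤳ x → y = x) := by
  haveI : Coh.IsQCoh F := hF.1
  have key : ∀ w : X, Nontrivial ↑(F.presheaf.stalk w) → ∃ z ∈ AssSch.Ass F, z ⤳ w := by
    intro w hw
    obtain ⟨y, hy⟩ := exists_ne (0 : F.presheaf.stalk w)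
    obtain ⟨V, hV, hwV, -⟩ := exists_isAffineOpen_mem_and_subset (x := w) (U := ⊤) trivial
    letI := Groth.L20.ModStalk.stalkModule F hwV
    haveI := Groth.L20.ModStalk.isLocalizedModule_germ F hV hwV
    let q := (hV.primeIdealOf ⟨w, hwV⟩).asIdeal
    obtain ⟨⟨n, t⟩, hnt⟩ := IsLocalizedModule.surj q.primeCompl (Groth.L20.ModStalk.germₗ F hwV) y
    dsimp only at hnt
    have hle : Submodule.colon (⊥ : Submodule Γ(X, V) Γ(F, V)) {n} ≤ q := fun r hr => by
      by_contra hrq
      have h0 : Groth.L20.ModStalk.germₗ F hwV n = 0 :=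
        (IsLocalizedModule.eq_zero_iff q.primeCompl _).2 ⟨⟨r, hrq⟩, Groth.L15.WeakAss.mem_colon.1 hr⟩
      rw [← hnt] at h0
      exact hy (IsLocalizedModule.smul_injective (Groth.L20.ModStalk.germₗ F hwV) t (h0.trans (smul_zero t).symm))
    haveI := (hV.primeIdealOf ⟨w, hwV⟩).isPrime
    obtain ⟨p, hp, hpq⟩ := Ideal.exists_minimalPrimes_le hle
    let p' : Spec Γ(X, V) := ⟨p, hp.1.1⟩
    have hzV : hV.fromSpec p' ∈ V := Groth.L19.Ass.fromSpec_mem hV p'
    have hpid : (hV.primeIdealOf ⟨hV.fromSpec p', hzV⟩).asIdeal = p :=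
      congrArg PrimeSpectrum.asIdeal (Groth.L19.Ass.primeIdealOf_fromSpec hV p' _)
    refine ⟨hV.fromSpec p', Groth.L15.WeakAss.isAssPoint_of_isWeakAssPoint F
      (Groth.L15.WeakAss.isWeakAssPoint_of_minimal F hV hzV n (by rw [hpid]; exact hp)), ?_⟩
    have h := ((PrimeSpectrum.le_iff_specializes p' (hV.primeIdealOf ⟨w, hwV⟩)).1 hpq).map hV.fromSpec.continuous
    rwa [hV.fromSpec_primeIdealOf] at h
  have hnt : ∀ z, z ∈ AssSch.Ass F → Nontrivial ↑(F.presheaf.stalk z) := fun z hz => by
    by_contra hn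
    haveI := not_nontrivial_iff_subsingleton.1 hn
    have h := (Groth.L19.Ass.mem_iff F z).1 hz
    rw [associatedPrimes.eq_empty_of_subsingleton] at h
    exact h
  constructor
  · rintro ⟨hx, hmax⟩
    refine ⟨hnt x hx, fun y hy hyx => ?_⟩
    obtain ⟨z, hz, hzy⟩ := key y hy
    have := hmax z hz (hzy.trans hyx)
    subst this
    exact (hyx.antisymm hzy).eq
  · rintro ⟨hx, hmax⟩
    obtain ⟨z, hz, hzx⟩ := key x hx
    exact ⟨hmax z (hnt z hz) hzx ▸ hz, fun y hy hyx => hmax y (hnt y hy) hyx⟩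

end Groth.Agent.S4636
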