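import Groth.Statements.S4637
import Groth.Agent.L20.ModStalk
import Groth.Agent.L06.SupportDim
import Mathlib.RingTheory.Support
-- import your own Groth.Agent.* helpers here

set_option autoImplicit false
open CategoryTheory AlgebraicGeometry
universe u
open AssSch

namespace Groth.Agent.S4637

theorem mem_support_loc {A A' M M' : Type*} [CommRing A] [CommRing A'] [Algebra A A'] [AddCommGroup M] [Module A M]
    [AddCommGroup M'] [Module A M'] [Module A' M'] [IsScalarTower A A' M'] (S : Submonoid A) [IsLocalization S A']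
    (f : M →ₗ[A] M') [IsLocalizedModule S f] (Q : PrimeSpectrum A') :
    Q ∈ Module.support A' M' ↔ PrimeSpectrum.comap (algebraMap A A') Q ∈ Module.support A M := by
  have hS : ∀ s : S, algebraMap A A' s ∉ Q.asIdeal := fun s h =>
    Q.2.ne_top (Ideal.eq_top_of_isUnit_mem _ h (IsLocalization.map_units A' s))
  rw [Module.mem_support_iff', Module.mem_support_iff']
  constructor
  · rintro ⟨y, hy⟩
    obtain ⟨⟨m, s⟩, hs⟩ := IsLocalizedModule.surj S f y
    refine ⟨m, fun a ha h0 => hy (algebraMap A A' a * algebraMap A A' s) (fun h => (Q.2.mem_or_mem h).elim ha (hS s)) ?_⟩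
    rw [← map_mul, algebraMap_smul, mul_smul]
    have h1 : (s : A) • y = f m := hs
    rw [h1, ← map_smul, h0, map_zero]
  · rintro ⟨m, hm⟩
    refine ⟨f m, fun r hr h0 => ?_⟩
    obtain ⟨a, s, rfl⟩ := IsLocalization.exists_mk'_eq S r
    have h1 : a • f m = 0 := by
      rw [← algebraMap_smul A' a, ← IsLocalization.mk'_spec A' a s, mul_comm, mul_smul, h0, smul_zero]
    rw [← map_smul, IsLocalizedModule.eq_zero_iff S f] at h1
    obtain ⟨t, ht⟩ := h1
    refine hm ((t : A) * a) (fun h => (Ideal.IsPrime.mem_or_mem inferInstance h).elim (hS t) (fun h2 => hr ?_)) ?_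
    · rw [IsLocalization.mk'_eq_mul_mk'_one]
      exact Q.asIdeal.mul_mem_right _ h2
    · rw [mul_smul]; exact ht

/-- Let X be a locally Noetherian scheme, F a coherent O_X-module and x a point of X. Then x is the
generic point of an irreducible component of Supp F (F_x ≠ 0 and every point y with F_y ≠ 0 that
specialises to x equals x) if and only if F_x is a nonzero module of finite length over the local
ring O_{X,x}. -/
theorem result {X : Scheme.{u}} [IsLocallyNoetherian X] (F : X.Modules)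
    (hF : Coh.IsCoh F) (x : X) :
    (Nontrivial ↑(F.presheaf.stalk x) ∧ ∀ y : X, Nontrivial ↑(F.presheaf.stalk y) → y ⤳ x → y = x) ↔
      (Nontrivial ↑(F.presheaf.stalk x) ∧ IsFiniteLength ↑(X.presheaf.stalk x) ↑(F.presheaf.stalk x)) := by
  haveI : Coh.IsQCoh F := hF.1
  obtain ⟨U, hU, hxU, -⟩ := exists_isAffineOpen_mem_and_subset (U := (⊤ : X.Opens)) (x := x)
    (TopologicalSpace.Opens.mem_top _)
  letI := X.presheaf.algebra_section_stalk ⟨x, hxU⟩
  haveI := hU.isLocalization_stalk ⟨x, hxU⟩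
  letI := Groth.L20.ModStalk.stalkModule F hxU
  haveI := Groth.L20.ModStalk.isLocalizedModule_germ F hU hxU
  haveI : IsScalarTower Γ(X, U) (X.presheaf.stalk x) (F.presheaf.stalk x) :=
    IsScalarTower.of_algebraMap_smul fun _ _ => rfl
  haveI : IsNoetherianRing Γ(X, U) := IsLocallyNoetherian.component_noetherian ⟨U, hU⟩
  haveI : IsNoetherianRing (X.presheaf.stalk x) :=
    IsLocalization.isNoetherianRing (hU.primeIdealOf ⟨x, hxU⟩).asIdeal.primeCompl _ inferInstance
  haveI : Module.Finite Γ(X, U) Γ(F, U) := Groth.L20.ModStalk.finite_sections F hF hU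
  haveI : Module.Finite (X.presheaf.stalk x) (F.presheaf.stalk x) :=
    Module.Finite.of_isLocalizedModule (hU.primeIdealOf ⟨x, hxU⟩).asIdeal.primeCompl (Groth.L20.ModStalk.germₗ F hxU)
  have hsupp : ∀ (y : X) (hy : y ∈ U), Nontrivial ↑(F.presheaf.stalk y) ↔
      hU.primeIdealOf ⟨y, hy⟩ ∈ Module.support Γ(X, U) Γ(F, U) := fun y hy => by
    letI := Groth.L20.ModStalk.stalkModule F hy
    haveI := Groth.L20.ModStalk.isLocalizedModule_germ F hU hy
    let e := IsLocalizedModule.iso (hU.primeIdealOf ⟨y, hy⟩).asIdeal.primeCompl (Groth.L20.ModStalk.germₗ F hy)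
    rw [Module.mem_support_iff]
    exact e.toEquiv.nontrivial_congr.symm
  refine and_congr_right fun _ => ?_
  rw [Groth.L06.SupportDim.isFiniteLength_iff, Groth.L06.SupportDim.supportDim_eq_quotient,
    Groth.L06.SupportDim.le_zero_iff_forall_isMaximal]
  let φ := algebraMap Γ(X, U) (X.presheaf.stalk x)
  have hp : (IsLocalRing.maximalIdeal (X.presheaf.stalk x)).comap φ = (hU.primeIdealOf ⟨x, hxU⟩).asIdeal :=
    IsLocalization.AtPrime.under_maximalIdeal (X.presheaf.stalk x) _
  have hspec : ∀ (y : X) (hy : y ∈ U), (y ⤳ x ↔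
      (hU.primeIdealOf ⟨y, hy⟩).asIdeal ≤ (hU.primeIdealOf ⟨x, hxU⟩).asIdeal) := fun y hy => by
    refine Iff.trans ?_ (PrimeSpectrum.le_iff_specializes _ _).symm
    have h1 := hU.fromSpec.isEmbedding.isInducing.specializes_iff
      (x := hU.primeIdealOf ⟨y, hy⟩) (y := hU.primeIdealOf ⟨x, hxU⟩)
    rwa [hU.fromSpec_primeIdealOf, hU.fromSpec_primeIdealOf] at h1
  have hkey : ∀ Q : PrimeSpectrum (X.presheaf.stalk x),
      (Module.annihilator (X.presheaf.stalk x) (F.presheaf.stalk x) ≤ Q.asIdeal ↔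
        PrimeSpectrum.comap φ Q ∈ Module.support Γ(X, U) Γ(F, U)) := fun Q => by
    rw [← mem_support_loc (hU.primeIdealOf ⟨x, hxU⟩).asIdeal.primeCompl (Groth.L20.ModStalk.germₗ F hxU) Q,
      Module.mem_support_iff_of_finite]
  constructor
  · intro h Q hQ hann
    have hle : Q ≤ IsLocalRing.maximalIdeal (X.presheaf.stalk x) := IsLocalRing.le_maximalIdeal hQ.ne_top
    let q := PrimeSpectrum.comap φ ⟨Q, hQ⟩
    let y := hU.fromSpec q
    have hy : y ∈ U := by
      have : y ∈ Set.range hU.fromSpec := ⟨q, rfl⟩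
      rwa [hU.range_fromSpec] at this
    have hyq : hU.primeIdealOf ⟨y, hy⟩ = q :=
      hU.fromSpec.isEmbedding.injective (hU.fromSpec_primeIdealOf _)
    have hyx : y ⤳ x := by
      rw [hspec y hy, hyq, ← hp]
      exact Ideal.comap_mono hle
    have hne : Nontrivial ↑(F.presheaf.stalk y) := by
      rw [hsupp y hy, hyq]
      exact (hkey ⟨Q, hQ⟩).1 hann
    have heq := h y hne hyx
    have hqp : Q.comap φ = (IsLocalRing.maximalIdeal (X.presheaf.stalk x)).comap φ := by
      rw [hp]
      show q.asIdeal = _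
      rw [← hyq]
      exact congrArg (fun z => (hU.primeIdealOf z).asIdeal) (Subtype.ext heq)
    have : Q = IsLocalRing.maximalIdeal (X.presheaf.stalk x) := by
      rw [← IsLocalization.map_comap (hU.primeIdealOf ⟨x, hxU⟩).asIdeal.primeCompl (X.presheaf.stalk x) Q,
        ← IsLocalization.map_comap (hU.primeIdealOf ⟨x, hxU⟩).asIdeal.primeCompl (X.presheaf.stalk x)
          (IsLocalRing.maximalIdeal (X.presheaf.stalk x))]
      exact congrArg (Ideal.map φ) hqp
    exact this ▸ inferInstance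
  · intro h y hne hyx
    have hy : y ∈ U := hyx.mem_open U.2 hxU
    have hle := (hspec y hy).1 hyx
    have hdisj : Disjoint ((hU.primeIdealOf ⟨x, hxU⟩).asIdeal.primeCompl : Set Γ(X, U))
        ((hU.primeIdealOf ⟨y, hy⟩).asIdeal : Set Γ(X, U)) := Set.disjoint_left.2 fun a ha ha' => ha (hle ha')
    let Q := (hU.primeIdealOf ⟨y, hy⟩).asIdeal.map φ
    haveI hQ : Q.IsPrime := IsLocalization.isPrime_of_isPrime_disjoint _ _ _ (hU.primeIdealOf ⟨y, hy⟩).2 hdisj
    have hQc : Q.comap φ = (hU.primeIdealOf ⟨y, hy⟩).asIdeal :=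
      IsLocalization.comap_map_of_isPrime_disjoint _ _ (hU.primeIdealOf ⟨y, hy⟩).2 hdisj
    have hQm : Q.IsMaximal := h Q hQ ((hkey ⟨Q, hQ⟩).2 (by
      rw [show PrimeSpectrum.comap φ ⟨Q, hQ⟩ = hU.primeIdealOf ⟨y, hy⟩ from PrimeSpectrum.ext hQc]
      exact (hsupp y hy).1 hne))
    have : hU.primeIdealOf ⟨y, hy⟩ = hU.primeIdealOf ⟨x, hxU⟩ := PrimeSpectrum.ext (by
      rw [← hQc, ← hp, IsLocalRing.eq_maximalIdeal hQm])
    have := congrArg hU.fromSpec this
    rwa [hU.fromSpec_primeIdealOf, hU.fromSpec_primeIdealOf] at this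

end Groth.Agent.S4637
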