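import Groth.Statements.S4638
import Groth.Agent.L19.Ass.Basic

set_option autoImplicit false
set_option backward.isDefEq.respectTransparency.types false
set_option backward.isDefEq.respectTransparency false
set_option linter.style.haveILetI false
open CategoryTheory AlgebraicGeometry
universe u
open AssSch

namespace Groth.Agent.S4638

/-- Let X be a locally Noetherian scheme, F a quasi-coherent O_X-module and f a global section of O_X.
Then f is F-regular, i.e. multiplication by the germ of f is injective on every stalk of F, if and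
only if every associated point of F lies in the open subset X_f where f does not vanish. -/
theorem result {X : Scheme.{u}} [IsLocallyNoetherian X] (F : X.Modules)
    (hF : Coh.IsQCoh F) (f : Γ(X, ⊤)) :
    (∀ x : X, IsSMulRegular ↑(F.presheaf.stalk x) (X.presheaf.germ ⊤ x trivial f)) ↔
      AssSch.Ass F ⊆ (X.basicOpen f : Set ↥X) := by
  haveI := hF
  constructor
  · intro h x hx
    rw [SetLike.mem_coe, Scheme.mem_basicOpen X f x trivial]
    by_contra hu
    obtain ⟨hprime, m, hm⟩ := (Groth.L19.Ass.mem_iff F x).mp hx
    obtain ⟨n, hn⟩ : X.presheaf.germ ⊤ x trivial f ∈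
        (Submodule.colon (⊥ : Submodule (X.presheaf.stalk x) (F.presheaf.stalk x)) {m}).radical :=
      hm ▸ (IsLocalRing.mem_maximalIdeal _).mpr hu
    rw [Submodule.mem_colon_singleton, Submodule.mem_bot] at hn
    have hm0 : m = 0 := ((h x).pow n) (hn.trans (smul_zero _).symm)
    refine hprime.ne_top (hm.trans ?_)
    rw [hm0, Ideal.radical_eq_top, Ideal.eq_top_iff_one, Submodule.mem_colon_singleton, smul_zero]
    exact zero_mem _
  · intro h x
    rw [isSMulRegular_iff_right_eq_zero_of_smul]
    intro z hz
    by_contra hz0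
    obtain ⟨_, ⟨V, hV, rfl⟩, hxV, -⟩ :=
      X.isBasis_affineOpens.exists_subset_of_mem_open (Set.mem_univ x) isOpen_univ
    replace hV : IsAffineOpen V := hV
    letI := Groth.L20.ModStalk.stalkModule F hxV
    have := Groth.L20.ModStalk.isLocalizedModule_germ F hV hxV
    set p := hV.primeIdealOf ⟨x, hxV⟩ with hp
    set a : Γ(X, V) := X.presheaf.map (homOfLE le_top).op f with ha
    have hga : X.presheaf.germ V x hxV a = X.presheaf.germ ⊤ x trivial f :=
      TopCat.Presheaf.germ_res_apply X.presheaf _ x hxV f
    obtain ⟨⟨s, t⟩, hst⟩ := IsLocalizedModule.surj p.asIdeal.primeCompl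
      (Groth.L20.ModStalk.germₗ F hxV) z
    have hgas : F.presheaf.germ V x hxV (a • s) = 0 := by
      rw [Groth.L20.ModStalk.germ_smul, hga]
      show X.presheaf.germ ⊤ x trivial f • Groth.L20.ModStalk.germₗ F hxV s = 0
      rw [← hst]
      show X.presheaf.germ ⊤ x trivial f • (X.presheaf.germ V x hxV (t : Γ(X, V)) • z) = 0
      rw [smul_comm, hz, smul_zero]
    obtain ⟨t', ht'⟩ := (IsLocalizedModule.eq_zero_iff p.asIdeal.primeCompl
      (Groth.L20.ModStalk.germₗ F hxV)).mp hgas
    have : IsNoetherianRing Γ(X, V) := IsLocallyNoetherian.component_noetherian ⟨V, hV⟩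
    set s' := (t' : Γ(X, V)) • s with hs'
    have hle : (⊥ : Submodule Γ(X, V) Γ(F, V)).colon {s'} ≤ p.asIdeal := fun b hb => by
      by_contra hnb
      have hu := (Module.End.isUnit_iff _).mp (IsLocalizedModule.map_units
        (Groth.L20.ModStalk.germₗ F hxV) (⟨b, hnb⟩ * t' * t))
      refine hz0 (hu.1 ?_)
      simp only [Module.algebraMap_end_apply, smul_zero, Submonoid.coe_mul, mul_smul]
      rw [show (t : Γ(X, V)) • z = Groth.L20.ModStalk.germₗ F hxV s from hst, ← map_smul, ← map_smul,
        (Submodule.mem_bot _).mp (Submodule.mem_colon_singleton.mp hb), map_zero]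
    obtain ⟨q, hq, hqp⟩ := Ideal.exists_minimalPrimes_le hle
    have := hq.1.1
    have hqass : q ∈ associatedPrimes Γ(X, V) Γ(F, V) := by
      refine associatedPrimes.subset_of_injective (f := (Submodule.span Γ(X, V) {s'}).subtype)
        Subtype.val_injective (Module.associatedPrimes.minimalPrimes_annihilator_subset_associatedPrimes _ _ ?_)
      convert hq using 1
      congr 1
      ext b
      rw [Module.mem_annihilator, Submodule.mem_colon_singleton, Submodule.mem_bot]
      constructor
      · intro h
        exact congrArg Subtype.val (h ⟨s', Submodule.mem_span_singleton_self s'⟩)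
      · rintro h ⟨n, hn⟩
        obtain ⟨c, rfl⟩ := Submodule.mem_span_singleton.mp hn
        exact Subtype.ext (by show b • c • s' = 0; rw [smul_comm, h, smul_zero])
    have hy := h (Groth.L19.Ass.fromSpec_mem_ass F hV hqass)
    have haq : a ∈ q := hq.1.2 (Submodule.mem_colon_singleton.mpr (by
      rw [Submodule.mem_bot, hs', smul_comm]; exact ht'))
    have hb : hV.fromSpec ⟨q, hq.1.1⟩ ∈ X.basicOpen a := by
      rw [ha, Scheme.basicOpen_res]
      exact ⟨Groth.L19.Ass.fromSpec_mem hV _, hy⟩
    have := hV.fromSpec_preimage_basicOpen a ▸ (show (⟨q, hq.1.1⟩ : Spec Γ(X, V)) ∈ hV.fromSpec ⁻¹ᵁ X.basicOpen a from hb)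
    exact this haq

end Groth.Agent.S4638
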