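import Groth.Statements.S4639
import Groth.Agent.L19.EmbDescent

set_option autoImplicit false
set_option backward.isDefEq.respectTransparency.types false
set_option backward.isDefEq.respectTransparency false
set_option linter.style.haveILetI false
open CategoryTheory AlgebraicGeometry
universe u
open FDesc

namespace Groth.Agent.S4639

/-- The property of being quasi-compact and universally bicontinuous (every base change is a
homeomorphism onto its image) descends along a surjective, flat and quasi-compact base change. -/
theorem result :
    MorphismProperty.DescendsAlong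
      (MorphismProperty.universally (topologically (fun f => Topology.IsEmbedding f)) ⊓ @QuasiCompact : MorphismProperty Scheme.{u})
      (@Surjective ⊓ @Flat ⊓ @QuasiCompact : MorphismProperty Scheme.{u}) := by
  refine ⟨fun {A X Y Z fst snd f g} h hf hP => ?_⟩
  obtain ⟨⟨hs, hfl⟩, hqc⟩ := hf
  haveI := hs; haveI := hfl; haveI := hqc
  haveI : QuasiCompact fst := hP.2
  haveI := Groth.L19.EmbDescent.quasiCompact h
  refine ⟨fun {Y' Z'} i₁ i₂ g' hT => ?_, inferInstance⟩
  -- `g'` is a base change of `g`; compare with the base change of `fst`
  let f' : Limits.pullback i₂ f ⟶ Z' := Limits.pullback.fst i₂ f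
  have hb : IsPullback (Limits.pullback.fst f' g') (Limits.pullback.snd f' g') f' g' :=
    IsPullback.of_hasPullback f' g'
  haveI : QuasiCompact g' := MorphismProperty.of_isPullback (P := @QuasiCompact) hT.flip inferInstance
  have big : IsPullback (Limits.pullback.fst f' g') (Limits.pullback.snd f' g' ≫ i₁)
      (Limits.pullback.snd i₂ f ≫ f) g := by
    have h1 := hb.paste_vert hT
    rwa [show f' ≫ i₂ = Limits.pullback.snd i₂ f ≫ f from Limits.pullback.condition] at h1
  let t : Limits.pullback f' g' ⟶ A :=
    h.lift (Limits.pullback.fst f' g' ≫ Limits.pullback.snd i₂ f) (Limits.pullback.snd f' g' ≫ i₁)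
      (by rw [Category.assoc]; exact big.w)
  have hpb : IsPullback t (Limits.pullback.fst f' g') fst (Limits.pullback.snd i₂ f) := by
    refine (IsPullback.of_bot ?_ (h.lift_fst _ _ _).symm h).flip
    rw [h.lift_snd]
    exact big
  exact Groth.L19.EmbDescent.isEmbedding hb (hP.1 _ _ _ hpb.flip)

end Groth.Agent.S4639
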