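import Groth.Statements.S4640
import Mathlib.RingTheory.Flat.TorsionFree
import Mathlib.RingTheory.Localization.BaseChange
import Mathlib.LinearAlgebra.TensorProduct.RightExactness

set_option autoImplicit false
universe u
open FDesc

namespace Groth.Agent.S4640

open TensorProduct in
/-- Let A be a Dedekind domain with fraction field K, M an A-module and P' a K-submodule of K ⊗_A M. Let
φ : M → (K ⊗_A M)/P' be m ↦ class of 1 ⊗ m. Then a submodule Q of M equals ker φ if and only if M/Q
is a flat A-module and the kernel of the induced surjection K ⊗_A M → K ⊗_A (M/Q) is P'. Thus M/ker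
φ is the unique flat quotient of M with generic fibre (K ⊗_A M)/P'. (The published statement takes A
Noetherian, regular and of dimension 1; a field is allowed here, where the statement is immediate.) -/
theorem result {A K : Type u} [CommRing A] [IsDedekindDomain A] [Field K]
    [Algebra A K] [IsFractionRing A K] {M : Type u} [AddCommGroup M] [Module A M]
    (P' : Submodule K (K ⊗[A] M)) (Q : Submodule A M) :
    Q = LinearMap.ker ((P'.restrictScalars A).mkQ ∘ₗ TensorProduct.mk A K M 1) ↔
      (Module.Flat A (M ⧸ Q) ∧ LinearMap.ker (Q.mkQ.baseChange K) = P') := by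
  haveI hloc : IsLocalizedModule (nonZeroDivisors A) (TensorProduct.mk A K M 1) :=
    (isLocalizedModule_iff_isBaseChange (nonZeroDivisors A) K _).mpr (TensorProduct.isBaseChange A M K)
  constructor
  · rintro rfl
    set φ := (P'.restrictScalars A).mkQ ∘ₗ TensorProduct.mk A K M 1 with hφ
    have hmem : ∀ m, m ∈ LinearMap.ker φ ↔ (1 : K) ⊗ₜ[A] m ∈ P' := fun m => by
      simp only [hφ, LinearMap.mem_ker, LinearMap.comp_apply, Submodule.mkQ_apply, Submodule.Quotient.mk_eq_zero,
        TensorProduct.mk_apply, Submodule.restrictScalars_mem]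
    refine ⟨?_, ?_⟩
    · haveI : Module.IsTorsionFree A (M ⧸ LinearMap.ker φ) := by
        rw [Module.isTorsionFree_iff_smul_eq_zero]
        intro a y hy
        obtain ⟨m, rfl⟩ := Submodule.Quotient.mk_surjective _ y
        by_cases ha : a = 0
        · exact Or.inl ha
        rw [← Submodule.Quotient.mk_smul, Submodule.Quotient.mk_eq_zero, hmem, TensorProduct.tmul_smul,
          ← algebraMap_smul K a] at hy
        refine Or.inr ?_
        rw [Submodule.Quotient.mk_eq_zero, hmem]
        have := P'.smul_mem (algebraMap A K a)⁻¹ hy
        rwa [inv_smul_smul₀ ((map_ne_zero_iff _ (IsFractionRing.injective A K)).mpr ha)] at this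
      rw [IsDedekindDomain.flat_iff_torsion_eq_bot, ← Submodule.isTorsionFree_iff_torsion_eq_bot]
      infer_instance
    · apply le_antisymm
      · intro y hy
        have hex := lTensor_exact K (LinearMap.exact_subtype_mkQ (LinearMap.ker φ)) (Submodule.mkQ_surjective _)
        obtain ⟨z, rfl⟩ := (hex y).mp hy
        clear hy
        induction z using TensorProduct.induction_on with
        | zero => rw [map_zero]; exact P'.zero_mem
        | add a b ha hb => rw [map_add]; exact P'.add_mem ha hb
        | tmul c q =>
          rw [LinearMap.lTensor_tmul, ← mul_one c, ← smul_eq_mul, ← TensorProduct.smul_tmul']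
          exact P'.smul_mem c ((hmem q.1).mp q.2)
      · intro y hy
        obtain ⟨⟨m, s⟩, hs⟩ := IsLocalizedModule.surj (nonZeroDivisors A) (TensorProduct.mk A K M 1) y
        have hm : (1 : K) ⊗ₜ[A] m ∈ P' := by
          rw [show (1 : K) ⊗ₜ[A] m = s • y from hs.symm, Submonoid.smul_def, ← algebraMap_smul K]
          exact P'.smul_mem _ hy
        rw [LinearMap.mem_ker]
        have h0 : (LinearMap.ker φ).mkQ.baseChange K ((s : A) • y) = 0 := by
          rw [← Submonoid.smul_def, hs, TensorProduct.mk_apply, LinearMap.baseChange_tmul,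
            Submodule.mkQ_apply, (Submodule.Quotient.mk_eq_zero _).mpr ((hmem m).mpr hm), TensorProduct.tmul_zero]
        rw [← algebraMap_smul K, map_smul] at h0
        exact (smul_eq_zero.mp h0).resolve_left
          ((map_ne_zero_iff _ (IsFractionRing.injective A K)).mpr (nonZeroDivisors.ne_zero s.2))
  · rintro ⟨hflat, hker⟩
    ext m
    have hinj : Function.Injective (fun x : M ⧸ Q => (1 : K) ⊗ₜ[A] x) := by
      have h := Module.Flat.rTensor_preserves_injective_linearMap (M := M ⧸ Q) (Algebra.linearMap A K)
        (IsFractionRing.injective A K)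
      intro x y hxy
      have h2 := @h ((1 : A) ⊗ₜ[A] x) ((1 : A) ⊗ₜ[A] y) (by simpa using hxy)
      simpa using congrArg (TensorProduct.lid A (M ⧸ Q)) h2
    rw [LinearMap.mem_ker, LinearMap.comp_apply, Submodule.mkQ_apply, Submodule.Quotient.mk_eq_zero,
      Submodule.restrictScalars_mem, TensorProduct.mk_apply, ← hker, LinearMap.mem_ker, LinearMap.baseChange_tmul,
      Submodule.mkQ_apply]
    constructor
    · intro hm; rw [(Submodule.Quotient.mk_eq_zero _).mpr hm, TensorProduct.tmul_zero]
    · intro h
      exact (Submodule.Quotient.mk_eq_zero _).mp (hinj (h.trans (TensorProduct.tmul_zero _ _).symm))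

end Groth.Agent.S4640
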