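import Groth.Statements.S4641
import Groth.Agent.L19.Ass.Structure
import Mathlib.RingTheory.Flat.TorsionFree
import Mathlib.RingTheory.Ideal.AssociatedPrime.Finiteness

set_option autoImplicit false
set_option backward.isDefEq.respectTransparency.types false
set_option backward.isDefEq.respectTransparency false
set_option linter.style.haveILetI false
open CategoryTheory AlgebraicGeometry
universe u
open AssSch

namespace Groth.Agent.S4641

/-- Let f : X → Y be a morphism of locally Noetherian schemes such that Y has no embedded associated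
points, and let F be a quasi-coherent O_X-module which is flat over Y. Then for every associated
point x of F, f(x) is a maximal point of Y (every point of Y specialising to f(x) equals f(x)). (The
published statement assumes only Y locally Noetherian; X is taken locally Noetherian here so that
associated points are those whose maximal ideal is an annihilator.) -/
theorem result {X Y : Scheme.{u}} (f : X ⟶ Y) [IsLocallyNoetherian X]
    [IsLocallyNoetherian Y] (hY : AssSch.NoEmbedded (Coh.structureModule Y)) (F : X.Modules) (hF : Coh.IsQCoh F)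
    (hfl : FlatMod.IsFlatOver f F) (x : X) (hx : x ∈ AssSch.Ass F) (y : Y) (hy : y ⤳ f x) : y = f x := by
  haveI := hF
  haveI := Groth.L19.Ass.isQCoh_structure (X := Y)
  letI := FlatMod.moduleStalkOver f F x
  haveI : Module.Flat (Y.presheaf.stalk (f x)) (F.presheaf.stalk x) := hfl x
  have hx' := (Groth.L19.Ass.mem_iff F x).mp hx
  obtain ⟨hp, m, hm⟩ := isAssociatedPrime_iff.mp hx'
  have hm0 : m ≠ 0 := by
    rintro rfl
    exact hp.ne_top (by rw [hm]; simp)
  have hsub : (IsLocalRing.maximalIdeal (Y.presheaf.stalk (f x)) : Set _) ⊆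
      ⋃ p ∈ associatedPrimes (Y.presheaf.stalk (f x)) (Y.presheaf.stalk (f x)), ((p : Ideal (Y.presheaf.stalk (f x))) : Set (Y.presheaf.stalk (f x))) := by
    rw [biUnion_associatedPrimes_eq_compl_nonZeroDivisors]
    intro r hr hnzd
    refine hm0 ((Module.Flat.isSMulRegular_of_nonZeroDivisors (M := F.presheaf.stalk x) hnzd).right_eq_zero_of_smul ?_)
    have hmem : (f.stalkMap x).hom r ∈ IsLocalRing.maximalIdeal (X.presheaf.stalk x) :=
      map_nonunit (f.stalkMap x).hom r hr
    rw [hm, Submodule.mem_colon_singleton, Submodule.mem_bot] at hmem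
    exact hmem
  have hfin := associatedPrimes.finite (Y.presheaf.stalk (f x)) (Y.presheaf.stalk (f x))
  obtain ⟨p, hp', hle⟩ := (Ideal.subset_union_prime_finite hfin ⊥ ⊥ fun p hp _ _ => hp.1).mp hsub
  have hm_ass : IsLocalRing.maximalIdeal (Y.presheaf.stalk (f x)) ∈
      associatedPrimes (Y.presheaf.stalk (f x)) (Y.presheaf.stalk (f x)) := by
    rwa [(IsLocalRing.maximalIdeal.isMaximal _).eq_of_le hp'.1.ne_top hle]
  obtain ⟨_, ⟨V, hV, rfl⟩, hxV, -⟩ :=
    Y.isBasis_affineOpens.exists_subset_of_mem_open (Set.mem_univ (f x)) isOpen_univ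
  replace hV : IsAffineOpen V := hV
  have hN : IsNoetherianRing Γ(Y, V) := IsLocallyNoetherian.component_noetherian ⟨V, hV⟩
  have hassY : f x ∈ AssSch.Ass (Coh.structureModule Y) := by
    refine (Groth.L19.Ass.mem_iff_of_affine _ hV hxV).mpr ?_
    letI := Y.presheaf.algebra_section_stalk ⟨f x, hxV⟩
    have := hV.isLocalization_stalk ⟨f x, hxV⟩
    rw [show (hV.primeIdealOf ⟨f x, hxV⟩).asIdeal =
      (IsLocalRing.maximalIdeal (Y.presheaf.stalk (f x))).comap (algebraMap Γ(Y, V) (Y.presheaf.stalk (f x))) from
      (IsLocalization.AtPrime.under_maximalIdeal (Y.presheaf.stalk (f x)) (hV.primeIdealOf ⟨f x, hxV⟩).asIdeal).symm]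
    exact Module.associatedPrimes.comap_mem_associatedPrimes_of_mem_associatedPrimes_of_isLocalizedModule_of_fg
      (hV.primeIdealOf ⟨f x, hxV⟩).asIdeal.primeCompl (Algebra.linearMap Γ(Y, V) (Y.presheaf.stalk (f x))) _ hm_ass
      ((isNoetherianRing_iff_ideal_fg _).mp hN _)
  obtain ⟨η, hη, hsp⟩ := Groth.L20.exists_genericPoint_specializes y
  have he : f x = η := hY _ hassY _ (Groth.L19.Ass.genericPoints_subset_ass hη) (hsp.trans hy)
  exact (hy.antisymm (he ▸ hsp)).eq

end Groth.Agent.S4641
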