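
import Groth.Statements.S4642
import Groth.Agent.L22.GeomConn.Dims

set_option autoImplicit false
open CategoryTheory AlgebraicGeometry
universe u
open FBase

namespace Groth.Agent.S4642

/-- Let X be a scheme locally of finite type over a field k and K an extension field of k. Then X ⊗_k K
and X have the same dimension. (Dimension is the Krull dimension of the underlying topological
space, which for schemes locally of finite type over a field agrees with the supremum of the
transcendence degrees of the residue fields at maximal points.) -/
theorem result {k K : Type u} [Field k] [Field K] [Algebra k K] {X : Scheme.{u}}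
    (f : X ⟶ Spec (CommRingCat.of k)) [LocallyOfFiniteType f] :
    topologicalKrullDim ↥(FBase.bc f K) = topologicalKrullDim ↥X := by
  refine le_antisymm (Groth.L22.GeomConn.dim_le_of_forall_maxPt _ fun t ht => ?_)
    (Groth.L22.GeomConn.dim_le_of_forall_maxPt _ fun x hx => ?_)
  · rw [Groth.L22.GeomConn.dim_closure_isMaxPt f K ht]
    exact Groth.L22.GeomConn.dim_closure_le _ _
  · obtain ⟨z, rfl⟩ := (FBase.bcπ f K).surjective x
    obtain ⟨t, ht, htz⟩ := Groth.L22.GeomConn.exists_isMaxPt_specializes z
    rw [← show FBase.bcπ f K t = FBase.bcπ f K z from hx _ (htz.map (FBase.bcπ f K).continuous),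
      ← Groth.L22.GeomConn.dim_closure_isMaxPt f K ht]
    exact Groth.L22.GeomConn.dim_closure_le _ _

end Groth.Agent.S4642
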