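import Groth.Statements.S4644
import Groth.Agent.L22.FibreDim
import Groth.Agent.L03.Euler.Dim
import Mathlib.Topology.LocallyClosed

set_option autoImplicit false
set_option maxSynthPendingDepth 3
set_option synthInstance.maxHeartbeats 400000
set_option maxHeartbeats 800000
set_option backward.isDefEq.respectTransparency false
set_option backward.isDefEq.respectTransparency.types false
set_option linter.style.haveILetI false
open CategoryTheory AlgebraicGeometry
universe u
open FBase

namespace Groth.Agent.S4644

/-- Let Y be a nonempty scheme locally of finite type over a field k whose irreducible components all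
have the same dimension, and let Z be a locally closed subset of Y (the underlying set of a
subscheme). Then Z is nowhere dense in Y if and only if dim Z < dim Y. (For Y empty the left side
holds and the right side fails, so Y is taken nonempty; dimensions are Krull dimensions of the
underlying spaces.) -/
theorem result {k : Type u} [Field k] {Y : Scheme.{u}} [Nonempty ↥Y]
    (g : Y ⟶ Spec (CommRingCat.of k)) [LocallyOfFiniteType g]
    (heq : ∀ T ∈ irreducibleComponents ↥Y, topologicalKrullDim ↥T = topologicalKrullDim ↥Y)
    (Z : Set ↥Y) (hZ : IsLocallyClosed Z) :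
    IsNowhereDense Z ↔ topologicalKrullDim ↥Z < topologicalKrullDim ↥Y := by
  classical
  letI : Y.Over (Spec (CommRingCat.of k)) := ⟨g⟩
  haveI : LocallyOfFiniteType (Y ↘ Spec (CommRingCat.of k)) := inferInstanceAs (LocallyOfFiniteType g)
  haveI : IsLocallyNoetherian Y := LocallyOfFiniteType.isLocallyNoetherian g
  have hcomp : ∀ y : Y, ∃ η : Y, η ⤳ y ∧ (∀ z : Y, z ⤳ η → z = η) ∧
      topologicalKrullDim (closure ({η} : Set Y)) = topologicalKrullDim Y := by
    intro y
    let S := irreducibleComponent y
    have hS : IsIrreducible S := isIrreducible_irreducibleComponent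
    have hcl : IsClosed S := isClosed_irreducibleComponent
    refine ⟨hS.genericPoint, ?_, fun z hz => ?_, ?_⟩
    · exact (hS.isGenericPoint_genericPoint hcl).specializes mem_irreducibleComponent
    · have h1 : S ⊆ closure ({z} : Set Y) := by
        rw [← hS.closure_genericPoint hcl]
        exact closure_minimal (Set.singleton_subset_iff.2 hz.mem_closure) isClosed_closure
      have h2 : S = closure ({z} : Set Y) :=
        (irreducibleComponent_mem_irreducibleComponents y).eq_of_ge isIrreducible_singleton.closure h1 ▸ rfl
      exact IsGenericPoint.eq (show IsGenericPoint z S from h2.symm) (hS.isGenericPoint_genericPoint hcl)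
    · rw [hS.closure_genericPoint hcl]
      exact heq S (irreducibleComponent_mem_irreducibleComponents y)
  obtain ⟨η₀, -, -, hη₀d⟩ := hcomp (Classical.arbitrary _)
  obtain ⟨d, hd, -⟩ := Groth.L22.SchemeDim.exists_dim_closure_eq_trdeg k Y η₀
  rw [hη₀d] at hd
  constructor
  · intro hnd
    have hint : interior (closure Z) = ∅ := hnd
    refine lt_of_le_of_lt (Groth.L22.SchemeDim.topologicalKrullDim_mono subset_closure) ?_
    haveI : QuasiSober (closure Z) := isClosed_closure.isClosedEmbedding_subtypeVal.quasiSober
    rw [Groth.L22.FibreDim.topologicalKrullDim_eq_iSup_closure, hd]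
    have key : ∀ t : closure Z, topologicalKrullDim (closure ({t} : Set (closure Z))) + 1 ≤ (d : WithBot ℕ∞) := by
      intro t
      obtain ⟨η, hηt, hmax, hηd⟩ := hcomp t.1
      have hne : closure ({t.1} : Set Y) ≠ closure ({η} : Set Y) := by
        intro he
        have hηZ : η ∈ closure Z := by
          refine closure_minimal (Set.singleton_subset_iff.2 t.2) isClosed_closure ?_
          rw [he]; exact subset_closure rfl
        obtain ⟨U, hU, hηU, -⟩ := exists_isAffineOpen_mem_and_subset (x := η) (U := ⊤) trivial
        haveI : IsNoetherianRing Γ(Y, U) := IsLocallyNoetherian.component_noetherian ⟨U, hU⟩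
        let e := hU.fromSpec
        obtain ⟨p, hp⟩ : ∃ p, e p = η := hU.range_fromSpec.symm.subset hηU
        have hfin : (minimalPrimes Γ(Y, U)).Finite := minimalPrimes.finite_of_isNoetherianRing _
        let C : Set Y := ⋃ P ∈ {P ∈ minimalPrimes Γ(Y, U) | P ≠ p.asIdeal}, e '' PrimeSpectrum.zeroLocus P
        let V : Set Y := e '' (⋃ P ∈ {P ∈ minimalPrimes Γ(Y, U) | P ≠ p.asIdeal},
          PrimeSpectrum.zeroLocus (P : Set Γ(Y, U)))ᶜ
        have hVo : IsOpen V := by
          refine e.isOpenEmbedding.isOpenMap _ (isOpen_compl_iff.2 ?_)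
          exact (hfin.subset fun P hP => hP.1).isClosed_biUnion fun P _ => PrimeSpectrum.isClosed_zeroLocus _
        have hpmin : ∀ q, q ≤ p.asIdeal → q.IsPrime → q = p.asIdeal := by
          intro q hq hqp
          let Q : Spec Γ(Y, U) := ⟨q, hqp⟩
          have hs : Q ⤳ p := (PrimeSpectrum.le_iff_specializes _ _).1 hq
          have h1 : e Q = η := hmax _ (hp ▸ hs.map e.continuous)
          exact congrArg PrimeSpectrum.asIdeal (e.isOpenEmbedding.injective (h1.trans hp.symm))
        have hVsub : V ⊆ closure ({η} : Set Y) := by
          rintro _ ⟨Q, hQ, rfl⟩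
          obtain ⟨P, hP, hPQ⟩ := Ideal.exists_minimalPrimes_le (I := ⊥) (J := Q.asIdeal) bot_le
          have hPp : P = p.asIdeal := by
            by_contra hne
            exact hQ (Set.mem_biUnion (show P ∈ {P ∈ minimalPrimes Γ(Y, U) | P ≠ p.asIdeal} from ⟨hP, hne⟩) hPQ)
          have hs : p ⤳ Q := (PrimeSpectrum.le_iff_specializes _ _).1 (show p.asIdeal ≤ Q.asIdeal from hPp ▸ hPQ)
          exact hp ▸ (hs.map e.continuous).mem_closure
        have hηV : η ∈ V := by
          refine ⟨p, fun h => ?_, hp⟩
          obtain ⟨P, hP, hPp⟩ := Set.mem_iUnion₂.1 h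
          exact hP.2 (hpmin P hPp hP.1.1.1)
        have : η ∈ interior (closure Z) :=
          interior_maximal (hVsub.trans (closure_minimal (Set.singleton_subset_iff.2 hηZ) isClosed_closure)) hVo hηV
        rw [hint] at this
        exact this
      calc topologicalKrullDim (closure ({t} : Set (closure Z))) + 1
          ≤ topologicalKrullDim (closure ({t.1} : Set Y)) + 1 := by
            gcongr
            rw [Groth.L22.FibreDim.subtype_dim_closure]
            exact Groth.L22.SchemeDim.topologicalKrullDim_mono Set.inter_subset_left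
        _ ≤ topologicalKrullDim (closure ({η} : Set Y)) :=
            Groth.L03.Euler.topologicalKrullDim_add_one_le isClosed_closure isIrreducible_singleton.closure
              (closure_minimal (Set.singleton_subset_iff.2 hηt.mem_closure) isClosed_closure) hne
        _ = d := hηd.trans hd
    obtain _ | d := d
    · refine lt_of_le_of_lt (iSup_le fun t => le_of_eq_of_le rfl ?_) (WithBot.bot_lt_coe _)
      have h := key t
      rcases hv : topologicalKrullDim (closure ({t} : Set (closure Z))) with _ | v
      · exact le_rfl
      · exfalso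
        rw [hv] at h
        have h' : v + 1 ≤ (0 : ℕ∞) := WithBot.coe_le_coe.1 h
        simp at h'
    · refine lt_of_le_of_lt (iSup_le fun t => ?_) (show (d : WithBot ℕ∞) < ((d + 1 : ℕ) : WithBot ℕ∞) by
        exact_mod_cast d.lt_succ_self)
      have h := key t
      rcases hv : topologicalKrullDim (closure ({t} : Set (closure Z))) with _ | v
      · exact bot_le
      · rw [hv] at h
        have h' : v + 1 ≤ (((d + 1 : ℕ)) : ℕ∞) := WithBot.coe_le_coe.1 h
        refine WithBot.coe_le_coe.2 ?_
        rw [Nat.cast_add, Nat.cast_one] at h'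
        exact (ENat.add_le_add_iff_right (by simp)).1 h'
  · intro hlt
    by_contra hnd
    obtain ⟨y, hy⟩ := Set.nonempty_iff_ne_empty.2 (show interior (closure Z) ≠ ∅ from hnd)
    let O : Set Y := interior (closure Z) ∩ coborder Z
    have hO : IsOpen O := isOpen_interior.inter hZ.isOpen_coborder
    have hOZ : O ⊆ Z := by
      rintro z ⟨hz1, hz2⟩
      rw [coborder_eq_union_closure_compl] at hz2
      exact hz2.resolve_right fun h => h (interior_subset hz1)
    obtain ⟨z, hz1, hz2⟩ := mem_closure_iff.1 (interior_subset hy) _ isOpen_interior hy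
    obtain ⟨η, hηz, -, hηd⟩ := hcomp z
    have hηO : η ∈ O := hηz.mem_open hO ⟨hz1, subset_coborder hz2⟩
    obtain ⟨U, hU, hηU, hUO⟩ := exists_isAffineOpen_mem_and_subset (x := η) (U := ⟨O, hO⟩) hηO
    obtain ⟨n, hn, htr⟩ := Groth.L22.SchemeDim.exists_dim_quotient_eq_trdeg k Y hU hηU
    obtain ⟨m, hm, htr'⟩ := Groth.L22.SchemeDim.exists_dim_closure_eq_trdeg k Y η
    rw [htr] at htr'
    have hnm : n = m := by exact_mod_cast htr'
    rw [← Groth.L22.SchemeDim.topologicalKrullDim_closure_inter hU hηU] at hn
    refine not_lt.2 ?_ hlt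
    rw [← hηd, hm, ← hnm, ← hn]
    exact Groth.L22.SchemeDim.topologicalKrullDim_mono fun w hw => hOZ (hUO hw.2)

end Groth.Agent.S4644
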