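
import Groth.Statements.S4645
import Groth.Agent.L22.GeomConn.Finite

set_option autoImplicit false
open CategoryTheory AlgebraicGeometry
universe u
open FBase

namespace Groth.Agent.S4645

/-- Let X be a scheme over a field k with finitely many connected components, each of which contains a
point x such that the separable algebraic closure of k in κ(x) has finite degree over k. Then there
is a finite separable extension k'' of k such that all connected components of X ⊗_k k'' are
geometrically connected over k'': for every extension field K of k'' and every point x' of X ⊗_k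
k'', the inverse image in (X ⊗_k k'') ⊗_{k''} K of the connected component of x' is connected. -/
theorem result {k : Type u} [Field k] {X : Scheme.{u}}
    (f : X ⟶ Spec (CommRingCat.of k)) [Finite (_root_.ConnectedComponents ↥X)]
    (hx : ∀ c : _root_.ConnectedComponents ↥X, ∃ x : X, _root_.ConnectedComponents.mk x = c ∧
      FBase.ResidueFieldProp f x (fun K _ _ => FiniteDimensional k (separableClosure k K))) :
    ∃ (k'' : Type u) (_ : Field k'') (_ : Algebra k k''), FiniteDimensional k k'' ∧ Algebra.IsSeparable k k'' ∧
      ∀ (K : Type u) [Field K] [Algebra k'' K] (x' : ↥(FBase.bc f k'')),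
        _root_.IsConnected (⇑(FBase.bcπ (FBase.bcStr f k'') K) ⁻¹' connectedComponent x') := by
  classical
  choose xc hxc hP using hx
  let kb := AlgebraicClosure k
  let K₀ := SeparableClosure k
  haveI : Finite (_root_.ConnectedComponents ↥(FBase.bc f kb)) := by
    refine Set.finite_univ_iff.1 ((Set.finite_iUnion (f := fun c =>
      _root_.ConnectedComponents.mk '' (FBase.bcπ f kb ⁻¹' {xc c})) fun c => ?_).subset fun C _ => ?_)
    · obtain ⟨φ, hφ, hfd⟩ := hP c
      letI := φ.toAlgebra
      haveI : FiniteDimensional k (separableClosure k (X.residueField (xc c))) := hfd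
      exact Groth.L22.GeomConn.finite_components_over_point f (xc c) hφ
    · obtain ⟨z, rfl⟩ := _root_.ConnectedComponents.surjective_coe C
      have hmem : xc (_root_.ConnectedComponents.mk (FBase.bcπ f kb z)) ∈ connectedComponent (FBase.bcπ f kb z) :=
        _root_.ConnectedComponents.coe_eq_coe'.1 (hxc _)
      rw [← Groth.L22.GeomConn.image_component] at hmem
      obtain ⟨v, hv, hvx⟩ := hmem
      exact Set.mem_iUnion.2 ⟨_, v, hvx, _root_.ConnectedComponents.coe_eq_coe'.2 hv⟩
  have := Groth.L22.GeomConn.geometricallyConnected_bcMap f K₀ kb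
  haveI : Finite (_root_.ConnectedComponents ↥(FBase.bc f K₀)) :=
    Finite.of_surjective _ (Groth.L22.GeomConn.bijective_connectedComponentsMap (Groth.L22.GeomConn.bcMap f K₀ kb)).2
  obtain ⟨⟨L, hL⟩, hinj⟩ := Groth.L22.GeomConn.Sys.exists_injective (Groth.L22.GeomConn.sys f K₀)
  haveI := hL
  refine ⟨L, inferInstance, inferInstance, hL, Algebra.isSeparable_tower_bot_of_isSeparable k L K₀, fun K _ _ x' => ?_⟩
  letI : Algebra k K := ((algebraMap L K).comp (algebraMap k L)).toAlgebra
  haveI : IsScalarTower k L K := .of_algebraMap_eq fun _ => rfl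
  obtain ⟨z, rfl⟩ := (Groth.L22.GeomConn.bcMap f L K₀).surjective x'
  have h0 : _root_.IsConnected (Groth.L22.GeomConn.bcMap f L K₀ ⁻¹' connectedComponent (Groth.L22.GeomConn.bcMap f L K₀ z)) := by
    refine Eq.subst (motive := fun t : Set ↥(FBase.bc f K₀) => _root_.IsConnected t) ?_
      (isConnected_connectedComponent (x := z))
    refine Set.Subset.antisymm (Set.image_subset_iff.1
      ((Groth.L22.GeomConn.bcMap f L K₀).continuous.image_connectedComponent_subset z)) fun w hw => ?_
    have e : connectedComponent z = connectedComponent w := by letI := Groth.L22.GeomConn.Sys.top (Groth.L22.GeomConn.sys f K₀) ⟨L, hL⟩; exact hinj z w (connectedComponent_eq hw)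
    exact e ▸ mem_connectedComponent
  have h1 := Groth.L22.GeomConn.isConnected_preimage_tower f L K₀ K _ isClosed_connectedComponent h0
  let e := (Groth.L22.GeomConn.isPullback_bcMap f L K).isoPullback
  have h2 := h1.image e.hom e.hom.continuous.continuousOn
  refine Eq.subst (motive := fun t : Set ↥(FBase.bc (FBase.bcStr f L) K) => _root_.IsConnected t) ?_ h2
  have hπ : e.hom ≫ FBase.bcπ (FBase.bcStr f L) K = Groth.L22.GeomConn.bcMap f L K :=
    (Groth.L22.GeomConn.isPullback_bcMap f L K).isoPullback_hom_fst
  refine Set.ext fun w => ⟨?_, fun hw => ?_⟩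
  · rintro ⟨v, hv, rfl⟩
    exact (show (e.hom ≫ FBase.bcπ (FBase.bcStr f L) K).base v ∈
      connectedComponent (Groth.L22.GeomConn.bcMap f L K₀ z) from hπ ▸ hv)
  · obtain ⟨v, rfl⟩ := e.hom.homeomorph.surjective w
    refine ⟨v, ?_, rfl⟩
    exact (show (Groth.L22.GeomConn.bcMap f L K).base v ∈
      connectedComponent (Groth.L22.GeomConn.bcMap f L K₀ z) from hπ ▸ hw)

end Groth.Agent.S4645
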