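import Groth.Statements.S4647
import Mathlib.RingTheory.Flat.FaithfullyFlat.Algebra
import Mathlib.AlgebraicGeometry.Noetherian
import Mathlib.Topology.Sober

set_option autoImplicit false
set_option maxSynthPendingDepth 3
set_option backward.isDefEq.respectTransparency false
set_option backward.isDefEq.respectTransparency.types false
set_option linter.style.haveILetI false
open CategoryTheory AlgebraicGeometry
universe u
open FDesc

namespace Groth.Agent.S4647

/-- Let f : X → Y be a faithfully flat (flat and surjective) morphism. If all local rings of X are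
domains (in particular if X is locally integral) and the underlying space of Y is locally
Noetherian, then Y is locally integral: every point of Y has an open neighbourhood which is an
integral scheme. -/
theorem result {X Y : Scheme.{u}} (f : X ⟶ Y) [Flat f] [Surjective f]
    (hX : ∀ x : X, IsDomain ↑(X.presheaf.stalk x))
    (hY : ∀ y : Y, ∃ U : Y.Opens, y ∈ U ∧ TopologicalSpace.NoetherianSpace ↥U) (y : Y) :
    ∃ U : Y.Opens, y ∈ U ∧ IsIntegral (U : Scheme.{u}) := by
  have hdom : ∀ z : Y, IsDomain (Y.presheaf.stalk z) := fun z => by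
    obtain ⟨x, rfl⟩ := f.surjective z
    haveI := hX x
    letI := (f.stalkMap x).hom.toAlgebra
    haveI : Module.Flat (Y.presheaf.stalk (f x)) (X.presheaf.stalk x) := Flat.stalkMap f x
    haveI : IsLocalHom (algebraMap (Y.presheaf.stalk (f x)) (X.presheaf.stalk x)) :=
      inferInstanceAs (IsLocalHom (f.stalkMap x).hom)
    haveI := Module.FaithfullyFlat.of_flat_of_isLocalHom (A := Y.presheaf.stalk (f x)) (B := X.presheaf.stalk x)
    exact (FaithfulSMul.algebraMap_injective (Y.presheaf.stalk (f x)) (X.presheaf.stalk x)).isDomain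
      (algebraMap (Y.presheaf.stalk (f x)) (X.presheaf.stalk x))
  haveI : IsReduced Y := @isReduced_of_isReduced_stalk _ fun z => haveI := hdom z; inferInstance
  obtain ⟨U, hyU, hU⟩ := hY y
  haveI := hU
  let Z : Scheme.{u} := U
  haveI : TopologicalSpace.NoetherianSpace Z := hU
  have huniq : ∀ (z : Z) (Z₁ : Set Z), Z₁ ∈ irreducibleComponents (Z : Type u) → z ∈ Z₁ →
      Z₁ = irreducibleComponent z := by
    intro z
    haveI := hdom (U.ι z)
    haveI : IsDomain (Z.presheaf.stalk z) :=
      (asIso (U.ι.stalkMap z)).symm.commRingCatIsoToRingEquiv.toMulEquiv.isDomain _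
    suffices H : ∀ Z' ∈ irreducibleComponents (Z : Type u), z ∈ Z' →
        Z' = closure {Z.fromSpecStalk z ⟨⊥, Ideal.isPrime_bot⟩} by
      intro Z₁ h₁ hz₁
      rw [H _ h₁ hz₁, H _ (irreducibleComponent_mem_irreducibleComponents z) mem_irreducibleComponent]
    intro Z' hZ hxZ
    obtain ⟨w, hw⟩ := QuasiSober.sober hZ.1 (isClosed_of_mem_irreducibleComponents Z' hZ)
    obtain ⟨q, rfl⟩ : w ∈ Set.range (Z.fromSpecStalk z) := by
      rw [Scheme.range_fromSpecStalk]; exact hw.specializes hxZ
    have hbot : Z.fromSpecStalk z ⟨⊥, Ideal.isPrime_bot⟩ ⤳ Z.fromSpecStalk z q :=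
      Specializes.map ((PrimeSpectrum.le_iff_specializes _ _).mp bot_le) (Z.fromSpecStalk z).continuous
    refine subset_antisymm ?_ ?_
    · rw [← hw.def]
      exact specializes_iff_closure_subset.mp hbot
    · exact hZ.2 isIrreducible_singleton.closure (hw.def.ge.trans (specializes_iff_closure_subset.mp hbot))
  let y₀ : Z := ⟨y, hyU⟩
  let C := irreducibleComponent y₀
  let bad : Set Z := ⋃ Z' ∈ irreducibleComponents (Z : Type u) \ {C}, Z'
  have hbad : IsClosed bad := ((TopologicalSpace.NoetherianSpace.finite_irreducibleComponents).sdiff).isClosed_biUnion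
    fun Z' hZ' => isClosed_of_mem_irreducibleComponents Z' hZ'.1
  have hy0 : y₀ ∈ badᶜ := fun h => by
    obtain ⟨Z', hZ', hy⟩ := Set.mem_iUnion₂.mp h
    exact hZ'.2 (huniq y₀ Z' hZ'.1 hy)
  have hsub : badᶜ ⊆ C := fun w hw => by
    by_contra hwC
    exact hw (Set.mem_iUnion₂.mpr ⟨irreducibleComponent w, ⟨irreducibleComponent_mem_irreducibleComponents w,
      fun e => hwC (Set.mem_singleton_iff.mp e ▸ mem_irreducibleComponent)⟩, mem_irreducibleComponent⟩)
  let V : Z.Opens := ⟨badᶜ, hbad.isOpen_compl⟩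
  refine ⟨U.ι ''ᵁ V, ⟨y₀, hy0, rfl⟩, ?_⟩
  haveI : Nonempty ↥(U.ι ''ᵁ V : Y.Opens) := ⟨⟨y, y₀, hy0, rfl⟩⟩
  haveI : IsReduced ((U.ι ''ᵁ V : Y.Opens) : Scheme.{u}) := isReduced_of_isOpenImmersion (U.ι ''ᵁ V).ι
  haveI : IrreducibleSpace ((U.ι ''ᵁ V : Y.Opens) : Scheme.{u}) := by
    haveI : PreirreducibleSpace ↥((U.ι ''ᵁ V : Y.Opens) : Set Y) :=
      Subtype.preirreducibleSpace ((isIrreducible_irreducibleComponent.2.open_subset hbad.isOpen_compl hsub).image _
        U.ι.continuous.continuousOn)
    exact { toNonempty := (inferInstance : Nonempty ↥(U.ι ''ᵁ V : Y.Opens)), toPreirreducibleSpace := ‹_› }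
  exact isIntegral_of_irreducibleSpace_of_isReduced _

end Groth.Agent.S4647
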