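import Groth.Statements.S4648
import Groth.Agent.L19.QuasiFlat

set_option autoImplicit false
set_option backward.isDefEq.respectTransparency.types false
set_option backward.isDefEq.respectTransparency false
set_option linter.style.haveILetI false
open CategoryTheory AlgebraicGeometry
universe u
open FDesc

namespace Groth.Agent.S4648

/-- Let f : X → Y be a quasi-flat, surjective and quasi-compact morphism and Z a subset of Y. Then Z is
a locally closed pro-constructible subset of Y if and only if f⁻¹(Z) is a locally closed
pro-constructible subset of X. -/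
theorem result {X Y : Scheme.{u}} (f : X ⟶ Y)
    (hf : FDesc.IsQuasiFlat f) [Surjective f] [QuasiCompact f] (Z : Set ↥Y) :
    (IsLocallyClosed Z ∧ ProCons.IsProConstructible Z) ↔
      (IsLocallyClosed (⇑f ⁻¹' Z) ∧ ProCons.IsProConstructible (⇑f ⁻¹' Z)) := by
  constructor
  · rintro ⟨h1, h2⟩
    exact ⟨h1.preimage f.continuous, Groth.L06.ProCons.isProConstructible_iff_cc.mpr
      ((Groth.L06.ProCons.isProConstructible_iff_cc.mp h2).preimage f)⟩
  · rintro ⟨h1, h2⟩
    have hcc : Groth.L19.Limit.CC Z := by
      rw [← Set.image_preimage_eq Z f.surjective]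
      exact Groth.L06.ProCons.cc_image f (Groth.L06.ProCons.isProConstructible_iff_cc.mp h2)
    refine ⟨?_, Groth.L06.ProCons.isProConstructible_iff_cc.mpr hcc⟩
    have hg := Groth.L19.QFlat.generalizingMap f hf
    have he : coborder (⇑f ⁻¹' Z) = ⇑f ⁻¹' coborder Z := by
      simp only [coborder, Set.preimage_compl, Set.preimage_sdiff,
        Groth.L19.QFlat.preimage_closure_eq f hg hcc]
    rw [isLocallyClosed_iff_isOpen_coborder] at h1 ⊢
    rw [he] at h1
    exact (Groth.L19.QFlat.isQuotientMap f hg).isOpen_preimage.mp h1

end Groth.Agent.S4648
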