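import Groth.Statements.S4651
import Groth.Agent.L07.EquidimQF

set_option autoImplicit false
open CategoryTheory AlgebraicGeometry
universe u
open FDesc

namespace Groth.Agent.S4651

/-- Let Y be a scheme whose family of irreducible components is locally finite (every point has an open
neighbourhood meeting only finitely many irreducible components), and let f : X → Y be a morphism
along which generizations lift (e.g. flat, quasi-flat or open) such that every fibre f⁻¹(y) is a
finite set (e.g. f quasi-finite or radicial). Then the family of irreducible components of X is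
locally finite. -/
theorem result {X Y : Scheme.{u}} (f : X ⟶ Y)
    (hY : ∀ y : Y, ∃ U : Set ↥Y, IsOpen U ∧ y ∈ U ∧ {Z ∈ irreducibleComponents ↥Y | (Z ∩ U).Nonempty}.Finite)
    (hf : GeneralizingMap ⇑f) (hfin : ∀ y : Y, (⇑f ⁻¹' {y}).Finite) (x : X) :
    ∃ U : Set ↥X, IsOpen U ∧ x ∈ U ∧ {T ∈ irreducibleComponents ↥X | (T ∩ U).Nonempty}.Finite := by
  obtain ⟨U, hU, hxU, hfU⟩ := hY (f x)
  refine ⟨f ⁻¹' U, hU.preimage f.continuous, hxU, ?_⟩
  let E := {Z ∈ irreducibleComponents ↥Y | (Z ∩ U).Nonempty}
  have : Finite E := hfU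
  let G : Set X := ⋃ Z : E, f ⁻¹' {y | closure ({y} : Set Y) = Z.1}
  have hG : G.Finite := by
    refine Set.finite_iUnion fun Z => ?_
    by_cases h : ∃ y : Y, closure ({y} : Set Y) = Z.1
    · obtain ⟨y, hy⟩ := h
      refine (hfin y).subset fun z (hz : closure ({f z} : Set Y) = Z.1) => ?_
      exact ((inseparable_iff_closure_eq).2 (hz.trans hy.symm)).eq
    · exact Set.Finite.subset Set.finite_empty fun z hz => h ⟨f z, hz⟩
  refine (hG.image fun z => closure ({z} : Set X)).subset ?_
  rintro T ⟨hT, t, htT, htU⟩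
  obtain ⟨η, hη⟩ := QuasiSober.sober hT.1 (isClosed_of_mem_irreducibleComponents T hT)
  subst hη
  have hmax : ∀ w, w ⤳ η → w = η := (Groth.L07.EquidimQF.closure_singleton_mem_irreducibleComponents_iff η).1 hT
  have hc : closure ({f η} : Set Y) ∈ irreducibleComponents (Y : Type u) := by
    refine (Groth.L07.EquidimQF.closure_singleton_mem_irreducibleComponents_iff _).2 fun q hq => ?_
    obtain ⟨w, hw, rfl⟩ := hf hq
    rw [hmax w hw]
  have hsp : f η ⤳ f t := (specializes_iff_mem_closure.2 htT).map f.continuous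
  refine ⟨η, Set.mem_iUnion.2 ⟨⟨_, hc, f t, specializes_iff_mem_closure.1 hsp, htU⟩, rfl⟩, rfl⟩

end Groth.Agent.S4651
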