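import Groth.Statements.S4654
import Groth.Agent.L00.StalkFunctor
import Groth.Agent.L01.FlatCx.Seq

set_option autoImplicit false
set_option backward.isDefEq.respectTransparency.types false
set_option backward.isDefEq.respectTransparency false
set_option linter.style.haveILetI false
open CategoryTheory AlgebraicGeometry
universe u
open FDesc

namespace Groth.Agent.S4654

/-- Let f : X → Y be a morphism of schemes and 0 → F' → F → F'' → 0 a short exact sequence of
quasi-coherent O_X-modules such that F'' is flat over Y. Then F is flat over Y if and only if F' is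
flat over Y. -/
theorem result {X Y : Scheme.{u}} (f : X ⟶ Y) (S : ShortComplex X.Modules)
    (hS : S.ShortExact) (h₁ : Coh.IsQCoh S.X₁) (h₂ : Coh.IsQCoh S.X₂) (h₃ : Coh.IsQCoh S.X₃)
    (hflat : FlatMod.IsFlatOver f S.X₃) :
    FlatMod.IsFlatOver f S.X₂ ↔ FlatMod.IsFlatOver f S.X₁ := by
  suffices h : ∀ x : X, FlatMod.IsFlatOverAt f S.X₂ x ↔ FlatMod.IsFlatOverAt f S.X₁ x from
    ⟨fun h' x => (h x).1 (h' x), fun h' x => (h x).2 (h' x)⟩
  intro x
  let G : X.Modules ⥤ ModuleCat.{u} (Y.presheaf.stalk (f x)) :=
    Groth.L00.Stk.F X x ⋙ ModuleCat.restrictScalars (f.stalkMap x).hom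
  have hT : (S.map G).ShortExact :=
    (hS.map_of_exact (Groth.L00.Stk.F X x)).map_of_exact (ModuleCat.restrictScalars (f.stalkMap x).hom)
  have hf' : Function.Injective (S.map G).f.hom := (ModuleCat.mono_iff_injective _).mp hT.mono_f
  have hg' : Function.Surjective (S.map G).g.hom := (ModuleCat.epi_iff_surjective _).mp hT.epi_g
  have hfg : Function.Exact (S.map G).f.hom (S.map G).g.hom :=
    (ShortComplex.ShortExact.moduleCat_exact_iff_function_exact _).mp hT.exact
  haveI : Module.Flat (Y.presheaf.stalk (f x)) (S.map G).X₃ := hflat x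
  constructor
  · intro h
    haveI : Module.Flat (Y.presheaf.stalk (f x)) (S.map G).X₂ := h
    exact (Groth.L01.FlatCx.flat_left hf' hg' hfg :)
  · intro h
    haveI : Module.Flat (Y.presheaf.stalk (f x)) (S.map G).X₁ := h
    exact (Groth.L01.FlatCx.flat_middle hf' hg' hfg :)

end Groth.Agent.S4654
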