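
import Groth.Statements.S4662
import Groth.Agent.L22.GeomConn.Dims

set_option autoImplicit false
open CategoryTheory AlgebraicGeometry
universe u
open FBase

namespace Groth.Agent.S4662

open CategoryTheory.Limits in
/-- Let X and Y be integral schemes locally of finite type over a field k. Then every irreducible
component of X ×_k Y has dimension dim X + dim Y (Krull dimensions of the underlying spaces, valued
in WithBot ℕ∞). -/
theorem result {k : Type u} [Field k] {X Y : Scheme.{u}}
    (f : X ⟶ Spec (CommRingCat.of k)) (g : Y ⟶ Spec (CommRingCat.of k)) [IsIntegral X] [IsIntegral Y]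
    [LocallyOfFiniteType f] [LocallyOfFiniteType g] (Z : Set ↥(pullback f g))
    (hZ : Z ∈ irreducibleComponents ↥(pullback f g)) :
    topologicalKrullDim ↥Z = topologicalKrullDim ↥X + topologicalKrullDim ↥Y := by
  open CategoryTheory.Limits in
  have h := Groth.L22.GeomConn.isMaxPt_genericPoint Z hZ
  have e : closure ({hZ.1.genericPoint} : Set ↥(pullback f g)) = Z :=
    hZ.1.isGenericPoint_genericPoint (isClosed_of_mem_irreducibleComponents _ hZ)
  obtain ⟨h1, h2, hd⟩ := Groth.L22.GeomConn.dim_closure_prod f g h
  rw [e, Groth.L22.GeomConn.IsMaxPt.map' h1 ((genericPoint_spec X).specializes trivial),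
    Groth.L22.GeomConn.IsMaxPt.map' h2 ((genericPoint_spec Y).specializes trivial),
    genericPoint_closure, genericPoint_closure] at hd
  rw [hd, (Homeomorph.Set.univ X).isHomeomorph.topologicalKrullDim_eq, (Homeomorph.Set.univ Y).isHomeomorph.topologicalKrullDim_eq]

end Groth.Agent.S4662
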