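
import Groth.Statements.S4663
import Groth.Agent.L22.GeomConn.Dims

set_option autoImplicit false
open CategoryTheory AlgebraicGeometry
universe u
open FBase

namespace Groth.Agent.S4663

/-- Let X be a scheme locally of finite type over a field k, K an extension field of k, and Z an
irreducible closed subset of X. Then every irreducible component of the inverse image of Z in X ⊗_k
K has the same dimension as Z (Krull dimensions of the underlying topological spaces, valued in
WithBot ℕ∞). (In the published statement Z is a cycle associated to a quasi-coherent O_X-module,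
with its reduced subscheme structure, and the components are those of Z ⊗_k K; such cycles are
exactly the irreducible closed subsets of X, and Z ⊗_k K has the inverse image of Z as underlying
space.) -/
theorem result {k K : Type u} [Field k] [Field K] [Algebra k K]
    {X : Scheme.{u}} (f : X ⟶ Spec (CommRingCat.of k)) [LocallyOfFiniteType f]
    (Z : Set ↥X) (hZc : IsClosed Z) (hZi : IsIrreducible Z)
    (W : Set ↥(⇑(FBase.bcπ f K) ⁻¹' Z)) (hW : W ∈ irreducibleComponents ↥(⇑(FBase.bcπ f K) ⁻¹' Z)) :
    topologicalKrullDim ↥W = topologicalKrullDim ↥Z := by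
  classical
  let Zc : TopologicalSpace.Closeds ↥X := ⟨Z, hZc⟩
  let ι := (Scheme.IdealSheafData.vanishingIdeal Zc).subschemeι
  have hιr : Set.range ι = Z := by
    rw [Scheme.IdealSheafData.range_subschemeι, Scheme.IdealSheafData.coe_support_vanishingIdeal]
    rfl
  let S := (Scheme.IdealSheafData.vanishingIdeal Zc).subscheme
  haveI : IrreducibleSpace ↥S := by
    haveI : IrreducibleSpace (Set.range ι) := Subtype.irreducibleSpace (hιr.symm ▸ hZi)
    exact ι.isEmbedding.toHomeomorph.irreducibleSpace_iff.mpr inferInstance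
  haveI : LocallyOfFiniteType (ι ≫ f) := inferInstance
  let m : FBase.bc (ι ≫ f) K ⟶ FBase.bc f K :=
    CategoryTheory.Limits.pullback.map _ _ _ _ ι (𝟙 _) (𝟙 _) (by rw [Category.comp_id]) (by rw [Category.comp_id, Category.id_comp])
  haveI : IsPreimmersion m := MorphismProperty.pullbackMap (P := @IsPreimmersion) inferInstance inferInstance rfl (Category.id_comp _).symm
  have hm : Set.range m = FBase.bcπ f K ⁻¹' Z := by
    refine (Scheme.Pullback.range_map _ _ _ _ _ _ _ _ _).trans ?_
    rw [hιr]
    exact Set.inter_eq_left.2 fun v _ => ⟨(FBase.bcStr f K).base v, rfl⟩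
  let e : ↥(FBase.bc (ι ≫ f) K) ≃ₜ ↥(⇑(FBase.bcπ f K) ⁻¹' Z) := m.isEmbedding.toHomeomorph.trans (Homeomorph.setCongr hm)
  have hW' : e ⁻¹' W ∈ irreducibleComponents ↥(FBase.bc (ι ≫ f) K) :=
    preimage_mem_irreducibleComponents hW e.isOpenEmbedding (by rw [e.surjective.range_eq, Set.inter_univ]; exact hW.1.nonempty)
  have ht := Groth.L22.GeomConn.isMaxPt_genericPoint _ hW'
  have et : closure ({hW'.1.genericPoint} : Set ↥(FBase.bc (ι ≫ f) K)) = e ⁻¹' W :=
    hW'.1.isGenericPoint_genericPoint (isClosed_of_mem_irreducibleComponents _ hW')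
  have hd := Groth.L22.GeomConn.dim_closure_isMaxPt (ι ≫ f) K ht
  rw [et, Groth.L22.GeomConn.IsMaxPt.map' (ht.map _) ((genericPoint_spec ↥S).specializes trivial), genericPoint_closure,
    (Homeomorph.Set.univ ↥S).isHomeomorph.topologicalKrullDim_eq] at hd
  have h1 : topologicalKrullDim ↥W = topologicalKrullDim ↥(e ⁻¹' W) :=
    Groth.L22.SchemeDim.topologicalKrullDim_eq_of_isEmbedding (f := fun v : ↥(e ⁻¹' W) => e v.1)
      (e.isEmbedding.comp Topology.IsEmbedding.subtypeVal)
      (by rw [Set.range_comp', Subtype.range_coe, Set.image_preimage_eq _ e.surjective])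
  rw [h1, hd]
  exact (Groth.L22.SchemeDim.topologicalKrullDim_eq_of_isEmbedding (f := ι) ι.isEmbedding hιr).symm

end Groth.Agent.S4663
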