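import Groth.Statements.S4665
import Groth.Agent.L20.GeomFibre
-- import your own Groth.Agent.* helpers here

set_option autoImplicit false
open CategoryTheory AlgebraicGeometry
universe u
open FBase

namespace Groth.Agent.S4665

open CategoryTheory.Limits in
/-- Let f : X → Y and g : Y' → Y be morphisms of schemes with g surjective, and let f' : X ×_Y Y' → Y'
be the base change of f. Say that a morphism has geometrically connected fibres when, for every
field K and every morphism from Spec K to its target, the base change to Spec K is empty or
connected (so an empty fibre counts as geometrically connected). If f' has geometrically connected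
fibres in this sense, then so has f. -/
theorem result {X Y Y' : Scheme.{u}} (f : X ⟶ Y)
    (g : Y' ⟶ Y) [Surjective g]
    (h : geometrically (fun Z : Scheme.{u} => IsEmpty ↥Z ∨ ConnectedSpace ↥Z) (pullback.snd f g)) :
    geometrically (fun Z : Scheme.{u} => IsEmpty ↥Z ∨ ConnectedSpace ↥Z) f := by
  rw [geometrically_iff_forall_fiberToSpecResidueField]
  intro y
  obtain ⟨y', rfl⟩ := g.surjective y
  refine (Groth.L20.geometrically_fiber_iff _ (fun {Z' Z} p _ _ hp => ?_)
    f g _ _ (IsPullback.of_hasPullback f g) y').1 ((geometrically_iff_forall_fiberToSpecResidueField).1 h y')
  rcases hp with hp | hp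
  · exact Or.inl ⟨fun z => hp.elim (p.surjective z).choose⟩
  · haveI := hp
    exact Or.inr (Groth.L20.connectedSpace_of_surjective p)

end Groth.Agent.S4665
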