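import Groth.Statements.S4666
import Groth.Agent.L22.Ideal
import Mathlib.AlgebraicGeometry.Morphisms.Flat

set_option autoImplicit false
set_option backward.isDefEq.respectTransparency.types false
set_option backward.isDefEq.respectTransparency false
set_option linter.style.haveILetI false
open CategoryTheory AlgebraicGeometry
universe u
open FDesc

namespace Groth.Agent.S4666

/-- Let f : X → Y be a flat and surjective morphism of schemes. Then the map sending a quasi-coherent
sheaf of ideals of O_Y (a closed subscheme of Y) to its inverse image in X is injective. -/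
theorem result {X Y : Scheme.{u}} (f : X ⟶ Y) [Flat f] [Surjective f] :
    Function.Injective fun J : Y.IdealSheafData => J.comap f := by
  intro J J' h
  simp only at h
  refine Scheme.IdealSheafData.ext (funext fun U => ?_)
  rw [U.2.ideal_ext_iff]
  intro y hy
  obtain ⟨x, rfl⟩ := (surjective_iff f).mp inferInstance y
  obtain ⟨_, ⟨V, hV, rfl⟩, hxV, hVU⟩ :=
    X.isBasis_affineOpens.exists_subset_of_mem_open (a := x)
      (show x ∈ f ⁻¹ᵁ U.1 from hy) (f ⁻¹ᵁ U.1).2
  have hV' : V ≤ f ⁻¹ᵁ U.1 := fun z hz => hVU hz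
  have key : ∀ K : Y.IdealSheafData, ((K.ideal U).map (Y.presheaf.germ U.1 (f x) hy).hom).map (f.stalkMap x).hom
      = ((K.comap f).ideal ⟨V, hV⟩).map (X.presheaf.germ V x hxV).hom := by
    intro K
    rw [Groth.L22.Ideals.comap_ideal f K U ⟨V, hV⟩ hV', Ideal.map_map, Ideal.map_map,
      ← CommRingCat.hom_comp, ← CommRingCat.hom_comp, Scheme.Hom.germ_stalkMap, Scheme.Hom.appLE,
      Category.assoc, X.presheaf.germ_res]
  have h1 : ((J.ideal U).map (Y.presheaf.germ U.1 (f x) hy).hom).map (f.stalkMap x).hom =
      ((J'.ideal U).map (Y.presheaf.germ U.1 (f x) hy).hom).map (f.stalkMap x).hom := by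
    rw [key, key, h]
  algebraize [(f.stalkMap x).hom]
  haveI : Module.FaithfullyFlat (Y.presheaf.stalk (f x)) (X.presheaf.stalk x) :=
    @Module.FaithfullyFlat.of_flat_of_isLocalHom _ _ _ _ _ _ _
      (Flat.stalkMap f x) (f.toLRSHom.prop x)
  have := congrArg (Ideal.comap (algebraMap (Y.presheaf.stalk (f x)) (X.presheaf.stalk x))) h1
  rwa [← RingHom.algebraMap_toAlgebra (f.stalkMap x).hom, Ideal.comap_map_eq_self_of_faithfullyFlat,
    Ideal.comap_map_eq_self_of_faithfullyFlat] at this

end Groth.Agent.S4666
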