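
import Groth.Statements.S4672
import Groth.Agent.L22.GeomConn.Crit

set_option autoImplicit false
open CategoryTheory AlgebraicGeometry
universe u
open FBase

namespace Groth.Agent.S4672

open CategoryTheory.Limits in
/-- Let X and Y be locally Noetherian schemes over a field k such that X ×_k Y is locally Noetherian,
with projections p and q. Then a subset W of X ×_k Y is an irreducible component of X ×_k Y if and
only if there exist an irreducible component X' of X and an irreducible component Y' of Y such that
W is a maximal irreducible subset of p⁻¹(X') ∩ q⁻¹(Y') (that is, an irreducible component of the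
space underlying X' ×_k Y' for the reduced structures on X' and Y'). -/
theorem result {k : Type u} [Field k] {X Y : Scheme.{u}}
    (f : X ⟶ Spec (CommRingCat.of k)) (g : Y ⟶ Spec (CommRingCat.of k)) [IsLocallyNoetherian X]
    [IsLocallyNoetherian Y] [IsLocallyNoetherian (pullback f g)] (W : Set ↥(pullback f g)) :
    W ∈ irreducibleComponents ↥(pullback f g) ↔
      ∃ X' ∈ irreducibleComponents ↥X, ∃ Y' ∈ irreducibleComponents ↥Y,
        Maximal (fun V : Set ↥(pullback f g) => IsIrreducible V ∧ V ⊆ ⇑(pullback.fst f g) ⁻¹' X' ∩ ⇑(pullback.snd f g) ⁻¹' Y') W := by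
  open CategoryTheory.Limits in
  classical
  haveI := Groth.L22.GeomConn.flat_toSpecField f
  haveI := Groth.L22.GeomConn.flat_toSpecField g
  let p := pullback.fst f g
  let q := pullback.snd f g
  have gen : ∀ {Z : Scheme.{u}} (T : Set Z) (hT : T ∈ irreducibleComponents Z), closure {hT.1.genericPoint} = T :=
    fun T hT => hT.1.isGenericPoint_genericPoint (isClosed_of_mem_irreducibleComponents _ hT)
  constructor
  · intro hW
    have hw := Groth.L22.GeomConn.isMaxPt_genericPoint W hW
    refine ⟨_, Groth.L22.GeomConn.closure_mem_irreducibleComponents (hw.map p),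
      _, Groth.L22.GeomConn.closure_mem_irreducibleComponents (hw.map q), ⟨hW.1, ?_⟩, fun V hV hWV => hW.2 hV.1 hWV⟩
    intro a ha
    have hsp : hW.1.genericPoint ⤳ a := by
      rw [specializes_iff_mem_closure, gen W hW]; exact ha
    exact ⟨(hsp.map p.continuous).mem_closure, (hsp.map q.continuous).mem_closure⟩
  · rintro ⟨X', hX', Y', hY', hmax⟩
    let S : Set ↥(pullback f g) := p ⁻¹' X' ∩ q ⁻¹' Y'
    have hS : IsClosed S := ((isClosed_of_mem_irreducibleComponents _ hX').preimage p.continuous).inter
      ((isClosed_of_mem_irreducibleComponents _ hY').preimage q.continuous)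
    have hWS : W ⊆ S := hmax.1.2
    have hWc : IsClosed W := by
      have := hmax.2 ⟨hmax.1.1.closure, closure_minimal hWS hS⟩ subset_closure
      exact closure_subset_iff_isClosed.1 this
    set w := hmax.1.1.genericPoint with hwdef
    have hwcl : closure {w} = W := hmax.1.1.isGenericPoint_genericPoint hWc
    have hwS : w ∈ S := hWS (hwcl.subset (subset_closure rfl))
    have hmaxS : ∀ v ∈ S, v ⤳ w → v = w := fun v hv hvw => by
      have hsub : W ⊆ closure {v} := hwcl ▸ closure_minimal (Set.singleton_subset_iff.2 hvw.mem_closure) isClosed_closure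
      have hsub' : closure {v} ⊆ W := hmax.2 ⟨isIrreducible_singleton.closure, closure_minimal (Set.singleton_subset_iff.2 hv) hS⟩ hsub
      exact ((show IsGenericPoint v W from subset_antisymm hsub' hsub).eq (show IsGenericPoint w W from hwcl))
    have hpw : p w = hX'.1.genericPoint := by
      let h := Y.fromSpecResidueField (q w) ≫ g
      haveI := Groth.L22.GeomConn.flat_toSpecField h
      let c : pullback f h ⟶ pullback f g :=
        pullback.map _ _ _ _ (𝟙 X) (Y.fromSpecResidueField (q w)) (𝟙 _) (by simp) (by simp [h])
      have hrc : Set.range c = q ⁻¹' {q w} := by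
        refine (Scheme.Pullback.range_map _ _ _ _ _ _ _ _ _).trans ?_
        rw [Scheme.range_fromSpecResidueField]
        exact Set.inter_eq_right.2 fun v _ => ⟨p v, rfl⟩
      obtain ⟨w', hw'⟩ : w ∈ Set.range c := hrc.symm.subset rfl
      have hcp : ∀ v, p (c v) = pullback.fst f h v := fun v => by
        rw [← Scheme.Hom.comp_apply, show c ≫ p = pullback.fst f h from (pullback.lift_fst _ _ _).trans (Category.comp_id _)]
      have hsp : hX'.1.genericPoint ⤳ pullback.fst f h w' := by
        rw [specializes_iff_mem_closure, gen X' hX', ← hcp, hw']; exact hwS.1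
      obtain ⟨v, hv, hve⟩ := Flat.generalizingMap (pullback.fst f h) hsp
      have hcv : q (c v) = q w := hrc.subset ⟨v, rfl⟩
      have hp : p (c v) = hX'.1.genericPoint := (hcp v).trans hve
      have hmem : c v ∈ S := ⟨by rw [Set.mem_preimage, hp]; exact (gen X' hX').subset (subset_closure rfl), by
        rw [Set.mem_preimage, hcv]; exact hwS.2⟩
      rw [← hp, hmaxS _ hmem ((hv.map c.continuous).trans (specializes_of_eq hw'))]
    have hqw : q w = hY'.1.genericPoint := by
      let h := X.fromSpecResidueField (p w) ≫ f
      haveI := Groth.L22.GeomConn.flat_toSpecField h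
      let c : pullback h g ⟶ pullback f g :=
        pullback.map _ _ _ _ (X.fromSpecResidueField (p w)) (𝟙 Y) (𝟙 _) (by simp [h]) (by simp)
      have hrc : Set.range c = p ⁻¹' {p w} := by
        refine (Scheme.Pullback.range_map _ _ _ _ _ _ _ _ _).trans ?_
        rw [Scheme.range_fromSpecResidueField]
        exact Set.inter_eq_left.2 fun v _ => ⟨q v, rfl⟩
      obtain ⟨w', hw'⟩ : w ∈ Set.range c := hrc.symm.subset rfl
      have hcp : ∀ v, q (c v) = pullback.snd h g v := fun v => by
        rw [← Scheme.Hom.comp_apply, show c ≫ q = pullback.snd h g from (pullback.lift_snd _ _ _).trans (Category.comp_id _)]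
      have hsp : hY'.1.genericPoint ⤳ pullback.snd h g w' := by
        rw [specializes_iff_mem_closure, gen Y' hY', ← hcp, hw']; exact hwS.2
      obtain ⟨v, hv, hve⟩ := Flat.generalizingMap (pullback.snd h g) hsp
      have hcv : p (c v) = p w := hrc.subset ⟨v, rfl⟩
      have hp : q (c v) = hY'.1.genericPoint := (hcp v).trans hve
      have hmem : c v ∈ S := ⟨by rw [Set.mem_preimage, hcv]; exact hwS.1, by
        rw [Set.mem_preimage, hp]; exact (gen Y' hY').subset (subset_closure rfl)⟩
      rw [← hp, hmaxS _ hmem ((hv.map c.continuous).trans (specializes_of_eq hw'))]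
    refine ⟨hmax.1.1, fun T hT hWT => ?_⟩
    obtain ⟨t, ht, htw⟩ := Groth.L22.GeomConn.exists_isMaxPt_specializes hT.genericPoint
    have hTsub : T ⊆ closure {t} := subset_closure.trans (hT.isGenericPoint_genericPoint_closure.symm.subset.trans
      (closure_minimal (Set.singleton_subset_iff.2 htw.mem_closure) isClosed_closure))
    have htw' : t ⤳ w := specializes_iff_mem_closure.2 (hTsub (hWT (hwcl.subset (subset_closure rfl))))
    have htp : p t = hX'.1.genericPoint := Groth.L22.GeomConn.isMaxPt_genericPoint X' hX' _ (hpw ▸ htw'.map p.continuous)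
    have htq : q t = hY'.1.genericPoint := Groth.L22.GeomConn.isMaxPt_genericPoint Y' hY' _ (hqw ▸ htw'.map q.continuous)
    have htS : t ∈ S := ⟨by rw [Set.mem_preimage, htp]; exact (gen X' hX').subset (subset_closure rfl),
      by rw [Set.mem_preimage, htq]; exact (gen Y' hY').subset (subset_closure rfl)⟩
    rw [← hwcl, ← hmaxS t htS htw']
    exact hTsub

end Groth.Agent.S4672
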