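
import Groth.Statements.S4673
import Groth.Agent.L22.GeomConn.Dims

set_option autoImplicit false
open CategoryTheory AlgebraicGeometry
universe u
open FBase

namespace Groth.Agent.S4673

/-- Let X be a scheme locally of finite type over a field k and K an extension field of k. Then the set
of dimensions of the irreducible components of X ⊗_k K is equal to the set of dimensions of the
irreducible components of X (Krull dimensions of the underlying spaces, valued in WithBot ℕ∞). -/
theorem result {k K : Type u} [Field k] [Field K] [Algebra k K]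
    {X : Scheme.{u}} (f : X ⟶ Spec (CommRingCat.of k)) [LocallyOfFiniteType f] :
    (fun Z : Set ↥(FBase.bc f K) => topologicalKrullDim ↥Z) '' irreducibleComponents ↥(FBase.bc f K) =
      (fun Z : Set ↥X => topologicalKrullDim ↥Z) '' irreducibleComponents ↥X := by
  ext d
  constructor
  · rintro ⟨T, hT, rfl⟩
    refine ⟨_, Groth.L22.GeomConn.image_irreducibleComponent f K hT, ?_⟩
    have h := Groth.L22.GeomConn.isMaxPt_genericPoint T hT
    have e : closure ({hT.1.genericPoint} : Set ↥(FBase.bc f K)) = T :=
      hT.1.isGenericPoint_genericPoint (isClosed_of_mem_irreducibleComponents _ hT)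
    have e' := Groth.L22.GeomConn.image_closure_of_isMaxPt f K h
    rw [e] at e'
    have hd := Groth.L22.GeomConn.dim_closure_isMaxPt f K h
    rw [e, ← e'] at hd
    exact hd.symm
  · rintro ⟨Z, hZ, rfl⟩
    obtain ⟨w, hw⟩ := (FBase.bcπ f K).surjective hZ.1.genericPoint
    obtain ⟨T, hT, -, hTZ⟩ := Groth.L22.GeomConn.exists_component_over f K hZ w
      (hw ▸ (hZ.1.isGenericPoint_genericPoint (isClosed_of_mem_irreducibleComponents _ hZ)).mem)
    refine ⟨T, hT, ?_⟩
    have h := Groth.L22.GeomConn.isMaxPt_genericPoint T hT
    have e : closure ({hT.1.genericPoint} : Set ↥(FBase.bc f K)) = T :=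
      hT.1.isGenericPoint_genericPoint (isClosed_of_mem_irreducibleComponents _ hT)
    have e' := Groth.L22.GeomConn.image_closure_of_isMaxPt f K h
    rw [e, hTZ] at e'
    have hd := Groth.L22.GeomConn.dim_closure_isMaxPt f K h
    rw [e, ← e'] at hd
    exact hd

end Groth.Agent.S4673
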