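import Groth.Statements.S4674
import Mathlib.RingTheory.Flat.Basic
import Mathlib.LinearAlgebra.TensorProduct.Pi

set_option autoImplicit false
set_option backward.isDefEq.respectTransparency.types false
set_option backward.isDefEq.respectTransparency false
set_option linter.style.haveILetI false
open scoped TensorProduct
universe u v w
open FDesc

namespace Groth.Agent.S4674

/-- Let B be a flat A-algebra and M a finitely presented A-module. Then the annihilator of the B-module
B ⊗_A M is the ideal of B generated by the image of the annihilator of M. -/
theorem result {A : Type u} {B : Type v} [CommRing A] [CommRing B] [Algebra A B]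
    [Module.Flat A B] (M : Type w) [AddCommGroup M] [Module A M] [Module.FinitePresentation A M] :
    Module.annihilator B (B ⊗[A] M) = (Module.annihilator A M).map (algebraMap A B) := by
  classical
  obtain ⟨n, g, hg⟩ := Module.Finite.exists_fin (R := A) (M := M)
  let φ : A →ₗ[A] (Fin n → M) := LinearMap.pi fun i => LinearMap.toSpanSingleton A M (g i)
  have hann : Module.annihilator A M = LinearMap.ker φ := by
    ext a
    rw [Module.mem_annihilator, LinearMap.mem_ker]
    refine ⟨fun h => funext fun i => by simp [φ, h (g i)], fun h m => ?_⟩
    have hm : m ∈ Submodule.span A (Set.range g) := hg ▸ Submodule.mem_top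
    induction hm using Submodule.span_induction with
    | mem x hx => obtain ⟨i, rfl⟩ := hx; simpa [φ] using congr_fun h i
    | zero => simp
    | add x y _ _ hx hy => rw [smul_add, hx, hy, add_zero]
    | smul c x _ hx => rw [smul_comm, hx, smul_zero]
  refine le_antisymm (fun b hb => ?_) (Ideal.map_le_iff_le_comap.mpr fun a ha => ?_)
  · have hex : Function.Exact ((LinearMap.ker φ).subtype.lTensor B) (φ.lTensor B) :=
      Module.Flat.lTensor_exact B φ.exact_subtype_ker_map
    let e := TensorProduct.piScalarRight A A B (Fin n)
    have h0 : φ.lTensor B (b ⊗ₜ[A] (1 : A)) = 0 := by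
      apply (TensorProduct.piRight A A B (fun _ : Fin n => M)).injective
      ext i
      simp only [LinearMap.lTensor_tmul, TensorProduct.piRight_apply, TensorProduct.piRightHom_tmul, map_zero,
        Pi.zero_apply]
      show b ⊗ₜ[A] φ 1 i = 0
      rw [show φ 1 i = g i by simp [φ]]
      have := Module.mem_annihilator.mp hb ((1 : B) ⊗ₜ[A] g i)
      rwa [TensorProduct.smul_tmul', smul_eq_mul, mul_one] at this
    obtain ⟨z, hz⟩ := (hex _).mp h0
    have key : ∀ z : B ⊗[A] LinearMap.ker φ,
        TensorProduct.rid A B ((LinearMap.ker φ).subtype.lTensor B z) ∈
          (Module.annihilator A M).map (algebraMap A B) := fun z => by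
      induction z using TensorProduct.induction_on with
      | zero => simp
      | add u v hu hv => rw [map_add, map_add]; exact add_mem hu hv
      | tmul c a =>
        rw [LinearMap.lTensor_tmul, TensorProduct.rid_tmul, Algebra.smul_def]
        exact Ideal.mul_mem_right _ _ (Ideal.mem_map_of_mem _ (by rw [hann]; exact a.2))
    have := key z
    rwa [hz, TensorProduct.rid_tmul, one_smul] at this
  · rw [Ideal.mem_comap, Module.mem_annihilator]
    intro z
    induction z using TensorProduct.induction_on with
    | zero => simp
    | add u v hu hv => rw [smul_add, hu, hv, add_zero]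
    | tmul c m => rw [algebraMap_smul, ← TensorProduct.tmul_smul, Module.mem_annihilator.mp ha m, TensorProduct.tmul_zero]

end Groth.Agent.S4674
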