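import Groth.Statements.S4675
import Mathlib.Algebra.Module.Submodule.Ker
import Mathlib.Algebra.Module.Equiv.Basic
import Mathlib.LinearAlgebra.Span.Basic
-- import your own Groth.Agent.* helpers here

set_option autoImplicit false
universe u v
open FDesc

namespace Groth.Agent.S4675

/-- Let B be a ring, not necessarily commutative, and V, W two left B-modules which are isomorphic. For
a B-linear map u : V → W the following are equivalent: every B-linear map V → W can be written
uniquely as u ∘ c with c a B-linear endomorphism of V (that is, u is a basis of Hom_B(V, W) for its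
right module structure over End_B(V)); u is bijective. -/
theorem result {B : Type u} [Ring B] {V W : Type v} [AddCommGroup V] [AddCommGroup W]
    [Module B V] [Module B W] (e : V ≃ₗ[B] W) (u : V →ₗ[B] W) :
    (∀ v : V →ₗ[B] W, ∃! c : V →ₗ[B] V, v = u ∘ₗ c) ↔ Function.Bijective u := by
  constructor
  · intro h
    obtain ⟨c, hc, -⟩ := h e.toLinearMap
    have hsurj : Function.Surjective u := fun w => by
      obtain ⟨v, rfl⟩ := e.surjective w
      exact ⟨c v, (LinearMap.congr_fun hc v).symm⟩
    refine ⟨?_, hsurj⟩
    -- any endomorphism into the kernel is zero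
    let π : V →ₗ[B] V := LinearMap.id - c ∘ₗ (e.symm.toLinearMap ∘ₗ u)
    have hπ : u ∘ₗ π = 0 := by
      refine LinearMap.ext fun v => ?_
      have := LinearMap.congr_fun hc (e.symm (u v))
      simp only [LinearEquiv.coe_coe, LinearEquiv.apply_symm_apply, LinearMap.comp_apply] at this
      simp [π, map_sub, ← this]
    have h2 : π = 0 := by
      obtain ⟨z, hz, hzu⟩ := h 0
      rw [hzu π hπ.symm, hzu 0 (LinearMap.comp_zero u).symm]
    intro a b hab
    have ha := LinearMap.congr_fun h2 a
    have hb := LinearMap.congr_fun h2 b
    simp only [π, LinearMap.sub_apply, LinearMap.id_apply, LinearMap.comp_apply, LinearMap.zero_apply, sub_eq_zero] at ha hb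
    rw [ha, hb, hab]
  · intro hb v
    let u' := LinearEquiv.ofBijective u hb
    refine ⟨u'.symm.toLinearMap ∘ₗ v, ?_, fun c hc => ?_⟩
    · refine LinearMap.ext fun x => ?_
      exact (u'.apply_symm_apply (v x)).symm
    · refine LinearMap.ext fun x => hb.1 ?_
      rw [← LinearMap.comp_apply, ← hc]
      exact (u'.apply_symm_apply (v x)).symm

end Groth.Agent.S4675
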