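import Groth.Statements.S4677
import Groth.Agent.L03.GeomReduced2
import Mathlib.RingTheory.EssentialFiniteness
import Mathlib.RingTheory.TensorProduct.Quotient

set_option autoImplicit false
open scoped TensorProduct
universe u
open FBase

namespace Groth.Agent.S4677


theorem geomRed (k K L P Ω : Type u) [Field k] [Field K] [Field L] [Field P] [Field Ω] [Algebra k K] [Algebra k L]
    [Algebra k P] [Algebra k Ω] [Algebra L P] [Algebra L Ω] [Algebra P Ω] [IsScalarTower k L P] [IsScalarTower k L Ω]
    [IsScalarTower k P Ω] [IsScalarTower L P Ω] [IsPurelyInseparable k L] [PerfectField P] [IsAlgClosed Ω]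
    [Algebra.IsAlgebraic k Ω] (S : Finset (P ⊗[k] K)) (hS : Submodule.span (P ⊗[k] K) (S : Set (P ⊗[k] K)) = nilradical (P ⊗[k] K))
    (hLS : ∀ z ∈ S, z ∈ Set.range (Algebra.TensorProduct.map (IsScalarTower.toAlgHom k L P) (AlgHom.id k K)))
    (m : Ideal (L ⊗[k] K)) (hm : m.IsMaximal) : Algebra.IsGeometricallyReduced L ((L ⊗[k] K) ⧸ m) := by
  classical
  haveI : Algebra.IsAlgebraic P Ω := Algebra.IsAlgebraic.tower_top (K := k) P
  -- the maximal ideal consists of nilpotent elements
  obtain ⟨q, hq⟩ := ExpChar.exists k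
  haveI := hq
  haveI : ExpChar (L ⊗[k] K) q := expChar_of_injective_algebraMap (algebraMap k (L ⊗[k] K)).injective q
  haveI : ExpChar L q := expChar_of_injective_algebraMap (algebraMap k L).injective q
  have hpow : ∀ x : L ⊗[k] K, ∃ (n : ℕ) (c : K), x ^ q ^ n = (1 : L) ⊗ₜ[k] c := fun x => by
    induction x using TensorProduct.induction_on with
    | zero => exact ⟨0, 0, by simp⟩
    | tmul l c =>
      obtain ⟨n, l₀, hl₀⟩ := IsPurelyInseparable.pow_mem k q l
      refine ⟨n, l₀ • c ^ q ^ n, ?_⟩
      rw [Algebra.TensorProduct.tmul_pow, ← hl₀, Algebra.algebraMap_eq_smul_one, TensorProduct.smul_tmul]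
    | add x y hx hy =>
      obtain ⟨a, c, hc⟩ := hx
      obtain ⟨b, c', hc'⟩ := hy
      refine ⟨a + b, c ^ q ^ b + c' ^ q ^ a, ?_⟩
      rw [add_pow_expChar_pow, pow_add, pow_mul, hc, mul_comm (q ^ a), pow_mul, hc', Algebra.TensorProduct.tmul_pow,
        Algebra.TensorProduct.tmul_pow, one_pow, one_pow, TensorProduct.tmul_add]
  have hnil : ∀ x ∈ m, IsNilpotent x := fun x hx => by
    obtain ⟨n, c, hc⟩ := hpow x
    by_cases hc0 : c = 0
    · exact ⟨q ^ n, by rw [hc, hc0, TensorProduct.tmul_zero]⟩
    · refine absurd ?_ hm.ne_top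
      refine Ideal.eq_top_of_isUnit_mem m (Ideal.pow_mem_of_mem m hx (q ^ n) (expChar_pow_pos k q n)) ?_
      rw [hc]
      exact ((IsUnit.mk0 c hc0).map (Algebra.TensorProduct.includeRight : K →ₐ[k] L ⊗[k] K))
  let e := Algebra.TensorProduct.cancelBaseChange k L P P K
  let π : P ⊗[L] (L ⊗[k] K) →ₐ[L] P ⊗[L] ((L ⊗[k] K) ⧸ m) :=
    Algebra.TensorProduct.map (AlgHom.id L P) (Ideal.Quotient.mkₐ L m)
  have hkerπ : RingHom.ker π =
      m.map (Algebra.TensorProduct.includeRight : (L ⊗[k] K) →ₐ[L] P ⊗[L] (L ⊗[k] K)) := by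
    refine (Algebra.TensorProduct.lTensor_ker _ Ideal.Quotient.mk_surjective).trans ?_
    congr 1
    exact Ideal.Quotient.mkₐ_ker L m
  have hπs : Function.Surjective π := LinearMap.lTensor_surjective _ Ideal.Quotient.mk_surjective
  haveI : _root_.IsReduced (P ⊗[L] ((L ⊗[k] K) ⧸ m)) := by
    refine ⟨fun y hy => ?_⟩
    obtain ⟨z, rfl⟩ := hπs y
    obtain ⟨N, hN⟩ := hy
    have hN' : π (z ^ N) = 0 := (π.toRingHom.map_pow z N).trans hN
    have hle : RingHom.ker π ≤ nilradical _ := by
      rw [hkerπ, Ideal.map_le_iff_le_comap]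
      exact fun x hx => (hnil x hx).map _
    have hz : IsNilpotent z := IsNilpotent.of_pow (mem_nilradical.1 (hle hN'))
    have hez : e z ∈ nilradical (P ⊗[k] K) := hz.map e
    rw [← hS] at hez
    have hsub : Submodule.span (P ⊗[k] K) (S : Set (P ⊗[k] K)) ≤ Ideal.map e.toRingEquiv.toRingHom (RingHom.ker π) := by
      refine Submodule.span_le.2 fun g hg => ?_
      obtain ⟨w, rfl⟩ := hLS g hg
      have hwnil : IsNilpotent w := by
        have hmem : Algebra.TensorProduct.map (IsScalarTower.toAlgHom k L P) (AlgHom.id k K) w ∈ nilradical (P ⊗[k] K) :=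
          hS ▸ Submodule.subset_span hg
        have hinj : Function.Injective (Algebra.TensorProduct.map (IsScalarTower.toAlgHom k L P) (AlgHom.id k K)) :=
          Module.Flat.rTensor_preserves_injective_linearMap (M := K) (IsScalarTower.toAlgHom k L P).toLinearMap
            (algebraMap L P).injective
        exact (IsNilpotent.map_iff hinj).1 hmem
      have hwm : w ∈ m := nilradical_le_prime m hwnil
      have hew : ∀ w, e ((Algebra.TensorProduct.includeRight : (L ⊗[k] K) →ₐ[L] P ⊗[L] (L ⊗[k] K)) w) =
          Algebra.TensorProduct.map (IsScalarTower.toAlgHom k L P) (AlgHom.id k K) w := fun w => by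
        induction w using TensorProduct.induction_on with
        | zero => simp
        | tmul l c => simp [e, Algebra.smul_def]
        | add x y hx hy => simp only [map_add, hx, hy]
      rw [← hew]
      refine Ideal.mem_map_of_mem _ ?_
      rw [hkerπ]
      exact Ideal.mem_map_of_mem _ hwm
    obtain ⟨z', hz', he⟩ := (Ideal.mem_map_iff_of_surjective e.toRingEquiv.toRingHom e.surjective).1 (hsub hez)
    have hzz : z' = z := e.injective he
    subst hzz
    exact hz'
  haveI : _root_.IsReduced (Ω ⊗[L] ((L ⊗[k] K) ⧸ m)) := Groth.L03.GeomReduced2.isReduced_baseChange_perfect L ((L ⊗[k] K) ⧸ m) P Ω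
  haveI : Algebra.IsAlgebraic L Ω := Algebra.IsAlgebraic.tower_top (K := k) L
  haveI : IsAlgClosure L Ω := ⟨inferInstance, inferInstance⟩
  rw [Algebra.isGeometricallyReduced_field_iff]
  exact isReduced_of_injective
    (Algebra.TensorProduct.congr (IsAlgClosure.equiv L (AlgebraicClosure L) Ω) AlgEquiv.refl).toAlgHom
    (Algebra.TensorProduct.congr (IsAlgClosure.equiv L (AlgebraicClosure L) Ω) AlgEquiv.refl).injective


/-- Let K be a finitely generated extension field of a field k. Then there exists a finite purely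
inseparable extension k' of k such that, for every maximal ideal m of the ring k' ⊗_k K, the residue
field (k' ⊗_k K)/m is geometrically reduced over k' (a separable, not necessarily algebraic,
extension of k'). -/
theorem result {k K : Type u} [Field k] [Field K] [Algebra k K]
    [Algebra.EssFiniteType k K] :
    ∃ (k' : Type u) (_ : Field k') (_ : Algebra k k'), FiniteDimensional k k' ∧ IsPurelyInseparable k k' ∧
      ∀ (m : Ideal (k' ⊗[k] K)), m.IsMaximal → Algebra.IsGeometricallyReduced k' ((k' ⊗[k] K) ⧸ m) := by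
  classical
  let Ω := AlgebraicClosure k
  let P := perfectClosure k Ω
  haveI : IsNoetherianRing (P ⊗[k] K) := Algebra.EssFiniteType.isNoetherianRing P (P ⊗[k] K)
  obtain ⟨S, hS⟩ := (IsNoetherian.noetherian (nilradical (P ⊗[k] K)) : (nilradical (P ⊗[k] K)).FG)
  have hgen : ∃ (L : IntermediateField k P), Module.Finite k L ∧
      ∀ z ∈ S, z ∈ Set.range (Algebra.TensorProduct.map L.val (AlgHom.id k K)) := by
    clear hS
    induction S using Finset.induction with
    | empty => exact ⟨⊥, inferInstance, fun z hz => absurd hz (by simp)⟩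
    | insert a s _ ih =>
      obtain ⟨L, hL, hLs⟩ := ih
      obtain ⟨M, hM, w, hw⟩ := Groth.L03.GeomReduced.exists_finite_mem_range k K P a
      haveI := hL; haveI := hM
      have key : ∀ {L' : IntermediateField k P} (h : L' ≤ L ⊔ M) (x : L' ⊗[k] K),
          Algebra.TensorProduct.map (L ⊔ M).val (AlgHom.id k K)
            (Algebra.TensorProduct.map (IntermediateField.inclusion h) (AlgHom.id k K) x) =
          Algebra.TensorProduct.map L'.val (AlgHom.id k K) x := fun h x => by
        induction x using TensorProduct.induction_on with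
        | zero => simp
        | tmul l c => simp
        | add x y hx hy => simp only [map_add, hx, hy]
      refine ⟨L ⊔ M, inferInstance, fun z hz => ?_⟩
      rcases Finset.mem_insert.1 hz with rfl | hz
      · exact ⟨_, (key le_sup_right w).trans hw⟩
      · obtain ⟨x, hx⟩ := hLs z hz
        exact ⟨_, (key le_sup_left x).trans hx⟩
  obtain ⟨L, hL, hLS⟩ := hgen
  haveI := hL
  haveI : IsPurelyInseparable k L := IsPurelyInseparable.tower_bot k L P
  refine ⟨L, inferInstance, inferInstance, hL, inferInstance, fun m hm => ?_⟩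
  exact geomRed k K L P Ω S hS hLS m hm

end Groth.Agent.S4677
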