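import Groth.Statements.S4681
import Groth.Agent.L19.FaithOver

set_option autoImplicit false
set_option backward.isDefEq.respectTransparency.types false
set_option backward.isDefEq.respectTransparency false
set_option linter.style.haveILetI false
open CategoryTheory AlgebraicGeometry
universe u
open FDesc

namespace Groth.Agent.S4681

/-- Let f : X → Y and g : Y → Z be morphisms of schemes and F a quasi-coherent O_X-module which is
faithfully flat relative to Y: flat over Y, and for every point y of Y there is a point x over y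
with F_x ⊗ κ(y) ≠ 0. Then g is flat and surjective (faithfully flat) if and only if F is faithfully
flat relative to Z for the morphism f followed by g: flat over Z, and for every point z of Z there
is a point x of X over z with F_x ⊗ κ(z) ≠ 0. -/
theorem result {X Y Z : Scheme.{u}} (f : X ⟶ Y) (g : Y ⟶ Z)
    (F : X.Modules) (hF : Coh.IsQCoh F) (hFfl : FlatMod.IsFlatOver f F)
    (hFff : (∀ y : ↥Y, ∃ x : ↥X, f x = y ∧
      letI := FlatMod.moduleStalkOver f F x
      IsLocalRing.maximalIdeal (Y.presheaf.stalk (f x)) • (⊤ : Submodule (Y.presheaf.stalk (f x)) (F.presheaf.stalk x)) ≠ ⊤)) :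
    (Flat g ∧ Surjective g) ↔
      (FlatMod.IsFlatOver (f ≫ g) F ∧
        (∀ z : ↥Z, ∃ x : ↥X, (f ≫ g) x = z ∧
      letI := FlatMod.moduleStalkOver (f ≫ g) F x
      IsLocalRing.maximalIdeal (Z.presheaf.stalk ((f ≫ g) x)) • (⊤ : Submodule (Z.presheaf.stalk ((f ≫ g) x)) (F.presheaf.stalk x)) ≠ ⊤)) := by
  constructor
  · rintro ⟨hg, hs⟩
    refine ⟨fun x => Groth.L19.FaithOver.isFlatOverAt_comp f g F x (hFfl x), fun z => ?_⟩
    obtain ⟨y, rfl⟩ := g.surjective z
    obtain ⟨x, rfl, hx⟩ := hFff y
    exact ⟨x, Scheme.Hom.comp_apply f g x, Groth.L19.FaithOver.comp_faithAt f g F x hx⟩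
  · rintro ⟨hfl, hff⟩
    refine ⟨Flat.of_stalkMap g fun y => ?_, (surjective_iff _).mpr fun z => ?_⟩
    · obtain ⟨x, rfl, hx⟩ := hFff y
      exact Groth.L19.FaithOver.flat_stalkMap_of_module f g F x (hFfl x) hx (hfl x)
    · obtain ⟨x, hx, -⟩ := hff z
      exact ⟨f x, (Scheme.Hom.comp_apply f g x).symm.trans hx⟩

end Groth.Agent.S4681
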