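import Groth.Statements.S4685
import Groth.Agent.L07.AssFibreProd

set_option autoImplicit false
set_option maxSynthPendingDepth 3
set_option backward.isDefEq.respectTransparency false
set_option backward.isDefEq.respectTransparency.types false
set_option linter.style.haveILetI false
open CategoryTheory AlgebraicGeometry
universe u
open AssSch

namespace Groth.Agent.S4685

open CategoryTheory.Limits in
/-- Let f : X → S and g : Y → S be morphisms of schemes with X, Y and X ×_S Y locally Noetherian, F a
quasi-coherent O_X-module without embedded associated points, and G a quasi-coherent O_Y-module,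
flat over S, whose restriction to every fibre g⁻¹(s) has no embedded associated points. Then F ⊗_S G
(the tensor product on X ×_S Y of the pull-backs of F and G along the two projections) has no
embedded associated points. (The published statement assumes only X, the fibres of g and the schemes
Spec κ(x) ×_S Spec κ(y) locally Noetherian; this row assumes Y and X ×_S Y locally Noetherian, which
implies all of these, so that associated points are those whose maximal ideal is the annihilator of
an element of the stalk.) -/
theorem result {X Y S : Scheme.{u}} (f : X ⟶ S) (g : Y ⟶ S)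
    [IsLocallyNoetherian X] [IsLocallyNoetherian Y] [IsLocallyNoetherian (pullback f g)]
    (F : X.Modules) (hF : Coh.IsQCoh F) (G : Y.Modules) (hG : Coh.IsQCoh G) (hGfl : FlatMod.IsFlatOver g G)
    (hFne : AssSch.NoEmbedded F)
    (hGne : ∀ s : ↥S, AssSch.NoEmbedded ((Scheme.Modules.pullback (g.fiberι s)).obj G)) :
    AssSch.NoEmbedded (CohB1.tensorMod ((Scheme.Modules.pullback (pullback.fst f g)).obj F) ((Scheme.Modules.pullback (pullback.snd f g)).obj G)) := by
  refine Groth.L07.AssTensor.noEmbedded_tens_aux f g F G hGfl hFne fun z hz z' hz' hsp hx => ?_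
  obtain ⟨t, ht⟩ := Groth.L07.AssTensor.exists_pairMap f g z
  obtain ⟨t', ht'⟩ := Groth.L07.AssTensor.exists_pairMap f g z'
  obtain ⟨w, hw⟩ := Groth.L07.AssTensor.exists_data f g z
  obtain ⟨w', hw'⟩ := Groth.L07.AssTensor.exists_data f g z'
  have h1 := ((Groth.L07.AssTensor.mem_ass_tens_iff f g F G hGfl _ w _ hw t).mp (ht.symm ▸ hz)).2.1
  have h2 := ((Groth.L07.AssTensor.mem_ass_tens_iff f g F G hGfl _ w' _ hw' t').mp (ht'.symm ▸ hz')).2.1
  have key : ∀ (s s' : S), s = s' → ∀ (a : ↥(g.fiber s)) (b : ↥(g.fiber s')),
      a ∈ AssSch.Ass ((Scheme.Modules.pullback (g.fiberι s)).obj G) →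
      b ∈ AssSch.Ass ((Scheme.Modules.pullback (g.fiberι s')).obj G) →
      g.fiberι s' b ⤳ g.fiberι s a → g.fiberι s a = g.fiberι s' b := by
    rintro s _ rfl a b ha hb hab
    rw [hGne s a ha b hb ((g.fiberι s).isEmbedding.isInducing.specializes_iff.mp hab)]
  rw [← hw, ← hw']
  exact key _ _ (congrArg f hx) w w' h1 h2 (by rw [hw, hw']; exact hsp.map (pullback.snd f g).continuous)

end Groth.Agent.S4685
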