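import Groth.Statements.S4688
import Groth.Agent.L22.DimFormula
import Mathlib.RingTheory.Ideal.Height
-- import your own Groth.Agent.* helpers here

set_option autoImplicit false
universe u
open EGA4

namespace Groth.Agent.S4688

open Polynomial in
/-- Let A be a Noetherian ring, p a prime ideal of A and q a prime ideal of the polynomial ring A[T]
lying over p. Then the extended ideal p A[T] has the same height as p, and if q is different from p
A[T] one has ht(q) = ht(p) + 1. (The remaining assertions of the published item, that p A[T] is
prime over p and that there are infinitely many pairwise incomparable such q, are not restated.) -/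
theorem result (A : Type u) [CommRing A] [IsNoetherianRing A]
    (p : Ideal A) [p.IsPrime] (q : Ideal A[X]) [q.IsPrime] [q.LiesOver p] :
    (p.map (Polynomial.C : A →+* A[X])).height = p.height ∧
      (q ≠ p.map (Polynomial.C : A →+* A[X]) → q.height = p.height + 1) := by
  haveI : (p.map (Polynomial.C : A →+* A[X])).IsPrime := Ideal.isPrime_map_C_of_isPrime (P := p)
  have hlie : (p.map (Polynomial.C : A →+* A[X])).LiesOver p := by
    constructor
    ext x
    rw [Ideal.mem_comap, Polynomial.algebraMap_eq, Ideal.mem_map_C_iff]
    refine ⟨fun h k => ?_, fun h => by simpa using h 0⟩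
    rw [Polynomial.coeff_C]
    split_ifs
    · exact h
    · exact p.zero_mem
  have hle : p.map (Polynomial.C : A →+* A[X]) ≤ q :=
    Ideal.map_le_iff_le_comap.2 (q.over_def p).le
  obtain ⟨h, hh⟩ := ENat.ne_top_iff_exists.1 (Groth.L22.DimFormula.height_ne_top p)
  have hm : (p.map (Polynomial.C : A →+* A[X])).height = p.height := by
    rw [Ideal.height_eq_height_add_of_liesOver_of_hasGoingDown p (p.map (Polynomial.C : A →+* A[X])),
      Polynomial.algebraMap_eq, Ideal.map_quotient_self, Ideal.height_bot, add_zero]
  refine ⟨hm, fun hne => le_antisymm ?_ ?_⟩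
  · have hd := Groth.L22.DimFormula.height_add_one_eq p q
    have h1 : (q.height : Cardinal.{u}) ≤ (p.height : Cardinal.{u}) + 1 := hd ▸ le_self_add
    rw [← Cardinal.ofENat_one, ← Cardinal.ofENat_add] at h1
    exact Cardinal.ofENat_le_ofENat.1 h1
  · rw [← hm]
    exact Order.add_one_le_of_lt (Ideal.height_strict_mono_of_isPrime (lt_of_le_of_ne hle (Ne.symm hne)))

end Groth.Agent.S4688
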