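import Groth.Statements.S4692
import Groth.Agent.L06.GenericFibreDim

set_option autoImplicit false
set_option maxSynthPendingDepth 3
set_option linter.style.haveILetI false
universe u
open EGA4

namespace Groth.Agent.S4692

open AlgebraicGeometry CategoryTheory in
/-- Let Y be a locally Noetherian scheme all of whose local rings are universally catenary, X an
irreducible scheme, f : X → Y a morphism locally of finite type and n a natural number. If every
fibre of f has dimension at least n then dim X ≥ dim Y + n; if every fibre has dimension exactly n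
then dim X = dim Y + n. (The empty scheme has dimension ⊥, so either hypothesis forces f to be
surjective.) -/
theorem result {X Y : Scheme.{u}} (f : X ⟶ Y) [IsLocallyNoetherian Y]
    [LocallyOfFiniteType f] [IrreducibleSpace X] (hY : ∀ y : Y, CAlg.IsUniversallyCatenary (Y.presheaf.stalk y))
    (n : ℕ) :
    ((∀ y : Y, (n : WithBot ℕ∞) ≤ topologicalKrullDim (f.fiber y)) →
        topologicalKrullDim Y + n ≤ topologicalKrullDim X) ∧
      ((∀ y : Y, topologicalKrullDim (f.fiber y) = n) →
        topologicalKrullDim X = topologicalKrullDim Y + n) := by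
  have key : (∀ y : Y, (n : WithBot ℕ∞) ≤ topologicalKrullDim (f.fiber y)) →
      ∃ (_ : IrreducibleSpace Y) (e : ℕ), n ≤ e ∧ topologicalKrullDim (f.fiber (genericPoint Y)) = (e : WithBot ℕ∞) ∧
        topologicalKrullDim X = topologicalKrullDim Y + (e : WithBot ℕ∞) := by
    intro h
    have hs : Function.Surjective f.base := fun y => by
      have hne : Nonempty (f.fiber y) := by
        by_contra hem
        rw [not_nonempty_iff] at hem
        have h' := h y
        rw [Groth.L06.Dim.eq_bot, le_bot_iff] at h'
        exact WithBot.natCast_ne_bot n h'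
      obtain ⟨c⟩ := hne
      exact ⟨f.fiberι y c, Groth.L07.Equidim.apply_fiberι f y c⟩
    haveI := Groth.L06.GenericFibreDim.irreducibleSpace_of_surjective f hs
    haveI : IsDominant f := ⟨hs.denseRange⟩
    obtain ⟨e, he⟩ := Groth.L06.GenericFibreDim.exists_nat_generic f
    refine ⟨inferInstance, e, ?_, he, ?_⟩
    · exact_mod_cast (h _).trans he.le
    · rw [Groth.L06.GenericFibreDim.dim_eq_sup f hY, he, hs.range_eq]
      simp only [Set.mem_univ, iSup_pos, Groth.L06.GenericFibreDim.iSup_stalks]
  refine ⟨fun h => ?_, fun h => ?_⟩
  · obtain ⟨_, e, hne, -, hX⟩ := key h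
    rw [hX]
    gcongr
  · obtain ⟨_, e, -, he, hX⟩ := key fun y => (h y).ge
    rw [hX, ← he, h]

end Groth.Agent.S4692
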