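import Groth.Statements.S4693
import Groth.Agent.L03.TensorSuppDim
-- import your own Groth.Agent.* helpers here

set_option autoImplicit false
universe u
open EGA4

namespace Groth.Agent.S4693

/-- Let A → B be a local homomorphism of Noetherian local rings such that the closed fibre ring B/m_A B
has Krull dimension 0 (that is, m_A B is an ideal of definition of B). Then dim B ≤ dim A. If
moreover some finite B-module which is flat over A has support equal to all of Spec B (for instance
if B is flat over A), then dim B = dim A. -/
theorem result (A B : Type u) [CommRing A] [CommRing B] [IsNoetherianRing A]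
    [IsNoetherianRing B] [IsLocalRing A] [IsLocalRing B] [Algebra A B] [IsLocalHom (algebraMap A B)]
    (h0 : ringKrullDim (EGA4.FibRing A B) = 0) :
    ringKrullDim B ≤ ringKrullDim A ∧
      (∀ (N : Type u) [AddCommGroup N] [Module B N] [Module A N] [IsScalarTower A B N] [Module.Finite B N]
          [Module.Flat A N], Module.support B N = Set.univ → ringKrullDim B = ringKrullDim A) := by
  have hfib : Module.supportDim B (EGA4.FibMod A B B) ≤ 0 := by
    have h := L02.CMMor.supportDim_fibMod (A := A) (B := B) B
    rw [← h, ← h0]
    exact Module.supportDim_le_ringKrullDim _ _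
  refine ⟨?_, ?_⟩
  · have h := Groth.L03.TensorSuppDim.supportDim_tensor_le (A := A) (B := B) B A
    rw [Groth.L03.TensorSuppDim.supportDim_tensor_self, Module.supportDim_self_eq_ringKrullDim,
      Module.supportDim_self_eq_ringKrullDim] at h
    calc ringKrullDim B ≤ ringKrullDim A + Module.supportDim B (EGA4.FibMod A B B) := h
      _ ≤ ringKrullDim A + 0 := add_le_add le_rfl hfib
      _ = ringKrullDim A := add_zero _
  · intro N _ _ _ _ _ _ hsupp
    haveI : Nontrivial N := by
      rw [← Module.nonempty_support_iff (R := B), hsupp]
      exact ⟨⟨IsLocalRing.maximalIdeal B, inferInstance⟩, trivial⟩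
    haveI := L02.CMMor.nontrivial_fibMod (A := A) (B := B) N
    have h1 : Module.supportDim B (EGA4.FibMod A B N) = 0 := by
      rw [← L02.CMMor.supportDim_fibMod (A := A) (B := B) N]
      refine le_antisymm ((Module.supportDim_le_ringKrullDim _ _).trans h0.le) ?_
      have hne := Module.supportDim_ne_bot_of_nontrivial (EGA4.FibRing A B) (EGA4.FibMod A B N)
      revert hne
      generalize Module.supportDim (EGA4.FibRing A B) (EGA4.FibMod A B N) = d
      induction d with
      | bot => simp
      | coe d => intro; exact WithBot.coe_le_coe.mpr zero_le
    have h2 : Module.supportDim B N = ringKrullDim B := by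
      unfold Module.supportDim ringKrullDim
      rw [hsupp]
      exact Order.krullDim_eq_of_orderIso ⟨Equiv.Set.univ _, Iff.rfl⟩
    have h := L02.CMMor.supportDim_tensor (A := A) (B := B) N A
    rw [Groth.L03.TensorSuppDim.supportDim_tensor_self, h1, h2, Module.supportDim_self_eq_ringKrullDim, add_zero] at h
    exact h

end Groth.Agent.S4693
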