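import Groth.Statements.S4694
import Groth.Agent.L02.CMMor.FlatDepth
import Groth.Agent.L01.DepthBasic
import Mathlib.RingTheory.Finiteness.Nakayama
-- import your own Groth.Agent.* helpers here

set_option autoImplicit false
universe u
open EGA4

namespace Groth.Agent.S4694

open TensorProduct in
/-- Let A → B be a local homomorphism of Noetherian local rings, M a finite A-module and N a nonzero
finite B-module, flat over A, whose closed-fibre module N/m_A N has finite length. Then the depth of
the B-module N ⊗_A M equals the depth of the A-module M. (The companion equality of codepths in the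
published item is not restated.) -/
theorem result {A B M N : Type u} [CommRing A] [CommRing B]
    [IsNoetherianRing A] [IsNoetherianRing B] [IsLocalRing A] [IsLocalRing B] [Algebra A B]
    [IsLocalHom (algebraMap A B)] [AddCommGroup M] [Module A M] [Module.Finite A M]
    [AddCommGroup N] [Module B N] [Module A N] [IsScalarTower A B N] [Module.Finite B N] [Nontrivial N]
    [Module.Flat A N] (hN : IsFiniteLength B (EGA4.FibMod A B N)) :
    LocCoh.depth B (N ⊗[A] M) = LocCoh.depth A M := by
  haveI := L02.CMMor.nontrivial_fibMod (A := A) (B := B) N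
  obtain ⟨w, hw0, hw⟩ : ∃ w : EGA4.FibMod A B N, w ≠ 0 ∧ ∀ b ∈ IsLocalRing.maximalIdeal B, b • w = 0 := by
    rcases Groth.L04.exists_regular_or_killed (IsLocalRing.maximalIdeal B) (EGA4.FibMod A B N) with
      ⟨r, hr, hreg⟩ | h
    · exfalso
      haveI : IsArtinian B (EGA4.FibMod A B N) :=
        (isFiniteLength_iff_isNoetherian_isArtinian.mp hN).2
      have hsurj := IsArtinian.surjective_of_injective_endomorphism
        (LinearMap.lsmul B (EGA4.FibMod A B N) r) hreg
      have htop : (⊤ : Submodule B (EGA4.FibMod A B N)) ≤ IsLocalRing.maximalIdeal B • ⊤ := by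
        intro x _
        obtain ⟨y, rfl⟩ := hsurj x
        exact Submodule.smul_mem_smul hr trivial
      exact top_ne_bot (Submodule.eq_bot_of_le_smul_of_le_jacobson_bot _ _ Module.Finite.fg_top htop
        (IsLocalRing.maximalIdeal_le_jacobson _))
    · exact h
  rw [L02.CMMor.depth_tensor, Groth.L01.depth_eq_zero_of_smul_eq_zero hw0 hw, add_zero]

end Groth.Agent.S4694
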