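import Groth.Statements.S4701
import Groth.Agent.L06.RegLocus

set_option autoImplicit false
set_option linter.style.haveILetI false
universe u
open EGA4

namespace Groth.Agent.S4701

/-- Let A be a Noetherian ring. The regular locus of every quotient ring A/I is open in its spectrum if
and only if, for every prime ideal p, the regular locus of the domain A/p contains a nonempty open
subset of Spec(A/p). (The published statement quantifies over all subschemes of Spec A; open
subschemes of the closed ones add nothing, so closed subschemes are used here.) -/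
theorem result (A : Type u) [CommRing A] [IsNoetherianRing A] :
    (∀ I : Ideal A, IsOpen (EGA4.regLocus (A ⧸ I))) ↔
      ∀ (p : Ideal A) [p.IsPrime],
        ∃ U : Set (PrimeSpectrum (A ⧸ p)), IsOpen U ∧ U.Nonempty ∧ U ⊆ EGA4.regLocus (A ⧸ p) := by
  refine ⟨fun h p _ => ⟨_, h p, ⟨⟨⊥, Ideal.isPrime_bot⟩, ?_⟩, Set.Subset.rfl⟩, fun h I => ?_⟩
  · show IsRegularLocalRing (Localization.AtPrime (⊥ : Ideal (A ⧸ p)))
    have hf : IsField (Localization.AtPrime (⊥ : Ideal (A ⧸ p))) := by
      rw [IsLocalRing.isField_iff_maximalIdeal_eq, ← Localization.AtPrime.map_eq_maximalIdeal, Ideal.map_bot]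
    letI := hf.toField
    infer_instance
  · refine Groth.L06.RegLocus.isOpen_regLocus_of_nhds fun P hP => Groth.L06.RegLocus.exists_nhd_of_quotient P hP ?_
    obtain ⟨U, hU, hne, hsub⟩ := h (P.asIdeal.comap (Ideal.Quotient.mk I))
    have hg : Function.Surjective ((Ideal.Quotient.mk P.asIdeal).comp (Ideal.Quotient.mk I)) :=
      Ideal.Quotient.mk_surjective.comp Ideal.Quotient.mk_surjective
    let e : (A ⧸ P.asIdeal.comap (Ideal.Quotient.mk I)) ≃+* (A ⧸ I) ⧸ P.asIdeal :=
      (Ideal.quotEquivOfEq (by rw [← RingHom.comap_ker, Ideal.mk_ker])).trans (RingHom.quotientKerEquivOfSurjective hg)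
    refine ⟨(PrimeSpectrum.comap e.toRingHom) ⁻¹' U, hU.preimage (PrimeSpectrum.continuous_comap _), ?_, fun q hq => ?_⟩
    · obtain ⟨u, hu⟩ := hne
      refine ⟨PrimeSpectrum.comap e.symm.toRingHom u, ?_⟩
      show PrimeSpectrum.comap e.toRingHom _ ∈ U
      rw [← PrimeSpectrum.comap_comp_apply]
      simpa using hu
    · haveI : IsRegularLocalRing (Localization.AtPrime (q.asIdeal.comap e.toRingHom)) := hsub hq
      exact IsRegularLocalRing.of_ringEquiv (R := Localization.AtPrime (q.asIdeal.comap e.toRingHom))
        (IsLocalization.ringEquivOfRingEquiv (M := (q.asIdeal.comap e.toRingHom).primeCompl) (T := q.asIdeal.primeCompl) _ _ e (by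
          ext z
          constructor
          · rintro ⟨a, ha, rfl⟩; exact ha
          · intro hz; exact ⟨e.symm z, by simpa [Ideal.primeCompl] using hz, e.apply_symm_apply z⟩))

end Groth.Agent.S4701
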