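import Groth.Statements.S4704
import Groth.Agent.L06.FormalFibres
import Groth.Agent.S4696
import Groth.Agent.S9406

set_option autoImplicit false
set_option linter.style.haveILetI false
universe u
open EGA4

namespace Groth.Agent.S4704

/-- Let A → A' be a local homomorphism of Noetherian local rings which is regular (flat, with
geometrically regular fibres). If the completion map of A' is regular (the formal fibres of A' are
geometrically regular), then the completion map of A is regular. -/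
theorem result (A A' : Type u) [CommRing A] [CommRing A'] [IsNoetherianRing A]
    [IsNoetherianRing A'] [IsLocalRing A] [IsLocalRing A'] [Algebra A A'] [IsLocalHom (algebraMap A A')]
    (hf : CAlg.IsRegularHom A A') (hA' : CAlg.IsRegularHom A' (EGA4.Cpl A')) :
    CAlg.IsRegularHom A (EGA4.Cpl A) := by
  open TensorProduct in
  haveI := hf.1
  haveI := hA'.1
  obtain ⟨iC, hT, hff⟩ := Groth.L06.FormalFibres.exists_cpl_algebra A A'
  haveI : IsNoetherianRing (EGA4.Cpl A) := Groth.Agent.S0543.result A _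
  haveI : IsNoetherianRing (EGA4.Cpl A') := Groth.Agent.S0543.result A' _
  haveI : IsScalarTower A A' (EGA4.Cpl A') := IsScalarTower.of_algebraMap_eq fun a => rfl
  refine ⟨AdicCompletion.flat_of_isNoetherian _, fun p _ => ⟨?_, fun K _ _ hK => ?_⟩⟩
  · haveI := Groth.L06.FibreComp.isNoetherianRing_baseChange (B := EGA4.Cpl A) p p.ResidueField
    exact isNoetherianRing_of_ringEquiv _ (Algebra.TensorProduct.comm A p.ResidueField (EGA4.Cpl A)).toRingEquiv.symm
  letI : Algebra A K := ((algebraMap p.ResidueField K).comp (algebraMap A p.ResidueField)).toAlgebra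
  haveI : IsScalarTower A p.ResidueField K := IsScalarTower.of_algebraMap_eq' rfl
  haveI : IsNoetherianRing (A' ⊗[A] K) := Groth.L06.FibreComp.isNoetherianRing_baseChange p K
  haveI : IsNoetherianRing (EGA4.Cpl A' ⊗[A] K) := Groth.L06.FibreComp.isNoetherianRing_baseChange p K
  haveI : IsNoetherianRing ((A' ⊗[A] K) ⊗[A'] EGA4.Cpl A') := isNoetherianRing_of_ringEquiv (EGA4.Cpl A' ⊗[A] K)
    (((Algebra.TensorProduct.cancelBaseChange A A' A' (EGA4.Cpl A') K).symm.toRingEquiv).trans
      (Algebra.TensorProduct.comm A' (EGA4.Cpl A') (A' ⊗[A] K)).toRingEquiv)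
  haveI := (hf.2 p).2 K hK
  haveI : IsRegularRing (A' ⊗[A] K) := IsRegularRing.of_ringEquiv (R := K ⊗[p.ResidueField] p.Fiber A') (Groth.L06.FibreComp.fibreEquivBase (B := A') p K)
  haveI : IsRegularRing ((A' ⊗[A] K) ⊗[A'] EGA4.Cpl A') := Groth.L06.FormalFibres.isRegularRing_of_flat (R := A' ⊗[A] K) fun Q _ => by
    obtain ⟨i, _, ⟨eQ⟩⟩ := Groth.L06.FibreComp.exists_fibre_baseChange (B := A') (C := EGA4.Cpl A') Q
    haveI := (hA'.2 (Q.comap (algebraMap A' (A' ⊗[A] K)))).2 Q.ResidueField (Groth.Agent.S4696.finite_residueField p K Q)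
    exact IsRegularRing.of_ringEquiv (R := Q.ResidueField ⊗[(Q.comap (algebraMap A' (A' ⊗[A] K))).ResidueField] (Q.comap (algebraMap A' (A' ⊗[A] K))).Fiber (EGA4.Cpl A')) eQ.symm
  haveI : IsRegularRing ((EGA4.Cpl A ⊗[A] K) ⊗[EGA4.Cpl A] EGA4.Cpl A') := IsRegularRing.of_ringEquiv (R := (A' ⊗[A] K) ⊗[A'] EGA4.Cpl A')
    ((Groth.L06.FibreComp.fibreEquiv (B := A') (C := EGA4.Cpl A') p K).symm.trans
      (Groth.L06.FibreComp.fibreEquiv (B := EGA4.Cpl A) (C := EGA4.Cpl A') p K))
  haveI := Groth.Agent.S9406.result (EGA4.Cpl A ⊗[A] K) ((EGA4.Cpl A ⊗[A] K) ⊗[EGA4.Cpl A] EGA4.Cpl A')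
  exact IsRegularRing.of_ringEquiv (R := EGA4.Cpl A ⊗[A] K) (Groth.L06.FibreComp.fibreEquivBase (B := EGA4.Cpl A) p K).symm

end Groth.Agent.S4704
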