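import Groth.Statements.S4752
import Groth.Agent.L06.FibreComp
import Mathlib.FieldTheory.IsAlgClosed.AlgebraicClosure

set_option autoImplicit false
set_option linter.style.haveILetI false
universe u
open EGA4

namespace Groth.Agent.S4752

open TensorProduct in
theorem geomReduced_of_finite {k S : Type u} [Field k] [CommRing S] [Algebra k S]
    (h : ∀ (K : Type u) [Field K] [Algebra k K], Module.Finite k K → IsReduced (K ⊗[k] S)) :
    Algebra.IsGeometricallyReduced k S := by
  rw [Algebra.isGeometricallyReduced_field_iff]
  have : IsReduced (S ⊗[k] AlgebraicClosure k) := IsReduced.tensorProduct_of_flat_of_forall_fg fun D hD => by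
    haveI : Algebra.IsIntegral k D := Algebra.IsIntegral.of_injective D.val Subtype.val_injective
    haveI : Algebra.FiniteType k D := D.fg_iff_finiteType.mp hD
    haveI : Module.Finite k D := Algebra.IsIntegral.finite
    letI : Field D := (isField_of_isIntegral_of_isField' (Field.toIsField k)).toField
    haveI := h D inferInstance
    exact isReduced_of_injective _ (Algebra.TensorProduct.comm k S D).injective
  exact isReduced_of_injective _ (Algebra.TensorProduct.comm k (AlgebraicClosure k) S).injective

/-- Case of reduced morphisms, affine form: let A → B → C be homomorphisms of Noetherian rings, both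
flat and with geometrically reduced fibres. Then the composite A → C is flat with geometrically
reduced fibres. -/
theorem result (A B C : Type u) [CommRing A] [CommRing B] [CommRing C] [IsNoetherianRing A]
    [IsNoetherianRing B] [IsNoetherianRing C] [Algebra A B] [Algebra B C] [Algebra A C] [IsScalarTower A B C]
    [Module.Flat A B] [Module.Flat B C]
    (hAB : ∀ (p : Ideal A) [p.IsPrime], Algebra.IsGeometricallyReduced p.ResidueField (p.Fiber B))
    (hBC : ∀ (q : Ideal B) [q.IsPrime], Algebra.IsGeometricallyReduced q.ResidueField (q.Fiber C)) :
    Module.Flat A C ∧ ∀ (p : Ideal A) [p.IsPrime], Algebra.IsGeometricallyReduced p.ResidueField (p.Fiber C) := by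

  open TensorProduct in
  refine ⟨Module.Flat.trans A B C, fun p _ => geomReduced_of_finite fun K _ _ hK => ?_⟩
  letI : Algebra A K := ((algebraMap p.ResidueField K).comp (algebraMap A p.ResidueField)).toAlgebra
  haveI : IsScalarTower A p.ResidueField K := IsScalarTower.of_algebraMap_eq' rfl
  haveI := Algebra.IsAlgebraic.of_finite p.ResidueField K
  let R' := B ⊗[A] K
  haveI : IsNoetherianRing R' := Groth.L06.FibreComp.isNoetherianRing_baseChange p K
  haveI := hAB p
  haveI : IsReduced R' := isReduced_of_injective _ (Groth.L06.FibreComp.fibreEquivBase (B := B) p K).symm.injective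
  haveI : IsReduced (R' ⊗[B] C) := Groth.L06.FibreComp.isReduced_of_flat (R := R') fun Q _ => by
    obtain ⟨i, _, ⟨eQ⟩⟩ := Groth.L06.FibreComp.exists_fibre_baseChange (B := B) (C := C) Q
    haveI := Groth.L06.FibreComp.isAlgebraic_residueField p K Q
    haveI := hBC (Q.comap (algebraMap B R'))
    exact isReduced_of_injective _ eQ.injective
  exact isReduced_of_injective _ (Groth.L06.FibreComp.fibreEquiv (B := B) p K).injective

end Groth.Agent.S4752
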