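import Groth.Statements.S4705
import Groth.Agent.L06.FormalFibres
import Groth.Agent.S4752

set_option autoImplicit false
set_option linter.style.haveILetI false
universe u
open EGA4

namespace Groth.Agent.S4705

/-- Let A → A' be a flat local homomorphism of Noetherian local rings all of whose fibre rings k(p) ⊗_A
A' are geometrically reduced over k(p). If the completion map of A' is regular (the formal fibres of
A' are geometrically regular), then the formal fibres of A are geometrically reduced. -/
theorem result (A A' : Type u) [CommRing A] [CommRing A']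
    [IsNoetherianRing A] [IsNoetherianRing A'] [IsLocalRing A] [IsLocalRing A'] [Algebra A A']
    [IsLocalHom (algebraMap A A')] [Module.Flat A A']
    (hf : ∀ (p : Ideal A) [p.IsPrime], Algebra.IsGeometricallyReduced p.ResidueField (p.Fiber A'))
    (hA' : CAlg.IsRegularHom A' (EGA4.Cpl A')) : EGA4.HasGeomReducedFormalFibres A := by
  open TensorProduct in
  obtain ⟨iC, hT, hff⟩ := Groth.L06.FormalFibres.exists_cpl_algebra A A'
  haveI : IsNoetherianRing (EGA4.Cpl A) := Groth.Agent.S0543.result A _
  haveI : IsNoetherianRing (EGA4.Cpl A') := Groth.Agent.S0543.result A' _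
  haveI : IsScalarTower A A' (EGA4.Cpl A') := IsScalarTower.of_algebraMap_eq fun a => rfl
  haveI := hA'.1
  obtain ⟨_, hcomp⟩ := Groth.Agent.S4752.result A A' (EGA4.Cpl A') hf fun q _ =>
    Groth.Agent.S4752.geomReduced_of_finite fun K _ _ hK =>
      Groth.L06.FormalFibres.isReduced_fibre_baseChange_of_isRegularHom hA' q K
  intro p _
  refine Groth.Agent.S4752.geomReduced_of_finite fun K _ _ hK => ?_
  letI : Algebra A K := ((algebraMap p.ResidueField K).comp (algebraMap A p.ResidueField)).toAlgebra
  haveI : IsScalarTower A p.ResidueField K := IsScalarTower.of_algebraMap_eq' rfl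
  haveI := Algebra.IsAlgebraic.of_finite p.ResidueField K
  haveI := hcomp p
  haveI : IsReduced ((EGA4.Cpl A ⊗[A] K) ⊗[EGA4.Cpl A] EGA4.Cpl A') :=
    isReduced_of_injective _ (Groth.L06.FibreComp.fibreEquiv (B := EGA4.Cpl A) (C := EGA4.Cpl A') p K).symm.injective
  haveI : IsReduced (EGA4.Cpl A ⊗[A] K) := isReduced_of_injective
    (Algebra.TensorProduct.includeLeftRingHom : EGA4.Cpl A ⊗[A] K →+* (EGA4.Cpl A ⊗[A] K) ⊗[EGA4.Cpl A] EGA4.Cpl A')
    (fun a b hab => Module.FaithfullyFlat.tensorProduct_mk_injective (A := EGA4.Cpl A) (B := EGA4.Cpl A') (EGA4.Cpl A ⊗[A] K)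
      ((TensorProduct.comm (EGA4.Cpl A) (EGA4.Cpl A') (EGA4.Cpl A ⊗[A] K)).injective hab))
  exact isReduced_of_injective _ (Groth.L06.FibreComp.fibreEquivBase (B := EGA4.Cpl A) p K).injective

end Groth.Agent.S4705
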