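import Groth.Statements.S4706
import Groth.Agent.L06.FormalFibres
import Groth.Agent.S4696

set_option autoImplicit false
set_option linter.style.haveILetI false
universe u
open EGA4

namespace Groth.Agent.S4706

/-- Let A → A' be a local homomorphism of Noetherian local rings which is normal (flat, with
geometrically normal fibres). If the completion map of A' is regular (the formal fibres of A' are
geometrically regular), then the formal fibres of A are geometrically normal. -/
theorem result (A A' : Type u) [CommRing A] [CommRing A']
    [IsNoetherianRing A] [IsNoetherianRing A'] [IsLocalRing A] [IsLocalRing A'] [Algebra A A']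
    [IsLocalHom (algebraMap A A')] (hf : EGA4.IsNormalHom A A') (hA' : CAlg.IsRegularHom A' (EGA4.Cpl A')) :
    EGA4.HasGeomNormalFormalFibres A := by
  open TensorProduct in
  haveI := hf.1
  obtain ⟨iC, hT, hff⟩ := Groth.L06.FormalFibres.exists_cpl_algebra A A'
  haveI : IsNoetherianRing (EGA4.Cpl A) := Groth.Agent.S0543.result A _
  haveI : IsNoetherianRing (EGA4.Cpl A') := Groth.Agent.S0543.result A' _
  haveI : IsScalarTower A A' (EGA4.Cpl A') := IsScalarTower.of_algebraMap_eq fun a => rfl
  have hcomp := Groth.Agent.S4696.result A A' (EGA4.Cpl A') hf (Groth.L06.FormalFibres.isNormalHom_of_isRegularHom hA')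
  intro p _ K _ _ hK
  letI : Algebra A K := ((algebraMap p.ResidueField K).comp (algebraMap A p.ResidueField)).toAlgebra
  haveI : IsScalarTower A p.ResidueField K := IsScalarTower.of_algebraMap_eq' rfl
  exact Groth.L06.NormalAscent.isNormalRing_of_ringEquiv (Groth.L06.FibreComp.fibreEquivBase (B := EGA4.Cpl A) p K).symm
    (Groth.L06.NormalAscent.isNormalRing_of_faithfullyFlat (S := (EGA4.Cpl A ⊗[A] K) ⊗[EGA4.Cpl A] EGA4.Cpl A')
      (Groth.L06.NormalAscent.isNormalRing_of_ringEquiv (Groth.L06.FibreComp.fibreEquiv (B := EGA4.Cpl A) (C := EGA4.Cpl A') p K)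
        (hcomp.2 p K hK)))

end Groth.Agent.S4706
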