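import Groth.Statements.S4707
import Groth.Agent.L06.NormalIntClosure

set_option autoImplicit false
set_option maxSynthPendingDepth 3
set_option linter.style.haveILetI false
universe u
open EGA4

namespace Groth.Agent.S4707

open TensorProduct in
/-- Let A be a Noetherian ring and A' a Noetherian A-algebra such that A → A' is a normal homomorphism
(flat, with geometrically normal fibres). Let B → C be a homomorphism of A-algebras and D the
integral closure of B in C. Then the integral closure in A' ⊗_A C of the image of A' ⊗_A B is the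
image of A' ⊗_A D. (No finiteness is assumed on B or C.) -/
theorem result (A A' : Type u) [CommRing A] [CommRing A']
    [IsNoetherianRing A] [IsNoetherianRing A'] [Algebra A A'] (h : EGA4.IsNormalHom A A')
    (B C : Type u) [CommRing B] [CommRing C] [Algebra A B] [Algebra A C] [Algebra B C] [IsScalarTower A B C] :
    (integralClosure
          ↥(Algebra.TensorProduct.map (AlgHom.id A' A') (IsScalarTower.toAlgHom A B C)).range (A' ⊗[A] C) :
        Set (A' ⊗[A] C)) =
      Set.range (Algebra.TensorProduct.map (AlgHom.id A' A')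
        ((integralClosure B C).val.restrictScalars A)) := by
  haveI := h.1
  let f := Algebra.TensorProduct.map (AlgHom.id A' A') (IsScalarTower.toAlgHom A B C)
  refine Set.Subset.antisymm (fun y hy => ?_) ?_
  · obtain ⟨p, hp, hpy⟩ := (hy : IsIntegral f.range y)
    have hlift : p ∈ Polynomial.lifts f.rangeRestrict.toRingHom := (Polynomial.lifts_iff_coeff_lifts p).mpr fun i =>
      f.rangeRestrict_surjective (p.coeff i)
    obtain ⟨q, hq, -, hqm⟩ := Polynomial.lifts_and_natDegree_eq_and_monic hlift hp
    obtain ⟨w, hw⟩ := Groth.L06.NormalTensor.mem_range_closure A'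
      (fun κ _ _ => Groth.L06.NormalTensor.isReduced_fibre_tensor h κ) B C y ⟨q, hqm, by
        rw [← hpy, ← hq, Polynomial.eval₂_map]
        congr 1⟩
    rw [← hw]
    clear hw
    induction w using TensorProduct.induction_on with
    | zero => exact ⟨0, by rw [map_zero, map_zero]⟩
    | add a b ha hb =>
      obtain ⟨x, hx⟩ := ha
      obtain ⟨z, hz⟩ := hb
      exact ⟨x + z, by rw [map_add, map_add, hx, hz]⟩
    | tmul a c => exact ⟨a ⊗ₜ (⟨c, c.2⟩ : integralClosure B C), rfl⟩
  · rintro _ ⟨z, rfl⟩
    induction z using TensorProduct.induction_on with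
    | zero => rw [map_zero]; exact zero_mem _
    | add a b ha hb => rw [map_add]; exact add_mem ha hb
    | tmul a c =>
      show a ⊗ₜ[A] (c : C) ∈ integralClosure f.range (A' ⊗[A] C)
      rw [show a ⊗ₜ[A] (c : C) = f (a ⊗ₜ (1 : B)) * ((1 : A') ⊗ₜ[A] (c : C)) by
        show _ = (a ⊗ₜ[A] algebraMap B C 1) * ((1 : A') ⊗ₜ[A] (c : C))
        rw [Algebra.TensorProduct.tmul_mul_tmul, map_one, mul_one, one_mul]]
      refine mul_mem (Subalgebra.algebraMap_mem _ (⟨_, a ⊗ₜ (1 : B), rfl⟩ : f.range)) ?_
      obtain ⟨p, hp, hpc⟩ := (c.2 : IsIntegral B (c : C))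
      let g : B →+* f.range := f.rangeRestrict.toRingHom.comp
        (Algebra.TensorProduct.includeRight : B →ₐ[A] A' ⊗[A] B).toRingHom
      refine ⟨p.map g, hp.map _, ?_⟩
      rw [Polynomial.eval₂_map]
      refine Eq.trans ?_ ((congrArg (Algebra.TensorProduct.includeRight : C →ₐ[A] A' ⊗[A] C).toRingHom hpc).trans (map_zero _))
      rw [Polynomial.hom_eval₂]
      congr 1

end Groth.Agent.S4707
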