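import Groth.Statements.S4708
import Groth.Agent.L06.GeomLocalApp

set_option autoImplicit false
set_option linter.style.haveILetI false
set_option maxSynthPendingDepth 3
universe u
open EGA4

namespace Groth.Agent.S4708

/-- Let A → B be a local homomorphism of Noetherian local rings making B a flat A-module, such that the
residue field of B is a finite extension of the residue field k of A, and such that the formal
fibres of A are geometrically regular (the completion map A → Â is regular). If the k-algebra k ⊗_A
B̂, where B̂ is the completion of B, is geometrically regular over k, then every fibre of A → B is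
geometrically regular, that is, A → B is a regular homomorphism. -/
theorem result (A B : Type u) [CommRing A] [CommRing B]
    [IsNoetherianRing A] [IsNoetherianRing B] [IsLocalRing A] [IsLocalRing B] [Algebra A B]
    [IsLocalHom (algebraMap A B)] [Module.Flat A B]
    [Module.Finite (IsLocalRing.ResidueField A) (IsLocalRing.ResidueField B)]
    (hA : CAlg.IsRegularHom A (EGA4.Cpl A))
    (h : CAlg.IsGeometricallyRegular (IsLocalRing.maximalIdeal A).ResidueField
      ((IsLocalRing.maximalIdeal A).Fiber (EGA4.Cpl B))) :
    CAlg.IsRegularHom A B := by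
  haveI := ‹Module.Flat A B›
  refine ⟨inferInstance, fun p _ => ⟨Groth.L06.GeomLocal.isNoetherianRing_fiber p, fun K _ _ hK => ?_⟩⟩
  haveI := hK
  haveI := Groth.L06.GeomLocal.isNoetherianRing_fibre (B := B) p K
  refine Groth.L06.PropLoc.loc_reg_iff.mp (Groth.L06.GeomLocal.general Groth.L06.PropLoc.good_reg (fun q _ L _ _ hL => ?_) (fun k' _ _ hk' => ?_) p K hK)
  · haveI := hL
    haveI : IsNoetherianRing (EGA4.Cpl A) := Groth.Agent.S0543.result A _
    haveI := Groth.L06.GeomLocal.isNoetherianRing_fibre (B := EGA4.Cpl A) q L
    exact Groth.L06.PropLoc.loc_reg_iff.mpr ((hA.2 q).2 L hL)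
  · haveI := hk'
    haveI : IsNoetherianRing (EGA4.Cpl B) := Groth.Agent.S0543.result B _
    haveI := Groth.L06.GeomLocal.isNoetherianRing_fibre (B := EGA4.Cpl B) (IsLocalRing.maximalIdeal A) k'
    exact Groth.L06.PropLoc.loc_reg_iff.mpr (h k' hk')

end Groth.Agent.S4708
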