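import Groth.Statements.S4711
import Mathlib.RingTheory.Spectrum.Prime.ConstructibleSet
import Mathlib.Topology.LocallyClosed
import Mathlib.AlgebraicGeometry.Morphisms.QuasiCompact
-- import your own Groth.Agent.* helpers here

set_option autoImplicit false
universe u
open EGA4

namespace Groth.Agent.S4711

open AlgebraicGeometry Topology in
/-- In any scheme X, every nonempty locally constructible subset E contains a point x such that the
one-point set {x} is locally closed in X (equivalently x is isolated in its closure). -/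
theorem result (X : Scheme.{u}) (E : Set X)
    (hE : Topology.IsLocallyConstructible E) (hne : E.Nonempty) :
    ∃ x ∈ E, IsLocallyClosed ({x} : Set X) := by
  obtain ⟨z, hz⟩ := hne
  obtain ⟨U, hUn, hUo, hU⟩ := hE z
  obtain ⟨_, ⟨W, hW, rfl⟩, hzW, hWU⟩ := X.isBasis_affineOpens.exists_subset_of_mem_open (mem_of_mem_nhds hUn) hUo
  change X.Opens at W
  replace hW : IsAffineOpen W := hW
  haveI : QuasiSeparatedSpace ↥X → True := fun _ => trivial
  let e := hW.fromSpec
  have hc : IsConstructible (e ⁻¹' E) := by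
    have h1 : IsLocallyConstructible (e ⁻¹' E) := hE.preimage_of_isOpenEmbedding e.isOpenEmbedding
    exact h1.isConstructible
  obtain ⟨S, hS⟩ := PrimeSpectrum.exists_constructibleSetData_iff.mpr hc
  obtain ⟨p, rfl⟩ : z ∈ Set.range e := by rw [hW.range_fromSpec]; exact hzW
  have hp : p ∈ S.toSet := hS ▸ hz
  obtain ⟨C, hCS, hpC⟩ := Set.mem_iUnion₂.mp (show p ∈ ⋃ C ∈ S, C.toSet from hp)
  have hsub : C.toSet ⊆ e ⁻¹' E := fun w hw => by
    have : w ∈ S.toSet := Set.mem_iUnion₂.mpr ⟨C, hCS, hw⟩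
    exact hS ▸ this
  have hlc : IsLocallyClosed C.toSet := ⟨(PrimeSpectrum.zeroLocus {C.f})ᶜ, PrimeSpectrum.zeroLocus (Set.range C.g),
    (PrimeSpectrum.isClosed_zeroLocus _).isOpen_compl, PrimeSpectrum.isClosed_zeroLocus _, by
      rw [PrimeSpectrum.BasicConstructibleSetData.toSet, Set.diff_eq, Set.inter_comm]⟩
  obtain ⟨O, K, hO, hK, hOK⟩ := hlc
  obtain ⟨_, ⟨_, ⟨f, rfl⟩, rfl⟩, hpf, hfO⟩ :=
    PrimeSpectrum.isBasis_basic_opens.exists_subset_of_mem_open (hOK ▸ hpC : p ∈ O ∩ K).1 hO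
  let B : Set (PrimeSpectrum Γ(X, W)) := (PrimeSpectrum.basicOpen f : Set _)
  haveI : CompactSpace ↥B := isCompact_iff_compactSpace.mp (PrimeSpectrum.isCompact_basicOpen f)
  obtain ⟨y, hyK, hy⟩ := IsClosed.exists_closed_singleton (S := (Subtype.val : ↥B → _) ⁻¹' K)
    (hK.preimage continuous_subtype_val) ⟨⟨p, hpf⟩, (hOK ▸ hpC : p ∈ O ∩ K).2⟩
  refine ⟨e y.1, hsub (hOK.symm ▸ ⟨hfO y.2, hyK⟩), ?_⟩
  have h1 : IsLocallyClosed ({y.1} : Set (PrimeSpectrum Γ(X, W))) := by
    rw [← Set.image_singleton]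
    exact hy.isLocallyClosed.image IsEmbedding.subtypeVal.isInducing (by
      rw [Subtype.range_val]; exact (PrimeSpectrum.basicOpen f).2.isLocallyClosed)
  rw [← Set.image_singleton]
  exact h1.image e.isOpenEmbedding.isInducing e.isOpenEmbedding.isOpen_range.isLocallyClosed

end Groth.Agent.S4711
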