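import Groth.Statements.S4712
import Mathlib.AlgebraicGeometry.Noetherian
import Groth.Agent.L22.Completion.Dim
import Groth.Agent.L00.ArtinTate
-- import your own Groth.Agent.* helpers here

set_option autoImplicit false
universe u
open EGA4

namespace Groth.Agent.S4712

open AlgebraicGeometry in
/-- Let X be a locally Noetherian scheme and x a point such that {x} is locally closed in X. Then the
closure of {x} has dimension at most 1, and every point of that closure other than x is a closed
point of X. -/
theorem result (X : Scheme.{u}) [IsLocallyNoetherian X] (x : X)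
    (hx : IsLocallyClosed ({x} : Set X)) :
    topologicalKrullDim (closure ({x} : Set X)) ≤ 1 ∧
      ∀ y ∈ closure ({x} : Set X), y ≠ x → IsClosed ({y} : Set X) := by
  have key : ∀ y z : X, x ⤳ y → y ⤳ z → y ≠ x → y = z := by
    intro y z hxy hyz hne
    obtain ⟨_, ⟨W, hW, rfl⟩, hzW, -⟩ := X.isBasis_affineOpens.exists_subset_of_mem_open (Set.mem_univ z) isOpen_univ
    change X.Opens at W
    replace hW : IsAffineOpen W := hW
    haveI : IsNoetherianRing Γ(X, W) := IsLocallyNoetherian.component_noetherian ⟨W, hW⟩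
    let e := hW.fromSpec
    have hmem : ∀ w, w ⤳ z → w ∈ Set.range e := fun w hw => by rw [hW.range_fromSpec]; exact hw.mem_open W.2 hzW
    obtain ⟨p, rfl⟩ := hmem x (hxy.trans hyz)
    obtain ⟨q, rfl⟩ := hmem y hyz
    obtain ⟨r, rfl⟩ := hmem z (specializes_refl _)
    obtain ⟨O, C, hO, hC, hOC⟩ := hx
    have hpOC : e p ∈ O ∩ C := hOC ▸ rfl
    obtain ⟨_, ⟨_, ⟨f, rfl⟩, rfl⟩, hpf, hfO⟩ :=
      PrimeSpectrum.isBasis_basic_opens.exists_subset_of_mem_open (show p ∈ e ⁻¹' O from hpOC.1) (hO.preimage e.continuous)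
    have hle : ∀ {a b : PrimeSpectrum Γ(X, W)}, e a ⤳ e b ↔ a.asIdeal ≤ b.asIdeal := fun {a b} => by
      rw [e.isEmbedding.isInducing.specializes_iff]; exact (PrimeSpectrum.le_iff_specializes a b).symm
    haveI := p.2
    haveI := q.2
    haveI := r.2
    refine congrArg e (PrimeSpectrum.ext (Groth.L00.ArtinTate.eq_of_le (p := p.asIdeal) (f := f) hpf (fun s hs hps hne' => ?_)
      (hle.mp hxy) (fun h => hne (congrArg e (PrimeSpectrum.ext h))) (hle.mp hyz)))
    by_contra hfs
    refine hne' (congrArg PrimeSpectrum.asIdeal (e.isEmbedding.injective ?_ : (⟨s, hs⟩ : PrimeSpectrum Γ(X, W)) = p))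
    have : e (⟨s, hs⟩ : PrimeSpectrum Γ(X, W)) ∈ O ∩ C :=
      ⟨hfO hfs, (hle (a := p) (b := ⟨s, hs⟩) |>.mpr hps).mem_closed hC hpOC.2⟩
    rwa [← hOC] at this
  refine ⟨?_, fun y hy hne => ?_⟩
  · haveI : QuasiSober ↥(closure ({x} : Set X)) := isClosed_closure.isClosedEmbedding_subtypeVal.quasiSober
    refine Groth.L22.Completion.dim_le_one_of_spec fun a b c hab hbc => ?_
    by_cases e : b.1 = x
    · left
      refine Subtype.ext ((hab.map continuous_subtype_val).antisymm ?_).eq
      rw [e]
      exact specializes_iff_mem_closure.mpr a.2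
    · right
      exact Subtype.ext (key b.1 c.1 (specializes_iff_mem_closure.mpr b.2) (hbc.map continuous_subtype_val) e)
  · refine closure_eq_iff_isClosed.mp (Set.Subset.antisymm (fun z hz => ?_) subset_closure)
    exact (key y z (specializes_iff_mem_closure.mpr hy) (specializes_iff_mem_closure.mpr hz) hne).symm

end Groth.Agent.S4712
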