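import Groth.Statements.S4713
import Mathlib.AlgebraicGeometry.Noetherian
import Groth.Agent.S4711
import Groth.Agent.S4712
-- import your own Groth.Agent.* helpers here

set_option autoImplicit false
universe u
open EGA4

namespace Groth.Agent.S4713

open AlgebraicGeometry in
/-- In a locally Noetherian scheme X, every nonempty closed subset contains a closed point of X. -/
theorem result (X : Scheme.{u}) [IsLocallyNoetherian X]
    (Z : Set X) (hZ : IsClosed Z) (hne : Z.Nonempty) : ∃ x ∈ Z, IsClosed ({x} : Set X) := by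
  obtain ⟨x, hxZ, hx⟩ : ∃ x ∈ Z, IsLocallyClosed ({x} : Set X) := by
    obtain ⟨z, hz⟩ := hne
    obtain ⟨_, ⟨W, hW, rfl⟩, hzW, -⟩ := X.isBasis_affineOpens.exists_subset_of_mem_open (Set.mem_univ z) isOpen_univ
    change X.Opens at W
    haveI : CompactSpace ↥W := isCompact_iff_compactSpace.mp (show IsAffineOpen W from hW).isCompact
    obtain ⟨y, hyZ, hy⟩ := IsClosed.exists_closed_singleton (S := (Subtype.val : ↥W → _) ⁻¹' Z)
      (hZ.preimage continuous_subtype_val) ⟨⟨z, hzW⟩, hz⟩
    refine ⟨y.1, hyZ, ?_⟩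
    rw [← Set.image_singleton]
    exact hy.isLocallyClosed.image Topology.IsEmbedding.subtypeVal.isInducing (by rw [Subtype.range_val]; exact W.2.isLocallyClosed)
  by_cases hc : IsClosed ({x} : Set X)
  · exact ⟨x, hxZ, hc⟩
  · obtain ⟨y, hy, hne'⟩ : ∃ y ∈ closure ({x} : Set X), y ≠ x := by
      by_contra h
      push Not at h
      exact hc (closure_eq_iff_isClosed.mp (subset_antisymm (fun y hy => h y hy) subset_closure))
    exact ⟨y, hZ.closure_subset_iff.mpr (Set.singleton_subset_iff.mpr hxZ) hy, (Groth.Agent.S4712.result X x hx).2 y hy hne'⟩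

end Groth.Agent.S4713
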