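import Groth.Statements.S4714
import Groth.Agent.L06.GenericFibreDim

set_option autoImplicit false
set_option maxSynthPendingDepth 3
set_option linter.style.haveILetI false
universe u
open EGA4

namespace Groth.Agent.S4714

open AlgebraicGeometry CategoryTheory in
/-- For a section of the structure sheaf: let X be a scheme locally of finite type over a field k and f
a global section of O_X whose zero locus Y is nowhere dense in X. Then dim Y + 1 ≤ dim X. If
moreover some irreducible component of X has dimension equal to dim X and Y meets every such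
component, then dim Y + 1 = dim X. (The published statement is for a section of an invertible sheaf;
the existence of a component of maximal dimension, implicit in the published wording, is made a
hypothesis of the equality clause.) -/
theorem result (k : Type u) [Field k] (X : Scheme.{u}) (p : X ⟶ Spec (CommRingCat.of k))
    [LocallyOfFiniteType p] (f : Γ(X, ⊤)) (hY : interior (X.zeroLocus (U := ⊤) {f}) = ∅) :
    topologicalKrullDim (X.zeroLocus (U := ⊤) {f}) + 1 ≤ topologicalKrullDim X ∧
      ((∃ Z ∈ irreducibleComponents (X : Type u), topologicalKrullDim Z = topologicalKrullDim X) →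
        (∀ Z ∈ irreducibleComponents (X : Type u), topologicalKrullDim Z = topologicalKrullDim X →
          (Z ∩ X.zeroLocus (U := ⊤) {f}).Nonempty) →
        topologicalKrullDim (X.zeroLocus (U := ⊤) {f}) + 1 = topologicalKrullDim X) := by
  haveI : IsLocallyNoetherian X := LocallyOfFiniteType.isLocallyNoetherian p
  have hle := Groth.L06.GenericFibreDim.dim_add_one_le (S := X.zeroLocus (U := ⊤) {f})
    (Groth.L06.GenericFibreDim.finite_components_nhd (X := X)) (X.zeroLocus_isClosed _) hY
  refine ⟨hle, fun ⟨Z, hZ, hdim⟩ hmeet => le_antisymm hle ?_⟩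
  have hZc := isClosed_of_mem_irreducibleComponents Z hZ
  let Zc : TopologicalSpace.Closeds X := ⟨Z, hZc⟩
  let I := Scheme.IdealSheafData.vanishingIdeal Zc
  let i := I.subschemeι
  have hr : Set.range i = Z := by
    rw [I.range_subschemeι, Scheme.IdealSheafData.coe_support_vanishingIdeal]; rfl
  haveI : IrreducibleSpace I.subscheme := by
    have he := i.isEmbedding.toHomeomorph
    have h1 : IsIrreducible (Set.range i) := hr ▸ hZ.1
    haveI := (isIrreducible_iff_irreducibleSpace).mp h1
    exact he.symm.surjective.irreducibleSpace he.symm.continuous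
  obtain ⟨x, hxZ, hxY⟩ := hmeet Z hZ hdim
  obtain ⟨w, rfl⟩ : x ∈ Set.range i := hr.symm ▸ hxZ
  have hpre : i ⁻¹' (X.zeroLocus (U := ⊤) {f}) = I.subscheme.zeroLocus (U := ⊤) {i.appTop f} := by
    ext z
    simp only [Set.mem_preimage, Scheme.mem_zeroLocus_iff, Set.mem_singleton_iff, forall_eq]
    refine not_congr ?_
    rw [← Scheme.preimage_basicOpen_top]
    rfl
  have hd := Groth.L06.GenericFibreDim.dim_le_zeroLocus_add_one k (i ≫ p) (i.appTop f) ⟨w, hpre ▸ hxY⟩
  rw [← hdim, Groth.L22.SchemeDim.topologicalKrullDim_eq_of_isEmbedding i.isEmbedding hr]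
  refine hd.trans ?_
  gcongr
  rw [← hpre]
  exact (i.isEmbedding.restrictPreimage _).isInducing.topologicalKrullDim_le

end Groth.Agent.S4714
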