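import Groth.Statements.S4715
import Mathlib.AlgebraicGeometry.Morphisms.QuasiFinite
import Mathlib.Topology.KrullDimension
import Mathlib.Topology.Sober


set_option autoImplicit false
universe u
open EGA4

namespace Groth.Agent.S4715

open AlgebraicGeometry CategoryTheory in
/-- Let f : X → Y be a quasi-finite morphism (of finite type with discrete fibres) of locally Noetherian
schemes. Then dim X is at most the dimension of the closure of f(X), which is at most dim Y. -/
theorem result {X Y : Scheme.{u}} (f : X ⟶ Y) [IsLocallyNoetherian X] [IsLocallyNoetherian Y]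
    [LocallyQuasiFinite f] [LocallyOfFiniteType f] [QuasiCompact f] :
    topologicalKrullDim X ≤ topologicalKrullDim (closure (Set.range f.base)) ∧
      topologicalKrullDim (closure (Set.range f.base)) ≤ topologicalKrullDim Y := by
  refine ⟨?_, topologicalKrullDim_subspace_le _ _⟩
  let C : Set ↥Y := closure (Set.range f.base)
  let f' : ↥X → C := fun x => ⟨f.base x, subset_closure ⟨x, rfl⟩⟩
  have hf' : Continuous f' := f.continuous.subtype_mk _
  let g : TopologicalSpace.IrreducibleCloseds ↥X → TopologicalSpace.IrreducibleCloseds C := fun Z =>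
    ⟨closure (f' '' (Z : Set ↥X)), (Z.2.image f' hf'.continuousOn).closure, isClosed_closure⟩
  refine Order.krullDim_le_of_strictMono g fun Z Z' hlt => ?_
  refine lt_of_le_of_ne (closure_mono (Set.image_mono hlt.le)) fun he => ?_
  have hz := Z.2.isGenericPoint_genericPoint Z.3
  have hz' := Z'.2.isGenericPoint_genericPoint Z'.3
  have h1 : IsGenericPoint (f' Z.2.genericPoint) (closure (f' '' (Z : Set ↥X))) := hz.image hf'
  have h2 : IsGenericPoint (f' Z'.2.genericPoint) (closure (f' '' (Z' : Set ↥X))) := hz'.image hf'
  have he' : closure (f' '' (Z : Set ↥X)) = closure (f' '' (Z' : Set ↥X)) :=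
    congrArg (fun W : TopologicalSpace.IrreducibleCloseds C => (W : Set C)) he
  rw [he'] at h1
  have heq : f.base Z.2.genericPoint = f.base Z'.2.genericPoint := congrArg Subtype.val (h1.eq h2)
  have hs : Z'.2.genericPoint ⤳ Z.2.genericPoint := hz'.specializes (hlt.le hz.mem)
  haveI : DiscreteTopology (f ⁻¹' {f.base Z'.2.genericPoint}) :=
    isDiscrete_iff_discreteTopology.1 (f.isDiscrete_preimage_singleton _)
  have hs' : (⟨Z'.2.genericPoint, rfl⟩ : f ⁻¹' {f.base Z'.2.genericPoint}) ⤳ ⟨Z.2.genericPoint, heq⟩ :=
    (subtype_specializes_iff _ _).2 hs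
  have hpt : Z'.2.genericPoint = Z.2.genericPoint := congrArg Subtype.val hs'.eq
  refine hlt.ne (TopologicalSpace.IrreducibleCloseds.ext ?_)
  show Z.carrier = Z'.carrier
  rw [← hz.def, ← hz'.def, hpt]

end Groth.Agent.S4715
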