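import Groth.Statements.S4717
import Mathlib.AlgebraicGeometry.Properties
import Mathlib.AlgebraicGeometry.Morphisms.Finite
import Mathlib.AlgebraicGeometry.Morphisms.QuasiFinite
import Groth.Agent.L00.DimClosedSurj
-- import your own Groth.Agent.* helpers here

set_option autoImplicit false
universe u
open EGA4

namespace Groth.Agent.S4717

open AlgebraicGeometry CategoryTheory in
/-- Let f : X → Y be a finite morphism of locally Noetherian schemes. Then dim X equals the dimension of
the image f(X); in particular if f is surjective then dim X = dim Y. -/
theorem result {X Y : Scheme.{u}} (f : X ⟶ Y) [IsLocallyNoetherian X] [IsLocallyNoetherian Y]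
    [IsFinite f] :
    topologicalKrullDim X = topologicalKrullDim (Set.range f.base) ∧
      (Function.Surjective f.base → topologicalKrullDim X = topologicalKrullDim Y) := by
  have hcl : IsClosed (Set.range f.base) := f.isClosedMap.isClosed_range
  haveI : QuasiSober (Set.range f.base) := hcl.isClosedEmbedding_subtypeVal.quasiSober
  have h : topologicalKrullDim X = topologicalKrullDim (Set.range f.base) := by
    refine Groth.L00.topologicalKrullDim_eq_of_isClosedMap (F := Set.rangeFactorization f.base)
      (f.base.hom.continuous.rangeFactorization) ?_ Set.rangeFactorization_surjective ?_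
    · intro s hs
      have := (f.isClosedMap _ hs).preimage (continuous_subtype_val (p := (· ∈ Set.range f.base)))
      convert this
      ext ⟨y, hy⟩
      simp [Set.rangeFactorization, Subtype.ext_iff]
    · intro a b hab he
      have he' : f.base a = f.base b := congrArg Subtype.val he
      haveI : DiscreteTopology ↥(f.base ⁻¹' {f.base b}) :=
        isDiscrete_iff_discreteTopology.1 (f.isDiscrete_preimage_singleton (f.base b))
      have : (⟨a, he'⟩ : ↥(f.base ⁻¹' {f.base b})) = ⟨b, rfl⟩ :=
        ((subtype_specializes_iff _ _).2 hab).eq
      exact congrArg Subtype.val this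
  refine ⟨h, fun hs => h.trans ?_⟩
  rw [hs.range_eq]
  exact (Homeomorph.Set.univ Y).isHomeomorph.topologicalKrullDim_eq

end Groth.Agent.S4717
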