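import Groth.Statements.S4718
import Groth.Agent.L06.FiniteSupp

set_option autoImplicit false
set_option maxSynthPendingDepth 3
set_option linter.style.haveILetI false
universe u
open EGA4

namespace Groth.Agent.S4718

/-- Let A be a Noetherian local ring, B a Noetherian ring, A → B a ring homomorphism and M a nonzero
B-module which is finite as an A-module. Then M is a Cohen–Macaulay A-module if and only if, for all
primes q of B lying over the maximal ideal of A and belonging to the support of M, the B_q-module
M_q is Cohen–Macaulay and all these modules M_q have the same dimension. -/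
theorem result (A B : Type u) [CommRing A] [CommRing B]
    [IsNoetherianRing A] [IsLocalRing A] [IsNoetherianRing B] [Algebra A B]
    (M : Type u) [AddCommGroup M] [Module B M] [Module A M] [IsScalarTower A B M] [Module.Finite A M]
    [Nontrivial M] :
    LocCoh.IsCohenMacaulayModule A M ↔
      (∀ q ∈ {q : PrimeSpectrum B | q.asIdeal.comap (algebraMap A B) = IsLocalRing.maximalIdeal A ∧
          q ∈ Module.support B M},
        LocCoh.IsCohenMacaulayModule (Localization.AtPrime q.asIdeal) (LocalizedModule q.asIdeal.primeCompl M)) ∧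
      (∀ q ∈ {q : PrimeSpectrum B | q.asIdeal.comap (algebraMap A B) = IsLocalRing.maximalIdeal A ∧
          q ∈ Module.support B M},
        ∀ q' ∈ {q : PrimeSpectrum B | q.asIdeal.comap (algebraMap A B) = IsLocalRing.maximalIdeal A ∧
          q ∈ Module.support B M},
          Module.supportDim (Localization.AtPrime q.asIdeal) (LocalizedModule q.asIdeal.primeCompl M) =
            Module.supportDim (Localization.AtPrime q'.asIdeal) (LocalizedModule q'.asIdeal.primeCompl M)) := by
  obtain ⟨hD, hd⟩ := Groth.L06.FiniteSupp.local_eq (A := A) M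
  have h1 := Groth.L06.FiniteSupp.supportDim_eq (A := A) (B := B) (M := M) (IsLocalRing.maximalIdeal A)
  have h2 := Groth.L06.FiniteSupp.depth_eq (A := A) (B := B) (M := M) (IsLocalRing.maximalIdeal A)
  rw [hD] at h1
  rw [hd] at h2
  set S := {q : PrimeSpectrum B | q.asIdeal.comap (algebraMap A B) = IsLocalRing.maximalIdeal A ∧
    q ∈ Module.support B M}
  haveI : Module.Finite B M := Module.Finite.of_restrictScalars_finite A B M
  have hle : ∀ q ∈ S, ((LocCoh.depth (Localization.AtPrime q.asIdeal) (LocalizedModule q.asIdeal.primeCompl M) : ℕ∞) : WithBot ℕ∞)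
      ≤ Module.supportDim (Localization.AtPrime q.asIdeal) (LocalizedModule q.asIdeal.primeCompl M) := by
    intro q hq
    haveI : IsNoetherianRing (Localization.AtPrime q.asIdeal) :=
      IsLocalization.isNoetherianRing q.asIdeal.primeCompl _ inferInstance
    haveI : Nontrivial (LocalizedModule q.asIdeal.primeCompl M) := Module.mem_support_iff.1 hq.2
    haveI : Module.Finite (Localization.AtPrime q.asIdeal) (LocalizedModule q.asIdeal.primeCompl M) :=
      Module.Finite.of_isLocalizedModule q.asIdeal.primeCompl (LocalizedModule.mkLinearMap q.asIdeal.primeCompl M)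
    exact Groth.L04.depth_le_supportDim
  have hlo : ∀ q ∈ S, LocCoh.depth A M ≤
      LocCoh.depth (Localization.AtPrime q.asIdeal) (LocalizedModule q.asIdeal.primeCompl M) :=
    fun q hq => h2 ▸ iInf₂_le q hq
  have hhi : ∀ q ∈ S, Module.supportDim (Localization.AtPrime q.asIdeal) (LocalizedModule q.asIdeal.primeCompl M) ≤
      Module.supportDim A M :=
    fun q hq => h1 ▸ le_iSup₂ (f := fun (q : PrimeSpectrum B) (_ : q ∈ S) =>
      Module.supportDim (Localization.AtPrime q.asIdeal) (LocalizedModule q.asIdeal.primeCompl M)) q hq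
  constructor
  · intro h
    have key : ∀ q ∈ S, Module.supportDim (Localization.AtPrime q.asIdeal) (LocalizedModule q.asIdeal.primeCompl M) =
        Module.supportDim A M := fun q hq => le_antisymm (hhi q hq) (by
      rw [show Module.supportDim A M = ((LocCoh.depth A M : ℕ∞) : WithBot ℕ∞) from h]
      exact (WithBot.coe_le_coe.2 (hlo q hq)).trans (hle q hq))
    refine ⟨fun q hq => ?_, fun q hq q' hq' => (key q hq).trans (key q' hq').symm⟩
    refine le_antisymm ?_ (hle q hq)
    rw [key q hq, show Module.supportDim A M = ((LocCoh.depth A M : ℕ∞) : WithBot ℕ∞) from h]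
    exact WithBot.coe_le_coe.2 (hlo q hq)
  · rintro ⟨hcm, heq⟩
    obtain ⟨q0, hq0⟩ : S.Nonempty := by
      by_contra hS
      rw [Set.not_nonempty_iff_eq_empty] at hS
      have h3 : Module.supportDim A M = ⊥ := by rw [h1, hS]; simp
      exact (Module.supportDim_ne_bot_of_nontrivial A M) h3
    show Module.supportDim A M = ((LocCoh.depth A M : ℕ∞) : WithBot ℕ∞)
    have hdeq : ∀ q ∈ S, LocCoh.depth (Localization.AtPrime q.asIdeal) (LocalizedModule q.asIdeal.primeCompl M) =
        LocCoh.depth (Localization.AtPrime q0.asIdeal) (LocalizedModule q0.asIdeal.primeCompl M) := fun q hq =>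
      WithBot.coe_injective ((hcm q hq).symm.trans ((heq q hq q0 hq0).trans (hcm q0 hq0)))
    have e1 : LocCoh.depth A M = LocCoh.depth (Localization.AtPrime q0.asIdeal) (LocalizedModule q0.asIdeal.primeCompl M) :=
      le_antisymm (hlo q0 hq0) (h2.symm ▸ le_iInf₂ fun q hq => (hdeq q hq).ge)
    have e2 : Module.supportDim A M = Module.supportDim (Localization.AtPrime q0.asIdeal) (LocalizedModule q0.asIdeal.primeCompl M) :=
      le_antisymm (h1.trans_le (iSup₂_le fun q hq => (heq q hq q0 hq0).le)) (hhi q0 hq0)
    rw [e1, e2]
    exact hcm q0 hq0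

end Groth.Agent.S4718
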