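import Groth.Statements.S4719
import Groth.Agent.L06.FiniteSupp
-- import your own Groth.Agent.* helpers here

set_option autoImplicit false
universe u
open EGA4

namespace Groth.Agent.S4719

/-- Let A → B be a homomorphism of Noetherian rings and M a B-module which is finite as an A-module. (i)
If M satisfies (S_k) as an A-module, it satisfies (S_k) as a B-module. (ii) If for every two primes
q, q' of B in the support of M having the same contraction to A the modules M_q and M_{q'} have the
same dimension, then (S_k) for M as a B-module implies (S_k) for M as an A-module. (The published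
statement asks the equal-dimension condition for all pairs of primes of B with the same contraction;
this row asks it only for primes in the support of M, which is all its proof uses.) -/
theorem result (k : ℕ) (A B : Type u) [CommRing A] [CommRing B] [IsNoetherianRing A]
    [IsNoetherianRing B] [Algebra A B] (M : Type u) [AddCommGroup M] [Module B M] [Module A M]
    [IsScalarTower A B M] [Module.Finite A M] :
    (LocCoh.HasSk k A M → LocCoh.HasSk k B M) ∧
      ((∀ q ∈ Module.support B M, ∀ q' ∈ Module.support B M,
          q.asIdeal.comap (algebraMap A B) = q'.asIdeal.comap (algebraMap A B) →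
            Module.supportDim (Localization.AtPrime q.asIdeal) (LocalizedModule q.asIdeal.primeCompl M) =
              Module.supportDim (Localization.AtPrime q'.asIdeal) (LocalizedModule q'.asIdeal.primeCompl M)) →
        LocCoh.HasSk k B M → LocCoh.HasSk k A M) := by
  refine ⟨fun h q _ => ?_, fun hdim h p _ => ?_⟩
  · by_cases hq : (⟨q, inferInstance⟩ : PrimeSpectrum B) ∈ Module.support B M
    · refine le_trans ?_ (le_trans (h (q.comap (algebraMap A B))) (WithBot.coe_le_coe.2 ?_))
      · refine min_le_min_left _ ?_
        rw [Groth.L06.FiniteSupp.supportDim_eq (A := A) (B := B) (q.comap (algebraMap A B))]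
        exact le_iSup₂ (f := fun (q' : PrimeSpectrum B) _ => Module.supportDim (Localization.AtPrime q'.asIdeal)
          (LocalizedModule q'.asIdeal.primeCompl M)) ⟨q, inferInstance⟩ ⟨rfl, hq⟩
      · rw [Groth.L06.FiniteSupp.depth_eq (A := A) (B := B) (q.comap (algebraMap A B))]
        exact iInf₂_le (f := fun (q' : PrimeSpectrum B) _ => LocCoh.depth (Localization.AtPrime q'.asIdeal)
          (LocalizedModule q'.asIdeal.primeCompl M)) ⟨q, inferInstance⟩ ⟨rfl, hq⟩
    · haveI : Subsingleton (LocalizedModule q.primeCompl M) := Module.notMem_support_iff.1 hq
      rw [Module.supportDim_eq_bot_of_subsingleton (Localization.AtPrime q) (LocalizedModule q.primeCompl M)]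
      exact (min_le_right _ _).trans bot_le
  · rw [Groth.L06.FiniteSupp.depth_eq (A := A) (B := B) p]
    set d := min (k : WithBot ℕ∞)
      (Module.supportDim (Localization.AtPrime p) (LocalizedModule p.primeCompl M)) with hd
    have key : ∀ q : PrimeSpectrum B, q.asIdeal.comap (algebraMap A B) = p → q ∈ Module.support B M →
        d ≤ ((LocCoh.depth (Localization.AtPrime q.asIdeal) (LocalizedModule q.asIdeal.primeCompl M) : ℕ∞) : WithBot ℕ∞) := by
      intro q hqc hq
      refine le_trans (min_le_min_left _ ?_) (h q.asIdeal)
      rw [Groth.L06.FiniteSupp.supportDim_eq (A := A) (B := B) p]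
      exact iSup₂_le fun q' hq' => (hdim q' hq'.2 q hq (hq'.1.trans hqc.symm)).le
    clear_value d
    clear hd
    induction d using WithBot.recBotCoe with
    | bot => exact bot_le
    | coe d => exact WithBot.coe_le_coe.2 (le_iInf₂ fun q hq => WithBot.coe_le_coe.1 (key q hq.1 hq.2))

end Groth.Agent.S4719
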