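import Groth.Statements.S4722
import Mathlib.RingTheory.Ideal.AssociatedPrime.Localization
import Mathlib.RingTheory.Ideal.AssociatedPrime.Finiteness
import Mathlib.RingTheory.Regular.IsSMulRegular
import Mathlib.RingTheory.Noetherian.Basic
import Mathlib.Order.Fin.Tuple

set_option autoImplicit false
universe u
open EGA4

namespace Groth.Agent.S4722

variable {_unused : Unit}

section
variable {A : Type u} [CommRing A] [IsNoetherianRing A] {M : Type u} [AddCommGroup M] [Module A M] [Module.Finite A M]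
  {p : Ideal A} [p.IsPrime] {n : ℕ}

/-- Saturation of a submodule with respect to `p.primeCompl`. -/
def sat (p : Ideal A) [p.IsPrime] (N : Submodule A M) : Submodule A M where
  carrier := {m | ∃ c ∉ p, c • m ∈ N}
  zero_mem' := ⟨1, p.ne_top_iff_one.mp Ideal.IsPrime.ne_top', by simp⟩
  add_mem' := fun {a b} ⟨c, hc, ha⟩ ⟨d, hd, hb⟩ => ⟨c * d, fun h => (Ideal.IsPrime.mem_or_mem ‹_› h).elim hc hd, by
    rw [smul_add]
    exact N.add_mem (by rw [mul_comm, mul_smul]; exact N.smul_mem d ha) (by rw [mul_smul]; exact N.smul_mem c hb)⟩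
  smul_mem' := fun r a ⟨c, hc, ha⟩ => ⟨c, hc, by rw [smul_comm]; exact N.smul_mem r ha⟩

/-- One step of the filtration. -/
theorem step {N : Submodule A M} (hN : ∀ c ∉ p, ∀ m, c • m ∈ N → m ∈ N)
    (hn : ∀ a ∈ p ^ n, ∀ m : M, a • m = 0) (hne : N ≠ ⊤) :
    ∃ N' : Submodule A M, N < N' ∧ (∀ c ∉ p, ∀ m, c • m ∈ N' → m ∈ N') ∧
      ∃ g : (↥N' ⧸ N.comap N'.subtype) →ₗ[A] (A ⧸ p), Function.Injective g := by
  classical
  obtain ⟨x, hxN, hpx⟩ : ∃ x ∉ N, ∀ a ∈ p, a • x ∈ N := by
    by_contra h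
    push Not at h
    have key : ∀ k : ℕ, k ≤ n → ∀ m, (∀ a ∈ p ^ k, a • m ∈ N) → m ∈ N := by
      intro k _
      induction k with
      | zero => intro m hm; simpa using hm 1 (by simp)
      | succ k ih =>
        intro m hm
        refine ih (by omega) m fun a ha => ?_
        by_contra hc
        obtain ⟨b, hb, hb'⟩ := h _ hc
        exact hb' (by rw [smul_smul]; exact hm _ (by rw [pow_succ']; exact Ideal.mul_mem_mul hb ha))
    exact hne (eq_top_iff.mpr fun m _ => key n le_rfl m fun a ha => by rw [hn a ha m]; exact N.zero_mem)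
  set N' := sat p (N ⊔ Submodule.span A {x}) with hN'
  have hle : N ⊔ Submodule.span A {x} ≤ N' := fun m hm => ⟨1, p.ne_top_iff_one.mp Ideal.IsPrime.ne_top', by simpa using hm⟩
  refine ⟨N', lt_of_le_of_ne (le_sup_left.trans hle) fun h => hxN (h ▸ hle (Submodule.mem_sup_right (Submodule.mem_span_singleton_self x))),
    fun c hc m ⟨d, hd, hm⟩ => ⟨d * c, fun h => (Ideal.IsPrime.mem_or_mem ‹_› h).elim hd hc, by rwa [mul_smul]⟩, ?_⟩
  obtain ⟨s, hs⟩ := (IsNoetherian.noetherian N' : N'.FG)
  have hgen : ∀ m ∈ s, ∃ c ∉ p, c • m ∈ N ⊔ Submodule.span A {x} := fun m hm => (hs ▸ Submodule.subset_span hm : m ∈ N')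
  choose! c hc hc' using hgen
  have hC : ∏ m ∈ s, c m ∉ p := fun h => by
    obtain ⟨m, hm, h'⟩ := Ideal.IsPrime.prod_mem_iff.mp h
    exact hc m hm h'
  set C := ∏ m ∈ s, c m with hCdef
  have hCm : ∀ m ∈ N', C • m ∈ N ⊔ Submodule.span A {x} := by
    intro m hm
    rw [← hs] at hm
    induction hm using Submodule.span_induction with
    | mem z hz =>
      rw [hCdef, ← Finset.prod_erase_mul _ _ hz, mul_smul]
      exact Submodule.smul_mem _ _ (hc' z hz)
    | zero => simp
    | add u v _ _ hu hv => rw [smul_add]; exact add_mem hu hv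
    | smul r u _ hu => rw [smul_comm]; exact Submodule.smul_mem _ _ hu
  let ι : (A ⧸ p) →ₗ[A] M ⧸ N := Submodule.liftQ p (LinearMap.toSpanSingleton A _ (Submodule.Quotient.mk x)) fun a ha => by
    rw [LinearMap.mem_ker, LinearMap.toSpanSingleton_apply, ← Submodule.Quotient.mk_smul, Submodule.Quotient.mk_eq_zero]
    exact hpx a ha
  have hι : Function.Injective ι := by
    rw [injective_iff_map_eq_zero]
    intro q
    obtain ⟨a, rfl⟩ := Ideal.Quotient.mk_surjective q
    intro h
    change a • (Submodule.Quotient.mk x : M ⧸ N) = 0 at h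
    rw [← Submodule.Quotient.mk_smul, Submodule.Quotient.mk_eq_zero] at h
    by_contra hc
    exact hxN (hN a (fun ha => hc (Ideal.Quotient.eq_zero_iff_mem.mpr ha)) x h)
  let f : ↥N' →ₗ[A] M ⧸ N := (C • N.mkQ).comp N'.subtype
  have hf : LinearMap.range f ≤ LinearMap.range ι := by
    rintro _ ⟨⟨m, hm⟩, rfl⟩
    obtain ⟨y, hy, z, hz, hyz⟩ := Submodule.mem_sup.mp (hCm m hm)
    obtain ⟨a, rfl⟩ := Submodule.mem_span_singleton.mp hz
    refine ⟨Ideal.Quotient.mk p a, ?_⟩
    show a • (Submodule.Quotient.mk x : M ⧸ N) = C • (Submodule.Quotient.mk m : M ⧸ N)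
    rw [← Submodule.Quotient.mk_smul, ← Submodule.Quotient.mk_smul, ← hyz, Submodule.Quotient.mk_add,
      (Submodule.Quotient.mk_eq_zero N).mpr hy, zero_add]
  let e := LinearEquiv.ofInjective ι hι
  let g0 : ↥N' →ₗ[A] A ⧸ p := e.symm.toLinearMap.comp (f.codRestrict (LinearMap.range ι) fun m => hf ⟨m, rfl⟩)
  have hg0 : ∀ m, g0 m = 0 ↔ m ∈ N.comap N'.subtype := by
    intro m
    show e.symm _ = 0 ↔ _
    rw [LinearEquiv.map_eq_zero_iff]
    refine Subtype.ext_iff.trans ?_
    show C • (Submodule.Quotient.mk (m : M) : M ⧸ N) = 0 ↔ (m : M) ∈ N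
    rw [← Submodule.Quotient.mk_smul, Submodule.Quotient.mk_eq_zero]
    exact ⟨hN C hC _, N.smul_mem C⟩
  refine ⟨Submodule.liftQ _ g0 fun m hm => (hg0 m).mpr hm, ?_⟩
  rw [← LinearMap.ker_eq_bot, Submodule.ker_liftQ_eq_bot']
  ext m
  exact (hg0 m).symm

theorem filtration (hn : ∀ a ∈ p ^ n, ∀ m : M, a • m = 0) (N : Submodule A M) (hN : ∀ c ∉ p, ∀ m, c • m ∈ N → m ∈ N) :
    ∃ (m : ℕ) (F : Fin (m + 1) → Submodule A M), Antitone F ∧ F 0 = ⊤ ∧ F (Fin.last m) = N ∧
      ∀ i : Fin m, ∃ g : (↥(F i.castSucc) ⧸ Submodule.comap (F i.castSucc).subtype (F i.succ)) →ₗ[A] (A ⧸ p),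
        Function.Injective g := by
  induction N using WellFoundedGT.induction with
  | _ N ih =>
    rcases eq_or_ne N ⊤ with rfl | hne
    · exact ⟨0, fun _ => ⊤, fun _ _ _ => le_rfl, rfl, rfl, fun i => i.elim0⟩
    obtain ⟨N', hlt, hN', hg⟩ := step hN hn hne
    obtain ⟨m, F, hF, h0, hlast, hst⟩ := ih N' hlt hN'
    have ec : ∀ i : Fin (m + 1), Fin.snoc (α := fun _ => Submodule A M) F N i.castSucc = F i := fun i => Fin.snoc_castSucc ..
    have el : Fin.snoc (α := fun _ => Submodule A M) F N (Fin.last (m + 1)) = N := Fin.snoc_last ..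
    refine ⟨m + 1, Fin.snoc F N, Fin.antitone_iff_succ_le.mpr fun i => ?_, ?_, el, fun i => ?_⟩
    · refine Fin.lastCases ?_ (fun j => ?_) i
      · rw [ec, Fin.succ_last, el, hlast]; exact hlt.le
      · rw [ec, ← Fin.castSucc_succ, ec]
        exact hF (Fin.castSucc_le_succ j)
    · exact (ec 0).trans h0
    · induction i using Fin.lastCases with
      | last => rw [ec, Fin.succ_last, el, hlast]; exact hg
      | cast j => rw [ec, ← Fin.castSucc_succ, ec]; exact hst j

end

open EGA4 in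

/-- Let A be a Noetherian ring and M a finite A-module whose set of associated primes is a single prime
p. Then M has a finite decreasing filtration by submodules M = M_0 ⊇ M_1 ⊇ ⋯ ⊇ M_m = 0 such that
each quotient M_h/M_{h+1} is isomorphic to a submodule of A/p (i.e. embeds A-linearly into A/p). -/
theorem result (A : Type u) [CommRing A] [IsNoetherianRing A]
    (M : Type u) [AddCommGroup M] [Module A M] [Module.Finite A M] (p : Ideal A)
    (hp : associatedPrimes A M = {p}) :
    ∃ (m : ℕ) (F : Fin (m + 1) → Submodule A M), Antitone F ∧ F 0 = ⊤ ∧ F (Fin.last m) = ⊥ ∧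
      ∀ i : Fin m, ∃ g : (↥(F i.castSucc) ⧸ Submodule.comap (F i.castSucc).subtype (F i.succ)) →ₗ[A] (A ⧸ p),
        Function.Injective g := by
  classical
  have hass : p ∈ associatedPrimes A M := hp ▸ Set.mem_singleton p
  haveI : p.IsPrime := hass.1
  have hrad : p ≤ (Module.annihilator A M).radical := by
    rw [← Ideal.sInf_minimalPrimes]
    refine le_sInf fun q hq => ?_
    have := Module.associatedPrimes.minimalPrimes_annihilator_subset_associatedPrimes A M hq
    rw [hp, Set.mem_singleton_iff] at this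
    exact this.ge
  obtain ⟨n, hn⟩ := Ideal.exists_pow_le_of_le_radical_of_fg hrad (IsNoetherian.noetherian p)
  refine filtration (n := n) (fun a ha m => Module.mem_annihilator.mp (hn ha) m) ⊥ fun c hc m hm => ?_
  rw [Submodule.mem_bot] at hm ⊢
  have hreg : IsSMulRegular M c := by
    by_contra hr
    have : c ∈ ⋃ q ∈ associatedPrimes A M, (q : Set A) := by
      rw [biUnion_associatedPrimes_eq_compl_regular]; exact hr
    simp only [hp, Set.mem_singleton_iff, Set.iUnion_iUnion_eq_left] at this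
    exact hc this
  exact hreg (hm.trans (smul_zero c).symm)

end Groth.Agent.S4722
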