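import Groth.Statements.S4723
import Groth.Agent.L10.HullFinite
import Groth.Agent.L04.LC.Codim
import Groth.Agent.L04.LC.Torsion
-- import your own Groth.Agent.* helpers here

set_option autoImplicit false
universe u
open EGA4

namespace Groth.Agent.S4723

open CategoryTheory in
theorem finite_of_regular {R D : Type u} [CommRing R] [IsRegularRing R] [CommRing D] [IsDomain D]
    [IsNoetherianRing D] (π : R →+* D) (hπ : Function.Surjective π) (J : Ideal D) (hJ : (2 : ℕ∞) ≤ J.height) :
    Module.Finite D (Groth.L10.Hull.hullAt D {p : PrimeSpectrum D | ¬ J ≤ p.asIdeal}) := by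
  have htf : ∀ I : Ideal D, I ≠ ⊥ → ∀ (M : Type u) [AddCommGroup M] [Module D M] [Module.IsTorsionFree D M],
      DRing.torsionSub I M = ⊥ := by
    intro I hI M _ _ _
    rw [Submodule.eq_bot_iff]
    rintro x ⟨n, hn⟩
    obtain ⟨a, ha, ha0⟩ := Submodule.exists_mem_ne_zero_of_ne_bot hI
    exact (smul_eq_zero.1 (hn _ (Ideal.pow_mem_pow ha n))).resolve_left (pow_ne_zero n ha0)
  have hJ0 : J ≠ ⊥ := fun h => by
    rw [h, Ideal.height_bot] at hJ
    exact absurd hJ (by decide)
  have h1 : Module.Finite D (LocCoh.H J (0 + 1) D) := by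
    refine Groth.L04.LC.finite_H_succ_of_coverHyp' π hπ J D 0 fun p q hp hq hpq hone x => ?_
    have hp0 : p.asIdeal ≠ ⊥ := fun h => by
      have h2 := hJ.trans (Ideal.height_mono hq)
      rw [← RingEquiv.height_map (RingEquiv.quotientBot D).symm] at h2
      have h3 : (q.asIdeal.map (Ideal.Quotient.mk (⊥ : Ideal D))).height = 1 := by rw [← h]; exact hone
      have h4 : q.asIdeal.map (RingEquiv.quotientBot D).symm = q.asIdeal.map (Ideal.Quotient.mk (⊥ : Ideal D)) := rfl
      rw [h4, h3] at h2
      exact absurd h2 (by decide)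
    have h0 := (Groth.L04.LC.subsingleton_H0_iff (I := p.asIdeal) D).2 (htf _ hp0 D)
    exact ⟨1, fun h => p.isPrime.ne_top ((Ideal.eq_top_iff_one _).2 h), Subsingleton.elim _ _⟩
  let B := Groth.L10.Hull.hullAt D {p : PrimeSpectrum D | ¬ J ≤ p.asIdeal}
  have hinj : Function.Injective (Algebra.linearMap D B) := fun a b h =>
    IsFractionRing.injective D (FractionRing D) (congrArg Subtype.val h)
  have hses := Groth.L04.LC.quotient_shortExact (Algebra.linearMap D B) hinj
  haveI : Module.IsTorsionFree D B :=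
    Function.Injective.moduleIsTorsionFree (Subtype.val : B → FractionRing D) Subtype.val_injective (fun _ _ => rfl)
  haveI h00 : Subsingleton (LocCoh.H J 0 B) :=
    (Groth.L04.LC.subsingleton_H0_iff (I := J) B).2 (htf J hJ0 B)
  have hδ : Function.Injective (Groth.L04.LC.Hδ J hses 0) := by
    rw [injective_iff_map_eq_zero]
    intro y hy
    obtain ⟨z, rfl⟩ := (Groth.L04.LC.H_exact₃ J hses 0 y).1 hy
    rw [show z = 0 from Subsingleton.elim (α := LocCoh.H J 0 B) _ _, map_zero]
  haveI : Module.Finite D (LocCoh.H J 0 (B ⧸ LinearMap.range (Algebra.linearMap D B))) :=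
    Module.Finite.of_injective (Groth.L04.LC.Hδ J hses 0) hδ
  have htop : DRing.torsionSub J (B ⧸ LinearMap.range (Algebra.linearMap D B)) = ⊤ := by
    rw [eq_top_iff]
    rintro y -
    obtain ⟨⟨x, hx⟩, rfl⟩ := Submodule.Quotient.mk_surjective _ y
    let den : Ideal D :=
      { carrier := {s | ∃ a : D, algebraMap D (FractionRing D) a = algebraMap D (FractionRing D) s * x}
        add_mem' := fun ⟨a, ha⟩ ⟨b, hb⟩ => ⟨a + b, by rw [map_add, ha, hb, map_add, add_mul]⟩
        zero_mem' := ⟨0, by simp⟩
        smul_mem' := fun c s ⟨a, ha⟩ => ⟨c * a, by rw [smul_eq_mul, map_mul, ha, map_mul, mul_assoc]⟩ }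
    have hle : J ≤ den.radical := by
      rw [Ideal.radical_eq_sInf]
      refine le_sInf fun P ⟨hP, hPp⟩ => ?_
      by_contra hJP
      obtain ⟨s, hs, hs'⟩ := hx ⟨P, hPp⟩ hJP
      exact hs (hP hs')
    obtain ⟨n, hn⟩ := Ideal.exists_pow_le_of_le_radical_of_fg hle (IsNoetherian.noetherian J)
    refine ⟨n, fun a ha => ?_⟩
    obtain ⟨b, hb⟩ := hn ha
    rw [← Submodule.Quotient.mk_smul, Submodule.Quotient.mk_eq_zero]
    exact ⟨b, Subtype.ext (hb.trans (Algebra.smul_def a x).symm)⟩
  haveI : Module.Finite D (DRing.torsionSub J (B ⧸ LinearMap.range (Algebra.linearMap D B))) :=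
    Module.Finite.equiv (Groth.L04.LC.H0Equiv J (ModuleCat.of D (B ⧸ LinearMap.range (Algebra.linearMap D B))))
  rw [htop] at this
  haveI : Module.Finite D (B ⧸ LinearMap.range (Algebra.linearMap D B)) :=
    Module.Finite.equiv Submodule.topEquiv
  haveI : Module.Finite D (LinearMap.range (Algebra.linearMap D B)) := inferInstance
  exact Module.Finite.of_submodule_quotient (LinearMap.range (Algebra.linearMap D B))

/-- Let A be a Noetherian ring which is either a quotient of a regular Noetherian ring or universally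
catenary and universally Japanese. Then for every prime q of A, writing B = A/q with fraction field
K, and every ideal J of B of height at least 2, the subring of K consisting of the elements lying in
B_p for every prime p of B not containing J (the ring of sections of the structure sheaf of Spec B
over the open complement of V(J)) is a finite B-algebra (some B-subalgebra of K with exactly this
underlying set is a finitely generated B-module). -/
theorem result (A : Type u) [CommRing A] [IsNoetherianRing A]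
    (hA : (∃ (R : Type u) (_ : CommRing R), IsNoetherianRing R ∧ IsRegularRing R ∧
        ∃ f : R →+* A, Function.Surjective f) ∨
      (CAlg.IsUniversallyCatenary A ∧ CAlg.IsUniversallyJapanese A))
    (q : Ideal A) [q.IsPrime] (J : Ideal (A ⧸ q)) (hJ2 : (2 : ℕ∞) ≤ J.height) :
    ∃ B' : Subalgebra (A ⧸ q) (FractionRing (A ⧸ q)),
      (B' : Set (FractionRing (A ⧸ q))) =
          {x | ∀ (p : Ideal (A ⧸ q)) [p.IsPrime], ¬ J ≤ p →
            ∃ s : A ⧸ q, s ∉ p ∧ ∃ a : A ⧸ q,
              algebraMap (A ⧸ q) (FractionRing (A ⧸ q)) a = algebraMap (A ⧸ q) (FractionRing (A ⧸ q)) s * x} ∧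
        Module.Finite (A ⧸ q) B' := by
  let T : Set (PrimeSpectrum (A ⧸ q)) := {p | ¬ J ≤ p.asIdeal}
  refine ⟨Groth.L10.Hull.hullAt (A ⧸ q) T, ?_, ?_⟩
  · ext x
    refine ⟨fun h p _ hp => h ⟨p, inferInstance⟩ hp, fun h p hp => ?_⟩
    exact @h p.asIdeal p.isPrime hp
  have hT : ∀ p : PrimeSpectrum (A ⧸ q), p.asIdeal.height = 1 → p ∈ T := fun p hp hJ => by
    have h1 := hJ2.trans (Ideal.height_mono hJ)
    rw [hp] at h1
    exact absurd h1 (by decide)
  rcases hA with ⟨R, _, _, hR, f, hf⟩ | ⟨hc, hj⟩
  · exact finite_of_regular ((Ideal.Quotient.mk q).comp f) (Ideal.Quotient.mk_surjective.comp hf) J hJ2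
  · refine Groth.L10.Hull.finite_hullAt (A ⧸ q) ⟨inferInstance, fun S _ _ hS => ?_⟩
      (hj (A ⧸ q) inferInstance (FractionRing (A ⧸ q)) inferInstance) hT
    letI : Algebra A S := ((algebraMap (A ⧸ q) S).comp (Ideal.Quotient.mk q)).toAlgebra
    haveI : IsScalarTower A (A ⧸ q) S := IsScalarTower.of_algebraMap_eq fun _ => rfl
    exact hc.2 S (Algebra.FiniteType.trans
      (Algebra.FiniteType.of_surjective (Algebra.ofId A (A ⧸ q)) Ideal.Quotient.mk_surjective) hS)

end Groth.Agent.S4723
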