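import Groth.Statements.S4726
import Mathlib.Algebra.Colimit.Ring
import Mathlib.Algebra.Module.FinitePresentation
import Mathlib.RingTheory.TensorProduct.Maps
import Mathlib.LinearAlgebra.TensorProduct.Tower
import Mathlib.LinearAlgebra.Pi

set_option autoImplicit false
universe u
open EGA4

namespace Groth.Agent.S4726

open TensorProduct in
variable {_unused : Unit}

open TensorProduct in
/-- Base change of a cokernel of a matrix. -/
theorem model {R A : Type u} [CommRing R] [CommRing A] [Algebra R A] {n m : ℕ} (r : Fin m → Fin n → R)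
    (K : Submodule A (Fin n → A)) (hK : K = Submodule.span A (Set.range fun j => fun i => algebraMap R A (r j i))) :
    Nonempty (((Fin n → A) ⧸ K) ≃ₗ[A] A ⊗[R] ((Fin n → R) ⧸ Submodule.span R (Set.range r))) := by
  classical
  set W := Submodule.span R (Set.range r)
  let w : Fin n → A ⊗[R] ((Fin n → R) ⧸ W) := fun i => 1 ⊗ₜ Submodule.Quotient.mk (Pi.single i 1)
  let F : (Fin n → A) →ₗ[A] A ⊗[R] ((Fin n → R) ⧸ W) := Fintype.linearCombination A w
  have hF : K ≤ LinearMap.ker F := by
    rw [hK, Submodule.span_le]
    rintro _ ⟨j, rfl⟩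
    show F _ = 0
    rw [Fintype.linearCombination_apply]
    simp only [w, algebraMap_smul, ← TensorProduct.tmul_smul, ← TensorProduct.tmul_sum, ← Submodule.Quotient.mk_smul,
      ← Submodule.mkQ_apply, ← map_sum]
    have : (∑ i, r j i • (Pi.single i 1 : Fin n → R)) = r j := by
      ext i; simp [Finset.sum_apply, Pi.single_apply]
    simp only [← map_smul, ← map_sum, this]
    rw [Submodule.mkQ_apply, (Submodule.Quotient.mk_eq_zero W).mpr (Submodule.subset_span ⟨j, rfl⟩), TensorProduct.tmul_zero]
  let γ : (Fin n → R) →ₗ[R] (Fin n → A) ⧸ K :=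
    (K.mkQ.restrictScalars R).comp (LinearMap.pi fun i => (Algebra.linearMap R A).comp (LinearMap.proj i))
  have hγ : W ≤ LinearMap.ker γ := by
    rw [Submodule.span_le]
    rintro _ ⟨j, rfl⟩
    show Submodule.Quotient.mk _ = 0
    rw [Submodule.Quotient.mk_eq_zero, hK]
    exact Submodule.subset_span ⟨j, rfl⟩
  let G : A ⊗[R] ((Fin n → R) ⧸ W) →ₗ[A] (Fin n → A) ⧸ K := LinearMap.liftBaseChange A (W.liftQ γ hγ)
  refine ⟨LinearEquiv.ofLinearMap (K.liftQ F hF) G ?_ ?_⟩
  · refine TensorProduct.AlgebraTensorModule.ext fun a z => ?_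
    obtain ⟨z, rfl⟩ := Submodule.Quotient.mk_surjective W z
    simp only [LinearMap.comp_apply, LinearMap.id_apply, G, LinearMap.liftBaseChange_tmul, map_smul, Submodule.liftQ_apply]
    show a • F (fun i => algebraMap R A (z i)) = a ⊗ₜ[R] Submodule.Quotient.mk z
    rw [Fintype.linearCombination_apply]
    simp only [w, algebraMap_smul, ← TensorProduct.tmul_smul, ← TensorProduct.tmul_sum, ← Submodule.mkQ_apply,
      ← map_smul, ← map_sum, TensorProduct.smul_tmul', smul_eq_mul, mul_one]
    have : (∑ i, z i • (Pi.single i 1 : Fin n → R)) = z := by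
      ext i; simp [Finset.sum_apply, Pi.single_apply]
    rw [this]
  · refine Submodule.linearMap_qext _ (LinearMap.pi_ext fun i a => ?_)
    simp only [LinearMap.comp_apply, LinearMap.id_apply, Submodule.mkQ_apply, Submodule.liftQ_apply, F,
      Fintype.linearCombination_apply_single, map_smul, w, G, LinearMap.liftBaseChange_tmul, one_smul]
    show a • Submodule.Quotient.mk (fun j => algebraMap R A ((Pi.single i 1 : Fin n → R) j)) = Submodule.Quotient.mk (Pi.single i a : Fin n → A)
    rw [← Submodule.Quotient.mk_smul]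
    congr 1
    ext j
    simp [Pi.single_apply, apply_ite]
    split_ifs with h <;> simp [h]

open EGA4 in
open TensorProduct in

/-- Let (A_i) be a directed system of commutative rings with direct limit A and M a finitely presented
A-module. Then there exist an index i and a finitely presented A_i-module M_i such that M is
isomorphic, as an A-module, to A ⊗_{A_i} M_i (A being an A_i-algebra through the canonical map). -/
theorem result (ι : Type u) [Preorder ι] [Nonempty ι] [IsDirectedOrder ι]
    (G : ι → Type u) [∀ i, CommRing (G i)] (f : ∀ i j, i ≤ j → G i →+* G j)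
    [DirectedSystem G (fun i j h ↦ f i j h)] (M : Type u) [AddCommGroup M]
    [Module (Ring.DirectLimit G (fun i j h ↦ f i j h)) M]
    [Module.FinitePresentation (Ring.DirectLimit G (fun i j h ↦ f i j h)) M] :
    ∃ (i : ι) (Mi : Type u) (_ : AddCommGroup Mi) (_ : Module (G i) Mi), Module.FinitePresentation (G i) Mi ∧
      letI : Algebra (G i) (Ring.DirectLimit G (fun i j h ↦ f i j h)) :=
        (Ring.DirectLimit.of G (fun i j h ↦ f i j h) i).toAlgebra
      Nonempty (M ≃ₗ[Ring.DirectLimit G (fun i j h ↦ f i j h)] (Ring.DirectLimit G (fun i j h ↦ f i j h)) ⊗[G i] Mi) := by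
  classical
  set A := Ring.DirectLimit G (fun i j h ↦ f i j h)
  obtain ⟨n, K, e, hK⟩ := Module.FinitePresentation.exists_fin (R := A) (M := M)
  obtain ⟨m, s, hs⟩ := Submodule.fg_iff_exists_fin_generating_family.mp hK
  have hx : ∀ p : Fin m × Fin n, ∃ i x, Ring.DirectLimit.of G (fun i j h ↦ f i j h) i x = s p.1 p.2 :=
    fun p => Ring.DirectLimit.exists_of _
  choose idx val hval using hx
  obtain ⟨i, hi⟩ := Finset.exists_le (Finset.univ.image idx)
  letI : Algebra (G i) A := (Ring.DirectLimit.of G (fun i j h ↦ f i j h) i).toAlgebra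
  let r : Fin m → Fin n → G i := fun a b => f (idx (a, b)) i (hi _ (Finset.mem_image_of_mem _ (Finset.mem_univ _))) (val (a, b))
  have hr : (fun j => fun b => algebraMap (G i) A (r j b)) = s := by
    funext a b
    exact (Ring.DirectLimit.of_f (f := fun i j h ↦ f i j h) _ _).trans (hval (a, b))
  obtain ⟨e'⟩ := model r K (by rw [hr, hs])
  exact ⟨i, (Fin n → G i) ⧸ Submodule.span (G i) (Set.range r), inferInstance, inferInstance,
    Module.finitePresentation_of_free_of_surjective _ (Submodule.mkQ_surjective _) (by
      rw [Submodule.ker_mkQ]; exact Submodule.fg_span (Set.finite_range _)), ⟨e.trans e'⟩⟩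

end Groth.Agent.S4726
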