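import Groth.Statements.S4728
import Groth.Agent.L06.NormalTensorFlat
import Mathlib.RingTheory.TensorProduct.Quotient
import Mathlib.RingTheory.Ideal.KrullsHeightTheorem


set_option autoImplicit false
universe u
open EGA4

namespace Groth.Agent.S4728

/-- Let A be a Noetherian local domain of dimension 1 with maximal ideal m, A' a Noetherian local ring
and A → A' a local homomorphism which is normal (flat, with geometrically normal fibres). Then the
ideal m A' of A' is prime and the local ring of A' at m A' has dimension 1. (The remaining clauses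
of the published item, describing A' inside its total ring of fractions, are not restated.) -/
theorem result (A A' : Type u) [CommRing A] [CommRing A']
    [IsNoetherianRing A] [IsNoetherianRing A'] [IsLocalRing A] [IsLocalRing A'] [IsDomain A]
    (hA : ringKrullDim A = 1) [Algebra A A'] [IsLocalHom (algebraMap A A')] (h : EGA4.IsNormalHom A A') :
    ((IsLocalRing.maximalIdeal A).map (algebraMap A A')).IsPrime ∧
      ((IsLocalRing.maximalIdeal A).map (algebraMap A A')).height = 1 := by
  haveI := h.1
  set m := IsLocalRing.maximalIdeal A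
  have hle : m.map (algebraMap A A') ≤ IsLocalRing.maximalIdeal A' := IsLocalRing.map_maximalIdeal_le _
  haveI : Nontrivial (A' ⧸ m.map (algebraMap A A')) :=
    Ideal.Quotient.nontrivial_iff.2 (ne_top_of_le_ne_top (IsLocalRing.maximalIdeal.isMaximal A').ne_top hle)
  haveI : IsLocalRing (A' ⧸ m.map (algebraMap A A')) :=
    IsLocalRing.of_surjective' (Ideal.Quotient.mk _) Ideal.Quotient.mk_surjective
  let e := (Algebra.TensorProduct.quotIdealMapEquivTensorQuot A' m).toRingEquiv
  let T := TensorProduct A A' (A ⧸ m)
  letI : Field (A ⧸ m) := Ideal.Quotient.field m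
  haveI : IsLocalRing T := e.isLocalRing
  have hn : EGA4.IsNormalRing T := (Groth.L06.NormalTensor.normal_fibre_tensor h (A ⧸ m)).1
  obtain ⟨hdom, -⟩ := hn (IsLocalRing.maximalIdeal T)
  haveI := hdom
  have hinj : Function.Injective (algebraMap T (Localization.AtPrime (IsLocalRing.maximalIdeal T))) := by
    intro a b hab
    obtain ⟨s, hs⟩ := (IsLocalization.eq_iff_exists (IsLocalRing.maximalIdeal T).primeCompl _).1 hab
    exact (IsLocalRing.notMem_maximalIdeal.1 s.2).mul_left_cancel hs
  haveI : IsDomain T := hinj.isDomain
  haveI : IsDomain (A' ⧸ m.map (algebraMap A A')) := e.injective.isDomain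
  haveI hp : (m.map (algebraMap A A')).IsPrime := (Ideal.Quotient.isDomain_iff_prime _).1 inferInstance
  refine ⟨hp, ?_⟩
  haveI : (m.map (algebraMap A A')).LiesOver m := ⟨(IsLocalRing.maximalIdeal.isMaximal A).eq_of_le
    (Ideal.comap_ne_top _ hp.ne_top) Ideal.le_comap_map⟩
  rw [Ideal.height_eq_height_add_of_liesOver_of_hasGoingDown m (m.map (algebraMap A A')),
    Ideal.map_quotient_self, Ideal.height_bot, add_zero]
  exact_mod_cast (IsLocalRing.maximalIdeal_height_eq_ringKrullDim (R := A)).trans hA

end Groth.Agent.S4728
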