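import Groth.Statements.S4729
import Groth.Agent.L04.SupportLoc
-- import your own Groth.Agent.* helpers here

set_option autoImplicit false
universe u
open EGA4

namespace Groth.Agent.S4729

/-- Let A be a commutative ring, M a finite A-module and p ⊆ q prime ideals of A (so that p is a
generization of q). Then the dimension of the A_p-module M_p is at most the dimension of the
A_q-module M_q. -/
theorem result (A : Type u) [CommRing A] (M : Type u) [AddCommGroup M] [Module A M]
    [Module.Finite A M] (p q : Ideal A) [p.IsPrime] [q.IsPrime] (hpq : p ≤ q) :
    Module.supportDim (Localization.AtPrime p) (LocalizedModule p.primeCompl M) ≤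
      Module.supportDim (Localization.AtPrime q) (LocalizedModule q.primeCompl M) := by
  let ep := IsLocalization.AtPrime.primeSpectrumOrderIso (Localization.AtPrime p) p
  let eq' := IsLocalization.AtPrime.primeSpectrumOrderIso (Localization.AtPrime q) q
  let φ : Module.support (Localization.AtPrime p) (LocalizedModule p.primeCompl M) →
      Module.support (Localization.AtPrime q) (LocalizedModule q.primeCompl M) := fun P =>
    ⟨eq'.symm ⟨(ep P.1).1, le_trans (ep P.1).2 hpq⟩, by
      rw [Groth.L04.support_localization]
      have h1 : PrimeSpectrum.comap (algebraMap A (Localization.AtPrime q))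
          (eq'.symm ⟨(ep P.1).1, le_trans (ep P.1).2 hpq⟩) = (ep P.1).1 :=
        congrArg Subtype.val (eq'.apply_symm_apply _)
      rw [h1]
      exact (Groth.L04.support_localization p P.1).1 P.2⟩
  exact Order.krullDim_le_of_strictMono φ fun a b hab => eq'.symm.lt_iff_lt.2 (ep.lt_iff_lt.2 hab)

end Groth.Agent.S4729
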