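import Groth.Statements.S4731
import Mathlib.LinearAlgebra.Pi
import Mathlib.RingTheory.Finiteness.Ideal
import Mathlib.RingTheory.Noetherian.Basic
-- import your own Groth.Agent.* helpers here

set_option autoImplicit false
universe u
open EGA4

namespace Groth.Agent.S4731

/-- Let S → R be an injective homomorphism of commutative rings making R a finite S-module, with R
Noetherian; let c be the conductor of S in R, the ideal of those s in S with s R contained in (the
image of) S. If S/c is Noetherian, then every increasing sequence of ideals of S contained in c is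
eventually constant. -/
theorem result (S R : Type u) [CommRing S] [CommRing R] [Algebra S R]
    [FaithfulSMul S R] [IsNoetherianRing R] [Module.Finite S R] (c : Ideal S)
    (hc : ∀ s : S, s ∈ c ↔ ∀ r : R, ∃ s' : S, algebraMap S R s' = algebraMap S R s * r)
    [IsNoetherianRing (S ⧸ c)] (a : ℕ →o Ideal S) (ha : ∀ n, a n ≤ c) :
    ∃ N : ℕ, ∀ n, N ≤ n → a n = a N := by
  classical
  haveI : RingHomSurjective (Ideal.Quotient.mk c) := ⟨Ideal.Quotient.mk_surjective⟩
  let ι : (S ⧸ c) →ₛₗ[Ideal.Quotient.mk c] (S ⧸ c) :=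
    { toFun := fun x => x, map_add' := fun _ _ => rfl,
      map_smul' := fun r x => by
        show r • x = Ideal.Quotient.mk c r * x
        rw [Algebra.smul_def]; rfl }
  haveI : IsNoetherian S (S ⧸ c) := (ι.isNoetherian_iff_of_bijective Function.bijective_id).2 inferInstance
  let A : ℕ → Submodule S R := fun n => Submodule.map (Algebra.linearMap S R) (a n)
  let J : ℕ →o Ideal R := ⟨fun n => (a n).map (algebraMap S R), fun i j h => Ideal.map_mono (a.mono h)⟩
  obtain ⟨N₁, hN₁⟩ := monotone_stabilizes_iff_noetherian.2 (inferInstance : IsNoetherian R R) J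
  have hJfg : ((J N₁).restrictScalars S).FG := Submodule.FG.restrictScalars (IsNoetherian.noetherian _)
  obtain ⟨T, hT⟩ := hJfg
  let φ : (T → S) →ₗ[S] R := Fintype.linearCombination S (fun t : T => (t : R))
  have hφ : LinearMap.range φ = (J N₁).restrictScalars S := by
    rw [Fintype.range_linearCombination, ← hT]
    congr 1
    ext x
    simp
  let q : (T → S) →ₗ[S] (T → S ⧸ c) := LinearMap.pi fun t => c.mkQ ∘ₗ LinearMap.proj t
  let B : ℕ →o Submodule S (T → S ⧸ c) := ⟨fun n => ((A n).comap φ).map q, fun i j h =>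
    Submodule.map_mono (Submodule.comap_mono (Submodule.map_mono (a.mono h)))⟩
  obtain ⟨N₂, hN₂⟩ := monotone_stabilizes_iff_noetherian.2 (inferInstance : IsNoetherian S (T → S ⧸ c)) B
  have hJ : ∀ n, N₁ ≤ n → ∀ x ∈ A n, x ∈ LinearMap.range φ := by
    intro n hn x hx
    rw [hφ]
    obtain ⟨s, hs, rfl⟩ := hx
    show algebraMap S R s ∈ J N₁
    rw [hN₁ n hn]
    exact Ideal.mem_map_of_mem _ hs
  have hcJ : ∀ n, N₁ ≤ n → LinearMap.ker q ≤ (A n).comap φ := by
    intro n hn v hv
    show φ v ∈ A n
    rw [Fintype.linearCombination_apply]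
    refine Submodule.sum_mem _ fun t _ => ?_
    have hvt : v t ∈ c := by
      have := congrFun hv t
      exact (Submodule.Quotient.mk_eq_zero c).1 this
    have ht : (t : R) ∈ J n := by
      rw [← hN₁ n hn]
      show (t : R) ∈ (J N₁).restrictScalars S
      rw [← hT]; exact Submodule.subset_span t.2
    -- `c` moves the extension of `a n` back into `a n`
    have key : ∀ x ∈ J n, ∀ s ∈ c, s • x ∈ A n := by
      intro x hx
      refine Submodule.span_induction ?_ ?_ ?_ ?_ hx
      · rintro _ ⟨e, he, rfl⟩ s hs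
        exact ⟨s * e, (a n).mul_mem_left s he, by simp [Algebra.smul_def]⟩
      · intro s _; rw [smul_zero]; exact Submodule.zero_mem _
      · intro p q _ _ hp hq s hs; rw [smul_add]; exact Submodule.add_mem _ (hp s hs) (hq s hs)
      · intro r p _ hp s hs
        obtain ⟨s', hs'⟩ := (hc s).1 hs r
        have hmem : s' ∈ c := (hc s').2 fun r' => by
          obtain ⟨s'', h''⟩ := (hc s).1 hs (r * r')
          exact ⟨s'', by rw [h'', hs', mul_assoc]⟩
        have : s • r • p = s' • p := by
          rw [Algebra.smul_def, smul_eq_mul, Algebra.smul_def, ← mul_assoc, hs']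
        rw [this]
        exact hp s' hmem
    exact key _ ht (v t) hvt
  refine ⟨max N₁ N₂, fun n hn => le_antisymm ?_ (a.mono hn)⟩
  intro s hs
  have hn1 : N₁ ≤ n := (le_max_left _ _).trans hn
  obtain ⟨v, hv⟩ := hJ n hn1 _ ⟨s, hs, rfl⟩
  have hvB : q v ∈ B n := ⟨v, show φ v ∈ A n from hv ▸ ⟨s, hs, rfl⟩, rfl⟩
  rw [← hN₂ n ((le_max_right _ _).trans hn), hN₂ (max N₁ N₂) (le_max_right _ _)] at hvB
  obtain ⟨w, hw, hwv⟩ := hvB
  have hd : φ (v - w) ∈ A (max N₁ N₂) := hcJ _ (le_max_left _ _) (by
    rw [LinearMap.mem_ker, map_sub, hwv, sub_self])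
  have hfin : φ v ∈ A (max N₁ N₂) := by
    have := Submodule.add_mem _ hd (show φ w ∈ A (max N₁ N₂) from hw)
    rwa [← map_add, sub_add_cancel] at this
  rw [hv] at hfin
  obtain ⟨s', hs', e⟩ := hfin
  exact FaithfulSMul.algebraMap_injective S R e ▸ hs'

end Groth.Agent.S4731
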