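import Groth.Statements.S4732
import Mathlib.RingTheory.RegularLocalRing.Polynomial
import Mathlib.AlgebraicGeometry.Morphisms.Immersion
import Mathlib.AlgebraicGeometry.Morphisms.FiniteType

set_option autoImplicit false
universe u
open EGA4

namespace Groth.Agent.S4732

open AlgebraicGeometry CategoryTheory in
open AlgebraicGeometry CategoryTheory
open AlgebraicGeometry CategoryTheory

private lemma stalk_regular (R : CommRingCat.{u}) [IsRegularRing R] (y : Spec R) :
    IsRegularLocalRing ((Spec R).presheaf.stalk y) := by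
  haveI : IsRegularLocalRing (Localization.AtPrime y.asIdeal) :=
    IsRegularRing.isRegularLocalRing_localization y.asIdeal
  exact IsRegularLocalRing.of_ringEquiv (IsLocalization.algEquiv y.asIdeal.primeCompl
    (Localization.AtPrime y.asIdeal) ((Spec.structureSheaf R).presheaf.stalk y)).toRingEquiv


/-- Let k be a field, X a scheme locally of finite type over k and x a point of X. Then there are an
open neighbourhood U of x, a k-scheme Y all of whose local rings are regular, and an immersion U → Y
compatible with the structure morphisms to Spec k. -/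
theorem result (k : Type u) [Field k] {X : Scheme.{u}}
    (f : X ⟶ Spec (CommRingCat.of k)) [LocallyOfFiniteType f] (x : X) :
    ∃ (U : X.Opens) (_ : x ∈ U) (Y : Scheme.{u}) (g : Y ⟶ Spec (CommRingCat.of k)) (i : (U : Scheme.{u}) ⟶ Y),
      IsImmersion i ∧ i ≫ g = U.ι ≫ f ∧ ∀ y : Y, IsRegularLocalRing (Y.presheaf.stalk y) := by
  obtain ⟨_, ⟨U, hU, rfl⟩, hxU, -⟩ :=
    X.isBasis_affineOpens.exists_subset_of_mem_open (Set.mem_univ x) isOpen_univ
  change IsAffineOpen U at hU
  let φ := Spec.preimage (hU.fromSpec ≫ f)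
  have hφ : φ.hom.FiniteType := by
    rw [← HasRingHomProperty.Spec_iff (P := @LocallyOfFiniteType), Spec.map_preimage]
    infer_instance
  letI : Algebra k Γ(X, U) := φ.hom.toAlgebra
  haveI : Algebra.FiniteType k Γ(X, U) := hφ
  obtain ⟨n, π, hπ⟩ := Algebra.FiniteType.iff_quotient_mvPolynomial''.mp ‹Algebra.FiniteType k Γ(X, U)›
  let R : CommRingCat.{u} := CommRingCat.of (MvPolynomial (Fin n) k)
  let g : Spec R ⟶ Spec (CommRingCat.of k) := Spec.map (CommRingCat.ofHom MvPolynomial.C)
  let i : (U : Scheme.{u}) ⟶ Spec R := hU.isoSpec.hom ≫ Spec.map (CommRingCat.ofHom π.toRingHom)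
  refine ⟨U, hxU, Spec R, g, i, ?_, ?_, fun y => stalk_regular R y⟩
  · haveI : IsClosedImmersion (Spec.map (CommRingCat.ofHom π.toRingHom)) :=
      IsClosedImmersion.spec_of_surjective _ hπ
    infer_instance
  · have h2 : (CommRingCat.ofHom MvPolynomial.C : CommRingCat.of k ⟶ R) ≫ CommRingCat.ofHom π.toRingHom = φ :=
      CommRingCat.hom_ext (RingHom.ext fun c => π.commutes c)
    simp only [i, g, Category.assoc, ← Spec.map_comp, h2, φ, Spec.map_preimage]
    rw [IsAffineOpen.fromSpec, ← Category.assoc, ← Category.assoc, Iso.hom_inv_id, Category.id_comp]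

end Groth.Agent.S4732
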