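import Groth.Statements.S4740
import Groth.Agent.L06.CTensStruct
import Groth.Agent.L06.CplKaehlerRank

set_option autoImplicit false
set_option maxSynthPendingDepth 3
universe u
attribute [local instance] Algebra.TensorProduct.rightAlgebra
open EGA4

namespace Groth.Agent.S4740

open TensorProduct in
/-- Let k be a field and A, B complete Noetherian local rings containing k, the residue field of A being
a finite extension of k; let C be the completed tensor product of A and B over k (the completion of
A ⊗_k B at the ideal m_A ⊗ B + A ⊗ m_B). Then (i) C is Noetherian with finitely many maximal ideals;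
(ii) C is flat over A and over B; (iii) m_A C is contained in the Jacobson radical of C and C/m_A C
is isomorphic to (A/m_A) ⊗_k B; (iv) the residue field of C at each of its maximal ideals is a
finite B-module. (Completeness of C, also asserted in the published item, is not restated; the
isomorphism in (iii) is asserted to exist only.) -/
theorem result (k A B : Type u) [Field k] [CommRing A] [CommRing B] [Algebra k A] [Algebra k B]
    [IsNoetherianRing A] [IsNoetherianRing B] [IsLocalRing A] [IsLocalRing B]
    [IsAdicComplete (IsLocalRing.maximalIdeal A) A] [IsAdicComplete (IsLocalRing.maximalIdeal B) B]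
    [Module.Finite k (IsLocalRing.ResidueField A)] :
    (IsNoetherianRing (EGA4.CTensor k A B) ∧ (Set.univ : Set (MaximalSpectrum (EGA4.CTensor k A B))).Finite) ∧
      (Module.Flat A (EGA4.CTensor k A B) ∧ Module.Flat B (EGA4.CTensor k A B)) ∧
      ((IsLocalRing.maximalIdeal A).map (algebraMap A (EGA4.CTensor k A B)) ≤ (⊥ : Ideal (EGA4.CTensor k A B)).jacobson ∧
        Nonempty ((EGA4.CTensor k A B ⧸ (IsLocalRing.maximalIdeal A).map (algebraMap A (EGA4.CTensor k A B))) ≃+*
          ((A ⧸ IsLocalRing.maximalIdeal A) ⊗[k] B))) ∧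
      (∀ (M : Ideal (EGA4.CTensor k A B)) [M.IsMaximal], Module.Finite B (EGA4.CTensor k A B ⧸ M)) := by
  classical
  obtain ⟨N, f, hf⟩ := Submodule.fg_iff_exists_fin_generating_family.mp (IsNoetherian.noetherian (IsLocalRing.maximalIdeal A))
  obtain ⟨alg, hT, hloc, hfin, -⟩ := Groth.L06.CplKaehlerRank.exists_powerSeries_finite (k := k) f
    (fun i => hf.le (Submodule.subset_span ⟨i, rfl⟩)) 1 (by rw [pow_one]; exact hf.ge)
  obtain ⟨e, heA, heB⟩ : ∃ e : EGA4.CTensor k A B ≃+* Groth.L06.CTens.Mdl k B A N,
      (∀ a, e (algebraMap A (EGA4.CTensor k A B) a) = Groth.L06.CTens.jA a) ∧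
        ∀ b, e (algebraMap B (EGA4.CTensor k A B) b) = Groth.L06.CTens.jB k B A N b := by
    obtain ⟨e, h1, h2⟩ := Groth.L06.CTens.exists_equiv (k := k) (B := B) (A := A) (n := N)
    exact ⟨e, fun a => h1 a, fun b => h2 b⟩
  have hA : algebraMap A (EGA4.CTensor k A B) = e.symm.toRingHom.comp (Groth.L06.CTens.jA (k := k) (B := B) (n := N)) :=
    RingHom.ext fun a => (e.eq_symm_apply).mpr (heA a)
  have hB : algebraMap B (EGA4.CTensor k A B) = e.symm.toRingHom.comp (Groth.L06.CTens.jB k B A N) :=
    RingHom.ext fun b => (e.eq_symm_apply).mpr (heB b)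
  have hmap : ((IsLocalRing.maximalIdeal A).map (algebraMap A (EGA4.CTensor k A B))).map e.toRingHom =
      (IsLocalRing.maximalIdeal A).map (Groth.L06.CTens.jA (k := k) (B := B) (n := N)) := by
    rw [Ideal.map_map]
    exact congrArg (fun f => Ideal.map f (IsLocalRing.maximalIdeal A)) (RingHom.ext heA)
  refine ⟨⟨?_, ?_⟩, ⟨?_, ?_⟩, ⟨?_, ?_⟩, ?_⟩
  · haveI := Groth.L06.CTens.isNoetherianRing_model (k := k) (B := B) (A := A) (n := N)
    exact isNoetherianRing_of_ringEquiv _ e.symm
  · refine Set.Finite.of_finite_image (f := fun M : MaximalSpectrum (EGA4.CTensor k A B) =>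
      (⟨M.asIdeal.comap e.symm.toRingHom, (haveI := M.isMaximal; Ideal.comap_isMaximal_of_surjective _ e.symm.surjective)⟩ :
        MaximalSpectrum (Groth.L06.CTens.Mdl k B A N)))
      ((Groth.L06.CTens.finite_maximalSpectrum).subset (Set.subset_univ _)) fun a _ b _ hab => ?_
    exact MaximalSpectrum.ext (Ideal.comap_injective_of_surjective _ e.symm.surjective (congrArg MaximalSpectrum.asIdeal hab))
  · refine RingHom.flat_algebraMap_iff.mp ?_
    rw [hA]
    exact RingHom.Flat.comp Groth.L06.CTens.flat_jA (RingHom.Flat.of_bijective e.symm.bijective)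
  · refine RingHom.flat_algebraMap_iff.mp ?_
    rw [hB]
    exact RingHom.Flat.comp Groth.L06.CTens.flat_jB (RingHom.Flat.of_bijective e.symm.bijective)
  · refine le_sInf ?_
    rintro M ⟨-, hM⟩
    haveI := hM
    haveI : (M.comap e.symm.toRingHom).IsMaximal := Ideal.comap_isMaximal_of_surjective _ e.symm.surjective
    have h := (Groth.L06.CTens.map_maximalIdeal_le_jacobson (k := k) (B := B) (A := A) (n := N)).trans
      (sInf_le (a := M.comap e.symm.toRingHom) ⟨bot_le, inferInstance⟩)
    rw [← hmap, Ideal.map_le_iff_le_comap, Ideal.comap_comap] at h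
    intro z hz
    have h' := h hz
    rw [Ideal.mem_comap] at h'
    exact (e.symm_apply_apply z) ▸ h'
  · obtain ⟨e', -⟩ : ∃ e' : (A ⧸ IsLocalRing.maximalIdeal A) ⊗[k] B ≃+* _, _ :=
      Groth.L06.CTens.exists_quot_equiv (k := k) (B := B) (n := N) (IsLocalRing.maximalIdeal A) 1 (by
        rw [pow_one, Ideal.span_le]
        rintro _ ⟨i, rfl⟩
        exact Groth.L06.CTens.X_mem_maximalIdeal i)
    exact ⟨(Ideal.quotientEquiv _ _ e hmap.symm).trans e'.symm⟩
  · intro M hM
    haveI : (M.comap e.symm.toRingHom).IsMaximal := Ideal.comap_isMaximal_of_surjective _ e.symm.surjective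
    have h1 := Groth.L06.CTens.finite_residue (M.comap e.symm.toRingHom)
    refine RingHom.finite_algebraMap.mp ?_
    let g := Ideal.quotientEquiv (M.comap e.symm.toRingHom) M e.symm
      (Ideal.map_comap_of_surjective _ e.symm.surjective M).symm
    have h2 : algebraMap B (EGA4.CTensor k A B ⧸ M) =
        g.toRingHom.comp ((Ideal.Quotient.mk (M.comap e.symm.toRingHom)).comp (Groth.L06.CTens.jB k B A N)) :=
      RingHom.ext fun b => congrArg (Ideal.Quotient.mk M) (DFunLike.congr_fun hB b)
    rw [h2]
    exact RingHom.Finite.comp (RingHom.Finite.of_surjective _ g.surjective) h1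

end Groth.Agent.S4740
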