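import Groth.Statements.S4741
import Groth.Agent.L26.Weil.Main
import Mathlib.RingTheory.Ideal.GoingDown

set_option autoImplicit false
set_option maxSynthPendingDepth 3
set_option linter.style.haveILetI false
universe u
open EGA4

namespace Groth.Agent.S4741

open AlgebraicGeometry CategoryTheory in
/-- Suppose X and Y are locally Noetherian schemes, f : X → Y is a morphism that is surjective, and Z is
a closed subset of Y. Then codim(f⁻¹(Z), X) ≤ codim(Z, Y), where the codimension of a closed subset
means the infimum over its points of the dimensions of the local rings there; when f is in addition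
flat, these two codimensions coincide. (In the published version the equality part assumes f
quasi-flat; here f is taken to be flat.) -/
theorem result {X Y : Scheme.{u}} (f : X ⟶ Y) [IsLocallyNoetherian X]
    [IsLocallyNoetherian Y] (hf : Function.Surjective f.base) (Z : Set Y) (hZ : IsClosed Z) :
    (⨅ x ∈ f.base ⁻¹' Z, ringKrullDim (X.presheaf.stalk x)) ≤ ⨅ y ∈ Z, ringKrullDim (Y.presheaf.stalk y) ∧
      (Flat f → (⨅ x ∈ f.base ⁻¹' Z, ringKrullDim (X.presheaf.stalk x)) = ⨅ y ∈ Z, ringKrullDim (Y.presheaf.stalk y)) := by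
  have hle : ∀ y : Y, ∃ x : X, f.base x = y ∧ ringKrullDim (X.presheaf.stalk x) ≤ ringKrullDim (Y.presheaf.stalk y) := by
    intro y
    obtain ⟨x, rfl⟩ := hf y
    let A := Y.presheaf.stalk (f.base x)
    let B := X.presheaf.stalk x
    let φ := (f.stalkMap x).hom
    letI : Algebra A B := φ.toAlgebra
    haveI : IsLocalHom (algebraMap A B) := inferInstanceAs (IsLocalHom (f.stalkMap x).hom)
    obtain ⟨Q, hQ, -⟩ := Ideal.exists_minimalPrimes_le (IsLocalRing.map_maximalIdeal_le (algebraMap A B))
    haveI := hQ.1.1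
    have hQc : Q.comap (algebraMap A B) = IsLocalRing.maximalIdeal A :=
      ((IsLocalRing.maximalIdeal.isMaximal A).eq_of_le (Ideal.IsPrime.ne_top inferInstance)
        (Ideal.map_le_iff_le_comap.1 hQ.1.2)).symm
    haveI : Q.LiesOver (IsLocalRing.maximalIdeal A) := ⟨hQc.symm⟩
    let x' := (X.fromSpecStalk x).base (⟨Q, inferInstance⟩ : PrimeSpectrum B)
    have hx' : f.base x' = f.base x := by
      refine Eq.trans ?_ (Y.fromSpecStalk_closedPoint (x := f.base x))
      rw [← Scheme.Hom.comp_apply, ← Scheme.SpecMap_stalkMap_fromSpecStalk, Scheme.Hom.comp_apply]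
      exact congrArg _ (PrimeSpectrum.ext hQc)
    refine ⟨x', hx', (Groth.L26.Weil.ringKrullDim_stalk_fromSpecStalk_le x ⟨Q, inferInstance⟩).trans ?_⟩
    have h0 : (Q.map (Ideal.Quotient.mk ((IsLocalRing.maximalIdeal A).map (algebraMap A B)))).height ≤ 0 := by
      have hker : RingHom.ker (Ideal.Quotient.mk ((IsLocalRing.maximalIdeal A).map (algebraMap A B))) ≤ Q := by
        rw [Ideal.mk_ker]; exact hQ.1.2
      haveI := Ideal.map_isPrime_of_surjective Ideal.Quotient.mk_surjective hker
      refine Ideal.height_le_iff.2 fun P hP hlt => ?_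
      have e : (Q.map (Ideal.Quotient.mk ((IsLocalRing.maximalIdeal A).map (algebraMap A B)))).comap
          (Ideal.Quotient.mk ((IsLocalRing.maximalIdeal A).map (algebraMap A B))) = Q :=
        (Ideal.comap_map_quotientMk _ _).trans (sup_eq_right.2 hQ.1.2)
      have h1 := hQ.2 ⟨hP.comap (Ideal.Quotient.mk ((IsLocalRing.maximalIdeal A).map (algebraMap A B))),
          le_trans (le_of_eq Ideal.mk_ker.symm) (Ideal.ker_le_comap _)⟩ ((Ideal.comap_mono hlt.le).trans e.le)
      exfalso
      refine hlt.not_ge ?_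
      rw [Ideal.map_le_iff_le_comap]
      exact h1
    have h2 : Q.height ≤ (IsLocalRing.maximalIdeal A).height :=
      (Ideal.height_le_height_add_of_liesOver (IsLocalRing.maximalIdeal A) Q).trans
        ((add_le_add le_rfl h0).trans_eq (add_zero _))
    rw [← IsLocalRing.maximalIdeal_height_eq_ringKrullDim]
    exact WithBot.coe_le_coe.2 h2
  have hle' : (⨅ x ∈ f.base ⁻¹' Z, ringKrullDim (X.presheaf.stalk x)) ≤ ⨅ y ∈ Z, ringKrullDim (Y.presheaf.stalk y) := by
    refine le_iInf₂ fun y hy => ?_
    obtain ⟨x, hx, hdim⟩ := hle y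
    exact (iInf₂_le x (show f.base x ∈ Z by rw [hx]; exact hy)).trans hdim
  refine ⟨hle', fun hflat => le_antisymm hle' (le_iInf₂ fun x hx => (iInf₂_le (f.base x) hx).trans ?_)⟩
  let A := Y.presheaf.stalk (f.base x)
  let B := X.presheaf.stalk x
  letI : Algebra A B := (f.stalkMap x).hom.toAlgebra
  haveI : IsLocalHom (algebraMap A B) := inferInstanceAs (IsLocalHom (f.stalkMap x).hom)
  haveI : Module.Flat A B := RingHom.flat_algebraMap_iff.1 (Flat.stalkMap f x)
  haveI : Algebra.HasGoingDown A B := Algebra.HasGoingDown.of_flat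
  obtain ⟨l, hl1, hl2⟩ := (IsLocalRing.maximalIdeal A).exists_ltSeries_length_eq_height
  haveI : (IsLocalRing.maximalIdeal B).LiesOver l.last.asIdeal :=
    ⟨by rw [hl1]; exact (IsLocalRing.maximalIdeal_comap (algebraMap A B)).symm⟩
  obtain ⟨L, hL, -, -⟩ := Ideal.exists_ltSeries_of_hasGoingDown l (IsLocalRing.maximalIdeal B)
  have h3 : (L.length : WithBot ℕ∞) ≤ ringKrullDim B := Order.LTSeries.length_le_krullDim L
  rw [hL] at h3
  rw [← IsLocalRing.maximalIdeal_height_eq_ringKrullDim, ← hl2]
  exact h3

end Groth.Agent.S4741
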