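import Groth.Statements.S4742
import Groth.Agent.L06.SupportDim
import Groth.Agent.L10.FormCat.Basic

set_option autoImplicit false
set_option maxSynthPendingDepth 3
set_option linter.style.haveILetI false
universe u
open EGA4

namespace Groth.Agent.S4742

/-- Let A be a Noetherian local ring which is equidimensional and catenary, t an element of A belonging
to a system of parameters (dim A/tA + 1 = dim A), and Z a set of prime ideals of A stable under
specialization. Write X = Spec A, X₀ = V(t), X₁ = X ∖ X₀ and Z₀ = Z ∩ X₀, Z₁ = Z ∩ X₁. Then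
codim(Z₀, X₀) ≤ codim(Z, X) ≤ codim(Z₁, X₁), where each codimension is the infimum of the heights of
the primes concerned, heights for Z₀ being taken in A/tA. -/
theorem result (A : Type u) [CommRing A] [IsNoetherianRing A] [IsLocalRing A]
    (hA : EGA4.IsEquidim A) (hA' : CAlg.IsCatenary A) (t : A)
    (ht : ringKrullDim (A ⧸ Ideal.span {t}) + 1 = ringKrullDim A) (Z : Set (PrimeSpectrum A))
    (hZ : StableUnderSpecialization Z) :
    (⨅ p ∈ {p ∈ Z | t ∈ p.asIdeal}, (p.asIdeal.map (Ideal.Quotient.mk (Ideal.span {t}))).height) ≤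
        ⨅ p ∈ Z, p.asIdeal.height ∧
      (⨅ p ∈ Z, p.asIdeal.height) ≤ ⨅ p ∈ {p ∈ Z | t ∉ p.asIdeal}, p.asIdeal.height := by
  obtain ⟨n, hn⟩ := Groth.L01.exists_dim_eq_nat (R := A)
  haveI : Nontrivial (A ⧸ Ideal.span {t}) := by
    by_contra h
    rw [not_nontrivial_iff_subsingleton] at h
    rw [ringKrullDim_eq_bot_of_subsingleton, WithBot.bot_add, hn] at ht
    exact absurd ht (by simp)
  have htm : Ideal.span {t} ≤ IsLocalRing.maximalIdeal A :=
    IsLocalRing.le_maximalIdeal (Ideal.Quotient.nontrivial_iff.1 inferInstance)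
  obtain ⟨e, he⟩ := Groth.L06.SupportDim.exists_dim_eq_natCast (I := Ideal.span {t})
    (Ideal.Quotient.nontrivial_iff.1 inferInstance)
  have hen : e + 1 = n := by rw [he, hn] at ht; exact_mod_cast ht
  refine ⟨le_iInf₂ fun p hp => ?_, le_iInf₂ fun p hp => iInf₂_le p hp.1⟩
  obtain ⟨d, hd⟩ := Groth.L06.SupportDim.exists_dim_eq_natCast (I := p.asIdeal ⊔ Ideal.span {t})
    (ne_top_of_le_ne_top (IsLocalRing.maximalIdeal.isMaximal A).ne_top
      (sup_le (IsLocalRing.le_maximalIdeal p.isPrime.ne_top) htm))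
  obtain ⟨l, hl⟩ := Order.le_krullDim_iff.1 (ringKrullDim_quotient (p.asIdeal ⊔ Ideal.span {t}) ▸ hd.ge)
  let q := l.head.1
  have hq : p.asIdeal ⊔ Ideal.span {t} ≤ q.asIdeal := l.head.2
  have hdim : ringKrullDim (A ⧸ q.asIdeal) = d := by
    refine le_antisymm (hd ▸ Groth.L06.SupportDim.ringKrullDim_quotient_anti hq) ?_
    rw [← hl]
    exact Groth.L06.SupportDim.chain_head_le l
  have htq : t ∈ q.asIdeal := hq (Ideal.mem_sup_right (Ideal.mem_span_singleton_self t))
  have hqZ : q ∈ Z := hZ ((PrimeSpectrum.le_iff_specializes p q).1 (le_sup_left.trans hq)) hp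
  refine (iInf₂_le q ⟨hqZ, htq⟩).trans ?_
  have hpd : Groth.L10.FormCat.qd p ≤ d + 1 := by
    have h := Groth.L06.SupportDim.le_sup_span_add_one p.asIdeal (x := t)
      (by rw [IsLocalRing.ringJacobson_eq_maximalIdeal]; exact htm (Ideal.mem_span_singleton_self t))
    rw [hd, Groth.L10.FormCat.dim_quot p] at h
    exact_mod_cast h
  have hker : Ideal.span {t} ≤ q.asIdeal := le_sup_right.trans hq
  let B := A ⧸ Ideal.span {t}
  let q' := q.asIdeal.map (Ideal.Quotient.mk (Ideal.span {t}))
  haveI : q'.IsPrime := Ideal.map_isPrime_of_surjective Ideal.Quotient.mk_surjective (by rwa [Ideal.mk_ker])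
  have h2 : (q'.height : WithBot ℕ∞) + ringKrullDim (B ⧸ q') ≤ ringKrullDim B := by
    let P : PrimeSpectrum B := ⟨q', inferInstance⟩
    have hco : ringKrullDim (B ⧸ q') = Order.coheight P := by
      rw [Order.coheight_eq_krullDim_Ici, ringKrullDim_quotient]
      congr 1
    rw [hco, show q' = P.asIdeal from rfl, PrimeSpectrum.height_eq_orderHeight P, ← WithBot.coe_add]
    rw [ringKrullDim, Order.krullDim_eq_iSup_height_add_coheight_of_nonempty, WithBot.coe_le_coe]
    exact le_iSup (fun a : PrimeSpectrum B => Order.height a + Order.coheight a) P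
  rw [ringKrullDim_eq_of_ringEquiv (DoubleQuot.quotQuotEquivQuotOfLE hker), hdim,
    show ringKrullDim B = e from he] at h2
  obtain ⟨a, ha⟩ := ENat.ne_top_iff_exists.1 (Ideal.height_ne_top (I := q') ‹q'.IsPrime›.ne_top)
  obtain ⟨b, hb⟩ := ENat.ne_top_iff_exists.1 (Ideal.height_ne_top (I := p.asIdeal) p.isPrime.ne_top)
  have h3 := Groth.L10.FormCat.height_add hA' hA hn p
  rw [← hb] at h3
  rw [← ha] at h2
  show q'.height ≤ p.asIdeal.height
  rw [← ha, ← hb]
  have h2' : a + d ≤ e := by exact_mod_cast h2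
  have h3' : b + Groth.L10.FormCat.qd p = n := by exact_mod_cast h3
  exact_mod_cast (show a ≤ b by omega)

end Groth.Agent.S4742
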