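import Groth.Statements.S4743
import Groth.Agent.L06.FiniteDomains

set_option autoImplicit false
set_option linter.style.haveILetI false
set_option maxSynthPendingDepth 3
universe u
open EGA4

namespace Groth.Agent.S4743

open TensorProduct in
/-- For the property 'geometrically reduced', case of a local ring: let A be a Noetherian local ring
with completion Â. Then the formal fibres of A are geometrically reduced if and only if, for every
finite A-algebra B which is a domain and every prime ideal q of B ⊗_A Â whose contraction to B is
zero, the local ring of B ⊗_A Â at q is reduced. (The published statement is for semi-local rings;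
this row takes A local.) -/
theorem result (A : Type u) [CommRing A] [IsNoetherianRing A]
    [IsLocalRing A] :
    EGA4.HasGeomReducedFormalFibres A ↔
      ∀ (B : Type u) [CommRing B] [IsDomain B] [Algebra A B] [Module.Finite A B]
        (q : Ideal (B ⊗[A] EGA4.Cpl A)) [q.IsPrime],
        q.comap (algebraMap B (B ⊗[A] EGA4.Cpl A)) = ⊥ → IsReduced (Localization.AtPrime q) := by
  haveI : IsNoetherianRing (EGA4.Cpl A) := Groth.Agent.S0543.result A _
  refine Iff.trans ?_ (Groth.L06.FiniteDomains.fibres_iff_finite_domains Groth.L06.PropLoc.good_red (A := A) (C := EGA4.Cpl A))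
  refine ⟨fun h p _ K _ _ hK => ?_, fun h p _ => ?_⟩
  · haveI := hK
    haveI : Algebra.IsAlgebraic p.ResidueField K := Algebra.IsAlgebraic.of_finite _ _
    haveI := h p
    exact Groth.L06.PropLoc.loc_red_iff.mpr inferInstance
  · exact Groth.L06.GeomLocal.isGeometricallyReduced_of_finite _ fun K _ _ hK => Groth.L06.PropLoc.loc_red_iff.mp (h p K hK)

end Groth.Agent.S4743
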