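import Groth.Statements.S4744
import Groth.Agent.L06.FormalFibres
import Groth.Agent.S4750

set_option autoImplicit false
set_option linter.style.haveILetI false
universe u
open EGA4

namespace Groth.Agent.S4744

/-- Let A → A' be a flat local homomorphism of Noetherian local rings all of whose fibre rings k(p) ⊗_A
A' are Cohen–Macaulay. If the completion map of A' is regular (the formal fibres of A' are
geometrically regular), then the formal fibres of A are Cohen–Macaulay. -/
theorem result (A A' : Type u) [CommRing A] [CommRing A'] [IsNoetherianRing A]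
    [IsNoetherianRing A'] [IsLocalRing A] [IsLocalRing A'] [Algebra A A'] [IsLocalHom (algebraMap A A')]
    [Module.Flat A A'] (hf : ∀ (p : Ideal A) [p.IsPrime], LocCoh.IsCohenMacaulayRing (p.Fiber A'))
    (hA' : CAlg.IsRegularHom A' (EGA4.Cpl A')) : EGA4.HasCMFormalFibres A := by
  open TensorProduct in
  obtain ⟨iC, hT, hff⟩ := Groth.L06.FormalFibres.exists_cpl_algebra A A'
  haveI : IsNoetherianRing (EGA4.Cpl A) := Groth.Agent.S0543.result A _
  haveI : IsNoetherianRing (EGA4.Cpl A') := Groth.Agent.S0543.result A' _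
  haveI : IsScalarTower A A' (EGA4.Cpl A') := IsScalarTower.of_algebraMap_eq fun a => rfl
  haveI := hA'.1
  intro p _
  haveI : IsNoetherianRing (p.Fiber (EGA4.Cpl A)) := Groth.Agent.S4750.noeth p
  haveI := hA'.1
  refine Groth.L06.FormalFibres.cm_iff_forall_hasSk.mpr fun n => ?_
  obtain ⟨_, hcomp⟩ := Groth.Agent.S4750.result n A A' (EGA4.Cpl A')
    (fun p _ => by
      haveI : IsNoetherianRing (p.Fiber A') := Groth.Agent.S4750.noeth p
      exact Groth.L06.FormalFibres.cm_iff_forall_hasSk.mp (hf p) n)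
    fun q _ => by
      haveI : IsNoetherianRing (q.Fiber (EGA4.Cpl A')) := Groth.Agent.S4750.noeth q
      haveI := (hA'.2 q).2 q.ResidueField inferInstance
      haveI : IsRegularRing (q.Fiber (EGA4.Cpl A')) :=
        IsRegularRing.of_ringEquiv (R := q.ResidueField ⊗[q.ResidueField] q.Fiber (EGA4.Cpl A')) (Algebra.TensorProduct.lid q.ResidueField (q.Fiber (EGA4.Cpl A'))).toRingEquiv
      refine Groth.L06.FormalFibres.cm_iff_forall_hasSk.mp ?_ n
      refine { isCohenMacaulayLocalRing_localization := fun P _ => ?_ }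
      haveI : IsRegularLocalRing (Localization.AtPrime P) := IsRegularRing.isRegularLocalRing_localization P
      exact Groth.L04.isCohenMacaulayLocalRing_of_regular _
  haveI : IsNoetherianRing (p.Fiber (EGA4.Cpl A')) := Groth.Agent.S4750.noeth p
  haveI : IsNoetherianRing (EGA4.Cpl A ⊗[A] p.ResidueField) := Groth.L06.FibreComp.isNoetherianRing_baseChange p p.ResidueField
  let e : p.Fiber (EGA4.Cpl A') ≃+* (EGA4.Cpl A ⊗[A] p.ResidueField) ⊗[EGA4.Cpl A] EGA4.Cpl A' :=
    ((Algebra.TensorProduct.lid p.ResidueField (p.Fiber (EGA4.Cpl A'))).toRingEquiv.symm).trans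
      (Groth.L06.FibreComp.fibreEquiv p p.ResidueField)
  haveI : IsNoetherianRing ((EGA4.Cpl A ⊗[A] p.ResidueField) ⊗[EGA4.Cpl A] EGA4.Cpl A') := isNoetherianRing_of_ringEquiv _ e
  exact Groth.L06.FibreComp.hasSk_of_ringEquiv (Algebra.TensorProduct.comm A (EGA4.Cpl A) p.ResidueField).toRingEquiv n
    (Groth.L06.FlatFibre.hasSk_base_of_faithfullyFlat (S := (EGA4.Cpl A ⊗[A] p.ResidueField) ⊗[EGA4.Cpl A] EGA4.Cpl A') n
      (Groth.L06.FibreComp.hasSk_of_ringEquiv e n (hcomp p)))

end Groth.Agent.S4744
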