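import Groth.Statements.S4746
import Groth.Agent.L06.GeomLocalApp

set_option autoImplicit false
set_option linter.style.haveILetI false
set_option maxSynthPendingDepth 3
universe u
open EGA4

namespace Groth.Agent.S4746

/-- For the property 'reduced': let A → B be a local homomorphism of Noetherian local rings making B a
flat A-module, such that the residue field of B is a finite extension of the residue field k of A,
and such that the formal fibres of A are geometrically reduced. If the k-algebra k ⊗_A B̂, where B̂
is the completion of B, is geometrically reduced over k, then every fibre k(p) ⊗_A B of A → B is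
geometrically reduced over k(p). -/
theorem result (A B : Type u) [CommRing A] [CommRing B]
    [IsNoetherianRing A] [IsNoetherianRing B] [IsLocalRing A] [IsLocalRing B] [Algebra A B]
    [IsLocalHom (algebraMap A B)] [Module.Flat A B]
    [Module.Finite (IsLocalRing.ResidueField A) (IsLocalRing.ResidueField B)]
    (hA : EGA4.HasGeomReducedFormalFibres A)
    (h : Algebra.IsGeometricallyReduced (IsLocalRing.maximalIdeal A).ResidueField
      ((IsLocalRing.maximalIdeal A).Fiber (EGA4.Cpl B))) :
    ∀ (p : Ideal A) [p.IsPrime], Algebra.IsGeometricallyReduced p.ResidueField (p.Fiber B) := by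
  intro p _
  refine Groth.L06.GeomLocal.isGeometricallyReduced_of_finite _ fun K _ _ hK => Groth.L06.PropLoc.loc_red_iff.mp
    (Groth.L06.GeomLocal.general Groth.L06.PropLoc.good_red (fun q _ L _ _ hL => ?_) (fun k' _ _ hk' => ?_) p K hK)
  · haveI := hL
    haveI : Algebra.IsAlgebraic q.ResidueField L := Algebra.IsAlgebraic.of_finite _ _
    haveI := hA q
    exact Groth.L06.PropLoc.loc_red_iff.mpr inferInstance
  · haveI := hk'
    haveI : Algebra.IsAlgebraic (IsLocalRing.maximalIdeal A).ResidueField k' := Algebra.IsAlgebraic.of_finite _ _
    haveI := h
    exact Groth.L06.PropLoc.loc_red_iff.mpr inferInstance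

end Groth.Agent.S4746
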