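import Groth.Statements.S4748
import Groth.Agent.L06.NormalTensorApps

set_option autoImplicit false
set_option maxSynthPendingDepth 3
set_option linter.style.haveILetI false
universe u
open EGA4

namespace Groth.Agent.S4748

open TensorProduct in
/-- For the property 'normal' (affine form): let k be a field, S a Noetherian k-algebra and k' an
extension field of k such that S is of finite type over k or k' is essentially of finite type over
k; let q' be a prime of S ⊗_k k' and q its contraction to S. If (S ⊗_k k')_{q'} is an integrally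
closed domain then so is S_q; conversely, if k' is separable over k (geometrically reduced) and S_q
is an integrally closed domain, then so is (S ⊗_k k')_{q'}. -/
theorem result (k S k' : Type u) [Field k] [CommRing S] [Algebra k S]
    [IsNoetherianRing S] [Field k'] [Algebra k k'] (hft : Algebra.FiniteType k S ∨ Algebra.EssFiniteType k k')
    [IsNoetherianRing (S ⊗[k] k')] (q' : Ideal (S ⊗[k] k')) [q'.IsPrime] :
    ((IsDomain (Localization.AtPrime q') ∧ IsIntegrallyClosed (Localization.AtPrime q')) →
        (IsDomain (Localization.AtPrime (q'.comap (algebraMap S (S ⊗[k] k')))) ∧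
          IsIntegrallyClosed (Localization.AtPrime (q'.comap (algebraMap S (S ⊗[k] k')))))) ∧
      (Algebra.IsGeometricallyReduced k k' →
        (IsDomain (Localization.AtPrime (q'.comap (algebraMap S (S ⊗[k] k')))) ∧
          IsIntegrallyClosed (Localization.AtPrime (q'.comap (algebraMap S (S ⊗[k] k'))))) →
          (IsDomain (Localization.AtPrime q') ∧ IsIntegrallyClosed (Localization.AtPrime q'))) := by
  constructor
  · rintro ⟨hd, hc⟩
    haveI := hd
    haveI := hc
    let q := q'.comap (algebraMap S (S ⊗[k] k'))
    let g := Localization.localRingHom q q' (algebraMap S (S ⊗[k] k')) rfl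
    letI := g.toAlgebra
    haveI : Module.Flat (Localization.AtPrime q) (Localization.AtPrime q') :=
      RingHom.Flat.localRingHom (RingHom.flat_algebraMap_iff.mpr inferInstance) q' q rfl
    haveI : IsLocalHom (algebraMap (Localization.AtPrime q) (Localization.AtPrime q')) :=
      Localization.isLocalHom_localRingHom _ _ _ _
    haveI : Module.FaithfullyFlat (Localization.AtPrime q) (Localization.AtPrime q') :=
      Module.FaithfullyFlat.of_flat_of_isLocalHom
    exact Groth.L06.NormalAscent.isIntegrallyClosed_of_faithfullyFlat (Localization.AtPrime q) (Localization.AtPrime q')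
  · rintro hgr ⟨hd, hc⟩
    haveI := hgr
    let q := q'.comap (algebraMap S (S ⊗[k] k'))
    let Sq := Localization.AtPrime q
    haveI : IsDomain Sq := hd
    haveI : IsIntegrallyClosed Sq := hc
    let TP := Localization.AtPrime q'
    let iS : S →ₐ[k] TP := (IsScalarTower.toAlgHom k (S ⊗[k] k') TP).comp Algebra.TensorProduct.includeLeft
    let iK : k' →ₐ[k] TP := (IsScalarTower.toAlgHom k (S ⊗[k] k') TP).comp Algebra.TensorProduct.includeRight
    have hunit : ∀ u : q.primeCompl, IsUnit (iS u) := fun u => IsLocalization.map_units TP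
      (⟨algebraMap S (S ⊗[k] k') u, fun hu => u.2 hu⟩ : q'.primeCompl)
    let lS : Sq →ₐ[k] TP := IsLocalization.liftAlgHom (M := q.primeCompl) (S := Sq) hunit
    let θ := Algebra.TensorProduct.productMap lS iK
    let ψ := Algebra.TensorProduct.map (IsScalarTower.toAlgHom k S Sq) (AlgHom.id k k')
    refine Groth.L06.NormalTensor.normal_atPrime_of_map q' ψ.toRingHom θ.toRingHom (fun s => ?_) (fun t => ?_) ?_
    · induction s using TensorProduct.induction_on with
      | zero => simp
      | add a b ha hb => rw [map_add, map_add, map_add, ha, hb]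
      | tmul a b =>
        show θ (algebraMap S Sq a ⊗ₜ b) = _
        rw [Algebra.TensorProduct.productMap_apply_tmul, IsLocalization.liftAlgHom_apply, IsLocalization.lift_eq]
        show algebraMap (S ⊗[k] k') TP (a ⊗ₜ[k] (1 : k')) * algebraMap (S ⊗[k] k') TP ((1 : S) ⊗ₜ[k] b) = _
        rw [← map_mul, Algebra.TensorProduct.tmul_mul_tmul, mul_one, one_mul]
    · suffices key : ∃ u : q.primeCompl, ∃ s, algebraMap S Sq u ⊗ₜ[k] (1 : k') * t = ψ s by
        obtain ⟨u, s, hs⟩ := key
        exact ⟨algebraMap S (S ⊗[k] k') u, fun hu => u.2 hu, s, hs⟩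
      induction t using TensorProduct.induction_on with
      | zero => exact ⟨1, 0, by rw [mul_zero, map_zero]⟩
      | tmul x b =>
        obtain ⟨a, s, rfl⟩ := IsLocalization.exists_mk'_eq q.primeCompl x
        exact ⟨s, a ⊗ₜ b, by rw [Algebra.TensorProduct.tmul_mul_tmul, one_mul, IsLocalization.mk'_spec']; rfl⟩
      | add x y hx hy =>
        obtain ⟨u, s, hs⟩ := hx
        obtain ⟨v, r, hr⟩ := hy
        refine ⟨u * v, ((v : S) ⊗ₜ (1 : k')) * s + ((u : S) ⊗ₜ (1 : k')) * r, ?_⟩
        have e : ∀ w : S, ψ (w ⊗ₜ (1 : k')) = algebraMap S Sq w ⊗ₜ (1 : k') := fun w => rfl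
        rw [map_add, map_mul, map_mul, ← hs, ← hr, e, e, Submonoid.coe_mul, map_mul,
          show (algebraMap S Sq u * algebraMap S Sq v) ⊗ₜ[k] (1 : k') = (algebraMap S Sq u ⊗ₜ[k] (1 : k')) * (algebraMap S Sq v ⊗ₜ[k] 1) by
            rw [Algebra.TensorProduct.tmul_mul_tmul, mul_one]]
        ring
    · exact Groth.L06.NormalAscent.isNormalRing_of_ringEquiv (Algebra.TensorProduct.comm k k' Sq).toRingEquiv
        (Groth.L06.NormalTensor.isNormalRing_field_tensor Groth.L06.NormalTensor.isGeomNormal_of_geometricallyReduced Sq
          Groth.L06.NormalTensor.normalRing_of_domain)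

end Groth.Agent.S4748
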