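import Groth.Statements.S4753
import Groth.Agent.L06.FibreComp

set_option autoImplicit false
set_option linter.style.haveILetI false
universe u
open EGA4

namespace Groth.Agent.S4753

/-- Case of reduced morphisms, affine form: let A → B → C be homomorphisms of Noetherian rings such that
B → C is faithfully flat with geometrically reduced fibres and the composite A → C is flat with
geometrically reduced fibres. Then A → B is flat with geometrically reduced fibres. -/
theorem result (A B C : Type u) [CommRing A] [CommRing B] [CommRing C]
    [IsNoetherianRing A] [IsNoetherianRing B] [IsNoetherianRing C] [Algebra A B] [Algebra B C] [Algebra A C]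
    [IsScalarTower A B C] [Module.FaithfullyFlat B C] [Module.Flat A C]
    (hBC : ∀ (q : Ideal B) [q.IsPrime], Algebra.IsGeometricallyReduced q.ResidueField (q.Fiber C))
    (hAC : ∀ (p : Ideal A) [p.IsPrime], Algebra.IsGeometricallyReduced p.ResidueField (p.Fiber C)) :
    Module.Flat A B ∧ ∀ (p : Ideal A) [p.IsPrime], Algebra.IsGeometricallyReduced p.ResidueField (p.Fiber B) := by
  open TensorProduct in
  refine ⟨Groth.L06.FibreComp.flat_of_comp A B C, fun p _ => ?_⟩
  haveI := hAC p
  let R' := B ⊗[A] p.ResidueField
  let f : p.Fiber B →ₐ[p.ResidueField] p.Fiber C := Algebra.TensorProduct.map (AlgHom.id p.ResidueField p.ResidueField) (IsScalarTower.toAlgHom A B C)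
  refine Algebra.IsGeometricallyReduced.of_injective f ?_
  haveI := Groth.L06.FibreComp.flat_of_comp A B C
  have h1 : Function.Injective (algebraMap R' (R' ⊗[B] C)) := FaithfulSMul.algebraMap_injective _ _
  let e := ((Algebra.TensorProduct.lid p.ResidueField (p.Fiber C)).toRingEquiv.symm).trans
      (Groth.L06.FibreComp.fibreEquiv (B := B) (C := C) p p.ResidueField)
  have key : ∀ z, e (f z) = algebraMap R' (R' ⊗[B] C) (Algebra.TensorProduct.comm A p.ResidueField B z) := by
    intro z
    induction z using TensorProduct.induction_on with
    | zero => simp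
    | tmul a b =>
      show e (a ⊗ₜ[A] algebraMap B C b) = (b ⊗ₜ[A] a) ⊗ₜ[B] (1 : C)
      simp [e, Groth.L06.FibreComp.fibreEquiv, Algebra.TensorProduct.cancelBaseChange, TensorProduct.smul_tmul', Algebra.algebraMap_eq_smul_one]
      all_goals
        rw [← TensorProduct.smul_tmul', map_smul]
        rw [map_smul]
        show b • (Algebra.TensorProduct.comm B C (B ⊗[A] p.ResidueField))
          ((AlgebraTensorModule.cancelBaseChange A B B C p.ResidueField).symm ((1 : C) ⊗ₜ[A] a)) = _
        rw [TensorProduct.AlgebraTensorModule.cancelBaseChange_symm_tmul, Algebra.TensorProduct.comm_tmul]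
        simp [TensorProduct.smul_tmul']
    | add x y hx hy => simp only [map_add, hx, hy]
  intro x y hxy
  exact (Algebra.TensorProduct.comm A p.ResidueField B).injective (h1 (by rw [← key, ← key, hxy]))

end Groth.Agent.S4753
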