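import Groth.Statements.S4756
import Groth.Agent.L06.NormalTensorApps

set_option autoImplicit false
set_option maxSynthPendingDepth 3
set_option linter.style.haveILetI false
universe u
open EGA4 TensorProduct

namespace Groth.Agent.S4756

/-- Let A → B be a normal homomorphism of Noetherian rings (flat, with geometrically normal fibres) and
S a multiplicative subset of A. Then the induced homomorphism S⁻¹A → S⁻¹B (arbitrary localizations
at S and at its image) is normal. -/
theorem result (A B : Type u) [CommRing A] [CommRing B] [IsNoetherianRing A] [IsNoetherianRing B]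
    [Algebra A B] (h : EGA4.IsNormalHom A B) (S : Submonoid A)
    (A' B' : Type u) [CommRing A'] [CommRing B'] [Algebra A A'] [Algebra B B'] [Algebra A' B'] [Algebra A B']
    [IsScalarTower A A' B'] [IsScalarTower A B B'] [IsLocalization S A']
    [IsLocalization (Algebra.algebraMapSubmonoid B S) B'] :
    EGA4.IsNormalHom A' B' := by
  haveI : Algebra.IsPushout A A' B B' := by first | exact Algebra.isPushout_of_isLocalization S A' B B' | exact (Algebra.isPushout_of_isLocalization S A' B B').symm
  let e : A' ⊗[A] B ≃ₐ[A'] B' := Algebra.IsPushout.equiv A A' B B'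
  obtain ⟨hflat, hfib⟩ := Groth.L06.NormalTensor.isNormalHom_baseChange h A'
  haveI := hflat
  refine ⟨Module.Flat.of_linearEquiv e.symm.toLinearEquiv, fun p _ k' _ _ hk => ?_⟩
  let e2 : p.Fiber (A' ⊗[A] B) ≃ₐ[p.ResidueField] p.Fiber B' := Algebra.TensorProduct.congr AlgEquiv.refl e
  exact Groth.L06.NormalAscent.isNormalRing_of_ringEquiv
    (Algebra.TensorProduct.congr (AlgEquiv.refl : k' ≃ₐ[k'] k') e2).toRingEquiv (hfib p k' hk)

end Groth.Agent.S4756
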