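import Groth.Statements.S4758
import Groth.Agent.L19.Limit.BaseChange

set_option autoImplicit false
set_option backward.isDefEq.respectTransparency.types false
universe u
open CategoryTheory AlgebraicGeometry
open Lim8

namespace Groth.Agent.S4758

/-- Let S = lim S_i be a cofiltered limit of schemes with affine transition maps and let i be an index.
The canonical projection S ⟶ S_i is surjective if and only if every transition map S_j ⟶ S_i is
surjective. -/
theorem result {I : Type u} [SmallCategory I] [IsCofiltered I]
    (D : I ⥤ Scheme.{u}) (c : Limits.Cone D) (hc : Limits.IsLimit c)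
    [∀ (i j : I) (f : i ⟶ j), IsAffineHom (D.map f)] (i : I) :
    Surjective (c.π.app i) ↔ ∀ (j : I) (φ : j ⟶ i), Surjective (D.map φ) := by
  refine ⟨fun h j φ => ?_, fun h => ⟨?_⟩⟩
  · have : Surjective (c.π.app j ≫ D.map φ) := by rw [c.w]; exact h
    exact Surjective.of_comp (c.π.app j) (D.map φ)
  · rw [← Set.range_eq_univ, Groth.L19.Limit.range_π_app hc i]
    simp only [Set.iInter_eq_univ]
    exact fun j φ => Set.range_eq_univ.mpr (h j φ).surj

end Groth.Agent.S4758
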