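import Groth.Statements.S4763
import Groth.Agent.L19.Limit.BaseChange

set_option autoImplicit false
set_option backward.isDefEq.respectTransparency.types false
universe u
open CategoryTheory AlgebraicGeometry
open Lim8

namespace Groth.Agent.S4763

open Limits

/-- Let S = lim S_i be a cofiltered limit of schemes with affine transition maps and let i be an index.
The canonical projection S ⟶ S_i is dominant if and only if every transition map S_j ⟶ S_i is
dominant. -/
theorem result {I : Type u} [SmallCategory I] [IsCofiltered I]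
    (D : I ⥤ Scheme.{u}) (c : Limits.Cone D) (hc : Limits.IsLimit c)
    [∀ (i j : I) (f : i ⟶ j), IsAffineHom (D.map f)] (i : I) :
    IsDominant (c.π.app i) ↔ ∀ (j : I) (φ : j ⟶ i), IsDominant (D.map φ) := by
  refine ⟨fun h j φ => ?_, fun h => ⟨?_⟩⟩
  · have : IsDominant (c.π.app j ≫ D.map φ) := by rw [c.w]; exact h
    exact IsDominant.of_comp (c.π.app j) (D.map φ)
  · rw [DenseRange, dense_iff_inter_open]
    rintro W hW ⟨x, hx⟩
    obtain ⟨_, ⟨(V : (D.obj i).Opens), hV, rfl⟩, hxV, hVW⟩ :=
      (D.obj i).isBasis_affineOpens.exists_subset_of_mem_open hx hW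
    haveI : IsAffine (V : Scheme.{u}) := hV
    obtain ⟨z⟩ := Groth.L19.Limit.nonempty_pullback (g := Scheme.Opens.ι V) hc fun j φ => by
      obtain ⟨_, hy, y, rfl⟩ := (h j φ).denseRange.inter_open_nonempty (V : Set _) V.2 ⟨x, hxV⟩
      obtain ⟨z, -⟩ := Scheme.Pullback.exists_preimage_pullback (f := D.map φ) (g := Scheme.Opens.ι V) y (⟨_, hy⟩ : (V : Scheme.{u})) rfl
      exact ⟨z⟩
    refine ⟨c.π.app i (pullback.fst (c.π.app i) (Scheme.Opens.ι V) z), hVW ?_, ⟨_, rfl⟩⟩
    rw [← Scheme.Hom.comp_apply, pullback.condition, Scheme.Hom.comp_apply]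
    exact (pullback.snd (c.π.app i) (Scheme.Opens.ι V) z).2

end Groth.Agent.S4763
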