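import Groth.Statements.S4766
import Groth.Agent.L19.Limit.Topo

set_option autoImplicit false
set_option backward.isDefEq.respectTransparency.types false
universe u
open CategoryTheory AlgebraicGeometry
open Lim8

namespace Groth.Agent.S4766

/-- Let S = lim S_i be a cofiltered limit of schemes with affine transition maps and let i be an index
such that the projection S ⟶ S_j is surjective for every j over i. Then the projection S ⟶ S_i is
universally open if and only if every transition map S_j ⟶ S_i is universally open. This is the case
of universally open morphisms. -/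
theorem result {I : Type u} [SmallCategory I] [IsCofiltered I]
    (D : I ⥤ Scheme.{u}) (c : Limits.Cone D) (hc : Limits.IsLimit c)
    [∀ (i j : I) (f : i ⟶ j), IsAffineHom (D.map f)] (i : I)
    (hs : ∀ (j : I) (φ : j ⟶ i), Surjective (c.π.app j)) :
    UniversallyOpen (c.π.app i) ↔ ∀ (j : I) (φ : j ⟶ i), UniversallyOpen (D.map φ) := by
  refine ⟨fun h j φ => ⟨fun X' Y' i₁ i₂ f' H => ?_⟩, fun h => ⟨MorphismProperty.universally_mk' _ _ fun {T} g _ => ?_⟩⟩
  · let t := Limits.pullback.snd (c.π.app j) i₁
    have hp : IsPullback (Limits.pullback.fst (c.π.app j) i₁) t (c.π.app j) i₁ := IsPullback.of_hasPullback _ _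
    have hpaste : IsPullback (t ≫ f') (Limits.pullback.fst (c.π.app j) i₁) i₂ (c.π.app j ≫ D.map φ) :=
      hp.flip.paste_horiz H
    haveI := hs j φ
    haveI : Surjective t := MorphismProperty.of_isPullback (P := @Surjective) hp inferInstance
    have hu : UniversallyOpen (c.π.app j ≫ D.map φ) := by rw [c.w]; exact h
    have ho : IsOpenMap (t ≫ f') := hu.universally_isOpenMap _ _ _ hpaste
    intro V hV
    have : f' '' V = (t ≫ f') '' (t ⁻¹' V) := by
      rw [Scheme.Hom.comp_base]
      change _ = (f' ∘ t) '' _
      rw [Set.image_comp, Set.image_preimage_eq _ t.surjective]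
    rw [this]
    exact ho _ (hV.preimage t.continuous)
  · haveI : ∀ j : Over i, Surjective ((Groth.L19.Limit.bcCone D c g).π.app j) := fun j =>
      MorphismProperty.of_isPullback (P := @Surjective)
        (Groth.L19.Limit.isPullback_bcCone D c g j).flip (hs j.left j.hom)
    have hop := Groth.L19.Limit.isOpenMap_π (Groth.L19.Limit.isLimitBcCone g hc) (Over.mk (𝟙 i))
      (fun j _ => ((Groth.L19.Limit.bcCone D c g).π.app j).surjective) (fun j a => by
        haveI := h j.left j.hom
        have e : (Groth.L19.Limit.bcDiagram D g).map a ≫ Limits.pullback.snd (D.map (𝟙 i)) g =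
            Limits.pullback.snd (D.map j.hom) g := by
          simp only [Groth.L19.Limit.bcDiagram]
          exact (Limits.pullback.lift_snd ..).trans (Category.comp_id _)
        have ho : UniversallyOpen (Limits.pullback.snd (D.map j.hom) g) :=
          MorphismProperty.pullback_snd (P := @UniversallyOpen) _ _ inferInstance
        rw [← e] at ho
        haveI : IsIso (Limits.pullback.snd (D.map (𝟙 i)) g) := by rw [D.map_id]; infer_instance
        haveI : IsIso (C := Scheme.{u}) (X := (Groth.L19.Limit.bcDiagram D g).obj (Over.mk (𝟙 i))) (Limits.pullback.snd (D.map (𝟙 i)) g) := this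
        haveI := (MorphismProperty.cancel_right_of_respectsIso @UniversallyOpen ((Groth.L19.Limit.bcDiagram D g).map a) (Limits.pullback.snd (D.map (𝟙 i)) g)).mp ho
        exact Scheme.Hom.isOpenMap _)
    have e : (Groth.L19.Limit.bcCone D c g).π.app (Over.mk (𝟙 i)) ≫ Limits.pullback.snd (D.map (𝟙 i)) g =
        Limits.pullback.snd (c.π.app i) g := by
      simp only [Groth.L19.Limit.bcCone]
      exact (Limits.pullback.lift_snd ..).trans (Category.comp_id _)
    haveI : IsIso (Limits.pullback.snd (D.map (𝟙 i)) g) := by rw [D.map_id]; infer_instance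
    have ho : IsOpenMap (Limits.pullback.snd (c.π.app i) g) := by
      rw [← e, Scheme.Hom.comp_base]
      exact (Limits.pullback.snd (D.map (𝟙 i)) g).homeomorph.isOpenMap.comp hop
    show IsOpenMap (Limits.pullback.fst g (c.π.app i))
    rw [← Limits.pullbackSymmetry_hom_comp_snd g (c.π.app i), Scheme.Hom.comp_base]
    exact ho.comp (Limits.pullbackSymmetry g (c.π.app i)).hom.homeomorph.isOpenMap

end Groth.Agent.S4766
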