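import Groth.Statements.S4772
import Groth.Agent.L19.Limit.Topo

set_option autoImplicit false
set_option backward.isDefEq.respectTransparency.types false
universe u
open CategoryTheory AlgebraicGeometry
open Lim8

namespace Groth.Agent.S4772

/-- Let S = lim S_i be a cofiltered limit of schemes whose transition maps are affine and dominant, some
stage S_{i₀} being quasi-compact. Then S is connected (in particular nonempty) if and only if there
is an index i over i₀ such that S_j is connected for every j over i. -/
theorem result {I : Type u} [SmallCategory I] [IsCofiltered I]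
    (D : I ⥤ Scheme.{u}) (c : Limits.Cone D) (hc : Limits.IsLimit c)
    [∀ (i j : I) (f : i ⟶ j), IsAffineHom (D.map f)] (i₀ : I)
    [CompactSpace (D.obj i₀)] (hd : ∀ (i j : I) (φ : i ⟶ j), IsDominant (D.map φ)) :
    ConnectedSpace c.pt ↔ ∃ (i : I) (_ : i ⟶ i₀), ∀ (j : I) (_ : j ⟶ i), ConnectedSpace (D.obj j) := by
  constructor
  · intro h
    refine ⟨i₀, 𝟙 i₀, fun j _ => ?_⟩
    haveI := Groth.L19.Limit.isDominant_π hc j fun k a => hd k j a
    have hd' : DenseRange (c.π.app j : c.pt → D.obj j) := Scheme.Hom.denseRange _
    haveI : PreconnectedSpace ↥(((Functor.const I).obj c.pt).obj j) := h.toPreconnectedSpace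
    haveI : PreconnectedSpace (D.obj j) := hd'.preconnectedSpace (c.π.app j).continuous
    haveI : Nonempty (D.obj j) := ⟨c.π.app j h.toNonempty.some⟩
    exact ⟨inferInstance⟩
  · rintro ⟨i, φ, h⟩
    haveI := Groth.L19.Limit.compactSpace_stage (D := D) φ
    haveI hne : Nonempty c.pt := by
      by_contra he
      haveI := not_nonempty_iff.mp he
      obtain ⟨j, a, hj⟩ := Groth.L19.Limit.exists_isEmpty hc i
      exact hj.elim (h j a).toNonempty.some
    haveI : PreconnectedSpace c.pt := by
      by_contra hp
      obtain ⟨j, a, hj⟩ := Groth.L19.Limit.exists_forall_not_preconnectedSpace hc i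
        (fun j _ A B _ _ => Groth.L19.Limit.hd_of_isDominant hc hd j A B) hp
      exact hj j (𝟙 j) (h j a).toPreconnectedSpace
    exact ⟨inferInstance⟩

end Groth.Agent.S4772
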