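import Groth.Statements.S4773
import Groth.Agent.L22.GeomConn.Finite
import Groth.Agent.L22.GeomConn.Irred

set_option autoImplicit false
universe u
open CategoryTheory AlgebraicGeometry
open Lim8

namespace Groth.Agent.S4773

/-- Let k be a field and X a quasi-compact scheme over k. Then X is geometrically connected over k if
and only if, for every finite separable field extension K of k, the base change X ⊗_k K is
connected. Connectedness includes being nonempty on both sides. -/
theorem result {k : Type u} [Field k]
    {X : Scheme.{u}} (f : X ⟶ Spec (CommRingCat.of k)) [CompactSpace X] :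
    GeometricallyConnected f ↔
      ∀ (K : Type u) [Field K] [Algebra k K] [Module.Finite k K] [Algebra.IsSeparable k K],
        ConnectedSpace ↑(Limits.pullback f (Spec.map (CommRingCat.ofHom (algebraMap k K)))) := by
  refine ⟨fun hc K _ _ _ _ => hc.geometrically_connectedSpace _ _ _ (IsPullback.of_hasPullback _ _), fun h => ?_⟩
  let K₀ := SeparableClosure k
  have hlev : ∀ L : {L : IntermediateField k K₀ // FiniteDimensional k L}, ConnectedSpace ↥(FBase.bc f L.1) := fun L => by
    haveI := L.2
    haveI : Algebra.IsSeparable k L.1 := Algebra.isSeparable_tower_bot_of_isSeparable k L.1 K₀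
    exact h L.1
  haveI : ConnectedSpace ↥(FBase.bc f K₀) := Groth.L22.GeomConn.Sys.connectedSpace (Groth.L22.GeomConn.sys f K₀) hlev
  exact Groth.L22.GeomConn.geometricallyConnected_of_sepClosed f K₀
end Groth.Agent.S4773
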