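import Groth.Statements.S4776
import Groth.Agent.L19.Limit.Reduced
import Groth.Agent.L19.Limit.Topo

set_option autoImplicit false
set_option backward.isDefEq.respectTransparency.types false
universe u
open CategoryTheory AlgebraicGeometry
open Lim8

namespace Groth.Agent.S4776

/-- Let S = lim S_i be a cofiltered limit of schemes whose transition maps are affine, flat and
surjective, some stage S_{i₀} being quasi-compact, and assume that the underlying topological space
of S is Noetherian. Then S is integral if and only if there is an index i over i₀ such that S_j is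
integral for every j over i. (The published statement carries neither the quasi-compactness nor the
Noetherian hypothesis; its proof combines the reducedness criterion with the irreducibility
criterion for limits, and the latter is proved only under these two hypotheses, so they are assumed
here.) -/
theorem result {I : Type u} [SmallCategory I] [IsCofiltered I]
    (D : I ⥤ Scheme.{u}) (c : Limits.Cone D) (hc : Limits.IsLimit c)
    [∀ (i j : I) (f : i ⟶ j), IsAffineHom (D.map f)] (i₀ : I)
    [CompactSpace (D.obj i₀)] [TopologicalSpace.NoetherianSpace c.pt]
    (hf : ∀ (i j : I) (φ : i ⟶ j), Flat (D.map φ) ∧ Surjective (D.map φ)) :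
    IsIntegral c.pt ↔ ∃ (i : I) (_ : i ⟶ i₀), ∀ (j : I) (_ : j ⟶ i), IsIntegral (D.obj j) := by
  have hd : ∀ (i j : I) (φ : i ⟶ j), IsDominant (D.map φ) := fun i j φ => by
    haveI := (hf i j φ).2
    exact ⟨(D.map φ).surjective.denseRange⟩
  constructor
  · intro h
    refine ⟨i₀, 𝟙 i₀, fun j _ => ?_⟩
    haveI := Groth.L19.Limit.isReduced_stage hc j fun k a => hf k j a
    haveI := Groth.L19.Limit.isDominant_π hc j fun k a => hd k j a
    have hd' : DenseRange (c.π.app j : c.pt → D.obj j) := Scheme.Hom.denseRange _
    have h1 : IsIrreducible (Set.range (c.π.app j : c.pt → D.obj j)) := by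
      rw [← Set.image_univ]
      exact (IrreducibleSpace.isIrreducible_univ c.pt).image _ (c.π.app j).continuous.continuousOn
    have h2 := h1.closure
    rw [hd'.closure_range] at h2
    haveI : PreirreducibleSpace (D.obj j) := ⟨h2.2⟩
    haveI : Nonempty (D.obj j) := ⟨c.π.app j (Nonempty.some (α := ↥c.pt) inferInstance)⟩
    haveI : IrreducibleSpace (D.obj j) := ⟨inferInstance⟩
    exact isIntegral_of_irreducibleSpace_of_isReduced _
  · rintro ⟨i, φ, h⟩
    haveI := Groth.L19.Limit.compactSpace_stage (D := D) φ
    haveI : IrreducibleSpace c.pt := by
      by_contra hp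
      obtain ⟨j, a, hj⟩ := Groth.L19.Limit.exists_forall_not_irreducibleSpace hc i
        (fun j _ A B _ _ => Groth.L19.Limit.hd_of_isDominant hc hd j A B) hp
      haveI := h j a
      exact hj j (𝟙 j) inferInstance
    haveI : IsReduced c.pt := by
      by_contra hr
      obtain ⟨j, hj⟩ := Groth.L19.Limit.exists_forall_not_isReduced hc hr
      haveI := h (IsCofiltered.min i j) (IsCofiltered.minToLeft i j)
      exact hj _ (IsCofiltered.minToRight i j) inferInstance
    exact isIntegral_of_irreducibleSpace_of_isReduced _

end Groth.Agent.S4776
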