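import Groth.Statements.S4777
import Groth.Agent.L19.FPColimit
import Mathlib.CategoryTheory.Limits.Constructions.Over.Connected

set_option autoImplicit false
set_option backward.isDefEq.respectTransparency.types false
set_option backward.isDefEq.respectTransparency false
set_option linter.style.haveILetI false
universe u
open CategoryTheory CategoryTheory.Limits
open CategoryTheory CategoryTheory.Limits
open Lim8

namespace Groth.Agent.S4777

/-- Let B be an algebra over a commutative ring A. If, for every inductive system (C_λ) of A-algebras
indexed by a nonempty directed preordered set, the canonical map colim Hom_A(B, C_λ) → Hom_A(B,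
colim C_λ) is bijective (that is, Hom_A(B, -) preserves the colimit of the system), then B is an
A-algebra of finite presentation. (This is the necessity half of the characterization of algebras of
finite presentation by this property; the converse is standard.) -/
theorem result {A B : CommRingCat.{u}} (f : A ⟶ B)
    (h : ∀ (J : Type u) [Preorder J] [IsDirected J (· ≤ ·)] [Nonempty J] (F : J ⥤ Under A),
      Limits.PreservesColimit F (coyoneda.obj (Opposite.op (Under.mk f)))) :
    f.hom.FinitePresentation := by
  refine Groth.L19.FPColimit.finitePresentation_of_factor f fun J _ _ _ F a ι hc hι => ?_
  obtain ⟨hc⟩ := hc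
  haveI : IsFiltered J := inferInstance
  haveI : IsConnected J := IsFiltered.isConnected J
  let F' : J ⥤ Under A :=
    { obj := fun j => Under.mk (a.app j)
      map := fun g => Under.homMk (F.map g) (by simpa using (a.naturality g).symm) }
  let c' : Cocone F' :=
    { pt := Under.mk f
      ι := { app := fun j => Under.homMk (ι.app j) (hι j)
             naturality := fun _ _ g => Under.UnderMorphism.ext (ι.naturality g) } }
  have hc' : IsColimit c' := isColimitOfReflects (Under.forget A) hc
  haveI := h J F'
  obtain ⟨j, φ, hφ⟩ := Types.jointly_surjective _ (isColimitOfPreserves (coyoneda.obj (Opposite.op (Under.mk f))) hc') (𝟙 _)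
  exact ⟨j, φ.right, Under.w φ, congrArg CommaMorphism.right hφ⟩

end Groth.Agent.S4777
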