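import Groth.Statements.S4778
import Groth.Agent.L19.FPColimit
import Mathlib.CategoryTheory.Limits.Constructions.Over.Connected
import Mathlib.AlgebraicGeometry.AffineTransitionLimit

set_option autoImplicit false
set_option backward.isDefEq.respectTransparency.types false
set_option backward.isDefEq.respectTransparency false
set_option linter.style.haveILetI false
universe u
open CategoryTheory CategoryTheory.Limits AlgebraicGeometry
open Lim8

namespace Groth.Agent.S4778

/-- Let f : X ⟶ S be a morphism of schemes. Suppose that for every affine open U of S and every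
projective system (Z_λ) of U-schemes indexed by a nonempty directed preordered set, with every Z_λ
an affine scheme, the functor Hom_S(-, X) takes the limit of the system to the colimit of the
Hom_S(Z_λ, X) (the canonical map from the colimit is bijective). Then f is locally of finite
presentation. -/
theorem result {X S : Scheme.{u}} (f : X ⟶ S)
    (h : ∀ (U : S.Opens), IsAffineOpen U →
      ∀ (J : Type u) [Preorder J] [IsDirected J (· ≤ ·)] [Nonempty J] (Z : Jᵒᵖ ⥤ Over (U : Scheme.{u})),
      (∀ j, IsAffine (Z.obj j).left) →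
      Limits.PreservesColimit (Z ⋙ Over.map U.ι).op (yoneda.obj (Over.mk f))) :
    LocallyOfFinitePresentation f := by
  refine ⟨fun {U} hU {V} hV e => Groth.L19.FPColimit.finitePresentation_of_factor _
    fun J _ _ _ F a ι hc hι => ?_⟩
  obtain ⟨hc⟩ := hc
  have hφ := hU.SpecMap_appLE_fromSpec f hV e
  let D : Jᵒᵖ ⥤ Scheme.{u} := F.op ⋙ Scheme.Spec
  let c₀ : Cone D := Scheme.Spec.mapCone (Cocone.mk _ ι).op
  have hc₀ : IsLimit c₀ := isLimitOfPreserves Scheme.Spec hc.op
  let Z : Jᵒᵖ ⥤ Over (U : Scheme.{u}) :=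
    { obj := fun j => Over.mk (Spec.map (a.app j.unop) ≫ hU.isoSpec.inv)
      map := fun {i j} g => Over.homMk (D.map g) (by
        show Spec.map (F.map g.unop) ≫ Spec.map (a.app j.unop) ≫ hU.isoSpec.inv = _
        rw [← Spec.map_comp_assoc, ← a.naturality g.unop]
        simp) }
  have hZ : ∀ j, IsAffine (Z.obj j).left := fun j => inferInstanceAs (IsAffine (Spec (F.obj j.unop)))
  haveI : IsConnected Jᵒᵖ := IsCofiltered.isConnected Jᵒᵖ
  let c : Cone (Z ⋙ Over.map U.ι) :=
    { pt := Over.mk (hV.fromSpec ≫ f)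
      π :=
        { app := fun j => Over.homMk (c₀.π.app j) (by
            show Spec.map (ι.app j.unop) ≫ (Spec.map (a.app j.unop) ≫ hU.isoSpec.inv) ≫ U.ι = _
            rw [Category.assoc, IsAffineOpen.isoSpec_inv_ι, ← Spec.map_comp_assoc, hι, hφ]
            rfl)
          naturality := fun _ _ g => Over.OverMorphism.ext (c₀.π.naturality g) } }
  have hc' : IsLimit c := isLimitOfReflects (Over.forget S) hc₀
  haveI := h U hU J Z hZ
  obtain ⟨j, g, hg⟩ := Types.jointly_surjective _
    (isColimitOfPreserves (yoneda.obj (Over.mk f)) hc'.op)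
    (Over.homMk hV.fromSpec rfl : c.pt ⟶ Over.mk f)
  obtain ⟨j, rfl⟩ : ∃ i, j = Opposite.op i := ⟨j.unop, rfl⟩
  have hg' : c₀.π.app j ≫ g.left = hV.fromSpec := congrArg CommaMorphism.left hg
  have hgf : g.left ≫ f = Spec.map (a.app j.unop) ≫ hU.fromSpec :=
    (Over.w g).trans ((Category.assoc _ _ _).trans (congrArg _ (IsAffineOpen.isoSpec_inv_ι _)))
  -- shrink the stage so that it lands in `V`
  haveI : ∀ {i k} (g : i ⟶ k), IsAffineHom (D.map g) := fun {i k} g =>
    isAffineHom_of_isAffine (X := Spec (F.obj i.unop)) (Y := Spec (F.obj k.unop)) _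
  haveI : ∀ i, CompactSpace (D.obj i) := fun i => inferInstanceAs (CompactSpace (Spec (F.obj i.unop)))
  obtain ⟨k, t, hk⟩ := exists_map_eq_top D c₀ hc₀ (i := j) (g.left ⁻¹ᵁ V)
    ((Scheme.Hom.comp_preimage (c₀.π.app j) g.left V).symm.trans
      ((congrArg (fun φ => φ ⁻¹ᵁ V) hg').trans hV.fromSpec_preimage_self))
  have hsub : Set.range (D.map t ≫ g.left) ⊆ Set.range hV.fromSpec := by
    rw [hV.range_fromSpec]
    rintro _ ⟨z, rfl⟩
    exact (show z ∈ D.map t ⁻¹ᵁ (g.left ⁻¹ᵁ V) by rw [hk]; trivial)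
  obtain ⟨l, hl⟩ : ∃ l : Spec (F.obj k.unop) ⟶ Spec Γ(X, V), l ≫ hV.fromSpec = D.map t ≫ g.left :=
    ⟨IsOpenImmersion.lift hV.fromSpec _ hsub, IsOpenImmersion.lift_fac _ _ _⟩
  obtain ⟨σ, rfl⟩ : ∃ σ, Spec.map σ = l := ⟨Spec.preimage l, Spec.map_preimage l⟩
  refine ⟨k.unop, σ, Spec.map_injective ?_, Spec.map_injective ?_⟩
  · rw [← cancel_mono hU.fromSpec, Spec.map_comp, Category.assoc, hφ, ← Category.assoc, hl,
      Category.assoc, hgf, ← Category.assoc]
    congr 1
    show Spec.map (F.map t.unop) ≫ Spec.map (a.app j.unop) = _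
    rw [← Spec.map_comp, ← a.naturality t.unop]
    simp
  · rw [← cancel_mono hV.fromSpec, Spec.map_comp, Category.assoc, hl, Spec.map_id]
    exact (c₀.w_assoc t g.left).trans (hg'.trans (Category.id_comp _).symm)

end Groth.Agent.S4778
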