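import Groth.Statements.S4779
import Groth.Agent.L19.Limit.Pullback
import Groth.Agent.L19.Limit.Topo

set_option autoImplicit false
set_option backward.isDefEq.respectTransparency.types false
set_option backward.isDefEq.respectTransparency false
universe u
open CategoryTheory AlgebraicGeometry
open Lim8

namespace Groth.Agent.S4779

/-- Let S = lim S_i be a cofiltered limit of schemes with affine transition maps, let f₀ : X₀ ⟶ Y₀ be a
morphism of schemes over a stage S_{i₀}, and let f : X ⟶ Y be its base change along S ⟶ S_{i₀} (all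
base changes are expressed by pullback squares). If there is an index i over i₀ such that, for every
j over i, the base change f_j : X_j ⟶ Y_j of f₀ along S_j ⟶ S_{i₀} is an open map, then f is an open
map. (The corresponding statement for universally open morphisms follows from this one by base
change.) -/
theorem result {I : Type u} [SmallCategory I] [IsCofiltered I]
    (D : I ⥤ Scheme.{u}) (c : Limits.Cone D) (hc : Limits.IsLimit c)
    [∀ (i j : I) (f : i ⟶ j), IsAffineHom (D.map f)] (i₀ : I)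
    {X₀ Y₀ : Scheme.{u}} (f₀ : X₀ ⟶ Y₀) (g₀ : Y₀ ⟶ D.obj i₀)
    {X Y : Scheme.{u}} (f : X ⟶ Y) (g : Y ⟶ c.pt) (qY : Y ⟶ Y₀) (qX : X ⟶ X₀)
    (hY : IsPullback qY g g₀ (c.π.app i₀)) (hX : IsPullback qX f f₀ qY)
    (h : ∃ (i : I) (φ : i ⟶ i₀), ∀ (j : I) (ψ : j ⟶ i) (Xj Yj : Scheme.{u}) (fj : Xj ⟶ Yj)
      (gj : Yj ⟶ D.obj j) (pY : Yj ⟶ Y₀) (pX : Xj ⟶ X₀),
      IsPullback pY gj g₀ (D.map (ψ ≫ φ)) → IsPullback pX fj f₀ pY → IsOpenMap ⇑fj) :
    IsOpenMap ⇑f := by
  obtain ⟨i, φ, h⟩ := h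
  intro W hW
  rw [isOpen_iff_forall_mem_open]
  rintro _ ⟨x, hx, rfl⟩
  obtain ⟨k, a, V, hxV, hVW⟩ := Groth.L19.Limit.exists_nhds_stage
    (Groth.L19.Limit.isLimitSqCone hc (hX.paste_vert hY)) (Over.mk φ) hW hx
  have ha : a.left ≫ φ = k.hom := Over.w a
  have hop : IsOpenMap ⇑(Groth.L19.Limit.stageHom f₀ g₀ k) := by
    refine h k.left a.left _ _ (Groth.L19.Limit.stageHom f₀ g₀ k)
      (Limits.pullback.fst (D.map k.hom) g₀) (Limits.pullback.snd (D.map k.hom) g₀)
      (Limits.pullback.snd (D.map k.hom) (f₀ ≫ g₀)) ?_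
      (Groth.L19.Limit.isPullback_stageHom f₀ g₀ k)
    rw [ha]
    exact (IsPullback.of_hasPullback (D.map k.hom) g₀).flip
  have e := Scheme.image_preimage_eq_of_isPullback
    (Groth.L19.Limit.isPullback_toStage hY hX k) (V : Set _)
  refine ⟨f '' ((Groth.L19.Limit.toStage (hX.paste_vert hY) k : X ⟶ _) ⁻¹'
      (V : Set ↥((Groth.L19.Limit.bcDiagram D (f₀ ≫ g₀)).obj k))), ?_, ?_, ?_⟩
  · exact Set.image_mono (f := ⇑f) (s := (Groth.L19.Limit.toStage (hX.paste_vert hY) k : X ⟶ _) ⁻¹'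
      (V : Set ↥((Groth.L19.Limit.bcDiagram D (f₀ ≫ g₀)).obj k))) (t := W) hVW
  rotate_left
  · exact ⟨x, hxV, rfl⟩
  change IsOpen (f.base '' ((Groth.L19.Limit.toStage (hX.paste_vert hY) k).base ⁻¹' (V : Set _)))
  rw [e]
  exact (hop _ V.2).preimage (Groth.L19.Limit.toStage hY k).continuous

end Groth.Agent.S4779
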