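import Groth.Statements.S4780
import Mathlib.AlgebraicGeometry.Morphisms.UniversallyOpen
import Mathlib.AlgebraicGeometry.AffineSpace
import Mathlib.AlgebraicGeometry.PullbackCarrier
import Mathlib.Algebra.MvPolynomial.Rename

set_option autoImplicit false
universe u
open CategoryTheory AlgebraicGeometry
open Lim8

namespace Groth.Agent.S4780

open CategoryTheory.Limits

private lemma reindex_SpecIso {n m : Type u} (i : n → m) (A : CommRingCat.{u}) :
    (AffineSpace.SpecIso m A).inv ≫ AffineSpace.reindex i (Spec A) =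
      Spec.map (CommRingCat.ofHom (MvPolynomial.rename (R := A) i).toRingHom) ≫
        (AffineSpace.SpecIso n A).inv := by
  apply AffineSpace.hom_ext
  · rw [Category.assoc, Category.assoc, AffineSpace.reindex_over, AffineSpace.SpecIso_inv_over,
      AffineSpace.SpecIso_inv_over, ← Spec.map_comp, ← CommRingCat.ofHom_comp]
    congr 2
    refine RingHom.ext fun r => ?_
    exact (MvPolynomial.rename_C i r).symm
  · intro j
    simp only [Scheme.Hom.comp_appTop, CommRingCat.comp_apply, AffineSpace.reindex_appTop_coord,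
      AffineSpace.SpecIso_inv_appTop_coord]
    rw [← CommRingCat.comp_apply, ← Scheme.ΓSpecIso_inv_naturality, CommRingCat.comp_apply]
    simp

private lemma exists_finite_stage (I : Type u) [Nonempty I] (X : Scheme.{u}) (W : Set ↑(AffineSpace I X))
    (hW : IsOpen W) (w : ↑(AffineSpace I X)) (hw : w ∈ W) :
    ∃ (n : ℕ) (_ : 0 < n) (i : ULift.{u} (Fin n) → I) (W₀ : Set ↑(AffineSpace (ULift.{u} (Fin n)) X)),
      IsOpen W₀ ∧ AffineSpace.reindex i X w ∈ W₀ ∧ AffineSpace.reindex i X ⁻¹' W₀ ⊆ W := by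
  obtain ⟨_, ⟨U, hU, rfl⟩, hwU, -⟩ := X.isBasis_affineOpens.exists_subset_of_mem_open
    (Set.mem_univ ((AffineSpace I X ↘ X) w)) isOpen_univ
  obtain ⟨a, ha⟩ : (AffineSpace I X ↘ X) w ∈ Set.range hU.fromSpec := by rw [hU.range_fromSpec]; exact hwU
  let A : CommRingCat.{u} := Γ(X, U)
  let j : Spec A ⟶ X := hU.fromSpec
  have hpb := AffineSpace.isPullback_map (n := I) j
  haveI : ∀ J : Type u, IsOpenImmersion (AffineSpace.map J j) := fun J =>
    MorphismProperty.of_isPullback (AffineSpace.isPullback_map (n := J) j).flip inferInstance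
  obtain ⟨z, hz⟩ : ∃ z, AffineSpace.map I j z = w := by
    have h : w ∈ Set.range (AffineSpace.map I j) := by
      obtain ⟨z', hz1, -⟩ := Scheme.Pullback.exists_preimage_pullback (f := AffineSpace I X ↘ X) (g := j) w a ha.symm
      refine ⟨hpb.isoPullback.inv z', ?_⟩
      rw [← Scheme.Hom.comp_apply, hpb.isoPullback_inv_fst, hz1]
    exact h
  let σ := AffineSpace.SpecIso I A
  have hO : IsOpen ((σ.inv ≫ AffineSpace.map I j) ⁻¹' W) := hW.preimage (σ.inv ≫ AffineSpace.map I j).continuous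
  have hzO : σ.hom z ∈ (σ.inv ≫ AffineSpace.map I j) ⁻¹' W := by
    change (σ.inv ≫ AffineSpace.map I j) (σ.hom z) ∈ W
    rw [← Scheme.Hom.comp_apply, Iso.hom_inv_id_assoc]
    exact hz ▸ hw
  obtain ⟨_, ⟨g, rfl⟩, hzg, hg⟩ :=
    PrimeSpectrum.isTopologicalBasis_basic_opens.exists_subset_of_mem_open hzO hO
  obtain ⟨n, i₀, -, g₀, rfl⟩ := MvPolynomial.exists_fin_rename g
  let i : ULift.{u} (Fin (n + 1)) → I := fun q =>
    Fin.lastCases (Classical.arbitrary I) i₀ q.down
  let up : Fin n → ULift.{u} (Fin (n + 1)) := fun q => ULift.up q.castSucc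
  have hi : i ∘ up = i₀ := funext fun q => by
    simp only [Function.comp_apply, i, up, Fin.lastCases_castSucc]
  let g₁ := MvPolynomial.rename up g₀
  have hg₁ : MvPolynomial.rename i g₁ = MvPolynomial.rename i₀ g₀ := by
    rw [MvPolynomial.rename_rename, hi]
  let σ₁ := AffineSpace.SpecIso (ULift.{u} (Fin (n + 1))) A
  let ψ := σ₁.inv ≫ AffineSpace.map (ULift.{u} (Fin (n + 1))) j
  refine ⟨n + 1, Nat.succ_pos _, i, ψ '' ((PrimeSpectrum.basicOpen g₁ : TopologicalSpace.Opens _) : Set (PrimeSpectrum _)), ?_, ?_, ?_⟩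
  · exact ψ.isOpenEmbedding.isOpenMap _ (PrimeSpectrum.basicOpen g₁).isOpen
  · refine ⟨(Spec.map (CommRingCat.ofHom (MvPolynomial.rename (R := A) i).toRingHom)) (σ.hom z), ?_, ?_⟩
    · change MvPolynomial.rename i g₁ ∉ ((σ.hom z : PrimeSpectrum (MvPolynomial I A))).asIdeal
      rw [hg₁]
      exact hzg
    · rw [← hz, ← Scheme.Hom.comp_apply, ← Scheme.Hom.comp_apply, ← Scheme.Hom.comp_apply,
        AffineSpace.map_reindex]
      simp only [ψ, σ₁]
      rw [← reassoc_of% reindex_SpecIso i A]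
      simp [σ]
  · rintro v ⟨p, hp, hpv⟩
    have hv : (AffineSpace I X ↘ X) v ∈ Set.range j := by
      refine ⟨(AffineSpace (ULift.{u} (Fin (n + 1))) (Spec A) ↘ Spec A) (σ₁.inv p), ?_⟩
      rw [← AffineSpace.reindex_over i X, Scheme.Hom.comp_apply, ← hpv]
      simp only [ψ, ← Scheme.Hom.comp_apply, Category.assoc, AffineSpace.map_over]
    obtain ⟨b, hb⟩ := hv
    obtain ⟨v', hv', -⟩ := Scheme.Pullback.exists_preimage_pullback (f := AffineSpace I X ↘ X) (g := j) v b hb.symm
    obtain ⟨v, rfl⟩ : ∃ q, AffineSpace.map I j q = v := ⟨hpb.isoPullback.inv v', by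
      rw [← Scheme.Hom.comp_apply, hpb.isoPullback_inv_fst, hv']⟩
    have key : ψ ((Spec.map (CommRingCat.ofHom (MvPolynomial.rename (R := A) i).toRingHom)) (σ.hom v)) = ψ p := by
      rw [hpv, ← Scheme.Hom.comp_apply, ← Scheme.Hom.comp_apply, ← Scheme.Hom.comp_apply,
        AffineSpace.map_reindex]
      simp only [ψ, σ₁]
      rw [← reassoc_of% reindex_SpecIso i A]
      simp [σ]
    have hmem : σ.hom v ∈ (σ.inv ≫ AffineSpace.map I j) ⁻¹' W := by
      apply hg
      change MvPolynomial.rename i₀ g₀ ∉ ((σ.hom v : PrimeSpectrum (MvPolynomial I A))).asIdeal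
      rw [← hg₁]
      have := ψ.isOpenEmbedding.injective key
      rw [← this] at hp
      exact hp
    change (σ.inv ≫ AffineSpace.map I j) (σ.hom v) ∈ W at hmem
    rw [← Scheme.Hom.comp_apply, Iso.hom_inv_id_assoc] at hmem
    exact hmem

private lemma isOpenMap_map {X Y : Scheme.{u}} (f : X ⟶ Y)
    (h : ∀ n : ℕ, 0 < n →
      IsOpenMap ⇑(Limits.pullback.snd f (AffineSpace (ULift.{u} (Fin n)) Y ↘ Y)))
    (I : Type u) [Nonempty I] : IsOpenMap (AffineSpace.map I f) := by
  intro W hW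
  rw [isOpen_iff_forall_mem_open]
  rintro _ ⟨w, hw, rfl⟩
  obtain ⟨n, hn, i, W₀, hW₀, hwW₀, hsub⟩ := exists_finite_stage I X W hW w hw
  have hn' : IsOpenMap (AffineSpace.map (ULift.{u} (Fin n)) f) := by
    have hpb := (AffineSpace.isPullback_map (n := ULift.{u} (Fin n)) f).flip
    rw [← hpb.isoPullback_hom_snd]
    exact ((h n hn).comp hpb.isoPullback.hom.homeomorph.isOpenMap)
  refine ⟨AffineSpace.reindex i Y ⁻¹' (AffineSpace.map _ f '' W₀), ?_,
    (hn' _ hW₀).preimage (AffineSpace.reindex i Y).continuous, ?_⟩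
  · rintro y ⟨x₀, hx₀, hx₀y⟩
    have hsq : IsPullback (AffineSpace.map I f) (AffineSpace.reindex i X) (AffineSpace.reindex i Y)
        (AffineSpace.map (ULift.{u} (Fin n)) f) := by
      refine IsPullback.of_bot ?_ (AffineSpace.map_reindex i f) (AffineSpace.isPullback_map (n := ULift.{u} (Fin n)) f)
      rw [AffineSpace.reindex_over, AffineSpace.reindex_over]
      exact AffineSpace.isPullback_map f
    obtain ⟨z, hz1, hz2⟩ := Scheme.Pullback.exists_preimage_pullback
      (f := AffineSpace.reindex i Y) (g := AffineSpace.map _ f) y x₀ hx₀y.symm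
    refine ⟨hsq.isoPullback.inv z, hsub ?_, ?_⟩
    · change AffineSpace.reindex i X (hsq.isoPullback.inv z) ∈ W₀
      rw [← Scheme.Hom.comp_apply, hsq.isoPullback_inv_snd, hz2]
      exact hx₀
    · rw [← Scheme.Hom.comp_apply, hsq.isoPullback_inv_fst, hz1]
  · refine ⟨AffineSpace.reindex i X w, hwW₀, ?_⟩
    rw [← Scheme.Hom.comp_apply, ← Scheme.Hom.comp_apply, AffineSpace.map_reindex]

private lemma isOpenMap_pullback_of_preimmersion {P Z Z' : Scheme.{u}} (p : P ⟶ Z) (j : Z' ⟶ Z)
    [IsPreimmersion j] (hp : IsOpenMap p) : IsOpenMap (pullback.snd p j) := by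
  haveI : IsPreimmersion (pullback.fst p j) := MorphismProperty.pullback_fst p j inferInstance
  intro W hW
  obtain ⟨W', hW', rfl⟩ := (pullback.fst p j).isEmbedding.isInducing.isOpen_iff.mp hW
  have : pullback.snd p j '' (pullback.fst p j ⁻¹' W') = j ⁻¹' (p '' W') := by
    ext z
    constructor
    · rintro ⟨q, hq, rfl⟩
      exact ⟨_, hq, by rw [← Scheme.Hom.comp_apply, ← Scheme.Hom.comp_apply, pullback.condition]⟩
    · rintro ⟨x, hx, hxz⟩
      obtain ⟨q, hq1, hq2⟩ := Scheme.Pullback.exists_preimage_pullback (f := p) (g := j) x z hxz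
      exact ⟨q, by simpa [Set.mem_preimage, hq1] using hx, hq2⟩
  rw [this]
  exact (hp W' hW').preimage j.continuous


/-- Let f : X ⟶ Y be a morphism of schemes. If, for every integer n > 0, the base change of f to affine
n-space over Y, X ×_Y 𝔸ⁿ_Y ⟶ 𝔸ⁿ_Y, is an open map of topological spaces, then f is universally open. -/
theorem result {X Y : Scheme.{u}} (f : X ⟶ Y)
    (h : ∀ n : ℕ, 0 < n →
      IsOpenMap ⇑(Limits.pullback.snd f (AffineSpace (ULift.{u} (Fin n)) Y ↘ Y))) :
    UniversallyOpen f := by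
  constructor
  intro P Y' fst g f' H
  rw [topologically]
  have hloc : ∀ y : Y', ∃ W : Y'.Opens, y ∈ W ∧ IsOpenMap (f' ∣_ W) := by
    intro y
    obtain ⟨_, ⟨V, hV, rfl⟩, hyV, -⟩ :=
      Y.isBasis_affineOpens.exists_subset_of_mem_open (Set.mem_univ (g y)) isOpen_univ
    obtain ⟨_, ⟨W, hW, rfl⟩, hyW, hWV⟩ :=
      Y'.isBasis_affineOpens.exists_subset_of_mem_open (show y ∈ (g ⁻¹ᵁ V : Set Y') from hyV) (g ⁻¹ᵁ V).isOpen
    refine ⟨W, hyW, ?_⟩
    haveI : IsAffine (W : Scheme.{u}) := hW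
    haveI : IsAffine (V : Scheme.{u}) := hV
    let I : Type u := Γ((W : Scheme.{u}), ⊤)
    haveI : Nonempty I := ⟨(0 : Γ((W : Scheme.{u}), ⊤))⟩
    let j₀ : (W : Scheme.{u}) ⟶ AffineSpace I (V : Scheme.{u}) :=
      AffineSpace.homOfVector (Scheme.Hom.resLE g V W hWV) (fun b => b)
    haveI : IsClosedImmersion j₀ := IsClosedImmersion.of_surjective_of_isAffine j₀
      (fun b => ⟨AffineSpace.coord _ b, AffineSpace.homOfVector_appTop_coord _ _ _⟩)
    haveI : IsOpenImmersion (AffineSpace.map I (Scheme.Opens.ι V)) :=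
      MorphismProperty.of_isPullback (AffineSpace.isPullback_map (n := I) (Scheme.Opens.ι V)).flip inferInstance
    let j := j₀ ≫ AffineSpace.map I (Scheme.Opens.ι V)
    have hj : j ≫ (AffineSpace I Y ↘ Y) = (Scheme.Opens.ι W) ≫ g := by
      simp only [j, j₀, Category.assoc, AffineSpace.map_over, AffineSpace.homOfVector_over_assoc,
        Scheme.Hom.resLE_comp_ι]
    have h1 := isOpenMap_pullback_of_preimmersion (AffineSpace.map I f) j (isOpenMap_map f h I)
    have h2 : IsPullback (pullback.fst (AffineSpace.map I f) j ≫ (AffineSpace I X ↘ X))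
        (pullback.snd (AffineSpace.map I f) j) f ((Scheme.Opens.ι W) ≫ g) := by
      rw [← hj]
      exact (IsPullback.of_hasPullback _ _).paste_horiz (AffineSpace.isPullback_map f).flip
    have h3 : IsPullback ((Scheme.Opens.ι (f' ⁻¹ᵁ W)) ≫ fst) (f' ∣_ W) f ((Scheme.Opens.ι W) ≫ g) :=
      (isPullback_morphismRestrict f' W).flip.paste_horiz H.flip
    have he := IsPullback.isoIsPullback_hom_snd _ _ h3 h2
    rw [← he]
    exact h1.comp (IsPullback.isoIsPullback _ _ h3 h2).hom.homeomorph.isOpenMap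
  choose W hyW hW using hloc
  exact (IsZariskiLocalAtTarget.iff_of_iSup_eq_top (P := topologically IsOpenMap) W
    (eq_top_iff.mpr fun y _ => TopologicalSpace.Opens.mem_iSup.mpr ⟨y, hyW y⟩)).mpr hW

end Groth.Agent.S4780
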