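import Groth.Statements.S4783
import Groth.Agent.L19.Limit.OpenImm

set_option autoImplicit false
set_option backward.isDefEq.respectTransparency.types false
universe u
open CategoryTheory AlgebraicGeometry
open Lim8

namespace Groth.Agent.S4783

/-- Let S = lim S_i be a cofiltered limit of schemes whose transition maps are open immersions (in
particular affine), and let S_{i₀} be a Noetherian stage. Then S is integral if and only if there is
an index i over i₀ such that S_j is integral for every j over i. -/
theorem result {I : Type u} [SmallCategory I] [IsCofiltered I]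
    (D : I ⥤ Scheme.{u}) (c : Limits.Cone D) (hc : Limits.IsLimit c)
    [∀ (i j : I) (f : i ⟶ j), IsAffineHom (D.map f)] (i₀ : I)
    [IsNoetherian (D.obj i₀)] (hoi : ∀ (i j : I) (φ : i ⟶ j), IsOpenImmersion (D.map φ)) :
    IsIntegral c.pt ↔ ∃ (i : I) (_ : i ⟶ i₀), ∀ (j : I) (_ : j ⟶ i), IsIntegral (D.obj j) := by
  constructor
  · intro h
    obtain ⟨i₁, φ₁, h₁⟩ := Groth.L19.Limit.exists_forall_isReduced hc i₀ (fun j φ => hoi j i₀ φ)
      (fun U => by
        haveI : IsNoetherianRing Γ(D.obj i₀, U) := IsLocallyNoetherian.component_noetherian U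
        exact IsNoetherian.noetherian _)
    obtain ⟨i₂, φ₂, h₂⟩ := Groth.L19.Limit.exists_forall_irreducibleSpace hc i₀ (fun j φ => hoi j i₀ φ)
    refine ⟨IsCofiltered.min i₁ i₂, IsCofiltered.minToLeft i₁ i₂ ≫ φ₁, fun j a => ?_⟩
    haveI := h₁ j (a ≫ IsCofiltered.minToLeft i₁ i₂)
    haveI := h₂ j (a ≫ IsCofiltered.minToRight i₁ i₂)
    exact isIntegral_of_irreducibleSpace_of_isReduced _
  · rintro ⟨i, φ, h⟩
    haveI : IrreducibleSpace c.pt := Groth.L19.Limit.irreducibleSpace_pt hc i hoi fun j a => by
      haveI := h j a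
      infer_instance
    haveI : IsReduced c.pt := by
      by_contra hr
      obtain ⟨j, hj⟩ := Groth.L19.Limit.exists_forall_not_isReduced hc hr
      haveI := h _ (IsCofiltered.minToLeft i j)
      exact hj _ (IsCofiltered.minToRight i j) inferInstance
    exact isIntegral_of_irreducibleSpace_of_isReduced _

end Groth.Agent.S4783
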