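import Groth.Statements.S4785
import Groth.Agent.L19.Limit.Stalk
import Groth.Agent.L19.Limit.Points

set_option autoImplicit false
set_option backward.isDefEq.respectTransparency.types false
universe u
open CategoryTheory AlgebraicGeometry
open Lim8

namespace Groth.Agent.S4785

/-- Let S = lim S_i be a cofiltered limit of schemes whose transition maps are open immersions, so that
each S_j with j over i is an open subscheme of S_i. Then, for every index i, the projection S ⟶ S_i
is a topological embedding and every stalk map O_{S_i, π(s)} ⟶ O_{S, s} is an isomorphism; that is,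
S is the subspace ⋂_j S_j of S_i with the induced structure sheaf. -/
theorem result {I : Type u} [SmallCategory I] [IsCofiltered I]
    (D : I ⥤ Scheme.{u}) (c : Limits.Cone D) (hc : Limits.IsLimit c)
    [∀ (i j : I) (f : i ⟶ j), IsAffineHom (D.map f)]
    (hoi : ∀ (i j : I) (φ : i ⟶ j), IsOpenImmersion (D.map φ)) (i : I) :
    Topology.IsEmbedding ⇑(c.π.app i) ∧ ∀ s : c.pt, IsIso ((c.π.app i).stalkMap s) := by
  have hk : ∀ j, ∃ (k : I) (α : k ⟶ i) (β : k ⟶ j), True := fun j =>
    ⟨_, IsCofiltered.minToLeft i j, IsCofiltered.minToRight i j, trivial⟩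
  refine ⟨⟨⟨?_⟩, fun p q h => ?_⟩, fun s => ?_⟩
  · refine le_antisymm (continuous_iff_le_induced.mp (c.π.app i).continuous) ?_
    refine le_of_le_of_eq ?_ (Groth.L19.Limit.eq_induced hc).symm
    refine le_iInf fun j => ?_
    obtain ⟨k, α, β, -⟩ := hk j
    have := hoi k i α
    have e1 : (c.π.app i : c.pt → D.obj i) = (D.map α) ∘ (c.π.app k) :=
      funext fun x => (Groth.L19.Limit.map_apply α x).symm
    have e2 : (c.π.app j : c.pt → D.obj j) = (D.map β) ∘ (c.π.app k) :=
      funext fun x => (Groth.L19.Limit.map_apply β x).symm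
    rw [e1, e2, ← induced_compose, ← induced_compose, ← (D.map α).isOpenEmbedding.eq_induced]
    exact induced_mono (continuous_iff_le_induced.mp (D.map β).continuous)
  · refine Groth.L19.Limit.ext_of_forall_apply_eq hc fun j => ?_
    obtain ⟨k, α, β, -⟩ := hk j
    have := hoi k i α
    rw [← Groth.L19.Limit.map_apply β p, ← Groth.L19.Limit.map_apply β q]
    congr 1
    refine (D.map α).isOpenEmbedding.injective ?_
    rw [Groth.L19.Limit.map_apply α p, Groth.L19.Limit.map_apply α q, h]
  · have hb : ∀ (k : I) (α : k ⟶ i), Function.Bijective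
        (((D.obj i).presheaf.stalkCongr (.of_eq (Groth.L19.Limit.map_apply α s).symm)).hom ≫
          (D.map α).stalkMap (c.π.app k s)).hom := fun k α => by
      have := hoi k i α
      exact ConcreteCategory.bijective_of_isIso _
    have hcomp : ∀ (k : I) (α : k ⟶ i) (b), (c.π.app k).stalkMap s
        ((((D.obj i).presheaf.stalkCongr (.of_eq (Groth.L19.Limit.map_apply α s).symm)).hom ≫
          (D.map α).stalkMap (c.π.app k s)).hom b) = (c.π.app i).stalkMap s b := fun k α b => by
      have e := Scheme.Hom.stalkMap_congr_hom (c.π.app i) (c.π.app k ≫ D.map α) (c.w α).symm s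
      rw [Scheme.Hom.stalkMap_comp] at e
      rw [e]
      rfl
    refine (ConcreteCategory.isIso_iff_bijective _).mpr ⟨fun b b' hbb => ?_, fun a => ?_⟩
    · obtain ⟨k, α, hk⟩ := Groth.L19.Limit.exists_stalkMap_map_eq hc s b b' hbb
      exact (hb k α).1 hk
    · obtain ⟨j, b, rfl⟩ := Groth.L19.Limit.exists_stalkMap_eq hc s a
      obtain ⟨k, α, β, -⟩ := hk j
      obtain ⟨b₀, hb₀⟩ := (hb k α).2 ((D.map β).stalkMap (c.π.app k s)
        (((D.obj j).presheaf.stalkCongr (.of_eq (Groth.L19.Limit.map_apply β s).symm)).hom b))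
      refine ⟨b₀, ?_⟩
      rw [← hcomp k α b₀, hb₀]
      have e := Scheme.Hom.stalkMap_congr_hom (c.π.app j) (c.π.app k ≫ D.map β) (c.w β).symm s
      rw [Scheme.Hom.stalkMap_comp] at e
      rw [e]
      rfl

end Groth.Agent.S4785
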