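import Groth.Statements.S4786
import Groth.Agent.L19.Limit.Cons
import Groth.Agent.L19.Limit.Flat
import Mathlib.AlgebraicGeometry.Morphisms.UniversallyOpen

set_option autoImplicit false
set_option backward.isDefEq.respectTransparency.types false
universe u
open CategoryTheory AlgebraicGeometry
open Lim8

namespace Groth.Agent.S4786

/-- Let S = lim S_i be a cofiltered limit of schemes whose transition maps are affine and flat, let
S_{i₁} be a quasi-compact stage, and let Z' and Z'' be pro-constructible subsets of S_{i₁} such that
the closure of Z' is constructible. Then the preimage of Z'' in S is contained in the closure of the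
preimage of Z' in S if and only if there is an index j over i₁ such that the preimage of Z'' in S_j
is contained in the closure of the preimage of Z' in S_j. -/
theorem result {I : Type u} [SmallCategory I] [IsCofiltered I]
    (D : I ⥤ Scheme.{u}) (c : Limits.Cone D) (hc : Limits.IsLimit c)
    [∀ (i j : I) (f : i ⟶ j), IsAffineHom (D.map f)] (i₁ : I) [CompactSpace (D.obj i₁)]
    (hfl : ∀ (i j : I) (φ : i ⟶ j), Flat (D.map φ))
    (Z' Z'' : Set (D.obj i₁)) (hZ' : ProCons.IsProConstructible Z') (hZ'' : ProCons.IsProConstructible Z'')
    (hcl : Topology.IsConstructible (closure Z')) :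
    (⇑(c.π.app i₁) ⁻¹' Z'' : Set c.pt) ⊆ closure (⇑(c.π.app i₁) ⁻¹' Z' : Set c.pt) ↔
      ∃ (j : I) (φ : j ⟶ i₁), ⇑(D.map φ) ⁻¹' Z'' ⊆ closure (⇑(D.map φ) ⁻¹' Z') := by
  constructor
  · intro h
    obtain ⟨j, φ, hjφ⟩ := Groth.L19.Limit.exists_preimage_subset hc
      (Groth.L19.Limit.cc_of_isProConstructible hZ'')
      (Groth.L19.Limit.cc_compl_of_isConstructible hcl)
      (h.trans (closure_minimal (Set.preimage_mono subset_closure)
        (isClosed_closure.preimage (c.π.app i₁).continuous)))
    haveI := hfl j i₁ φ
    exact ⟨j, φ, hjφ.trans (Groth.L19.Limit.preimage_closure_subset_of_generalizingMap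
      (Groth.L19.Limit.cc_of_isProConstructible hZ') _ (Flat.generalizingMap _))⟩
  · rintro ⟨j, φ, h⟩
    haveI := Groth.L19.Limit.flat_π_app hc j fun k ψ => hfl k j ψ
    rw [← Groth.L19.Limit.preimage_preimage_map φ]
    refine (Set.preimage_mono h).trans ?_
    refine (Groth.L19.Limit.preimage_closure_subset_of_generalizingMap
      ((Groth.L19.Limit.cc_of_isProConstructible hZ').preimage _) _ (Flat.generalizingMap _)).trans ?_
    rw [Groth.L19.Limit.preimage_preimage_map φ]

end Groth.Agent.S4786
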