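import Groth.Statements.S4795
import Groth.Agent.L19.Limit.Hom
import Groth.Agent.L19.Limit.Immersion

set_option autoImplicit false
set_option backward.isDefEq.respectTransparency.types false
set_option backward.isDefEq.respectTransparency false
universe u
open CategoryTheory AlgebraicGeometry
open Lim8

namespace Groth.Agent.S4795

/-- Let S = lim S_i be a cofiltered limit of schemes with affine transition maps and S_{i₀} a
quasi-compact quasi-separated stage; let X₀ and Y₀ be schemes of finite presentation over S_{i₀},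
and let X, Y be their base changes along S ⟶ S_{i₀} (base changes are expressed by pullback
squares). Then X and Y are isomorphic over S if and only if, for some index j over i₀, the base
changes X_j and Y_j of X₀ and Y₀ along S_j ⟶ S_{i₀} are isomorphic over S_j. -/
theorem result {I : Type u} [SmallCategory I] [IsCofiltered I]
    (D : I ⥤ Scheme.{u}) (c : Limits.Cone D) (hc : Limits.IsLimit c)
    [∀ (i j : I) (f : i ⟶ j), IsAffineHom (D.map f)] (i₀ : I)
    [CompactSpace (D.obj i₀)] [QuasiSeparatedSpace (D.obj i₀)]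
    {X₀ Y₀ : Scheme.{u}} (a₀ : X₀ ⟶ D.obj i₀) (b₀ : Y₀ ⟶ D.obj i₀)
    [LocallyOfFinitePresentation a₀] [QuasiCompact a₀] [QuasiSeparated a₀]
    [LocallyOfFinitePresentation b₀] [QuasiCompact b₀] [QuasiSeparated b₀]
    {X Y : Scheme.{u}} (a : X ⟶ c.pt) (b : Y ⟶ c.pt) (qX : X ⟶ X₀) (qY : Y ⟶ Y₀)
    (hX : IsPullback qX a a₀ (c.π.app i₀)) (hY : IsPullback qY b b₀ (c.π.app i₀)) :
    (∃ e : X ≅ Y, e.hom ≫ b = a) ↔
      ∃ (j : I) (φ : j ⟶ i₀) (Xj Yj : Scheme.{u}) (aj : Xj ⟶ D.obj j) (bj : Yj ⟶ D.obj j)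
        (pX : Xj ⟶ X₀) (pY : Yj ⟶ Y₀), IsPullback pX aj a₀ (D.map φ) ∧ IsPullback pY bj b₀ (D.map φ) ∧
        ∃ e : Xj ≅ Yj, e.hom ≫ bj = aj := by
  haveI : CompactSpace X₀ := QuasiCompact.compactSpace_of_compactSpace a₀
  haveI : CompactSpace Y₀ := QuasiCompact.compactSpace_of_compactSpace b₀
  haveI : QuasiSeparatedSpace X₀ := quasiSeparatedSpace_of_quasiSeparated a₀
  constructor
  · rintro ⟨e, he⟩
    obtain ⟨j, φ, fj, sX, sY, h1, h2, h3, h4, h5, h6⟩ :=
      Groth.L19.Limit.exists_hom_stage hc hX hY e.hom he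
    have hYj : IsPullback sY b (Limits.pullback.snd b₀ (D.map φ)) (c.π.app j) :=
      IsPullback.of_right (by rw [h4, c.w]; exact hY) h5 (IsPullback.of_hasPullback b₀ (D.map φ))
    have hXj : IsPullback sX a (Limits.pullback.snd a₀ (D.map φ)) (c.π.app j) :=
      IsPullback.of_right (by rw [h2, c.w]; exact hX) h3 (IsPullback.of_hasPullback a₀ (D.map φ))
    have hsq : IsPullback sX e.hom fj sY :=
      IsPullback.of_bot (by rw [he, h1]; exact hXj) h6 hYj
    haveI : CompactSpace ↥(Limits.pullback b₀ (D.map φ)) :=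
      QuasiCompact.compactSpace_of_compactSpace (Limits.pullback.fst b₀ (D.map φ))
    haveI : LocallyOfFiniteType (Limits.pullback.snd b₀ (D.map φ)) :=
      MorphismProperty.pullback_snd (P := @LocallyOfFiniteType) _ _ inferInstance
    haveI : QuasiSeparated (Limits.pullback.snd b₀ (D.map φ)) :=
      MorphismProperty.pullback_snd (P := @QuasiSeparated) _ _ inferInstance
    haveI : LocallyOfFinitePresentation (fj ≫ Limits.pullback.snd b₀ (D.map φ)) := by
      rw [h1]; exact MorphismProperty.pullback_snd (P := @LocallyOfFinitePresentation) _ _ inferInstance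
    haveI : QuasiCompact (fj ≫ Limits.pullback.snd b₀ (D.map φ)) := by
      rw [h1]; exact MorphismProperty.pullback_snd (P := @QuasiCompact) _ _ inferInstance
    haveI : QuasiSeparated (fj ≫ Limits.pullback.snd b₀ (D.map φ)) := by
      rw [h1]; exact MorphismProperty.pullback_snd (P := @QuasiSeparated) _ _ inferInstance
    haveI : LocallyOfFinitePresentation fj :=
      Groth.Agent.S12442.result fj (Limits.pullback.snd b₀ (D.map φ))
    haveI : QuasiSeparated fj := .of_comp fj (Limits.pullback.snd b₀ (D.map φ))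
    haveI : QuasiCompact fj := QuasiCompact.of_comp fj (Limits.pullback.snd b₀ (D.map φ))
    obtain ⟨k, ψ, Xk, Yk, fk, gk, pY, pX, k1, k2, k3⟩ :=
      Groth.L19.Limit.Descends.exists_stage (P := MorphismProperty.isomorphisms Scheme.{u})
        Groth.L19.Limit.descends_isIso hc (f₀ := fj) ⟨⟨inferInstance, inferInstance⟩, inferInstance⟩
        hYj hsq (inferInstanceAs (IsIso e.hom))
    haveI : IsIso fk := k3
    refine ⟨k, ψ ≫ φ, Xk, Yk, fk ≫ gk, gk, pX ≫ Limits.pullback.fst a₀ (D.map φ),
      pY ≫ Limits.pullback.fst b₀ (D.map φ), ?_, ?_, asIso fk, rfl⟩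
    · rw [D.map_comp]
      refine IsPullback.paste_horiz ?_ (IsPullback.of_hasPullback a₀ (D.map φ))
      have := k2.paste_vert k1
      rwa [h1] at this
    · rw [D.map_comp]
      exact k1.paste_horiz (IsPullback.of_hasPullback b₀ (D.map φ))
  · rintro ⟨j, φ, Xj, Yj, aj, bj, pX, pY, h1, h2, e, he⟩
    let sX : X ⟶ Xj := h1.lift qX (a ≫ c.π.app j) (by rw [Category.assoc, c.w]; exact hX.w)
    let sY : Y ⟶ Yj := h2.lift qY (b ≫ c.π.app j) (by rw [Category.assoc, c.w]; exact hY.w)
    have hXj : IsPullback sX a aj (c.π.app j) :=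
      IsPullback.of_right (by rw [h1.lift_fst, c.w]; exact hX) (h1.lift_snd _ _ _) h1
    have hYj : IsPullback sY b bj (c.π.app j) :=
      IsPullback.of_right (by rw [h2.lift_fst, c.w]; exact hY) (h2.lift_snd _ _ _) h2
    let f : X ⟶ Y := hYj.lift (sX ≫ e.hom) a (by rw [Category.assoc, he]; exact hXj.w)
    have hsq : IsPullback sX f e.hom sY :=
      IsPullback.of_bot (by rw [hYj.lift_snd, he]; exact hXj) (hYj.lift_fst _ _ _).symm hYj
    haveI : IsIso f := MorphismProperty.of_isPullback (P := MorphismProperty.isomorphisms Scheme.{u})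
      hsq (inferInstanceAs (IsIso e.hom))
    exact ⟨asIso f, hYj.lift_snd _ _ _⟩

end Groth.Agent.S4795
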