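import Groth.Statements.S4800
import Groth.Agent.L19.Limit.Dominant

set_option autoImplicit false
set_option backward.isDefEq.respectTransparency.types false
set_option backward.isDefEq.respectTransparency false
universe u
open CategoryTheory AlgebraicGeometry
open Lim8

namespace Groth.Agent.S4800

/-- Let S = lim S_i be a cofiltered limit of schemes whose transition maps are affine and flat, and
S_{i₀} a quasi-compact stage; let X₀ ⟶ S_{i₀} be quasi-compact, Y₀ ⟶ S_{i₀} quasi-compact and
quasi-separated, and f₀ : X₀ ⟶ Y₀ a morphism over S_{i₀} such that the closure of its image f₀(X₀)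
is a constructible subset of Y₀. Let f : X ⟶ Y be the base change of f₀ along S ⟶ S_{i₀} (base
changes are expressed by pullback squares). Then f is dominant if and only if, for some index j over
i₀ and the base change f_j : X_j ⟶ Y_j of f₀ along S_j ⟶ S_{i₀}, f_j is dominant. (The published
statement asks instead that the image f₀(X₀) itself be constructible, which is not enough: let R be
the ring of locally constant functions from the Cantor set to a field, take for stages the spectra
of the rings of locally constant functions on the clopen neighbourhoods of a point p, so that the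
limit is the spectrum of the residue field at p, and take Y₀ = Spec R[t]/(m_p t) and X₀ its basic
open subset where t is invertible; the image of X₀ is constructible, the limit morphism is the
inclusion of the punctured affine line into the affine line, which is dominant, and no stage
morphism is dominant. The published proof applies the criterion for a preimage to lie in the closure
of the preimage of a pro-constructible subset along a flat limit, whose hypothesis is that the
closure of that subset is constructible; the image f₀(X₀) is pro-constructible because f₀ is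
quasi-compact, so constructibility of its closure is the hypothesis taken here.) -/
theorem result {I : Type u} [SmallCategory I] [IsCofiltered I]
    (D : I ⥤ Scheme.{u}) (c : Limits.Cone D) (hc : Limits.IsLimit c)
    [∀ (i j : I) (f : i ⟶ j), IsAffineHom (D.map f)] (i₀ : I) [CompactSpace (D.obj i₀)]
    (hfl : ∀ (i j : I) (φ : i ⟶ j), Flat (D.map φ))
    {X₀ Y₀ : Scheme.{u}} (f₀ : X₀ ⟶ Y₀) (g₀ : Y₀ ⟶ D.obj i₀)
    [QuasiCompact (f₀ ≫ g₀)] [QuasiCompact g₀] [QuasiSeparated g₀]
    (hcl : Topology.IsConstructible (closure (Set.range ⇑f₀)))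
    {X Y : Scheme.{u}} (f : X ⟶ Y) (g : Y ⟶ c.pt) (qY : Y ⟶ Y₀) (qX : X ⟶ X₀)
    (hY : IsPullback qY g g₀ (c.π.app i₀)) (hX : IsPullback qX f f₀ qY) :
    IsDominant f ↔ ∃ (j : I) (φ : j ⟶ i₀) (Xj Yj : Scheme.{u}) (fj : Xj ⟶ Yj) (gj : Yj ⟶ D.obj j)
      (pY : Yj ⟶ Y₀) (pX : Xj ⟶ X₀), IsPullback pY gj g₀ (D.map φ) ∧ IsPullback pX fj f₀ pY ∧
      IsDominant fj := by
  haveI : QuasiCompact f₀ := QuasiCompact.of_comp f₀ g₀
  constructor
  · intro hf
    let J : Over i₀ := Over.mk (𝟙 i₀)
    haveI hflat : ∀ {j k : Over i₀} (a : j ⟶ k), Flat ((Groth.L19.Limit.bcDiagram D g₀).map a) :=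
      fun {j k} a => MorphismProperty.of_isPullback (P := @Flat)
        (Groth.L19.Limit.isPullback_bcDiagram_map a).flip (hfl j.left k.left a.left)
    haveI : QuasiCompact (Limits.pullback.fst (D.map J.hom) g₀) :=
      MorphismProperty.pullback_fst (P := @QuasiCompact) _ _ inferInstance
    haveI : CompactSpace ↥(D.obj J.left) := inferInstanceAs (CompactSpace ↥(D.obj i₀))
    haveI hYc : CompactSpace ((Groth.L19.Limit.bcDiagram D g₀).obj J) :=
      QuasiCompact.compactSpace_of_compactSpace (X := Limits.pullback (D.map J.hom) g₀)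
        (Limits.pullback.fst (D.map J.hom) g₀)
    haveI : IsIso (Limits.pullback.snd (D.map J.hom) g₀) := by
      show IsIso (Limits.pullback.snd (D.map (𝟙 i₀)) g₀)
      rw [D.map_id]; infer_instance
    let π₁ : Y ⟶ (Groth.L19.Limit.bcDiagram D g₀).obj J := Groth.L19.Limit.toStage hY J
    let C : Set ↥((Groth.L19.Limit.bcDiagram D g₀).obj J) :=
      (Limits.pullback.snd (D.map J.hom) g₀) ⁻¹' Set.range f₀
    have hclC : closure C = (Limits.pullback.snd (D.map J.hom) g₀) ⁻¹' closure (Set.range f₀) :=
      ((Limits.pullback.snd (D.map J.hom) g₀).homeomorph.preimage_closure _).symm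
    have hccC : Groth.L19.Limit.CC (closure C)ᶜ := by
      rw [hclC, ← Set.preimage_compl]
      exact (Groth.L19.Limit.cc_compl_of_isConstructible hcl).preimage _
    have hrange : Set.range f = (Groth.L19.Limit.toStage hY J) ⁻¹' C := by
      rw [Groth.L19.Limit.range_of_isPullback hX]
      ext y
      show qY y ∈ Set.range f₀ ↔ Limits.pullback.snd (D.map J.hom) g₀ (Groth.L19.Limit.toStage hY J y) ∈ Set.range f₀
      have e1 : (Limits.pullback.snd (D.map J.hom) g₀) ((Groth.L19.Limit.toStage hY J) y) = qY y :=
        (Scheme.Hom.comp_apply (Groth.L19.Limit.toStage hY J) (Limits.pullback.snd (D.map J.hom) g₀) y).symm.trans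
          (congrArg (fun m : Y ⟶ Y₀ => m y) (Groth.L19.Limit.toStage_snd hY J))
      exact iff_of_eq (congrArg (· ∈ Set.range f₀) e1.symm)
    obtain ⟨k, a, hk⟩ := Groth.L19.Limit.exists_preimage_subset (Groth.L19.Limit.isLimitSqCone hc hY)
      (i := J) (A := Set.univ) (B := closure C) Groth.L19.Limit.cc_univ hccC (by
        intro y _
        have hy : y ∈ closure (Set.range f) := by rw [hf.denseRange.closure_range]; trivial
        rw [hrange] at hy
        exact closure_minimal (Set.preimage_mono subset_closure)
          (isClosed_closure.preimage (Groth.L19.Limit.toStage hY J).continuous) hy)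
    refine ⟨k.left, k.hom, _, _, Groth.L19.Limit.stageHom f₀ g₀ k,
      Limits.pullback.fst (D.map k.hom) g₀, Limits.pullback.snd (D.map k.hom) g₀,
      Limits.pullback.snd (D.map k.hom) (f₀ ≫ g₀), (IsPullback.of_hasPullback (D.map k.hom) g₀).flip,
      Groth.L19.Limit.isPullback_stageHom f₀ g₀ k, ⟨?_⟩⟩
    rw [DenseRange, dense_iff_closure_eq]
    refine (congrArg closure
      (Groth.L19.Limit.range_of_isPullback (Groth.L19.Limit.isPullback_stageHom f₀ g₀ k))).trans ?_
    rw [Set.eq_univ_iff_forall]
    intro y
    haveI := hflat a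
    have hyC : y ∈ ((Groth.L19.Limit.bcDiagram D g₀).map a) ⁻¹' closure C := hk trivial
    have := Groth.L19.Limit.preimage_closure_subset_of_generalizingMap
      ((Groth.L19.Limit.cc_range f₀).preimage (Limits.pullback.snd (D.map J.hom) g₀))
      ((Groth.L19.Limit.bcDiagram D g₀).map a) (Flat.generalizingMap _) hyC
    refine closure_mono ?_ this
    intro z hz
    have e : (Groth.L19.Limit.bcDiagram D g₀).map a ≫ Limits.pullback.snd (D.map J.hom) g₀ =
        Limits.pullback.snd (D.map k.hom) g₀ :=
      (Limits.pullback.lift_snd ..).trans (Category.comp_id _)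
    show Limits.pullback.snd (D.map k.hom) g₀ z ∈ Set.range f₀
    have e2 : Limits.pullback.snd (D.map J.hom) g₀ ((Groth.L19.Limit.bcDiagram D g₀).map a z) =
        Limits.pullback.snd (D.map k.hom) g₀ z :=
      (Scheme.Hom.comp_apply ((Groth.L19.Limit.bcDiagram D g₀).map a) (Limits.pullback.snd (D.map J.hom) g₀) z).symm.trans
        (congrArg (fun m : Limits.pullback (D.map k.hom) g₀ ⟶ Y₀ => m z) e)
    exact e2 ▸ hz
  · rintro ⟨j, φ, Xj, Yj, fj, gj, pY, pX, h1, h2, h3⟩
    haveI : QuasiCompact fj := MorphismProperty.of_isPullback (P := @QuasiCompact) h2 inferInstance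
    haveI : Flat (c.π.app j) := Groth.L19.Limit.flat_π_app hc j fun k a => hfl k j a
    let s : Y ⟶ Yj := h1.lift qY (g ≫ c.π.app j) (by rw [Category.assoc, c.w]; exact hY.w)
    let t : X ⟶ Xj := h2.lift qX (f ≫ s) (by rw [Category.assoc, h1.lift_fst]; exact hX.w)
    have hs : IsPullback s g gj (c.π.app j) :=
      IsPullback.of_right (by rw [h1.lift_fst, c.w]; exact hY) (h1.lift_snd _ _ _) h1
    have ht : IsPullback t f fj s :=
      IsPullback.of_right (by rw [h2.lift_fst, h1.lift_fst]; exact hX) (h2.lift_snd _ _ _) h2
    haveI : Flat s := MorphismProperty.of_isPullback (P := @Flat) hs.flip inferInstance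
    exact Groth.L19.Limit.isDominant_of_isPullback ht

end Groth.Agent.S4800
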