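import Groth.Statements.S4806
import Groth.Agent.L19.ClosedImmNhd

set_option autoImplicit false
set_option backward.isDefEq.respectTransparency.types false
set_option backward.isDefEq.respectTransparency false
set_option linter.style.haveILetI false
universe u
open CategoryTheory AlgebraicGeometry
open Lim8

namespace Groth.Agent.S4806

/-- Let f : X ⟶ Y be a proper morphism of finite presentation. Then f is a closed immersion if and only
if, for every point y of Y, the scheme-theoretic fibre of f at y is empty or its structure morphism
to Spec κ(y) is an isomorphism. -/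
theorem result {X Y : Scheme.{u}} (f : X ⟶ Y) [IsProper f]
    [LocallyOfFinitePresentation f] :
    IsClosedImmersion f ↔ ∀ y : Y, IsEmpty (f.fiber y) ∨ IsIso (f.fiberToSpecResidueField y) := by
  constructor
  · intro _ y
    haveI : IsClosedImmersion (f.fiberToSpecResidueField y) :=
      MorphismProperty.pullback_snd _ _ ‹IsClosedImmersion f›
    by_cases h : IsEmpty (f.fiber y)
    · exact Or.inl h
    · rw [not_isEmpty_iff] at h
      haveI : Surjective (f.fiberToSpecResidueField y) :=
        ⟨fun q => ⟨h.some, Subsingleton.elim _ _⟩⟩
      exact Or.inr (isIso_of_isClosedImmersion_of_surjective _)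
  · intro h
    have hloc : ∀ y : Y, ∃ V : Y.Opens, y ∈ V ∧ IsClosedImmersion (f ∣_ V) := fun y => by
      haveI : IsClosedImmersion (f.fiberToSpecResidueField y) := by
        rcases h y with h' | h'
        · haveI : IsEmpty (f.fiber y) := h'
          exact IsClosedImmersion.of_isPreimmersion _ (by rw [Set.range_eq_empty]; exact isClosed_empty)
        · infer_instance
      exact Groth.L19.ClosedImmNhd.exists_nhd_isClosedImmersion_of_fiber f y
    choose V hyV hV using hloc
    exact IsZariskiLocalAtTarget.of_iSup_eq_top (P := @IsClosedImmersion) V
      (TopologicalSpace.Opens.ext (Set.eq_univ_of_forall fun y => by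
        simp only [TopologicalSpace.Opens.coe_iSup, Set.mem_iUnion]; exact ⟨y, hyV y⟩)) hV

end Groth.Agent.S4806
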