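import Groth.Statements.S4807
import Groth.Agent.L16.ImmStage.Basic

set_option autoImplicit false
universe u
open CategoryTheory AlgebraicGeometry
open Lim8

namespace Groth.Agent.S4807

/-- Let Y be a quasi-compact quasi-separated scheme and f : X ⟶ Y a separated morphism of finite type.
Let X' be the relative normalization of Y in X, the spectrum of the integral closure of O_Y in
f_*O_X, with its canonical morphism g : X ⟶ X'. Then f admits a factorization X ⟶ Y' ⟶ Y into an
immersion followed by a finite morphism if and only if g is an immersion. -/
theorem result {X Y : Scheme.{u}} (f : X ⟶ Y)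
    [CompactSpace Y] [QuasiSeparatedSpace Y] [IsSeparated f] [LocallyOfFiniteType f] [QuasiCompact f] :
    (∃ (Y' : Scheme.{u}) (f' : X ⟶ Y') (u : Y' ⟶ Y), IsImmersion f' ∧ IsFinite u ∧ f' ≫ u = f) ↔
      IsImmersion f.toNormalization := by
  constructor
  · rintro ⟨Y', f', u, hi, hu, hf⟩
    haveI : IsImmersion (f.toNormalization ≫ f.normalizationDesc f' u hf.symm) := by
      rw [Scheme.Hom.toNormalization_normalizationDesc]; exact hi
    exact IsImmersion.of_comp _ (f.normalizationDesc f' u hf.symm)
  · intro hj
    exact Groth.L16.ImmStage.exists_immersion_finite f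
end Groth.Agent.S4807
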