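import Groth.Statements.S4809
import Groth.Agent.L19.BiratNormal

set_option autoImplicit false
set_option backward.isDefEq.respectTransparency.types false
set_option backward.isDefEq.respectTransparency false
set_option linter.style.haveILetI false
universe u
open CategoryTheory AlgebraicGeometry
open Lim8

namespace Groth.Agent.S4809

/-- Let Y be an integral normal scheme (every local ring integrally closed), X an integral scheme, and f
: X ⟶ Y a locally quasi-finite morphism (locally of finite type with discrete fibres) which is
birational: f maps the generic point of X to that of Y and its stalk map at the generic point of X,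
the induced homomorphism of function fields, is an isomorphism. Then f is a local isomorphism, and f
is an open immersion as soon as it is separated. -/
theorem result {X Y : Scheme.{u}} [IsIntegral X] [IsIntegral Y]
    (hN : ∀ y : Y, IsIntegrallyClosed (Y.presheaf.stalk y)) (f : X ⟶ Y) [LocallyQuasiFinite f]
    [LocallyOfFiniteType f] (hgen : f (genericPoint X) = genericPoint Y)
    (hbir : IsIso (f.stalkMap (genericPoint X))) :
    IsLocalIso f ∧ (IsSeparated f → IsOpenImmersion f) := by
  have hloc : ∀ x : X, ∃ U : X.Opens, x ∈ U ∧ IsOpenImmersion (U.ι ≫ f) := fun x =>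
    Groth.L19.exists_open_isOpenImmersion_of_birational f hgen hbir x (f.quasiFiniteAt x) (hN _)
  refine ⟨⟨hloc⟩, fun hs => ?_⟩
  haveI : IsSeparated f := hs
  refine IsOpenImmersion.of_forall_source_exists f ?_ fun x => ?_
  swap
  · obtain ⟨U, hxU, hU⟩ := hloc x
    exact ⟨U.toScheme, U.ι, inferInstance, by rw [Scheme.Opens.opensRange_ι]; exact hxU, hU⟩
  intro z z' h
  obtain ⟨D, hzD, hiso⟩ := Groth.L19.exists_isIso_morphismRestrict_of_birational f hgen hbir z
    (f.quasiFiniteAt z) (hN _)
  have hz' : z' ∈ f ⁻¹ᵁ D := by show f z' ∈ D; rw [← h]; exact hzD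
  have := (f ∣_ D).isOpenEmbedding.injective (a₁ := ⟨z, hzD⟩) (a₂ := ⟨z', hz'⟩)
    (Subtype.ext (by rw [morphismRestrict_base_coe, morphismRestrict_base_coe]; exact h))
  exact congrArg Subtype.val this

end Groth.Agent.S4809
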