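import Groth.Statements.S4808
import Groth.Agent.S4809

set_option autoImplicit false
set_option backward.isDefEq.respectTransparency.types false
set_option backward.isDefEq.respectTransparency false
set_option linter.style.haveILetI false
universe u
open CategoryTheory AlgebraicGeometry
open Lim8

namespace Groth.Agent.S4808

/-- Let Y' and Y be integral schemes, Y normal (every local ring of Y is integrally closed), and u : Y'
⟶ Y a finite morphism which is birational: u maps the generic point of Y' to the generic point of Y
and the stalk map of u at the generic point of Y', which is the induced homomorphism of function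
fields, is an isomorphism. Then u is an isomorphism. -/
theorem result {Y' Y : Scheme.{u}} [IsIntegral Y'] [IsIntegral Y]
    (hN : ∀ y : Y, IsIntegrallyClosed (Y.presheaf.stalk y)) (u : Y' ⟶ Y) [IsFinite u]
    (hgen : u (genericPoint Y') = genericPoint Y)
    (hbir : IsIso (u.stalkMap (genericPoint Y'))) : IsIso u := by
  haveI hoi : IsOpenImmersion u := (Groth.Agent.S4809.result hN u hgen hbir).2 inferInstance
  haveI : Surjective u := ⟨fun y => by
    have h1 : closure ({genericPoint Y} : Set Y) ⊆ Set.range u :=
      u.isClosedMap.isClosed_range.closure_subset_iff.mpr
        (Set.singleton_subset_iff.mpr ⟨genericPoint Y', hgen⟩)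
    rw [genericPoint_closure] at h1
    exact h1 (Set.mem_univ y)⟩
  exact (isIso_iff_isOpenImmersion_and_surjective u).mpr ⟨inferInstance, inferInstance⟩

end Groth.Agent.S4808
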