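import Groth.Statements.S4810
import Groth.Agent.S4809
import Groth.Agent.L19.NormalSections
import Mathlib.AlgebraicGeometry.Morphisms.QuasiFinite

set_option autoImplicit false
set_option backward.isDefEq.respectTransparency.types false
set_option backward.isDefEq.respectTransparency false
set_option linter.style.haveILetI false
universe u
open CategoryTheory AlgebraicGeometry
open Lim8

namespace Groth.Agent.S4810

/-- Let Y be an integral scheme, X an integral normal scheme (every local ring integrally closed) and f
: X ⟶ Y a dominant locally quasi-finite morphism (locally of finite type with discrete fibres). Let
Y' be the relative normalization of Y in X (here the normalization of Y in the function field of X)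
and f' : X ⟶ Y' the canonical morphism, so that f is f' followed by the canonical morphism Y' ⟶ Y.
Then f' is a local isomorphism, and f' is an open immersion if and only if f is separated. (The
published statement assumes f only locally quasi-finite; this row takes f moreover quasi-compact and
quasi-separated, the setting in which the relative normalization is built chart by chart from
integral closures.) -/
theorem result {X Y : Scheme.{u}} [IsIntegral X] [IsIntegral Y]
    (hN : ∀ x : X, IsIntegrallyClosed (X.presheaf.stalk x)) (f : X ⟶ Y) [IsDominant f]
    [LocallyQuasiFinite f] [LocallyOfFiniteType f] [QuasiCompact f] [QuasiSeparated f] :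
    IsLocalIso f.toNormalization ∧ (IsOpenImmersion f.toNormalization ↔ IsSeparated f) := by
  have hξ : f (genericPoint X) = genericPoint Y :=
    ((genericPoint_spec X).image f.continuous).eq (by
      rw [Set.image_univ, f.denseRange.closure_range]; exact genericPoint_spec Y)
  have hfin : (f.stalkMap (genericPoint X)).hom.Finite := by
    letI := (f.stalkMap (genericPoint X)).hom.toAlgebra
    haveI : IsArtinianRing (Y.presheaf.stalk (f (genericPoint X))) := by
      have key : ∀ z : Y, z = genericPoint Y → IsArtinianRing (Y.presheaf.stalk z) := by
        rintro z rfl
        exact inferInstanceAs (IsArtinianRing Y.functionField)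
      exact key _ hξ
    haveI : Algebra.QuasiFinite (Y.presheaf.stalk (f (genericPoint X)))
        (X.presheaf.stalk (genericPoint X)) := f.quasiFiniteAt (genericPoint X)
    exact (Module.Finite.of_quasiFinite :
      Module.Finite (Y.presheaf.stalk (f (genericPoint X))) (X.presheaf.stalk (genericPoint X)))
  haveI : LocallyOfFiniteType (f.toNormalization ≫ f.fromNormalization) := by
    rw [f.toNormalization_fromNormalization]; infer_instance
  haveI : LocallyQuasiFinite (f.toNormalization ≫ f.fromNormalization) := by
    rw [f.toNormalization_fromNormalization]; infer_instance
  haveI : LocallyOfFiniteType f.toNormalization := locallyOfFiniteType_of_comp f.toNormalization f.fromNormalization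
  haveI : LocallyQuasiFinite f.toNormalization := LocallyQuasiFinite.of_comp f.toNormalization f.fromNormalization
  obtain ⟨hloc, hopen⟩ := Groth.Agent.S4809.result
    (fun y => (Groth.L19.NormalSec.isNormalScheme_normalization f hN y).2) f.toNormalization
    (Groth.L19.NormalSec.toNormalization_genericPoint f)
    (Groth.L19.NormalSec.isIso_stalkMap_toNormalization f hN hfin)
  refine ⟨hloc, fun h => ?_, fun h => hopen ?_⟩
  · haveI := h
    rw [← f.toNormalization_fromNormalization]
    infer_instance
  · haveI : IsSeparated (f.toNormalization ≫ f.fromNormalization) := by
      rw [f.toNormalization_fromNormalization]; exact h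
    exact IsSeparated.of_comp f.toNormalization f.fromNormalization

end Groth.Agent.S4810
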