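import Groth.Statements.S4815
import Groth.Agent.L19.Limit.Immersion
import Groth.Agent.L05.DescendFP

set_option autoImplicit false
set_option backward.isDefEq.respectTransparency.types false
set_option backward.isDefEq.respectTransparency false
set_option linter.style.haveILetI false
universe u
open CategoryTheory AlgebraicGeometry
open Lim8

open CategoryTheory.Limits

namespace Groth.Agent.S4815

/-- Let S = lim S_i be a cofiltered limit of schemes with affine transition maps and S_{i₀} a
quasi-compact quasi-separated stage. Then every subscheme of finite presentation of S, that is every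
immersion ι : Z ⟶ S which is locally of finite presentation and quasi-compact, is the base change
along S ⟶ S_j of an immersion of finite presentation Z_j ⟶ S_j, for some index j over i₀ (the base
change is expressed by a pullback square). -/
theorem result {I : Type u} [SmallCategory I] [IsCofiltered I]
    (D : I ⥤ Scheme.{u}) (c : Limits.Cone D) (hc : Limits.IsLimit c)
    [∀ (i j : I) (f : i ⟶ j), IsAffineHom (D.map f)] (i₀ : I)
    [CompactSpace (D.obj i₀)] [QuasiSeparatedSpace (D.obj i₀)]
    {Z : Scheme.{u}} (ι : Z ⟶ c.pt) [IsImmersion ι] [LocallyOfFinitePresentation ι] [QuasiCompact ι] :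
    ∃ (j : I) (_ : j ⟶ i₀) (Zj : Scheme.{u}) (ιj : Zj ⟶ D.obj j) (q : Z ⟶ Zj),
      IsImmersion ιj ∧ LocallyOfFinitePresentation ιj ∧ QuasiCompact ιj ∧ IsPullback q ι ιj (c.π.app j) := by
  haveI hA : ∀ {a b : I} (t : a ⟶ b), IsAffineHom (D.map t) := fun t => ‹∀ (i j : I) (f : i ⟶ j), IsAffineHom (D.map f)› _ _ t
  haveI : ∀ {a b : Over i₀} (t : a ⟶ b), IsAffineHom ((Over.forget i₀ ⋙ D).map t) := fun t => hA t.left
  haveI : ∀ a : Over i₀, CompactSpace ((Over.forget i₀ ⋙ D).obj a) := fun a =>
    QuasiCompact.compactSpace_of_compactSpace (D.map a.hom)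
  haveI : ∀ a : Over i₀, QuasiSeparatedSpace ((Over.forget i₀ ⋙ D).obj a) := fun a =>
    quasiSeparatedSpace_of_quasiSeparated (D.map a.hom)
  obtain ⟨k, Zk, fk, g, h1, h2, h3, h4⟩ := Groth.L05.DescendFP.exists_stage
    ((Functor.Initial.isLimitWhiskerEquiv (Over.forget i₀) c).symm hc) ι
  haveI := h1
  haveI := h2
  haveI := h3
  have h4' : IsPullback g ι fk (c.π.app k.left) := h4
  haveI : CompactSpace (D.obj k.left) := QuasiCompact.compactSpace_of_compactSpace (D.map k.hom)
  obtain ⟨j, φ, hj⟩ := Groth.L19.Limit.descends_isImmersion hc (i := k.left) fk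
    ⟨⟨inferInstance, inferInstance⟩, inferInstance⟩ ((Groth.L19.Limit.pb_iff_of_isPullback h4').mp ‹IsImmersion ι›)
  let q : Z ⟶ pullback (D.map φ) fk := pullback.lift (ι ≫ c.π.app j) g (by rw [Category.assoc, c.w, h4'.w])
  refine ⟨j, φ ≫ k.hom, _, pullback.fst (D.map φ) fk, q, hj,
    MorphismProperty.pullback_fst (P := @LocallyOfFinitePresentation) _ _ h1,
    MorphismProperty.pullback_fst (P := @QuasiCompact) _ _ h2, ?_⟩
  refine IsPullback.of_right ?_ (pullback.lift_fst _ _ _) (IsPullback.of_hasPullback (D.map φ) fk).flip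
  rw [c.w, show q ≫ pullback.snd (D.map φ) fk = g from pullback.lift_snd _ _ _]
  exact h4'

end Groth.Agent.S4815
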