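import Groth.Statements.S4816
import Groth.Agent.L19.Limit.Immersion

set_option autoImplicit false
set_option backward.isDefEq.respectTransparency.types false
set_option backward.isDefEq.respectTransparency false
set_option linter.style.haveILetI false
universe u
open CategoryTheory AlgebraicGeometry
open Lim8

namespace Groth.Agent.S4816

open CategoryTheory.Limits in
/-- Let S = lim S_i be a cofiltered limit of schemes with affine transition maps and S_{i₀} a
quasi-compact stage; let ι₁ : Z₁ ⟶ S_{i₀} and ι₂ : Z₂ ⟶ S_{i₀} be two subschemes of finite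
presentation of S_{i₀} (immersions which are locally of finite presentation and quasi-compact), with
base changes Z₁ ×_{S_{i₀}} T ⟶ T to T = S and to T = S_j. Then Z₁ ×_{S_{i₀}} S is a subscheme of Z₂
×_{S_{i₀}} S (its immersion into S factors through that of Z₂ ×_{S_{i₀}} S) if and only if, for some
index j over i₀, Z₁ ×_{S_{i₀}} S_j is a subscheme of Z₂ ×_{S_{i₀}} S_j. -/
theorem result {I : Type u} [SmallCategory I] [IsCofiltered I]
    (D : I ⥤ Scheme.{u}) (c : Limits.Cone D) (hc : Limits.IsLimit c)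
    [∀ (i j : I) (f : i ⟶ j), IsAffineHom (D.map f)] (i₀ : I) [CompactSpace (D.obj i₀)]
    {Z₁ Z₂ : Scheme.{u}} (ι₁ : Z₁ ⟶ D.obj i₀) (ι₂ : Z₂ ⟶ D.obj i₀)
    [IsImmersion ι₁] [LocallyOfFinitePresentation ι₁] [QuasiCompact ι₁]
    [IsImmersion ι₂] [LocallyOfFinitePresentation ι₂] [QuasiCompact ι₂] :
    (∃ k : pullback ι₁ (c.π.app i₀) ⟶ pullback ι₂ (c.π.app i₀),
        k ≫ pullback.snd ι₂ (c.π.app i₀) = pullback.snd ι₁ (c.π.app i₀)) ↔
      ∃ (j : I) (φ : j ⟶ i₀) (k : pullback ι₁ (D.map φ) ⟶ pullback ι₂ (D.map φ)),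
        k ≫ pullback.snd ι₂ (D.map φ) = pullback.snd ι₁ (D.map φ) := by
  haveI hA : ∀ {a b : I} (t : a ⟶ b), IsAffineHom (D.map t) := fun t => ‹∀ (i j : I) (f : i ⟶ j), IsAffineHom (D.map f)› _ _ t
  haveI : CompactSpace Z₁ := QuasiCompact.compactSpace_of_compactSpace ι₁
  haveI : Mono (pullback.fst ι₁ ι₂) := inferInstance
  have fac : ∀ {T : Scheme.{u}} (t : T ⟶ Z₁),
      (∃ m : T ⟶ Z₂, m ≫ ι₂ = t ≫ ι₁) ↔ IsIso (pullback.fst t (pullback.fst ι₁ ι₂)) := by
    intro T t
    constructor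
    · rintro ⟨m, hm⟩
      haveI : IsSplitEpi (pullback.fst t (pullback.fst ι₁ ι₂)) :=
        ⟨⟨⟨pullback.lift (𝟙 T) (pullback.lift t m hm.symm) (by rw [pullback.lift_fst, Category.id_comp]),
          pullback.lift_fst _ _ _⟩⟩⟩
      exact isIso_of_mono_of_isSplitEpi _
    · intro h
      refine ⟨inv (pullback.fst t (pullback.fst ι₁ ι₂)) ≫ pullback.snd _ _ ≫ pullback.snd ι₁ ι₂, ?_⟩
      rw [Category.assoc, Category.assoc, ← pullback.condition, ← pullback.condition_assoc, IsIso.inv_hom_id_assoc]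
  constructor
  · rintro ⟨k, hk⟩
    have h0 := (fac (pullback.fst ι₁ (c.π.app i₀))).1 ⟨k ≫ pullback.fst ι₂ (c.π.app i₀), by
      rw [Category.assoc, pullback.condition, reassoc_of% hk, pullback.condition]⟩
    have hQ : Groth.L19.Limit.qcqsfp (pullback.fst ι₁ ι₂) :=
      ⟨⟨MorphismProperty.pullback_fst (P := @QuasiCompact) _ _ inferInstance,
        MorphismProperty.pullback_fst (P := @QuasiSeparated) _ _ inferInstance⟩,
        MorphismProperty.pullback_fst (P := @LocallyOfFinitePresentation) _ _ inferInstance⟩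
    obtain ⟨j, φ, hj⟩ := Groth.L19.Limit.descends_isIso.exists_pb (P := MorphismProperty.isomorphisms Scheme.{u})
      hc (pullback.fst ι₁ ι₂) ι₁ hQ (IsPullback.of_hasPullback ι₁ (c.π.app i₀)) h0
    obtain ⟨m, hm⟩ := (fac (pullback.snd (D.map φ) ι₁)).2 hj
    refine ⟨j, φ, pullback.lift ((pullbackSymmetry ι₁ (D.map φ)).hom ≫ m) (pullback.snd ι₁ (D.map φ)) ?_,
      pullback.lift_snd _ _ _⟩
    rw [Category.assoc, hm, pullbackSymmetry_hom_comp_snd_assoc, pullback.condition]
  · rintro ⟨j, φ, k, hk⟩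
    let s : pullback ι₁ (c.π.app i₀) ⟶ pullback ι₁ (D.map φ) :=
      pullback.lift (pullback.fst ι₁ (c.π.app i₀)) (pullback.snd ι₁ (c.π.app i₀) ≫ c.π.app j)
        (by rw [Category.assoc, c.w, pullback.condition])
    refine ⟨pullback.lift (s ≫ k ≫ pullback.fst ι₂ (D.map φ)) (pullback.snd ι₁ (c.π.app i₀)) ?_,
      pullback.lift_snd _ _ _⟩
    rw [Category.assoc, Category.assoc, pullback.condition, reassoc_of% hk, pullback.lift_snd_assoc,
      Category.assoc, c.w]

end Groth.Agent.S4816
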