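import Groth.Statements.S4818
import Groth.Agent.L19.Limit.Finite
import Mathlib.AlgebraicGeometry.Morphisms.Immersion

set_option autoImplicit false
set_option backward.isDefEq.respectTransparency.types false
set_option backward.isDefEq.respectTransparency false
universe u
open CategoryTheory AlgebraicGeometry
open Lim8

namespace Groth.Agent.S4818

open CategoryTheory.Limits in
/-- Let S = lim S_i be a cofiltered limit of schemes with affine transition maps and S_{i₀} a
quasi-compact stage; let ι₀ : Z₀ ⟶ S_{i₀} be a subscheme of finite presentation (an immersion which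
is locally of finite presentation and quasi-compact). Then the base change Z₀ ×_{S_{i₀}} S ⟶ S of ι₀
is a closed immersion if and only if, for some index j over i₀, the base change Z₀ ×_{S_{i₀}} S_j ⟶
S_j is a closed immersion. This is the case of closed subschemes. -/
theorem result {I : Type u} [SmallCategory I] [IsCofiltered I]
    (D : I ⥤ Scheme.{u}) (c : Limits.Cone D) (hc : Limits.IsLimit c)
    [∀ (i j : I) (f : i ⟶ j), IsAffineHom (D.map f)] (i₀ : I) [CompactSpace (D.obj i₀)]
    {Z₀ : Scheme.{u}} (ι₀ : Z₀ ⟶ D.obj i₀) [IsImmersion ι₀] [LocallyOfFinitePresentation ι₀] [QuasiCompact ι₀] :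
    IsClosedImmersion (pullback.snd ι₀ (c.π.app i₀)) ↔
      ∃ (j : I) (φ : j ⟶ i₀), IsClosedImmersion (pullback.snd ι₀ (D.map φ)) := by
  have key : ∀ {T : Scheme.{u}} (g : T ⟶ D.obj i₀), IsClosedImmersion (pullback.snd ι₀ g) ↔
      Groth.L19.Limit.Pb @IsClosedImmersion ι₀ g := fun g =>
    Groth.L19.Limit.pb_iff_of_isPullback (IsPullback.of_hasPullback ι₀ g)
  constructor
  · intro h
    obtain ⟨j, φ, hj⟩ := Groth.L19.Limit.descends_isClosedImmersion hc ι₀
      ⟨⟨inferInstance, inferInstance⟩, inferInstance⟩ ((key _).mp h)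
    exact ⟨j, φ, (key _).mpr hj⟩
  · rintro ⟨j, φ, hj⟩
    refine (key _).mpr ?_
    rw [← c.w φ]
    exact Groth.L19.Limit.pb_comp _ ((key _).mp hj)

end Groth.Agent.S4818
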