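import Groth.Statements.S4821
import Mathlib.RingTheory.Localization.Ideal
import Mathlib.RingTheory.MvPolynomial.Localization
import Mathlib.RingTheory.LocalRing.ResidueField.Ideal
import Mathlib.RingTheory.Localization.FractionRing

set_option autoImplicit false
set_option backward.isDefEq.respectTransparency.types false
set_option backward.isDefEq.respectTransparency false
set_option linter.style.haveILetI false
universe u
open Cons9

namespace Groth.Agent.S4821

/-- Let A be an integral domain with fraction field K, and (P_i) a finite family of polynomials in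
A[T_1, …, T_m], generating an ideal 𝔞; for a point s of Spec A write 𝔞_s for the ideal of κ(s)[T_1,
…, T_m] generated by the images of the P_i. If the zero locus of 𝔞_η in affine m-space over K = κ(η)
is empty, that is if 𝔞_η is the unit ideal, then there is an open neighbourhood D(f) (f ≠ 0) of the
generic point such that 𝔞_s is the unit ideal (its zero locus is empty) for every s in D(f). -/
theorem result {A : Type u} [CommRing A] [IsDomain A] {m : ℕ}
    (P : Finset (MvPolynomial (Fin m) A))
    (hη : Ideal.span ((MvPolynomial.map (algebraMap A (FractionRing A))) '' (P : Set (MvPolynomial (Fin m) A))) = ⊤) :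
    ∃ f : A, f ≠ 0 ∧ ∀ p : PrimeSpectrum A, f ∉ p.asIdeal →
      Ideal.span ((MvPolynomial.map (algebraMap A p.asIdeal.ResidueField)) '' (P : Set (MvPolynomial (Fin m) A))) = ⊤ := by
  classical
  let K := FractionRing A
  let I : Ideal (MvPolynomial (Fin m) A) := Ideal.span (P : Set (MvPolynomial (Fin m) A))
  letI := MvPolynomial.algebraMvPolynomial (R := A) (S := K) (σ := Fin m)
  haveI : IsLocalization ((nonZeroDivisors A).map (MvPolynomial.C (σ := Fin m))) (MvPolynomial (Fin m) K) :=
    MvPolynomial.isLocalization (nonZeroDivisors A) K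
  have hI : I.map (algebraMap (MvPolynomial (Fin m) A) (MvPolynomial (Fin m) K)) = ⊤ := by
    rw [Ideal.map_span]
    exact hη
  obtain ⟨x, hxM, hxI⟩ := Set.not_disjoint_iff.mp fun h =>
    (IsLocalization.map_algebraMap_ne_top_iff_disjoint ((nonZeroDivisors A).map (MvPolynomial.C (σ := Fin m)))
      (MvPolynomial (Fin m) K) I).mpr h hI
  obtain ⟨f, hf, rfl⟩ := Submonoid.mem_map.mp hxM
  refine ⟨f, nonZeroDivisors.ne_zero hf, fun p hp => ?_⟩
  rw [← Ideal.map_span]
  refine Ideal.eq_top_of_isUnit_mem _ (Ideal.mem_map_of_mem _ hxI) ?_
  rw [MvPolynomial.map_C]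
  refine (IsUnit.map MvPolynomial.C (isUnit_iff_ne_zero.mpr fun h => hp ?_))
  exact Ideal.algebraMap_residueField_eq_zero.mp h

end Groth.Agent.S4821
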