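import Groth.Statements.S4824
import Groth.Agent.L25.GeomIrred
import Mathlib.RingTheory.Polynomial.UniqueFactorization
import Mathlib.RingTheory.TensorProduct.MvPolynomial
import Mathlib.AlgebraicGeometry.Pullbacks
import Mathlib.RingTheory.Flat.Basic

set_option autoImplicit false
open CategoryTheory AlgebraicGeometry
universe u
open Cons9

namespace Groth.Agent.S4824

open scoped TensorProduct
open CategoryTheory.Limits

section
variable {k : Type u} [Field k] {n : ℕ} (F : MvPolynomial (Fin n) k)

/-- the hypersurface algebra -/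
abbrev Hyp : Type u := MvPolynomial (Fin n) k ⧸ Ideal.span ({F} : Set (MvPolynomial (Fin n) k))

variable (K : Type u) [Field K] [Algebra k K]

/-- base change of a hypersurface algebra -/
noncomputable def quotEquiv :
    (K ⊗[k] Hyp F) ≃+* MvPolynomial (Fin n) K ⧸ Ideal.span ({MvPolynomial.map (algebraMap k K) F} : Set _) := by
  let I : Ideal (MvPolynomial (Fin n) K) := Ideal.span {MvPolynomial.map (algebraMap k K) F}
  let g : MvPolynomial (Fin n) k →ₐ[k] MvPolynomial (Fin n) K ⧸ I :=
    MvPolynomial.aeval fun i => Ideal.Quotient.mk I (MvPolynomial.X i)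
  have hg : ∀ p, g p = Ideal.Quotient.mk I (MvPolynomial.map (algebraMap k K) p) := fun p => by
    induction p using MvPolynomial.induction_on with
    | C c =>
      simp only [g, MvPolynomial.aeval_C, MvPolynomial.map_C]
      rfl
    | add p q hp hq => rw [map_add, hp, hq, map_add, map_add]
    | mul_X p i hp => rw [map_mul, hp, map_mul, map_mul, MvPolynomial.map_X]; simp [g]
  have hF : ∀ a ∈ Ideal.span ({F} : Set (MvPolynomial (Fin n) k)), g a = 0 := fun a ha => by
    obtain ⟨c, rfl⟩ := Ideal.mem_span_singleton'.mp ha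
    rw [map_mul, hg F, Ideal.Quotient.eq_zero_iff_mem.mpr (Ideal.mem_span_singleton_self _), mul_zero]
  let g' : Hyp F →ₐ[k] MvPolynomial (Fin n) K ⧸ I := Ideal.Quotient.liftₐ _ g hF
  let φ : K ⊗[k] Hyp F →ₐ[K] MvPolynomial (Fin n) K ⧸ I :=
    Algebra.TensorProduct.lift (Algebra.ofId K _) g' fun _ _ => Commute.all _ _
  let h : MvPolynomial (Fin n) K →ₐ[K] K ⊗[k] Hyp F :=
    MvPolynomial.aeval fun i => (1 : K) ⊗ₜ[k] (Ideal.Quotient.mk _ (MvPolynomial.X i) : Hyp F)
  have hh : ∀ p, h (MvPolynomial.map (algebraMap k K) p) = (1 : K) ⊗ₜ[k] (Ideal.Quotient.mk _ p : Hyp F) := fun p => by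
    induction p using MvPolynomial.induction_on with
    | C c =>
      simp only [h, MvPolynomial.map_C, MvPolynomial.aeval_C]
      rw [Algebra.TensorProduct.algebraMap_apply, Algebra.algebraMap_self, RingHom.id_apply,
        show (Ideal.Quotient.mk _ (MvPolynomial.C c) : Hyp F) = c • 1 from
          Algebra.algebraMap_eq_smul_one (A := Hyp F) c,
        TensorProduct.tmul_smul, TensorProduct.smul_tmul', Algebra.smul_def, mul_one]
    | add p q hp hq => rw [map_add, map_add, hp, hq, map_add, TensorProduct.tmul_add]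
    | mul_X p i hp =>
      rw [map_mul, map_mul, MvPolynomial.map_X, hp, map_mul]
      simp [h]
  have hI : ∀ a ∈ I, h a = 0 := fun a ha => by
    obtain ⟨c, rfl⟩ := Ideal.mem_span_singleton'.mp ha
    rw [map_mul, hh F, Ideal.Quotient.eq_zero_iff_mem.mpr (Ideal.mem_span_singleton_self _),
      TensorProduct.tmul_zero]
    exact mul_zero (h c)
  let ψ : MvPolynomial (Fin n) K ⧸ I →ₐ[K] K ⊗[k] Hyp F := Ideal.Quotient.liftₐ I h hI
  refine (AlgEquiv.ofAlgHom φ ψ ?_ ?_).toRingEquiv
  · refine Ideal.Quotient.algHom_ext _ (MvPolynomial.algHom_ext fun i => ?_)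
    simp [φ, ψ, h, g', g]
  · refine Algebra.TensorProduct.ext (Subsingleton.elim _ _) (Ideal.Quotient.algHom_ext _
      (MvPolynomial.algHom_ext fun i => ?_))
    simp [φ, ψ, h, g', g]

theorem irreducible_iff_isDomain (hF : F ≠ 0) :
    Irreducible (MvPolynomial.map (algebraMap k K) F) ↔ IsDomain (K ⊗[k] Hyp F) := by
  have h0 : MvPolynomial.map (algebraMap k K) F ≠ 0 := fun h => hF
    (MvPolynomial.map_injective _ (algebraMap k K).injective (h.trans (map_zero _).symm))
  rw [(quotEquiv F K).toMulEquiv.isDomain_iff, Ideal.Quotient.isDomain_iff_prime,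
    Ideal.span_singleton_prime h0, UniqueFactorizationMonoid.irreducible_iff_prime]

theorem isDomain_tensor_of_algClosed (Ω : Type u) [Field Ω] [Algebra k Ω] [IsAlgClosed Ω]
    (C : Type u) [CommRing C] [Algebra k C] [IsDomain (Ω ⊗[k] C)] : IsDomain (K ⊗[k] C) := by
  obtain ⟨m, hm⟩ := Ideal.exists_maximal (Ω ⊗[k] K)
  letI := Ideal.Quotient.field m
  let L := (Ω ⊗[k] K) ⧸ m
  let j : K →ₐ[k] L := (Ideal.Quotient.mkₐ k m).comp Algebra.TensorProduct.includeRight
  haveI : IsDomain (L ⊗[Ω] (Ω ⊗[k] C)) := Groth.L25.GeomIrred.isDomain_tensorProduct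
  haveI : IsDomain (L ⊗[k] C) :=
    (Algebra.TensorProduct.cancelBaseChange k Ω L L C).toMulEquiv.isDomain_iff.mp ‹_›
  have hinj : Function.Injective (Algebra.TensorProduct.map j (AlgHom.id k C)) :=
    Module.Flat.rTensor_preserves_injective_linearMap (M := C) j.toLinearMap j.toRingHom.injective
  exact hinj.isDomain (Algebra.TensorProduct.map j (AlgHom.id k C)).toRingHom

end

/-- Let k be a field, Ω an algebraically closed extension of k and F a non-constant polynomial in k[T_1,
…, T_n]. The following are equivalent: (a) the k-scheme Spec(k[T_1, …, T_n]/(F)) is geometrically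
integral; (b) for every extension field K of k the image of F in K[T_1, …, T_n] is irreducible; (c)
the image of F in Ω[T_1, …, T_n] is irreducible. (Such an F is called geometrically irreducible.) -/
theorem result {k : Type u} [Field k] (Ω : Type u) [Field Ω] [Algebra k Ω]
    [IsAlgClosed Ω] {n : ℕ} (F : MvPolynomial (Fin n) k) (hF : 0 < F.totalDegree) :
    List.TFAE [
      GeometricallyIntegral (Spec.map (CommRingCat.ofHom
        (algebraMap k (MvPolynomial (Fin n) k ⧸ Ideal.span ({F} : Set (MvPolynomial (Fin n) k)))))),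
      ∀ (K : Type u) [Field K] [Algebra k K], Irreducible (MvPolynomial.map (algebraMap k K) F),
      Irreducible (MvPolynomial.map (algebraMap k Ω) F)] := by
  have hne : F ≠ 0 := fun h => by simp [h] at hF
  have hgeo : GeometricallyIntegral (Spec.map (CommRingCat.ofHom
        (algebraMap k (MvPolynomial (Fin n) k ⧸ Ideal.span ({F} : Set (MvPolynomial (Fin n) k)))))) ↔
      ∀ (K : Type u) [Field K] [Algebra k K], Irreducible (MvPolynomial.map (algebraMap k K) F) := by
    haveI : ObjectProperty.IsClosedUnderIsomorphisms AlgebraicGeometry.IsIntegral :=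
      ⟨fun e _ => IsIntegral.of_isIso e.hom⟩
    rw [geometricallyIntegral_iff, geometrically_iff_of_commRing_of_isClosedUnderIsomorphisms]
    refine forall_congr' fun K => forall_congr' fun _ => forall_congr' fun _ => ?_
    rw [irreducible_iff_isDomain F K hne]
    let e := pullbackSymmetry _ _ ≪≫ pullbackSpecIso k K
      (MvPolynomial (Fin n) k ⧸ Ideal.span ({F} : Set (MvPolynomial (Fin n) k)))
    refine Iff.trans ⟨fun h => @IsIntegral.of_isIso _ _ h e.hom _, fun h => @IsIntegral.of_isIso _ _ h e.inv _⟩ ?_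
    exact affine_isIntegral_iff _
  tfae_have 1 ↔ 2 := hgeo
  tfae_have 2 → 3 := fun h => h Ω
  tfae_have 3 → 2 := fun h K _ _ => by
    rw [irreducible_iff_isDomain F K hne]
    haveI := (irreducible_iff_isDomain F Ω hne).mp h
    exact isDomain_tensor_of_algClosed K Ω (Hyp F)
  tfae_finish

end Groth.Agent.S4824
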