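import Mathlib.AlgebraicGeometry.Morphisms.QuasiCompact
import Mathlib.AlgebraicGeometry.PullbackCarrier
import Mathlib.Topology.LocalAtTarget
import Groth.Statements.S9495
-- import your own Groth.Agent.* helpers here

set_option autoImplicit false
universe u
open SchMor

namespace Groth.Agent.S9495

open AlgebraicGeometry in
open CategoryTheory in
/-- For a quasi-compact morphism of schemes f : X → S, the image f(X) is closed in S if and only if it
is stable under specialization. -/
theorem result
    {X S : Scheme.{u}} (f : X ⟶ S) [QuasiCompact f] :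
    IsClosed (Set.range f) ↔ StableUnderSpecialization (Set.range f) := by
  refine ⟨fun h => h.stableUnderSpecialization, fun h => ?_⟩
  rw [TopologicalSpace.IsOpenCover.isClosed_iff_coe_preimage
    (iSup_affineOpens_eq_top S : TopologicalSpace.IsOpenCover _)]
  intro W
  set j := W.2.fromSpec with hj
  haveI : CompactSpace (Limits.pullback f j : Scheme) :=
    HasAffineProperty.iff_of_isAffine.mp
      (CategoryTheory.MorphismProperty.pullback_snd f j ‹QuasiCompact f›)
  obtain ⟨R, g, hg⟩ := compactSpace_iff_exists.mp ‹CompactSpace (Limits.pullback f j : Scheme)›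
  obtain ⟨φ, hφ⟩ := Spec.map_surjective (g ≫ Limits.pullback.snd f j)
  have hrange : Set.range (Spec.map φ) = j ⁻¹' Set.range f := by
    rw [hφ, Scheme.Hom.comp_base, TopCat.coe_comp, hg.range_comp, Scheme.Pullback.range_snd]
  have hc : IsClosed (j ⁻¹' Set.range f) := by
    rw [← hrange]
    refine PrimeSpectrum.isClosed_range_of_stableUnderSpecialization φ.hom ?_
    show StableUnderSpecialization (Set.range (Spec.map φ))
    rw [hrange]
    exact fun a b hab ha => h (hab.map j.continuous) ha
  have hc' := (W.2.isoSpec.hom.homeomorph.isClosed_preimage).mpr hc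
  have e : (Subtype.val ⁻¹' Set.range f : Set (W.1 : S.Opens)) =
      W.2.isoSpec.hom.homeomorph ⁻¹' (j ⁻¹' Set.range f) := by
    ext z
    show z.1 ∈ Set.range f ↔ j (W.2.isoSpec.hom z) ∈ Set.range f
    rw [← Scheme.Hom.comp_apply, hj, IsAffineOpen.isoSpec_hom, IsAffineOpen.toSpecΓ_fromSpec]
    rfl
  exact (congrArg IsClosed e).mpr hc'

end Groth.Agent.S9495
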