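import Groth.Statements.S4825
import Groth.Agent.S9495
import Groth.Agent.S0385

set_option autoImplicit false
set_option backward.isDefEq.respectTransparency false
set_option backward.isDefEq.respectTransparency.types false
set_option linter.style.haveILetI false
open CategoryTheory AlgebraicGeometry
universe u
open Lim8

namespace Groth.Agent.S4825

open CategoryTheory.Limits in
/-- Let Y be a Noetherian scheme and f : X ⟶ Y a morphism of finite type. Then f admits a factorization
into an immersion followed by a finite morphism if and only if, for every point y of Y, the base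
change X ×_Y Spec O_{Y,y} ⟶ Spec O_{Y,y} of f to the local scheme of Y at y admits such a
factorization. (Pointwise criterion for pseudo-finite morphisms.) -/
theorem result {X Y : Scheme.{u}} (f : X ⟶ Y) [IsNoetherian Y]
    [LocallyOfFiniteType f] [QuasiCompact f] :
    (∃ (Y' : Scheme.{u}) (f' : X ⟶ Y') (u : Y' ⟶ Y), IsImmersion f' ∧ IsFinite u ∧ f' ≫ u = f) ↔
      ∀ y : Y, ∃ (Z : Scheme.{u}) (g : pullback f (Y.fromSpecStalk y) ⟶ Z) (u : Z ⟶ Spec (Y.presheaf.stalk y)),
        IsImmersion g ∧ IsFinite u ∧ g ≫ u = pullback.snd f (Y.fromSpecStalk y) := by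
  constructor
  · rintro ⟨Y', f', u, hf', hu, rfl⟩ y
    let i := Y.fromSpecStalk y
    refine ⟨pullback u i, pullback.lift (pullback.fst (f' ≫ u) i ≫ f') (pullback.snd (f' ≫ u) i)
      (by simp [pullback.condition]), pullback.snd u i, ?_, inferInstance, pullback.lift_snd _ _ _⟩
    have h : IsPullback (pullback.fst (f' ≫ u) i)
        (pullback.lift (pullback.fst (f' ≫ u) i ≫ f') (pullback.snd (f' ≫ u) i)
          (by simp [pullback.condition])) f' (pullback.fst u i) :=
      IsPullback.of_bot (by simpa [-pullback.lift_snd_assoc, pullback.lift_snd] using IsPullback.of_hasPullback (f' ≫ u) i)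
        (pullback.lift_fst _ _ _).symm (IsPullback.of_hasPullback u i)
    exact MorphismProperty.of_isPullback h hf'
  · intro H
    have hsep : ∀ y, IsSeparated (pullback.snd f (Y.fromSpecStalk y)) := fun y => by
      obtain ⟨Z, g, u, hg, hu, hgu⟩ := H y
      rw [← hgu]
      infer_instance
    haveI : LocallyQuasiFinite f := LocallyQuasiFinite.of_finite_preimage_singleton _ fun y => by
      obtain ⟨Z, g, u, hg, hu, hgu⟩ := H y
      have hq : LocallyQuasiFinite (pullback.snd f (Y.fromSpecStalk y)) := by
        rw [← hgu]
        infer_instance
      have h1 := (pullback.snd f (Y.fromSpecStalk y)).finite_preimage_singleton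
        (IsLocalRing.closedPoint (Y.presheaf.stalk y))
      refine (h1.image (pullback.fst f (Y.fromSpecStalk y))).subset fun x hx => ?_
      obtain ⟨z, hz⟩ : x ∈ Set.range (pullback.fst f (Y.fromSpecStalk y)) := by
        rw [Scheme.Pullback.range_fst]
        exact ⟨IsLocalRing.closedPoint _, Scheme.fromSpecStalk_closedPoint.trans hx.symm⟩
      refine ⟨z, (Y.fromSpecStalk y).isEmbedding.injective ?_, hz⟩
      rw [← Scheme.Hom.comp_apply, ← pullback.condition, Scheme.Hom.comp_apply, hz,
        Scheme.fromSpecStalk_closedPoint]
      exact hx
    haveI : IsSeparated f := by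
      haveI : IsLocallyNoetherian X := LocallyOfFiniteType.isLocallyNoetherian f
      haveI : QuasiSeparated f := inferInstance
      refine ⟨IsClosedImmersion.of_isPreimmersion _ ?_⟩
      rw [Groth.Agent.S9495.result (pullback.diagonal f)]
      rintro a b hab ⟨x, rfl⟩
      let q : pullback f f ⟶ Y := pullback.fst f f ≫ f
      let i := Y.fromSpecStalk (q b)
      haveI := hsep (q b)
      have hmem : ∀ c, c ⤳ b → c ∈ Set.range (pullback.fst q i) := fun c hc => by
        rw [Scheme.Pullback.range_fst, Set.mem_preimage, Scheme.range_fromSpecStalk]
        exact hc.map q.continuous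
      obtain ⟨b', hb'⟩ := hmem b specializes_rfl
      obtain ⟨a', ha'⟩ := hmem _ hab
      have hab' : a' ⤳ b' := (pullback.fst q i).isEmbedding.isInducing.specializes_iff.mp
        (by rw [ha', hb']; exact hab)
      let j := pullback.fst f i
      let h := pullback.snd f i
      let m : pullback q i ⟶ pullback h h :=
        pullback.lift
          (pullback.lift (pullback.fst q i ≫ pullback.fst f f) (pullback.snd q i)
            (by rw [Category.assoc]; exact pullback.condition))
          (pullback.lift (pullback.fst q i ≫ pullback.snd f f) (pullback.snd q i)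
            (by rw [Category.assoc, ← pullback.condition (f := f) (g := f)]; exact pullback.condition))
          (by simp [h])
      let n : pullback f i ⟶ pullback q i := pullback.lift (j ≫ pullback.diagonal f) h
        (by simp [q, j, h, pullback.condition])
      let r : pullback h h ⟶ pullback f f :=
        pullback.lift (pullback.fst h h ≫ j) (pullback.snd h h ≫ j)
          (by simp [j, h, pullback.condition, pullback.condition_assoc])
      have hn : n ≫ m = pullback.diagonal h := by
        apply pullback.hom_ext <;> apply pullback.hom_ext <;> simp [n, m, j, h]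
      have hr : m ≫ r = pullback.fst q i := by
        apply pullback.hom_ext <;> simp [r, m, j]
      have hd : pullback.diagonal h ≫ r = j ≫ pullback.diagonal f := by
        apply pullback.hom_ext <;> simp [r]
      obtain ⟨x', hx'⟩ : x ∈ Set.range j := by
        have h1 : q (pullback.diagonal f x) = f x := by
          rw [← Scheme.Hom.comp_apply]; simp [q]
        rw [Scheme.Pullback.range_fst, Set.mem_preimage, Scheme.range_fromSpecStalk]
        exact (specializes_of_eq h1.symm).trans (hab.map q.continuous)
      have hna : n x' = a' := (pullback.fst q i).isEmbedding.injective (by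
        rw [ha', ← Scheme.Hom.comp_apply]
        simp [n, hx'])
      have hma : m a' = pullback.diagonal h x' := by rw [← hna, ← Scheme.Hom.comp_apply, hn]
      obtain ⟨z, hz⟩ : m b' ∈ Set.range (pullback.diagonal h) :=
        (pullback.diagonal h).isClosedEmbedding.isClosed_range.stableUnderSpecialization
          (hab'.map m.continuous) ⟨x', hma.symm⟩
      refine ⟨j z, Eq.trans ?_ hb'⟩
      exact (congrArg (fun φ => φ z) hd).symm.trans ((congrArg r hz).trans (congrArg (fun φ => φ b') hr))
    obtain ⟨T, g, π, hg, -, hπ, hgπ⟩ := Groth.Agent.S0385.result f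
    exact ⟨T, g, π, inferInstance, hπ, hgπ⟩

end Groth.Agent.S4825
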