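import Groth.Prelude.Def_CAlg
import Groth.Prelude.Def_FDesc
import Mathlib.AlgebraicGeometry.Morphisms.FinitePresentation
import Mathlib.AlgebraicGeometry.Fiber
import Mathlib.Topology.Constructible
import Mathlib.RingTheory.IntegralClosure.IntegrallyClosed
import Mathlib.RingTheory.LocalRing.ResidueField.Defs
import Mathlib.Topology.KrullDimension
import Mathlib.RingTheory.KrullDimension.Basic
import Groth.Agent.L07.GeomRk.Fib

set_option autoImplicit false
namespace Cons9
end Cons9
open CategoryTheory AlgebraicGeometry
universe u
open Cons9

namespace Groth.Agent.S4828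

/-- Let f : X ⟶ S be a morphism of finite presentation (locally of finite presentation, quasi-compact
and quasi-separated) and k a natural number. Then the set of points s of S whose fibre X_s has the
geometric property (R_k), i.e. such that for every extension field K of κ(s) all local rings of X_s
⊗_{κ(s)} K satisfy Serre's condition (R_k), is locally constructible in S. -/
theorem result {X S : Scheme.{u}} (f : X ⟶ S)
    [LocallyOfFinitePresentation f] [QuasiCompact f] [QuasiSeparated f] (k : ℕ) :
    Topology.IsLocallyConstructible {s : S |
      ∀ (K : Type u) [Field K] [Algebra (IsLocalRing.ResidueField (S.presheaf.stalk s)) K]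
        (x' : ↥(FBase.bc (f.fiberToSpecResidueField s) K)),
        LocCoh.HasRk k ((FBase.bc (f.fiberToSpecResidueField s) K).presheaf.stalk x')} := by
  refine (congrArg Topology.IsLocallyConstructible (Set.ext fun s => ?_)).mp
    (Groth.L28.Fib.isLocallyConstructible_setOf_fibre_subset_empty f (Groth.L07.GeomRk.isLocallyConstructible_bad f k))
  refine Iff.trans ?_ ((L02.FibDepth.forall_fiber_iff (f := f) (P := fun s w =>
    Groth.L07.GeomRk.GeomAt (f.fiberToSpecResidueField s) (fun _ _ _ => True)
      (fun R _ => LocCoh.HasRk k R) w) s).symm.trans ?_)
  · exact forall_congr' fun x => forall_congr' fun _ =>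
      (Groth.L07.GeomRk.rk_iff f x k (fun _ _ _ => True) fun _ _ _ _ => trivial).symm
  · exact ⟨fun h K _ _ x' => h _ K trivial x' rfl, fun h w K _ _ _ x' _ => h K x'⟩

end Groth.Agent.S4828
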