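import Groth.Statements.S4829
import Groth.Agent.L19.Limit.QuasiProjField
import Groth.Agent.S1496

set_option autoImplicit false
set_option backward.isDefEq.respectTransparency.types false
set_option backward.isDefEq.respectTransparency false
set_option linter.style.haveILetI false
open CategoryTheory AlgebraicGeometry
universe u
open Cons9

namespace Groth.Agent.S4829

open CategoryTheory.Limits in
/-- Let k be a field, X a scheme over k and K an extension field of k. If the base change X ⊗_k K admits
a closed immersion over K into a projective space P^n_K (X ⊗_k K is projective over K), then X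
admits a closed immersion over k into some projective space P^n_k (X is projective over k). This is
the projective case (projective spaces are Proj of polynomial rings base-changed to the base; the
base change X ⊗_k K is the chosen fibre product). -/
theorem result {k : Type u} [Field k] {X : Scheme.{u}}
    (p : X ⟶ Spec (CommRingCat.of k)) (K : Type u) [Field K] [Algebra k K]
    (h : ∃ (n : ℕ) (i : pullback p (Spec.map (CommRingCat.ofHom (algebraMap k K))) ⟶ CohB1.ProjSpaceOver n (Spec (CommRingCat.of K))),
      IsClosedImmersion i ∧ i ≫ CohB1.ProjSpaceOver.toBase n (Spec (CommRingCat.of K)) = pullback.snd p (Spec.map (CommRingCat.ofHom (algebraMap k K)))) :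
    ∃ (n : ℕ) (i : X ⟶ CohB1.ProjSpaceOver n (Spec (CommRingCat.of k))),
      IsClosedImmersion i ∧ i ≫ CohB1.ProjSpaceOver.toBase n (Spec (CommRingCat.of k)) = p := by
  obtain ⟨n, i, hi, hc⟩ := h
  haveI := hi
  obtain ⟨h1, h2, h3, L, hL⟩ := Groth.L19.Limit.exists_ample_of_baseChange p K ⟨n, i, inferInstance, hc⟩
  obtain ⟨hK, -⟩ := ((Groth.Agent.S1496.result
    ⟨_, Groth.L18.Ample.isAmple_structureModule (X := Spec (CommRingCat.of K))⟩
    (pullback.snd p (Spec.map (CommRingCat.ofHom (algebraMap k K))))).1).mp ⟨n, i, hi, hc⟩
  haveI : UniversallyClosed p := Groth.L19.Limit.universallyClosed_of_baseChange p K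
  haveI : X.IsSeparated := Groth.L18.Ample.isSeparated_of_isAmple hL
  haveI : IsSeparated (p ≫ terminal.from (Spec (CommRingCat.of k))) := by
    rw [show p ≫ terminal.from _ = terminal.from _ from terminalIsTerminal.hom_ext _ _]
    infer_instance
  haveI : IsSeparated p := IsSeparated.of_comp p (terminal.from (Spec (CommRingCat.of k)))
  haveI : IsProper p := ⟨⟩
  exact ((Groth.Agent.S1496.result
    ⟨_, Groth.L18.Ample.isAmple_structureModule (X := Spec (CommRingCat.of k))⟩ p).1).mpr ⟨inferInstance, L, hL⟩

end Groth.Agent.S4829
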