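import Groth.Statements.S4832
import Groth.Agent.L02.Cons.CMFibre
import Groth.Agent.L16.AffineBC.Pullback
import Groth.Agent.L07.GeomRk.TorsionFree
import Groth.Agent.L07.GeomRk.Torsion
import Groth.Agent.L02.FibDepth.ConstrResults
-- import your own Groth.Agent.* helpers here

set_option autoImplicit false
open CategoryTheory AlgebraicGeometry
universe u
open Cons9

open Topology L02.FibDepth Groth.L07.GeomRk
set_option backward.isDefEq.respectTransparency false
namespace Groth.Agent.S4832

/-- Let S be a locally Noetherian scheme, f : X ⟶ S a morphism of finite type and F a coherent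
O_X-module; suppose that every fibre X_s is locally integral (all its local rings are integral
domains). For s in S let F_s be the pullback of F to the fibre X_s. Then the set of s such that F_s
is torsion-free over O_{X_s} (each stalk of F_s has zero torsion submodule over the local ring of
X_s, an integral domain) is locally constructible in S. -/
theorem result {X S : Scheme.{u}} (f : X ⟶ S) [IsLocallyNoetherian S]
    [LocallyOfFiniteType f] [QuasiCompact f] (F : X.Modules) [Coh.IsQCoh F] (hF : CohB1.IsFP F)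
    (hint : ∀ (s : S) (x : ↥(f.fiber s)), IsDomain ((f.fiber s).presheaf.stalk x)) :
    Topology.IsLocallyConstructible {s : S | ∀ x : ↥(f.fiber s),
      Submodule.torsion ((f.fiber s).presheaf.stalk x) (((Scheme.Modules.pullback (f.fiberι s)).obj F).presheaf.stalk x) = ⊥} := by
  haveI : LocallyOfFinitePresentation f := inferInstance
  haveI : ∀ (s : S) (x : ↥(f.fiber s)), IsDomain ((f.fiber s).presheaf.stalk x) := hint
  let D := pd f F hF
  let R := rd f
  have hδ : ∀ z, D.δ z = R.δ z := fun z => rfl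
  let E : Set X := ⋃ c, ⋃ j ∈ Finset.range c, D.AssDim j ∩ {x | x ∈ R.S ∧ R.b x + R.δ x = c}
  have hEc : ∀ c, IsLocallyConstructible
      (⋃ j ∈ Finset.range c, D.AssDim j ∩ {x | x ∈ R.S ∧ R.b x + R.δ x = c}) := fun c =>
    IsLocallyConstructible.biUnion (Finset.range c).finite_toSet fun j _ =>
      (isLocallyConstructible_assDim (hasCharts₀_module f F hF) j).inter
        (isLocallyConstructible_dim_eq (hasCharts₀_ring f) c)
  have hE : IsLocallyConstructible E := by
    intro x₀
    obtain ⟨W, N, hW, hxW, hN⟩ := R.exists_bdd x₀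
    obtain ⟨W', hW', hW'o, hc⟩ :=
      (IsLocallyConstructible.biUnion (Finset.range (N + 1)).finite_toSet fun c _ => hEc c) x₀
    refine ⟨W' ∩ W, Filter.inter_mem hW' (hW.mem_nhds hxW), hW'o.inter hW, ?_⟩
    refine (congrArg IsConstructible ?_).mp (hc.preimage_of_isOpenEmbedding
      (IsOpenEmbedding.inclusion Set.inter_subset_left ((hW'o.inter hW).preimage continuous_subtype_val)))
    ext ⟨x, hxW', hxW⟩
    simp only [E, Set.mem_preimage, Set.mem_iUnion]
    constructor
    · rintro ⟨c, -, hc⟩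
      exact ⟨c, hc⟩
    · rintro ⟨c, j, hj, hx, hxS, hxc⟩
      exact ⟨c, Finset.mem_coe.2 (Finset.mem_range.2 (Nat.lt_succ_of_le (hxc ▸ ((hN x hxW).2 hxS).1))), j, hj, hx, hxS, hxc⟩
  convert L02.Cons.isLocallyConstructible_compl (f.isLocallyConstructible_image hE) using 1
  ext s
  haveI : LocallyOfFiniteType (f.fiberToSpecResidueField s) := locallyOfFiniteType_fiber f s
  haveI : IsLocallyNoetherian (f.fiber s) :=
    LocallyOfFiniteType.isLocallyNoetherian (f.fiberToSpecResidueField s)
  haveI := Groth.L16.AffineBC.isQCoh_pullback (f.fiberι s) F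
  rw [Set.mem_ofPred_eq, Groth.L07.TorsionFree.torsion_eq_bot_iff,
    forall_ass_iff f F hF s (fun t w => ringKrullDim ((f.fiber t).presheaf.stalk w) = 0)]
  simp only [E, Set.mem_compl_iff, Set.mem_image, Set.mem_iUnion, not_exists, not_and, exists_prop]
  constructor
  · rintro h x ⟨c, j, hj, hx, -, hxc⟩ hxs
    obtain ⟨z, hz, hzx, hp, rfl⟩ := D.mem_AssDim.1 hx
    obtain ⟨w, hw, hwx, hpw, hwb, hwd⟩ := R.exists_min_gen (Groth.L07.GeomRk.mem_S f x)
    obtain ⟨e, hew, hez, hpe⟩ : ∃ e, e ⤳ w ∧ e ⤳ z ∧ f e = f x := by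
      have hlift : ∀ v : X, v ⤳ x → f v = f x → ∃ v' : ↥(f.fiber (f x)), f.fiberι (f x) v' = v ∧
          v' ⤳ f.asFiber x := fun v hv hpv => by
        obtain ⟨v', hv'⟩ : v ∈ Set.range (f.fiberι (f x)) := (f.range_fiberι (f x)).symm ▸ hpv
        refine ⟨v', hv', (f.fiberι (f x)).isEmbedding.isInducing.specializes_iff.1 ?_⟩
        rwa [hv', f.fiberι_asFiber]
      obtain ⟨w', hw', hw's⟩ := hlift w hwx hpw
      obtain ⟨z', hz', hz's⟩ := hlift z hzx hp
      let g := (f.fiber (f x)).fromSpecStalk (f.asFiber x)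
      let b : Spec ((f.fiber (f x)).presheaf.stalk (f.asFiber x)) := ⟨⊥, Ideal.bot_prime⟩
      have hgen : ∀ v, v ⤳ f.asFiber x → g b ⤳ v := fun v hv => by
        obtain ⟨v', rfl⟩ : v ∈ Set.range g := by rw [Scheme.range_fromSpecStalk]; exact hv
        exact ((PrimeSpectrum.le_iff_specializes b v').1 bot_le).map g.continuous
      refine ⟨f.fiberι (f x) (g b), hw' ▸ (hgen w' hw's).map (f.fiberι (f x)).continuous,
        hz' ▸ (hgen z' hz's).map (f.fiberι (f x)).continuous, ?_⟩
      exact (f.range_fiberι (f x)).subset ⟨g b, rfl⟩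
    have h1 : R.δ w ≤ R.δ e := R.δ_le_of_gen hew (hpe.trans hpw.symm)
    have h2 : R.δ e ≤ R.b z + R.δ z := R.δ_le_b_add (Groth.L07.GeomRk.mem_S f e) hez (hpe.trans hp.symm)
    have h3 := h z hz (hp.trans hxs)
    rw [Groth.L07.GeomRk.dim_FR] at h3
    have h4 : R.b z = 0 := by exact_mod_cast h3
    rw [Finset.mem_range] at hj
    have := hδ z
    omega
  · intro h z hz hzs
    by_contra hne
    rw [Groth.L07.GeomRk.dim_FR] at hne
    have h4 : R.b z ≠ 0 := fun h0 => hne (by exact_mod_cast h0)
    exact h z ⟨R.b z + R.δ z, D.δ z, Finset.mem_range.2 (by have := hδ z; omega),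
      D.mem_AssDim.2 ⟨z, hz, specializes_rfl, rfl, rfl⟩, Groth.L07.GeomRk.mem_S f z, rfl⟩ hzs

end Groth.Agent.S4832
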