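import Mathlib.AlgebraicGeometry.Noetherian
import Mathlib.AlgebraicGeometry.Morphisms.FiniteType
import Mathlib.AlgebraicGeometry.Morphisms.QuasiCompact
import Mathlib.AlgebraicGeometry.ResidueField
import Mathlib.AlgebraicGeometry.Modules.Sheaf
import Groth.Prelude.Def_Coh
import Groth.Prelude.Def_CohB1
import Groth.Prelude.Def_FlatMod2
import Groth.Agent.L02.FibFlat.Constructible

set_option autoImplicit false
namespace Cons9
end Cons9
open CategoryTheory AlgebraicGeometry
universe u
open Cons9

namespace Groth.Agent.S4833

open CategoryTheory.Limits in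
/-- Let S be an integral Noetherian scheme with generic point η, let g : X ⟶ Y be an S-morphism between
schemes of finite type over S (structure morphisms h : Y ⟶ S and g ≫ h), and let F be a coherent
O_X-module. For s in S write g_s : X_s ⟶ Y_s for the morphism induced on the fibres over s and F_s
for the pullback of F to X_s. If F_η is not flat relative to g_η (not flat over O_{Y_η, g_η(x)} at
some point x of X_η), then there is an open neighbourhood U of η such that for every s in U the
module F_s is not flat relative to g_s. -/
theorem result {X Y S : Scheme.{u}} [IsIntegral S] [IsNoetherian S]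
    (g : X ⟶ Y) (h : Y ⟶ S) [LocallyOfFiniteType h] [QuasiCompact h]
    [LocallyOfFiniteType (g ≫ h)] [QuasiCompact (g ≫ h)]
    (F : X.Modules) [Coh.IsQCoh F] (hF : CohB1.IsFP F)
    (hη : ¬ FlatMod.IsFlatOver
      (pullback.lift (pullback.fst (g ≫ h) (S.fromSpecResidueField (genericPoint S)) ≫ g)
          (pullback.snd (g ≫ h) (S.fromSpecResidueField (genericPoint S)))
          ((Category.assoc _ _ _).trans pullback.condition) :
        pullback (g ≫ h) (S.fromSpecResidueField (genericPoint S)) ⟶ pullback h (S.fromSpecResidueField (genericPoint S)))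
      ((Scheme.Modules.pullback (pullback.fst (g ≫ h) (S.fromSpecResidueField (genericPoint S)))).obj F)) :
    ∃ U : S.Opens, genericPoint S ∈ U ∧ ∀ s ∈ U, ¬ FlatMod.IsFlatOver
      (pullback.lift (pullback.fst (g ≫ h) (S.fromSpecResidueField s) ≫ g) (pullback.snd (g ≫ h) (S.fromSpecResidueField s))
          ((Category.assoc _ _ _).trans pullback.condition) :
        pullback (g ≫ h) (S.fromSpecResidueField s) ⟶ pullback h (S.fromSpecResidueField s))
      ((Scheme.Modules.pullback (pullback.fst (g ≫ h) (S.fromSpecResidueField s))).obj F) := by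
  haveI : LocallyOfFinitePresentation h := inferInstance
  haveI : LocallyOfFinitePresentation (g ≫ h) := inferInstance
  haveI : IsLocallyNoetherian X := LocallyOfFiniteType.isLocallyNoetherian (g ≫ h)
  haveI : CompactSpace X := QuasiCompact.compactSpace_of_compactSpace (g ≫ h)
  have hc := Groth.L28.Fib.isLocallyConstructible_compl ((g ≫ h).isLocallyConstructible_image
    (Groth.L28.Fib.isLocallyConstructible_compl (Groth.L02.FibFlat.isLocallyConstructible_locus g h F hF)))
  have key : ∀ s, s ∈ ((g ≫ h) '' (Groth.L02.FibFlat.Locus g h F)ᶜ)ᶜ ↔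
      FlatMod.IsFlatOver (MoreMor.fiberMap g h s)
        ((Scheme.Modules.pullback ((g ≫ h).fiberι s)).obj F) := fun s => by
    simp only [Set.mem_compl_iff, Set.mem_image, not_exists, not_and]
    constructor
    · intro H z
      refine (Groth.L02.FibFlat.fibre_iff g h F s z rfl).2 (by_contra fun hn => ?_)
      exact H ((g ≫ h).fiberι s z) hn (((g ≫ h).range_fiberι s).subset ⟨z, rfl⟩)
    · intro H x hn hx
      subst hx
      exact hn ((Groth.L02.FibFlat.QF_iff_asFiber g h F x).2 (H _))
  have hg := L02.ConsP.mem_interior_of_ind (L02.ConsP.isIndConstructible_of_isLocallyConstructible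
    (Groth.L28.Fib.isLocallyConstructible_compl hc)) (fun hm => hη ((key _).1 hm))
  exact ⟨⟨_, isOpen_interior⟩, hg, fun s hs hflat => interior_subset hs ((key s).2 hflat)⟩

end Groth.Agent.S4833
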