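import Groth.Statements.S4837
import Groth.Agent.L18.RelSpecAlg
import Mathlib.AlgebraicGeometry.IdealSheaf.Subscheme

set_option autoImplicit false
set_option linter.style.haveILetI false
open CategoryTheory AlgebraicGeometry
universe u
open Lim8

set_option backward.isDefEq.respectTransparency false
set_option backward.isDefEq.respectTransparency.types false

namespace Groth.Agent.S4837

/-- Let f : X ⟶ Y be a quasi-compact quasi-separated morphism, C a quasi-coherent O_Y-algebra with
relative spectrum Z = Spec(C) over Y, g : X ⟶ Z a Y-morphism which is an immersion, and φ : C ⟶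
f_*O_X the homomorphism of O_Y-algebras corresponding to g (the canonical identification of C with
the direct image of O_Z followed by the map induced by g). Then the scheme-theoretic image of g is
the whole of Z, i.e. the kernel ideal of g vanishes, if and only if φ is injective; and when this
holds g is an open immersion. -/
theorem result {X Y : Scheme.{u}} (f : X ⟶ Y)
    [QuasiCompact f] [QuasiSeparated f] (C : RelSpec.QCAlg Y) (g : X ⟶ C.spec) (w : g ≫ C.π = f)
    [IsImmersion g] (φ : C ⟶ RelSpec.QCAlg.directImage f)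
    (hφ : C.gammaMap ≫ φ.hom = AffAlg.algHom C.π f g w) :
    (g.ker = ⊥ ↔ ∀ U : Y.Opens, Function.Injective (φ.hom.app (Opposite.op U)).hom) ∧
      (g.ker = ⊥ → IsOpenImmersion g) := by
  haveI haff : IsAffineHom C.π := ⟨fun U hU => by
    rw [RelSpec.QCAlg.π_preimage C U hU]; exact isAffineOpen_opensRange _⟩
  haveI : QuasiCompact g := by
    haveI : QuasiCompact (g ≫ C.π) := by rw [w]; infer_instance
    exact QuasiCompact.of_comp g C.π
  haveI := Groth.L18.RelSpecAlg.isIso_gammaMap C
  have hkey : ∀ U : Y.Opens, Function.Injective (φ.hom.app (Opposite.op U)).hom ↔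
      Function.Injective (g.app (C.π ⁻¹ᵁ U)).hom := by
    intro U
    subst w
    have h := congr($(hφ).app (Opposite.op U))
    simp only [AffAlg.algHom, eqToHom_refl, Category.comp_id, NatTrans.comp_app] at h
    change C.gammaMap.app (Opposite.op U) ≫ φ.hom.app (Opposite.op U) = g.app (C.π ⁻¹ᵁ U) at h
    rw [← h]
    exact (Function.Injective.of_comp_iff' (φ.hom.app (Opposite.op U)).hom
      (ConcreteCategory.bijective_of_isIso (C.gammaMap.app (Opposite.op U)))).symm
  refine ⟨⟨fun hker U => (hkey U).2 ?_, fun h => ?_⟩, fun hker => ?_⟩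
  · rw [injective_iff_map_eq_zero]
    intro x hx
    let W : C.spec.Opens := C.π ⁻¹ᵁ U
    refine C.spec.sheaf.eq_of_locally_eq' (fun V : {V : C.spec.affineOpens // V.1 ≤ W} => V.1.1) W
      (fun V => homOfLE V.2) (fun z hz => ?_) x 0 fun V => ?_
    · obtain ⟨_, ⟨V, hV, rfl⟩, hzV, hVW⟩ := C.spec.isBasis_affineOpens.exists_subset_of_mem_open hz W.2
      exact TopologicalSpace.Opens.mem_iSup.2 ⟨⟨⟨V, hV⟩, hVW⟩, hzV⟩
    · change (C.spec.presheaf.map (homOfLE V.2).op).hom x = (C.spec.presheaf.map (homOfLE V.2).op).hom 0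
      rw [map_zero]
      have h1 : (C.spec.presheaf.map (homOfLE V.2).op).hom x ∈ g.ker.ideal V.1 := by
        rw [Scheme.Hom.ker_apply, RingHom.mem_ker, ← RingHom.comp_apply, ← CommRingCat.hom_comp, g.naturality,
          CommRingCat.hom_comp, RingHom.comp_apply, hx, map_zero]
      rw [hker] at h1
      simpa using h1
  · refine Scheme.IdealSheafData.ext_of_iSup_eq_top
      (fun U : Y.affineOpens => (⟨C.π ⁻¹ᵁ U.1, U.2.preimage C.π⟩ : C.spec.affineOpens)) ?_ fun U => ?_
    · refine top_le_iff.1 fun z _ => ?_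
      obtain ⟨_, ⟨V, hV, rfl⟩, hzV, -⟩ := Y.isBasis_affineOpens.exists_subset_of_mem_open
        (Set.mem_univ (C.π z)) isOpen_univ
      exact TopologicalSpace.Opens.mem_iSup.2 ⟨⟨V, hV⟩, hzV⟩
    · rw [Scheme.Hom.ker_apply, Scheme.IdealSheafData.ideal_bot]
      exact (RingHom.injective_iff_ker_eq_bot _).1 ((hkey U.1).1 (h U.1))
  · haveI : IsIso g.imageι := (Scheme.isIso_subschemeι_iff_eq_bot g.ker).2 hker
    rw [← g.toImage_imageι]
    infer_instance

end Groth.Agent.S4837
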