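import Groth.Statements.S4838
import Groth.Agent.L02.Cons.CMFibre
import Groth.Agent.L02.FibDepth.Fibres
import Groth.Agent.L07.GIConstr
-- import your own Groth.Agent.* helpers here

set_option autoImplicit false
open CategoryTheory AlgebraicGeometry
universe u
open Cons9

namespace Groth.Agent.S4838

/-- Let f : X ⟶ S be a morphism of finite presentation (locally of finite presentation, quasi-compact
and quasi-separated). Then the set of points s of S whose fibre X_s is geometrically pointwise
integral over κ(s), i.e. such that for every extension field K of κ(s) all local rings of X_s
⊗_{κ(s)} K are integral domains, is locally constructible in S. -/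
theorem result {X S : Scheme.{u}} (f : X ⟶ S)
    [LocallyOfFinitePresentation f] [QuasiCompact f] [QuasiSeparated f] :
    Topology.IsLocallyConstructible {s : S |
      ∀ x : ↥(f.fiber s), FBase.IsGeomPtIntegralAt (f.fiberToSpecResidueField s) x} := by
  convert L02.Cons.isLocallyConstructible_compl (f.isLocallyConstructible_image
    (L02.Cons.isLocallyConstructible_compl (Groth.L07.GISpread.isLocallyConstructible_gi f))) using 1
  ext s
  simp only [Set.mem_ofPred_eq, Set.mem_compl_iff, Set.mem_image, not_exists, not_and]
  exact (L02.FibDepth.forall_fiber_iff (f := f)
    (P := fun t w => FBase.IsGeomPtIntegralAt (f.fiberToSpecResidueField t) w) s).trans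
    ⟨fun h z hz hp => hz (h z hp), fun h z hp => not_not.1 fun hz => h z hz hp⟩

end Groth.Agent.S4838
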