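import Groth.Statements.S4843
import Groth.Agent.L19.Limit.AmpleExistsCons
import Groth.Agent.S4418
import Groth.Agent.S12416

set_option autoImplicit false
set_option backward.isDefEq.respectTransparency.types false
set_option backward.isDefEq.respectTransparency false
set_option linter.style.haveILetI false
open CategoryTheory AlgebraicGeometry
universe u
open Cons9

namespace Groth.Agent.S4843

open CategoryTheory.Limits in
/-- Let g : Y ⟶ S and f : X ⟶ Y be such that X and Y are of finite presentation over S (locally of
finite presentation, quasi-compact and quasi-separated). For each point s of S let f_s : X_s ⟶ Y_s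
be the morphism induced on the fibres over s. Then the set of s for which f_s is projective (X_s is
isomorphic over Y_s to the homogeneous spectrum of a quasi-coherent graded O_{Y_s}-algebra generated
by its degree-one part, which is of finite type) is ind-constructible in S. -/
theorem result {X Y S : Scheme.{u}} (f : X ⟶ Y) (g : Y ⟶ S)
    [LocallyOfFinitePresentation g] [QuasiCompact g] [QuasiSeparated g]
    [LocallyOfFinitePresentation (f ≫ g)] [QuasiCompact (f ≫ g)] [QuasiSeparated (f ≫ g)] :
    ProCons.IsIndConstructible {s : S |
      RelProj.IsProjective
        (pullback.lift (pullback.fst (f ≫ g) (S.fromSpecResidueField s) ≫ f) (pullback.snd (f ≫ g) (S.fromSpecResidueField s))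
          ((Category.assoc _ _ _).trans pullback.condition) :
        pullback (f ≫ g) (S.fromSpecResidueField s) ⟶ pullback g (S.fromSpecResidueField s))} := by
  haveI := Groth.L20.locallyOfFinitePresentation_of_comp f g
  haveI : QuasiCompact f := QuasiCompact.of_comp f g
  haveI : QuasiSeparated f := QuasiSeparated.of_comp f g
  have h := Groth.L19.Limit.isIndConstructible_hasAmple_isProper f g
  convert h using 1
  refine Set.ext fun s => ?_
  let x := S.fromSpecResidueField s
  haveI : QuasiCompact (pullback.snd g x) := MorphismProperty.pullback_snd _ _ inferInstance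
  haveI : QuasiSeparated (pullback.snd g x) := MorphismProperty.pullback_snd _ _ inferInstance
  haveI : CompactSpace ↥(pullback g x) := QuasiCompact.compactSpace_of_compactSpace (pullback.snd g x)
  haveI : QuasiSeparatedSpace ↥(pullback g x) := quasiSeparatedSpace_of_quasiSeparated (pullback.snd g x)
  refine ⟨fun hP => ?_, fun ⟨hA, hP⟩ => ?_⟩
  · obtain ⟨hQ, hP'⟩ := Groth.Agent.S4418.result _ hP
    exact ⟨(Groth.L19.Limit.hasAmple_iff_isQuasiProjective f g x).mpr hQ, hP'⟩
  · haveI : IsProper (Groth.L19.Limit.bcHom f g x) := hP
    exact Groth.Agent.S12416.result _ ((Groth.L19.Limit.hasAmple_iff_isQuasiProjective f g x).mp hA)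

end Groth.Agent.S4843
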