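import Groth.Prelude.Def_FlatMod2
import Groth.Prelude.Def_Coh
import Mathlib.AlgebraicGeometry.Morphisms.Flat
import Mathlib.AlgebraicGeometry.Noetherian
import Mathlib.RingTheory.RingHom.Flat
import Mathlib.Algebra.Module.Torsion.Basic
import Mathlib.RingTheory.Ideal.Maps
import Groth.Agent.S0392
import Groth.Agent.L02.FibFlat.Constructible

set_option autoImplicit false
namespace EGA43
end EGA43
universe u
open EGA43

namespace Groth.Agent.S4847

open AlgebraicGeometry CategoryTheory Limits in
/-- Case 1° (fibrewise flatness criterion for locally Noetherian schemes): let S, X and Y be locally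
Noetherian schemes, f : X ⟶ Y and h : Y ⟶ S arbitrary morphisms, F a coherent O_X-module and x a
point of X with images y in Y and s in S, such that the stalk F_x is nonzero. Then F is flat over S
at x and F_x / m_s F_x is flat over O_{Y,y} / m_s O_{Y,y} (that is, the fibre module F_s is flat
over the fibre Y_s at x) if and only if h is flat at y and F is flat over Y at x. No finiteness
hypothesis on f or h is required in this case. -/
theorem result {X Y S : Scheme.{u}}
    [IsLocallyNoetherian X] [IsLocallyNoetherian Y] [IsLocallyNoetherian S]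
    (f : X ⟶ Y) (h : Y ⟶ S) (F : X.Modules) (hF : Coh.IsCoh F) (x : X)
    (hx : Nontrivial ↑(F.presheaf.stalk x)) :
    letI := FlatMod.moduleStalkOver f F x
    (FlatMod.IsFlatOverAt (f ≫ h) F x ∧
      Module.Flat (↑(Y.presheaf.stalk (f x)) ⧸ Ideal.map (h.stalkMap (f x)).hom (IsLocalRing.maximalIdeal ↑(S.presheaf.stalk (h (f x)))))
        (↑(F.presheaf.stalk x) ⧸ (Ideal.map (h.stalkMap (f x)).hom (IsLocalRing.maximalIdeal ↑(S.presheaf.stalk (h (f x)))) •
          (⊤ : Submodule ↑(Y.presheaf.stalk (f x)) ↑(F.presheaf.stalk x))))) ↔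
    ((h.stalkMap (f x)).hom.Flat ∧ FlatMod.IsFlatOverAt f F x) := by
  haveI := hF.1
  haveI := Groth.L20.FibreModule.finite_stalk F hF.1 (Groth.L15.Ref.isFP_of_isCoh hF) x
  letI := FlatMod.moduleStalkOver f F x
  letI := FlatMod.moduleStalkOver (f ≫ h) F x
  letI : Algebra (S.presheaf.stalk (h (f x))) (Y.presheaf.stalk (f x)) := (h.stalkMap (f x)).hom.toAlgebra
  letI : Algebra (Y.presheaf.stalk (f x)) (X.presheaf.stalk x) := (f.stalkMap x).hom.toAlgebra
  letI : Algebra (S.presheaf.stalk (h (f x))) (X.presheaf.stalk x) :=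
    ((f.stalkMap x).hom.comp (h.stalkMap (f x)).hom).toAlgebra
  haveI : IsScalarTower (S.presheaf.stalk (h (f x))) (Y.presheaf.stalk (f x)) (X.presheaf.stalk x) :=
    IsScalarTower.of_algebraMap_eq fun _ => rfl
  letI : Module (S.presheaf.stalk (h (f x))) (F.presheaf.stalk x) := FlatMod.moduleStalkOver (f ≫ h) F x
  haveI : IsScalarTower (Y.presheaf.stalk (f x)) (X.presheaf.stalk x) (F.presheaf.stalk x) :=
    IsScalarTower.of_algebraMap_smul fun _ _ => rfl
  haveI : IsScalarTower (S.presheaf.stalk (h (f x))) (Y.presheaf.stalk (f x)) (F.presheaf.stalk x) :=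
    IsScalarTower.of_algebraMap_smul fun a z => by
      show (f.stalkMap x).hom ((h.stalkMap (f x)).hom a) • z = ((f ≫ h).stalkMap x).hom a • z
      congr 1
      exact ((congrArg (fun φ => φ.hom a) (Scheme.Hom.stalkMap_comp f h x)).trans rfl).symm
  haveI : IsLocalHom (algebraMap (Y.presheaf.stalk (f x)) (X.presheaf.stalk x)) :=
    inferInstanceAs (IsLocalHom (f.stalkMap x).hom)
  haveI : IsLocalHom (algebraMap (S.presheaf.stalk (h (f x))) (Y.presheaf.stalk (f x))) :=
    inferInstanceAs (IsLocalHom (h.stalkMap (f x)).hom)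
  constructor
  · rintro ⟨h₁, h₂⟩
    haveI : Module.Flat (S.presheaf.stalk (h (f x))) (F.presheaf.stalk x) := h₁
    exact Groth.Agent.S0392.result (S' := X.presheaf.stalk x) (R := S.presheaf.stalk (h (f x)))
      (S := Y.presheaf.stalk (f x)) (M := F.presheaf.stalk x)
      (by
        haveI := h₂
        exact Module.Flat.of_linearEquiv
          ((TensorProduct.quotTensorEquivQuotSMul (F.presheaf.stalk x)
            (Ideal.map (h.stalkMap (f x)).hom (IsLocalRing.maximalIdeal (S.presheaf.stalk (h (f x)))))).extendScalarsOfSurjective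
            (S := Y.presheaf.stalk (f x) ⧸ Ideal.map (h.stalkMap (f x)).hom (IsLocalRing.maximalIdeal (S.presheaf.stalk (h (f x)))))
            Ideal.Quotient.mk_surjective))
  · rintro ⟨h₁, h₂⟩
    haveI : Module.Flat (S.presheaf.stalk (h (f x))) (Y.presheaf.stalk (f x)) := h₁
    haveI : Module.Flat (Y.presheaf.stalk (f x)) (F.presheaf.stalk x) := h₂
    exact ⟨Module.Flat.trans (S.presheaf.stalk (h (f x))) (Y.presheaf.stalk (f x)) (F.presheaf.stalk x),
      Groth.L02.FibFlat.flat_quot h₂ _⟩

end Groth.Agent.S4847
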