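import Groth.Statements.S4848
import Groth.Agent.L07.FlatStage

set_option autoImplicit false
universe u
open TensorProduct
open EGA43

namespace Groth.Agent.S4848

open Groth.L07.FlatDescent

set_option linter.style.haveILetI false

/-- Let A₀ be a commutative ring, (A_i) a directed system of A₀-algebras with colimit A, B₀ a finitely
presented A₀-algebra and M₀ a finitely presented B₀-module. Then the A-module A ⊗_{A₀} M₀ is flat if
and only if, for some index i, the A_i-module A_i ⊗_{A₀} M₀ is flat. -/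
theorem result {A₀ : Type u} [CommRing A₀]
    {ι : Type u} [Preorder ι] (G : ι → Type u) [∀ i, CommRing (G i)] [∀ i, Algebra A₀ (G i)]
    (g : ∀ i j, i ≤ j → G i →ₐ[A₀] G j)
    (A : Type u) [CommRing A] [Algebra A₀ A] [∀ i, Algebra (G i) A] [∀ i, IsScalarTower A₀ (G i) A]
    (hcolim : FlatCA.IsDirectedColimitRing G (fun i j h => (g i j h).toRingHom) A)
    {B₀ : Type u} [CommRing B₀] [Algebra A₀ B₀] [Algebra.FinitePresentation A₀ B₀]
    (M₀ : Type u) [AddCommGroup M₀] [Module B₀ M₀] [Module A₀ M₀] [IsScalarTower A₀ B₀ M₀]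
    [Module.FinitePresentation B₀ M₀] :
    Module.Flat A (A ⊗[A₀] M₀) ↔ ∃ i : ι, Module.Flat (G i) (G i ⊗[A₀] M₀) := by
  constructor
  · intro hflat
    obtain ⟨d, n, R, _, K, ⟨e⟩⟩ := exists_model A₀ (B₀ := B₀) M₀
    haveI : IsScalarTower R A₀ A := IsScalarTower.of_algebraMap_eq fun r => rfl
    haveI : ∀ i, IsScalarTower R A₀ (G i) := fun i => IsScalarTower.of_algebraMap_eq fun r => rfl
    haveI : ∀ i, IsScalarTower R (G i) A := fun i => IsScalarTower.of_algebraMap_eq fun r => by
      show algebraMap A₀ A (algebraMap R A₀ r) = _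
      rw [IsScalarTower.algebraMap_apply A₀ (G i) A]
      rfl
    obtain ⟨eA⟩ := exists_modelEquiv K e A
    haveI : Module.Flat A (MC A K) := Module.Flat.of_linearEquiv eA.symm
    obtain ⟨i, hi⟩ := exists_flat_stage K (g := fun i j h => (g i j h).toRingHom)
      (fun i j h => by
        ext r
        exact (g i j h).commutes (algebraMap R A₀ r)) hcolim
    obtain ⟨eG⟩ := exists_modelEquiv K e (G i)
    exact ⟨i, Module.Flat.of_linearEquiv eG⟩
  · rintro ⟨i, hi⟩
    haveI : Module.Flat A (A ⊗[G i] (G i ⊗[A₀] M₀)) := inferInstance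
    exact Module.Flat.of_linearEquiv
      (TensorProduct.AlgebraTensorModule.cancelBaseChange A₀ (G i) A A M₀).symm

end Groth.Agent.S4848
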