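import Groth.Prelude.Def_FlatMod2
import Groth.Prelude.Def_Coh
import Groth.Prelude.Def_CohB1
import Mathlib.AlgebraicGeometry.AffineTransitionLimit
import Mathlib.AlgebraicGeometry.Modules.Sheaf
import Mathlib.AlgebraicGeometry.Morphisms.FinitePresentation
import Mathlib.AlgebraicGeometry.Morphisms.QuasiSeparated
import Mathlib.CategoryTheory.Limits.Shapes.Pullback.IsPullback.Basic
import Groth.Agent.L02.InjFlat.LimitFlatGlobal
import Groth.Agent.S12442

set_option autoImplicit false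
namespace EGA43
end EGA43
universe u
open CategoryTheory AlgebraicGeometry
open EGA43

namespace Groth.Agent.S4849

/-- Let S be the limit of a cofiltered system (S_i) of schemes with affine transition morphisms, S_{i₀}
a quasi-compact stage, f₀ : X₀ ⟶ Y₀ an S_{i₀}-morphism between schemes of finite presentation over
S_{i₀}, and F₀ a quasi-coherent O_{X₀}-module of finite presentation. Let f : X ⟶ Y and F be
obtained by base change to S. Then F is f-flat if and only if there are an index i over i₀ and base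
changes f_i : X_i ⟶ Y_i, F_i of f₀, F₀ to S_i with F_i f_i-flat. (Base changes are expressed by
pullback squares; the stage S_{i₀} is only assumed quasi-compact.) -/
theorem result {I : Type u} [SmallCategory I] [IsCofiltered I]
    (D : I ⥤ Scheme.{u}) (c : Limits.Cone D) (hc : Limits.IsLimit c)
    [∀ (i j : I) (φ : i ⟶ j), IsAffineHom (D.map φ)] (i₀ : I) [CompactSpace (D.obj i₀)]
    {X₀ Y₀ : Scheme.{u}} (f₀ : X₀ ⟶ Y₀) (g₀ : Y₀ ⟶ D.obj i₀)
    [LocallyOfFinitePresentation g₀] [QuasiCompact g₀] [QuasiSeparated g₀]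
    [LocallyOfFinitePresentation (f₀ ≫ g₀)] [QuasiCompact (f₀ ≫ g₀)] [QuasiSeparated (f₀ ≫ g₀)]
    (F₀ : X₀.Modules) [Coh.IsQCoh F₀] (hF₀ : CohB1.IsFP F₀)
    {X Y : Scheme.{u}} (f : X ⟶ Y) (g : Y ⟶ c.pt) (qY : Y ⟶ Y₀) (qX : X ⟶ X₀)
    (hY : IsPullback qY g g₀ (c.π.app i₀)) (hX : IsPullback qX f f₀ qY) :
    FlatMod.IsFlatOver f ((Scheme.Modules.pullback qX).obj F₀) ↔
      ∃ (i : I) (φ : i ⟶ i₀) (Xi Yi : Scheme.{u}) (fi : Xi ⟶ Yi) (gi : Yi ⟶ D.obj i)
        (pY : Yi ⟶ Y₀) (pX : Xi ⟶ X₀),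
        IsPullback pY gi g₀ (D.map φ) ∧ IsPullback pX fi f₀ pY ∧
          FlatMod.IsFlatOver fi ((Scheme.Modules.pullback pX).obj F₀) := by
  haveI : AlgebraicGeometry.LocallyOfFinitePresentation f₀ := Groth.Agent.S12442.result f₀ g₀
  constructor
  · intro h
    obtain ⟨k, hk⟩ := Groth.L02.InjFlat.exists_stage_flat hc f₀ g₀ hF₀ hY hX h
    exact ⟨k.left, k.hom, _, _, Groth.L19.Limit.stageHom f₀ g₀ k, CategoryTheory.Limits.pullback.fst (D.map k.hom) g₀,
      CategoryTheory.Limits.pullback.snd (D.map k.hom) g₀, _,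
      (CategoryTheory.IsPullback.of_hasPullback (D.map k.hom) g₀).flip, Groth.L19.Limit.isPullback_stageHom f₀ g₀ k, hk⟩
  · rintro ⟨i, φ, Xi, Yi, fi, gi, pY, pX, hYi, hXi, hflat⟩
    intro x
    obtain ⟨vY, hvY, -⟩ : ∃ v : Y ⟶ Yi, CategoryTheory.CategoryStruct.comp v pY = qY ∧
        CategoryTheory.CategoryStruct.comp v gi = CategoryTheory.CategoryStruct.comp g (c.π.app i) :=
      ⟨hYi.lift qY (CategoryTheory.CategoryStruct.comp g (c.π.app i)) (by rw [hY.w, CategoryTheory.Category.assoc, c.w φ]),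
        hYi.lift_fst _ _ _, hYi.lift_snd _ _ _⟩
    have hw : CategoryTheory.CategoryStruct.comp qX f₀ =
        CategoryTheory.CategoryStruct.comp (CategoryTheory.CategoryStruct.comp f vY) pY := by
      rw [CategoryTheory.Category.assoc, hvY]; exact hX.w
    have sq : CategoryTheory.IsPullback (hXi.lift qX _ hw) f fi vY :=
      CategoryTheory.IsPullback.of_right (by rw [hXi.lift_fst, hvY]; exact hX) (hXi.lift_snd _ _ _) hXi
    haveI := Groth.L16.AffineBC.isQCoh_pullback pX F₀
    exact Groth.L02.InjFlat.flatAt_pullback_comp _ pX qX (hXi.lift_fst _ _ _) f F₀ x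
      (Groth.L02.InjFlat.flatAt_baseChange sq _ x (hflat _))

end Groth.Agent.S4849
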