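import Groth.Statements.S4853
import Groth.Agent.L07.FreeNil

set_option autoImplicit false
universe u
open TensorProduct
open EGA43

namespace Groth.Agent.S4853

/-- Let A be a commutative ring and M an A-module such that (A/J) ⊗_A M is free over A/J for some
nilpotent ideal J of A. Then among the ideals R of A such that (A/R) ⊗_A M is free over A/R there is
a least one, R₀, which is also the least ideal R such that (A/R) ⊗_A M is flat over A/R; and for
every commutative A-algebra A', the module A' ⊗_A M is free over A' if and only if it is flat over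
A', if and only if R₀ generates the zero ideal of A'. -/
theorem result {A : Type u} [CommRing A]
    (M : Type u) [AddCommGroup M] [Module A M]
    (J : Ideal A) (hJ : IsNilpotent J) (hfree : Module.Free (A ⧸ J) ((A ⧸ J) ⊗[A] M)) :
    ∃ R₀ : Ideal A,
      IsLeast {R : Ideal A | Module.Free (A ⧸ R) ((A ⧸ R) ⊗[A] M)} R₀ ∧
      IsLeast {R : Ideal A | Module.Flat (A ⧸ R) ((A ⧸ R) ⊗[A] M)} R₀ ∧
      ∀ (A' : Type u) [CommRing A'] [Algebra A A'],
        (Module.Free A' (A' ⊗[A] M) ↔ Ideal.map (algebraMap A A') R₀ = ⊥) ∧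
        (Module.Flat A' (A' ⊗[A] M) ↔ Ideal.map (algebraMap A A') R₀ = ⊥) := by
  haveI := hfree
  obtain ⟨R₀, h⟩ := Groth.L07.FreeNil.exists_ideal M J hJ
  have hf : ∀ (A' : Type u) [CommRing A'] [Algebra A A'],
      Module.Free A' (A' ⊗[A] M) → Ideal.map (algebraMap A A') R₀ = ⊥ := fun A' _ _ _ =>
    (h A').2 inferInstance
  refine ⟨R₀, ⟨(h _).1 ((Groth.L07.FreeNil.le_iff R₀ R₀).mpr le_rfl), fun R hR =>
    (Groth.L07.FreeNil.le_iff R₀ R).mp (hf _ hR)⟩, ⟨?_, fun R hR =>
    (Groth.L07.FreeNil.le_iff R₀ R).mp ((h _).2 hR)⟩, fun A' _ _ => ⟨⟨hf A', (h A').1⟩,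
    ⟨(h A').2, fun hA' => ?_⟩⟩⟩
  · haveI := (h (A ⧸ R₀)).1 ((Groth.L07.FreeNil.le_iff R₀ R₀).mpr le_rfl)
    show Module.Flat (A ⧸ R₀) ((A ⧸ R₀) ⊗[A] M)
    infer_instance
  · haveI := (h A').1 hA'
    infer_instance

end Groth.Agent.S4853
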