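import Groth.Statements.S4852
import Groth.Agent.S4853
import Mathlib.RingTheory.Flat.Localization
import Mathlib.RingTheory.Spectrum.Maximal.Basic
import Mathlib.RingTheory.Localization.AtPrime.Basic
import Mathlib.RingTheory.Jacobson.Ideal
import Mathlib.RingTheory.Nilpotent.Basic
import Mathlib.RingTheory.Localization.BaseChange
import Mathlib.RingTheory.TensorProduct.IsBaseChangeHom

set_option autoImplicit false
set_option maxSynthPendingDepth 3
set_option linter.style.haveILetI false
universe u
open TensorProduct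
open EGA43

namespace Groth.Agent.S4852

/-- Let A be a semi-local ring (finitely many maximal ideals) whose Jacobson radical is nilpotent, for
instance an Artinian ring, and let (u_i : A → B_i) be a family of ring homomorphisms whose kernels
have zero intersection. Then an A-module M is flat if and only if, for every i, the B_i-module B_i
⊗_A M is flat. -/
theorem result {A : Type u} [CommRing A]
    [Finite (MaximalSpectrum A)] (hnil : IsNilpotent (Ring.jacobson A))
    {ι : Type u} (B : ι → Type u) [∀ i, CommRing (B i)] [∀ i, Algebra A (B i)]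
    (hB : ∀ a : A, (∀ i, algebraMap A (B i) a = 0) → a = 0)
    (M : Type u) [AddCommGroup M] [Module A M] :
    Module.Flat A M ↔ ∀ i, Module.Flat (B i) (B i ⊗[A] M) := by
  classical
  refine ⟨fun h i => inferInstance, fun h => ?_⟩
  obtain ⟨N, hN⟩ := hnil
  haveI := Fintype.ofFinite (MaximalSpectrum A)
  have hprod : (∏ m : MaximalSpectrum A, m.asIdeal) ≤ Ring.jacobson A := by
    rw [Ring.jacobson_eq_sInf_isMaximal]
    exact le_sInf fun P hP => Ideal.prod_le_inf.trans (Finset.inf_le (Finset.mem_univ (⟨P, hP⟩ : MaximalSpectrum A)))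
  have hsep : ∀ (P : Ideal A) [P.IsMaximal], ∃ t, t ∉ P ∧ ∀ a ∈ P ^ (N + 1), t * a = 0 := by
    intro P hP
    let others := (Finset.univ.erase (⟨P, hP⟩ : MaximalSpectrum A))
    have hne : ¬ (∏ m ∈ others, m.asIdeal) ^ (N + 1) ≤ P := fun hle => by
      obtain ⟨m, hm, hmP⟩ := (Ideal.IsPrime.prod_le hP.isPrime).mp ((Ideal.IsPrime.pow_le_iff (Nat.succ_ne_zero N)).mp hle)
      exact (Finset.mem_erase.mp hm).1 (MaximalSpectrum.ext (m.2.eq_of_le hP.ne_top hmP))
    obtain ⟨t, ht, htP⟩ := SetLike.not_le_iff_exists.mp hne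
    refine ⟨t, htP, fun a ha => ?_⟩
    have h0 : (∏ m : MaximalSpectrum A, m.asIdeal) ^ (N + 1) ≤ ⊥ :=
      (Ideal.pow_right_mono hprod _).trans ((Ideal.pow_le_pow_right (Nat.le_succ N)).trans hN.le)
    refine (Submodule.mem_bot A).mp (h0 ?_)
    rw [← Finset.mul_prod_erase Finset.univ _ (Finset.mem_univ (⟨P, hP⟩ : MaximalSpectrum A)), mul_pow, mul_comm (P ^ (N + 1))]
    exact Ideal.mul_mem_mul ht ha
  have hloc : ∀ (P : Ideal A) [P.IsMaximal], IsLocalization P.primeCompl (A ⧸ P ^ (N + 1)) := by
    intro P hP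
    obtain ⟨t, htP, ht⟩ := hsep P
    have hu : ∀ s, s ∉ P → IsUnit (algebraMap A (A ⧸ P ^ (N + 1)) s) := fun s hs => by
      obtain ⟨a, b, hb, hab⟩ := hP.exists_inv hs
      have hnil : IsNilpotent (algebraMap A (A ⧸ P ^ (N + 1)) b) :=
        ⟨N + 1, by rw [← map_pow]; exact Ideal.Quotient.eq_zero_iff_mem.mpr (Ideal.pow_mem_pow hb _)⟩
      have h1 : algebraMap A (A ⧸ P ^ (N + 1)) a * algebraMap A (A ⧸ P ^ (N + 1)) s = 1 - algebraMap A (A ⧸ P ^ (N + 1)) b := by
        rw [eq_sub_iff_add_eq, ← map_mul, ← map_add, hab, map_one]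
      exact isUnit_of_mul_isUnit_right (x := algebraMap A (A ⧸ P ^ (N + 1)) a) (by rw [h1]; exact IsNilpotent.isUnit_one_sub hnil)
    refine (isLocalization_iff _ _).mpr ⟨fun s => hu s s.2, fun z => ?_, fun {x y} hxy => ⟨⟨t, htP⟩, ?_⟩⟩
    · obtain ⟨a, rfl⟩ := Ideal.Quotient.mk_surjective z
      exact ⟨(a, 1), by simp⟩
    · have := ht _ ((Ideal.Quotient.eq).mp hxy)
      rw [mul_sub, sub_eq_zero] at this
      exact this
  have hflat : ∀ (P : Ideal A) [P.IsMaximal], Module.Flat A ((A ⧸ P ^ (N + 1)) ⊗[A] M) := by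
    intro P hP
    haveI := hloc P
    haveI : Module.Flat A (A ⧸ P ^ (N + 1)) := IsLocalization.flat _ P.primeCompl
    let R := A ⧸ P ^ (N + 1)
    let J : Ideal R := P.map (Ideal.Quotient.mk _)
    have hJ : IsNilpotent J := ⟨N + 1, by
      rw [← Ideal.map_pow]; exact Ideal.map_quotient_self _⟩
    haveI : J.IsMaximal := (Ideal.map_eq_top_or_isMaximal_of_surjective _ Ideal.Quotient.mk_surjective hP).resolve_left
      fun htop => by
        obtain ⟨n, hn⟩ := hJ
        rw [show J = ⊤ from htop, Ideal.top_pow] at hn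
        obtain ⟨t, htP, ht⟩ := hsep P
        exact htP (Ideal.pow_le_self (Nat.succ_ne_zero N) (Ideal.Quotient.eq_zero_iff_mem.mp
          ((Submodule.mem_bot R).mp (hn.le Submodule.mem_top : Ideal.Quotient.mk (P ^ (N + 1)) t ∈ (⊥ : Ideal R)))))
    letI := Ideal.Quotient.field J
    obtain ⟨R₀, -, -, hR₀⟩ := Groth.Agent.S4853.result (R ⊗[A] M) J hJ inferInstance
    have hzero : R₀ = ⊥ := by
      refine eq_bot_iff.mpr fun r hr => ?_
      obtain ⟨a, rfl⟩ := Ideal.Quotient.mk_surjective r
      obtain ⟨t, htP, ht⟩ := hsep P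
      have hta : ∀ i, algebraMap A (B i) (t * a) = 0 := fun i => by
        let B' := B i ⧸ (P ^ (N + 1)).map (algebraMap A (B i))
        letI : Algebra R B' := (Ideal.Quotient.lift (P ^ (N + 1)) (algebraMap A B') fun x hx =>
          Ideal.Quotient.eq_zero_iff_mem.mpr (Ideal.mem_map_of_mem _ hx)).toAlgebra
        haveI : IsScalarTower A R B' := IsScalarTower.of_algebraMap_eq fun x => rfl
        haveI := h i
        haveI : Module.Flat B' (B' ⊗[R] (R ⊗[A] M)) :=
          Module.Flat.of_linearEquiv ((TensorProduct.AlgebraTensorModule.cancelBaseChange A R B' B' M).trans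
            (TensorProduct.AlgebraTensorModule.cancelBaseChange A (B i) B' B' M).symm)
        have h1 := (hR₀ B').2.mp inferInstance
        have h2 : algebraMap R B' (Ideal.Quotient.mk _ a) = 0 := by
          have := Ideal.mem_map_of_mem (algebraMap R B') hr
          rw [h1] at this
          exact this
        have h3 : algebraMap A (B i) a ∈ (P ^ (N + 1)).map (algebraMap A (B i)) :=
          Ideal.Quotient.eq_zero_iff_mem.mp (show algebraMap A B' a = 0 from h2)
        have h4 : Ideal.span {algebraMap A (B i) t} * (P ^ (N + 1)).map (algebraMap A (B i)) ≤ ⊥ := by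
          rw [← Set.image_singleton, ← Ideal.map_span, ← Ideal.map_mul, Ideal.map_le_iff_le_comap]
          refine le_trans (Ideal.mul_le.mpr fun x hx y hy => ?_) bot_le
          obtain ⟨c, rfl⟩ := Ideal.mem_span_singleton'.mp hx
          exact (Submodule.mem_bot A).mpr (by rw [mul_assoc, ht y hy, mul_zero])
        rw [map_mul]
        exact (Submodule.mem_bot (B i)).mp (h4 (Ideal.mul_mem_mul (Ideal.mem_span_singleton_self _) h3))
      have h0 : t * a = 0 := hB _ hta
      refine (Submodule.mem_bot R).mpr ?_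
      obtain ⟨u, hu⟩ := (IsLocalization.map_units R (⟨t, htP⟩ : P.primeCompl))
      refine u.mul_right_eq_zero.mp ?_
      rw [hu]
      show algebraMap A R t * algebraMap A R a = 0
      rw [← map_mul, h0, map_zero]
    have hfl : Module.Flat R (R ⊗[R] (R ⊗[A] M)) := (hR₀ R).2.mpr (by rw [hzero, Ideal.map_bot])
    haveI : Module.Flat R (R ⊗[A] M) := Module.Flat.of_linearEquiv (TensorProduct.lid R (R ⊗[A] M)).symm
    exact Module.Flat.trans A R _
  refine Module.flat_of_localized_maximal M fun P hP => ?_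
  haveI := hloc P
  haveI : IsLocalizedModule P.primeCompl (TensorProduct.mk A (A ⧸ P ^ (N + 1)) M 1) :=
    (isLocalizedModule_iff_isBaseChange P.primeCompl (A ⧸ P ^ (N + 1)) _).mpr (TensorProduct.isBaseChange A M _)
  haveI := hflat P
  exact Module.Flat.of_linearEquiv (IsLocalizedModule.iso P.primeCompl (TensorProduct.mk A (A ⧸ P ^ (N + 1)) M 1))

end Groth.Agent.S4852
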