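import Groth.Statements.S4855
import Groth.Agent.L12.FlatSquare
-- import your own Groth.Agent.* helpers here

set_option autoImplicit false
universe u
open CategoryTheory AlgebraicGeometry
open EGA43

namespace Groth.Agent.S4855

open CategoryTheory.Limits in
/-- Let f : X ⟶ Y be a proper morphism of finite presentation such that the map O_Y → f_* O_X is
injective (on sections over every open subset of Y). Then f is flat if and only if the first
projection X ×_Y X ⟶ X is flat. -/
theorem result {X Y : Scheme.{u}} (f : X ⟶ Y)
    [IsProper f] [LocallyOfFinitePresentation f] (hinj : ∀ V : Y.Opens, Function.Injective (f.app V)) :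
    Flat f ↔ Flat (pullback.fst f f) := by
  exact ⟨fun hf => inferInstance, fun h => Groth.L12.FlatSquare.flat_of_flat_fst f hinj h⟩

end Groth.Agent.S4855
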