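import Groth.Statements.S4856
import Groth.Agent.L07.FlatFamilyApps

set_option autoImplicit false
set_option linter.style.haveILetI false
universe u
open CategoryTheory AlgebraicGeometry
open EGA43

namespace Groth.Agent.S4856

open CategoryTheory.Limits in
/-- Let A be an Artinian local ring, f : X ⟶ Spec A locally of finite type, F a coherent O_X-module and
x a point of X. Let (u_i : A → A_i) be a family of ring homomorphisms into local rings such that an
element of A killed by every u_i is zero. If, for every i, the pullback of F to X_i = X ×_{Spec A}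
Spec A_i is flat over Spec A_i at every point of X_i whose images are x in X and the closed point in
Spec A_i, then F is f-flat at x. -/
theorem result {A : Type u} [CommRing A]
    [IsArtinianRing A] [IsLocalRing A] {X : Scheme.{u}} (f : X ⟶ Spec (CommRingCat.of A))
    [LocallyOfFiniteType f] (F : X.Modules) (hF : Coh.IsCoh F) (x : X)
    {ι : Type u} (A' : ι → Type u) [∀ i, CommRing (A' i)] [∀ i, IsLocalRing (A' i)] (u : ∀ i, A →+* A' i)
    (hu : ∀ a : A, (∀ i, u i a = 0) → a = 0)
    (hflat : ∀ (i : ι) (x' : ↥(pullback f (Spec.map (CommRingCat.ofHom (u i))))),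
      pullback.fst f (Spec.map (CommRingCat.ofHom (u i))) x' = x →
      pullback.snd f (Spec.map (CommRingCat.ofHom (u i))) x' = IsLocalRing.closedPoint (A' i) →
      FlatMod.IsFlatOverAt (pullback.snd f (Spec.map (CommRingCat.ofHom (u i))))
        ((Scheme.Modules.pullback (pullback.fst f (Spec.map (CommRingCat.ofHom (u i))))).obj F) x') :
    FlatMod.IsFlatOverAt f F x := by
  letI p := f x
  obtain ⟨e, he⟩ := Groth.L07.FlatFamily.exists_equiv_stalk (f x)
  let φ : ∀ i, ((Spec (CommRingCat.of A)).presheaf.stalk (f x) : Type u) →+* A' i :=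
    fun i => (u i).comp e.symm.toRingHom
  letI : ∀ i, Algebra ((Spec (CommRingCat.of A)).presheaf.stalk (f x)) (A' i) := fun i => (φ i).toAlgebra
  haveI : IsArtinianRing ((Spec (CommRingCat.of A)).presheaf.stalk (f x)) := e.surjective.isArtinianRing
  haveI : ∀ i, IsLocalHom (algebraMap ((Spec (CommRingCat.of A)).presheaf.stalk (f x)) (A' i)) :=
    fun i => Groth.L07.FlatFamily.isLocalHom_of_artinian _
  refine Groth.L07.FlatFamily.flat_of_forall f x F hF A'
    (fun k => Groth.L07.FlatFamily.htop_artinian A' φ (fun a ha => ?_) k) _ (fun i => ?_) hflat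
  · have := hu (e.symm a) ha
    rw [← e.apply_symm_apply a, this, map_zero]
  · show _ = Spec.map (CommRingCat.ofHom (φ i)) ≫ _
    rw [Groth.L07.FlatFamily.tst_eq, ← Spec.map_comp, ← he, ← CommRingCat.ofHom_comp]
    congr 2
    ext a
    simp [φ]

end Groth.Agent.S4856
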