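import Groth.Statements.S4858
import Mathlib.Topology.LocallyClosed
import Mathlib.Data.List.TFAE
import Mathlib.Tactic.TFAE
-- import your own Groth.Agent.* helpers here

set_option autoImplicit false
universe u
open EGA43

namespace Groth.Agent.S4858

/-- Conditions a), a′), c), c′) (very dense subsets): for a subset X₀ of a topological space X the
following are equivalent: every nonempty locally closed subset of X meets X₀; every closed subset Z
of X equals the closure of Z ∩ X₀; the map U ↦ U ∩ X₀ is injective on open subsets of X; the map F ↦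
F ∩ X₀ is injective on closed subsets of X. -/
theorem result {X : Type u} [TopologicalSpace X] (X₀ : Set X) :
    [∀ Z : Set X, IsLocallyClosed Z → Z.Nonempty → (Z ∩ X₀).Nonempty,
      ∀ Z : Set X, IsClosed Z → closure (Z ∩ X₀) = Z,
      ∀ U V : Set X, IsOpen U → IsOpen V → U ∩ X₀ = V ∩ X₀ → U = V,
      ∀ F F' : Set X, IsClosed F → IsClosed F' → F ∩ X₀ = F' ∩ X₀ → F = F'].TFAE := by
  tfae_have 1 → 2 := fun h Z hZ => by
    refine subset_antisymm (closure_minimal Set.inter_subset_left hZ) fun x hx => ?_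
    by_contra hc
    obtain ⟨y, ⟨hyZ, hy⟩, hy0⟩ := h (Z ∩ (closure (Z ∩ X₀))ᶜ) (hZ.isLocallyClosed.inter
      isClosed_closure.isOpen_compl.isLocallyClosed) ⟨x, hx, hc⟩
    exact hy (subset_closure ⟨hyZ, hy0⟩)
  tfae_have 2 → 4 := fun h F F' hF hF' he => by rw [← h F hF, he, h F' hF']
  tfae_have 4 → 3 := fun h U V hU hV he => compl_injective (h Uᶜ Vᶜ hU.isClosed_compl hV.isClosed_compl (by
    ext x
    constructor <;> rintro ⟨h1, h2⟩ <;> refine ⟨fun h3 => h1 ?_, h2⟩
    · exact (he.ge ⟨h3, h2⟩).1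
    · exact (he.le ⟨h3, h2⟩).1))
  tfae_have 3 → 1 := fun h Z hZ hne => by
    obtain ⟨U, W, hU, hW, rfl⟩ := hZ
    by_contra hc
    rw [Set.not_nonempty_iff_eq_empty] at hc
    obtain ⟨z, hzU, hzW⟩ := hne
    have h1 := h U (U ∩ Wᶜ) hU (hU.inter hW.isOpen_compl) (by
      ext x
      refine ⟨fun hx => ⟨⟨hx.1, fun hxW => ?_⟩, hx.2⟩, fun hx => ⟨hx.1.1, hx.2⟩⟩
      have : x ∈ (∅ : Set X) := hc ▸ ⟨⟨hx.1, hxW⟩, hx.2⟩
      exact this)
    exact (h1 ▸ hzU : z ∈ U ∩ Wᶜ).2 hzW
  tfae_finish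

end Groth.Agent.S4858
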