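import Groth.Statements.S4859
-- import your own Groth.Agent.* helpers here

set_option autoImplicit false
universe u
open EGA43

namespace Groth.Agent.S4859

/-- Conditions a), a′), b) (quasi-homeomorphisms): for a continuous map f : X₀ → X the following are
equivalent: taking preimages is a bijection from the open subsets of X onto the open subsets of X₀;
taking preimages is a bijection from the closed subsets of X onto the closed subsets of X₀; the
topology of X₀ is induced from X through f and the image f(X₀) is very dense in X, in the sense that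
two open subsets of X with the same trace on f(X₀) coincide. -/
theorem result {X₀ X : Type u} [TopologicalSpace X₀] [TopologicalSpace X]
    (f : X₀ → X) (hf : Continuous f) :
    [Function.Bijective (fun U : TopologicalSpace.Opens X =>
        (⟨f ⁻¹' (U : Set X), U.isOpen.preimage hf⟩ : TopologicalSpace.Opens X₀)),
      Function.Bijective (fun F : TopologicalSpace.Closeds X =>
        (⟨f ⁻¹' (F : Set X), F.isClosed.preimage hf⟩ : TopologicalSpace.Closeds X₀)),
      Topology.IsInducing f ∧
        ∀ U V : Set X, IsOpen U → IsOpen V → U ∩ Set.range f = V ∩ Set.range f → U = V].TFAE := by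
  classical
  tfae_have 1 ↔ 2 := by
    constructor
    · intro h
      refine ⟨fun F G e => ?_, fun F => ?_⟩
      · have e' : f ⁻¹' (F : Set X) = f ⁻¹' (G : Set X) := congrArg SetLike.coe e
        have := @h.1 F.compl G.compl (TopologicalSpace.Opens.ext (by
          show f ⁻¹' (F : Set X)ᶜ = f ⁻¹' (G : Set X)ᶜ
          rw [Set.preimage_compl, Set.preimage_compl, e']))
        exact SetLike.coe_injective (compl_injective (congrArg SetLike.coe this))
      · obtain ⟨U, hU⟩ := h.2 F.compl
        refine ⟨U.compl, SetLike.coe_injective ?_⟩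
        show f ⁻¹' (U : Set X)ᶜ = (F : Set X₀)
        rw [Set.preimage_compl, show f ⁻¹' (U : Set X) = (F : Set X₀)ᶜ from congrArg SetLike.coe hU, compl_compl]
    · intro h
      refine ⟨fun F G e => ?_, fun F => ?_⟩
      · have e' : f ⁻¹' (F : Set X) = f ⁻¹' (G : Set X) := congrArg SetLike.coe e
        have := @h.1 F.compl G.compl (TopologicalSpace.Closeds.ext (by
          show f ⁻¹' (F : Set X)ᶜ = f ⁻¹' (G : Set X)ᶜ
          rw [Set.preimage_compl, Set.preimage_compl, e']))
        exact SetLike.coe_injective (compl_injective (congrArg SetLike.coe this))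
      · obtain ⟨U, hU⟩ := h.2 F.compl
        refine ⟨U.compl, SetLike.coe_injective ?_⟩
        show f ⁻¹' (U : Set X)ᶜ = (F : Set X₀)
        rw [Set.preimage_compl, show f ⁻¹' (U : Set X) = (F : Set X₀)ᶜ from congrArg SetLike.coe hU, compl_compl]
  tfae_have 1 → 3 := by
    intro h
    refine ⟨⟨le_antisymm hf.le_induced fun V hV => ?_⟩, fun U V hU hV e => ?_⟩
    · obtain ⟨U, hU⟩ := h.2 ⟨V, hV⟩
      exact isOpen_induced_iff.2 ⟨U, U.2, congrArg SetLike.coe hU⟩
    · have := @h.1 ⟨U, hU⟩ ⟨V, hV⟩ (TopologicalSpace.Opens.ext (by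
        show f ⁻¹' U = f ⁻¹' V
        rw [← Set.preimage_inter_range, e, Set.preimage_inter_range]))
      exact congrArg SetLike.coe this
  tfae_have 3 → 1 := by
    rintro ⟨hi, hd⟩
    refine ⟨fun U V e => TopologicalSpace.Opens.ext (hd U V U.2 V.2 ?_), fun V => ?_⟩
    · have e' : f ⁻¹' (U : Set X) = f ⁻¹' (V : Set X) := congrArg SetLike.coe e
      rw [← Set.image_preimage_eq_inter_range, e', Set.image_preimage_eq_inter_range]
    · obtain ⟨U, hU, hUV⟩ := hi.isOpen_iff.1 V.2
      exact ⟨⟨U, hU⟩, TopologicalSpace.Opens.ext hUV⟩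
  tfae_finish

end Groth.Agent.S4859
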