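import Groth.Statements.S4860
import Mathlib.RingTheory.Localization.Finiteness
import Mathlib.RingTheory.FinitePresentation
import Mathlib.RingTheory.RingHom.FinitePresentation
import Mathlib.RingTheory.Localization.Away.Basic
import Mathlib.RingTheory.IntegralClosure.IsIntegralClosure.Basic
import Mathlib.RingTheory.Localization.FractionRing
import Mathlib.RingTheory.Algebraic.Integral
import Mathlib.RingTheory.Jacobson.Ring
import Mathlib.RingTheory.FiniteType
import Mathlib.RingTheory.Spectrum.Prime.Topology
-- import your own Groth.Agent.* helpers here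

set_option autoImplicit false
universe u
open EGA43

namespace Groth.Agent.S4860

/-- For an integral domain B the following are equivalent: a) the localization B_f is a field for some
nonzero f; b) the fraction field of B is a finitely generated B-algebra; c) there is a field
containing B (an injective algebra map from B) which is a finitely generated B-algebra; d) the
generic point of Spec B is open. -/
theorem result (B : Type u) [CommRing B] [IsDomain B] :
    [∃ f : B, f ≠ 0 ∧ IsField (Localization.Away f),
      Algebra.FiniteType B (FractionRing B),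
      ∃ (K : Type u) (_ : Field K) (_ : Algebra B K), Function.Injective (algebraMap B K) ∧ Algebra.FiniteType B K,
      IsOpen ({⟨⊥, Ideal.bot_prime⟩} : Set (PrimeSpectrum B))].TFAE := by
  classical
  have hle : ∀ f : B, f ≠ 0 → Submonoid.powers f ≤ nonZeroDivisors B := fun f hf =>
    powers_le_nonZeroDivisors_of_noZeroDivisors hf
  tfae_have 1 → 2 := by
    rintro ⟨f, hf, hF⟩
    letI : Field (Localization.Away f) := hF.toField
    let φ : Localization.Away f →ₐ[B] FractionRing B := IsLocalization.liftAlgHom (M := Submonoid.powers f)
      (f := Algebra.ofId B (FractionRing B)) fun y => IsLocalization.map_units (FractionRing B) (⟨y, hle f hf y.2⟩ : nonZeroDivisors B)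
    haveI : Algebra.FinitePresentation B (Localization.Away f) := IsLocalization.Away.finitePresentation f
    refine Algebra.FiniteType.of_surjective φ fun z => ?_
    obtain ⟨a, s, rfl⟩ := IsLocalization.exists_mk'_eq (nonZeroDivisors B) z
    have hs : algebraMap B (Localization.Away f) s ≠ 0 := fun h => nonZeroDivisors.coe_ne_zero s
      (IsLocalization.injective (Localization.Away f) (hle f hf) (h.trans (map_zero _).symm))
    refine ⟨algebraMap B (Localization.Away f) a * (algebraMap B (Localization.Away f) s)⁻¹, ?_⟩
    rw [IsLocalization.eq_mk'_iff_mul_eq, ← φ.commutes (s : B), ← map_mul, mul_assoc, inv_mul_cancel₀ hs,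
      mul_one, φ.commutes]
  tfae_have 2 → 3 := fun h => ⟨FractionRing B, inferInstance, inferInstance, IsFractionRing.injective B _, h⟩
  tfae_have 3 → 1 := by
    rintro ⟨K, _, _, hinj, hfin⟩
    haveI : FaithfulSMul B K := (faithfulSMul_iff_algebraMap_injective B K).2 hinj
    let F := FractionRing B
    letI : Algebra F K := FractionRing.liftAlgebra B K
    haveI : IsScalarTower B F K := FractionRing.isScalarTower_liftAlgebra B K
    haveI : Algebra.FiniteType F K := Algebra.FiniteType.of_restrictScalars_finiteType B F K
    haveI : Module.Finite F K := finite_of_finite_type_of_isJacobsonRing F K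
    obtain ⟨s, hs⟩ := hfin.out
    have hp : ∀ x : K, ∃ p : Polynomial B, p ≠ 0 ∧ Polynomial.aeval x p = 0 := fun x =>
      (IsFractionRing.isAlgebraic_iff B F K).2 (Algebra.IsAlgebraic.isAlgebraic x)
    choose p hp0 hpx using hp
    let f : B := ∏ x ∈ s, (p x).leadingCoeff
    have hf : f ≠ 0 := Finset.prod_ne_zero_iff.2 fun x _ => Polynomial.leadingCoeff_ne_zero.2 (hp0 x)
    refine ⟨f, hf, ?_⟩
    let R := Localization.Away f
    let ψ : R →ₐ[B] K := IsLocalization.liftAlgHom (M := Submonoid.powers f) (f := Algebra.ofId B K)
      fun y => IsUnit.mk0 _ fun h => nonZeroDivisors.ne_zero (hle f hf y.2)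
        (hinj (h.trans (map_zero _).symm))
    letI : Algebra R K := ψ.toRingHom.toAlgebra
    haveI : IsScalarTower B R K := IsScalarTower.of_algebraMap_eq fun b => (ψ.commutes b).symm
    have hψ : Function.Injective ψ := by
      rw [injective_iff_map_eq_zero]
      intro z hz
      obtain ⟨a, t, rfl⟩ := IsLocalization.exists_mk'_eq (Submonoid.powers f) z
      rw [IsLocalization.mk'_eq_zero_iff]
      refine ⟨1, ?_⟩
      rw [OneMemClass.coe_one, one_mul]
      refine hinj ?_
      rw [map_zero, ← ψ.commutes, ← IsLocalization.mk'_spec R a t, map_mul, hz, zero_mul]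
    have hint : ∀ x ∈ s, IsIntegral R x := fun x hx => by
      have hu : IsUnit (algebraMap B R (p x).leadingCoeff) :=
        isUnit_of_dvd_unit (map_dvd _ (Finset.dvd_prod_of_mem (fun x => (p x).leadingCoeff) hx)) (IsLocalization.Away.algebraMap_isUnit f)
      have h1 : IsIntegral R (algebraMap B K (p x).leadingCoeff * x) := by
        have := (isIntegral_leadingCoeff_smul (p x) x (hpx x)).tower_top (A := R)
        rwa [Algebra.smul_def] at this
      have h2 := h1.smul ((hu.unit⁻¹ : Rˣ) : R)
      rwa [Algebra.smul_def, ← mul_assoc, IsScalarTower.algebraMap_apply B R K, ← map_mul,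
        IsUnit.val_inv_mul hu, map_one, one_mul] at h2
    haveI : Algebra.IsIntegral R K := ⟨fun z => by
      have hz : z ∈ Algebra.adjoin B (s : Set K) := hs ▸ Algebra.mem_top
      induction hz using Algebra.adjoin_induction with
      | mem x hx => exact hint x hx
      | algebraMap b => rw [IsScalarTower.algebraMap_apply B R K]; exact isIntegral_algebraMap
      | add a b _ _ ha hb => exact ha.add hb
      | mul a b _ _ ha hb => exact ha.mul hb⟩
    haveI : IsDomain R := IsLocalization.isDomain_localization (hle f hf)
    exact isField_of_isIntegral_of_isField (R := R) (S := K) hψ (Field.toIsField K)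
  tfae_have 1 → 4 := by
    rintro ⟨f, hf, hF⟩
    letI := hF.toField
    have : ({⟨⊥, Ideal.bot_prime⟩} : Set (PrimeSpectrum B)) = (PrimeSpectrum.basicOpen f : Set (PrimeSpectrum B)) := by
      rw [← PrimeSpectrum.localization_away_comap_range (Localization.Away f) f]
      ext q
      constructor
      · rintro rfl
        refine ⟨⟨⊥, Ideal.bot_prime⟩, PrimeSpectrum.ext ?_⟩
        exact Ideal.comap_bot_of_injective _ (IsLocalization.injective _ (hle f hf))
      · rintro ⟨z, rfl⟩
        refine PrimeSpectrum.ext ?_
        show Ideal.comap _ z.asIdeal = ⊥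
        rw [(Ideal.eq_bot_or_top z.asIdeal).resolve_right z.2.ne_top]
        exact Ideal.comap_bot_of_injective _ (IsLocalization.injective _ (hle f hf))
    rw [this]
    exact PrimeSpectrum.isOpen_basicOpen
  tfae_have 4 → 1 := by
    intro ho
    obtain ⟨_, ⟨_, ⟨f, rfl⟩, rfl⟩, hbot, hsub⟩ :=
      PrimeSpectrum.isBasis_basic_opens.exists_subset_of_mem_open (Set.mem_singleton _) ho
    have hf : f ≠ 0 := fun h => hbot (by rw [h]; exact Ideal.zero_mem _)
    haveI : IsDomain (Localization.Away f) := IsLocalization.isDomain_localization (hle f hf)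
    refine ⟨f, hf, Ring.isField_iff_maximal_bot.2 ?_⟩
    obtain ⟨m, hm⟩ := Ideal.exists_maximal (Localization.Away f)
    have h1 : PrimeSpectrum.comap (algebraMap B (Localization.Away f)) ⟨m, hm.isPrime⟩ ∈
        (PrimeSpectrum.basicOpen f : Set (PrimeSpectrum B)) := by
      rw [← PrimeSpectrum.localization_away_comap_range (Localization.Away f) f]
      exact ⟨_, rfl⟩
    have h2 : m.comap (algebraMap B (Localization.Away f)) = ⊥ := congrArg PrimeSpectrum.asIdeal (hsub h1)
    have h3 : m = ⊥ := by
      rw [← IsLocalization.map_under (Submonoid.powers f) (Localization.Away f) m]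
      show Ideal.map _ (m.comap _) = ⊥
      rw [h2, Ideal.map_bot]
    exact h3 ▸ hm
  tfae_finish

end Groth.Agent.S4860
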