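import Groth.Statements.S4861
import Mathlib.RingTheory.Ideal.KrullsHeightTheorem
import Mathlib.RingTheory.Ideal.MinimalPrime.Noetherian
import Mathlib.RingTheory.Localization.Away.Basic
import Mathlib.RingTheory.Spectrum.Maximal.Basic
import Mathlib.RingTheory.DedekindDomain.Basic
import Mathlib.Tactic.TFAE

set_option autoImplicit false
set_option maxSynthPendingDepth 3
set_option linter.style.haveILetI false
universe u
open EGA43

namespace Groth.Agent.S4861

/-- For a Noetherian integral domain B the following are equivalent (and hence equivalent to: the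
fraction field of B is a finitely generated B-algebra; the generic point of Spec B is open): a) the
localization B_f is a field for some nonzero f; e) Spec B is finite; f) B is semi-local (finitely
many maximal ideals) of Krull dimension at most 1. -/
theorem result (B : Type u) [CommRing B] [IsDomain B]
    [IsNoetherianRing B] :
    [∃ f : B, f ≠ 0 ∧ IsField (Localization.Away f),
      Finite (PrimeSpectrum B),
      Finite (MaximalSpectrum B) ∧ ringKrullDim B ≤ 1].TFAE := by
  classical
  have key : ∀ (T : Set (Ideal B)), T.Finite →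
      (∀ x : B, x ≠ 0 → ∀ q ∈ (Ideal.span {x}).minimalPrimes, q ∈ T) →
      (∀ P : Ideal B, P.IsPrime → P ≠ ⊥ → P ∈ T) ∧ ringKrullDim B ≤ 1 := by
    intro T hT hcov
    let T₁ : Ideal B → Set (Ideal B) := fun P => {r ∈ T | r.IsPrime ∧ r ≤ P ∧ r.height ≤ 1}
    have hmain : ∀ P : Ideal B, P.IsPrime → P ≠ ⊥ → P ∈ T₁ P := by
      intro P hP hne
      have hfin : (T₁ P).Finite := hT.subset fun r hr => hr.1
      have hsub : (P : Set B) ⊆ ⋃ r ∈ (↑(insert (⊥ : Ideal B) hfin.toFinset) : Set (Ideal B)), (r : Set B) := by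
        intro z hz
        by_cases hz0 : z = 0
        · exact Set.mem_biUnion (Finset.mem_coe.mpr (Finset.mem_insert_self _ _)) (by rw [hz0]; exact zero_mem _)
        · obtain ⟨r, hr, hrP⟩ := Ideal.exists_minimalPrimes_le (J := P) ((Ideal.span_singleton_le_iff_mem (I := P)).mpr hz)
          exact Set.mem_biUnion (Finset.mem_coe.mpr (Finset.mem_insert_of_mem (hfin.mem_toFinset.mpr
            ⟨hcov z hz0 r hr, hr.1.1, hrP, Ideal.height_le_one_of_isPrincipal_of_mem_minimalPrimes (Ideal.span {z}) r hr⟩)))
            (hr.1.2 (Ideal.mem_span_singleton_self z))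
      obtain ⟨r, hr, hle⟩ := (Ideal.subset_union_prime (⊥ : Ideal B) (⊥ : Ideal B) fun i hi h1 _ =>
        (hfin.mem_toFinset.mp ((Finset.mem_insert.mp hi).resolve_left h1)).2.1).mp hsub
      rcases Finset.mem_insert.mp hr with rfl | hr
      · exact absurd (le_bot_iff.mp hle) hne
      · have hr' := hfin.mem_toFinset.mp hr
        exact (le_antisymm hle hr'.2.2.1) ▸ hr'
    refine ⟨fun P hP hne => (hmain P hP hne).1, (ringKrullDim_le_iff_height_le (R := B) 1).mpr fun P hP => ?_⟩
    by_cases hne : P = ⊥
    · subst hne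
      simp [Ideal.height_bot]
    · exact_mod_cast (hmain P hP hne).2.2.2
  tfae_have 1 → 2 := by
    rintro ⟨f, hf, hfld⟩
    have hmem : ∀ P : Ideal B, P.IsPrime → P ≠ ⊥ → f ∈ P := by
      intro P hP hne
      by_contra hfP
      letI := hfld.toField
      have hdisj : Disjoint (Submonoid.powers f : Set B) (P : Set B) :=
        (Ideal.disjoint_powers_iff_notMem f hP.isRadical).mpr hfP
      haveI := IsLocalization.isPrime_of_isPrime_disjoint (Submonoid.powers f) (Localization.Away f) P hP hdisj
      have hb := (Ideal.eq_bot_or_top (P.map (algebraMap B (Localization.Away f)))).resolve_right (Ideal.IsPrime.ne_top this)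
      apply hne
      rw [← IsLocalization.under_map_of_isPrime_disjoint (Submonoid.powers f) (Localization.Away f) hP hdisj, hb,
        Ideal.under, ← RingHom.ker_eq_comap_bot, RingHom.ker_eq_bot_iff_eq_zero]
      exact fun a ha => (injective_iff_map_eq_zero _).mp
        (IsLocalization.injective (Localization.Away f) (powers_le_nonZeroDivisors_of_noZeroDivisors hf)) a ha
    obtain ⟨hall, -⟩ := key ((Ideal.span {f}).minimalPrimes) (Ideal.finite_minimalPrimes_of_isNoetherianRing B _)
      (fun x hx q hq => by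
        have hqne : q ≠ ⊥ := fun h => hx (by simpa [h] using hq.1.2 (Ideal.mem_span_singleton_self x))
        haveI := hq.1.1
        obtain ⟨q', hq', hle⟩ := Ideal.exists_minimalPrimes_le (J := q)
          ((Ideal.span_singleton_le_iff_mem (I := q)).mpr (hmem q hq.1.1 hqne))
        rcases hle.eq_or_lt with h | h
        · exact h ▸ hq'
        · exfalso
          haveI : q'.IsPrime := hq'.1.1
          have hq'ne : q' ≠ ⊥ := fun h' => hf (by simpa [h'] using hq'.1.2 (Ideal.mem_span_singleton_self f))
          have h1 := Ideal.height_le_one_of_isPrincipal_of_mem_minimalPrimes (Ideal.span {x}) q hq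
          have h2 : q'.height < 1 := (Ideal.height_strict_mono_of_isPrime h).trans_le h1
          haveI : (⊥ : Ideal B).IsPrime := Ideal.isPrime_bot
          have h3 := Ideal.height_strict_mono_of_isPrime (bot_lt_iff_ne_bot.mpr hq'ne)
          rw [ENat.lt_one_iff_eq_zero.mp h2] at h3
          exact not_lt_zero h3)
    haveI := ((Ideal.finite_minimalPrimes_of_isNoetherianRing B (Ideal.span {f})).insert (⊥ : Ideal B)).to_subtype
    refine Finite.of_injective (β := ↥(insert (⊥ : Ideal B) ((Ideal.span {f}).minimalPrimes)))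
      (fun p : PrimeSpectrum B => ⟨p.asIdeal, by
        by_cases h : p.asIdeal = ⊥
        · exact Or.inl h
        · exact Or.inr (hall _ p.2 h)⟩) ?_
    exact fun p q h => PrimeSpectrum.ext (congrArg Subtype.val h)
  tfae_have 2 → 3 := by
    intro h
    refine ⟨Finite.of_injective MaximalSpectrum.toPrimeSpectrum MaximalSpectrum.toPrimeSpectrum_injective, ?_⟩
    exact (key {P : Ideal B | P.IsPrime ∧ P ≠ ⊥} (Set.Finite.subset ((Set.finite_range (PrimeSpectrum.asIdeal (R := B))))
      fun P hP => ⟨⟨P, hP.1⟩, rfl⟩)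
      (fun x hx q hq => ⟨hq.1.1, fun h => hx (by simpa [h] using hq.1.2 (Ideal.mem_span_singleton_self x))⟩)).2
  tfae_have 3 → 1 := by
    rintro ⟨hfin, hdim⟩
    haveI : Ring.DimensionLEOne B := ⟨fun {p} hp hprime => by
      obtain ⟨m, hm, hpm⟩ := Ideal.exists_le_maximal p hprime.ne_top
      rcases hpm.eq_or_lt with h | h
      · exact h ▸ hm
      · exfalso
        have h2 : (2 : WithBot ℕ∞) ≤ ringKrullDim B :=
          Order.LTSeries.length_le_krullDim (RelSeries.cons (RelSeries.cons (RelSeries.singleton _ (⟨m, hm.isPrime⟩ : PrimeSpectrum B))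
            ⟨p, hprime⟩ h) ⟨⊥, Ideal.isPrime_bot⟩ (bot_lt_iff_ne_bot.mpr hp))
        exact absurd (h2.trans hdim) (by norm_num)⟩
    have hx : ∀ m : MaximalSpectrum B, ∃ x : B, x ≠ 0 ∧ (m.asIdeal = ⊥ ∨ x ∈ m.asIdeal) := fun m => by
      by_cases h : m.asIdeal = ⊥
      · exact ⟨1, one_ne_zero, Or.inl h⟩
      · obtain ⟨x, hx, hx0⟩ := Submodule.exists_mem_ne_zero_of_ne_bot h
        exact ⟨x, hx0, Or.inr hx⟩
    choose x hx0 hxm using hx
    haveI := Fintype.ofFinite (MaximalSpectrum B)
    have hf : (∏ m, x m) ≠ 0 := Finset.prod_ne_zero_iff.mpr fun m _ => hx0 m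
    refine ⟨∏ m, x m, hf, ?_⟩
    haveI : Nontrivial (Localization.Away (∏ m, x m)) :=
      (IsLocalization.injective (Localization.Away (∏ m, x m)) (powers_le_nonZeroDivisors_of_noZeroDivisors hf)).nontrivial
    haveI : IsDomain (Localization.Away (∏ m, x m)) :=
      IsLocalization.isDomain_localization (powers_le_nonZeroDivisors_of_noZeroDivisors hf)
    by_contra hnf
    obtain ⟨I, hbI, hIt⟩ := Ring.not_isField_iff_exists_ideal_bot_lt_and_lt_top.mp hnf
    have hI : I ≠ ⊤ := hIt.ne
    refine hbI.ne' ?_
    obtain ⟨M, hM, hIM⟩ := Ideal.exists_le_maximal I hI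
    have hp : M.comap (algebraMap B (Localization.Away (∏ m, x m))) = ⊥ := by
      by_contra hne
      haveI : (M.comap (algebraMap B (Localization.Away (∏ m, x m)))).IsPrime := Ideal.comap_isPrime _ _
      have hmax := Ideal.IsPrime.isMaximal (inferInstance : (M.comap (algebraMap B (Localization.Away (∏ m, x m)))).IsPrime) hne
      have hmem : (∏ m, x m) ∈ M.comap (algebraMap B (Localization.Away (∏ m, x m))) :=
        Ideal.prod_mem _ (Finset.mem_univ (⟨_, hmax⟩ : MaximalSpectrum B))
          ((hxm ⟨_, hmax⟩).resolve_left hne)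
      exact hM.ne_top (M.eq_top_of_isUnit_mem hmem (IsLocalization.Away.algebraMap_isUnit _))
    rw [← IsLocalization.map_under (Submonoid.powers (∏ m, x m)) (Localization.Away (∏ m, x m)) M, Ideal.under_def, hp, Ideal.map_bot] at hIM
    exact le_bot_iff.mp hIM
  tfae_finish

end Groth.Agent.S4861
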