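import Groth.Statements.S4862
import Mathlib.RingTheory.Jacobson.Ring
import Mathlib.RingTheory.Localization.Away.Basic
import Mathlib.RingTheory.IntegralClosure.IsIntegralClosure.Basic
import Mathlib.RingTheory.FiniteType
import Mathlib.Tactic.TFAE
import Mathlib.RingTheory.Localization.Away.AdjoinRoot
-- import your own Groth.Agent.* helpers here

set_option autoImplicit false
universe u
open EGA43

namespace Groth.Agent.S4862

/-- For a commutative ring A the following are equivalent: a) A is a Jacobson ring; b) for every prime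
ideal p of A which is not maximal and every nonzero f of B = A/p, the localization B_f is not a
field; b′) every finitely generated A-algebra which is a field is a finite A-module. -/
theorem result (A : Type u) [CommRing A] :
    [IsJacobsonRing A,
      ∀ (p : Ideal A) [p.IsPrime], ¬ p.IsMaximal → ∀ f : A ⧸ p, f ≠ 0 → ¬ IsField (Localization.Away f),
      ∀ (K : Type u) [Field K] [Algebra A K], Algebra.FiniteType A K → Module.Finite A K].TFAE := by
  tfae_have 1 → 3 := fun h K _ _ _ => by
    haveI := h
    exact finite_of_finite_type_of_isJacobsonRing A K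
  tfae_have 3 → 2 := fun h p hp hmax f hf hfield => by
    let L := Localization.Away f
    letI : Field L := hfield.toField
    haveI : Algebra.FiniteType (A ⧸ p) L := inferInstance
    haveI : Algebra.FiniteType A L := Algebra.FiniteType.trans (S := A ⧸ p) inferInstance inferInstance
    haveI : Module.Finite A L := h L inferInstance
    haveI : Module.Finite (A ⧸ p) L := Module.Finite.of_restrictScalars_finite A (A ⧸ p) L
    haveI : Algebra.IsIntegral (A ⧸ p) L := Algebra.IsIntegral.of_finite _ _
    exact hmax (Ideal.Quotient.maximal_of_isField p (isField_of_isIntegral_of_isField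
      (IsLocalization.injective L (powers_le_nonZeroDivisors_of_noZeroDivisors hf)) hfield))
  tfae_have 2 → 1 := fun h => by
    rw [isJacobsonRing_iff_prime_eq]
    intro P hP
    refine le_antisymm (fun f hf => ?_) Ideal.le_jacobson
    by_contra hfP
    haveI := hP
    have hne : (P.map (algebraMap A (Localization.Away f))) ≠ ⊤ := by
      intro htop
      have hdis : Disjoint (Submonoid.powers f : Set A) (P : Set A) := Set.disjoint_left.mpr (by
        rintro _ ⟨n, rfl⟩ hn
        exact hfP (hP.mem_of_pow_mem n hn))
      exact (IsLocalization.isPrime_of_isPrime_disjoint (Submonoid.powers f) _ P hP hdis).ne_top htop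
    obtain ⟨M, hM, hPM⟩ := Ideal.exists_le_maximal _ hne
    haveI := hM.isPrime
    let q : Ideal A := M.comap (algebraMap A (Localization.Away f))
    have hfq : f ∉ q := fun hc => hM.ne_top (Ideal.eq_top_of_isUnit_mem _ hc
      (IsLocalization.Away.algebraMap_isUnit f))
    have hPq : P ≤ q := Ideal.map_le_iff_le_comap.mp hPM
    have hqmax : ¬ q.IsMaximal := fun hc => hfq (Submodule.mem_sInf.mp hf q ⟨hPq, hc⟩)
    have hf' : Ideal.Quotient.mk q f ≠ 0 := fun hc => hfq (Ideal.Quotient.eq_zero_iff_mem.mp hc)
    haveI : IsDomain (A ⧸ q) := Ideal.Quotient.isDomain q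
    refine h q hqmax _ hf' ⟨⟨0, 1, fun hc => ?_⟩, mul_comm, fun {x} hx => ?_⟩
    · haveI : IsDomain (Localization.Away (Ideal.Quotient.mk q f)) :=
        IsLocalization.isDomain_of_le_nonZeroDivisors (R := A ⧸ q) (M := Submonoid.powers (Ideal.Quotient.mk q f)) (S := Localization.Away (Ideal.Quotient.mk q f))
          (powers_le_nonZeroDivisors_of_noZeroDivisors hf')
      exact zero_ne_one hc
    · obtain ⟨⟨a, s⟩, rfl⟩ := IsLocalization.mk'_surjective (Submonoid.powers (Ideal.Quotient.mk q f)) x
      obtain ⟨a, rfl⟩ := Ideal.Quotient.mk_surjective a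
      have haq : a ∉ q := fun hc => hx (by
        show IsLocalization.mk' _ (Ideal.Quotient.mk q a) s = 0
        rw [Ideal.Quotient.eq_zero_iff_mem.mpr hc, IsLocalization.mk'_zero])
      obtain ⟨n, hn⟩ : ∃ n : ℕ, f ^ n ∈ q ⊔ Ideal.span {a} := by
        by_contra hnone
        push_neg at hnone
        have hne' : (q ⊔ Ideal.span {a}).map (algebraMap A (Localization.Away f)) ≠ ⊤ := by
          intro htop
          obtain ⟨⟨⟨j, hj⟩, ⟨_, n, rfl⟩⟩, hjn⟩ :=
            (IsLocalization.mem_map_algebraMap_iff (Submonoid.powers f) _).mp (htop ▸ Submodule.mem_top (x := (1 : _)))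
          rw [one_mul] at hjn
          obtain ⟨⟨_, m, rfl⟩, hc⟩ := (IsLocalization.eq_iff_exists (Submonoid.powers f) _).mp hjn
          exact hnone (m + n) (by rw [pow_add, hc]; exact Ideal.mul_mem_left _ _ hj)
        have hle : M ≤ (q ⊔ Ideal.span {a}).map (algebraMap A (Localization.Away f)) := by
          refine le_trans ?_ (Ideal.map_mono le_sup_left)
          rw [IsLocalization.map_comap (Submonoid.powers f)]
        have heq := hM.eq_of_le hne' hle
        exact haq (Ideal.mem_comap.mpr (heq.symm.le (Ideal.mem_map_of_mem _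
          (Ideal.mem_sup_right (Ideal.mem_span_singleton_self a)))))
      obtain ⟨u, hu, v, hv, huv⟩ := Submodule.mem_sup.mp hn
      obtain ⟨c, rfl⟩ := Ideal.mem_span_singleton'.mp hv
      have hmul : Ideal.Quotient.mk q a * Ideal.Quotient.mk q c = Ideal.Quotient.mk q f ^ n := by
        rw [← map_pow, ← huv, map_add, Ideal.Quotient.eq_zero_iff_mem.mpr hu, zero_add, map_mul, mul_comm]
      have hu2 : IsUnit (algebraMap (A ⧸ q) (Localization.Away (Ideal.Quotient.mk q f)) (Ideal.Quotient.mk q a)) := by
        refine isUnit_of_mul_isUnit_left (y := algebraMap _ _ (Ideal.Quotient.mk q c)) ?_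
        rw [← map_mul, hmul, map_pow]
        exact (IsLocalization.Away.algebraMap_isUnit _).pow n
      obtain ⟨b, hb⟩ := hu2.exists_right_inv
      refine ⟨b * algebraMap (A ⧸ q) _ (s : A ⧸ q), ?_⟩
      show IsLocalization.mk' _ (Ideal.Quotient.mk q a) s * (b * algebraMap (A ⧸ q) _ (s : A ⧸ q)) = 1
      rw [mul_comm b, ← mul_assoc, IsLocalization.mk'_spec]
      exact hb
  tfae_finish

end Groth.Agent.S4862
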