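import Groth.Statements.S4863
-- import your own Groth.Agent.* helpers here
import Groth.Agent.L20.ModFlat
import Mathlib.AlgebraicGeometry.Morphisms.FinitePresentation

set_option autoImplicit false
universe u
open EGA43

namespace Groth.Agent.S4863

open AlgebraicGeometry CategoryTheory Limits in
/-- First assertion, for a module: let f : X ⟶ Y be locally of finite presentation and F a
quasi-coherent O_X-module of finite presentation. Then the set of points of X at which F is f-flat
is open. -/
theorem result {X Y : Scheme.{u}} (f : X ⟶ Y)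
    [LocallyOfFinitePresentation f] (F : X.Modules) [Coh.IsQCoh F] (hF : CohB1.IsFP F) :
    IsOpen {x : X | FlatMod.IsFlatOverAt f F x} := by
  rw [isOpen_iff_forall_mem_open]
  intro x hx
  obtain ⟨W, hW, hxW, -⟩ := exists_isAffineOpen_mem_and_subset (x := f x) (U := ⊤) trivial
  obtain ⟨V, hV, hxV, hVW⟩ := exists_isAffineOpen_mem_and_subset (x := x) (U := f ⁻¹ᵁ W) hxW
  letI := (f.appLE W V hVW).hom.toAlgebra
  letI := Module.compHom Γ(F, V) (f.appLE W V hVW).hom
  haveI : IsScalarTower Γ(Y, W) Γ(X, V) Γ(F, V) := IsScalarTower.of_algebraMap_smul fun _ _ => rfl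
  haveI : Algebra.FinitePresentation Γ(Y, W) Γ(X, V) := f.finitePresentation_appLE hW hV hVW
  haveI : Module.FinitePresentation Γ(X, V) Γ(F, V) := Groth.L20.ModStalk.finitePresentation_sections F hF hV
  have ho := (Groth.L20.isOpen_flatLocus (R := Γ(Y, W)) (S := Γ(X, V)) (M := Γ(F, V))).preimage
    (f := fun y : V => hV.primeIdealOf y) hV.isoSpec.hom.continuous
  refine ⟨Subtype.val '' ((fun y : V => hV.primeIdealOf y) ⁻¹' {q : PrimeSpectrum Γ(X, V) |
      Module.Flat Γ(Y, W) (LocalizedModule q.asIdeal.primeCompl Γ(F, V))}), ?_,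
    V.2.isOpenMap_subtype_val _ ho, ⟨⟨x, hxV⟩, (Groth.L20.ModStalk.isFlatOverAt_iff f F hW hV hVW hxV).1 hx, rfl⟩⟩
  rintro _ ⟨⟨y, hy⟩, h, rfl⟩
  exact (Groth.L20.ModStalk.isFlatOverAt_iff f F hW hV hVW hy).2 h

end Groth.Agent.S4863
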