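import Groth.Statements.S4864
import Mathlib.AlgebraicGeometry.IdealSheaf.Subscheme
import Groth.Agent.L19.Closure
import Groth.Agent.L20.FibreModuleOpen
-- import your own Groth.Agent.* helpers here

set_option autoImplicit false
universe u
open EGA43

namespace Groth.Agent.S4864

open AlgebraicGeometry CategoryTheory Limits in
/-- Let f : X ⟶ Y and g : Y ⟶ Z be morphisms of finite presentation and F a quasi-coherent O_X-module of
finite presentation. Then the set U of points y of Y such that, for every generization y' of y, F is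
(f ≫ g)-flat at every point of X above y', is open in Y. -/
theorem result {X Y Z : Scheme.{u}} (f : X ⟶ Y) (g : Y ⟶ Z)
    [LocallyOfFinitePresentation f] [QuasiCompact f] [QuasiSeparated f]
    [LocallyOfFinitePresentation g] [QuasiCompact g] [QuasiSeparated g]
    (F : X.Modules) [Coh.IsQCoh F] (hF : CohB1.IsFP F) :
    IsOpen {y : Y | ∀ y' : Y, y' ⤳ y → ∀ x : X, f x = y' → FlatMod.IsFlatOverAt (f ≫ g) F x} := by
  haveI : LocallyOfFinitePresentation (f ≫ g) := inferInstance
  let Z : TopologicalSpace.Closeds X := ⟨{x : X | FlatMod.IsFlatOverAt (f ≫ g) F x}ᶜ,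
    (Groth.L20.FibreModule.isOpen_isFlatOverAt (f ≫ g) F inferInstance hF).isClosed_compl⟩
  let I := Scheme.IdealSheafData.vanishingIdeal Z
  have hr : Set.range (I.subschemeι ≫ f).base = f '' (Z : Set X) := by
    rw [Scheme.Hom.comp_base, TopCat.coe_comp, Set.range_comp, Scheme.IdealSheafData.range_subschemeι,
      Scheme.IdealSheafData.coe_support_vanishingIdeal]
  convert (isClosed_closure (s := Set.range (I.subschemeι ≫ f).base)).isOpen_compl using 1
  ext y
  simp only [Set.mem_ofPred_eq, Set.mem_compl_iff]
  constructor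
  · intro h hy
    obtain ⟨w, hw⟩ := Groth.L19.exists_specializes_of_mem_closure_range (I.subschemeι ≫ f) hy
    obtain ⟨x, hx, hxw⟩ : (I.subschemeι ≫ f) w ∈ f '' (Z : Set X) := hr ▸ ⟨w, rfl⟩
    exact hx (h _ (hxw ▸ hw) x rfl)
  · intro h y' hy' x hx
    by_contra hne
    apply h
    have : f x ∈ Set.range (I.subschemeι ≫ f).base := hr ▸ ⟨x, hne, rfl⟩
    exact (hx ▸ hy').mem_closed isClosed_closure (subset_closure this)

end Groth.Agent.S4864
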