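import Groth.Statements.S4865
import Groth.Agent.L20.FlatLocusOpen

set_option autoImplicit false
universe u
open EGA43

namespace Groth.Agent.S4865

/-- Let A be a commutative ring, B a finitely presented A-algebra, C a finitely presented B-algebra and
M a finitely presented C-module. Then the set of prime ideals q of B such that the localized module
M_q (M regarded as a B-module) is flat over A is open in Spec B. -/
theorem result {A B C : Type u} [CommRing A] [CommRing B] [CommRing C]
    [Algebra A B] [Algebra B C] [Algebra A C] [IsScalarTower A B C]
    [Algebra.FinitePresentation A B] [Algebra.FinitePresentation B C]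
    (M : Type u) [AddCommGroup M] [Module C M] [Module B M] [Module A M]
    [IsScalarTower B C M] [IsScalarTower A C M] [IsScalarTower A B M] [Module.FinitePresentation C M] :
    IsOpen {q : PrimeSpectrum B | Module.Flat A (LocalizedModule q.asIdeal.primeCompl M)} := by
  have : Algebra.FinitePresentation A C := Algebra.FinitePresentation.trans A B C
  rw [isOpen_iff_forall_mem_open]
  intro q hq
  have h1 : ∀ T : Submonoid B, Module.Flat A (LocalizedModule (T.map (algebraMap B C)) M) ↔ Module.Flat A (LocalizedModule T M) :=
    fun T => Groth.L20.flat_localizedModule_iff_of_semilinear (algebraMap B C) (LinearEquiv.refl A M)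
      (fun s m => algebraMap_smul C s m) T _ rfl
  have := (h1 q.asIdeal.primeCompl).mpr hq
  obtain ⟨_, ⟨b, hb, rfl⟩, hflat⟩ := Groth.L20.exists_flat_away (R := A) (M := M) (q.asIdeal.primeCompl.map (algebraMap B C))
  rw [← Submonoid.map_powers] at hflat
  refine ⟨PrimeSpectrum.basicOpen b, fun q' hq' => ?_, (PrimeSpectrum.basicOpen b).2, hb⟩
  exact Groth.L20.flat_localizedModule_of_le (Submonoid.powers_le.mpr hq') ((h1 _).mp hflat)

end Groth.Agent.S4865
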