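import Groth.Statements.S4869
import Groth.Agent.L07.GrModel

set_option autoImplicit false
universe u
open TensorProduct
open EGA43

namespace Groth.Agent.S4869

open Groth.L07.FlatDescent in
/-- Let A₀ be a commutative ring, (A_i) a directed system of A₀-algebras with colimit A, B₀ a finitely
presented A₀-algebra, J₀ a finitely generated ideal of B₀ and M₀ a finitely presented B₀-module; put
M = A ⊗_{A₀} M₀ and J = J₀B, and likewise M_i, J_i over each A_i. Then the associated graded module
gr_J(M) = ⊕_k J^k M / J^{k+1} M is flat over A if and only if, for some index i, gr_{J_i}(M_i) is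
flat over A_i. Flatness of the graded module is expressed through the equivalent condition that
every truncation M / J^k M (k ≥ 0) is flat (the pieces J^k M / J^{k+1} M are the kernels of the
surjections M / J^{k+1} M → M / J^k M), and J^k M is realised as the image of A ⊗_{A₀} J₀^k M₀ in A
⊗_{A₀} M₀. (The published statement also asserts that the canonical maps from gr_{J_i}(M_i) ⊗_{A_i}
A to gr_J(M) are then bijective; this row states only the equivalence.) -/
theorem result {A₀ : Type u} [CommRing A₀]
    {ι : Type u} [Preorder ι] (G : ι → Type u) [∀ i, CommRing (G i)] [∀ i, Algebra A₀ (G i)]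
    (g : ∀ i j, i ≤ j → G i →ₐ[A₀] G j)
    (A : Type u) [CommRing A] [Algebra A₀ A] [∀ i, Algebra (G i) A] [∀ i, IsScalarTower A₀ (G i) A]
    (hcolim : FlatCA.IsDirectedColimitRing G (fun i j h => (g i j h).toRingHom) A)
    {B₀ : Type u} [CommRing B₀] [Algebra A₀ B₀] [Algebra.FinitePresentation A₀ B₀]
    (J₀ : Ideal B₀) (hJ₀ : J₀.FG)
    (M₀ : Type u) [AddCommGroup M₀] [Module B₀ M₀] [Module A₀ M₀] [IsScalarTower A₀ B₀ M₀]
    [Module.FinitePresentation B₀ M₀] :
    (∀ k : ℕ, Module.Flat A ((A ⊗[A₀] M₀) ⧸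
        LinearMap.range (((J₀ ^ k • (⊤ : Submodule B₀ M₀)).restrictScalars A₀).subtype.baseChange A))) ↔
      ∃ i : ι, ∀ k : ℕ, Module.Flat (G i) ((G i ⊗[A₀] M₀) ⧸
        LinearMap.range (((J₀ ^ k • (⊤ : Submodule B₀ M₀)).restrictScalars A₀).subtype.baseChange (G i))) := by
  obtain ⟨d, n, w, hw, R, hR, K, φ, π, hφ, hπ, hπs, hker, hQ, hmap⟩ :=
    exists_adic_model A₀ J₀ hJ₀ M₀
  have hfil : IsFil w (fun k => K ⊔ Hi w n R k) := isFil_sup_Hi hw K
  have hT : ∀ (C : Type u) [CommRing C] [Algebra A₀ C] (k : ℕ),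
      Module.Flat C ((C ⊗[A₀] M₀) ⧸
        LinearMap.range (((J₀ ^ k • (⊤ : Submodule B₀ M₀)).restrictScalars A₀).subtype.baseChange C)) ↔
      Module.Flat C (MC C (K ⊔ Hi w n R k)) := by
    intro C _ _ k
    obtain ⟨e⟩ := exists_truncEquiv π hπ (K ⊔ Hi w n R k) (hker.le.trans (KC_mono le_sup_left))
      _ (hmap k) C
    exact ⟨fun _ => Module.Flat.of_linearEquiv e.symm, fun _ => Module.Flat.of_linearEquiv e⟩
  simp only [hT]
  constructor
  · intro h
    obtain ⟨B, hB, hflat⟩ := exists_fg_stage_gr hfil A h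
    haveI : Algebra.FiniteType R B := B.fg_iff_finiteType.mp hB
    haveI : Algebra.FinitePresentation R B := Algebra.FinitePresentation.of_finiteType.mp inferInstance
    obtain ⟨i, χ, -⟩ := exists_hom_stage (R := R)
      (fun i j h => RingHom.ext fun r => (g i j h).commutes (r : A₀)) hcolim B.val
    letI := χ.toRingHom.toAlgebra
    haveI : IsScalarTower R B (G i) := IsScalarTower.of_algebraMap_eq fun r => (χ.commutes r).symm
    refine ⟨i, fun k => ?_⟩
    haveI := hflat k
    exact flat_MC_of_flat _ (A := B)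
  · rintro ⟨i, hi⟩ k
    haveI := hi k
    haveI : IsScalarTower R (G i) A :=
      IsScalarTower.of_algebraMap_eq fun r => (IsScalarTower.algebraMap_apply A₀ (G i) A (r : A₀))
    exact flat_MC_of_flat _ (A := G i)

end Groth.Agent.S4869
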