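import Groth.Statements.S4870
import Groth.Agent.L07.GrLocal

set_option autoImplicit false
universe u
open EGA43

namespace Groth.Agent.S4870

open Groth.L07.FlatDescent in
/-- Let A be a commutative ring, B a finitely presented A-algebra, J a finitely generated ideal of B and
M a finitely presented B-module. If the associated graded module gr_J(M) is flat over A, that is
every J^k M / J^{k+1} M is a flat A-module, then M is flat over A at every point of V(J): for every
prime ideal q of B containing J, the localization M_q is a flat A-module. -/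
theorem result {A B : Type u} [CommRing A] [CommRing B] [Algebra A B]
    [Algebra.FinitePresentation A B] (J : Ideal B) (hJ : J.FG)
    (M : Type u) [AddCommGroup M] [Module B M] [Module A M] [IsScalarTower A B M] [Module.FinitePresentation B M]
    (hgr : ∀ k : ℕ, Module.Flat A
      (↥(J ^ k • (⊤ : Submodule B M)) ⧸ Submodule.comap (J ^ k • (⊤ : Submodule B M)).subtype (J ^ (k + 1) • ⊤)))
    (q : Ideal B) [q.IsPrime] (hq : J ≤ q) :
    Module.Flat A (LocalizedModule q.primeCompl M) := by
  obtain ⟨d, n, w, hw, R, hR, K, φ, π, hφ, hπ, hπs, hker, hQ, hmap⟩ := exists_adic_model A J hJ M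
  let N : ℕ → Submodule B M := fun k => J ^ k • ⊤
  have hN : ∀ k, N (k + 1) ≤ N k := fun k =>
    Submodule.smul_mono_left (Ideal.pow_le_pow_right (Nat.le_succ k))
  have hT : ∀ k, Module.Flat A (M ⧸ N k) := by
    intro k
    induction k with
    | zero =>
      haveI : Subsingleton (M ⧸ N 0) := Submodule.Quotient.subsingleton_iff.mpr (by simp [N])
      infer_instance
    | succ k ih =>
      haveI := ih
      haveI := hgr k
      let f : (↥(N k) ⧸ Submodule.comap (N k).subtype (N (k + 1))) →ₗ[A] M ⧸ N (k + 1) :=
        (Submodule.mapQ _ _ (N k).subtype le_rfl).restrictScalars A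
      let g : (M ⧸ N (k + 1)) →ₗ[A] M ⧸ N k :=
        (Submodule.factor (hN k)).restrictScalars A
      refine flat_of_shortExact f g ?_ (Submodule.factor_surjective (hN k)) ?_
      · rw [injective_iff_map_eq_zero]
        intro x hx
        obtain ⟨x, rfl⟩ := Submodule.mkQ_surjective _ x
        simpa [f, Submodule.Quotient.mk_eq_zero] using hx
      · intro x
        obtain ⟨x, rfl⟩ := Submodule.mkQ_surjective _ x
        constructor
        · intro hx
          have : x ∈ N k := by simpa [g, Submodule.Quotient.mk_eq_zero] using hx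
          exact ⟨Submodule.Quotient.mk ⟨x, this⟩, by simp [f]⟩
        · rintro ⟨y, hy⟩
          obtain ⟨y, rfl⟩ := Submodule.mkQ_surjective _ y
          rw [← hy]
          simp [f, g, Submodule.Quotient.mk_eq_zero]
  have hTC : ∀ k, Module.Flat A (MC A (K ⊔ Hi w n R k)) := by
    intro k
    haveI := hT k
    let π₁ : F d n A →ₗ[A] M ⧸ (N k).restrictScalars A := ((N k).restrictScalars A).mkQ ∘ₗ π
    have hπ₁ : Function.Surjective π₁ := (Submodule.mkQ_surjective _).comp hπ
    have hker₁ : LinearMap.ker π₁ = KC A (K ⊔ Hi w n R k) := by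
      rw [LinearMap.ker_comp, Submodule.ker_mkQ, ← hmap k, Submodule.comap_map_eq,
        sup_eq_left.mpr (hker.le.trans (KC_mono le_sup_left))]
    haveI : Module.Flat A (M ⧸ (N k).restrictScalars A) :=
      Module.Flat.of_linearEquiv (Submodule.Quotient.restrictScalarsEquiv A (N k))
    exact Module.Flat.of_linearEquiv
      (Submodule.quotEquivOfEq _ _ hker₁.symm ≪≫ₗ π₁.quotKerEquivOfSurjective hπ₁)
  refine flat_localized φ π hπ hπs q fun I x hx hxI => ?_
  rw [hker] at hx ⊢
  obtain ⟨s, hs, hsx⟩ := exists_smul_mem hw K hTC I hx hxI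
  refine ⟨s, fun hsq => ?_, hsx⟩
  have h1 : φ (1 - s) ∈ q := hq (hQ _ hs)
  rw [map_sub, map_one] at h1
  exact (inferInstance : q.IsPrime).ne_top
    ((Ideal.eq_top_iff_one q).mpr (by simpa using add_mem h1 hsq))

end Groth.Agent.S4870
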