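import Groth.Prelude.Def_CInt
import Mathlib.AlgebraicGeometry.Morphisms.Flat
import Mathlib.AlgebraicGeometry.Morphisms.FinitePresentation
import Mathlib.AlgebraicGeometry.Fiber
import Groth.Agent.L02.SchDom.FlatInj
import Groth.Agent.L18.Ample
import Groth.Agent.L16.Existence.Vanishing
import Groth.Agent.L18.LocFreeFP
import Groth.Agent.L29.LocFree
import Groth.Agent.L02.FibDepth.Affine

set_option autoImplicit false
namespace EGA43
end EGA43
universe u
open CategoryTheory AlgebraicGeometry
open EGA43

namespace Groth.Agent.S4871

open CategoryTheory.Limits in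
/-- Let f : X ⟶ S be flat and locally of finite presentation and U an open subscheme of X. Then U is
universally schematically dense in X relative to S, i.e. for every base change S' ⟶ S the preimage
of U in X ×_S S' is schematically dense, if and only if for every point s of S the trace U_s of U on
the fibre X_s is schematically dense in X_s. -/
theorem result {X S : Scheme.{u}} (f : X ⟶ S) [Flat f]
    [LocallyOfFinitePresentation f] (U : X.Opens) :
    (∀ (S' : Scheme.{u}) (g : S' ⟶ S), CInt.IsSchematicallyDense ((pullback.fst f g) ⁻¹ᵁ U)) ↔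
      ∀ s : S, CInt.IsSchematicallyDense ((f.fiberι s) ⁻¹ᵁ U) := by
  have key : ∀ {Y : Scheme.{u}} (m : Y ⟶ X) (W : Y.Opens),
      Groth.L02.SchDom.RestrInj ((Scheme.Modules.pullback m).obj (Coh.structureModule X)) W ↔
        CInt.IsSchematicallyDense W := by
    intro Y m W
    let θ := Groth.L29.LocFree.pullbackUnitIso m
    have h1 : ∀ (V : Y.Opens),
        Function.Injective (θ.hom.app V) ∧ Function.Injective (θ.inv.app V) := fun V => by
      have hi : ∀ z, θ.inv.app V (θ.hom.app V z) = z := fun z => congr(($(θ.hom_inv_id)).app V z)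
      have hi' : ∀ z, θ.hom.app V (θ.inv.app V z) = z := fun z => congr(($(θ.inv_hom_id)).app V z)
      exact ⟨Function.LeftInverse.injective hi, Function.LeftInverse.injective hi'⟩
    constructor
    · intro h V a b hab
      apply (h1 V).2
      apply h V
      exact (congr($(θ.inv.mapPresheaf.naturality _) a)).symm.trans
        ((congrArg (θ.inv.app (V ⊓ W)) hab).trans (congr($(θ.inv.mapPresheaf.naturality _) b)))
    · intro h V a b hab
      apply (h1 V).1
      apply h V
      exact (congr($(θ.hom.mapPresheaf.naturality _) a)).symm.trans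
        ((congrArg (θ.hom.app (V ⊓ W)) hab).trans (congr($(θ.hom.mapPresheaf.naturality _) b)))
  have hFP : CohB1.IsFP (Coh.structureModule X) := Groth.L18.LFP.isFP_of_isFinLocFree _
    (Groth.L16.Existence.isFinLocFree_of_isInvertible (Groth.L18.Ample.isInvertible_structureModule X))
  haveI : Coh.IsQCoh (Coh.structureModule X) :=
    haveI : SheafOfModules.IsFinitePresentation (R := X.ringCatSheaf) (Coh.structureModule X) := hFP
    { nonempty_quasicoherentData := ⟨hFP.exists_quasicoherentData.choose⟩ }
  have hflat : FlatMod.IsFlatOver f (Coh.structureModule X) := fun x => by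
    obtain ⟨W, hW, hxW, -⟩ := exists_isAffineOpen_mem_and_subset (U := (⊤ : S.Opens))
      (x := f x) (TopologicalSpace.Opens.mem_top _)
    obtain ⟨V, hV, hxV, hVW⟩ := exists_isAffineOpen_mem_and_subset (U := f ⁻¹ᵁ W) (x := x) hxW
    rw [Groth.L20.ModStalk.isFlatOverAt_iff f _ hW hV hVW hxV]
    letI := (f.appLE W V hVW).hom.toAlgebra
    letI := Module.compHom Γ(Coh.structureModule X, V) (f.appLE W V hVW).hom
    haveI : IsScalarTower Γ(S, W) Γ(X, V) Γ(Coh.structureModule X, V) :=
      IsScalarTower.of_algebraMap_smul fun _ _ => rfl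
    haveI : Module.Flat Γ(S, W) Γ(Coh.structureModule X, V) := by
      have h2 : Module.Flat Γ(S, W) Γ(X, V) :=
        HasRingHomProperty.appLE @Flat f ‹_› ⟨W, hW⟩ ⟨V, hV⟩ hVW
      exact h2
    exact L02.FibDepth.flat_loc _ _
  constructor
  · intro h s
    exact h _ (S.fromSpecResidueField s)
  · intro h S' g
    refine (key (Limits.pullback.fst f g) _).mp ?_
    exact Groth.L02.SchDom.restrInj_baseChange f _ hFP hflat U (fun s => (key _ _).mpr (h s)) g

end Groth.Agent.S4871
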