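import Mathlib.AlgebraicGeometry.Morphisms.ClosedImmersion
import Mathlib.AlgebraicGeometry.Morphisms.Separated
import Mathlib.AlgebraicGeometry.Restrict
import Mathlib.Data.List.TFAE
import Groth.Agent.L02.SchDom.Basic
import Mathlib.AlgebraicGeometry.AffineSpace
import Mathlib.AlgebraicGeometry.Morphisms.ClosedImmersion
import Mathlib.AlgebraicGeometry.Morphisms.IsIso
import Mathlib.AlgebraicGeometry.Morphisms.Separated

set_option autoImplicit false
namespace EGA43
end EGA43
universe u
open CategoryTheory AlgebraicGeometry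
open EGA43

namespace Groth.Agent.S4872

/-- Conditions b), c), d) (schematically dominant families): let p : X ⟶ S be a morphism and (f_i : Z_i
⟶ X) a family of morphisms. The following are equivalent: b) for every open V of X, a section of O_X
over V whose images in all the Γ(f_i⁻¹(V), O_{Z_i}) are zero is zero; c) for every open U of X, a
closed immersion j : Y ⟶ U through which each restriction f_i⁻¹(U) ⟶ U factors is an isomorphism; d)
for every separated S-scheme X', every open U of X and every pair of S-morphisms u, v : U ⟶ X'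
having the same composite with each f_i⁻¹(U) ⟶ U, one has u = v. -/
theorem result {X S : Scheme.{u}} (p : X ⟶ S) {ι : Type u} (Z : ι → Scheme.{u})
    (f : ∀ i, Z i ⟶ X) :
    [(∀ (V : (X).Opens) (t : Γ(X, V)), (∀ i, (f i).app V t = 0) → t = 0),
      ∀ (U : X.Opens) (Y : Scheme.{u}) (j : Y ⟶ (U : Scheme.{u})), IsClosedImmersion j →
        (∀ i, ∃ g : ((f i) ⁻¹ᵁ U : Scheme.{u}) ⟶ Y, g ≫ j = (f i) ∣_ U) → IsIso j,
      ∀ (X' : Scheme.{u}) (q : X' ⟶ S), IsSeparated q → ∀ (U : X.Opens) (u v : (U : Scheme.{u}) ⟶ X'),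
        u ≫ q = U.ι ≫ p → v ≫ q = U.ι ≫ p → (∀ i, ((f i) ∣_ U) ≫ u = ((f i) ∣_ U) ≫ v) → u = v].TFAE := by
  tfae_have 1 → 2 := by
    intro hdom U Y j hj hg
    have hU : Groth.L02.SchDom.Dom (fun i => (f i) ∣_ U) :=
      Groth.L02.SchDom.Dom.chart (f := f) hdom U.ι (fun i => (f i) ∣_ U) id
        (fun i => ((f i) ⁻¹ᵁ U).ι) (fun i => (morphismRestrict_ι (f i) U).symm) fun i z hz => by
          refine ⟨i, rfl, ?_⟩
          rw [Scheme.Opens.range_ι] at hz
          simp only [id_eq, eqToHom_refl, Category.comp_id]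
          rw [Scheme.Opens.range_ι]
          exact hz
    refine (IsZariskiLocalAtTarget.iff_of_iSup_eq_top (P := MorphismProperty.isomorphisms Scheme)
      (fun W : (U : Scheme.{u}).affineOpens => W.1) (iSup_affineOpens_eq_top _)).mpr fun W => ?_
    haveI : IsAffine W.1.toScheme := W.2
    haveI : IsAffine (j ⁻¹ᵁ W.1).toScheme := W.2.preimage j
    rw [HasAffineProperty.iff_of_isAffine (P := MorphismProperty.isomorphisms Scheme)]
    refine ⟨inferInstance, ?_⟩
    haveI : IsIso (j.app W.1) := by
      refine (ConcreteCategory.isIso_iff_bijective _).mpr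
        ⟨(injective_iff_map_eq_zero _).mpr fun t ht => ?_, j.app_surjective W.1 W.2⟩
      refine hU W.1 t fun i => ?_
      obtain ⟨g, hgi⟩ := hg i
      have h1 : ((f i) ∣_ U).app W.1 t = 0 ↔ (g ≫ j).app W.1 t = 0 := by rw [hgi]
      refine h1.mpr ?_
      change g.app _ (j.app W.1 t) = 0
      rw [ht, map_zero]
    rw [Scheme.Hom.appTop, morphismRestrict_app]
    have : ∀ V : (U : Scheme.{u}).Opens, V = W.1 → IsIso (j.app V) := by
      rintro V rfl; infer_instance
    exact IsIso.comp_isIso' (this _ (by simp)) (Functor.map_isIso _ _)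
  tfae_have 2 → 3 := by
    intro hc X' q hq U a b ha hb hab
    haveI := hq
    let d : (U : Scheme.{u}) ⟶ Limits.pullback q q := Limits.pullback.lift a b (by rw [ha, hb])
    let j := Limits.pullback.snd (Limits.pullback.diagonal q) d
    haveI : IsClosedImmersion j := MorphismProperty.pullback_snd _ _ inferInstance
    haveI : IsIso j := hc U _ j inferInstance fun i => by
      refine ⟨Limits.pullback.lift (((f i) ∣_ U) ≫ a) ((f i) ∣_ U) ?_, Limits.pullback.lift_snd _ _ _⟩
      apply Limits.pullback.hom_ext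
      · simp only [Category.assoc, d, Limits.pullback.diagonal_fst, Limits.pullback.lift_fst,
          Category.comp_id]
      · simp only [Category.assoc, d, Limits.pullback.diagonal_snd, Limits.pullback.lift_snd,
          Category.comp_id, hab i]
    have hcond := Limits.pullback.condition (f := Limits.pullback.diagonal q) (g := d)
    have h1 := congrArg (· ≫ Limits.pullback.fst q q) hcond
    have h2 := congrArg (· ≫ Limits.pullback.snd q q) hcond
    simp only [Category.assoc, d, Limits.pullback.lift_fst, Limits.pullback.lift_snd,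
      Limits.pullback.diagonal_fst, Limits.pullback.diagonal_snd, Category.comp_id] at h1 h2
    exact (cancel_epi j).mp (h1.symm.trans h2)
  tfae_have 3 → 1 := by
    intro hd V t ht
    let t' : Γ((V : Scheme.{u}), ⊤) := V.ι.appLE V ⊤ (by simp) t
    let A := 𝔸(PUnit.{u + 1}; S)
    haveI : IsSeparated (A ↘ S) := inferInstance
    have key := hd A (A ↘ S) inferInstance V
      (AffineSpace.homOfVector (V.ι ≫ p) fun _ => t')
      (AffineSpace.homOfVector (V.ι ≫ p) fun _ => 0)
      (AffineSpace.homOfVector_over _ _) (AffineSpace.homOfVector_over _ _) fun i => by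
        rw [AffineSpace.comp_homOfVector, AffineSpace.comp_homOfVector]
        congr 1
        funext _
        simp only [Function.comp_apply, t']
        rw [map_zero, ← CommRingCat.comp_apply, Scheme.Hom.appTop,
          Scheme.Hom.app_eq_appLE]
        erw [Scheme.Hom.appLE_comp_appLE]
        have hle : (⊤ : Scheme.Opens ((f i) ⁻¹ᵁ V : Scheme.{u})) ≤
            ((f i ⁻¹ᵁ V).ι ≫ f i) ⁻¹ᵁ V := fun z _ => z.2
        have h1 : ∀ (m : (((f i) ⁻¹ᵁ V : (Z i).Opens) : Scheme.{u}) ⟶ X) (hm : ⊤ ≤ m ⁻¹ᵁ V),
            m = ((f i) ⁻¹ᵁ V).ι ≫ f i → m.appLE V ⊤ hm t = 0 := by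
          rintro m hm rfl
          rw [← Scheme.Hom.appLE_comp_appLE _ (f i) V ((f i) ⁻¹ᵁ V) ⊤ le_rfl (fun (z : ((f i) ⁻¹ᵁ V).toScheme) _ => z.2),
            CommRingCat.comp_apply, ← Scheme.Hom.app_eq_appLE, ht i, map_zero]
        exact h1 _ _ (morphismRestrict_ι (f i) V)
    have h2 := congrArg (fun m => Scheme.Hom.appTop m (AffineSpace.coord S PUnit.unit)) key
    simp only [AffineSpace.homOfVector_appTop_coord] at h2
    haveI : IsIso (V.ι.appLE V ⊤ (by simp)) := by
      rw [Scheme.Opens.ι_appLE, show homOfLE _ = eqToHom V.ι_image_top.symm.symm from Subsingleton.elim _ _]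
      exact Functor.map_isIso _ _
    exact (ConcreteCategory.bijective_of_isIso (V.ι.appLE V ⊤ _)).injective
      (h2.trans (map_zero _).symm)
  tfae_finish

end Groth.Agent.S4872
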