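import Mathlib.AlgebraicGeometry.Scheme
import Mathlib.AlgebraicGeometry.Properties
import Groth.Agent.L02.SchDom.Basic
import Mathlib.AlgebraicGeometry.Properties

set_option autoImplicit false
namespace EGA43
end EGA43
universe u
open CategoryTheory AlgebraicGeometry
open EGA43

namespace Groth.Agent.S4873

/-- Let (f_i : Z_i ⟶ X) be a family of morphisms. If the family is schematically dominant, i.e. a
section of O_X over an open V whose pullback to every f_i⁻¹(V) vanishes is zero, then the union of
the images f_i(Z_i) is dense in X. Conversely, if X is reduced and this union is dense, the family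
is schematically dominant. -/
theorem result {X : Scheme.{u}} {ι : Type u} (Z : ι → Scheme.{u})
    (f : ∀ i, Z i ⟶ X) :
    ((∀ (V : (X).Opens) (t : Γ(X, V)), (∀ i, (f i).app V t = 0) → t = 0) → Dense (⋃ i, Set.range (f i))) ∧
    (IsReduced X → Dense (⋃ i, Set.range (f i)) → (∀ (V : (X).Opens) (t : Γ(X, V)), (∀ i, (f i).app V t = 0) → t = 0)) := by
  constructor
  · intro h
    rw [dense_iff_inter_open]
    intro W hW hne
    by_contra hcon
    let V : X.Opens := ⟨W, hW⟩
    have hempty : ∀ i, (f i) ⁻¹ᵁ V = ⊥ := fun i => by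
      ext z
      simp only [TopologicalSpace.Opens.coe_bot, Set.mem_empty_iff_false, iff_false]
      exact fun hz => hcon ⟨f i z, hz, Set.mem_iUnion.mpr ⟨i, z, rfl⟩⟩
    have h1 : (1 : Γ(X, V)) = 0 := h V 1 fun i => by
      haveI : Subsingleton Γ(Z i, (f i) ⁻¹ᵁ V) := by
        rw [hempty i]; exact inferInstance
      exact Subsingleton.elim _ _
    obtain ⟨x, hx⟩ := hne
    exact zero_ne_one ((map_zero (X.presheaf.germ V x hx).hom).symm.trans
      ((congrArg (X.presheaf.germ V x hx) h1.symm).trans (map_one (X.presheaf.germ V x hx).hom)))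
  · intro hred hd V t ht
    by_contra hne
    have hb : X.basicOpen t ≠ ⊥ := fun hb => hne ((basicOpen_eq_bot_iff t).mp hb)
    obtain ⟨x, hx⟩ : (X.basicOpen t : Set X).Nonempty :=
      (TopologicalSpace.Opens.ne_bot_iff_nonempty _).mp hb
    obtain ⟨y, hy, hy'⟩ := dense_iff_inter_open.mp hd _ (X.basicOpen t).2 ⟨x, hx⟩
    obtain ⟨i, z, rfl⟩ := Set.mem_iUnion.mp hy'
    have hz : z ∈ (f i) ⁻¹ᵁ X.basicOpen t := hy
    rw [Scheme.preimage_basicOpen, ht i, Scheme.basicOpen_zero] at hz
    exact hz

end Groth.Agent.S4873
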