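import Mathlib.AlgebraicGeometry.Morphisms.Flat
import Mathlib.AlgebraicGeometry.Pullbacks
import Groth.Agent.L02.SchDom.Basic
import Mathlib.RingTheory.RingHom.FaithfullyFlat
import Mathlib.AlgebraicGeometry.Morphisms.Flat
import Mathlib.RingTheory.Flat.FaithfullyFlat.Algebra

set_option autoImplicit false
namespace EGA43
end EGA43
universe u
open CategoryTheory AlgebraicGeometry
open EGA43

namespace Groth.Agent.S4874

/-- Let (f_i : Z_i ⟶ X) be a family of morphisms, g : X' ⟶ X a faithfully flat morphism and f'_i : Z_i
×_X X' ⟶ X' the base changes. If the family (f'_i) is schematically dominant, then so is the family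
(f_i). (Schematically dominant: a section of the structure sheaf over an open whose pullback along
every member of the family vanishes is zero.) -/
theorem result {X X' : Scheme.{u}} {ι : Type u} (Z : ι → Scheme.{u})
    (f : ∀ i, Z i ⟶ X) (g : X' ⟶ X) [Flat g] [Surjective g]
    (h : (∀ (V : (X').Opens) (t : Γ(X', V)), (∀ i, (Limits.pullback.snd (f i) g).app V t = 0) → t = 0)) :
    (∀ (V : (X).Opens) (t : Γ(X, V)), (∀ i, (f i).app V t = 0) → t = 0) := by
  intro V t ht
  have h0 : g.app V t = 0 := h _ _ fun i => by
    have hsq : Limits.pullback.snd (f i) g ≫ g = Limits.pullback.fst (f i) g ≫ f i :=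
      Limits.pullback.condition.symm
    have h1 : (Limits.pullback.snd (f i) g ≫ g).app V t = 0 ↔
        (Limits.pullback.fst (f i) g ≫ f i).app V t = 0 := by rw [hsq]
    refine h1.mpr ?_
    change (Limits.pullback.fst (f i) g).app _ ((f i).app V t) = 0
    rw [ht i, map_zero]
  refine TopCat.Presheaf.section_ext X.sheaf V t 0 fun x hx => ?_
  obtain ⟨y, rfl⟩ := g.surjective x
  letI := (g.stalkMap y).hom.toAlgebra
  haveI : Module.Flat (X.presheaf.stalk (g y)) (X'.presheaf.stalk y) := Flat.stalkMap g y
  haveI : IsLocalHom (algebraMap (X.presheaf.stalk (g y)) (X'.presheaf.stalk y)) :=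
    inferInstanceAs (IsLocalHom (g.stalkMap y).hom)
  haveI : Module.FaithfullyFlat (X.presheaf.stalk (g y)) (X'.presheaf.stalk y) :=
    Module.FaithfullyFlat.of_flat_of_isLocalHom
  have hinj : Function.Injective (g.stalkMap y) :=
    RingHom.FaithfullyFlat.injective (f := (g.stalkMap y).hom)
      (RingHom.faithfullyFlat_algebraMap_iff.mpr ‹_›)
  apply hinj
  change g.stalkMap y (X.presheaf.germ V (g y) hx t) =
    g.stalkMap y (X.presheaf.germ V (g y) hx 0)
  rw [map_zero (X.presheaf.germ V (g y) hx).hom, map_zero (g.stalkMap y).hom]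
  rw [← CommRingCat.comp_apply, Scheme.Hom.germ_stalkMap, CommRingCat.comp_apply, h0, map_zero]

end Groth.Agent.S4874
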