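import Mathlib.LinearAlgebra.TensorProduct.Basic
import Mathlib.Algebra.Module.Projective
import Groth.Agent.L02.SchDom.Sep

set_option autoImplicit false
namespace EGA43
end EGA43
universe u
open TensorProduct
open EGA43

namespace Groth.Agent.S4878

/-- Let A be a commutative ring, (u_i : M → M_i) a family of A-linear maps whose kernels have zero
intersection, and N a projective A-module. Then the kernels of the maps u_i ⊗ 1 : M ⊗_A N → M_i ⊗_A
N have zero intersection. -/
theorem result {A : Type u} [CommRing A]
    {M : Type u} [AddCommGroup M] [Module A M] {ι : Type u} (M' : ι → Type u)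
    [∀ i, AddCommGroup (M' i)] [∀ i, Module A (M' i)] (u : ∀ i, M →ₗ[A] M' i)
    (hu : ⨅ i, LinearMap.ker (u i) = ⊥)
    (N : Type u) [AddCommGroup N] [Module A N] [Module.Projective A N] :
    ⨅ i, LinearMap.ker ((u i).rTensor N) = ⊥ := by
  rw [eq_bot_iff]
  intro x hx
  simp only [Submodule.mem_iInf, LinearMap.mem_ker] at hx
  have h0 : Groth.L02.SchDom.LSep (LinearMap.id : M →ₗ[A] M) (fun i => LinearMap.id) u := by
    rw [Groth.L02.SchDom.lSep_id_iff]
    intro y hy
    have : y ∈ ⨅ i, LinearMap.ker (u i) := by simpa using hy
    simpa [hu] using this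
  have h1 := h0.lTensor_projective N
  simp only [LinearMap.lTensor_id] at h1
  rw [Groth.L02.SchDom.lSep_id_iff] at h1
  have hc : ∀ i, (u i).lTensor N (TensorProduct.comm A M N x) =
      TensorProduct.comm A (M' i) N ((u i).rTensor N x) := fun i => by
    rw [LinearMap.lTensor_def, LinearMap.rTensor_def, TensorProduct.map_comm]
  have := h1 (TensorProduct.comm A M N x) fun i => by rw [hc, hx i, map_zero]
  simpa using this

end Groth.Agent.S4878
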