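import Groth.Statements.S4880
import Mathlib.RingTheory.Ideal.KrullsHeightTheorem
import Mathlib.AlgebraicGeometry.Noetherian
import Mathlib.Tactic.TFAE

set_option autoImplicit false
universe u
open CategoryTheory AlgebraicGeometry
open EGA43

namespace Groth.Agent.S4880

private lemma key_alg {A : Type u} [CommRing A] [IsNoetherianRing A] (N : PrimeSpectrum A)
    (hN : ∀ P : PrimeSpectrum A, N ≤ P) (f : A) (hf : ∀ P : PrimeSpectrum A, f ∉ P.asIdeal → P = N)
    (hfN : f ∉ N.asIdeal) (P : PrimeSpectrum A) (hP : P ≠ N) :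
    P.asIdeal ∈ (Ideal.span {f}).minimalPrimes := by
  classical
  have hfP : f ∈ P.asIdeal := not_not.mp fun h => hP (hf P h)
  set S := (Ideal.span {f}).minimalPrimes with hS
  have hfin : S.Finite := Ideal.finite_minimalPrimes_of_isNoetherianRing _ _
  by_contra hPS
  obtain ⟨g, hgP, hg⟩ : ∃ g ∈ P.asIdeal, ∀ q ∈ S, g ∉ q := by
    by_contra hall
    push Not at hall
    have hsub : (P.asIdeal : Set A) ⊆ ⋃ q ∈ hfin.toFinset, (id q : Ideal A) := by
      intro g hg
      obtain ⟨q, hq, hgq⟩ := hall g hg
      exact Set.mem_biUnion (by simpa using hq) hgq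
    obtain ⟨q, hq, hle⟩ := (Ideal.subset_union_prime (f := id) (P.asIdeal) (P.asIdeal)
      (fun i hi _ _ => (hfin.mem_toFinset.mp hi).1.1)).mp hsub
    rw [Set.Finite.mem_toFinset] at hq
    exact hPS ((le_antisymm (hq.2 ⟨P.2, (Ideal.span_singleton_le_iff_mem _).mpr hfP⟩ hle) hle) ▸ hq)
  obtain ⟨q, hq, hqP⟩ := Ideal.exists_minimalPrimes_le
    ((Ideal.span_singleton_le_iff_mem _).mpr hgP)
  haveI : q.IsPrime := hq.1.1
  have hgq : g ∈ q := (Ideal.span_singleton_le_iff_mem _).mp hq.1.2
  obtain ⟨qi, hqi0, -⟩ := Ideal.exists_minimalPrimes_le ((Ideal.span_singleton_le_iff_mem _).mpr hfP)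
  have hqN : q ≠ N.asIdeal := by
    rintro rfl
    haveI := hqi0.1.1
    exact hg qi hqi0 (hN ⟨qi, hqi0.1.1⟩ hgq)
  have hfq : f ∈ q := not_not.mp fun h => hqN (congrArg PrimeSpectrum.asIdeal (hf ⟨q, hq.1.1⟩ h))
  obtain ⟨r, hr, hrq⟩ := Ideal.exists_minimalPrimes_le ((Ideal.span_singleton_le_iff_mem _).mpr hfq)
  haveI : r.IsPrime := hr.1.1
  have hfr : f ∈ r := (Ideal.span_singleton_le_iff_mem _).mp hr.1.2
  have hNr : N.asIdeal < r := lt_of_le_of_ne (hN ⟨r, hr.1.1⟩) fun h => hfN (h ▸ hfr)
  have hrq' : r < q := lt_of_le_of_ne hrq fun h => hg r hr (h ▸ hgq)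
  have h1 := Ideal.height_le_one_of_isPrincipal_of_mem_minimalPrimes (Ideal.span {g}) q hq
  have h2 : N.asIdeal.height < r.height := Ideal.height_strict_mono_of_isPrime hNr
  have h3 : r.height < q.height := Ideal.height_strict_mono_of_isPrime hrq'
  have h4 : r.height = 0 := ENat.lt_one_iff_eq_zero.mp (h3.trans_le h1)
  rw [h4] at h2
  exact not_lt_zero h2

private lemma key_geom (X : Scheme.{u}) [IsNoetherian X] [IrreducibleSpace X]
    (ho : IsOpen ({genericPoint X} : Set X)) {V : X.Opens} (hV : IsAffineOpen V) (hne : genericPoint X ∈ V) :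
    (V : Set X).Finite ∧ ∀ x y : X, x ∈ V → y ∈ V → x ≠ genericPoint X → x ⤳ y → x = y := by
  haveI : IsNoetherianRing Γ(X, V) := IsLocallyNoetherian.component_noetherian ⟨V, hV⟩
  have hemb : Topology.IsOpenEmbedding hV.fromSpec := hV.fromSpec.isOpenEmbedding
  obtain ⟨N, hN⟩ : ∃ N : PrimeSpectrum Γ(X, V), hV.fromSpec N = genericPoint X := by
    have h : genericPoint X ∈ Set.range hV.fromSpec := by rw [hV.range_fromSpec]; exact hne
    exact h
  have hle : ∀ P : PrimeSpectrum Γ(X, V), N ≤ P := by
    intro P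
    rw [PrimeSpectrum.le_iff_specializes]
    exact hemb.isInducing.specializes_iff.mp (hN ▸ genericPoint_specializes _)
  have hoN : IsOpen ({N} : Set (PrimeSpectrum Γ(X, V))) := by
    have : ({N} : Set (PrimeSpectrum Γ(X, V))) = hV.fromSpec ⁻¹' {genericPoint X} := by
      ext P
      constructor
      · intro (hP : P = N); rw [hP]; exact hN
      · intro (hP : hV.fromSpec P = _); exact hemb.injective (hP.trans hN.symm)
    rw [this]
    exact ho.preimage hV.fromSpec.continuous
  obtain ⟨_, ⟨f, rfl⟩, hfN, hf⟩ := PrimeSpectrum.isTopologicalBasis_basic_opens.exists_subset_of_mem_open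
    (Set.mem_singleton N) hoN
  have key := key_alg N hle f (fun P hP => hf hP) hfN
  have hfin : (Set.univ : Set (PrimeSpectrum Γ(X, V))).Finite := by
    refine Set.Finite.subset (((Ideal.finite_minimalPrimes_of_isNoetherianRing _
      (Ideal.span {f})).preimage (f := PrimeSpectrum.asIdeal) ?_).union (Set.finite_singleton N)) ?_
    · exact fun _ _ _ _ h => PrimeSpectrum.ext h
    · intro P _
      by_cases hP : P = N
      · exact Or.inr hP
      · exact Or.inl (key P hP)
  refine ⟨?_, ?_⟩
  · have h := hfin.image hV.fromSpec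
    refine h.subset fun x hx => ?_
    have hx' : x ∈ Set.range hV.fromSpec := by rw [hV.range_fromSpec]; exact hx
    obtain ⟨P, hP⟩ := hx'
    exact ⟨P, trivial, hP⟩
  · intro x y hx hy hxne hxy
    obtain ⟨P, rfl⟩ : ∃ P : PrimeSpectrum Γ(X, V), hV.fromSpec P = x := by
      have h : x ∈ Set.range hV.fromSpec := by rw [hV.range_fromSpec]; exact hx
      exact h
    obtain ⟨Q, rfl⟩ : ∃ Q : PrimeSpectrum Γ(X, V), hV.fromSpec Q = y := by
      have h : y ∈ Set.range hV.fromSpec := by rw [hV.range_fromSpec]; exact hy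
      exact h
    have hPN : P ≠ N := fun h => hxne (h ▸ hN)
    have hPQ : P ≤ Q := (PrimeSpectrum.le_iff_specializes _ _).mpr (hemb.isInducing.specializes_iff.mp hxy)
    have hQN : Q ≠ N := fun h => hPN (le_antisymm (h ▸ hPQ) (hle P))
    have h1 := key P hPN
    have h2 := key Q hQN
    exact congrArg _ (le_antisymm hPQ (h2.2 ⟨P.2, h1.1.2⟩ hPQ))


/-- For a Noetherian irreducible scheme X the following are equivalent: a) the generic point of X is an
isolated point; b) the underlying set of X is finite; c) X has dimension at most 1 and finitely many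
closed points. -/
theorem result (X : Scheme.{u}) [IsNoetherian X]
    [IrreducibleSpace X] :
    [IsOpen ({genericPoint X} : Set X),
      Finite X,
      topologicalKrullDim X ≤ 1 ∧ {x : X | IsClosed ({x} : Set X)}.Finite].TFAE := by
  have hgen : ∀ (V : X.Opens) (x : X), x ∈ V → genericPoint X ∈ V := fun V x hx =>
    (genericPoint_specializes x).mem_open V.isOpen hx
  have hab : IsOpen ({genericPoint X} : Set X) → Finite X ∧
      (topologicalKrullDim X ≤ 1 ∧ {x : X | IsClosed ({x} : Set X)}.Finite) := by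
    intro ho
    have hfinX : Finite X := by
      obtain ⟨s, hs⟩ := isCompact_univ.elim_finite_subcover (fun V : X.affineOpens => ((V : X.Opens) : Set X))
        (fun V => V.1.isOpen) (fun x _ => by
          obtain ⟨_, ⟨V, hV, rfl⟩, hxV, -⟩ :=
            X.isBasis_affineOpens.exists_subset_of_mem_open (Set.mem_univ x) isOpen_univ
          exact Set.mem_iUnion.mpr ⟨⟨V, hV⟩, hxV⟩)
      refine Set.finite_univ_iff.mp (Set.Finite.subset (s.finite_toSet.biUnion (t := fun V => ((V : X.Opens) : Set X)) ?_) hs)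
      intro V _
      rcases Set.eq_empty_or_nonempty ((V : X.Opens) : Set X) with h | ⟨x, hx⟩
      · rw [h]; exact Set.finite_empty
      · exact (key_geom X ho V.2 (hgen _ x hx)).1
    refine ⟨hfinX, ?_, Set.toFinite _⟩
    unfold topologicalKrullDim
    rw [Order.krullDim_eq_of_orderIso (irreducibleSetEquivPoints (α := X)), Order.krullDim_le_one_iff]
    intro x
    by_cases hx : x = genericPoint X
    · right
      intro y hy
      exact hx ▸ (genericPoint_specializes y : genericPoint X ⤳ y)
    · left
      intro y hy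
      obtain ⟨_, ⟨V, hV, rfl⟩, hyV, -⟩ :=
        X.isBasis_affineOpens.exists_subset_of_mem_open (Set.mem_univ y) isOpen_univ
      have hxV : x ∈ V := (hy : x ⤳ y).mem_open V.isOpen hyV
      have h := (key_geom X ho hV (hgen _ x hxV)).2 x y hxV hyV hx hy
      rw [h]
  tfae_have 1 → 2 := fun h => (hab h).1
  tfae_have 1 → 3 := fun h => (hab h).2
  tfae_have 2 → 1 := by
    intro h
    rw [← isClosed_compl_iff]
    have : ({genericPoint X} : Set X)ᶜ = ⋃ x ∈ ({genericPoint X} : Set X)ᶜ, closure {x} := by
      apply Set.Subset.antisymm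
      · exact fun x hx => Set.mem_biUnion hx (subset_closure rfl)
      · intro y hy
        obtain ⟨x, hx, hxy⟩ := Set.mem_iUnion₂.mp hy
        intro (hy' : y = _)
        apply hx
        subst hy'
        exact ((genericPoint_specializes x).antisymm (specializes_iff_mem_closure.mpr hxy)).eq.symm
    rw [this]
    exact (Set.toFinite _).isClosed_biUnion fun x _ => isClosed_closure
  tfae_have 3 → 2 := by
    rintro ⟨hd, hfin⟩
    unfold topologicalKrullDim at hd
    rw [Order.krullDim_eq_of_orderIso (irreducibleSetEquivPoints (α := X)), Order.krullDim_le_one_iff] at hd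
    refine Set.finite_univ_iff.mp ((hfin.union (Set.finite_singleton (genericPoint X))).subset ?_)
    intro x _
    rcases hd x with h | h
    · left
      refine isClosed_of_closure_subset fun y hy => ?_
      have hxy : x ⤳ y := specializes_iff_mem_closure.mpr hy
      exact (hxy.antisymm (h hxy)).eq.symm
    · right
      have h' : genericPoint X ⤳ x := genericPoint_specializes x
      exact (Specializes.antisymm (h h') h').eq
  tfae_finish

end Groth.Agent.S4880
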