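import Groth.Statements.S4882
import Mathlib.Topology.JacobsonSpace
-- import your own Groth.Agent.* helpers here

set_option autoImplicit false
universe u
open EGA43

namespace Groth.Agent.S4882

/-- Let X be a Jacobson space and Z a locally quasi-constructible subset of X, i.e. every point of X has
an open neighbourhood U such that U ∩ Z is a finite union of locally closed subsets of X. Then the
subspace Z is a Jacobson space, and a point of Z is closed in Z if and only if it is closed in X. -/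
theorem result {X : Type u} [TopologicalSpace X] [JacobsonSpace X]
    (Z : Set X)
    (hZ : ∀ x : X, ∃ U : Set X, IsOpen U ∧ x ∈ U ∧
      ∃ T : Set (Set X), T.Finite ∧ (∀ t ∈ T, IsLocallyClosed t) ∧ U ∩ Z = ⋃₀ T) :
    JacobsonSpace ↥Z ∧ ∀ z : ↥Z, IsClosed ({z} : Set ↥Z) ↔ IsClosed ({(z : X)} : Set X) := by
  have key : ∀ W : Set X, IsLocallyClosed W → ∀ z : X, z ∈ Z → z ∈ W → ∃ x ∈ W, x ∈ Z ∧ IsClosed ({x} : Set X) := by
    intro W hW z hz hzW
    obtain ⟨U, hU, hzU, T, -, hT, hUT⟩ := hZ z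
    obtain ⟨t, ht, hzt⟩ : z ∈ ⋃₀ T := hUT ▸ ⟨hzU, hz⟩
    obtain ⟨x, ⟨hxt, hxW⟩, hx⟩ := nonempty_inter_closedPoints (Z := t ∩ W) ⟨z, hzt, hzW⟩ ((hT t ht).inter hW)
    have : x ∈ U ∩ Z := hUT ▸ ⟨t, ht, hxt⟩
    exact ⟨x, hxW, this.2, hx⟩
  have hclosed : ∀ z : ↥Z, IsClosed ({z} : Set ↥Z) ↔ IsClosed ({(z : X)} : Set X) := by
    intro z
    refine ⟨fun h => ?_, fun h => ?_⟩
    · obtain ⟨C, hC, hCz⟩ := isClosed_induced_iff.mp h
      have hzC : (z : X) ∈ C := by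
        have : z ∈ Subtype.val ⁻¹' C := hCz.symm ▸ rfl
        exact this
      obtain ⟨x, hxC, hxZ, hx⟩ := key C hC.isLocallyClosed z z.2 hzC
      have : (⟨x, hxZ⟩ : ↥Z) ∈ ({z} : Set ↥Z) := hCz ▸ hxC
      rwa [← congrArg Subtype.val (Set.mem_singleton_iff.mp this)]
    · have := h.preimage (continuous_subtype_val (p := (· ∈ Z)))
      convert this
      ext w
      simp [Subtype.ext_iff]
  refine ⟨jacobsonSpace_iff_locallyClosed.mpr fun s hs hs' => ?_, hclosed⟩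
  obtain ⟨z, hz⟩ := hs
  obtain ⟨o, c, ho, hc, rfl⟩ := hs'
  obtain ⟨O, hO, rfl⟩ := isOpen_induced_iff.mp ho
  obtain ⟨C, hC, rfl⟩ := isClosed_induced_iff.mp hc
  obtain ⟨x, hxW, hxZ, hx⟩ := key (O ∩ C) ⟨O, C, hO, hC, rfl⟩ z z.2 hz
  exact ⟨⟨x, hxZ⟩, hxW, (hclosed ⟨x, hxZ⟩).mpr hx⟩

end Groth.Agent.S4882
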