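import Groth.Statements.S4883
import Mathlib.AlgebraicGeometry.Noetherian
import Groth.Agent.L03.FtPts
import Groth.Agent.L00.ArtinTate
-- import your own Groth.Agent.* helpers here

set_option autoImplicit false
universe u
open CategoryTheory AlgebraicGeometry
open EGA43

namespace Groth.Agent.S4883

/-- Let X be a Noetherian scheme. Then the set of points x of X whose closure is finite is very dense in
X: every nonempty locally closed subset of X contains a point with finite closure. -/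
theorem result (X : Scheme.{u}) [IsNoetherian X]
    (Z : Set X) (hZ : IsLocallyClosed Z) (hne : Z.Nonempty) :
    ∃ x ∈ Z, (closure ({x} : Set X)).Finite := by
  obtain ⟨x, hxZ, hft⟩ := Groth.L03.FtPts.exists_ft_mem X hZ hne
  refine ⟨x, hxZ, ?_⟩
  obtain ⟨U, -, hxU, hcl⟩ := (Groth.L03.FtPts.iff_closed x).mp hft
  obtain ⟨C, hC, hCx⟩ := isClosed_induced_iff.mp hcl
  have hUx : ∀ y ∈ U, x ⤳ y → y = x := fun y hy hxy => by
    have hxC : x ∈ C := by
      have : (⟨x, hxU⟩ : ↥U) ∈ Subtype.val ⁻¹' C := hCx.symm ▸ rfl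
      exact this
    have : (⟨y, hy⟩ : ↥U) ∈ ({⟨x, hxU⟩} : Set ↥U) := hCx ▸ hxy.mem_closed hC hxC
    exact congrArg Subtype.val (Set.mem_singleton_iff.mp this)
  obtain ⟨t, ht⟩ := isCompact_univ.elim_finite_subcover (fun W : X.affineOpens => (W.1 : Set X)) (fun W => W.1.2)
    (fun z _ => by
      obtain ⟨_, ⟨W, hW, rfl⟩, hzW, -⟩ := X.isBasis_affineOpens.exists_subset_of_mem_open (Set.mem_univ z) isOpen_univ
      exact Set.mem_iUnion.mpr ⟨⟨W, hW⟩, hzW⟩)
  suffices H : ∀ W : X.affineOpens, (closure ({x} : Set X) ∩ (W.1 : Set X)).Finite by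
    refine (t.finite_toSet.biUnion fun W _ => H W).subset fun z hz => ?_
    obtain ⟨W, hW, hzW⟩ := Set.mem_iUnion₂.mp (ht (Set.mem_univ z))
    exact Set.mem_biUnion hW ⟨hz, hzW⟩
  intro W
  by_cases hxW : x ∈ W.1
  swap
  · refine Set.finite_empty.subset fun z ⟨hz, hzW⟩ => hxW ?_
    exact (specializes_iff_mem_closure.mpr hz).mem_open W.1.2 hzW
  haveI : IsNoetherianRing Γ(X, W.1) := IsLocallyNoetherian.component_noetherian W
  let e := W.2.fromSpec
  obtain ⟨p, hp⟩ : x ∈ Set.range e := by rw [W.2.range_fromSpec]; exact hxW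
  obtain ⟨_, ⟨_, ⟨f, rfl⟩, rfl⟩, hpf, hfU⟩ :=
    PrimeSpectrum.isBasis_basic_opens.exists_subset_of_mem_open (show p ∈ e ⁻¹' (U : Set X) by
      show e p ∈ U
      rw [hp]; exact hxU) (U.2.preimage e.continuous)
  have hsp : ∀ q : PrimeSpectrum Γ(X, W.1), p.asIdeal ≤ q.asIdeal ↔ x ⤳ e q := fun q => by
    rw [← hp, e.isEmbedding.isInducing.specializes_iff]
    exact PrimeSpectrum.le_iff_specializes p q
  haveI := p.2
  have hfin := Groth.L00.ArtinTate.finite_above (p := p.asIdeal) (f := f) hpf fun q hq hle hne => by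
    by_contra hfq
    refine hne (congrArg PrimeSpectrum.asIdeal (e.isEmbedding.injective ?_ : (⟨q, hq⟩ : PrimeSpectrum Γ(X, W.1)) = p))
    rw [hp]
    exact hUx _ (hfU (show (⟨q, hq⟩ : PrimeSpectrum Γ(X, W.1)) ∈ (PrimeSpectrum.basicOpen f : Set _) from hfq)) ((hsp ⟨q, hq⟩).mp hle)
  refine (hfin.image e).subset fun z ⟨hz, hzW⟩ => ?_
  obtain ⟨q, rfl⟩ : z ∈ Set.range e := by rw [W.2.range_fromSpec]; exact hzW
  exact ⟨q, (hsp q).mpr (specializes_iff_mem_closure.mpr hz), rfl⟩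

end Groth.Agent.S4883
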