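import Groth.Statements.S4885
import Mathlib.RingTheory.FinitePresentation
import Mathlib.RingTheory.IntegralClosure.IsIntegralClosure.Basic

set_option autoImplicit false
set_option linter.style.haveILetI false
universe u
open EGA43

namespace Groth.Agent.S4885

/-- Every finite algebra A' over a commutative ring A is a directed colimit (filtered inductive limit)
of A-algebras which are finite and of finite presentation over A. -/
theorem result (A A' : Type u) [CommRing A] [CommRing A']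
    [Algebra A A'] [Module.Finite A A'] :
    ∃ (ι : Type u) (_ : Preorder ι) (G : ι → Type u) (_ : ∀ i, CommRing (G i)) (_ : ∀ i, Algebra A (G i))
      (g : ∀ i j, i ≤ j → G i →ₐ[A] G j) (_ : ∀ i, Algebra (G i) A') (_ : ∀ i, IsScalarTower A (G i) A'),
      FlatCA.IsDirectedColimitRing G (fun i j h => (g i j h).toRingHom) A' ∧
        ∀ i, Module.Finite A (G i) ∧ Algebra.FinitePresentation A (G i) := by
  classical
  obtain ⟨n, s, hs⟩ := Module.Finite.exists_fin (R := A) (M := A')
  let P := MvPolynomial (Fin n) A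
  let π : P →ₐ[A] A' := MvPolynomial.aeval s
  have hπ : Function.Surjective π := by
    intro a
    obtain ⟨c, hc⟩ := (Submodule.mem_span_range_iff_exists_fun A).mp (hs.ge (Submodule.mem_top (x := a)))
    exact ⟨∑ i, c i • (MvPolynomial.X i : MvPolynomial (Fin n) A), by
      show MvPolynomial.aeval s _ = a
      rw [map_sum, ← hc]
      exact Finset.sum_congr rfl fun i _ => by rw [map_smul, MvPolynomial.aeval_X]⟩
  choose p hpm hp using fun i => (Algebra.IsIntegral.isIntegral (R := A) (s i))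
  let J₀ : Ideal P := Ideal.span (Set.range fun i => Polynomial.aeval (MvPolynomial.X i : P) (p i))
  have hJ₀ : J₀ ≤ RingHom.ker π := by
    refine Ideal.span_le.mpr ?_
    rintro _ ⟨i, rfl⟩
    show π (Polynomial.aeval (MvPolynomial.X i : P) (p i)) = 0
    rw [← Polynomial.aeval_algHom_apply, show π (MvPolynomial.X i) = s i from MvPolynomial.aeval_X _ _]
    exact hp i
  have hJ₀fg : J₀.FG := Submodule.fg_span (Set.finite_range _)
  let ι := {J : Ideal P // J.FG ∧ J₀ ≤ J ∧ J ≤ RingHom.ker π}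
  let alg : ∀ J : ι, Algebra (P ⧸ J.1) A' := fun J =>
    (Ideal.Quotient.liftₐ J.1 π fun x hx => J.2.2.2 hx).toRingHom.toAlgebra
  refine ⟨ι, inferInstance, fun J => P ⧸ J.1, fun _ => inferInstance, fun _ => inferInstance,
    fun J K h => Ideal.Quotient.factorₐ A (show J.1 ≤ K.1 from h), alg,
    fun J => @IsScalarTower.of_algebraMap_eq A (P ⧸ J.1) A' _ _ _ _ (alg J) _
      fun a => ((Ideal.Quotient.liftₐ J.1 π fun x hx => J.2.2.2 hx).commutes a).symm,
    ⟨⟨fun J K => ⟨⟨J.1 ⊔ K.1, Submodule.FG.sup J.2.1 K.2.1, J.2.2.1.trans le_sup_left, sup_le J.2.2.2 K.2.2.2⟩,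
      (le_sup_left : J.1 ≤ J.1 ⊔ K.1), (le_sup_right : K.1 ≤ J.1 ⊔ K.1)⟩⟩, ⟨⟨J₀, hJ₀fg, le_rfl, hJ₀⟩⟩, ?_, ?_, ?_, ?_, ?_⟩, fun J => ⟨?_, ?_⟩⟩
  · intro J
    refine RingHom.ext fun x => ?_
    obtain ⟨x, rfl⟩ := Ideal.Quotient.mk_surjective x
    rfl
  · intro J K L h1 h2
    refine RingHom.ext fun x => ?_
    obtain ⟨x, rfl⟩ := Ideal.Quotient.mk_surjective x
    rfl
  · intro J K h
    refine RingHom.ext fun x => ?_
    obtain ⟨x, rfl⟩ := Ideal.Quotient.mk_surjective x
    rfl
  · intro a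
    obtain ⟨x, hx⟩ := hπ a
    exact ⟨⟨J₀, hJ₀fg, le_rfl, hJ₀⟩, Ideal.Quotient.mk J₀ x, hx⟩
  · intro J x hx
    obtain ⟨x, rfl⟩ := Ideal.Quotient.mk_surjective x
    refine ⟨⟨J.1 ⊔ Ideal.span {x}, Submodule.FG.sup J.2.1 (Submodule.fg_span_singleton x), J.2.2.1.trans le_sup_left,
      sup_le J.2.2.2 ((Ideal.span_singleton_le_iff_mem _).mpr hx)⟩, (le_sup_left : J.1 ≤ J.1 ⊔ Ideal.span {x}), ?_⟩
    show Ideal.Quotient.mk _ x = 0
    exact Ideal.Quotient.eq_zero_iff_mem.mpr (Ideal.mem_sup_right (Ideal.mem_span_singleton_self x))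
  · let y : Fin n → P ⧸ J.1 := fun i => Ideal.Quotient.mk J.1 (MvPolynomial.X i)
    have hy : ∀ i, IsIntegral A (y i) := fun i => by
      refine ⟨p i, hpm i, ?_⟩
      have hmem : Polynomial.aeval (MvPolynomial.X i : P) (p i) ∈ J.1 := J.2.2.1 (Ideal.subset_span ⟨i, rfl⟩)
      have h1 := Polynomial.aeval_algHom_apply (Ideal.Quotient.mkₐ A J.1) (MvPolynomial.X i : P) (p i)
      exact h1.trans (Ideal.Quotient.eq_zero_iff_mem.mpr hmem)
    have htop : Algebra.adjoin A (Set.range y) = ⊤ := by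
      rw [show Set.range y = Ideal.Quotient.mkₐ A J.1 '' Set.range (MvPolynomial.X : Fin n → P) from
        Set.range_comp _ _, Algebra.adjoin_image, MvPolynomial.adjoin_range_X, Algebra.map_top,
        AlgHom.range_eq_top]
      exact Ideal.Quotient.mkₐ_surjective A J.1
    refine Module.finite_def.mpr ?_
    have h2 := fg_adjoin_of_finite (Set.finite_range y) (by rintro _ ⟨i, rfl⟩; exact hy i)
    rwa [htop, Algebra.top_toSubmodule] at h2
  · exact Algebra.FinitePresentation.quotient J.2.1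

end Groth.Agent.S4885
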