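import Groth.Statements.S4886
import Mathlib.AlgebraicGeometry.Morphisms.FiniteType
import Groth.Agent.S9612
import Mathlib.RingTheory.Jacobson.Ring
import Mathlib.RingTheory.Spectrum.Prime.Jacobson
import Mathlib.GroupTheory.FiniteAbelian.Basic
import Mathlib.RingTheory.LocalRing.ResidueField.Ideal
import Mathlib.RingTheory.IntegralClosure.IntegrallyClosed

set_option autoImplicit false
set_option maxSynthPendingDepth 3
set_option linter.style.haveILetI false
universe u
open CategoryTheory AlgebraicGeometry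
open EGA43

namespace Groth.Agent.S4886

/-- Let Y be a scheme of finite type over ℤ. (i) A point y of Y is closed if and only if the residue
field k(y) is finite. (ii) For every prime number p and every integer d ≥ 1, the set of points y of
Y such that k(y) is an extension of 𝔽_p of degree dividing d, i.e. admits a ring homomorphism into
the field with p^d elements, is finite. -/
theorem result (Y : Scheme.{u}) [CompactSpace Y]
    [LocallyOfFiniteType (Limits.IsTerminal.from specULiftZIsTerminal Y)] :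
    (∀ y : Y, IsClosed ({y} : Set Y) ↔ Finite ↑(Y.residueField y)) ∧
    ∀ (p d : ℕ) [Fact p.Prime], 0 < d →
      {y : Y | Nonempty (↑(Y.residueField y) →+* GaloisField p d)}.Finite := by
  classical
  haveI : IsJacobsonRing ℤ := Groth.Agent.S9612.result
  haveI : IsJacobsonRing (ULift.{u} ℤ) :=
    isJacobsonRing_of_surjective ⟨(ULift.ringEquiv.symm : ℤ ≃+* ULift.{u} ℤ).toRingHom, (ULift.ringEquiv.symm : ℤ ≃+* ULift.{u} ℤ).surjective⟩
  haveI : JacobsonSpace (Spec (CommRingCat.of (ULift.{u} ℤ))) :=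
    PrimeSpectrum.isJacobsonRing_iff_jacobsonSpace.mp inferInstance
  let t := Limits.IsTerminal.from specULiftZIsTerminal Y
  haveI : JacobsonSpace Y := LocallyOfFiniteType.jacobsonSpace t
  have hft : ∀ W : Y.Opens, IsAffineOpen W → Algebra.FiniteType ℤ Γ(Y, W) := fun W hW => by
    have h1 := LocallyOfFiniteType.finiteType_appLE t (isAffineOpen_top _) hW (e := fun _ _ => trivial)
    let φ : ℤ →+* Γ(Spec (CommRingCat.of (ULift.{u} ℤ)), ⊤) :=
      (Scheme.ΓSpecIso (CommRingCat.of (ULift.{u} ℤ))).inv.hom.comp ULift.ringEquiv.symm.toRingHom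
    have hφ : φ.FiniteType := RingHom.FiniteType.of_surjective φ
      ((Scheme.ΓSpecIso (CommRingCat.of (ULift.{u} ℤ))).commRingCatIsoToRingEquiv.symm.surjective.comp
        ULift.ringEquiv.symm.surjective)
    rw [← RingHom.finiteType_algebraMap, Subsingleton.elim (algebraMap ℤ Γ(Y, W)) ((t.appLE ⊤ W fun _ _ => trivial).hom.comp φ)]
    exact h1.comp hφ
  have key : ∀ y : Y, ∃ (W : Y.Opens) (_ : IsAffineOpen W) (hy : y ∈ W), True := fun y => by
    obtain ⟨_, ⟨W, hW, rfl⟩, hyW, -⟩ := Y.isBasis_affineOpens.exists_subset_of_mem_open (Set.mem_univ y) isOpen_univ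
    exact ⟨W, hW, hyW, trivial⟩
  have hres : ∀ (W : Y.Opens) (hW : IsAffineOpen W) (w : W),
      Nonempty ((hW.primeIdealOf w).asIdeal.ResidueField ≃+* Y.residueField w.1) := fun W hW w => by
    letI : Algebra Γ(Y, W) (Y.presheaf.stalk w.1) := TopCat.Presheaf.algebra_section_stalk Y.presheaf w
    haveI := hW.isLocalization_stalk w
    exact ⟨IsLocalRing.ResidueField.mapEquiv
      (IsLocalization.algEquiv (hW.primeIdealOf w).asIdeal.primeCompl
        (Localization.AtPrime (hW.primeIdealOf w).asIdeal) (Y.presheaf.stalk w.1)).toRingEquiv⟩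
  refine ⟨fun y => ?_, fun p d _ hd => ?_⟩
  · obtain ⟨W, hW, hyW, -⟩ := key y
    haveI := hft W hW
    obtain ⟨e⟩ := hres W hW ⟨y, hyW⟩
    set P := hW.primeIdealOf ⟨y, hyW⟩
    have hPy : hW.fromSpec P = y := hW.fromSpec_primeIdealOf ⟨y, hyW⟩
    have hcl : IsClosed ({y} : Set Y) ↔ P.asIdeal.IsMaximal := by
      rw [← PrimeSpectrum.isClosed_singleton_iff_isMaximal]
      have h1 := Set.ext_iff.mp hW.fromSpec.isOpenEmbedding.preimage_closedPoints P
      rw [Set.mem_preimage, hPy] at h1
      exact h1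
    rw [hcl, ← e.toEquiv.finite_iff]
    constructor
    · intro hP
      letI := Ideal.Quotient.field P.asIdeal
      haveI : Module.Finite ℤ (Γ(Y, W) ⧸ P.asIdeal) := finite_of_finite_type_of_isJacobsonRing ℤ _
      have hnZ : ¬ Function.Injective (algebraMap ℤ (Γ(Y, W) ⧸ P.asIdeal)) := fun hinj =>
        Int.not_isField (isField_of_isIntegral_of_isField hinj (Field.toIsField _))
      obtain ⟨n, hn, hn0⟩ : ∃ n : ℤ, algebraMap ℤ (Γ(Y, W) ⧸ P.asIdeal) n = 0 ∧ n ≠ 0 := by
        by_contra! hne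
        exact hnZ ((injective_iff_map_eq_zero _).mpr hne)
      haveI : AddGroup.FG (Γ(Y, W) ⧸ P.asIdeal) := Module.Finite.iff_addGroup_fg.mp inferInstance
      haveI : Finite (Γ(Y, W) ⧸ P.asIdeal) := AddCommGroup.finite_of_fg_isAddTorsion (G := Γ(Y, W) ⧸ P.asIdeal) fun x => by
        refine isOfFinAddOrder_iff_zsmul_eq_zero.mpr ⟨n, hn0, ?_⟩
        rw [zsmul_eq_mul, show ((n : Γ(Y, W) ⧸ P.asIdeal)) = 0 by simpa using hn, zero_mul]
      exact Finite.of_surjective _ (Ideal.bijective_algebraMap_quotient_residueField P.asIdeal).2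
    · intro hfin
      haveI : Finite (Γ(Y, W) ⧸ P.asIdeal) :=
        Finite.of_injective _ (Ideal.injective_algebraMap_quotient_residueField P.asIdeal)
      exact Ideal.Quotient.maximal_of_isField _ (Finite.isField_of_domain _)
  · choose W hW hyW _ using key
    obtain ⟨s, hs⟩ := isCompact_univ.elim_finite_subcover (fun y : Y => (W y : Set Y)) (fun y => (W y).2)
      fun y _ => Set.mem_iUnion.mpr ⟨y, hyW y⟩
    refine Set.Finite.subset (s.finite_toSet.biUnion fun i _ =>
      (show {y ∈ (W i : Set Y) | Nonempty (↑(Y.residueField y) →+* GaloisField p d)}.Finite from ?_))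
      fun y hy => by
        obtain ⟨i, hi, hyi⟩ := Set.mem_iUnion₂.mp (hs (Set.mem_univ y))
        exact Set.mem_biUnion hi ⟨hyi, hy⟩
    haveI := hft (W i) (hW i)
    obtain ⟨S, hS⟩ := (inferInstance : Algebra.FiniteType ℤ Γ(Y, W i)).out
    haveI : Finite (Γ(Y, W i) →+* GaloisField p d) := by
      haveI : Finite (GaloisField p d) := inferInstance
      refine Finite.of_injective (fun φ (a : S) => φ a) fun φ ψ h => ?_
      have h' : φ.toIntAlgHom = ψ.toIntAlgHom :=
        AlgHom.ext_of_adjoin_eq_top hS fun a ha => congrFun h ⟨a, ha⟩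
      exact RingHom.ext fun a => AlgHom.congr_fun h' a
    have hT : ∀ y : {y ∈ (W i : Set Y) | Nonempty (↑(Y.residueField y) →+* GaloisField p d)},
        ∃ φ : Γ(Y, W i) →+* GaloisField p d, RingHom.ker φ = ((hW i).primeIdealOf ⟨y.1, y.2.1⟩).asIdeal := fun y => by
      obtain ⟨e⟩ := hres (W i) (hW i) ⟨y.1, y.2.1⟩
      obtain ⟨ψ⟩ := y.2.2
      refine ⟨(ψ.comp e.toRingHom).comp (algebraMap Γ(Y, W i) _), ?_⟩
      rw [RingHom.ker_comp_of_injective _ (RingHom.injective _), Ideal.ker_algebraMap_residueField]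
    choose φ hφ using hT
    refine Set.finite_coe_iff.mp (Finite.of_injective φ fun a b hab => Subtype.ext ?_)
    have h := PrimeSpectrum.ext (((hφ a).symm.trans (congrArg RingHom.ker hab)).trans (hφ b))
    rw [← (hW i).fromSpec_primeIdealOf ⟨a.1, a.2.1⟩, h, (hW i).fromSpec_primeIdealOf ⟨b.1, b.2.1⟩]

end Groth.Agent.S4886
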