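import Groth.Statements.S4891
import Groth.Agent.L27.AlgebraMisc
import Mathlib.RingTheory.Flat.FaithfullyFlat.Basic

set_option autoImplicit false
set_option linter.style.haveILetI false
universe u
open TensorProduct
open EGA43

namespace Groth.Agent.S4891
open TensorProduct

/-- Let A be a commutative ring, J a nilpotent ideal of A, B a commutative A-algebra and M a B-module.
If M is flat over A, M/JM is flat over B/JB, B/JB is flat over A/J and mM ≠ M for every maximal
ideal m of B containing JB, then B is flat over A. (Under the first two hypotheses M is also flat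
over B; that implication is stated elsewhere and not repeated here.) -/
theorem result {A B : Type u} [CommRing A] [CommRing B] [Algebra A B]
    (J : Ideal A) (hJ : IsNilpotent J) (M : Type u) [AddCommGroup M] [Module B M] [Module A M] [IsScalarTower A B M]
    (hc1 : Module.Flat A M)
    (hc2 : Module.Flat (B ⧸ J.map (algebraMap A B)) ((B ⧸ J.map (algebraMap A B)) ⊗[B] M))
    (hd1 : Module.Flat (A ⧸ J) ((A ⧸ J) ⊗[A] B))
    (hd2 : ∀ m : Ideal B, m.IsMaximal → J.map (algebraMap A B) ≤ m → (m • (⊤ : Submodule B M)) ≠ ⊤) :
    Module.Flat A B := by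
  let J' := J.map (algebraMap A B)
  obtain ⟨N, hN⟩ := hJ
  have hJ' : IsNilpotent J' := ⟨N, by
    rw [Ideal.zero_eq_bot, ← Ideal.map_pow, hN, Ideal.zero_eq_bot, Ideal.map_bot]⟩
  haveI := hc1
  haveI := hc2
  haveI := hd1
  let α : B ⊗[A] J →ₗ[B] B :=
    (AlgebraTensorModule.rid A B B).toLinearMap ∘ₗ J.subtype.baseChange B
  have hα : ∀ (b : B) (j : J), α (b ⊗ₜ j) = (j : A) • b := fun b j => rfl
  have hαM : Function.Injective (α.lTensor M) := by
    have hi : Function.Injective (J.subtype.lTensor M) :=
      Module.Flat.lTensor_preserves_injective_linearMap _ Subtype.val_injective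
    intro x y hxy
    apply (AlgebraTensorModule.cancelBaseChange A B B M J).injective
    apply hi
    apply (AlgebraTensorModule.rid A B M).injective
    have hnat : ∀ z : M ⊗[B] (B ⊗[A] J), AlgebraTensorModule.rid A B M
        (J.subtype.lTensor M (AlgebraTensorModule.cancelBaseChange A B B M J z)) =
          TensorProduct.rid B M (α.lTensor M z) := fun z => by
      induction z using TensorProduct.induction_on with
      | zero => simp
      | add u v hu hv => simp only [map_add, hu, hv]
      | tmul m w =>
        induction w using TensorProduct.induction_on with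
        | zero => simp
        | add u v hu hv => simp only [TensorProduct.tmul_add, map_add, hu, hv]
        | tmul b j =>
          rw [AlgebraTensorModule.cancelBaseChange_tmul, LinearMap.lTensor_tmul, LinearMap.lTensor_tmul,
            hα, TensorProduct.rid_tmul, AlgebraTensorModule.rid_tmul, Submodule.subtype_apply, smul_assoc]
    rw [hnat, hnat, hxy]
  -- M is flat over B
  haveI : Module.Flat B M := by
    refine (Groth.L27.AlgebraMisc.flat_iff_of_nilpotent B J' M hJ').mpr ⟨hc2, ?_⟩
    have hrange : ∀ w, α w ∈ J' := fun w => by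
      induction w using TensorProduct.induction_on with
      | zero => simp
      | tmul b j =>
        rw [hα, Algebra.smul_def]
        exact Ideal.mul_mem_right _ _ (Ideal.mem_map_of_mem _ j.2)
      | add u v hu hv => rw [map_add]; exact add_mem hu hv
    let c : B ⊗[A] J →ₗ[B] ↥J' := α.codRestrict (J'.restrictScalars B) hrange
    have hcs : Function.Surjective c := by
      have hle : J' ≤ LinearMap.range α := Ideal.map_le_iff_le_comap.mpr fun j hj => by
        rw [Ideal.mem_comap]
        exact ⟨1 ⊗ₜ ⟨j, hj⟩, by rw [hα, Algebra.smul_def, mul_one]⟩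
      intro v
      obtain ⟨w, hw⟩ := hle v.2
      exact ⟨w, Subtype.ext hw⟩
    rw [← LinearMap.lTensor_inj_iff_rTensor_inj]
    intro x y hxy
    obtain ⟨x, rfl⟩ := LinearMap.lTensor_surjective M hcs x
    obtain ⟨y, rfl⟩ := LinearMap.lTensor_surjective M hcs y
    refine congrArg _ (hαM ?_)
    rw [← LinearMap.comp_apply, ← LinearMap.lTensor_comp, ← LinearMap.comp_apply, ← LinearMap.lTensor_comp] at hxy
    exact hxy
  haveI : Module.FaithfullyFlat B M := ⟨fun {m} hm => hd2 m hm (by
    have hJm : ∀ j ∈ J', j ∈ m := fun j hj => by
      obtain ⟨k, hk⟩ := hJ'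
      refine hm.isPrime.mem_of_pow_mem k ?_
      have := Ideal.pow_mem_pow hj k
      rw [hk] at this
      rw [show j ^ k = 0 from this]
      exact m.zero_mem
    exact hJm)⟩
  have hinj : Function.Injective α := (Module.FaithfullyFlat.lTensor_injective_iff_injective B M α).mp hαM
  refine (Groth.L27.AlgebraMisc.flat_iff_of_nilpotent A J B ⟨N, hN⟩).mpr ⟨hd1, ?_⟩
  rw [← LinearMap.lTensor_inj_iff_rTensor_inj]
  exact fun x y hxy => hinj (congrArg (AlgebraTensorModule.rid A B B) hxy)

end Groth.Agent.S4891
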