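import Groth.Statements.S4893
import Groth.Agent.L00.QuasiHomeo
-- import your own Groth.Agent.* helpers here

set_option autoImplicit false
universe u
open EGA43

namespace Groth.Agent.S4893

/-- Let f : X → Y be a quasi-homeomorphism (continuous, with U ↦ f⁻¹(U) a bijection from the open
subsets of Y onto the open subsets of X) and Y' a locally quasi-constructible subset of Y. Then the
restriction f⁻¹(Y') → Y' of f is a quasi-homeomorphism. -/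
theorem result {X Y : Type u} [TopologicalSpace X]
    [TopologicalSpace Y] (f : X → Y) (hf : Continuous f)
    (hq : ((∀ U₁ U₂ : Set Y, IsOpen U₁ → IsOpen U₂ → (f) ⁻¹' U₁ = (f) ⁻¹' U₂ → U₁ = U₂) ∧ (∀ V : Set X, IsOpen V → ∃ U : Set Y, IsOpen U ∧ (f) ⁻¹' U = V)))
    (Y' : Set Y) (hY' : (∀ y : Y, ∃ U : Set Y, IsOpen U ∧ y ∈ U ∧ ∃ T : Set (Set Y), T.Finite ∧ (∀ t ∈ T, IsLocallyClosed t) ∧ U ∩ Y' = ⋃₀ T)) :
    ((∀ U₁ U₂ : Set ↥Y', IsOpen U₁ → IsOpen U₂ → (Y'.restrictPreimage f) ⁻¹' U₁ = (Y'.restrictPreimage f) ⁻¹' U₂ → U₁ = U₂) ∧ (∀ V : Set ↥(f ⁻¹' Y'), IsOpen V → ∃ U : Set ↥Y', IsOpen U ∧ (Y'.restrictPreimage f) ⁻¹' U = V)) := by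
  have hq' : Function.Bijective (fun U : TopologicalSpace.Opens Y =>
      (⟨f ⁻¹' (U : Set Y), U.isOpen.preimage hf⟩ : TopologicalSpace.Opens X)) :=
    ⟨fun U V e => TopologicalSpace.Opens.ext (hq.1 U V U.2 V.2 (congrArg SetLike.coe e)), fun V => by
      obtain ⟨U, hU, hUV⟩ := hq.2 V V.2
      exact ⟨⟨U, hU⟩, TopologicalSpace.Opens.ext hUV⟩⟩
  constructor
  · intro U₁ U₂ h1 h2 he
    obtain ⟨A, hA, rfl⟩ := isOpen_induced_iff.1 h1
    obtain ⟨B, hB, rfl⟩ := isOpen_induced_iff.1 h2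
    have key : ∀ {A B : Set Y}, IsOpen A → IsOpen B →
        (Y'.restrictPreimage f) ⁻¹' (Subtype.val ⁻¹' A) = (Y'.restrictPreimage f) ⁻¹' (Subtype.val ⁻¹' B) →
        Y' ∩ A ⊆ B := by
      intro A B hA hB he
      refine Groth.L00.QuasiHomeo.trace_subset hf hq' hY' hA hB ?_
      rintro x ⟨hx, hxA⟩
      exact (Set.ext_iff.1 he ⟨x, hx⟩).1 hxA
    ext ⟨y, hy⟩
    exact ⟨fun h => key hA hB he ⟨hy, h⟩, fun h => key hB hA he.symm ⟨hy, h⟩⟩
  · intro V hV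
    obtain ⟨O, hO, rfl⟩ := isOpen_induced_iff.1 hV
    obtain ⟨U, hU, rfl⟩ := hq.2 O hO
    exact ⟨Subtype.val ⁻¹' U, hU.preimage continuous_subtype_val, rfl⟩

end Groth.Agent.S4893
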