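import Groth.Statements.S4894
-- import your own Groth.Agent.* helpers here

set_option autoImplicit false
universe u
open EGA43

namespace Groth.Agent.S4894

/-- Let f : X → Y be continuous and (W_i) an open covering of Y such that every restriction f⁻¹(W_i) →
W_i is a quasi-homeomorphism (taking preimages is a bijection on open subsets). Then f is a
quasi-homeomorphism. -/
theorem result {X Y : Type u} [TopologicalSpace X]
    [TopologicalSpace Y] (f : X → Y) (hf : Continuous f) {ι : Type u} (W : ι → Set Y)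
    (hWo : ∀ i, IsOpen (W i)) (hWc : ⋃ i, W i = Set.univ)
    (h : ∀ i, ((∀ U₁ U₂ : Set ↥(W i), IsOpen U₁ → IsOpen U₂ → ((W i).restrictPreimage f) ⁻¹' U₁ = ((W i).restrictPreimage f) ⁻¹' U₂ → U₁ = U₂) ∧ (∀ V : Set ↥(f ⁻¹' W i), IsOpen V → ∃ U : Set ↥(W i), IsOpen U ∧ ((W i).restrictPreimage f) ⁻¹' U = V))) :
    ((∀ U₁ U₂ : Set Y, IsOpen U₁ → IsOpen U₂ → (f) ⁻¹' U₁ = (f) ⁻¹' U₂ → U₁ = U₂) ∧ (∀ V : Set X, IsOpen V → ∃ U : Set Y, IsOpen U ∧ (f) ⁻¹' U = V)) := by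
  have key : ∀ i, ∀ U₁ U₂ : Set Y, IsOpen U₁ → IsOpen U₂ → (∀ x, f x ∈ W i → (f x ∈ U₁ ↔ f x ∈ U₂)) →
      ∀ y ∈ W i, (y ∈ U₁ ↔ y ∈ U₂) := by
    intro i U₁ U₂ h1 h2 he y hy
    have := (h i).1 (Subtype.val ⁻¹' U₁) (Subtype.val ⁻¹' U₂) (h1.preimage continuous_subtype_val)
      (h2.preimage continuous_subtype_val) (by ext ⟨x, hx⟩; exact he x hx)
    exact Set.ext_iff.1 this ⟨y, hy⟩
  constructor
  · intro U₁ U₂ h1 h2 he
    ext y
    obtain ⟨i, hi⟩ := Set.mem_iUnion.1 (hWc.ge (Set.mem_univ y))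
    exact key i U₁ U₂ h1 h2 (fun x _ => Set.ext_iff.1 he x) y hi
  · intro V hV
    have hex : ∀ i, ∃ U : Set Y, IsOpen U ∧ U ⊆ W i ∧ ∀ x, f x ∈ W i → (f x ∈ U ↔ x ∈ V) := by
      intro i
      obtain ⟨U, hU, hUV⟩ := (h i).2 (Subtype.val ⁻¹' V) (hV.preimage continuous_subtype_val)
      refine ⟨Subtype.val '' U, (hWo i).isOpenMap_subtype_val U hU, Subtype.coe_image_subset _ _, fun x hx => ?_⟩
      refine ⟨?_, fun hxV => ⟨⟨f x, hx⟩, (Set.ext_iff.1 hUV ⟨x, hx⟩).2 hxV, rfl⟩⟩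
      rintro ⟨⟨y, hy⟩, hyU, rfl⟩
      exact (Set.ext_iff.1 hUV ⟨x, hx⟩).1 hyU
    choose U hU hUW hUV using hex
    refine ⟨⋃ i, U i, isOpen_iUnion hU, ?_⟩
    ext x
    simp only [Set.mem_preimage, Set.mem_iUnion]
    constructor
    · rintro ⟨i, hi⟩
      exact (hUV i x (hUW i hi)).1 hi
    · intro hx
      obtain ⟨i, hi⟩ := Set.mem_iUnion.1 (hWc.ge (Set.mem_univ (f x)))
      exact ⟨i, (hUV i x hi).2 hx⟩

end Groth.Agent.S4894
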