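import Groth.Statements.S4897
import Groth.Agent.L07.QCons

set_option autoImplicit false
set_option linter.style.haveILetI false
universe u
open EGA43

namespace Groth.Agent.S4897

/-- Let f : X → Y be a quasi-homeomorphism, i.e. a continuous map such that U ↦ f⁻¹(U) is a bijection
from the open subsets of Y onto the open subsets of X. Then Z ↦ f⁻¹(Z) induces bijections from the
locally closed (resp. constructible, resp. locally constructible) subsets of Y onto those of X. -/
theorem result {X Y : Type u}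
    [TopologicalSpace X] [TopologicalSpace Y] (f : X → Y) (hf : Continuous f)
    (hq : Function.Bijective (fun U : TopologicalSpace.Opens Y =>
      (⟨f ⁻¹' (U : Set Y), U.isOpen.preimage hf⟩ : TopologicalSpace.Opens X))) :
    Function.Bijective (fun Z : {Z : Set Y // IsLocallyClosed Z} =>
        (⟨f ⁻¹' Z.1, Z.2.preimage hf⟩ : {Z : Set X // IsLocallyClosed Z})) ∧
      Set.BijOn (fun Z : Set Y => f ⁻¹' Z) {Z | Topology.IsConstructible Z} {Z | Topology.IsConstructible Z} ∧
      Set.BijOn (fun Z : Set Y => f ⁻¹' Z) {Z | Topology.IsLocallyConstructible Z}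
        {Z | Topology.IsLocallyConstructible Z} := by
  have hd := Groth.L07.QCons.dense_of_injective (f := f) fun U V hU hV h =>
    congrArg (fun O : TopologicalSpace.Opens Y => (O : Set Y))
      (hq.1 (a₁ := ⟨U, hU⟩) (a₂ := ⟨V, hV⟩) (TopologicalSpace.Opens.ext h))
  have ho : ∀ O : Set X, IsOpen O → ∃ O' : Set Y, IsOpen O' ∧ f ⁻¹' O' = O := fun O hO =>
    let ⟨U, hU⟩ := hq.2 ⟨O, hO⟩; ⟨U, U.isOpen, congrArg (fun O : TopologicalSpace.Opens X => (O : Set X)) hU⟩
  refine ⟨⟨fun A B h => Subtype.ext (Groth.L07.QCons.eq_of_preimage hd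
      (Groth.L07.QCons.qc_of_lc A.2).lqc (Groth.L07.QCons.qc_of_lc B.2).lqc (congrArg Subtype.val h)),
      fun A => ?_⟩,
    ⟨fun Z hZ => Groth.L07.QCons.constructible_preimage hf hd ho hZ,
      fun A hA B hB h => Groth.L07.QCons.eq_of_preimage hd (Groth.L07.QCons.IsConstructible.qc hA).lqc
        (Groth.L07.QCons.IsConstructible.qc hB).lqc h,
      fun A hA => Groth.L07.QCons.exists_constructible hf hd ho hA⟩,
    ⟨fun Z hZ => Groth.L07.QCons.locallyConstructible_preimage hf hd ho hZ,
      fun A hA B hB h => Groth.L07.QCons.eq_of_preimage hd (Groth.L07.QCons.IsLocallyConstructible.lqc hA)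
        (Groth.L07.QCons.IsLocallyConstructible.lqc hB) h,
      fun A hA => Groth.L07.QCons.exists_locallyConstructible hf hd ho hA⟩⟩
  obtain ⟨t, ht, he⟩ := Groth.L07.QCons.exists_lc ho A.2
  exact ⟨⟨t, ht⟩, Subtype.ext he⟩

end Groth.Agent.S4897
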