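import Groth.Prelude.Def_FlatMod2
import Groth.Prelude.Def_Coh
import Groth.Prelude.Def_CohB1
import Mathlib.AlgebraicGeometry.AffineTransitionLimit
import Mathlib.AlgebraicGeometry.Modules.Sheaf
import Mathlib.AlgebraicGeometry.Morphisms.FinitePresentation
import Mathlib.AlgebraicGeometry.Morphisms.QuasiSeparated
import Mathlib.CategoryTheory.Limits.Shapes.Pullback.IsPullback.Basic
import Groth.Agent.L02.InjFlat.LimitFlat
import Groth.Agent.S12442

set_option autoImplicit false
namespace EGA43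
end EGA43
universe u
open CategoryTheory AlgebraicGeometry
open EGA43

namespace Groth.Agent.S4900

/-- Let S be the limit of a cofiltered system (S_i) of schemes with affine transition morphisms, S_{i₀}
a quasi-compact stage, f₀ : X₀ ⟶ Y₀ an S_{i₀}-morphism between schemes of finite presentation over
S_{i₀}, F₀ a quasi-coherent O_{X₀}-module of finite presentation, f : X ⟶ Y and F the base changes
to S, and x a point of X. Then F is f-flat at x if and only if there are an index i over i₀ and base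
changes f_i : X_i ⟶ Y_i, F_i of f₀, F₀ to S_i (pullback squares, with the induced compatible
morphisms X ⟶ X_i, Y ⟶ Y_i) such that F_i is f_i-flat at the image x_i of x in X_i. -/
theorem result {I : Type u} [SmallCategory I] [IsCofiltered I]
    (D : I ⥤ Scheme.{u}) (c : Limits.Cone D) (hc : Limits.IsLimit c)
    [∀ (i j : I) (φ : i ⟶ j), IsAffineHom (D.map φ)] (i₀ : I) [CompactSpace (D.obj i₀)]
    {X₀ Y₀ : Scheme.{u}} (f₀ : X₀ ⟶ Y₀) (g₀ : Y₀ ⟶ D.obj i₀)
    [LocallyOfFinitePresentation g₀] [QuasiCompact g₀] [QuasiSeparated g₀]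
    [LocallyOfFinitePresentation (f₀ ≫ g₀)] [QuasiCompact (f₀ ≫ g₀)] [QuasiSeparated (f₀ ≫ g₀)]
    (F₀ : X₀.Modules) [Coh.IsQCoh F₀] (hF₀ : CohB1.IsFP F₀)
    {X Y : Scheme.{u}} (f : X ⟶ Y) (g : Y ⟶ c.pt) (qY : Y ⟶ Y₀) (qX : X ⟶ X₀)
    (hY : IsPullback qY g g₀ (c.π.app i₀)) (hX : IsPullback qX f f₀ qY) (x : X) :
    FlatMod.IsFlatOverAt f ((Scheme.Modules.pullback qX).obj F₀) x ↔
      ∃ (i : I) (φ : i ⟶ i₀) (Xi Yi : Scheme.{u}) (fi : Xi ⟶ Yi) (gi : Yi ⟶ D.obj i)
        (pY : Yi ⟶ Y₀) (pX : Xi ⟶ X₀) (vY : Y ⟶ Yi) (vX : X ⟶ Xi),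
        IsPullback pY gi g₀ (D.map φ) ∧ IsPullback pX fi f₀ pY ∧
          vY ≫ pY = qY ∧ vY ≫ gi = g ≫ c.π.app i ∧ vX ≫ pX = qX ∧ vX ≫ fi = f ≫ vY ∧
          FlatMod.IsFlatOverAt fi ((Scheme.Modules.pullback pX).obj F₀) (vX x) := by
  haveI : AlgebraicGeometry.LocallyOfFinitePresentation f₀ := Groth.Agent.S12442.result f₀ g₀
  constructor
  · intro h
    obtain ⟨k, hk⟩ := Groth.L02.InjFlat.exists_stage_flatAt D c hc f₀ g₀ hF₀ hY hX x h
    exact ⟨k.left, k.hom, _, _, CategoryTheory.Limits.pullback.snd f₀ (CategoryTheory.Limits.pullback.snd (D.map k.hom) g₀),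
      CategoryTheory.Limits.pullback.fst (D.map k.hom) g₀,
      CategoryTheory.Limits.pullback.snd (D.map k.hom) g₀,
      CategoryTheory.Limits.pullback.fst f₀ (CategoryTheory.Limits.pullback.snd (D.map k.hom) g₀),
      Groth.L02.InjFlat.stageMor D c g₀ hY k, _,
      (CategoryTheory.IsPullback.of_hasPullback (D.map k.hom) g₀).flip, CategoryTheory.IsPullback.of_hasPullback _ _,
      Groth.L02.InjFlat.stageMor_snd D c g₀ hY k, Groth.L02.InjFlat.stageMor_fst D c g₀ hY k,
      CategoryTheory.Limits.pullback.lift_fst _ _ _, CategoryTheory.Limits.pullback.lift_snd _ _ _, hk⟩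
  · rintro ⟨i, φ, Xi, Yi, fi, gi, pY, pX, vY, vX, hYi, hXi, h1, h2, h3, h4, hflat⟩
    have sq : CategoryTheory.IsPullback vX f fi vY :=
      CategoryTheory.IsPullback.of_right (by rw [h3, h1]; exact hX) h4 hXi
    haveI := Groth.L16.Devissage.isQCoh_cokernel (CategoryTheory.CategoryStruct.id F₀)
    have hZ := CategoryTheory.Limits.isZero_cokernel_of_epi (CategoryTheory.CategoryStruct.id F₀)
    let w : CategoryTheory.Limits.cokernel (CategoryTheory.CategoryStruct.id F₀) ⟶ F₀ := 0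
    haveI := Groth.L16.AffineBC.isQCoh_pullback pX (CategoryTheory.Limits.cokernel (CategoryTheory.CategoryStruct.id F₀))
    haveI := Groth.L16.AffineBC.isQCoh_pullback pX F₀
    exact (Groth.L02.InjFlat.cond_zero_iff f (Groth.L02.InjFlat.isZero_pullback qX hZ) _ x).mp
      ((Groth.L02.InjFlat.cond_pullback_comp vX pX qX h3 f w x).mp
        (Groth.L02.InjFlat.cond_baseChange sq ((AlgebraicGeometry.Scheme.Modules.pullback pX).map w) x
          ((Groth.L02.InjFlat.cond_zero_iff fi (Groth.L02.InjFlat.isZero_pullback pX hZ) _ _).mpr hflat)))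

end Groth.Agent.S4900
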