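import Groth.Prelude.Def_FlatMod2
import Groth.Prelude.Def_Coh
import Groth.Prelude.Def_CohB1
import Mathlib.AlgebraicGeometry.AffineTransitionLimit
import Mathlib.AlgebraicGeometry.Modules.Sheaf
import Mathlib.AlgebraicGeometry.Morphisms.FinitePresentation
import Mathlib.Algebra.Category.ModuleCat.Sheaf.Abelian
import Mathlib.CategoryTheory.Limits.Shapes.Pullback.IsPullback.Basic
import Groth.Agent.L02.InjFlat.Limit

set_option autoImplicit false
namespace EGA43
end EGA43
universe u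
open CategoryTheory AlgebraicGeometry
open EGA43

namespace Groth.Agent.S4901

open CategoryTheory.Limits in
/-- Let S be the limit of a cofiltered system (S_i) of schemes with affine transition morphisms, i₀ an
index, f₀ : X₀ ⟶ Y₀ a morphism locally of finite presentation of S_{i₀}-schemes, F₀ and G₀
quasi-coherent O_{X₀}-modules of finite presentation and h₀ : F₀ ⟶ G₀ a homomorphism; let f : X ⟶ Y
and h = q^*h₀ be the base changes to S and x a point of X. Then the stalk map h_x is injective and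
Coker h is f-flat at x if and only if there are an index i over i₀ and base changes f_i : X_i ⟶ Y_i,
h_i = p^*h₀ to S_i (pullback squares with the compatible morphisms X ⟶ X_i, Y ⟶ Y_i) such that
(h_i)_{x_i} is injective and Coker h_i is f_i-flat at the image x_i of x. -/
theorem result {I : Type u} [SmallCategory I] [IsCofiltered I]
    (D : I ⥤ Scheme.{u}) (c : Limits.Cone D) (hc : Limits.IsLimit c)
    [∀ (i j : I) (φ : i ⟶ j), IsAffineHom (D.map φ)] (i₀ : I)
    {X₀ Y₀ : Scheme.{u}} (f₀ : X₀ ⟶ Y₀) (g₀ : Y₀ ⟶ D.obj i₀) [LocallyOfFinitePresentation f₀]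
    (F₀ G₀ : X₀.Modules) [Coh.IsQCoh F₀] [Coh.IsQCoh G₀] (hF₀ : CohB1.IsFP F₀) (hG₀ : CohB1.IsFP G₀)
    (h₀ : F₀ ⟶ G₀)
    {X Y : Scheme.{u}} (f : X ⟶ Y) (g : Y ⟶ c.pt) (qY : Y ⟶ Y₀) (qX : X ⟶ X₀)
    (hY : IsPullback qY g g₀ (c.π.app i₀)) (hX : IsPullback qX f f₀ qY) (x : X) :
    (Function.Injective ((TopCat.Presheaf.stalkFunctor Ab x).map
        (Scheme.Modules.Hom.mapPresheaf ((Scheme.Modules.pullback qX).map h₀))) ∧
      FlatMod.IsFlatOverAt f (cokernel ((Scheme.Modules.pullback qX).map h₀)) x) ↔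
      ∃ (i : I) (φ : i ⟶ i₀) (Xi Yi : Scheme.{u}) (fi : Xi ⟶ Yi) (gi : Yi ⟶ D.obj i)
        (pY : Yi ⟶ Y₀) (pX : Xi ⟶ X₀) (vY : Y ⟶ Yi) (vX : X ⟶ Xi),
        IsPullback pY gi g₀ (D.map φ) ∧ IsPullback pX fi f₀ pY ∧
          vY ≫ pY = qY ∧ vY ≫ gi = g ≫ c.π.app i ∧ vX ≫ pX = qX ∧ vX ≫ fi = f ≫ vY ∧
          Function.Injective ((TopCat.Presheaf.stalkFunctor Ab (vX x)).map
            (Scheme.Modules.Hom.mapPresheaf ((Scheme.Modules.pullback pX).map h₀))) ∧
          FlatMod.IsFlatOverAt fi (cokernel ((Scheme.Modules.pullback pX).map h₀)) (vX x) := by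
  constructor
  · intro h
    obtain ⟨k, hk⟩ := Groth.L02.InjFlat.exists_stage_cond D c hc f₀ g₀ hF₀ hG₀ h₀ hY hX x h
    exact ⟨k.left, k.hom, _, _, pullback.snd f₀ (pullback.snd (D.map k.hom) g₀), pullback.fst (D.map k.hom) g₀,
      pullback.snd (D.map k.hom) g₀, pullback.fst f₀ (pullback.snd (D.map k.hom) g₀),
      Groth.L02.InjFlat.stageMor D c g₀ hY k, _,
      (CategoryTheory.IsPullback.of_hasPullback (D.map k.hom) g₀).flip, CategoryTheory.IsPullback.of_hasPullback _ _,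
      Groth.L02.InjFlat.stageMor_snd D c g₀ hY k, Groth.L02.InjFlat.stageMor_fst D c g₀ hY k,
      pullback.lift_fst _ _ _, pullback.lift_snd _ _ _, hk⟩
  · rintro ⟨i, φ, Xi, Yi, fi, gi, pY, pX, vY, vX, hYi, hXi, h1, h2, h3, h4, hinj, hflat⟩
    have sq : CategoryTheory.IsPullback vX f fi vY :=
      CategoryTheory.IsPullback.of_right (by rw [h3, h1]; exact hX) h4 hXi
    haveI := Groth.L16.AffineBC.isQCoh_pullback pX F₀
    haveI := Groth.L16.AffineBC.isQCoh_pullback pX G₀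
    exact (Groth.L02.InjFlat.cond_pullback_comp vX pX qX h3 f h₀ x).mp
      (Groth.L02.InjFlat.cond_baseChange sq ((AlgebraicGeometry.Scheme.Modules.pullback pX).map h₀) x ⟨hinj, hflat⟩)

end Groth.Agent.S4901
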