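import Groth.Statements.S4903
import Groth.Agent.L07.QCons

set_option autoImplicit false
set_option linter.style.haveILetI false
universe u
open EGA43

namespace Groth.Agent.S4903

/-- Conditions a), b), b′), c″), c‴) and its last assertion: given a topological space X and a subset X₀
⊆ X, the statements below are equivalent. Every locally closed subset of X that is nonempty
intersects X₀. Every nonempty locally quasi-constructible subset of X intersects X₀; here a subset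
is locally quasi-constructible when each point of X has an open neighbourhood on which the subset's
trace can be written as a union of finitely many locally closed sets. Each locally
quasi-constructible Z ⊆ X is contained in the closure of Z ∩ X₀. Any two quasi-constructible subsets
of X (unions of finitely many locally closed sets) having equal traces on X₀ coincide. Any two
locally quasi-constructible subsets of X having equal traces on X₀ coincide. Assuming these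
conditions, each locally quasi-constructible subset of the subspace X₀ arises as the trace on X₀ of
some locally quasi-constructible subset of X. -/
theorem result {X : Type u} [TopologicalSpace X] (X₀ : Set X) :
    [∀ Z : Set X, IsLocallyClosed Z → Z.Nonempty → (Z ∩ X₀).Nonempty,
      ∀ Z : Set X, (∀ x : X, ∃ U : Set X, IsOpen U ∧ x ∈ U ∧ ∃ T : Set (Set X), T.Finite ∧ (∀ t ∈ T, IsLocallyClosed t) ∧ U ∩ Z = ⋃₀ T) → Z.Nonempty → (Z ∩ X₀).Nonempty,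
      ∀ Z : Set X, (∀ x : X, ∃ U : Set X, IsOpen U ∧ x ∈ U ∧ ∃ T : Set (Set X), T.Finite ∧ (∀ t ∈ T, IsLocallyClosed t) ∧ U ∩ Z = ⋃₀ T) → Z ⊆ closure (Z ∩ X₀),
      ∀ Z Z' : Set X, (∃ T : Set (Set X), T.Finite ∧ (∀ t ∈ T, IsLocallyClosed t) ∧ Z = ⋃₀ T) → (∃ T : Set (Set X), T.Finite ∧ (∀ t ∈ T, IsLocallyClosed t) ∧ Z' = ⋃₀ T) → Z ∩ X₀ = Z' ∩ X₀ → Z = Z',
      ∀ Z Z' : Set X, (∀ x : X, ∃ U : Set X, IsOpen U ∧ x ∈ U ∧ ∃ T : Set (Set X), T.Finite ∧ (∀ t ∈ T, IsLocallyClosed t) ∧ U ∩ Z = ⋃₀ T) → (∀ x : X, ∃ U : Set X, IsOpen U ∧ x ∈ U ∧ ∃ T : Set (Set X), T.Finite ∧ (∀ t ∈ T, IsLocallyClosed t) ∧ U ∩ Z' = ⋃₀ T) → Z ∩ X₀ = Z' ∩ X₀ → Z = Z'].TFAE ∧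
    ((∀ Z : Set X, IsLocallyClosed Z → Z.Nonempty → (Z ∩ X₀).Nonempty) →
      ∀ Z₀ : Set ↥X₀, (∀ x : ↥X₀, ∃ U : Set ↥X₀, IsOpen U ∧ x ∈ U ∧ ∃ T : Set (Set ↥X₀), T.Finite ∧ (∀ t ∈ T, IsLocallyClosed t) ∧ U ∩ Z₀ = ⋃₀ T) →
        ∃ Z : Set X, (∀ x : X, ∃ U : Set X, IsOpen U ∧ x ∈ U ∧ ∃ T : Set (Set X), T.Finite ∧ (∀ t ∈ T, IsLocallyClosed t) ∧ U ∩ Z = ⋃₀ T) ∧ Subtype.val ⁻¹' Z = Z₀) := by
  have dense : (∀ Z : Set X, IsLocallyClosed Z → Z.Nonempty → (Z ∩ X₀).Nonempty) →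
      ∀ t : Set X, IsLocallyClosed t → t.Nonempty → ∃ x : ↥X₀, (x : X) ∈ t :=
    fun h t ht hne => let ⟨p, hp, hp0⟩ := h t ht hne; ⟨⟨p, hp0⟩, hp⟩
  refine ⟨?_, fun h Z₀ hZ₀ => Groth.L07.QCons.exists_lqc (f := (Subtype.val : ↥X₀ → X)) (dense h)
    (fun O hO => isOpen_induced_iff.mp hO) hZ₀⟩
  tfae_have 1 → 2 := by
    intro h Z hZ ⟨y, hy⟩
    obtain ⟨U, -, hyU, T, -, hTl, hT⟩ := hZ y
    obtain ⟨t, ht, hyt⟩ := hT.subset ⟨hyU, hy⟩
    obtain ⟨p, hp, hp0⟩ := h t (hTl t ht) ⟨y, hyt⟩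
    exact ⟨p, (hT.ge ⟨t, ht, hp⟩).2, hp0⟩
  tfae_have 2 → 3 := by
    intro h Z hZ z hz
    by_contra hn
    have hN : IsOpen (closure (Z ∩ X₀))ᶜ := isClosed_closure.isOpen_compl
    obtain ⟨p, ⟨hp1, hp2⟩, hp0⟩ := h (Z ∩ (closure (Z ∩ X₀))ᶜ) (fun x => by
      obtain ⟨U, hU, hx, hT⟩ := hZ x
      refine ⟨U, hU, hx, ?_⟩
      rw [← Set.inter_assoc]
      exact Groth.L07.QCons.QC.inter hT (Groth.L07.QCons.qc_of_open hN)) ⟨z, hz, hn⟩
    exact hp2 (subset_closure ⟨hp1, hp0⟩)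
  tfae_have 3 → 1 := by
    intro h Z hZ ⟨y, hy⟩
    by_contra hn
    have := h Z (Groth.L07.QCons.qc_of_lc hZ).lqc hy
    rw [Set.not_nonempty_iff_eq_empty.mp hn, closure_empty] at this
    exact this
  tfae_have 1 → 5 := by
    intro h Z Z' hZ hZ' he
    refine Groth.L07.QCons.eq_of_preimage (f := (Subtype.val : ↥X₀ → X)) (dense h) hZ hZ' ?_
    ext x
    exact ⟨fun hx => ((Set.ext_iff.mp he x.1).mp ⟨hx, x.2⟩).1, fun hx => ((Set.ext_iff.mp he x.1).mpr ⟨hx, x.2⟩).1⟩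
  tfae_have 5 → 4 := by
    intro h Z Z' hZ hZ'
    exact h Z Z' (Groth.L07.QCons.QC.lqc hZ) (Groth.L07.QCons.QC.lqc hZ')
  tfae_have 4 → 1 := by
    intro h Z hZ ⟨y, hy⟩
    by_contra hn
    have := h Z ∅ (Groth.L07.QCons.qc_of_lc hZ)
      ⟨∅, Set.finite_empty, fun t ht => ht.elim, Set.sUnion_empty.symm⟩
      (by rw [Set.not_nonempty_iff_eq_empty.mp hn, Set.empty_inter])
    exact (this ▸ hy : y ∈ (∅ : Set X))
  tfae_finish

end Groth.Agent.S4903
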