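import Groth.Statements.S4904
import Groth.Agent.L00.QuasiHomeo
-- import your own Groth.Agent.* helpers here

set_option autoImplicit false
universe u
open EGA43

namespace Groth.Agent.S4904

/-- Let f : X → Y be a quasi-homeomorphism (U ↦ f⁻¹(U) is a bijection on open subsets) and Y' a locally
quasi-constructible subset of Y, X' = f⁻¹(Y'). Then Y' is retrocompact in Y, i.e. Y' ∩ U is
quasi-compact for every quasi-compact open subset U of Y, if and only if X' is retrocompact in X. -/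
theorem result {X Y : Type u} [TopologicalSpace X]
    [TopologicalSpace Y] (f : X → Y) (hf : Continuous f)
    (hq : Function.Bijective (fun U : TopologicalSpace.Opens Y =>
      (⟨f ⁻¹' (U : Set Y), U.isOpen.preimage hf⟩ : TopologicalSpace.Opens X)))
    (Y' : Set Y)
    (hY' : ∀ y : Y, ∃ U : Set Y, IsOpen U ∧ y ∈ U ∧
      ∃ T : Set (Set Y), T.Finite ∧ (∀ t ∈ T, IsLocallyClosed t) ∧ U ∩ Y' = ⋃₀ T) :
    (∀ U : Set Y, IsOpen U → IsCompact U → IsCompact (U ∩ Y')) ↔
      (∀ V : Set X, IsOpen V → IsCompact V → IsCompact (V ∩ f ⁻¹' Y')) := by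
  have huniv : ∀ y : Y, ∃ U : Set Y, IsOpen U ∧ y ∈ U ∧
      ∃ T : Set (Set Y), T.Finite ∧ (∀ t ∈ T, IsLocallyClosed t) ∧ U ∩ Set.univ = ⋃₀ T := fun y =>
    ⟨Set.univ, isOpen_univ, trivial, {Set.univ}, Set.finite_singleton _, by
      rintro t rfl; exact isClosed_univ.isLocallyClosed, by simp⟩
  have hU : ∀ U : Set Y, IsOpen U → (IsCompact U ↔ IsCompact (f ⁻¹' U)) := fun U hU => by
    simpa using Groth.L00.QuasiHomeo.isCompact_trace_iff hf hq huniv hU
  constructor
  · intro h V hV hVc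
    obtain ⟨U, hU'⟩ := hq.2 ⟨V, hV⟩
    have e : f ⁻¹' (U : Set Y) = V := congrArg SetLike.coe hU'
    rw [← e, Set.inter_comm]
    refine (Groth.L00.QuasiHomeo.isCompact_trace_iff hf hq hY' U.2).1 ?_
    rw [Set.inter_comm]
    exact h U U.2 ((hU U U.2).2 (e ▸ hVc))
  · intro h U hUo hUc
    rw [Set.inter_comm]
    refine (Groth.L00.QuasiHomeo.isCompact_trace_iff hf hq hY' hUo).2 ?_
    rw [Set.inter_comm]
    exact h _ (hUo.preimage hf) ((hU U hUo).1 hUc)

end Groth.Agent.S4904
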