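import Groth.Statements.S4909
import Groth.Agent.L07.ModSep.Scheme

set_option autoImplicit false
set_option linter.style.haveILetI false
set_option maxSynthPendingDepth 3
set_option backward.isDefEq.respectTransparency.types false
set_option backward.isDefEq.respectTransparency false
universe u
open CategoryTheory AlgebraicGeometry
open EGA43

namespace Groth.Agent.S4909

/-- Case Z_λ = X: let X be a scheme, u_i : F ⟶ G_i a separating family of homomorphisms of
quasi-coherent O_X-modules (a section of F over an open subset killed by every u_i is zero) and g :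
X' ⟶ X a flat morphism locally of finite presentation. Then the family (g^*u_i : g^*F ⟶ g^*G_i) is
separating. (The published statement allows homomorphisms into direct images (f_λ)_*G_λ; this row is
the case Z_λ = X, to which the general case reduces.) -/
theorem result {X X' : Scheme.{u}} (F : X.Modules) [Coh.IsQCoh F] {ι : Type u}
    (G : ι → X.Modules) [∀ i, Coh.IsQCoh (G i)] (u : ∀ i, F ⟶ G i) (g : X' ⟶ X) [Flat g] [LocallyOfFinitePresentation g]
    (h : (∀ (V : (X).Opens) (t : ↑((F).presheaf.obj (Opposite.op V))), (∀ i, (Scheme.Modules.Hom.mapPresheaf (u i)).app (Opposite.op V) t = 0) → t = 0)) :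
    (∀ (V : (X').Opens) (t : ↑(((Scheme.Modules.pullback g).obj F).presheaf.obj (Opposite.op V))), (∀ i, (Scheme.Modules.Hom.mapPresheaf ((Scheme.Modules.pullback g).map (u i))).app (Opposite.op V) t = 0) → t = 0) := by
  haveI : Coh.IsQCoh ((Scheme.Modules.pullback g).obj F) := Groth.L16.AffineBC.isQCoh_pullback g F
  haveI : ∀ i, Coh.IsQCoh ((Scheme.Modules.pullback g).obj (G i)) :=
    fun i => Groth.L16.AffineBC.isQCoh_pullback g (G i)
  refine Groth.L07.ModSep.msep_of_affine (fun i => (Scheme.Modules.pullback g).map (u i)) fun x => ?_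
  obtain ⟨_, ⟨V, hV, rfl⟩, hxV, -⟩ :=
    X.isBasis_affineOpens.exists_subset_of_mem_open (Set.mem_univ (g x)) isOpen_univ
  obtain ⟨_, ⟨U, hU, rfl⟩, hxU, hUV⟩ :=
    X'.isBasis_affineOpens.exists_subset_of_mem_open (a := x) (show x ∈ g ⁻¹ᵁ V from hxV) (g ⁻¹ᵁ V).2
  refine ⟨U, hU, hxU, ?_⟩
  letI := (g.appLE V U hUV).hom.toAlgebra
  haveI : Algebra.FinitePresentation Γ(X, V) Γ(X', U) := g.finitePresentation_appLE hV hU hUV
  haveI : Module.Flat Γ(X, V) Γ(X', U) := g.flat_appLE hV hU hUV
  exact (Groth.L07.ModSep.locMSep_pullback_iff g F u hV hU hUV Γ(X', U) AlgEquiv.refl).mp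
    ((Groth.L07.ModSep.MSep.locMSep h hV).baseChange Γ(X', U))

end Groth.Agent.S4909
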