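import Groth.Statements.S4910
import Groth.Agent.L07.ModSep.Spec

set_option autoImplicit false
set_option linter.style.haveILetI false
set_option maxSynthPendingDepth 3
set_option backward.isDefEq.respectTransparency.types false
set_option backward.isDefEq.respectTransparency false
universe u
open CategoryTheory AlgebraicGeometry
open EGA43

namespace Groth.Agent.S4910

open CategoryTheory.Limits in
/-- Case Z_λ = X: let p : X ⟶ S be a morphism with X locally Noetherian, F a coherent O_X-module, (G_i)
a family of quasi-coherent O_X-modules flat over S and u_i : F ⟶ G_i homomorphisms. Then the family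
(u_i) is universally separating relative to S — for every base change S' ⟶ S the pulled-back family
on X ×_S S' is separating (a section of the pulled-back F over an open subset killed by every member
is zero) — if and only if, for every point s of S, the family pulled back to the fibre X_s is
separating. (The published statement allows homomorphisms into direct images (f_λ)_*G_λ with the G_λ
flat over S; this row is the case Z_λ = X.) -/
theorem result {X S : Scheme.{u}} [IsLocallyNoetherian X]
    (p : X ⟶ S) (F : X.Modules) (hF : Coh.IsCoh F) {ι : Type u} (G : ι → X.Modules) [∀ i, Coh.IsQCoh (G i)]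
    (hG : ∀ i, FlatMod.IsFlatOver p (G i)) (u : ∀ i, F ⟶ G i) :
    (∀ (S' : Scheme.{u}) (g : S' ⟶ S),
      (∀ (V : (pullback p g).Opens) (t : ↑(((Scheme.Modules.pullback (pullback.fst p g)).obj F).presheaf.obj (Opposite.op V))), (∀ i, (Scheme.Modules.Hom.mapPresheaf ((Scheme.Modules.pullback (pullback.fst p g)).map (u i))).app (Opposite.op V) t = 0) → t = 0)) ↔
    ∀ s : S, (∀ (V : (p.fiber s).Opens) (t : ↑(((Scheme.Modules.pullback (p.fiberι s)).obj F).presheaf.obj (Opposite.op V))), (∀ i, (Scheme.Modules.Hom.mapPresheaf ((Scheme.Modules.pullback (p.fiberι s)).map (u i))).app (Opposite.op V) t = 0) → t = 0) := by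
  constructor
  · intro h s
    exact h _ (S.fromSpecResidueField s)
  · intro h S' g
    haveI : Coh.IsQCoh F := hF.1
    haveI : Coh.IsQCoh ((Scheme.Modules.pullback (pullback.fst p g)).obj F) :=
      Groth.L16.AffineBC.isQCoh_pullback _ F
    haveI : ∀ i, Coh.IsQCoh ((Scheme.Modules.pullback (pullback.fst p g)).obj (G i)) :=
      fun i => Groth.L16.AffineBC.isQCoh_pullback _ (G i)
    refine Groth.L07.ModSep.msep_of_affine (fun i => (Scheme.Modules.pullback (pullback.fst p g)).map (u i))
      fun x => ?_
    obtain ⟨W, V, W', U, eV, eW, eU, eU', hW, hV, hW', hU, hxU, hp⟩ :=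
      Groth.L20.ModStalk.exists_affine_square (IsPullback.of_hasPullback p g) x
    letI := (g.appLE W W' eW).hom.toAlgebra
    exact ⟨U, hU, hxU, (Groth.L07.ModSep.locMSep_square_iff u hV hU hp).mp
      (Groth.L07.ModSep.locMSep_square_of_fibres p hF hG u h hW hV eV Γ(S', W'))⟩

end Groth.Agent.S4910
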