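import Groth.Statements.S4911
import Groth.Agent.L07.ModSep.Scheme

set_option autoImplicit false
set_option linter.style.haveILetI false
set_option maxSynthPendingDepth 3
set_option backward.isDefEq.respectTransparency.types false
set_option backward.isDefEq.respectTransparency false
universe u
open CategoryTheory AlgebraicGeometry
open EGA43

namespace Groth.Agent.S4911

open CategoryTheory.Limits in
/-- Case Z_λ = X: let k be a field, X a k-scheme, u_i : F ⟶ G_i a separating family of homomorphisms of
quasi-coherent O_X-modules (a section of F over an open subset killed by every u_i is zero) and S'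
an arbitrary k-scheme. Then the family pulled back to X ×_k S' is separating. (The published
statement allows homomorphisms into direct images (f_λ)_*G_λ; this row is the case Z_λ = X.) -/
theorem result {k : Type u} [Field k] {X S' : Scheme.{u}}
    (p : X ⟶ Spec (CommRingCat.of k)) (q : S' ⟶ Spec (CommRingCat.of k))
    (F : X.Modules) [Coh.IsQCoh F] {ι : Type u} (G : ι → X.Modules) [∀ i, Coh.IsQCoh (G i)] (u : ∀ i, F ⟶ G i)
    (h : (∀ (V : (X).Opens) (t : ↑((F).presheaf.obj (Opposite.op V))), (∀ i, (Scheme.Modules.Hom.mapPresheaf (u i)).app (Opposite.op V) t = 0) → t = 0)) :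
    (∀ (V : (pullback p q).Opens) (t : ↑(((Scheme.Modules.pullback (pullback.fst p q)).obj F).presheaf.obj (Opposite.op V))), (∀ i, (Scheme.Modules.Hom.mapPresheaf ((Scheme.Modules.pullback (pullback.fst p q)).map (u i))).app (Opposite.op V) t = 0) → t = 0) := by
  haveI : Coh.IsQCoh ((Scheme.Modules.pullback (pullback.fst p q)).obj F) :=
    Groth.L16.AffineBC.isQCoh_pullback _ F
  haveI : ∀ i, Coh.IsQCoh ((Scheme.Modules.pullback (pullback.fst p q)).obj (G i)) :=
    fun i => Groth.L16.AffineBC.isQCoh_pullback _ (G i)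
  refine Groth.L07.ModSep.msep_of_affine (fun i => (Scheme.Modules.pullback (pullback.fst p q)).map (u i)) fun x => ?_
  obtain ⟨W, V, W', U, eV, eW, eU, eU', hW, hV, hW', hU, hxU, hp⟩ :=
    Groth.L20.ModStalk.exists_affine_square (IsPullback.of_hasPullback p q) x
  obtain rfl : W = ⊤ := by
    ext y
    refine ⟨fun _ => trivial, fun _ => ?_⟩
    have h1 : p (pullback.fst p q x) ∈ W := eV (eU hxU)
    rwa [Subsingleton.elim y (p (pullback.fst p q x))]
  letI : Field Γ(Spec (CommRingCat.of k), ⊤) :=
    (MulEquiv.isField (Field.toIsField k) (Scheme.ΓSpecIso (CommRingCat.of k)).commRingCatIsoToRingEquiv.toMulEquiv).toField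
  letI := (p.appLE ⊤ V eV).hom.toAlgebra
  letI := (q.appLE ⊤ W' eW).hom.toAlgebra
  letI : Module Γ(Spec (CommRingCat.of k), ⊤) Γ(F, V) := Module.compHom _ (p.appLE ⊤ V eV).hom
  haveI : IsScalarTower Γ(Spec (CommRingCat.of k), ⊤) Γ(X, V) Γ(F, V) :=
    IsScalarTower.of_algebraMap_smul fun _ _ => rfl
  letI : ∀ i, Module Γ(Spec (CommRingCat.of k), ⊤) Γ(G i, V) := fun i => Module.compHom _ (p.appLE ⊤ V eV).hom
  haveI : ∀ i, IsScalarTower Γ(Spec (CommRingCat.of k), ⊤) Γ(X, V) Γ(G i, V) := fun i =>
    IsScalarTower.of_algebraMap_smul fun _ _ => rfl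
  exact ⟨U, hU, hxU, (Groth.L07.ModSep.locMSep_square_iff u hV hU hp).mp
    ((Groth.L07.ModSep.MSep.locMSep h hV).baseChange_field _)⟩

end Groth.Agent.S4911
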