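import Groth.Statements.S4914
-- import your own Groth.Agent.* helpers here

set_option autoImplicit false
open CategoryTheory AlgebraicGeometry
universe u v w
open EGA43

namespace Groth.Agent.S4914

/-- Let ψ : X → Y be a continuous map, x a point of X, and (Y_i) a locally finite covering of Y by
closed subsets. If for every index i with ψ x ∈ Y_i the restriction ψ⁻¹(Y_i) → Y_i of ψ is open at
x, then ψ is open at x. -/
theorem result {α : Type u} {β : Type v} {ι : Type w} [TopologicalSpace α]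
    [TopologicalSpace β] (ψ : α → β) (hψ : Continuous ψ) (x : α) (Y : ι → Set β) (hY : LocallyFinite Y)
    (hcl : ∀ i, IsClosed (Y i)) (hcov : ⋃ i, Y i = Set.univ)
    (h : ∀ i, ∀ hi : ψ x ∈ Y i, EGA43.IsOpenAt ((Y i).restrictPreimage ψ) ⟨x, hi⟩) :
    EGA43.IsOpenAt ψ x := by
  classical
  intro U hU
  have hfin := hY.point_finite (ψ x)
  have key : ∀ i ∈ {i | ψ x ∈ Y i}, ∃ O, IsOpen O ∧ ψ x ∈ O ∧ O ∩ Y i ⊆ ψ '' U := by
    intro i hi
    have h1 := h i hi (Subtype.val ⁻¹' U) (continuous_subtype_val.continuousAt.preimage_mem_nhds hU)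
    obtain ⟨O, hO, hOi⟩ := (mem_nhds_subtype _ _ _).mp h1
    obtain ⟨O', hO's, hO'o, hxO⟩ := mem_nhds_iff.mp hO
    refine ⟨O', hO'o, hxO, fun y hy => ?_⟩
    obtain ⟨⟨z, hz⟩, hzU, e⟩ := hOi (show (⟨y, hy.2⟩ : ↥(Y i)) ∈ Subtype.val ⁻¹' O from hO's hy.1)
    exact ⟨z, hzU, congrArg Subtype.val e⟩
  choose O hOo hxO hOs using key
  refine Filter.mem_of_superset (Filter.inter_mem
    ((Filter.biInter_mem hfin).mpr fun i hi => Filter.mem_of_superset ((hOo i hi).mem_nhds (hxO i hi)) (fun y hy => show y ∈ (if hi' : ψ x ∈ Y i then O i hi' else Set.univ) by rw [dif_pos (show ψ x ∈ Y i from hi)]; exact hy))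
    (hY.iInter_compl_mem_nhds hcl (ψ x))) ?_
  intro y hy
  obtain ⟨i, hiy⟩ := Set.mem_iUnion.mp (hcov.symm ▸ Set.mem_univ y)
  have hi : ψ x ∈ Y i := by
    by_contra hn
    exact Set.mem_iInter₂.mp hy.2 i hn hiy
  have h1 := Set.mem_iInter₂.mp hy.1 i hi
  rw [dif_pos (show ψ x ∈ Y i from hi)] at h1
  exact hOs i hi ⟨h1, hiy⟩

end Groth.Agent.S4914
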