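import Groth.Statements.S4916
-- import your own Groth.Agent.* helpers here

set_option autoImplicit false
open CategoryTheory AlgebraicGeometry
universe u v w
open EGA43

namespace Groth.Agent.S4916

/-- Let ψ : X → Y be a continuous map of topological spaces and y a point of Y. The set of points x of
the fibre ψ⁻¹(y) at which ψ is open is a closed subset of ψ⁻¹(y). -/
theorem result {α : Type u} {β : Type v} [TopologicalSpace α] [TopologicalSpace β]
    (ψ : α → β) (hψ : Continuous ψ) (y : β) :
    IsClosed {x : ↥(ψ ⁻¹' {y}) | EGA43.IsOpenAt ψ x.1} := by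
  rw [← closure_subset_iff_isClosed]
  intro x hx U hU
  obtain ⟨O, hOU, hO, hxO⟩ := mem_nhds_iff.1 hU
  obtain ⟨z, hzO, hz⟩ := mem_closure_iff.1 hx (Subtype.val ⁻¹' O) (hO.preimage continuous_subtype_val) hxO
  have h := hz O (hO.mem_nhds hzO)
  rw [show ψ z.1 = ψ x.1 from (show ψ z.1 = y from z.2).trans (show ψ x.1 = y from x.2).symm] at h
  exact Filter.mem_of_superset h (Set.image_mono hOU)

end Groth.Agent.S4916
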