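import Groth.Statements.S4917
import Groth.Agent.L06.OpenAtComponents

set_option autoImplicit false
set_option maxSynthPendingDepth 3
set_option linter.style.haveILetI false
open CategoryTheory AlgebraicGeometry
universe u v w
open EGA43

namespace Groth.Agent.S4917

/-- Assume Y is a locally Noetherian scheme and X is an irreducible scheme, and consider a dominant
morphism f : X ⟶ Y that is locally of finite type. Fix a point x of X and write y = f x. If, for
every irreducible component of the fibre X_y that contains x, the morphism f is open at the generic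
point of that component, then f is equidimensional at x. -/
theorem result {X Y : Scheme.{u}} [IsLocallyNoetherian Y]
    [IrreducibleSpace X] (f : X ⟶ Y) [LocallyOfFiniteType f] [IsDominant f] (x : X)
    (h : ∀ z : ↥(f.fiber (f.base x)), f.asFiber x ∈ closure {z} →
      (∀ z' : ↥(f.fiber (f.base x)), z ∈ closure {z'} → z' = z) →
      EGA43.IsOpenAt f.base ((f.fiberι (f.base x)).base z)) :
    EGA43.IsEquidimAt f x := by
  haveI : IsLocallyNoetherian X := LocallyOfFiniteType.isLocallyNoetherian f
  haveI : IrreducibleSpace Y := by
    have h1 := (IsIrreducible.image (IrreducibleSpace.isIrreducible_univ X) f.base f.continuous.continuousOn).closure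
    rw [Set.image_univ, f.denseRange.closure_range] at h1
    haveI : PreirreducibleSpace Y := ⟨h1.2⟩
    haveI : Nonempty Y := ⟨f x⟩
    exact ⟨inferInstance⟩
  obtain ⟨e, he⟩ := Groth.L07.OpenEquiv.exists_nat_fibreDimAt f x
  refine Groth.L07.DimToolkit.isEquidimAt_of_components f x e he.le fun ξ hξx hξ => ?_
  obtain rfl : genericPoint X = ξ := hξ _ ((genericPoint_spec X).specializes trivial)
  obtain ⟨hη, -⟩ := Groth.L07.DimToolkit.generic_data f
  refine ⟨fun η hη' => (hη'.antisymm (hη ▸ (genericPoint_spec Y).specializes trivial)).eq, ?_⟩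
  obtain ⟨z, hzx, hfz, hzmax, hzd⟩ := Groth.L07.OpenEquiv.exists_maximal_fdim_eq f x
  obtain ⟨c, hc⟩ : z ∈ Set.range (f.fiberι (f.base x)) := by rw [f.range_fiberι]; exact hfz
  have hopen : EGA43.IsOpenAt f.base z := by
    rw [← hc]
    refine h c ?_ fun c' hcc' => (f.fiberι (f.base x)).isEmbedding.injective ?_
    · refine specializes_iff_mem_closure.mp ((f.fiberι (f.base x)).isEmbedding.isInducing.specializes_iff.mp ?_)
      rw [hc, f.fiberι_asFiber]; exact hzx
    · refine (hzmax _ ((Groth.L07.Equidim.apply_fiberι f _ c').trans hfz.symm) ?_).trans hc.symm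
      rw [← hc]
      exact (specializes_iff_mem_closure.mpr hcc').map (f.fiberι (f.base x)).continuous
  obtain ⟨ζ, -, hζmax, -, hζd⟩ := Groth.L07.OpenEquiv.exists_component f z hzmax (η := genericPoint Y)
    (fun U hU => Groth.L07.OpenFibreDim.le_dim_fibre_of_isOpenAt f z hzmax hopen U hU
      ((genericPoint_spec Y).specializes trivial))
    (fun η' hη' => (hη'.antisymm ((genericPoint_spec Y).specializes trivial)).eq)
  obtain rfl : genericPoint X = ζ := hζmax _ ((genericPoint_spec X).specializes trivial)
  rw [hζd, ← Groth.L07.OpenFibreDim.fdim_eq_fibreDimAt f z hzmax, hzd, he]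

end Groth.Agent.S4917
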