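import Groth.Statements.S4919
import Groth.Agent.L06.OpenAtComponents

set_option autoImplicit false
set_option maxSynthPendingDepth 3
set_option linter.style.haveILetI false
open CategoryTheory AlgebraicGeometry
universe u v w
open EGA43

namespace Groth.Agent.S4919

/-- Let Y be an irreducible locally Noetherian scheme with generic point η, f : X ⟶ Y a morphism locally
of finite type, y a point of Y and Z an irreducible component of the fibre f⁻¹(y) (a maximal
irreducible subset of f⁻¹(y), with the topology induced from X) such that f is open at the generic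
point ζ of Z. Then there is an irreducible component X' of X containing Z and dominating Y such that
the local dimension of X' ∩ f⁻¹(y) at ζ equals dim Z, and dim Z = dim (X' ∩ f⁻¹(η)). (The published
statement writes the middle term as the dimension of the whole of X' ∩ f⁻¹(y); its proof yields only
the local dimension at the generic point of Z, and the global equality can fail: for the
endomorphism (a, b) ↦ (ab, b² − b) of the affine plane over a field, the fibre over the origin is
the line b = 0 together with the isolated point (0, 1), at which the map is étale, hence open; with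
Z that point, X' is the whole plane, X' ∩ f⁻¹(y) has dimension 1 and dim Z = 0. So the local form is
stated here.) -/
theorem result {X Y : Scheme.{u}} [IrreducibleSpace Y]
    [IsLocallyNoetherian Y] (f : X ⟶ Y) [LocallyOfFiniteType f] (y : Y) (Z : Set X)
    (hZy : Z ⊆ f.base ⁻¹' {y}) (hZ : IsIrreducible Z)
    (hZmax : ∀ Z' : Set X, IsIrreducible Z' → Z' ⊆ f.base ⁻¹' {y} → Z ⊆ Z' → Z' = Z)
    (hopen : ∀ ζ ∈ Z, Z ⊆ closure {ζ} → EGA43.IsOpenAt f.base ζ) :
    ∃ X' ∈ irreducibleComponents (X : Type u), Z ⊆ X' ∧ Dense (f.base '' X') ∧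
      (∀ ζ ∈ Z, Z ⊆ closure {ζ} → ∀ hζ : ζ ∈ X' ∩ f.base ⁻¹' {y},
        FlatMor.localDim ↥(X' ∩ f.base ⁻¹' {y}) ⟨ζ, hζ⟩ = topologicalKrullDim ↥Z) ∧
      topologicalKrullDim ↥Z = topologicalKrullDim ↥(X' ∩ f.base ⁻¹' {genericPoint Y}) := by
  let C : Set ↥(f.fiber y) := f.fiberι y ⁻¹' Z
  have he := (f.fiberι y).isEmbedding
  have hsub : Z ⊆ Set.range (f.fiberι y) := by rw [f.range_fiberι]; exact hZy
  have himg : f.fiberι y '' C = Z := Set.image_preimage_eq_of_subset hsub
  have hCi : IsIrreducible C := by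
    refine ⟨?_, fun a b ha hb ⟨p, hp, hpa⟩ ⟨q, hq, hqb⟩ => ?_⟩
    · obtain ⟨p, hp⟩ := hZ.nonempty
      obtain ⟨q, rfl⟩ := hsub hp
      exact ⟨q, hp⟩
    · obtain ⟨a', ha', rfl⟩ := he.isInducing.isOpen_iff.mp ha
      obtain ⟨b', hb', rfl⟩ := he.isInducing.isOpen_iff.mp hb
      obtain ⟨r, hr, hrab⟩ := hZ.2 a' b' ha' hb' ⟨_, hp, hpa⟩ ⟨_, hq, hqb⟩
      obtain ⟨w, rfl⟩ := hsub hr
      exact ⟨w, hr, hrab⟩
  have hC : C ∈ irreducibleComponents ↥(f.fiber y) := ⟨hCi, fun C' hC' hle => by
    have h2 := hZmax (f.fiberι y '' C') (hC'.image _ (f.fiberι y).continuous.continuousOn)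
      (by rintro _ ⟨q, -, rfl⟩; exact Groth.L07.Equidim.apply_fiberι f y q) (himg ▸ Set.image_mono hle)
    exact fun q hq => show f.fiberι y q ∈ Z from h2 ▸ ⟨q, hq, rfl⟩⟩
  obtain ⟨c, hc, hcmax⟩ := Groth.L07.Equidim.exists_generic_of_component f y hC
  let z := f.fiberι y c
  have hfz : f z = y := Groth.L07.Equidim.apply_fiberι f y c
  have hzZ : z ∈ Z := show c ∈ C from hc ▸ subset_closure rfl
  have hZz : Z ⊆ closure {z} := by
    intro p hp
    obtain ⟨q, rfl⟩ := hsub hp
    have h1 : q ∈ closure ({c} : Set _) := hc.symm ▸ (show q ∈ C from hp)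
    exact specializes_iff_mem_closure.mp ((specializes_iff_mem_closure.mpr h1).map (f.fiberι y).continuous)
  have hmax : ∀ z', f z' = f z → z' ⤳ z → z' = z := by
    intro z' hz' hsp
    obtain ⟨d, rfl⟩ : z' ∈ Set.range (f.fiberι y) := by rw [f.range_fiberι]; exact hz'.trans hfz
    rw [hcmax d (he.isInducing.specializes_iff.mp hsp)]
  have hdimZ : topologicalKrullDim ↥Z = Groth.L07.Equidim.fdim f z := by
    rw [Groth.L07.Equidim.fdim_fiberι, hc]
    exact Groth.L22.SchemeDim.topologicalKrullDim_eq_of_isEmbedding (he.comp Topology.IsEmbedding.subtypeVal)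
      (by rw [Set.range_comp, Subtype.range_coe, himg])
  obtain ⟨ξ, hξz, hξmax, hfξ, hfd⟩ := Groth.L07.OpenEquiv.exists_component f z hmax (η := genericPoint Y)
    (fun U hU => Groth.L07.OpenFibreDim.le_dim_fibre_of_isOpenAt f z hmax (hopen z hzZ hZz) U hU
      ((genericPoint_spec Y).specializes trivial))
    (fun η' hη' => (hη'.antisymm ((genericPoint_spec Y).specializes trivial)).eq)
  rw [← Groth.L07.OpenFibreDim.fdim_eq_fibreDimAt f z hmax] at hfd
  refine ⟨_, Groth.L06.OpenAtComponents.component_of_maximal hξmax,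
    hZz.trans hξz.closure_subset, Groth.L06.OpenAtComponents.dense_image_closure f hfξ, fun ζ hζ hζZ hζ' => ?_, ?_⟩
  · obtain rfl : ζ = z := ((specializes_iff_mem_closure.mpr (hζZ hzZ)).antisymm (specializes_iff_mem_closure.mpr (hZz hζ))).eq
    rw [hdimZ]
    have key : ∀ y', f.base z = y' → ∀ h : z ∈ closure ({ξ} : Set X) ∩ f.base ⁻¹' {y'},
        FlatMor.localDim ↥(closure ({ξ} : Set X) ∩ f.base ⁻¹' {y'}) ⟨z, h⟩ = Groth.L07.Equidim.fdim f z := by
      rintro _ rfl h
      exact Groth.L06.OpenAtComponents.localDim_component f hξz hmax h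
    exact key y hfz hζ'
  · rw [Groth.L06.OpenAtComponents.dim_inter_generic f hfξ, hfd, hdimZ]

end Groth.Agent.S4919
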