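import Groth.Statements.S4921
import Groth.Agent.L06.FibreDimLocConst

set_option autoImplicit false
set_option maxSynthPendingDepth 3
set_option linter.style.haveILetI false
open CategoryTheory AlgebraicGeometry
universe u v w
open EGA43

namespace Groth.Agent.S4921

/-- Let Y be a locally Noetherian scheme, f : X ⟶ Y a proper morphism and y a point of Y such that f is
open at every point of the fibre over y. Then the function z ↦ dim X_z is constant on a
neighbourhood of y. -/
theorem result {X Y : Scheme.{u}} [IsLocallyNoetherian Y] (f : X ⟶ Y)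
    [IsProper f] (y : Y) (h : ∀ x : X, f.base x = y → EGA43.IsOpenAt f.base x) :
    ∃ V ∈ nhds y, ∀ z ∈ V, topologicalKrullDim ↥(f.fiber z) = topologicalKrullDim ↥(f.fiber y) := by
  refine ⟨_, Filter.inter_mem (Groth.L06.FibreDimLocConst.nhds_dim_ge f y h)
    ((Groth.L07.FibreDim.isOpen_fiber_dim_le f f.isClosedMap (topologicalKrullDim ↥(f.fiber y))).mem_nhds
      (show topologicalKrullDim ↥(f.fiber y) ≤ topologicalKrullDim ↥(f.fiber y) from le_rfl)),
    fun z hz => le_antisymm hz.2 hz.1⟩

end Groth.Agent.S4921
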