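import Groth.Statements.S4922
import Groth.Agent.L06.FibreDimLocConst

set_option autoImplicit false
set_option maxSynthPendingDepth 3
set_option linter.style.haveILetI false
open CategoryTheory AlgebraicGeometry
universe u v w
open EGA43

namespace Groth.Agent.S4922

/-- Let Y be a locally Noetherian scheme, f : X ⟶ Y an open morphism of finite type and y a point of Y.
If dim X_y = dim X_{η} for the generic point η of every irreducible component of Y containing y,
then z ↦ dim X_z is constant on a neighbourhood of y. -/
theorem result {X Y : Scheme.{u}} [IsLocallyNoetherian Y]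
    (f : X ⟶ Y) [LocallyOfFiniteType f] [QuasiCompact f] (hf : IsOpenMap f.base) (y : Y)
    (h : ∀ η : Y, y ∈ closure {η} → closure {η} ∈ irreducibleComponents (Y : Type u) →
      topologicalKrullDim ↥(f.fiber y) = topologicalKrullDim ↥(f.fiber η)) :
    ∃ V ∈ nhds y, ∀ z ∈ V, topologicalKrullDim ↥(f.fiber z) = topologicalKrullDim ↥(f.fiber y) := by
  have hop : ∀ w, EGA43.IsOpenAt f.base w := fun w U hU => hf.image_mem_nhds hU
  obtain ⟨V, hyV, hV⟩ := Groth.L07.Equidim.exists_nhd_maximal y
  refine ⟨_, Filter.inter_mem (Groth.L06.FibreDimLocConst.nhds_dim_ge f y fun x _ => hop x) (V.2.mem_nhds hyV),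
    fun z hz => le_antisymm ?_ hz.1⟩
  obtain ⟨η, hη, hηmax⟩ := Groth.L07.Equidim.exists_maximal_generization z
  have hηy : η ⤳ y := hV η (hη.mem_open V.2 hz.2) hηmax
  rw [h η (specializes_iff_mem_closure.mp hηy)
    ((Groth.L07.EquidimQF.closure_singleton_mem_irreducibleComponents_iff η).mpr hηmax)]
  exact Groth.L06.FibreDimLocConst.le_of_isOpenAt f hη fun x _ => hop x

end Groth.Agent.S4922
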