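import Groth.Statements.S4924
import Groth.Agent.L06.FibreDimLocConst

set_option autoImplicit false
set_option maxSynthPendingDepth 3
set_option linter.style.haveILetI false
open CategoryTheory AlgebraicGeometry
universe u v w
open EGA43

namespace Groth.Agent.S4924

/-- Let Y be a locally Noetherian scheme, f : X ⟶ Y an open morphism of finite type and y a point of Y.
Then there is an open neighbourhood U of the fibre f⁻¹(y) in X such that the function z ↦ dim (U ∩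
f⁻¹(z)) is constant on a neighbourhood of y. -/
theorem result {X Y : Scheme.{u}} [IsLocallyNoetherian Y]
    (f : X ⟶ Y) [LocallyOfFiniteType f] [QuasiCompact f] (hf : IsOpenMap f.base) (y : Y) :
    ∃ U : X.Opens, f.base ⁻¹' {y} ⊆ (U : Set X) ∧ ∃ V ∈ nhds y, ∀ z ∈ V,
      topologicalKrullDim ↥((U : Set X) ∩ f.base ⁻¹' {z}) = topologicalKrullDim ↥((U : Set X) ∩ f.base ⁻¹' {y}) := by
  haveI : IsLocallyNoetherian X := LocallyOfFiniteType.isLocallyNoetherian f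
  by_cases hempty : f.base ⁻¹' {y} = ∅
  · refine ⟨⊥, by rw [hempty]; exact Set.empty_subset _, Set.univ, Filter.univ_mem, fun z _ => ?_⟩
    haveI : ∀ z, IsEmpty ↥(((⊥ : X.Opens) : Set X) ∩ f.base ⁻¹' {z}) := fun z => ⟨fun x => x.2.1.elim⟩
    rw [Groth.L06.Dim.eq_bot, Groth.L06.Dim.eq_bot]
  obtain ⟨n, hn⟩ := Groth.L06.FibreDimLocConst.exists_bound f y
  obtain ⟨x₀, hx₀⟩ := Set.nonempty_iff_ne_empty.mpr hempty
  obtain ⟨d, hd⟩ : ∃ d : ℕ, topologicalKrullDim ↥(f.fiber y) = (d : WithBot ℕ∞) := by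
    haveI : Nonempty ↥(f.fiber y) := ⟨(show f x₀ = y from hx₀) ▸ f.asFiber x₀⟩
    have h0 := Groth.L06.Dim.nonneg (X := ↥(f.fiber y))
    generalize topologicalKrullDim ↥(f.fiber y) = t at hn h0 ⊢
    induction t with
    | bot => exact absurd (le_bot_iff.mp h0) (WithBot.natCast_ne_bot 0)
    | coe e =>
      induction e with
      | top => exact absurd (WithBot.coe_le_coe.mp hn) (not_le.mpr (lt_top_iff_ne_top.mpr (ENat.natCast_ne_top n)))
      | coe d => exact ⟨d, rfl⟩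
  let U : X.Opens := ⟨{x | FlatMor.fibreDimAt f x ≤ (d : WithBot ℕ∞)}, Groth.L07.FibreDim.isOpen_fibreDimAt_le f d⟩
  have hU : f.base ⁻¹' {y} ⊆ (U : Set X) := fun x hx =>
    ((Groth.L07.FibreDim.fiber_dim_le_iff f y _).mp le_rfl x hx).trans hd.le
  refine ⟨U, hU, ?_⟩
  let g := U.ι ≫ f
  have hdim : ∀ z, topologicalKrullDim ↥((U : Set X) ∩ f.base ⁻¹' {z}) = topologicalKrullDim ↥(g.fiber z) := fun z => by
    refine Groth.L22.SchemeDim.topologicalKrullDim_eq_of_isEmbedding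
      (U.ι.isEmbedding.comp (g.fiberι z).isEmbedding) ?_
    rw [Set.range_comp, g.range_fiberι]
    ext x
    constructor
    · rintro ⟨w, hw, rfl⟩
      exact ⟨w.2, hw⟩
    · rintro ⟨hxU, hx⟩
      exact ⟨⟨x, hxU⟩, hx, rfl⟩
  have hop : ∀ w, EGA43.IsOpenAt g.base w := fun w S hS => (hf.comp U.ι.isOpenEmbedding.isOpenMap).image_mem_nhds hS
  refine ⟨_, Groth.L06.FibreDimLocConst.nhds_dim_ge g y fun w _ => hop w, fun z hz => ?_⟩
  rw [hdim, hdim]
  refine le_antisymm ?_ hz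
  rw [← hdim y, Set.inter_eq_right.mpr hU, ← Groth.L06.FibreDimLocConst.dim_fiber, hd,
    Groth.L07.FibreDim.fiber_dim_le_iff]
  intro w _
  obtain ⟨U₁, hwU₁, hU₁⟩ := (Groth.L07.FibreDim.fibreDimAt_le_iff f (U.ι w) _).mp
    (show FlatMor.fibreDimAt f (U.ι w) ≤ (d : WithBot ℕ∞) from w.2)
  refine (Groth.L07.FibreDim.fibreDimAt_le_iff g w _).mpr ⟨U.ι ⁻¹ᵁ U₁, hwU₁, le_trans ?_ hU₁⟩
  refine le_of_eq_of_le (Groth.L22.SchemeDim.topologicalKrullDim_eq_of_isEmbedding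
    (U.ι.isEmbedding.comp Topology.IsEmbedding.subtypeVal) rfl).symm (Groth.L22.SchemeDim.topologicalKrullDim_mono ?_)
  rintro _ ⟨⟨v, hv1, hv2⟩, rfl⟩
  exact ⟨hv1, hv2⟩

end Groth.Agent.S4924
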