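import Groth.Statements.S4933
import Groth.Agent.L07.ValDim
import Groth.Agent.L07.UnivOpenFibre

set_option autoImplicit false
set_option linter.style.haveILetI false
open CategoryTheory AlgebraicGeometry
universe u v w
open EGA43
open Groth.L22

set_option maxSynthPendingDepth 3
set_option backward.isDefEq.respectTransparency.types false
set_option backward.isDefEq.respectTransparency false

namespace Groth.Agent.S4933

/-- Let f : X ⟶ Y be a morphism locally of finite type, x a point of X which is a maximal point of its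
fibre X_y, y = f x. Consider: a) f is universally open at x; b) for every irreducible component Y₀
of Y containing y, with generic point η, there is an irreducible component Z of X containing x and
dominating Y₀ such that dim_x(X_y) = dim_x(Z ∩ X_y) = dim(Z ∩ X_η); b') for every open neighbourhood
U of x and every generization y' of y one has dim(U ∩ X_{y'}) ≥ dim_x(X_y). Then a) implies b'), and
b') implies b). (Subsets of X carry the induced topology; dim_x(U ∩ X_y) = dim_x(X_y). The published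
statement asserts moreover that b) implies b'); that implication can fail, because a generization y'
of y need not lie under any point of U ∩ Z: for the finite birational morphism from the affine plane
onto the surface obtained from it by identifying two rational points p and q, at x = p condition b)
holds with all dimensions equal to 0, while for U the complement of a line L through q avoiding p
and y' the image of the generic point of L the set U ∩ X_{y'} is empty. So only a) ⇒ b') and b') ⇒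
b) are stated here.) -/
theorem result {X Y : Scheme.{u}} (f : X ⟶ Y) [LocallyOfFiniteType f]
    (x : X) (hmax : ∀ x' : X, f.base x' = f.base x → x ∈ closure {x'} → x' = x) :
    (EGA43.IsUnivOpenAt f x → (∀ U : X.Opens, x ∈ U → ∀ y' : Y, y' ⤳ f.base x →
        FlatMor.fibreDimAt f x ≤ topologicalKrullDim ↥((U : Set X) ∩ f.base ⁻¹' {y'}))) ∧
    ((∀ U : X.Opens, x ∈ U → ∀ y' : Y, y' ⤳ f.base x →
        FlatMor.fibreDimAt f x ≤ topologicalKrullDim ↥((U : Set X) ∩ f.base ⁻¹' {y'})) →
      (∀ Y₀ ∈ irreducibleComponents (Y : Type u), f.base x ∈ Y₀ →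
        ∃ Z ∈ irreducibleComponents (X : Type u), ∃ hx : x ∈ Z, closure (f.base '' Z) = Y₀ ∧
          ∀ η : Y, closure ({η} : Set Y) = Y₀ →
            FlatMor.fibreDimAt f x = FlatMor.localDim ↥(Z ∩ f.base ⁻¹' {f.base x}) ⟨x, ⟨hx, rfl⟩⟩ ∧
            FlatMor.localDim ↥(Z ∩ f.base ⁻¹' {f.base x}) ⟨x, ⟨hx, rfl⟩⟩ =
              topologicalKrullDim ↥(Z ∩ f.base ⁻¹' {η}))) := by
  classical
  have hmax' : ∀ x' : X, f x' = f x → x' ⤳ x → x' = x := fun x' h1 h2 => hmax x' h1 h2.mem_closure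
  have hfd : Groth.L07.Equidim.fdim f x = FlatMor.fibreDimAt f x :=
    Groth.L07.OpenFibreDim.fdim_eq_fibreDimAt f x hmax'
  have hsub : ∀ (U : X.Opens) (z : X), z ∈ U →
      Groth.L07.Equidim.fdim f z = topologicalKrullDim ↥((U : Set X) ∩ closure {z} ∩ f.base ⁻¹' {f.base z}) := by
    intro U z hz
    refine (Groth.L07.Equidim.fdim_comp U.ι f (U.ι ≫ f) rfl ⟨z, hz⟩).symm.trans ?_
    refine (SchemeDim.topologicalKrullDim_eq_of_isEmbedding
      (f := fun w : ↥(closure ({⟨z, hz⟩} : Set (U : Scheme.{u})) ∩ (U.ι ≫ f).base ⁻¹' {(U.ι ≫ f).base ⟨z, hz⟩}) => U.ι w.1)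
      (U.ι.isEmbedding.comp Topology.IsEmbedding.subtypeVal) ?_).symm
    ext w
    constructor
    · rintro ⟨⟨v, hv, hvf⟩, rfl⟩
      exact ⟨⟨v.2, ((specializes_iff_mem_closure.mpr hv).map U.ι.continuous).mem_closure⟩, hvf⟩
    · rintro ⟨⟨hwU, hwc⟩, hwf⟩
      exact ⟨⟨⟨w, hwU⟩, (U.ι.isEmbedding.isInducing.specializes_iff.mp
        (specializes_iff_mem_closure.mpr hwc : U.ι ⟨z, hz⟩ ⤳ U.ι ⟨w, hwU⟩)).mem_closure, hwf⟩, rfl⟩
  refine ⟨fun hopen U hxU y' hy' => ?_, fun hb Y₀ hY₀ hxY₀ => ?_⟩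
  · obtain ⟨z, hzx, hfz, hle⟩ := Groth.L07.ValDim.exists_generization_fdim_ge f x hmax' hopen hy'
    refine hle.trans ((hsub U z (hzx.mem_open U.isOpen hxU)).trans_le (SchemeDim.topologicalKrullDim_mono ?_))
    rintro w ⟨⟨hwU, -⟩, hwf⟩
    exact ⟨hwU, show f.base w ∈ ({y'} : Set Y) from hfz ▸ hwf⟩
  obtain ⟨η, hη⟩ := QuasiSober.sober hY₀.1 (isClosed_of_mem_irreducibleComponents _ hY₀)
  have hηmax : ∀ w : Y, w ⤳ η → w = η := fun w hw => by
    have hsub' : Y₀ ⊆ closure {w} := hη.def ▸ closure_minimal (Set.singleton_subset_iff.2 hw.mem_closure) isClosed_closure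
    exact (show IsGenericPoint w Y₀ from subset_antisymm (hY₀.2 isIrreducible_singleton.closure hsub') hsub').eq hη
  have hηx : η ⤳ f.base x := hη.specializes hxY₀
  obtain ⟨V, hV, hxV, -⟩ := exists_isAffineOpen_mem_and_subset (X := Y) (x := f.base x) (U := ⊤) trivial
  obtain ⟨W, hW, hxW, e⟩ := exists_isAffineOpen_mem_and_subset (X := X) (x := x) (U := f ⁻¹ᵁ V) hxV
  replace e : W ≤ f ⁻¹ᵁ V := e
  haveI : IsAffine (V : Scheme.{u}) := hV
  haveI : IsAffine (W : Scheme.{u}) := hW
  let r := f.resLE V W e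
  let ηV : (V : Scheme.{u}) := ⟨η, hηx.mem_open V.isOpen hxV⟩
  haveI : LocallyOfFiniteType (r.fiberToSpecResidueField ηV) :=
    MorphismProperty.pullback_snd _ _ inferInstance
  haveI : IsLocallyNoetherian (r.fiber ηV) :=
    LocallyOfFiniteType.isLocallyNoetherian (r.fiberToSpecResidueField ηV)
  haveI : IsNoetherian (r.fiber ηV) := {}
  let G : Set X := (fun p => W.ι (r.fiberι ηV p)) '' {p | ∃ C ∈ irreducibleComponents ↥(r.fiber ηV), IsGenericPoint p C}
  have hGfin : G.Finite := by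
    refine Set.Finite.image _ (Set.Finite.of_finite_image (f := fun p => closure ({p} : Set ↥(r.fiber ηV))) ?_ ?_)
    · refine (TopologicalSpace.NoetherianSpace.finite_irreducibleComponents (α := ↥(r.fiber ηV))).subset ?_
      rintro _ ⟨p, ⟨C, hC, hp⟩, rfl⟩
      show closure {p} ∈ _
      rw [hp.def]; exact hC
    · rintro p ⟨C, hC, hp⟩ q ⟨C', hC', hq⟩ hpq
      exact hp.eq (show IsGenericPoint q C from hpq.symm.trans hp.def)
  let B : Set X := ⋃ g ∈ {g ∈ G | ¬ g ⤳ x}, closure {g}
  have hB : IsClosed B := (hGfin.subset fun g hg => hg.1).isClosed_biUnion fun _ _ => isClosed_closure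
  let U : X.Opens := W ⊓ ⟨Bᶜ, hB.isOpen_compl⟩
  have hxU : x ∈ U := by
    refine ⟨hxW, fun hxB => ?_⟩
    obtain ⟨g, hg, hgx⟩ := Set.mem_iUnion₂.mp hxB
    exact hg.2 (specializes_iff_mem_closure.mpr hgx)
  obtain ⟨d, hd⟩ := Groth.L07.OpenEquiv.exists_nat_fibreDimAt f x
  obtain ⟨a, ha, hfa, had⟩ := Groth.L07.OpenEquiv.exists_fdim_le f U η d (hd ▸ hb U hxU η hηx)
  obtain ⟨p, hp⟩ : (⟨a, ha.1⟩ : (W : Scheme.{u})) ∈ Set.range (r.fiberι ηV) := by
    rw [r.range_fiberι]
    refine Subtype.ext ?_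
    exact (congrArg (fun φ => φ.base (⟨a, ha.1⟩ : (W : Scheme.{u}))) (Scheme.Hom.resLE_comp_ι f e)).trans hfa
  have hC := irreducibleComponent_mem_irreducibleComponents p
  obtain ⟨g₀, hg₀⟩ := QuasiSober.sober hC.1 (isClosed_of_mem_irreducibleComponents _ hC)
  let g : X := W.ι (r.fiberι ηV g₀)
  have hga : g ⤳ a := by
    have h := ((hg₀.specializes mem_irreducibleComponent).map (r.fiberι ηV).continuous).map W.ι.continuous
    rw [hp] at h
    exact h
  have hgx : g ⤳ x := by
    by_contra hn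
    exact ha.2 (Set.mem_biUnion (show g ∈ {g ∈ G | ¬ g ⤳ x} from ⟨⟨g₀, ⟨_, hC, hg₀⟩, rfl⟩, hn⟩) hga.mem_closure)
  have hfg : f g = η := hηmax _ (hfa ▸ hga.map f.continuous)
  obtain ⟨z, hzg, hfz, hzmax⟩ := Groth.L07.OpenEquiv.exists_maximal_in_fibre f g
  have hfzη : f z = η := hfz.trans hfg
  have hzx : z ⤳ x := hzg.trans hgx
  have hzd : Groth.L07.Equidim.fdim f z = FlatMor.fibreDimAt f x :=
    le_antisymm (Groth.L07.DimToolkit.fdim_le_fibreDimAt_of_specializes f hzx)
      ((hd.le.trans had).trans (Groth.L07.OpenEquiv.fdim_mono f (hzg.trans hga) (hfzη.trans hfa.symm)))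
  have hzMax : ∀ w : X, w ⤳ z → w = z := fun w hw =>
    hzmax w ((hηmax _ (hfzη ▸ hw.map f.continuous)).trans hfzη.symm) hw
  refine ⟨closure {z}, ⟨isIrreducible_singleton.closure, fun S hS hzS => ?_⟩, hzx.mem_closure, ?_, fun η' hη' => ?_⟩
  · obtain ⟨s, hs⟩ := QuasiSober.sober hS.closure isClosed_closure
    have := hzMax s (hs.specializes (subset_closure (hzS (subset_closure rfl))))
    subst this
    exact hs.def.symm ▸ subset_closure
  · refine subset_antisymm (closure_minimal ?_ (isClosed_of_mem_irreducibleComponents _ hY₀)) ?_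
    · rintro _ ⟨w, hw, rfl⟩
      rw [← hη.def, ← hfzη]
      exact ((specializes_iff_mem_closure.mpr hw).map f.continuous).mem_closure
    · rw [← hη.def, ← hfzη]
      exact closure_mono (Set.singleton_subset_iff.mpr ⟨z, subset_closure rfl, rfl⟩)
  · obtain rfl : η' = η := (show IsGenericPoint η' Y₀ from hη').eq hη
    have hloc : FlatMor.fibreDimAt f x =
        FlatMor.localDim ↥(closure ({z} : Set X) ∩ f.base ⁻¹' {f.base x}) ⟨x, ⟨hzx.mem_closure, rfl⟩⟩ := by
      refine le_antisymm (le_iInf fun O => ?_) ?_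
      · obtain ⟨O', hO', hOO'⟩ := isOpen_induced_iff.mp O.1.2
        rw [← hfd, hsub ⟨O', hO'⟩ x (by rw [← SetLike.mem_coe]; exact (Set.ext_iff.mp hOO' _).mpr O.2)]
        have e : topologicalKrullDim ↥((O.1 : Set ↥(closure ({z} : Set X) ∩ f.base ⁻¹' {f.base x}))) =
            topologicalKrullDim ↥(O' ∩ (closure ({z} : Set X) ∩ f.base ⁻¹' {f.base x})) := by
          refine (SchemeDim.topologicalKrullDim_eq_of_isEmbedding
            (f := fun w : ↥(O.1 : Set ↥(closure ({z} : Set X) ∩ f.base ⁻¹' {f.base x})) => w.1.1)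
            (Topology.IsEmbedding.subtypeVal.comp Topology.IsEmbedding.subtypeVal) ?_).symm
          ext w
          constructor
          · rintro ⟨⟨⟨w, hw⟩, hwO⟩, rfl⟩
            exact ⟨(Set.ext_iff.mp hOO' _).mpr hwO, hw⟩
          · rintro ⟨hwO, hw⟩
            exact ⟨⟨⟨w, hw⟩, (Set.ext_iff.mp hOO' _).mp hwO⟩, rfl⟩
        rw [e]
        refine SchemeDim.topologicalKrullDim_mono ?_
        rintro w ⟨⟨hwO, hwc⟩, hwf⟩
        exact ⟨hwO, (hzx.trans (specializes_iff_mem_closure.mpr hwc)).mem_closure, hwf⟩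
      · obtain ⟨O, hxO, hO⟩ := (Groth.L07.FibreDim.fibreDimAt_le_iff f x _).mp le_rfl
        refine (iInf_le _ ⟨⟨Subtype.val ⁻¹' (O : Set X), O.isOpen.preimage continuous_subtype_val⟩, hxO⟩).trans ?_
        refine le_of_eq_of_le (SchemeDim.topologicalKrullDim_eq_of_isEmbedding
          (f := fun w : ↥(Subtype.val ⁻¹' (O : Set X) : Set ↥(closure ({z} : Set X) ∩ f.base ⁻¹' {f.base x})) => w.1.1)
          (Topology.IsEmbedding.subtypeVal.comp Topology.IsEmbedding.subtypeVal) rfl).symm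
          ((SchemeDim.topologicalKrullDim_mono ?_).trans hO)
        rintro _ ⟨⟨⟨w, hw⟩, hwO⟩, rfl⟩
        exact ⟨hwO, hw.2⟩
    refine ⟨hloc, hloc.symm.trans ?_⟩
    rw [← hzd, Groth.L07.Equidim.fdim, show f.base z = η' from hfzη]

end Groth.Agent.S4933
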