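import Groth.Statements.S4934
import Groth.Agent.L07.OpenEquiv
import Groth.Agent.L07.UnivOpenAt
import Mathlib.Tactic.TFAE

set_option autoImplicit false
set_option linter.style.haveILetI false
open CategoryTheory AlgebraicGeometry
universe u v w
open EGA43

namespace Groth.Agent.S4934

/-- Let Y be a locally Noetherian scheme, f : X ⟶ Y a morphism locally of finite type, x a maximal point
of its fibre X_y, and suppose y = f x is a geometrically unibranch point of Y (so that y lies on
exactly one irreducible component Y₀ of Y, with generic point η). The following are equivalent: a) f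
is universally open at x; b) there is an irreducible component Z of X containing x and dominating Y₀
with dim_x(Z ∩ X_y) = dim(Z ∩ X_η); b') for every open neighbourhood U of x and every generization
y' of y, dim(U ∩ X_{y'}) ≥ dim_x(X_y); c) f is open at x. (The published statement asserts a) ⇔ b) ⇔
b') over an arbitrary base and adds c) for a locally Noetherian one; over the spectrum Y of an
infinite product of copies of a field, the inclusion of a non-open closed point satisfies b) and not
a), and the published proof of b) ⇒ a) uses the openness criterion by lifting of generizations and a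
finiteness of irreducible components, both available over a locally Noetherian base, which is
assumed here throughout.) -/
theorem result {X Y : Scheme.{u}} [IsLocallyNoetherian Y] (f : X ⟶ Y)
    [LocallyOfFiniteType f] (x : X) (hmax : ∀ x' : X, f.base x' = f.base x → x ∈ closure {x'} → x' = x)
    (hy : CAlg2.IsGeomUnibranch (Y.presheaf.stalk (f.base x))) :
    List.TFAE [EGA43.IsUnivOpenAt f x,
      (∀ Y₀ ∈ irreducibleComponents (Y : Type u), f.base x ∈ Y₀ →
        ∃ Z ∈ irreducibleComponents (X : Type u), ∃ hx : x ∈ Z, closure (f.base '' Z) = Y₀ ∧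
          ∀ η : Y, closure ({η} : Set Y) = Y₀ →
            FlatMor.localDim ↥(Z ∩ f.base ⁻¹' {f.base x}) ⟨x, ⟨hx, rfl⟩⟩ =
              topologicalKrullDim ↥(Z ∩ f.base ⁻¹' {η})),
      (∀ U : X.Opens, x ∈ U → ∀ y' : Y, y' ⤳ f.base x →
        FlatMor.fibreDimAt f x ≤ topologicalKrullDim ↥((U : Set X) ∩ f.base ⁻¹' {y'})),
      EGA43.IsOpenAt f.base x] := by
  classical
  have hmax' : ∀ x' : X, f x' = f x → x' ⤳ x → x' = x := fun x' h1 h2 =>
    hmax x' h1 (specializes_iff_mem_closure.mp h2)
  tfae_have 1 → 4 := fun h =>
    Groth.L07.UnivOpenAt.of_isPullback (CategoryTheory.IsPullback.of_id_fst (f := f)) h x rfl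
  tfae_have 4 → 3 := fun h U hxU y' hy' =>
    Groth.L07.OpenFibreDim.le_dim_fibre_of_isOpenAt f x hmax' h U hxU hy'
  tfae_have 3 → 2 := fun h Y₀ hY₀ hxY₀ => by
    obtain ⟨η, hη⟩ := QuasiSober.sober hY₀.1 (isClosed_of_mem_irreducibleComponents Y₀ hY₀)
    have hηmax : ∀ η', η' ⤳ η → η' = η :=
      (Groth.L07.EquidimQF.closure_singleton_mem_irreducibleComponents_iff η).mp (by rw [hη.def]; exact hY₀)
    obtain ⟨ζ, hζx, hζmax, hfζ, hfd⟩ :=
      Groth.L07.OpenEquiv.exists_component f x hmax' (fun U hU => h U hU η (hη.specializes hxY₀)) hηmax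
    refine ⟨closure {ζ}, (Groth.L07.EquidimQF.closure_singleton_mem_irreducibleComponents_iff ζ).mpr hζmax,
      specializes_iff_mem_closure.mp hζx, ?_, fun η' hη' => ?_⟩
    · rw [Groth.L07.Equidim.closure_image_closure' f.continuous ζ]
      rw [hfζ, hη.def]
    · obtain rfl : η' = η := ((show IsGenericPoint η' Y₀ from hη').eq hη)
      refine (Groth.L07.OpenEquiv.localDim_eq_fibreDimAt f x hmax' (closure {ζ})
        (closure_minimal (Set.singleton_subset_iff.mpr (specializes_iff_mem_closure.mp hζx)) isClosed_closure) _).trans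
        (hfd.symm.trans ?_)
      subst hfζ
      rfl
  tfae_have 2 → 1 := fun h => by
    obtain ⟨Y₀, hY₀, hsub⟩ := exists_mem_irreducibleComponents_subset_of_isIrreducible _
      (isIrreducible_singleton (x := f.base x)).closure
    obtain ⟨η, hη⟩ := QuasiSober.sober hY₀.1 (isClosed_of_mem_irreducibleComponents Y₀ hY₀)
    obtain ⟨Z, hZ, hx, hZY, hdim⟩ := h Y₀ hY₀ (hsub (subset_closure rfl))
    obtain ⟨ζ, hζ⟩ := QuasiSober.sober hZ.1 (isClosed_of_mem_irreducibleComponents Z hZ)
    obtain rfl := hζ.def
    have hfζ : f ζ = η := by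
      refine IsGenericPoint.eq (S := Y₀) ?_ hη
      show closure {f ζ} = Y₀
      rw [← Groth.L07.Equidim.closure_image_closure' f.continuous ζ]
      exact hZY
    have hd := (Groth.L07.OpenEquiv.localDim_eq_fibreDimAt f x hmax' (closure {ζ})
      (closure_minimal (Set.singleton_subset_iff.mpr hx) isClosed_closure) ⟨hx, rfl⟩).symm.trans (hdim η hη)
    refine Groth.L07.OpenEquiv.isUnivOpenAt_of_component f x hmax' hy (specializes_iff_mem_closure.mpr hx) ?_ ?_
    · rw [hfζ]
      exact (Groth.L07.EquidimQF.closure_singleton_mem_irreducibleComponents_iff η).mp (by rw [hη.def]; exact hY₀)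
    · rw [hd]; subst hfζ; rfl
  tfae_finish

end Groth.Agent.S4934
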