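import Groth.Statements.S4935
import Groth.Agent.L06.Unibranch
import Mathlib.RingTheory.IntegralClosure.GoingDown
import Mathlib.RingTheory.Ideal.GoingDown
import Mathlib.RingTheory.IntegralClosure.IntegrallyClosed

set_option autoImplicit false
set_option maxSynthPendingDepth 3
set_option linter.style.haveILetI false
universe u
open EGA43

namespace Groth.Agent.S4935

/-- Let A be a unibranch local domain, B a domain containing A and integral over A, and 𝔫 a prime ideal
of B lying over the maximal ideal of A. Then Spec B_𝔫 → Spec A is surjective: for every prime ideal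
𝔭 of A there is a prime ideal 𝔮 ⊆ 𝔫 of B with 𝔮 ∩ A = 𝔭. -/
theorem result {A B : Type u} [CommRing A] [IsDomain A]
    [IsLocalRing A] (hA : CAlg2.IsUnibranch A) [CommRing B] [IsDomain B] [Algebra A B]
    (hinj : Function.Injective (algebraMap A B)) [Algebra.IsIntegral A B] (n : Ideal B) [n.IsPrime]
    (hn : n.comap (algebraMap A B) = IsLocalRing.maximalIdeal A) (p : Ideal A) [p.IsPrime] :
    ∃ q : Ideal B, q.IsPrime ∧ q ≤ n ∧ q.comap (algebraMap A B) = p := by
  classical
  haveI : FaithfulSMul A B := (faithfulSMul_iff_algebraMap_injective A B).mpr hinj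
  let K := FractionRing A
  let L := FractionRing B
  let A' := integralClosure A K
  let B' := integralClosure B L
  let ι : K →+* L := IsFractionRing.lift (A := A) (K := K) (g := (algebraMap B L).comp (algebraMap A B))
    ((IsFractionRing.injective B L).comp hinj)
  have hι : ∀ a : A, ι (algebraMap A K a) = algebraMap B L (algebraMap A B a) := fun a =>
    IsFractionRing.lift_algebraMap _ a
  have hmem : ∀ c : A', ι c.1 ∈ B' := fun c => by
    obtain ⟨P, hP, he⟩ := c.2
    refine ⟨P.map (algebraMap A B), hP.map _, ?_⟩
    have hcomp : (algebraMap B L).comp (algebraMap A B) = ι.comp (algebraMap A K) := RingHom.ext fun a => (hι a).symm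
    rw [Polynomial.eval₂_map, hcomp, ← Polynomial.hom_eval₂, he, map_zero]
  let j : A' →+* B' := (ι.comp A'.val.toRingHom).codRestrict B'.toSubring hmem
  have hj : ∀ a : A, j (algebraMap A A' a) = algebraMap B B' (algebraMap A B a) := fun a => Subtype.ext (hι a)
  have hjinj : Function.Injective j := fun c d h => Subtype.ext (ι.injective (congrArg Subtype.val h))
  have hjint : j.IsIntegral := fun x => by
    have h1 : ((algebraMap B B').comp (algebraMap A B)).IsIntegral :=
      RingHom.IsIntegral.trans _ _ (fun z => Algebra.IsIntegral.isIntegral z)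
        (fun z => Algebra.IsIntegral.isIntegral z)
    have h2 : (algebraMap B B').comp (algebraMap A B) = j.comp (algebraMap A A') := RingHom.ext fun a => (hj a).symm
    rw [h2] at h1
    exact RingHom.IsIntegral.tower_top _ _ h1 x
  haveI : IsIntegrallyClosed A' := integralClosure.isIntegrallyClosedOfFiniteExtension K (L := K)
  letI := j.toAlgebra
  haveI : Algebra.IsIntegral A' B' := ⟨hjint⟩
  haveI : FaithfulSMul A' B' := (faithfulSMul_iff_algebraMap_injective A' B').mpr hjinj
  have hloc : IsLocalRing A' := by
    refine (Groth.L06.Unibranch.isUnibranch_iff (algebraMap A A') (fun z => Algebra.IsIntegral.isIntegral z)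
      (fun a ha => ?_) fun x => ?_).mp hA
    · have h0 : algebraMap A K a = 0 := congrArg Subtype.val ha
      rw [(map_eq_zero_iff _ (IsFractionRing.injective A K)).mp h0]
      exact zero_mem _
    · obtain ⟨a, b, hb, hab⟩ := IsFractionRing.div_surjective A x.1
      have hb0 : algebraMap A K b ≠ 0 := fun h =>
        nonZeroDivisors.ne_zero hb ((map_eq_zero_iff _ (IsFractionRing.injective A K)).mp h)
      refine ⟨b, a, fun h => hb0 (congrArg Subtype.val h), Subtype.ext ?_⟩
      show algebraMap A K b * x.1 = algebraMap A K a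
      rw [← hab, mul_div_cancel₀ _ hb0]
  haveI := hloc
  have hB0 : ∀ b : B, algebraMap B L b = 0 → b ∈ n := fun b h0 => by
    rw [(map_eq_zero_iff _ (IsFractionRing.injective B L)).mp h0]; exact zero_mem n
  have hA0 : ∀ a : A, algebraMap A K a = 0 → a ∈ p := fun a h0 => by
    rw [(map_eq_zero_iff _ (IsFractionRing.injective A K)).mp h0]; exact zero_mem p
  obtain ⟨n', -, hn', hn'n⟩ := Ideal.exists_ideal_over_prime_of_isIntegral n (⊥ : Ideal B')
    (fun b hb => hB0 b (congrArg Subtype.val ((Submodule.mem_bot B').mp hb)))
  haveI := hn'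
  obtain ⟨p', -, hp', hp'p⟩ := Ideal.exists_ideal_over_prime_of_isIntegral p (⊥ : Ideal A')
    (fun a ha => hA0 a (congrArg Subtype.val ((Submodule.mem_bot A').mp ha)))
  haveI := hp'
  have hmax : (n'.comap j).IsMaximal := by
    refine Ideal.isMaximal_of_isIntegral_of_isMaximal_comap (R := A) (n'.comap j) ?_
    rw [Ideal.comap_comap, show j.comp (algebraMap A A') = (algebraMap B B').comp (algebraMap A B) from RingHom.ext hj,
      ← Ideal.comap_comap, hn'n, hn]
    exact IsLocalRing.maximalIdeal.isMaximal A
  have hle : p' ≤ n'.comap j := by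
    rw [IsLocalRing.eq_maximalIdeal hmax]
    exact IsLocalRing.le_maximalIdeal hp'.ne_top
  haveI : (n'.comap j).IsPrime := hmax.isPrime
  haveI : n'.LiesOver (n'.comap j) := ⟨rfl⟩
  obtain ⟨q', hq'n, hq', hq'p⟩ := Ideal.exists_ideal_le_liesOver_of_le (p := p') n' hle
  haveI := hq'
  refine ⟨q'.comap (algebraMap B B'), Ideal.comap_isPrime _ _, (Ideal.comap_mono hq'n).trans hn'n.le, ?_⟩
  rw [Ideal.comap_comap, show (algebraMap B B').comp (algebraMap A B) = j.comp (algebraMap A A') from (RingHom.ext hj).symm,
    ← Ideal.comap_comap, show q'.comap j = p' from hq'p.over.symm, hp'p]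

end Groth.Agent.S4935
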