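import Groth.Statements.S4938
import Groth.Agent.L07.UnivOpenFibre
import Groth.Agent.L07.UnivOpenAt
import Mathlib.Tactic.TFAE

set_option autoImplicit false
set_option linter.style.haveILetI false
open CategoryTheory AlgebraicGeometry
universe u v w
open EGA43

namespace Groth.Agent.S4938

/-- Let Y be a locally Noetherian scheme, f : X ⟶ Y a morphism locally of finite type, and y a
geometrically unibranch point of Y, lying on the unique irreducible component Y₀ of Y with generic
point η. The following are equivalent: a) f is universally open at every point of X_y; b) every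
point x of X_y lies on an irreducible component Z of X dominating Y₀ with dim_x(Z ∩ X_y) = dim(Z ∩
X_η); b'') for every open subset U of X, dim(U ∩ X_η) ≥ dim(U ∩ X_y); c) f is open at every point of
X_y. (The published statement assumes Y locally Noetherian only for c) and also lists b′), the
pointwise form of b″) (for every x in X_y and every open U ∋ x, dim(U ∩ X_η) ≥ dim_x(U ∩ X_y)); over
the spectrum of an infinite product of copies of a field, the inclusion of a non-open closed point
satisfies b) and b″) but not a), so this row takes Y locally Noetherian throughout, and b′) is not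
listed.) -/
theorem result {X Y : Scheme.{u}} [IsLocallyNoetherian Y] (f : X ⟶ Y)
    [LocallyOfFiniteType f] (y : Y) (hy : CAlg2.IsGeomUnibranch (Y.presheaf.stalk y)) :
    List.TFAE [∀ x : X, f.base x = y → EGA43.IsUnivOpenAt f x,
      ∀ x : X, f.base x = y → ∀ Y₀ ∈ irreducibleComponents (Y : Type u), y ∈ Y₀ →
        ∃ Z ∈ irreducibleComponents (X : Type u), ∃ hx : x ∈ Z, closure (f.base '' Z) = Y₀ ∧
          ∀ η : Y, closure ({η} : Set Y) = Y₀ →
            FlatMor.localDim ↥(Z ∩ f.base ⁻¹' {f.base x}) ⟨x, ⟨hx, rfl⟩⟩ = topologicalKrullDim ↥(Z ∩ f.base ⁻¹' {η}),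
      ∀ U : X.Opens, ∀ Y₀ ∈ irreducibleComponents (Y : Type u), y ∈ Y₀ → ∀ η : Y, closure ({η} : Set Y) = Y₀ →
        topologicalKrullDim ↥((U : Set X) ∩ f.base ⁻¹' {y}) ≤ topologicalKrullDim ↥((U : Set X) ∩ f.base ⁻¹' {η}),
      ∀ x : X, f.base x = y → EGA43.IsOpenAt f.base x] := by
  tfae_have 1 → 4 := fun h x hx =>
    Groth.L07.UnivOpenAt.of_isPullback (CategoryTheory.IsPullback.of_id_fst (f := f)) (h x hx) x rfl
  tfae_have 4 → 3 := fun h U Y₀ hY₀ hyY₀ η hη => by
    refine Groth.L07.OpenEquiv.dim_fibre_le_of_isOpenAt f y h U ?_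
    exact (show IsGenericPoint η Y₀ from hη).specializes hyY₀
  tfae_have 3 → 2 := fun h x hx Y₀ hY₀ hxY₀ => by
    obtain ⟨η, hη⟩ := QuasiSober.sober hY₀.1 (isClosed_of_mem_irreducibleComponents Y₀ hY₀)
    have hηmax : ∀ η', η' ⤳ η → η' = η :=
      (Groth.L07.EquidimQF.closure_singleton_mem_irreducibleComponents_iff η).mp (by rw [hη.def]; exact hY₀)
    obtain ⟨z, ζ, hzx, hfz, hzmax, hzd, hζz, hζmax, hfζ, hfd⟩ :=
      Groth.L07.OpenEquiv.exists_component_through f x hηmax (fun U => by
        rw [hx]; exact h U Y₀ hY₀ hxY₀ η hη.def)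
    refine ⟨closure {ζ}, (Groth.L07.EquidimQF.closure_singleton_mem_irreducibleComponents_iff ζ).mpr hζmax,
      specializes_iff_mem_closure.mp (hζz.trans hzx), ?_, fun η' hη' => ?_⟩
    · rw [Groth.L07.Equidim.closure_image_closure' f.continuous ζ]
      rw [hfζ, hη.def]
    · obtain rfl : η' = η := ((show IsGenericPoint η' Y₀ from hη').eq hη)
      refine (Groth.L07.OpenEquiv.localDim_eq_of_component f hzx hfz hzmax hzd (closure {ζ})
        (closure_minimal (Set.singleton_subset_iff.mpr (specializes_iff_mem_closure.mp hζz)) isClosed_closure) _).trans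
        (hfd.symm.trans ?_)
      subst hfζ
      rfl
  tfae_have 2 → 1 := fun h => by
    refine Groth.L07.OpenEquiv.isUnivOpenAt_of_components f y hy fun z hz hzmax => ?_
    obtain ⟨Y₀, hY₀, hsub⟩ := exists_mem_irreducibleComponents_subset_of_isIrreducible _
      (isIrreducible_singleton (x := y)).closure
    obtain ⟨η, hη⟩ := QuasiSober.sober hY₀.1 (isClosed_of_mem_irreducibleComponents Y₀ hY₀)
    obtain ⟨Z, hZ, hzZ, hZY, hdim⟩ := h z hz Y₀ hY₀ (hsub (subset_closure rfl))
    obtain ⟨ζ, hζ⟩ := QuasiSober.sober hZ.1 (isClosed_of_mem_irreducibleComponents Z hZ)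
    obtain rfl := hζ.def
    have hfζ : f ζ = η := by
      refine IsGenericPoint.eq (S := Y₀) ?_ hη
      show closure {f ζ} = Y₀
      rw [← Groth.L07.Equidim.closure_image_closure' f.continuous ζ]
      exact hZY
    have hd := (Groth.L07.OpenEquiv.localDim_eq_fibreDimAt f z hzmax (closure {ζ})
      (closure_minimal (Set.singleton_subset_iff.mpr hzZ) isClosed_closure) ⟨hzZ, rfl⟩).symm.trans (hdim η hη)
    refine ⟨ζ, specializes_iff_mem_closure.mpr hzZ, ?_, ?_⟩
    · rw [hfζ]
      exact (Groth.L07.EquidimQF.closure_singleton_mem_irreducibleComponents_iff η).mp (by rw [hη.def]; exact hY₀)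
    · rw [hd]; subst hfζ; rfl
  tfae_finish

end Groth.Agent.S4938
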