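import Groth.Statements.S4939
import Groth.Agent.L07.EquidimPoint
import Groth.Agent.L07.UnivOpenAt
import Mathlib.Tactic.TFAE

set_option autoImplicit false
set_option linter.style.haveILetI false
open CategoryTheory AlgebraicGeometry
universe u v w
open EGA43

namespace Groth.Agent.S4939

/-- Suppose Y is a locally Noetherian scheme and f : X ⟶ Y is locally of finite type; take a point x of
X whose image y = f x is geometrically unibranch on Y. Then these three conditions are equivalent:
a) f is equidimensional at x; b) O_{X,x} is an equidimensional local ring, and f is open at every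
generic point of an irreducible component of the fibre X_y that contains x; c) O_{X,x} is
equidimensional, and f is universally open at every such generic point of an irreducible component
of X_y passing through x. (Not formalized here is the additional claim that, when these hold,
restricting f to any reduced irreducible component of X through x gives a morphism equidimensional
at x and universally open at the points of the components of its fibre through x.) -/
theorem result {X Y : Scheme.{u}} [IsLocallyNoetherian Y] (f : X ⟶ Y)
    [LocallyOfFiniteType f] (x : X) (hy : CAlg2.IsGeomUnibranch (Y.presheaf.stalk (f.base x))) :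
    List.TFAE [EGA43.IsEquidimAt f x,
      EGA4.IsEquidim (X.presheaf.stalk x) ∧ (∀ z : ↥(f.fiber (f.base x)), f.asFiber x ∈ closure {z} →
        (∀ z' : ↥(f.fiber (f.base x)), z ∈ closure {z'} → z' = z) → EGA43.IsOpenAt f.base ((f.fiberι (f.base x)).base z)),
      EGA4.IsEquidim (X.presheaf.stalk x) ∧ (∀ z : ↥(f.fiber (f.base x)), f.asFiber x ∈ closure {z} →
        (∀ z' : ↥(f.fiber (f.base x)), z ∈ closure {z'} → z' = z) → EGA43.IsUnivOpenAt f ((f.fiberι (f.base x)).base z))] := by
  tfae_have 1 → 3 := fun h =>
    ⟨Groth.L07.EquidimPoint.isEquidim_stalk f x hy h, fun z hz _ => by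
      have hzx := (specializes_iff_mem_closure.mpr hz).map (f.fiberι (f.base x)).continuous
      rw [f.fiberι_asFiber] at hzx
      refine Groth.L07.EquidimPoint.isUnivOpenAt_generization f x _ ?_ hzx h
      rw [Groth.L07.Equidim.apply_fiberι]
      exact hy⟩
  tfae_have 3 → 2 := fun h =>
    ⟨h.1, fun z hz hmax => Groth.L07.UnivOpenAt.of_isPullback (CategoryTheory.IsPullback.of_id_fst (f := f))
      (h.2 z hz hmax) _ rfl⟩
  tfae_have 2 → 1 := fun h => by
    refine Groth.L07.EquidimPoint.isEquidimAt_of_isOpenAt f x hy h.1 fun z hzx hfz hzmax => ?_
    obtain ⟨c, rfl⟩ : z ∈ Set.range (f.fiberι (f.base x)) := by rw [f.range_fiberι]; exact hfz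
    refine h.2 c (specializes_iff_mem_closure.mp ((f.fiberι (f.base x)).isEmbedding.isInducing.specializes_iff.mp
      (by rw [f.fiberι_asFiber]; exact hzx))) fun c' hc' => (f.fiberι (f.base x)).isEmbedding.injective ?_
    exact hzmax _ ((Groth.L07.Equidim.apply_fiberι f _ c').trans (Groth.L07.Equidim.apply_fiberι f _ c).symm)
      ((specializes_iff_mem_closure.mpr hc').map (f.fiberι (f.base x)).continuous)
  tfae_finish

end Groth.Agent.S4939
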