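import Groth.Statements.S4944
import Groth.Agent.L07.QuasiSection

set_option autoImplicit false
set_option linter.style.haveILetI false
open CategoryTheory AlgebraicGeometry
universe u v w
open EGA43

namespace Groth.Agent.S4944

/-- Suppose Y is an irreducible, locally Noetherian scheme and f : X ⟶ Y is locally of finite type. Take
a point x of X at which f is equidimensional and which is closed in its fibre f⁻¹(f x). Then one can
find an irreducible reduced scheme T together with an immersion i : T ⟶ X whose image contains x,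
such that the composite T ⟶ Y is dominant and quasi-finite (meaning locally quasi-finite and of
finite type). -/
theorem result {X Y : Scheme.{u}} [IrreducibleSpace Y]
    [IsLocallyNoetherian Y] (f : X ⟶ Y) [LocallyOfFiniteType f] (x : X) (hf : EGA43.IsEquidimAt f x)
    (hcl : ∀ x' : X, f.base x' = f.base x → x ⤳ x' → x' = x) :
    ∃ (T : Scheme.{u}) (i : T ⟶ X), IsImmersion i ∧ IrreducibleSpace ↥T ∧ IsReduced T ∧ x ∈ Set.range i.base ∧
        LocallyOfFiniteType (i ≫ f) ∧ LocallyQuasiFinite (i ≫ f) ∧ QuasiCompact (i ≫ f) ∧ IsDominant (i ≫ f) := by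
  obtain ⟨e, D, g, hxD, hg, hqf, hmax⟩ := Groth.L07.Equidim.exists_qf_of_isEquidimAt f x hf
  haveI := hqf
  obtain ⟨ζ, hζ, hζmax⟩ := Groth.L07.Equidim.exists_maximal_generization (X := (D : Scheme.{u})) ⟨x, hxD⟩
  obtain ⟨hgζ, -⟩ := hmax ζ hζmax
  obtain ⟨T, i, h1, h2, h3, h4, -, h5, h6, h7, h8⟩ :=
    Groth.L07.QuasiSection.exists_quasiSection f x hcl e D hxD g hg ζ (hζ.map D.ι.continuous) hgζ
  refine ⟨T, i, h1, h2, h3, h4, h5, h6, h7, ⟨?_⟩⟩
  have hη : f (D.ι ζ) = genericPoint Y := by
    rw [← Scheme.Hom.comp_apply, ← hg, Scheme.Hom.comp_apply]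
    exact Groth.L07.QuasiSection.eq_genericPoint_of_maximal _ hgζ
  intro y
  exact closure_mono (Set.singleton_subset_iff.mpr (hη ▸ h8))
    (by rw [(genericPoint_spec Y).def]; exact Set.mem_univ y)

end Groth.Agent.S4944
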