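import Groth.Statements.S4945
import Groth.Agent.L07.QuasiSection
import Groth.Agent.L07.UnivOpenAt
import Mathlib.Tactic.TFAE

set_option autoImplicit false
set_option linter.style.haveILetI false
open CategoryTheory AlgebraicGeometry
universe u v w
open EGA43

namespace Groth.Agent.S4945

/-- Let Y be an irreducible locally Noetherian scheme with generic point η, f : X ⟶ Y a morphism locally
of finite type and y a geometrically unibranch point of Y. The following are equivalent: a) f is
universally open at every point of X_y; b) f is open at every point of X_y; c) for every maximal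
point z of X_y there is an irreducible component Z of X containing z and dominating Y with dim_z(Z ∩
X_y) = dim(Z ∩ X_η); d) for every point x closed in X_y there are an irreducible reduced scheme T
and an immersion T ⟶ X with image containing x such that T ⟶ Y is quasi-finite and dominant. -/
theorem result {X Y : Scheme.{u}} [IrreducibleSpace Y]
    [IsLocallyNoetherian Y] (f : X ⟶ Y) [LocallyOfFiniteType f] (y : Y) (hy : CAlg2.IsGeomUnibranch (Y.presheaf.stalk y)) :
    List.TFAE [∀ x : X, f.base x = y → EGA43.IsUnivOpenAt f x,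
      ∀ x : X, f.base x = y → EGA43.IsOpenAt f.base x,
      ∀ z : X, ∀ hzy : f.base z = y, (∀ z' : X, f.base z' = y → z ∈ closure {z'} → z' = z) →
        ∃ Z ∈ irreducibleComponents (X : Type u), ∃ hz : z ∈ Z, Dense (f.base '' Z) ∧
          FlatMor.localDim ↥(Z ∩ f.base ⁻¹' {y}) ⟨z, ⟨hz, hzy⟩⟩ = topologicalKrullDim ↥(Z ∩ f.base ⁻¹' {genericPoint Y}),
      ∀ x : X, f.base x = y → (∀ x' : X, f.base x' = y → x ⤳ x' → x' = x) →
        ∃ (T : Scheme.{u}) (i : T ⟶ X), IsImmersion i ∧ IrreducibleSpace ↥T ∧ IsReduced T ∧ x ∈ Set.range i.base ∧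
        LocallyOfFiniteType (i ≫ f) ∧ LocallyQuasiFinite (i ≫ f) ∧ QuasiCompact (i ≫ f) ∧ IsDominant (i ≫ f)] := by
  tfae_have 1 → 2 := fun h x hx =>
    Groth.L07.UnivOpenAt.of_isPullback (CategoryTheory.IsPullback.of_id_fst (f := f)) (h x hx) x rfl
  tfae_have 2 → 3 := fun h z hzy hmax => by
    have hmax' : ∀ z' : X, f z' = f z → z' ⤳ z → z' = z := fun z' h1 h2 =>
      hmax z' (h1.trans hzy) (specializes_iff_mem_closure.mp h2)
    obtain ⟨ζ, hζz, hζmax, hfζ, hfd⟩ := Groth.L07.OpenEquiv.exists_component f z hmax' (η := genericPoint Y)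
      (fun U hU => Groth.L07.OpenFibreDim.le_dim_fibre_of_isOpenAt f z hmax' (h z hzy) U hU
        ((genericPoint_spec Y).specializes trivial))
      (fun η' hη' => (hη'.antisymm ((genericPoint_spec Y).specializes trivial)).eq)
    refine ⟨closure {ζ}, (Groth.L07.EquidimQF.closure_singleton_mem_irreducibleComponents_iff ζ).mpr hζmax,
      specializes_iff_mem_closure.mp hζz, ?_, ?_⟩
    · rw [dense_iff_closure_eq, Groth.L07.Equidim.closure_image_closure' f.continuous ζ, hfζ,
        (genericPoint_spec Y).def]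
    · subst hzy
      refine (Groth.L07.OpenEquiv.localDim_eq_fibreDimAt f z hmax' (closure {ζ})
        (closure_minimal (Set.singleton_subset_iff.mpr (specializes_iff_mem_closure.mp hζz)) isClosed_closure) _).trans
        (hfd.symm.trans ?_)
      rw [← hfζ]
      rfl
  tfae_have 3 → 1 := fun h => by
    refine Groth.L07.OpenEquiv.isUnivOpenAt_of_components f y hy fun z hz hzmax => ?_
    obtain ⟨Z, hZ, hzZ, hdense, hdim⟩ := h z hz fun z' h1 h2 =>
      hzmax z' (h1.trans hz.symm) (specializes_iff_mem_closure.mpr h2)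
    obtain ⟨ζ, hζ⟩ := QuasiSober.sober hZ.1 (isClosed_of_mem_irreducibleComponents Z hZ)
    obtain rfl := hζ.def
    have hfζ : f ζ = genericPoint Y := by
      refine IsGenericPoint.eq (S := Set.univ) ?_ (genericPoint_spec Y)
      show closure {f ζ} = Set.univ
      rw [← Groth.L07.Equidim.closure_image_closure' f.continuous ζ]
      exact hdense.closure_eq
    refine ⟨ζ, specializes_iff_mem_closure.mpr hzZ, ?_, ?_⟩
    · rw [hfζ]
      exact fun η' hη' => (hη'.antisymm ((genericPoint_spec Y).specializes trivial)).eq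
    · subst hz
      rw [← (Groth.L07.OpenEquiv.localDim_eq_fibreDimAt f z hzmax (closure {ζ})
        (closure_minimal (Set.singleton_subset_iff.mpr hzZ) isClosed_closure) ⟨hzZ, rfl⟩).symm.trans hdim |>.symm,
        ← hfζ]
      rfl
  tfae_have 3 → 4 := fun h x hx hcl => by
    subst hx
    obtain ⟨z, hzx, hfz, hzmax, hzd⟩ := Groth.L07.OpenEquiv.exists_maximal_fdim_eq f x
    obtain ⟨Z, hZ, hzZ, hdense, hdim⟩ := h z hfz fun z' h1 h2 =>
      hzmax z' (h1.trans hfz.symm) (specializes_iff_mem_closure.mpr h2)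
    obtain ⟨ζ, hζ⟩ := QuasiSober.sober hZ.1 (isClosed_of_mem_irreducibleComponents Z hZ)
    obtain rfl := hζ.def
    have hfζ : f ζ = genericPoint Y := by
      refine IsGenericPoint.eq (S := Set.univ) ?_ (genericPoint_spec Y)
      show closure {f ζ} = Set.univ
      rw [← Groth.L07.Equidim.closure_image_closure' f.continuous ζ]
      exact hdense.closure_eq
    have hζz : ζ ⤳ z := specializes_iff_mem_closure.mpr hzZ
    have hfd : Groth.L07.Equidim.fdim f ζ = FlatMor.fibreDimAt f x := by
      rw [← hzd, Groth.L07.OpenFibreDim.fdim_eq_fibreDimAt f z hzmax,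
        ← Groth.L07.OpenEquiv.localDim_eq_fibreDimAt f z hzmax (closure {ζ})
          (closure_minimal (Set.singleton_subset_iff.mpr hzZ) isClosed_closure) ⟨hzZ, rfl⟩]
      have hdim' : FlatMor.localDim ↥(closure {ζ} ∩ f.base ⁻¹' {f.base z}) ⟨z, ⟨hzZ, rfl⟩⟩ =
          topologicalKrullDim ↥(closure {ζ} ∩ f.base ⁻¹' {genericPoint Y}) := by
        revert hdim
        generalize_proofs p q
        revert p
        rw [← hfz]
        intro p hdim
        exact hdim
      rw [hdim', ← hfζ]
      rfl
    obtain ⟨d, hd⟩ := Groth.L07.OpenEquiv.exists_nat_fibreDimAt f x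
    obtain ⟨U1, hxU1, hU1⟩ := (Groth.L07.FibreDim.fibreDimAt_le_iff f x (d : WithBot ℕ∞)).mp hd.le
    obtain ⟨D, g, hxD, -, hg, hqf⟩ := Groth.L07.Equidim.exists_qf_affineSpace f U1 x hxU1 d hU1
    haveI := hqf
    let pr := 𝔸(ULift.{u} (Fin d); Y) ↘ Y
    haveI : LocallyOfFiniteType (g ≫ pr) := hg ▸ inferInstance
    haveI : LocallyOfFiniteType g := locallyOfFiniteType_of_comp g pr
    let ζD : (D : Scheme.{u}) := ⟨ζ, (hζz.trans hzx).mem_open D.2 hxD⟩
    have hpr : pr (g ζD) = f ζ := by rw [← Scheme.Hom.comp_apply, hg]; rfl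
    have hgmax : ∀ p, p ⤳ g ζD → p = g ζD := by
      refine (Groth.L07.Equidim.affineSpace_maximal_iff _ (g ζD)).mpr ⟨fun η hη => ?_,
        Groth.L07.Equidim.genericPoint_of_fdim _ (g ζD) ?_⟩
      · change η ⤳ pr (g ζD) at hη
        show η = pr (g ζD)
        rw [hpr, hfζ] at hη ⊢
        exact (hη.antisymm ((genericPoint_spec Y).specializes trivial)).eq
      · rw [← Groth.L07.Equidim.fdim_comp g pr (D.ι ≫ f) hg ζD, Groth.L07.Equidim.fdim_comp D.ι f (D.ι ≫ f) rfl ζD]
        refine le_of_eq (Eq.trans ?_ (hfd.trans hd).symm)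
        simp
    obtain ⟨T, i, h1, h2, h3, h4, -, h5, h6, h7, h8⟩ :=
      Groth.L07.QuasiSection.exists_quasiSection f x hcl d D hxD g hg ζD (hζz.trans hzx) hgmax
    refine ⟨T, i, h1, h2, h3, h4, h5, h6, h7, ⟨fun w => ?_⟩⟩
    exact closure_mono (Set.singleton_subset_iff.mpr (hfζ ▸ h8))
      (by rw [(genericPoint_spec Y).def]; exact Set.mem_univ w)
  tfae_have 4 → 2 := fun h x hx => by
    subst hx
    exact Groth.L07.QuasiSection.isOpenAt_of_quasiSections f x hy fun x₁ h1 h2 => h x₁ h1 h2
  tfae_finish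

end Groth.Agent.S4945
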