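import Groth.Statements.S4946
import Groth.Agent.L07.QuasiSection
import Groth.Agent.L07.UnivOpenAt
import Mathlib.AlgebraicGeometry.IdealSheaf.Subscheme

set_option autoImplicit false
set_option linter.style.haveILetI false
open CategoryTheory AlgebraicGeometry
universe u v w
set_option maxSynthPendingDepth 3
set_option backward.isDefEq.respectTransparency.types false
set_option backward.isDefEq.respectTransparency false
open EGA43

namespace Groth.Agent.S4946

/-- Let Y be an irreducible locally Noetherian scheme which is regular of dimension 1 (all local rings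
regular of dimension at most 1), f : X ⟶ Y a morphism locally of finite type and y a point of Y.
Then the following are equivalent: d) every irreducible component of X meeting the fibre X_y
dominates Y; e) for every point x closed in X_y and every irreducible component X_i of X containing
x, there are an irreducible reduced scheme T and an immersion T ⟶ X with image containing x and
contained in X_i, such that T ⟶ Y is quasi-finite and dominant. -/
theorem result {X Y : Scheme.{u}} [IrreducibleSpace Y]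
    [IsLocallyNoetherian Y] (hY : ∀ y : Y, IsRegularLocalRing (Y.presheaf.stalk y) ∧ ringKrullDim (Y.presheaf.stalk y) ≤ 1)
    (f : X ⟶ Y) [LocallyOfFiniteType f] (y : Y) :
    (∀ Z ∈ irreducibleComponents (X : Type u), (Z ∩ f.base ⁻¹' {y}).Nonempty → Dense (f.base '' Z)) ↔
      ∀ x : X, f.base x = y → (∀ x' : X, f.base x' = y → x ⤳ x' → x' = x) →
        ∀ Xi ∈ irreducibleComponents (X : Type u), x ∈ Xi →
          ∃ (T : Scheme.{u}) (i : T ⟶ X), IsImmersion i ∧ IrreducibleSpace ↥T ∧ IsReduced T ∧ x ∈ Set.range i.base ∧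
            Set.range i.base ⊆ Xi ∧
            LocallyOfFiniteType (i ≫ f) ∧ LocallyQuasiFinite (i ≫ f) ∧ QuasiCompact (i ≫ f) ∧ IsDominant (i ≫ f) := by
  have hgen : ∀ t, t ⤳ y → t = y ∨ t = genericPoint Y := by
    intro t ht
    obtain ⟨p, rfl⟩ : t ∈ Set.range (Y.fromSpecStalk y) := by rw [Scheme.range_fromSpecStalk]; exact ht
    haveI : Ring.KrullDimLE 1 (Y.presheaf.stalk y) := Ring.krullDimLE_iff.mpr (by exact_mod_cast (hY y).2)
    haveI := p.2
    rcases Ring.krullDimLE_one_iff.mp (inferInstance : Ring.KrullDimLE 1 (Y.presheaf.stalk y)) p.asIdeal p.2 with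
      hp | hp
    · right
      obtain ⟨q, hq⟩ : genericPoint Y ∈ Set.range (Y.fromSpecStalk y) := by
        rw [Scheme.range_fromSpecStalk]; exact (genericPoint_spec Y).specializes trivial
      have hqp : q ⤳ p := (Y.fromSpecStalk y).isEmbedding.isInducing.specializes_iff.mp
        (by rw [hq]; exact (genericPoint_spec Y).specializes trivial)
      have h1 : q.asIdeal ≤ p.asIdeal := (PrimeSpectrum.le_iff_specializes q p).mpr hqp
      have h2 : q = p := PrimeSpectrum.ext (le_antisymm h1 (hp.2 ⟨q.2, bot_le⟩ h1))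
      rw [← h2]; exact hq
    · left
      have : p = IsLocalRing.closedPoint (Y.presheaf.stalk y) := PrimeSpectrum.ext (IsLocalRing.eq_maximalIdeal hp)
      rw [this]; exact Y.fromSpecStalk_closedPoint
  constructor
  · intro hd x hxy hcl Xi hXi hxXi
    obtain ⟨ζ, hζ⟩ := QuasiSober.sober hXi.1 (isClosed_of_mem_irreducibleComponents Xi hXi)
    obtain rfl := hζ.def
    have hfζ : f ζ = genericPoint Y := by
      refine IsGenericPoint.eq (S := Set.univ) ?_ (genericPoint_spec Y)
      show closure {f ζ} = Set.univ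
      rw [← Groth.L07.Equidim.closure_image_closure' f.continuous ζ]
      exact (hd _ hXi ⟨x, hxXi, hxy⟩).closure_eq
    let C : TopologicalSpace.Closeds X := ⟨closure {ζ}, isClosed_closure⟩
    let Z := (Scheme.IdealSheafData.vanishingIdeal C).subscheme
    let ι : Z ⟶ X := (Scheme.IdealSheafData.vanishingIdeal C).subschemeι
    have hrange : Set.range ι = closure {ζ} := by
      rw [Scheme.IdealSheafData.range_subschemeι, Scheme.IdealSheafData.coe_support_vanishingIdeal]
      rfl
    obtain ⟨x', hx'⟩ : x ∈ Set.range ι := hrange.symm ▸ hxXi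
    obtain ⟨ζ', hζ'⟩ : ζ ∈ Set.range ι := hrange.symm ▸ subset_closure rfl
    have hgenZ : ∀ q : Z, ζ' ⤳ q := fun q => ι.isEmbedding.isInducing.specializes_iff.mp
      (hζ' ▸ specializes_iff_mem_closure.mpr (hrange ▸ ⟨q, rfl⟩))
    let f' := ι ≫ f
    haveI : IsLocallyNoetherian Z := LocallyOfFiniteType.isLocallyNoetherian f'
    haveI : LocallyOfFinitePresentation f' :=
      LocallyOfFinitePresentation.iff_locallyOfFiniteType.mpr inferInstance
    have hfx' : f' x' = y := by rw [Scheme.Hom.comp_apply, hx']; exact hxy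
    have hfζ' : f' ζ' = genericPoint Y := by rw [Scheme.Hom.comp_apply, hζ']; exact hfζ
    have hopen : ∀ w, f' w = f' x' → EGA43.IsOpenAt f'.base w := fun w hw => by
      refine Groth.L07.UnivOpenAt.isOpenAt_of_lfp f' w fun U hU t ht => ?_
      obtain ⟨U0, hU0, hU0o, hwU⟩ := mem_nhds_iff.mp hU
      rcases hgen t (by rw [← hfx', ← hw]; exact ht) with rfl | rfl
      · exact ⟨w, mem_of_mem_nhds hU, hw.trans hfx'⟩
      · exact ⟨ζ', hU0 ((hgenZ w).mem_open hU0o hwU), hfζ'⟩
    obtain ⟨z, ζ₁, hzx, -, -, -, hζ₁z, hζ₁max, hfζ₁, hfd⟩ :=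
      Groth.L07.OpenEquiv.exists_component_through f' x' (η := genericPoint Y)
        (fun η' hη' => (hη'.antisymm ((genericPoint_spec Y).specializes trivial)).eq)
        (fun U => Groth.L07.OpenEquiv.dim_fibre_le_of_isOpenAt f' (f' x') hopen U
          ((genericPoint_spec Y).specializes trivial))
    obtain ⟨d, hd'⟩ := Groth.L07.OpenEquiv.exists_nat_fibreDimAt f' x'
    obtain ⟨U1, hxU1, hU1⟩ := (Groth.L07.FibreDim.fibreDimAt_le_iff f' x' (d : WithBot ℕ∞)).mp hd'.le
    obtain ⟨D, g, hxD, -, hg, hqf⟩ := Groth.L07.Equidim.exists_qf_affineSpace f' U1 x' hxU1 d hU1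
    haveI := hqf
    let pr := 𝔸(ULift.{u} (Fin d); Y) ↘ Y
    haveI : LocallyOfFiniteType (g ≫ pr) := hg ▸ inferInstance
    haveI : LocallyOfFiniteType g := locallyOfFiniteType_of_comp g pr
    let ζD : (D : Scheme.{u}) := ⟨ζ₁, (hζ₁z.trans hzx).mem_open D.2 hxD⟩
    have hpr : pr (g ζD) = f' ζ₁ := by rw [← Scheme.Hom.comp_apply, hg]; rfl
    have hgmax : ∀ p, p ⤳ g ζD → p = g ζD := by
      refine (Groth.L07.Equidim.affineSpace_maximal_iff _ (g ζD)).mpr ⟨fun η hη => ?_,
        Groth.L07.Equidim.genericPoint_of_fdim _ (g ζD) ?_⟩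
      · change η ⤳ pr (g ζD) at hη
        show η = pr (g ζD)
        rw [hpr, hfζ₁] at hη ⊢
        exact (hη.antisymm ((genericPoint_spec Y).specializes trivial)).eq
      · rw [← Groth.L07.Equidim.fdim_comp g pr (D.ι ≫ f') hg ζD,
          Groth.L07.Equidim.fdim_comp D.ι f' (D.ι ≫ f') rfl ζD]
        refine le_of_eq (Eq.trans ?_ (hfd.trans hd').symm)
        simp
    obtain ⟨T, i, h1, h2, h3, h4, -, h5, h6, h7, h8⟩ := Groth.L07.QuasiSection.exists_quasiSection f' x'
      (fun w hw hsp => ι.isEmbedding.injective (by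
        have h1 := hsp.map ι.continuous
        rw [hx'] at h1 ⊢
        exact hcl _ ((Scheme.Hom.comp_apply _ _ _).symm.trans (hw.trans hfx')) h1))
      d D hxD g hg ζD (hζ₁z.trans hzx) hgmax
    haveI := h1
    refine ⟨T, i ≫ ι, inferInstance, h2, h3, ?_, ?_, ?_⟩
    · obtain ⟨t, ht⟩ := h4
      exact ⟨t, by rw [Scheme.Hom.comp_apply]; exact (congrArg ι ht).trans hx'⟩
    · rintro _ ⟨t, rfl⟩
      rw [Scheme.Hom.comp_apply, ← hrange]
      exact ⟨_, rfl⟩
    · rw [Category.assoc]
      refine ⟨h5, h6, h7, ⟨fun w => ?_⟩⟩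
      exact closure_mono (Set.singleton_subset_iff.mpr (hfζ₁ ▸ h8))
        (by rw [(genericPoint_spec Y).def]; exact Set.mem_univ w)
  · intro he Z hZ hne
    obtain ⟨x₀, hx₀Z, hx₀⟩ := hne
    obtain rfl : f x₀ = y := hx₀
    haveI : LocallyOfFiniteType (f.fiberToSpecResidueField (f x₀)) :=
      MorphismProperty.pullback_snd _ _ inferInstance
    haveI : JacobsonSpace (f.fiber (f x₀)) :=
      LocallyOfFiniteType.jacobsonSpace (f.fiberToSpecResidueField (f x₀))
    obtain ⟨c, hcZ, hccl⟩ := nonempty_inter_closedPoints (Z := f.fiberι (f x₀) ⁻¹' Z)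
      ⟨f.asFiber x₀, show f.fiberι (f x₀) (f.asFiber x₀) ∈ Z by rw [f.fiberι_asFiber]; exact hx₀Z⟩
      ((isClosed_of_mem_irreducibleComponents Z hZ).preimage (f.fiberι (f x₀)).continuous).isLocallyClosed
    obtain ⟨T, i, -, -, -, -, hsub, -, -, -, hdom⟩ := he (f.fiberι (f x₀) c)
      (Groth.L07.Equidim.apply_fiberι f (f x₀) c) (fun x' hx' hsp => by
        obtain ⟨c', rfl⟩ : x' ∈ Set.range (f.fiberι (f x₀)) := by rw [f.range_fiberι]; exact hx'
        have h' : c' ∈ closure ({c} : Set _) := specializes_iff_mem_closure.mp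
          ((f.fiberι (f x₀)).isEmbedding.isInducing.specializes_iff.mp hsp)
        rw [show closure ({c} : Set _) = {c} from IsClosed.closure_eq hccl] at h'
        exact congrArg _ h') Z hZ hcZ
    refine Dense.mono ?_ hdom.denseRange
    rintro _ ⟨t, rfl⟩
    exact ⟨i t, hsub ⟨t, rfl⟩, (Scheme.Hom.comp_apply _ _ _).symm⟩

end Groth.Agent.S4946
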