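import Groth.Statements.S4947
import Groth.Agent.L07.OrderValuation
import Mathlib.RingTheory.AlgebraicIndependent.Basic
import Mathlib.FieldTheory.IntermediateField.Adjoin.Basic

set_option autoImplicit false
universe u
open EGA43

namespace Groth.Agent.S4947

open Groth.L07 Groth.L07.Order MvPolynomial IsLocalRing

/-- Let A be a regular local ring which is not a field, K its fraction field and k its residue field.
Then there is a discrete valuation ring V between A and K, with fraction field K, dominating A,
whose residue field is a purely transcendental extension of k: for some ring map from k compatible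
with A → V there is an algebraically independent family generating the residue field of V as a field
over k. -/
theorem result (A : Type u) [CommRing A] [IsRegularLocalRing A]
    (hA : ¬ IsField A) :
    ∃ (V : Subalgebra A (FractionRing A)) (_ : IsDomain V) (_ : IsDiscreteValuationRing V), IsFractionRing V (FractionRing A) ∧
      (IsLocalRing.maximalIdeal V).comap (algebraMap A V) = IsLocalRing.maximalIdeal A ∧
      ∃ (φ : IsLocalRing.ResidueField A →+* IsLocalRing.ResidueField V),
        φ.comp (IsLocalRing.residue A) = (IsLocalRing.residue V).comp (algebraMap A V) ∧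
        letI := φ.toAlgebra
        ∃ (ι : Type u) (t : ι → IsLocalRing.ResidueField V), AlgebraicIndependent (IsLocalRing.ResidueField A) t ∧
          IntermediateField.adjoin (IsLocalRing.ResidueField A) (Set.range t) = ⊤ := by
  classical
  haveI : IsDomain A := Groth.L01.isDomain_of_regular A
  haveI hdvr := isDVR_ordRing hA
  obtain ⟨d, x, -, hx, hq⟩ := exists_regular_parameters A
  obtain ⟨m, rfl⟩ : ∃ m, d = m + 1 := by
    refine ⟨d - 1, ?_⟩
    by_contra h
    obtain rfl : d = 0 := by omega
    refine hA (IsLocalRing.isField_iff_maximalIdeal_eq.mpr ?_)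
    rw [← hx, Set.range_eq_empty, Ideal.span_empty]
  haveI hloc : IsLocalHom (algebraMap A (ordRing A)) :=
    ⟨fun a ha => by simpa using isUnit_algebraMap_iff.mp ha⟩
  refine ⟨ordRing A, inferInstance, hdvr, isFractionRing_ordRing,
    ((IsLocalRing.local_hom_TFAE (algebraMap A (ordRing A))).out 0 4).mp hloc,
    IsLocalRing.ResidueField.map (algebraMap A (ordRing A)),
    IsLocalRing.ResidueField.map_comp_residue _, ?_⟩
  letI algk : Algebra (ResidueField A) (ResidueField (ordRing A)) := (IsLocalRing.ResidueField.map (algebraMap A (ordRing A))).toAlgebra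
  set K := FractionRing A
  have hx0 : HasOrd (x 0) 1 := by
    refine ⟨by rw [pow_one, ← hx]; exact Ideal.subset_span (Set.mem_range_self 0), fun h => ?_⟩
    have := hq 1 (X 0) (isHomogeneous_X _ 0) (by rw [hx, eval_X]; exact h) (Finsupp.single 0 1)
    rw [coeff_X, if_pos rfl, hx] at this
    exact (maximalIdeal.isMaximal A).ne_top ((Ideal.eq_top_iff_one _).mpr this)
  have hx0' := algebraMap_ne_zero_of_hasOrd hx0
  let e : Fin (m + 1) → ordRing A := fun i => ⟨_, div_mem_ordRing hx0 (y := x i)
    (by rw [pow_one, ← hx]; exact Ideal.subset_span (Set.mem_range_self i))⟩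
  have he : ∀ i, algebraMap A (ordRing A) (x i) = algebraMap A (ordRing A) (x 0) * e i := fun i =>
    Subtype.ext (by
      show algebraMap A K (x i) = algebraMap A K (x 0) * (algebraMap A K (x i) / algebraMap A K (x 0))
      rw [mul_div_cancel₀ _ hx0'])
  have he0 : e 0 = 1 := Subtype.ext (div_self hx0')
  have heval : ∀ {n : ℕ} {P : MvPolynomial (Fin (m + 1)) A}, P.IsHomogeneous n →
      algebraMap A (ordRing A) (eval x P) = algebraMap A (ordRing A) (x 0) ^ n * aeval e P := by
    intro n P hP
    rw [← eval_homogeneous_smul hP, ← funext he, aeval_def, eval₂_comp]; rfl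
  let t : Fin m → ResidueField (ordRing A) := fun i => residue _ (e i.succ)
  have hres : ∀ G : MvPolynomial (Fin m) A, aeval t (MvPolynomial.map (residue A) G) =
      residue _ (aeval (fun i => e i.succ) G) := by
    intro G
    induction G using MvPolynomial.induction_on with
    | C a =>
      rw [map_C, aeval_C, aeval_C]
      rfl
    | add f g hf hg => simp only [map_add, hf, hg]
    | mul_X f i hf => simp only [map_mul, map_X, aeval_X, hf]; rfl
  refine ⟨ULift.{u} (Fin m), fun i => t i.down, ?_, ?_⟩
  · suffices h : AlgebraicIndependent (ResidueField A) t from h.comp _ ULift.down_injective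
    rw [algebraicIndependent_iff]
    intro G hG
    obtain ⟨G', rfl⟩ := MvPolynomial.map_surjective (residue A) residue_surjective G
    rw [hres] at hG
    let N := G'.totalDegree
    let deg : (Fin m →₀ ℕ) → ℕ := fun d => ∑ i, d i
    have hdeg : ∀ d ∈ G'.support, deg d ≤ N := fun d hd => by
      refine le_trans ?_ (le_totalDegree hd)
      rw [Finsupp.sum_fintype _ _ (fun _ => rfl)]
    let H : MvPolynomial (Fin (m + 1)) A :=
      ∑ d ∈ G'.support, monomial (Finsupp.cons (N - deg d) d) (G'.coeff d)
    have hH : H.IsHomogeneous N := by
      refine IsHomogeneous.sum _ _ _ fun d hd => isHomogeneous_monomial _ ?_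
      rw [Finsupp.degree_eq_sum, Fin.sum_univ_succ]
      simp only [Finsupp.cons_zero, Finsupp.cons_succ]
      have := hdeg d hd
      simp only [deg] at this ⊢
      omega
    have hHe : aeval e H = aeval (fun i => e i.succ) G' := by
      conv_rhs => rw [← G'.support_sum_monomial_coeff]
      simp only [H, map_sum, aeval_monomial]
      refine Finset.sum_congr rfl fun d _ => ?_
      rw [Finsupp.prod_fintype _ _ (fun _ => pow_zero _), Finsupp.prod_fintype _ _ (fun _ => pow_zero _),
        Fin.prod_univ_succ]
      simp [he0]
    obtain ⟨y, s, n, hs, hy, hyz⟩ := (aeval e H).2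
    have hzero : eval x H ∈ maximalIdeal A ^ (N + 1) := by
      have hnu : ¬ IsUnit (aeval e H) := by
        rw [hHe, ← IsLocalRing.residue_ne_zero_iff_isUnit, not_not]; exact hG
      have hy1 : y ∈ maximalIdeal A ^ (n + 1) := by
        by_contra hc
        exact hnu ((isUnit_iff_hasOrd hs hy hyz).mpr ⟨hy, hc⟩)
      have heq : eval x H * s = x 0 ^ N * y := by
        apply IsFractionRing.injective A K
        have := congrArg Subtype.val (heval hH)
        simp only [Subalgebra.coe_algebraMap, MulMemClass.coe_mul, SubmonoidClass.coe_pow] at this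
        rw [map_mul, map_mul, map_pow, this, mul_assoc, hyz]
      by_contra hc
      have := (HasOrd.mul (⟨hx ▸ QReg.eval_mem_span_pow x hH, hc⟩ : HasOrd (eval x H) N) hs).2
      apply this
      rw [heq, show N + n + 1 = N + (n + 1) by omega, pow_add]
      exact Ideal.mul_mem_mul (Ideal.pow_mem_pow (by simpa using hx0.1) N) hy1
    ext d
    rw [coeff_map, coeff_zero, IsLocalRing.residue_eq_zero_iff]
    by_cases hd : d ∈ G'.support
    · have := hq N H hH (by rw [hx]; exact hzero) (Finsupp.cons (N - deg d) d)
      rw [hx] at this
      simp only [H, coeff_sum, coeff_monomial] at this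
      rw [Finset.sum_eq_single d (fun b _ hb => if_neg fun h => hb (Finsupp.cons_injective2 h).2)
        (fun h => absurd hd h), if_pos rfl] at this
      exact this
    · rw [notMem_support_iff.mp hd]; exact Submodule.zero_mem _
  · rw [eq_top_iff]
    intro z _
    obtain ⟨v, rfl⟩ := IsLocalRing.residue_surjective z
    obtain ⟨y, s, n, hs, hy, hv⟩ := v.2
    obtain ⟨F, hF, rfl⟩ := QReg.exists_homogeneous_of_mem_span_pow x n (hx ▸ hy)
    obtain ⟨G, hG, rfl⟩ := QReg.exists_homogeneous_of_mem_span_pow x n (hx ▸ hs.1)
    have hx0n : algebraMap A (ordRing A) (x 0) ^ n ≠ 0 :=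
      pow_ne_zero _ fun h0 => hx0' (congrArg Subtype.val h0)
    have hv' : v * aeval e G = aeval e F := by
      apply mul_left_cancel₀ hx0n
      rw [mul_left_comm, ← heval hG, ← heval hF]
      exact Subtype.ext hv
    have hGu : IsUnit (aeval e G) :=
      (isUnit_iff_hasOrd (v := aeval e G) (hx0.pow_one' n) (y := eval x G) hs.1 (by
        have := congrArg Subtype.val (heval hG)
        simp only [Subalgebra.coe_algebraMap, MulMemClass.coe_mul, SubmonoidClass.coe_pow] at this
        rw [map_pow, this, mul_comm])).mpr hs
    have hmem : ∀ P : MvPolynomial (Fin (m + 1)) A, residue _ (aeval e P) ∈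
        IntermediateField.adjoin (ResidueField A) (Set.range fun i : ULift.{u} (Fin m) => t i.down) := by
      intro P
      induction P using MvPolynomial.induction_on with
      | C a =>
        rw [aeval_C]
        exact IntermediateField.algebraMap_mem _ (residue A a)
      | add f g hf hg => rw [map_add, map_add]; exact add_mem hf hg
      | mul_X f i hf =>
        rw [map_mul, map_mul, aeval_X]
        refine mul_mem hf ?_
        rcases Fin.eq_zero_or_eq_succ i with rfl | ⟨j, rfl⟩
        · rw [he0, map_one]; exact one_mem _
        · exact IntermediateField.subset_adjoin _ _ ⟨⟨j⟩, rfl⟩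
    have : residue _ v = residue _ (aeval e F) / residue _ (aeval e G) := by
      rw [eq_div_iff ((IsLocalRing.residue_ne_zero_iff_isUnit _).mpr hGu), ← map_mul, hv']
    rw [this]
    exact div_mem (hmem F) (hmem G)

end Groth.Agent.S4947
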