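import Groth.Statements.S4952
import Groth.Agent.L07.SectionComp

set_option autoImplicit false
set_option linter.style.haveILetI false
open CategoryTheory AlgebraicGeometry
universe u v w
open EGA43

namespace Groth.Agent.S4952

/-- Let Y be a locally Noetherian scheme, f : X ⟶ Y a morphism locally of finite type and g : Y ⟶ X a
section of f; for z in Y let X_z^0 be the connected component of the fibre f⁻¹(z) containing g z (a
subset of X with the induced topology). Let y be a point of Y and y' a generization of y. (i) If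
there is an irreducible component Z of f⁻¹(y') containing g y' with dim Z = dim X_{y'}^0, then dim
X_y^0 ≥ dim X_{y'}^0. (ii) If moreover X_y^0 is irreducible and dim X_y^0 = dim X_{y'}^0, then X_y^0
is contained in the closure of X_{y'}^0 in X. -/
theorem result {X Y : Scheme.{u}} [IsLocallyNoetherian Y] (f : X ⟶ Y)
    [LocallyOfFiniteType f] (g : Y ⟶ X) (hg : g ≫ f = 𝟙 Y) (y y' : Y) (hy : y' ⤳ y)
    (hZ : ∃ Z : Set X, Z ⊆ f.base ⁻¹' {y'} ∧ IsIrreducible Z ∧
      (∀ Z' : Set X, IsIrreducible Z' → Z' ⊆ f.base ⁻¹' {y'} → Z ⊆ Z' → Z' = Z) ∧ g.base y' ∈ Z ∧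
      topologicalKrullDim ↥Z = topologicalKrullDim ↥(connectedComponentIn (f.base ⁻¹' {y'}) (g.base y'))) :
    topologicalKrullDim ↥(connectedComponentIn (f.base ⁻¹' {y'}) (g.base y')) ≤ topologicalKrullDim ↥(connectedComponentIn (f.base ⁻¹' {y}) (g.base y)) ∧
      (IsIrreducible (connectedComponentIn (f.base ⁻¹' {y}) (g.base y)) → topologicalKrullDim ↥(connectedComponentIn (f.base ⁻¹' {y}) (g.base y)) = topologicalKrullDim ↥(connectedComponentIn (f.base ⁻¹' {y'}) (g.base y')) →
        connectedComponentIn (f.base ⁻¹' {y}) (g.base y) ⊆ closure (connectedComponentIn (f.base ⁻¹' {y'}) (g.base y'))) := by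
  obtain ⟨Z, hZy, hZi, hmax, hgZ, hdim⟩ := hZ
  obtain ⟨ζ, hfζ, hsp, hZe⟩ := Groth.L07.SectionComp.exists_generic_of_maximal f y' Z hZy hZi hmax
  have hd : topologicalKrullDim ↥(connectedComponentIn (f.base ⁻¹' {y'}) (g.base y')) = Groth.L07.Equidim.fdim f ζ := by
    rw [← hdim, hZe]; rfl
  obtain ⟨z, -, hz, hle⟩ := Groth.L07.SectionComp.dim_le_of_specializes f g hg hy (hsp _ hgZ)
  refine ⟨hd.le.trans (hle.trans (Groth.L07.SectionComp.fdim_le_dim f g hz)), fun hC heq => ?_⟩
  refine (Groth.L07.SectionComp.subset_closure_of_dim_le f g hg hy (hsp _ hgZ) hC (heq.trans hd).le).trans ?_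
  refine closure_mono (Set.singleton_subset_iff.mpr ?_)
  exact (Groth.L07.SectionComp.mem_of_specializes f g (hsp _ hgZ) hfζ
    (Groth.L07.SectionComp.apply_section f g hg y')).mp (Groth.L07.SectionComp.mem_comp f g hg y')

end Groth.Agent.S4952
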