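import Groth.Statements.S4957
import Groth.Agent.L07.Count.SectionPiece
import Groth.Agent.L07.FibreDimSemi

set_option autoImplicit false
set_option linter.style.haveILetI false
open CategoryTheory AlgebraicGeometry
universe u v w
open EGA43

namespace Groth.Agent.S4957

/-- Let f : X ⟶ Y be a separated morphism of finite presentation with a section g : Y ⟶ X, and X_z^0 the
connected component of f⁻¹(z) containing g z. Let y be a point such that X_y^0, as an open subscheme
of the fibre X_y, is proper over κ(y). Then for every generization y' of y one has dim X_{y'}^0 ≤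
dim X_y^0. -/
theorem result {X Y : Scheme.{u}} (f : X ⟶ Y) [IsSeparated f]
    [LocallyOfFinitePresentation f] [QuasiCompact f] [QuasiSeparated f] (g : Y ⟶ X) (hg : g ≫ f = 𝟙 Y) (y : Y)
    (hop : IsOpen ((f.fiberι y).base ⁻¹' connectedComponentIn (f.base ⁻¹' {y}) (g.base y)))
    (hprop : IsProper (Scheme.Opens.ι (⟨(f.fiberι y).base ⁻¹' connectedComponentIn (f.base ⁻¹' {y}) (g.base y), hop⟩ : (f.fiber y).Opens) ≫
      f.fiberToSpecResidueField y))
    (y' : Y) (hy' : y' ⤳ y) :
    topologicalKrullDim ↥(connectedComponentIn (f.base ⁻¹' {y'}) (g.base y')) ≤ topologicalKrullDim ↥(connectedComponentIn (f.base ⁻¹' {y}) (g.base y)) := by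
  have hgy : ∀ w, f (g w) = w := fun w => by rw [← Scheme.Hom.comp_apply, hg]; rfl
  have e : (f.fiberι y).base ⁻¹' MoreMor.sectionComponents f g =
      (f.fiberι y).base ⁻¹' connectedComponentIn (f.base ⁻¹' {y}) (g.base y) := by
    ext z
    have hz : f (f.fiberι y z) = y := (f.range_fiberι y).subset ⟨z, rfl⟩
    exact Groth.L07.SectionComp.mem_sectionComponents_iff f g hz
  obtain ⟨U, hyU, hC, hU⟩ := Groth.L07.Count.sectionComponents_proper_nhd f g hg y (e ▸ hop) (by
    have h2 : (⟨_, e ▸ hop⟩ : (f.fiber y).Opens) = ⟨_, hop⟩ := TopologicalSpace.Opens.ext e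
    rw [h2]; exact hprop)
  let I := Scheme.IdealSheafData.vanishingIdeal (X := (f ⁻¹ᵁ U).toScheme)
    (⟨(f ⁻¹ᵁ U).ι.base ⁻¹' MoreMor.sectionComponents f g, hC⟩ : TopologicalSpace.Closeds ↥(f ⁻¹ᵁ U))
  let h := I.subschemeι ≫ (f ∣_ U)
  haveI : IsProper h := hU
  have hy'U : y' ∈ U := hy'.mem_open U.2 hyU
  let ψ : I.subscheme → X := fun t => (f ⁻¹ᵁ U).ι (I.subschemeι t)
  have hψ : Topology.IsEmbedding ψ := (f ⁻¹ᵁ U).ι.isOpenEmbedding.isEmbedding.comp I.subschemeι.isClosedEmbedding.isEmbedding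
  have key : ∀ u : U.toScheme, topologicalKrullDim (h.fiber u) =
      topologicalKrullDim (connectedComponentIn (f.base ⁻¹' {U.ι u}) (g.base (U.ι u)) : Set X) := by
    intro u
    refine (Groth.L22.SchemeDim.topologicalKrullDim_eq_of_isEmbedding
      (hψ.comp (h.fiberι u).isEmbedding) ?_).symm
    rw [Set.range_comp, Scheme.Hom.range_fiberι]
    have hbase : ∀ t, f (ψ t) = U.ι (h t) := fun t => by
      show f ((f ⁻¹ᵁ U).ι (I.subschemeι t)) = U.ι ((f ∣_ U) (I.subschemeι t))
      exact (congrArg (fun m : (f ⁻¹ᵁ U).toScheme ⟶ Y => m (I.subschemeι t)) (morphismRestrict_ι f U)).symm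
    ext x
    constructor
    · rintro ⟨t, ht, rfl⟩
      have hm : I.subschemeι t ∈ Set.range I.subschemeι := ⟨t, rfl⟩
      rw [Scheme.IdealSheafData.range_subschemeι] at hm
      rw [show (I.support : Set ↥(f ⁻¹ᵁ U).toScheme) = (f ⁻¹ᵁ U).ι.base ⁻¹' MoreMor.sectionComponents f g from
        Scheme.IdealSheafData.coe_support_vanishingIdeal _] at hm
      have hfx : f (ψ t) = U.ι u := (hbase t).trans (congrArg U.ι ht)
      exact (Groth.L07.SectionComp.mem_sectionComponents_iff f g hfx).mp hm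
    · intro hx
      have hfx : f x = U.ι u := connectedComponentIn_subset (f.base ⁻¹' {U.ι u}) _ hx
      have hxU : x ∈ f ⁻¹ᵁ U := show f x ∈ U from hfx ▸ u.2
      have hm : (⟨x, hxU⟩ : (f ⁻¹ᵁ U).toScheme) ∈ Set.range I.subschemeι := by
        rw [Scheme.IdealSheafData.range_subschemeι, show (I.support : Set ↥(f ⁻¹ᵁ U).toScheme) = (f ⁻¹ᵁ U).ι.base ⁻¹' MoreMor.sectionComponents f g from
          Scheme.IdealSheafData.coe_support_vanishingIdeal _]
        exact (Groth.L07.SectionComp.mem_sectionComponents_iff f g hfx).mpr hx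
      obtain ⟨t, ht⟩ := hm
      refine ⟨t, U.ι.isOpenEmbedding.injective ?_, show (f ⁻¹ᵁ U).ι (I.subschemeι t) = x by rw [ht]; rfl⟩
      rw [← hbase]
      show f ((f ⁻¹ᵁ U).ι (I.subschemeι t)) = _
      rw [ht]
      exact hfx
  have hop' := Groth.L07.FibreDim.isOpen_fiber_dim_le h h.isClosedMap
    (topologicalKrullDim (connectedComponentIn (f.base ⁻¹' {y}) (g.base y) : Set X))
  have hy0 : (⟨y, hyU⟩ : U.toScheme) ∈ {s : U.toScheme | topologicalKrullDim (h.fiber s) ≤
      topologicalKrullDim (connectedComponentIn (f.base ⁻¹' {y}) (g.base y) : Set X)} := (key ⟨y, hyU⟩).le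
  have hsp : (⟨y', hy'U⟩ : U.toScheme) ⤳ ⟨y, hyU⟩ := U.ι.isOpenEmbedding.isInducing.specializes_iff.mp hy'
  exact (key ⟨y', hy'U⟩).symm.trans_le (hsp.mem_open hop' hy0)

end Groth.Agent.S4957
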