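import Groth.Statements.S4959
import Mathlib.AlgebraicGeometry.Morphisms.Proper
import Mathlib.AlgebraicGeometry.Morphisms.Flat

set_option autoImplicit false
set_option linter.style.haveILetI false
open CategoryTheory AlgebraicGeometry
universe u v w
open EGA43

namespace Groth.Agent.S4959

open CategoryTheory.Limits in
/-- Let f : X ⟶ Y be a morphism of schemes and g : Y' ⟶ Y a surjective morphism which is either proper,
or flat and quasi-compact. If the base change f' : X ×_Y Y' ⟶ Y' is universally submersive (all of
its base changes are topological quotient maps), then f is universally submersive. -/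
theorem result {X Y Y' : Scheme.{u}} (f : X ⟶ Y) (g : Y' ⟶ Y) [Surjective g]
    (hg : IsProper g ∨ (Flat g ∧ QuasiCompact g))
    (h : MorphismProperty.universally (topologically @Topology.IsQuotientMap) (pullback.snd f g)) :
    MorphismProperty.universally (topologically @Topology.IsQuotientMap) f := by
  have hgq : CategoryTheory.MorphismProperty.universally (topologically @Topology.IsQuotientMap) g := by
    intro X' Y'' i₁ i₂ g' hg'
    have hs : Surjective g' := MorphismProperty.of_isPullback (P := @Surjective) hg'.flip inferInstance
    rcases hg with hp | ⟨hfl, hqc⟩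
    · haveI : IsProper g' := MorphismProperty.of_isPullback (P := @IsProper) hg'.flip hp
      exact g'.isClosedMap.isQuotientMap g'.continuous g'.surjective
    · haveI : Flat g' := MorphismProperty.of_isPullback (P := @Flat) hg'.flip hfl
      haveI : QuasiCompact g' := MorphismProperty.of_isPullback (P := @QuasiCompact) hg'.flip hqc
      exact Flat.isQuotientMap_of_surjective g'
  intro XZ Z i₁ i₂ fZ hZ
  let gW := CategoryTheory.Limits.pullback.fst i₂ g
  let cW := CategoryTheory.Limits.pullback.snd i₂ g
  have sqW : IsPullback gW cW i₂ g := IsPullback.of_hasPullback i₂ g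
  have hq1 : Topology.IsQuotientMap gW.base := hgq cW i₂ gW sqW
  let q := CategoryTheory.Limits.pullback.fst fZ gW
  let fW := CategoryTheory.Limits.pullback.snd fZ gW
  have sq1 : IsPullback q fW fZ gW := IsPullback.of_hasPullback fZ gW
  have big : IsPullback (q ≫ i₁) fW f (cW ≫ g) := by
    rw [← sqW.w]
    exact sq1.paste_horiz hZ.flip
  let j := (IsPullback.of_hasPullback f g).lift (q ≫ i₁) (fW ≫ cW) (by rw [big.w, Category.assoc])
  have sq2 : IsPullback j fW (CategoryTheory.Limits.pullback.snd f g) cW := by
    refine IsPullback.of_right ?_ ((IsPullback.of_hasPullback f g).lift_snd _ _ _) (IsPullback.of_hasPullback f g)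
    rw [(IsPullback.of_hasPullback f g).lift_fst]
    exact big
  have hq2 : Topology.IsQuotientMap fW.base := h j cW fW sq2.flip
  have hcomp : Topology.IsQuotientMap (fZ.base ∘ q.base) := by
    have e : (fZ.base ∘ q.base : _ → Z) = gW.base ∘ fW.base := by
      funext z
      exact congrArg (fun m => m z) sq1.w
    rw [e]
    exact hq1.comp hq2
  exact Topology.IsQuotientMap.of_comp q.continuous fZ.continuous hcomp

end Groth.Agent.S4959
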