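import Groth.Statements.S4971
import Mathlib.RingTheory.Nakayama

set_option autoImplicit false
universe u
open EGA43

namespace Groth.Agent.S4971

/-- Let B be a Noetherian local ring, M, N, P three B-modules with N finitely generated, u : M → N and v
: N → P linear maps with v ∘ u = 0, and t an element of the maximal ideal of B which is P-regular.
If the induced sequence M/tM → N/tN → P/tP is exact, then M → N → P is exact. -/
theorem result {B : Type u} [CommRing B] [IsNoetherianRing B] [IsLocalRing B]
    {M N P : Type u} [AddCommGroup M] [Module B M] [AddCommGroup N] [Module B N] [Module.Finite B N]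
    [AddCommGroup P] [Module B P] (u : M →ₗ[B] N) (v : N →ₗ[B] P) (huv : v ∘ₗ u = 0) (t : B)
    (ht : t ∈ IsLocalRing.maximalIdeal B) (hreg : IsSMulRegular P t)
    (hu : (Ideal.span {t} • ⊤ : Submodule B M) ≤ (Ideal.span {t} • ⊤ : Submodule B N).comap u)
    (hv : (Ideal.span {t} • ⊤ : Submodule B N) ≤ (Ideal.span {t} • ⊤ : Submodule B P).comap v)
    (hex : LinearMap.ker ((Ideal.span {t} • ⊤ : Submodule B N).mapQ (Ideal.span {t} • ⊤ : Submodule B P) v hv) ≤
      LinearMap.range ((Ideal.span {t} • ⊤ : Submodule B M).mapQ (Ideal.span {t} • ⊤ : Submodule B N) u hu)) :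
    LinearMap.ker v ≤ LinearMap.range u := by
  have hn : LinearMap.ker v ≤ LinearMap.range u ⊔ Ideal.span {t} • LinearMap.ker v := by
    intro x hx
    obtain ⟨w, hw⟩ := hex (show Submodule.mapQ _ _ v hv (Submodule.Quotient.mk x) = 0 by
      rw [Submodule.mapQ_apply, LinearMap.mem_ker.mp hx, Submodule.Quotient.mk_zero])
    obtain ⟨m, rfl⟩ := Submodule.mkQ_surjective _ w
    rw [Submodule.mkQ_apply, Submodule.mapQ_apply, Submodule.Quotient.eq,
      Submodule.ideal_span_singleton_smul] at hw
    obtain ⟨n, -, hn⟩ := (Submodule.mem_smul_pointwise_iff_exists _ _ _).mp hw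
    have hvn : v n = 0 := by
      refine hreg ?_
      show t • v n = t • (0 : P)
      rw [← map_smul, hn, map_sub, show v (u m) = 0 from LinearMap.congr_fun huv m,
        LinearMap.mem_ker.mp hx, sub_zero, smul_zero]
    refine Submodule.mem_sup.mpr ⟨u m, ⟨m, rfl⟩, t • (-n), Submodule.smul_mem_smul
      (Ideal.mem_span_singleton_self t) (neg_mem hvn), ?_⟩
    rw [smul_neg, hn]
    abel
  exact Submodule.le_of_le_smul_of_le_jacobson_bot (IsNoetherian.noetherian _) (by
    rw [IsLocalRing.jacobson_eq_maximalIdeal ⊥ bot_ne_top, Ideal.span_le, Set.singleton_subset_iff]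
    exact ht) hn

end Groth.Agent.S4971
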