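import Groth.Statements.S4973
-- import your own Groth.Agent.* helpers here

set_option autoImplicit false
open CategoryTheory AlgebraicGeometry
universe u v w
open EGA43

namespace Groth.Agent.S4973

open CategoryTheory.Limits in
/-- Let Y₀ and Y be integral schemes, g : Y ⟶ Y₀ a dominant morphism, f₀ : X₀ ⟶ Y₀ a dominant morphism
whose fibre over the generic point of Y₀ is irreducible, and X'₀ an irreducible component of X₀
meeting that generic fibre (it is unique), regarded as a reduced closed subscheme of X₀. If X = X₀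
×_{Y₀} Y is an integral scheme, then the morphism X'₀ ×_{Y₀} Y ⟶ X induced by the inclusion of X'₀
is an isomorphism. -/
theorem result {X₀ Y₀ Y : Scheme.{u}} [IsIntegral Y₀] [IsIntegral Y]
    (g : Y ⟶ Y₀) [IsDominant g] (f₀ : X₀ ⟶ Y₀) [IsDominant f₀]
    (hirr : IsIrreducible (f₀.base ⁻¹' {genericPoint Y₀}))
    (C : TopologicalSpace.Closeds X₀) (hC : (C : Set X₀) ∈ irreducibleComponents (X₀ : Type u))
    (hCη : ((C : Set X₀) ∩ f₀.base ⁻¹' {genericPoint Y₀}).Nonempty) [IsIntegral (pullback f₀ g)]
    (e₁ : ((Scheme.IdealSheafData.vanishingIdeal C).subschemeι ≫ f₀) ≫ 𝟙 Y₀ =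
      (Scheme.IdealSheafData.vanishingIdeal C).subschemeι ≫ f₀) (e₂ : g ≫ 𝟙 Y₀ = 𝟙 Y ≫ g) :
    IsIso (pullback.map ((Scheme.IdealSheafData.vanishingIdeal C).subschemeι ≫ f₀) g f₀ g
      (Scheme.IdealSheafData.vanishingIdeal C).subschemeι (𝟙 Y) (𝟙 Y₀) e₁ e₂) := by
  classical
  set Z := (Scheme.IdealSheafData.vanishingIdeal C).subscheme with hZ
  set j := (Scheme.IdealSheafData.vanishingIdeal C).subschemeι with hj
  haveI : IsClosedImmersion (pullback.map (j ≫ f₀) g f₀ g j (𝟙 Y) (𝟙 Y₀) e₁ e₂) :=
    MorphismProperty.pullbackMap (P := @IsClosedImmersion) (i₁ := j) (i₂ := 𝟙 Y) inferInstance inferInstance rfl (Category.id_comp g).symm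
  haveI : Surjective (pullback.map (j ≫ f₀) g f₀ g j (𝟙 Y) (𝟙 Y₀) e₁ e₂) := by
    set m := pullback.map (j ≫ f₀) g f₀ g j (𝟙 Y) (𝟙 Y₀) e₁ e₂
    have hgη : g.base (genericPoint Y) = genericPoint Y₀ := by
      refine ((genericPoint_spec Y).image g.continuous).eq ?_
      rw [Set.image_univ, g.denseRange.closure_range]
      exact genericPoint_spec Y₀
    obtain ⟨c, hcC, hcη⟩ := hCη
    obtain ⟨p, hp1, hp2⟩ := Scheme.Pullback.exists_preimage_pullback (f := f₀) (g := g) c (genericPoint Y)
      (by rw [hgη]; exact hcη)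
    let ξ := genericPoint (pullback f₀ g : Scheme.{u})
    have hξp : ξ ⤳ p := genericPoint_specializes p
    have hξη : (pullback.snd f₀ g).base ξ = genericPoint Y := by
      refine ((genericPoint_specializes _).antisymm ?_).eq.symm
      rw [← hp2]
      exact hξp.map (pullback.snd f₀ g).continuous
    let w := (pullback.fst f₀ g).base ξ
    have hw : f₀.base w = genericPoint Y₀ := by
      rw [← hgη, ← hξη]
      show f₀ ((pullback.fst f₀ g) ξ) = g ((pullback.snd f₀ g) ξ)
      rw [← Scheme.Hom.comp_apply, ← Scheme.Hom.comp_apply, pullback.condition]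
    -- the generic point of the fibre
    obtain ⟨ζ, hζ⟩ : ∃ ζ, IsGenericPoint ζ (closure (f₀.base ⁻¹' {genericPoint Y₀})) :=
      QuasiSober.sober hirr.closure isClosed_closure
    have hCζ : ζ ∈ (C : Set X₀) := by
      have hCi : IsIrreducible (C : Set X₀) := hC.1
      obtain ⟨γ, hγ⟩ : ∃ γ, IsGenericPoint γ (C : Set X₀) := QuasiSober.sober hCi C.isClosed
      have hγc : γ ⤳ c := hγ.specializes hcC
      have hγη : f₀.base γ = genericPoint Y₀ := by
        refine ((genericPoint_specializes _).antisymm ?_).eq.symm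
        rw [← show f₀.base c = genericPoint Y₀ from hcη]
        exact hγc.map f₀.continuous
      have hζγ : ζ ⤳ γ := hζ.specializes (subset_closure hγη)
      have hsub : (C : Set X₀) ⊆ closure {ζ} := by
        rw [← hγ.def]
        exact closure_minimal (Set.singleton_subset_iff.2 hζγ.mem_closure) isClosed_closure
      exact hC.2 isIrreducible_singleton.closure hsub (subset_closure rfl)
    have hwC : w ∈ (C : Set X₀) := (hζ.specializes (subset_closure hw)).mem_closed C.isClosed hCζ
    obtain ⟨z, hz⟩ : w ∈ Set.range j := by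
      rw [hj, Scheme.IdealSheafData.range_subschemeι, Scheme.IdealSheafData.coe_support_vanishingIdeal]
      exact hwC
    -- the generic point is in the image
    have hξ : ξ ∈ Set.range m := by
      rw [Scheme.Pullback.range_map]
      exact ⟨⟨z, hz⟩, by simp⟩
    exact ⟨fun x => (genericPoint_specializes x).mem_closed m.isClosedEmbedding.isClosed_range hξ⟩
  exact isIso_of_isClosedImmersion_of_surjective _

end Groth.Agent.S4973
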