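import Groth.Statements.S4974
import Groth.Agent.L07.QuasiSection
import Groth.Agent.L07.EquidimPoint
import Groth.Agent.S0503
import Groth.Agent.S0499
import Mathlib.RingTheory.Henselian

set_option autoImplicit false
set_option linter.style.haveILetI false
open CategoryTheory AlgebraicGeometry
universe u v w
open EGA43

namespace Groth.Agent.S4974

/-- Consider a complete Noetherian local domain A and put Y = Spec A. Suppose f : X ⟶ Y is locally of
finite type, and take a point x ∈ X mapping to the closed point of Y, where f is equidimensional at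
x and x is closed in the fibre containing it. Then one can find a local domain A' that contains A
and is finite as an A-algebra, together with a Y-morphism h : Spec A' ⟶ X that is an immersion and
has x in its image. -/
theorem result {A : Type u} [CommRing A] [IsDomain A]
    [IsNoetherianRing A] [IsLocalRing A] [IsAdicComplete (IsLocalRing.maximalIdeal A) A] {X : Scheme.{u}}
    (f : X ⟶ Spec (CommRingCat.of A)) [LocallyOfFiniteType f] (x : X) (hx : f.base x = IsLocalRing.closedPoint A)
    (hf : EGA43.IsEquidimAt f x) (hcl : ∀ x' : X, f.base x' = f.base x → x ⤳ x' → x' = x) :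
    ∃ (A' : Type u) (_ : CommRing A') (_ : IsDomain A') (_ : IsLocalRing A') (_ : Algebra A A') (_ : Module.Finite A A'),
      Function.Injective (algebraMap A A') ∧
      ∃ h : Spec (CommRingCat.of A') ⟶ X, h ≫ f = Spec.map (CommRingCat.ofHom (algebraMap A A')) ∧
        IsImmersion h ∧ x ∈ Set.range h.base := by
  classical
  let Y := Spec (CommRingCat.of A)
  obtain ⟨e, D, g, hxD, hg, hqf, hmaxg⟩ := Groth.L07.Equidim.exists_qf_of_isEquidimAt f x hf
  haveI := hqf
  obtain ⟨ζ, hζ, hζmax⟩ :=
    Groth.L07.Equidim.exists_maximal_generization (X := (D : Scheme.{u})) ⟨x, hxD⟩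
  obtain ⟨T, i, hi, hirrT, hred, ⟨t, ht⟩, -, hlft, hqfT, -, ⟨s, hs⟩⟩ :=
    Groth.L07.QuasiSection.exists_quasiSection f x hcl e D hxD g hg ζ (hζ.map D.ι.continuous) (hmaxg ζ hζmax).1
  haveI := hi; haveI := hirrT; haveI := hred; haveI := hlft; haveI := hqfT
  haveI : IsIntegral T := isIntegral_of_irreducibleSpace_of_isReduced _
  obtain ⟨W, hW, htW, -⟩ := exists_isAffineOpen_mem_and_subset (TopologicalSpace.Opens.mem_top t)
  haveI : Nonempty W := ⟨⟨t, htW⟩⟩
  let φ' : CommRingCat.of A ⟶ Γ(T, W) := Spec.preimage (hW.fromSpec ≫ i ≫ f)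
  have hφ' : Spec.map φ' = hW.fromSpec ≫ i ≫ f := Spec.map_preimage _
  letI : Algebra A Γ(T, W) := φ'.hom.toAlgebra
  haveI : Algebra.FiniteType A Γ(T, W) := by
    haveI : LocallyOfFiniteType (Spec.map φ') := by rw [hφ']; infer_instance
    exact RingHom.finiteType_algebraMap.mp
      ((HasRingHomProperty.Spec_iff (P := @LocallyOfFiniteType)).mp ‹_›)
  haveI : Algebra.QuasiFinite A Γ(T, W) := by
    haveI : LocallyQuasiFinite (Spec.map φ') := by rw [hφ']; infer_instance
    exact RingHom.quasiFinite_algebraMap.mp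
      ((HasRingHomProperty.Spec_iff (P := @LocallyQuasiFinite)).mp ‹_›)
  haveI hR : HenselianRing A (IsLocalRing.maximalIdeal A) := IsAdicComplete.henselianRing A _
  haveI : HenselianLocalRing A :=
    { is_henselian := fun p hp a₀ h₁ h₂ => hR.is_henselian p hp a₀ h₁ (h₂.map _) }
  obtain ⟨ε, hε, hfin, htop⟩ := Groth.Agent.S0503.result A Γ(T, W)
  obtain ⟨t', ht'⟩ : t ∈ Set.range hW.fromSpec := by rw [hW.range_fromSpec]; exact htW
  have hclosed : Spec.map φ' t' = IsLocalRing.closedPoint A := by
    rw [hφ', Scheme.Hom.comp_apply, Scheme.Hom.comp_apply, ht']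
    rw [show i t = x from ht]
    exact hx
  rcases IsIdempotentElem.iff_eq_zero_or_one.mp hε with rfl | rfl
  · exfalso
    refine (t' : PrimeSpectrum Γ(T, W)).2.ne_top (top_le_iff.mp ?_)
    have h0 : Ideal.map (algebraMap A Γ(T, W)) (IsLocalRing.maximalIdeal A) ≤
        (t' : PrimeSpectrum Γ(T, W)).asIdeal :=
      Ideal.map_le_iff_le_comap.mpr (congrArg PrimeSpectrum.asIdeal hclosed).ge
    refine le_trans ?_ h0
    intro a _
    have h1 : Ideal.Quotient.mk (Ideal.span ({(0 : Γ(T, W))} : Set Γ(T, W))) a ∈
        (Ideal.map (algebraMap A Γ(T, W)) (IsLocalRing.maximalIdeal A)).map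
          (Ideal.Quotient.mk (Ideal.span ({(0 : Γ(T, W))} : Set Γ(T, W)))) := by
      rw [Ideal.map_map]
      exact htop ▸ Submodule.mem_top
    rw [Ideal.mem_map_iff_of_surjective _ Ideal.Quotient.mk_surjective] at h1
    obtain ⟨b, hb, hba⟩ := h1
    rw [Ideal.Quotient.eq, Ideal.mem_span_singleton, zero_dvd_iff, sub_eq_zero] at hba
    exact hba ▸ hb
  haveI : Module.Finite A Γ(T, W) := by
    haveI := hfin
    refine Module.Finite.equiv (((Ideal.quotientEquivAlgOfEq A (?_ : Ideal.span ({1 - 1} : Set Γ(T, W)) = ⊥)).trans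
      (AlgEquiv.quotientBot A Γ(T, W))).toLinearEquiv)
    rw [sub_self]; exact Ideal.span_singleton_eq_bot.mpr rfl
  haveI : IsLocalRing Γ(T, W) := by
    obtain ⟨ι, hι, B, hB, hloc, ⟨E⟩⟩ := Groth.Agent.S0499.result A Γ(T, W)
    haveI : Subsingleton ι := ⟨fun j k => by
      by_contra hjk
      haveI := hloc j; haveI := hloc k
      have hmul : E.symm (Pi.single j 1) * E.symm (Pi.single k 1) = 0 := by
        rw [← map_mul]
        refine (congrArg E.symm ?_).trans (map_zero _)
        funext l
        by_cases hl : l = j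
        · subst hl; simp [hjk]
        · simp [hl]
      rcases mul_eq_zero.mp hmul with h | h
      · have := congrFun ((map_eq_zero_iff _ E.symm.injective).mp h) j
        simp at this
      · have := congrFun ((map_eq_zero_iff _ E.symm.injective).mp h) k
        simp at this⟩
    haveI : Nonempty ι := by
      by_contra hne
      haveI := not_nonempty_iff.mp hne
      exact not_subsingleton Γ(T, W) E.injective.subsingleton
    haveI : Inhabited ι := Classical.inhabited_of_nonempty inferInstance
    haveI : Unique ι := Unique.mk' ι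
    haveI := hloc default
    exact ((E.trans (RingEquiv.piUnique B)).symm).isLocalRing
  have hinj : Function.Injective (algebraMap A Γ(T, W)) := by
    haveI : IsDomain ↥(CommRingCat.of A) := ‹IsDomain A›
    haveI : IrreducibleSpace ↥(Spec (CommRingCat.of A)) := inferInstance
    have hgen : f (D.ι ζ) = genericPoint ↥(Spec (CommRingCat.of A)) := by
      have h1 := ((Groth.L07.Equidim.affineSpace_maximal_iff _ _).mp (hmaxg ζ hζmax).1).1
      rw [← Scheme.Hom.comp_apply, hg, Scheme.Hom.comp_apply] at h1
      exact (h1 _ ((genericPoint_spec _).specializes trivial)).symm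
    have hTgen : (i ≫ f) (genericPoint T) = genericPoint ↥(Spec (CommRingCat.of A)) := by
      have h4 := ((genericPoint_spec T).specializes (y := s) trivial).map (i ≫ f).continuous
      rw [show (i ≫ f) s = f (D.ι ζ) from hs, hgen] at h4
      exact (h4.antisymm ((genericPoint_spec _).specializes trivial)).eq
    have hgW : genericPoint T ∈ W := ((genericPoint_spec T).mem_open_set_iff W.2).mpr ⟨t, trivial, htW⟩
    obtain ⟨t₀, ht₀⟩ : genericPoint T ∈ Set.range hW.fromSpec := by rw [hW.range_fromSpec]; exact hgW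
    rw [injective_iff_map_eq_zero]
    intro a ha
    have h2 : Spec.map φ' t₀ = (⟨⊥, Ideal.isPrime_bot⟩ : PrimeSpectrum A) := by
      rw [hφ', Scheme.Hom.comp_apply, ht₀, hTgen]
      exact genericPoint_eq_bot_of_affine (CommRingCat.of A)
    have h3 : a ∈ ((Spec.map φ' t₀ : PrimeSpectrum A)).asIdeal := by
      show algebraMap A Γ(T, W) a ∈ (t₀ : PrimeSpectrum Γ(T, W)).asIdeal
      rw [ha]; exact Ideal.zero_mem _
    rw [h2] at h3
    exact h3
  haveI : IsImmersion (hW.fromSpec ≫ i) := inferInstance
  refine ⟨Γ(T, W), inferInstance, inferInstance, inferInstance, inferInstance, inferInstance, hinj,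
    hW.fromSpec ≫ i, ?_, this, ?_⟩
  · rw [Category.assoc, ← hφ']
    rfl
  · exact ⟨t', by rw [← ht, ← ht']; rfl⟩

end Groth.Agent.S4974
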