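import Groth.Statements.S4975
import Groth.Agent.L07.SectionCompDimConst

set_option autoImplicit false
set_option linter.style.haveILetI false
open CategoryTheory AlgebraicGeometry
universe u v w
open EGA43

namespace Groth.Agent.S4975

/-- Let f : X ⟶ Y be a morphism locally of finite type with Y locally Noetherian, g : Y ⟶ X a section of
f, X_y^0 the connected component of f⁻¹(y) containing g y, and X^0 ⊆ X their union. Suppose every
X_y^0 is geometrically integral over κ(y) (its preimage in X_y ⊗ K is irreducible and has reduced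
local rings, for every field extension K of κ(y)). Then y ↦ dim X_y^0 is locally constant on Y if
and only if f is universally open at every point of X^0; and when this holds, X^0 is open in X. (The
published statement also lists, as a further equivalent condition, flatness of the base change of f
to the reduced closed subscheme Y_red at the points of X^0; that condition is not stated here.) -/
theorem result {X Y : Scheme.{u}}
    [IsLocallyNoetherian Y] (f : X ⟶ Y) [LocallyOfFiniteType f] (g : Y ⟶ X) (hg : g ≫ f = 𝟙 Y)
    (hint : ∀ y : Y, (∀ (K : Type u) [Field K] [Algebra (IsLocalRing.ResidueField (Y.presheaf.stalk y)) K],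
        IsIrreducible ((FBase.bcπ (f.fiberToSpecResidueField y) K ≫ f.fiberι y).base ⁻¹' connectedComponentIn (f.base ⁻¹' {y}) (g.base y)) ∧
        ∀ x' : ↥(FBase.bc (f.fiberToSpecResidueField y) K),
          (FBase.bcπ (f.fiberToSpecResidueField y) K ≫ f.fiberι y).base x' ∈ connectedComponentIn (f.base ⁻¹' {y}) (g.base y) →
          _root_.IsReduced ((FBase.bc (f.fiberToSpecResidueField y) K).presheaf.stalk x'))) :
    (IsLocallyConstant (fun y : Y => topologicalKrullDim ↥(connectedComponentIn (f.base ⁻¹' {y}) (g.base y))) ↔ ∀ x ∈ MoreMor.sectionComponents f g, EGA43.IsUnivOpenAt f x) ∧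
      (IsLocallyConstant (fun y : Y => topologicalKrullDim ↥(connectedComponentIn (f.base ⁻¹' {y}) (g.base y))) → IsOpen (MoreMor.sectionComponents f g)) := by
  have hgi : ∀ (y : Y) (K : Type u) [Field K] [Algebra (IsLocalRing.ResidueField (Y.presheaf.stalk y)) K],
      IsIrreducible ((FBase.bcπ (f.fiberToSpecResidueField y) K ≫ f.fiberι y).base ⁻¹'
        connectedComponentIn (f.base ⁻¹' {y}) (g.base y)) := fun y K _ _ => (hint y K).1
  have hred : ∀ x ∈ MoreMor.sectionComponents f g,
      FBase.IsGeomReducedAt (f.fiberToSpecResidueField (f.base x)) (f.asFiber x) := fun x hx K _ _ x' hx' =>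
    (hint (f.base x) K).2 x' (by
      have h1 : (FBase.bcπ (f.fiberToSpecResidueField (f.base x)) K ≫ f.fiberι (f.base x)).base x' = x := by
        show (f.fiberι (f.base x)).base ((FBase.bcπ (f.fiberToSpecResidueField (f.base x)) K).base x') = x
        rw [hx', f.fiberι_asFiber]
      rw [h1]; exact hx)
  have hconst : IsLocallyConstant (fun y : Y => topologicalKrullDim ↥(connectedComponentIn (f.base ⁻¹' {y}) (g.base y))) →
      ∀ y, ∃ V ∈ nhds y, ∀ z ∈ V, topologicalKrullDim ↥(connectedComponentIn (f.base ⁻¹' {z}) (g.base z)) =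
        topologicalKrullDim ↥(connectedComponentIn (f.base ⁻¹' {y}) (g.base y)) := fun h y =>
    ⟨_, h.eventually_eq y, fun z hz => hz⟩
  refine ⟨⟨fun h x hx => ?_, fun h => (IsLocallyConstant.iff_eventually_eq _).mpr fun y => ?_⟩, fun h => ?_⟩
  · obtain ⟨V, hV, hc⟩ := hconst h (f.base x)
    obtain ⟨O, hOV, hO, hxO⟩ := mem_nhds_iff.mp hV
    exact Groth.L07.SectionComp.isUnivOpenAt_of_dim_const f g hg hgi (f.base x)
      (fun z hz => hc z (hOV (hz.mem_open hO hxO))) x hx
  · have hgS : g.base y ∈ MoreMor.sectionComponents f g :=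
      (Groth.L07.SectionComp.mem_sectionComponents_iff f g (Groth.L07.SectionComp.apply_section f g hg y)).mpr
        (Groth.L07.SectionComp.mem_comp f g hg y)
    obtain ⟨V, hV, hc⟩ := Groth.L07.SectionComp.dim_const_nhds f g hg hgi y
      (fun ξ hξ _ => h ξ ((Groth.L07.SectionComp.mem_sectionComponents_iff f g (Groth.L07.SectionComp.apply_of_mem f g hξ)).mpr hξ))
      (Or.inl (hred _ hgS))
    exact Filter.mem_of_superset hV hc
  · have e : MoreMor.sectionComponents f g = {x : X | x ∈ MoreMor.sectionComponents f g ∧
        (∃ V ∈ nhds (f.base x), ∀ z ∈ V, topologicalKrullDim ↥(connectedComponentIn (f.base ⁻¹' {z}) (g.base z)) = topologicalKrullDim ↥(connectedComponentIn (f.base ⁻¹' {(f.base x)}) (g.base (f.base x)))) ∧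
        FBase.IsGeomReducedAt (f.fiberToSpecResidueField (f.base x)) (f.asFiber x)} :=
      Set.ext fun x => ⟨fun hx => ⟨hx, hconst h _, hred x hx⟩, fun hx => hx.1⟩
    rw [e]
    exact Groth.L07.SectionComp.isOpen_dim_const_geomRed f g hg hgi

end Groth.Agent.S4975
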