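import Groth.Statements.S4979
import Groth.Agent.S4470
import Groth.Agent.S2570
import Groth.Agent.L18.RelAmpleOps
import Groth.Agent.L21.Bundle.Lines

set_option autoImplicit false
set_option linter.style.haveILetI false
set_option backward.isDefEq.respectTransparency false
set_option backward.isDefEq.respectTransparency.types false
open CategoryTheory AlgebraicGeometry
universe u v w
open EGA43

namespace Groth.Agent.S4979

open CategoryTheory.Limits TopologicalSpace in
theorem quasiCompact_of_baseChange {X Y Y' : Scheme.{u}} (f : X ⟶ Y) (g : Y' ⟶ Y) [UniversallyOpen g]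
    [Surjective g] [QuasiCompact (pullback.snd f g)] : QuasiCompact f := by
  rw [quasiCompact_iff_forall_isAffineOpen]
  intro V hV
  choose y' hy' using fun v : V => g.surjective v.1
  choose W hW hyW hWV using fun v : V => exists_isAffineOpen_mem_and_subset (show y' v ∈ g ⁻¹ᵁ V from
    (show g (y' v) ∈ V by rw [hy']; exact v.2))
  obtain ⟨t, ht⟩ := hV.isCompact.elim_finite_subcover (fun v : V => g '' (W v : Set Y'))
    (fun v => g.isOpenMap _ (W v).2) (fun v hv => Set.mem_iUnion.2 ⟨⟨v, hv⟩, y' ⟨v, hv⟩, hyW _, hy' _⟩)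
  have hV' : IsCompact ((⋃ v ∈ t, (W v : Set Y'))) := t.isCompact_biUnion fun v _ => (hW v).isCompact
  have e : (f ⁻¹' (V : Set Y)) = pullback.fst f g '' (⋃ v ∈ t, pullback.snd f g ⁻¹' (W v : Set Y')) := by
    refine Set.Subset.antisymm (fun x hx => ?_) ?_
    · obtain ⟨v, hvt, w, hw, hwx⟩ := Set.mem_iUnion₂.1 (ht hx)
      obtain ⟨z, hz1, hz2⟩ := Scheme.Pullback.exists_preimage_pullback x w hwx.symm
      exact ⟨z, Set.mem_iUnion₂.2 ⟨v, hvt, show pullback.snd f g z ∈ W v by rw [hz2]; exact hw⟩, hz1⟩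
    · rintro _ ⟨z, hz, rfl⟩
      obtain ⟨v, -, hv⟩ := Set.mem_iUnion₂.1 hz
      show f (pullback.fst f g z) ∈ V
      rw [← Scheme.Hom.comp_apply, pullback.condition]
      exact hWV v hv
  show IsCompact (f ⁻¹' (V : Set Y))
  rw [e]
  exact (t.isCompact_biUnion fun v _ => (pullback.snd f g).isCompact_preimage (hW v).isCompact).image
    (pullback.fst f g).continuous

open CategoryTheory.Limits in
/-- Let Y be a locally Noetherian scheme, f : X ⟶ Y a morphism locally of finite type, g : Y' ⟶ Y a
morphism locally of finite type which is universally open and surjective, f' : X ×_Y Y' ⟶ Y' the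
base change of f, L an invertible O_X-module and L' its pullback to X ×_Y Y'. Suppose there is a
closed subset Z of X which, with its reduced subscheme structure, is proper over Y, and such that
the local rings of X at the points outside Z are integrally closed domains. Then L is ample relative
to f if and only if L' is ample relative to f'. -/
theorem result {X Y Y' : Scheme.{u}}
    [IsLocallyNoetherian Y] (f : X ⟶ Y) [LocallyOfFiniteType f] (g : Y' ⟶ Y) [LocallyOfFiniteType g]
    [UniversallyOpen g] [Surjective g] (L : X.Modules) (hL : FlatMod.IsFinLocFreeOfRank 1 L)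
    (Z : TopologicalSpace.Closeds X) (hZ : IsProper ((Scheme.IdealSheafData.vanishingIdeal Z).subschemeι ≫ f))
    (hnor : ∀ x : X, x ∉ (Z : Set X) → IsDomain (X.presheaf.stalk x) ∧ IsIntegrallyClosed (X.presheaf.stalk x)) :
    RelAmple.IsRelAmple f L ↔
      RelAmple.IsRelAmple (pullback.snd f g) ((Scheme.Modules.pullback (pullback.fst f g)).obj L) := by
  have hLi : PicF.IsInvertible L := Groth.L21.Bundle.isInvertible_of_rank hL
  refine ⟨fun h => haveI := h.1; Groth.L18.Ample.isRelAmple_baseChange f g h, fun h => ?_⟩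
  haveI := h.1
  haveI : QuasiCompact f := quasiCompact_of_baseChange f g
  refine Groth.L18.Ample.isRelAmple_of_local f fun y => ?_
  obtain ⟨V, hV, hyV, -⟩ := Groth.L18.Ample.exists_affine_le (TopologicalSpace.Opens.mem_top y)
  refine ⟨V, hV, hyV, (Groth.L18.Ample.isAmple_restrict_iff_pullback _).2 ?_⟩
  haveI : IsAffine (V : Scheme.{u}) := hV
  haveI : IsNoetherian (V : Scheme.{u}) := {}
  haveI : UniversallyOpen (g ∣_ V) :=
    MorphismProperty.of_isPullback (P := @UniversallyOpen) (isPullback_morphismRestrict g V).flip inferInstance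
  haveI : Surjective (g ∣_ V) :=
    MorphismProperty.of_isPullback (P := @Surjective) (isPullback_morphismRestrict g V).flip inferInstance
  obtain ⟨V', h', hfin, hsurj, hsec⟩ := Groth.Agent.S2570.result (g ∣_ V)
  set X₁ : X.Opens := f ⁻¹ᵁ V
  set f₁ := f ∣_ V
  set L₁ := (Scheme.Modules.pullback X₁.ι).obj L
  have hL₁ : PicF.IsInvertible L₁ := Groth.L18.Ample.isInvertible_pullback X₁.ι hLi
  haveI : IsFinite (pullback.fst f₁ h') := MorphismProperty.pullback_fst _ _ inferInstance
  haveI : Surjective (pullback.fst f₁ h') := MorphismProperty.pullback_fst _ _ inferInstance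
  have hZ₁ : ClSub.IsProperOver f₁ (X₁.ι ⁻¹' (Z : Set X)) :=
    Groth.L27.Supp.isProperOver_preimage (isPullback_morphismRestrict f V).flip ⟨Z.isClosed, hZ⟩
  refine Groth.L18.Ample.isAmple_of_isRelAmple (f := f₁)
    ((Groth.Agent.S4470.result f₁ (pullback.fst f₁ h') L₁ hL₁ _ hZ₁ fun x hx => Or.inl ?_).2 ?_)
  · obtain ⟨h1, h2⟩ := hnor x.1 hx
    let e := (X₁.stalkIso x).commRingCatIsoToRingEquiv
    exact ⟨e.toMulEquiv.isDomain _, IsIntegrallyClosed.of_equiv e.symm⟩
  haveI : QuasiCompact (pullback.fst f₁ h' ≫ f₁) := inferInstance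
  have hsnd : RelAmple.IsRelAmple (pullback.snd f₁ h')
      ((Scheme.Modules.pullback (pullback.fst f₁ h')).obj L₁) := by
    haveI : QuasiCompact (pullback.snd f₁ h') := MorphismProperty.pullback_snd _ _ inferInstance
    refine Groth.L18.Ample.isRelAmple_of_local _ fun v => ?_
    obtain ⟨U, hvU, s, hs⟩ := hsec v
    obtain ⟨U', hU', hvU', hle⟩ := Groth.L18.Ample.exists_affine_le hvU
    refine ⟨U', hU', hvU', (Groth.L18.Ample.isAmple_restrict_iff_pullback _).2 ?_⟩
    haveI : IsAffine (U' : Scheme.{u}) := hU'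
    let a : (U' : Scheme.{u}) ⟶ Y' := V'.homOfLE hle ≫ s ≫ pullback.fst (g ∣_ V) h' ≫ (g ⁻¹ᵁ V).ι
    have ha : a ≫ g = U'.ι ≫ h' ≫ V.ι := by
      simp only [a, Category.assoc]
      rw [← morphismRestrict_ι, pullback.condition_assoc, reassoc_of% hs, Scheme.homOfLE_ι_assoc]
    have h1 := Groth.L18.Ample.isAmple_of_isRelAmple (Groth.L18.Ample.isRelAmple_baseChange (pullback.snd f g) a h)
    have sq1 : IsPullback (pullback.fst (pullback.snd f g) a ≫ pullback.fst f g) (pullback.snd (pullback.snd f g) a)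
        f (U'.ι ≫ h' ≫ V.ι) := by
      rw [← ha]
      exact (IsPullback.of_hasPullback (pullback.snd f g) a).paste_horiz (IsPullback.of_hasPullback f g)
    have sq2 : IsPullback ((pullback.snd f₁ h' ⁻¹ᵁ U').ι ≫ pullback.fst f₁ h' ≫ X₁.ι)
        (pullback.snd f₁ h' ∣_ U') f (U'.ι ≫ h' ≫ V.ι) :=
      (isPullback_morphismRestrict (pullback.snd f₁ h') U').flip.paste_horiz
        ((IsPullback.of_hasPullback f₁ h').paste_horiz (isPullback_morphismRestrict f V).flip)
    let e := sq2.isoIsPullback _ _ sq1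
    have he : e.hom ≫ pullback.fst (pullback.snd f g) a ≫ pullback.fst f g =
        (pullback.snd f₁ h' ⁻¹ᵁ U').ι ≫ pullback.fst f₁ h' ≫ X₁.ι :=
      IsPullback.isoIsPullback_hom_fst _ _ _ _
    have h2 := (Groth.L18.Ample.isAmple_pullback_congr (L := L) e _ _ he).2
      (Groth.L18.Ample.isAmple_of_iso ((Scheme.Modules.pullbackComp _ _).app L) h1)
    exact Groth.L18.Ample.isAmple_of_iso (((Scheme.Modules.pullbackComp _ _).app L).symm ≪≫
      (Scheme.Modules.pullback (pullback.snd f₁ h' ⁻¹ᵁ U').ι).mapIso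
        (((Scheme.Modules.pullbackComp (pullback.fst f₁ h') X₁.ι).app L).symm)) h2
  rw [pullback.condition]
  haveI : QuasiCompact (pullback.snd f₁ h' ≫ h') := inferInstance
  refine Groth.L18.Ample.isRelAmple_of_local _ fun v => ?_
  obtain ⟨T, hT, hvT, -⟩ := Groth.L18.Ample.exists_affine_le (TopologicalSpace.Opens.mem_top v)
  exact ⟨T, hT, hvT, hsnd.2 ⟨h' ⁻¹ᵁ T, hT.preimage h'⟩⟩

end Groth.Agent.S4979
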