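import Groth.Statements.S4980
import Groth.Agent.L11.LenSpec.Chart

set_option autoImplicit false
set_option maxHeartbeats 1600000
set_option backward.isDefEq.respectTransparency false
set_option backward.isDefEq.respectTransparency.types false
open CategoryTheory AlgebraicGeometry
universe u v w
open EGA43

namespace Groth.Agent.S4980

open Groth.L11.LenSpec Pointwise

/-- Let A be a discrete valuation ring, Y = Spec A with closed point y and generic point y', f : X ⟶ Y a
proper morphism and F a coherent O_X-module which is f-flat; write F_y, F_{y'} for the restrictions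
of F to the two fibres and suppose F_y has no embedded associated point. Then the sum, over the
maximal points z' of Supp(F_{y'}), of the lengths of the stalks (F_{y'})_{z'} is at most the sum,
over the maximal points z of Supp(F_y), of the lengths of the stalks (F_y)_z (lengths over the local
rings of the fibres). -/
theorem result {A : Type u} [CommRing A] [IsDomain A]
    [IsDiscreteValuationRing A] {X : Scheme.{u}} (f : X ⟶ Spec (CommRingCat.of A)) [IsProper f] (F : X.Modules)
    (hF : Coh.IsCoh F) (hflat : FlatMod.IsFlatOver f F)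
    (hemb : AssSch.NoEmbedded ((Scheme.Modules.pullback (f.fiberι (IsLocalRing.closedPoint A))).obj F)) :
    letI y : ↥(Spec (CommRingCat.of A)) := IsLocalRing.closedPoint A
    letI y' : ↥(Spec (CommRingCat.of A)) := genericPoint (Spec (CommRingCat.of A))
    ∑ᶠ z' : {v : ↥(f.fiber y') // Nontrivial (((Scheme.Modules.pullback (f.fiberι y')).obj F).presheaf.stalk v) ∧
        ∀ w : ↥(f.fiber y'), Nontrivial (((Scheme.Modules.pullback (f.fiberι y')).obj F).presheaf.stalk w) → v ∈ closure {w} → w = v},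
        Module.length ((f.fiber y').presheaf.stalk z'.1) (((Scheme.Modules.pullback (f.fiberι y')).obj F).presheaf.stalk z'.1) ≤
      ∑ᶠ z : {v : ↥(f.fiber y) // Nontrivial (((Scheme.Modules.pullback (f.fiberι y)).obj F).presheaf.stalk v) ∧
        ∀ w : ↥(f.fiber y), Nontrivial (((Scheme.Modules.pullback (f.fiberι y)).obj F).presheaf.stalk w) → v ∈ closure {w} → w = v},
        Module.length ((f.fiber y).presheaf.stalk z.1) (((Scheme.Modules.pullback (f.fiberι y)).obj F).presheaf.stalk z.1) := by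
  classical
  let y : ↥(Spec (CommRingCat.of A)) := IsLocalRing.closedPoint A
  let y' : ↥(Spec (CommRingCat.of A)) := genericPoint (Spec (CommRingCat.of A))
  haveI : Coh.IsQCoh F := hF.1
  haveI : IsLocallyNoetherian X := LocallyOfFiniteType.isLocallyNoetherian f
  haveI : CompactSpace X := QuasiCompact.compactSpace_of_compactSpace f
  obtain ⟨ϖ, hϖ⟩ := IsDiscreteValuationRing.exists_irreducible A
  have hfin := finite_stalk F hF
  have hy : ∀ s : ↥(Spec (CommRingCat.of A)), s = y ↔ ϖ ∈ s.asIdeal := eq_closedPoint_iff ϖ hϖ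
  have hy' : ∀ s : ↥(Spec (CommRingCat.of A)), s = y' ↔ ϖ ∉ s.asIdeal := eq_genericPoint_iff ϖ hϖ
  let Supp : X → Prop := fun x => Nontrivial (F.presheaf.stalk x)
  have hdown : ∀ (s : ↥(Spec (CommRingCat.of A))) (x : X), f x = s →
      ∃ v : ↥(f.fiber s), f.fiberι s v = x := fun s x hx => by
    have : x ∈ Set.range (f.fiberι s) := by rw [Scheme.Hom.range_fiberι]; exact hx
    exact this
  have hfix : ∀ (s : ↥(Spec (CommRingCat.of A))) (v : ↥(f.fiber s)), f (f.fiberι s v) = s :=
    fun s v => by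
    have : f.fiberι s v ∈ f ⁻¹' {s} := by rw [← Scheme.Hom.range_fiberι]; exact ⟨v, rfl⟩
    exact this
  have hnt : ∀ (s : ↥(Spec (CommRingCat.of A))) (v : ↥(f.fiber s)),
      Nontrivial (((Scheme.Modules.pullback (f.fiberι s)).obj F).presheaf.stalk v) ↔
        Supp (f.fiberι s v) := fun s v => (fibre_stalk f F hfin s v).1
  have hspec : ∀ (s : ↥(Spec (CommRingCat.of A))) (v w : ↥(f.fiber s)),
      v ∈ closure {w} ↔ f.fiberι s w ⤳ f.fiberι s v := fun s v w => by
    rw [← specializes_iff_mem_closure]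
    exact (f.fiberι s).isEmbedding.isInducing.specializes_iff.symm
  -- maximal points in terms of the total space
  have hmax : ∀ (s : ↥(Spec (CommRingCat.of A))) (v : ↥(f.fiber s)),
      (Nontrivial (((Scheme.Modules.pullback (f.fiberι s)).obj F).presheaf.stalk v) ∧
        ∀ w : ↥(f.fiber s),
          Nontrivial (((Scheme.Modules.pullback (f.fiberι s)).obj F).presheaf.stalk w) →
            v ∈ closure {w} → w = v) ↔
      (Supp (f.fiberι s v) ∧
        ∀ a : X, f a = s → Supp a → a ⤳ f.fiberι s v → a = f.fiberι s v) := fun s v => by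
    refine and_congr (hnt s v) ⟨fun h a ha hS hav => ?_, fun h w hw hvw => ?_⟩
    · obtain ⟨w, rfl⟩ := hdown s a ha
      rw [h w ((hnt s w).2 hS) ((hspec s v w).2 hav)]
    · exact (f.fiberι s).isEmbedding.injective
        (h _ (hfix s w) ((hnt s w).1 hw) ((hspec s v w).1 hvw))
  have hgenize : ∀ a x : X, a ⤳ x → f x = y' → f a = y' := fun a x h hx => by
    rw [hy'] at hx ⊢
    exact fun hm => hx ((PrimeSpectrum.le_iff_specializes (f a) (f x)).2 (h.map f.continuous) hm)
  have hfp : ∀ {V : X.Opens} (hV : IsAffineOpen V) (a : X) (ha : a ∈ V),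
      hV.fromSpec (hV.primeIdealOf ⟨a, ha⟩) = a := fun hV a ha => hV.fromSpec_primeIdealOf ⟨a, ha⟩
  let Z : Set X := {z | f z = y ∧ Supp z ∧ ∀ a : X, f a = y → Supp a → a ⤳ z → a = z}
  let G : Set X := {x | f x = y' ∧ Supp x ∧ ∀ a : X, Supp a → a ⤳ x → a = x}
  -- a prime associated to `N / π N` gives an associated point of the closed fibre
  have hassY : ∀ (V : X.Opens) (hV : IsAffineOpen V) (q : Spec Γ(X, V)),
      q.asIdeal ∈ associatedPrimes Γ(X, V)
        (Γ(F, V) ⧸ unif f ϖ V • (⊤ : Submodule Γ(X, V) Γ(F, V))) →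
      ∃ v : ↥(f.fiber y), f.fiberι y v = hV.fromSpec q ∧
        v ∈ AssSch.Ass ((Scheme.Modules.pullback (f.fiberι y)).obj F) ∧ Supp (hV.fromSpec q) := by
    intro V hV q hq
    haveI : IsNoetherianRing Γ(X, V) := IsLocallyNoetherian.component_noetherian ⟨V, hV⟩
    haveI : Module.Finite Γ(X, V) Γ(F, V) := Groth.L20.ModStalk.finite_sections F hF hV
    have hz := Groth.L19.Ass.fromSpec_mem hV q
    have hq' := Groth.L19.Ass.primeIdealOf_fromSpec hV q hz
    have hsup : q ∈ Module.support Γ(X, V)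
        (Γ(F, V) ⧸ unif f ϖ V • (⊤ : Submodule Γ(X, V) Γ(F, V))) := by
      rw [Module.support_eq_zeroLocus]
      intro r hr
      refine IsAssociatedPrime.annihilator_le hq ?_
      rw [Submodule.annihilator_top]
      exact hr
    obtain ⟨hsupN, hπq⟩ := quot_support_le _ hsup
    have hfz : f (hV.fromSpec q) = y :=
      (fibre_eq_closed_iff f ϖ hϖ hV hz).2 (by rw [hq']; exact hπq)
    obtain ⟨v, hv⟩ := hdown y _ hfz
    refine ⟨v, hv, (fibre_stalk f F hfin y v).2.2 ?_, ?_⟩
    · show IsLocalRing.maximalIdeal (X.presheaf.stalk (f.fiberι y v)) ∈ associatedPrimes _ _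
      have hvV : f.fiberι y v ∈ V := hv ▸ hz
      have hqv : hV.primeIdealOf ⟨f.fiberι y v, hvV⟩ = q := by
        rw [← hq']; congr 1; exact Subtype.ext hv
      letI := Groth.L20.ModStalk.stalkModule F hvV
      letI := X.presheaf.algebra_section_stalk ⟨f.fiberι y v, hvV⟩
      haveI := hV.isLocalization_stalk ⟨f.fiberι y v, hvV⟩
      haveI := Groth.L20.ModStalk.isLocalizedModule_germ F hV hvV
      haveI : IsScalarTower Γ(X, V) (X.presheaf.stalk (f.fiberι y v))
          (F.presheaf.stalk (f.fiberι y v)) := IsScalarTower.of_algebraMap_smul fun _ _ => rfl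
      rw [(fibIdeal_smul_top f ϖ hvV hϖ F).1 ((hy _).1 (hfix y v))]
      exact maximalIdeal_mem_associatedPrimes_quot (unif f ϖ V)
        (hV.primeIdealOf ⟨f.fiberι y v, hvV⟩).asIdeal (Groth.L20.ModStalk.germₗ F hvV)
        (by rw [hqv]; exact hq)
    · exact (nontrivial_stalk_iff F hV hz).2 (by rw [hq']; exact hsupN)
  -- such points are maximal in the closed fibre
  have hassZ : ∀ (V : X.Opens) (hV : IsAffineOpen V) (q : Spec Γ(X, V)),
      q.asIdeal ∈ associatedPrimes Γ(X, V)
        (Γ(F, V) ⧸ unif f ϖ V • (⊤ : Submodule Γ(X, V) Γ(F, V))) → hV.fromSpec q ∈ Z := by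
    intro V hV q hq
    haveI : IsNoetherianRing Γ(X, V) := IsLocallyNoetherian.component_noetherian ⟨V, hV⟩
    haveI : Module.Finite Γ(X, V) Γ(F, V) := Groth.L20.ModStalk.finite_sections F hF hV
    obtain ⟨v, hv, hvA, hvS⟩ := hassY V hV q hq
    refine ⟨hv ▸ hfix y v, hvS, fun a ha haS haz => ?_⟩
    have haV : a ∈ V := haz.mem_open V.2 (Groth.L19.Ass.fromSpec_mem hV q)
    have hap : hV.primeIdealOf ⟨a, haV⟩ ∈ Module.support Γ(X, V)
        (Γ(F, V) ⧸ unif f ϖ V • (⊤ : Submodule Γ(X, V) Γ(F, V))) :=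
      mem_quot_support _ ((nontrivial_stalk_iff F hV haV).1 haS)
        ((fibre_eq_closed_iff f ϖ hϖ hV haV).1 ha)
    rw [Module.support_eq_zeroLocus] at hap
    obtain ⟨q₀, hq₀, hq₀a⟩ := Ideal.exists_minimalPrimes_le
      (show Module.annihilator _ _ ≤ (hV.primeIdealOf ⟨a, haV⟩).asIdeal from hap)
    obtain ⟨v₀, hv₀, hv₀A, -⟩ := hassY V hV ⟨q₀, hq₀.isPrime⟩
      (Module.associatedPrimes.minimalPrimes_annihilator_subset_associatedPrimes _ _ hq₀)
    have h0a : hV.fromSpec ⟨q₀, hq₀.isPrime⟩ ⤳ a := by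
      conv_rhs => rw [← hfp hV a haV]
      exact (specializes_fromSpec hV _ _).2 hq₀a
    have h0 : hV.fromSpec ⟨q₀, hq₀.isPrime⟩ = hV.fromSpec q := by
      rw [← hv₀, ← hv]
      refine congrArg _ (hemb v hvA v₀ hv₀A ?_).symm
      refine (f.fiberι y).isEmbedding.isInducing.specializes_iff.1 ?_
      rw [hv₀, hv]
      exact h0a.trans haz
    exact (haz.antisymm (h0 ▸ h0a)).eq
  have hZfin : Z.Finite := by
    choose V hV hxV _ using fun x : X =>
      exists_isAffineOpen_mem_and_subset (x := x) (U := ⊤) trivial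
    obtain ⟨t, ht⟩ := isCompact_univ.elim_finite_subcover (fun x => (V x : Set X))
      (fun x => (V x).2) (fun x _ => Set.mem_iUnion.2 ⟨x, hxV x⟩)
    have hfinI : ∀ i : X, {q : Spec Γ(X, V i) | q.asIdeal ∈ associatedPrimes Γ(X, V i)
        (Γ(F, V i) ⧸ unif f ϖ (V i) • (⊤ : Submodule Γ(X, V i) Γ(F, V i)))}.Finite := fun i => by
      haveI : IsNoetherianRing Γ(X, V i) := IsLocallyNoetherian.component_noetherian ⟨V i, hV i⟩
      haveI : Module.Finite Γ(X, V i) Γ(F, V i) := Groth.L20.ModStalk.finite_sections F hF (hV i)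
      exact (associatedPrimes.finite Γ(X, V i) _).preimage
        (fun a _ b _ h => PrimeSpectrum.ext h)
    refine ((t.finite_toSet).biUnion fun i _ => (hfinI i).image (hV i).fromSpec).subset
      fun z hz => ?_
    obtain ⟨i, hit, hzi⟩ := Set.mem_iUnion₂.1 (ht (Set.mem_univ z))
    haveI : IsNoetherianRing Γ(X, V i) := IsLocallyNoetherian.component_noetherian ⟨V i, hV i⟩
    haveI : Module.Finite Γ(X, V i) Γ(F, V i) := Groth.L20.ModStalk.finite_sections F hF (hV i)
    refine Set.mem_iUnion₂.2 ⟨i, hit, (hV i).primeIdealOf ⟨z, hzi⟩, ?_,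
      (hV i).fromSpec_primeIdealOf ⟨z, hzi⟩⟩
    have hs := mem_quot_support (unif f ϖ (V i)) ((nontrivial_stalk_iff F (hV i) hzi).1 hz.2.1)
      ((fibre_eq_closed_iff f ϖ hϖ (hV i) hzi).1 hz.1)
    rw [Module.support_eq_zeroLocus] at hs
    obtain ⟨q₀, hq₀, hq₀z⟩ := Ideal.exists_minimalPrimes_le
      (show Module.annihilator _ _ ≤ ((hV i).primeIdealOf ⟨z, hzi⟩).asIdeal from hs)
    have hq₀A := Module.associatedPrimes.minimalPrimes_annihilator_subset_associatedPrimes _ _ hq₀
    obtain ⟨h1, h2, -⟩ := hassZ (V i) (hV i) ⟨q₀, hq₀.isPrime⟩ hq₀A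
    have he := hz.2.2 _ h1 h2 (by
      conv_rhs => rw [← hfp (hV i) z hzi]
      exact (specializes_fromSpec (hV i) _ _).2 hq₀z)
    replace he := he.trans (hfp (hV i) z hzi).symm
    show ((hV i).primeIdealOf ⟨z, hzi⟩).asIdeal ∈ associatedPrimes _ _
    rw [← congrArg PrimeSpectrum.asIdeal ((hV i).fromSpec.isOpenEmbedding.injective he)]
    exact hq₀A
  have hspz : ∀ x ∈ G, ∃ z ∈ Z, x ⤳ z := by
    intro x hx
    obtain ⟨hfx, hxS, hxmin⟩ := hx
    have hcl : IsClosed (f '' closure {x}) := f.isClosedMap _ isClosed_closure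
    have hyy : y' ⤳ y := genericPoint_specializes y
    obtain ⟨w, hw, hfw⟩ := hcl.stableUnderSpecialization hyy
      ⟨x, subset_closure rfl, hfx⟩
    have hxw : x ⤳ w := specializes_iff_mem_closure.2 hw
    obtain ⟨V, hV, hwV, -⟩ := exists_isAffineOpen_mem_and_subset (x := w) (U := ⊤) trivial
    haveI : IsNoetherianRing Γ(X, V) := IsLocallyNoetherian.component_noetherian ⟨V, hV⟩
    haveI : Module.Finite Γ(X, V) Γ(F, V) := Groth.L20.ModStalk.finite_sections F hF hV
    have hxV : x ∈ V := hxw.mem_open V.2 hwV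
    have hPs := (nontrivial_stalk_iff F hV hxV).1 hxS
    rw [Module.support_eq_zeroLocus] at hPs
    obtain ⟨P₀, hP₀, hP₀x⟩ := Ideal.exists_minimalPrimes_le
      (show Module.annihilator _ _ ≤ (hV.primeIdealOf ⟨x, hxV⟩).asIdeal from hPs)
    have hP : (hV.primeIdealOf ⟨x, hxV⟩).asIdeal ∈ associatedPrimes Γ(X, V) Γ(F, V) := by
      have hS₀ : Supp (hV.fromSpec ⟨P₀, hP₀.isPrime⟩) := by
        refine (nontrivial_stalk_iff F hV (Groth.L19.Ass.fromSpec_mem hV _)).2 ?_
        rw [Groth.L19.Ass.primeIdealOf_fromSpec hV, Module.support_eq_zeroLocus]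
        exact hP₀.1.2
      have he := hxmin _ hS₀ (by
        conv_rhs => rw [← hfp hV x hxV]
        exact (specializes_fromSpec hV _ _).2 hP₀x)
      replace he := he.trans (hfp hV x hxV).symm
      rw [← congrArg PrimeSpectrum.asIdeal (hV.fromSpec.isOpenEmbedding.injective he)]
      exact Module.associatedPrimes.minimalPrimes_annihilator_subset_associatedPrimes _ _ hP₀
    obtain ⟨q, hq, hqw⟩ := Ideal.exists_minimalPrimes_le
      (show (hV.primeIdealOf ⟨x, hxV⟩).asIdeal ⊔ Ideal.span {unif f ϖ V} ≤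
          (hV.primeIdealOf ⟨w, hwV⟩).asIdeal from
        sup_le ((specializes_iff hV hxV hwV).1 hxw) ((Ideal.span_singleton_le_iff_mem _).2
          ((fibre_eq_closed_iff f ϖ hϖ hV hwV).1 hfw)))
    refine ⟨_, hassZ V hV ⟨q, hq.isPrime⟩
      (mem_associatedPrimes_quot _ (nzd_sections f ϖ hϖ F hflat hV) hP hq), ?_⟩
    conv_lhs => rw [← hfp hV x hxV]
    exact (specializes_fromSpec hV _ _).2 (le_sup_left.trans hq.1.2)
  have hbound : ∀ z ∈ Z, ∀ t : Finset X, (∀ x ∈ t, x ∈ G ∧ x ⤳ z) →
      ∑ x ∈ t, Module.length (X.presheaf.stalk x) (F.presheaf.stalk x) ≤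
        Module.length (X.presheaf.stalk z) (F.presheaf.stalk z ⧸
          fibIdeal f z • (⊤ : Submodule (X.presheaf.stalk z) (F.presheaf.stalk z))) := by
    intro z hz t ht
    obtain ⟨V, hV, hzV, -⟩ := exists_isAffineOpen_mem_and_subset (x := z) (U := ⊤) trivial
    haveI : IsNoetherianRing Γ(X, V) := IsLocallyNoetherian.component_noetherian ⟨V, hV⟩
    haveI : Module.Finite Γ(X, V) Γ(F, V) := Groth.L20.ModStalk.finite_sections F hF hV
    haveI := hfin z
    letI := Groth.L20.ModStalk.stalkModule F hzV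
    letI := X.presheaf.algebra_section_stalk ⟨z, hzV⟩
    haveI := hV.isLocalization_stalk ⟨z, hzV⟩
    haveI := Groth.L20.ModStalk.isLocalizedModule_germ F hV hzV
    haveI : IsScalarTower Γ(X, V) (X.presheaf.stalk z) (F.presheaf.stalk z) :=
      IsScalarTower.of_algebraMap_smul fun _ _ => rfl
    let q := (hV.primeIdealOf ⟨z, hzV⟩).asIdeal
    let Rz := X.presheaf.stalk z
    rw [(fibIdeal_smul_top f ϖ hzV hϖ F).1 ((hy _).1 hz.1)]
    have hπ : X.presheaf.germ V z hzV (unif f ϖ V) ∈ IsLocalRing.maximalIdeal Rz :=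
      (IsLocalization.AtPrime.to_map_mem_maximal_iff Rz q _).2
        ((fibre_eq_closed_iff f ϖ hϖ hV hzV).1 hz.1)
    have hdisj : ∀ x : {x // x ∈ t}, ∃ p : PrimeSpectrum Rz,
        (hV.primeIdealOf ⟨x.1, (ht x.1 x.2).2.mem_open V.2 hzV⟩).asIdeal =
          p.asIdeal.comap (algebraMap Γ(X, V) Rz) := fun x => by
      have hle := (specializes_iff hV ((ht x.1 x.2).2.mem_open V.2 hzV) hzV).1 (ht x.1 x.2).2
      have hd : Disjoint (q.primeCompl : Set Γ(X, V))
          (hV.primeIdealOf ⟨x.1, (ht x.1 x.2).2.mem_open V.2 hzV⟩).asIdeal :=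
        Set.disjoint_left.mpr fun a ha ha' => ha (hle ha')
      haveI := IsLocalization.isPrime_of_isPrime_disjoint q.primeCompl Rz _ inferInstance hd
      exact ⟨⟨_, this⟩,
        (IsLocalization.under_map_of_isPrime_disjoint q.primeCompl _ inferInstance hd).symm⟩
    choose pf hpf using hdisj
    have hinj : Function.Injective pf := fun a b h => by
      have h' : hV.primeIdealOf ⟨a.1, (ht a.1 a.2).2.mem_open V.2 hzV⟩ =
          hV.primeIdealOf ⟨b.1, (ht b.1 b.2).2.mem_open V.2 hzV⟩ :=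
        PrimeSpectrum.ext ((hpf a).trans ((congrArg
          (fun p : PrimeSpectrum Rz => p.asIdeal.comap (algebraMap Γ(X, V) Rz)) h).trans (hpf b).symm))
      have := congrArg hV.fromSpec h'
      rw [hV.fromSpec_primeIdealOf, hV.fromSpec_primeIdealOf] at this
      exact Subtype.ext this
    have key := sum_length_le (M := F.presheaf.stalk z) (X.presheaf.germ V z hzV (unif f ϖ V)) hπ
      (unif_nzd f ϖ hzV hϖ F hflat) ?_ (Finset.univ.image pf) ?_
    · refine le_trans (le_of_eq ?_) key
      rw [Finset.sum_image fun a _ b _ h => hinj h, ← Finset.sum_coe_sort t]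
      refine Finset.sum_congr rfl fun x _ => ?_
      have hxV : x.1 ∈ V := (ht x.1 x.2).2.mem_open V.2 hzV
      letI := Groth.L20.ModStalk.stalkModule F hxV
      letI := X.presheaf.algebra_section_stalk ⟨x.1, hxV⟩
      haveI := hV.isLocalization_stalk ⟨x.1, hxV⟩
      haveI := Groth.L20.ModStalk.isLocalizedModule_germ F hV hxV
      haveI : IsScalarTower Γ(X, V) (X.presheaf.stalk x.1) (F.presheaf.stalk x.1) :=
        IsScalarTower.of_algebraMap_smul fun _ _ => rfl
      have hcompl : ((pf x).asIdeal.comap (algebraMap Γ(X, V) Rz)).primeCompl =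
          (hV.primeIdealOf ⟨x.1, hxV⟩).asIdeal.primeCompl := by
        ext r; exact not_congr (SetLike.ext_iff.1 (hpf x).symm r)
      haveI : IsLocalization ((pf x).asIdeal.comap (algebraMap Γ(X, V) Rz)).primeCompl
          (X.presheaf.stalk x.1) := by rw [hcompl]; infer_instance
      haveI : IsLocalizedModule ((pf x).asIdeal.comap (algebraMap Γ(X, V) Rz)).primeCompl
          (Groth.L20.ModStalk.germₗ F hxV) := by rw [hcompl]; infer_instance
      exact ((localization_point q Rz (F.presheaf.stalk z) (Groth.L20.ModStalk.germₗ F hzV)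
        (pf x).asIdeal).2 (X.presheaf.stalk x.1) (F.presheaf.stalk x.1)
        (Groth.L20.ModStalk.germₗ F hxV)).symm
    · intro p hp
      obtain ⟨hpM, hπp⟩ := quot_support_le _ hp
      have hcomap := (localization_point q Rz (F.presheaf.stalk z)
        (Groth.L20.ModStalk.germₗ F hzV) p.asIdeal).1.1 (Module.mem_support_iff.1 hpM)
      let P : Spec Γ(X, V) := ⟨p.asIdeal.comap (algebraMap Γ(X, V) Rz), inferInstance⟩
      have hP := Groth.L19.Ass.fromSpec_mem hV P
      have hPq : P.asIdeal ≤ q := fun r hr =>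
        (IsLocalization.AtPrime.to_map_mem_maximal_iff Rz q r).1
          (IsLocalRing.le_maximalIdeal p.2.ne_top hr)
      have he := hz.2.2 (hV.fromSpec P)
        ((fibre_eq_closed_iff f ϖ hϖ hV hP).2 (by
          rw [Groth.L19.Ass.primeIdealOf_fromSpec hV]; exact hπp))
        ((nontrivial_stalk_iff F hV hP).2 (by
          rw [Groth.L19.Ass.primeIdealOf_fromSpec hV]; exact hcomap))
        (by
          conv_rhs => rw [← hfp hV z hzV]
          exact (specializes_fromSpec hV _ _).2 hPq)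
      replace he := he.trans (hfp hV z hzV).symm
      have he' := congrArg PrimeSpectrum.asIdeal (hV.fromSpec.isOpenEmbedding.injective he)
      rw [← IsLocalization.map_under q.primeCompl Rz p.asIdeal]
      show Ideal.map _ P.asIdeal = _
      rw [he']
      exact IsLocalization.AtPrime.map_eq_maximalIdeal q Rz
    · intro p hp
      obtain ⟨x, -, rfl⟩ := Finset.mem_image.1 hp
      obtain ⟨⟨hfx, hxS, -⟩, hxz⟩ := ht x.1 x.2
      have hxV : x.1 ∈ V := hxz.mem_open V.2 hzV
      refine ⟨Module.mem_support_iff.2 ((localization_point q Rz (F.presheaf.stalk z)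
        (Groth.L20.ModStalk.germₗ F hzV) (pf x).asIdeal).1.2 ?_), fun h => ?_⟩
      · convert (nontrivial_stalk_iff F hV hxV).1 hxS using 1
        exact PrimeSpectrum.ext (hpf x).symm
      · have : unif f ϖ V ∈ (hV.primeIdealOf ⟨x.1, hxV⟩).asIdeal := by rw [hpf x]; exact h
        exact (hy' _).1 hfx ((unif_mem_iff f ϖ hV hxV).1 this)
  -- assemble
  let a : {v : ↥(f.fiber y') // Nontrivial (((Scheme.Modules.pullback (f.fiberι y')).obj F).presheaf.stalk v) ∧
      ∀ w : ↥(f.fiber y'), Nontrivial (((Scheme.Modules.pullback (f.fiberι y')).obj F).presheaf.stalk w) → v ∈ closure {w} → w = v} → ℕ∞ :=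
    fun z' => Module.length ((f.fiber y').presheaf.stalk z'.1) (((Scheme.Modules.pullback (f.fiberι y')).obj F).presheaf.stalk z'.1)
  change finsum a ≤ _
  by_cases hsupp : (Function.support a).Finite
  swap
  · rw [finsum_of_infinite_support hsupp]; exact zero_le
  rw [finsum_eq_sum a hsupp]
  haveI : Finite {v : ↥(f.fiber y) // Nontrivial (((Scheme.Modules.pullback (f.fiberι y)).obj F).presheaf.stalk v) ∧
      ∀ w : ↥(f.fiber y), Nontrivial (((Scheme.Modules.pullback (f.fiberι y)).obj F).presheaf.stalk w) → v ∈ closure {w} → w = v} :=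
    Set.Finite.to_subtype ((hZfin.preimage ((f.fiberι y).isEmbedding.injective.injOn)).subset
      fun v hv => ⟨hfix y v, ((hmax y v).1 hv).1, ((hmax y v).1 hv).2⟩)
  letI := Fintype.ofFinite {v : ↥(f.fiber y) // Nontrivial (((Scheme.Modules.pullback (f.fiberι y)).obj F).presheaf.stalk v) ∧
      ∀ w : ↥(f.fiber y), Nontrivial (((Scheme.Modules.pullback (f.fiberι y)).obj F).presheaf.stalk w) → v ∈ closure {w} → w = v}
  rw [finsum_eq_sum_of_fintype]
  have hG : ∀ z' : {v : ↥(f.fiber y') // Nontrivial (((Scheme.Modules.pullback (f.fiberι y')).obj F).presheaf.stalk v) ∧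
      ∀ w : ↥(f.fiber y'), Nontrivial (((Scheme.Modules.pullback (f.fiberι y')).obj F).presheaf.stalk w) → v ∈ closure {w} → w = v},
      f.fiberι y' z'.1 ∈ G := fun z' =>
    ⟨hfix y' _, ((hmax y' _).1 z'.2).1, fun b hb hbx =>
      ((hmax y' _).1 z'.2).2 b (hgenize b _ hbx (hfix y' _)) hb hbx⟩
  choose c hc hcs using fun z' => hspz _ (hG z')
  choose cv hcv using fun z' => hdown y (c z') (hc z').1
  have hmem : ∀ z', (fun v => Nontrivial (((Scheme.Modules.pullback (f.fiberι y)).obj F).presheaf.stalk v) ∧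
      ∀ w : ↥(f.fiber y), Nontrivial (((Scheme.Modules.pullback (f.fiberι y)).obj F).presheaf.stalk w) → v ∈ closure {w} → w = v) (cv z') :=
    fun z' => (hmax y _).2 (by rw [hcv z']; exact ⟨(hc z').2.1, (hc z').2.2⟩)
  rw [← Finset.sum_fiberwise hsupp.toFinset (fun z' => (⟨cv z', hmem z'⟩ : {v : ↥(f.fiber y) // Nontrivial (((Scheme.Modules.pullback (f.fiberι y)).obj F).presheaf.stalk v) ∧
      ∀ w : ↥(f.fiber y), Nontrivial (((Scheme.Modules.pullback (f.fiberι y)).obj F).presheaf.stalk w) → v ∈ closure {w} → w = v})) a]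
  refine Finset.sum_le_sum fun z _ => ?_
  rw [(fibre_stalk f F hfin y z.1).2.1]
  refine le_trans (le_of_eq ?_) (hbound (f.fiberι y z.1)
    ⟨hfix y _, ((hmax y _).1 z.2).1, ((hmax y _).1 z.2).2⟩
    ((hsupp.toFinset.filter fun z' => (⟨cv z', hmem z'⟩ : {v : ↥(f.fiber y) // Nontrivial (((Scheme.Modules.pullback (f.fiberι y)).obj F).presheaf.stalk v) ∧
      ∀ w : ↥(f.fiber y), Nontrivial (((Scheme.Modules.pullback (f.fiberι y)).obj F).presheaf.stalk w) → v ∈ closure {w} → w = v}) = z).image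
      fun z' => f.fiberι y' z'.1) ?_)
  · rw [Finset.sum_image fun a _ b _ h => Subtype.ext ((f.fiberι y').isEmbedding.injective h)]
    refine Finset.sum_congr rfl fun z' _ => ?_
    show Module.length _ _ = _
    rw [(fibre_stalk f F hfin y' z'.1).2.1]
    obtain ⟨V, hV, hxV, -⟩ :=
      exists_isAffineOpen_mem_and_subset (x := f.fiberι y' z'.1) (U := ⊤) trivial
    rw [(fibIdeal_smul_top f ϖ hxV hϖ F).2 ((hy' _).1 (hfix y' _))]
    exact (Submodule.quotEquivOfEqBot _ rfl).length_eq
  · intro x hx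
    obtain ⟨z', hz', rfl⟩ := Finset.mem_image.1 hx
    refine ⟨hG z', ?_⟩
    rw [← (Finset.mem_filter.1 hz').2]
    show _ ⤳ f.fiberι y (cv z')
    rw [hcv z']
    exact hcs z'

end Groth.Agent.S4980
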