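import Groth.Statements.S4990
import Mathlib.RingTheory.Ideal.KrullsHeightTheorem
import Mathlib.RingTheory.Ideal.GoingDown
import Mathlib.AlgebraicGeometry.Morphisms.Smooth
import Mathlib.AlgebraicGeometry.Noetherian
import Mathlib.AlgebraicGeometry.Morphisms.Flat
import Mathlib.AlgebraicGeometry.OpenImmersion

set_option autoImplicit false
universe u
open CategoryTheory CategoryTheory.Limits AlgebraicGeometry TopologicalSpace
open Unram17


namespace Groth.Agent.S4990

/-- Let Y be locally Noetherian and f : X ⟶ Y locally of finite type, smooth on an open neighbourhood of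
a point x with image y. Then the Krull dimension of the local ring of X at x is the sum of the Krull
dimension of the local ring of Y at y and of the Krull dimension of the local ring of the fibre, the
quotient of the local ring at x by the extension of the maximal ideal at y. -/
theorem result {X Y : Scheme.{u}} (f : X ⟶ Y)
    [IsLocallyNoetherian Y] [LocallyOfFiniteType f] (x : ↥X)
    (hx : ∃ U : X.Opens, x ∈ U ∧ Smooth (U.ι ≫ f)) :
    ringKrullDim ↑(X.presheaf.stalk x) =
      ringKrullDim ↑(Y.presheaf.stalk (f.base x)) +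
        ringKrullDim (↑(X.presheaf.stalk x) ⧸
          (IsLocalRing.maximalIdeal ↑(Y.presheaf.stalk (f.base x))).map (f.stalkMap x).hom) := by
  obtain ⟨U, hxU, hU⟩ := hx
  haveI := hU
  haveI := LocallyOfFiniteType.isLocallyNoetherian f
  have hflat : (f.stalkMap x).hom.Flat := by
    have h := Flat.stalkMap (U.ι ≫ f) ⟨x, hxU⟩
    rw [Scheme.Hom.stalkMap_comp] at h
    have e : f.stalkMap x = (f.stalkMap (U.ι ⟨x, hxU⟩) ≫ U.ι.stalkMap ⟨x, hxU⟩) ≫ inv (U.ι.stalkMap ⟨x, hxU⟩) := by simp
    rw [e]
    exact RingHom.Flat.stableUnderComposition _ _ h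
      (RingHom.Flat.of_bijective (ConcreteCategory.bijective_of_isIso (inv (U.ι.stalkMap ⟨x, hxU⟩))))
  algebraize [(f.stalkMap x).hom]
  let A := Y.presheaf.stalk (f.base x)
  let B := X.presheaf.stalk x
  haveI : IsLocalHom (algebraMap A B) := inferInstanceAs (IsLocalHom (f.stalkMap x).hom)
  haveI : (IsLocalRing.maximalIdeal B).LiesOver (IsLocalRing.maximalIdeal A) :=
    ⟨(IsLocalRing.maximalIdeal_comap (algebraMap A B)).symm⟩
  have h := Ideal.height_eq_height_add_of_liesOver_of_hasGoingDown (IsLocalRing.maximalIdeal A) (IsLocalRing.maximalIdeal B)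
  let J := (IsLocalRing.maximalIdeal A).map (algebraMap A B)
  have hJ : J ≤ IsLocalRing.maximalIdeal B := Ideal.map_le_iff_le_comap.2 (IsLocalRing.maximalIdeal_comap (algebraMap A B)).ge
  haveI : Nontrivial (B ⧸ J) := Ideal.Quotient.nontrivial_iff.2 fun hJ' =>
    (IsLocalRing.maximalIdeal.isMaximal B).ne_top (top_le_iff.1 (hJ' ▸ hJ))
  haveI : IsLocalRing (B ⧸ J) := IsLocalRing.of_surjective' _ Ideal.Quotient.mk_surjective
  have hm : (IsLocalRing.maximalIdeal B).map (Ideal.Quotient.mk J) = IsLocalRing.maximalIdeal (B ⧸ J) :=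
    IsLocalRing.map_maximalIdeal_of_surjective _ Ideal.Quotient.mk_surjective
  rw [hm] at h
  show ringKrullDim B = ringKrullDim A + ringKrullDim (B ⧸ J)
  rw [← IsLocalRing.maximalIdeal_height_eq_ringKrullDim, ← IsLocalRing.maximalIdeal_height_eq_ringKrullDim,
    ← IsLocalRing.maximalIdeal_height_eq_ringKrullDim, h]
  exact WithBot.coe_add _ _

end Groth.Agent.S4990
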