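import Groth.Statements.S4997
import Groth.Agent.S3830
import Mathlib.AlgebraicGeometry.Morphisms.Etale
import Mathlib.AlgebraicGeometry.Morphisms.QuasiFinite
import Mathlib.RingTheory.Etale.Locus
import Mathlib.RingTheory.Unramified.LocalStructure

set_option autoImplicit false
universe u
open CategoryTheory CategoryTheory.Limits AlgebraicGeometry TopologicalSpace
open Unram17

namespace Groth.Agent.S4997

/-- A morphism of schemes is etale if and only if it is smooth and locally quasi-finite. -/
theorem result {X Y : Scheme.{u}} (f : X ⟶ Y) :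
    Etale f ↔ Smooth f ∧ LocallyQuasiFinite f := by
  refine ⟨fun _ => ⟨inferInstance, ?_⟩, fun ⟨hs, hq⟩ => ?_⟩
  · rw [HasRingHomProperty.iff_appLE (P := @LocallyQuasiFinite)]
    intro U V e
    have h := HasRingHomProperty.appLE (P := @Etale) f ‹_› U V e
    algebraize [(f.appLE U V e).hom]
    exact (inferInstance : Algebra.QuasiFinite Γ(Y, U) Γ(X, V))
  · rw [HasRingHomProperty.iff_appLE (P := @Etale)]
    intro U V e
    have h1 := HasRingHomProperty.appLE (P := @Smooth) f hs U V e
    have h2 := HasRingHomProperty.appLE (P := @LocallyQuasiFinite) f hq U V e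
    algebraize [(f.appLE U V e).hom]
    haveI : Algebra.FormallyEtale Γ(Y, U) Γ(X, V) := by
      refine Algebra.etaleLocus_eq_univ_iff.mp (Set.eq_univ_of_forall fun q => ?_)
      haveI := q.2
      exact Groth.Agent.S3830.result Γ(Y, U) Γ(X, V) q.asIdeal inferInstance
    exact Algebra.Etale.mk

end Groth.Agent.S4997
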