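import Groth.Statements.S4998
import Mathlib.RingTheory.Unramified.Field
import Mathlib.RingTheory.Unramified.Pi
import Mathlib.RingTheory.Artinian.Module
import Mathlib.FieldTheory.Separable
import Mathlib.FieldTheory.Minpoly.Field
import Mathlib.RingTheory.FiniteType
import Mathlib.RingTheory.EssentialFiniteness

set_option autoImplicit false
universe u
open Unram17

namespace Groth.Agent.S4998

/-- Let A be an algebra of finite type over a field k. Then A is formally unramified over k if and only
if A is finite over k and every element of A has separable minimal polynomial over k (equivalently,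
A is a finite product of finite separable extensions of k). -/
theorem result (k A : Type u) [Field k] [CommRing A]
    [Algebra k A] [Algebra.FiniteType k A] :
    Algebra.FormallyUnramified k A ↔ Module.Finite k A ∧ Algebra.IsSeparable k A := by
  open Polynomial in
    classical
    constructor
    · intro h
      haveI : Module.Finite k A := Algebra.FormallyUnramified.finite_of_free k A
      haveI : IsReduced A := Algebra.FormallyUnramified.isReduced_of_field k A
      haveI : IsArtinianRing A := IsArtinianRing.of_finite k A
      letI : ∀ m : MaximalSpectrum A, Field (A ⧸ m.asIdeal) := fun m => Ideal.Quotient.field _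
      haveI := Fintype.ofFinite (MaximalSpectrum A)
      have hsep : ∀ m : MaximalSpectrum A, Algebra.IsSeparable k (A ⧸ m.asIdeal) := fun m => by
        haveI : Algebra.FormallyUnramified k (A ⧸ m.asIdeal) :=
          Algebra.FormallyUnramified.of_surjective (Ideal.Quotient.mkₐ k m.asIdeal) (Ideal.Quotient.mkₐ_surjective k _)
        exact Algebra.FormallyUnramified.isSeparable k _
      refine ⟨inferInstance, ⟨fun x => ?_⟩⟩
      let P := Finset.univ.image fun m : MaximalSpectrum A => minpoly k (Ideal.Quotient.mk m.asIdeal x)
      have hP : (∏ q ∈ P, q).Separable := by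
        refine separable_prod' (fun q hq r hr hqr => ?_) (fun q hq => ?_)
        · obtain ⟨m, -, rfl⟩ := Finset.mem_image.1 hq
          obtain ⟨n, -, rfl⟩ := Finset.mem_image.1 hr
          haveI := hsep m
          haveI := hsep n
          refine (minpoly.irreducible (Algebra.IsSeparable.isIntegral k _)).coprime_iff_not_dvd.2 fun hd => hqr ?_
          exact eq_of_monic_of_associated (minpoly.monic (Algebra.IsSeparable.isIntegral k _))
            (minpoly.monic (Algebra.IsSeparable.isIntegral k _))
            ((minpoly.irreducible (Algebra.IsSeparable.isIntegral k _)).associated_of_dvd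
              (minpoly.irreducible (Algebra.IsSeparable.isIntegral k _)) hd)
        · obtain ⟨m, -, rfl⟩ := Finset.mem_image.1 hq
          haveI := hsep m
          exact Algebra.IsSeparable.isSeparable k _
      refine hP.of_dvd (minpoly.dvd k x ((IsArtinianRing.equivPi A).injective ?_))
      rw [map_zero]
      funext m
      rw [IsArtinianRing.equivPi_apply]
      show Ideal.Quotient.mkₐ k m.asIdeal (aeval x (∏ q ∈ P, q)) = 0
      rw [← aeval_algHom_apply, map_prod]
      exact Finset.prod_eq_zero (Finset.mem_image_of_mem _ (Finset.mem_univ m)) (minpoly.aeval k _)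
    · rintro ⟨hfin, hs⟩
      haveI := hfin
      haveI := hs
      haveI : IsArtinianRing A := IsArtinianRing.of_finite k A
      haveI : IsReduced A := by
        refine isReduced_iff_pow_one_lt 2 one_lt_two |>.2 fun x hx => ?_
        have h1 : minpoly k x ∣ (X : k[X]) ^ 2 := minpoly.dvd k x (by rw [map_pow, aeval_X, hx])
        obtain ⟨i, hi, hu⟩ := (dvd_prime_pow Polynomial.prime_X 2).1 h1
        have h2 : ((X : k[X]) ^ i).Separable := hu.separable_iff.1 (Algebra.IsSeparable.isSeparable k x)
        have h3 : i ≤ 1 := by
          by_contra hcon
          exact Polynomial.not_isUnit_X ((h2.squarefree) X ((pow_two (X : k[X])) ▸ pow_dvd_pow X (by omega : 2 ≤ i)))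
        have h4 := aeval_eq_zero_of_dvd_aeval_eq_zero (hu.dvd) (minpoly.aeval k x)
        rw [map_pow, aeval_X] at h4
        interval_cases i
        · rw [← one_mul x, ← pow_zero x, h4, zero_mul]
        · rwa [pow_one] at h4
      letI : ∀ m : MaximalSpectrum A, Field (A ⧸ m.asIdeal) := fun m => Ideal.Quotient.field _
      haveI : ∀ m : MaximalSpectrum A, Algebra.FormallyUnramified k (A ⧸ m.asIdeal) := fun m => by
        haveI : Algebra.IsSeparable k (A ⧸ m.asIdeal) := ⟨fun y => by
          obtain ⟨x, rfl⟩ := Ideal.Quotient.mk_surjective y
          refine (Algebra.IsSeparable.isSeparable k x).of_dvd (minpoly.dvd k _ ?_)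
          show aeval (Ideal.Quotient.mkₐ k m.asIdeal x) (minpoly k x) = 0
          rw [aeval_algHom_apply, minpoly.aeval, map_zero]⟩
        exact Algebra.FormallyUnramified.of_isSeparable k _
      exact Algebra.FormallyUnramified.of_equiv ((IsArtinianRing.equivPi A).symm.restrictScalars k)

end Groth.Agent.S4998
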