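import Groth.Statements.S4999
import Groth.Agent.L05.SmoothCrit.Projective

set_option autoImplicit false
universe u
open Unram17

namespace Groth.Agent.S4999

/-- Let A be an algebra of finite type over a field k. Then A is smooth over k if and only if the module
of differentials of A over k is projective (locally free) and, at every minimal prime p of A, the
local ring A_p is geometrically reduced over k, which for this Artinian local ring says that A_p is
a field and a separable (not necessarily algebraic) extension of k. -/
theorem result (k A : Type u) [Field k] [CommRing A]
    [Algebra k A] [Algebra.FiniteType k A] :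
    Algebra.Smooth k A ↔
      Module.Projective A (KaehlerDifferential k A) ∧
        ∀ (p : Ideal A) [p.IsPrime], p ∈ minimalPrimes A →
          Algebra.IsGeometricallyReduced k (Localization.AtPrime p) := by
  constructor
  · intro h
    refine ⟨inferInstance, fun p _ hp => ?_⟩
    haveI : Algebra.IsSmoothAt k p := by
      have h1 : (⟨p, inferInstance⟩ : PrimeSpectrum A) ∈ Algebra.smoothLocus k A := by
        rw [Algebra.smoothLocus_eq_univ]; trivial
      exact h1
    exact Groth.L05.SmoothCrit.isGeometricallyReduced_of_minimal p hp
  · rintro ⟨hproj, hmin⟩
    haveI : Algebra.FinitePresentation k A := Algebra.FinitePresentation.of_finiteType.mp ‹Algebra.FiniteType k A›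
    refine ⟨(Algebra.smoothLocus_eq_univ_iff (R := k) (A := A)).mp (Set.eq_univ_of_forall fun q => ?_), inferInstance⟩
    exact Groth.L05.SmoothCrit.isSmoothAt_of_projective (fun p _ hp => by
      haveI := hmin p hp
      exact Groth.L05.SmoothCrit.isSmoothAt_of_minimal p hp) q.asIdeal

end Groth.Agent.S4999
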