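import Groth.Statements.S5001
import Groth.Agent.L05.SmoothCrit.Adapted
import Mathlib.RingTheory.Etale.Field

set_option autoImplicit false
universe u
open Unram17

namespace Groth.Agent.S5001

/-- Let k be a field, A a k-algebra of finite type equipped with a k-algebra map from the polynomial
ring in n variables, with images g_i of the variables, and p a prime of A such that Spec A has local
dimension n at p, the residue field of p is a finite separable extension of k, and every g_i lies in
p. Then A is etale over the polynomial ring at p if and only if the images of the g_i generate the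
maximal ideal of the local ring A_p. -/
theorem result (k A : Type u) [Field k] [CommRing A] [Algebra k A]
    [Algebra.FiniteType k A] (n : ℕ) [Algebra (MvPolynomial (Fin n) k) A]
    [IsScalarTower k (MvPolynomial (Fin n) k) A] (p : Ideal A) [p.IsPrime]
    (hn : FlatMor.localDim (PrimeSpectrum A) ⟨p, inferInstance⟩ = (n : WithBot ℕ∞))
    [Module.Finite k p.ResidueField] [Algebra.IsSeparable k p.ResidueField]
    (hg : ∀ i : Fin n, algebraMap (MvPolynomial (Fin n) k) A (MvPolynomial.X i) ∈ p) :
    Algebra.IsEtaleAt (MvPolynomial (Fin n) k) p ↔
      Ideal.span (Set.range fun i : Fin n =>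
        algebraMap A (Localization.AtPrime p) (algebraMap (MvPolynomial (Fin n) k) A (MvPolynomial.X i))) =
        IsLocalRing.maximalIdeal (Localization.AtPrime p) := by
  let g : Fin n → Localization.AtPrime p := fun i =>
    algebraMap A (Localization.AtPrime p) (algebraMap (MvPolynomial (Fin n) k) A (MvPolynomial.X i))
  obtain ⟨d, c, t, hd, -, -, hl, -⟩ := Groth.L05.SmoothCrit.exists_invariants (k := k) p
  obtain ⟨t, hnt, ht⟩ := Groth.L05.SmoothCrit.dim_le_localDim (k := k) p hn hd
  haveI : Algebra.IsAlgebraic k p.ResidueField := Algebra.IsAlgebraic.of_finite k _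
  rw [trdeg_eq_zero, map_zero] at ht
  subst ht
  obtain rfl : n = d := hnt
  haveI : Algebra.FormallyEtale k p.ResidueField := Algebra.FormallyEtale.of_isSeparable k _
  haveI : Subsingleton (KaehlerDifferential k p.ResidueField) := Algebra.FormallyUnramified.subsingleton_kaehlerDifferential
  rw [Groth.L05.SmoothCrit.isEtaleAt_mvPolynomial_iff k A n p hn]
  have h := Groth.L05.SmoothCrit.adapted_iff_span (k := k) p hn hd g (fun i _ =>
    (IsLocalization.AtPrime.to_map_mem_maximal_iff (Localization.AtPrime p) p _).mpr (hg i))
  rw [show {i : Fin n | (i : ℕ) < n} = Set.univ from Set.eq_univ_of_forall fun i => i.2, Set.image_univ,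
    eq_true (Subsingleton.elim _ _ : Submodule.span p.ResidueField ((fun i : Fin n =>
      KaehlerDifferential.D k p.ResidueField (IsLocalRing.residue (Localization.AtPrime p) (g i))) ''
        {i : Fin n | n ≤ (i : ℕ)}) = ⊤), and_true] at h
  exact h.symm

end Groth.Agent.S5001
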