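import Groth.Statements.S5004
import Groth.Agent.L14.RegImmStalk.Stalk
import Mathlib.AlgebraicGeometry.IdealSheaf.Subscheme

set_option autoImplicit false
set_option linter.style.haveILetI false
universe u
open CategoryTheory CategoryTheory.Limits AlgebraicGeometry TopologicalSpace
open Nrm16

namespace Groth.Agent.S5004

/-- On a locally Noetherian scheme, every quasi-regular (quasi-coherent) ideal sheaf is a regular ideal
sheaf. -/
theorem result {X : Scheme.{u}} [IsLocallyNoetherian X] (I : X.IdealSheafData)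
    (h : RegImm.IsRegularIdeal RegImm.Kind.quasi I) : RegImm.IsRegularIdeal RegImm.Kind.regular I := by
  intro x hx
  obtain ⟨⟨U, hU⟩, hxU, rs, hrs, hI⟩ := h x hx
  rw [← SetLike.mem_coe, ← I.range_subschemeι] at hx
  obtain ⟨z, rfl⟩ := hx
  have hq : RegImm.IsRegularImmersionAt RegImm.Kind.quasi I.subschemeι z :=
    ⟨⟨U, hU⟩, hxU, inferInstance, rs, hrs, by
      rw [← Scheme.Hom.ker_apply I.subschemeι ⟨U, hU⟩, Scheme.IdealSheafData.ker_subschemeι]; exact hI⟩
  obtain ⟨⟨V, hV⟩, hzV, -, rs', hrs', hI'⟩ :=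
    (Groth.L14.RegImmStalk.regularAt_iff_stalk I.subschemeι RegImm.Kind.regular z).mpr
      ((Groth.L14.RegImmStalk.regularAt_iff_stalk I.subschemeι RegImm.Kind.quasi z).mp hq)
  refine ⟨⟨V, hV⟩, hzV, rs', hrs', ?_⟩
  rw [← Scheme.Hom.ker_apply I.subschemeι ⟨V, hV⟩, Scheme.IdealSheafData.ker_subschemeι] at hI'
  exact hI'

end Groth.Agent.S5004
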