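import Groth.Statements.S5006
import Mathlib.RingTheory.Localization.AtPrime.Basic
import Mathlib.RingTheory.Nakayama
import Mathlib.RingTheory.Nilpotent.Lemmas
-- import your own Groth.Agent.* helpers here

set_option autoImplicit false
universe u
open Nrm16

namespace Groth.Agent.S5006

/-- Let A be a commutative ring, I a finitely generated ideal and p a prime ideal containing I. Then
some basic open neighbourhood of p in Spec A is contained in the closed set V(I) (so that V(I) ⟶
Spec A is a local homeomorphism onto an open set near p) if and only if there is an integer n > 0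
with I^n A_p = I^(n+1) A_p in the local ring at p. Affine form. -/
theorem result (A : Type u) [CommRing A] (I : Ideal A) (hI : I.FG)
    (p : Ideal A) [p.IsPrime] (hp : I ≤ p) :
    (∃ f : A, f ∉ p ∧ ∀ q : Ideal A, q.IsPrime → f ∉ q → I ≤ q) ↔
      ∃ n : ℕ, 0 < n ∧
        (I ^ n).map (algebraMap A (Localization.AtPrime p)) =
          (I ^ (n + 1)).map (algebraMap A (Localization.AtPrime p)) := by
  classical
  constructor
  · rintro ⟨f, hf, hV⟩
    have hle : I * Ideal.span {f} ≤ nilradical A := by
      rw [nilradical_eq_sInf, le_sInf_iff]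
      intro q hq
      by_cases hfq : f ∈ q
      · exact Ideal.mul_le_right.trans (Ideal.span_le.2 (Set.singleton_subset_iff.2 hfq))
      · exact Ideal.mul_le_left.trans (hV q hq hfq)
    obtain ⟨n, hn⟩ := Ideal.exists_pow_le_of_le_radical_of_fg (I := I * Ideal.span {f}) (J := ⊥) hle
      (hI.mul (Submodule.fg_span_singleton f))
    have hu : IsUnit (algebraMap A (Localization.AtPrime p) f) :=
      IsLocalization.map_units _ (⟨f, hf⟩ : p.primeCompl)
    have hz : ∀ m, n ≤ m → (I ^ m).map (algebraMap A (Localization.AtPrime p)) = ⊥ := by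
      intro m hm
      have h1 := Ideal.map_mono (f := algebraMap A (Localization.AtPrime p))
        ((Ideal.pow_le_pow_right hm).trans hn : (I * Ideal.span {f}) ^ m ≤ ⊥)
      rw [Ideal.map_bot, mul_pow, Ideal.map_mul, Ideal.map_pow, Ideal.map_pow,
        Ideal.map_span, Set.image_singleton, Ideal.span_singleton_eq_top.2 hu, Ideal.top_pow, Ideal.mul_top] at h1
      rw [Ideal.map_pow]
      exact le_bot_iff.1 h1
    exact ⟨n + 1, Nat.succ_pos n, by rw [hz _ (by omega), hz _ (by omega)]⟩
  · rintro ⟨n, hn, he⟩
    have hz : (I ^ n).map (algebraMap A (Localization.AtPrime p)) = ⊥ := by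
      refine Submodule.eq_bot_of_le_smul_of_le_jacobson_bot (I.map (algebraMap A (Localization.AtPrime p))) _
        ((hI.pow (n := n)).map _) ?_ ?_
      · rw [smul_eq_mul, ← Ideal.map_mul, ← pow_succ']
        exact he.le
      · refine le_trans ?_ (IsLocalRing.maximalIdeal_le_jacobson _)
        rw [← IsLocalization.AtPrime.map_eq_maximalIdeal p (Localization.AtPrime p)]
        exact Ideal.map_mono hp
    obtain ⟨s, hs⟩ := hI.pow (n := n)
    have hv : ∀ x ∈ s, ∃ v : p.primeCompl, (v : A) * x = 0 := fun x hx =>
      (IsLocalization.map_eq_zero_iff p.primeCompl (Localization.AtPrime p) x).1 (by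
        rw [← Ideal.mem_bot, ← hz]
        exact Ideal.mem_map_of_mem _ (hs ▸ Submodule.subset_span hx))
    choose! v hv using hv
    refine ⟨∏ x ∈ s, (v x : A), ?_, fun q hq hfq => ?_⟩
    · rw [Ideal.IsPrime.prod_mem_iff]
      rintro ⟨x, -, hx⟩
      exact (v x).2 hx
    · refine hq.le_of_pow_le (n := n) ?_
      rw [← hs, Submodule.span_le]
      intro x hx
      refine (hq.mem_or_mem (?_ : (∏ x ∈ s, (v x : A)) * x ∈ q)).resolve_left hfq
      rw [← Finset.prod_erase_mul s _ hx, mul_assoc, hv x hx, mul_zero]
      exact q.zero_mem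

end Groth.Agent.S5006
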