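import Groth.Statements.S5009
import Groth.Agent.L05.Point.UnramDual
import Groth.Agent.L05.Point.Stalk
import Groth.Agent.L05.Hensel.SecLift

set_option autoImplicit false
universe u
open CategoryTheory CategoryTheory.Limits AlgebraicGeometry TopologicalSpace
open Unram17

set_option backward.isDefEq.respectTransparency.types false

namespace Groth.Agent.S5009

/-- Let f : X ⟶ Y be locally of finite presentation and x a point of X. Then f is (formally) unramified
on an open neighbourhood of x if and only if for every surjection of local rings B' → B with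
square-zero kernel, every morphism Spec B ⟶ X sending the closed point to x and every morphism Spec
B' ⟶ Y making the square commute, any two lifts Spec B' ⟶ X compatible with both are equal. -/
theorem result {X Y : Scheme.{u}} (f : X ⟶ Y)
    [LocallyOfFinitePresentation f] (x : ↥X) :
    (∃ U : X.Opens, x ∈ U ∧ FormallyUnramified (U.ι ≫ f)) ↔
      ∀ (B B' : Type u) [CommRing B] [CommRing B'] [IsLocalRing B] [IsLocalRing B'] (φ : B' →+* B),
      Function.Surjective φ → RingHom.ker φ ^ 2 = ⊥ →
      ∀ (α : Spec (CommRingCat.of B) ⟶ X) (β : Spec (CommRingCat.of B') ⟶ Y),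
        α.base (IsLocalRing.closedPoint B) = x → Spec.map (CommRingCat.ofHom φ) ≫ β = α ≫ f →
        ∀ γ₁ γ₂ : Spec (CommRingCat.of B') ⟶ X,
          Spec.map (CommRingCat.ofHom φ) ≫ γ₁ = α → γ₁ ≫ f = β →
          Spec.map (CommRingCat.ofHom φ) ≫ γ₂ = α → γ₂ ≫ f = β → γ₁ = γ₂ := by
  constructor
  · rintro ⟨U, hxU, hU⟩ B B' _ _ _ _ φ hφ hφ2 α β hα hαβ γ₁ γ₂ h1 h1' h2 h2'
    haveI := hU
    have hsurj : ∀ p : PrimeSpectrum B', p ∈ Set.range (PrimeSpectrum.comap φ) := fun p => by
      rw [range_comap_of_surjective _ _ hφ, PrimeSpectrum.mem_zeroLocus]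
      exact fun a ha => p.isPrime.mem_of_pow_mem 2 (by
        have h3 : a ^ 2 ∈ RingHom.ker φ ^ 2 := Ideal.pow_mem_pow ha 2
        rw [hφ2, Ideal.mem_bot] at h3
        rw [h3]; exact p.asIdeal.zero_mem)
    have hαU : ∀ q : ↥(Spec (CommRingCat.of B)), α.base q ∈ U := fun q =>
      ((IsLocalRing.specializes_closedPoint q).map α.continuous).mem_open U.2 (by rw [hα]; exact hxU)
    have hran : ∀ γ : Spec (CommRingCat.of B') ⟶ X, Spec.map (CommRingCat.ofHom φ) ≫ γ = α →
        Set.range γ.base ⊆ Set.range U.ι.base := by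
      rintro γ hγ _ ⟨p, rfl⟩
      obtain ⟨q, rfl⟩ := hsurj p
      rw [Scheme.Opens.range_ι]
      have := hαU q
      rw [← hγ, Scheme.Hom.comp_apply] at this
      exact this
    let δ₁ := IsOpenImmersion.lift U.ι γ₁ (hran γ₁ h1)
    let δ₂ := IsOpenImmersion.lift U.ι γ₂ (hran γ₂ h2)
    obtain ⟨E, hE, -, hmax⟩ := Groth.L05.SecLift.exists_agree_open (U.ι ≫ f) δ₁ δ₂ (by
      simp only [δ₁, δ₂, IsOpenImmersion.lift_fac_assoc, h1', h2'])
    have hEt : E = ⊤ := TopologicalSpace.Opens.ext (Set.eq_univ_of_forall fun p =>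
      hmax (Spec.map (CommRingCat.ofHom φ)) (by
        rw [← cancel_mono U.ι]
        simp only [δ₁, δ₂, Category.assoc, IsOpenImmersion.lift_fac, h1, h2]) (hsurj p))
    subst hEt
    haveI : Epi (Scheme.Opens.ι (⊤ : (Spec (CommRingCat.of B')).Opens)) := by
      rw [← Scheme.topIso_hom]; infer_instance
    rw [← IsOpenImmersion.lift_fac U.ι γ₁ (hran γ₁ h1), ← IsOpenImmersion.lift_fac U.ι γ₂ (hran γ₂ h2)]
    exact congrArg (· ≫ U.ι) ((cancel_epi _).1 hE)
  · intro H
    refine (Groth.L05.Point.nhd_formallyUnramified_iff_stalkMap f x).2 ?_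
    algebraize [(f.stalkMap x).hom]
    haveI : Algebra.EssFiniteType (Y.presheaf.stalk (f x)) (X.presheaf.stalk x) := by
      rw [← RingHom.essFiniteType_algebraMap, RingHom.algebraMap_toAlgebra]
      exact LocallyOfFiniteType.stalkMap f x
    refine RingHom.formallyUnramified_algebraMap.2 (Groth.L05.Point.formallyUnramified_of_dualNumber _ _ ?_)
    intro g hg1 hg2
    let κ := IsLocalRing.ResidueField (X.presheaf.stalk x)
    haveI : IsLocalRing (DualNumber κ) := IsLocalRing.of_isUnit_or_isUnit_one_sub_self fun a => by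
      rw [TrivSqZeroExt.isUnit_iff_isUnit_fst, TrivSqZeroExt.isUnit_iff_isUnit_fst, TrivSqZeroExt.fst_sub,
        TrivSqZeroExt.fst_one]
      exact IsLocalRing.isUnit_or_isUnit_one_sub_self _
    let g₁ : X.presheaf.stalk x →+* DualNumber κ := (TrivSqZeroExt.inlHom κ κ).comp (IsLocalRing.residue _)
    let r : X.presheaf.stalk x →+* κ := IsLocalRing.residue (X.presheaf.stalk x)
    let φ : DualNumber κ →+* κ := (TrivSqZeroExt.fstHom κ κ κ).toRingHom
    have hker : RingHom.ker φ ^ 2 = ⊥ := by
      rw [eq_bot_iff, pow_two, Ideal.mul_le]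
      intro a ha b hb
      rw [Ideal.mem_bot]
      have ha' : TrivSqZeroExt.fst a = 0 := ha
      have hb' : TrivSqZeroExt.fst b = 0 := hb
      exact TrivSqZeroExt.ext (by rw [TrivSqZeroExt.fst_mul, ha', zero_mul]; rfl)
        (by rw [DualNumber.snd_mul, ha', hb', zero_mul, mul_zero, add_zero]; rfl)
    let γ := fun g : X.presheaf.stalk x →+* DualNumber κ => Spec.map (CommRingCat.ofHom g) ≫ X.fromSpecStalk x
    have hcomp : ∀ g : X.presheaf.stalk x →+* DualNumber κ, γ g ≫ f =
        Spec.map (CommRingCat.ofHom (g.comp (f.stalkMap x).hom)) ≫ Y.fromSpecStalk (f x) := fun g => by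
      simp only [γ, Category.assoc, ← Scheme.SpecMap_stalkMap_fromSpecStalk, ← Spec.map_comp_assoc]
      rfl
    have hfst : ∀ g : X.presheaf.stalk x →+* DualNumber κ, (∀ b, TrivSqZeroExt.fst (g b) = r b) →
        Spec.map (CommRingCat.ofHom φ) ≫ γ g = Spec.map (CommRingCat.ofHom r) ≫ X.fromSpecStalk x := by
      intro g hg
      simp only [γ, ← Spec.map_comp_assoc]
      congr 2
      exact CommRingCat.hom_ext (RingHom.ext hg)
    have hγ : γ g = γ g₁ := by
      refine H κ (DualNumber κ) φ TrivSqZeroExt.fst_surjective hker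
        (Spec.map (CommRingCat.ofHom r) ≫ X.fromSpecStalk x) (γ g₁ ≫ f) ?_ ?_ _ _
        (hfst g hg1) ?_ (hfst g₁ fun b => rfl) rfl
      · have hcl : (Spec.map (CommRingCat.ofHom r)).base (IsLocalRing.closedPoint κ) =
            IsLocalRing.closedPoint (X.presheaf.stalk x) := by
          haveI : IsLocalHom (IsLocalRing.residue (X.presheaf.stalk x)) := inferInstance
          exact IsLocalRing.comap_closedPoint (IsLocalRing.residue (X.presheaf.stalk x))
        rw [Scheme.Hom.comp_apply, hcl, Scheme.fromSpecStalk_closedPoint]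
      · rw [← Category.assoc, hfst g₁ fun b => rfl]
      · rw [hcomp, hcomp]
        congr 3
        exact RingHom.ext hg2
    have := Spec.map_injective ((cancel_mono (X.fromSpecStalk x)).1 hγ)
    exact fun b => RingHom.congr_fun (congrArg CommRingCat.Hom.hom this) b

end Groth.Agent.S5009
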