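import Groth.Statements.S5013
import Groth.Agent.L05.SmoothUnivOpen.Main
import Groth.Agent.L21.Smooth.Scheme
import Groth.Agent.L04.CMLoc
import Groth.Agent.S4939
import Groth.Agent.S2595
-- import your own Groth.Agent.* helpers here

set_option autoImplicit false
set_option backward.isDefEq.respectTransparency.types false
set_option backward.isDefEq.respectTransparency false
universe u
open CategoryTheory CategoryTheory.Limits AlgebraicGeometry TopologicalSpace
open Unram17

namespace Groth.Agent.S5013

/-- Let Y be locally Noetherian, f : X ⟶ Y locally of finite type, x a point of X with image y, and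
suppose the local ring of Y at y is reduced and geometrically unibranch. Then f is smooth on an open
neighbourhood of x if and only if f is equidimensional at x and the local ring of the fibre at x
(the quotient of the local ring of X at x by the extension of the maximal ideal at y) is
geometrically regular over the residue field κ(y). -/
theorem result {X Y : Scheme.{u}} (f : X ⟶ Y)
    [IsLocallyNoetherian Y] [LocallyOfFiniteType f] (x : ↥X)
    (hred : IsReduced ↑(Y.presheaf.stalk (f.base x)))
    (hgu : CAlg2.IsGeomUnibranch ↑(Y.presheaf.stalk (f.base x))) :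
    letI φ := (f.stalkMap x).hom
    letI 𝔪 := IsLocalRing.maximalIdeal ↑(Y.presheaf.stalk (f.base x))
    letI : Algebra (IsLocalRing.ResidueField ↑(Y.presheaf.stalk (f.base x))) (↑(X.presheaf.stalk x) ⧸ 𝔪.map φ) :=
      (Ideal.quotientMap (𝔪.map φ) φ Ideal.le_comap_map).toAlgebra
    (∃ U : X.Opens, x ∈ U ∧ Smooth (U.ι ≫ f)) ↔
      EGA43.IsEquidimAt f x ∧
        CAlg.IsGeometricallyRegular (IsLocalRing.ResidueField ↑(Y.presheaf.stalk (f.base x)))
          (↑(X.presheaf.stalk x) ⧸ 𝔪.map φ) := by
  refine (Groth.L05.SmoothUnivOpen.smooth_nhd_iff f x hred).trans ⟨fun h => ⟨?_, h.2⟩,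
    fun h => ⟨fun z hz hmax => (((Groth.Agent.S4939.result f x hgu).out 0 2 rfl rfl).mp h.1).2 z hz hmax, h.2⟩⟩
  haveI : LocallyOfFinitePresentation f := Groth.L05.SmoothCrit.lfp_of_noetherian f
  obtain ⟨U, hxU, hU⟩ := (Groth.L05.SmoothUnivOpen.smooth_nhd_iff f x hred).mpr h
  haveI := hU
  refine Groth.Agent.S2595.result f x ?_ ?_
  · obtain ⟨w, rfl⟩ : x ∈ Set.range U.ι := by rw [U.range_ι]; exact hxU
    exact (RingHom.Flat.respectsIso.cancel_right_isIso (f.stalkMap (U.ι w)) (U.ι.stalkMap w)).mp
      (by rw [← CommRingCat.hom_comp, ← Scheme.Hom.stalkMap_comp]; exact Flat.stalkMap (U.ι ≫ f) w)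
  · obtain ⟨W, hW, hWs⟩ := Groth.L19.SmoothLocus.fiber_smooth_of_nhd f (f.base x) (w := f.asFiber x)
      (by rw [f.fiberι_asFiber x]; exact ⟨U, hxU, hU⟩)
    haveI := hWs
    haveI := Groth.L21.Smooth.regular_stalk (W.ι ≫ f.fiberToSpecResidueField (f.base x)) ⟨f.asFiber x, hW⟩
    haveI : IsRegularLocalRing ((f.fiber (f.base x)).presheaf.stalk (f.asFiber x)) :=
      IsRegularLocalRing.of_ringEquiv (W.stalkIso ⟨f.asFiber x, hW⟩).commRingCatIsoToRingEquiv
    exact Groth.L04.isCohenMacaulayLocalRing_of_regular _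

end Groth.Agent.S5013
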