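import Groth.Statements.S5023
import Groth.Agent.L07.DerProduct

set_option autoImplicit false
set_option linter.style.haveILetI false
set_option maxSynthPendingDepth 3
set_option backward.isDefEq.respectTransparency false
set_option backward.isDefEq.respectTransparency.types false
set_option linter.style.haveILetI false
universe u
open CategoryTheory CategoryTheory.Limits AlgebraicGeometry TopologicalSpace
open Nrm16

namespace Groth.Agent.S5023

/-- Let a : X ⟶ S and b : Y ⟶ S be morphisms and Z a fibre product of X and Y over S with projections p,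
q and structure morphism h. Given sheaves of differentials (universal derivations) of X, Y and Z
over S and the canonical compatible maps c₁ : p^*Ω_X ⟶ Ω_Z and c₂ : q^*Ω_Y ⟶ Ω_Z, the induced map
from the coproduct p^*Ω_X ⨿ q^*Ω_Y to Ω_Z is an isomorphism. -/
theorem result {X Y S Z : Scheme.{u}} (a : X ⟶ S) (b : Y ⟶ S)
    (p : Z ⟶ X) (q : Z ⟶ Y) (h : Z ⟶ S) (wp : p ≫ a = h) (wq : q ≫ b = h) (hZ : IsPullback p q a b)
    (ΩX : X.Modules) (dX : OmegaSh.Der a ΩX) (hX : OmegaSh.IsUniversal dX)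
    (ΩY : Y.Modules) (dY : OmegaSh.Der b ΩY) (hY : OmegaSh.IsUniversal dY)
    (ΩZ : Z.Modules) (dZ : OmegaSh.Der h ΩZ) (hZu : OmegaSh.IsUniversal dZ)
    (c₁ : (Scheme.Modules.pullback p).obj ΩX ⟶ ΩZ) (hc₁ : OmegaSh.IsDiffCompat p dX dZ c₁)
    (c₂ : (Scheme.Modules.pullback q).obj ΩY ⟶ ΩZ) (hc₂ : OmegaSh.IsDiffCompat q dY dZ c₂) :
    IsIso (coprod.desc c₁ c₂) := by
  classical
  let P := Scheme.Modules.pullback p
  let Q := Scheme.Modules.pullback q
  let K : Z.Modules := P.obj ΩX ⨿ Q.obj ΩY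
  let adjp := Scheme.Modules.pullbackPushforwardAdjunction p
  let adjq := Scheme.Modules.pullbackPushforwardAdjunction q
  have wp' : h ≫ 𝟙 S = p ≫ a := (Category.comp_id h).trans wp.symm
  have wq' : h ≫ 𝟙 S = q ≫ b := (Category.comp_id h).trans wq.symm
  let E₁ : OmegaSh.Der a ((Scheme.Modules.pushforward p).obj K) :=
    dX.postcomp (adjp.homEquiv ΩX K (coprod.inl : P.obj ΩX ⟶ K)).val
  let E₂ : OmegaSh.Der b ((Scheme.Modules.pushforward q).obj K) :=
    dY.postcomp (adjq.homEquiv ΩY K (coprod.inr : Q.obj ΩY ⟶ K)).val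
  obtain ⟨D₁, hD₁⟩ := (Groth.L07.DerProd.pushDerSq_bijective hZ K).2 E₁
  obtain ⟨D₂, hD₂⟩ := (Groth.L07.DerProd.pushDerSq_bijective hZ.flip K).2 E₂
  let D : OmegaSh.Der h K :=
    { d := fun {U} => D₁.app U.unop + D₂.app U.unop
      d_mul := fun {U} x y => by
        show D₁.app U.unop (x * y) + D₂.app U.unop (x * y) =
          (show Γ(Z, U.unop) from x) • (D₁.app U.unop y + D₂.app U.unop y) +
            (show Γ(Z, U.unop) from y) • (D₁.app U.unop x + D₂.app U.unop x)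
        rw [show D₁.app U.unop (x * y) = (show Γ(Z, U.unop) from x) • D₁.app U.unop y +
          (show Γ(Z, U.unop) from y) • D₁.app U.unop x from D₁.d_mul x y,
          show D₂.app U.unop (x * y) = (show Γ(Z, U.unop) from x) • D₂.app U.unop y +
          (show Γ(Z, U.unop) from y) • D₂.app U.unop x from D₂.d_mul x y, smul_add, smul_add]
        abel
      d_map := fun {U V} i x => by
        show D₁.app V.unop _ + D₂.app V.unop _ = K.presheaf.map i (D₁.app U.unop x + D₂.app U.unop x)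
        rw [map_add]
        exact congrArg₂ (· + ·) (D₁.d_map i x) (D₂.d_map i x)
      d_app := fun {V} c => by
        show D₁.app (h ⁻¹ᵁ V.unop) (h.app V.unop c) + D₂.app (h ⁻¹ᵁ V.unop) (h.app V.unop c) = 0
        rw [Groth.L07.DerProd.app_base wq, Groth.L07.DerProd.app_base wp, add_zero] }
  have hDp : ∀ (U : X.Opens) (s : Γ(X, U)), D.app (p ⁻¹ᵁ U) (p.app U s) =
      (coprod.inl : P.obj ΩX ⟶ K).app (p ⁻¹ᵁ U) (OmegaSh.pullSect p ΩX U (dX.app U s)) := fun U s => by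
    show D₁.app (p ⁻¹ᵁ U) (p.app U s) + D₂.app (p ⁻¹ᵁ U) (p.app U s) = _
    rw [show D₂.app (p ⁻¹ᵁ U) (p.app U s) = 0 from D₂.d_app (X := Opposite.op U) s, add_zero]
    exact (congrArg (fun E : OmegaSh.Der a _ => E.app U s) hD₁).trans
      (Groth.L19.OmegaSh.homEquiv_app_diffCompat p dX (coprod.inl : P.obj ΩX ⟶ K) U s)
  have hDq : ∀ (U : Y.Opens) (s : Γ(Y, U)), D.app (q ⁻¹ᵁ U) (q.app U s) =
      (coprod.inr : Q.obj ΩY ⟶ K).app (q ⁻¹ᵁ U) (OmegaSh.pullSect q ΩY U (dY.app U s)) := fun U s => by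
    show D₁.app (q ⁻¹ᵁ U) (q.app U s) + D₂.app (q ⁻¹ᵁ U) (q.app U s) = _
    rw [show D₁.app (q ⁻¹ᵁ U) (q.app U s) = 0 from D₁.d_app (X := Opposite.op U) s, zero_add]
    exact (congrArg (fun E : OmegaSh.Der b _ => E.app U s) hD₂).trans
      (Groth.L19.OmegaSh.homEquiv_app_diffCompat q dY (coprod.inr : Q.obj ΩY ⟶ K) U s)
  obtain ⟨α, hα, -⟩ := hZu K D
  have hαd : ∀ (U : Z.Opens) (x : Γ(Z, U)), α.app U (dZ.app U x) = D.app U x := fun U x =>
    congrArg (fun E : OmegaSh.Der h K => E.app U x) hα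
  have h1 : c₁ ≫ α = coprod.inl :=
    (Groth.L19.OmegaSh.existsUnique_diffCompat p (𝟙 S) wp' hX D).unique
      (fun U s => (congrArg (α.app _) (hc₁ U s)).trans (hαd _ _)) (fun U s => (hDp U s).symm)
  have h2 : c₂ ≫ α = coprod.inr :=
    (Groth.L19.OmegaSh.existsUnique_diffCompat q (𝟙 S) wq' hY D).unique
      (fun U s => (congrArg (α.app _) (hc₂ U s)).trans (hαd _ _)) (fun U s => (hDq U s).symm)
  refine ⟨α, coprod.hom_ext (by rw [coprod.inl_desc_assoc, h1, Category.comp_id])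
    (by rw [coprod.inr_desc_assoc, h2, Category.comp_id]), ?_⟩
  obtain ⟨v, -, hv⟩ := hZu ΩZ dZ
  refine (hv _ ?_).trans (hv (𝟙 ΩZ) rfl).symm
  refine Groth.L07.DerProd.der_ext hZ _ _ (fun U s => ?_) (fun U s => ?_)
  · show (coprod.desc c₁ c₂).app _ (α.app _ (dZ.app _ (p.app U s))) = dZ.app _ (p.app U s)
    rw [hαd, hDp]
    exact (congrArg (fun g : P.obj ΩX ⟶ ΩZ => g.app (p ⁻¹ᵁ U) (OmegaSh.pullSect p ΩX U (dX.app U s)))
      (coprod.inl_desc c₁ c₂)).trans (hc₁ U s)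
  · show (coprod.desc c₁ c₂).app _ (α.app _ (dZ.app _ (q.app U s))) = dZ.app _ (q.app U s)
    rw [hαd, hDq]
    exact (congrArg (fun g : Q.obj ΩY ⟶ ΩZ => g.app (q ⁻¹ᵁ U) (OmegaSh.pullSect q ΩY U (dY.app U s)))
      (coprod.inr_desc c₁ c₂)).trans (hc₂ U s)

end Groth.Agent.S5023
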