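import Groth.Statements.S5024
import Groth.Agent.L05.SmoothCrit.LocalModelScheme

set_option autoImplicit false
universe u
open CategoryTheory CategoryTheory.Limits AlgebraicGeometry TopologicalSpace
open Unram17

namespace Groth.Agent.S5024

/-- Let Y be locally Noetherian and f : X ⟶ Y locally of finite type, smooth on an open neighbourhood of
a point x with image y. Then for every n the local ring of X at x has Serre's property (S_n),
respectively (R_n), if and only if the local ring of Y at y has it. -/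
theorem result {X Y : Scheme.{u}} (f : X ⟶ Y)
    [IsLocallyNoetherian Y] [LocallyOfFiniteType f] (x : ↥X)
    (hx : ∃ U : X.Opens, x ∈ U ∧ Smooth (U.ι ≫ f)) (n : ℕ) :
    (LocCoh.HasSk n ↑(X.presheaf.stalk x) ↑(X.presheaf.stalk x) ↔
        LocCoh.HasSk n ↑(Y.presheaf.stalk (f.base x)) ↑(Y.presheaf.stalk (f.base x))) ∧
      (LocCoh.HasRk n ↑(X.presheaf.stalk x) ↔ LocCoh.HasRk n ↑(Y.presheaf.stalk (f.base x))) := by
  haveI : LocallyOfFinitePresentation f := Groth.L05.SmoothCrit.lfp_of_noetherian f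
  obtain ⟨A, B, _, _, _, _, q, _, hN, ⟨eX⟩, ⟨eY⟩⟩ :=
    Groth.L05.SmoothCrit.exists_smooth_chart f x (Groth.L05.SmoothCrit.mem_smoothLocus_of_nhd f x hx)
  haveI := hN inferInstance
  haveI : IsNoetherianRing B := Algebra.FiniteType.isNoetherianRing A B
  haveI : IsNoetherianRing (Localization.AtPrime q) := IsLocalization.isNoetherianRing q.primeCompl _ inferInstance
  haveI : IsNoetherianRing (Localization.AtPrime (q.comap (algebraMap A B))) :=
    IsLocalization.isNoetherianRing (q.comap (algebraMap A B)).primeCompl _ inferInstance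
  haveI : IsNoetherianRing (X.presheaf.stalk x) := isNoetherianRing_of_ringEquiv _ eX.symm
  haveI : IsNoetherianRing (Y.presheaf.stalk (f x)) := isNoetherianRing_of_ringEquiv _ eY.symm
  refine ⟨⟨fun h => ?_, fun h => ?_⟩, ⟨fun h => ?_, fun h => ?_⟩⟩
  · exact Groth.L06.FibreComp.hasSk_of_ringEquiv eY.symm n
      ((Groth.L05.SmoothCrit.hasSk_iff A B q n).mp (Groth.L06.FibreComp.hasSk_of_ringEquiv eX n h))
  · exact Groth.L06.FibreComp.hasSk_of_ringEquiv eX.symm n
      ((Groth.L05.SmoothCrit.hasSk_iff A B q n).mpr (Groth.L06.FibreComp.hasSk_of_ringEquiv eY n h))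
  · exact Groth.L05.SmoothCrit.hasRk_of_ringEquiv eY.symm n
      ((Groth.L05.SmoothCrit.hasRk_iff A B q n).mp (Groth.L05.SmoothCrit.hasRk_of_ringEquiv eX n h))
  · exact Groth.L05.SmoothCrit.hasRk_of_ringEquiv eX.symm n
      ((Groth.L05.SmoothCrit.hasRk_iff A B q n).mpr (Groth.L05.SmoothCrit.hasRk_of_ringEquiv eY n h))

end Groth.Agent.S5024
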