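import Groth.Statements.S5025
import Groth.Agent.L05.SmoothCrit.LocalModelScheme
import Groth.Agent.L05.SmoothCrit.Codepth

set_option autoImplicit false
universe u
open CategoryTheory CategoryTheory.Limits AlgebraicGeometry TopologicalSpace
open Unram17

namespace Groth.Agent.S5025

/-- Let Y be locally Noetherian and f : X ⟶ Y locally of finite type, smooth on an open neighbourhood of
a point x with image y. Then the local rings of X at x and of Y at y have the same codepth (Krull
dimension minus depth); written without subtraction: dim O_{X,x} + depth O_{Y,y} = dim O_{Y,y} +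
depth O_{X,x}. -/
theorem result {X Y : Scheme.{u}} (f : X ⟶ Y)
    [IsLocallyNoetherian Y] [LocallyOfFiniteType f] (x : ↥X)
    (hx : ∃ U : X.Opens, x ∈ U ∧ Smooth (U.ι ≫ f)) :
    ringKrullDim ↑(X.presheaf.stalk x) +
        ((LocCoh.depth ↑(Y.presheaf.stalk (f.base x)) ↑(Y.presheaf.stalk (f.base x)) : ℕ∞) : WithBot ℕ∞) =
      ringKrullDim ↑(Y.presheaf.stalk (f.base x)) +
        ((LocCoh.depth ↑(X.presheaf.stalk x) ↑(X.presheaf.stalk x) : ℕ∞) : WithBot ℕ∞) := by
  haveI : LocallyOfFinitePresentation f := Groth.L05.SmoothCrit.lfp_of_noetherian f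
  obtain ⟨A, B, _, _, _, _, q, _, hN, ⟨eX⟩, ⟨eY⟩⟩ :=
    Groth.L05.SmoothCrit.exists_smooth_chart f x (Groth.L05.SmoothCrit.mem_smoothLocus_of_nhd f x hx)
  haveI := hN inferInstance
  haveI : IsNoetherianRing B := Algebra.FiniteType.isNoetherianRing A B
  haveI : IsNoetherianRing (Localization.AtPrime q) := IsLocalization.isNoetherianRing q.primeCompl _ inferInstance
  haveI : IsNoetherianRing (Localization.AtPrime (q.comap (algebraMap A B))) :=
    IsLocalization.isNoetherianRing (q.comap (algebraMap A B)).primeCompl _ inferInstance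
  haveI : IsNoetherianRing (X.presheaf.stalk x) := isNoetherianRing_of_ringEquiv _ eX.symm
  haveI : IsNoetherianRing (Y.presheaf.stalk (f x)) := isNoetherianRing_of_ringEquiv _ eY.symm
  rw [ringKrullDim_eq_of_ringEquiv eX, ringKrullDim_eq_of_ringEquiv eY,
    ← Groth.L06.FlatFibre.depth_eq_of_ringEquiv eY, ← Groth.L06.FlatFibre.depth_eq_of_ringEquiv eX]
  exact Groth.L05.SmoothCrit.codepth_eq A B q

end Groth.Agent.S5025
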