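import Groth.Statements.S5027
import Groth.Agent.L05.SmoothCrit.Adapted

set_option autoImplicit false
universe u
open Unram17

namespace Groth.Agent.S5027

/-- Let A be an algebra of finite type over a field k, p a prime of A such that Spec A has local
dimension n at p, and r the Krull dimension of the local ring A_p. Then A_p is regular and the
residue field κ(p) is a separable extension of k (geometrically reduced over k) if and only if there
exist n elements of the local ring A_p (germs at p in place of sections over an open neighbourhood
of p, which is equivalent) of which those with index < r generate the maximal ideal and the residue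
classes of the remaining ones have differentials generating the module of differentials of κ(p) over
k. -/
theorem result (k A : Type u) [Field k]
    [CommRing A] [Algebra k A] [Algebra.FiniteType k A] (n r : ℕ) (p : Ideal A) [p.IsPrime]
    (hn : FlatMor.localDim (PrimeSpectrum A) ⟨p, inferInstance⟩ = (n : WithBot ℕ∞))
    (hr : ringKrullDim (Localization.AtPrime p) = (r : WithBot ℕ∞)) :
    (IsRegularLocalRing (Localization.AtPrime p) ∧ Algebra.IsGeometricallyReduced k p.ResidueField) ↔
      ∃ g : Fin n → Localization.AtPrime p,
        Ideal.span (g '' {i : Fin n | (i : ℕ) < r}) = IsLocalRing.maximalIdeal (Localization.AtPrime p) ∧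
          Submodule.span p.ResidueField ((fun i : Fin n =>
            KaehlerDifferential.D k p.ResidueField (IsLocalRing.residue (Localization.AtPrime p) (g i))) ''
              {i : Fin n | r ≤ (i : ℕ)}) = ⊤ := by
  classical
  haveI : Algebra.EssFiniteType A p.ResidueField := inferInstance
  haveI : Algebra.EssFiniteType k p.ResidueField := Algebra.EssFiniteType.comp k A _
  obtain ⟨t, rfl, ht⟩ := Groth.L05.SmoothCrit.dim_le_localDim (k := k) p hn hr
  haveI := (Groth.L06.SepKaehler.finrank_kaehler_eq k p.ResidueField).1
  haveI : IsNoetherianRing A := Algebra.FiniteType.isNoetherianRing k A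
  constructor
  · rintro ⟨hreg, hgr⟩
    have hΩ : Module.finrank p.ResidueField (KaehlerDifferential k p.ResidueField) = t := by
      obtain ⟨-, hfin, hc⟩ := Groth.L06.SepKaehler.finrank_kaehler_eq k p.ResidueField
      rw [(Groth.L06.SepKaehler.separable_iff_imperfection (E := k) (F := p.ResidueField)).mp hgr,
        finrank_bot] at hc
      omega
    have hsp : (IsLocalRing.maximalIdeal (Localization.AtPrime p)).spanFinrank = r := by
      have := (isRegularLocalRing_iff _).mp hreg
      rw [hr] at this
      exact_mod_cast this
    obtain ⟨s, hs, hs'⟩ := Submodule.FG.exists_span_finset_card_eq_spanFinrank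
      (IsNoetherian.noetherian (IsLocalRing.maximalIdeal (Localization.AtPrime p)))
    let es : Fin r ≃ s := (s.equivFinOfCardEq (hs.trans hsp)).symm
    let β := Module.finBasisOfFinrankEq p.ResidueField (KaehlerDifferential k p.ResidueField) hΩ
    have hspan : Submodule.span p.ResidueField (Set.range fun a => KaehlerDifferential.D k p.ResidueField
        (IsLocalRing.residue (Localization.AtPrime p) a)) = ⊤ := by
      rw [show (fun a => KaehlerDifferential.D k p.ResidueField (IsLocalRing.residue (Localization.AtPrime p) a)) =
        ⇑(KaehlerDifferential.D k p.ResidueField) ∘ ⇑(IsLocalRing.residue (Localization.AtPrime p)) from rfl,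
        Set.range_comp, IsLocalRing.residue_surjective.range_eq,
        Set.image_univ, KaehlerDifferential.span_range_derivation]
    obtain ⟨b, hb⟩ : ∃ b : Fin t → Localization.AtPrime p, Submodule.span p.ResidueField
        (Set.range fun j => KaehlerDifferential.D k p.ResidueField
          (IsLocalRing.residue (Localization.AtPrime p) (b j))) = ⊤ := by
      obtain ⟨u, hu, husp, huli⟩ := exists_linearIndependent p.ResidueField (Set.range fun a =>
        KaehlerDifferential.D k p.ResidueField (IsLocalRing.residue (Localization.AtPrime p) a))
      rw [hspan] at husp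
      let B := Module.Basis.mk huli (by rw [Subtype.range_coe, husp])
      haveI : Finite u := Module.Finite.finite_basis B
      haveI : Fintype u := Fintype.ofFinite _
      have hu' : Fintype.card u = t := by rw [← hΩ, Module.finrank_eq_card_basis B]
      let eu := (Fintype.equivFinOfCardEq hu').symm
      choose b hb using fun j => hu (eu j).2
      refine ⟨b, ?_⟩
      simp only [hb]
      rw [show (fun j => ((eu j : u) : KaehlerDifferential k p.ResidueField)) = Subtype.val ∘ eu from rfl,
        Set.range_comp, eu.surjective.range_eq, Set.image_univ, Subtype.range_coe, husp]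
    refine ⟨Fin.append (fun i => (es i).1) b, ?_, ?_⟩
    · rw [← hs']
      congr 1
      ext x
      constructor
      · rintro ⟨i, hi, rfl⟩
        obtain ⟨j, rfl⟩ : ∃ j : Fin r, i = Fin.castAdd t j := ⟨⟨i, hi⟩, Fin.ext rfl⟩
        rw [Fin.append_left]
        exact (es j).2
      · intro hx
        refine ⟨Fin.castAdd t (es.symm ⟨x, hx⟩), (es.symm ⟨x, hx⟩).2, ?_⟩
        rw [Fin.append_left, Equiv.apply_symm_apply]
    · rw [eq_top_iff, ← hb, Submodule.span_le]
      rintro _ ⟨j, rfl⟩
      exact Submodule.subset_span ⟨Fin.natAdd r j, Nat.le_add_right r j, by
        show KaehlerDifferential.D k p.ResidueField (IsLocalRing.residue (Localization.AtPrime p)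
          (Fin.append (fun i => (es i).1) b (Fin.natAdd r j))) = _
        rw [Fin.append_right]⟩
  · rintro ⟨g, h1, h2⟩
    haveI : Algebra.EssFiniteType A (Localization.AtPrime p) := Algebra.EssFiniteType.of_isLocalization _ p.primeCompl
    haveI : Algebra.EssFiniteType k (Localization.AtPrime p) := Algebra.EssFiniteType.comp k A _
    have h := Groth.L05.SmoothCrit.span_of_residue k _ g _ _ h1 h2
    refine ⟨(Groth.L05.SmoothCrit.smooth_of_spanning p hn g h).2.1,
      (Groth.L05.SmoothCrit.geomReduced_iff_finrank p.ResidueField).mpr ?_⟩
    rw [← ht]
    have h3 : Module.finrank p.ResidueField (KaehlerDifferential k p.ResidueField) ≤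
        ((Finset.univ.filter fun i : Fin (r + t) => r ≤ (i : ℕ)).image fun i : Fin (r + t) =>
          KaehlerDifferential.D k p.ResidueField (IsLocalRing.residue (Localization.AtPrime p) (g i))).card := by
      rw [← finrank_top, ← h2]
      refine le_trans (le_of_eq ?_) (finrank_span_finset_le_card (R := p.ResidueField) _)
      congr 3 <;> rw [Finset.coe_image, Finset.coe_filter] <;> simp
    refine h3.trans (Finset.card_image_le.trans ?_)
    calc (Finset.univ.filter fun i : Fin (r + t) => r ≤ (i : ℕ)).card
        ≤ ((Finset.univ : Finset (Fin t)).image (Fin.natAdd r)).card := Finset.card_le_card fun i hi => by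
          simp only [Finset.mem_filter, Finset.mem_univ, true_and] at hi
          exact Finset.mem_image.mpr ⟨⟨(i : ℕ) - r, by omega⟩, Finset.mem_univ _, Fin.ext (by simp; omega)⟩
      _ ≤ t := Finset.card_image_le.trans (by simp)

end Groth.Agent.S5027
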