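import Groth.Statements.S5029
import Groth.Agent.L18.SymGraded
import Groth.Agent.L14.Smoothing.SymAlg
import Groth.Agent.L04.FinLocFreeHom
import Mathlib.AlgebraicGeometry.Morphisms.Smooth
-- import your own Groth.Agent.* helpers here

set_option autoImplicit false
universe u
open CategoryTheory CategoryTheory.Limits AlgebraicGeometry TopologicalSpace
open Unram17

namespace Groth.Agent.S5029

/-- Let S be a scheme and E a quasi-coherent O_S-module that is finite locally free. If A is a
quasi-coherent O_S-algebra which is the symmetric algebra of E (through j : E ⟶ A), then the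
structure morphism of the relative spectrum of A, i.e. of the vector bundle V(E), is smooth. -/
theorem result {S : Scheme.{u}} (E : S.Modules) (hE : Coh.IsQCoh E)
    (hlf : FlatMod.IsFinLocFree E) (A : RelSpec.QCAlg S) (j : E ⟶ A.toModule) (hA : RelSpec.IsSymAlg E A j) :
    Smooth A.π := by
  classical
  haveI : Coh.IsQCoh E := hE
  obtain ⟨Φ, hΦ, -, -⟩ := Groth.L18.SymSheaf.exists_equiv hA
  choose W n e hxW he using Groth.L04.FinLocFreeHom.exists_frame hlf
  have hV : ∀ x : S, ∃ (V : S.Opens), IsAffineOpen V ∧ x ∈ V ∧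
      Module.Free Γ(S, V) Γ(E, V) ∧ Module.Finite Γ(S, V) Γ(E, V) := fun x => by
    obtain ⟨_, ⟨V, hV, rfl⟩, hxV, hle⟩ := S.isBasis_affineOpens.exists_subset_of_mem_open (hxW x) (W x).2
    obtain ⟨b, -⟩ := ((he x).rs (V := V) hle).basis
    exact ⟨V, hV, hxV, Module.Free.of_basis b, Module.Finite.of_basis b⟩
  choose V hV hxV hfree hfin using hV
  let 𝒰 : A.spec.OpenCover := Scheme.Cover.mkOfCovers S (fun x => Spec (A.presheaf.obj (Opposite.op (V x))))
    (fun x => A.ι (V x) (hV x)) (fun y => by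
      have h : y ∈ A.π ⁻¹ᵁ V (A.π.base y) := hxV _
      rw [RelSpec.QCAlg.π_preimage _ _ (hV _)] at h
      obtain ⟨z, hz⟩ := h
      exact ⟨_, z, hz⟩)
  refine (IsZariskiLocalAtSource.iff_of_openCover (P := @Smooth) (f := A.π) 𝒰).2 fun x => ?_
  show Smooth (A.ι (V x) (hV x) ≫ A.π)
  rw [RelSpec.QCAlg.ι_π]
  haveI : Smooth (Spec.map (A.str.app (Opposite.op (V x)))) := by
    rw [HasRingHomProperty.Spec_iff (P := @Smooth)]
    haveI := hfree x
    haveI := hfin x
    have h1 : (algebraMap Γ(S, V x) (Groth.L18.SymSheaf.Sym E (V x))).Smooth :=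
      RingHom.smooth_algebraMap.2 (inferInstanceAs (Algebra.Smooth Γ(S, V x) (SymmetricAlgebra Γ(S, V x) Γ(E, V x))))
    have h2 : (A.str.app (Opposite.op (V x))).hom =
        (Φ (V x) (hV x)).toRingHom.comp (algebraMap Γ(S, V x) (Groth.L18.SymSheaf.Sym E (V x))) :=
      RingHom.ext fun r => (hΦ (V x) (hV x) r).symm
    rw [h2]
    exact RingHom.Smooth.respectsIso.1 _ (Φ (V x) (hV x)) h1
  infer_instance

end Groth.Agent.S5029
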