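import Groth.Statements.S5035
import Groth.Agent.L05.Hensel.LocalCriteria
import Groth.Agent.L05.Hensel.Product
import Mathlib.RingTheory.Smooth.Flat
import Mathlib.RingTheory.Flat.FaithfullyFlat.Algebra

set_option autoImplicit false
universe u
open Hensel

namespace Groth.Agent.S5035

/-- a) iff c') (affine form): a local ring R is henselian if and only if, for every R-algebra S of
finite type and every prime q of S lying over the maximal ideal of R such that S is quasi-finite
over R at q, the local ring S_q is a finitely generated R-module. -/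
theorem result (R : Type u) [CommRing R] [IsLocalRing R] :
    HenselianLocalRing R ↔
      ∀ (S : Type u) [CommRing S] [Algebra R S] [Algebra.FiniteType R S] (q : Ideal S) [q.IsPrime],
        q.LiesOver (IsLocalRing.maximalIdeal R) → Algebra.QuasiFiniteAt R q →
          Module.Finite R (Localization.AtPrime q) := by
  constructor
  · intro _ S _ _ _ q _ hover hqf
    obtain ⟨e, he, hfin, hnqf⟩ := Groth.L05.exists_idem_finiteType (A := R) (S := S)
    have heq : e ∉ q := fun hmem => hnqf q hmem hover hqf
    let T := S ⧸ Ideal.span ({1 - e} : Set S)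
    have hle : Ideal.span ({1 - e} : Set S) ≤ q := by
      rw [Ideal.span_le, Set.singleton_subset_iff]
      exact (Ideal.IsPrime.mem_or_mem ‹q.IsPrime› (show e * (1 - e) ∈ q by
        rw [mul_sub, mul_one, he.eq, sub_self]; exact q.zero_mem)).resolve_left heq
    have hker : RingHom.ker (Ideal.Quotient.mk (Ideal.span ({1 - e} : Set S))) ≤ q := by
      rw [Ideal.mk_ker]; exact hle
    set qT := q.map (Ideal.Quotient.mk (Ideal.span ({1 - e} : Set S)))
    have hqT : qT.IsPrime := Ideal.map_isPrime_of_surjective Ideal.Quotient.mk_surjective hker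
    have hcomap : qT.comap (Ideal.Quotient.mk _) = q := by
      rw [Ideal.comap_map_of_surjective _ Ideal.Quotient.mk_surjective, ← RingHom.ker_eq_comap_bot,
        sup_eq_left.mpr hker]
    have hunder : qT.comap (algebraMap R T) = IsLocalRing.maximalIdeal R := by
      have : IsLocalRing.maximalIdeal R = q.under R := hover.over
      rw [this, Ideal.under_def]
      conv_rhs => rw [← hcomap]
      rw [Ideal.comap_comap]
      rfl
    have hmax : qT.IsMaximal := Ideal.isMaximal_of_isIntegral_of_isMaximal_comap qT
      (hunder ▸ IsLocalRing.maximalIdeal.isMaximal R)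
    obtain ⟨ι, hι, ε, hε, hloc⟩ := Groth.L05.exists_idem_local_of_finite (A := R) T
    obtain ⟨i, hi⟩ : ∃ i, ε i ∉ qT := by
      by_contra hall
      push_neg at hall
      exact hmax.ne_top ((Ideal.eq_top_iff_one _).mpr (hε.complete ▸ qT.sum_mem fun i _ => hall i))
    let L := Localization.AtPrime q
    let ψ : T →ₐ[R] L := Ideal.Quotient.liftₐ _ (IsScalarTower.toAlgHom R S L) (by
      intro a ha
      obtain ⟨c, rfl⟩ := Ideal.mem_span_singleton'.mp ha
      show algebraMap S L (c * (1 - e)) = 0
      have hu := IsLocalization.map_units L (⟨e, heq⟩ : q.primeCompl)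
      refine hu.mul_left_cancel ?_
      rw [← map_mul, mul_zero, show e * (c * (1 - e)) = 0 by linear_combination (-c) * he.eq, map_zero])
    have hsurj : Function.Surjective ψ := by
      intro y
      obtain ⟨x, ⟨s, hs⟩, rfl⟩ := IsLocalization.exists_mk'_eq q.primeCompl y
      have hs' : Ideal.Quotient.mk _ s ∉ qT := fun hmem => hs (hcomap ▸ (Ideal.mem_comap.mpr hmem) : s ∈ q)
      set s' : T := Ideal.Quotient.mk _ s
      set K := Ideal.span ({1 - ε i} : Set T)
      have := hloc i
      have hK : K ≤ qT := by
        rw [Ideal.span_le, Set.singleton_subset_iff]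
        exact (hqT.mem_or_mem (show ε i * (1 - ε i) ∈ qT by
          rw [mul_sub, mul_one, (hε.idem i).eq, sub_self]; exact qT.zero_mem)).resolve_left hi
      have hmaxq : (qT.map (Ideal.Quotient.mk K)).IsMaximal := by
        refine (Ideal.map_eq_top_or_isMaximal_of_surjective _ Ideal.Quotient.mk_surjective
          hmax).resolve_left fun htop => hmax.ne_top ?_
        have := congrArg (Ideal.comap (Ideal.Quotient.mk K)) htop
        rwa [Ideal.comap_map_of_surjective _ Ideal.Quotient.mk_surjective, ← RingHom.ker_eq_comap_bot,
          Ideal.mk_ker, Ideal.comap_top, sup_eq_left.mpr hK] at this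
      have hu : IsUnit (Ideal.Quotient.mk K s') := by
        by_contra hn
        have : Ideal.Quotient.mk K s' ∈ qT.map (Ideal.Quotient.mk K) := by
          rw [IsLocalRing.eq_maximalIdeal hmaxq]; exact hn
        apply hs'
        have h2 := Ideal.mem_comap.mpr this
        rwa [Ideal.comap_map_of_surjective _ Ideal.Quotient.mk_surjective, ← RingHom.ker_eq_comap_bot,
          Ideal.mk_ker, sup_eq_left.mpr hK] at h2
      obtain ⟨c, hc⟩ := hu.exists_left_inv
      obtain ⟨c, rfl⟩ := Ideal.Quotient.mk_surjective c
      rw [← map_mul, ← map_one (Ideal.Quotient.mk K), Ideal.Quotient.eq, Ideal.mem_span_singleton'] at hc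
      obtain ⟨d, hd⟩ := hc
      have hψK : ψ (1 - ε i) = 0 := by
        obtain ⟨t, ht⟩ := Ideal.Quotient.mk_surjective (ε i)
        have hu : IsUnit (ψ (ε i)) := by
          rw [← ht]
          exact IsLocalization.map_units L (⟨t, fun h => hi (ht ▸ Ideal.mem_map_of_mem _ h)⟩ : q.primeCompl)
        refine hu.mul_left_cancel ?_
        rw [← map_mul, mul_sub, mul_one, (hε.idem i).eq, sub_self, map_zero, mul_zero]
      have h1 : ψ c * algebraMap S L s = 1 := by
        have := congrArg ψ hd
        rw [map_mul, hψK, mul_zero, map_sub, map_mul, map_one, eq_comm, sub_eq_zero] at this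
        exact this
      refine ⟨Ideal.Quotient.mk _ x * c, ?_⟩
      rw [map_mul, IsLocalization.eq_mk'_iff_mul_eq, mul_assoc]
      show algebraMap S L x * (ψ c * algebraMap S L s) = algebraMap S L x
      rw [h1, mul_one]
    exact Module.Finite.of_surjective ψ.toLinearMap hsurj
  · intro h
    refine Groth.L05.henselianLocalRing_of_retraction fun S _ _ _ σ hS => ?_
    let : Field (R ⧸ IsLocalRing.maximalIdeal R) := Ideal.Quotient.field _
    let q := RingHom.ker (σ : S →+* R ⧸ IsLocalRing.maximalIdeal R)
    have hq : q.IsPrime := RingHom.ker_isPrime _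
    have hover : q.LiesOver (IsLocalRing.maximalIdeal R) := ⟨by
      ext a
      simp [q, Ideal.Quotient.eq_zero_iff_mem]⟩
    have := h S q hover inferInstance
    let L := Localization.AtPrime q
    have : Module.Flat R L := Module.Flat.trans R S L
    have hm : (IsLocalRing.maximalIdeal R).map (algebraMap R L) ≤ IsLocalRing.maximalIdeal L := by
      rw [Ideal.map_le_iff_le_comap, IsScalarTower.algebraMap_eq R S L, ← Ideal.comap_comap]
      rw [← Ideal.under_def S (IsLocalRing.maximalIdeal L), IsLocalization.AtPrime.under_maximalIdeal L q]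
      exact hover.over.le
    have : IsLocalHom (algebraMap R L) := by
      constructor
      intro a ha
      by_contra hn
      exact (IsLocalRing.maximalIdeal L).ne_top_iff_one.mp (IsLocalRing.maximalIdeal.isMaximal L).ne_top
        (by
          obtain ⟨u, hu⟩ := ha.exists_left_inv
          rw [← hu]
          exact Ideal.mul_mem_left _ _ (hm (Ideal.mem_map_of_mem _ hn)))
    have : Module.FaithfullyFlat R L := Module.FaithfullyFlat.of_flat_of_isLocalHom
    have hsurj : Function.Surjective (algebraMap R L) := by
      rw [← Algebra.coe_linearMap, ← LinearMap.range_eq_top]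
      apply top_unique
      refine Submodule.le_of_le_smul_of_le_jacobson_bot Module.Finite.fg_top
        (IsLocalRing.maximalIdeal_le_jacobson _) fun y _ => ?_
      obtain ⟨x, ⟨s, hs⟩, rfl⟩ := IsLocalization.exists_mk'_eq q.primeCompl y
      obtain ⟨a, ha⟩ := hS x
      obtain ⟨b, hb⟩ := hS s
      have hbu : IsUnit b := by
        by_contra hbn
        apply hs
        have hmapq : (IsLocalRing.maximalIdeal R).map (algebraMap R S) ≤ q :=
          Ideal.map_le_iff_le_comap.mpr hover.over.le
        have := q.add_mem (hmapq hb) (hmapq (Ideal.mem_map_of_mem _ hbn))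
        rwa [sub_add_cancel] at this
      obtain ⟨c, hc⟩ := hbu.exists_left_inv
      refine Submodule.mem_sup.mpr ⟨algebraMap R L (a * c), ⟨a * c, rfl⟩,
        IsLocalization.mk' L x (⟨s, hs⟩ : q.primeCompl) - algebraMap R L (a * c), ?_, add_sub_cancel _ _⟩
      rw [Ideal.smul_top_eq_map, Submodule.restrictScalars_mem]
      have hu := IsLocalization.map_units L (⟨s, hs⟩ : q.primeCompl)
      refine (Ideal.mul_unit_mem_iff_mem _ hu).mp ?_
      rw [sub_mul, IsLocalization.mk'_spec, IsScalarTower.algebraMap_apply R S L (a * c),
        ← map_mul, ← map_sub, IsScalarTower.algebraMap_eq R S L, ← Ideal.map_map]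
      refine Ideal.mem_map_of_mem _ ?_
      have hc' : algebraMap R S c * algebraMap R S b = 1 := by rw [← map_mul, hc, map_one]
      rw [map_mul, show x - algebraMap R S a * algebraMap R S c * s =
        (x - algebraMap R S a) - algebraMap R S a * algebraMap R S c * (s - algebraMap R S b) by
          linear_combination (-algebraMap R S a) * hc']
      exact sub_mem ha (Ideal.mul_mem_left _ _ hb)
    let E : R ≃ₐ[R] L := AlgEquiv.ofBijective (Algebra.ofId R L)
      ⟨FaithfulSMul.algebraMap_injective R L, hsurj⟩
    exact ⟨E.symm.toAlgHom.comp (IsScalarTower.toAlgHom R S L)⟩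

end Groth.Agent.S5035
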