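import Groth.Statements.S5037
import Groth.Agent.L19.ClopenScheme

set_option autoImplicit false
set_option backward.isDefEq.respectTransparency.types false
set_option backward.isDefEq.respectTransparency false
set_option linter.style.haveILetI false
open CategoryTheory CategoryTheory.Limits AlgebraicGeometry
universe u
open Hensel

namespace Groth.Agent.S5037

/-- b) implies a'): let i : S₀ ⟶ S be a closed immersion. Suppose that for every étale separated
morphism g : S' ⟶ S and every section u₀ of S' ×_S S₀ ⟶ S₀ there is exactly one section u of g with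
i ≫ u = u₀ followed by the first projection. Then for every finite locally free morphism g : S' ⟶ S
(finite, flat and locally of finite presentation), every open-closed subset of S' ×_S S₀ is the
inverse image under the first projection of exactly one open-closed subset of S'. -/
theorem result {S S₀ : Scheme.{u}} (i : S₀ ⟶ S) [IsClosedImmersion i]
    (hb : ∀ (S' : Scheme.{u}) (g : S' ⟶ S), Etale g → IsSeparated g →
      ∀ u₀ : S₀ ⟶ pullback g i, u₀ ≫ pullback.snd g i = 𝟙 S₀ →
        ∃! u : S ⟶ S', u ≫ g = 𝟙 S ∧ i ≫ u = u₀ ≫ pullback.fst g i)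
    {S' : Scheme.{u}} (g : S' ⟶ S) [IsFinite g] [Flat g] [LocallyOfFinitePresentation g]
    (V : Set ↥(pullback g i)) (hV : IsClopen V) :
    ∃! U : Set ↥S', IsClopen U ∧ (pullback.fst g i).base ⁻¹' U = V := by
  let H : Over S := Over.mk g
  haveI : IsFinite H.hom := inferInstanceAs (IsFinite g)
  haveI : Flat H.hom := inferInstanceAs (Flat g)
  haveI : LocallyOfFinitePresentation H.hom := inferInstanceAs (LocallyOfFinitePresentation g)
  obtain ⟨A, cl, haff, het, hnat, hcl, huniv⟩ := Groth.L19.ClopenScheme.exists_clopenScheme H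
  haveI := haff
  let T₀ : Over S := Over.mk i
  let T₁ : Over S := Over.mk (𝟙 S)
  let ι' : T₀ ⟶ T₁ := Over.homMk i (Category.comp_id i)
  obtain ⟨a, ha, hau⟩ := huniv T₀ V hV
  let u₀ : S₀ ⟶ pullback A.hom i := pullback.lift a.left (𝟙 S₀) (by rw [Category.id_comp]; exact Over.w a)
  obtain ⟨u, ⟨hu1, hu2⟩, huu⟩ := hb A.left A.hom het inferInstance u₀ (pullback.lift_snd _ _ _)
  rw [pullback.lift_fst] at hu2
  let u₁ : T₁ ⟶ A := Over.homMk u hu1
  have hu₁ : ι' ≫ u₁ = a := Over.OverMorphism.ext hu2
  -- `S' ×_S S ≅ S'`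
  let p : (MonoidalCategoryStruct.tensorObj H T₁).left ⟶ S' := pullback.fst g (𝟙 S)
  haveI : IsIso p := inferInstanceAs (IsIso (pullback.fst g (𝟙 S)))
  let jj : pullback g i ⟶ (MonoidalCategoryStruct.tensorObj H T₁).left :=
    (MonoidalCategoryStruct.whiskerLeft H ι').left
  have hjj : jj ≫ p = pullback.fst g i :=
    congrArg (fun m => m.left) (CartesianMonoidalCategory.whiskerLeft_fst H ι')
  refine ⟨(inv p) ⁻¹' cl T₁ u₁, ⟨(hcl T₁ u₁).preimage (inv p).continuous, ?_⟩, fun U hU => ?_⟩
  · show (pullback.fst g i) ⁻¹' ((inv p) ⁻¹' cl T₁ u₁) = V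
    rw [← hjj, ← Set.preimage_comp, ← Groth.L19.ClopenScheme.coe_comp, Category.assoc, IsIso.hom_inv_id,
      Category.comp_id, ← ha, ← hu₁, hnat]
    rfl
  · obtain ⟨b, hb', -⟩ := huniv T₁ (p ⁻¹' U) (hU.1.preimage p.continuous)
    have hib : ι' ≫ b = a := hau _ (by
      show cl T₀ (ι' ≫ b) = V
      rw [hnat, hb', ← hU.2, ← hjj]
      rfl)
    have hbu : b.left = u := huu _ ⟨Over.w b, by
      rw [pullback.lift_fst]; exact congrArg (fun m => m.left) hib⟩
    have hb1 : b = u₁ := Over.OverMorphism.ext hbu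
    rw [← hb1, hb', ← Set.preimage_comp, ← Groth.L19.ClopenScheme.coe_comp, IsIso.inv_hom_id]
    rfl

end Groth.Agent.S5037
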