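import Groth.Statements.S5042
import Groth.Agent.L05.Henselization.Catenary
import Groth.Agent.L05.Henselization.LocalJ2
import Groth.Agent.S2045

set_option autoImplicit false
universe u
open Hensel

namespace Groth.Agent.S5042

/-- The henselization S of an excellent local ring R is excellent. -/
theorem result (R S : Type u) [CommRing R] [IsLocalRing R]
    [CommRing S] [IsLocalRing S] [Algebra R S] [IsLocalHom (algebraMap R S)] [Hensel.IsHenselization R S]
    (h : EGA4.IsExcellent R) : EGA4.IsExcellent S := by
  obtain ⟨hn, huc, hG, -⟩ := h
  haveI := hn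
  have hS : CAlg.IsGRing S := Groth.Agent.S2045.result hG
  haveI : Algebra.IsSeparable (IsLocalRing.ResidueField R) (IsLocalRing.ResidueField R) := inferInstance
  obtain ⟨e⟩ := Groth.L05.Henselization.henselization_algEquiv R S
  exact ⟨hS.1, Groth.L05.Henselization.isUniversallyCatenary_of_ringEquiv e.toRingEquiv
    (Groth.L05.Henselization.isUniversallyCatenary_col R (IsLocalRing.ResidueField R) huc), hS,
    Groth.L05.Henselization.isJ2_of_local_gring S hS⟩

end Groth.Agent.S5042
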