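import Groth.Statements.S5046
import Groth.Agent.L05.ComplConnectedScheme.Main
import Groth.Agent.L05.ComplConnectedScheme.Punctured
import Groth.Agent.L06.UnibranchPolynomial
-- import your own Groth.Agent.* helpers here

set_option autoImplicit false
open CategoryTheory AlgebraicGeometry
universe u
open Unram

namespace Groth.Agent.S5046

/-- Let A be a Noetherian local domain of Krull dimension at least 2 which is geometrically unibranch, X
a connected locally Noetherian scheme and f : X ⟶ Spec A a flat morphism. Then for every closed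
subset T of X lying over the closed point of Spec A, the complement of T in X is connected. -/
theorem result (A : Type u) [CommRing A]
    [IsNoetherianRing A] [IsLocalRing A] [IsDomain A] (hA : CAlg2.IsGeomUnibranch A) (hdim : 2 ≤ ringKrullDim A)
    {X : Scheme.{u}} [IsLocallyNoetherian X] [ConnectedSpace ↥X] (f : X ⟶ Spec (CommRingCat.of A)) [Flat f]
    (T : Set ↥X) (hT : IsClosed T) (hTy : ∀ x ∈ T, f.base x = IsLocalRing.closedPoint A) :
    IsConnected Tᶜ := by
  refine Groth.L05.ComplConnectedScheme.isConnected_compl_of_local f T hT (fun x hx hmax => ?_) fun x hx => ?_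
  · have h := hmax ⟨⊥, Ideal.isPrime_bot⟩ (((PrimeSpectrum.le_iff_specializes _ (f x)).1 bot_le))
    rw [show f x = IsLocalRing.closedPoint A from hTy x hx] at h
    have h0 : IsLocalRing.maximalIdeal A = ⊥ := (congrArg PrimeSpectrum.asIdeal h).symm
    have h2 := IsLocalRing.maximalIdeal_height_eq_ringKrullDim (R := A)
    rw [h0, Ideal.height_bot] at h2
    rw [← h2] at hdim
    exact absurd (show ((2 : ℕ) : ℕ∞) ≤ ((0 : ℕ) : ℕ∞) from WithBot.coe_le_coe.mp hdim) (by decide)
  · let R := (Spec (CommRingCat.of A)).presheaf.stalk (f x)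
    obtain ⟨e⟩ : Nonempty (A ≃+* R) := by
      show Nonempty (A ≃+* (Spec (CommRingCat.of A)).presheaf.stalk (f.base x))
      rw [hTy x hx]
      exact ⟨(stalkClosedPointIso (CommRingCat.of A)).commRingCatIsoToRingEquiv.symm⟩
    letI := (f.stalkMap x).hom.toAlgebra
    haveI : Module.Flat R (X.presheaf.stalk x) := Flat.stalkMap f x
    haveI : IsLocalHom (algebraMap R (X.presheaf.stalk x)) := inferInstanceAs (IsLocalHom (f.stalkMap x).hom)
    haveI : IsDomain R := MulEquiv.isDomain A e.symm.toMulEquiv
    haveI : IsNoetherianRing R := isNoetherianRing_of_ringEquiv A e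
    exact Groth.L05.ComplConnectedScheme.isConnected_punctured R (X.presheaf.stalk x)
      (Groth.L06.UnibranchPolynomial.of_equiv e hA) ((ringKrullDim_eq_of_ringEquiv e) ▸ hdim)

end Groth.Agent.S5046
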