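import Groth.Statements.S5050
import Mathlib.RingTheory.Filtration
-- import your own Groth.Agent.* helpers here

set_option autoImplicit false
universe u v
open CInt

namespace Groth.Agent.S5050

/-- Let A be a Noetherian ring, N a finitely generated A-module, E and F submodules of N and Q an ideal
of A. For every natural number k there is h > 0 with E ⊓ (F ⊔ Q^h N) ≤ (E ⊓ F) ⊔ Q^k N. -/
theorem result {A : Type u} [CommRing A] [IsNoetherianRing A] {N : Type v} [AddCommGroup N]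
    [Module A N] [Module.Finite A N] (E F : Submodule A N) (Q : Ideal A) (k : ℕ) :
    ∃ h : ℕ, 0 < h ∧ E ⊓ (F ⊔ Q ^ h • (⊤ : Submodule A N)) ≤ (E ⊓ F) ⊔ Q ^ k • (⊤ : Submodule A N) := by
  obtain ⟨c, hc⟩ := Q.exists_pow_inf_eq_pow_smul (E ⊔ F)
  refine ⟨k + c + 1, Nat.succ_pos _, fun x hx => ?_⟩
  obtain ⟨hxE, hx'⟩ := Submodule.mem_inf.1 hx
  obtain ⟨f, hf, q, hq, rfl⟩ := Submodule.mem_sup.1 hx'
  -- `q` lies in `E ⊔ F`, hence in `Q ^ k • (E ⊔ F)`
  have hq' : q ∈ Q ^ (k + c + 1) • (⊤ : Submodule A N) ⊓ (E ⊔ F) := by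
    refine ⟨hq, ?_⟩
    rw [← add_sub_cancel_left f q]
    exact Submodule.sub_mem _ (Submodule.mem_sup_left hxE) (Submodule.mem_sup_right hf)
  rw [hc _ (by omega)] at hq'
  have hq2 : q ∈ Q ^ k • E ⊔ Q ^ k • F := by
    rw [← Submodule.smul_sup]
    exact Submodule.smul_mono (Ideal.pow_le_pow_right (by omega)) inf_le_right hq'
  obtain ⟨a, ha, b, hb, rfl⟩ := Submodule.mem_sup.1 hq2
  have haE := Submodule.smul_le_right ha
  have hbF := Submodule.smul_le_right hb
  rw [show f + (a + b) = (f + b) + a by abel]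
  refine Submodule.add_mem_sup ⟨?_, Submodule.add_mem _ hf hbF⟩ (Submodule.smul_mono le_rfl le_top ha)
  rw [show f + b = f + (a + b) - a by abel]
  exact Submodule.sub_mem _ hxE haE

end Groth.Agent.S5050
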