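import Groth.Statements.S5051
import Groth.Agent.L07.Count.Etale

set_option autoImplicit false
set_option linter.style.haveILetI false
set_option maxSynthPendingDepth 3
open CategoryTheory AlgebraicGeometry
universe u
open Unram

namespace Groth.Agent.S5051

/-- Let f : X ⟶ Y be étale, separated and of finite type. Then y ↦ (number of points of the geometric
fibre of f at y) is lower semicontinuous on Y. -/
theorem result {X Y : Scheme.{u}} (f : X ⟶ Y) [Etale f] [IsSeparated f]
    [LocallyOfFiniteType f] [QuasiCompact f] :
    LowerSemicontinuous (fun y : Y => ENat.card ↥(MoreMor.geomFiber f y)) := by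
  simp only [Groth.L07.Count.card_geomFiber]
  exact Groth.L07.Count.lowerSemicontinuous_nGeomConnComp f

end Groth.Agent.S5051
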