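import Groth.Statements.S5053
import Groth.Agent.L07.Count.Etale

set_option autoImplicit false
set_option linter.style.haveILetI false
set_option maxSynthPendingDepth 3
open CategoryTheory AlgebraicGeometry
universe u
set_option backward.isDefEq.respectTransparency.types false
open Unram

namespace Groth.Agent.S5053

/-- Let Y be a connected scheme and f : X ⟶ Y étale, separated and of finite type. Then f is finite if
and only if all geometric fibres of f have the same number of points. -/
theorem result {X Y : Scheme.{u}} [ConnectedSpace ↥Y] (f : X ⟶ Y)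
    [Etale f] [IsSeparated f] [LocallyOfFiniteType f] [QuasiCompact f] :
    IsFinite f ↔ ∃ n : ℕ∞, ∀ y : Y, ENat.card ↥(MoreMor.geomFiber f y) = n := by
  simp only [Groth.L07.Count.card_geomFiber]
  constructor
  · intro hf
    have hlc : IsLocallyConstant (fun y : Y => MoreMor.nGeomConnComp f y) :=
      (IsLocallyConstant.iff_eventually_eq _).mpr fun y => Groth.L07.Count.nGeomConnComp_nhds_eq f y
    obtain ⟨n, hn⟩ := hlc.exists_eq_const
    exact ⟨n, fun y => congrFun hn y⟩
  · rintro ⟨n, hn⟩
    choose U hyU hU using fun y : Y =>
      (Groth.L07.Count.const_nhd_iff_finite f y).mp ⟨⊤, trivial, fun z _ => (hn z).trans (hn y).symm⟩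
    exact IsZariskiLocalAtTarget.of_iSup_eq_top U
      (top_le_iff.mp fun y _ => TopologicalSpace.Opens.mem_iSup.mpr ⟨y, hyU y⟩) hU

end Groth.Agent.S5053
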