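import Groth.Statements.S5054
import Groth.Agent.L06.CplKaehlerUnits

set_option autoImplicit false
set_option maxSynthPendingDepth 3
set_option linter.style.haveILetI false
universe u
open EGA418

namespace Groth.Agent.S5054

/-- Let k be a field, A a complete Noetherian local k-algebra whose residue field is a finite extension
of k, p a prime ideal of A distinct from the maximal ideal and containing a minimal prime q with dim
A/q = dim A, Ω̂ the completion (for the topology of the maximal ideal) of the module of
differentials of A over k, and m a natural number. Then the A_p-module Ω̂_p is generated by m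
elements if and only if there is a local k-algebra homomorphism from the power series ring k[[T_1,
…, T_m]] to A making A a finite algebra over it which is unramified at p. -/
theorem result (k A : Type u) [Field k] [CommRing A]
    [IsLocalRing A] [IsNoetherianRing A] [Algebra k A] [IsAdicComplete (IsLocalRing.maximalIdeal A) A]
    [Module.Finite k (IsLocalRing.ResidueField A)]
    (p : Ideal A) [p.IsPrime] (hp : p ≠ IsLocalRing.maximalIdeal A)
    (hq : ∃ q ∈ minimalPrimes A, q ≤ p ∧ ringKrullDim (A ⧸ q) = ringKrullDim A) (m : ℕ) :
    (∃ s : Fin m → (LocalizedModule p.primeCompl (AdicCompletion (IsLocalRing.maximalIdeal A) (KaehlerDifferential k A))), Submodule.span (Localization.AtPrime p) (Set.range s) = ⊤) ↔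
      ∃ (_ : Algebra (MvPowerSeries (Fin m) k) A) (_ : IsScalarTower k (MvPowerSeries (Fin m) k) A),
        IsLocalHom (algebraMap (MvPowerSeries (Fin m) k) A) ∧ Module.Finite (MvPowerSeries (Fin m) k) A ∧
          Algebra.IsUnramifiedAt (MvPowerSeries (Fin m) k) p := by
  refine ⟨fun ⟨σ, hσ⟩ => Groth.L06.CplKaehlerUnits.exists_unramified p hp
      (Groth.L06.CplKaehlerUnits.ringKrullDim_le_of_span p hq σ hσ) (Groth.L06.CplKaehlerUnits.finrank_le_of_span p σ hσ), ?_⟩
  rintro ⟨alg, hT, -, hfin, hun⟩
  letI := alg
  haveI := hT
  haveI := hfin
  obtain ⟨s, hs, hsz⟩ := (Groth.L06.CplKaehlerUnits.unramifiedAt_iff p).mp hun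
  exact ⟨_, Groth.L06.CplKaehlerUnits.span_localized_of_smul_mem p _ s hs hsz⟩

end Groth.Agent.S5054
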