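import Groth.Statements.S5057
import Groth.Agent.L27.ClopenLift

set_option autoImplicit false
open CategoryTheory CategoryTheory.Limits AlgebraicGeometry
universe u
open Hensel

namespace Groth.Agent.S5057

/-- Let i : S₀ ⟶ S be a closed immersion such that for every finite morphism g : S' ⟶ S every
open-closed subset of S' ×_S S₀ is the inverse image under the first projection of exactly one
open-closed subset of S'. Then for every finite morphism g : S' ⟶ S, every open subset of S'
containing the image of S' ×_S S₀ is all of S'. -/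
theorem result {S S₀ : Scheme.{u}} (i : S₀ ⟶ S) [IsClosedImmersion i]
    (ha : ∀ (S' : Scheme.{u}) (g : S' ⟶ S), IsFinite g →
      ∀ V : Set ↥(pullback g i), IsClopen V → ∃! U : Set ↥S', IsClopen U ∧ (pullback.fst g i).base ⁻¹' U = V)
    {S' : Scheme.{u}} (g : S' ⟶ S) [IsFinite g] (U : Set ↥S') (hU : IsOpen U)
    (hU₀ : Set.range (pullback.fst g i).base ⊆ U) : U = Set.univ := by
  by_contra hne
  have hr : Set.range (pullback.fst g i).base ⊆ U := hU₀
  have ha' : ∀ (S'' : Scheme.{u}) (h : S'' ⟶ S'), IsFinite h → ∀ V : Set ↥(pullback h (pullback.fst g i)), IsClopen V → ∃! W : Set ↥S'', IsClopen W ∧ (pullback.fst h (pullback.fst g i)).base ⁻¹' W = V := by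
    intro S'' h hh V hV
    haveI := hh
    let φ := pullbackRightPullbackFstIso g i h
    have h1 := ha S'' (h ≫ g) inferInstance (φ.inv ⁻¹' V) (hV.preimage φ.inv.continuous)
    have key : ∀ W : Set S'', (pullback.fst (h ≫ g) i).base ⁻¹' W = φ.inv ⁻¹' V ↔ (pullback.fst h (pullback.fst g i)).base ⁻¹' W = V := by
      intro W
      have he : pullback.fst (h ≫ g) i = φ.inv ≫ pullback.fst h (pullback.fst g i) := (Iso.eq_inv_comp _).mpr (pullbackRightPullbackFstIso_hom_fst _ _ _)
      rw [he, Scheme.Hom.comp_base, TopCat.coe_comp, Set.preimage_comp]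
      exact Set.preimage_eq_preimage φ.inv.surjective
    simpa only [key] using h1
  have h2 := Groth.L27.ClopenLift.closed_eq_empty (pullback.fst g i) ha' hU.isClosed_compl (Set.disjoint_left.mpr fun x hx hx' => hx' (hr hx))
  exact hne (Set.compl_empty_iff.mp h2)

end Groth.Agent.S5057
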