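import Groth.Statements.S5058
import Groth.Agent.L05.ModelFG
import Groth.Agent.L05.Henselization.Noeth
import Groth.Agent.L05.Henselization.Local
import Mathlib.RingTheory.Localization.AtPrime.Basic
-- import your own Groth.Agent.* helpers here

set_option autoImplicit false
open CategoryTheory CategoryTheory.Limits AlgebraicGeometry
universe u
open Hensel

namespace Groth.Agent.S5058

/-- Let A be a henselian local ring and f : X ⟶ Spec A a morphism of finite presentation. Then there
exist a Noetherian henselian local ring A₀, a local ring homomorphism φ : A₀ → A, a morphism of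
finite type f₀ : X₀ ⟶ Spec A₀ and a cartesian square exhibiting X as the base change of X₀ along
Spec φ. -/
theorem result (A : Type u) [CommRing A] [HenselianLocalRing A]
    {X : Scheme.{u}} (f : X ⟶ Spec (CommRingCat.of A)) [LocallyOfFinitePresentation f] [QuasiCompact f] [QuasiSeparated f] :
    ∃ (A₀ : Type u) (_ : CommRing A₀) (_ : HenselianLocalRing A₀) (_ : IsNoetherianRing A₀) (φ : A₀ →+* A) (_ : IsLocalHom φ)
      (X₀ : Scheme.{u}) (f₀ : X₀ ⟶ Spec (CommRingCat.of A₀)) (g : X ⟶ X₀),
      LocallyOfFiniteType f₀ ∧ QuasiCompact f₀ ∧ IsPullback g f f₀ (Spec.map (CommRingCat.ofHom φ)) := by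
  classical
  haveI : LocallyOfFinitePresentation (X := X) (Y := (Groth.L05.ModelFG.specCone A).pt) f :=
    ‹LocallyOfFinitePresentation f›
  haveI : QuasiCompact (X := X) (Y := (Groth.L05.ModelFG.specCone A).pt) f := ‹QuasiCompact f›
  haveI : QuasiSeparated (X := X) (Y := (Groth.L05.ModelFG.specCone A).pt) f := ‹QuasiSeparated f›
  obtain ⟨j, X₁, f₁, g₁, h1, h2, -, hsq⟩ :=
    Groth.L05.DescendFP.exists_stage (Groth.L05.ModelFG.isLimitSpecCone A) (X := X) f
  let A₁ : Subalgebra ℤ A := j.unop.1
  haveI : Algebra.FiniteType ℤ A₁ := Subalgebra.fg_iff_finiteType A₁ |>.mp j.unop.2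
  haveI : IsNoetherianRing A₁ := Algebra.FiniteType.isNoetherianRing ℤ A₁
  let p : Ideal A₁ := (IsLocalRing.maximalIdeal A).comap (algebraMap A₁ A)
  haveI : p.IsPrime := Ideal.IsPrime.comap _
  have hu : ∀ s : p.primeCompl, IsUnit (algebraMap A₁ A s) := fun s => of_not_not fun h => s.2 h
  let P := Localization.AtPrime p
  let ψ : P →+* A := IsLocalization.lift (M := p.primeCompl) hu
  have hψ : IsLocalHom ψ := ⟨fun x hx => by
    obtain ⟨a, s, rfl⟩ := IsLocalization.exists_mk'_eq p.primeCompl x
    rw [IsLocalization.AtPrime.isUnit_mk'_iff]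
    intro hn
    have h1 : ψ (IsLocalization.mk' P a s) * algebraMap A₁ A s = algebraMap A₁ A a := by
      rw [← IsLocalization.lift_eq (M := p.primeCompl) (S := P) hu a,
        ← IsLocalization.lift_eq (M := p.primeCompl) (S := P) hu s, ← map_mul, IsLocalization.mk'_spec]
    exact (show algebraMap A₁ A a ∈ IsLocalRing.maximalIdeal A from hn) (h1 ▸ hx.mul (hu s))⟩
  obtain ⟨H, _, _, _, _, hH⟩ := Groth.L05.Henselization.exists_isHenselization P
  haveI : HenselianLocalRing H := hH.henselian
  haveI : IsNoetherianRing H :=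
    (Groth.L05.Henselization.isNoetherianRing_iff_hens P H).mp inferInstance
  obtain ⟨φ, hφ, -⟩ := hH.universal A ψ hψ
  have hφloc : IsLocalHom φ := by
    refine ((IsLocalRing.local_hom_TFAE φ).out 0 2 rfl rfl).mpr ?_
    rw [← Groth.L05.Henselization.map_maximalIdeal_of_isHenselization P H, Ideal.map_map, hφ]
    exact ((IsLocalRing.local_hom_TFAE ψ).out 0 2 rfl rfl).mp hψ
  let α : Spec (CommRingCat.of H) ⟶ Spec (CommRingCat.of A₁) :=
    Spec.map (CommRingCat.ofHom ((algebraMap P H).comp (algebraMap A₁ P)))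
  have hα : Spec.map (CommRingCat.ofHom φ) ≫ α =
      Spec.map (CommRingCat.ofHom (algebraMap A₁ A)) := by
    rw [← Spec.map_comp, ← CommRingCat.ofHom_comp]
    congr 2
    rw [← RingHom.comp_assoc, hφ]
    exact RingHom.ext fun a => IsLocalization.lift_eq (M := p.primeCompl) hu a
  have hsq' : IsPullback g₁ f (f₁ : X₁ ⟶ Spec (CommRingCat.of A₁))
      (Spec.map (CommRingCat.ofHom (algebraMap A₁ A))) := hsq
  let f₁' : X₁ ⟶ Spec (CommRingCat.of A₁) := f₁
  haveI : LocallyOfFinitePresentation f₁' := h1
  haveI : QuasiCompact f₁' := h2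
  refine ⟨H, inferInstance, inferInstance, inferInstance, φ, hφloc, Limits.pullback f₁' α,
    Limits.pullback.snd f₁' α, Limits.pullback.lift g₁ (f ≫ Spec.map (CommRingCat.ofHom φ))
      (by rw [Category.assoc, hα]; exact hsq'.w),
    inferInstance, inferInstance, ?_⟩
  exact IsPullback.of_right (by rw [Limits.pullback.lift_fst, hα]; exact hsq')
    (Limits.pullback.lift_snd _ _ _) (IsPullback.of_hasPullback f₁' α)

end Groth.Agent.S5058
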