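import Groth.Statements.S5060
import Groth.Agent.L07.HironakaMain

set_option autoImplicit false
universe u
open CInt

namespace Groth.Agent.S5060

open Groth.L07 Groth.L07.RelProj Groth.L07.Hironaka Groth.L07.Coeff

set_option linter.style.haveILetI false

/-- a) iff d) in the Noetherian case: let A be a Noetherian ring, R an ideal, f_1, …, f_n elements of
the Jacobson radical of A forming a regular sequence on A/R and on every R^k/R^(k+1), Q = R + (f_1,
…, f_n), and M a finitely generated A-module. Then every R^k M / R^(k+1) M is flat over A/R if and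
only if every Q^k M / Q^(k+1) M is flat over A/Q and, for every associated prime p of A/Q viewed as
an (A/R)-module, every localized piece (R^k M / R^(k+1) M)_p is flat over (A/R)_p. -/
theorem result (A : Type u) [CommRing A] [IsNoetherianRing A]
    (R : Ideal A) {n : ℕ} (f : Fin n → A) (hrad : ∀ i, f i ∈ (⊥ : Ideal A).jacobson)
    (hreg : RingTheory.Sequence.IsWeaklyRegular (A ⧸ R) (List.ofFn f))
    (hreggr : ∀ k : ℕ, RingTheory.Sequence.IsWeaklyRegular (↥(R ^ k • (⊤ : Submodule A A)) ⧸ (R • (⊤ : Submodule A ↥(R ^ k • (⊤ : Submodule A A))))) (List.ofFn f))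
    (M : Type u) [AddCommGroup M] [Module A M] [Module.Finite A M] :
    EGA4.IsNormallyFlat R M ↔
      EGA4.IsNormallyFlat (R ⊔ Ideal.span (Set.range f)) M ∧
        ∀ (p : Ideal (A ⧸ R)) [p.IsPrime],
          p ∈ associatedPrimes (A ⧸ R) ((A ⧸ R) ⧸ Ideal.map (Ideal.Quotient.mk R) (R ⊔ Ideal.span (Set.range f))) →
            ∀ k : ℕ, Module.Flat (Localization.AtPrime p) (LocalizedModule p.primeCompl (↥(R ^ k • (⊤ : Submodule A M)) ⧸ (R • (⊤ : Submodule A ↥(R ^ k • (⊤ : Submodule A M)))))) := by
  have hlist : Ideal.ofList (List.ofFn f) = Ideal.span (Set.range f) := QReg.ofList_ofFn f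
  have hrad' : Ideal.span (Set.range f) ≤ (⊥ : Ideal A).jacobson := by
    rw [Ideal.span_le]; rintro _ ⟨i, rfl⟩; exact hrad i
  have hq : CAlgX.IsQuasiRegular (fun i => Ideal.Quotient.mk R (f i)) := by
    apply QReg.isQuasiRegular_of_isWeaklyRegular
    have h1 := (RingTheory.Sequence.isWeaklyRegular_map_algebraMap_iff (A ⧸ R) (A ⧸ R) (List.ofFn f)).mpr hreg
    rw [List.map_ofFn] at h1
    exact h1
  constructor
  · intro h
    have hN : ∀ i, IsRelProj R (grR R M i) := fun i => isRelProj_of_flat (h i)
    refine ⟨fun k => flat_of_isRelProj (isRelProj_grQ_of_grR hrad' hq hN k), fun p _ _ k => ?_⟩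
    haveI := h k
    exact Module.Flat.localizedModule p.primeCompl
  · rintro ⟨hQ, hloc⟩ k
    refine flat_of_isRelProj ?_
    induction k using Nat.strong_induction_on with
    | _ k ih =>
      have hbar : IsRelProj (bigI f R) (grRQ f R M k) :=
        isRelProj_grRQ_of_grQ hrad' hq k ih (isRelProj_of_flat (hQ k))
      refine isRelProj_of_quotient hrad' ?_
        (coeffIn_of_localizations hreg hbar (fun p _ hp => hloc p hp k)) hbar
      intro a ha x
      obtain ⟨x, rfl⟩ := Submodule.mkQ_surjective _ x
      rw [← map_smul, Submodule.mkQ_apply, Submodule.Quotient.mk_eq_zero]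
      exact Submodule.smul_mem_smul ha trivial

end Groth.Agent.S5060
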