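import Groth.Statements.S5061
import Groth.Agent.S4677
import Mathlib.RingTheory.HopkinsLevitzki
import Mathlib.RingTheory.Noetherian.OfPrime
import Mathlib.FieldTheory.IsPerfectClosure
-- import your own Groth.Agent.* helpers here

set_option autoImplicit false
open scoped TensorProduct
universe u
open EGA418

namespace Groth.Agent.S5061

theorem dichot (k K L : Type u) [Field k] [Field K] [Field L] [Algebra k K] [Algebra k L]
    [IsPurelyInseparable k L] (x : L ⊗[k] K) : IsNilpotent x ∨ IsUnit x := by
  obtain ⟨q, hq⟩ := ExpChar.exists k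
  haveI := hq
  haveI : ExpChar (L ⊗[k] K) q := expChar_of_injective_algebraMap (algebraMap k (L ⊗[k] K)).injective q
  haveI : ExpChar L q := expChar_of_injective_algebraMap (algebraMap k L).injective q
  have hpow : ∀ x : L ⊗[k] K, ∃ (n : ℕ) (c : K), x ^ q ^ n = (1 : L) ⊗ₜ[k] c := fun x => by
    induction x using TensorProduct.induction_on with
    | zero => exact ⟨0, 0, by simp⟩
    | tmul l c =>
      obtain ⟨n, l₀, hl₀⟩ := IsPurelyInseparable.pow_mem k q l
      refine ⟨n, l₀ • c ^ q ^ n, ?_⟩
      rw [Algebra.TensorProduct.tmul_pow, ← hl₀, Algebra.algebraMap_eq_smul_one, TensorProduct.smul_tmul]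
    | add x y hx hy =>
      obtain ⟨a, c, hc⟩ := hx
      obtain ⟨b, c', hc'⟩ := hy
      refine ⟨a + b, c ^ q ^ b + c' ^ q ^ a, ?_⟩
      rw [add_pow_expChar_pow, pow_add, pow_mul, hc, mul_comm (q ^ a), pow_mul, hc', Algebra.TensorProduct.tmul_pow,
        Algebra.TensorProduct.tmul_pow, one_pow, one_pow, TensorProduct.tmul_add]
  obtain ⟨n, c, hc⟩ := hpow x
  by_cases hc0 : c = 0
  · exact Or.inl ⟨q ^ n, by rw [hc, hc0, TensorProduct.tmul_zero]⟩
  · refine Or.inr ((isUnit_pow_iff (expChar_pow_pos k q n).ne').1 ?_)
    rw [hc]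
    exact (IsUnit.mk0 c hc0).map (Algebra.TensorProduct.includeRight : K →ₐ[k] L ⊗[k] K)

theorem nil_isMaximal (k K L : Type u) [Field k] [Field K] [Field L] [Algebra k K] [Algebra k L]
    [IsPurelyInseparable k L] : (nilradical (L ⊗[k] K)).IsMaximal := by
  refine Ideal.isMaximal_iff.2 ⟨fun h => ?_, fun J x _ hx hxJ => ?_⟩
  · exact not_isNilpotent_one (mem_nilradical.1 h)
  · rcases dichot k K L x with h | h
    · exact absurd (mem_nilradical.2 h) hx
    · exact (Ideal.eq_top_of_isUnit_mem J hxJ h) ▸ Submodule.mem_top

theorem artinian_iff_fg (k K L : Type u) [Field k] [Field K] [Field L] [Algebra k K] [Algebra k L]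
    [IsPurelyInseparable k L] : IsArtinianRing (L ⊗[k] K) ↔ (nilradical (L ⊗[k] K)).FG := by
  refine ⟨fun h => IsNoetherian.noetherian _, fun h => ?_⟩
  have hmax := nil_isMaximal k K L
  have heq : ∀ P : Ideal (L ⊗[k] K), P.IsPrime → P = nilradical (L ⊗[k] K) := fun P hP =>
    (hmax.eq_of_le hP.ne_top (nilradical_le_prime P)).symm
  refine isArtinianRing_iff_isNoetherianRing_krullDimLE_zero.2
    ⟨IsNoetherianRing.of_prime fun P hP => (heq P hP).symm ▸ h,
      Ring.krullDimLE_zero_iff.2 fun P hP => (heq P hP).symm ▸ hmax⟩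

/-- a) iff c): let k be a field of characteristic p > 0, P a perfect closure of k (a perfect field
purely inseparable over k) and K an extension field of k. Then the ring K ⊗_k P is Artinian if and
only if there exists a finite purely inseparable extension k' of k such that (k' ⊗_k K) modulo its
nilradical is geometrically reduced over k'. -/
theorem result (p : ℕ) [Fact p.Prime]
    (k K : Type u) [Field k] [CharP k p] [Field K] [Algebra k K]
    (P : Type u) [Field P] [Algebra k P] [PerfectRing P p] [IsPRadical (algebraMap k P) p] :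
    IsArtinianRing (K ⊗[k] P) ↔
      ∃ (k' : Type u) (_ : Field k') (_ : Algebra k k'), Module.Finite k k' ∧ IsPurelyInseparable k k' ∧
        Algebra.IsGeometricallyReduced k' ((k' ⊗[k] K) ⧸ nilradical (k' ⊗[k] K)) := by
  classical
  haveI : ExpChar k p := ExpChar.prime Fact.out
  haveI : IsPurelyInseparable k P :=
    (isPurelyInseparable_iff_pow_mem k p).2 fun x => by
      obtain ⟨n, a, ha⟩ := IsPRadical.pow_mem (algebraMap k P) p x
      exact ⟨n, a, ha⟩
  haveI : CharP P p := charP_of_injective_algebraMap (algebraMap k P).injective p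
  haveI : PerfectField P := PerfectRing.toPerfectField P p
  have hcomm : IsArtinianRing (K ⊗[k] P) ↔ IsArtinianRing (P ⊗[k] K) :=
    ⟨fun _ => (Algebra.TensorProduct.comm k K P).surjective.isArtinianRing (f := (Algebra.TensorProduct.comm k K P).toRingHom),
      fun _ => (Algebra.TensorProduct.comm k P K).surjective.isArtinianRing (f := (Algebra.TensorProduct.comm k P K).toRingHom)⟩
  rw [hcomm, artinian_iff_fg k K P]
  constructor
  · rintro ⟨S, hS⟩
    have hgen : ∃ (L : IntermediateField k P), Module.Finite k L ∧
        ∀ z ∈ S, z ∈ Set.range (Algebra.TensorProduct.map L.val (AlgHom.id k K)) := by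
      clear hS
      induction S using Finset.induction with
      | empty => exact ⟨⊥, inferInstance, fun z hz => absurd hz (by simp)⟩
      | insert a s _ ih =>
        obtain ⟨L, hL, hLs⟩ := ih
        obtain ⟨M, hM, w, hw⟩ := Groth.L03.GeomReduced.exists_finite_mem_range k K P a
        haveI := hL; haveI := hM
        have key : ∀ {L' : IntermediateField k P} (h : L' ≤ L ⊔ M) (x : L' ⊗[k] K),
            Algebra.TensorProduct.map (L ⊔ M).val (AlgHom.id k K)
              (Algebra.TensorProduct.map (IntermediateField.inclusion h) (AlgHom.id k K) x) =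
            Algebra.TensorProduct.map L'.val (AlgHom.id k K) x := fun h x => by
          induction x using TensorProduct.induction_on with
          | zero => simp
          | tmul l c => simp
          | add x y hx hy => simp only [map_add, hx, hy]
        refine ⟨L ⊔ M, inferInstance, fun z hz => ?_⟩
        rcases Finset.mem_insert.1 hz with rfl | hz
        · exact ⟨_, (key le_sup_right w).trans hw⟩
        · obtain ⟨x, hx⟩ := hLs z hz
          exact ⟨_, (key le_sup_left x).trans hx⟩
    obtain ⟨L, hL, hLS⟩ := hgen
    haveI := hL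
    haveI : IsPurelyInseparable k L := IsPurelyInseparable.tower_bot k L P
    haveI : Algebra.IsAlgebraic k (AlgebraicClosure P) := Algebra.IsAlgebraic.trans k P (AlgebraicClosure P)
    exact ⟨L, inferInstance, inferInstance, hL, inferInstance,
      Groth.Agent.S4677.geomRed k K L P (AlgebraicClosure P) S hS hLS _ (nil_isMaximal k K L)⟩
  · rintro ⟨k', _, _, hfin, hpi, hgr⟩
    haveI := hfin; haveI := hpi
    haveI : ExpChar k' p := expChar_of_injective_algebraMap (algebraMap k k').injective p
    let φ : k' →+* P := PerfectRing.lift (algebraMap k k') (algebraMap k P) p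
    letI : Algebra k' P := φ.toAlgebra
    haveI : IsScalarTower k k' P := IsScalarTower.of_algebraMap_eq fun x =>
      (PerfectRing.lift_comp_apply (algebraMap k k') (algebraMap k P) p x).symm
    haveI : IsPurelyInseparable k' P := IsPurelyInseparable.tower_top k k' P
    haveI : Algebra.IsAlgebraic k' P := inferInstance
    let A := (k' ⊗[k] K) ⧸ nilradical (k' ⊗[k] K)
    haveI : _root_.IsReduced (AlgebraicClosure k' ⊗[k'] A) := (Algebra.isGeometricallyReduced_field_iff k' A).1 hgr
    let j : P →ₐ[k'] AlgebraicClosure k' := IsAlgClosed.lift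
    haveI : _root_.IsReduced (P ⊗[k'] A) :=
      isReduced_of_injective (Algebra.TensorProduct.map j (AlgHom.id k' A))
        (Module.Flat.rTensor_preserves_injective_linearMap (M := A) j.toLinearMap j.toRingHom.injective)
    let e := Algebra.TensorProduct.cancelBaseChange k k' P P K
    let π : P ⊗[k'] (k' ⊗[k] K) →ₐ[k'] P ⊗[k'] A :=
      Algebra.TensorProduct.map (AlgHom.id k' P) (Ideal.Quotient.mkₐ k' (nilradical (k' ⊗[k] K)))
    have hkerπ : RingHom.ker π = (nilradical (k' ⊗[k] K)).map
        (Algebra.TensorProduct.includeRight : (k' ⊗[k] K) →ₐ[k'] P ⊗[k'] (k' ⊗[k] K)) := by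
      refine (Algebra.TensorProduct.lTensor_ker _ Ideal.Quotient.mk_surjective).trans ?_
      congr 1
      exact Ideal.Quotient.mkₐ_ker k' _
    haveI : IsNoetherianRing (k' ⊗[k] K) :=
      haveI : IsNoetherianRing (K ⊗[k] k') := Algebra.EssFiniteType.isNoetherianRing K (K ⊗[k] k')
      isNoetherianRing_of_ringEquiv _ (Algebra.TensorProduct.comm k K k').toRingEquiv
    have hnil : nilradical (P ⊗[k] K) = (RingHom.ker π).map e.toRingEquiv.toRingHom := by
      refine le_antisymm (fun z hz => ?_) ?_
      · obtain ⟨w, rfl⟩ := e.surjective z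
        refine Ideal.mem_map_of_mem _ ?_
        have hw : IsNilpotent w := (IsNilpotent.map_iff e.injective).1 hz
        exact (hw.map π).eq_zero
      · rw [hkerπ, Ideal.map_le_iff_le_comap, Ideal.map_le_iff_le_comap]
        exact fun x hx => ((mem_nilradical.1 hx).map _).map _
    rw [hnil, hkerπ]
    exact Ideal.FG.map (Ideal.FG.map (IsNoetherian.noetherian _) _) _


end Groth.Agent.S5061
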