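import Groth.Statements.S5062
import Groth.Agent.L05.Hensel.SecLift
import Groth.Agent.L13.LocalPair.Hens
import Mathlib.RingTheory.Unramified.Locus
import Mathlib.RingTheory.LocalRing.ResidueField.Ideal
import Mathlib.RingTheory.Localization.AtPrime.Basic
import Mathlib.RingTheory.Unramified.LocalRing

set_option autoImplicit false
open CategoryTheory AlgebraicGeometry
universe u
open Hensel

namespace Groth.Agent.S5062

/-- a) iff c): a local ring A is henselian with separably closed residue field if and only if, for every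
étale morphism f : X ⟶ Spec A and every point x of X lying over the closed point s, there is a
section u of f with u s = x. -/
theorem result (A : Type u) [CommRing A] [IsLocalRing A] :
    (HenselianLocalRing A ∧ IsSepClosed (IsLocalRing.ResidueField A)) ↔
      ∀ (X : Scheme.{u}) (f : X ⟶ Spec (CommRingCat.of A)), Etale f →
        ∀ x : X, f.base x = IsLocalRing.closedPoint A →
          ∃ u : Spec (CommRingCat.of A) ⟶ X, u ≫ f = 𝟙 _ ∧ u.base (IsLocalRing.closedPoint A) = x := by
  constructor
  · rintro ⟨hh, hsep⟩ X f hf x hx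
    haveI := hh
    haveI := hsep
    haveI := hf
    obtain ⟨_, ⟨U, hU, rfl⟩, hxU, -⟩ :=
      X.isBasis_affineOpens.exists_subset_of_mem_open (Set.mem_univ x) isOpen_univ
    obtain ⟨φ, hφ⟩ := Spec.map_surjective (hU.fromSpec ≫ f)
    have het : φ.hom.Etale := by
      rw [← HasRingHomProperty.Spec_iff (P := @Etale), hφ]
      infer_instance
    letI : Algebra A Γ(X, U) := φ.hom.toAlgebra
    haveI : Algebra.Etale A Γ(X, U) := het
    let z := hU.primeIdealOf ⟨x, hxU⟩
    have hz : hU.fromSpec.base z = x := hU.fromSpec_primeIdealOf ⟨x, hxU⟩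
    have hzm : z.asIdeal.comap (algebraMap A Γ(X, U)) = IsLocalRing.maximalIdeal A := by
      have h1 : (Spec.map φ).base z = IsLocalRing.closedPoint A := by
        rw [hφ, Scheme.Hom.comp_apply, hz]
        exact hx
      exact congrArg PrimeSpectrum.asIdeal h1
    haveI : z.asIdeal.LiesOver (IsLocalRing.maximalIdeal A) := ⟨hzm.symm⟩
    letI := Localization.AtPrime.algebraOfLiesOver (IsLocalRing.maximalIdeal A) z.asIdeal
    haveI : Algebra.IsSeparable (IsLocalRing.maximalIdeal A).ResidueField z.asIdeal.ResidueField := inferInstance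
    let ρ : IsLocalRing.ResidueField A ≃+* (IsLocalRing.maximalIdeal A).ResidueField :=
      RingEquiv.ofBijective (algebraMap (A ⧸ IsLocalRing.maximalIdeal A) (IsLocalRing.maximalIdeal A).ResidueField)
        (Ideal.bijective_algebraMap_quotient_residueField _)
    haveI : IsSepClosed (IsLocalRing.maximalIdeal A).ResidueField := by
      refine IsSepClosed.of_exists_root _ fun q hq hqi hqs => ?_
      obtain ⟨r, hr⟩ := IsSepClosed.exists_root (q.map ρ.symm.toRingHom) (by
        rw [Polynomial.degree_map]
        exact hqi.degree_pos.ne') hqs.map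
      refine ⟨ρ r, ?_⟩
      have h2 := congrArg ρ hr.eq_zero
      rw [map_zero, Polynomial.eval_map, ← RingEquiv.coe_toRingHom, Polynomial.hom_eval₂] at h2
      simpa using h2
    let e := RingEquiv.ofBijective (algebraMap (IsLocalRing.maximalIdeal A).ResidueField z.asIdeal.ResidueField)
      ⟨RingHom.injective _, IsSepClosed.algebraMap_surjective _ _⟩
    let τ : z.asIdeal.ResidueField →+* IsLocalRing.ResidueField A := ρ.symm.toRingHom.comp e.symm.toRingHom
    obtain ⟨s, ⟨hs1, -⟩, -⟩ := Groth.L05.existsUnique_algHom_residue (R := A) A Γ(X, U) z.asIdeal τ (by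
      refine RingHom.ext fun a => ?_
      show ρ.symm (e.symm (algebraMap A z.asIdeal.ResidueField a)) = IsLocalRing.residue A a
      rw [RingEquiv.symm_apply_eq, RingEquiv.symm_apply_eq]
      exact (IsScalarTower.algebraMap_apply A (IsLocalRing.maximalIdeal A).ResidueField z.asIdeal.ResidueField a).trans
        (congrArg _ (IsScalarTower.algebraMap_apply A (A ⧸ IsLocalRing.maximalIdeal A) (IsLocalRing.maximalIdeal A).ResidueField a)))
    refine ⟨Spec.map (CommRingCat.ofHom s.toRingHom) ≫ hU.fromSpec, ?_, ?_⟩
    · rw [Category.assoc, ← hφ, ← Spec.map_comp, ← Spec.map_id]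
      congr 1
      exact CommRingCat.hom_ext s.comp_algebraMap
    · rw [Scheme.Hom.comp_apply, ← hz]
      congr 1
      exact PrimeSpectrum.ext hs1
  · intro h
    obtain ⟨hh, hs⟩ := Groth.L13.LocalPair.HasEtaleSections.isStrictlyHenselian (A := A) (fun C _ _ _ ⟨z, hz⟩ => by
      obtain ⟨u, hu, -⟩ := h (Spec (CommRingCat.of C)) (Spec.map (CommRingCat.ofHom (algebraMap A C))) (by
        rw [HasRingHomProperty.Spec_iff (P := @Etale)]
        exact RingHom.etale_algebraMap.2 inferInstance) z hz
      obtain ⟨σ, hσ⟩ := Spec.map_surjective u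
      refine ⟨{ toRingHom := σ.hom, commutes' := fun a => ?_ }, trivial⟩
      rw [← hσ, ← Spec.map_comp, ← Spec.map_id] at hu
      exact RingHom.congr_fun (congrArg CommRingCat.Hom.hom (Spec.map_injective hu)) a)
    exact ⟨hh, hs⟩

end Groth.Agent.S5062
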