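import Groth.Statements.S5063
import Groth.Agent.L05.Point.UnramDescent
import Groth.Agent.L05.Point.FibreGlobal
import Mathlib.RingTheory.Unramified.LocalStructure
import Mathlib.AlgebraicGeometry.Morphisms.ClosedImmersion
import Mathlib.AlgebraicGeometry.Morphisms.FlatMono
-- import your own Groth.Agent.* helpers here

set_option autoImplicit false
open CategoryTheory CategoryTheory.Limits AlgebraicGeometry
universe u
open Unram

namespace Groth.Agent.S5063

theorem local_closed {X Y : Scheme.{u}} (f : X ⟶ Y) [LocallyOfFiniteType f] [FormallyUnramified f]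
    (x : X) : ∃ (Y' : Scheme.{u}) (g : Y' ⟶ Y) (U : (pullback f g).Opens), Etale g ∧
      x ∈ (pullback.fst f g).base '' (U : Set ↥(pullback f g)) ∧
      IsClosedImmersion (U.ι ≫ pullback.snd f g) := by
  obtain ⟨A, B, j, ι, φ, _, _, q, e, hq, -⟩ :=
    Groth.L05.Point.exists_chart f (O := ⊤) (x := x) trivial
  haveI : FormallyUnramified j := inferInstance
  haveI : FormallyUnramified (Spec.map φ ≫ ι) := by rw [← e]; exact MorphismProperty.comp_mem _ _ _ ‹_› ‹_›
  haveI : LocallyOfFiniteType (Spec.map φ ≫ ι) := by rw [← e]; infer_instance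
  have hfu := FormallyUnramified.of_comp (Spec.map φ) ι
  have hft := locallyOfFiniteType_of_comp (Spec.map φ) ι
  rw [HasRingHomProperty.Spec_iff (P := @FormallyUnramified)] at hfu
  rw [HasRingHomProperty.Spec_iff (P := @LocallyOfFiniteType)] at hft
  algebraize [φ.hom]
  obtain ⟨f0, hf0, Q, ψ, hψ⟩ :=
    Algebra.IsUnramifiedAt.exists_hasStandardEtaleSurjectionOn (R := A) q.asIdeal
  let g : Spec (.of Q.Ring) ⟶ Y := Spec.map (CommRingCat.ofHom (algebraMap A Q.Ring)) ≫ ι
  haveI : Etale (Spec.map (CommRingCat.ofHom (algebraMap A Q.Ring))) :=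
    (HasRingHomProperty.Spec_iff (P := @Etale)).mpr (RingHom.etale_algebraMap.mpr inferInstance)
  let l := Spec.map (CommRingCat.ofHom (algebraMap B (Localization.Away f0)))
  haveI : IsOpenImmersion l := IsOpenImmersion.of_isLocalization f0
  let i : Spec (.of (Localization.Away f0)) ⟶ Spec (.of Q.Ring) := Spec.map (CommRingCat.ofHom ψ.toRingHom)
  haveI : IsClosedImmersion i := IsClosedImmersion.spec_of_surjective _ hψ
  have w : (l ≫ j) ≫ f = i ≫ g := by
    simp only [l, i, g, Category.assoc, e, ← Spec.map_comp_assoc]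
    congr 2
    ext a
    exact ((ψ.commutes a).trans (IsScalarTower.algebraMap_apply A B (Localization.Away f0) a)).symm
  let Γ : Spec (.of (Localization.Away f0)) ⟶ pullback f g := pullback.lift (l ≫ j) i w
  have h1 : Γ ≫ pullback.fst f g = l ≫ j := pullback.lift_fst _ _ _
  haveI : Etale g := inferInstance
  haveI : Etale (Γ ≫ pullback.fst f g) := by rw [h1]; infer_instance
  haveI : Etale Γ := Etale.of_comp Γ (pullback.fst f g)
  haveI : Mono Γ := @mono_of_mono _ _ _ _ _ Γ (pullback.fst f g) (by rw [h1]; infer_instance)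
  haveI : IsOpenImmersion Γ := IsOpenImmersion.of_flat_of_mono Γ
  refine ⟨_, g, Γ.opensRange, inferInstance, ?_, ?_⟩
  · obtain ⟨p, hp⟩ : q ∈ Set.range l := by
      rw [show Set.range l = (PrimeSpectrum.basicOpen f0 : Set (PrimeSpectrum B)) from
        PrimeSpectrum.localization_away_comap_range _ f0]
      exact hf0
    refine ⟨Γ p, ⟨p, rfl⟩, ?_⟩
    show pullback.fst f g (Γ p) = x
    rw [← Scheme.Hom.comp_apply, h1, Scheme.Hom.comp_apply, hp, hq]
  · have e' : Γ.opensRange.ι = Γ.isoOpensRange.inv ≫ Γ := (Scheme.Hom.isoOpensRange_inv_comp Γ).symm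
    rw [e', Category.assoc, pullback.lift_snd]
    infer_instance

/-- Let f : X ⟶ Y be locally of finite presentation. If f is unramified then there are étale morphisms
g_a : Y'_a ⟶ Y and opens U_a of the fibre products X ×_Y Y'_a whose images under the first
projections cover X, such that each U_a ⟶ Y'_a (inclusion followed by the second projection) is a
closed immersion. Conversely, the existence of such a family with the g_a only assumed flat implies
that f is unramified. -/
theorem result {X Y : Scheme.{u}} (f : X ⟶ Y) [LocallyOfFinitePresentation f] :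
    (FormallyUnramified f → ∃ (ι : Type u) (Y' : ι → Scheme.{u}) (g : ∀ a, Y' a ⟶ Y) (U : ∀ a, (pullback f (g a)).Opens),
      (∀ a, Etale (g a)) ∧ (∀ x : X, ∃ a, x ∈ (pullback.fst f (g a)).base '' (U a : Set ↥(pullback f (g a)))) ∧
        ∀ a, IsClosedImmersion ((U a).ι ≫ pullback.snd f (g a))) ∧
    ((∃ (ι : Type u) (Y' : ι → Scheme.{u}) (g : ∀ a, Y' a ⟶ Y) (U : ∀ a, (pullback f (g a)).Opens),
      (∀ a, Flat (g a)) ∧ (∀ x : X, ∃ a, x ∈ (pullback.fst f (g a)).base '' (U a : Set ↥(pullback f (g a)))) ∧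
        ∀ a, IsClosedImmersion ((U a).ι ≫ pullback.snd f (g a))) → FormallyUnramified f) := by
  refine ⟨fun hf => ?_, ?_⟩
  · choose Y' g U hg hx hU using fun x => local_closed f x
    exact ⟨X, Y', g, U, hg, fun x => ⟨x, hx x⟩, hU⟩
  · rintro ⟨ι, Y', g, U, hg, hx, hU⟩
    refine Groth.L05.Point.of_forall_nhd fun x => ?_
    obtain ⟨a, u, hu, rfl⟩ := hx x
    haveI := hU a
    exact Groth.L05.Point.nhd_formallyUnramified_of_isPullback (IsPullback.of_hasPullback f (g a))
      (z := u) ⟨U a, hu, inferInstance⟩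

end Groth.Agent.S5063
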