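import Groth.Statements.S5064
import Groth.Agent.L05.Point.BaseChange
import Groth.Agent.L05.Point.FibreGlobal

set_option autoImplicit false
open CategoryTheory CategoryTheory.Limits AlgebraicGeometry
universe u
open Unram

namespace Groth.Agent.S5064

/-- Let f : X ⟶ Y be locally of finite presentation. If f is étale then there are étale morphisms g_a :
Y'_a ⟶ Y and opens U_a of the fibre products X ×_Y Y'_a whose images under the first projections
cover X, such that each U_a ⟶ Y'_a (inclusion followed by the second projection) is an open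
immersion. Conversely, the existence of such a family with the g_a only assumed flat implies that f
is étale. -/
theorem result {X Y : Scheme.{u}} (f : X ⟶ Y) [LocallyOfFinitePresentation f] :
    (Etale f → ∃ (ι : Type u) (Y' : ι → Scheme.{u}) (g : ∀ a, Y' a ⟶ Y) (U : ∀ a, (pullback f (g a)).Opens),
      (∀ a, Etale (g a)) ∧ (∀ x : X, ∃ a, x ∈ (pullback.fst f (g a)).base '' (U a : Set ↥(pullback f (g a)))) ∧
        ∀ a, IsOpenImmersion ((U a).ι ≫ pullback.snd f (g a))) ∧
    ((∃ (ι : Type u) (Y' : ι → Scheme.{u}) (g : ∀ a, Y' a ⟶ Y) (U : ∀ a, (pullback f (g a)).Opens),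
      (∀ a, Flat (g a)) ∧ (∀ x : X, ∃ a, x ∈ (pullback.fst f (g a)).base '' (U a : Set ↥(pullback f (g a)))) ∧
        ∀ a, IsOpenImmersion ((U a).ι ≫ pullback.snd f (g a))) → Etale f) := by
  refine ⟨fun hf => ?_, fun ⟨ι, Y', g, U, hg, hcov, hU⟩ => ?_⟩
  · haveI : IsOpenImmersion (pullback.diagonal f) := inferInstance
    refine ⟨PUnit, fun _ => X, fun _ => f, fun _ => (pullback.diagonal f).opensRange,
      fun _ => hf, fun x => ⟨PUnit.unit, pullback.diagonal f x, ⟨x, rfl⟩, ?_⟩, fun _ => ?_⟩
    · rw [← Scheme.Hom.comp_apply, pullback.diagonal_fst]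
      rfl
    · rw [← (pullback.diagonal f).isoOpensRange_inv_comp, Category.assoc, pullback.diagonal_snd,
        Category.comp_id]
      infer_instance
  · refine Groth.L05.Point.of_forall_nhd (P := @Etale) fun x => ?_
    obtain ⟨a, z, hz, rfl⟩ := hcov x
    haveI := hg a
    refine (Groth.L05.Point.nhd_etale_iff_mem_etaleSet _ _).mpr
      (Groth.L24.Boot.mem_etaleSet_of_isPullback (IsPullback.of_hasPullback f (g a))
        ((Groth.L05.Point.nhd_etale_iff_mem_etaleSet _ _).mp ?_))
    haveI := hU a
    exact ⟨U a, hz, inferInstance⟩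

end Groth.Agent.S5064
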