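import Groth.Statements.S5066
import Groth.Agent.L05.Hensel.Homs

set_option autoImplicit false
universe u
open Hensel

namespace Groth.Agent.S5066

/-- Case of a local ring, affine étale schemes: a local ring A with maximal ideal m is henselian if and
only if, for every finite A-algebra C and every étale A-algebra E, composing with the projection C →
C/mC is a bijection from the set of A-algebra homomorphisms E → C onto the set of A-algebra
homomorphisms E → C/mC. -/
theorem result (A : Type u) [CommRing A] [IsLocalRing A] :
    HenselianLocalRing A ↔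
      ∀ (C : Type u) [CommRing C] [Algebra A C] [Module.Finite A C] (E : Type u) [CommRing E] [Algebra A E] [Algebra.Etale A E],
        Function.Bijective (fun φ : E →ₐ[A] C =>
          (Ideal.Quotient.mkₐ A (Ideal.map (algebraMap A C) (IsLocalRing.maximalIdeal A))).comp φ) := by
  constructor
  · intro _ C _ _ _ E _ _ _
    have := Groth.L05.henselianRing_map_of_isIntegral (IsLocalRing.maximalIdeal A) C
    refine ⟨fun φ ψ h => ?_, fun σ => ?_⟩
    · obtain ⟨τ, -, huniq⟩ := Groth.L05.existsUnique_algHom_lift_etale (R := A)
        (Ideal.map (algebraMap A C) (IsLocalRing.maximalIdeal A))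
        ((Ideal.Quotient.mkₐ A (Ideal.map (algebraMap A C) (IsLocalRing.maximalIdeal A))).comp φ)
      exact (huniq φ rfl).trans (huniq ψ h.symm).symm
    · obtain ⟨τ, hτ, -⟩ := Groth.L05.existsUnique_algHom_lift_etale (R := A)
        (Ideal.map (algebraMap A C) (IsLocalRing.maximalIdeal A)) σ
      exact ⟨τ, hτ⟩
  · intro h
    refine Groth.L05.henselianLocalRing_of_henselianRing (h := ?_)
    refine Groth.L05.henselianRing_of_etale_lift _ fun S _ _ _ σ => ?_
    have hI : Ideal.map (algebraMap A A) (IsLocalRing.maximalIdeal A) = IsLocalRing.maximalIdeal A := by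
      rw [Algebra.algebraMap_self, Ideal.map_id]
    let j := Ideal.quotientEquivAlgOfEq A hI.symm
    obtain ⟨τ, hτ⟩ := (h A S).surjective (j.toAlgHom.comp σ)
    refine ⟨τ, AlgHom.ext fun x => j.injective ?_⟩
    exact DFunLike.congr_fun hτ x

end Groth.Agent.S5066
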