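import Groth.Statements.S5067
import Groth.Agent.L23.LocalDimEtale
import Mathlib.AlgebraicGeometry.Morphisms.FlatMono
import Mathlib.AlgebraicGeometry.Morphisms.IsIso
import Mathlib.AlgebraicGeometry.ResidueField
-- import your own Groth.Agent.* helpers here

set_option autoImplicit false
open CategoryTheory AlgebraicGeometry
universe u
open Unram

namespace Groth.Agent.S5067

open CategoryTheory.Limits

theorem hom_eq_of_point {X Y : Scheme.{u}} (f : X ⟶ Y) {x₁ x₂ : X} (e : x₁ = x₂)
    (hb : Function.Bijective (f.residueFieldMap x₁).hom) {K : CommRingCat.{u}}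
    (φ₁ : X.residueField x₁ ⟶ K) (φ₂ : X.residueField x₂ ⟶ K)
    (h : (Spec.map φ₁ ≫ X.fromSpecResidueField x₁) ≫ f = (Spec.map φ₂ ≫ X.fromSpecResidueField x₂) ≫ f) :
    Spec.map φ₁ ≫ X.fromSpecResidueField x₁ = Spec.map φ₂ ≫ X.fromSpecResidueField x₂ := by
  subst e
  haveI : IsIso (f.residueFieldMap x₁) := (ConcreteCategory.isIso_iff_bijective _).mpr hb
  simp only [Category.assoc, ← Scheme.Hom.SpecMap_residueFieldMap_fromSpecResidueField,
    ← Spec.map_comp_assoc, cancel_mono, Spec.map_inj, cancel_epi] at h
  rw [h]

/-- Let f : X ⟶ Y be an étale separated morphism of integral schemes which maps the generic point of X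
to the generic point of Y and induces a bijection between the residue fields of the generic points
(f is birational). Then f is an open immersion. -/
theorem result {X Y : Scheme.{u}} [IsIntegral X] [IsIntegral Y]
    (f : X ⟶ Y) [Etale f] [IsSeparated f] (hgen : f.base (genericPoint X) = genericPoint Y)
    (hbir : Function.Bijective (f.residueFieldMap (genericPoint X)).hom) : IsOpenImmersion f := by
  haveI : LocallyQuasiFinite f := Groth.L23.lqf_of_etale f
  haveI : IsOpenImmersion (pullback.diagonal f) := inferInstance
  haveI : Surjective (pullback.diagonal f) := by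
    refine ⟨fun z => ?_⟩
    by_contra hz
    obtain ⟨z', hz', hη⟩ := Flat.generalizingMap (pullback.fst f f)
      (genericPoint_specializes (pullback.fst f f z))
    have hnot : z' ∉ Set.range (pullback.diagonal f) := fun hmem => hz
      ((pullback.diagonal f).isClosedEmbedding.isClosed_range.stableUnderSpecialization hz' hmem)
    apply hnot
    have hsnd : pullback.snd f f z' = genericPoint X := by
      refine (Groth.L23.eq_of_specializes_of_lqf f (genericPoint_specializes _) ?_).symm
      have := congrArg (fun m : pullback f f ⟶ Y => m z') (pullback.condition (f := f) (g := f))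
      simp only [Scheme.Hom.comp_apply] at this
      rw [← this, hη]
    have key : (pullback f f).fromSpecResidueField z' ≫ pullback.fst f f =
        (pullback f f).fromSpecResidueField z' ≫ pullback.snd f f := by
      rw [← Scheme.Hom.SpecMap_residueFieldMap_fromSpecResidueField,
        ← Scheme.Hom.SpecMap_residueFieldMap_fromSpecResidueField]
      refine hom_eq_of_point f (hη.trans hsnd.symm) ?_ _ _ ?_
      · exact hη.symm ▸ hbir
      · simp only [Scheme.Hom.SpecMap_residueFieldMap_fromSpecResidueField, Category.assoc,
          pullback.condition]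
    have e : (pullback f f).fromSpecResidueField z' =
        ((pullback f f).fromSpecResidueField z' ≫ pullback.fst f f) ≫ pullback.diagonal f := by
      apply pullback.hom_ext
      · simp
      · simpa using key.symm
    have hmem : z' ∈ Set.range ((pullback f f).fromSpecResidueField z') := by
      rw [Scheme.range_fromSpecResidueField]; rfl
    obtain ⟨s, hs⟩ := hmem
    refine ⟨((pullback f f).fromSpecResidueField z' ≫ pullback.fst f f) s, ?_⟩
    rw [← Scheme.Hom.comp_apply, ← e, hs]
  haveI : IsIso (pullback.diagonal f) :=
    (isIso_iff_isOpenImmersion_and_surjective _).mpr ⟨inferInstance, inferInstance⟩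
  haveI : Mono f := (pullback.isIso_diagonal_iff f).mp inferInstance
  exact IsOpenImmersion.of_flat_of_mono f

end Groth.Agent.S5067
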