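import Groth.Statements.S5069
import Mathlib.RingTheory.Artinian.Ring
import Mathlib.RingTheory.KrullDimension.Zero
import Mathlib.RingTheory.HopkinsLevitzki

set_option autoImplicit false
universe u v
open Hensel

namespace Groth.Agent.S5069

/-- First assertion, phrased for the images of the inductive system: let B be a Noetherian commutative
ring and (C_i) a family of Artinian subrings of B, directed under inclusion, whose union is B. Then
B is an Artinian ring. -/
theorem result (B : Type u) [CommRing B] [IsNoetherianRing B]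
    {ι : Type v} [Nonempty ι] (C : ι → Subring B) (hdir : Directed (fun a b => a ≤ b) C)
    (hart : ∀ i, IsArtinianRing ↥(C i)) (hcov : ∀ b : B, ∃ i, b ∈ C i) : IsArtinianRing B := by
  rw [isArtinianRing_iff_krullDimLE_zero, Ring.krullDimLE_zero_iff]
  intro p hp
  rw [Ideal.Quotient.maximal_ideal_iff_isField_quotient]
  have : Nontrivial (B ⧸ p) := Ideal.Quotient.nontrivial_iff.mpr hp.ne_top
  refine ⟨⟨0, 1, zero_ne_one⟩, mul_comm, fun {z} hz => ?_⟩
  obtain ⟨b, rfl⟩ := Ideal.Quotient.mk_surjective z
  obtain ⟨i, hi⟩ := hcov b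
  have := hart i
  let P := p.comap (C i).subtype
  have : P.IsPrime := Ideal.comap_isPrime _ p
  have hPm : P.IsMaximal := IsArtinianRing.isMaximal_of_isPrime P
  obtain ⟨c, hc⟩ := hPm.exists_inv (x := (⟨b, hi⟩ : C i)) fun hb => hz
    (Ideal.Quotient.eq_zero_iff_mem.mpr hb)
  obtain ⟨j, hj, hcj⟩ := hc
  refine ⟨Ideal.Quotient.mk p (c : B), ?_⟩
  rw [← map_mul, ← map_one (Ideal.Quotient.mk p), Ideal.Quotient.eq]
  have hj' : (j : B) ∈ p := hj
  have h1 : (c : B) * b + j = 1 := congrArg Subtype.val hcj
  rw [show b * c - 1 = -(j : B) by linear_combination h1]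
  exact neg_mem hj'

end Groth.Agent.S5069
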