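import Groth.Statements.S5070
import Groth.Agent.S2892
import Groth.Agent.L07.PoincareConst
import Groth.Agent.L01.Regular
import Groth.Agent.L02.SchDom.GeomFibre

set_option autoImplicit false
set_option maxSynthPendingDepth 3
set_option backward.isDefEq.respectTransparency false
set_option backward.isDefEq.respectTransparency.types false
set_option linter.style.haveILetI false
open CategoryTheory AlgebraicGeometry
universe u
open CInt

namespace Groth.Agent.S5070

/-- Let X be a locally Noetherian scheme, Y the closed subscheme defined by an ideal sheaf, assumed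
regular and connected, and F a coherent O_X-module which is normally flat along Y (at every point y
of Y, every I_y^h F_y / I_y^(h+1) F_y is flat over O_{Y,y}). Then there is a single sequence of
natural numbers R such that for every y in Y, if n is the dimension of O_{Y,y}, then for all h the
length of m^h F_y / m^(h+1) F_y over the residue field (m the maximal ideal of O_{X,y}) equals the
sum over r ≤ h of C(r+n-1, r) R(h-r): the Poincaré series of gr_m(F_y) is R(T)(1-T)^(-n). -/
theorem result {X : Scheme.{u}} [IsLocallyNoetherian X]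
    (𝓘 : X.IdealSheafData) [ConnectedSpace ↥𝓘.subscheme]
    (hreg : ∀ y : ↥𝓘.subscheme, IsRegularLocalRing ↑(𝓘.subscheme.presheaf.stalk y))
    (F : X.Modules) (hF : Coh.IsCoh F)
    (hnf : ∀ y : ↥𝓘.subscheme, EGA4.IsNormallyFlat (RingHom.ker (𝓘.subschemeι.stalkMap y).hom) ↑(F.presheaf.stalk (𝓘.subschemeι y))) :
    ∃ R : ℕ → ℕ, ∀ (y : ↥𝓘.subscheme) (n : ℕ), ringKrullDim ↑(𝓘.subscheme.presheaf.stalk y) = n →
      ∀ h : ℕ, Module.finrank (↑(X.presheaf.stalk (𝓘.subschemeι y)) ⧸ IsLocalRing.maximalIdeal ↑(X.presheaf.stalk (𝓘.subschemeι y)))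
          (↥(IsLocalRing.maximalIdeal ↑(X.presheaf.stalk (𝓘.subschemeι y)) ^ h • (⊤ : Submodule ↑(X.presheaf.stalk (𝓘.subschemeι y)) ↑(F.presheaf.stalk (𝓘.subschemeι y)))) ⧸
            (IsLocalRing.maximalIdeal ↑(X.presheaf.stalk (𝓘.subschemeι y)) • (⊤ : Submodule ↑(X.presheaf.stalk (𝓘.subschemeι y)) ↥(IsLocalRing.maximalIdeal ↑(X.presheaf.stalk (𝓘.subschemeι y)) ^ h • (⊤ : Submodule ↑(X.presheaf.stalk (𝓘.subschemeι y)) ↑(F.presheaf.stalk (𝓘.subschemeι y))))))) =
        ∑ r ∈ Finset.range (h + 1), Nat.choose (r + n - 1) r * R (h - r) := by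
  haveI : IsLocallyNoetherian 𝓘.subscheme := LocallyOfFiniteType.isLocallyNoetherian 𝓘.subschemeι
  haveI hdom : ∀ y : ↥𝓘.subscheme, IsDomain ↑(𝓘.subscheme.presheaf.stalk y) := fun y =>
    haveI := hreg y; Groth.L01.isDomain_of_regular _
  haveI := Groth.L02.SchDom.irreducibleSpace_of_connected hdom
  let η := genericPoint ↥𝓘.subscheme
  refine ⟨fun i => Groth.L07.PoincareConst.D ↑(X.presheaf.stalk (𝓘.subschemeι η))
    (RingHom.ker (𝓘.subschemeι.stalkMap η).hom) ↑(F.presheaf.stalk (𝓘.subschemeι η)) i, fun y n hn h => ?_⟩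
  haveI := hdom y
  haveI := hreg y
  haveI : Module.Finite ↑(X.presheaf.stalk (𝓘.subschemeι y)) ↑(F.presheaf.stalk (𝓘.subschemeι y)) :=
    Groth.L06.SupportStalk.finite_stalk F hF _
  let e := RingHom.quotientKerEquivOfSurjective (Scheme.Hom.stalkMap_surjective 𝓘.subschemeι y)
  haveI : IsRegularLocalRing (↑(X.presheaf.stalk (𝓘.subschemeι y)) ⧸ RingHom.ker (𝓘.subschemeι.stalkMap y).hom) :=
    IsRegularLocalRing.of_ringEquiv e.symm
  rw [(Groth.Agent.S2892.result _ _ n ((ringKrullDim_eq_of_ringEquiv e).trans hn) _).1 (hnf y) h]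
  exact Finset.sum_congr rfl fun r _ => congrArg _
    (Groth.L07.PoincareConst.D_eq_of_specializes 𝓘 F hF
      ((genericPoint_spec ↥𝓘.subscheme).specializes trivial) (hnf y) (h - r)).symm

end Groth.Agent.S5070
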