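import Groth.Statements.S5071
import Groth.Agent.L07.QuasiRegularFlat
import Groth.Agent.L20.FibreFT

set_option autoImplicit false
set_option linter.style.haveILetI false
universe u
open CInt

namespace Groth.Agent.S5071

/-- Let B be an A-algebra and J an ideal of B generated by a sequence which is transversally regular
relative to A. Then for n < m the module J^n/J^m is flat over A, and for every prime q of B
containing J the localisation (J^n)_q is flat over A (modules regarded as A-modules by restriction
of scalars). -/
theorem result (A B : Type u) [CommRing A] [CommRing B] [Algebra A B]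
    (rs : List B) (hrs : RegImm.IsTransRegularSeq A B rs) (n m : ℕ) (hnm : n < m) :
    Module.Flat A (RestrictScalars A B
      (↥(Ideal.ofList rs ^ n) ⧸ (Submodule.comap (Ideal.ofList rs ^ n).subtype (Ideal.ofList rs ^ m)))) ∧
      ∀ (q : Ideal B) [q.IsPrime], Ideal.ofList rs ≤ q →
        Module.Flat A (RestrictScalars A B (LocalizedModule q.primeCompl ↥(Ideal.ofList rs ^ n))) := by
  let f : Fin rs.length → B := fun i => rs.get i
  have hRS : ∀ (N : Type u) [AddCommGroup N] [Module B N] [Module A N] [IsScalarTower A B N],
      Module.Flat A N → Module.Flat A (RestrictScalars A B N) := fun N _ _ _ _ hN =>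
    haveI := hN
    Module.Flat.of_linearEquiv
      { RestrictScalars.addEquiv A B N with
        map_smul' := fun a x => (algebraMap_smul B a (RestrictScalars.addEquiv A B N x)) }
  have hofFn : List.ofFn f = rs := List.ofFn_get rs
  have hJ : Ideal.ofList rs = Ideal.span (Set.range f) := by
    rw [← Groth.L07.QReg.ofList_ofFn, hofFn]
  have hqr : CAlgX.IsQuasiRegular f :=
    Groth.L07.QReg.isQuasiRegular_of_isWeaklyRegular (hofFn.symm ▸ hrs.1)
  haveI : Module.Flat A B := by
    haveI := hrs.2 0 (Nat.zero_le _)
    exact Module.Flat.of_linearEquiv
      ((Submodule.quotEquivOfEqBot (Ideal.ofList (rs.take 0)) (by simp)).restrictScalars A).symm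
  have hflat : Module.Flat A (B ⧸ Ideal.span (Set.range f)) := by
    rw [← hJ]
    have h := hrs.2 rs.length le_rfl
    rw [List.take_length] at h
    exact h
  rw [hJ]
  constructor
  · exact hRS _ (Groth.L07.QuasiRegular.flat_pow_quot (A := A) f hqr hflat n m hnm.le)
  · intro q _ _
    haveI := Groth.L07.QuasiRegular.flat_pow (A := A) f hqr hflat n
    exact hRS _ (Groth.L20.FibreCrit.flat_localizedModule_of_flat q.primeCompl)

end Groth.Agent.S5071
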