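import Groth.Statements.S5072
import Groth.Agent.L05.HensTensor.QuasiFinite

set_option autoImplicit false
open scoped TensorProduct
universe u
open Hensel

namespace Groth.Agent.S5072

/-- Case of a local ring A and a local finite A-algebra B: let S be a strict henselization of A and T a
strict henselization of B. Then there is a maximal ideal q of B ⊗_A S such that T is isomorphic, as
a B-algebra, to the local ring (B ⊗_A S)_q. -/
theorem result (A B S T : Type u) [CommRing A] [IsLocalRing A]
    [CommRing B] [IsLocalRing B] [Algebra A B] [Module.Finite A B]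
    [CommRing S] [IsLocalRing S] [Algebra A S] [IsLocalHom (algebraMap A S)] [Hensel.IsStrictHenselization A S]
    [CommRing T] [IsLocalRing T] [Algebra B T] [IsLocalHom (algebraMap B T)] [Hensel.IsStrictHenselization B T] :
    ∃ (q : Ideal (B ⊗[A] S)) (_ : q.IsMaximal), Nonempty (Localization.AtPrime q ≃ₐ[B] T) := by
  haveI := (‹Hensel.IsStrictHenselization A S›).henselian
  haveI := (‹Hensel.IsStrictHenselization B T›).henselian
  haveI : IsSepClosed (IsLocalRing.ResidueField S) :=
    (‹Hensel.IsStrictHenselization A S›).isSepClosure.sep_closed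
  haveI : IsSepClosed (IsLocalRing.ResidueField T) :=
    (‹Hensel.IsStrictHenselization B T›).isSepClosure.sep_closed
  haveI : Algebra.IsSeparable (IsLocalRing.ResidueField A) (IsLocalRing.ResidueField S) :=
    (‹Hensel.IsStrictHenselization A S›).isSepClosure.separable
  haveI : IsLocalHom (algebraMap A B) := by
    refine ⟨fun a ha => by_contra fun hu => ?_⟩
    haveI : ((IsLocalRing.maximalIdeal B).comap (algebraMap A B)).IsMaximal :=
      Ideal.isMaximal_comap_of_isIntegral_of_isMaximal _
    have h := IsLocalRing.eq_maximalIdeal this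
    exact (IsLocalRing.mem_maximalIdeal _).mp ((h.symm ▸ (IsLocalRing.mem_maximalIdeal a).mpr hu :
      a ∈ (IsLocalRing.maximalIdeal B).comap (algebraMap A B))) ha
  letI : Algebra A T := ((algebraMap B T).comp (algebraMap A B)).toAlgebra
  haveI : IsScalarTower A B T := IsScalarTower.of_algebraMap_eq' rfl
  haveI : IsLocalHom (algebraMap A T) := RingHom.isLocalHom_comp _ _
  let τ : IsLocalRing.ResidueField S →ₐ[IsLocalRing.ResidueField A] IsLocalRing.ResidueField T :=
    IsSepClosed.lift
  obtain ⟨g, ⟨hg, hgr⟩, -⟩ := (‹Hensel.IsStrictHenselization A S›).universal T (algebraMap A T)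
    τ.toRingHom τ.comp_algebraMap
  letI : Algebra S T := g.toAlgebra
  haveI : IsScalarTower A S T := IsScalarTower.of_algebraMap_eq' hg.symm
  haveI : IsLocalHom (algebraMap S T) := ⟨fun s hs => by
    by_contra h
    have h0 : IsLocalRing.residue S s = 0 :=
      (IsLocalRing.residue_eq_zero_iff s).mpr ((IsLocalRing.mem_maximalIdeal s).mpr h)
    have h2 := hgr s
    rw [h0, map_zero, IsLocalRing.residue_eq_zero_iff] at h2
    exact (IsLocalRing.mem_maximalIdeal _).mp h2 hs⟩
  let φ : B ⊗[A] S →ₐ[B] T := Algebra.TensorProduct.lift (Algebra.ofId B T) (IsScalarTower.toAlgHom A S T)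
    (fun _ _ => Commute.all _ _)
  letI : Algebra S (B ⊗[A] S) := Algebra.TensorProduct.rightAlgebra
  haveI : Module.Finite S (B ⊗[A] S) := Module.Finite.of_surjective
    ({ toFun := Algebra.TensorProduct.comm A S B, map_add' := map_add _,
       map_smul' := fun s x => by
        rw [Algebra.smul_def, map_mul, RingHom.id_apply, Algebra.smul_def,
          Algebra.TensorProduct.algebraMap_apply, Algebra.algebraMap_self, RingHom.id_apply,
          Algebra.TensorProduct.comm_tmul]
        rfl } : S ⊗[A] B →ₗ[S] B ⊗[A] S) (Algebra.TensorProduct.comm A S B).surjective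
  have hφS : φ.toRingHom.comp (algebraMap S (B ⊗[A] S)) = algebraMap S T := RingHom.ext fun s => by
    show φ (1 ⊗ₜ s) = algebraMap S T s
    simp [φ]
  let 𝔮 : Ideal (B ⊗[A] S) := (IsLocalRing.maximalIdeal T).comap φ.toRingHom
  haveI : 𝔮.IsPrime := Ideal.IsPrime.comap _
  haveI : 𝔮.LiesOver (IsLocalRing.maximalIdeal S) := ⟨by
    show IsLocalRing.maximalIdeal S = 𝔮.comap (algebraMap S _)
    rw [show 𝔮 = (IsLocalRing.maximalIdeal T).comap φ.toRingHom from rfl, Ideal.comap_comap, hφS,
      IsLocalRing.maximalIdeal_comap]⟩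
  haveI hmax : 𝔮.IsMaximal := Ideal.IsMaximal.of_liesOver_isMaximal 𝔮 (IsLocalRing.maximalIdeal S)
  let D := Localization.AtPrime 𝔮
  haveI : Module.Finite S D :=
    (Groth.L05.HensTensor.finite_localization_atPrime S (B ⊗[A] S) 𝔮).1
  haveI : HenselianLocalRing D := Groth.L05.henselianLocalRing_of_finite (A := S) D
  let ψ : D →+* T := IsLocalization.lift (M := 𝔮.primeCompl) (g := φ.toRingHom)
    fun y => by_contra fun hu => y.2 ((IsLocalRing.mem_maximalIdeal _).mpr hu)
  have hψ : ∀ x, ψ (algebraMap (B ⊗[A] S) D x) = φ x := fun x => IsLocalization.lift_eq _ x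
  letI : Algebra D T := ψ.toAlgebra
  haveI : IsLocalHom (algebraMap D T) := ⟨fun x hx => by
    obtain ⟨⟨a, b⟩, e⟩ := IsLocalization.surj 𝔮.primeCompl x
    dsimp only at e
    have hb : IsUnit (algebraMap (B ⊗[A] S) D b) := IsLocalization.map_units D b
    have ha : IsUnit (φ a) := by
      rw [← hψ a, ← e, map_mul]
      exact hx.mul (hb.map _)
    have : IsUnit (algebraMap (B ⊗[A] S) D a) := IsLocalization.map_units D
      (⟨a, fun h => (IsLocalRing.mem_maximalIdeal _).mp h ha⟩ : 𝔮.primeCompl)
    rw [← e] at this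
    exact isUnit_of_mul_isUnit_left this⟩
  haveI : Algebra.WeaklyEtale A S := Groth.L27.IndEtale.weaklyEtale _ _
    (Groth.L05.Henselization.isIndEtale_of_isStrictHenselization A S)
  haveI : Algebra.WeaklyEtale B T := Groth.L27.IndEtale.weaklyEtale _ _
    (Groth.L05.Henselization.isIndEtale_of_isStrictHenselization B T)
  haveI := Groth.L20.weaklyEtale_isLocalization 𝔮.primeCompl D
  haveI : Algebra.WeaklyEtale B D := Algebra.WeaklyEtale.trans B (B ⊗[A] S) D
  haveI : IsScalarTower B D T := IsScalarTower.of_algebraMap_eq fun b => by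
    rw [IsScalarTower.algebraMap_apply B (B ⊗[A] S) D]
    exact ((hψ _).trans (φ.commutes b)).symm
  obtain ⟨h1, h2⟩ := Groth.L20.TorAmp.weaklyEtale_cancel B D T
  haveI : Algebra.WeaklyEtale D T := ⟨h1, h2⟩
  haveI : Module.FaithfullyFlat D T := Module.FaithfullyFlat.of_flat_of_isLocalHom
  exact ⟨𝔮, hmax, ⟨AlgEquiv.ofBijective (IsScalarTower.toAlgHom B D T)
    ⟨FaithfulSMul.algebraMap_injective D T, Groth.L05.HensTensor.surjective_of_isSepClosed S D T⟩⟩⟩

end Groth.Agent.S5072
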