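import Groth.Statements.S5073
import Mathlib.RingTheory.Ideal.MinimalPrime.Noetherian

set_option autoImplicit false
set_option linter.style.haveILetI false
universe u
open EGA418

namespace Groth.Agent.S5073

/-- Let A be a Noetherian local ring, p a prime ideal and x an element of A. Then there is an element x'
of A whose image in A_p equals that of x and which belongs to no minimal prime ideal of A not
contained in p. -/
theorem result (A : Type u) [CommRing A] [IsNoetherianRing A] [IsLocalRing A]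
    (p : Ideal A) [p.IsPrime] (x : A) :
    ∃ x' : A, algebraMap A (Localization.AtPrime p) x' = algebraMap A (Localization.AtPrime p) x ∧
      ∀ q ∈ minimalPrimes A, ¬ q ≤ p → x' ∉ q := by
  classical
  let I := RingHom.ker (algebraMap A (Localization.AtPrime p))
  let Q := ((minimalPrimes.finite_of_isNoetherianRing A).toFinset.filter fun q => ¬ q ≤ p)
  have hQ : ∀ q ∈ Q, q ∈ minimalPrimes A ∧ ¬ q ≤ p := fun q hq => by simpa [Q] using hq
  have hI : ∀ q ∈ Q, ¬ I ≤ q := by
    intro q hq hle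
    obtain ⟨hqm, hqp⟩ := hQ q hq
    haveI : q.IsPrime := hqm.1.1
    obtain ⟨s, hs, hsp⟩ := SetLike.not_le_iff_exists.mp hqp
    have hnil : IsNilpotent (algebraMap A (Localization.AtPrime q) s) := by
      rw [← mem_nilradical, nilradical_eq_sInf, Ideal.mem_sInf]
      intro P hP
      haveI : P.IsPrime := hP
      have hPq : P.comap (algebraMap A (Localization.AtPrime q)) ≤ q := by
        intro z hz
        by_contra hzq
        exact Ideal.IsPrime.ne_top' (Ideal.eq_top_of_isUnit_mem P hz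
          (IsLocalization.map_units (Localization.AtPrime q) (⟨z, hzq⟩ : q.primeCompl)))
      exact (hqm.2 ⟨Ideal.IsPrime.comap _, bot_le⟩ hPq) hs
    obtain ⟨n, hn⟩ := hnil
    rw [← map_pow, IsLocalization.map_eq_zero_iff q.primeCompl] at hn
    obtain ⟨t, ht⟩ := hn
    refine t.2 (hle ?_)
    rw [RingHom.mem_ker, IsLocalization.map_eq_zero_iff p.primeCompl]
    exact ⟨⟨s ^ n, fun h => hsp (Ideal.IsPrime.mem_of_pow_mem ‹p.IsPrime› n h)⟩, by rw [mul_comm]; exact ht⟩
  let S := Q.filter fun q => x ∈ q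
  let T := Q.filter fun q => x ∉ q
  let J := I * ∏ q ∈ T, q
  have hJ : ∀ q ∈ S, ¬ J ≤ q := by
    intro q hq hle
    have hqQ : q ∈ Q := (Finset.mem_filter.mp hq).1
    haveI hqp : q.IsPrime := (hQ q hqQ).1.1.1
    rcases (Ideal.IsPrime.mul_le hqp).mp hle with h | h
    · exact hI q hqQ h
    · obtain ⟨r, hr, hrq⟩ := (Ideal.IsPrime.prod_le hqp).mp h
      have hrQ : r ∈ Q := (Finset.mem_filter.mp hr).1
      have : q ≤ r := (hQ q hqQ).1.2 ⟨(hQ r hrQ).1.1.1, bot_le⟩ hrq
      exact (Finset.mem_filter.mp hr).2 (this (Finset.mem_filter.mp hq).2)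
  have hex : ¬ (J : Set A) ⊆ ⋃ q ∈ (S : Set (Ideal A)), (q : Set A) := by
    intro hsub
    obtain ⟨q, hq, hle⟩ := (Ideal.subset_union_prime (f := id) ⊥ ⊥ fun q hq _ _ =>
      (hQ q (Finset.mem_filter.mp hq).1).1.1.1).mp hsub
    exact hJ q hq hle
  obtain ⟨i, hiJ, hiS⟩ := Set.not_subset.mp hex
  simp only [Set.mem_iUnion, SetLike.mem_coe, exists_prop, not_exists, not_and] at hiS
  refine ⟨x + i, by rw [map_add, RingHom.mem_ker.mp (Ideal.mul_le_left hiJ), add_zero], fun q hq hqp hmem => ?_⟩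
  have hqQ : q ∈ Q := by simp [Q, hq, hqp]
  by_cases hx : x ∈ q
  · exact hiS q (Finset.mem_filter.mpr ⟨hqQ, hx⟩) ((Submodule.add_mem_iff_right q hx).mp hmem)
  · have hi : i ∈ q := by
      have h1 : J ≤ q := Ideal.mul_le_right.trans
        (Ideal.prod_le_inf.trans (Finset.inf_le (Finset.mem_filter.mpr ⟨hqQ, hx⟩)))
      exact h1 hiJ
    exact hx ((Submodule.add_mem_iff_left q hi).mp hmem)

end Groth.Agent.S5073
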