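import Groth.Statements.S5078
import Mathlib.RingTheory.AdicCompletion.Basic
import Mathlib.RingTheory.Finiteness.Projective
import Mathlib.LinearAlgebra.Pi

set_option autoImplicit false
universe u v
open Hensel

namespace Groth.Agent.S5078

/-- Let A be a ring, I an ideal such that A is I-adically separated and complete, and M a finitely
generated projective A-module. Then M is I-adically separated and complete. -/
theorem result {A : Type u} [CommRing A] (I : Ideal A) [IsAdicComplete I A]
    (M : Type v) [AddCommGroup M] [Module A M] [Module.Finite A M] [Module.Projective A M] :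
    IsAdicComplete I M := by
  obtain ⟨n, π, s, -, -, hπs⟩ := Module.Finite.exists_comp_eq_id_of_projective A M
  have hs : ∀ x, π (s x) = x := fun x => LinearMap.congr_fun hπs x
  have hcoord : ∀ k, ∀ v ∈ (I ^ k • ⊤ : Submodule A (Fin n → A)), ∀ i, v i ∈ I ^ k := by
    intro k v hv i
    have := Submodule.mem_map_of_mem (f := LinearMap.proj (R := A) (φ := fun _ : Fin n => A) i) hv
    rw [Submodule.map_smul'', Submodule.map_top, LinearMap.range_eq_top.mpr
      (LinearMap.proj_surjective i), smul_eq_mul, Ideal.mul_top] at this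
    exact this
  have hiff : ∀ k (x : M), x ∈ (I ^ k • ⊤ : Submodule A M) → ∀ i, s x i ∈ I ^ k := by
    intro k x hx
    refine hcoord k _ ?_
    exact Submodule.smul_top_le_comap_smul_top _ s hx
  have hback : ∀ k (v : Fin n → A), (∀ i, v i ∈ I ^ k) → π v ∈ (I ^ k • ⊤ : Submodule A M) := by
    intro k v hv
    rw [pi_eq_sum_univ v, map_sum]
    refine Submodule.sum_mem _ fun i _ => ?_
    rw [map_smul]
    exact Submodule.smul_mem_smul (hv i) Submodule.mem_top
  refine { toIsHausdorff := ?_, toIsPrecomplete := ?_ }
  · refine ⟨fun x hx => ?_⟩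
    rw [← hs x, show s x = 0 from funext fun i => IsHausdorff.haus (I := I) inferInstance _ fun k => ?_,
      map_zero]
    rw [SModEq.zero, Ideal.smul_eq_mul, Ideal.mul_top]
    exact hiff k x (SModEq.zero.mp (hx k)) i
  · refine ⟨fun f hf => ?_⟩
    have hc : ∀ i, ∃ L, ∀ k, s (f k) i ≡ L [SMOD (I ^ k • ⊤ : Submodule A A)] := fun i =>
      IsPrecomplete.prec inferInstance fun {a b} hab => by
        rw [SModEq.sub_mem, Ideal.smul_eq_mul, Ideal.mul_top, ← Pi.sub_apply, ← map_sub]
        exact hiff a _ (SModEq.sub_mem.mp (hf hab)) i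
    choose L hL using hc
    refine ⟨π L, fun k => ?_⟩
    rw [SModEq.sub_mem, ← hs (f k), ← map_sub]
    refine hback k _ fun i => ?_
    have := SModEq.sub_mem.mp (hL i k)
    rwa [Ideal.smul_eq_mul, Ideal.mul_top] at this

end Groth.Agent.S5078
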