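import Groth.Statements.S5081
import Mathlib.RingTheory.Kaehler.Basic
import Mathlib.RingTheory.Derivation.MapCoeffs
import Mathlib.RingTheory.Polynomial.Basic

set_option autoImplicit false
universe u
open Unram

namespace Groth.Agent.S5081

/-- Let B be a finite A-algebra generated by a single element u and F a polynomial with coefficients in
A such that F(u) = 0. Then the ideal generated by F'(u) is contained in the annihilator of the
module of differentials of B over A, and equals it when the kernel of the surjection A[T] → B
sending T to u is generated by F. -/
theorem result (A B : Type u) [CommRing A] [CommRing B] [Algebra A B]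
    [Module.Finite A B] (u : B) (hu : Algebra.adjoin A ({u} : Set B) = ⊤) (F : Polynomial A) (hF : Polynomial.aeval u F = 0) :
    Ideal.span {Polynomial.aeval u (Polynomial.derivative F)} ≤ Module.annihilator B (KaehlerDifferential A B) ∧
      (RingHom.ker (Polynomial.aeval u : Polynomial A →ₐ[A] B) = Ideal.span {F} →
        Module.annihilator B (KaehlerDifferential A B) = Ideal.span {Polynomial.aeval u (Polynomial.derivative F)}) := by
  open Polynomial in
  classical
  let d := KaehlerDifferential.D A B
  have hsurj : ∀ b : B, ∃ g : A[X], aeval u g = b := fun b => by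
    have : b ∈ Algebra.adjoin A ({u} : Set B) := hu ▸ Algebra.mem_top
    rwa [Algebra.adjoin_singleton_eq_range_aeval] at this
  have hzero : aeval u (derivative F) • d u = 0 := by
    rw [← Derivation.map_aeval, hF, map_zero]
  have hle : Ideal.span {aeval u (derivative F)} ≤ Module.annihilator B (KaehlerDifferential A B) := by
    rw [Ideal.span_singleton_le_iff_mem, Module.mem_annihilator]
    intro ω
    have hω : ω ∈ Submodule.span B (Set.range d) := by
      rw [KaehlerDifferential.span_range_derivation]; trivial
    induction hω using Submodule.span_induction with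
    | mem x hx =>
      obtain ⟨b, rfl⟩ := hx
      obtain ⟨g, rfl⟩ := hsurj b
      rw [Derivation.map_aeval, smul_comm, hzero, smul_zero]
    | zero => exact smul_zero _
    | add x y _ _ hx hy => rw [smul_add, hx, hy, add_zero]
    | smul b x _ hx => rw [smul_comm, hx, smul_zero]
  refine ⟨hle, fun hker => le_antisymm ?_ hle⟩
  let J : Ideal B := Ideal.span {aeval u (derivative F)}
  choose sec hsec using hsurj
  let δ : B → B ⧸ J := fun b => Ideal.Quotient.mk J (aeval u (derivative (sec b)))
  have hδ : ∀ g : A[X], δ (aeval u g) = Ideal.Quotient.mk J (aeval u (derivative g)) := by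
    intro g
    have hmem : sec (aeval u g) - g ∈ RingHom.ker (aeval u : A[X] →ₐ[A] B) := by
      rw [RingHom.mem_ker, map_sub, hsec, sub_self]
    rw [hker, Ideal.mem_span_singleton'] at hmem
    obtain ⟨c, hc⟩ := hmem
    rw [Ideal.Quotient.eq, ← map_sub, ← derivative_sub, ← hc, derivative_mul, map_add, map_mul, map_mul,
      hF, mul_zero, zero_add]
    exact J.mul_mem_left _ (Ideal.mem_span_singleton_self _)
  let D' : Derivation A B (B ⧸ J) :=
    { toFun := δ
      map_add' := fun x y => by
        conv_lhs => rw [← hsec x, ← hsec y, ← map_add, hδ, derivative_add, map_add, map_add]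
      map_smul' := fun a x => by
        conv_lhs => rw [← hsec x, ← map_smul, hδ, derivative_smul, map_smul]
        rfl
      map_one_eq_zero' := by
        show δ 1 = 0
        rw [← map_one (aeval u : A[X] →ₐ[A] B), hδ, derivative_one, map_zero, map_zero]
      leibniz' := fun x y => by
        show δ (x * y) = x • δ y + y • δ x
        conv_lhs => rw [← hsec x, ← hsec y, ← map_mul, hδ, derivative_mul, map_add, map_mul, map_mul, map_add, map_mul, map_mul, hsec x, hsec y]
        simp only [δ, Algebra.smul_def, Ideal.Quotient.algebraMap_eq]
        ring }
  intro b hb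
  have h := congrArg D'.liftKaehlerDifferential (Module.mem_annihilator.mp hb (d u))
  rw [map_smul, Derivation.liftKaehlerDifferential_comp_D, map_zero] at h
  change b • δ u = 0 at h
  rw [← aeval_X (R := A) u, hδ, derivative_X, map_one, map_one, Algebra.smul_def,
    Ideal.Quotient.algebraMap_eq, mul_one] at h
  exact Ideal.Quotient.eq_zero_iff_mem.mp h

end Groth.Agent.S5081
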