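import Groth.Statements.S5083
import Groth.Agent.L21.Mero.Basic

set_option autoImplicit false
set_option backward.isDefEq.respectTransparency false
universe u
open CategoryTheory CategoryTheory.Limits AlgebraicGeometry TopologicalSpace
open Mero

namespace Groth.Agent.S5083

/-- Let X be a scheme and D, D' divisors on X (global sections of the sheaf of units of K_X modulo units
of O_X, written multiplicatively). If D and D' are linearly equivalent, i.e. D · D'⁻¹ is the divisor
of a unit of the ring of global sections of K_X, then the O_X-modules O_X(D) and O_X(D') are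
isomorphic. (The published statement is an equivalence: O_X(D) and O_X(D') are isomorphic if and
only if D and D' are linearly equivalent; this row states only that linearly equivalent divisors
have isomorphic modules.) -/
theorem result (X : Scheme.{u}) (D D' : Mero.Divisor X) (h : Mero.LinEquiv D D') :
    Nonempty (Mero.divMod D ≅ Mero.divMod D') := by
  obtain ⟨f, hf⟩ := h
  let gx : ∀ x : X, (Mero.KStalk X x)ˣ := fun x => Units.map (Mero.evalK X ⊤ ⟨x, trivial⟩).toMonoidHom f
  have hD : ∀ x : X, D.1 x = QuotientGroup.mk (gx x) * D'.1 x := fun x => by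
    have h1 : D = Mero.div f * D' := by rw [← hf, inv_mul_cancel_right]
    exact congrArg (fun E : Mero.Divisor X => E.1 x) h1
  have h1 : ∀ (x : X) (t : Mero.KStalk X x), Mero.DivCond D x t →
      Mero.DivCond D' x ((↑f : Γ(Mero.kmod X, ⊤)).1 ⟨x, trivial⟩ * t) := fun x t ht g' hg' => by
    have h2 := ht (gx x * g') (by rw [hD x, hg', QuotientGroup.mk_mul])
    rw [Units.val_mul, ← mul_assoc, mul_comm t] at h2
    exact h2
  have h2 : ∀ (x : X) (t : Mero.KStalk X x), Mero.DivCond D' x t →
      Mero.DivCond D x ((↑f⁻¹ : Γ(Mero.kmod X, ⊤)).1 ⟨x, trivial⟩ * t) := fun x t ht g hg => by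
    have h3 := ht ((gx x)⁻¹ * g) (by rw [QuotientGroup.mk_mul, ← hg, hD x, QuotientGroup.mk_inv, inv_mul_cancel_left])
    rw [Units.val_mul, ← mul_assoc, mul_comm t] at h3
    exact h3
  have key : ∀ (a b : Γ(Mero.kmod X, ⊤)), a * b = 1 → ∀ (x : X) (t : Mero.KStalk X x),
      a.1 ⟨x, trivial⟩ * (b.1 ⟨x, trivial⟩ * t) = t := fun a b hab x t => by
    rw [← mul_assoc, ← Mero.kmod_mul_apply, hab, Mero.kmod_one_apply, one_mul]
  refine ⟨⟨Groth.L21.Mero.mulHom _ h1, Groth.L21.Mero.mulHom _ h2, ?_, ?_⟩⟩
  · ext U t
    exact Groth.L21.Mero.divMod_ext fun y => key _ _ f.inv_mul y.1 (Groth.L21.Mero.vl t y)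
  · ext U t
    exact Groth.L21.Mero.divMod_ext fun y => key _ _ f.mul_inv y.1 (Groth.L21.Mero.vl t y)

end Groth.Agent.S5083
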