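
import Groth.Statements.S5085
import Groth.Agent.L22.Mero

set_option autoImplicit false
universe u
open CategoryTheory CategoryTheory.Limits AlgebraicGeometry TopologicalSpace
open Mero

namespace Groth.Agent.S5085

/-- Let X be a scheme, U an open subset and V an open subset of U which is schematically dense in U (for
every open W ⊆ U, restriction of functions from W to W ∩ V is injective). Then restriction of
sections of the sheaf of meromorphic functions K_X from U to V is injective: the canonical map from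
meromorphic functions to pseudo-functions is injective. -/
theorem result (X : Scheme.{u}) (U V : X.Opens) (hVU : V ≤ U)
    (hV : ∀ W : X.Opens, W ≤ U →
      Function.Injective ⇑(X.presheaf.map (homOfLE (inf_le_left : W ⊓ V ≤ W)).op)) :
    Function.Injective ⇑((Mero.kmod X).presheaf.map (homOfLE hVU).op) := by
  intro s t hst
  refine Groth.L22.Mero.kmod_ext fun x => ?_
  obtain ⟨W₁, hx₁, i₁, a, b, hab⟩ := s.2 x
  obtain ⟨W₂, hx₂, i₂, a', b', hab'⟩ := t.2 x
  let W : X.Opens := W₁ ⊓ W₂
  have hxW : x.1 ∈ W := ⟨hx₁, hx₂⟩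
  have hWU : W ≤ U := fun y hy => i₁.le hy.1
  let c : Γ(X, W) :=
    X.presheaf.map (homOfLE (inf_le_left : W ≤ W₁)).op a *
        X.presheaf.map (homOfLE (inf_le_right : W ≤ W₂)).op b'.1 -
      X.presheaf.map (homOfLE (inf_le_right : W ≤ W₂)).op a' *
        X.presheaf.map (homOfLE (inf_le_left : W ≤ W₁)).op b.1
  have hgerm : ∀ (y : X) (hy : y ∈ W), s.1 ⟨y, hWU hy⟩ = t.1 ⟨y, hWU hy⟩ ↔
      X.presheaf.germ W y hy c = 0 := by
    intro y hy
    have e1 := hab ⟨y, hy.1⟩
    have e2 := hab' ⟨y, hy.2⟩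
    change s.1 ⟨y, _⟩ = _ at e1
    change t.1 ⟨y, _⟩ = _ at e2
    rw [e1, e2, Groth.L22.Mero.mk_eq_mk_iff, map_sub, map_mul, map_mul, sub_eq_zero,
      TopCat.Presheaf.germ_res_apply, TopCat.Presheaf.germ_res_apply,
      TopCat.Presheaf.germ_res_apply, TopCat.Presheaf.germ_res_apply]
  have hc : c = 0 := by
    refine hV W hWU ?_
    rw [map_zero]
    refine TopCat.Presheaf.section_ext X.sheaf _ _ 0 fun y hy => ?_
    change X.presheaf.germ _ y hy (X.presheaf.map (homOfLE inf_le_left).op c) =
      X.presheaf.germ _ y hy 0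
    rw [TopCat.Presheaf.germ_res_apply, map_zero]
    exact (hgerm y hy.1).1 (congrFun (congrArg Subtype.val hst) ⟨y, hy.2⟩)
  exact (hgerm x.1 hxW).2 (by rw [hc, map_zero])

end Groth.Agent.S5085
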