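import Groth.Statements.S5094
import Groth.Agent.L19.BiratNormal

set_option autoImplicit false
set_option backward.isDefEq.respectTransparency.types false
set_option backward.isDefEq.respectTransparency false
set_option linter.style.haveILetI false
universe u
open CategoryTheory CategoryTheory.Limits AlgebraicGeometry TopologicalSpace
open Lim8

namespace Groth.Agent.S5094

/-- Let X and Y be integral schemes and f : X → Y a separated morphism, locally of finite type and
birational (f sends the generic point of X to the generic point of Y and its stalk map there, the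
induced homomorphism of function fields, is an isomorphism). Let y be a normal point of Y (the local
ring O_{Y,y} is integrally closed) and suppose that some point of the fibre f⁻¹(y) is isolated in
that fibre. Then y has an open neighbourhood U such that the restriction f⁻¹(U) → U of f is an
isomorphism. -/
theorem result {X Y : Scheme.{u}} [IsIntegral X]
    [IsIntegral Y] (f : X ⟶ Y) [IsSeparated f] [LocallyOfFiniteType f]
    (hgen : f (genericPoint X) = genericPoint Y) (hbir : IsIso (f.stalkMap (genericPoint X)))
    (y : ↥Y) (hy : IsIntegrallyClosed ↑(Y.presheaf.stalk y))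
    (x : ↥(f.fiber y)) (hx : IsOpen ({x} : Set ↥(f.fiber y))) :
    ∃ U : Y.Opens, y ∈ U ∧ IsIso (f ∣_ U) := by
  have key : ∀ (z : X) (y : Y), f z = y → IsIntegrallyClosed (Y.presheaf.stalk y) →
      ∀ (x : f.fiber y), f.fiberι y x = z → IsOpen ({x} : Set (f.fiber y)) →
      ∃ U : Y.Opens, y ∈ U ∧ IsIso (f ∣_ U) := by
    rintro z _ rfl hy x hxz hx
    have h : x = f.asFiber z :=
      (f.fiberι (f z)).isEmbedding.injective (hxz.trans (f.fiberι_asFiber z).symm)
    subst h
    exact Groth.L19.exists_isIso_morphismRestrict_of_birational f hgen hbir z
      (Scheme.Hom.quasiFiniteAt_iff_isOpen_singleton_asFiber.mpr hx) hy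
  refine key (f.fiberι y x) y ?_ hy x rfl hx
  have : f.fiberι y x ∈ Set.range (f.fiberι y) := ⟨x, rfl⟩
  rw [f.range_fiberι] at this
  exact this

end Groth.Agent.S5094
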