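
import Groth.Statements.S5097
import Groth.Agent.L22.Mero

set_option autoImplicit false
universe u
open CategoryTheory CategoryTheory.Limits AlgebraicGeometry TopologicalSpace
open Mero

namespace Groth.Agent.S5097

/-- Injectivity of the canonical homomorphism from divisors to invertible fractional ideals: let X be a
scheme and D, D' two divisors on X such that, over every open subset U, a section t of the sheaf of
meromorphic functions lies in O_X(D) (t_x · g ∈ O_{X,x} for a representative g of the germ of D at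
x, for all x in U) if and only if it lies in O_X(D'). Then D = D'. -/
theorem result (X : Scheme.{u}) (D D' : Mero.Divisor X)
    (h : ∀ (U : X.Opens) (t : Γ(Mero.kmod X, U)),
      (∀ x : ↥U, Mero.DivCond D x.1 (t.1 x)) ↔ (∀ x : ↥U, Mero.DivCond D' x.1 (t.1 x))) :
    D = D' := by
  refine Subtype.ext (funext fun x => ?_)
  obtain ⟨U₁, hx₁, g, hg⟩ := D.2 x
  obtain ⟨U₂, hx₂, g', hg'⟩ := D'.2 x
  have mem : ∀ (E : Mero.Divisor X) (U : X.Opens) (g : (Γ(Mero.kmod X, U))ˣ),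
      (∀ y : U, E.1 y.1 = Mero.germOf g y) →
      ∀ y : U, Mero.DivCond E y.1 ((↑g⁻¹ : Γ(Mero.kmod X, U)).1 y) := by
    intro E U g hg y k hk
    rw [hg y] at hk
    obtain ⟨v, hv⟩ := QuotientGroup.eq.1 hk
    refine ⟨v, ?_⟩
    have := congrArg Units.val hv
    simpa [Mero.evalK] using this
  have a1 := (h U₁ (↑g⁻¹ : Γ(Mero.kmod X, U₁))).1 (mem D U₁ g hg) ⟨x, hx₁⟩
  have a2 := (h U₂ (↑g'⁻¹ : Γ(Mero.kmod X, U₂))).2 (mem D' U₂ g' hg') ⟨x, hx₂⟩
  set u := Units.map (Mero.evalK X U₁ ⟨x, hx₁⟩).toMonoidHom g with hu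
  set u' := Units.map (Mero.evalK X U₂ ⟨x, hx₂⟩).toMonoidHom g' with hu'
  obtain ⟨p, hp⟩ := a1 u' (hg' ⟨x, hx₂⟩)
  obtain ⟨q, hq⟩ := a2 u (hg ⟨x, hx₁⟩)
  have hp' : algebraMap (X.presheaf.stalk x) (Mero.KStalk X x) p = ↑(u⁻¹ * u') := by
    rw [hp, Units.val_mul, hu, ← map_inv]; rfl
  have hq' : algebraMap (X.presheaf.stalk x) (Mero.KStalk X x) q = ↑(u'⁻¹ * u) := by
    rw [hq, Units.val_mul, hu', ← map_inv]; rfl
  have hpq : p * q = 1 := by
    apply Mero.algebraMap_KStalk_injective x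
    rw [map_mul, hp', hq', ← Units.val_mul, map_one]
    simp
  rw [hg ⟨x, hx₁⟩, hg' ⟨x, hx₂⟩]
  exact QuotientGroup.eq.2 ⟨⟨p, q, hpq, by rw [mul_comm, hpq]⟩, Units.ext hp'⟩

end Groth.Agent.S5097
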