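import Groth.Statements.S5098
import Groth.Agent.L21.Mero.DepthOne

set_option autoImplicit false
set_option backward.isDefEq.respectTransparency false
universe u
open CategoryTheory CategoryTheory.Limits AlgebraicGeometry TopologicalSpace
open Mero

namespace Groth.Agent.S5098

/-- General form, for divisors on a scheme that need not be integral: let X be a locally Noetherian
scheme and D a divisor on X. If the germ of D is effective (resp. trivial) at every point x whose
local ring O_{X,x} has depth 1, then D is effective (resp. D is the unit divisor, in the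
multiplicative notation used here). -/
theorem result (X : Scheme.{u}) [IsLocallyNoetherian X] (D : Mero.Divisor X) :
    ((∀ x : ↥X, LocCoh.depth ↑(X.presheaf.stalk x) ↑(X.presheaf.stalk x) = 1 → Mero.IsEffectiveAt D x) →
        Mero.IsEffective D) ∧
      ((∀ x : ↥X, LocCoh.depth ↑(X.presheaf.stalk x) ↑(X.presheaf.stalk x) = 1 → D.1 x = 1) → D = 1) := by
  refine ⟨Groth.L21.Mero.isEffective_of_depth_one D, fun h => Subtype.ext (funext fun x => ?_)⟩
  refine Groth.L21.Mero.eq_one_of_effective_both
    (Groth.L21.Mero.isEffective_of_depth_one D (fun y hy => Groth.L21.Mero.isEffectiveAt_of_eq_one (h y hy)) x)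
    (Groth.L21.Mero.isEffective_of_depth_one D⁻¹ (fun y hy => Groth.L21.Mero.isEffectiveAt_of_eq_one ?_) x)
  show (D.1 y)⁻¹ = 1
  rw [h y hy, inv_one]

end Groth.Agent.S5098
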