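import Groth.Statements.S5099
import Groth.Agent.L21.Mero.DepthOne

set_option autoImplicit false
set_option backward.isDefEq.respectTransparency false
universe u
open CategoryTheory CategoryTheory.Limits AlgebraicGeometry TopologicalSpace
open Mero

namespace Groth.Agent.S5099

/-- General form, for divisors on a scheme that need not be integral: let X be a locally Noetherian
scheme, D a divisor on X and x a maximal point of the support of D (a point at which the germ of D
is not trivial and none of whose proper generizations has that property). Then the local ring of X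
at x has depth 1. -/
theorem result (X : Scheme.{u}) [IsLocallyNoetherian X] (D : Mero.Divisor X)
    (x : ↥X) (hx : x ∈ Mero.supp D) (hmax : ∀ z : ↥X, z ∈ Mero.supp D → z ⤳ x → z = x) :
    LocCoh.depth ↑(X.presheaf.stalk x) ↑(X.presheaf.stalk x) = 1 := by
  by_contra hd
  have hz : ∀ E : Mero.Divisor X, (∀ z : ↥X, z ⤳ x → z ≠ x → E.1 z = 1) → Mero.IsEffectiveAt E x := fun E hE =>
    Groth.L21.Mero.isEffectiveAt_of_depth_ne_one hd fun z hz hne =>
      Groth.L21.Mero.isEffectiveAt_of_eq_one (hE z hz hne)
  have h1 : ∀ z : ↥X, z ⤳ x → z ≠ x → D.1 z = 1 := fun z hz hne =>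
    by_contra fun h => hne (hmax z h hz)
  exact hx (Groth.L21.Mero.eq_one_of_effective_both (hz D h1)
    (hz D⁻¹ fun z hz hne => by
      show (D.1 z)⁻¹ = 1
      rw [h1 z hz hne, inv_one]))

end Groth.Agent.S5099
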