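import Groth.Statements.S5102
import Groth.Agent.L22.Mero
import Groth.Agent.L18.Frame
import Groth.Agent.L18.GenLocus
import Groth.Agent.L18.GlobGen
import Groth.Agent.L21.RR.Finite
import Groth.Agent.L21.Mod.Stalks

set_option autoImplicit false
set_option backward.isDefEq.respectTransparency false
universe u
open CategoryTheory CategoryTheory.Limits AlgebraicGeometry TopologicalSpace
open Mero

namespace Groth.Agent.S5102

/-- Let X be a scheme and J a fractional ideal, i.e. a sub-O_X-module of the sheaf of meromorphic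
functions K_X (given by a monomorphism J → K_X). Then J is an invertible O_X-module if and only if
every point of X has an open neighbourhood U together with a unit f of the ring Γ(U, K_X) such that
J|_U = O_U · f: over every open subset V of U, the sections of J are exactly the r · f|_V with r a
function on V. -/
theorem result (X : Scheme.{u}) (J : X.Modules)
    (ι : J ⟶ Mero.kmod X) [Mono ι] :
    PicF.IsInvertible J ↔ ∀ x : ↥X, ∃ (U : X.Opens) (_ : x ∈ U) (f : (Γ(Mero.kmod X, U))ˣ),
      ∀ (V : X.Opens) (hV : V ≤ U),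
        Set.range ⇑(ι.val.app (Opposite.op V)) =
          {t : Γ(Mero.kmod X, V) | ∃ r : Γ(X, V),
            t = Mero.toK X V r * (Mero.kmod X).presheaf.map (homOfLE hV).op (f : Γ(Mero.kmod X, U))} := by
  have hinj : ∀ (V : X.Opens), Function.Injective (ι.app V) := fun V => by
    refine (injective_iff_map_eq_zero _).2 fun t ht => ?_
    refine Groth.L21.RR.germ_ext fun y hy => ?_
    have h1 := Groth.L21.RR.st_germ ι hy t
    rw [ht, map_zero] at h1
    rw [map_zero]
    exact (Groth.L21.Mod.mono_iff_stalk_injective ι).1 inferInstance y (h1.trans (map_zero _).symm)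
  have hsmul : ∀ (V : X.Opens) (r : Γ(X, V)) (t : Γ(J, V)),
      ι.app V (r • t) = Mero.toK X V r * ι.app V t := fun V r t => by
    rw [Scheme.Modules.Hom.app_smul]
    refine Groth.L22.Mero.kmod_ext fun y => ?_
    exact (Mero.modOf_smul_apply _ r (ι.app V t) y).trans ((Algebra.smul_def _ _).trans rfl)
  have hnat : ∀ {U V : X.Opens} (h : V ≤ U) (t : Γ(J, U)),
      ι.app V (J.presheaf.map (homOfLE h).op t) = (Mero.kmod X).presheaf.map (homOfLE h).op (ι.app U t) :=
    fun h t => Groth.L18.Ample.hom_app_rs ι h t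
  constructor
  · intro hJ x
    obtain ⟨W, e, hxW, he⟩ := Groth.L18.Frame.exists_frame hJ x
    obtain ⟨W', hxW', i, a, b, w⟩ := (ι.app W e).2 ⟨x, hxW⟩
    have hle : W' ≤ W := i.le
    have ha : a ∈ Mero.regSub X W' := fun y => by
      rw [mem_nonZeroDivisors_iff_right]
      intro c hc
      obtain ⟨V, hyV, c, rfl⟩ := TopCat.Presheaf.exists_germ_eq X.presheaf c
      have hy2 : y.1 ∈ V ⊓ W' := ⟨hyV, y.2⟩
      have h1 : X.presheaf.germ (V ⊓ W') y.1 hy2 (X.presheaf.map (homOfLE inf_le_left).op c *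
          X.presheaf.map (homOfLE inf_le_right).op a) = X.presheaf.germ (V ⊓ W') y.1 hy2 0 := by
        rw [map_zero, map_mul, TopCat.Presheaf.germ_res_apply, TopCat.Presheaf.germ_res_apply]
        exact hc
      obtain ⟨V', hy', i₁, i₂, he'⟩ := X.presheaf.germ_eq y.1 hy2 hy2 _ _ h1
      have hV1 : V' ≤ V := i₁.le.trans inf_le_left
      have hV2 : V' ≤ W' := i₁.le.trans inf_le_right
      have hzero : X.presheaf.map (homOfLE hV1).op c • J.presheaf.map (homOfLE (hV2.trans hle)).op e = 0 := by
        apply hinj V'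
        rw [hsmul, map_zero, hnat]
        refine Groth.L22.Mero.kmod_ext fun z => ?_
        rw [Mero.kmod_mul_apply, Mero.toK_apply]
        have h2 : (ι.app W e).1 ⟨z.1, hle (hV2 z.2)⟩ =
            LocalizedModule.mk (X.presheaf.germ W' z.1 (hV2 z.2) a) (Mero.regGerm ⟨z.1, hV2 z.2⟩ b) := w ⟨z.1, hV2 z.2⟩
        show (LocalizedModule.mk _ 1 : Mero.KStalk X z.1) * (ι.app W e).1 ⟨z.1, hle (hV2 z.2)⟩ = (0 : Mero.KStalk X z.1)
        rw [h2]
        refine LocalizedModule.mk_mul_mk.trans ?_
        have h4 := congrArg (X.presheaf.germ V' z.1 z.2) he'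
        rw [map_mul, map_zero, map_mul, map_zero] at h4
        simp only [TopCat.Presheaf.germ_res_apply, TopCat.Presheaf.germ_res_apply'] at h4
        rw [TopCat.Presheaf.germ_res_apply, h4, LocalizedModule.zero_mk]
      have h5 := he.inj (hV2.trans hle) (a := X.presheaf.map (homOfLE hV1).op c) (b := 0)
        (hzero.trans (zero_smul _ _).symm)
      have h6 := congrArg (X.presheaf.germ V' y.1 hy') h5
      rwa [TopCat.Presheaf.germ_res_apply, map_zero] at h6
    let g : Γ(Mero.kmod X, W') := (Mero.kmod X).presheaf.map (homOfLE hle).op (ι.app W e)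
    let ginv : Γ(Mero.kmod X, W') :=
      ⟨fun y => LocalizedModule.mk (X.presheaf.germ W' y.1 y.2 b.1) (Mero.regGerm y ⟨a, ha⟩),
        fun y => ⟨W', y.2, 𝟙 _, b.1, ⟨a, ha⟩, fun z => rfl⟩⟩
    have hg : g * ginv = 1 := Groth.L22.Mero.kmod_ext fun y => by
      rw [Mero.kmod_mul_apply, Mero.kmod_one_apply]
      show (ι.app W e).1 ⟨y.1, hle y.2⟩ * LocalizedModule.mk _ _ = _
      rw [show (ι.app W e).1 ⟨y.1, hle y.2⟩ =
        LocalizedModule.mk (X.presheaf.germ W' y.1 y.2 a) (Mero.regGerm y b) from w y]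
      refine LocalizedModule.mk_mul_mk.trans ?_
      refine (Mero.mk_congr ?_ rfl).trans (Mero.mk_self_eq_one _)
      rw [Submonoid.coe_mul, mul_comm]
    refine ⟨W', hxW', (IsUnit.of_mul_eq_one ginv hg).unit, fun V hV => ?_⟩
    have hres : (Mero.kmod X).presheaf.map (homOfLE hV).op g = ι.app V (J.presheaf.map (homOfLE (hV.trans hle)).op e) :=
      (Groth.L18.Frame.rs_rs (Mero.kmod X) hle hV _).trans (hnat (hV.trans hle) e).symm
    ext t
    constructor
    · rintro ⟨s, rfl⟩
      obtain ⟨r, rfl⟩ := he.exists_coeff (hV.trans hle) s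
      refine ⟨r, ?_⟩
      rw [IsUnit.unit_spec, hres]
      exact hsmul V r _
    · rintro ⟨r, rfl⟩
      refine ⟨r • J.presheaf.map (homOfLE (hV.trans hle)).op e, ?_⟩
      rw [IsUnit.unit_spec, hres]
      exact hsmul V r _
  · intro h
    refine Groth.L18.GenLoc.isInvertible_of_frames fun x => ?_
    obtain ⟨U, hxU, f, hf⟩ := h x
    obtain ⟨e, he⟩ : ∃ e : Γ(J, U), ι.app U e = (f : Γ(Mero.kmod X, U)) := by
      have h1 : (f : Γ(Mero.kmod X, U)) ∈ Set.range ⇑(ι.val.app (Opposite.op U)) := by
        rw [hf U le_rfl]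
        exact ⟨1, by rw [map_one, one_mul]; exact (Groth.L18.Frame.rs_self (Mero.kmod X) le_rfl _).symm⟩
      exact h1
    refine ⟨U, e, hxU, fun V hV => ?_⟩
    have hval : ∀ r : Γ(X, V), ι.app V (r • J.presheaf.map (homOfLE hV).op e) =
        Mero.toK X V r * (Mero.kmod X).presheaf.map (homOfLE hV).op (f : Γ(Mero.kmod X, U)) := fun r => by
      rw [hsmul, hnat, he]
    constructor
    · intro a b hab
      have h1 := congrArg (fun s => ι.app V s) hab
      rw [hval, hval] at h1
      refine TopCat.Presheaf.section_ext X.sheaf _ _ _ fun z hz => Mero.algebraMap_KStalk_injective z ?_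
      have h2 := congrArg (Mero.evalK X V ⟨z, hz⟩) h1
      rw [map_mul, map_mul] at h2
      exact ((f.isUnit.map (Mero.evalK X U ⟨z, hV hz⟩)).mul_left_injective) h2
    · intro t
      obtain ⟨r, hr⟩ : ι.app V t ∈ {t : Γ(Mero.kmod X, V) | ∃ r : Γ(X, V),
          t = Mero.toK X V r * (Mero.kmod X).presheaf.map (homOfLE hV).op (f : Γ(Mero.kmod X, U))} :=
        (hf V hV) ▸ Set.mem_range_self t
      exact ⟨r, hinj V ((hval r).trans hr.symm)⟩

end Groth.Agent.S5102
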