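import Groth.Statements.S5104
import Groth.Agent.L07.RatStalk

set_option autoImplicit false
set_option linter.style.haveILetI false
universe u
open CategoryTheory CategoryTheory.Limits AlgebraicGeometry TopologicalSpace
open Rat20

namespace Groth.Agent.S5104

/-- Let X be an S-scheme which is locally Noetherian, or reduced with locally finite set of irreducible
components; let Y be separated and locally of finite presentation over S, U a schematically dense
open subset of X, h : U → Y an S-morphism (a pseudo-S-morphism ω of X into Y) and x a point of X.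
Then ω is defined at x — some S-morphism from an open neighbourhood V of x to Y agrees with h on U ∩
V — if and only if the restriction of ω to Spec O_{X,x} is everywhere defined — some S-morphism Spec
O_{X,x} → Y agrees with h after pulling back to Spec O_{X,x} ×_X U. (The published statement does
not assume Y separated over S and compares morphisms only on some schematically dense open; this row
assumes Y separated over S, where the two readings agree.) -/
theorem result {X Y S : Scheme.{u}} (pX : X ⟶ S) (pY : Y ⟶ S)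
    [IsSeparated pY] [LocallyOfFinitePresentation pY]
    (hX : IsLocallyNoetherian X ∨ (IsReduced X ∧ ∀ x : ↥X, ∃ W : X.Opens, x ∈ W ∧
      {Z : Set ↥X | Z ∈ irreducibleComponents ↥X ∧ (Z ∩ (W : Set ↥X)).Nonempty}.Finite))
    (U : X.Opens) (hU : CInt.IsSchematicallyDense U) (h : (U : Scheme.{u}) ⟶ Y) (hh : h ≫ pY = U.ι ≫ pX)
    (x : ↥X) :
    (∃ (V : X.Opens) (v : (V : Scheme.{u}) ⟶ Y), x ∈ V ∧ v ≫ pY = V.ι ≫ pX ∧
        X.homOfLE (inf_le_right : U ⊓ V ≤ V) ≫ v = X.homOfLE (inf_le_left : U ⊓ V ≤ U) ≫ h) ↔
      ∃ w : Spec (X.presheaf.stalk x) ⟶ Y, w ≫ pY = X.fromSpecStalk x ≫ pX ∧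
        pullback.fst (X.fromSpecStalk x) U.ι ≫ w = pullback.snd (X.fromSpecStalk x) U.ι ≫ h := by
  constructor
  · rintro ⟨V, v, hx, hvS, hv⟩
    refine ⟨V.fromSpecStalkOfMem x hx ≫ v, ?_, ?_⟩
    · rw [Category.assoc, hvS, Scheme.Opens.fromSpecStalkOfMem_ι_assoc]
    · rw [← Category.assoc]
      exact Groth.L07.RatDescent.agree_of_homOfLE h v hv _ _
        (by rw [Category.assoc, Scheme.Opens.fromSpecStalkOfMem_ι, pullback.condition])
  · rintro ⟨w, hwS, hwU⟩
    haveI : X.IsGermInjectiveAt x := by
      rcases hX with hX | ⟨hX, hfin⟩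
      · infer_instance
      · obtain ⟨W, hxW, hW⟩ := hfin x
        exact Groth.L07.RatStalk.isGermInjectiveAt_of_finite hxW hW
    obtain ⟨U', hxU', v₀, hv₀, hv₀S⟩ := spread_out_of_isGermInjective' pX pY w hwS
    obtain ⟨V, hxV, hV, hle, H⟩ := X.exists_le_and_germ_injective x U' hxU'
    refine ⟨V, X.homOfLE hle ≫ v₀, hxV, by rw [Category.assoc, hv₀S, Scheme.homOfLE_ι_assoc], ?_⟩
    refine Groth.L07.RatStalk.agree_of_agree_stalk pX pY U h hh hV hxV H _
      (by rw [Category.assoc, hv₀S, Scheme.homOfLE_ι_assoc]) w ?_ hwU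
    rw [hv₀, ← Category.assoc]
    refine congrArg (· ≫ v₀) ?_
    rw [← cancel_mono U'.ι, Category.assoc, Scheme.homOfLE_ι, Scheme.Opens.fromSpecStalkOfMem_ι,
      Scheme.Opens.fromSpecStalkOfMem_ι]

end Groth.Agent.S5104
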