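import Groth.Statements.S5107
import Groth.Agent.L19.SchDense
import Groth.Agent.L19.Limit.Flat
import Mathlib.AlgebraicGeometry.AffineTransitionLimit
import Mathlib.AlgebraicGeometry.Morphisms.UniversallyOpen
import Mathlib.RingTheory.Ideal.AssociatedPrime.Finiteness

set_option autoImplicit false
universe u
open CategoryTheory CategoryTheory.Limits AlgebraicGeometry TopologicalSpace
open Lim8

namespace Groth.Agent.S5107

open AlgebraicGeometry CategoryTheory CategoryTheory.Limits

/-- In a flat morphism of locally Noetherian schemes, associated points map to associated points. -/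
theorem ass_image {X Y : Scheme.{u}} (f : Y ⟶ X) [Flat f] [IsLocallyNoetherian X] [IsLocallyNoetherian Y] (y : Y)
    (h : IsAssociatedPrime (IsLocalRing.maximalIdeal ↑(Y.presheaf.stalk y)) ↑(Y.presheaf.stalk y)) :
    IsAssociatedPrime (IsLocalRing.maximalIdeal ↑(X.presheaf.stalk (f y))) ↑(X.presheaf.stalk (f y)) := by
  classical
  letI := (f.stalkMap y).hom.toAlgebra
  haveI : Module.Flat (X.presheaf.stalk (f y)) (Y.presheaf.stalk y) :=
    (Flat.iff_flat_stalkMap f).mp inferInstance y
  obtain ⟨hp, b, hb⟩ := isAssociatedPrime_iff.1 h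
  obtain ⟨s, hs⟩ := (inferInstance : IsNoetherianRing ↑(X.presheaf.stalk (f y))).noetherian
    (IsLocalRing.maximalIdeal ↑(X.presheaf.stalk (f y)))
  have hb0 : b ≠ 0 := fun hb0 => hp.ne_top (by
    rw [hb, hb0, Ideal.eq_top_iff_one]; simp [Submodule.mem_colon_singleton])
  obtain ⟨a, ha, ha0⟩ : ∃ a : X.presheaf.stalk (f y), (∀ c : (s : Set _), c.1 * a = 0) ∧ a ≠ 0 := by
    by_contra hne
    push Not at hne
    refine hb0 (Groth.Agent.L19.SchDense.flat_killed (A := X.presheaf.stalk (f y))
      (fun c : (s : Set _) => c.1) hne b fun c => ?_)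
    have hc : c.1 ∈ IsLocalRing.maximalIdeal ↑(X.presheaf.stalk (f y)) := hs ▸ Ideal.subset_span c.2
    have := map_nonunit (f.stalkMap y).hom _ hc
    rw [hb, Submodule.mem_colon_singleton, Submodule.mem_bot, smul_eq_mul] at this
    exact this
  refine isAssociatedPrime_iff.2 ⟨inferInstance, a, ?_⟩
  refine le_antisymm ?_ (IsLocalRing.le_maximalIdeal ?_)
  · rw [← hs, Submodule.span_le]
    intro c hc
    simp only [SetLike.mem_coe, Submodule.mem_colon_singleton, Submodule.mem_bot, smul_eq_mul]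
    exact ha ⟨c, hc⟩
  · rw [Ne, Ideal.eq_top_iff_one, Submodule.mem_colon_singleton, one_smul, Submodule.mem_bot]
    exact ha0

/-- Over a point of a flat morphism with associated image there is an associated point. -/
theorem ass_lift {X Y : Scheme.{u}} (f : Y ⟶ X) [Flat f] [IsLocallyNoetherian X] [IsLocallyNoetherian Y] (q : Y)
    (h : IsAssociatedPrime (IsLocalRing.maximalIdeal ↑(X.presheaf.stalk (f q))) ↑(X.presheaf.stalk (f q))) :
    ∃ q' : Y, f q' = f q ∧
      IsAssociatedPrime (IsLocalRing.maximalIdeal ↑(Y.presheaf.stalk q')) ↑(Y.presheaf.stalk q') := by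
  letI := (f.stalkMap q).hom.toAlgebra
  haveI : Module.Flat (X.presheaf.stalk (f q)) (Y.presheaf.stalk q) :=
    (Flat.iff_flat_stalkMap f).mp inferInstance q
  haveI : IsLocalHom (algebraMap (X.presheaf.stalk (f q)) (Y.presheaf.stalk q)) :=
    inferInstanceAs (IsLocalHom (f.stalkMap q).hom)
  haveI : Module.FaithfullyFlat (X.presheaf.stalk (f q)) (Y.presheaf.stalk q) :=
    .of_flat_of_isLocalHom
  obtain ⟨hp, a, ha⟩ := isAssociatedPrime_iff.1 h
  have ha0 : a ≠ 0 := fun h0 => hp.ne_top (by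
    rw [ha, h0, Ideal.eq_top_iff_one]; simp [Submodule.mem_colon_singleton])
  set b := algebraMap (X.presheaf.stalk (f q)) (Y.presheaf.stalk q) a with hbdef
  have hb0 : b ≠ 0 := fun h0 => ha0 (FaithfulSMul.algebraMap_injective
    (X.presheaf.stalk (f q)) (Y.presheaf.stalk q) (h0.trans (map_zero _).symm))
  obtain ⟨Q, hQ, hle⟩ := exists_le_isAssociatedPrime_of_isNoetherianRing (Y.presheaf.stalk q) b hb0
  have hcom : Spec.map (f.stalkMap q) ⟨Q, hQ.isPrime⟩ = IsLocalRing.closedPoint _ := by
    apply PrimeSpectrum.ext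
    refine le_antisymm (IsLocalRing.le_maximalIdeal (Ideal.IsPrime.ne_top (PrimeSpectrum.isPrime _))) ?_
    intro r hr
    change algebraMap (X.presheaf.stalk (f q)) (Y.presheaf.stalk q) r ∈ Q
    apply hle
    have hra : r * a = 0 := by
      change r ∈ IsLocalRing.maximalIdeal _ at hr
      rwa [ha, Submodule.mem_colon_singleton, Submodule.mem_bot, smul_eq_mul] at hr
    rw [Submodule.mem_colon_singleton, Submodule.mem_bot, smul_eq_mul, hbdef, ← map_mul, hra, map_zero]
  refine ⟨Y.fromSpecStalk q ⟨Q, hQ.isPrime⟩, ?_, ?_⟩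
  · rw [← Scheme.Hom.comp_apply, ← Scheme.SpecMap_stalkMap_fromSpecStalk, Scheme.Hom.comp_apply, hcom,
      Scheme.fromSpecStalk_closedPoint]
  · obtain ⟨W, hW, hqW, -⟩ := exists_isAffineOpen_mem_and_subset (x := q) (U := ⊤) trivial
    have e : Y.fromSpecStalk q ⟨Q, hQ.isPrime⟩ = hW.fromSpec
        (Spec.map (Y.presheaf.germ W q hqW) ⟨Q, hQ.isPrime⟩) := by
      rw [← hW.fromSpecStalk_eq_fromSpecStalk hqW]
      rfl
    have hmem : Y.fromSpecStalk q ⟨Q, hQ.isPrime⟩ ∈ W := by
      rw [e, ← SetLike.mem_coe, ← hW.range_fromSpec]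
      exact ⟨_, rfl⟩
    refine (Groth.Agent.L19.SchDense.isAssociatedPrime_stalk_iff hW _ hmem).2 ?_
    have hprime : hW.primeIdealOf ⟨_, hmem⟩ = Spec.map (Y.presheaf.germ W q hqW) ⟨Q, hQ.isPrime⟩ :=
      hW.fromSpec.isOpenEmbedding.injective ((hW.fromSpec_primeIdealOf ⟨_, hmem⟩).trans e)
    rw [hprime]
    haveI : IsNoetherianRing Γ(Y, W) := IsLocallyNoetherian.component_noetherian ⟨W, hW⟩
    letI : Algebra Γ(Y, W) (Y.presheaf.stalk q) := (Y.presheaf.germ W q hqW).hom.toAlgebra
    haveI : IsLocalization.AtPrime (Y.presheaf.stalk q) (hW.primeIdealOf ⟨q, hqW⟩).asIdeal :=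
      hW.isLocalization_stalk ⟨q, hqW⟩
    haveI : IsLocalizedModule (hW.primeIdealOf ⟨q, hqW⟩).asIdeal.primeCompl
        (Algebra.linearMap Γ(Y, W) (Y.presheaf.stalk q)) :=
      isLocalizedModule_iff_isLocalization.mpr inferInstance
    exact Module.associatedPrimes.comap_mem_associatedPrimes_of_mem_associatedPrimes_of_isLocalizedModule_of_fg
      (hW.primeIdealOf ⟨q, hqW⟩).asIdeal.primeCompl
      (Algebra.linearMap Γ(Y, W) (Y.presheaf.stalk q)) Q hQ (IsNoetherian.noetherian _)

/-- A point in the closure of a set of associated points is a specialization of one of them. -/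
theorem exists_specializes {X : Scheme.{u}} [IsLocallyNoetherian X] (S : Set X)
    (hS : ∀ x ∈ S, IsAssociatedPrime (IsLocalRing.maximalIdeal ↑(X.presheaf.stalk x)) ↑(X.presheaf.stalk x))
    (z : X) (hz : z ∈ closure S) : ∃ x ∈ S, x ⤳ z := by
  obtain ⟨W, hW, hzW, -⟩ := exists_isAffineOpen_mem_and_subset (x := z) (U := ⊤) trivial
  haveI : IsNoetherianRing Γ(X, W) := IsLocallyNoetherian.component_noetherian ⟨W, hW⟩
  have hfin : (S ∩ (W : Set X)).Finite := by
    refine ((Set.Finite.preimage (f := PrimeSpectrum.asIdeal) (fun _ _ _ _ h => PrimeSpectrum.ext h)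
      (associatedPrimes.finite Γ(X, W) Γ(X, W))).image hW.fromSpec).subset ?_
    rintro x ⟨hx, hxW⟩
    exact ⟨hW.primeIdealOf ⟨x, hxW⟩,
      (Groth.Agent.L19.SchDense.isAssociatedPrime_stalk_iff hW x hxW).1 (hS x hx),
      hW.fromSpec_primeIdealOf ⟨x, hxW⟩⟩
  have hz' : z ∈ closure (S ∩ (W : Set X)) := by
    rw [Set.inter_comm]
    exact W.2.inter_closure ⟨hzW, hz⟩
  rw [← Set.biUnion_of_singleton (S ∩ (W : Set X)), hfin.closure_biUnion] at hz'
  simp only [Set.mem_iUnion] at hz'
  obtain ⟨x, hx, hxz⟩ := hz'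
  exact ⟨x, hx.1, specializes_iff_mem_closure.2 hxz⟩

/-- Let (X_i) be a cofiltered system of Noetherian schemes with affine and flat transition morphisms, X
its limit, assumed Noetherian as well, and U₀ an open subset of X_{i₀}, with inverse images U_i in
X_i (for i over i₀) and U in X. Then U is schematically dense in X if and only if there is an index
i over i₀ such that U_i is schematically dense in X_i (and then, the transition morphisms being
flat, U_j is schematically dense in X_j for every j over i). -/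
theorem result {I : Type u} [SmallCategory I]
    [IsCofiltered I] (D : I ⥤ Scheme.{u}) (c : Limits.Cone D) (hc : Limits.IsLimit c)
    [∀ (i j : I) (g : i ⟶ j), IsAffineHom (D.map g)] [∀ (i j : I) (g : i ⟶ j), Flat (D.map g)]
    [∀ i : I, IsNoetherian (D.obj i)] [IsNoetherian c.pt] (i₀ : I) (U₀ : (D.obj i₀).Opens) :
    CInt.IsSchematicallyDense ((c.π.app i₀) ⁻¹ᵁ U₀) ↔
      ∃ (i : I) (g : i ⟶ i₀), CInt.IsSchematicallyDense ((D.map g) ⁻¹ᵁ U₀) := by
  haveI hfl : ∀ i, Flat (c.π.app i) := fun i =>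
    Groth.L19.Limit.flat_π_app hc i (fun j φ => inferInstance)
  haveI : IsLocallyNoetherian (((Functor.const I).obj c.pt).obj i₀) := inferInstanceAs (IsLocallyNoetherian c.pt)
  constructor
  · intro hd
    rw [Groth.Agent.L19.SchDense.isSchematicallyDense_iff] at hd
    simp only [Groth.Agent.L19.SchDense.isSchematicallyDense_iff]
    by_contra hne
    push Not at hne
    let C : Set (D.obj i₀) := closure {x | IsAssociatedPrime
      (IsLocalRing.maximalIdeal ↑((D.obj i₀).presheaf.stalk x)) ↑((D.obj i₀).presheaf.stalk x) ∧ x ∉ U₀}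
    obtain ⟨p, hp⟩ := exists_mem_of_isClosed_of_nonempty' D c hc
      (fun i g => D.map g ⁻¹' C) (fun i g => isClosed_closure.preimage (D.map g).continuous)
      (fun i g => by
        obtain ⟨x, hx, hxU⟩ := hne i g
        exact ⟨x, subset_closure ⟨ass_image (D.map g) x hx, hxU⟩⟩)
      (fun i g => TopologicalSpace.NoetherianSpace.isCompact _)
      (fun i i' g g₁ x hx => by simpa [Functor.map_comp] using hx)
    have hp' : c.π.app i₀ p ∈ C := by simpa using hp i₀ (𝟙 i₀)
    obtain ⟨x, ⟨hx, hxU⟩, hsp⟩ := exists_specializes _ (fun x hx => hx.1) _ hp'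
    obtain ⟨q, -, rfl⟩ := Flat.generalizingMap (c.π.app i₀) hsp
    obtain ⟨q', hq', hass⟩ := ass_lift (c.π.app i₀) q hx
    have := hd q' hass
    rw [Scheme.Hom.mem_preimage, hq'] at this
    exact hxU this
  · rintro ⟨i, g, hg⟩
    have := Groth.Agent.L19.SchDense.isSchematicallyDense_preimage (c.π.app i) _ hg
    rwa [← Scheme.Hom.comp_preimage, c.w g] at this

end Groth.Agent.S5107
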