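import Groth.Statements.S5108
import Groth.Agent.L07.WSetup

set_option autoImplicit false
set_option linter.style.haveILetI false
universe u
open CategoryTheory CategoryTheory.Limits AlgebraicGeometry TopologicalSpace
open Pur21

namespace Groth.Agent.S5108

/-- Let X and Y be locally Noetherian schemes, g : X → Y a morphism, y a closed point of Y and Y' = Y −
{y}; suppose that the restriction g⁻¹(Y') → Y' of g is an open immersion and that the local ring
O_{Y,y} satisfies condition (W): every open subset U of the punctured spectrum of O_{Y,y} which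
contains no irreducible component of the punctured spectrum and whose inclusion into the punctured
spectrum is an affine morphism is itself affine. Then for every irreducible component Z of the fibre
g⁻¹(y), with generic point z (a point over y with no proper generization over y), either Z has
codimension ≤ 1 in X (dim O_{X,z} ≤ 1) or z is isolated in Z (some open neighbourhood of z contains
no other point of Z). The morphism g is not assumed locally of finite type. (The published statement
adds that, when the component is locally of finite type over the residue field of y, the second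
alternative forces it to be a single point; this row omits that clause.) -/
theorem result {X Y : Scheme.{u}}
    [IsLocallyNoetherian X] [IsLocallyNoetherian Y] (g : X ⟶ Y) (y : ↥Y) (Y' : Y.Opens)
    (hY' : (Y' : Set ↥Y) = {y}ᶜ) [IsOpenImmersion (g ∣_ Y')]
    (hW : (∀ U : (Spec (Y.presheaf.stalk y)).Opens, ∀ hU : U ≤ FEt.puncturedSpec ↑(Y.presheaf.stalk y),
        (∀ T ∈ irreducibleComponents ↥(FEt.puncturedSpec ↑(Y.presheaf.stalk y)), ¬ Subtype.val '' T ⊆ (U : Set _)) →
        IsAffineHom ((Spec (Y.presheaf.stalk y)).homOfLE hU) → IsAffineOpen U))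
    (z : ↥X) (hz : g z = y) (hmax : ∀ z' : ↥X, g z' = y → z' ⤳ z → z' = z) :
    ringKrullDim ↑(X.presheaf.stalk z) ≤ 1 ∨
      ∃ O : X.Opens, z ∈ O ∧ ∀ z' : ↥X, z' ∈ O → g z' = y → z ⤳ z' → z' = z := by
  have hW_cond := hW
  clear hW
  obtain ⟨_, ⟨V, hV, rfl⟩, hyV, -⟩ :=
    Y.isBasis_affineOpens.exists_subset_of_mem_open (Set.mem_univ y) isOpen_univ
  change Y.Opens at V
  replace hV : IsAffineOpen V := hV
  obtain ⟨_, ⟨W, hW, rfl⟩, hzW, hWV⟩ :=
    X.isBasis_affineOpens.exists_subset_of_mem_open (show z ∈ g ⁻¹ᵁ V by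
      show g z ∈ V
      rw [hz]; exact hyV) (g ⁻¹ᵁ V).2
  change X.Opens at W
  replace hW : IsAffineOpen W := hW
  have hmem : ∀ x, x ∈ g ⁻¹ᵁ Y' ↔ g x ≠ y := fun x => by
    show g x ∈ (Y' : Set Y) ↔ _
    rw [hY']
    rfl
  haveI : IsOpenImmersion ((g ⁻¹ᵁ Y').ι ≫ g) := by
    rw [← morphismRestrict_ι g Y']
    infer_instance
  haveI := Groth.L07.WCore.isLocalIso_of_isOpenImmersion ((g ⁻¹ᵁ Y').ι ≫ g)
  rcases Groth.L07.WCore.dim_le_one_or_isolated_scheme g hV hyV hW hWV (g ⁻¹ᵁ Y')
      (fun x _ _ h => (hmem x).2 h)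
      (fun x _ x' _ hx hx' _ _ e => congrArg Subtype.val
        (((g ⁻¹ᵁ Y').ι ≫ g).isOpenEmbedding.injective (a₁ := ⟨x, hx⟩) (a₂ := ⟨x', hx'⟩) e))
      hW_cond hzW hz (fun z' _ h h' => hmax z' h h') with h | ⟨O, hzO, hO⟩
  · exact Or.inl h
  · exact Or.inr ⟨O, hzO, fun z' hz' h _ => hO z' hz' h⟩

end Groth.Agent.S5108
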