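import Groth.Statements.S5109
import Groth.Agent.L07.WSetup

set_option autoImplicit false
set_option linter.style.haveILetI false
universe u
open CategoryTheory CategoryTheory.Limits AlgebraicGeometry TopologicalSpace
open Pur21

namespace Groth.Agent.S5109

/-- Let X and Y be locally Noetherian schemes with X irreducible, g : X → Y a morphism locally of finite
type, and V the largest open subset of X on which g is a local isomorphism. Suppose that for every
point y of Y the local ring O_{Y,y} satisfies the following condition (W): every open subset of its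
punctured spectrum which contains no irreducible component of the punctured spectrum and whose
inclusion is affine is itself affine. Then every irreducible component of T = X − V either has
codimension ≤ 1 in X or has its generic point z isolated in the fibre g⁻¹(g(z)): for every point z
with no open neighbourhood on which g is a local isomorphism, and maximal with this property under
generization, either dim O_{X,z} ≤ 1 or some open neighbourhood of z meets the fibre through z only
in z. -/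
theorem result {X Y : Scheme.{u}}
    [IsLocallyNoetherian X] [IsLocallyNoetherian Y] [IrreducibleSpace ↥X] (g : X ⟶ Y) [LocallyOfFiniteType g]
    (hW : ∀ y : ↥Y, (∀ U : (Spec (Y.presheaf.stalk y)).Opens, ∀ hU : U ≤ FEt.puncturedSpec ↑(Y.presheaf.stalk y),
        (∀ T ∈ irreducibleComponents ↥(FEt.puncturedSpec ↑(Y.presheaf.stalk y)), ¬ Subtype.val '' T ⊆ (U : Set _)) →
        IsAffineHom ((Spec (Y.presheaf.stalk y)).homOfLE hU) → IsAffineOpen U))
    (z : ↥X) (hz : ¬ ∃ W : X.Opens, z ∈ W ∧ IsLocalIso (W.ι ≫ g))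
    (hmax : ∀ z' : ↥X, (¬ ∃ W : X.Opens, z' ∈ W ∧ IsLocalIso (W.ι ≫ g)) → z' ⤳ z → z' = z) :
    ringKrullDim ↑(X.presheaf.stalk z) ≤ 1 ∨
      ∃ O : X.Opens, z ∈ O ∧ ∀ z' : ↥X, z' ∈ O → g z' = g z → z' = z := by
  have hcond := hW (g z)
  clear hW
  obtain ⟨_, ⟨V, hV, rfl⟩, hyV, -⟩ :=
    Y.isBasis_affineOpens.exists_subset_of_mem_open (Set.mem_univ (g z)) isOpen_univ
  change Y.Opens at V
  replace hV : IsAffineOpen V := hV
  let L : X.Opens := sSup {W : X.Opens | IsLocalIso (W.ι ≫ g)}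
  have hLmem : ∀ x, x ∈ L ↔ ∃ W : X.Opens, x ∈ W ∧ IsLocalIso (W.ι ≫ g) := by
    intro x
    rw [TopologicalSpace.Opens.mem_sSup]
    exact ⟨fun ⟨W, h1, h2⟩ => ⟨W, h2, h1⟩, fun ⟨W, h1, h2⟩ => ⟨W, h2, h1⟩⟩
  haveI : IsLocalIso (L.ι ≫ g) :=
    Groth.L07.WCore.isLocalIso_restrict g L fun x hx => (hLmem x).1 hx
  have hzL : z ∉ L := fun h => hz ((hLmem z).1 h)
  have hmin : ∀ z' : X, z' ∉ L → z' ⤳ z → z' = z := fun z' h => hmax z' fun h' => h ((hLmem z').2 h')
  -- near `z` the complement of `L` consists of specialisations of `z`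
  obtain ⟨O, hzO, hO⟩ : ∃ O : X.Opens, z ∈ O ∧ ∀ x ∈ O, x ∉ L → z ⤳ x := by
    obtain ⟨_, ⟨W, hW, rfl⟩, hzW, -⟩ :=
      X.isBasis_affineOpens.exists_subset_of_mem_open (Set.mem_univ z) isOpen_univ
    change X.Opens at W
    replace hW : IsAffineOpen W := hW
    haveI : IsNoetherianRing Γ(X, W) := IsLocallyNoetherian.component_noetherian ⟨W, hW⟩
    obtain ⟨I, hI⟩ := (PrimeSpectrum.isClosed_iff_zeroLocus_ideal _).1
      (show IsClosed (hW.fromSpec ⁻¹' ((L : Set X)ᶜ)) from
        L.2.isClosed_compl.preimage hW.fromSpec.continuous)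
    have hIiff : ∀ p : Spec Γ(X, W), hW.fromSpec p ∉ L ↔ I ≤ p.asIdeal := fun p => by
      exact (Set.ext_iff.1 hI p).trans (PrimeSpectrum.mem_zeroLocus p (I : Set Γ(X, W)))
    have hqI : (hW.primeIdealOf ⟨z, hzW⟩).asIdeal ∈ I.minimalPrimes := by
      refine ⟨⟨(hW.primeIdealOf ⟨z, hzW⟩).2, (hIiff _).1 (by
        rw [hW.fromSpec_primeIdealOf]; exact hzL)⟩, fun P ⟨hP, hIP⟩ hle => ?_⟩
      have hPz : hW.fromSpec (⟨P, hP⟩ : PrimeSpectrum _) = z := by
        refine hmin _ ((hIiff _).2 hIP) ?_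
        conv_rhs => rw [← Groth.L22.LocalDim.fromSpec_prime hW hzW]
        exact Groth.L22.LocalDim.fromSpec_specializes hW hle
      have : (⟨P, hP⟩ : PrimeSpectrum _) = hW.primeIdealOf ⟨z, hzW⟩ :=
        hW.fromSpec.isOpenEmbedding.injective (hPz.trans (hW.fromSpec_primeIdealOf ⟨z, hzW⟩).symm)
      exact (congrArg PrimeSpectrum.asIdeal this).ge
    obtain ⟨f, hf, hf'⟩ := Groth.L07.WCore.exists_notMem_forall_le _ hqI
    refine ⟨X.basicOpen f, (Groth.L22.LocalDim.mem_basicOpen_iff hW hzW f).2 hf, fun x hx hxL => ?_⟩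
    have hxW : x ∈ W := X.basicOpen_le f hx
    rw [← Groth.L22.LocalDim.fromSpec_prime hW hzW, ← Groth.L22.LocalDim.fromSpec_prime hW hxW]
    refine Groth.L22.LocalDim.fromSpec_specializes hW (hf' _ (hW.primeIdealOf ⟨x, hxW⟩).2
      ((hIiff _).1 ?_) ((Groth.L22.LocalDim.mem_basicOpen_iff hW hxW f).1 hx))
    rw [hW.fromSpec_primeIdealOf]
    exact hxL
  obtain ⟨_, ⟨W, hW, rfl⟩, hzW, hWO⟩ :=
    X.isBasis_affineOpens.exists_subset_of_mem_open
      (show z ∈ g ⁻¹ᵁ V ⊓ O from ⟨hyV, hzO⟩) (g ⁻¹ᵁ V ⊓ O).2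
  change X.Opens at W
  replace hW : IsAffineOpen W := hW
  have e : W ≤ g ⁻¹ᵁ V := fun x hx => (hWO hx).1
  have hη : ∀ x : X, genericPoint X ⤳ x := fun x =>
    (genericPoint_spec X).specializes trivial
  have hηW : genericPoint X ∈ W := (hη z).mem_open W.2 hzW
  refine Groth.L07.WCore.dim_le_one_or_isolated_scheme g hV hyV hW e L ?_ ?_ hcond hzW rfl ?_
  · intro x hx hsp hne
    by_contra hxL
    exact hne (hsp.antisymm ((hO x (hWO hx).2 hxL).map g.continuous)).eq
  · intro x hx x' hx' hxL hx'L _ _ h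
    exact Groth.L07.WCore.eq_of_residual g hV hW e (hW.primeIdealOf ⟨_, hηW⟩) hx hx' h
      (Groth.L22.LocalDim.le_of_specializes hW hηW hx (hη x))
      (Groth.L22.LocalDim.le_of_specializes hW hηW hx' (hη x'))
      (Groth.L07.WCore.residual_chart g hV hW e hx L hxL
        (Groth.L22.LocalDim.le_of_specializes hW hηW hx (hη x)))
      (Groth.L07.WCore.residual_chart g hV hW e hx' L hx'L
        (Groth.L22.LocalDim.le_of_specializes hW hηW hx' (hη x')))
  · intro z' hz' hg hsp
    by_contra hne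
    have hz'L : z' ∈ L := by
      by_contra h
      exact hne (hmin z' h hsp)
    have hle := Groth.L22.LocalDim.le_of_specializes hW hz' hzW hsp
    have H := Groth.L07.WCore.residual_chart g hV hW e hz' L hz'L
      (η := (hW.primeIdealOf ⟨z', hz'⟩).asIdeal) le_rfl
    refine hne (Groth.L07.WCore.eq_of_residual g hV hW e (hW.primeIdealOf ⟨z', hz'⟩) hz' hzW hg
      le_rfl hle H fun b => ?_)
    obtain ⟨t, a, ht, hta⟩ := H b
    refine ⟨t, a, fun h => ht ?_, hta⟩
    have key := Groth.L07.WCore.fromSpec_appLE g hV hW e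
    have hb : Spec.map (g.appLE V W e) (hW.primeIdealOf ⟨z', hz'⟩) =
        Spec.map (g.appLE V W e) (hW.primeIdealOf ⟨z, hzW⟩) :=
      hV.fromSpec.isOpenEmbedding.injective ((key z' hz').trans (hg.trans (key z hzW).symm))
    exact (SetLike.ext_iff.1 (congrArg PrimeSpectrum.asIdeal hb) t).2 h

end Groth.Agent.S5109
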