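import Groth.Statements.S5110
import Groth.Agent.L19.Limit.MaxPoints

set_option autoImplicit false
set_option backward.isDefEq.respectTransparency.types false
set_option backward.isDefEq.respectTransparency false
universe u
open CategoryTheory CategoryTheory.Limits AlgebraicGeometry TopologicalSpace
open Lim8

namespace Groth.Agent.S5110

/-- Let (S_i) be a cofiltered system of schemes with affine transition morphisms and S its limit, such
that every S_i has finitely many maximal points and the transition morphisms send maximal points to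
maximal points; let S_{i₀} be quasi-compact and V₀ an open subset of S_{i₀}, with inverse images V_i
in the S_i over i₀ and V in S. If V₀ is dense in S_{i₀} then every V_i and V are dense. Conversely,
if V is dense in S and S has only finitely many maximal points, then V_i is dense in S_i for some i
over i₀. -/
theorem result {I : Type u} [SmallCategory I] [IsCofiltered I]
    (D : I ⥤ Scheme.{u}) (c : Limits.Cone D) (hc : Limits.IsLimit c)
    [∀ (i j : I) (g : i ⟶ j), IsAffineHom (D.map g)]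
    (hfin : ∀ i : I, {s : ↥(D.obj i) | ∀ z : ↥(D.obj i), z ⤳ s → z = s}.Finite)
    (hsys : ∀ (i j : I) (g : i ⟶ j) (s : ↥(D.obj i)), (∀ z : ↥(D.obj i), z ⤳ s → z = s) →
      ∀ z : ↥(D.obj j), z ⤳ D.map g s → z = D.map g s)
    (i₀ : I) [CompactSpace ↥(D.obj i₀)] (V₀ : (D.obj i₀).Opens) :
    (Dense (V₀ : Set ↥(D.obj i₀)) →
        (∀ (i : I) (g : i ⟶ i₀), Dense (((D.map g) ⁻¹ᵁ V₀ : (D.obj i).Opens) : Set ↥(D.obj i))) ∧
          Dense (((c.π.app i₀) ⁻¹ᵁ V₀ : c.pt.Opens) : Set ↥c.pt)) ∧
      (Dense (((c.π.app i₀) ⁻¹ᵁ V₀ : c.pt.Opens) : Set ↥c.pt) →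
        {s : ↥c.pt | ∀ z : ↥c.pt, z ⤳ s → z = s}.Finite →
          ∃ (i : I) (g : i ⟶ i₀), Dense (((D.map g) ⁻¹ᵁ V₀ : (D.obj i).Opens) : Set ↥(D.obj i))) := by
  have hfin' : ∀ i, {s : D.obj i | Groth.L19.Limit.IsMaxPt s}.Finite := hfin
  have hsys' : ∀ (i j : I) (g : i ⟶ j) (s : D.obj i), Groth.L19.Limit.IsMaxPt s →
      Groth.L19.Limit.IsMaxPt (D.map g s) := hsys
  refine ⟨fun h => ⟨fun i g => ?_, ?_⟩, fun h hf => ?_⟩
  · exact Groth.L19.Limit.dense_of_isMaxPt_mem fun m hm =>
      Groth.L19.Limit.isMaxPt_mem_of_dense (hfin' i₀) V₀.2 h (hsys' i i₀ g m hm)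
  · exact Groth.L19.Limit.dense_of_isMaxPt_mem (X := c.pt) fun m hm =>
      Groth.L19.Limit.isMaxPt_mem_of_dense (hfin' i₀) V₀.2 h
        ((Groth.L19.Limit.isMaxPt_iff hc hfin' hsys' m).mp hm i₀)
  · by_contra hcon
    push_neg at hcon
    haveI : ∀ {i j : Over i₀} (f : i ⟶ j), IsAffineHom ((Over.forget i₀ ⋙ D).map f) := fun {i j} f => inferInstanceAs (IsAffineHom (D.map f.left))
    have hc' := (CategoryTheory.Functor.Initial.isLimitWhiskerEquiv (Over.forget i₀) c).symm hc
    obtain ⟨z, hz⟩ := Groth.L19.Limit.exists_section_of_isMaxPt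
      (D := Over.forget i₀ ⋙ D) hc' (fun i => hfin' i.left) (fun i j g => hsys' i.left j.left g.left)
      (fun i => {w | D.map i.hom w ∉ V₀})
      (fun i j g w hw => by
        show D.map j.hom (D.map g.left w) ∉ V₀
        rw [← Scheme.Hom.comp_apply, ← D.map_comp, Over.w g]
        exact hw)
      (fun i => by
        have := mt Groth.L19.Limit.dense_of_isMaxPt_mem (hcon i.left i.hom)
        push_neg at this
        obtain ⟨m, hm, hmV⟩ := this
        exact ⟨m, hmV, hm⟩)
    have hzmax : Groth.L19.Limit.IsMaxPt (X := c.pt) z :=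
      (Groth.L19.Limit.isMaxPt_iff (D := Over.forget i₀ ⋙ D) hc' (fun i => hfin' i.left)
        (fun i j g => hsys' i.left j.left g.left) z).mpr fun i => (hz i).1
    have h1 := Groth.L19.Limit.isMaxPt_mem_of_dense (X := c.pt) hf ((c.π.app i₀ ⁻¹ᵁ V₀).2) h hzmax
    have h2 := (hz (Over.mk (𝟙 i₀))).2
    exact h2 (by
      show D.map (𝟙 i₀) (c.π.app i₀ z) ∈ V₀
      rw [Groth.L19.Limit.map_apply (𝟙 i₀) z]
      exact h1)

end Groth.Agent.S5110
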