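import Groth.Statements.S5113
import Mathlib.AlgebraicGeometry.PullbackCarrier

set_option autoImplicit false
universe u
open SGA1

namespace Groth.Agent.S5113

open AlgebraicGeometry CategoryTheory CategoryTheory.Limits in
/-- Let g : S' ⟶ S be submersive, i.e. surjective and making S a topological quotient of S'. Then the
sequence of sets of open subsets Ouv(S) → Ouv(S') ⇉ Ouv(S' ×_S S') (inverse images along g and along
the two projections) is exact: an open subset U' of S' whose inverse images under the two
projections of S' ×_S S' agree is the inverse image of one and only one open subset of S. -/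
theorem result {S' S : Scheme.{u}} (g : S' ⟶ S)
    (hg : Topology.IsQuotientMap g.base) (U' : S'.Opens)
    (h : (pullback.fst g g) ⁻¹ᵁ U' = (pullback.snd g g) ⁻¹ᵁ U') :
    ∃! U : S.Opens, g ⁻¹ᵁ U = U' := by
  refine ⟨⟨g.base '' (U' : Set S'), ?_⟩, ?_, ?_⟩
  · rw [← hg.isOpen_preimage]
    convert U'.2 using 1
    refine subset_antisymm ?_ (Set.subset_preimage_image _ _)
    rintro a ⟨b, hb, hab⟩
    obtain ⟨z, hz1, hz2⟩ := Scheme.Pullback.exists_preimage_pullback b a hab
    have hz : z ∈ (pullback.snd g g) ⁻¹ᵁ U' := by
      rw [← h]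
      show (pullback.fst g g) z ∈ U'
      rw [hz1]
      exact hb
    rw [← hz2]
    exact hz
  · refine TopologicalSpace.Opens.ext (subset_antisymm ?_ (Set.subset_preimage_image _ _))
    rintro a ⟨b, hb, hab⟩
    obtain ⟨z, hz1, hz2⟩ := Scheme.Pullback.exists_preimage_pullback b a hab
    have hz : z ∈ (pullback.snd g g) ⁻¹ᵁ U' := by
      rw [← h]
      show (pullback.fst g g) z ∈ U'
      rw [hz1]
      exact hb
    rw [← hz2]
    exact hz
  · intro V hV
    subst hV
    exact TopologicalSpace.Opens.ext (Set.image_preimage_eq _ hg.surjective).symm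

end Groth.Agent.S5113
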