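import Groth.Statements.S5115
import Groth.Agent.L27.TopInv.UnivHomeo

set_option autoImplicit false
universe u
open EtBase
set_option backward.isDefEq.respectTransparency.types false

namespace Groth.Agent.S5115

open AlgebraicGeometry CategoryTheory CategoryTheory.Limits in
/-- Let g : S' ⟶ S be faithfully flat (flat and surjective), quasi-compact and radicial (universally
injective). Then base change along g is an equivalence from the category of schemes etale over S to
the category of schemes etale over S'. -/
theorem result {S S' : Scheme.{u}} (g : S' ⟶ S)
    [Flat g] [Surjective g] [QuasiCompact g] [UniversallyInjective g] :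
    (EtCoh.bc g).IsEquivalence := by
  have hg := Groth.L27.TopInv.univSubmersive_of_fpqc g
  refine Groth.L27.TopInv.isEquivalence_bc_of_isUnivHomeo g fun A B i₁ i₂ f' H => ?_
  have hs : Surjective f' := MorphismProperty.of_isPullback (P := @Surjective) H.flip inferInstance
  have hi : UniversallyInjective f' := MorphismProperty.of_isPullback (P := @UniversallyInjective) H.flip inferInstance
  exact isHomeomorph_iff_isQuotientMap_injective.2 ⟨hg i₁ i₂ f' H, f'.injective⟩

end Groth.Agent.S5115
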