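import Groth.Statements.S5122
import Groth.Agent.L27.EtGlue.Fpqc

set_option autoImplicit false
set_option linter.style.haveILetI false
set_option backward.isDefEq.respectTransparency.types false
universe u
open SGA1

namespace Groth.Agent.S5122

open AlgebraicGeometry CategoryTheory CategoryTheory.Limits in
/-- Let g : S' ⟶ S be universally submersive, D a descent datum relative to g (functor-of-points form,
for the one-member family g) whose underlying S'-scheme is etale, separated and of finite type over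
S', and p : S₁ ⟶ S faithfully flat and quasi-compact. Then D is effective in the fibred category of
etale separated finite-type schemes (isomorphic to the canonical datum of some etale, separated,
quasi-compact S-scheme) if and only if the descent datum obtained by base change along p, relative
to S' ×_S S₁ ⟶ S₁, is effective in the same sense over S₁. -/
theorem result {S S' S₁ : Scheme.{u}} (g : S' ⟶ S) (hg : SGA1.UnivSubmersive g)
    (D : Desc.SchDDFam (fun _ : PUnit.{1} => g))
    [Etale (D.obj PUnit.unit).hom] [IsSeparated (D.obj PUnit.unit).hom] [QuasiCompact (D.obj PUnit.unit).hom]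
    (p : S₁ ⟶ S) [Flat p] [Surjective p] [QuasiCompact p] :
    (∃ U : Over S, Etale U.hom ∧ IsSeparated U.hom ∧ QuasiCompact U.hom ∧ Nonempty ((Desc.toDDFam (fun _ : PUnit.{1} => g)).obj U ≅ D)) ↔
      (∃ U : Over S₁, Etale U.hom ∧ IsSeparated U.hom ∧ QuasiCompact U.hom ∧
        Nonempty ((Desc.toDDFam (fun _ : PUnit.{1} => pullback.snd g p)).obj U ≅
          (Desc.pullDDFam (f := fun _ : PUnit.{1} => g) (f' := fun _ : PUnit.{1} => pullback.snd g p)
        (α := id) (p := p) (p' := fun _ => pullback.fst g p) (fun _ => pullback.condition)).obj D)) := by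
  let R : MorphismProperty Scheme.{u} := @Etale ⊓ @IsSeparated ⊓ @QuasiCompact
  constructor
  · rintro ⟨U, h1, h2, h3, hi⟩
    obtain ⟨d, hd⟩ := (Groth.L27.EtGlue.exists_toDD_iff R D).1 ⟨U, ⟨⟨h1, h2⟩, h3⟩, hi⟩
    obtain ⟨d', hd'⟩ := Groth.L27.EtGlue.exists_descent_pull R p D d hd
    obtain ⟨U', ⟨⟨k1, k2⟩, k3⟩, k4⟩ := (Groth.L27.EtGlue.exists_toDD_iff R _).2 ⟨d', hd'⟩
    exact ⟨U', k1, k2, k3, k4⟩
  · rintro ⟨U, h1, h2, h3, hi⟩
    obtain ⟨d, hd⟩ := (Groth.L27.EtGlue.exists_toDD_iff R _).1 ⟨U, ⟨⟨h1, h2⟩, h3⟩, hi⟩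
    obtain ⟨t, ⟨⟨k1, k2⟩, k3⟩, hκ, hc⟩ := (Groth.L27.EtGlue.exists_descent_iff R).1 ⟨d, hd⟩
    haveI := k1; haveI := k2; haveI := k3; haveI := hκ
    obtain ⟨d₀, e1, e2, e3⟩ := Groth.L27.EtGlue.etEffective_of_fpqc t hg hc
    obtain ⟨U', ⟨⟨l1, l2⟩, l3⟩, l4⟩ := (Groth.L27.EtGlue.exists_toDD_iff R D).2 ⟨d₀, ⟨⟨e1, e2⟩, e3⟩⟩
    exact ⟨U', l1, l2, l3, l4⟩

end Groth.Agent.S5122
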