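import Groth.Statements.S5127
import Groth.Agent.L27.EtGlue.Complete

set_option autoImplicit false
set_option linter.style.haveILetI false
set_option backward.isDefEq.respectTransparency.types false
universe u
open SGA1

namespace Groth.Agent.S5127

open AlgebraicGeometry CategoryTheory CategoryTheory.Limits in
/-- Let S be locally Noetherian, g : S' ⟶ S universally submersive and of finite presentation, and D a
descent datum relative to g (functor-of-points form, for the one-member family g) whose underlying
S'-scheme is etale, separated and of finite presentation over S'. Then D is the canonical datum of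
some etale S-scheme if and only if, for every complete Noetherian local ring B with algebraically
closed residue field and every morphism q : Spec B ⟶ S, the descent datum induced over Spec B
(relative to S' ×_S Spec B ⟶ Spec B) is the canonical datum of some etale B-scheme. -/
theorem result {S S' : Scheme.{u}} [IsLocallyNoetherian S]
    (g : S' ⟶ S) (hg : SGA1.UnivSubmersive g) [LocallyOfFinitePresentation g] [QuasiCompact g] [QuasiSeparated g]
    (D : Desc.SchDDFam (fun _ : PUnit.{1} => g)) [Etale (D.obj PUnit.unit).hom]
    [QuasiCompact (D.obj PUnit.unit).hom] [IsSeparated (D.obj PUnit.unit).hom] :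
    (∃ U : Over S, Etale U.hom ∧ Nonempty ((Desc.toDDFam (fun _ : PUnit.{1} => g)).obj U ≅ D)) ↔ ∀ (B : Type u) [CommRing B] [IsNoetherianRing B] [IsLocalRing B]
      [IsAdicComplete (IsLocalRing.maximalIdeal B) B] [IsAlgClosed (IsLocalRing.ResidueField B)]
      (q : Spec (CommRingCat.of B) ⟶ S), (∃ U : Over (Spec (CommRingCat.of B)), Etale U.hom ∧
        Nonempty ((Desc.toDDFam (fun _ : PUnit.{1} => pullback.snd g q)).obj U ≅
          (Desc.pullDDFam (f := fun _ : PUnit.{1} => g) (f' := fun _ : PUnit.{1} => pullback.snd g q)
        (α := id) (p := q) (p' := fun _ => pullback.fst g q) (fun _ => pullback.condition)).obj D)) := by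
  exact ⟨fun h B _ _ _ _ _ q => (Groth.L27.EtGlue.etEffective_iff _).2
      (Groth.L27.EtGlue.etEffective_pull q D ((Groth.L27.EtGlue.etEffective_iff D).1 h)),
    fun h => (Groth.L27.EtGlue.etEffective_iff D).2
      (Groth.L27.EtGlue.etEffective_of_forall_faithfullyFlat hg fun a => by
        obtain ⟨C, _, _, _, _, _, φ, hφ⟩ := Groth.L27.EtGlue.exists_complete_algClosed (S.presheaf.stalk a)
        exact ⟨C, inferInstance, CommRingCat.ofHom φ, hφ,
          Groth.L27.EtGlue.good_iff.1 ((Groth.L27.EtGlue.etEffective_iff _).1
            (h C (Spec.map (CommRingCat.ofHom φ) ≫ S.fromSpecStalk a)))⟩)⟩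

end Groth.Agent.S5127
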