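import Groth.Statements.S5128
import Groth.Agent.L27.TopInv.Sections

set_option autoImplicit false
universe u
open SGA1
set_option backward.isDefEq.respectTransparency.types false

namespace Groth.Agent.S5128

open AlgebraicGeometry CategoryTheory CategoryTheory.Limits in
/-- Let X and Y be S-schemes with Y etale over S. The map f ↦ Γ_f sending an S-morphism f : X ⟶ Y to the
subset of X ×_S Y underlying its graph is a bijection from Hom_S(X, Y) onto the set of open subsets
Γ of X ×_S Y for which the restriction Γ → X of the first projection is radicial (universally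
injective) and surjective. Stated as: the graph of every S-morphism is an open immersion, and every
such open Γ is the image of the graph of exactly one S-morphism. -/
theorem result {S X Y : Scheme.{u}} (p : X ⟶ S)
    (q : Y ⟶ S) [Etale q] :
    (∀ f : {f : X ⟶ Y // f ≫ q = p},
      IsOpenImmersion (pullback.lift (𝟙 X) f.1 ((Category.id_comp p).trans f.2.symm) : X ⟶ pullback p q)) ∧
    ∀ Γ : (pullback p q).Opens, UniversallyInjective (Γ.ι ≫ pullback.fst p q) → Surjective (Γ.ι ≫ pullback.fst p q) →
      ∃! f : {f : X ⟶ Y // f ≫ q = p},
        Set.range (pullback.lift (𝟙 X) f.1 ((Category.id_comp p).trans f.2.symm) : X ⟶ pullback p q).base =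
          (Γ : Set ↥(pullback p q)) := by
  refine ⟨fun f => Groth.L27.TopInv.isOpenImmersion_section (pullback.fst p q) _ (pullback.lift_fst _ _ _),
    fun Γ hi hs => ?_⟩
  obtain ⟨s, ⟨hs1, hs2⟩, huniq⟩ := Groth.L27.TopInv.existsUnique_section (pullback.fst p q) Γ
  refine ⟨⟨s ≫ pullback.snd p q, ?_⟩, ?_, ?_⟩
  · rw [Category.assoc, ← pullback.condition, ← Category.assoc, hs1, Category.id_comp]
  · have e : pullback.lift (𝟙 X) (s ≫ pullback.snd p q) (by
        rw [Category.assoc, ← pullback.condition, ← Category.assoc, hs1]) = s := by
      apply pullback.hom_ext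
      · rw [pullback.lift_fst, hs1]
      · rw [pullback.lift_snd]
    exact (congrArg (fun m : X ⟶ pullback p q => Set.range m.base) e).trans hs2
  · rintro ⟨f, hf⟩ h
    refine Subtype.ext ?_
    change f = s ≫ pullback.snd p q
    rw [← huniq _ ⟨pullback.lift_fst (𝟙 X) f (by rw [hf, Category.id_comp]), h⟩, pullback.lift_snd]

end Groth.Agent.S5128
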