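import Groth.Statements.S5133
import Mathlib.AlgebraicGeometry.Morphisms.Flat
import Mathlib.AlgebraicGeometry.PullbackCarrier
import Groth.Agent.L18.KerReduced
import Groth.Agent.L19.Closure
-- import your own Groth.Agent.* helpers here

set_option autoImplicit false
open CategoryTheory CategoryTheory.Limits AlgebraicGeometry
universe u
open SGA1

namespace Groth.Agent.S5133

/-- For a quasi-compact morphism f : X ⟶ Y and a flat surjective base change g : Y' ⟶ Y, with no
quasi-compactness asked of g, if the base change of f along g is a homeomorphism onto its image then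
f is a homeomorphism onto its image. -/
theorem result {X Y Y' : Scheme.{u}} (f : X ⟶ Y)
    (g : Y' ⟶ Y) [QuasiCompact f] [Flat g] [Surjective g]
    (h : Topology.IsEmbedding (pullback.snd f g).base) : Topology.IsEmbedding f.base := by
  have hsurj := g.surjective
  have hgen : GeneralizingMap g.base := Flat.generalizingMap g
  have hinj : Function.Injective f.base := by
    intro a b hab
    obtain ⟨y, hy⟩ := hsurj (f a)
    obtain ⟨za, hza1, hza2⟩ := Scheme.Pullback.exists_preimage_pullback (f := f) (g := g) a y hy.symm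
    obtain ⟨zb, hzb1, hzb2⟩ := Scheme.Pullback.exists_preimage_pullback (f := f) (g := g) b y (hab.symm.trans hy.symm)
    have := h.injective (hza2.trans hzb2.symm)
    rw [← hza1, ← hzb1, this]
  refine ⟨⟨le_antisymm (f.base.hom.continuous.le_induced) ?_⟩, hinj⟩
  intro U hU
  rw [isOpen_induced_iff]
  let I := Scheme.IdealSheafData.vanishingIdeal (X := X) ⟨Uᶜ, hU.isClosed_compl⟩
  have hI : Set.range I.subschemeι = Uᶜ := by
    rw [Scheme.IdealSheafData.range_subschemeι]
    exact Groth.L18.support_vanishingIdeal _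
  refine ⟨(closure (f.base '' Uᶜ))ᶜ, isClosed_closure.isOpen_compl, ?_⟩
  ext x
  simp only [Set.mem_preimage, Set.mem_compl_iff]
  refine ⟨fun hx => not_not.1 fun hxU => hx (subset_closure ⟨x, hxU, rfl⟩), fun hxU hx => ?_⟩
  have hcl : f.base x ∈ closure (Set.range (I.subschemeι ≫ f)) := by
    rw [show Set.range (I.subschemeι ≫ f) = f.base '' Uᶜ by
      rw [← hI, ← Set.range_comp]; rfl]
    exact hx
  obtain ⟨c, hc⟩ := Groth.L19.exists_specializes_of_mem_closure_range (I.subschemeι ≫ f) hcl
  obtain ⟨y, hy⟩ := hsurj (f x)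
  obtain ⟨w, hw, hgw⟩ := hgen (show f (I.subschemeι c) ⤳ g.base y by
    rw [hy]; rwa [Scheme.Hom.comp_apply] at hc)
  obtain ⟨zc, hzc1, hzc2⟩ := Scheme.Pullback.exists_preimage_pullback (f := f) (g := g) (I.subschemeι c) w hgw.symm
  obtain ⟨zx, hzx1, hzx2⟩ := Scheme.Pullback.exists_preimage_pullback (f := f) (g := g) x y hy.symm
  have hz : zc ⤳ zx := h.isInducing.specializes_iff.1 (by rw [hzc2, hzx2]; exact hw)
  have hcx : I.subschemeι c ⤳ x := by
    have := hz.map (Limits.pullback.fst f g).continuous
    rwa [hzc1, hzx1] at this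
  have : x ∈ Uᶜ := hcx.mem_closed hU.isClosed_compl (hI ▸ ⟨c, rfl⟩)
  exact this hxU

end Groth.Agent.S5133
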