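import Groth.Statements.S5134
import Groth.Agent.L19.LocFreeDescent
import Groth.Agent.L05.Prufer.Sheaf
import Groth.Agent.L06.RelFPModules
import Groth.Agent.L16.AffineBC.Pullback
set_option linter.style.haveILetI false
set_option backward.isDefEq.respectTransparency false
set_option backward.isDefEq.respectTransparency.types false
open scoped TensorProduct


set_option autoImplicit false
open CategoryTheory AlgebraicGeometry
universe u
open SGA1

namespace Groth.Agent.S5134

theorem fp_of_jointlySurjective {R : Type u} [CommRing R] {ι : Type u} [Finite ι] (B : ι → Type u)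
    [∀ i, CommRing (B i)] [∀ i, Algebra R (B i)] [∀ i, Module.Flat R (B i)]
    (hsurj : ∀ p : PrimeSpectrum R, ∃ i q, PrimeSpectrum.comap (algebraMap R (B i)) q = p)
    (N : Type u) [AddCommGroup N] [Module R N] [∀ i, Module.FinitePresentation (B i) (B i ⊗[R] N)] :
    Module.FinitePresentation R N := by
  haveI : ∀ i, Module.Finite (B i) (B i ⊗[R] N) := fun i => inferInstance
  haveI := Groth.L19.PullChart.finite_of_jointlySurjective B hsurj N
  obtain ⟨n, π, hπ⟩ := Module.Finite.exists_fin' R N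
  refine Module.finitePresentation_of_surjective π hπ ?_
  haveI : ∀ i, Module.Finite (B i) (B i ⊗[R] LinearMap.ker π) := fun i => by
    let lk : B i ⊗[R] LinearMap.ker π →ₗ[B i] B i ⊗[R] (Fin n → R) :=
      TensorProduct.AlgebraTensorModule.lTensor (B i) (B i) (LinearMap.ker π).subtype
    let lp : B i ⊗[R] (Fin n → R) →ₗ[B i] B i ⊗[R] N :=
      TensorProduct.AlgebraTensorModule.lTensor (B i) (B i) π
    have hk : (LinearMap.ker lp).FG :=
      Module.FinitePresentation.fg_ker lp (LinearMap.lTensor_surjective _ hπ)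
    have hex : Function.Exact lk lp :=
      lTensor_exact (B i) (LinearMap.exact_subtype_ker_map π) hπ
    have hinj : Function.Injective lk :=
      Module.Flat.lTensor_preserves_injective_linearMap _ Subtype.val_injective
    rw [hex.linearMap_ker_eq] at hk
    haveI : Module.Finite (B i) (LinearMap.range lk) := Module.Finite.iff_fg.mpr hk
    exact Module.Finite.equiv (LinearEquiv.ofInjective lk hinj).symm
  exact Module.Finite.iff_fg.mp (Groth.L19.PullChart.finite_of_jointlySurjective B hsurj (LinearMap.ker π))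

/-- For g : S' ⟶ S flat, surjective and quasi-compact and F a quasi-coherent module on S, if the
pullback of F to S' is of finite presentation then F is of finite presentation. -/
theorem result {S S' : Scheme.{u}} (g : S' ⟶ S) [Flat g] [Surjective g] [QuasiCompact g]
    (F : S.Modules) (hF : Coh.IsQCoh F)
    (h : CohB1.IsFP ((Scheme.Modules.pullback g).obj F)) : CohB1.IsFP F := by
  haveI : Coh.IsQCoh F := hF
  refine Groth.L05.Prufer.isFP_of_sections F fun x => ?_
  obtain ⟨U, hU, hxU, -⟩ := exists_isAffineOpen_mem_and_subset (X := S) (x := x) (U := (⊤ : S.Opens)) trivial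
  refine ⟨U, hU, hxU, ?_⟩
  have hW : ∀ x' : (g ⁻¹ᵁ U : S'.Opens), ∃ W : S'.Opens, IsAffineOpen W ∧ x'.1 ∈ W ∧ W ≤ g ⁻¹ᵁ U := by
    intro x'
    obtain ⟨W, hW, hxW, hWU⟩ := exists_isAffineOpen_mem_and_subset (X := S') (x := x'.1)
      (U := g ⁻¹ᵁ U) x'.2
    exact ⟨W, hW, hxW, hWU⟩
  choose W hWa hxW hWU using hW
  obtain ⟨s, hs⟩ := (g.isCompact_preimage hU.isCompact).elim_finite_subcover
    (fun x' => (W x' : Set S')) (fun x' => (W x').2)
    (fun z hz => Set.mem_iUnion.mpr ⟨⟨z, hz⟩, hxW _⟩)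
  letI : ∀ t : { x' // x' ∈ s }, Algebra Γ(S, U) Γ(S', W t.1) := fun t =>
    (g.appLE U (W t.1) (hWU t.1)).hom.toAlgebra
  haveI : ∀ t : { x' // x' ∈ s }, Module.Flat Γ(S, U) Γ(S', W t.1) := fun t =>
    HasRingHomProperty.appLE (P := @Flat) g ‹Flat g› ⟨U, hU⟩ ⟨W t.1, hWa t.1⟩ (hWU t.1)
  haveI : ∀ t : { x' // x' ∈ s },
      Module.FinitePresentation Γ(S', W t.1) (Γ(S', W t.1) ⊗[Γ(S, U)] Γ(F, U)) := fun t => by
    obtain ⟨e⟩ := Groth.L06.RelFPModules.sections_pullback g F (hWa t.1) hU (hWU t.1)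
    haveI := Groth.L20.ModStalk.finitePresentation_sections _ h (hWa t.1)
    exact Module.FinitePresentation.of_equiv e.symm
  exact fp_of_jointlySurjective (ι := { x' // x' ∈ s }) (fun t => Γ(S', W t.1)) (fun p => by
    obtain ⟨x', hx'⟩ := g.surjective (hU.fromSpec p)
    have hx'U : x' ∈ (g ⁻¹ᵁ U : Set S') := by
      show g x' ∈ U
      rw [hx']; exact hU.range_fromSpec.le ⟨p, rfl⟩
    obtain ⟨t, ht, hxt⟩ := Set.mem_iUnion₂.mp (hs hx'U)
    refine ⟨⟨t, ht⟩, (hWa t).primeIdealOf ⟨x', hxt⟩, hU.fromSpec.isOpenEmbedding.injective ?_⟩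
    have h1 := congr($(hU.SpecMap_appLE_fromSpec g (hWa t) (hWU t)) ((hWa t).primeIdealOf ⟨x', hxt⟩))
    rw [Scheme.Hom.comp_apply, Scheme.Hom.comp_apply] at h1
    erw [(hWa t).fromSpec_primeIdealOf] at h1
    exact h1.trans hx') Γ(F, U)


end Groth.Agent.S5134
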