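import Groth.Statements.S5138
import Groth.Agent.L23.FppfSmooth
import Mathlib.AlgebraicGeometry.Morphisms.UniversallyOpen

set_option autoImplicit false
open CategoryTheory AlgebraicGeometry
universe u
open SGA1

set_option backward.isDefEq.respectTransparency.types false
set_option linter.style.haveILetI false

namespace Groth.Agent.S5138

/-- For X ⟶ X' ⟶ Y locally of finite type over a locally Noetherian Y and a point x of X, if X ⟶ X' and
the composite X ⟶ Y are both etale near x then X' ⟶ Y is etale near the image of x; 'etale near a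
point' is membership in the etale locus, the union of the opens on which the morphism is etale. (The
published statement takes the morphisms of finite type; quasi-compactness plays no role in this
assertion about single points, so only local finiteness is assumed.) -/
theorem result {X X' Y : Scheme.{u}} (f : X ⟶ X') (g : X' ⟶ Y)
    [IsLocallyNoetherian Y] [LocallyOfFiniteType f] [LocallyOfFiniteType g] (x : X)
    (hf : x ∈ Pi1X.etaleLocus f) (hfg : x ∈ Pi1X.etaleLocus (f ≫ g)) : f.base x ∈ Pi1X.etaleLocus g := by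
  obtain ⟨U₁, hU₁, hx₁⟩ := TopologicalSpace.Opens.mem_sSup.1 hf
  obtain ⟨U₂, hU₂, hx₂⟩ := TopologicalSpace.Opens.mem_sSup.1 hfg
  let W : X.Opens := U₁ ⊓ U₂
  haveI : Etale (W.ι ≫ f) := by
    haveI : Etale ((show X.Opens from U₁).ι ≫ f) := hU₁
    rw [← X.homOfLE_ι (inf_le_left : W ≤ U₁), Category.assoc]
    infer_instance
  haveI : Etale ((W.ι ≫ f) ≫ g) := by
    haveI : Etale ((show X.Opens from U₂).ι ≫ f ≫ g) := hU₂
    rw [Category.assoc, ← X.homOfLE_ι (inf_le_right : W ≤ U₂), Category.assoc]
    infer_instance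
  let V : X'.Opens := ⟨Set.range (W.ι ≫ f), (W.ι ≫ f).isOpenMap.isOpen_range⟩
  let χ : (W : Scheme.{u}) ⟶ V := IsOpenImmersion.lift V.ι (W.ι ≫ f) (by rw [Scheme.Opens.range_ι]; exact subset_rfl)
  have hχ : χ ≫ V.ι = W.ι ≫ f := IsOpenImmersion.lift_fac _ _ _
  haveI : Etale (χ ≫ V.ι) := by rw [hχ]; infer_instance
  haveI : Etale χ := Etale.of_comp χ V.ι
  haveI : Surjective χ := ⟨fun ⟨v, w, hw⟩ => ⟨w, Subtype.ext (by
    refine Eq.trans ?_ hw
    exact congrArg (fun m : (W : Scheme.{u}) ⟶ X' => m w) hχ)⟩⟩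
  have hV : Etale (V.ι ≫ g) := Groth.L23.FppfSmooth.etale_of_fppf_comp χ _ (by
    rw [← Category.assoc, hχ]; infer_instance)
  exact TopologicalSpace.Opens.mem_sSup.2 ⟨V, hV, ⟨⟨x, hx₁, hx₂⟩, rfl⟩⟩

end Groth.Agent.S5138
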