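import Groth.Statements.S5142
import Groth.Agent.L09.FibFp

set_option autoImplicit false
open CategoryTheory
universe u v u₂ v₂
open FibCat

namespace Groth.Agent.S5142

/-- A morphism of the fibre product 𝒳 ×_C 𝒴 of two categories over C is cartesian if and only if its two
components are cartesian (each over its image in C). The fibre product is taken as the 2-fibre
product over C of the two structure functors, whose objects are pairs over one object of C together
with an isomorphism of C lying over an identity. -/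
theorem result {C : Type u} [Category.{v} C] {𝒳 𝒴 : BasedCategory.{v₂, u₂} C}
    {x y : (FibCat.fp (FibCat.toSelf 𝒳) (FibCat.toSelf 𝒴)).obj} (φ : x ⟶ y) :
    (FibCat.fp (FibCat.toSelf 𝒳) (FibCat.toSelf 𝒴)).p.IsCartesian
        ((FibCat.fp (FibCat.toSelf 𝒳) (FibCat.toSelf 𝒴)).p.map φ) φ ↔
      𝒳.p.IsCartesian (𝒳.p.map φ.hom.fst) φ.hom.fst ∧ 𝒴.p.IsCartesian (𝒴.p.map φ.hom.snd) φ.hom.snd := by
  constructor
  · intro h
    obtain ⟨h1, h2⟩ := Groth.L09.Fib.fp_toSelf_fst_cartesian _ φ h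
    exact ⟨(Groth.L09.Fib.cartesian_map_iff_of_lift 𝒳.p _ _).1 h1, (Groth.L09.Fib.cartesian_map_iff_of_lift 𝒴.p _ _).1 h2⟩
  · rintro ⟨h1, h2⟩
    have hl := Groth.L09.Fib.fp_snd_lift _ φ
      (CategoryTheory.IsHomLift.map (FibCat.fp (FibCat.toSelf 𝒳) (FibCat.toSelf 𝒴)).p φ)
    have := Groth.L09.Fib.selfOver_stronglyCartesian (C := C) ((FibCat.fp (FibCat.toSelf 𝒳) (FibCat.toSelf 𝒴)).p.map φ) ((FibCat.toSelf 𝒴).map φ.hom.snd)
    exact Groth.L09.Fib.fp_cartesian _ φ h1 ((Groth.L09.Fib.cartesian_map_iff_of_lift 𝒴.p _ _).2 h2) inferInstance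

end Groth.Agent.S5142
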