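import Groth.Statements.S5144
import Groth.Agent.L09.FibInertia
import Groth.Agent.L09.FibOp
import Mathlib.CategoryTheory.Limits.Shapes.Pullback.IsPullback.Basic
import Mathlib.CategoryTheory.Groupoid

set_option autoImplicit false
open CategoryTheory
universe u v u₂ v₂
open FibCat

namespace Groth.Agent.S5144
open CategoryTheory Category Limits Functor
open Groth.L09.Fib

/-- If p : 𝒳 ⥤ C is both prefibred and co-prefibred (its opposite functor is prefibred), then p is
fibred if and only if it is co-fibred (its opposite functor is fibred). Prefibred and fibred are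
Mathlib's notions, which are the source's. -/
theorem result {C : Type u} [Category.{v} C] {𝒳 : Type u₂} [Category.{v₂} 𝒳]
    (p : 𝒳 ⥤ C) [p.IsPreFibered] [p.op.IsPreFibered] : p.IsFibered ↔ p.op.IsFibered := by
  constructor
  · intro _
    refine IsFibered.of_exists_isStronglyCartesian fun a R f => ?_
    let π := IsPreFibered.pullbackMap (p := p.op) (rfl : p.op.obj a = _) f
    refine ⟨_, π, ⟨fun {z} g ψ hψ => ?_⟩⟩
    -- translate to `p`
    let κ := π.unop
    have hκ : p.IsHomLift f.unop κ := (isHomLift_op_iff p _ _).1 (inferInstanceAs (p.op.IsHomLift f π))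
    have hψ' : p.IsHomLift (f.unop ≫ g.unop) ψ.unop := (isHomLift_op_iff p _ _).1 hψ
    let ρ := IsPreFibered.pullbackMap (p := p) (rfl : p.obj z.unop = _) g.unop
    have hρ : p.IsHomLift g.unop ρ := inferInstance
    let χ := IsStronglyCartesian.map p g.unop ρ (f' := f.unop ≫ g.unop) rfl ψ.unop
    have hχ : p.op.IsHomLift f χ.op := (isHomLift_op_iff p f.unop χ).2 inferInstance
    let c := IsCartesian.map p.op f π χ.op
    have hc : p.IsHomLift (𝟙 R.unop) c.unop :=
      (isHomLift_op_iff p _ _).1 (IsCartesian.map_isHomLift p.op f π χ.op)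
    refine ⟨ρ.op ≫ c, ⟨(isHomLift_op_iff p g.unop (c.unop ≫ ρ)).2 inferInstance, ?_⟩, ?_⟩
    · rw [assoc, IsCartesian.fac]
      exact Quiver.Hom.unop_inj (IsStronglyCartesian.fac p g.unop ρ (f' := f.unop ≫ g.unop) rfl ψ.unop)
    · rintro χ' ⟨h1, h2⟩
      have h1' : p.IsHomLift g.unop χ'.unop := (isHomLift_op_iff p _ _).1 h1
      let c' := IsCartesian.map p g.unop ρ χ'.unop
      have e : κ ≫ c' = χ := IsStronglyCartesian.map_uniq p g.unop ρ (f' := f.unop ≫ g.unop) rfl ψ.unop (κ ≫ c') (by
        rw [assoc, IsCartesian.fac]; exact congrArg Quiver.Hom.unop h2)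
      have hc'' : p.op.IsHomLift (𝟙 R) c'.op :=
        (isHomLift_op_iff p (𝟙 R.unop) c').2 (IsCartesian.map_isHomLift p g.unop ρ χ'.unop)
      have e' : c'.op = c := IsCartesian.map_uniq p.op f π χ.op c'.op (by rw [← e]; rfl)
      rw [← e']
      exact Quiver.Hom.unop_inj (IsCartesian.fac p g.unop ρ χ'.unop).symm
  · intro _
    refine IsFibered.of_exists_isStronglyCartesian fun b R f => ?_
    let π := IsPreFibered.pullbackMap (p := p) (rfl : p.obj b = _) f
    refine ⟨_, π, ⟨fun {z} g ψ hψ => ?_⟩⟩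
    let k := IsPreFibered.pullbackMap (p := p.op) (rfl : p.op.obj (Opposite.op z) = _) g.op
    have hψ' : p.op.IsHomLift (f.op ≫ g.op) ψ.op := (isHomLift_op_iff p (g ≫ f) ψ).2 hψ
    let m := IsStronglyCartesian.map p.op g.op k (f' := f.op ≫ g.op) rfl ψ.op
    have hm : p.IsHomLift f m.unop := (isHomLift_op_iff p _ _).1 (inferInstanceAs (p.op.IsHomLift f.op m))
    let c := IsCartesian.map p f π m.unop
    have hk : p.IsHomLift g k.unop := (isHomLift_op_iff p _ _).1 (inferInstanceAs (p.op.IsHomLift g.op k))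
    refine ⟨k.unop ≫ c, ⟨inferInstance, ?_⟩, ?_⟩
    · rw [assoc, IsCartesian.fac]
      exact Quiver.Hom.op_inj (IsStronglyCartesian.fac p.op g.op k (f' := f.op ≫ g.op) rfl ψ.op)
    · rintro χ' ⟨h1, h2⟩
      have : p.op.IsHomLift g.op χ'.op := (isHomLift_op_iff p _ _).2 h1
      let c' := IsCartesian.map p.op g.op k χ'.op
      have hc' : p.IsHomLift (𝟙 R) c'.unop :=
        (isHomLift_op_iff p _ _).1 (IsCartesian.map_isHomLift p.op g.op k χ'.op)
      have hc2 : p.op.IsHomLift f.op (π.op ≫ c') := (isHomLift_op_iff p f (c'.unop ≫ π)).2 inferInstance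
      have e : π.op ≫ c' = m := IsStronglyCartesian.map_uniq p.op g.op k (f' := f.op ≫ g.op) rfl ψ.op (π.op ≫ c') (by
        rw [assoc, IsCartesian.fac, ← h2]; rfl)
      have e' : c'.unop = c := IsCartesian.map_uniq p f π m.unop c'.unop (by rw [← e]; rfl)
      rw [← e']
      exact Quiver.Hom.op_inj (IsCartesian.fac p.op g.op k χ'.op).symm

end Groth.Agent.S5144
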