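import Groth.Statements.S5153
import Groth.Agent.L04.SupportSh.Components
import Groth.Agent.S6039
import Groth.Agent.L16.CohClosedPush
import Groth.Agent.L22.WeakAssPoints
import Groth.Agent.L04.Depth

set_option autoImplicit false
universe u
open AlgebraicGeometry
open LocCoh

namespace Groth.Agent.S5153

/-- Let X be a locally Noetherian scheme and Y = X − U a closed subset such that depth O_{X,x} ≥ 2 for
every x ∈ Y. Then the inclusion U → X induces a bijection on sets of connected components. -/
theorem result (X : Scheme.{u}) [IsLocallyNoetherian X] (U : X.Opens) (h : ∀ x : X, x ∉ (U : Set X) → (2 : ℕ∞) ≤ LocCoh.depth (X.presheaf.stalk x) (X.presheaf.stalk x)) : Function.Bijective (Continuous.connectedComponentsMap (continuous_subtype_val : Continuous (fun x : U => (x : X)))) := by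
  have hd := (Groth.Agent.S6039.result X U (Coh.structureModule X) Groth.L16.CohClosedPush.isCoh_structure).1
    fun x hx => by
      have e : X.presheaf.stalk x ≃ₗ[X.presheaf.stalk x] (Coh.structureModule X).presheaf.stalk x :=
        LinearEquiv.ofBijective (LinearMap.toSpanSingleton (X.presheaf.stalk x) _ (Groth.L22.oneGerm x))
          ⟨(injective_iff_map_eq_zero _).2 fun a ha => Groth.L22.eq_zero_of_smul_oneGerm ha,
            Groth.L22.stalk_smul_oneGerm_surjective x⟩
      exact le_of_le_of_eq (h x hx) (Groth.L04.idealDepth_congr e)
  exact Groth.L04.SupportSh.connectedComponentsMap_bijective U hd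

end Groth.Agent.S5153
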