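import Groth.Statements.S5156
import Groth.Agent.L04.MatlisCoind

set_option autoImplicit false
universe u
open Matlis

namespace Groth.Agent.S5156

/-- Let A and B be Noetherian local rings with B a finite A-algebra, and E an injective hull of the
residue field of A (a dualizing module for A). Then Hom_A(B, E), as a B-module through the action on
the source, is an injective hull of the residue field of B (a dualizing module for B). -/
theorem result (A B : Type u) [CommRing A] [IsLocalRing A] [IsNoetherianRing A] [CommRing B] [IsLocalRing B] [IsNoetherianRing B] [Algebra A B] [Module.Finite A B] (E : Type u) [AddCommGroup E] [Module A E] (f : IsLocalRing.ResidueField A →ₗ[A] E) (hf : InjHull.IsInjectiveHull f) : ∃ g : IsLocalRing.ResidueField B →ₗ[B] (ModuleCat.coextendScalars (algebraMap A B)).obj (ModuleCat.of A E), InjHull.IsInjectiveHull g := by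
  have hev := Groth.L04.coextendEval_bijective (A := A) (B := B) (E := E)
  obtain ⟨g, hg⟩ := Groth.L04.exists_isInjectiveHull_powTorsion hev hf (IsLocalRing.maximalIdeal B)
  have htop : Groth.L04.powTorsion (IsLocalRing.maximalIdeal B)
      ((ModuleCat.coextendScalars (algebraMap A B)).obj (ModuleCat.of A E)) = ⊤ := by
    rw [eq_top_iff]
    intro h _
    obtain ⟨N, hN⟩ := Groth.L04.exists_coind_killed hev hf h
    obtain ⟨K, hK⟩ := Groth.L04.exists_iInf_pow_le (A := A) (B := B) N
    refine Groth.L04.mem_powTorsion.2 ⟨K, fun c hc => hN c (hK ?_)⟩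
    rw [Submodule.mem_iInf]
    intro n
    rw [IsLocalRing.eq_maximalIdeal n.isMaximal]
    exact hc
  exact ⟨_, Groth.L04.isInjectiveHull_equiv_comp hg (LinearEquiv.ofTop _ htop)⟩

end Groth.Agent.S5156
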