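import Groth.Statements.S5161
import Groth.Agent.L22.LocalDim

set_option autoImplicit false
universe u
open AlgebraicGeometry
open LocCoh

namespace Groth.Agent.S5161

/-- Let A be a Noetherian ring, X = Spec A and Y ⊆ X a closed subset whose complement U is an affine
open. Then every irreducible component of Y has codimension ≤ 1 in X, i.e. the generic point of each
irreducible component of Y is a prime of height at most 1. -/
theorem result (A : Type u) [CommRing A] [IsNoetherianRing A] (U : (Spec (CommRingCat.of A)).Opens) (hU : IsAffineOpen U) (p : PrimeSpectrum A) (hpU : (p : (Spec (CommRingCat.of A) : Type u)) ∉ (U : Set (Spec (CommRingCat.of A) : Type u))) (hmin : ∀ q : PrimeSpectrum A, q.asIdeal ≤ p.asIdeal → (q : (Spec (CommRingCat.of A) : Type u)) ∉ (U : Set (Spec (CommRingCat.of A) : Type u)) → q = p) : p.asIdeal.height ≤ 1 := by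

    haveI : IsNoetherianRing (CommRingCat.of A) := inferInstanceAs (IsNoetherianRing A)
    haveI : IsAffine (U : Scheme.{u}) := hU
    haveI : IsAffineHom U.ι := inferInstance
    have h := Groth.L22.LocalDim.dim_le_one_of_isAffineHom (X := Spec (CommRingCat.of A)) U (ξ := p) hpU
      (fun y hy hyp => hmin y ((PrimeSpectrum.le_iff_specializes y p).2 hyp) hy)
    have h2 : ringKrullDim ((Spec (CommRingCat.of A)).presheaf.stalk p) = p.asIdeal.height := by
      exact (ringKrullDim_eq_of_ringEquiv (AlgebraicGeometry.StructureSheaf.stalkIso A p).toRingEquiv.symm).trans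
        (IsLocalization.AtPrime.ringKrullDim_eq_height p.asIdeal (Localization.AtPrime p.asIdeal))
    rw [h2] at h
    exact_mod_cast h

end Groth.Agent.S5161
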