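import Groth.Statements.S5166
import Mathlib.RingTheory.Ideal.KrullsHeightTheorem
import Mathlib.RingTheory.Ideal.Height
import Mathlib.RingTheory.LocalRing.Quotient

set_option autoImplicit false
universe u
open LocCoh

namespace Groth.Agent.S5166

/-- In its local form at a point y ∈ Y (A = O_{X,y}). Let A be a Noetherian local ring and I ≠ A an
ideal contained in no minimal prime of A. Then some prime p ⊉ I has dim A/p = 1. -/
theorem result (A : Type u) [CommRing A] [IsLocalRing A] [IsNoetherianRing A] (I : Ideal A) (hI : I ≠ ⊤) (hdense : ∀ q ∈ minimalPrimes A, ¬ I ≤ q) : ∃ p : PrimeSpectrum A, ¬ I ≤ p.asIdeal ∧ ringKrullDim (A ⧸ p.asIdeal) = 1 := by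
  obtain ⟨q, hq⟩ : ∃ q : Ideal A, q ∈ minimalPrimes A := by
    obtain ⟨q, hq, -⟩ := Ideal.exists_minimalPrimes_le (bot_le : (⊥ : Ideal A) ≤ IsLocalRing.maximalIdeal A)
    exact ⟨q, hq⟩
  obtain ⟨p, ⟨hp, hIp⟩, hmax⟩ := set_has_maximal_iff_noetherian.mpr inferInstance {p : Ideal A | p.IsPrime ∧ ¬ I ≤ p}
    ⟨q, hq.1.1, hdense q hq⟩
  refine ⟨⟨p, hp⟩, hIp, ?_⟩
  obtain ⟨x, hxI, hxp⟩ := Set.not_subset.mp hIp
  have : IsLocalRing (A ⧸ p) := .of_surjective' (Ideal.Quotient.mk p) Ideal.Quotient.mk_surjective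
  set xb := Ideal.Quotient.mk p x
  have hxb : xb ≠ 0 := fun h => hxp (Ideal.Quotient.eq_zero_iff_mem.mp h)
  have hx : ∀ Q : Ideal (A ⧸ p), Q.IsPrime → Q ≠ ⊥ → xb ∈ Q := by
    intro Q hQ hQ0
    have hle : p ≤ Q.comap (Ideal.Quotient.mk p) := fun a ha => by
      rw [Ideal.mem_comap, Ideal.Quotient.eq_zero_iff_mem.mpr ha]; exact Q.zero_mem
    have hne : p ≠ Q.comap (Ideal.Quotient.mk p) := fun h => hQ0 <| (eq_bot_iff).mpr fun b hb => by
      obtain ⟨b, rfl⟩ := Ideal.Quotient.mk_surjective b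
      exact Ideal.Quotient.eq_zero_iff_mem.mpr (h.ge hb)
    by_contra hx
    exact hmax _ ⟨Ideal.IsPrime.comap _, fun hI' => hx (hI' hxI)⟩ (lt_of_le_of_ne hle hne)
  have hxm : xb ∈ IsLocalRing.maximalIdeal (A ⧸ p) := by
    intro hu
    have := IsLocalRing.le_maximalIdeal hI hxI
    obtain ⟨v, hv⟩ := hu.exists_right_inv
    obtain ⟨v, rfl⟩ := Ideal.Quotient.mk_surjective v
    rw [← map_mul, ← map_one (Ideal.Quotient.mk p), Ideal.Quotient.eq] at hv
    exact (IsLocalRing.maximalIdeal A).one_notMem <| by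
      have h1 := (IsLocalRing.maximalIdeal A).sub_mem (Ideal.mul_mem_right v _ this) (IsLocalRing.le_maximalIdeal hp.ne_top hv)
      simpa using h1
  have hm0 : IsLocalRing.maximalIdeal (A ⧸ p) ≠ ⊥ := fun h => hxb (by simpa [h] using hxm)
  have h1 : (IsLocalRing.maximalIdeal (A ⧸ p)).height ≠ 0 := fun h => hm0 (Ideal.height_eq_zero_iff_eq_bot.mp h)
  have h2 : (IsLocalRing.maximalIdeal (A ⧸ p)).height ≤ 1 := by
    set S := (Ideal.span {xb}).minimalPrimes with hS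
    by_cases hc : ∃ P ∈ S, IsLocalRing.maximalIdeal (A ⧸ p) ≤ P
    · obtain ⟨P, hP, hle⟩ := hc
      exact (Ideal.height_mono hle).trans (Ideal.height_le_one_of_isPrincipal_of_mem_minimalPrimes _ _ hP)
    exfalso
    have hfin : S.Finite := Ideal.finite_minimalPrimes_of_isNoetherianRing _ _
    have hns : ¬ ((IsLocalRing.maximalIdeal (A ⧸ p) : Set (A ⧸ p)) ⊆ ⋃ P ∈ S, (P : Set (A ⧸ p))) := by
      rw [Ideal.subset_union_prime_finite hfin ⊥ ⊥ (fun P hP _ _ => hP.1.1)]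
      exact hc
    obtain ⟨y, hym, hy⟩ := Set.not_subset.mp hns
    simp only [Set.mem_iUnion, not_exists] at hy
    obtain ⟨P₀, hP₀, -⟩ := Ideal.exists_minimalPrimes_le ((Ideal.span_singleton_le_iff_mem _).mpr hxm)
    have hy0 : y ≠ 0 := fun h => hy P₀ hP₀ (h ▸ P₀.zero_mem)
    obtain ⟨Q, hQ, -⟩ := Ideal.exists_minimalPrimes_le ((Ideal.span_singleton_le_iff_mem _).mpr hym)
    have hQp : Q.IsPrime := hQ.1.1
    have hyQ : y ∈ Q := (Ideal.span_singleton_le_iff_mem _).mp hQ.1.2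
    have hQ1 := Ideal.height_le_one_of_isPrincipal_of_mem_minimalPrimes _ _ hQ
    obtain ⟨P, hP, hPQ⟩ := Ideal.exists_minimalPrimes_le ((Ideal.span_singleton_le_iff_mem _).mpr
      (hx Q hQp fun h => hy0 (by simpa [h] using hyQ)))
    have hPp : P.IsPrime := hP.1.1
    rcases hPQ.lt_or_eq with hlt | heq
    · have h0 := (Ideal.height_strict_mono_of_isPrime_of_isPrime hlt).trans_le hQ1
      rw [Order.lt_one_iff, Ideal.height_eq_zero_iff_eq_bot] at h0
      exact hxb (by simpa [h0] using (Ideal.span_singleton_le_iff_mem _).mp hP.1.2)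
    · exact hy P hP (heq ▸ hyQ)
  rw [← IsLocalRing.maximalIdeal_height_eq_ringKrullDim,
    le_antisymm h2 (Order.one_le_iff_ne_zero.mpr h1)]
  rfl

end Groth.Agent.S5166
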