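import Groth.Statements.S5174
import Groth.Agent.L04.LC.ExtHom

set_option autoImplicit false
universe u
open CategoryTheory Opposite
open LocCoh

namespace Groth.Agent.S5174

/-- Affine case with Z = X. Let A be a Noetherian ring, J an ideal, G any A-module and n ≥ 0 with
Ext^{n−1}_A(F', G) = 0 for all finite F' supported in V(J). Then for every finite A-module F with
Supp F ⊆ V(J) there is an A-linear isomorphism Ext^n_A(F, G) ≅ Hom_A(F, H^n_J(G)). (Existence of the
isomorphism is asserted; in the source it is the canonical one expressing that Ext^n_A(−, G), left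
exact on such F, is represented by H^n_J(G).) -/
theorem result (A : Type u) [CommRing A] [IsNoetherianRing A] (J : Ideal A) (G : Type u) [AddCommGroup G] [Module A G] (n : ℕ) (hvan : ∀ (F' : Type u) [AddCommGroup F'] [Module A F'], Module.Finite A F' → Module.support A F' ⊆ PrimeSpectrum.zeroLocus (J : Set A) → ∀ i : ℕ, i + 1 = n → Subsingleton (((Ext A (ModuleCat.{u} A) i).obj (op (ModuleCat.of A F'))).obj (ModuleCat.of A G))) (F : Type u) [AddCommGroup F] [Module A F] [Module.Finite A F] (hF : Module.support A F ⊆ PrimeSpectrum.zeroLocus (J : Set A)) : Nonempty ((((Ext A (ModuleCat.{u} A) n).obj (op (ModuleCat.of A F))).obj (ModuleCat.of A G)) ≃ₗ[A] (F →ₗ[A] LocCoh.H J n G)) := by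
  obtain ⟨e⟩ := Groth.L04.LC.nonempty_ext_equiv_hom_H_of_pred J n G (fun F' _ _ hfin htor i hi => by
    haveI := hfin
    haveI := hvan F' hfin (Groth.L04.LC.support_subset_of_isPowerTorsion J htor) i hi
    exact (Groth.L04.LC.extEquiv A i (ModuleCat.of A F') (ModuleCat.of A G)).toEquiv.subsingleton)
    F inferInstance (Groth.L04.LC.isPowerTorsion_of_support_subset J hF)
  exact ⟨(Groth.L04.LC.extEquiv A n (ModuleCat.of A F) (ModuleCat.of A G)).symm.trans e⟩

end Groth.Agent.S5174
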