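import Groth.Statements.S5177
import Groth.Agent.L28.Depth.Main
-- import your own Groth.Agent.* helpers here

set_option autoImplicit false
universe u
open CategoryTheory CategoryTheory.Limits AlgebraicGeometry Opposite
open EtDepth

set_option backward.isDefEq.respectTransparency.types false

namespace Groth.Agent.S5177

/-- Inequality (*), for a single ℓ-torsion abelian sheaf placed in degree 0 and a single prime ℓ. Let f
: X → S be a morphism of schemes, x a point of X whose local ring O_{X,x} is Noetherian, s = f(x), ℓ
a prime, m, p, q ≥ 0 and F an ℓ-torsion abelian sheaf on the small étale site of S. Assume that f is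
locally m-acyclic for ℓ, that the étale depth of F at s is ≥ p, and that the étale depth of the
fibre X_s at its point over x, for the constant sheaf Z/ℓ, is ≥ q. Then the étale depth of f^*F at x
is ≥ min(p + q, m + 2). (Depth at a point is taken on every strict henselization of the local ring,
as in the prelude.) -/
theorem result {X S : Scheme.{u}} (f : X ⟶ S) (x : X) (hx : IsNoetherianRing (X.presheaf.stalk x)) (ℓ : ℕ) (hℓ : ℓ.Prime) (m p q : ℕ) (F : EtCoh.Ab S) (hF : EtDepth.IsLTorsion ℓ F) (hf : EtDepth.IsLocAcyclicLE f ℓ m) (hp : EtDepth.DepthAtGE S F (f.base x) p) (hq : ∀ x' : ↥(f.fiber (f.base x)), (f.fiberι (f.base x)).base x' = x → EtDepth.DepthAtGE (f.fiber (f.base x)) (EtCoh.const (f.fiber (f.base x)) (ZMod ℓ)) x' q) : EtDepth.DepthAtGE X ((EtCoh.pull f).obj F) x (min (p + q) (m + 2)) := by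
  exact Groth.L28.Depth.depthAtGE_pull f x hx ℓ hℓ m p q F hF hf hp hq

end Groth.Agent.S5177
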