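import Groth.Statements.S5182
import Groth.Agent.L07.WRegLimit
import Groth.Agent.L07.HironakaMain

set_option autoImplicit false
universe u
open CInt

namespace Groth.Agent.S5182

open Groth.L07 Groth.L07.RelProj Groth.L07.Hironaka

set_option linter.style.haveILetI false

/-- In the local algebraic form to which its proof reduces. Let A be a Noetherian local ring, J a proper
ideal such that A is normally flat along J, i.e. every J^k/J^{k+1} is a flat (equivalently free)
A/J-module, and f_1, …, f_r elements of A whose images form a weakly regular sequence on A/J (each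
f_i a non-zero-divisor on A/J modulo the preceding ones). Then for every k ≥ 0 the f_i form a weakly
regular sequence on the A-module J^k and on the A-module J^k/J^{k+1}; in particular (k = 0) on A
itself, so that they are regular on the Rees algebra ⊕ J^k and on the associated graded ring ⊕
J^k/J^{k+1}. -/
theorem result (A : Type u) [CommRing A] [IsLocalRing A] [IsNoetherianRing A] (J : Ideal A) (hJ : J ≠ ⊤) (hflat : ∀ k : ℕ, Module.Flat (A ⧸ J) (↥(J ^ k) ⧸ (J • (⊤ : Submodule A ↥(J ^ k))))) (fs : List A) (hreg : RingTheory.Sequence.IsWeaklyRegular (A ⧸ J) fs) (k : ℕ) : RingTheory.Sequence.IsWeaklyRegular (↥(J ^ k)) fs ∧ RingTheory.Sequence.IsWeaklyRegular (↥(J ^ k) ⧸ (J • (⊤ : Submodule A ↥(J ^ k)))) fs := by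
  have hpiece : ∀ m, RingTheory.Sequence.IsWeaklyRegular
      (↥(J ^ m) ⧸ (J • (⊤ : Submodule A ↥(J ^ m)))) fs := fun m =>
    RegSeq.isWeaklyRegular_of_isRelProj hreg (isRelProj_of_flat (hflat m))
  refine ⟨?_, hpiece k⟩
  have hJrad : J ≤ (⊥ : Ideal A).jacobson := by
    rw [IsLocalRing.jacobson_eq_maximalIdeal ⊥ bot_ne_top]
    exact IsLocalRing.le_maximalIdeal hJ
  have hcomap : ∀ a n : ℕ, (J ^ n • ⊤ : Submodule A ↥(J ^ a)) =
      Submodule.comap (Submodule.subtype (J ^ a)) (J ^ (a + n) : Submodule A A) := by
    intro a n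
    apply Submodule.map_injective_of_injective (J ^ a).injective_subtype
    rw [Submodule.map_smul'', Submodule.map_top, Submodule.range_subtype, Submodule.map_comap_eq,
      Submodule.range_subtype, smul_eq_mul, ← pow_add, add_comm n a]
    exact (inf_eq_right.mpr (Ideal.pow_le_pow_right (Nat.le_add_right a n))).symm
  refine RegSeq.isWeaklyRegular_of_quotients hJrad fun n => ?_
  induction n with
  | zero =>
    haveI : Subsingleton (↥(J ^ k) ⧸ (J ^ 0 • ⊤ : Submodule A ↥(J ^ k))) :=
      Submodule.Quotient.subsingleton_iff.mpr (by simp)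
    exact (RegSeq.isWeaklyRegular_iff_mem fs).mpr fun i hi y _ => by
      rw [Subsingleton.elim y 0]; exact zero_mem _
  | succ n ih =>
    let K : Submodule A A := J ^ (k + (n + 1))
    let X₁ : Submodule A A := J ^ (k + n)
    let X₀ : Submodule A A := J ^ k
    have hK : K ≤ X₁ := Ideal.pow_le_pow_right (by omega)
    have h10 : X₁ ≤ X₀ := Ideal.pow_le_pow_right (by omega)
    obtain ⟨e⟩ := exists_kerEquiv K X₁ X₀ hK h10
    have hker : RingTheory.Sequence.IsWeaklyRegular (LinearMap.ker (subProj K X₁ X₀ hK)) fs := by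
      refine (e.isWeaklyRegular_congr fs).mp ?_
      refine ((Submodule.quotEquivOfEq _ _ ?_).isWeaklyRegular_congr fs).mp (hpiece (k + n))
      have := hcomap (k + n) 1
      rw [pow_one, add_assoc] at this
      exact this
    have hZ : RingTheory.Sequence.IsWeaklyRegular (↥X₀ ⧸ X₁.comap X₀.subtype) fs :=
      ((Submodule.quotEquivOfEq _ _ (hcomap k n)).isWeaklyRegular_congr fs).mp ih
    refine ((Submodule.quotEquivOfEq _ _ (hcomap k (n + 1))).isWeaklyRegular_congr fs).mpr ?_
    exact Groth.L06.RegularPow.isWeaklyRegular_of_exact fs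
      (LinearMap.ker (subProj K X₁ X₀ hK)).subtype (subProj K X₁ X₀ hK)
      (Submodule.injective_subtype _) (LinearMap.exact_subtype_ker_map _)
      (subProj_surjective _ _ _ hK) hker hZ

end Groth.Agent.S5182
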