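import Groth.Statements.S5184
import Groth.Agent.L13.FEtLeff.Restrict
import Groth.Agent.L18.ModSysAlgz

set_option autoImplicit false
set_option maxSynthPendingDepth 3
set_option linter.style.haveILetI false
set_option backward.isDefEq.respectTransparency false
universe u
open CategoryTheory CategoryTheory.Limits AlgebraicGeometry
open LefX

namespace Groth.Agent.S5184

/-- Let X be a locally Noetherian scheme, 𝓘 a quasi-coherent ideal sheaf with Y = V(𝓘) the closed
subscheme it defines, and suppose the effective Lefschetz condition Leff(X, Y) holds. Then for every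
finite étale cover R of Y there are an open neighbourhood U of Y and a finite étale cover R' of U
whose restriction to Y is isomorphic to R; here restriction is taken along the inclusion i : Y → U,
the unique morphism with i followed by U → X equal to Y → X (the statement quantifies over all such
i). -/
theorem result (X : Scheme.{u}) [IsLocallyNoetherian X] (𝓘 : X.IdealSheafData) (h : LefX.LeffCond X 𝓘) (R : FEt.Cat 𝓘.subscheme) : ∃ (U : X.Opens) (R' : FEt.Cat (U : Scheme.{u})), (𝓘.support : Set X) ⊆ (U : Set X) ∧ ∀ i : 𝓘.subscheme ⟶ (U : Scheme.{u}), i ≫ U.ι = 𝓘.subschemeι → Nonempty ((FEt.restrict i).obj R' ≅ R) := by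
  refine Groth.L13.FEtLeff.exists_extension 𝓘 R fun C => ?_
  obtain ⟨U, E, hU, hE, ⟨e⟩⟩ := h.2 C.modSys C.levelwiseFinLocFree_modSys
  refine ⟨U, (Scheme.Modules.pushforward U.ι).obj E, hU, fun D hD => h.1 U hU D hD, ?_,
    ⟨eqToIso (Groth.L18.ModSysAlgz.completionMod_eq 𝓘 _).symm ≪≫ e⟩⟩
  intro x
  obtain ⟨V, k, hx, ⟨f⟩⟩ := hE x
  exact ⟨V, k, hx, ⟨(Scheme.Modules.restrictFunctor V.ι).mapIso
    (asIso ((Scheme.Modules.restrictAdjunction U.ι).counit.app E)) ≪≫ f⟩⟩

end Groth.Agent.S5184
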