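import Groth.Statements.S5186
import Groth.Agent.L17.SSClass
import Groth.Agent.L17.CohClass
import Groth.Agent.L17.GrothSS
import Groth.Agent.L17.PushQCoh
import Groth.Agent.L17.ProperCoh
import Groth.Agent.L16.CohSupport
import Groth.Agent.L10.SiteRightDerived

set_option autoImplicit false
universe u
open CategoryTheory AlgebraicGeometry
open Coherent

namespace Groth.Agent.S5186

/-- Let f : X → S be a proper morphism of schemes with S locally Noetherian, U an open subset of X with
inclusion g : U → X, h = f ∘ g : U → S, F an O_U-module and n ≥ 0. If the higher direct images R^i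
g_*(F) are coherent O_X-modules for all i ≤ n, then the higher direct images R^i h_*(F) are coherent
O_S-modules for all i ≤ n. (The existence of injective resolutions in the module categories is
carried as instance arguments.) -/
theorem result {X S : Scheme.{u}} (f : X ⟶ S) [IsProper f] [IsLocallyNoetherian S] (U : X.Opens) [HasInjectiveResolutions (U : Scheme.{u}).Modules] [HasInjectiveResolutions X.Modules] (F : (U : Scheme.{u}).Modules) (n : ℕ) (hg : ∀ i : ℕ, i ≤ n → Coh.IsCoh ((Coh.Rpush U.ι i).obj F)) (i : ℕ) (hi : i ≤ n) : Coh.IsCoh ((Coh.Rpush (U.ι ≫ f) i).obj F) := by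
  open CategoryTheory CategoryTheory.Limits AlgebraicGeometry in
  letI := HasDerivedCategory.standard X.Modules
  haveI := Groth.L00.Tensor.grothendieckAbelian_modules X
  haveI := Groth.L17.PushQCoh.additive_push U.ι
  haveI := Groth.L17.PushQCoh.additive_push f
  haveI : PreservesFiniteLimits (Scheme.Modules.pushforward f) :=
    haveI : PreservesLimitsOfSize.{0, 0} (Scheme.Modules.pushforward f) :=
      (Scheme.Modules.pullbackPushforwardAdjunction f).rightAdjoint_preservesLimits
    inferInstance
  obtain ⟨E, a, hfin, -, he⟩ := Groth.L17.GrothSS.exists_spectralSequence (Scheme.Modules.pushforward U.ι)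
    (Scheme.Modules.pushforward f)
    (fun Q hQ q hq => by
      obtain ⟨k, rfl⟩ : ∃ k, q = k + 1 := ⟨q - 1, by omega⟩
      haveI := hQ
      haveI : TopCat.Sheaf.IsFlasque (Coh.toAb Q) := Groth.L17.PushMV.isFlasque_of_injective Q
      exact Groth.L17.PushQCoh.isZero_Rpush_of_flasque f _
        (show TopCat.Sheaf.IsFlasque (Coh.toAb ((Scheme.Modules.pushforward U.ι).obj Q)) from
          TopCat.Sheaf.IsFlasque.pushforward_isFlasque (Y := X.toTopCat) (Coh.toAb Q) U.ι.base) k) F
  have hz : ∀ M : S.Modules, IsZero M → Coh.IsCoh M := fun M hM => by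
    have h := (Groth.L16.CohKernel.isCoh_kernel_cokernel (Groth.L16.CohClosedPush.isCoh_structure (X := S))
      (Groth.L16.CohClosedPush.isCoh_structure (X := S)) (𝟙 _)).1
    exact Groth.L16.CohSupport.isCoh_of_iso ((isZero_kernel_of_mono (𝟙 (Coh.structureModule S))).iso hM) h
  have hP : Groth.L17.SSClass.IsThick (fun M : S.Modules => Coh.IsCoh M) :=
    { zero := hz
      iso := fun e h => Groth.L16.CohSupport.isCoh_of_iso e h
      ker := fun g h h' => (Groth.L16.CohKernel.isCoh_kernel_cokernel h h' g).1
      coker := fun g h h' => (Groth.L16.CohKernel.isCoh_kernel_cokernel h h' g).2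
      ext := fun T hT h h' => Groth.L17.CohClass.isCoh_of_shortExact T hT h h' }
  have h := Groth.L17.SSClass.abutment_mem hP a n i (by omega) (hfin i)
    (fun p q h => by
      obtain ⟨e⟩ := he p q
      exact IsZero.of_iso (by rw [if_neg h]; exact isZero_zero _) e)
    (fun p q hq => by
      obtain ⟨e⟩ := he p q
      refine Groth.L16.CohSupport.isCoh_of_iso e.symm ?_
      split_ifs with h
      · exact Groth.L17.ProperCoh.isCoh_Rpush f _ (hg q.toNat (by omega)) p.toNat
      · exact hz _ (isZero_zero _))
  rw [if_pos (by omega : (0 : ℤ) ≤ i), Int.toNat_natCast] at h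
  exact Groth.L16.CohSupport.isCoh_of_iso
    ((Groth.L10.SiteCoh.rightDerivedCongr (Scheme.Modules.pushforwardComp U.ι f) i).app F) h

end Groth.Agent.S5186
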