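import Groth.Statements.S5187
import Groth.Agent.L28.TopCd.Rpush
import Mathlib.FieldTheory.PrimitiveElement

set_option autoImplicit false
universe u
open CategoryTheory CategoryTheory.Limits AlgebraicGeometry Opposite
open EtDepth

set_option linter.style.haveILetI false
set_option backward.isDefEq.respectTransparency.types false
set_option maxHeartbeats 1000000

namespace Groth.Agent.S5187

open scoped TensorProduct
open Groth.L28 Groth.L28.TopCd

/-- Let k be a field, K a finitely generated extension field of k of transcendence degree n, ℓ a prime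
number invertible in k, and F a nonzero constructible ℓ-torsion abelian sheaf on the small étale
site of Spec K. Then there is a finite separable extension L of K such that, writing u : Spec L →
Spec k for the structure morphism, the higher direct image R^n u_*(F|_{Spec L}) is nonzero. -/
theorem result (k K : Type u) [Field k] [Field K] [Algebra k K] (hfg : ∃ s : Finset K, IntermediateField.adjoin k (s : Set K) = ⊤) (n : ℕ) (htr : Algebra.trdeg k K = n) (ℓ : ℕ) (hℓ : ℓ.Prime) (hℓk : (ℓ : k) ≠ 0) (F : EtCoh.Ab (Spec (CommRingCat.of K))) (hF : EtDepth.IsLTorsion ℓ F) (hFc : EtPBC.IsConstructible F) (hF0 : ¬ IsZero F) : ∃ (L : Type u) (_ : Field L) (_ : Algebra K L) (_ : Algebra k L) (_ : IsScalarTower k K L) (_ : Module.Finite K L) (_ : Algebra.IsSeparable K L), ¬ IsZero ((EtCoh.Rpush (Spec.map (CommRingCat.ofHom (algebraMap k L))) n).obj ((EtCoh.pull (Spec.map (CommRingCat.ofHom (algebraMap K L)))).obj F)) := by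
  classical
  let R := separableClosure k (SeparableClosure k)
  haveI : IsSepClosure k R := separableClosure.isSepClosure k (SeparableClosure k)
  haveI : IsSepClosed R := IsSepClosure.sep_closed k
  obtain ⟨κ₀, _, _, _, _, _, _, hs₀⟩ := exists_point k K R
  haveI : Algebra.IsSeparable K κ₀ := isSeparable_point hs₀
  -- a class over the residue field
  let π₀ : Spec (CommRingCat.of κ₀) ⟶ Spec (CommRingCat.of K) := Spec.map (CommRingCat.ofHom (algebraMap K κ₀))
  haveI : Surjective π₀ := ⟨fun y => ⟨(default : Spec (CommRingCat.of κ₀)),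
    Subsingleton.elim (α := Spec (CommRingCat.of K)) _ _⟩⟩
  obtain ⟨L', _, _, _, _, hne⟩ := exists_nontrivial κ₀ hℓ ((EtCoh.pull π₀).obj F)
    (isLTorsion_depth (Groth.L27.CompTransfer.isLTorsion_pull _ π₀ (isLTorsion_acyc hℓ hF)))
    (ExtShriek.isConstructible_pull π₀ hFc) (fun h => hF0 (isZero_of_pull π₀ F h)) n
    (cdLE_point hs₀ hℓ htr) (fun d hd => not_cdLE_point hs₀ hℓ hℓk htr hfg d hd)
  -- descent of the extension
  letI : Algebra K L' := ((algebraMap κ₀ L').comp (algebraMap K κ₀)).toAlgebra
  haveI : IsScalarTower K κ₀ L' := IsScalarTower.of_algebraMap_eq' rfl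
  letI : Algebra k L' := ((algebraMap κ₀ L').comp (algebraMap k κ₀)).toAlgebra
  haveI : IsScalarTower k κ₀ L' := IsScalarTower.of_algebraMap_eq' rfl
  letI : Algebra R L' := ((algebraMap κ₀ L').comp (algebraMap R κ₀)).toAlgebra
  haveI : IsScalarTower R κ₀ L' := IsScalarTower.of_algebraMap_eq' rfl
  haveI : IsScalarTower k R L' := IsScalarTower.of_algebraMap_eq fun c => by
    rw [IsScalarTower.algebraMap_apply k κ₀ L', IsScalarTower.algebraMap_apply R κ₀ L',
      ← IsScalarTower.algebraMap_apply k R κ₀]
  haveI : IsScalarTower k K L' := IsScalarTower.of_algebraMap_eq fun c => by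
    rw [IsScalarTower.algebraMap_apply k κ₀ L', IsScalarTower.algebraMap_apply K κ₀ L',
      ← IsScalarTower.algebraMap_apply k K κ₀]
  haveI : Algebra.IsSeparable K L' := Algebra.IsSeparable.trans K κ₀ L'
  obtain ⟨α, hα⟩ := Field.exists_primitive_element κ₀ L'
  let L : IntermediateField K L' := IntermediateField.adjoin K {α}
  haveI : FiniteDimensional K L :=
    IntermediateField.adjoin.finiteDimensional (Algebra.IsSeparable.isSeparable K α).isIntegral
  haveI : IsScalarTower k L L' := IsScalarTower.of_algebraMap_eq fun c => rfl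
  refine ⟨L, inferInstance, inferInstance, inferInstance, inferInstance, inferInstance, inferInstance, ?_⟩
  have hsurj : Function.Surjective (prodMap k L R L') := by
    let S : Subalgebra k L' := (prodMap k L R L').range
    have hmem : ∀ (l : L) (r : R), (l : L') * algebraMap R L' r ∈ S := fun l r => ⟨l ⊗ₜ r, by
      show prodMap k L R L' (l ⊗ₜ r) = _
      rw [Algebra.TensorProduct.productMap_apply_tmul]
      rfl⟩
    have hκ : ∀ c : κ₀, algebraMap κ₀ L' c ∈ S := fun c => by
      obtain ⟨z, rfl⟩ := hs₀ c
      induction z with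
      | zero => rw [map_zero, map_zero]; exact zero_mem _
      | add a b ha hb => rw [map_add, map_add]; exact add_mem ha hb
      | tmul x r =>
        rw [Algebra.TensorProduct.productMap_apply_tmul, map_mul]
        exact hmem ⟨algebraMap κ₀ L' (algebraMap K κ₀ x), L.algebraMap_mem x⟩ r
    intro y
    have hy : y ∈ Algebra.adjoin κ₀ ({α} : Set L') := by
      haveI : Algebra.IsAlgebraic κ₀ L' := Algebra.IsAlgebraic.of_finite κ₀ L'
      rw [← IntermediateField.adjoin_simple_toSubalgebra_of_isAlgebraic (Algebra.IsAlgebraic.isAlgebraic α), hα]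
      exact IntermediateField.mem_top
    induction hy using Algebra.adjoin_induction with
    | mem x hx =>
      rw [Set.mem_singleton_iff] at hx
      have := hmem ⟨α, IntermediateField.mem_adjoin_simple_self K α⟩ 1
      rw [map_one, mul_one] at this
      exact hx ▸ this
    | algebraMap r => exact hκ r
    | add a b _ _ ha hb => exact add_mem (s := S) ha hb
    | mul a b _ _ ha hb => exact mul_mem (s := S) ha hb
  have htrL : Algebra.trdeg k L = n := by
    haveI : Algebra.IsAlgebraic K L := Algebra.IsAlgebraic.of_finite K L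
    rw [← trdeg_add_eq k K (A := L), trdeg_eq_zero (R := K) (A := L), add_zero, htr]
  haveI : Algebra.EssFiniteType k K := by
    rw [← IntermediateField.fg_top_iff]
    obtain ⟨s, hs⟩ := hfg
    exact ⟨s, hs⟩
  haveI : Algebra.EssFiniteType k L := Algebra.EssFiniteType.comp k K L
  refine not_isZero_Rpush hℓ htrL _ (Groth.L27.CompTransfer.isLTorsion_pull _ _ (isLTorsion_acyc hℓ hF)) L' hsurj ?_
  refine not_subsingleton_iff_nontrivial.1 fun hs => not_subsingleton_iff_nontrivial.2 hne ?_
  have h1 : Spec.map (CommRingCat.ofHom (algebraMap κ₀ L')) ≫ π₀ =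
      Spec.map (CommRingCat.ofHom (algebraMap L L')) ≫ Spec.map (CommRingCat.ofHom (algebraMap K L)) := by
    rw [← Spec.map_comp, ← Spec.map_comp]
    rfl
  exact Devissage.of_iso (((EtCore.pullComp _ π₀).symm ≪≫ EtCore.pullCongr h1 ≪≫ EtCore.pullComp _ _).app F) n hs

end Groth.Agent.S5187
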