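import Groth.Statements.S5192
import Groth.Agent.L18.ModSysAlgz
import Groth.Agent.L18.FormalStr
import Groth.Agent.L18.GrFlatReg
import Groth.Agent.L18.NormFlatGr
import Groth.Agent.L06.FEtLef.QAffine

set_option autoImplicit false
set_option linter.style.haveILetI false
set_option backward.isDefEq.respectTransparency.types false
set_option backward.isDefEq.respectTransparency false
universe u
open CategoryTheory CategoryTheory.Limits AlgebraicGeometry TopologicalSpace
open LefX

namespace Groth.Agent.S5192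

theorem iSup_basicOpen_eq {A : Type u} [CommRing A] (I : Ideal A) :
    (⨆ f : ↥I, (Spec (CommRingCat.of A)).basicOpen ((Scheme.ΓSpecIso (CommRingCat.of A)).inv f.1)) =
      LocCoh.puncturedOpen A I := by
  refine TopologicalSpace.Opens.ext (Set.ext fun p => ?_)
  simp only [Opens.coe_iSup, Set.mem_iUnion, SetLike.mem_coe, basicOpen_eq_of_affine']
  constructor
  · rintro ⟨f, hf⟩ hp
    exact hf (by simpa using hp f.2)
  · intro hp
    obtain ⟨a, ha, hap⟩ := SetLike.not_le_iff_exists.1 (fun h : I ≤ p.asIdeal => hp h)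
    exact ⟨⟨a, ha⟩, by simp; exact (PrimeSpectrum.mem_basicOpen a p).2 hap⟩

/-- Normal flatness assumed along all of X_0. Let A be a Noetherian ring which is a quotient of a
regular ring, J an ideal such that A is separated and complete for the J-adic topology, X = Spec A,
X_0 = V(J), I an ideal with Y = V(I), U = X − Y (the union of the D(f), f ∈ I) and U_0 = U ∩ X_0.
Assume: (a) every J^n/J^(n+1) is flat over A/J (X normally flat along X_0); (b) for every prime p ⊇
I + J the local ring (A/J)_p has depth ≥ 3; (c) for every prime p ⊇ I not containing J, A_p has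
depth ≥ 3. Then (1) for every finite locally free O_U-module D the map Hom(D, O_U) → lim_n Hom(D,
O_U/J^(n+1)O_U) is bijective (completion along U_0 is fully faithful on finite locally free
modules), and (2) every levelwise finite locally free system of coherent modules on the completion
of U along U_0 is isomorphic to the completion of a coherent O_U-module. (The published statement
asks normal flatness only at the points of Y ∩ X_0; this row assumes it along all of X_0.) -/
theorem result (R : Type u) [CommRing R] [IsRegularRing R] (A : Type u) [CommRing A] [IsNoetherianRing A] (π : R →+* A) (hπ : Function.Surjective π) (J : Ideal A) [IsAdicComplete J A] (I : Ideal A) (ha : ∀ n : ℕ, Module.Flat (A ⧸ J) (↥(J ^ n) ⧸ (J • (⊤ : Submodule A ↥(J ^ n))))) (hb : ∀ p : Ideal A, ∀ _ : p.IsPrime, I ≤ p → J ≤ p → (3 : ℕ∞) ≤ LocCoh.depth (Localization.AtPrime p) (Localization.AtPrime p ⧸ J.map (algebraMap A (Localization.AtPrime p)))) (hc : ∀ p : Ideal A, ∀ _ : p.IsPrime, I ≤ p → ¬ J ≤ p → (3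 : ℕ∞) ≤ LocCoh.depth (Localization.AtPrime p) (Localization.AtPrime p)) : (∀ D : (↑(⨆ f : ↥I, (Spec (CommRingCat.of A)).basicOpen ((Scheme.ΓSpecIso (CommRingCat.of A)).inv f.1)) : Scheme.{u}).Modules, FlatMod.IsFinLocFree D → Lef.HomToFormalBijective ((Spec.map (CommRingCat.ofHom (Ideal.Quotient.mk J))).ker.comap (⨆ f : ↥I, (Spec (CommRingCat.of A)).basicOpen ((Scheme.ΓSpecIso (CommRingCat.of A)).inv f.1)).ι) D) ∧ (∀ 𝔐 : FSch.ModSys (FSch.completionAlong (↑(⨆ f : ↥I, (Spec (CommRingCat.of A)).basicOpen ((Scheme.ΓSpecIso (CommRingCat.of A)).inv f.1)) : Scheme.{u}) ((Spec.map (CommRingCat.ofHom (Ideal.Quotient.mk J))).ker.comap (⨆ f : ↥I, (Spec (CommRingCat.of A)).basicOpen ((Scheme.ΓSpecIso (CommRingCat.of A)).inv f.1)).ι)), LefX.LevelwiseFinLocFree 𝔐 → ∃ F : (↑(⨆ f : ↥I, (Spec (CommRingCat.of A)).basicOpen ((Scheme.ΓSpecIso (CommRingCat.of A)).inv f.1)) : Scheme.{u}).Modules, Coh.IsCoh F ∧ Nonempty (FSch.completionMod ((Spec.map (CommRingCat.ofHom (Ideal.Quotient.mk J))).ker.comap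 (⨆ f : ↥I, (Spec (CommRingCat.of A)).basicOpen ((Scheme.ΓSpecIso (CommRingCat.of A)).inv f.1)).ι) F ≅ 𝔐)) := by
  let U : (Spec (CommRingCat.of A)).Opens :=
    ⨆ f : ↥I, (Spec (CommRingCat.of A)).basicOpen ((Scheme.ΓSpecIso (CommRingCat.of A)).inv f.1)
  have hU : U = LocCoh.puncturedOpen A I := iSup_basicOpen_eq I
  have hnf := Groth.L18.NormFlatGr.isNormallyFlat_of_flat J ha
  have hq : ((3 : ℕ) : ℕ∞) ≤ LocCoh.idealDepth I (A ⧸ J) := by
    rw [Groth.L04.idealDepth_eq_iInf_depth]
    refine le_iInf₂ fun p hp => ?_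
    by_cases hJ : J ≤ p.asIdeal
    · let e : LocalizedModule p.asIdeal.primeCompl (A ⧸ J) ≃ₗ[Localization.AtPrime p.asIdeal]
          Localization.AtPrime p.asIdeal ⧸ J.map (algebraMap A (Localization.AtPrime p.asIdeal)) :=
        (LocalizedModule.equivTensorProduct p.asIdeal.primeCompl (A ⧸ J)).trans
          (Algebra.TensorProduct.quotIdealMapEquivTensorQuot (Localization.AtPrime p.asIdeal) J).toLinearEquiv.symm
      rw [LocCoh.depth, Groth.L04.idealDepth_congr e]
      exact hb p.asIdeal p.2 hp hJ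
    · haveI := Groth.L29.NormFlatDepth.subsingleton_localized J p.asIdeal hJ
      rw [LocCoh.depth, Groth.L04.idealDepth_eq_top (Subsingleton.elim _ _)]
      exact le_top
  have hq2 : ((2 : ℕ) : ℕ∞) ≤ LocCoh.idealDepth I (A ⧸ J) := le_trans (by norm_num) hq
  have hK : ∀ n : ℕ, ((2 : ℕ) : ℕ∞) ≤ LocCoh.idealDepth I (A ⧸ (J ^ (n + 1) : Ideal A)) := fun n => by
    have h := Groth.L29.NormFlatDepth.two_le_pow J I hq2 hnf (n + 1)
    rwa [Groth.L04.idealDepth_congr (Submodule.quotEquivOfEq _ _ (show J ^ (n + 1) • (⊤ : Submodule A A) = (J ^ (n + 1) : Ideal A)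
      by rw [Ideal.smul_eq_mul, Ideal.mul_top]))] at h
  haveI : CompactSpace ↥(↑U : Scheme.{u}) :=
    isCompact_iff_compactSpace.1 (NoetherianSpace.isCompact (α := PrimeSpectrum A) _)
  haveI : (↑U : Scheme.{u}).IsQuasiAffine := Scheme.IsQuasiAffine.of_isImmersion U.ι
  haveI : AlgebraicGeometry.IsNoetherian (↑U : Scheme.{u}) := { }
  refine ⟨fun D hD => Groth.L06.FEtLef.homToFormalBijective_quasiAffine _
    (Groth.L18.FormalStr.homToFormalBijective J I U hU (Groth.L18.GrFlatReg.le_idealDepth_self J I 2 ha hq2) hK) hD,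
    fun 𝔐 h𝔐 => ?_⟩
  refine Groth.L18.ModSysAlgz.exists_algebraization J hnf I U hU (fun i hi => ⟨0, fun a _ z => ?_⟩) _ rfl 𝔐 h𝔐
  haveI : Subsingleton (LocCoh.H I i (A ⧸ J)) := (Groth.L04.LC.le_idealDepth_iff_H _ _ 3).1 hq i (by omega)
  exact Subsingleton.elim _ _

end Groth.Agent.S5192
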