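import Groth.Statements.S5193
import Groth.Agent.L18.PicLefFibre
import Groth.Agent.S3361
-- import your own Groth.Agent.* helpers here

set_option autoImplicit false
set_option linter.style.haveILetI false
set_option backward.isDefEq.respectTransparency.types false
set_option backward.isDefEq.respectTransparency false
universe u
open CategoryTheory CategoryTheory.Limits AlgebraicGeometry
open LefX

namespace Groth.Agent.S5193

/-- Over an affine base. Let A be a Noetherian ring, X a proper flat A-scheme, 𝓘 a quasi-coherent ideal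
whose ideal module is invertible with ample inverse L, such that X_0 = V(𝓘) is also flat over A (so
X is projective over A and 𝓘 is cut out by a section t of L regular on every fibre); write X_m =
V(𝓘^(m+1)) for the m-th thickening of X_0. Assume that every fibre X_s has depth ≥ 3 at each of its
closed points, and that at every point x outside X_0 which is closed in its fibre the local ring of
the fibre at x is parafactorial. Let m ≥ 0 be such that H^i(X, 𝓘^n/𝓘^(n+1)) = H^i(X_0, O_{X_0}(−n))
vanishes for i = 1, 2 and every n > m (over an affine base this is the vanishing of the higher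
direct images R^i f_{0*}). Then pull-back of invertible modules Pic(X) → Pic(X_m) is bijective:
trivial kernel and surjective on isomorphism classes. -/
theorem result (A : Type u) [CommRing A] [IsNoetherianRing A] (X : Scheme.{u}) [X.Over (Spec (CommRingCat.of A))] [IsProper (X ↘ Spec (CommRingCat.of A))] [Flat (X ↘ Spec (CommRingCat.of A))] (𝓘 : X.IdealSheafData) (L : X.Modules) (hL : ClSub.IsInverseOf L (ClSub.idealMod 𝓘)) (hamp : CohB1.IsAmple L) [Flat (𝓘.subschemeι ≫ (X ↘ Spec (CommRingCat.of A)))] (hdepth : ∀ x : X, IsClosed ({((X ↘ Spec (CommRingCat.of A))).asFiber x} : Set ↥(((X ↘ Spec (CommRingCat.of A))).fiber (((X ↘ Spec (CommRingCat.of A))).base x))) → (3 : ℕ∞) ≤ LocCoh.depth ↑(CInt.fiberStalk (X ↘ Spec (CommRingCat.of A)) x) ↑(CInt.fiberStalk (X ↘ Spec (CommRingCat.of A)) x)) (hpf : ∀ x : X, IsClosed ({((X ↘ Spec (CommRingCat.of A))).asFiber x} : Set ↥(((X ↘ Spec (CommRingCat.of A))).fiber (((X ↘ Spec (CommRingCat.of A))).base x))) → x ∉ (𝓘.support : Set X) → ParaF.IsParafactorialLocalRing ↑(CInt.fiberStalk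 (X ↘ Spec (CommRingCat.of A)) x)) (m : ℕ) (hH : ∀ n : ℕ, m < n → ∀ i : ℕ, (i = 1 ∨ i = 2) → Subsingleton (Coh.HH X ((DCoh.tensorBi.obj (CohB1.tensorPow (ClSub.idealMod 𝓘) n)).obj (ClSub.quotMod 𝓘)) i)) : Formal2.PicPullbackInjective (𝓘 ^ (m + 1)).subschemeι ∧ Formal2.PicPullbackSurjective (𝓘 ^ (m + 1)).subschemeι := by
  let f := X ↘ Spec (CommRingCat.of A)
  haveI : IsLocallyNoetherian X := LocallyOfFiniteType.isLocallyNoetherian f
  obtain ⟨i⟩ := id hL
  have hI : PicF.IsInvertible (ClSub.idealMod 𝓘) := Groth.L22.EnrSev.isInvertible_of_inverse hamp.1 i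
  have hLeff : LefX.LeffCond X 𝓘 := Groth.Agent.S3361.result A X 𝓘 L hL hamp
    (fun y hy => Groth.L18.PicLefFibre.depth_divisor f 𝓘 hI (n := 2) y
      (hdepth _ (Groth.L18.PicLefFibre.isClosed_asFiber_push 𝓘.subschemeι f y hy)))
    (fun x hx => (show (2 : ℕ∞) ≤ 3 by norm_num).trans (hdepth x hx))
  refine Groth.L18.PicLefPara.bijective_thickening 𝓘 m hLeff (fun n hn j hj => ?_) (fun U hU x hx => ?_) m le_rfl
  · obtain ⟨e⟩ := Groth.L18.PicLefFibre.nonempty_kernel_tensor 𝓘 hI n
    exact Groth.L22.EnrSev.subsingleton_of_iso e.symm j (hH (n + 1) (Nat.lt_succ_of_le hn) j hj)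
  · have hZY : Disjoint ((U : Set X)ᶜ) (𝓘.support : Set X) := Set.disjoint_left.2 fun z hz hz' => hz (hU hz')
    have hc := Groth.L06.AmpleDisj.isClosed_asFiber f 𝓘 L hL hamp _ U.2.isClosed_compl hZY x hx
    exact Groth.L18.PicLefFibre.parafactorial_stalk f x (hdepth x hc) (hpf x hc fun h => hx (hU h))

end Groth.Agent.S5193
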