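import Groth.Statements.S5196
import Groth.Agent.L28.DeltaFlat.Residue
import Groth.Agent.L28.DeltaFlat.Dim

set_option autoImplicit false
universe u
open CategoryTheory CategoryTheory.Limits AlgebraicGeometry Opposite
open EtDepth

namespace Groth.Agent.S5196

/-- Let A → A' be a faithfully flat homomorphism of Noetherian local rings whose fibre over the closed
point of Spec A is the single closed point of Spec A' (the only prime of A' over m_A is m_{A'}), f :
X → Spec A a morphism locally of finite type, X' = X ×_A A' with projections h : X' → X and f' : X'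
→ Spec A'. For a point x' of X' put x = h(x'), s = f(x), s' = f'(x'). Then trdeg(κ(x')/κ(s')) ≤
trdeg(κ(x)/κ(s)) and dim A'/p_{s'} ≤ dim A/p_s, so that δ(x') ≤ δ(x) for δ(x) = trdeg(κ(x)/κ(s)) +
dim cl(s), with equality exactly when both inequalities are equalities; and for every point x of X
there is a point x' of X' over x for which both are equalities. -/
theorem result (A A' : Type u) [CommRing A] [CommRing A'] [IsLocalRing A] [IsLocalRing A'] [IsNoetherianRing A] [IsNoetherianRing A'] [Algebra A A'] [Module.FaithfullyFlat A A'] (hfib : ∀ q : Ideal A', ∀ _ : q.IsPrime, q.comap (algebraMap A A') = IsLocalRing.maximalIdeal A → q = IsLocalRing.maximalIdeal A') (X : Scheme.{u}) (f : X ⟶ (Spec (CommRingCat.of A))) [LocallyOfFiniteType f] : (∀ x' : ↥(pullback f (Spec.map (CommRingCat.ofHom (algebraMap A A')))), @Algebra.trdeg ↑((Spec (CommRingCat.of A')).residueField ((pullback.snd f (Spec.map (CommRingCat.ofHom (algebraMap A A')))).base x')) ↑((pullback f (Spec.map (CommRingCat.ofHom (algebraMap A A')))).residueField x') _ _ ((pullback.snd f (Spec.map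 (CommRingCat.ofHom (algebraMap A A')))).residueFieldMap x').hom.toAlgebra ≤ @Algebra.trdeg ↑((Spec (CommRingCat.of A)).residueField (f.base ((pullback.fst f (Spec.map (CommRingCat.ofHom (algebraMap A A')))).base x'))) ↑(X.residueField ((pullback.fst f (Spec.map (CommRingCat.ofHom (algebraMap A A')))).base x')) _ _ (f.residueFieldMap ((pullback.fst f (Spec.map (CommRingCat.ofHom (algebraMap A A')))).base x')).hom.toAlgebra ∧ ringKrullDim (A' ⧸ ((pullback.snd f (Spec.map (CommRingCat.ofHom (algebraMap A A')))).base x').asIdeal) ≤ ringKrullDim (A ⧸ (f.base ((pullback.fst f (Spec.map (CommRingCat.ofHom (algebraMap A A')))).base x')).asIdeal)) ∧ (∀ x : X, ∃ x' : ↥(pullback f (Spec.map (CommRingCat.ofHom (algebraMap A A')))), (pullback.fst f (Spec.map (CommRingCat.ofHom (algebraMap A A')))).base x' = x ∧ @Algebra.trdeg ↑((Spec (CommRingCat.of A')).residueField ((pullback.snd f (Spec.map (CommRingCat.ofHom (algebraMap A A')))).base x')) ↑((pullback f (Spec.map (CommRingCat.ofHom (algebraMap A A')))).residueField x') _ _ ((pullback.snd f (Spec.map (CommRingCat.ofHom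 (algebraMap A A')))).residueFieldMap x').hom.toAlgebra = @Algebra.trdeg ↑((Spec (CommRingCat.of A)).residueField (f.base ((pullback.fst f (Spec.map (CommRingCat.ofHom (algebraMap A A')))).base x'))) ↑(X.residueField ((pullback.fst f (Spec.map (CommRingCat.ofHom (algebraMap A A')))).base x')) _ _ (f.residueFieldMap ((pullback.fst f (Spec.map (CommRingCat.ofHom (algebraMap A A')))).base x')).hom.toAlgebra ∧ ringKrullDim (A' ⧸ ((pullback.snd f (Spec.map (CommRingCat.ofHom (algebraMap A A')))).base x').asIdeal) = ringKrullDim (A ⧸ (f.base ((pullback.fst f (Spec.map (CommRingCat.ofHom (algebraMap A A')))).base x')).asIdeal)) := by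
  let g := Spec.map (CommRingCat.ofHom (algebraMap A A'))
  have hcomm : ∀ x' : ↥(pullback f g), (f.base ((pullback.fst f g).base x')).asIdeal =
      ((pullback.snd f g).base x').asIdeal.comap (algebraMap A A') := fun x' => by
    have := congrArg (fun φ : pullback f g ⟶ Spec (CommRingCat.of A) => φ.base x')
      (pullback.condition (f := f) (g := g))
    exact congrArg PrimeSpectrum.asIdeal this
  refine ⟨fun x' => ⟨L28.DeltaFlat.trdeg_residueField_le x', ?_⟩, fun x => ?_⟩
  · rw [hcomm x']
    exact @L28.DeltaFlat.ringKrullDim_quotient_comap_le A A' _ _ _ _ _ _ _ _ hfib _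
      ((pullback.snd f (Spec.map (CommRingCat.ofHom (algebraMap A A')))).base x').2
  · obtain ⟨P', hP', hcomap, hdim⟩ :=
      @L28.DeltaFlat.exists_ringKrullDim_quotient_eq A A' _ _ _ _ _ _ _ _ hfib (f.base x).asIdeal
        (f.base x).2
    let y : ↥(Spec (CommRingCat.of A')) := ⟨P', hP'⟩
    have hy : f.base x = g.base y := PrimeSpectrum.ext hcomap.symm
    obtain ⟨t, h1, h2, h3⟩ := L28.DeltaFlat.exists_point_trdeg_eq (f := f) (g := g) x y hy
    refine ⟨t, h1, h3, ?_⟩
    have e1 : (f.base ((pullback.fst f g).base t)).asIdeal = (f.base x).asIdeal := by rw [h1]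
    have e2 : ((pullback.snd f g).base t).asIdeal = P' := congrArg PrimeSpectrum.asIdeal h2
    exact (congrArg (fun I : Ideal A' => ringKrullDim (A' ⧸ I)) e2).trans
      (hdim.trans (congrArg (fun I : Ideal A => ringKrullDim (A ⧸ I)) e1.symm))

end Groth.Agent.S5196
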