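import Groth.Statements.S5198
import Groth.Agent.L28.DeltaT.Main

set_option autoImplicit false
universe u
open CategoryTheory CategoryTheory.Limits AlgebraicGeometry Opposite
open EtDepth

namespace Groth.Agent.S5198

/-- Over affine bases. Let A → A' be a faithfully flat homomorphism of Noetherian rings with A
Cohen–Macaulay and A' catenary, T = V(I) ⊆ Spec A and T' = V(I') ⊆ Spec A' closed subsets with T'
mapping into T, f : X → Spec A locally of finite type, X' = X ×_A A' with projections h : X' → X and
f' : X' → Spec A'. For a point x' of X' put x = h(x'), s = f(x), s' = f'(x'), and let δ_T(x) =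
trdeg(κ(x)/κ(s)) + codim(cl(s) ∩ T, cl(s)), δ_{T'}(x') likewise, assuming cl(s') meets T' (so both
codimensions are finite). Then δ_T(x) − δ_{T'}(x') ≤ dim h_{x'}^{-1}(x), the dimension of the local
ring at x' of the fibre of h over x; written additively with the five quantities pinned to natural
numbers. (The published statement assumes A and A' only catenary. In that generality it fails: for a
two-dimensional catenary Noetherian local domain A whose completion A' has a one-dimensional
irreducible component, with T and T' the closed points, X = Spec A and x' the generic point of that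
component, the left side is 2 and the right side is 1. The published proof uses additivity of
codimension inside the preimage of cl(s) in Spec A', which needs the irreducible components of Spec
A' through a point not to have smaller local dimension than Spec A at the image point; flatness
gives this when A is Cohen–Macaulay, the hypothesis this row takes, and A is then catenary.) -/
theorem result (A A' : Type u) [CommRing A] [CommRing A'] [IsNoetherianRing A] [IsNoetherianRing A'] (hcm : LocCoh.IsCohenMacaulayRing A) (hcat' : CAlg.IsCatenary A') [Algebra A A'] [Module.FaithfullyFlat A A'] (I : Ideal A) (I' : Ideal A') (hTT : ∀ q : PrimeSpectrum A', I' ≤ q.asIdeal → I ≤ q.asIdeal.comap (algebraMap A A')) (X : Scheme.{u}) (f : X ⟶ (Spec (CommRingCat.of A))) [LocallyOfFiniteType f] (x' : ↥(pullback f (Spec.map (CommRingCat.ofHom (algebraMap A A'))))) (r r' a b e : ℕ) (hr : @Algebra.trdeg ↑((Spec (CommRingCat.of A)).residueField (f.base ((pullback.fst f (Spec.map (CommRingCat.ofHom (algebraMap A A')))).base x'))) ↑(X.residueField ((pullback.fst f (Spec.map (CommRingCat.ofHom (algebraMap A A')))).base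 x')) _ _ (f.residueFieldMap ((pullback.fst f (Spec.map (CommRingCat.ofHom (algebraMap A A')))).base x')).hom.toAlgebra = r) (hr' : @Algebra.trdeg ↑((Spec (CommRingCat.of A')).residueField ((pullback.snd f (Spec.map (CommRingCat.ofHom (algebraMap A A')))).base x')) ↑((pullback f (Spec.map (CommRingCat.ofHom (algebraMap A A')))).residueField x') _ _ ((pullback.snd f (Spec.map (CommRingCat.ofHom (algebraMap A A')))).residueFieldMap x').hom.toAlgebra = r') (ha : SGA2.relCodim I (f.base ((pullback.fst f (Spec.map (CommRingCat.ofHom (algebraMap A A')))).base x')) = a) (hb : SGA2.relCodim I' ((pullback.snd f (Spec.map (CommRingCat.ofHom (algebraMap A A')))).base x') = b) (he : ringKrullDim ↑(CInt.fiberStalk (pullback.fst f (Spec.map (CommRingCat.ofHom (algebraMap A A')))) x') = (e : WithBot ℕ∞)) : r + a ≤ r' + b + e := by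
  let g := Spec.map (CommRingCat.ofHom (algebraMap A A'))
  let sp : PrimeSpectrum A' := (pullback.snd f g).base x'
  let sa : PrimeSpectrum A := f.base ((pullback.fst f g).base x')
  have hsp : sa.asIdeal = sp.asIdeal.comap (algebraMap A A') := by
    have := congrArg (fun ψ : pullback f g ⟶ Spec (CommRingCat.of A) => ψ.base x')
      (pullback.condition (f := f) (g := g))
    exact congrArg PrimeSpectrum.asIdeal this
  obtain ⟨m', hm, hI, hb'⟩ := Groth.L04.LC.exists_of_relCodim_eq (p := sp) hb
  haveI := sp.2
  haveI := m'.2
  let m : PrimeSpectrum A := ⟨m'.asIdeal.comap (algebraMap A A'), Ideal.IsPrime.comap _⟩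
  have hle : sa ≤ m := hsp.le.trans (Ideal.comap_mono hm)
  have h1 : (a : ℕ∞) ≤ (m.asIdeal.map (Ideal.Quotient.mk sa.asIdeal)).height :=
    ha.symm.le.trans (Groth.L04.LC.relCodim_le hle (hTT m' hI))
  have h2 := Groth.L28.DeltaT.height_quotient_le (A := A) hcm hcat' sp.asIdeal m'.asIdeal hm
  have h3 := Groth.L28.DeltaT.add_le_trdeg_add_fibre (A := A) (A' := A') f x' r r' e hr hr' he
    sp.asIdeal rfl
  rw [hb'] at h2
  rw [hsp] at h1
  have h4 : ((r + a : ℕ) : ℕ∞) ≤ ((r' + b + e : ℕ) : ℕ∞) := by
    push_cast at h3 ⊢
    calc (r : ℕ∞) + a ≤ r + (b + _) := add_le_add le_rfl (h1.trans h2)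
      _ = b + (_ + r) := by rw [add_comm (r : ℕ∞), add_assoc]
      _ ≤ b + (r' + e) := add_le_add le_rfl h3
      _ = r' + b + e := by abel
  exact_mod_cast h4

end Groth.Agent.S5198
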