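import Groth.Statements.S5209
import Groth.Agent.L09.UEffEpi
import Mathlib.CategoryTheory.EquivalenceRelation
import Mathlib.CategoryTheory.Monoidal.Cartesian.Grp
import Mathlib.CategoryTheory.Comma.Over.Pullback
import Mathlib.CategoryTheory.Limits.Shapes.BinaryProducts
import Mathlib.CategoryTheory.Limits.Shapes.KernelPair
import Mathlib.CategoryTheory.Limits.Shapes.Diagonal

set_option autoImplicit false
open CategoryTheory CategoryTheory.Limits
universe w v₁ u₁
open DescCat

namespace Groth.Agent.S5209
open CategoryTheory Category Limits MonoidalCategory Groth.L09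
attribute [local simp] prod.lift_fst prod.lift_snd prod.map_fst prod.map_snd prod.lift_fst_assoc prod.lift_snd_assoc prod.map_fst_assoc prod.map_snd_assoc prod.map_map pullback.lift_fst pullback.lift_snd pullback.lift_fst_assoc pullback.lift_snd_assoc

/-- In a category with pullbacks, let `f : S' ⟶ S` be a universal effective epimorphism, that is, a
morphism all of whose base changes are effective epimorphisms. Then a morphism `g` over `S` is an
isomorphism (resp. a monomorphism) if and only if its base change along `f` is. -/
theorem result {C : Type u₁} [Category.{v₁} C] [HasPullbacks C]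
    {S' S : C} (f : S' ⟶ S) (hf : (MorphismProperty.universally (fun (A B : C) (p : A ⟶ B) => EffectiveEpi p)) f) {X Y : Over S} (g : X ⟶ Y) :
    (IsIso g ↔ IsIso ((Over.pullback f).map g)) ∧ (Mono g ↔ Mono ((Over.pullback f).map g)) := by
  let g' : pullback X.hom f ⟶ pullback Y.hom f := ((Over.pullback f).map g).left
  have hfst : g' ≫ pullback.fst Y.hom f = pullback.fst X.hom f ≫ g.left := pullback.lift_fst _ _ _
  have hsnd : g' ≫ pullback.snd Y.hom f = pullback.snd X.hom f := pullback.lift_snd _ _ _
  have hmono : Mono ((Over.pullback f).map g) → Mono g.left := by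
    intro h
    have : Mono g' := Over.mono_left_of_mono ((Over.pullback f).map g)
    refine ⟨fun {Z} a b hab => ?_⟩
    have := UEffEpi.epi (UEffEpi.pullback_fst hf (a ≫ X.hom))
    rw [← cancel_epi (pullback.fst (a ≫ X.hom) f)]
    have hb : b ≫ X.hom = a ≫ X.hom := by rw [← Over.w g, ← assoc, ← hab, assoc]
    let a' : pullback (a ≫ X.hom) f ⟶ pullback X.hom f :=
      pullback.lift (pullback.fst _ _ ≫ a) (pullback.snd _ _) (by rw [assoc]; exact pullback.condition)
    let b' : pullback (a ≫ X.hom) f ⟶ pullback X.hom f :=
      pullback.lift (pullback.fst _ _ ≫ b) (pullback.snd _ _) (by rw [assoc, hb]; exact pullback.condition)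
    have a1 : a' ≫ pullback.fst X.hom f = pullback.fst (a ≫ X.hom) f ≫ a := pullback.lift_fst _ _ _
    have a2 : a' ≫ pullback.snd X.hom f = pullback.snd (a ≫ X.hom) f := pullback.lift_snd _ _ _
    have b1 : b' ≫ pullback.fst X.hom f = pullback.fst (a ≫ X.hom) f ≫ b := pullback.lift_fst _ _ _
    have b2 : b' ≫ pullback.snd X.hom f = pullback.snd (a ≫ X.hom) f := pullback.lift_snd _ _ _
    have he : a' ≫ g' = b' ≫ g' := by
      apply pullback.hom_ext
      · rw [assoc, assoc, hfst, reassoc_of% a1, reassoc_of% b1, hab]
      · rw [assoc, assoc, hsnd, a2, b2]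
    rw [← a1, ← b1, (cancel_mono g').mp he]
  refine ⟨⟨fun _ => inferInstance, fun h => ?_⟩, ⟨fun _ => ?_, fun h => ?_⟩⟩
  · have := hmono inferInstance
    have : IsIso g' := inferInstanceAs (IsIso ((Over.forget _).map ((Over.pullback f).map g)))
    have := UEffEpi.effectiveEpi (UEffEpi.pullback_fst hf Y.hom)
    have hq : (CategoryTheory.inv g' ≫ pullback.fst X.hom f) ≫ g.left = pullback.fst Y.hom f := by
      rw [assoc, ← hfst, IsIso.inv_hom_id_assoc]
    let k := EffectiveEpi.desc (pullback.fst Y.hom f) (CategoryTheory.inv g' ≫ pullback.fst X.hom f)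
      (fun g₁ g₂ h => by rw [← cancel_mono g.left]; simpa [assoc, hq] using (by simpa [← hq, assoc] using h))
    have hk : k ≫ g.left = 𝟙 _ := by
      rw [← cancel_epi (pullback.fst Y.hom f), EffectiveEpi.fac_assoc]
      simpa [assoc] using hq
    have : IsIso ((Over.forget S).map g) := ⟨k, (cancel_mono g.left).mp (by simp [assoc, hk]), hk⟩
    exact isIso_of_reflects_iso g (Over.forget S)
  · exact inferInstance
  · have := hmono h
    exact Over.mono_of_mono_left g

end Groth.Agent.S5209
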