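import Groth.Statements.S5210
import Groth.Agent.L09.UEffEpi
import Mathlib.CategoryTheory.EquivalenceRelation
import Mathlib.CategoryTheory.Monoidal.Cartesian.Grp
import Mathlib.CategoryTheory.Comma.Over.Pullback
import Mathlib.CategoryTheory.Limits.Shapes.BinaryProducts
import Mathlib.CategoryTheory.Limits.Shapes.KernelPair
import Mathlib.CategoryTheory.Limits.Shapes.Diagonal

set_option autoImplicit false
open CategoryTheory CategoryTheory.Limits
universe w v₁ u₁
open DescCat

namespace Groth.Agent.S5210
open CategoryTheory Category Limits MonoidalCategory Groth.L09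
attribute [local simp] prod.lift_fst prod.lift_snd prod.map_fst prod.map_snd prod.lift_fst_assoc prod.lift_snd_assoc prod.map_fst_assoc prod.map_snd_assoc prod.map_map pullback.lift_fst pullback.lift_snd pullback.lift_fst_assoc pullback.lift_snd_assoc

/-- In a category with pullbacks, let `f : S' ⟶ S` be a universal effective epimorphism (all of its base
changes are effective epimorphisms) and `Y ⟶ S` a monomorphism. Then an object `X` over `S` admits a
morphism to `Y` over `S` if and only if it does so after base change along `f`. -/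
theorem result {C : Type u₁} [Category.{v₁} C] [HasPullbacks C]
    {S' S : C} (f : S' ⟶ S) (hf : (MorphismProperty.universally (fun (A B : C) (p : A ⟶ B) => EffectiveEpi p)) f) (X Y : Over S) [Mono Y.hom] :
    Nonempty (X ⟶ Y) ↔ Nonempty ((Over.pullback f).obj X ⟶ (Over.pullback f).obj Y) := by
  refine ⟨fun ⟨g⟩ => ⟨(Over.pullback f).map g⟩, fun ⟨h⟩ => ?_⟩
  let h' : pullback X.hom f ⟶ pullback Y.hom f := h.left
  have := UEffEpi.effectiveEpi (UEffEpi.pullback_fst hf X.hom)
  have hw : (h' ≫ pullback.fst Y.hom f) ≫ Y.hom = pullback.fst X.hom f ≫ X.hom := by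
    rw [assoc, pullback.condition, pullback.condition, ← assoc]
    exact congrArg (· ≫ f) (Over.w h)
  refine ⟨Over.homMk (EffectiveEpi.desc (pullback.fst X.hom f) (h' ≫ pullback.fst Y.hom f) fun g₁ g₂ e => ?_) ?_⟩
  · rw [← cancel_mono Y.hom, assoc g₁, assoc g₂, hw, reassoc_of% e]
  · show _ ≫ Y.hom = X.hom
    rw [← cancel_epi (pullback.fst X.hom f), EffectiveEpi.fac_assoc, hw]

end Groth.Agent.S5210
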