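import Groth.Statements.S5211
import Groth.Agent.L09.UEffEpi
import Mathlib.CategoryTheory.EquivalenceRelation
import Mathlib.CategoryTheory.Monoidal.Cartesian.Grp
import Mathlib.CategoryTheory.Comma.Over.Pullback
import Mathlib.CategoryTheory.Limits.Shapes.BinaryProducts
import Mathlib.CategoryTheory.Limits.Shapes.KernelPair
import Mathlib.CategoryTheory.Limits.Shapes.Diagonal

set_option autoImplicit false
open CategoryTheory CategoryTheory.Limits
universe w v₁ u₁
open DescCat

namespace Groth.Agent.S5211
open CategoryTheory Category Limits MonoidalCategory Groth.L09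
attribute [local simp] prod.lift_fst prod.lift_snd prod.map_fst prod.map_snd prod.lift_fst_assoc prod.lift_snd_assoc prod.map_fst_assoc prod.map_snd_assoc prod.map_map pullback.lift_fst pullback.lift_snd pullback.lift_fst_assoc pullback.lift_snd_assoc

/-- In a category with pullbacks: if `f : S' ⟶ S` is a universal effective epimorphism and the canonical
map `S' ×_S S' ⟶ S' ×_T S'` induced by `g : S ⟶ T` is an isomorphism, then `g` is a monomorphism. -/
theorem result {C : Type u₁} [Category.{v₁} C] [HasPullbacks C]
    {S' S T : C} (f : S' ⟶ S) (hf : (MorphismProperty.universally (fun (A B : C) (p : A ⟶ B) => EffectiveEpi p)) f) (g : S ⟶ T)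
    [IsIso (pullback.mapDesc f f g)] : Mono g := by
  refine ⟨fun {Z} a b hab => ?_⟩
  have := UEffEpi.epi (UEffEpi.pullback_fst hf a)
  have := UEffEpi.epi (UEffEpi.pullback_fst hf (pullback.fst a f ≫ b))
  rw [← cancel_epi (pullback.fst a f), ← cancel_epi (pullback.fst (pullback.fst a f ≫ b) f)]
  set q := pullback.fst (pullback.fst a f ≫ b) f
  let a' := q ≫ pullback.snd a f
  let b' := pullback.snd (pullback.fst a f ≫ b) f
  have ha : a' ≫ f = q ≫ pullback.fst a f ≫ a := by simp [a', pullback.condition]
  have hb : b' ≫ f = q ≫ pullback.fst a f ≫ b := by simp [b', q, pullback.condition]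
  let x := pullback.lift (f := f ≫ g) (g := f ≫ g) a' b' (by rw [reassoc_of% ha, reassoc_of% hb, hab])
  let y := x ≫ CategoryTheory.inv (pullback.mapDesc f f g)
  have hy : y ≫ pullback.mapDesc f f g = x := by simp [y]
  have h1 : y ≫ pullback.fst f f = a' := by
    simpa [pullback.mapDesc, pullback.map, x, pullback.lift_fst, pullback.lift_snd, pullback.lift_fst_assoc, pullback.lift_snd_assoc] using congrArg (· ≫ pullback.fst _ _) hy
  have h2 : y ≫ pullback.snd f f = b' := by
    simpa [pullback.mapDesc, pullback.map, x, pullback.lift_fst, pullback.lift_snd, pullback.lift_fst_assoc, pullback.lift_snd_assoc] using congrArg (· ≫ pullback.snd _ _) hy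
  rw [← ha, ← hb, ← h1, ← h2, assoc y, assoc y, pullback.condition]

end Groth.Agent.S5211
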