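import Groth.Statements.S5212
import Mathlib.RingTheory.Norm.Defs
import Mathlib.RingTheory.Ideal.GoingUp
import Mathlib.LinearAlgebra.Matrix.Charpoly.Coeff
import Mathlib.RingTheory.IntegralClosure.IsIntegralClosure.Basic

set_option autoImplicit false
universe u
open GrpQ

namespace Groth.Agent.S5212

/-- For `A'` finite and free as an `A`-module, a prime `p` of `A` and `a ∈ A'`, the element `a` belongs
to some prime of `A'` lying over `p` if and only if its norm belongs to `p`. (The published
statement allows `A'` projective of constant rank over `A`; this row takes `A'` free, where the norm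
is the determinant of multiplication.) -/
theorem result {A A' : Type u} [CommRing A] [CommRing A'] [Algebra A A']
    [Module.Free A A'] [Module.Finite A A'] (p : Ideal A) [p.IsPrime] (a : A') :
    (∃ q : Ideal A', q.IsPrime ∧ q.LiesOver p ∧ a ∈ q) ↔ Algebra.norm A a ∈ p := by
  classical
  let b := Module.Free.chooseBasis A A'
  constructor
  · rintro ⟨q, hq, hl, ha⟩
    let M := Algebra.leftMulMatrix b a
    have h : Polynomial.aeval a M.charpoly = 0 := Algebra.leftMulMatrix_injective b (by
      rw [map_zero, ← Polynomial.aeval_algHom_apply]; exact M.aeval_self_charpoly)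
    rw [← Polynomial.X_mul_divX_add M.charpoly, map_add, map_mul, Polynomial.aeval_X,
      Polynomial.aeval_C, add_eq_zero_iff_neg_eq] at h
    have hc : algebraMap A A' (M.charpoly.coeff 0) ∈ q := by
      rw [← h]; exact neg_mem (q.mul_mem_right _ ha)
    rw [← Ideal.mem_of_liesOver q p] at hc
    rw [Algebra.norm_eq_matrix_det b, Matrix.det_eq_sign_charpoly_coeff]
    exact p.mul_mem_left _ hc
  · intro hn
    by_cases h : (Ideal.span {a}).comap (algebraMap A A') ≤ p
    · obtain ⟨q, hq, hqp, hqc⟩ := Ideal.exists_ideal_over_prime_of_isIntegral p (Ideal.span {a}) h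
      exact ⟨q, hqp, ⟨hqc.symm⟩, hq (Ideal.mem_span_singleton_self a)⟩
    · obtain ⟨s, hs, hsp⟩ := SetLike.not_le_iff_exists.1 h
      obtain ⟨c, hc⟩ := Ideal.mem_span_singleton'.1 (Ideal.mem_comap.1 hs)
      refine absurd (Ideal.IsPrime.mem_of_pow_mem inferInstance (Fintype.card (Module.Free.ChooseBasisIndex A A')) ?_) hsp
      rw [← Algebra.norm_algebraMap_of_basis b s, ← hc, map_mul]
      exact p.mul_mem_left _ hn


end Groth.Agent.S5212
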