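import Groth.Statements.S5213
import Mathlib.LinearAlgebra.Matrix.NonsingularInverse
import Mathlib.LinearAlgebra.Determinant
import Mathlib.RingTheory.LocalRing.ResidueField.Basic
import Mathlib.RingTheory.Spectrum.Maximal.Basic
import Mathlib.LinearAlgebra.Dimension.Constructions
-- import your own Groth.Agent.* helpers here

set_option autoImplicit false
set_option linter.style.haveILetI false
universe u
open GrpQ

namespace Groth.Agent.S5213

/-- A submodule is not the union of finitely many proper ones when the residue field is infinite. -/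
theorem exists_avoid {B M : Type u} [CommRing B] [IsLocalRing B] [Infinite (IsLocalRing.ResidueField B)]
    [AddCommGroup M] [Module B M] (N : Submodule B M) {ι : Type*} [Finite ι] (S : ι → Submodule B M)
    (h : ∀ i, ∃ y ∈ N, y ∉ S i) : ∃ v ∈ N, ∀ i, v ∉ S i := by
  classical
  haveI := Fintype.ofFinite ι
  suffices hs : ∀ s : Finset ι, ∃ v ∈ N, ∀ i ∈ s, v ∉ S i by
    obtain ⟨v, hv, hvS⟩ := hs Finset.univ
    exact ⟨v, hv, fun i => hvS i (Finset.mem_univ i)⟩
  intro s
  induction s using Finset.induction_on with
  | empty => exact ⟨0, zero_mem _, fun i hi => absurd hi (Finset.notMem_empty i)⟩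
  | insert a s _ ih =>
    obtain ⟨y, hy, hyS⟩ := ih
    by_cases hya : y ∈ S a
    · obtain ⟨x, hx, hxa⟩ := h a
      let bad : ι → Set (IsLocalRing.ResidueField B) := fun i =>
        {r | ∃ c : B, IsLocalRing.residue B c = r ∧ x + c • y ∈ S i}
      have hbad : ∀ i ∈ s, (bad i).Subsingleton := by
        rintro i hi r ⟨c, rfl, hc⟩ r' ⟨c', rfl, hc'⟩
        by_contra hne
        have hu : IsUnit (c - c') := by
          rw [← IsLocalRing.residue_ne_zero_iff_isUnit, map_sub, sub_ne_zero]
          exact hne
        have hsub := (S i).sub_mem hc hc'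
        rw [add_sub_add_left_eq_sub, ← sub_smul] at hsub
        exact hyS i hi ((Submodule.smul_mem_iff_of_isUnit (S i) hu).1 hsub)
      obtain ⟨r, hr⟩ := (Set.Finite.biUnion s.finite_toSet fun i hi => (hbad i hi).finite).exists_notMem
      obtain ⟨c, rfl⟩ := IsLocalRing.residue_surjective r
      refine ⟨x + c • y, N.add_mem hx (N.smul_mem c hy), fun i hi hmem => ?_⟩
      rcases Finset.mem_insert.1 hi with rfl | hi
      · exact hxa ((Submodule.add_mem_iff_left _ ((S i).smul_mem c hya)).1 hmem)
      · exact hr (Set.mem_biUnion hi ⟨c, rfl, hmem⟩)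
    · exact ⟨y, hy, fun i hi => by
        rcases Finset.mem_insert.1 hi with rfl | hi
        · exact hya
        · exact hyS i hi⟩

/-- Let `B` be a local ring with infinite residue field, `A` a semi-local ring, `B → A` a ring map
carrying the maximal ideal of `B` into the Jacobson radical of `A`, `M` a finite free `A`-module and
`N` a `B`-submodule of `M` generating `M` as an `A`-module. Then `N` contains a basis of `M` over
`A`. -/
theorem result {B A M : Type u} [CommRing B] [CommRing A]
    [IsLocalRing B] [Infinite (IsLocalRing.ResidueField B)] [Algebra B A]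
    [Finite (MaximalSpectrum A)]
    (hBA : (IsLocalRing.maximalIdeal B).map (algebraMap B A) ≤ (⊥ : Ideal A).jacobson)
    [AddCommGroup M] [Module A M] [Module B M] [IsScalarTower B A M]
    [Module.Free A M] [Module.Finite A M]
    (N : Submodule B M) (hN : Submodule.span A (N : Set M) = ⊤) :
    ∃ b : Module.Basis (Fin (Module.finrank A M)) A M, ∀ i, b i ∈ N := by
  classical
  rcases subsingleton_or_nontrivial A with hA | hA
  · haveI : Subsingleton M := Module.subsingleton A M
    exact ⟨Module.Basis.ofRepr (LinearEquiv.ofSubsingleton _ _), fun i => by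
      rw [Subsingleton.elim (Module.Basis.ofRepr _ i) (0 : M)]; exact zero_mem _⟩
  let n := Module.finrank A M
  let b₀ : Module.Basis (Fin n) A M := Module.finBasis A M
  let π : ∀ m : MaximalSpectrum A, M →ₗ[A] (Fin n → A ⧸ m.asIdeal) := fun m =>
    (LinearMap.compLeft (Submodule.mkQ m.asIdeal) (Fin n)).comp b₀.equivFun.toLinearMap
  suffices h : ∀ t ≤ n, ∃ e : Fin t → M, (∀ i, e i ∈ N) ∧
      ∀ m : MaximalSpectrum A, LinearIndependent (A ⧸ m.asIdeal) (fun i => π m (e i)) by
    obtain ⟨e, he, hli⟩ := h n le_rfl
    have hdet : IsUnit (b₀.det e) := by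
      rw [Module.Basis.det_apply]
      by_contra hu
      obtain ⟨m, hm, hmem⟩ := exists_max_ideal_of_mem_nonunits hu
      letI := Ideal.Quotient.field m
      have hli' : LinearIndependent (A ⧸ m) ((b₀.toMatrix e).map (Ideal.Quotient.mk m)).col := by
        have h0 := hli ⟨m, hm⟩
        convert h0 using 1
        funext i j
        simp [π, Module.Basis.toMatrix_apply, Matrix.col_def, Matrix.transpose_apply]
      rw [Matrix.linearIndependent_cols_iff_isUnit, Matrix.isUnit_iff_isUnit_det] at hli'
      refine hli'.ne_zero ?_
      exact (RingHom.map_det (Ideal.Quotient.mk m) (b₀.toMatrix e)).symm.trans (Ideal.Quotient.eq_zero_iff_mem.2 hmem)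
    obtain ⟨h1, h2⟩ := (Module.Basis.is_basis_iff_det b₀).2 hdet
    exact ⟨Module.Basis.mk h1 h2.ge, fun i => by rw [Module.Basis.mk_apply]; exact he i⟩
  intro t
  induction t with
  | zero => exact fun _ => ⟨Fin.elim0, fun i => i.elim0, fun m => linearIndependent_empty_type⟩
  | succ t ih =>
    intro ht
    obtain ⟨e, he, hli⟩ := ih (by omega)
    let S : MaximalSpectrum A → Submodule B M := fun m =>
      (((Submodule.span (A ⧸ m.asIdeal) (Set.range fun i => π m (e i))).restrictScalars A).comap (π m)).restrictScalars B
    have hS : ∀ m, ∃ y ∈ N, y ∉ S m := by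
      intro m
      by_contra hh
      push Not at hh
      have htop : ((Submodule.span (A ⧸ m.asIdeal) (Set.range fun i => π m (e i))).restrictScalars A).comap (π m) = ⊤ :=
        top_le_iff.1 (hN ▸ Submodule.span_le.2 hh)
      have hsurj : Function.Surjective (π m) := by
        intro w
        choose c hc using fun j => Ideal.Quotient.mk_surjective (w j)
        refine ⟨b₀.equivFun.symm c, funext fun j => ?_⟩
        show Submodule.mkQ m.asIdeal (b₀.equivFun (b₀.equivFun.symm c) j) = w j
        rw [LinearEquiv.apply_symm_apply]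
        exact hc j
      have hspan : Submodule.span (A ⧸ m.asIdeal) (Set.range fun i => π m (e i)) = ⊤ := by
        refine top_le_iff.1 fun w _ => ?_
        obtain ⟨x, rfl⟩ := hsurj w
        have hx : x ∈ ((Submodule.span (A ⧸ m.asIdeal) (Set.range fun i => π m (e i))).restrictScalars A).comap (π m) :=
          htop ▸ Submodule.mem_top
        exact hx
      letI := Ideal.Quotient.field m.asIdeal
      have := finrank_span_eq_card (hli m)
      rw [hspan, finrank_top, Module.finrank_fin_fun, Fintype.card_fin] at this
      omega
    have hmS : ∀ m, ∀ c ∈ IsLocalRing.maximalIdeal B, ∀ x : M, c • x ∈ S m := by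
      intro m c hc x
      simp only [S, Submodule.restrictScalars_mem, Submodule.mem_comap]
      rw [← algebraMap_smul A c x, map_smul]
      have h0 : algebraMap B A c ∈ m.asIdeal := by
        have := hBA (Ideal.mem_map_of_mem _ hc)
        rw [Ideal.jacobson, Ideal.mem_sInf] at this
        exact this ⟨bot_le, m.isMaximal⟩
      have : algebraMap B A c • π m x = 0 := funext fun j => by
        rw [Pi.smul_apply, Algebra.smul_def]
        simp [Ideal.Quotient.eq_zero_iff_mem.2 h0]
      rw [this]
      exact zero_mem _
    obtain ⟨v, hv, hvS⟩ := exists_avoid N S hS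
    refine ⟨Fin.cons v e, fun i => Fin.cases (by simpa using hv) (by simpa using he) i, fun m => ?_⟩
    letI := Ideal.Quotient.field m.asIdeal
    have : (fun i => π m ((Fin.cons v e : Fin (t + 1) → M) i)) = Fin.cons (π m v) (fun i => π m (e i)) := by
      funext i; refine Fin.cases ?_ ?_ i <;> simp
    rw [this, linearIndependent_finCons]
    exact ⟨hli m, hvS m⟩

end Groth.Agent.S5213
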