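import Groth.Statements.S5214
import Groth.Agent.L09.UEffEpi
import Mathlib.CategoryTheory.EquivalenceRelation
import Mathlib.CategoryTheory.Monoidal.Cartesian.Grp
import Mathlib.CategoryTheory.Comma.Over.Pullback
import Mathlib.CategoryTheory.Limits.Shapes.BinaryProducts
import Mathlib.CategoryTheory.Limits.Shapes.KernelPair
import Mathlib.CategoryTheory.Limits.Shapes.Diagonal

set_option autoImplicit false
open CategoryTheory CategoryTheory.Limits
universe w v₁ u₁
open DescCat

namespace Groth.Agent.S5214
open CategoryTheory Category Limits MonoidalCategory Groth.L09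
attribute [local simp] prod.lift_fst prod.lift_snd prod.map_fst prod.map_snd prod.lift_fst_assoc prod.lift_snd_assoc prod.map_fst_assoc prod.map_snd_assoc prod.map_map pullback.lift_fst pullback.lift_snd pullback.lift_fst_assoc pullback.lift_snd_assoc

/-- In a category with pullbacks and binary products: the product `u × u'` of two universal effective
epimorphisms (morphisms all of whose base changes are effective epimorphisms) is a universal
effective epimorphism. -/
theorem result {C : Type u₁} [Category.{v₁} C] [HasPullbacks C] [HasBinaryProducts C]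
    {X Y X' Y' : C} (u : X ⟶ Y) (u' : X' ⟶ Y')
    (hu : (MorphismProperty.universally (fun (A B : C) (p : A ⟶ B) => EffectiveEpi p)) u) (hu' : (MorphismProperty.universally (fun (A B : C) (p : A ⟶ B) => EffectiveEpi p)) u') :
    (MorphismProperty.universally (fun (A B : C) (p : A ⟶ B) => EffectiveEpi p)) (prod.map u u') := by
  have h1 : IsPullback (prod.map u (𝟙 X')) (prod.fst : X ⨯ X' ⟶ X) (prod.fst : Y ⨯ X' ⟶ Y) u := by
    refine UEffEpi.isPullback_mk (by simp) (fun a b hab => ⟨prod.lift b (a ≫ prod.snd), ?_, by simp⟩) (fun l m e₁ e₂ => ?_)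
    · apply Limits.prod.hom_ext
      · simpa using hab.symm
      · simp
    · apply Limits.prod.hom_ext
      · exact e₂
      · simpa using congrArg (· ≫ (prod.snd : Y ⨯ X' ⟶ X')) e₁
  have h2 : IsPullback (prod.map (𝟙 Y) u') (prod.snd : Y ⨯ X' ⟶ X') (prod.snd : Y ⨯ Y' ⟶ Y') u' := by
    refine UEffEpi.isPullback_mk (by simp) (fun a b hab => ⟨prod.lift (a ≫ prod.fst) b, ?_, by simp⟩) (fun l m e₁ e₂ => ?_)
    · apply Limits.prod.hom_ext
      · simp
      · simpa using hab.symm
    · apply Limits.prod.hom_ext
      · simpa using congrArg (· ≫ (prod.fst : Y ⨯ Y' ⟶ Y)) e₁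
      · exact e₂
  rw [show prod.map u u' = prod.map u (𝟙 X') ≫ prod.map (𝟙 Y) u' by simp [prod.map_map]]
  exact UEffEpi.comp (UEffEpi.of_isPullback hu h1) (UEffEpi.of_isPullback hu' h2)

end Groth.Agent.S5214
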