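import Groth.Statements.S5215
import Groth.Agent.L09.UEffEpi
import Mathlib.CategoryTheory.EquivalenceRelation
import Mathlib.CategoryTheory.Monoidal.Cartesian.Grp
import Mathlib.CategoryTheory.Comma.Over.Pullback
import Mathlib.CategoryTheory.Limits.Shapes.BinaryProducts
import Mathlib.CategoryTheory.Limits.Shapes.KernelPair
import Mathlib.CategoryTheory.Limits.Shapes.Diagonal

set_option autoImplicit false
open CategoryTheory CategoryTheory.Limits
universe w v₁ u₁
open DescCat

namespace Groth.Agent.S5215
open CategoryTheory Category Limits MonoidalCategory Groth.L09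
attribute [local simp] prod.lift_fst prod.lift_snd prod.map_fst prod.map_snd prod.lift_fst_assoc prod.lift_snd_assoc prod.map_fst_assoc prod.map_snd_assoc prod.map_map pullback.lift_fst pullback.lift_snd pullback.lift_fst_assoc pullback.lift_snd_assoc

/-- In a category with pullbacks: for a universally effective equivalence relation `p₁, p₂ : R ⇉ X` with
quotient map `π : X ⟶ X/R` and a morphism `g` out of the quotient, `g` is a monomorphism if and only
if `R` is the kernel pair of `π ≫ g`. -/
theorem result {C : Type u₁} [Category.{v₁} C] [HasPullbacks C]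
    {R X Z : C} {p₁ p₂ : R ⟶ X} (e : UniversallyEffectiveEquivalenceRelation p₁ p₂)
    (f : X ⟶ Z) (g : e.B ⟶ Z) (hg : e.π ≫ g = f) :
    Mono g ↔ IsKernelPair f p₁ p₂ := by
  subst hg
  have hk : IsKernelPair e.π p₁ p₂ := e.toEffectiveEquivalenceRelation.isKernelPair
  constructor
  · intro _
    exact IsKernelPair.comp_of_mono hk
  · intro h
    refine ⟨fun {W} a b hab => ?_⟩
    have hf := e.universally_effectiveEpi_π
    have := UEffEpi.epi (UEffEpi.pullback_fst hf a)
    have := UEffEpi.epi (UEffEpi.pullback_fst hf (pullback.fst a e.π ≫ b))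
    rw [← cancel_epi (pullback.fst a e.π), ← cancel_epi (pullback.fst (pullback.fst a e.π ≫ b) e.π)]
    set q := pullback.fst (pullback.fst a e.π ≫ b) e.π
    let a' := q ≫ pullback.snd a e.π
    let b' := pullback.snd (pullback.fst a e.π ≫ b) e.π
    have ha : a' ≫ e.π = q ≫ pullback.fst a e.π ≫ a := by simp [a', pullback.condition]
    have hb : b' ≫ e.π = q ≫ pullback.fst a e.π ≫ b := by simp [b', q, pullback.condition]
    obtain ⟨y, h1, h2⟩ : ∃ y, y ≫ p₁ = a' ∧ y ≫ p₂ = b' :=
      ⟨h.lift a' b' (by rw [reassoc_of% ha, reassoc_of% hb, hab]), h.lift_fst _ _ _, h.lift_snd _ _ _⟩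
    rw [← ha, ← hb, ← h1, ← h2, assoc, assoc, hk.w]


end Groth.Agent.S5215
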