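import Groth.Statements.S5222
import Groth.Agent.L09.UEffEpi
import Mathlib.CategoryTheory.EquivalenceRelation
import Mathlib.CategoryTheory.Monoidal.Cartesian.Grp
import Mathlib.CategoryTheory.Comma.Over.Pullback
import Mathlib.CategoryTheory.Limits.Shapes.BinaryProducts
import Mathlib.CategoryTheory.Limits.Shapes.KernelPair
import Mathlib.CategoryTheory.Limits.Shapes.Diagonal

set_option autoImplicit false
open CategoryTheory CategoryTheory.Limits MonoidalCategory
universe v₁ u₁
open DescCat

namespace Groth.Agent.S5222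
open CategoryTheory Category Limits MonoidalCategory Groth.L09
attribute [local simp] prod.lift_fst prod.lift_snd prod.map_fst prod.map_snd prod.lift_fst_assoc prod.lift_snd_assoc prod.map_fst_assoc prod.map_snd_assoc prod.map_map pullback.lift_fst pullback.lift_snd pullback.lift_fst_assoc pullback.lift_snd_assoc

open MonObj CartesianMonoidalCategory SemiCartesianMonoidalCategory in
/-- In a cartesian monoidal category with pullbacks: for a homomorphism `f : G ⟶ G'` of group objects
with kernel `K = G ×_{G'} e`, the pair `G × K ⇉ G` given by the projection and by multiplication is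
the kernel pair of `f`. -/
theorem result {C : Type u₁} [Category.{v₁} C]
    [CartesianMonoidalCategory C] [HasPullbacks C]
    {G G' : C} [GrpObj G] [GrpObj G'] (f : G ⟶ G') [IsMonHom f] :
    IsKernelPair f (fst G (pullback f η[G']))
      ((G ◁ pullback.fst f η[G']) ≫ μ[G]) := by
  have hmul : ∀ {T : C} (a b : T ⟶ G), (a * b) ≫ f = (a ≫ f) * (b ≫ f) := fun a b =>
    (IsMonHom.monoidHom f _).map_mul a b
  have hone : ∀ {T : C} (k : T ⟶ pullback f η[G']), (k ≫ pullback.fst f η[G']) ≫ f = 1 := fun k => by
    rw [assoc, pullback.condition, Hom.one_def, ← assoc]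
    congr 1
    exact toUnit_unique _ _
  have hsnd : ∀ {T : C} (m : T ⟶ G ⊗ pullback f η[G']), m ≫ (G ◁ pullback.fst f η[G']) ≫ μ[G] =
      (m ≫ fst _ _) * (m ≫ snd _ _ ≫ pullback.fst f η[G']) := fun m => by
    rw [Hom.mul_def, ← assoc]
    congr 1
    ext <;> simp
  refine UEffEpi.isPullback_mk ?_ (fun a b hab => ?_) (fun l m e₁ e₂ => ?_)
  · have h := hsnd (𝟙 (G ⊗ pullback f η[G']))
    simp only [id_comp] at h
    show fst _ _ ≫ f = _ ≫ f
    rw [h, hmul, hone, _root_.mul_one]
  · have hs : (a⁻¹ * b) ≫ f = 1 := by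
      rw [hmul, ← hab, ← hmul, inv_mul_cancel]
      exact (IsMonHom.monoidHom f _).map_one
    refine ⟨CartesianMonoidalCategory.lift a (pullback.lift (a⁻¹ * b) (toUnit _) hs), by simp, ?_⟩
    rw [hsnd]; simp
  · rw [hsnd, hsnd, e₁, mul_right_inj] at e₂
    apply CartesianMonoidalCategory.hom_ext
    · exact e₁
    · apply pullback.hom_ext
      · simpa [assoc] using e₂
      · exact toUnit_unique _ _

end Groth.Agent.S5222
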