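import Groth.Statements.S5223
import Groth.Agent.S4656
import Groth.Agent.L20.FlatStalk
import Groth.Agent.L05.Point.UnramFlat
import Mathlib.AlgebraicGeometry.Morphisms.Flat

set_option autoImplicit false
open CategoryTheory CategoryTheory.Limits AlgebraicGeometry
universe u
open GrpQ

namespace Groth.Agent.S5223

set_option backward.isDefEq.respectTransparency.types false

/-- In a cartesian square of schemes `F₂ = F₁ ×_{X₀} X₁` whose bottom map `u : X₁ ⟶ X₀` is flat, the
base-changed map `d' : F₂ ⟶ X₁` is flat at a point `x` if and only if `d : F₁ ⟶ X₀` is flat at the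
image of `x` in `F₁`. -/
theorem result {F₂ F₁ X₁ X₀ : Scheme.{u}}
    {v : F₂ ⟶ F₁} {d' : F₂ ⟶ X₁} {d : F₁ ⟶ X₀} {u : X₁ ⟶ X₀}
    (h : IsPullback v d' d u) [Flat u] (x : F₂) :
    (d'.stalkMap x).hom.Flat ↔ (d.stalkMap (v.base x)).hom.Flat := by
  constructor
  · intro h'
    have hv : Flat v := MorphismProperty.of_isPullback h.flip ‹Flat u›
    have h1 : ((d' ≫ u).stalkMap x).hom.Flat := by
      rw [Scheme.Hom.stalkMap_comp]
      exact RingHom.Flat.comp (Flat.stalkMap u _) h'
    have h2 : ((v ≫ d).stalkMap x).hom.Flat := by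
      have key : ∀ (a b : F₂ ⟶ X₀), a = b → (a.stalkMap x).hom.Flat → (b.stalkMap x).hom.Flat := by
        rintro a b rfl hh; exact hh
      exact key _ _ h.w.symm h1
    exact (Groth.Agent.S4656.result v d x (Flat.stalkMap v x)).1 h2
  · intro hd
    let j₀ := F₁.fromSpecStalk (v x)
    have hflat : Flat (j₀ ≫ d) := by
      rw [← Scheme.SpecMap_stalkMap_fromSpecStalk]
      have : Flat (Spec.map (d.stalkMap (v x))) := (HasRingHomProperty.Spec_iff (P := @Flat)).2 hd
      have : Flat (X₀.fromSpecStalk (d (v x))) := Groth.L05.Point.flat_fromSpecStalk _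
      infer_instance
    have sq := (IsPullback.of_hasPullback j₀ v).flip
    have hfst : Flat (pullback.snd j₀ v ≫ d') :=
      MorphismProperty.of_isPullback ((IsPullback.of_hasPullback j₀ v).paste_vert h) hflat
    obtain ⟨x', -, hx'⟩ := Scheme.Pullback.exists_preimage_pullback (f := j₀) (g := v)
      (IsLocalRing.closedPoint _) x Scheme.fromSpecStalk_closedPoint
    have key : ∀ (a b : F₂), a = b → (d'.stalkMap a).hom.Flat → (d'.stalkMap b).hom.Flat := by
      rintro a b rfl hh; exact hh
    have hj₀ : Flat j₀ := Groth.L05.Point.flat_fromSpecStalk _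
    exact key _ _ hx' ((Groth.Agent.S4656.result (pullback.snd j₀ v) d' x' (Flat.stalkMap _ _)).1
      (Flat.stalkMap _ _))

end Groth.Agent.S5223
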