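import Groth.Statements.S5224
import Groth.Agent.L24.Boot.QuotRep
import Groth.Agent.L24.Boot.YonLemmas
import Groth.Agent.L24.St.LocPFppf
import Groth.Agent.L24.Quot.QuotSh
-- import your own Groth.Agent.* helpers here

set_option autoImplicit false
open CategoryTheory CategoryTheory.Limits AlgebraicGeometry
universe u
open GrpQ

set_option backward.isDefEq.respectTransparency false
set_option backward.isDefEq.respectTransparency.types false

namespace Groth.Agent.S5224

/-- For the fppf topology: let `s, t : R ⇉ U` be an equivalence relation of schemes over `S` with `s`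
faithfully flat and locally of finite presentation. A morphism `q : U ⟶ Y` over `S` is a faithfully
flat, locally finitely presented quotient with kernel pair `R` if and only if `q` identifies `h_Y`
with the fppf quotient sheaf `U/R`. -/
theorem result {S : Scheme.{u}} {R U Y : Over S} (s t : R ⟶ U)
    [IsEquivalenceRelation s t]
    [Flat s.left] [Surjective s.left] [LocallyOfFinitePresentation s.left]
    (q : U ⟶ Y) :
    (IsKernelPair q s t ∧ Flat q.left ∧ Surjective q.left ∧ LocallyOfFinitePresentation q.left) ↔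
      QuotSh.IsQuotient Scheme.fppfPrecoverage s t q := by
  constructor
  · rintro ⟨hk, hf, hs, hp⟩
    haveI := hf; haveI := hs; haveI := hp
    exact Groth.Agent.L24.Quot.isQuotient_of_isPullback hk
  · rintro ⟨w, hw⟩
    obtain ⟨e⟩ := IsEquivalenceRelation.nonempty_equivalenceRelation (p₁ := s) (p₂ := t)
    have hrel : AlgSp.IsEqvRel s t := by
      refine ⟨fun T r r' h₁ h₂ => e.right_cancellation r r' h₂ h₁, fun T => ⟨fun a => ?_, ?_, ?_⟩⟩
      · exact ⟨a ≫ e.r, by rw [Category.assoc, e.reflexivity₂, Category.comp_id],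
          by rw [Category.assoc, e.reflexivity₁, Category.comp_id]⟩
      · rintro a b ⟨r, rfl, rfl⟩
        exact ⟨r ≫ e.s, by rw [Category.assoc, e.symmetry₂], by rw [Category.assoc, e.symmetry₁]⟩
      · rintro a b c ⟨r, rfl, rfl⟩ ⟨r', hr', rfl⟩
        obtain ⟨l, h₁, h₂⟩ := PullbackCone.IsLimit.lift' e.isLimit r' r hr'
        exact ⟨l ≫ e.t, by rw [Category.assoc, e.transitivity₂, reassoc_of% h₂],
          by rw [Category.assoc, e.transitivity₁, reassoc_of% h₁]⟩
    have sq := Groth.L24.Boot.isPullback_quotSpπ (Groth.L24.Boot.isEqvRelSp_of_isEqvRel hrel)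
    let π := AlgSp.quotSpπ ((AlgSp.yon S).map s) ((AlgSp.yon S).map t)
    let Φ : AlgSp.quotSp ((AlgSp.yon S).map s) ((AlgSp.yon S).map t) ≅ (AlgSp.yon S).obj Y :=
      (Groth.L24.Boot.quotIso s t).symm ≪≫ @asIso _ _ _ _ _ hw ≪≫
        QuotSh.repIsoUliftYoneda Scheme.fppfPrecoverage Y
    have hπ : π ≫ Φ.hom = (AlgSp.yon S).map q := by
      have h₁ : π ≫ (Groth.L24.Boot.quotIso s t).inv =
          (QuotSh.repIsoUliftYoneda Scheme.fppfPrecoverage U).inv ≫ QuotSh.quotπ Scheme.fppfPrecoverage s t :=
        HasColimit.isoOfNatIso_ι_inv _ WalkingParallelPair.one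
      simp only [Φ, Iso.trans_hom, Iso.symm_hom, asIso_hom, reassoc_of% h₁]
      have h₂ : QuotSh.quotπ Scheme.fppfPrecoverage s t ≫ QuotSh.quotDesc Scheme.fppfPrecoverage q w =
          QuotSh.repMap Scheme.fppfPrecoverage q := coequalizer.π_desc _ _
      rw [reassoc_of% h₂, Groth.L24.Boot.repMap_comp_iso, Iso.inv_hom_id_assoc]
    have sqθ : IsPullback (𝟙 ((AlgSp.yon S).obj U)) ((AlgSp.yon S).map q) π Φ.inv :=
      IsPullback.of_horiz_isIso ⟨by rw [Category.id_comp, ← hπ, Category.assoc, Iso.hom_inv_id, Category.comp_id]⟩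
    have htf : Flat t.left := by
      have : IsIso e.s := ⟨e.s, e.right_cancellation _ _ (by rw [Category.assoc, e.symmetry₁, e.symmetry₂, Category.id_comp]) (by rw [Category.assoc, e.symmetry₂, e.symmetry₁, Category.id_comp]), e.right_cancellation _ _ (by rw [Category.assoc, e.symmetry₁, e.symmetry₂, Category.id_comp]) (by rw [Category.assoc, e.symmetry₂, e.symmetry₁, Category.id_comp])⟩
      rw [← e.symmetry₁, Over.comp_left]; infer_instance
    have htp : LocallyOfFinitePresentation t.left := by
      have : IsIso e.s := ⟨e.s, e.right_cancellation _ _ (by rw [Category.assoc, e.symmetry₁, e.symmetry₂, Category.id_comp]) (by rw [Category.assoc, e.symmetry₂, e.symmetry₁, Category.id_comp]), e.right_cancellation _ _ (by rw [Category.assoc, e.symmetry₁, e.symmetry₂, Category.id_comp]) (by rw [Category.assoc, e.symmetry₂, e.symmetry₁, Category.id_comp])⟩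
      rw [← e.symmetry₁, Over.comp_left]; infer_instance
    obtain ⟨-, ⟨hs, hf⟩, hp⟩ := Groth.L24.Boot.isAlgSpace_pullback_of_kernelPair sq (AlgSp.IsAlgSpace.yon_obj R)
      (AlgSp.IsAlgSpace.yon_obj U)
      (Groth.L23.locP_of_repWith Groth.L23.etLocal_flat (Groth.L23.repWith_map htf))
      (Groth.L23.locP_of_repWith Groth.L23.etLocal_lfp (Groth.L23.repWith_map htp)) Φ.inv sqθ
    refine ⟨?_, Groth.L24.St.prop_of_locP_map hf, Groth.L24.Boot.surjective_of_points q hs,
      Groth.L24.St.prop_of_locP_map hp⟩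
    exact (IsPullback.of_map (AlgSp.yon S) ((AlgSp.yon S).map_injective (by
        rw [Functor.map_comp, Functor.map_comp, ← hπ, ← Category.assoc, ← Category.assoc, sq.w]))
      (sq.of_iso (Iso.refl _) (Iso.refl _) (Iso.refl _) Φ (by simp) (by simp) (by simp [π, hπ]) (by simp [π, hπ]))).flip

end Groth.Agent.S5224
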