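import Groth.Statements.S5225
import Groth.Agent.L24.Quot.EtaleQuot
import Groth.Agent.S5224
import Mathlib.AlgebraicGeometry.Morphisms.LocalFlatDescent

set_option autoImplicit false
set_option backward.isDefEq.respectTransparency false
set_option backward.isDefEq.respectTransparency.types false
open CategoryTheory CategoryTheory.Limits AlgebraicGeometry
universe u
open GrpQ

namespace Groth.Agent.S5225

/-- For the étale topology: let `s, t : R ⇉ U` be an equivalence relation of schemes over `S` with `s`
étale and surjective. A morphism `q : U ⟶ Y` over `S` is an étale surjective quotient with kernel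
pair `R` if and only if `q` identifies `h_Y` with the étale quotient sheaf `U/R`. -/
theorem result {S : Scheme.{u}} {R U Y : Over S} (s t : R ⟶ U)
    [IsEquivalenceRelation s t] [Etale s.left] [Surjective s.left]
    (q : U ⟶ Y) :
    (IsKernelPair q s t ∧ Etale q.left ∧ Surjective q.left) ↔
      QuotSh.IsQuotient Scheme.etalePrecoverage s t q := by
  constructor
  · rintro ⟨hk, he, hs⟩
    exact Groth.L24.Quot.isQuotient_of_isPullback_etale hk
  · intro h
    obtain ⟨hk, hf, hs, hp⟩ := (Groth.Agent.S5224.result s t q).2 (Groth.L24.Quot.isQuotient_fppf_of_etale h)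
    have sq := hk.map (Over.forget S)
    refine ⟨hk, ?_, hs⟩
    exact MorphismProperty.of_isPullback_of_descendsAlong (P := @Etale)
      (Q := (@Surjective ⊓ @Flat ⊓ @LocallyOfFinitePresentation : MorphismProperty Scheme.{u}))
      sq ⟨⟨hs, hf⟩, hp⟩ ‹Etale s.left›

end Groth.Agent.S5225
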