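import Groth.Statements.S5226
import Groth.Agent.L09.ShfRel
import Groth.Prelude.Def_W4sga3iivvp2RelPsh
import Mathlib.CategoryTheory.Sites.Over
import Mathlib.CategoryTheory.Sites.SheafOfTypes
import Mathlib.CategoryTheory.Subobject.Basic
import Mathlib.CategoryTheory.Monoidal.Cartesian.Basic

set_option autoImplicit false
open CategoryTheory CategoryTheory.Limits
universe w v₁ u₁
open ShfCat

namespace Groth.Agent.S5226
open CategoryTheory Category Limits Opposite Groth.L09

/-- For sheaves of sets on a site with sheafification: if `R ⇉ X` is an equivalence relation with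
(universally effective) quotient `X/R` and `Y ⊆ X` is a subsheaf with induced relation `R_Y`, then
the canonical map `Y/R_Y ⟶ X/R` is a monomorphism. Here `R_Y` is built as the iterated pullback of
`R` along `Y ⟶ X` on both sides. -/
theorem result {C : Type u₁} [Category.{v₁} C]
    (J : GrothendieckTopology C) [HasSheafify J (Type w)]
    {R X Y : Sheaf J (Type w)} {p₁ p₂ : R ⟶ X} (e : UniversallyEffectiveEquivalenceRelation p₁ p₂)
    (ι : Y ⟶ X) [Mono ι]
    [HasCoequalizer (pullback.fst (pullback.fst p₁ ι ≫ p₂) ι ≫ pullback.snd p₁ ι)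
      (pullback.snd (pullback.fst p₁ ι ≫ p₂) ι)]
    (g : coequalizer (pullback.fst (pullback.fst p₁ ι ≫ p₂) ι ≫ pullback.snd p₁ ι)
      (pullback.snd (pullback.fst p₁ ι ≫ p₂) ι) ⟶ e.B)
    (hg : coequalizer.π _ _ ≫ g = ι ≫ e.π) :
    Mono g := by
  set q := coequalizer.π (pullback.fst (pullback.fst p₁ ι ≫ p₂) ι ≫ pullback.snd p₁ ι)
    (pullback.snd (pullback.fst p₁ ι ≫ p₂) ι)
  have hq := ShfRel.shf_universally_effectiveEpi q
  refine ⟨fun {W} a b hab => ?_⟩
  have := UEffEpi.epi (UEffEpi.pullback_fst hq a)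
  have := UEffEpi.epi (UEffEpi.pullback_fst hq (pullback.fst a q ≫ b))
  rw [← cancel_epi (pullback.fst a q), ← cancel_epi (pullback.fst (pullback.fst a q ≫ b) q)]
  set c := pullback.fst (pullback.fst a q ≫ b) q
  have ha : (c ≫ pullback.snd a q) ≫ q = c ≫ pullback.fst a q ≫ a := by simp [assoc, pullback.condition]
  have hb : pullback.snd (pullback.fst a q ≫ b) q ≫ q = c ≫ pullback.fst a q ≫ b := by simp [c, pullback.condition]
  set a' := c ≫ pullback.snd a q
  set b' := pullback.snd (pullback.fst a q ≫ b) q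
  have hπ : (a' ≫ ι) ≫ e.π = (b' ≫ ι) ≫ e.π := by
    rw [assoc a', assoc b', ← hg, ← assoc a', ← assoc b', ha, hb]
    simp only [assoc, hab]
  let r := e.isKernelPair.lift _ _ hπ
  have r1 : r ≫ p₁ = a' ≫ ι := e.isKernelPair.lift_fst _ _ _
  have r2 : r ≫ p₂ = b' ≫ ι := e.isKernelPair.lift_snd _ _ _
  let l := pullback.lift r a' r1
  let m : _ ⟶ pullback (pullback.fst p₁ ι ≫ p₂) ι := pullback.lift l b'
    (by rw [← assoc, pullback.lift_fst]; exact r2)
  have := congrArg (m ≫ ·) (coequalizer.condition (pullback.fst (pullback.fst p₁ ι ≫ p₂) ι ≫ pullback.snd p₁ ι)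
    (pullback.snd (pullback.fst p₁ ι ≫ p₂) ι))
  simp only [assoc, m, l, pullback.lift_fst_assoc, pullback.lift_snd_assoc] at this
  rw [← ha, ← hb]
  exact this

end Groth.Agent.S5226
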