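import Groth.Statements.S5227
import Groth.Agent.L09.ShfRel
import Groth.Prelude.Def_W4sga3iivvp2RelPsh
import Mathlib.CategoryTheory.Sites.Over
import Mathlib.CategoryTheory.Sites.SheafOfTypes
import Mathlib.CategoryTheory.Subobject.Basic
import Mathlib.CategoryTheory.Monoidal.Cartesian.Basic
import Groth.Agent.S5226

set_option autoImplicit false
open CategoryTheory CategoryTheory.Limits
universe w v₁ u₁
open ShfCat

namespace Groth.Agent.S5227
open CategoryTheory Category Limits Opposite Groth.L09

/-- For sheaves of sets on a site with sheafification: for an equivalence relation `R ⇉ X` with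
(universally effective) quotient `π : X ⟶ X/R`, inverse image along `π` is a bijection from the
subsheaves of `X/R` onto the subsheaves of `X` stable under `R` (those whose two inverse images in
`R` agree). -/
theorem result {C : Type u₁} [Category.{v₁} C]
    (J : GrothendieckTopology C) [HasSheafify J (Type w)]
    {R X : Sheaf J (Type w)} {p₁ p₂ : R ⟶ X} (e : UniversallyEffectiveEquivalenceRelation p₁ p₂) :
    Function.Injective (Subobject.pullback e.π).obj ∧
      Set.range (Subobject.pullback e.π).obj =
        {Y : Subobject X | (Subobject.pullback p₁).obj Y = (Subobject.pullback p₂).obj Y} := by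
  have hπ := e.universally_effectiveEpi_π
  constructor
  · have key : ∀ K K' : Subobject e.B, (Subobject.pullback e.π).obj K ≤ (Subobject.pullback e.π).obj K' → K ≤ K' := by
      intro K K' h
      rw [Subobject.pullback_obj, Subobject.pullback_obj] at h
      have := UEffEpi.effectiveEpi (UEffEpi.pullback_fst hπ K.arrow)
      have hk : (Subobject.ofMkLEMk _ _ h ≫ pullback.fst K'.arrow e.π) ≫ K'.arrow = pullback.fst K.arrow e.π ≫ K.arrow := by
        rw [assoc, pullback.condition, reassoc_of% (Subobject.ofMkLEMk_comp h), pullback.condition]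
      obtain ⟨k, hk⟩ := ShfRel.exists_lift_of_mono (pullback.fst K.arrow e.π) K'.arrow K.arrow _ hk
      exact Subobject.le_of_comm k hk
    exact fun K K' h => le_antisymm (key K K' h.le) (key K' K h.ge)
  · ext Y
    constructor
    · rintro ⟨K, rfl⟩
      show (Subobject.pullback p₁).obj _ = (Subobject.pullback p₂).obj _
      rw [← Subobject.pullback_comp, ← Subobject.pullback_comp, e.isKernelPair.w]
    · intro hY
      have hY' : (Subobject.pullback p₁).obj Y = (Subobject.pullback p₂).obj Y := hY
      rw [Subobject.pullback_obj, Subobject.pullback_obj] at hY'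
      let ι := Y.arrow
      let a := pullback.fst (pullback.fst p₁ ι ≫ p₂) ι ≫ pullback.snd p₁ ι
      let b := pullback.snd (pullback.fst p₁ ι ≫ p₂) ι
      have hab : a ≫ ι ≫ e.π = b ≫ ι ≫ e.π := by
        have h1 : a ≫ ι = pullback.fst (pullback.fst p₁ ι ≫ p₂) ι ≫ pullback.fst p₁ ι ≫ p₁ := by
          simp only [a, assoc, pullback.condition]
        have h2 : b ≫ ι = pullback.fst (pullback.fst p₁ ι ≫ p₂) ι ≫ pullback.fst p₁ ι ≫ p₂ := by
          simp only [b, ← pullback.condition, assoc]
        rw [reassoc_of% h1, reassoc_of% h2, e.isKernelPair.w]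
      let q := coequalizer.π a b
      let g := coequalizer.desc (ι ≫ e.π) hab
      have hg : q ≫ g = ι ≫ e.π := coequalizer.π_desc _ _
      have hq := ShfRel.shf_universally_effectiveEpi q
      have : Mono g := Groth.Agent.S5226.result J e ι g hg
      refine ⟨Subobject.mk g, ?_⟩
      have hs : IsPullback (pullback.fst g e.π) (pullback.snd g e.π) g e.π := IsPullback.of_hasPullback _ _
      rw [Subobject.pullback_obj_mk hs]
      apply le_antisymm
      · let x := pullback.snd g e.π
        let c := pullback.fst (pullback.fst g e.π) q
        let y := pullback.snd (pullback.fst g e.π) q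
        have hc : (y ≫ ι) ≫ e.π = (c ≫ x) ≫ e.π := by
          rw [assoc, ← hg, ← reassoc_of% (show c ≫ pullback.fst g e.π = y ≫ q from pullback.condition), assoc]
          exact congrArg (c ≫ ·) pullback.condition
        let r := e.isKernelPair.lift _ _ hc
        have r1 : r ≫ p₁ = y ≫ ι := e.isKernelPair.lift_fst _ _ _
        have r2 : r ≫ p₂ = c ≫ x := e.isKernelPair.lift_snd _ _ _
        let z := pullback.lift y r r1.symm ≫ Subobject.ofMkLEMk _ _ hY'.le
        have hz : z ≫ pullback.snd ι p₂ = r := by
          simp only [z, assoc]
          rw [Subobject.ofMkLEMk_comp]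
          exact pullback.lift_snd _ _ _
        have hl : (z ≫ pullback.fst ι p₂) ≫ ι = c ≫ x := by
          rw [assoc, pullback.condition, reassoc_of% hz, r2]
        have := UEffEpi.effectiveEpi (UEffEpi.pullback_fst hq (pullback.fst g e.π))
        obtain ⟨k, hk⟩ := ShfRel.exists_lift_of_mono c ι x _ hl
        exact Subobject.mk_le_of_comm k hk
      · exact Subobject.le_mk_of_comm (pullback.lift q ι hg) (pullback.lift_snd _ _ _)


end Groth.Agent.S5227
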