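import Groth.Statements.S5229
import Groth.Agent.L09.UEffEpi
import Mathlib.CategoryTheory.EquivalenceRelation
import Mathlib.CategoryTheory.Monoidal.Cartesian.Grp
import Mathlib.CategoryTheory.Comma.Over.Pullback
import Mathlib.CategoryTheory.Limits.Shapes.BinaryProducts
import Mathlib.CategoryTheory.Limits.Shapes.KernelPair
import Mathlib.CategoryTheory.Limits.Shapes.Diagonal

set_option autoImplicit false
open CategoryTheory CategoryTheory.Limits
universe v₁ u₁
open DescCat

namespace Groth.Agent.S5229
open CategoryTheory Category Limits MonoidalCategory Groth.L09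
attribute [local simp] prod.lift_fst prod.lift_snd prod.map_fst prod.map_snd prod.lift_fst_assoc prod.lift_snd_assoc prod.map_fst_assoc prod.map_snd_assoc prod.map_map pullback.lift_fst pullback.lift_snd pullback.lift_fst_assoc pullback.lift_snd_assoc

/-- For universal effective epimorphisms, in a category with pullbacks and binary products: for two
universally effective equivalence relations `R ⇉ X` and `R' ⇉ X'` with quotient maps `π` and `π'`,
the product relation `R × R' ⇉ X × X'` is the kernel pair of `π × π'`. (Together with the fact that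
a product of two universal effective epimorphisms is again one, this says that `(X × X')/(R × R')`
is `(X/R) × (X'/R')`; only the kernel-pair assertion is stated here.) -/
theorem result {C : Type u₁} [Category.{v₁} C]
    [HasPullbacks C] [HasBinaryProducts C]
    {R X R' X' : C} {p₁ p₂ : R ⟶ X} {p₁' p₂' : R' ⟶ X'}
    (e : UniversallyEffectiveEquivalenceRelation p₁ p₂)
    (e' : UniversallyEffectiveEquivalenceRelation p₁' p₂') :
    IsKernelPair (prod.map e.π e'.π) (prod.map p₁ p₁') (prod.map p₂ p₂') := by
  have h : IsKernelPair e.π p₁ p₂ := e.toEffectiveEquivalenceRelation.isKernelPair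
  have h' : IsKernelPair e'.π p₁' p₂' := e'.toEffectiveEquivalenceRelation.isKernelPair
  refine UEffEpi.isPullback_mk (by rw [prod.map_map, prod.map_map, h.w, h'.w]) (fun a b hab => ?_) (fun l m e₁ e₂ => ?_)
  · have c1 : (a ≫ prod.fst) ≫ e.π = (b ≫ prod.fst) ≫ e.π := by
      simpa [assoc] using congrArg (· ≫ (prod.fst : e.B ⨯ e'.B ⟶ e.B)) hab
    have c2 : (a ≫ prod.snd) ≫ e'.π = (b ≫ prod.snd) ≫ e'.π := by
      simpa [assoc] using congrArg (· ≫ (prod.snd : e.B ⨯ e'.B ⟶ e'.B)) hab
    refine ⟨prod.lift (h.lift _ _ c1) (h'.lift _ _ c2), ?_, ?_⟩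
    · apply Limits.prod.hom_ext <;> simp
    · apply Limits.prod.hom_ext <;> simp
  · apply Limits.prod.hom_ext
    · apply h.hom_ext
      · simpa [assoc] using congrArg (· ≫ (prod.fst : X ⨯ X' ⟶ X)) e₁
      · simpa [assoc] using congrArg (· ≫ (prod.fst : X ⨯ X' ⟶ X)) e₂
    · apply h'.hom_ext
      · simpa [assoc] using congrArg (· ≫ (prod.snd : X ⨯ X' ⟶ X')) e₁
      · simpa [assoc] using congrArg (· ≫ (prod.snd : X ⨯ X' ⟶ X')) e₂

end Groth.Agent.S5229
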