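import Groth.Statements.S5231
import Groth.Agent.L09.ShfRel
import Groth.Prelude.Def_W4sga3iivvp2RelPsh
import Mathlib.CategoryTheory.Sites.Over
import Mathlib.CategoryTheory.Sites.SheafOfTypes
import Mathlib.CategoryTheory.Subobject.Basic
import Mathlib.CategoryTheory.Monoidal.Cartesian.Basic

set_option autoImplicit false
open CategoryTheory
universe w v₁ u₁
open ShfCat

namespace Groth.Agent.S5231
open CategoryTheory Category Limits Opposite Groth.L09

/-- (iii) ⇒ (i): a morphism `f` of sheaves of sets on a site is a monomorphism (resp. an epimorphism) as
soon as, for every object `S`, the morphisms `T ⟶ S` over which the restriction of `f` to the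
induced site `C/T` is a monomorphism (resp. an epimorphism) form a covering sieve. No sheafification
is assumed. (The published statement also treats isomorphisms in the same way; that case is left out
here.) -/
theorem result {C : Type u₁} [Category.{v₁} C]
    (J : GrothendieckTopology C) {F G : Sheaf J (Type w)} (f : F ⟶ G) :
    ((∀ S : C, ∃ R : Sieve S, R ∈ J S ∧ ∀ ⦃T : C⦄ (g : T ⟶ S), R g →
        Mono ((J.overPullback (Type w) T).map f)) → Mono f) ∧
    ((∀ S : C, ∃ R : Sieve S, R ∈ J S ∧ ∀ ⦃T : C⦄ (g : T ⟶ S), R g →
        Epi ((J.overPullback (Type w) T).map f)) → Epi f) := by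
  constructor
  · intro h
    refine ⟨fun {K} a b hab => ?_⟩
    ext U x
    induction U with
    | op U =>
      obtain ⟨R, hR, hm⟩ := h U
      refine (((isSheaf_iff_isSheaf_of_type _ _).mp F.property) R hR).isSeparatedFor.ext fun T g hg => ?_
      refine (NatTrans.naturality_apply a.hom g.op x).symm.trans (Eq.trans ?_ (NatTrans.naturality_apply b.hom g.op x))
      have := hm g hg
      have e : (J.overPullback (Type w) T).map a = (J.overPullback (Type w) T).map b := by
        rw [← cancel_mono ((J.overPullback (Type w) T).map f), ← Functor.map_comp, ← Functor.map_comp, hab]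
      exact congrArg (fun k => k.hom.app (op (Over.mk (𝟙 T))) (K.obj.map g.op x)) e
  · intro h
    refine ⟨fun {K} a b hab => ?_⟩
    ext U x
    induction U with
    | op U =>
      obtain ⟨R, hR, hm⟩ := h U
      refine (((isSheaf_iff_isSheaf_of_type _ _).mp K.property) R hR).isSeparatedFor.ext fun T g hg => ?_
      refine (NatTrans.naturality_apply a.hom g.op x).symm.trans (Eq.trans ?_ (NatTrans.naturality_apply b.hom g.op x))
      have := hm g hg
      have e : (J.overPullback (Type w) T).map a = (J.overPullback (Type w) T).map b := by
        rw [← cancel_epi ((J.overPullback (Type w) T).map f), ← Functor.map_comp, ← Functor.map_comp, hab]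
      exact congrArg (fun k => k.hom.app (op (Over.mk (𝟙 T))) (G.obj.map g.op x)) e

end Groth.Agent.S5231
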