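import Groth.Statements.S5232
import Groth.Agent.L24.GrpQ.FppfChart
import Groth.Agent.L20.SchDesc.Main
import Groth.Agent.L20.SchDesc.Fppf
import Groth.Agent.L20.QuasiAffine
import Groth.Agent.L24.Boot.QuotRep
import Groth.Agent.L23.AffineMor

set_option autoImplicit false
open CategoryTheory CategoryTheory.Limits AlgebraicGeometry
universe u
open GrpQ

namespace Groth.Agent.S5232

set_option backward.isDefEq.respectTransparency.types false
set_option linter.style.haveILetI false

/-- On the big fppf site of a scheme `S`, in the case where the local representing objects are affine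
over the cover (so that the canonical descent datum is effective): if `Z` is an fppf sheaf over `S`
and, for an fppf cover `S' ⟶ S`, the sheaf `Z ×_S S'` is represented over `S'` by a scheme affine
over `S'`, then `Z` is represented by a scheme affine over `S`. -/
theorem result {S S' : Scheme.{u}} (f : S' ⟶ S)
    [Flat f] [Surjective f] [LocallyOfFinitePresentation f]
    (Z : QuotSh.Sh Scheme.fppfPrecoverage S)
    (T' : Over S) (a : T' ⟶ Over.mk f) [IsAffineHom a.left]
    (φ : QuotSh.rep Scheme.fppfPrecoverage T' ≅ Z ⨯ QuotSh.rep Scheme.fppfPrecoverage (Over.mk f))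
    (hφ : φ.hom ≫ prod.snd = QuotSh.repMap Scheme.fppfPrecoverage a) :
    ∃ T : Over S, IsAffineHom T.hom ∧ Nonempty (QuotSh.rep Scheme.fppfPrecoverage T ≅ Z) := by
  let K := Scheme.fppfPrecoverage.{u}
  let iT := QuotSh.repIsoUliftYoneda K T'
  let i' := QuotSh.repIsoUliftYoneda K (Over.mk f)
  let T₀ : Over S := Over.mk (𝟙 S)
  let b : Over.mk f ⟶ T₀ := Over.homMk f (Category.comp_id f)
  have hT₀ : IsTerminal T₀ := Over.mkIdTerminal
  have hF : IsTerminal ((AlgSp.yon S).obj T₀) := IsTerminal.isTerminalObj _ _ hT₀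
  let ψ : (AlgSp.yon S).obj T' ≅ Z ⨯ (AlgSp.yon S).obj (Over.mk f) :=
    iT.symm ≪≫ φ ≪≫ prod.mapIso (Iso.refl Z) i'
  have hψ : ψ.hom ≫ prod.snd = (AlgSp.yon S).map a := by
    simp only [ψ, Iso.trans_hom, prod.mapIso_hom, Category.assoc, prod.map_snd, Iso.symm_hom]
    rw [reassoc_of% hφ, Groth.L24.Boot.repMap_comp_iso, Iso.inv_hom_id_assoc]
  have sq₀ : IsPullback (ψ.hom ≫ prod.fst) ((AlgSp.yon S).map a) (hF.from Z) (hF.from _) :=
    (IsPullback.of_is_product (prodIsProd Z ((AlgSp.yon S).obj (Over.mk f))) hF).of_iso ψ.symm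
      (Iso.refl _) (Iso.refl _) (Iso.refl _) (by simp) (by simp [← hψ]) (by simp) (by simp)
  have sq : IsPullback (ψ.hom ≫ prod.fst) ((AlgSp.yon S).map a) (hF.from Z)
      ((AlgSp.yon S).map b ≫ 𝟙 _) := by
    rwa [hF.hom_ext ((AlgSp.yon S).map b ≫ 𝟙 _) (hF.from _)]
  haveI : Flat b.left := ‹Flat f›
  haveI : Surjective b.left := ‹Surjective f›
  haveI : LocallyOfFinitePresentation b.left := ‹LocallyOfFinitePresentation f›
  have haff : MoreMor.IsIndQuasiAffineHom a.left :=
    Groth.L20.isIndQuasiAffineHom_of_isQuasiAffineHom a.left ⟨inferInstance, fun O hO => by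
      have : IsAffine (a.left ⁻¹ᵁ O).toScheme := hO.preimage a.left
      infer_instance⟩
  haveI : MorphismProperty.IsLocalAtTarget (@IsAffineHom : MorphismProperty Scheme.{u})
      Scheme.fppfPrecoverage := Groth.L23.isLocalAtTarget_fppf _
  obtain ⟨W, sW, δ, hδ, hW⟩ := Groth.L20.SchDesc.exists_isPullback_of_effective_fppf a b sq
    (@IsAffineHom) (inferInstance : IsAffineHom a.left)
    (Groth.L20.SchDesc.effective_of_isIndQuasiAffineHom haff _)
  haveI : IsIso δ := hδ.isIso_fst_of_isIso
  haveI : IsAffineHom sW.left := hW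
  refine ⟨W, ?_, ⟨QuotSh.repIsoUliftYoneda K W ≪≫ asIso δ⟩⟩
  rw [← Over.w sW]
  show IsAffineHom (sW.left ≫ 𝟙 S)
  exact (Category.comp_id sW.left).symm ▸ hW

end Groth.Agent.S5232
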