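import Groth.Statements.S5234
import Groth.Agent.L25.Actions

set_option autoImplicit false
open CategoryTheory CategoryTheory.Limits AlgebraicGeometry MonoidalCategory
universe u
open RedSub

namespace Groth.Agent.S5234

open CartesianMonoidalCategory SemiCartesianMonoidalCategory in
/-- (ii) ⇔ (iii), for schemes with the fppf topology: let `G` be an `S`-group scheme which is faithfully
flat and locally of finite presentation over `S`, acting on `X` so that `X` is formally principal
homogeneous. Then `X` is a torsor (its structure map is faithfully flat and locally of finite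
presentation) if and only if `X` has a point over some faithfully flat, locally finitely presented
`S' ⟶ S`. -/
theorem result {S : Scheme.{u}} {G X : Over S} [GrpObj G]
    (a : AlgGrp.Action G X)
    [Flat G.hom] [Surjective G.hom] [LocallyOfFinitePresentation G.hom]
    (hX : IsIso (lift a.act (snd G X))) :
    RedSub.IsTorsor a ↔
      ∃ S' : Over S, Surjective S'.hom ∧ Flat S'.hom ∧ LocallyOfFinitePresentation S'.hom ∧
        Nonempty (S' ⟶ X) := by
  constructor
  · rintro ⟨h1, h2, h3, -⟩
    exact ⟨X, h1, h2, h3, ⟨𝟙 X⟩⟩
  · rintro ⟨S', h1, h2, h3, ⟨x⟩⟩
    have hinv : ∀ (T : Over S) (y x : T ⟶ X), ∃! g : T ⟶ G, lift g x ≫ a.act = y := by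
      intro T y x
      refine ⟨lift y x ≫ inv (lift a.act (CartesianMonoidalCategory.snd G X)) ≫ CartesianMonoidalCategory.fst G X, ?_, ?_⟩
      · dsimp only
        have e : lift y x ≫ inv (lift a.act (CartesianMonoidalCategory.snd G X)) ≫ CartesianMonoidalCategory.snd G X = x := by
          have h := IsIso.inv_hom_id (lift a.act (CartesianMonoidalCategory.snd G X))
          have h' := congrArg (fun f => lift y x ≫ f ≫ CartesianMonoidalCategory.snd X X) h
          simpa using h'
        conv_lhs => arg 1; arg 2; rw [← e]
        rw [← comp_lift, ← comp_lift, lift_fst_snd, Category.comp_id, Category.assoc]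
        have h := congrArg (fun f => lift y x ≫ f ≫ CartesianMonoidalCategory.fst X X) (IsIso.inv_hom_id (lift a.act (CartesianMonoidalCategory.snd G X)))
        simpa using h
      · intro g hg
        have h : lift g x ≫ lift a.act (CartesianMonoidalCategory.snd G X) = lift y x := by rw [comp_lift, hg, lift_snd]
        rw [← h, Category.assoc, IsIso.hom_inv_id_assoc, lift_fst]
    let e : G ⊗ S' ≅ X ⊗ S' :=
      { hom := lift (lift (CartesianMonoidalCategory.fst G S') (CartesianMonoidalCategory.snd G S' ≫ x) ≫ a.act) (CartesianMonoidalCategory.snd G S')
        inv := lift (lift (CartesianMonoidalCategory.fst X S') (CartesianMonoidalCategory.snd X S' ≫ x) ≫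
            inv (lift a.act (CartesianMonoidalCategory.snd G X)) ≫ CartesianMonoidalCategory.fst G X) (CartesianMonoidalCategory.snd X S')
        hom_inv_id := by
          refine CartesianMonoidalCategory.hom_ext _ _ ?_ ?_
          · rw [Category.assoc, lift_fst, ← Category.assoc, comp_lift, lift_fst, ← Category.assoc _ (CartesianMonoidalCategory.snd X S') x, lift_snd, Category.id_comp]
            have h : lift (CartesianMonoidalCategory.fst G S') (CartesianMonoidalCategory.snd G S' ≫ x) ≫ lift a.act (CartesianMonoidalCategory.snd G X) =
                lift (lift (CartesianMonoidalCategory.fst G S') (CartesianMonoidalCategory.snd G S' ≫ x) ≫ a.act) (CartesianMonoidalCategory.snd G S' ≫ x) := by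
              rw [comp_lift, lift_snd]
            rw [← h, Category.assoc, IsIso.hom_inv_id_assoc, lift_fst]
          · simp
        inv_hom_id := by
          refine CartesianMonoidalCategory.hom_ext _ _ ?_ ?_
          · rw [Category.assoc, lift_fst, ← Category.assoc, comp_lift, lift_fst, ← Category.assoc _ (CartesianMonoidalCategory.snd G S') x, lift_snd, Category.id_comp]
            obtain ⟨g, hg, hg'⟩ := hinv _ (CartesianMonoidalCategory.fst X S') (CartesianMonoidalCategory.snd X S' ≫ x)
            have : lift (CartesianMonoidalCategory.fst X S') (CartesianMonoidalCategory.snd X S' ≫ x) ≫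
                inv (lift a.act (CartesianMonoidalCategory.snd G X)) ≫ CartesianMonoidalCategory.fst G X = g := by
              rw [← hg]
              have h : lift g (CartesianMonoidalCategory.snd X S' ≫ x) ≫ lift a.act (CartesianMonoidalCategory.snd G X) =
                lift (lift g (CartesianMonoidalCategory.snd X S' ≫ x) ≫ a.act) (CartesianMonoidalCategory.snd X S' ≫ x) := by
                rw [comp_lift, lift_snd]
              rw [← h, Category.assoc, IsIso.hom_inv_id_assoc, lift_fst]
            rw [this]; exact hg
          · simp }
    have key : ∀ (P : MorphismProperty Scheme.{u}) [P.IsStableUnderBaseChange]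
        [P.DescendsAlong (@Surjective ⊓ @Flat ⊓ @LocallyOfFinitePresentation)], P G.hom → P X.hom := by
      intro P _ _ hP
      have : P.RespectsIso := MorphismProperty.IsStableUnderBaseChange.respectsIso
      have hG : P (CartesianMonoidalCategory.snd G S').left :=
        MorphismProperty.of_isPullback (Groth.L25.Actions.isPullback_snd G S') hP
      have he : e.hom ≫ CartesianMonoidalCategory.snd X S' = CartesianMonoidalCategory.snd G S' := lift_snd _ _
      rw [← he, Over.comp_left] at hG
      have : IsIso e.hom := Iso.isIso_hom e
      haveI : IsIso e.hom.left := inferInstanceAs (IsIso ((Over.forget S).map e.hom))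
      rw [MorphismProperty.cancel_left_of_respectsIso P] at hG
      exact MorphismProperty.of_isPullback_of_descendsAlong (Q := @Surjective ⊓ @Flat ⊓ @LocallyOfFinitePresentation)
        (Groth.L25.Actions.isPullback_snd X S').flip ⟨⟨h1, h2⟩, h3⟩ hG
    have i0 := Groth.L25.Actions.descendsAlong_flat_fpqc
    have i1 := AlgebraicGeometry.instDescendsAlongSchemeMinMorphismPropertySurjectiveFlatLocallyOfFinitePresentationOfQuasiCompactOfIsZariskiLocalAtTarget (@Surjective : MorphismProperty Scheme.{u})
    have z2 : IsZariskiLocalAtTarget (@Flat : MorphismProperty Scheme.{u}) :=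
      HasRingHomProperty.instIsZariskiLocalAtTarget (P := @Flat)
    have i2 := AlgebraicGeometry.instDescendsAlongSchemeMinMorphismPropertySurjectiveFlatLocallyOfFinitePresentationOfQuasiCompactOfIsZariskiLocalAtTarget (@Flat : MorphismProperty Scheme.{u})
    have z3 : IsZariskiLocalAtTarget (@LocallyOfFinitePresentation : MorphismProperty Scheme.{u}) :=
      HasRingHomProperty.instIsZariskiLocalAtTarget (P := @LocallyOfFinitePresentation)
    have i3 := AlgebraicGeometry.instDescendsAlongSchemeMinMorphismPropertySurjectiveFlatLocallyOfFinitePresentationOfQuasiCompactOfIsZariskiLocalAtTarget (@LocallyOfFinitePresentation : MorphismProperty Scheme.{u})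
    refine ⟨?_, ?_, ?_, hX⟩
    · exact @key (@Surjective : MorphismProperty Scheme.{u}) inferInstance i1 inferInstance
    · exact @key (@Flat : MorphismProperty Scheme.{u}) inferInstance i2 inferInstance
    · exact @key (@LocallyOfFinitePresentation : MorphismProperty Scheme.{u}) inferInstance i3 inferInstance
end Groth.Agent.S5234
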