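import Groth.Statements.S5238
import Groth.Agent.L06.QFFlatCover
import Mathlib.AlgebraicGeometry.Sites.Fpqc
import Mathlib.AlgebraicGeometry.Sites.SheafQuasiCompact

set_option autoImplicit false
open CategoryTheory AlgebraicGeometry
universe w u
open GrpQ

namespace Groth.Agent.S5238

set_option backward.isDefEq.respectTransparency.types false
set_option backward.isDefEq.respectTransparency false
set_option linter.style.haveILetI false

open CategoryTheory CategoryTheory.Limits AlgebraicGeometry Opposite

variable {F : Scheme.{u}ᵒᵖ ⥤ Type w}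

/-- separatedness for quasi-finite fppf covers of arbitrary schemes -/
theorem separated_qf (hzar : Presheaf.IsSheaf Scheme.zariskiTopology F)
    (hqf : ∀ (T S : Scheme.{u}) [IsAffine T] [IsAffine S] (f : T ⟶ S)
          [Flat f] [Surjective f] [LocallyOfFinitePresentation f] [LocallyQuasiFinite f],
          Presieve.IsSheafFor F (Presieve.singleton f))
    {S' S W : Scheme.{u}} [IsAffine S'] [IsAffine S] (g : S' ⟶ S)
    [Flat g] [Surjective g] [LocallyOfFinitePresentation g] [LocallyQuasiFinite g] (q : W ⟶ S) :
    Function.Injective (F.map (pullback.snd g q).op) := by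
  intro x y hxy
  have hz : Presieve.IsSheaf Scheme.zariskiTopology F := (isSheaf_iff_isSheaf_of_type _ _).mp hzar
  have hsep := (hz.isSheafFor (Presieve.ofArrows W.affineCover.X W.affineCover.f)
    (Scheme.Cover.mem_grothendieckTopology W.affineCover)).isSeparatedFor
  refine hsep.ext ?_
  rintro Z _ ⟨i⟩
  let ι := W.affineCover.f i
  have h1 := (hqf _ _ (pullback.snd g (ι ≫ q))).isSeparatedFor
  rw [Presieve.isSeparatedFor_singleton] at h1
  apply h1
  let m : pullback g (ι ≫ q) ⟶ pullback g q :=
    pullback.map g (ι ≫ q) g q (𝟙 _) ι (𝟙 _) (by simp) (by simp)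
  have hm : m ≫ pullback.snd g q = pullback.snd g (ι ≫ q) ≫ ι := pullback.lift_snd _ _ _
  have := congrArg (F.map m.op) hxy
  rw [← Functor.map_comp_apply, ← Functor.map_comp_apply, ← op_comp, hm, op_comp,
    Functor.map_comp_apply, Functor.map_comp_apply] at this
  exact this

theorem fppf_eq_propQC : Scheme.fppfTopology.{u} =
    Scheme.propQCTopology ((@Flat : MorphismProperty Scheme.{u}) ⊓ @LocallyOfFinitePresentation) := by
  refine congrArg Precoverage.toGrothendieck ?_
  refine le_antisymm (le_inf ?_ le_rfl) inf_le_right
  exact Scheme.precoverage_le_qcPrecoverage_of_isOpenMap fun X Y f ⟨_, _⟩ ↦ f.isOpenMap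


/-- A presheaf of sets on schemes is a sheaf for the fppf topology (the topology generated by jointly
surjective families of flat morphisms locally of finite presentation) if and only if it is a Zariski
sheaf and satisfies the sheaf condition for every single morphism of affine schemes `T ⟶ S` which is
flat, surjective, locally of finite presentation and locally quasi-finite. (Between affine schemes
such a morphism is faithfully flat, of finite presentation and quasi-finite; that these quasi-finite
covers suffice rests on the existence of quasi-finite flat quasi-sections of flat surjective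
morphisms locally of finite presentation.) -/
theorem result (F : Scheme.{u}ᵒᵖ ⥤ Type w) :
    Presheaf.IsSheaf Scheme.fppfTopology F ↔
      Presheaf.IsSheaf Scheme.zariskiTopology F ∧
        ∀ (T S : Scheme.{u}) [IsAffine T] [IsAffine S] (f : T ⟶ S)
          [Flat f] [Surjective f] [LocallyOfFinitePresentation f] [LocallyQuasiFinite f],
          Presieve.IsSheafFor F (Presieve.singleton f) := by
  constructor
  · intro hF
    rw [isSheaf_iff_isSheaf_of_type] at hF
    refine ⟨(isSheaf_iff_isSheaf_of_type _ _).mpr (Presieve.isSheaf_of_le _ (Precoverage.toGrothendieck_mono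
      Scheme.zariskiPrecoverage_le_fppfPrecoverage) hF), ?_⟩
    intro T S _ _ f _ _ _ _
    exact hF.isSheafFor _
      (Precoverage.generate_mem_toGrothendieck f.singleton_mem_fppfPrecoverage)
  · rintro ⟨hzar, hqf⟩
    haveI hfl : MorphismProperty.IsMultiplicative (@Flat : MorphismProperty Scheme.{u}) := inferInstance
    haveI hm : MorphismProperty.IsMultiplicative ((@Flat : MorphismProperty Scheme.{u}) ⊓ @LocallyOfFinitePresentation) :=
      { id_mem := fun X => ⟨hfl.id_mem X, inferInstanceAs (LocallyOfFinitePresentation (𝟙 X))⟩
        comp_mem := fun a b ha hb => ⟨hfl.comp_mem a b ha.1 hb.1, by haveI : LocallyOfFinitePresentation a := ha.2; haveI : LocallyOfFinitePresentation b := hb.2; exact inferInstanceAs (LocallyOfFinitePresentation (a ≫ b))⟩ }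
    rw [isSheaf_iff_isSheaf_of_type, fppf_eq_propQC, isSheaf_type_propQCTopology_iff]
    refine ⟨(isSheaf_iff_isSheaf_of_type _ _).mp hzar, fun {R R'} φ hφ hs => ?_⟩
    obtain ⟨hfl, hfp⟩ := hφ
    obtain ⟨S', g, h, hh, hgf, hgp, hgq, hgs, haff⟩ := Groth.L06.QFFlatCover.exists_cover (Spec.map φ)
    haveI : IsAffine S' := haff inferInstance
    rw [Presieve.isSheafFor_iff_generate]
    refine Presieve.isSheafFor_subsieve_aux F (S := Sieve.generate (Presieve.singleton g)) ?_ ?_ ?_
    · rintro Z _ ⟨W, a, _, ⟨⟩, rfl⟩
      exact ⟨_, a ≫ h, Spec.map φ, ⟨⟩, by rw [Category.assoc, hh]⟩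
    · exact (Presieve.isSheafFor_iff_generate _).mp (hqf S' _ g)
    · intro Y q _
      rw [← Sieve.pullbackArrows_comm, ← Presieve.isSeparatedFor_iff_generate,
        Presieve.pullback_singleton, Presieve.isSeparatedFor_singleton]
      exact separated_qf hzar hqf g q

end Groth.Agent.S5238
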