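import Groth.Statements.S5252
import Groth.Agent.L25.MultType.Isotrivial
import Groth.Agent.S2969
import Mathlib.RingTheory.Etale.Field

set_option autoImplicit false
universe u
open TensorProduct SGA3b
open SGA3b

namespace Groth.Agent.S5252

/-- Let A be an Artinian local ring with residue field k and H = Spec C an affine A-group with C flat
and of finite type over A, whose closed fibre Spec (k ⊗ C) is a k-group of multiplicative type. Then
H is of multiplicative type and isotrivial. (Affine group schemes over an affine base are taken in
Hopf-algebra form; base change is the tensor product; a homomorphism of groups Spec A ⟶ Spec C is a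
bialgebra map C → A.) -/
theorem result (A : Type u) [CommRing A] [IsArtinianRing A] [IsLocalRing A]
    (C : Type u) [CommRing C] [HopfAlgebra A C] [Module.Flat A C] (hft : Algebra.FiniteType A C)
    (h0 : IsMultType (IsLocalRing.ResidueField A) (IsLocalRing.ResidueField A ⊗[A] C)) :
    IsMultType A C ∧ IsIsotrivial A C := by
  haveI := hft
  have hiso : IsIsotrivial (IsLocalRing.ResidueField A) (IsLocalRing.ResidueField A ⊗[A] C) := by
    obtain ⟨k', _, _, hfin, hsep, M, _, -, he⟩ :=
      Groth.Agent.S2969.result (IsLocalRing.ResidueField A) _ inferInstance h0
    haveI : Algebra.FormallyEtale (IsLocalRing.ResidueField A) k' := Algebra.FormallyEtale.of_isSeparable _ _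
    haveI : Algebra.FinitePresentation (IsLocalRing.ResidueField A) k' :=
      Algebra.FinitePresentation.of_finiteType.1 inferInstance
    exact ⟨k', inferInstance, inferInstance, ⟨inferInstance, inferInstance⟩, hfin, inferInstance, M, inferInstance, he⟩
  have hnil : IsNilpotent (RingHom.ker (algebraMap A (IsLocalRing.ResidueField A))) := by
    rw [IsLocalRing.ResidueField.algebraMap_eq, IsLocalRing.ker_residue,
      ← IsLocalRing.jacobson_eq_maximalIdeal (⊥ : Ideal A) bot_ne_top]
    exact IsArtinianRing.isNilpotent_jacobson_bot
  have h2 := Groth.L25.MultType.isIsotrivial_of_nilpotent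
    (P := A) (B := IsLocalRing.ResidueField A) IsLocalRing.residue_surjective hnil hiso
  exact ⟨Groth.L25.MultType.isMultType_of_isIsotrivial h2, h2⟩
end Groth.Agent.S5252
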