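import Groth.Statements.S5254
import Groth.Agent.L25.MultType.KillTrivial

set_option autoImplicit false
universe u
open TensorProduct SGA3b
open SGA3b

namespace Groth.Agent.S5254

/-- Over a local base, where an open neighbourhood of the closed point is the whole base: Let R be a
local ring with maximal ideal 𝔪, H = Spec A an R-group of multiplicative type and of finite type,
and K = Spec (A/J) a closed subgroup scheme of H (J a Hopf ideal) with A/J of finite presentation
over R. If the closed fibre of K is the unit group, i.e. J + 𝔪A = Ker ε + 𝔪A with ε the counit, then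
K is the unit group: J = Ker ε. (Affine group schemes over an affine base are taken in Hopf-algebra
form; base change is the tensor product; a homomorphism of groups Spec A ⟶ Spec C is a bialgebra map
C → A.) -/
theorem result (R : Type u) [CommRing R] [IsLocalRing R]
    (A : Type u) [CommRing A] [HopfAlgebra R A] (hft : Algebra.FiniteType R A) (hH : IsMultType R A)
    (J : Ideal A) [J.IsHopfIdeal R] (hK : Algebra.FinitePresentation R (A ⧸ J))
    (hs : J ⊔ Ideal.map (algebraMap R A) (IsLocalRing.maximalIdeal R) =
      RingHom.ker (Bialgebra.counitAlgHom R A) ⊔ Ideal.map (algebraMap R A) (IsLocalRing.maximalIdeal R)) :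
    J = RingHom.ker (Bialgebra.counitAlgHom R A) := by
  haveI := hft
  haveI := hK
  let π : A →ₐc[R] (A ⧸ J) := Bialgebra.Quotient.mkBialgHom J
  have hπ : Function.Surjective π := Ideal.Quotient.mk_surjective
  haveI := Groth.L25.MultType.isCocomm hH
  haveI : Coalgebra.IsCocomm R (A ⧸ J) := ⟨LinearMap.ext fun b => by
    obtain ⟨a, rfl⟩ := hπ b
    rw [LinearMap.comp_apply, LinearEquiv.coe_coe, ← CoalgHomClass.map_comp_comul_apply π a]
    rw [← TensorProduct.map_comm]
    exact congrArg _ (Coalgebra.comm_comul R a)⟩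
  have hc : ∀ a : A, Coalgebra.counit (R := R) (π a) = Coalgebra.counit (R := R) a := fun a =>
    CoalgHomClass.counit_comp_apply π a
  have hfin : ∀ n : ℕ, 0 < n →
      Module.Finite R ((A ⧸ J) ⧸ SGA3b.torsionIdeal R (A ⧸ J) n) := by
    intro n hn
    haveI := Groth.L25.MultType.finite_torsion hH hn
    have hle : SGA3b.torsionIdeal R A n ≤
        (SGA3b.torsionIdeal R (A ⧸ J) n).comap (π : A →ₐ[R] A ⧸ J) :=
      Ideal.map_le_iff_le_comap.2 fun k hk => by
        rw [Ideal.mem_comap, Ideal.mem_comap]
        refine Eq.mpr (congrArg (· ∈ SGA3b.torsionIdeal R (A ⧸ J) n)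
          (Groth.L25.MultType.map_powConv π n k)) ?_
        exact Ideal.mem_map_of_mem _ ((hc k).trans hk)
    exact Module.Finite.of_surjective (Ideal.quotientMapₐ _ (π : A →ₐ[R] A ⧸ J) hle).toLinearMap
      (Ideal.quotientMap_surjective (H := hle) hπ)
  have hsB : RingHom.ker (Bialgebra.counitAlgHom R (A ⧸ J)) ≤
      (IsLocalRing.maximalIdeal R).map (algebraMap R (A ⧸ J)) := by
    intro b hb
    obtain ⟨a, rfl⟩ := hπ b
    have ha : a ∈ J ⊔ Ideal.map (algebraMap R A) (IsLocalRing.maximalIdeal R) := by
      rw [hs]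
      exact Ideal.mem_sup_left ((hc a).symm.trans hb)
    obtain ⟨j, hj, y, hy, rfl⟩ := Submodule.mem_sup.1 ha
    rw [map_add, show π j = 0 from Ideal.Quotient.eq_zero_iff_mem.2 hj, zero_add]
    have h1 := Ideal.mem_map_of_mem (Ideal.Quotient.mk J) hy
    rw [Ideal.map_map] at h1
    exact h1
  have h0 := Groth.L25.MultType.ker_counit_eq_bot hfin hsB
  refine le_antisymm (fun x hx => ?_) (fun a ha => ?_)
  · have := (hc x).symm
    rw [show π x = 0 from Ideal.Quotient.eq_zero_iff_mem.2 hx, map_zero] at this
    exact this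
  · have h1 : π a ∈ RingHom.ker (Bialgebra.counitAlgHom R (A ⧸ J)) := (hc a).trans ha
    rw [h0] at h1
    exact Ideal.Quotient.eq_zero_iff_mem.1 h1
end Groth.Agent.S5254
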