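import Groth.Prelude.Def_SGA3x
import Mathlib.AlgebraicGeometry.Morphisms.FiniteType
import Mathlib.AlgebraicGeometry.Morphisms.FinitePresentation
import Mathlib.AlgebraicGeometry.Morphisms.QuasiSeparated
import Mathlib.AlgebraicGeometry.ResidueField
import Mathlib.AlgebraicGeometry.Morphisms.ClosedImmersion
import Mathlib.AlgebraicGeometry.Noetherian
import Groth.Agent.L02.SchDom.MonoApps

set_option autoImplicit false
namespace SGA3x
end SGA3x
open CategoryTheory MonoidalCategory CartesianMonoidalCategory MonObj GrpObj AlgebraicGeometry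
universe u
open SGA3x

namespace Groth.Agent.S5259

/-- Centralizer: Let G be an S-group locally of finite type and quasi-separated over S, H an S-group
which is smooth and of finite presentation over S with connected fibres, and i : H ⟶ G a
homomorphism which is a monomorphism. Then the centralizer of H in G is representable by a closed
subgroup scheme of G whose immersion into G is of finite presentation. -/
theorem result {S : Scheme.{u}} (G H : Over S) [GrpObj G] [GrpObj H]
    [LocallyOfFiniteType G.hom] [QuasiSeparated G.hom] [Smooth H.hom] [QuasiCompact H.hom] [QuasiSeparated H.hom]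
    (hconn : ∀ s : S, ConnectedSpace ↥(Limits.pullback H.hom (S.fromSpecResidueField s)))
    (i : H ⟶ G) [IsMonHom i] [Mono i] :
    ∃ (Z : Over S) (_ : GrpObj Z) (j : Z ⟶ G), Red.IsCentralizerOf i j ∧ IsClosedImmersion j.left ∧
      LocallyOfFinitePresentation j.left := by
  obtain ⟨Z, j, hj, hjl, hZ⟩ :=
    Groth.L02.SchDom.exists_centralizer (Groth.L02.SchDom.irrFib_of_group H hconn) i
  haveI := hj
  haveI : Mono j := Over.mono_of_mono_left j
  obtain ⟨hg, hm⟩ := Groth.L25.Locus.exists_subgroup j
    (fun X g => ∀ (X' : Over S) (x : X' ⟶ X) (h : X' ⟶ H), (x ≫ g) * (h ≫ i) = (h ≫ i) * (x ≫ g)) hZ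
    (fun X' x h => by simp [MonObj.comp_one])
    (fun X a b ha hb X' x h => by
      rw [MonObj.comp_mul]
      exact Commute.mul_left (ha X' x h) (hb X' x h))
    (fun X a ha X' x h => by
      rw [GrpObj.comp_inv]
      exact Commute.inv_left (ha X' x h))
  exact ⟨Z, hg, j, ⟨hm, inferInstance, hZ⟩, hj, hjl⟩

end Groth.Agent.S5259
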