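import Groth.Prelude.Def_SGA3x
import Mathlib.AlgebraicGeometry.Morphisms.FiniteType
import Mathlib.AlgebraicGeometry.Morphisms.FinitePresentation
import Mathlib.AlgebraicGeometry.Morphisms.QuasiSeparated
import Mathlib.AlgebraicGeometry.ResidueField
import Mathlib.AlgebraicGeometry.Morphisms.ClosedImmersion
import Mathlib.AlgebraicGeometry.Noetherian
import Groth.Agent.L02.SchDom.MonoApps

set_option autoImplicit false
namespace SGA3x
end SGA3x
open CategoryTheory MonoidalCategory CartesianMonoidalCategory MonObj GrpObj AlgebraicGeometry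
universe u
open SGA3x

namespace Groth.Agent.S5260

/-- Normalizer: Let G be an S-group locally of finite type and quasi-separated over S, H an S-group
which is smooth and of finite presentation over S with connected fibres, and i : H ⟶ G a
homomorphism which is a monomorphism. Then the normalizer of H in G is representable by a closed
subgroup scheme of G whose immersion into G is of finite presentation. -/
theorem result {S : Scheme.{u}} (G H : Over S) [GrpObj G] [GrpObj H]
    [LocallyOfFiniteType G.hom] [QuasiSeparated G.hom] [Smooth H.hom] [QuasiCompact H.hom] [QuasiSeparated H.hom]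
    (hconn : ∀ s : S, ConnectedSpace ↥(Limits.pullback H.hom (S.fromSpecResidueField s)))
    (i : H ⟶ G) [IsMonHom i] [Mono i] :
    ∃ (N : Over S) (_ : GrpObj N) (j : N ⟶ G), Red.IsNormalizerOf i j ∧ IsClosedImmersion j.left ∧
      LocallyOfFinitePresentation j.left := by
  haveI : Mono i.left := inferInstanceAs (Mono ((Over.forget S).map i))
  haveI : LocallyOfFinitePresentation i.left := by
    haveI : LocallyOfFinitePresentation (i.left ≫ G.hom) := by rw [Over.w i]; infer_instance
    exact Groth.L20.locallyOfFinitePresentation_of_comp i.left G.hom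
  obtain ⟨N, j, hj, hjl, hN⟩ :=
    Groth.L02.SchDom.exists_normalizer (Groth.L02.SchDom.irrFib_of_group H hconn) i
  haveI := hj
  haveI : Mono j := Over.mono_of_mono_left j
  obtain ⟨hg, hm⟩ := Groth.L25.Locus.exists_subgroup j
    (fun X g => ∀ (X' : Over S) (x : X' ⟶ X) (h : X' ⟶ H),
      (∃ h' : X' ⟶ H, (x ≫ g) * (h ≫ i) * (x ≫ g)⁻¹ = h' ≫ i) ∧
      (∃ h' : X' ⟶ H, (x ≫ g)⁻¹ * (h ≫ i) * (x ≫ g) = h' ≫ i)) hN
    (fun X' x h => ⟨⟨h, by simp [MonObj.comp_one]⟩, ⟨h, by simp [MonObj.comp_one]⟩⟩)
    (fun X a b ha hb X' x h => by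
      rw [MonObj.comp_mul]
      constructor
      · obtain ⟨h₁, e₁⟩ := (hb X' x h).1
        obtain ⟨h₂, e₂⟩ := (ha X' x h₁).1
        exact ⟨h₂, by rw [← e₂, ← e₁]; group⟩
      · obtain ⟨h₁, e₁⟩ := (ha X' x h).2
        obtain ⟨h₂, e₂⟩ := (hb X' x h₁).2
        exact ⟨h₂, by rw [← e₂, ← e₁]; group⟩)
    (fun X a ha X' x h => by
      rw [GrpObj.comp_inv, _root_.inv_inv]
      exact ⟨(ha X' x h).2, (ha X' x h).1⟩)
  exact ⟨N, hg, j, ⟨hm, inferInstance, hN⟩, hj, hjl⟩

end Groth.Agent.S5260
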