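import Groth.Statements.S5263
import Groth.Agent.L25.HomScheme.ChartHom
import Groth.Agent.L25.HomScheme.MultFlat
import Groth.Agent.L25.NhdEq.EqLocus
import Groth.Agent.L23.AffineMor
import Mathlib.AlgebraicGeometry.Morphisms.LocalFlatDescent

set_option autoImplicit false
open CategoryTheory MonoidalCategory CartesianMonoidalCategory MonObj GrpObj AlgebraicGeometry
universe u
open SGA3x

set_option backward.isDefEq.respectTransparency.types false

namespace Groth.Agent.S5263

open Groth.L25 Groth.L25.Cocycle Groth.L25.HomScheme CategoryTheory.Limits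

theorem finite_index {S : Scheme.{u}} {R : Type u} [CommRing R] [Nontrivial R]
    {j : Spec (CommRingCat.of R) ⟶ S} {H : Over S} [GrpObj H] [IsFinite H.hom] {M : Type} [CommGroup M]
    (e : Chart j H M) : Finite M := by
  have := Groth.L25.HomLocus.isIso_κ e R
  have h1 : IsFinite (Groth.L25.HomLocus.κ e R ≫ pullback.snd H.hom (X j R).hom) := inferInstance
  rw [show Groth.L25.HomLocus.κ e R ≫ pullback.snd H.hom (X j R).hom =
      Spec.map (CommRingCat.ofHom (algebraMap R (MonoidAlgebra R M))) from pullback.lift_snd _ _ _] at h1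
  have h2 : Module.Finite R (MonoidAlgebra R M) := RingHom.finite_algebraMap.1 ((IsFinite.SpecMap_iff _).1 h1)
  exact Module.Finite.finite_basis (MonoidAlgebra.basis M R)

theorem chart_finite_etale {S : Scheme.{u}} {R : Type u} [CommRing R] {j : Spec (CommRingCat.of R) ⟶ S}
    {H G : Over S} [GrpObj H] [GrpObj G] [IsFinite H.hom] {M N : Type} [CommGroup M] [CommGroup N] [Monoid.FG N]
    (e : Chart j H M) (e' : Chart j G N) {A : Over S} {υ : H ⊗ A ⟶ G}
    (hA : AutFam.RepresentsHom H G A υ) [IsAffineHom A.hom] :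
    IsFinite (pullback.snd A.hom j) ∧ Etale (pullback.snd A.hom j) := by
  rcases subsingleton_or_nontrivial R with hR | hR
  · have : IsEmpty ↥(Spec (CommRingCat.of R)) := inferInstanceAs (IsEmpty (PrimeSpectrum R))
    have : IsEmpty ↥(pullback A.hom j) := ⟨fun z => IsEmpty.false (pullback.snd A.hom j z)⟩
    have : IsIso (pullback.snd A.hom j) := isIso_of_isEmpty _
    exact ⟨inferInstance, inferInstance⟩
  have := finite_index e
  obtain ⟨s, hs⟩ := Monoid.fg_def.1 ‹Monoid.FG N›
  have : Finite (N →* M) := Finite.of_injective (fun φ => fun n : s => φ n.1) fun φ ψ h =>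
    MonoidHom.eq_of_eqOn_denseM hs fun n hn => congrFun h ⟨n, hn⟩
  have h := finite_etale_chart e e' hA
  have hj : (X j R).hom = j := by
    show Spec.map (CommRingCat.ofHom (RingHom.id R)) ≫ j = j
    rw [CommRingCat.ofHom_id, Spec.map_id, Category.id_comp]
  rwa [hj] at h

/-- A property of the scheme of homomorphisms checked on charts. -/
theorem prop_of_charts {S : Scheme.{u}} (H G : Over S) [GrpObj H] [GrpObj G]
    (hH : SGA3x.IsMultTypeFT H) (hG : SGA3x.IsMultTypeFT G) {A : Over S}
    (P : MorphismProperty Scheme.{u}) [P.IsStableUnderBaseChange] [IsZariskiLocalAtTarget P]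
    [P.DescendsAlong (@Surjective ⊓ @Flat ⊓ @QuasiCompact)]
    (h : ∀ (R : Type u) (_ : CommRing R) (j : Spec (CommRingCat.of R) ⟶ S) (M N : Type) (_ : CommGroup M)
      (_ : CommGroup N) (_ : Monoid.FG N), Chart j H M → Chart j G N → P (pullback.snd A.hom j)) : P A.hom := by
  refine IsZariskiLocalAtTarget.of_iSup_eq_top (fun V : S.affineOpens => V.1) ?_ fun V => ?_
  · exact top_le_iff.1 fun z _ => by
      obtain ⟨_, ⟨W, hW, rfl⟩, hzW, -⟩ := S.isBasis_affineOpens.exists_subset_of_mem_open
        (Set.mem_univ z) isOpen_univ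
      exact TopologicalSpace.Opens.mem_iSup.2 ⟨⟨W, hW⟩, hzW⟩
  obtain ⟨V, hV⟩ := V
  let j := hV.fromSpec
  suffices h0 : P (pullback.snd A.hom j) by
    have h1 : P (pullback.snd A.hom V.ι) := FpqcLocal.bc_comp A.hom hV.isoSpec.hom j V.ι
      (by simp [j, IsAffineOpen.isoSpec_hom]) h0
    rw [← (isPullback_morphismRestrict A.hom V).flip.isoPullback_hom_snd]
    exact (P.cancel_left_of_respectsIso _ _).2 h1
  obtain ⟨F⟩ := exists_family (j := j) (Locus.locally_of_multTypeFT hH)
  choose F' hF' using fun i => NhdEq.exists_family_ft (j := Spec.map (CommRingCat.ofHom (F.θ i)) ≫ j) hG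
  let κ' := Σ i, (F' i).idx
  let B : κ' → Scheme.{u} := fun x => Spec (CommRingCat.of ((F' x.1).C x.2))
  let a : ∀ x : κ', B x ⟶ Spec Γ(S, V) := fun x =>
    Spec.map (CommRingCat.ofHom ((F' x.1).θ x.2)) ≫ Spec.map (CommRingCat.ofHom (F.θ x.1))
  let q : ∐ B ⟶ Spec Γ(S, V) := Sigma.desc a
  have : Flat q := IsZariskiLocalAtSource.sigmaDesc fun x => by
    have := F.flat x.1
    have := (F' x.1).flat x.2
    infer_instance
  have : Surjective q := ⟨fun x => by
    obtain ⟨i, y, rfl⟩ := F.surj x
    obtain ⟨k, z, rfl⟩ := (F' i).surj y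
    refine ⟨Sigma.ι B ⟨i, k⟩ z, ?_⟩
    rw [← Scheme.Hom.comp_apply, Sigma.ι_desc, Scheme.Hom.comp_apply]⟩
  have : Finite κ' := inferInstance
  have : CompactSpace ↥(∐ B) := inferInstance
  have : QuasiCompact q := (quasiCompact_iff_compactSpace q).2 inferInstance
  have hq : P (pullback.snd A.hom (q ≫ j)) := by
    refine IsZariskiLocalAtTarget.of_openCover (sigmaOpenCover B) fun x => ?_
    have sq := (IsPullback.of_hasPullback (pullback.snd A.hom (q ≫ j)) (Sigma.ι B x)).paste_horiz
      (IsPullback.of_hasPullback A.hom (q ≫ j))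
    show P (pullback.snd (pullback.snd A.hom (q ≫ j)) (Sigma.ι B x))
    rw [← sq.isoPullback_hom_snd, P.cancel_left_of_respectsIso]
    have := hF' x.1 x.2
    have hj : Spec.map (CommRingCat.ofHom ((F' x.1).θ x.2)) ≫
        (Spec.map (CommRingCat.ofHom (F.θ x.1)) ≫ j) = Sigma.ι B x ≫ q ≫ j := by
      rw [Sigma.ι_desc_assoc, Category.assoc]
    exact h _ _ _ _ _ _ _ this ((F.chart x.1).restrict ((F' x.1).θ x.2) hj)
      (((F' x.1).chart x.2).restrict (RingHom.id _)
        (by rw [CommRingCat.ofHom_id, Spec.map_id, Category.id_comp]; exact hj))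
  let l : pullback A.hom (q ≫ j) ⟶ pullback A.hom j :=
    pullback.lift (pullback.fst A.hom (q ≫ j)) (pullback.snd A.hom (q ≫ j) ≫ q)
      (by rw [pullback.condition, Category.assoc])
  have sq : IsPullback l (pullback.snd A.hom (q ≫ j)) (pullback.snd A.hom j) q := by
    refine IsPullback.of_right ?_ (pullback.lift_snd _ _ _) (IsPullback.of_hasPullback A.hom j)
    rw [show l ≫ pullback.fst A.hom j = pullback.fst A.hom (q ≫ j) from pullback.lift_fst _ _ _]
    exact IsPullback.of_hasPullback A.hom (q ≫ j)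
  exact MorphismProperty.of_isPullback_of_descendsAlong (Q := @Surjective ⊓ @Flat ⊓ @QuasiCompact) sq.flip
    ⟨⟨inferInstance, inferInstance⟩, inferInstance⟩ hq

/-- Let G and H be S-groups of multiplicative type which are finite over S. Then the functor of group
homomorphisms from G to H is representable by an S-scheme which is finite and etale over S (with its
universal family of homomorphisms). -/
theorem result {S : Scheme.{u}} (G H : Over S) [GrpObj G] [GrpObj H]
    (hG : SGA3x.IsMultTypeFT G) [IsFinite G.hom] (hH : SGA3x.IsMultTypeFT H) [IsFinite H.hom] :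
    ∃ (A : Over S) (υ : G ⊗ A ⟶ H), AutFam.RepresentsHom G H A υ ∧ IsFinite A.hom ∧ Etale A.hom := by
  have := flat_of_multTypeFT hG
  have := Locus.lfp_of_multTypeFT hG
  obtain ⟨A, υ, hA, hAa, -, -⟩ := exists_representsHom G H
  refine ⟨A, υ, hA, ?_, ?_⟩
  · exact prop_of_charts G H hG hH @IsFinite fun R _ j M N _ _ _ e e' => (chart_finite_etale e e' hA).1
  · exact prop_of_charts G H hG hH @Etale fun R _ j M N _ _ _ e e' => (chart_finite_etale e e' hA).2

end Groth.Agent.S5263
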