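import Groth.Statements.S5265
import Groth.Agent.L25.TorusNhd.Torus
import Groth.Agent.L07.SmoothFibre

set_option autoImplicit false
open CategoryTheory MonoidalCategory CartesianMonoidalCategory MonObj GrpObj AlgebraicGeometry
universe u
open SGA3x

namespace Groth.Agent.S5265

/-- Let S be a locally Noetherian scheme and H an S-group which is flat and of finite presentation over
S (locally of finite presentation, quasi-compact and quasi-separated; H is not assumed affine over
S). Then H is a torus if and only if for every s ∈ S the fibre H_s is a torus over κ(s). (The
published statement is for an arbitrary base; this row assumes S locally Noetherian, the case its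
printed proof carries out.) -/
theorem result {S : Scheme.{u}} [IsLocallyNoetherian S] (H : Over S) [GrpObj H]
    [Flat H.hom] [LocallyOfFinitePresentation H.hom] [QuasiCompact H.hom] [QuasiSeparated H.hom] :
    Red.IsTorus H ↔ ∀ s : S, Red.IsTorus (Red.bc (S.fromSpecResidueField s) H) := by
  refine ⟨fun h s => Groth.L25.Locus.isTorus_bc h _, fun h => ?_⟩
  haveI : Smooth H.hom := Groth.L07.SmoothFibre.smooth_of_fibres H.hom fun s =>
    Groth.L08.Borel.smooth_of_isTorus (h s)
  exact Groth.L25.TorusNhd.isTorus_of_fibres h

end Groth.Agent.S5265
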