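import Groth.Statements.S5277
import Groth.Agent.L25.Char.AdicConnected

set_option autoImplicit false
universe u
open TensorProduct SGA3b
open SGA3b

namespace Groth.Agent.S5277

/-- Let A be a Noetherian ring, separated and complete for the I-adic topology, and H = Spec C an affine
A-group with C flat and of finite type over A, all of whose fibres Spec (κ(p) ⊗ C) are connected. If
the reduction H₀ = Spec ((A/I) ⊗ C) is an isotrivial torus over A/I, then H is an isotrivial torus
over A. (Affine group schemes over an affine base are taken in Hopf-algebra form; base change is the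
tensor product; a homomorphism of groups Spec A ⟶ Spec C is a bialgebra map C → A.) -/
theorem result (A : Type u) [CommRing A] [IsNoetherianRing A] (I : Ideal A) [IsAdicComplete I A]
    (C : Type u) [CommRing C] [HopfAlgebra A C] [Module.Flat A C] (hft : Algebra.FiniteType A C)
    (hconn : ∀ (p : Ideal A) [p.IsPrime], ConnectedSpace (PrimeSpectrum (p.ResidueField ⊗[A] C)))
    (h0 : IsIsotrivial (A ⧸ I) ((A ⧸ I) ⊗[A] C) ∧ IsTorus (A ⧸ I) ((A ⧸ I) ⊗[A] C)) :
    IsIsotrivial A C ∧ IsTorus A C := by
  obtain ⟨G, _, _, hG, ⟨ψ⟩⟩ := Groth.L25.Char.exists_equiv_of_connected hft hconn h0.1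
  refine ⟨Groth.L25.Char.isIsotrivial_of_bialgEquiv ψ hG, Groth.L25.Char.isTorus_of_bialgEquiv ψ
    (Groth.L25.Char.isTorus_of_reduction (IsAdicComplete.le_jacobson_bot I) hG ?_)⟩
  exact Groth.L25.Char.isTorus_of_bialgEquiv
    (Groth.L25.MultType.baseChangeEquiv A (A ⧸ I) ψ).symm h0.2
end Groth.Agent.S5277
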