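import Mathlib.AlgebraicGeometry.Morphisms.Finite
import Mathlib.AlgebraicGeometry.Morphisms.Etale
import Mathlib.Topology.Connected.Basic
import Mathlib.AlgebraicGeometry.Morphisms.UniversallyOpen
import Mathlib.AlgebraicGeometry.Morphisms.QuasiFinite

set_option autoImplicit false
set_option linter.style.haveILetI false
namespace SGA3x
end SGA3x
open CategoryTheory AlgebraicGeometry
universe u
open SGA3x

namespace Groth.Agent.S5278

/-- Let X be a connected scheme, f : X' ⟶ X a finite etale morphism and x a point of X. Then every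
connected component of X' meets the fibre of f over x; equivalently the map from the connected
components of the fibre (or of the geometric fibre) to those of X' is surjective. -/
theorem result {X X' : Scheme.{u}} [ConnectedSpace X] (f : X' ⟶ X)
    [IsFinite f] [Etale f] (x : X) (c : X') :
    ∃ x' : X', f.base x' = x ∧ x' ∈ connectedComponent c := by
  haveI : Flat f := inferInstance
  haveI : UniversallyOpen f := inferInstance
  have hfin : (f.base ⁻¹' {x}).Finite := f.finite_preimage_singleton x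
  have key : ∀ W : Set X', IsClopen W → W.Nonempty → ∃ y ∈ W, f.base y = x := by
    intro W hW hne
    have himg : IsClopen (f.base '' W) := ⟨f.isClosedMap _ hW.1, f.isOpenMap _ hW.2⟩
    have := (hne.image f.base)
    rcases isClopen_iff.1 himg with h | h
    · simp [h] at this
    · have hx : x ∈ f.base '' W := h ▸ Set.mem_univ x
      exact hx
  classical
  -- choose a clopen containing `c` meeting the fibre in as few points as possible
  have hex : ∃ n, ∃ W : Set X', IsClopen W ∧ c ∈ W ∧ (W ∩ f.base ⁻¹' {x}).ncard = n :=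
    ⟨_, Set.univ, isClopen_univ, trivial, rfl⟩
  obtain ⟨W, hW, hcW, hn⟩ := Nat.find_spec hex
  have hmin : ∀ W' : Set X', IsClopen W' → c ∈ W' → (W ∩ f.base ⁻¹' {x}).ncard ≤ (W' ∩ f.base ⁻¹' {x}).ncard :=
    fun W' h1 h2 => hn ▸ Nat.find_le ⟨W', h1, h2, rfl⟩
  have hconn : _root_.IsPreconnected W := by
    rw [isPreconnected_iff_subset_of_disjoint]
    intro u v hu hv hWuv huv
    have hu' : IsClopen (W ∩ u) := by
      refine ⟨?_, hW.2.inter hu⟩
      have : W ∩ u = W \ v := by
        ext z; constructor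
        · rintro ⟨h1, h2⟩; exact ⟨h1, fun h3 => (Set.ext_iff.1 huv z).1 ⟨h1, h2, h3⟩⟩
        · rintro ⟨h1, h2⟩; exact ⟨h1, (hWuv h1).resolve_right h2⟩
      rw [this]; exact hW.1.sdiff hv
    have hv' : IsClopen (W ∩ v) := by
      refine ⟨?_, hW.2.inter hv⟩
      have : W ∩ v = W \ u := by
        ext z; constructor
        · rintro ⟨h1, h2⟩; exact ⟨h1, fun h3 => (Set.ext_iff.1 huv z).1 ⟨h1, h3, h2⟩⟩
        · rintro ⟨h1, h2⟩; exact ⟨h1, (hWuv h1).resolve_left h2⟩
      rw [this]; exact hW.1.sdiff hu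
    rcases (W ∩ u).eq_empty_or_nonempty with h | hue
    · exact Or.inr fun z hz => (hWuv hz).resolve_left fun h1 => (Set.ext_iff.1 h z).1 ⟨hz, h1⟩
    rcases (W ∩ v).eq_empty_or_nonempty with h | hve
    · exact Or.inl fun z hz => (hWuv hz).resolve_right fun h1 => (Set.ext_iff.1 h z).1 ⟨hz, h1⟩
    exfalso
    wlog hcu : c ∈ u generalizing u v
    · exact this v u hv hu (by rwa [Set.union_comm]) (by rwa [Set.inter_comm u v] at huv) hv' hu' hve hue
        ((hWuv hcW).resolve_left hcu)
    obtain ⟨y, hy, hyx⟩ := key _ hv' hve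
    have hlt : (W ∩ u ∩ f.base ⁻¹' {x}).ncard < (W ∩ f.base ⁻¹' {x}).ncard := by
      refine Set.ncard_lt_ncard ⟨fun z hz => ⟨hz.1.1, hz.2⟩, fun h => ?_⟩ (hfin.inter_of_right _)
      exact (Set.ext_iff.1 huv y).1 ⟨hy.1, (h ⟨hy.1, hyx⟩).1.2, hy.2⟩
    exact absurd (hmin _ hu' ⟨hcW, hcu⟩) (not_le.2 hlt)
  obtain ⟨y, hy, hyx⟩ := key W hW ⟨c, hcW⟩
  exact ⟨y, hyx, hconn.subset_connectedComponent hcW hy⟩

end Groth.Agent.S5278
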