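import Groth.Statements.S5287
import Groth.Agent.L25.Locus.Normalizer

set_option autoImplicit false
open CategoryTheory MonoidalCategory CartesianMonoidalCategory MonObj GrpObj AlgebraicGeometry
universe u
open SGA3x

namespace Groth.Agent.S5287

/-- Let G be an S-group smooth and affine over S and i₁ : H₁ ⟶ G, i₂ : H₂ ⟶ G two subgroup schemes of
multiplicative type (and of finite type). Then the transporter of H₁ into H₂, the subfunctor of G
whose X-points are the g with int(g)(H₁) = H₂ after every base change X' ⟶ X (g H₁ g⁻¹ ⊆ H₂ and g⁻¹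
H₂ g ⊆ H₁ on points), is representable by a closed subscheme of G which is smooth over S. -/
theorem result {S : Scheme.{u}} (H₁ H₂ G : Over S) [GrpObj H₁] [GrpObj H₂] [GrpObj G]
    (hH₁ : SGA3x.IsMultTypeFT H₁) (hH₂ : SGA3x.IsMultTypeFT H₂) (hG : Smooth G.hom) (hGa : IsAffineHom G.hom)
    (i₁ : H₁ ⟶ G) [IsMonHom i₁] [Mono i₁] (i₂ : H₂ ⟶ G) [IsMonHom i₂] [Mono i₂] :
    ∃ (T : Over S) (j : T ⟶ G), IsClosedImmersion j.left ∧ Smooth T.hom ∧
      ∀ (X : Over S) (g : X ⟶ G), (∃ t : X ⟶ T, t ≫ j = g) ↔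
        ∀ (X' : Over S) (x : X' ⟶ X),
          (∀ h₁ : X' ⟶ H₁, ∃ h₂ : X' ⟶ H₂, (x ≫ g) * (h₁ ≫ i₁) * (x ≫ g)⁻¹ = h₂ ≫ i₂) ∧
          (∀ h₂ : X' ⟶ H₂, ∃ h₁ : X' ⟶ H₁, (x ≫ g)⁻¹ * (h₂ ≫ i₂) * (x ≫ g) = h₁ ≫ i₁) := by
  have := hG
  have := hGa
  have := Groth.L25.Locus.isClosedImmersion_of_mono (Groth.L25.Locus.locally_of_multTypeFT hH₁) i₁
  have := Groth.L25.Locus.isClosedImmersion_of_mono (Groth.L25.Locus.locally_of_multTypeFT hH₂) i₂
  obtain ⟨W, j, hj, hl, hW⟩ := Groth.L25.Locus.exists_subgroupTransporter (Groth.L25.Locus.locally_of_multTypeFT hH₁)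
    (Groth.L25.Locus.locally_of_multTypeFT hH₂) i₁ i₂
  have : LocallyOfFinitePresentation i₁.left := by
    have := Groth.L25.Locus.lfp_of_multTypeFT hH₁
    have : LocallyOfFinitePresentation (i₁.left ≫ G.hom) := by rw [Over.w i₁]; infer_instance
    exact Groth.L20.locallyOfFinitePresentation_of_comp i₁.left G.hom
  have : LocallyOfFinitePresentation i₂.left := by
    have := Groth.L25.Locus.lfp_of_multTypeFT hH₂
    have : LocallyOfFinitePresentation (i₂.left ≫ G.hom) := by rw [Over.w i₂]; infer_instance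
    exact Groth.L20.locallyOfFinitePresentation_of_comp i₂.left G.hom
  have := hl inferInstance inferInstance
  have : Mono j := Over.mono_of_mono_left j
  have hs := Groth.L25.Locus.smooth_subgroupTransporter (Groth.L25.Locus.locally_of_multTypeFT hH₁)
    (Groth.L25.Locus.locally_of_multTypeFT hH₂) i₁ i₂ j hW
  refine ⟨W, j, hj, hs, fun X g => (hW X g).trans ⟨fun h X' x => ⟨h.1 X' x, h.2 X' x⟩,
    fun h => ⟨fun X' x => (h X' x).1, fun X' x => (h X' x).2⟩⟩⟩

end Groth.Agent.S5287
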