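import Groth.Statements.S5292
import Groth.Agent.L25.HomScheme.ConstDual
import Groth.Agent.L25.Descent.CovOfQC
import Groth.Agent.L25.TrivLocus
import Groth.Agent.L25.Locus.Smooth
import Groth.Agent.L25.Bridge.TorsionLift

set_option autoImplicit false
open CategoryTheory MonoidalCategory CartesianMonoidalCategory MonObj GrpObj AlgebraicGeometry
universe u
open SGA3x

set_option backward.isDefEq.respectTransparency.types false

namespace Groth.Agent.S5292

open Groth.L25 Groth.L25.HomScheme CategoryTheory.Limits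

/-- Let R be a commutative twisted constant S-group (fpqc-locally on S isomorphic, as a group, to
constant groups M_{S'}, the groups M allowed to vary and taken in Type 0, like the character groups
of the conclusion). Then the functor D_S(R) = Hom_{S-gr}(R, G_m) is representable: there is an
S-group D with a universal family of characters R ×_S D ⟶ G_{m,S}, multiplicative in the D-variable
as well (the group law of D is the pointwise product of characters), and D is of multiplicative type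
(fpqc-locally on S isomorphic, as a group, to diagonalisable groups D(M), M allowed to vary and
taken in Type 0). -/
theorem result {S : Scheme.{u}} (R : Over S) [GrpObj R]
    (hR : TwC.Locally S TwC.Topology.fpqc (fun S' f => ∃ (M : Type) (_ : Group M) (e : Red.bc f R ≅ TwC.const S' M),
      TwC.IsConstGrp M (Red.bc f R) e))
    (hcomm : ∀ (X : Over S) (a b : X ⟶ R), a * b = b * a) :
    ∃ (D : Over S) (_ : GrpObj D) (υ : R ⊗ D ⟶ Red.Gm S), AutFam.RepresentsHom R (Red.Gm S) D υ ∧
      (∀ (X : Over S) (r : X ⟶ R) (a b : X ⟶ D), lift r (a * b) ≫ υ = (lift r a ≫ υ) * (lift r b ≫ υ)) ∧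
      TwC.Locally S TwC.Topology.fpqc (fun S' f => ∃ (M : Type) (_ : AddCommGroup M), Nonempty (Grp.mk (Red.bc f D) ≅ Grp.mk (Red.DS S' M))) := by
  obtain ⟨S', f, hflat, hsurj, hqc, hloc⟩ := hR
  choose U hsU M hM e he using hloc
  have hD₀ : ∀ s : S', ∃ D : S'.Opens, IsAffineOpen D ∧ s ∈ D ∧ D ≤ U s := fun s => by
    obtain ⟨_, ⟨D, hD, rfl⟩, hz, hle⟩ := S'.isBasis_affineOpens.exists_subset_of_mem_open (hsU s) (U s).2
    exact ⟨D, hD, hz, hle⟩
  choose D hD hsD hDU using hD₀
  let P : S' → Over S := fun s => Over.mk ((D s).ι ≫ f)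
  let data : ∀ s, ConstData R (P s) (M s) := fun s =>
    (ConstData.ofIso ((U s).ι ≫ f) (e s) (he s)).restrict (Over.homMk (S'.homOfLE (hDU s)) (by
      show S'.homOfLE (hDU s) ≫ (U s).ι ≫ f = (D s).ι ≫ f
      rw [Scheme.homOfLE_ι_assoc]))
  let N : S' → Type := fun s => dualChar (M s)
  let A₁ : S' → Over S := fun s => Red.DS S (N s) ⊗ P s
  let r : ∀ s, A₁ s ⟶ P s := fun s => snd _ _
  choose ξ hξ hval using fun s => (data s).exists_isRepOn
  obtain ⟨ξ₀, hξ₀, hξinc⟩ := Fam.exists_isRepOn_sigma (F := homFam R (Red.Gm S)) homFam_zarSep homFam_zarGlue hξ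
  let q : (Fam.sig P).left ⟶ S := (Fam.sig P).hom
  have hq : ∀ s, Sigma.ι (fun s => (P s).left) s ≫ q = (D s).ι ≫ f := fun s => Sigma.ι_desc _ _
  have : Flat q := IsZariskiLocalAtSource.sigmaDesc fun s => inferInstanceAs (Flat ((D s).ι ≫ f))
  have : Surjective q := ⟨fun x => by
    obtain ⟨s, rfl⟩ := hsurj.surj x
    refine ⟨Sigma.ι (fun s => (P s).left) s ⟨s, hsD s⟩, ?_⟩
    rw [← Scheme.Hom.comp_apply, hq]
    rfl⟩
  have hcov : ∀ V : S.Opens, IsAffineOpen V → ∃ W : (Fam.sig P).left.Opens,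
      IsCompact (W : Set ↥(Fam.sig P).left) ∧ q.base '' (W : Set ↥(Fam.sig P).left) = (V : Set S) := by
    intro V hV
    obtain ⟨W, hW, hWV⟩ := hqc V hV
    have hA' : ∀ z : W, ∃ A : S'.Opens, IsAffineOpen A ∧ z.1 ∈ A ∧ A ≤ D z.1 ⊓ W := fun z => by
      obtain ⟨_, ⟨A, hA, rfl⟩, hz, hle⟩ :=
        S'.isBasis_affineOpens.exists_subset_of_mem_open (show z.1 ∈ D z.1 ⊓ W from ⟨hsD z.1, z.2⟩) (D z.1 ⊓ W).2
      exact ⟨A, hA, hz, hle⟩
    choose A hA hzA hAle using hA'
    obtain ⟨t, ht⟩ := hW.elim_finite_subcover (fun z : W => (A z : Set S')) (fun z => (A z).2)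
      (fun z hz => Set.mem_iUnion.2 ⟨⟨z, hz⟩, hzA ⟨z, hz⟩⟩)
    refine ⟨⨆ z ∈ t, Sigma.ι (fun s => (P s).left) z.1 ''ᵁ ((D z.1).ι ⁻¹ᵁ A z), ?_, ?_⟩
    · simp only [TopologicalSpace.Opens.coe_iSup]
      refine t.isCompact_biUnion fun z _ => ?_
      exact (((hA z).preimage_of_isOpenImmersion (D z.1).ι
        (by rw [Scheme.Opens.opensRange_ι]; exact (hAle z).trans inf_le_left)).isCompact).image
          (Sigma.ι (fun s => (P s).left) z.1).continuous
    · rw [← hWV]
      apply Set.Subset.antisymm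
      · rintro _ ⟨x, hx, rfl⟩
        simp only [SetLike.mem_coe, TopologicalSpace.Opens.mem_iSup] at hx
        obtain ⟨z, -, ⟨w, hwD⟩, hw, rfl⟩ := hx
        refine ⟨w, (hAle z hw).2, ?_⟩
        show f w = q (Sigma.ι (fun s => (P s).left) z.1 ⟨w, hwD⟩)
        rw [← Scheme.Hom.comp_apply, hq]
        rfl
      · rintro _ ⟨w, hw, rfl⟩
        obtain ⟨z, hzt, hwA⟩ := Set.mem_iUnion₂.1 (ht hw)
        refine ⟨Sigma.ι (fun s => (P s).left) z.1 ⟨w, (hAle z hwA).1⟩, ?_, ?_⟩
        · simp only [SetLike.mem_coe, TopologicalSpace.Opens.mem_iSup]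
          exact ⟨z, hzt, ⟨w, (hAle z hwA).1⟩, hwA, rfl⟩
        · show q (Sigma.ι (fun s => (P s).left) z.1 ⟨w, _⟩) = f w
          rw [← Scheme.Hom.comp_apply, hq]
          rfl
  have : Groth.L20.SchDesc.Cov (Fam.sig P).hom := Groth.L25.Descent.cov_of_cover q hcov
  have haff : ∀ s, IsAffineHom (r s).left := fun s => by
    have : IsAffine (Red.diag (ULift.{u} ℤ) (N s)).left :=
      inferInstanceAs (IsAffine (Spec (CommRingCat.of (MonoidAlgebra (ULift.{u} ℤ) (Multiplicative (N s))))))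
    have : IsAffineHom (Red.diag (ULift.{u} ℤ) (N s)).hom := isAffineHom_of_isAffine _
    have : IsAffineHom (Red.DS S (N s)).hom := MorphismProperty.pullback_snd _ _ this
    exact MorphismProperty.pullback_snd (Red.DS S (N s)).hom (P s).hom this
  have haff₀ : IsAffineHom (Fam.sigMap r).left := by
    refine IsZariskiLocalAtTarget.of_openCover (sigmaOpenCover fun s => (P s).left) fun s => ?_
    show IsAffineHom (pullback.snd (Fam.sigMap r).left (Fam.inc P s).left)
    rw [← (Fam.isPullback_inc (r := r) s).flip.isoPullback_inv_snd]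
    exact (MorphismProperty.cancel_left_of_respectsIso @IsAffineHom _ _).2 (haff s)
  obtain ⟨A, υ, hA, -⟩ := hξ₀.exists_rep
    (Groth.L20.isIndQuasiAffineHom_of_isQuasiAffineHom _ ⟨inferInstance, fun V hV => by
      have : IsAffine ((Fam.sigMap r).left ⁻¹ᵁ V) := hV.preimage (Fam.sigMap r).left
      infer_instance⟩) (homFam_sep _) (homFam_desc _)
  obtain ⟨instA, hmul⟩ := exists_grpObj (G := Red.Gm S) (fun X a b =>
    DSPts.char_injective (by rw [DSPts.char_mul, DSPts.char_mul, _root_.mul_comm])) (representsHom_of_isRep hA)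
  have hlift : ∀ (X : Over S) (h : X ⟶ R) (a b : X ⟶ A),
      lift h (a * b) ≫ υ.1 = (lift h a ≫ υ.1) * (lift h b ≫ υ.1) := fun X h a b => by
    have key : ∀ c : X ⟶ A, lift h c ≫ υ.1 = lift h (𝟙 X) ≫ (R ◁ c) ≫ υ.1 := fun c => by
      rw [lift_whiskerLeft_assoc, Category.id_comp]
    rw [key (a * b), hmul, MonObj.comp_mul, ← key, ← key]
  refine ⟨A, instA, υ.1, representsHom_of_isRep hA, hlift, S', f, hflat, hsurj, hqc, fun s =>
    ⟨D s, hsD s, N s, inferInstance, ?_⟩⟩
  let g := (D s).ι ≫ f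
  obtain ⟨c, hc₁, hc₂⟩ := (hA.isRepOn (P s)).exists_iso (hξ s)
  let β : ∀ {T : Over S}, (T ⟶ P s) → (T ⟶ A) → (T ⟶ Red.DS S (N s)) := fun p a =>
    lift a p ≫ c.hom ≫ fst (Red.DS S (N s)) (P s)
  have hβ : ∀ {T : Over S} (p : T ⟶ P s) (a : T ⟶ A) (m : M s),
      val (β p a) m = lift (p ≫ (data s).x m) a ≫ υ.1 := by
    intro T p a m
    have h1 : lift (β p a) p = lift a p ≫ c.hom := by
      apply CartesianMonoidalCategory.hom_ext
      · rw [lift_fst, Category.assoc]
      · rw [lift_snd, Category.assoc, hc₁, lift_snd]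
    rw [← hval s T p (β p a) m, h1]
    have h2 : (R ◁ c.hom) ≫ (ξ s).1 = (R ◁ fst A (P s)) ≫ υ.1 := congrArg Subtype.val hc₂
    have h3 := congrArg (lift (p ≫ (data s).x m) (lift a p) ≫ ·) h2
    simpa only [lift_whiskerLeft_assoc, lift_fst] using h3
  let ψ : Red.bc g A ⟶ Red.bc g (Red.DS S (N s)) := Over.homMk c.hom.left
    (congrArg (fun k => k.left) hc₁)
  have hψ : IsIso ψ := by
    have : IsIso ψ.left := inferInstanceAs (IsIso ((Over.forget S).map c.hom))
    have : IsIso ((Over.forget _).map ψ) := this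
    exact isIso_of_reflects_iso _ (Over.forget _)
  have hm : ∀ (Y : Over (D s).toScheme) (a b : Y ⟶ Red.bc g A), (a * b) ≫ ψ = (a ≫ ψ) * (b ≫ ψ) := by
    intro Y a b
    let p : Over.mk (Y.hom ≫ g) ⟶ P s := Over.homMk Y.hom rfl
    have key : ∀ a : Y ⟶ Red.bc g A, NilAction.toBase g (a ≫ ψ) = β p (NilAction.toBase g a) := by
      intro a
      have hl : (lift (NilAction.toBase g a) p).left = a.left := by
        apply pullback.hom_ext
        · exact congrArg (fun k => k.left) (lift_fst (NilAction.toBase g a) p)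
        · exact (congrArg (fun k => k.left) (lift_snd (NilAction.toBase g a) p)).trans (Over.w a).symm
      apply Over.OverMorphism.ext
      show (a.left ≫ c.hom.left) ≫ _ = (lift (NilAction.toBase g a) p).left ≫ c.hom.left ≫ _
      rw [hl, Category.assoc]
      rfl
    rw [← NilAction.ofBase_toBase g ((a * b) ≫ ψ), ← NilAction.ofBase_toBase g ((a ≫ ψ) * (b ≫ ψ)),
      NilAction.toBase_mul, key, key, key, NilAction.toBase_mul]
    refine congrArg _ (val_injective fun m => ?_)
    rw [val_mul, hβ, hβ, hβ, hlift]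
  have : IsMonHom ψ := Bridge.isMonHom_of_mul ψ hm
  exact ⟨Grp.mkIso' (asIso ψ) ≪≫ Grp.mkIso' (ActBC.bcCompIso g (specULiftZIsTerminal.from S)
    (Red.diag (ULift.{u} ℤ) (N s)) (specULiftZIsTerminal.hom_ext _ (specULiftZIsTerminal.from (D s).toScheme)))⟩

end Groth.Agent.S5292
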