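import Groth.Statements.S5293
import Groth.Agent.L25.HomScheme.QuasiIso
import Groth.Agent.L25.HomScheme.GmDual
import Groth.Agent.L25.DSPts
import Groth.Agent.L25.Locus.Smooth
import Mathlib.GroupTheory.Finiteness

set_option autoImplicit false
open CategoryTheory MonoidalCategory CartesianMonoidalCategory MonObj GrpObj AlgebraicGeometry
universe u
open SGA3x

set_option backward.isDefEq.respectTransparency.types false

namespace Groth.Agent.S5293

open Groth.L25 Groth.L25.HomScheme Groth.L25.Cocycle CategoryTheory.Limits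

theorem gm_comm {S : Scheme.{u}} (X : Over S) (a b : X ⟶ Red.Gm S) : a * b = b * a :=
  DSPts.char_injective (by rw [DSPts.char_mul, DSPts.char_mul, _root_.mul_comm])

/-- Let H be an S-group of multiplicative type which is quasi-isotrivial (etale-locally on S isomorphic, as a
group, to diagonalisable groups D(M), M allowed to vary and taken in Type 0). Then the functor
D_S(H) = Hom_{S-gr}(H, G_m) is representable: there is an S-group D with a universal family of
characters H ×_S D ⟶ G_{m,S}, multiplicative in the D-variable as well (the group law of D is the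
pointwise product of characters), and D is a quasi-isotrivial twisted constant S-group
(etale-locally on S a constant group). -/
theorem result {S : Scheme.{u}} (H : Over S) [GrpObj H]
    (hH : TwC.Locally S TwC.Topology.etale (fun S' f => ∃ (M : Type) (_ : AddCommGroup M), Nonempty (Grp.mk (Red.bc f H) ≅ Grp.mk (Red.DS S' M)))) :
    ∃ (D : Over S) (_ : GrpObj D) (υ : H ⊗ D ⟶ Red.Gm S), AutFam.RepresentsHom H (Red.Gm S) D υ ∧
      (∀ (X : Over S) (h : X ⟶ H) (a b : X ⟶ D), lift h (a * b) ≫ υ = (lift h a ≫ υ) * (lift h b ≫ υ)) ∧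
      TwC.IsTwConstGrp TwC.Topology.etale D := by
  have hG : TwC.Locally S TwC.Topology.etale (fun S' f => ∃ (M : Type) (_ : AddCommGroup M),
      AddGroup.FG M ∧ Nonempty (Grp.mk (Red.bc f (Red.Gm S)) ≅ Grp.mk (Red.DS S' M))) := fun s =>
    ⟨S, 𝟙 S, inferInstance, ⟨s, rfl⟩, ℤ, inferInstance, inferInstance, ⟨Grp.mkIso'
      (ActBC.bcCompIso (𝟙 S) (specULiftZIsTerminal.from S) (Red.diag (ULift.{u} ℤ) ℤ)
        (specULiftZIsTerminal.hom_ext _ (specULiftZIsTerminal.from S)))⟩⟩
  obtain ⟨A, υ, hA, hloc⟩ := exists_twConst H (Red.Gm S) hH hG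
  obtain ⟨instA, hmul⟩ := exists_grpObj (fun X a b => gm_comm X a b) hA
  refine ⟨A, instA, υ, hA, fun X h a b => ?_, fun s => ?_⟩
  · have key : ∀ c : X ⟶ A, lift h c ≫ υ = lift h (𝟙 X) ≫ (H ◁ c) ≫ υ := fun c => by
      rw [lift_whiskerLeft_assoc, Category.id_comp]
    rw [key (a * b), hmul, MonObj.comp_mul, ← key, ← key]
  obtain ⟨R, _, j, M, N, _, _, e, e', _, het, hs, m, sq, hfam⟩ := hloc s
  let Φ : Type u := ULift.{u} (N →* M)
  let P : Over S := X j R
  have hj : P.hom = j := by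
    show Spec.map (CommRingCat.ofHom (RingHom.id R)) ≫ j = j
    rw [CommRingCat.ofHom_id, Spec.map_id, Category.id_comp]
  let x : Φ → (P ⟶ A) := fun φ => Fam.inc (fun _ : Φ => P) φ ≫ m
  have hx : ∀ φ ψ : Φ, x φ * x ψ = x (φ * ψ) := fun φ ψ => by
    refine (hA.2 P _ (isHomFamily_fam e e' (φ * ψ).down R)).unique ?_ (hfam (φ * ψ))
    rw [hmul]
    show ((H ◁ (Fam.inc (fun _ : Φ => P) φ ≫ m)) ≫ υ) * ((H ◁ (Fam.inc (fun _ : Φ => P) ψ ≫ m)) ≫ υ) = _
    rw [hfam φ, hfam ψ]
    refine hom_ext_uPt e ?_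
    rw [MonObj.comp_mul, uPt_fam, uPt_fam, uPt_fam, ← e'.pt_mul]
    refine congrArg e'.pt (MonoidHom.ext fun n => ?_)
    exact (map_mul (MonoidAlgebra.of R M) (φ.down n) (ψ.down n)).symm
  let ei : Red.bc j A ≅ TwC.const (Spec (CommRingCat.of R)) Φ :=
    (Over.isoMk sq.isoPullback sq.isoPullback_hom_snd).symm
  refine ⟨_, j, het, hs, Φ, inferInstance, ei, fun φ ψ => ?_⟩
  let i : Over.mk ((𝟙_ (Over (Spec (CommRingCat.of R)))).hom ≫ j) ⟶ P := Over.homMk (𝟙 _) (by
    exact congrArg (𝟙 (Spec (CommRingCat.of R)) ≫ ·) hj)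
  have hpt : ∀ χ : Φ, NilAction.toBase j (TwC.pt (Spec (CommRingCat.of R)) Φ χ ≫ ei.inv) = i ≫ x χ := fun χ => by
    apply Over.OverMorphism.ext
    show (Sigma.ι (fun _ : Φ => Spec (CommRingCat.of R)) χ ≫ sq.isoPullback.hom) ≫ pullback.fst A.hom j =
      𝟙 _ ≫ Sigma.ι (fun _ : Φ => Spec (CommRingCat.of R)) χ ≫ m.left
    rw [Category.assoc, sq.isoPullback_hom_fst]
    exact (Category.id_comp _).symm
  rw [← NilAction.ofBase_toBase j (_ * _), NilAction.toBase_mul, hpt, hpt, ← MonObj.comp_mul, hx, ← hpt,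
    NilAction.ofBase_toBase]

end Groth.Agent.S5293
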