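import Groth.Statements.S5295
import Groth.Agent.L25.NhdEq.Commute
import Groth.Agent.L25.ConjAction

set_option autoImplicit false
set_option backward.isDefEq.respectTransparency.types false
open CategoryTheory MonoidalCategory CartesianMonoidalCategory MonObj GrpObj AlgebraicGeometry
universe u
open SGA3x

namespace Groth.Agent.S5295

/-- Let u : H ⟶ G be a homomorphism of S-groups, with H of multiplicative type and of finite type and G
of finite presentation over S (locally of finite presentation, quasi-compact, quasi-separated) with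
connected fibres, and let s ∈ S be a point such that u_s : H_s ⟶ G_s is central. Then there is an
open neighbourhood U of s such that the homomorphism H|_U ⟶ G|_U induced by u is central: for every
S-scheme X lying over U, every X-point of G commutes with the image of every X-point of H. -/
theorem result {S : Scheme.{u}} (H G : Over S) [GrpObj H] [GrpObj G]
    (hH : SGA3x.IsMultTypeFT H) [LocallyOfFinitePresentation G.hom] [QuasiCompact G.hom] [QuasiSeparated G.hom]
    (hconn : ∀ t : S, ConnectedSpace ↥(Limits.pullback G.hom (S.fromSpecResidueField t)))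
    (u : H ⟶ G) [IsMonHom u] (s : S)
    (hs : ∀ (X : Over (Spec (S.residueField s))) (g : X ⟶ Red.bc (S.fromSpecResidueField s) G)
      (h : X ⟶ Red.bc (S.fromSpecResidueField s) H),
      g * (h ≫ (Over.pullback (S.fromSpecResidueField s)).map u) = (h ≫ (Over.pullback (S.fromSpecResidueField s)).map u) * g) :
    ∃ U : S.Opens, s ∈ U ∧ ∀ (X : Over S) (q : X ⟶ Over.mk U.ι) (g : X ⟶ G) (h : X ⟶ H),
      g * (h ≫ u) = (h ≫ u) * g := by
  obtain ⟨U, hsU, hU⟩ := Groth.L25.NhdEq.exists_nhd_central hH hconn u s
    (Groth.L25.NhdEq.comm_of_map (S.fromSpecResidueField s) u hs)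
  refine ⟨U, hsU, fun X q g h => ?_⟩
  let j := U.ι
  have : LocallyOfFiniteType (Red.bc j G).hom := MorphismProperty.pullback_snd _ _ inferInstance
  have hcent : ∀ (Y : Over (U : Scheme.{u})) (g : Y ⟶ Red.bc j G) (h : Y ⟶ Red.bc j H),
      g * (h ≫ (Over.pullback j).map u) = (h ≫ (Over.pullback j).map u) * g := by
    intro Y g h
    refine Groth.L25.ConjAction.central ((Over.pullback j).map u) (Groth.L25.MultTypeBC.isMultTypeFT_bc hH j)
      (fun t Z g h => ?_) g h
    let i := (U : Scheme.{u}).fromSpecResidueField t
    have h1 := hU (j t) (show j t ∈ (U : Set S) from by rw [← Scheme.Opens.range_ι]; exact ⟨t, rfl⟩)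
      (Over.mk ((Z.hom ≫ i) ≫ j)) (Z.hom ≫ Spec.map (j.residueFieldMap t)) (by
        show (Z.hom ≫ Spec.map _) ≫ _ = (Z.hom ≫ i) ≫ j
        rw [Category.assoc, Scheme.Hom.SpecMap_residueFieldMap_fromSpecResidueField]
        exact (Category.assoc _ _ _).symm)
      (Groth.L25.NilAction.toBase j (Groth.L25.NilAction.toBase i g))
      (Groth.L25.NilAction.toBase j (Groth.L25.NilAction.toBase i h))
    have h2 := congrArg (fun z => Groth.L25.NilAction.ofBase i (Groth.L25.NilAction.ofBase j z)) h1
    simp only [← Groth.L25.Locus.toBase_map] at h2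
    erw [← Groth.L25.NilAction.toBase_mul j, ← Groth.L25.NilAction.toBase_mul j,
      ← Groth.L25.NilAction.toBase_mul i, ← Groth.L25.NilAction.toBase_mul i] at h2
    simp only [Groth.L25.NilAction.ofBase_toBase] at h2
    exact h2
  exact Groth.L25.NhdEq.comm_of_map j u hcent X q.left (Over.w q) g h

end Groth.Agent.S5295
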