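import Groth.Statements.S5297
import Groth.Agent.L25.HomSmooth.Main
import Groth.Agent.L25.Cocycle.LiftHom
-- import your own Groth.Agent.* helpers here

set_option autoImplicit false
open CategoryTheory MonoidalCategory CartesianMonoidalCategory MonObj GrpObj AlgebraicGeometry
universe u
open SGA3x

namespace Groth.Agent.S5297

/-- In the lifting form that formal smoothness of the transporter means. Let S = Spec R be affine, J a
nilpotent ideal of R and S₀ = Spec (R/J); let G be an S-group smooth over S, k : K ⟶ G a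
sub-group-scheme (a homomorphism which is an immersion) with K smooth over S or of multiplicative
type, H an S-group of multiplicative type (fpqc-locally on S isomorphic, as a group, to
diagonalisable groups D(M), M allowed to vary and taken in Type 0), u : H ⟶ G a homomorphism, and g₀
an S₀-valued point of G such that int(g₀) ∘ u takes the points of H defined over S₀-schemes into K.
Then g₀ lifts to an S-point g of G such that int(g) ∘ u factors through K on all points. -/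
theorem result {R : Type u} [CommRing R] (J : Ideal R) (hJ : IsNilpotent J)
    (G K H : Over (Spec (CommRingCat.of R))) [GrpObj G] [GrpObj K] [GrpObj H] (hG : Smooth G.hom)
    (k : K ⟶ G) [IsMonHom k] [IsImmersion k.left]
    (hK : Smooth K.hom ∨ TwC.Locally (Spec (CommRingCat.of R)) TwC.Topology.fpqc (fun S' f => ∃ (M : Type) (_ : AddCommGroup M), Nonempty (Grp.mk (Red.bc f K) ≅ Grp.mk (Red.DS S' M))))
    (hH : TwC.Locally (Spec (CommRingCat.of R)) TwC.Topology.fpqc (fun S' f => ∃ (M : Type) (_ : AddCommGroup M), Nonempty (Grp.mk (Red.bc f H) ≅ Grp.mk (Red.DS S' M))))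
    (u : H ⟶ G) [IsMonHom u] (g₀ : (Over.mk (Spec.map (CommRingCat.ofHom (Ideal.Quotient.mk J))) : Over (Spec (CommRingCat.of R))) ⟶ G)
    (h0 : ∀ (X : Over (Spec (CommRingCat.of R))) (p : X ⟶ (Over.mk (Spec.map (CommRingCat.ofHom (Ideal.Quotient.mk J))) : Over (Spec (CommRingCat.of R)))) (h : X ⟶ H),
      ∃ x : X ⟶ K, (p ≫ g₀) * (h ≫ u) * (p ≫ g₀)⁻¹ = x ≫ k) :
    ∃ g : 𝟙_ (Over (Spec (CommRingCat.of R))) ⟶ G, toUnit (Over.mk (Spec.map (CommRingCat.ofHom (Ideal.Quotient.mk J))) : Over (Spec (CommRingCat.of R))) ≫ g = g₀ ∧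
      ∀ (X : Over (Spec (CommRingCat.of R))) (h : X ⟶ H), ∃ x : X ⟶ K, (toUnit X ≫ g) * (h ≫ u) * (toUnit X ≫ g)⁻¹ = x ≫ k := by
  have := hG
  have : Mono k := ⟨fun a b h => Over.OverMorphism.ext ((cancel_mono k.left).1 (congrArg (fun m => m.left) h))⟩
  obtain ⟨gt, hgt⟩ := Groth.L25.Cocycle.exists_lift_point (J := J) hJ g₀
  let u' := Groth.L25.Cocycle.intBy gt u
  have hfac : ∀ (Y : Over (Spec (CommRingCat.of R))) (_ : Y ⟶ Groth.L25.Cocycle.Z J) (h : Y ⟶ H),
      ∃ h' : Y ⟶ K, h' ≫ k = h ≫ u' := by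
    intro Y q h
    obtain ⟨x, hx⟩ := h0 Y q h
    refine ⟨x, ?_⟩
    rw [← hx, Groth.L25.Cocycle.comp_intBy, ← hgt, ← Category.assoc, toUnit_unique (q ≫ toUnit _) (toUnit Y)]
  obtain ⟨φ, hφm, hφ⟩ : ∃ φ : H ⟶ K, IsMonHom φ ∧ Groth.L25.Cocycle.AgreeMod J (φ ≫ k) u' := by
    rcases hK with hK | hK
    · obtain ⟨f₀, hf₀⟩ := hfac (H ⊗ Groth.L25.Cocycle.Z J) (snd _ _) (fst _ _)
      obtain ⟨φ, hφm, hφ⟩ := Groth.L25.HomSmooth.exists_hom_lift_smooth hH hJ f₀ (fun Y p a b =>
        (cancel_mono k).1 (by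
          simp only [MonObj.mul_comp, Category.assoc, hf₀, lift_fst_assoc]))
      refine ⟨φ, hφm, fun Y q h => ?_⟩
      rw [← lift_fst h q, Category.assoc, Category.assoc, reassoc_of% hφ, hf₀]
    · exact Groth.L25.Cocycle.exists_hom_lift hH hK hJ u' k hfac
  obtain ⟨g₁, hg₁, hconj⟩ := Groth.L25.Cocycle.exists_conj_nilpotent hH hJ u' (φ ≫ k)
    (fun Y q h => (hφ Y q h).symm)
  refine ⟨g₁ * gt, ?_, fun X h => ⟨h ≫ φ, ?_⟩⟩
  · rw [MonObj.comp_mul]
    show (toUnit (Groth.L25.Cocycle.Z J) ≫ g₁) * (toUnit (Groth.L25.Cocycle.Z J) ≫ gt) = g₀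
    rw [hg₁, hgt, _root_.one_mul]
  · rw [Category.assoc, hconj X h, Groth.L25.Cocycle.comp_intBy, MonObj.comp_mul]
    group
end Groth.Agent.S5297
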