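import Groth.Statements.S5301
import Groth.Agent.L24.ClopenIso.Scheme

set_option autoImplicit false
set_option backward.isDefEq.respectTransparency.types false
open CategoryTheory MonoidalCategory CartesianMonoidalCategory MonObj GrpObj AlgebraicGeometry
universe u
open SGA3x

namespace Groth.Agent.S5301

/-- Let H be an S-group which is affine and of finite presentation over S, and s ∈ S a point such that
(α) H is flat over S at every point of the fibre H_s and (β) H_s is a κ(s)-group of multiplicative
type (of finite type). Then there are an etale morphism S' ⟶ S, a point s' of S' over s whose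
residue field extension κ(s) → κ(s') is an isomorphism, and an open and closed subgroup G' of H' = H
×_S S' which is of multiplicative type and of finite type, isotrivial (split, with finitely
generated types, over the open and closed pieces of one finite etale surjective cover of S'), and
whose fibre at s' is all of H'_{s'}. -/
theorem result {S : Scheme.{u}} (H : Over S) [GrpObj H]
    [IsAffineHom H.hom] [LocallyOfFinitePresentation H.hom] (s : S)
    (hfl : ∀ x : ↥H.left, H.hom.base x = s → (H.hom.stalkMap x).hom.Flat)
    (hs : SGA3x.IsMultTypeFT (Red.bc (S.fromSpecResidueField s) H)) :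
    ∃ (S' : Scheme.{u}) (f : S' ⟶ S) (s' : S'), Etale f ∧ f.base s' = s ∧ IsIso (f.residueFieldMap s') ∧
      ∃ (G' : Over S') (_ : GrpObj G') (j : G' ⟶ Red.bc f H), IsMonHom j ∧ IsOpenImmersion j.left ∧ IsClosedImmersion j.left ∧
        SGA3x.IsMultTypeFT G' ∧ TwC.Locally S' TwC.Topology.finiteEtale (fun S'' g => ∃ (M : Type) (_ : AddCommGroup M), AddGroup.FG M ∧ Nonempty (Grp.mk (Red.bc g G') ≅ Grp.mk (Red.DS S'' M))) ∧
        IsIso ((Over.pullback (S'.fromSpecResidueField s')).map j).left := by
  exact Groth.L24.ClopenIso.exists_nhd_scheme H s hfl hs

end Groth.Agent.S5301
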