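import Groth.Prelude.Def_SGA3x
import Mathlib.AlgebraicGeometry.Morphisms.FiniteType
import Mathlib.AlgebraicGeometry.Morphisms.FinitePresentation
import Mathlib.AlgebraicGeometry.Morphisms.QuasiSeparated
import Mathlib.AlgebraicGeometry.ResidueField
import Mathlib.AlgebraicGeometry.Morphisms.ClosedImmersion
import Mathlib.AlgebraicGeometry.Noetherian
import Mathlib.AlgebraicGeometry.Morphisms.QuasiFinite
import Mathlib.AlgebraicGeometry.Morphisms.Immersion
import Mathlib.RingTheory.Ideal.Quotient.Operations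
import Groth.Agent.L02.ImmIsoLocus
import Groth.Agent.L07.Equidim
import Groth.Agent.L22.GeomConn.Irred
import Mathlib.AlgebraicGeometry.Morphisms.QuasiFinite

set_option autoImplicit false
set_option linter.style.haveILetI false
namespace CartesianMonoidalCategory
end CartesianMonoidalCategory
namespace GrpObj
end GrpObj
namespace MonObj
end MonObj
namespace SGA3x
end SGA3x
open CategoryTheory MonoidalCategory CartesianMonoidalCategory MonObj GrpObj AlgebraicGeometry
set_option linter.style.haveILetI false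
set_option backward.isDefEq.respectTransparency.types false
set_option backward.isDefEq.respectTransparency false
universe u
open CategoryTheory.Limits
open SGA3x

namespace Groth.Agent.S5309

/-- Let S be a Noetherian scheme, f : X ⟶ S quasi-finite (locally quasi-finite, of finite type), and
(X_i) an increasing filtered family of subschemes of X (immersions x_i : X_i ⟶ X indexed by a
directed preorder, x_i factoring through x_j for i ≤ j) such that for every s ∈ S and every n ≥ 0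
there is an index i for which the base change of x_i to Spec (O_{S,s}/𝔪_s^(n+1)) is an isomorphism
onto X ×_S Spec (O_{S,s}/𝔪_s^(n+1)). Then x_i is an isomorphism for some i. -/
theorem result {S X : Scheme.{u}} [IsNoetherian S] (f : X ⟶ S)
    [LocallyQuasiFinite f] [LocallyOfFiniteType f] [QuasiCompact f]
    {D : Type u} [Preorder D] [IsDirected D (fun a b => a ≤ b)] [Nonempty D]
    (Xi : D → Scheme.{u}) (x : ∀ i, Xi i ⟶ X) (hx : ∀ i, IsImmersion (x i))
    (hmono : ∀ i j, i ≤ j → ∃ t : Xi i ⟶ Xi j, t ≫ x j = x i)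
    (h : ∀ (s : S) (n : ℕ), ∃ i : D,
      IsIso (pullback.snd (x i) (pullback.fst f
        (Spec.map (CommRingCat.ofHom (Ideal.Quotient.mk (IsLocalRing.maximalIdeal (S.presheaf.stalk s) ^ (n + 1)))) ≫ S.fromSpecStalk s)))) :
    ∃ i : D, IsIso (x i) := by
  haveI := hx
  haveI : IsLocallyNoetherian X := LocallyOfFiniteType.isLocallyNoetherian f
  haveI : CompactSpace X := QuasiCompact.compactSpace_of_compactSpace f
  haveI : IsNoetherian X := {}
  haveI : WellFoundedGT X.Opens := show TopologicalSpace.NoetherianSpace X from inferInstance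
  let O : D → X.Opens := fun i => Groth.L02.ImmIsoLocus.isoLocus (x i)
  have hO : ∀ i j, i ≤ j → O i ≤ O j := fun i j hij => by
    obtain ⟨t, ht⟩ := hmono i j hij
    show Groth.L02.ImmIsoLocus.isoLocus (x i) ≤ _
    rw [← ht]
    exact Groth.L02.ImmIsoLocus.isoLocus_le_comp (x j) t
  obtain ⟨_, ⟨i₀, rfl⟩, hmax⟩ := wellFounded_gt.has_min (Set.range O) ⟨_, ⟨Classical.arbitrary D, rfl⟩⟩
  refine ⟨i₀, Groth.L02.ImmIsoLocus.isIso_of_isoLocus_eq_top (x i₀) ?_⟩
  by_contra hne
  push Not at hne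
  obtain ⟨q₀, hq₀⟩ := hne
  let I := Scheme.IdealSheafData.vanishingIdeal (X := X) ⟨(O i₀ : Set X)ᶜ, (O i₀).isOpen.isClosed_compl⟩
  have hr : Set.range I.subschemeι = (O i₀ : Set X)ᶜ := by
    rw [Scheme.IdealSheafData.range_subschemeι, Scheme.IdealSheafData.coe_support_vanishingIdeal]; rfl
  obtain ⟨w₀, -⟩ := hr.ge hq₀
  haveI : IsLocallyNoetherian I.subscheme := LocallyOfFiniteType.isLocallyNoetherian I.subschemeι
  obtain ⟨ξ, hξ, -⟩ := Groth.L22.GeomConn.exists_isMaxPt_specializes w₀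
  obtain ⟨V₁, hξV₁, hV₁⟩ := Groth.L07.Equidim.exists_nhd_maximal ξ
  obtain ⟨W₁, hW₁o, hW₁⟩ := I.subschemeι.isEmbedding.isInducing.isOpen_iff.1 V₁.isOpen
  let p : X := I.subschemeι ξ
  have hp : p ∉ O i₀ := hr.le ⟨ξ, rfl⟩
  let W0 : X.Opens := ⟨W₁, hW₁o⟩
  have hpW0 : p ∈ W0 := hW₁.ge hξV₁
  have hW0 : ∀ w ∈ W0, ¬ p ⤳ w → w ∈ O i₀ := by
    intro w hw hnw
    by_contra hwO
    obtain ⟨v, rfl⟩ := hr.ge hwO
    obtain ⟨m, hm, hmv⟩ := Groth.L22.GeomConn.exists_isMaxPt_specializes v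
    have hvV : v ∈ V₁ := hW₁.le hw
    have hmξ : m = ξ := hξ m (hV₁ m (hmv.mem_open V₁.isOpen hvV) hm)
    exact hnw (show I.subschemeι ξ ⤳ I.subschemeι v from (hmξ ▸ hmv).map I.subschemeι.continuous)
  let ψ := f.stalkMap p
  let m₀ := IsLocalRing.maximalIdeal (S.presheaf.stalk (f p))
  let Iₛ : Ideal (X.presheaf.stalk p) := Ideal.map ψ.hom m₀
  have hIₛ : Iₛ ≤ IsLocalRing.maximalIdeal (X.presheaf.stalk p) :=
    ((IsLocalRing.local_hom_TFAE ψ.hom).out 0 2).mp (inferInstance : IsLocalHom ψ.hom)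
  have hstep : ∀ n : ℕ, ∀ i₁ : D, ∃ j, i₁ ≤ j ∧ p ∈ Set.range (x j) ∧
      Groth.L02.ImmIsoLocus.kerAt (x j) p ≤ Iₛ ^ (n + 1) := by
    intro n i₁
    obtain ⟨i, hi⟩ := h (f p) n
    obtain ⟨j, h1j, hij⟩ := exists_ge_ge i₁ i
    let J : Ideal (X.presheaf.stalk p) := Iₛ ^ (n + 1)
    have hJ : J ≠ ⊤ := fun e => (IsLocalRing.maximalIdeal.isMaximal _).ne_top
      (top_le_iff.1 (e.ge.trans ((Ideal.pow_le_self n.succ_ne_zero).trans hIₛ)))
    haveI : Nontrivial (X.presheaf.stalk p ⧸ J) := Ideal.Quotient.nontrivial_iff.2 hJ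
    haveI : IsLocalRing (X.presheaf.stalk p ⧸ J) :=
      IsLocalRing.of_surjective' (Ideal.Quotient.mk J) Ideal.Quotient.mk_surjective
    let q : X.presheaf.stalk p ⟶ CommRingCat.of (X.presheaf.stalk p ⧸ J) := CommRingCat.ofHom (Ideal.Quotient.mk J)
    haveI : IsLocalHom q.hom := IsLocalHom.of_surjective (Ideal.Quotient.mk J) Ideal.Quotient.mk_surjective
    have hle : m₀ ^ (n + 1) ≤ J.comap ψ.hom := by
      rw [← Ideal.map_le_iff_le_comap, Ideal.map_pow]
    let r : CommRingCat.of (S.presheaf.stalk (f p) ⧸ m₀ ^ (n + 1)) ⟶ CommRingCat.of (X.presheaf.stalk p ⧸ J) :=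
      CommRingCat.ofHom (Ideal.quotientMap J ψ.hom hle)
    let v := pullback.lift (Spec.map q ≫ X.fromSpecStalk p) (Spec.map r)
      (show (Spec.map q ≫ X.fromSpecStalk p) ≫ f = Spec.map r ≫
          (Spec.map (CommRingCat.ofHom (Ideal.Quotient.mk (m₀ ^ (n + 1)))) ≫ S.fromSpecStalk (f p)) by
        rw [Category.assoc, ← Scheme.SpecMap_stalkMap_fromSpecStalk, ← Category.assoc, ← Category.assoc,
          ← Spec.map_comp, ← Spec.map_comp]
        rfl)
    haveI := hi
    obtain ⟨t, ht⟩ := hmono i j hij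
    let u := v ≫ inv (pullback.snd (x i) (pullback.fst f
      (Spec.map (CommRingCat.ofHom (Ideal.Quotient.mk (m₀ ^ (n + 1)))) ≫ S.fromSpecStalk (f p)))) ≫
        pullback.fst _ _ ≫ t
    have hu : u ≫ x j = Spec.map q ≫ X.fromSpecStalk p := by
      simp only [u, Category.assoc]
      rw [ht, pullback.condition, IsIso.inv_hom_id_assoc, pullback.lift_fst]
    refine ⟨j, h1j, ⟨u (IsLocalRing.closedPoint _), ?_⟩, ?_⟩
    · rw [← Scheme.Hom.comp_apply, hu, Scheme.Hom.comp_apply,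
        show (Spec.map q) (IsLocalRing.closedPoint _) = IsLocalRing.closedPoint (X.presheaf.stalk p) from
          IsLocalRing.comap_closedPoint q.hom]
      exact Scheme.fromSpecStalk_closedPoint
    · refine (Groth.L02.ImmIsoLocus.kerAt_le_ker (x j) q u hu).trans ?_
      exact le_of_eq (Ideal.mk_ker)
  obtain ⟨i₁, hi₁, hpr, -⟩ := hstep 0 i₀
  let K := Groth.L02.ImmIsoLocus.kerAt (x i₁) p
  have hK : IsLocalRing.maximalIdeal (X.presheaf.stalk p) ≤ (Submodule.annihilator K).radical := by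
    intro m hm
    obtain ⟨F, hF⟩ := (inferInstance : IsNoetherianRing (X.presheaf.stalk p)).noetherian K
    choose! N hN using fun a (ha : a ∈ K) => Groth.L02.ImmIsoLocus.exists_pow_mul_eq_zero (x i₁) hpr hpW0
      (fun w hw hnw => hO i₀ i₁ hi₁ (hW0 w hw hnw)) ha hm
    refine ⟨F.sup N, ?_⟩
    rw [← hF, Submodule.mem_annihilator_span]
    rintro ⟨a, ha⟩
    have haK : a ∈ K := hF ▸ Submodule.subset_span ha
    show m ^ F.sup N * a = 0
    rw [← Nat.sub_add_cancel (Finset.le_sup (f := N) ha), pow_add, _root_.mul_assoc, hN a haK, mul_zero]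
  obtain ⟨N, hN⟩ := Ideal.exists_pow_le_of_le_radical_of_fg hK
    ((inferInstance : IsNoetherianRing (X.presheaf.stalk p)).noetherian _)
  obtain ⟨c, hc⟩ := Ideal.exists_pow_inf_eq_pow_smul Iₛ (M := X.presheaf.stalk p) K
  obtain ⟨j, hij, hjr, hjK⟩ := hstep (c + N) i₁
  have hKj : Groth.L02.ImmIsoLocus.kerAt (x j) p = ⊥ := by
    rw [eq_bot_iff]
    intro a ha
    obtain ⟨t, ht⟩ := hmono i₁ j hij
    have haK : a ∈ K := by
      show a ∈ Groth.L02.ImmIsoLocus.kerAt (x i₁) p
      rw [← ht]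
      exact Groth.L02.ImmIsoLocus.kerAt_le_comp (x j) t (by rw [ht]; exact hpr) ha
    have h2 : a ∈ Iₛ ^ (c + N + 1) • (⊤ : Submodule _ (X.presheaf.stalk p)) ⊓ K := by
      refine ⟨?_, haK⟩
      rw [smul_eq_mul, Ideal.mul_top]
      exact hjK ha
    rw [hc _ (by omega)] at h2
    refine Submodule.mem_bot _ |>.2 ?_
    refine Submodule.smul_induction_on h2 (fun r hr n hn => ?_) (fun a b ha hb => by rw [ha, hb, add_zero])
    have hr' : r ∈ IsLocalRing.maximalIdeal (X.presheaf.stalk p) ^ N :=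
      Ideal.pow_le_pow_right (by omega) (Ideal.pow_right_mono hIₛ _ hr)
    exact (Submodule.mem_annihilator.1 (hN hr')) n hn.2
  exact hmax (O j) ⟨j, rfl⟩ (lt_of_le_of_ne (hO i₀ j (hi₁.trans hij))
    fun e => hp (e ▸ Groth.L02.ImmIsoLocus.mem_isoLocus (x j) hjr hKj))

end Groth.Agent.S5309
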