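import Groth.Statements.S5310
import Groth.Agent.Lead.MaxSubgroup

set_option autoImplicit false
universe u
open CategoryTheory CategoryTheory.Limits MonoidalCategory CartesianMonoidalCategory MonObj GrpObj AlgebraicGeometry
open SGA3

namespace Groth.Agent.S5310

/-- Let u : G → H be a homomorphism of S-group schemes, with G or H flat over S and G or H locally of
finite presentation over S. Let P be one of the properties 'flat and locally of finite
presentation', 'smooth', 'etale', and let V be the largest open subscheme of G on which the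
restriction of u has P. Then the image U of V in S is open and V is an open subgroup scheme of G
over U: V contains the unit point of every fibre of G that it meets, V is stable under the inversion
of G, and the product of a point of G ×_S G whose two projections lie in V lies in V. -/
theorem result (S : Scheme.{u}) (G H : Over S) [GrpObj G] [GrpObj H]
    (u : G ⟶ H) [IsMonHom u]
    (hfl : Flat G.hom ∨ Flat H.hom) (hfp : LocallyOfFinitePresentation G.hom ∨ LocallyOfFinitePresentation H.hom)
    (P : MorphismProperty Scheme.{u})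
    (hP : (∀ (X Y : Scheme.{u}) (f : X ⟶ Y), P f ↔ (Flat f ∧ LocallyOfFinitePresentation f)) ∨
      (∀ (X Y : Scheme.{u}) (f : X ⟶ Y), P f ↔ Smooth f) ∨ (∀ (X Y : Scheme.{u}) (f : X ⟶ Y), P f ↔ Etale f))
    (V : G.left.Opens) (hV : P (V.ι ≫ u.left)) (hmax : ∀ W : G.left.Opens, P (W.ι ≫ u.left) → W ≤ V) :
    IsOpen (G.hom.base '' (V : Set G.left)) ∧
    (∀ g ∈ V, ∀ p : ↥(𝟙_ (Over S)).left, (𝟙_ (Over S)).hom.base p = G.hom.base g → η[G].left.base p ∈ V) ∧
    (∀ g ∈ V, ι[G].left.base g ∈ V) ∧
    (∀ z : ↥(G ⊗ G).left, (fst G G).left.base z ∈ V → (snd G G).left.base z ∈ V → μ[G].left.base z ∈ V) := by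
  have hbase : Flat (V.ι ≫ u.left) ∧ LocallyOfFinitePresentation (V.ι ≫ u.left) := by
    rcases hP with h | h | h
    · exact (h _ _ _).1 hV
    · haveI := (h _ _ _).1 hV
      exact ⟨inferInstance, inferInstance⟩
    · haveI := (h _ _ _).1 hV
      exact ⟨inferInstance, inferInstance⟩
  haveI := hbase.1
  haveI := hbase.2
  have hSf : Flat (V.ι ≫ G.hom) := by
    rcases hfl with h | h
    · exact inferInstance
    · rw [← Over.w u, ← Category.assoc]; infer_instance
  have hSp : LocallyOfFinitePresentation (V.ι ≫ G.hom) := by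
    rcases hfp with h | h
    · exact inferInstance
    · rw [← Over.w u, ← Category.assoc]; infer_instance
  haveI : P.RespectsIso := by
    rcases hP with h | h | h
    · have e : P = (min (α := MorphismProperty Scheme.{u}) @Flat @LocallyOfFinitePresentation) := by
        ext X Y f; exact h X Y f
      rw [e]
      infer_instance
    · rw [show P = @Smooth from funext fun X => funext fun Y => funext fun f => propext (h X Y f)]
      infer_instance
    · rw [show P = @Etale from funext fun X => funext fun Y => funext fun f => propext (h X Y f)]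
      infer_instance
  obtain ⟨W, hW, hWf, hWp, hWs, hWu⟩ := Groth.Lead.MaxSubgroup.mul_flatFP u V hSf hSp hbase.1 hbase.2
  have hWP : P (W.ι ≫ u.left) := by
    rcases hP with h | h | h
    · exact (h _ _ _).2 ⟨hWf, hWp⟩
    · exact (h _ _ _).2 (hWs ((h _ _ _).1 hV))
    · haveI := (h _ _ _).1 hV
      exact (h _ _ _).2 (Etale.iff_flat_and_formallyUnramified.2 ⟨hWf, hWu inferInstance, hWp⟩)
  have hinv : ∀ g ∈ V, ι[G].left g ∈ V := Groth.Lead.MaxSubgroup.inv_mem u V P hV hmax
  have hmul : ∀ z ∈ Groth.Lead.MaxSubgroup.pairs V, μ[G].left z ∈ V := fun z hz => hmax W hWP (hW z hz)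
  haveI : UniversallyOpen (V.ι ≫ G.hom) := by
    haveI := hSf; haveI := hSp; infer_instance
  exact ⟨Groth.Lead.MaxSubgroup.isOpen_image V, Groth.Lead.MaxSubgroup.unit_mem V hinv hmul, hinv,
    fun z h₁ h₂ => hmul z ⟨h₁, h₂⟩⟩

end Groth.Agent.S5310
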