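import Groth.Statements.S5314
import Groth.Agent.L08.HomLocus
-- import your own Groth.Agent.* helpers here

set_option autoImplicit false
universe u
open CategoryTheory CategoryTheory.Limits MonoidalCategory CartesianMonoidalCategory MonObj GrpObj AlgebraicGeometry
open SGA3

namespace Groth.Agent.S5314

/-- Let u : G → H be a homomorphism of S-group schemes, with G flat and locally of finite presentation
over S and H locally of finite type over S. Then the set U of points s of S such that the fibre u_s
: G_s → H_s over κ(s) is etale is open in S, and the set of points of G at which u is etale (u is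
etale on some open neighbourhood) is the inverse image of U in G. (The published statement assumes
the finiteness and flatness conditions only at the points of the unit sections for the openness of
U; this row assumes them on all of G and H, the case in which the second assertion is stated.) -/
theorem result (S : Scheme.{u}) (G H : Over S) [GrpObj G] [GrpObj H] (u : G ⟶ H) [IsMonHom u]
    [Flat G.hom] [LocallyOfFinitePresentation G.hom] [LocallyOfFiniteType H.hom] :
    IsOpen {s : S | Etale ((Over.pullback (S.fromSpecResidueField s)).map u).left} ∧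
    {x : G.left | ∃ W : G.left.Opens, x ∈ W ∧ Etale (W.ι ≫ u.left)} = G.hom.base ⁻¹' {s : S | Etale ((Over.pullback (S.fromSpecResidueField s)).map u).left} := by
  have h : {x : G.left | ∃ W : G.left.Opens, x ∈ W ∧ Etale (W.ι ≫ u.left)} =
      G.hom.base ⁻¹' {s : S | Etale ((Over.pullback (S.fromSpecResidueField s)).map u).left} := Set.ext fun x => by
    let s := G.hom x
    haveI := Groth.L08.HomLocus.lfp_hom u
    have hsq := Groth.L08.IsogenyFibres.isPullback_fibre G H u s
    have hfo := Groth.L05.Point.isPullback_fiberMapOver u.left H.hom G.hom (Over.w u) s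
    let e := hfo.isoIsPullback _ _ hsq
    have he : e.hom ≫ ((Over.pullback (S.fromSpecResidueField s)).map u).left =
        CohIII.fiberMapOver u.left G.hom H.hom (Over.w u) s := hfo.isoIsPullback_hom_snd _ _ hsq
    have he' : e.hom ≫ pullback.fst G.hom (S.fromSpecResidueField s) = G.hom.fiberι s :=
      hfo.isoIsPullback_hom_fst _ _ hsq
    refine ⟨fun ⟨O, hxO, hO⟩ => ?_, fun h => ?_⟩
    · refine Groth.L08.HomLocus.fibre_of_open u @Etale s (pullback.fst G.hom (S.fromSpecResidueField s) ⁻¹ᵁ O) ?_ ?_
      · refine ⟨e.hom (G.hom.asFiber x), ?_⟩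
        show (e.hom ≫ pullback.fst G.hom (S.fromSpecResidueField s)) (G.hom.asFiber x) ∈ O
        rw [he', Scheme.Hom.fiberι_asFiber]
        exact hxO
      · exact MorphismProperty.of_isPullback
          ((isPullback_morphismRestrict (pullback.fst G.hom (S.fromSpecResidueField s)) O).paste_vert hsq) hO
    · have h' : Etale (CohIII.fiberMapOver u.left G.hom H.hom (Over.w u) s) := by
        rw [← he]
        exact (MorphismProperty.cancel_left_of_respectsIso @Etale _ _).2 h
      have hn := Groth.L05.Point.nhd_top (P := @Etale) h' (G.hom.asFiber x)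
      obtain ⟨U, hxU, hU⟩ := hn
      exact (Groth.L05.Point.nhd_etale_iff u.left x).mpr
        ⟨(Groth.L05.Point.nhd_formallyUnramified_iff u.left H.hom G.hom (Over.w u) x (G.hom.asFiber x)
            (G.hom.fiberι_asFiber x)).mpr ⟨U, hxU, inferInstance⟩,
          Groth.L05.Point.flat_of_fiberMapOver u.left H.hom G.hom (Over.w u) x (Flat.stalkMap _ x)
            (G.hom.asFiber x) (G.hom.fiberι_asFiber x) (Groth.L05.Point.flat_of_nhd _ ⟨U, hxU, inferInstance⟩)⟩
  refine ⟨Groth.L08.HomLocus.isOpen_of_preimage (G := G) _ _ ?_ h, h⟩
  refine isOpen_iff_forall_mem_open.2 fun x ⟨W, hxW, hW⟩ => ⟨W, fun y hy => ⟨W, hy, hW⟩, W.2, hxW⟩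

end Groth.Agent.S5314
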