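import Groth.Statements.S5315
import Groth.Agent.Lead.HomLocus
-- import your own Groth.Agent.* helpers here

set_option autoImplicit false
universe u
open CategoryTheory CategoryTheory.Limits MonoidalCategory CartesianMonoidalCategory MonObj GrpObj AlgebraicGeometry
open SGA3

namespace Groth.Agent.S5315

/-- Let u : G → H be a homomorphism of S-group schemes which is locally of finite type, and suppose
every fibre G_s is locally of finite type over κ(s). Then the set U of points s of S such that u_s :
G_s → H_s is locally quasi-finite is open in S, and the set of points of G at which u is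
quasi-finite (u is locally quasi-finite on some open neighbourhood) is the inverse image of U in G.
(The published statement assumes u locally of finite type only near the unit section for the
openness of U; this row assumes it on all of G, the case in which the second assertion is stated.) -/
theorem result (S : Scheme.{u}) (G H : Over S) [GrpObj G] [GrpObj H] (u : G ⟶ H)
    [IsMonHom u] [LocallyOfFiniteType u.left] (hG : ∀ s : S, LocallyOfFiniteType (G.hom.fiberToSpecResidueField s)) :
    IsOpen {s : S | LocallyQuasiFinite ((Over.pullback (S.fromSpecResidueField s)).map u).left} ∧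
    {x : G.left | ∃ W : G.left.Opens, x ∈ W ∧ LocallyQuasiFinite (W.ι ≫ u.left)} =
      G.hom.base ⁻¹' {s : S | LocallyQuasiFinite ((Over.pullback (S.fromSpecResidueField s)).map u).left} := by
  have key := fun x => Groth.Lead.HomLocus.quasiFiniteAt_iff_fibre u hG x
  have hset : {x : G.left | ∃ W : G.left.Opens, x ∈ W ∧ LocallyQuasiFinite (W.ι ≫ u.left)} =
      (u.left.quasiFiniteLocus : Set G.left) := by
    ext x
    refine ⟨fun ⟨W, hxW, hW⟩ => ?_, fun hx => ⟨u.left.quasiFiniteLocus, hx, ?_⟩⟩
    · haveI := hW
      exact (Scheme.Hom.quasiFiniteAt_comp_iff_of_isOpenImmersion (f := W.ι) (g := u.left) (x := ⟨x, hxW⟩)).1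
        ((W.ι ≫ u.left).quasiFiniteAt _)
    · rw [← Scheme.Hom.quasiFiniteLocus_eq_top_iff, Scheme.Hom.quasiFiniteLocus_comp]
      ext z
      exact ⟨fun _ => trivial, fun _ => z.2⟩
  have hU : {s : S | LocallyQuasiFinite ((Over.pullback (S.fromSpecResidueField s)).map u).left} =
      (η[G] : 𝟙_ (Over S) ⟶ G).left ⁻¹' (u.left.quasiFiniteLocus : Set G.left) := by
    ext s
    have e : G.hom ((η[G] : 𝟙_ (Over S) ⟶ G).left s) = s :=
      (congrArg (fun φ : (𝟙_ (Over S)).left ⟶ S => φ s) (Over.w (η[G] : 𝟙_ (Over S) ⟶ G))).trans rfl
    have h := key ((η[G] : 𝟙_ (Over S) ⟶ G).left s)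
    rw [e] at h
    exact h.symm
  refine ⟨hU ▸ (u.left.quasiFiniteLocus.isOpen.preimage (η[G] : 𝟙_ (Over S) ⟶ G).left.continuous), ?_⟩
  rw [hset]
  ext x
  exact key x

end Groth.Agent.S5315
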