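import Groth.Statements.S5316
import Groth.Agent.Lead.HomUnr
import Groth.Agent.Lead.UnrLocus
import Groth.Agent.L08.MulEtaleBC
-- import your own Groth.Agent.* helpers here

set_option autoImplicit false
universe u
open CategoryTheory CategoryTheory.Limits MonoidalCategory CartesianMonoidalCategory MonObj GrpObj AlgebraicGeometry
open SGA3

namespace Groth.Agent.S5316

/-- Let u : G → H be a homomorphism of S-group schemes which is locally of finite presentation, and
suppose every fibre G_s is locally of finite type over κ(s). Then the set U of points s of S such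
that u_s : G_s → H_s is unramified (formally unramified; it is locally of finite presentation) is
open in S, and the set of points of G at which u is unramified (formally unramified on some open
neighbourhood) is the inverse image of U in G. (The published statement assumes u locally of finite
presentation only near the unit section for the openness of U; this row assumes it on all of G, the
case in which the second assertion is stated.) -/
theorem result (S : Scheme.{u}) (G H : Over S) [GrpObj G] [GrpObj H] (u : G ⟶ H)
    [IsMonHom u] [LocallyOfFinitePresentation u.left] (hG : ∀ s : S, LocallyOfFiniteType (G.hom.fiberToSpecResidueField s)) :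
    IsOpen {s : S | FormallyUnramified ((Over.pullback (S.fromSpecResidueField s)).map u).left} ∧
    {x : G.left | ∃ W : G.left.Opens, x ∈ W ∧ FormallyUnramified (W.ι ≫ u.left)} =
      G.hom.base ⁻¹' {s : S | FormallyUnramified ((Over.pullback (S.fromSpecResidueField s)).map u).left} := by
  have hA : ∀ (x : G.left) (W : G.left.Opens), x ∈ W → FormallyUnramified (W.ι ≫ u.left) →
      FormallyUnramified ((Over.pullback (S.fromSpecResidueField (G.hom x))).map u).left := by
    intro x W hxW hW
    let t := S.fromSpecResidueField (G.hom x)
    let G' : Over (Spec (CommRingCat.of (S.residueField (G.hom x)))) := (Over.pullback t).obj G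
    let H' : Over (Spec (CommRingCat.of (S.residueField (G.hom x)))) := (Over.pullback t).obj H
    letI : GrpObj G' := Functor.grpObjObj
    letI : GrpObj H' := Functor.grpObjObj
    let uk : G' ⟶ H' := (Over.pullback t).map u
    haveI : IsMonHom uk := inferInstanceAs (IsMonHom ((Over.pullback t).map u))
    have sq : IsPullback uk.left (Limits.pullback.fst G.hom t) (Limits.pullback.fst H.hom t) u.left :=
      Groth.L08.MulEtale.isPullback_map t u
    haveI : LocallyOfFinitePresentation uk.left :=
      MorphismProperty.of_isPullback sq.flip ‹LocallyOfFinitePresentation u.left›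
    haveI : LocallyOfFiniteType G'.hom := hG (G.hom x)
    let p : G'.left ⟶ G.left := Limits.pullback.fst G.hom t
    obtain ⟨x', hx'⟩ : x ∈ Set.range p := by
      rw [show Set.range p = G.hom ⁻¹' Set.range t from Scheme.Pullback.range_fst _ _,
        Scheme.range_fromSpecResidueField]
      rfl
    have hW' : FormallyUnramified ((p ⁻¹ᵁ W).ι ≫ uk.left) :=
      MorphismProperty.of_isPullback (((isPullback_morphismRestrict p W).paste_vert sq.flip)) hW
    exact Groth.Lead.HomUnr.formallyUnramified_of_open G' H' uk (x := x') (p ⁻¹ᵁ W)
      (show p x' ∈ W from hx'.symm ▸ hxW) hW'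
  have hB : ∀ x : G.left, FormallyUnramified ((Over.pullback (S.fromSpecResidueField (G.hom x))).map u).left →
      ∃ W : G.left.Opens, x ∈ W ∧ FormallyUnramified (W.ι ≫ u.left) := by
    intro x h
    refine Groth.Lead.UnrLocus.exists_open u.left x ?_
    have hs : G.hom x = H.hom (u.left x) := by rw [← Scheme.Hom.comp_apply, Over.w u]
    have key : ∀ s, s = H.hom (u.left x) → FormallyUnramified ((Over.pullback (S.fromSpecResidueField s)).map u).left →
        FormallyUnramified (u.left.fiberToSpecResidueField (u.left x)) := by
      rintro _ rfl h
      let y := u.left x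
      let t := S.fromSpecResidueField (H.hom y)
      have hpu : FormallyUnramified (Limits.pullback.snd u.left (Limits.pullback.fst H.hom t)) := by
        rw [← (Groth.L08.MulEtale.isPullback_map t u).flip.isoPullback_inv_snd]
        exact (MorphismProperty.cancel_left_of_respectsIso @FormallyUnramified _ _).mpr h
      let m : Spec (H.left.residueField y) ⟶ Limits.pullback H.hom t :=
        Limits.pullback.lift (H.left.fromSpecResidueField y) (Spec.map (H.hom.residueFieldMap y))
          (Scheme.Hom.SpecMap_residueFieldMap_fromSpecResidueField H.hom y).symm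
      show FormallyUnramified (Limits.pullback.snd u.left (H.left.fromSpecResidueField y))
      rw [← show m ≫ Limits.pullback.fst H.hom t = H.left.fromSpecResidueField y from Limits.pullback.lift_fst _ _ _,
        ← pullbackLeftPullbackSndIso_inv_snd_snd u.left (Limits.pullback.fst H.hom t) m]
      exact (MorphismProperty.cancel_left_of_respectsIso @FormallyUnramified _ _).mpr
        (MorphismProperty.pullback_snd (P := @FormallyUnramified) _ _ hpu)
    exact key _ hs h
  have hset : ∀ x : G.left, (∃ W : G.left.Opens, x ∈ W ∧ FormallyUnramified (W.ι ≫ u.left)) ↔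
      FormallyUnramified ((Over.pullback (S.fromSpecResidueField (G.hom x))).map u).left :=
    fun x => ⟨fun ⟨W, h₁, h₂⟩ => hA x W h₁ h₂, hB x⟩
  have hopen : IsOpen {x : G.left | ∃ W : G.left.Opens, x ∈ W ∧ FormallyUnramified (W.ι ≫ u.left)} :=
    isOpen_iff_forall_mem_open.2 fun x ⟨W, h₁, h₂⟩ => ⟨W, fun z hz => ⟨W, hz, h₂⟩, W.2, h₁⟩
  refine ⟨?_, Set.ext hset⟩
  have hU : {s : S | FormallyUnramified ((Over.pullback (S.fromSpecResidueField s)).map u).left} =
      (η[G] : 𝟙_ (Over S) ⟶ G).left ⁻¹'
        {x : G.left | ∃ W : G.left.Opens, x ∈ W ∧ FormallyUnramified (W.ι ≫ u.left)} := by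
    ext s
    have e : G.hom ((η[G] : 𝟙_ (Over S) ⟶ G).left s) = s :=
      (congrArg (fun φ : (𝟙_ (Over S)).left ⟶ S => φ s) (Over.w (η[G] : 𝟙_ (Over S) ⟶ G))).trans rfl
    have h := hset ((η[G] : 𝟙_ (Over S) ⟶ G).left s)
    rw [e] at h
    exact h.symm
  rw [hU]
  exact hopen.preimage (η[G] : 𝟙_ (Over S) ⟶ G).left.continuous

end Groth.Agent.S5316
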