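import Groth.Statements.S5317
import Groth.Agent.S5312
import Groth.Agent.S5316
import Groth.Agent.L20.FibreScheme
import Groth.Agent.L23.ThickSplit
-- import your own Groth.Agent.* helpers here

set_option autoImplicit false
universe u
open CategoryTheory CategoryTheory.Limits MonoidalCategory CartesianMonoidalCategory MonObj GrpObj AlgebraicGeometry
open SGA3

namespace Groth.Agent.S5317

/-- Let u : G → H be a homomorphism of S-group schemes which is universally injective (for instance a
monomorphism), with G flat and locally of finite presentation over S and H locally of finite type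
over S. Then the set U of points s of S such that u_s : G_s → H_s is an open immersion is open in S,
and the restriction of u over every open of S contained in U is an open immersion. -/
theorem result (S : Scheme.{u}) (G H : Over S) [GrpObj G] [GrpObj H]
    (u : G ⟶ H) [IsMonHom u] [UniversallyInjective u.left]
    [Flat G.hom] [LocallyOfFinitePresentation G.hom] [LocallyOfFiniteType H.hom] :
    IsOpen {s : S | IsOpenImmersion ((Over.pullback (S.fromSpecResidueField s)).map u).left} ∧
    ∀ W : S.Opens, (W : Set S) ⊆ {s : S | IsOpenImmersion ((Over.pullback (S.fromSpecResidueField s)).map u).left} → IsOpenImmersion ((G.hom ⁻¹ᵁ W).ι ≫ u.left) := by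
  haveI : LocallyOfFinitePresentation u.left := by
    haveI : LocallyOfFinitePresentation (u.left ≫ H.hom) := by rw [Over.w u]; infer_instance
    exact Groth.L20.locallyOfFinitePresentation_of_comp u.left H.hom
  have hG : ∀ s : S, LocallyOfFiniteType (G.hom.fiberToSpecResidueField s) :=
    fun s => inferInstanceAs (LocallyOfFiniteType (Limits.pullback.snd _ _))
  obtain ⟨hf₁, hf₂⟩ := Groth.Agent.S5312.result S G H u
  obtain ⟨hn₁, hn₂⟩ := Groth.Agent.S5316.result S G H u hG
  have hU : {s : S | IsOpenImmersion ((Over.pullback (S.fromSpecResidueField s)).map u).left} =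
      {s : S | Flat ((Over.pullback (S.fromSpecResidueField s)).map u).left} ∩
        {s : S | FormallyUnramified ((Over.pullback (S.fromSpecResidueField s)).map u).left} := by
    ext s
    refine ⟨fun h => ⟨?_, ?_⟩, fun ⟨h₁, h₂⟩ => ?_⟩
    · haveI : IsOpenImmersion ((Over.pullback (S.fromSpecResidueField s)).map u).left := h
      exact inferInstanceAs (Flat ((Over.pullback (S.fromSpecResidueField s)).map u).left)
    · haveI : IsOpenImmersion ((Over.pullback (S.fromSpecResidueField s)).map u).left := h
      exact inferInstanceAs (FormallyUnramified ((Over.pullback (S.fromSpecResidueField s)).map u).left)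
    · let t := S.fromSpecResidueField s
      let v := ((Over.pullback t).map u).left
      haveI : Flat v := h₁
      haveI : FormallyUnramified v := h₂
      haveI : LocallyOfFinitePresentation v :=
        MorphismProperty.of_isPullback (Groth.L08.MulEtale.isPullback_map t u).flip ‹LocallyOfFinitePresentation u.left›
      haveI : UniversallyInjective v :=
        MorphismProperty.of_isPullback (Groth.L08.MulEtale.isPullback_map t u).flip ‹UniversallyInjective u.left›
      haveI : Etale v := Etale.of_formallyUnramified_of_flat v
      exact Groth.L23.isOpenImmersion_of_etale_univInjective v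
  refine ⟨hU ▸ hf₁.inter hn₁, fun W hW => ?_⟩
  rw [hU] at hW
  let Z := G.hom ⁻¹ᵁ W
  haveI : Flat (Z.ι ≫ u.left) := (Flat.iff_flat_stalkMap _).2 fun z => by
    have h1 : (u.left.stalkMap (Z.ι z)).hom.Flat := by
      have : (Z.ι z) ∈ {x : G.left | (u.left.stalkMap x).hom.Flat} := by
        rw [hf₂]; exact (hW z.2).1
      exact this
    rw [Scheme.Hom.stalkMap_comp]
    exact (RingHom.Flat.respectsIso.cancel_right_isIso (u.left.stalkMap (Z.ι z)) (Z.ι.stalkMap z)).2 h1
  haveI : FormallyUnramified (Z.ι ≫ u.left) := by
    have hloc : ∀ z : Z.toScheme, ∃ V : G.left.Opens, Z.ι z ∈ V ∧ FormallyUnramified (V.ι ≫ u.left) := fun z => by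
      have : (Z.ι z) ∈ {x : G.left | ∃ V : G.left.Opens, x ∈ V ∧ FormallyUnramified (V.ι ≫ u.left)} := by
        rw [hn₂]; exact (hW z.2).2
      exact this
    choose V hV hVu using hloc
    refine (IsZariskiLocalAtSource.iff_of_openCover (P := @FormallyUnramified)
      (Z.toScheme.openCoverOfIsOpenCover (fun z => Z.ι ⁻¹ᵁ V z) ?_)).2 fun z => ?_
    · exact TopologicalSpace.IsOpenCover.mk (eq_top_iff.2 fun z _ =>
        TopologicalSpace.Opens.mem_iSup.2 ⟨z, hV z⟩)
    · show FormallyUnramified ((Z.ι ⁻¹ᵁ V z).ι ≫ Z.ι ≫ u.left)
      rw [← Category.assoc, ← morphismRestrict_ι, Category.assoc]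
      exact MorphismProperty.comp_mem _ _ _ inferInstance (hVu z)
  haveI : Etale (Z.ι ≫ u.left) := Etale.of_formallyUnramified_of_flat _
  haveI : UniversallyInjective (Z.ι ≫ u.left) :=
    MorphismProperty.comp_mem _ _ _ inferInstance ‹UniversallyInjective u.left›
  exact Groth.L23.isOpenImmersion_of_etale_univInjective (Z.ι ≫ u.left)

end Groth.Agent.S5317
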