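import Groth.Statements.S5339
import Groth.Agent.L08.ArtinGroup

set_option autoImplicit false
universe u
open CategoryTheory CategoryTheory.Limits MonoidalCategory CartesianMonoidalCategory MonObj GrpObj AlgebraicGeometry
open SGA3

namespace Groth.Agent.S5339
open scoped CategoryTheory.Obj

/-- Let A be a local artinian ring and G a flat A-group scheme (not assumed locally of finite type). If
G is locally quasi-finite and locally of finite type (resp. unramified, resp. smooth, resp. etale)
over A on some nonempty open subscheme, then G is locally quasi-finite and locally of finite type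
(resp. unramified, resp. smooth, resp. etale) over A. -/
theorem result (A : Type u) [CommRing A] [IsArtinianRing A] [IsLocalRing A] (G : Over (Spec (CommRingCat.of A))) [GrpObj G] [Flat G.hom]
    (W : G.left.Opens) (hW : (W : Set G.left).Nonempty) :
    (LocallyQuasiFinite (W.ι ≫ G.hom) → LocallyOfFiniteType (W.ι ≫ G.hom) → LocallyQuasiFinite G.hom ∧ LocallyOfFiniteType G.hom) ∧
    (FormallyUnramified (W.ι ≫ G.hom) → LocallyOfFinitePresentation (W.ι ≫ G.hom) →
      FormallyUnramified G.hom ∧ LocallyOfFinitePresentation G.hom) ∧
    (Smooth (W.ι ≫ G.hom) → Smooth G.hom) ∧ (Etale (W.ι ≫ G.hom) → Etale G.hom) := by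
  have hn := Groth.L08.ArtinGroup.isNilpotent_maximal (A := CommRingCat.of A)
  have key : LocallyOfFiniteType (W.ι ≫ G.hom) → LocallyOfFiniteType G.hom := fun h =>
    Groth.L08.ArtinGroup.lft_of_open (A := CommRingCat.of A) G W hW
  have hu : (toUnit G).left = G.hom := (Category.comp_id _).symm.trans (Over.w (toUnit G))
  open Groth.L08 in
  refine ⟨fun h h' => ⟨?_, key h'⟩, fun h h' => ?_, fun h => ?_, fun h => ?_⟩
  · haveI := key h'
    rw [← hu] at h ⊢
    exact ArtinLift.locallyQuasiFinite hn (toUnit G) (ArtinGroup.red_of_open (toUnit G) W hW h)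
  · haveI := key inferInstance
    rw [← hu] at h h' ⊢
    exact ⟨ArtinLift.formallyUnramified hn (toUnit G) (ArtinGroup.red_of_open (toUnit G) W hW h),
      ArtinLift.locallyOfFinitePresentation hn (toUnit G) (ArtinGroup.red_of_open (toUnit G) W hW h')⟩
  · haveI := key inferInstance
    rw [← hu] at h ⊢
    exact ArtinLift.smooth hn (toUnit G) (ArtinGroup.red_of_open (toUnit G) W hW h)
  · haveI := key inferInstance
    rw [← hu] at h ⊢
    exact ArtinLift.etale hn (toUnit G) (ArtinGroup.red_of_open (toUnit G) W hW h)

end Groth.Agent.S5339
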