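import Groth.Statements.S5318
import Groth.Agent.S5339
import Groth.Agent.L25.Unramified
import Groth.Agent.L11.Magnet.Factor
import Groth.Agent.L08.MulEtaleBC
import Mathlib.AlgebraicGeometry.Morphisms.FlatMono
-- import your own Groth.Agent.* helpers here

set_option autoImplicit false
universe u
open CategoryTheory CategoryTheory.Limits MonoidalCategory CartesianMonoidalCategory MonObj GrpObj AlgebraicGeometry
open SGA3

namespace Groth.Agent.S5318

/-- (ii) ⟺ (iii) and, for G locally of finite presentation over S, (ii) ⟺ (iv): let G be an S-group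
scheme. The unit section of G is an open immersion if and only if G is locally of finite
presentation over S on some open containing the unit section and every fibre G_s is unramified
(formally unramified and locally of finite presentation) over κ(s). If G is locally of finite
presentation over S, the unit section is an open immersion if and only if G is unramified over S. -/
theorem result (S : Scheme.{u}) (G : Over S) [GrpObj G] :
    (IsOpenImmersion η[G].left ↔
      ((∃ W : G.left.Opens, (∀ p : ↥(𝟙_ (Over S)).left, η[G].left.base p ∈ W) ∧ LocallyOfFinitePresentation (W.ι ≫ G.hom)) ∧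
        ∀ s : S, FormallyUnramified (G.hom.fiberToSpecResidueField s) ∧ LocallyOfFinitePresentation (G.hom.fiberToSpecResidueField s))) ∧
    (LocallyOfFinitePresentation G.hom → (IsOpenImmersion η[G].left ↔ FormallyUnramified G.hom)) := by
  have hw : (η[G] : 𝟙_ (Over S) ⟶ G).left ≫ G.hom = 𝟙 S := Over.w η[G]
  have hsec : ∀ W : G.left.Opens, (∀ p : ↥(𝟙_ (Over S)).left, η[G].left.base p ∈ W) →
      FormallyUnramified (W.ι ≫ G.hom) → LocallyOfFiniteType (W.ι ≫ G.hom) → IsOpenImmersion η[G].left := by
    intro W hW h₁ h₂
    have hr : Set.range η[G].left ⊆ Set.range W.ι := by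
      rintro _ ⟨p, rfl⟩; exact (Scheme.Opens.range_ι W).symm ▸ hW p
    let d := IsOpenImmersion.lift W.ι η[G].left hr
    have hd : d ≫ W.ι = η[G].left := IsOpenImmersion.lift_fac _ _ _
    have hd' : d ≫ (W.ι ≫ G.hom) = 𝟙 S := by rw [← Category.assoc, hd, hw]
    haveI : IsIso (d ≫ (W.ι ≫ G.hom)) := by rw [hd']; exact IsIso.id S
    haveI : Etale (d ≫ (W.ι ≫ G.hom)) := inferInstance
    haveI : Mono d := mono_of_mono d (W.ι ≫ G.hom)
    haveI : Etale d := Etale.of_comp d (W.ι ≫ G.hom)
    haveI : IsOpenImmersion d := IsOpenImmersion.of_flat_of_mono d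
    rw [← hd]; infer_instance
  have hfib : IsOpenImmersion η[G].left → ∀ s : S, FormallyUnramified (G.hom.fiberToSpecResidueField s) ∧
      LocallyOfFinitePresentation (G.hom.fiberToSpecResidueField s) := by
    intro h s
    let t := S.fromSpecResidueField s
    let G' : Over (Spec (CommRingCat.of (S.residueField s))) := (Over.pullback t).obj G
    letI : GrpObj G' := Functor.grpObjObj
    haveI : Flat G'.hom := Groth.L11.Magnet.flat_of_field G'
    let e' := ((Over.pullback t).map η[G]).left
    haveI : IsOpenImmersion e' :=
      MorphismProperty.of_isPullback (Groth.L08.MulEtale.isPullback_map t η[G]).flip h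
    let W : G'.left.Opens := e'.opensRange
    haveI : IsIso (Limits.pullback.snd (𝟙_ (Over S)).hom t) :=
      inferInstanceAs (IsIso (Limits.pullback.snd (𝟙 S) t))
    have hiso : IsIso (W.ι ≫ G'.hom) := by
      rw [← IsOpenImmersion.isoOfRangeEq_inv_fac e' W.ι (Scheme.Opens.range_ι W).symm, Category.assoc,
        show e' ≫ G'.hom = Limits.pullback.snd (𝟙_ (Over S)).hom t from Over.w ((Over.pullback t).map η[G])]
      infer_instance
    have hne : (W : Set G'.left).Nonempty := by
      let c : ↥(Spec (CommRingCat.of (S.residueField s))) := IsLocalRing.closedPoint (S.residueField s)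
      exact ⟨W.ι ((inv (W.ι ≫ G'.hom)) c), ((inv (W.ι ≫ G'.hom)) c).2⟩
    exact (Groth.Agent.S5339.result (S.residueField s) G' W hne).2.1 inferInstance inferInstance
  refine ⟨⟨fun h => ⟨⟨η[G].left.opensRange, fun p => ⟨p, rfl⟩, ?_⟩, hfib h⟩, fun ⟨⟨W, hW, hlfp⟩, hf⟩ => ?_⟩,
    fun hlfp => ⟨fun h => ?_, fun h => ?_⟩⟩
  · rw [← IsOpenImmersion.isoOfRangeEq_inv_fac η[G].left η[G].left.opensRange.ι
      (Scheme.Opens.range_ι η[G].left.opensRange).symm, Category.assoc, hw]
    exact MorphismProperty.comp_mem _ _ _ inferInstance (inferInstanceAs (LocallyOfFinitePresentation (𝟙 S)))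
  · refine hsec W hW ?_ inferInstance
    refine Groth.L25.Unramified.formallyUnramified_of_fibres _ fun y => ?_
    rw [Scheme.Hom.fiberToSpecResidueField, ← pullbackRightPullbackFstIso_inv_snd_snd]
    exact MorphismProperty.comp_mem _ _ _ inferInstance
      (MorphismProperty.comp_mem _ _ _ (MorphismProperty.pullback_snd _ _ inferInstance) (hf y).1)
  · exact Groth.L25.Unramified.formallyUnramified_of_fibres G.hom fun s => (hfib h s).1
  · exact hsec ⊤ (fun _ => trivial) (MorphismProperty.comp_mem _ _ _ inferInstance h) inferInstance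

end Groth.Agent.S5318
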