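import Groth.Statements.S5319
import Groth.Agent.L08.MulEtaleBC
import Groth.Agent.Lead.LqfDescent
-- import your own Groth.Agent.* helpers here

set_option autoImplicit false
universe u
open CategoryTheory CategoryTheory.Limits MonoidalCategory CartesianMonoidalCategory MonObj GrpObj AlgebraicGeometry
open SGA3

namespace Groth.Agent.S5319

/-- Let u : G → H be a homomorphism of S-group schemes which is locally of finite type, with every fibre
G_s locally of finite type over κ(s), and let i : K → G be the kernel of u (the square i, u, unit of
H is cartesian). The following are equivalent: u is locally quasi-finite; every fibre u_s : G_s →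
H_s is locally quasi-finite; K is locally quasi-finite over S; every fibre of K over S is a discrete
space. -/
theorem result (S : Scheme.{u}) (G H : Over S) [GrpObj G] [GrpObj H] (u : G ⟶ H) [IsMonHom u]
    [LocallyOfFiniteType u.left] (hG : ∀ s : S, LocallyOfFiniteType (G.hom.fiberToSpecResidueField s)) (K : Over S) [GrpObj K] (i : K ⟶ G) [IsMonHom i] (hK : AlgGrp.IsKernel i u) :
    (LocallyQuasiFinite u.left ↔ ∀ s : S, LocallyQuasiFinite ((Over.pullback (S.fromSpecResidueField s)).map u).left) ∧
    (LocallyQuasiFinite u.left ↔ LocallyQuasiFinite K.hom) ∧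
    (LocallyQuasiFinite u.left ↔ ∀ s : S, DiscreteTopology ↥(K.hom.base ⁻¹' {s})) := by
  have hKsq : IsPullback i.left K.hom u.left η[H].left := by
    have h := IsPullback.map (Over.forget S) hK
    have e : (toUnit K).left = K.hom := (Category.comp_id _).symm.trans (Over.w (toUnit K))
    exact e ▸ h
  haveI : LocallyOfFiniteType K.hom := MorphismProperty.of_isPullback hKsq ‹LocallyOfFiniteType u.left›
  have h1 : LocallyQuasiFinite u.left → LocallyQuasiFinite K.hom := fun h =>
    MorphismProperty.of_isPullback hKsq h
  have h3 : LocallyQuasiFinite K.hom → LocallyQuasiFinite u.left := fun h => by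
    let P := pullback u u
    let p₁ : P ⟶ G := pullback.fst u u
    let p₂ : P ⟶ G := pullback.snd u u
    have hp : (p₁ * p₂⁻¹) ≫ u = toUnit P ≫ η[H] := by
      rw [MonObj.mul_comp, GrpObj.inv_comp, pullback.condition, mul_inv_cancel, Hom.one_def]
    let q : P ⟶ K := hK.lift (p₁ * p₂⁻¹) (toUnit P) hp
    have hq : q ≫ i = p₁ * p₂⁻¹ := hK.lift_fst _ _ _
    have hmono : Mono i := by
      haveI : Mono η[H] := by
        haveI : IsSplitMono η[H] := IsSplitMono.mk' ⟨toUnit H, Subsingleton.elim _ _⟩
        infer_instance
      exact hK.mono_fst_of_mono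
    have hl : ∀ {T : Over S} (a : T ⟶ K) (b : T ⟶ G), ((a ≫ i) * b) ≫ u = b ≫ u := by
      intro T a b
      rw [MonObj.mul_comp, Category.assoc, hK.w, ← Category.assoc,
        Subsingleton.elim (a ≫ toUnit K) (toUnit T), ← Hom.one_def, _root_.one_mul]
    have hsq : IsPullback q p₂ (toUnit K) (toUnit G) := by
      refine ⟨⟨Subsingleton.elim _ _⟩, ⟨PullbackCone.IsLimit.mk _
        (fun s => pullback.lift ((s.fst ≫ i) * s.snd) s.snd (hl _ _))
        (fun s => ?_) (fun s => pullback.lift_snd _ _ _) (fun s m h₁ h₂ => ?_)⟩⟩
      · rw [← cancel_mono i, Category.assoc, hq, MonObj.comp_mul, GrpObj.comp_inv,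
          pullback.lift_fst, pullback.lift_snd, mul_inv_cancel_right]
      · apply pullback.hom_ext
        · rw [pullback.lift_fst, ← h₁, ← h₂, Category.assoc, hq, MonObj.comp_mul, GrpObj.comp_inv,
            inv_mul_cancel_right]
        · rw [pullback.lift_snd, ← h₂]
    have hsq' : IsPullback q.left p₂.left K.hom G.hom := by
      have h := IsPullback.map (Over.forget S) hsq
      have e : (toUnit K).left = K.hom := (Category.comp_id _).symm.trans (Over.w (toUnit K))
      have e' : (toUnit G).left = G.hom := (Category.comp_id _).symm.trans (Over.w (toUnit G))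
      exact e ▸ e' ▸ h
    have hP : IsPullback p₁.left p₂.left u.left u.left :=
      IsPullback.map (Over.forget S) (IsPullback.of_hasPullback u u)
    have hsnd : LocallyQuasiFinite (pullback.snd u.left u.left) := by
      rw [← hP.isoPullback_inv_snd]
      exact (MorphismProperty.cancel_left_of_respectsIso @LocallyQuasiFinite _ _).mpr
        (MorphismProperty.of_isPullback hsq' h)
    refine LocallyQuasiFinite.of_fiberToSpecResidueField u.left fun y => ?_
    by_cases hy : ∃ g, u.left g = y
    · obtain ⟨g, rfl⟩ := hy
      let t := H.left.fromSpecResidueField (u.left g)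
      let b := Spec.map (u.left.residueFieldMap g)
      have hbq : LocallyQuasiFinite (pullback.snd (pullback.snd u.left t) b) := by
        rw [← MorphismProperty.cancel_left_of_respectsIso @LocallyQuasiFinite
          (pullbackLeftPullbackSndIso u.left t b).inv, pullbackLeftPullbackSndIso_inv_snd_snd]
        suffices key : ∀ w, w = G.left.fromSpecResidueField g ≫ u.left →
            LocallyQuasiFinite (pullback.snd u.left w) from
          key _ (Scheme.Hom.SpecMap_residueFieldMap_fromSpecResidueField u.left g)
        rintro _ rfl
        rw [← pullbackLeftPullbackSndIso_inv_snd_snd u.left u.left (G.left.fromSpecResidueField g)]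
        exact (MorphismProperty.cancel_left_of_respectsIso @LocallyQuasiFinite _ _).mpr
          (MorphismProperty.pullback_snd (P := @LocallyQuasiFinite) _ _ hsnd)
      have hlft : LocallyOfFiniteType (pullback.snd u.left t) :=
        MorphismProperty.pullback_snd (P := @LocallyOfFiniteType) _ _ ‹LocallyOfFiniteType u.left›
      exact @Groth.Lead.LqfDescent.locallyQuasiFinite_of_field_baseChange _ _ _ _ _ (pullback.snd u.left t) hlft b hbq
    · haveI : IsEmpty ↥(u.left.fiber y) := ⟨fun z => hy ⟨u.left.fiberι y z,
        (u.left.range_fiberι y).le ⟨z, rfl⟩⟩⟩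
      infer_instance
  refine ⟨⟨fun h s => ?_, fun h => ?_⟩, ⟨h1, h3⟩, ⟨fun h s => ?_, fun h => h3 ?_⟩⟩
  · exact MorphismProperty.of_isPullback (Groth.L08.MulEtale.isPullback_map (S.fromSpecResidueField s) u).flip h
  · refine LocallyQuasiFinite.of_fiberToSpecResidueField u.left fun y => ?_
    let s := H.hom.base y
    let t := S.fromSpecResidueField s
    have hpu : LocallyQuasiFinite (pullback.snd u.left (pullback.fst H.hom t)) := by
      rw [← (Groth.L08.MulEtale.isPullback_map t u).flip.isoPullback_inv_snd]
      exact (MorphismProperty.cancel_left_of_respectsIso @LocallyQuasiFinite _ _).mpr (h s)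
    let m : Spec (H.left.residueField y) ⟶ pullback H.hom t :=
      pullback.lift (H.left.fromSpecResidueField y) (Spec.map (H.hom.residueFieldMap y))
        (Scheme.Hom.SpecMap_residueFieldMap_fromSpecResidueField H.hom y).symm
    show LocallyQuasiFinite (pullback.snd u.left (H.left.fromSpecResidueField y))
    rw [← show m ≫ pullback.fst H.hom t = H.left.fromSpecResidueField y from pullback.lift_fst _ _ _,
      ← pullbackLeftPullbackSndIso_inv_snd_snd u.left (pullback.fst H.hom t) m]
    exact (MorphismProperty.cancel_left_of_respectsIso @LocallyQuasiFinite _ _).mpr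
      (MorphismProperty.pullback_snd (P := @LocallyQuasiFinite) _ _ hpu)
  · haveI := h1 h
    exact isDiscrete_iff_discreteTopology.mp (K.hom.isDiscrete_preimage_singleton s)
  · exact locallyQuasiFinite_iff_isDiscrete_preimage_singleton.mpr fun s =>
      isDiscrete_iff_discreteTopology.mpr (h s)

end Groth.Agent.S5319
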