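import Groth.Statements.S5320
import Mathlib.AlgebraicGeometry.Morphisms.FlatMono
import Mathlib.AlgebraicGeometry.Morphisms.Etale
import Groth.Agent.L25.Unramified
import Groth.Agent.L08.MulEtaleBC
-- import your own Groth.Agent.* helpers here

set_option autoImplicit false
universe u
open CategoryTheory CategoryTheory.Limits MonoidalCategory CartesianMonoidalCategory MonObj GrpObj AlgebraicGeometry
open SGA3

namespace Groth.Agent.S5320

/-- Let u : G → H be a homomorphism of S-group schemes which is locally of finite presentation, with
every fibre G_s locally of finite type over κ(s), and let i : K → G be the kernel of u (the square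
i, u, unit of H is cartesian, K with the group structure making i a homomorphism). The following are
equivalent: u is unramified (formally unramified); every fibre u_s : G_s → H_s is unramified; K is
unramified over S; the unit section of K is an open immersion. -/
theorem result (S : Scheme.{u}) (G H : Over S) [GrpObj G] [GrpObj H] (u : G ⟶ H) [IsMonHom u]
    [LocallyOfFinitePresentation u.left] (hG : ∀ s : S, LocallyOfFiniteType (G.hom.fiberToSpecResidueField s)) (K : Over S) [GrpObj K] (i : K ⟶ G) [IsMonHom i] (hK : AlgGrp.IsKernel i u) :
    (FormallyUnramified u.left ↔ ∀ s : S, FormallyUnramified ((Over.pullback (S.fromSpecResidueField s)).map u).left) ∧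
    (FormallyUnramified u.left ↔ FormallyUnramified K.hom) ∧
    (FormallyUnramified u.left ↔ IsOpenImmersion η[K].left) := by
  haveI : LocallyOfFiniteType u.left := inferInstance
  have hKsq : IsPullback i.left K.hom u.left η[H].left := by
    have h := IsPullback.map (Over.forget S) hK
    have e : (toUnit K).left = K.hom := (Category.comp_id _).symm.trans (Over.w (toUnit K))
    exact e ▸ h
  haveI : LocallyOfFiniteType K.hom := MorphismProperty.of_isPullback hKsq ‹LocallyOfFiniteType u.left›
  have h1 : FormallyUnramified u.left → FormallyUnramified K.hom := fun h =>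
    MorphismProperty.of_isPullback hKsq h
  have h2 : FormallyUnramified K.hom → IsOpenImmersion η[K].left := fun h => by
    have hw : η[K].left ≫ K.hom = 𝟙 S := Over.w η[K]
    haveI : IsIso (η[K].left ≫ K.hom) := by rw [Over.w η[K]]; exact IsIso.id S
    haveI : Etale (η[K].left ≫ K.hom) := inferInstance
    haveI : Etale η[K].left := Etale.of_comp η[K].left K.hom
    haveI : Mono η[K].left := mono_of_mono (η[K].left) K.hom
    exact IsOpenImmersion.of_flat_of_mono η[K].left
  have h3 : IsOpenImmersion η[K].left → FormallyUnramified u.left := fun h => by
    let P := pullback u u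
    let p₁ : P ⟶ G := pullback.fst u u
    let p₂ : P ⟶ G := pullback.snd u u
    have hp : (p₁ * p₂⁻¹) ≫ u = toUnit P ≫ η[H] := by
      rw [MonObj.mul_comp, GrpObj.inv_comp, pullback.condition, mul_inv_cancel, Hom.one_def]
    let q : P ⟶ K := hK.lift (p₁ * p₂⁻¹) (toUnit P) hp
    let δ : G ⟶ P := pullback.lift (𝟙 G) (𝟙 G) rfl
    have hq : q ≫ i = p₁ * p₂⁻¹ := hK.lift_fst _ _ _
    have hiη : η[K] ≫ i = η[G] := IsMonHom.one_hom i
    have hmono : Mono i := by
      haveI : Mono η[H] := by
        haveI : IsSplitMono η[H] := IsSplitMono.mk' ⟨toUnit H, Subsingleton.elim _ _⟩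
        infer_instance
      exact hK.mono_fst_of_mono
    have hsq : IsPullback δ (toUnit G) q η[K] := by
      refine ⟨⟨?_⟩, ⟨PullbackCone.IsLimit.mk _ (fun s => s.fst ≫ p₁) (fun s => ?_) (fun s => Subsingleton.elim _ _) (fun s m hm _ => ?_)⟩⟩
      · rw [← cancel_mono i, Category.assoc, Category.assoc, hq, hiη, MonObj.comp_mul, GrpObj.comp_inv,
          pullback.lift_fst, pullback.lift_snd, mul_inv_cancel, Hom.one_def]
      · have h := s.condition =≫ i
        rw [Category.assoc, Category.assoc, hq, hiη, Subsingleton.elim s.snd (toUnit _), ← Hom.one_def,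
          MonObj.comp_mul, GrpObj.comp_inv, mul_inv_eq_one] at h
        apply pullback.hom_ext
        · rw [Category.assoc, pullback.lift_fst, Category.comp_id]
        · rw [Category.assoc, pullback.lift_snd, Category.comp_id]; exact h
      · rw [← hm, Category.assoc, pullback.lift_fst, Category.comp_id]
    haveI hδ : IsOpenImmersion δ.left :=
      MorphismProperty.of_isPullback (IsPullback.map (Over.forget S) hsq).flip h
    have hP : IsPullback p₁.left p₂.left u.left u.left :=
      IsPullback.map (Over.forget S) (IsPullback.of_hasPullback u u)
    have hd : pullback.diagonal u.left = δ.left ≫ hP.isoPullback.hom := by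
      apply pullback.hom_ext
      · rw [pullback.diagonal_fst, Category.assoc, IsPullback.isoPullback_hom_fst, ← Over.comp_left,
          pullback.lift_fst]
        rfl
      · rw [pullback.diagonal_snd, Category.assoc, IsPullback.isoPullback_hom_snd, ← Over.comp_left,
          pullback.lift_snd]
        rfl
    haveI : IsOpenImmersion (pullback.diagonal u.left) := hd ▸ inferInstance
    infer_instance
  refine ⟨⟨fun h s => ?_, fun h => ?_⟩, ⟨h1, fun h => h3 (h2 h)⟩, ⟨fun h => h2 (h1 h), h3⟩⟩
  · exact MorphismProperty.of_isPullback (Groth.L08.MulEtale.isPullback_map (S.fromSpecResidueField s) u).flip h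
  · refine Groth.L25.Unramified.formallyUnramified_of_fibres u.left fun y => ?_
    let s := H.hom.base y
    let t := S.fromSpecResidueField s
    have hpu : FormallyUnramified (pullback.snd u.left (pullback.fst H.hom t)) := by
      rw [← (Groth.L08.MulEtale.isPullback_map t u).flip.isoPullback_inv_snd]
      exact (MorphismProperty.cancel_left_of_respectsIso @FormallyUnramified _ _).mpr (h s)
    let m : Spec (H.left.residueField y) ⟶ pullback H.hom t :=
      pullback.lift (H.left.fromSpecResidueField y) (Spec.map (H.hom.residueFieldMap y))
        (Scheme.Hom.SpecMap_residueFieldMap_fromSpecResidueField H.hom y).symm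
    show FormallyUnramified (pullback.snd u.left (H.left.fromSpecResidueField y))
    rw [← show m ≫ pullback.fst H.hom t = H.left.fromSpecResidueField y from pullback.lift_fst _ _ _,
      ← pullbackLeftPullbackSndIso_inv_snd_snd u.left (pullback.fst H.hom t) m]
    exact (MorphismProperty.cancel_left_of_respectsIso @FormallyUnramified _ _).mpr
      (MorphismProperty.pullback_snd (P := @FormallyUnramified) _ _ hpu)

end Groth.Agent.S5320
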