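import Groth.Statements.S5321
import Groth.Agent.S9697
import Mathlib.AlgebraicGeometry.Morphisms.FormallyUnramified
import Mathlib.AlgebraicGeometry.Fiber

set_option autoImplicit false
universe u
open CategoryTheory CategoryTheory.Limits MonoidalCategory CartesianMonoidalCategory MonObj GrpObj AlgebraicGeometry
open SGA3

namespace Groth.Agent.S5321

/-- Consider a morphism π : X → S admitting a section ε, and assume the map of underlying spaces of π is
closed. Fix a point s of S, and suppose that on some open neighbourhood of ε(s) the morphism π is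
locally of finite presentation, and that the fibre X_s → Spec κ(s) is an isomorphism. Under these
assumptions one can find an open subset U of S containing s such that π restricts to an isomorphism
π⁻¹(U) → U (consequently ε restricted to U is an isomorphism onto π⁻¹(U)). -/
theorem result (X S : Scheme.{u}) (π : X ⟶ S) (ε : S ⟶ X) (hε : ε ≫ π = 𝟙 S)
    (hcl : IsClosedMap π.base) (s : S)
    (hfp : ∃ W : X.Opens, ε.base s ∈ W ∧ LocallyOfFinitePresentation (W.ι ≫ π))
    (hs : IsIso (π.fiberToSpecResidueField s)) :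
    ∃ U : S.Opens, s ∈ U ∧ IsIso (π ∣_ U) := by
  obtain ⟨W, hxW, hW⟩ := hfp
  let i := S.fromSpecResidueField s
  let h := W.ι ≫ π
  haveI : LocallyOfFiniteType h := inferInstance
  -- unramified near ε s
  obtain ⟨U, hεU, hU⟩ : ∃ U : W.toScheme.Opens, (⟨ε s, hxW⟩ : W.toScheme) ∈ U ∧ FormallyUnramified (U.ι ≫ h) := by
    obtain ⟨x', hx'₁, -⟩ := Scheme.Pullback.exists_preimage_pullback (f := h) (g := i) (⟨ε s, hxW⟩ : W.toScheme)
      (IsLocalRing.closedPoint (S.residueField s)) (by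
        rw [Scheme.fromSpecResidueField_apply]
        exact congr($hε s))
    have := (Groth.Agent.S9697.result h i x').1 ⟨⊤, trivial, ?_⟩
    · rwa [hx'₁] at this
    · haveI : IsOpenImmersion (pullback.snd W.ι (pullback.fst π i)) := inferInstance
      haveI : IsIso (pullback.snd π i) := hs
      have key : IsOpenImmersion (pullback.snd h i) := by
        have e := (IsPullback.of_hasPullback W.ι (pullback.fst π i)).paste_vert (IsPullback.of_hasPullback π i)
        rw [← e.isoPullback_inv_snd]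
        infer_instance
      haveI := key
      infer_instance
  let W' : X.Opens := W.ι ''ᵁ U
  let π' := W'.ι ≫ π
  have hW'W : W' ≤ W := by
    rintro _ ⟨w, -, rfl⟩; exact w.2
  haveI : LocallyOfFiniteType π' := by
    rw [show π' = X.homOfLE hW'W ≫ W.ι ≫ π by simp [π']]
    infer_instance
  haveI : FormallyUnramified π' := by
    rw [show π' = (W.ι.isoImage U).inv ≫ U.ι ≫ h by simp [π', h, W']]
    exact (MorphismProperty.cancel_left_of_respectsIso @FormallyUnramified _ _).2 hU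
  let ε' := ε ∣_ W'
  haveI : IsOpenImmersion (ε' ≫ π') := by
    rw [show ε' ≫ π' = (ε ⁻¹ᵁ W').ι ≫ ε ≫ π from morphismRestrict_ι_assoc ε W' π, hε, Category.comp_id]
    infer_instance
  haveI : IsOpenImmersion ε' := by
    haveI : MorphismProperty.HasOfPostcompProperty @IsOpenImmersion (@LocallyOfFiniteType ⊓ @FormallyUnramified :
        MorphismProperty Scheme.{u}) := by
      rw [MorphismProperty.hasOfPostcompProperty_iff_le_diagonal]
      intro A B f ⟨hft, hfu⟩
      exact inferInstanceAs <| IsOpenImmersion (pullback.diagonal f)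
    exact MorphismProperty.of_postcomp (W' := @LocallyOfFiniteType ⊓ @FormallyUnramified) @IsOpenImmersion ε' π'
      ⟨‹_›, ‹_›⟩ ‹_›
  let O : X.Opens := (ε' ≫ W'.ι).opensRange
  have hsW' : ε s ∈ W' := ⟨⟨ε s, hxW⟩, hεU, rfl⟩
  have hO : ∀ z ∈ O, ∃ t, ε t = z := by
    rintro _ ⟨z, rfl⟩
    exact ⟨(ε ⁻¹ᵁ W').ι z, congr($((morphismRestrict_ι ε W').symm) z)⟩
  let U₀ : S.Opens := ⟨(π '' (O : Set X)ᶜ)ᶜ, (hcl _ O.2.isClosed_compl).isOpen_compl⟩
  have hmem : s ∈ U₀ := by
    rintro ⟨x, hxO, hxs⟩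
    have : Subsingleton ↥(π.fiber s) := by
      haveI : IsIso (π.fiberToSpecResidueField s) := hs
      exact (π.fiberToSpecResidueField s).homeomorph.injective.subsingleton
    have h1 : ∀ z, π z = s → ∃ z', π.fiberι s z' = z := fun z hz => (π.range_fiberι s).ge hz
    obtain ⟨a, ha⟩ := h1 x hxs
    obtain ⟨b, hb⟩ := h1 (ε s) congr($hε s)
    apply hxO
    rw [← ha, Subsingleton.elim a b, hb]
    exact ⟨⟨s, hsW'⟩, congr($(morphismRestrict_ι ε W') ⟨s, hsW'⟩)⟩
  refine ⟨U₀, hmem, ?_⟩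
  have hπε : ∀ t, π (ε t) = t := fun t => congr($hε t)
  let j : U₀.toScheme ⟶ (π ⁻¹ᵁ U₀).toScheme := IsOpenImmersion.lift (π ⁻¹ᵁ U₀).ι (U₀.ι ≫ ε) (by
    rintro _ ⟨t, rfl⟩
    rw [Scheme.Opens.range_ι]
    show π (ε t.1) ∈ U₀
    rw [hπε]; exact t.2)
  have hj : j ≫ (π ⁻¹ᵁ U₀).ι = U₀.ι ≫ ε := IsOpenImmersion.lift_fac _ _ _
  have hjπ : j ≫ (π ∣_ U₀) = 𝟙 _ := by
    rw [← cancel_mono U₀.ι, Category.assoc, morphismRestrict_ι, reassoc_of% hj, hε]
    simp
  have hle : U₀ ≤ ε ⁻¹ᵁ W' := fun t ht => by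
    by_contra hn
    refine ht ⟨ε t, fun hO' => hn ?_, hπε t⟩
    obtain ⟨z, hz⟩ := hO'
    show ε t ∈ W'
    rw [← hz]
    exact (ε' z).2
  haveI : IsOpenImmersion j := by
    haveI : IsOpenImmersion (j ≫ (π ⁻¹ᵁ U₀).ι) := by
      rw [hj, show U₀.ι ≫ ε = S.homOfLE hle ≫ ε' ≫ W'.ι by
        rw [morphismRestrict_ι, ← Category.assoc, Scheme.homOfLE_ι]]
      infer_instance
    exact IsOpenImmersion.of_comp j (π ⁻¹ᵁ U₀).ι
  haveI : Surjective j := ⟨fun z => by
    have hzO : (π ⁻¹ᵁ U₀).ι z ∈ O := by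
      by_contra hn
      exact z.2 ⟨_, hn, rfl⟩
    obtain ⟨t, ht⟩ := hO _ hzO
    have htU : t ∈ U₀ := by
      have : π (ε t) ∈ U₀ := by rw [ht]; exact z.2
      rwa [hπε] at this
    refine ⟨⟨t, htU⟩, (π ⁻¹ᵁ U₀).ι.isOpenEmbedding.injective ?_⟩
    rw [← Scheme.Hom.comp_apply, hj, ← ht]
    rfl⟩
  haveI : IsIso j := (isIso_iff_isOpenImmersion_and_surjective j).2 ⟨‹_›, ‹_›⟩
  rw [show π ∣_ U₀ = inv j by rw [IsIso.eq_inv_of_hom_inv_id hjπ]]
  infer_instance

end Groth.Agent.S5321
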