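import Groth.Statements.S5324
import Groth.Agent.Lead.NeutralCover

set_option linter.style.haveILetI false

set_option autoImplicit false
universe u
open CategoryTheory CategoryTheory.Limits MonoidalCategory CartesianMonoidalCategory MonObj GrpObj AlgebraicGeometry
open SGA3

namespace Groth.Agent.S5324

/-- Let G be an S-group scheme whose fibres G_s are locally of finite type over κ(s) and connected. Then
G is quasi-compact over S. -/
theorem result (S : Scheme.{u}) (G : Over S) [GrpObj G]
    (hG : ∀ s : S, LocallyOfFiniteType (G.hom.fiberToSpecResidueField s))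
    (hconn : ∀ s : S, _root_.IsConnected (G.hom.base ⁻¹' {s})) : QuasiCompact G.hom := by
  classical
  have hN : ∀ x : G.left, x ∈ SGA3x.neutralSet G := fun x => Set.mem_iUnion.2 ⟨G.hom x, by
    have hη : G.hom (η[G].left (G.hom x)) = G.hom x := by
      rw [← Scheme.Hom.comp_apply, Over.w η[G]]; rfl
    exact (hconn (G.hom x)).isPreconnected.subset_connectedComponentIn hη subset_rfl rfl⟩
  rw [quasiCompact_iff_forall_isAffineOpen]
  intro V hV
  obtain ⟨U, hUc, hUη, hUV⟩ := Groth.Lead.Neutral.exists_qc_open (G.hom ⁻¹ᵁ V)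
    (hV.isCompact.image η[G].left.continuous) (by
      rintro _ ⟨s, hs, rfl⟩
      show G.hom (η[G].left s) ∈ V
      rw [← Scheme.Hom.comp_apply, Over.w η[G]]
      exact hs)
  have hr : Set.range (U.ι ≫ G.hom) ⊆ Set.range V.ι := by
    rw [Scheme.Opens.range_ι, Scheme.Hom.comp_base, TopCat.coe_comp, Set.range_comp, Scheme.Opens.range_ι]
    rintro _ ⟨y, hy, rfl⟩
    exact hUV hy
  haveI : CompactSpace (U : Scheme.{u}) := isCompact_iff_compactSpace.1 hUc
  haveI : IsAffine (V : Scheme.{u}) := hV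
  haveI : QuasiCompact (IsOpenImmersion.lift V.ι (U.ι ≫ G.hom) hr) := inferInstance
  have hK := Groth.Lead.Neutral.isCompact_mul G hUc _ V.ι (IsOpenImmersion.lift_fac V.ι (U.ι ≫ G.hom) hr)
  convert hK using 1
  refine Set.Subset.antisymm (fun x hx => Groth.Lead.Neutral.inter_subset_mul G hG U.isOpen
    (fun s hs => hUη ⟨s, hs, rfl⟩) ⟨hN x, hx⟩) ?_
  rintro _ ⟨w, ⟨hw1, -⟩, rfl⟩
  show G.hom (μ[G].left w) ∈ V
  rw [← Scheme.Hom.comp_apply, Over.w μ[G], ← Over.w (fst G G), Scheme.Hom.comp_apply]
  exact hUV hw1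

end Groth.Agent.S5324
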