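import Groth.Prelude.Def_SGA3x
import Groth.Prelude.Def_Red
import Groth.Prelude.Def_AlgGrp
import Groth.Prelude.Def_EGA43
import Groth.Prelude.Def_Flat
import Groth.Prelude.Def_ProCons
import Mathlib.AlgebraicGeometry.Morphisms.Flat
import Mathlib.AlgebraicGeometry.Morphisms.Smooth
import Mathlib.AlgebraicGeometry.Morphisms.Etale
import Mathlib.AlgebraicGeometry.Morphisms.ClosedImmersion
import Mathlib.AlgebraicGeometry.Morphisms.Separated
import Mathlib.AlgebraicGeometry.Morphisms.FinitePresentation
import Mathlib.AlgebraicGeometry.Morphisms.FiniteType
import Mathlib.AlgebraicGeometry.Morphisms.QuasiCompact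
import Mathlib.AlgebraicGeometry.Morphisms.QuasiFinite
import Mathlib.AlgebraicGeometry.Morphisms.FormallyUnramified
import Mathlib.AlgebraicGeometry.Morphisms.UniversallyOpen
import Mathlib.AlgebraicGeometry.Morphisms.UniversallyInjective
import Mathlib.AlgebraicGeometry.Morphisms.Integral
import Mathlib.AlgebraicGeometry.Fiber
import Mathlib.CategoryTheory.Limits.Shapes.Pullback.IsPullback.Defs
import Mathlib.Topology.KrullDimension
import Mathlib.Topology.Constructible
import Mathlib.Topology.LocallyConstant.Basic
import Mathlib.Topology.Connected.Basic
import Mathlib.Topology.Semicontinuity.Defs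
import Mathlib.RingTheory.Flat.Basic
import Groth.Agent.L02.NeutralOpen.Cons
import Groth.Agent.S5323

set_option autoImplicit false
set_option linter.style.haveILetI false
namespace CartesianMonoidalCategory
end CartesianMonoidalCategory
namespace GrpObj
end GrpObj
namespace MonObj
end MonObj
namespace SGA3
end SGA3
set_option linter.style.haveILetI false
universe u
open CategoryTheory CategoryTheory.Limits MonoidalCategory CartesianMonoidalCategory MonObj GrpObj AlgebraicGeometry
open SGA3

namespace Groth.Agent.S5325

/-- Let G be an S-group scheme locally of finite presentation over S, and let G⁰ denote the union of the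
neutral components of the fibres G_s. Then (i) G⁰ is ind-constructible in G; (ii) if G is
quasi-separated over S and S is quasi-compact and quasi-separated, G⁰ is constructible in G; (iii)
if G is quasi-separated over S, G⁰ is locally constructible in G. -/
theorem result (S : Scheme.{u}) (G : Over S) [GrpObj G] [LocallyOfFinitePresentation G.hom] :
    ProCons.IsIndConstructible (SGA3x.neutralSet G) ∧
    (QuasiSeparated G.hom → CompactSpace S → QuasiSeparatedSpace S → Topology.IsConstructible (SGA3x.neutralSet G)) ∧
    (QuasiSeparated G.hom → Topology.IsLocallyConstructible (SGA3x.neutralSet G)) := by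
  refine ⟨Groth.L02.NeutralOpen.isIndConstructible G, fun hq hc hS => ?_,
    fun hq => by haveI := hq; exact Groth.L02.NeutralOpen.isLocallyConstructible G⟩
  haveI := hq
  haveI := hc
  haveI := hS
  haveI : QuasiSeparatedSpace G.left := quasiSeparatedSpace_of_quasiSeparated G.hom
  obtain ⟨U, hU, hsub⟩ := Groth.Agent.S5323.result S G
    (fun s => MorphismProperty.pullback_snd _ _ inferInstance)
  exact (Groth.L02.NeutralOpen.isLocallyConstructible G).isConstructible_of_subset_of_isCompact hsub hU

end Groth.Agent.S5325
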