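import Groth.Statements.S5327
import Groth.Agent.Lead.Neutral
import Groth.Agent.L04.SupportSh.Components
import Groth.Agent.L08.IsogenyFibres

set_option autoImplicit false
universe u
open CategoryTheory CategoryTheory.Limits MonoidalCategory CartesianMonoidalCategory MonObj GrpObj AlgebraicGeometry
open SGA3

namespace Groth.Agent.S5327

/-- Let G be an S-group scheme whose fibres are locally of finite type over κ(s), and let i : H → G be a
homomorphism of S-group schemes which is an open immersion (an open subgroup scheme). Then the union
G⁰ of the neutral components of the fibres of G is contained in the image of i, and G⁰ is the image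
under i of the union H⁰ of the neutral components of the fibres of H. -/
theorem result (S : Scheme.{u}) (G H : Over S) [GrpObj G] [GrpObj H]
    (hG : ∀ s : S, LocallyOfFiniteType (G.hom.fiberToSpecResidueField s)) (i : H ⟶ G) [IsMonHom i]
    [IsOpenImmersion i.left] :
    SGA3x.neutralSet G ⊆ Set.range i.left.base ∧ i.left.base '' SGA3x.neutralSet H = SGA3x.neutralSet G := by
  have key : SGA3x.neutralSet G ⊆ i.left '' SGA3x.neutralSet H := by
    refine Groth.Lead.Neutral.neutralSet_subset_image i fun s => ?_
    haveI : IsOpenImmersion (Groth.Lead.Neutral.fibMap i s).left :=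
      MorphismProperty.of_isPullback (Groth.L08.IsogenyFibres.isPullback_fibre H G i s) ‹IsOpenImmersion i.left›
    haveI : LocallyOfFiniteType (Groth.Lead.Neutral.fib H s).hom := by
      rw [← Over.w (Groth.Lead.Neutral.fibMap i s)]
      haveI : LocallyOfFiniteType (Groth.Lead.Neutral.fib G s).hom := hG s
      infer_instance
    haveI : IsLocallyNoetherian (Groth.Lead.Neutral.fib H s).left :=
      LocallyOfFiniteType.isLocallyNoetherian (Groth.Lead.Neutral.fib H s).hom
    exact (Groth.Lead.Neutral.fibMap i s).left.isOpenEmbedding.isOpenMap _ (Groth.L04.SupportSh.isOpen_connectedComponent _)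
  exact ⟨key.trans (Set.image_subset_range _ _),
    (Set.mapsTo_iff_image_subset.1 (Groth.Lead.Neutral.mapsTo_neutralSet i)).antisymm key⟩

end Groth.Agent.S5327
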