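import Groth.Statements.S5328
import Groth.Agent.Lead.Neutral
import Groth.Agent.L04.SupportSh.Components
import Groth.Agent.L08.FlatHom
import Groth.Agent.L20.FibreScheme

set_option autoImplicit false
universe u
open CategoryTheory CategoryTheory.Limits MonoidalCategory CartesianMonoidalCategory MonObj GrpObj AlgebraicGeometry
open SGA3

namespace Groth.Agent.S5328

/-- Let u : G → H be a homomorphism between S-group schemes locally of finite presentation over S, and
let G⁰, H⁰ be the unions of the neutral components of the fibres. If u is flat then u(G⁰) = H⁰.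
Conversely, if G is flat over S, the fibres H_s are reduced and u(G⁰) = H⁰, then u is flat. -/
theorem result (S : Scheme.{u}) (G H : Over S) [GrpObj G] [GrpObj H]
    [LocallyOfFinitePresentation G.hom] [LocallyOfFinitePresentation H.hom] (u : G ⟶ H) [IsMonHom u] :
    (Flat u.left → u.left.base '' SGA3x.neutralSet G = SGA3x.neutralSet H) ∧
    (Flat G.hom → (∀ s : S, IsReduced (H.hom.fiber s)) → u.left.base '' SGA3x.neutralSet G = SGA3x.neutralSet H →
      Flat u.left) := by
  haveI : LocallyOfFinitePresentation u.left := by
    haveI : LocallyOfFinitePresentation (u.left ≫ H.hom) := by rw [Over.w u]; infer_instance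
    exact Groth.L20.locallyOfFinitePresentation_of_comp u.left H.hom
  refine ⟨fun hf => ?_, fun hG hred himg => ?_⟩
  · refine (Set.mapsTo_iff_image_subset.1 (Groth.Lead.Neutral.mapsTo_neutralSet u)).antisymm
      (Groth.Lead.Neutral.neutralSet_subset_image u fun s => ?_)
    haveI : Flat (Groth.Lead.Neutral.fibMap u s).left :=
      MorphismProperty.of_isPullback (Groth.L08.IsogenyFibres.isPullback_fibre G H u s) hf
    haveI : LocallyOfFinitePresentation (Groth.Lead.Neutral.fibMap u s).left :=
      MorphismProperty.of_isPullback (Groth.L08.IsogenyFibres.isPullback_fibre G H u s)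
        ‹LocallyOfFinitePresentation u.left›
    haveI : LocallyOfFiniteType (Groth.Lead.Neutral.fib G s).hom :=
      MorphismProperty.pullback_snd _ _ (inferInstance : LocallyOfFiniteType G.hom)
    haveI : IsLocallyNoetherian (Groth.Lead.Neutral.fib G s).left :=
      LocallyOfFiniteType.isLocallyNoetherian (Groth.Lead.Neutral.fib G s).hom
    exact (Groth.Lead.Neutral.fibMap u s).left.isOpenMap _ (Groth.L04.SupportSh.isOpen_connectedComponent _)
  · refine Flat.of_stalkMap u.left fun x => ?_
    haveI : LocallyOfFinitePresentation (u.left ≫ H.hom) := by rw [Over.w u]; infer_instance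
    haveI : Flat (u.left ≫ H.hom) := by rw [Over.w u]; exact hG
    refine Groth.L20.flat_stalkMap_of_fiberMap u.left H.hom x (Flat.stalkMap _ x) ?_
    let s := H.hom (u.left x)
    haveI : Flat (MoreMor.fiberMap u.left H.hom s) := by
      haveI : IsReduced (Groth.Lead.Neutral.fib H s).left := hred s
      let C := connectedComponent (Groth.L25.Component.one (Groth.Lead.Neutral.fib H s))
      obtain ⟨ξ, hξ⟩ := QuasiSober.sober
        (Groth.Agent.L13.IdComp.connectedComponent_one (Groth.Lead.Neutral.fib H s)).1
        (isClosed_connectedComponent)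
      have hξC : ξ ∈ C := by rw [show C = closure {ξ} from hξ.symm]; exact subset_closure rfl
      have hy : H.hom.fiberι s ξ ∈ SGA3x.neutralSet H :=
        ((Groth.Lead.Neutral.neutralSet_inter H s).ge ⟨ξ, hξC, rfl⟩).1
      rw [← himg] at hy
      obtain ⟨g, hg, hgξ⟩ := hy
      have hgs : G.hom g = s := by
        rw [← Over.w u, Scheme.Hom.comp_apply, hgξ]
        exact (H.hom.range_fiberι s).le ⟨ξ, rfl⟩
      obtain ⟨g', -, rfl⟩ := (Groth.Lead.Neutral.neutralSet_inter G s).le ⟨hg, hgs⟩
      rw [Groth.Lead.Neutral.fibMap_comp] at hgξ
      have hgξ' : (Groth.Lead.Neutral.fibMap u s).left g' = ξ := (H.hom.fiberι s).isEmbedding.injective hgξ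
      have h := Groth.L25.Translate.flat_of_maximal_mem (Groth.Lead.Neutral.fibMap u s) g' fun a ha => by
        rw [hgξ'] at ha ⊢
        have h1 : C ⊆ closure {a} := by
          rw [show C = closure {ξ} from hξ.symm]
          exact closure_minimal (Set.singleton_subset_iff.2 ha.mem_closure) isClosed_closure
        have h2 : closure {a} ⊆ C :=
          (isIrreducible_singleton.closure.isConnected).subset_connectedComponent (h1 mem_connectedComponent)
        rw [specializes_iff_mem_closure, show closure {ξ} = C from hξ]
        exact h2 (subset_closure rfl)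
      rw [← (Groth.L20.Thick.isPullback_fiberMap u.left H.hom _).isoPullback_hom_snd,
        MorphismProperty.cancel_left_of_respectsIso @Flat]
      rw [← (Groth.L08.IsogenyFibres.isPullback_fibre G H u s).isoPullback_hom_snd] at h
      exact (MorphismProperty.cancel_left_of_respectsIso @Flat _ _).1 h
    exact Flat.stalkMap _ _

end Groth.Agent.S5328
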