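import Groth.Statements.S5333
import Groth.Agent.L18.KerReduced

set_option autoImplicit false
universe u
open CategoryTheory CategoryTheory.Limits MonoidalCategory CartesianMonoidalCategory MonObj GrpObj AlgebraicGeometry
open SGA3

namespace Groth.Agent.S5333

/-- (i) ⟺ (iii) ⟺ (iv'): let f : X → S be a morphism of schemes. Then X is separated over S if and only
if for every reduced scheme T and every two morphisms T → X with the same composite to S which agree
on a dense open subscheme of T are equal; and X is separated over S if and only if every two points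
of X in the same fibre over S lie in a common open subscheme of X which is separated over S. -/
theorem result (X S : Scheme.{u}) (f : X ⟶ S) :
    (IsSeparated f ↔ ∀ (T : Scheme.{u}) [IsReduced T] (g₁ g₂ : T ⟶ X) (U : T.Opens), g₁ ≫ f = g₂ ≫ f →
      Dense (U : Set T) → U.ι ≫ g₁ = U.ι ≫ g₂ → g₁ = g₂) ∧
    (IsSeparated f ↔ ∀ x₁ x₂ : X, f.base x₁ = f.base x₂ →
      ∃ V : X.Opens, x₁ ∈ V ∧ x₂ ∈ V ∧ IsSeparated (V.ι ≫ f)) := by
  refine ⟨⟨fun h T _ g₁ g₂ U hg hd hU => ?_, fun h => ?_⟩, ⟨fun h x₁ x₂ _ => ⟨⊤, trivial, trivial, inferInstance⟩, fun h => ?_⟩⟩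
  · haveI : IsDominant U.ι := ⟨by rw [DenseRange, Scheme.Opens.range_ι]; exact hd⟩
    exact ext_of_isDominant_of_isSeparated f hg U.ι hU
  · refine ⟨IsClosedImmersion.of_isPreimmersion _ (isClosed_of_closure_subset fun z hz => ?_)⟩
    let Z : TopologicalSpace.Closeds ↥(pullback f f) := ⟨closure (Set.range (pullback.diagonal f)), isClosed_closure⟩
    let I := Scheme.IdealSheafData.vanishingIdeal Z
    haveI : IsReduced I.subscheme := Groth.L18.isReduced_vanishingIdeal_subscheme Z
    have hr : Set.range I.subschemeι = closure (Set.range (pullback.diagonal f)) := by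
      rw [Scheme.IdealSheafData.range_subschemeι, Scheme.IdealSheafData.coe_support_vanishingIdeal]; rfl
    obtain ⟨O, C, hO, hC, hOC⟩ := (pullback.diagonal f).isLocallyClosed_range
    have hD : Set.range (pullback.diagonal f) = closure (Set.range (pullback.diagonal f)) ∩ O := by
      refine subset_antisymm (fun w hw => ⟨subset_closure hw, (hOC.le hw).1⟩) fun w ⟨hw, hwO⟩ => ?_
      rw [hOC]
      exact ⟨hwO, closure_minimal (t := C) (fun v hv => (hOC.le hv).2) hC hw⟩
    let U : I.subscheme.Opens := ⟨I.subschemeι ⁻¹' O, hO.preimage I.subschemeι.continuous⟩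
    have hUd : Dense (U : Set I.subscheme) := by
      intro w
      rw [I.subschemeι.isEmbedding.isInducing.closure_eq_preimage_closure_image, Set.mem_preimage]
      show I.subschemeι w ∈ closure (I.subschemeι '' (I.subschemeι ⁻¹' O))
      rw [Set.image_preimage_eq_inter_range, hr, Set.inter_comm O, ← hD, ← hr]
      exact ⟨w, rfl⟩
    haveI : Surjective (pullback.fst (U.ι ≫ I.subschemeι) (pullback.diagonal f)) := ⟨fun w => by
      have hw : w ∈ Set.range (pullback.fst (U.ι ≫ I.subschemeι) (pullback.diagonal f)) := by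
        rw [Scheme.Pullback.range_fst, Set.mem_preimage, hD]
        exact ⟨hr ▸ ⟨U.ι w, rfl⟩, w.2⟩
      exact hw⟩
    haveI : IsClosedImmersion (pullback.fst (U.ι ≫ I.subschemeι) (pullback.diagonal f)) :=
      .of_isPreimmersion _ (by rw [(pullback.fst (U.ι ≫ I.subschemeι) (pullback.diagonal f)).surjective.range_eq]; exact isClosed_univ)
    haveI : IsIso (pullback.fst (U.ι ≫ I.subschemeι) (pullback.diagonal f)) :=
      isIso_of_isClosedImmersion_of_surjective _
    have e : (U.ι ≫ I.subschemeι) = (inv (pullback.fst (U.ι ≫ I.subschemeι) (pullback.diagonal f)) ≫ pullback.snd _ _) ≫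
        pullback.diagonal f := by
      rw [Category.assoc, ← pullback.condition, IsIso.inv_hom_id_assoc]
    have e' := h I.subscheme (I.subschemeι ≫ pullback.fst f f) (I.subschemeι ≫ pullback.snd f f) U
      (by rw [Category.assoc, Category.assoc, pullback.condition]) hUd (by
        rw [← Category.assoc, ← Category.assoc, e]
        simp only [Category.assoc, pullback.diagonal_fst, pullback.diagonal_snd])
    have e'' : I.subschemeι = (I.subschemeι ≫ pullback.fst f f) ≫ pullback.diagonal f := by
      apply pullback.hom_ext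
      · simp
      · simp [e']
    obtain ⟨w, rfl⟩ : z ∈ Set.range I.subschemeι := hr ▸ hz
    exact ⟨(I.subschemeι ≫ pullback.fst f f) w, congr(($e'') w).symm⟩
  · refine ⟨IsClosedImmersion.of_isPreimmersion _ (isClosed_of_closure_subset fun z hz => ?_)⟩
    obtain ⟨V, h1, h2, hV⟩ := h (pullback.fst f f z) (pullback.snd f f z) congr(($(pullback.condition (f := f) (g := f))) z)
    let j : pullback (V.ι ≫ f) (V.ι ≫ f) ⟶ pullback f f :=
      pullback.map _ _ _ _ V.ι V.ι (𝟙 _) (Category.comp_id _) (Category.comp_id _)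
    obtain ⟨w, rfl⟩ : z ∈ Set.range j := by
      rw [Scheme.Pullback.range_map, Scheme.Opens.range_ι]; exact ⟨h1, h2⟩
    have hj : pullback.diagonal (V.ι ≫ f) ≫ j = V.ι ≫ pullback.diagonal f := by
      apply pullback.hom_ext <;> simp [j, pullback.lift_fst, pullback.lift_snd]
    have hcl : w ∈ closure (j ⁻¹' Set.range (pullback.diagonal f)) := by
      rw [← j.isOpenEmbedding.isOpenMap.preimage_closure_eq_closure_preimage j.continuous]
      exact hz
    haveI : IsClosedImmersion (pullback.diagonal (V.ι ≫ f)) := hV.isClosedImmersion_diagonal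
    obtain ⟨a, rfl⟩ : w ∈ Set.range (pullback.diagonal (V.ι ≫ f)) := by
      refine closure_minimal (fun v hv => ?_) (pullback.diagonal (V.ι ≫ f)).isClosedEmbedding.isClosed_range hcl
      obtain ⟨x, hx⟩ := hv
      obtain ⟨a, rfl⟩ : x ∈ Set.range V.ι := by
        have hjf : j ≫ pullback.fst f f = pullback.fst (V.ι ≫ f) (V.ι ≫ f) ≫ V.ι := pullback.lift_fst _ _ _
        have h3 : pullback.fst f f (j v) = V.ι (pullback.fst (V.ι ≫ f) (V.ι ≫ f) v) := congr(($hjf) v)
        refine ⟨pullback.fst (V.ι ≫ f) (V.ι ≫ f) v, ?_⟩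
        rw [← h3, ← hx]
        exact congr(($(pullback.diagonal_fst f)) x)
      exact ⟨a, j.isOpenEmbedding.injective (congr(($hj) a).trans hx)⟩
    exact ⟨V.ι a, (congr(($hj) a)).symm⟩

end Groth.Agent.S5333
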