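import Groth.Prelude.Def_SGA3x
import Groth.Prelude.Def_Red
import Groth.Prelude.Def_AlgGrp
import Groth.Prelude.Def_EGA43
import Groth.Prelude.Def_Flat
import Groth.Prelude.Def_ProCons
import Mathlib.AlgebraicGeometry.Morphisms.Flat
import Mathlib.AlgebraicGeometry.Morphisms.Smooth
import Mathlib.AlgebraicGeometry.Morphisms.Etale
import Mathlib.AlgebraicGeometry.Morphisms.ClosedImmersion
import Mathlib.AlgebraicGeometry.Morphisms.Separated
import Mathlib.AlgebraicGeometry.Morphisms.FinitePresentation
import Mathlib.AlgebraicGeometry.Morphisms.FiniteType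
import Mathlib.AlgebraicGeometry.Morphisms.QuasiCompact
import Mathlib.AlgebraicGeometry.Morphisms.QuasiFinite
import Mathlib.AlgebraicGeometry.Morphisms.FormallyUnramified
import Mathlib.AlgebraicGeometry.Morphisms.UniversallyOpen
import Mathlib.AlgebraicGeometry.Morphisms.UniversallyInjective
import Mathlib.AlgebraicGeometry.Morphisms.Integral
import Mathlib.AlgebraicGeometry.Fiber
import Mathlib.CategoryTheory.Limits.Shapes.Pullback.IsPullback.Defs
import Mathlib.Topology.KrullDimension
import Mathlib.Topology.Constructible
import Mathlib.Topology.LocallyConstant.Basic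
import Mathlib.Topology.Connected.Basic
import Mathlib.Topology.Semicontinuity.Defs
import Mathlib.RingTheory.Flat.Basic
import Groth.Agent.L02.NeutralOpen.Translate
import Mathlib.AlgebraicGeometry.Morphisms.Separated

set_option autoImplicit false
set_option linter.style.haveILetI false
namespace CartesianMonoidalCategory
end CartesianMonoidalCategory
namespace GrpObj
end GrpObj
namespace MonObj
end MonObj
namespace SGA3
end SGA3
set_option linter.style.haveILetI false
set_option backward.isDefEq.respectTransparency.types false
set_option backward.isDefEq.respectTransparency false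
universe u
open CategoryTheory CategoryTheory.Limits MonoidalCategory CartesianMonoidalCategory MonObj GrpObj AlgebraicGeometry
open SGA3

namespace Groth.Agent.S5334

/-- Let G be an S-group scheme locally of finite presentation over S such that s ↦ dim G_s is locally
constant on S, acting on an S-scheme X, and let U be an open subscheme of X separated over S. Let
G⁰·U be the image under the action G ×_S X → X of the set of points whose projection to G lies in
the union G⁰ of the neutral components of the fibres and whose projection to X lies in U. Then G⁰·U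
is open in X and the open subscheme it carries is separated over S. -/
theorem result (S : Scheme.{u}) (G X : Over S) [GrpObj G]
    [LocallyOfFinitePresentation G.hom]
    (hdim : IsLocallyConstant (fun s : S => topologicalKrullDim ↥(G.hom.base ⁻¹' {s})))
    (a : AlgGrp.Action G X) (U : X.left.Opens) (hU : IsSeparated (U.ι ≫ X.hom)) :
    ∃ V : X.left.Opens, (V : Set X.left) =
        a.act.left.base '' {z : ↥(G ⊗ X).left | (fst G X).left.base z ∈ SGA3x.neutralSet G ∧ (snd G X).left.base z ∈ U} ∧
      IsSeparated (V.ι ≫ X.hom) := by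
  let V : X.left.Opens := ⟨Groth.L02.NeutralOpen.translates G a (U : Set X.left),
    Groth.L02.NeutralOpen.isOpen_translates G hdim a U.isOpen⟩
  refine ⟨V, rfl, ?_⟩
  let Vo : Over S := Over.mk (V.ι ≫ X.hom)
  let iV : Vo ⟶ X := Over.homMk V.ι rfl
  haveI : Mono iV := Over.mono_of_mono_left iV
  haveI := hU
  have hcl : IsClosed (Groth.L02.NeutralOpen.coinc (fst Vo Vo) (snd Vo Vo)) := by
    rw [← Groth.L02.NeutralOpen.coinc_mono (fst Vo Vo) (snd Vo Vo) iV, ← isOpen_compl_iff, isOpen_iff_mem_nhds]
    intro t ht
    exact Groth.L02.NeutralOpen.compl_coinc_mem_nhds G hdim a U (fst Vo Vo ≫ iV) (snd Vo Vo ≫ iV)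
      ((fst Vo Vo).left t).2 ((snd Vo Vo).left t).2 ht
  have hr : Groth.L02.NeutralOpen.coinc (fst Vo Vo) (snd Vo Vo) = Set.range (pullback.diagonal Vo.hom) := by
    have e : (lift (𝟙 Vo) (𝟙 Vo)).left = pullback.diagonal Vo.hom := by
      rw [Over.lift_left]; rfl
    ext t
    constructor
    · rintro ⟨Z, P, ⟨z, rfl⟩, h⟩
      have h' : P = (P ≫ fst Vo Vo) ≫ lift (𝟙 Vo) (𝟙 Vo) := by
        apply CartesianMonoidalCategory.hom_ext <;> simp [h]
      rw [h', Over.comp_left, Scheme.Hom.comp_apply, e]
      exact ⟨_, rfl⟩
    · rintro ⟨z, rfl⟩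
      exact ⟨Vo, lift (𝟙 Vo) (𝟙 Vo), ⟨z, by rw [e]; rfl⟩, by rw [lift_fst, lift_snd]⟩
  rw [hr] at hcl
  exact ⟨IsClosedImmersion.of_isPreimmersion _ hcl⟩

end Groth.Agent.S5334
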