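import Groth.Statements.S5335
import Groth.Agent.L20.ThickeningTopology
import Groth.Agent.L25.Artinian.Reduce
import Groth.Agent.L25.Actions
-- import your own Groth.Agent.* helpers here

set_option autoImplicit false
universe u
open CategoryTheory CategoryTheory.Limits MonoidalCategory CartesianMonoidalCategory MonObj GrpObj AlgebraicGeometry
open SGA3

namespace Groth.Agent.S5335

/-- Let A be a local artinian ring and f : X' → X, g : Y' → Y two quasi-compact dominant morphisms of
schemes over A. Then the product morphism f ×_A g : X' ×_A Y' → X ×_A Y is dominant (and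
quasi-compact). -/
theorem result (A : Type u) [CommRing A] [IsArtinianRing A] [IsLocalRing A] (X X' Y Y' : Over (Spec (CommRingCat.of A)))
    (f : X' ⟶ X) (g : Y' ⟶ Y) [QuasiCompact f.left] [QuasiCompact g.left]
    (hf : DenseRange f.left.base) (hg : DenseRange g.left.base) :
    DenseRange (f ⊗ₘ g).left.base ∧ QuasiCompact (f ⊗ₘ g).left := by
  let θ := Groth.L25.Artinian.res A
  haveI hθ : IsClosedImmersion θ := (Groth.L25.Artinian.res_props A).1
  haveI hθs : Surjective θ := (Groth.L25.Artinian.res_props A).2
  haveI hθo : UniversallyOpen θ := by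
    refine ⟨fun X₁ Y₁ i₁ i₂ f' hsq => ?_⟩
    haveI : IsClosedImmersion f' := MorphismProperty.of_isPullback hsq.flip hθ
    haveI : Surjective f' := MorphismProperty.of_isPullback hsq.flip hθs
    have hb : Function.Bijective f' := ⟨f'.injective, f'.surjective⟩
    intro U hU
    rw [← isClosed_compl_iff, ← Set.image_compl_eq hb]
    exact f'.isClosedMap _ hU.isClosed_compl
  have huo : ∀ Z : Over (Spec (CommRingCat.of A)), UniversallyOpen Z.hom := fun Z => by
    let q := Limits.pullback.fst Z.hom θ
    haveI : Surjective q := MorphismProperty.pullback_fst _ _ hθs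
    haveI : UniversallyOpen (q ≫ Z.hom) := by
      rw [Limits.pullback.condition]
      haveI : Subsingleton (Spec (CommRingCat.of (IsLocalRing.ResidueField A)) : Scheme.{u}) :=
        inferInstanceAs (Subsingleton (PrimeSpectrum (IsLocalRing.ResidueField A)))
      exact MorphismProperty.comp_mem _ _ _ inferInstance hθo
    exact Groth.L20.Thick.universallyOpen_of_comp_surjective q Z.hom
  have hR : (f ▷ Y' ≫ X ◁ g) = f ⊗ₘ g := (tensorHom_def f g).symm
  have sq₁ := Groth.L25.Actions.isPullback_whiskerRight_left f Y'
  have sq₂ := Groth.L25.Actions.isPullback_whiskerLeft_left X g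
  haveI : QuasiCompact (f ▷ Y').left := MorphismProperty.of_isPullback sq₁.flip ‹QuasiCompact f.left›
  haveI : QuasiCompact (X ◁ g).left := MorphismProperty.of_isPullback sq₂.flip ‹QuasiCompact g.left›
  have ho₁ : IsOpenMap (fst X Y').left := by
    haveI := huo Y'
    rw [Over.fst_left]; exact (Limits.pullback.fst X.hom Y'.hom).isOpenMap
  have ho₂ : IsOpenMap (snd X Y).left := by
    haveI := huo X
    rw [Over.snd_left]; exact (Limits.pullback.snd X.hom Y.hom).isOpenMap
  have hd₁ : DenseRange (f ▷ Y').left := by
    refine Dense.mono ?_ (hf.preimage ho₁)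
    intro w hw
    obtain ⟨x, hx⟩ := hw
    obtain ⟨p, -, hp⟩ := Scheme.Pullback.exists_preimage_pullback x w hx
    exact ⟨sq₁.flip.isoPullback.inv p, by rw [← Scheme.Hom.comp_apply, sq₁.flip.isoPullback_inv_snd, hp]⟩
  have hd₂ : DenseRange (X ◁ g).left := by
    refine Dense.mono ?_ (hg.preimage ho₂)
    intro w hw
    obtain ⟨x, hx⟩ := hw
    obtain ⟨p, -, hp⟩ := Scheme.Pullback.exists_preimage_pullback x w hx
    exact ⟨sq₂.flip.isoPullback.inv p, by rw [← Scheme.Hom.comp_apply, sq₂.flip.isoPullback_inv_snd, hp]⟩
  rw [← hR, Over.comp_left]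
  refine ⟨?_, inferInstance⟩
  rw [Scheme.Hom.comp_base, TopCat.coe_comp]
  exact hd₂.comp hd₁ (X ◁ g).left.continuous

end Groth.Agent.S5335
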