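import Groth.Statements.S5343
import Mathlib.RingTheory.Spectrum.Prime.Topology
import Mathlib.RingTheory.Ideal.IdempotentFG
import Mathlib.Algebra.Module.Projective

set_option autoImplicit false
universe u
open CategoryTheory CategoryTheory.Limits MonoidalCategory CartesianMonoidalCategory MonObj GrpObj AlgebraicGeometry
open SGA3

namespace Groth.Agent.S5343

/-- Let R be a commutative ring and B a commutative R-algebra which is projective as an R-module. Then
the image of Spec B → Spec R is an open and closed subset of Spec R. (The published statement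
concerns a quasi-coherent algebra on any scheme which is a direct summand of a free module; this row
is the affine case.) -/
theorem result (R B : Type u) [CommRing R] [CommRing B] [Algebra R B] [Module.Projective R B] :
    IsClopen (Set.range (PrimeSpectrum.comap (algebraMap R B))) := by
  obtain ⟨s, hs⟩ := Module.projective_def.mp ‹Module.Projective R B›
  let C : Ideal R := Ideal.span (Set.range (s 1))
  have hmem : ∀ i, s 1 i ∈ C := fun i => Ideal.subset_span ⟨i, rfl⟩
  have hone : (1 : B) = (s 1).sum fun i c => c • i := by
    conv_lhs => rw [← hs 1]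
    rw [Finsupp.linearCombination_apply]
    rfl
  have hall : ∀ b j, s b j ∈ C := by
    intro b j
    have hb : b = (s 1).sum fun i c => c • (b * i) := by
      conv_lhs => rw [← mul_one b, hone, Finsupp.mul_sum]
      exact Finsupp.sum_congr fun i _ => mul_smul_comm _ _ _
    rw [hb, map_finsuppSum, Finsupp.sum, Finsupp.finsetSum_apply]
    refine Ideal.sum_mem _ fun i _ => ?_
    rw [map_smul, Finsupp.smul_apply, smul_eq_mul]
    exact Ideal.mul_mem_right _ _ (hmem i)
  have hidem : IsIdempotentElem C := by
    refine le_antisymm Ideal.mul_le_left (Ideal.span_le.mpr ?_)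
    rintro _ ⟨j, rfl⟩
    rw [SetLike.mem_coe, hone, map_finsuppSum, Finsupp.sum, Finsupp.finsetSum_apply]
    refine Ideal.sum_mem _ fun i _ => ?_
    rw [map_smul, Finsupp.smul_apply, smul_eq_mul]
    exact Ideal.mul_mem_mul (hmem i) (hall i j)
  obtain ⟨e, he, hCe⟩ := (C.isIdempotentElem_iff_of_fg
    (Submodule.fg_span (s 1).finite_range)).mp hidem
  have hrange : Set.range (PrimeSpectrum.comap (algebraMap R B)) =
      (PrimeSpectrum.zeroLocus (C : Set R))ᶜ := by
    ext p
    rw [Set.mem_compl_iff, PrimeSpectrum.mem_zeroLocus, SetLike.coe_subset_coe, PrimeSpectrum.mem_range_comap_iff]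
    constructor
    · intro hp hC
      apply p.isPrime.ne_top
      rw [← hp, Ideal.eq_top_iff_one, Ideal.mem_comap, map_one, hone]
      refine Ideal.sum_mem _ fun i _ => ?_
      simp only [Algebra.smul_def]
      exact Ideal.mul_mem_right _ _ (Ideal.mem_map_of_mem _ (hC (hmem i)))
    · intro hC
      obtain ⟨i, hi⟩ : ∃ i, s 1 i ∉ p.asIdeal := by
        by_contra hcon
        push Not at hcon
        exact hC (Ideal.span_le.mpr (by rintro _ ⟨i, rfl⟩; exact hcon i))
      refine le_antisymm (fun r hr => ?_) Ideal.le_comap_map
      have hsub : ∀ x ∈ p.asIdeal.map (algebraMap R B), ∀ j, s x j ∈ p.asIdeal := by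
        intro x hx j
        suffices hb : ∀ b, ∀ j, s (b * x) j ∈ p.asIdeal by simpa using hb 1 j
        induction hx using Submodule.span_induction with
        | mem x hx =>
          obtain ⟨a, ha, rfl⟩ := hx
          intro b j
          rw [mul_comm, ← Algebra.smul_def, map_smul, Finsupp.smul_apply, smul_eq_mul]
          exact Ideal.mul_mem_right _ _ ha
        | zero => intro b j; simp
        | add x y _ _ hx hy =>
          intro b j
          rw [mul_add, map_add, Finsupp.add_apply]; exact add_mem (hx b j) (hy b j)
        | smul c x _ hx =>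
          intro b j
          rw [smul_eq_mul, ← _root_.mul_assoc]; exact hx _ j
      have := hsub _ hr i
      rw [Algebra.algebraMap_eq_smul_one, map_smul, Finsupp.smul_apply, smul_eq_mul] at this
      exact (p.isPrime.mem_or_mem this).resolve_right hi
  rw [hrange, hCe]
  exact (PrimeSpectrum.isClopen_iff_zeroLocus.mpr ⟨e, he, PrimeSpectrum.zeroLocus_span _⟩).compl
end Groth.Agent.S5343
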