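import Groth.Statements.S5344
import Groth.Agent.L25.Artinian.Reduce
import Groth.Agent.L25.Component
import Groth.Agent.L00.ReducedSub
import Groth.Agent.S5342
import Groth.Prelude.Def_Red
-- import your own Groth.Agent.* helpers here

set_option autoImplicit false
universe u
open CategoryTheory CategoryTheory.Limits MonoidalCategory CartesianMonoidalCategory MonObj GrpObj AlgebraicGeometry
open SGA3

namespace Groth.Agent.S5344

/-- Transport of connected components along a homeomorphism. -/
theorem image_connectedComponent {α β : Type*} [TopologicalSpace α] [TopologicalSpace β] (e : α ≃ₜ β) (x : α) :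
    e '' connectedComponent x = connectedComponent (e x) :=
  subset_antisymm (e.continuous.image_connectedComponent_subset x) fun c hc => ⟨e.symm c, by
    have := e.symm.continuous.image_connectedComponent_subset (e x) ⟨c, hc, rfl⟩
    rwa [e.symm_apply_apply] at this, e.apply_symm_apply c⟩

/-- Let A be a local artinian ring and G an A-group scheme locally of finite type, and let G⁰ be the
connected component of the unit point. Then G⁰ is open in G; it is stable under the group law: for
every A-scheme T and all points g, h : T → G whose images lie in G⁰, the image of g h⁻¹ lies in G⁰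
(so G⁰ carries an open subgroup scheme, the neutral component); and it is normal: for every A-scheme
T, every point g : T → G and every point n : T → G whose image lies in G⁰, the image of g n g⁻¹ lies
in G⁰. -/
theorem result (A : Type u) [CommRing A] [IsArtinianRing A] [IsLocalRing A] (G : Over (Spec (CommRingCat.of A))) [GrpObj G] [LocallyOfFiniteType G.hom]
    (pt : ↥(𝟙_ (Over (Spec (CommRingCat.of A)))).left) :
    IsOpen (connectedComponent (η[G].left.base pt)) ∧
    (∀ (T : Over (Spec (CommRingCat.of A))) (g h : T ⟶ G), Set.range g.left.base ⊆ connectedComponent (η[G].left.base pt) →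
      Set.range h.left.base ⊆ connectedComponent (η[G].left.base pt) →
      Set.range (g * h⁻¹).left.base ⊆ connectedComponent (η[G].left.base pt)) ∧
    ∀ (T : Over (Spec (CommRingCat.of A))) (g n : T ⟶ G), Set.range n.left.base ⊆ connectedComponent (η[G].left.base pt) →
      Set.range (g * n * g⁻¹).left.base ⊆ connectedComponent (η[G].left.base pt) := by
  classical
  let θ := Groth.L25.Artinian.res A
  haveI hθ : IsClosedImmersion θ := (Groth.L25.Artinian.res_props A).1
  haveI hθs : Surjective θ := (Groth.L25.Artinian.res_props A).2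
  let k := IsLocalRing.ResidueField A
  let e₀ : G.left := η[G].left.base pt
  let C := connectedComponent e₀
  let Gk : Over (Spec (CommRingCat.of k)) := Red.bc θ G
  haveI : LocallyOfFiniteType Gk.hom := MorphismProperty.pullback_snd _ _ ‹_›
  haveI : IsLocallyNoetherian Gk.left := LocallyOfFiniteType.isLocallyNoetherian Gk.hom
  let p := Limits.pullback.fst G.hom θ
  obtain ⟨hb, ho⟩ := Groth.L25.Artinian.homeo (X := G)
  let hp : Gk.left ≃ₜ G.left :=
    (Equiv.ofBijective p hb).toHomeomorphOfContinuousOpen p.continuous ho
  have hCopen : IsOpen C := by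
    have h1 := hp.isOpenMap _ (Groth.L25.Component.isOpen_of_mem Gk
      (Groth.L25.Component.connectedComponent_mem Gk (hp.symm e₀)))
    rwa [image_connectedComponent, Homeomorph.apply_symm_apply] at h1
  refine ⟨hCopen, ?_⟩
  let U : G.left.Opens := ⟨C, hCopen⟩
  let C0 : Over (Spec (CommRingCat.of A)) := Over.mk (U.ι ≫ G.hom)
  let j : C0 ⟶ G := Over.homMk U.ι
  have hj : Set.range j.left = C := Scheme.Opens.range_ι U
  haveI hCc : ConnectedSpace U.toScheme := isConnected_iff_connectedSpace.mp isConnected_connectedComponent
  let pC := Limits.pullback.fst C0.hom θ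
  obtain ⟨hbC, hoC⟩ := Groth.L25.Artinian.homeo (X := C0)
  let hC0 : ↥(Limits.pullback C0.hom θ) ≃ₜ U.toScheme :=
    (Equiv.ofBijective pC hbC).toHomeomorphOfContinuousOpen pC.continuous hoC
  haveI : ConnectedSpace ↥(Limits.pullback C0.hom θ) := connectedSpace_iff_univ.mpr <| by
    have := isConnected_univ (α := U.toScheme) |>.image hC0.symm hC0.symm.continuous.continuousOn
    rwa [Set.image_univ, hC0.symm.surjective.range_eq] at this
  have he0 : Set.range η[G].left ⊆ Set.range U.ι := by
    rw [Scheme.Opens.range_ι]
    rintro _ ⟨q, rfl⟩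
    show η[G].left q ∈ C
    rw [show q = pt from Subsingleton.elim (α := PrimeSpectrum A) _ _]
    exact mem_connectedComponent
  let e' := IsOpenImmersion.lift U.ι η[G].left he0
  have he' : e' ≫ C0.hom = 𝟙 _ := by
    show e' ≫ U.ι ≫ G.hom = _
    rw [← Category.assoc, IsOpenImmersion.lift_fac]
    exact Over.w η[G]
  let ek : Spec (CommRingCat.of k) ⟶ Limits.pullback C0.hom θ :=
    Limits.pullback.lift (θ ≫ e') (𝟙 _) (by rw [Category.assoc, he', Category.id_comp]; exact Category.comp_id θ)
  -- connectedness of `{x} × C` and its image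
  have key : ∀ (φ : G ⊗ G ⟶ G) (x : G.left),
      (∀ {T : Over (Spec (CommRingCat.of A))} (a : T ⟶ G) (c : T.left), a.left c = x →
        (CartesianMonoidalCategory.lift a (toUnit T ≫ η[G]) ≫ φ).left c ∈ C) →
      ∀ z : (G ⊗ G).left, (fst G G).left z = x → (snd G G).left z ∈ C → φ.left z ∈ C := by
    intro φ x hbase z hz1 hz2
    let T : Over (Spec (CommRingCat.of A)) := Over.mk (G.left.fromSpecResidueField x ≫ G.hom)
    let a : T ⟶ G := Over.homMk (G.left.fromSpecResidueField x) rfl
    let c : T.left := IsLocalRing.closedPoint (G.left.residueField x)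
    have ha : ∀ c' : T.left, a.left c' = x := Scheme.fromSpecResidueField_apply x
    haveI : AlgebraicGeometry.IsReduced (Spec (CommRingCat.of k)) := inferInstance
    haveI : AlgebraicGeometry.IsReduced (Spec (G.left.residueField x)) := inferInstance
    obtain ⟨b, hb'⟩ := Groth.L00.ReducedSub.exists_lift θ (G.left.fromSpecResidueField x ≫ G.hom)
      (by rw [hθs.1.range_eq]; exact Set.subset_univ _)
    haveI : ConnectedSpace (Spec (G.left.residueField x) : Scheme.{u}) := by
      haveI : Subsingleton (Spec (G.left.residueField x) : Scheme.{u}) :=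
        inferInstanceAs (Subsingleton (PrimeSpectrum (G.left.residueField x)))
      exact ⟨⟨c⟩⟩
    haveI hc' : ConnectedSpace ↥(Limits.pullback (Limits.pullback.snd C0.hom θ) b) :=
      Groth.Agent.S5342.result k (Limits.pullback C0.hom θ) (Spec (G.left.residueField x))
        (Limits.pullback.snd C0.hom θ) b ek (Limits.pullback.lift_snd _ _ _)
    haveI : ConnectedSpace (T ⊗ C0).left := by
      let e : Limits.pullback (Limits.pullback.snd C0.hom θ) b ≅ (T ⊗ C0).left :=
        pullbackLeftPullbackSndIso C0.hom θ b ≪≫ Limits.pullback.congrHom rfl hb' ≪≫ pullbackSymmetry _ _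
      refine connectedSpace_iff_univ.mpr ?_
      have := isConnected_univ (α := ↥(Limits.pullback (Limits.pullback.snd C0.hom θ) b)) |>.image e.hom
        e.hom.continuous.continuousOn
      rwa [Set.image_univ, (show Function.Surjective e.hom from e.hom.homeomorph.surjective).range_eq] at this
    have hS : _root_.IsPreconnected (φ.left '' Set.range (a ⊗ₘ j).left) :=
      ((isPreconnected_range (a ⊗ₘ j).left.continuous).image _ φ.left.continuous.continuousOn)
    have hmem : (CartesianMonoidalCategory.lift a (toUnit T ≫ η[G])).left c ∈ Set.range (a ⊗ₘ j).left := by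
      rw [Groth.L25.Translate.range_tensorHom, hj]
      refine ⟨⟨c, (congr(($(lift_fst a (toUnit T ≫ η[G]))).left c)).symm⟩, ?_⟩
      show (snd G G).left _ ∈ C
      rw [show (snd G G).left ((CartesianMonoidalCategory.lift a (toUnit T ≫ η[G])).left c) =
        (toUnit T ≫ η[G]).left c from congr(($(lift_snd a (toUnit T ≫ η[G]))).left c)]
      rw [Over.comp_left, Scheme.Hom.comp_apply, show (toUnit T).left c = pt from Subsingleton.elim (α := PrimeSpectrum A) _ _]
      exact mem_connectedComponent
    have hz : z ∈ Set.range (a ⊗ₘ j).left := by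
      rw [Groth.L25.Translate.range_tensorHom, hj]
      exact ⟨⟨c, (ha c).trans hz1.symm⟩, hz2⟩
    have h0 := hbase a c (ha c)
    rw [Over.comp_left, Scheme.Hom.comp_apply] at h0
    have h1 := hS.subset_connectedComponent ⟨_, hmem, rfl⟩ ⟨z, hz, rfl⟩
    show φ.left z ∈ connectedComponent e₀
    exact connectedComponent_eq h0 ▸ h1
  have hunit : ∀ {T : Over (Spec (CommRingCat.of A))} (c : T.left), (toUnit T ≫ η[G]).left c ∈ C := fun {T} c => by
    rw [Over.comp_left, Scheme.Hom.comp_apply, show (toUnit T).left c = pt from Subsingleton.elim (α := PrimeSpectrum A) _ _]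
    exact mem_connectedComponent
  refine ⟨fun T g h hg hh => ?_, fun T g n hn => ?_⟩
  · rintro _ ⟨w, rfl⟩
    let φ : G ⊗ G ⟶ G := fst G G * (snd G G)⁻¹
    have e : CartesianMonoidalCategory.lift g h ≫ φ = g * h⁻¹ := by
      simp [φ, MonObj.comp_mul, GrpObj.comp_inv]
    rw [← e, Over.comp_left, Scheme.Hom.comp_apply]
    refine key φ (g.left w) (fun a c hac => ?_) _ (congr(($(lift_fst g h)).left w)) ?_
    · rw [show CartesianMonoidalCategory.lift a (toUnit _ ≫ η[G]) ≫ φ = a by
        simp [φ, MonObj.comp_mul, GrpObj.comp_inv, ← Hom.one_def], hac]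
      exact hg ⟨w, rfl⟩
    · rw [show (snd G G).left ((CartesianMonoidalCategory.lift g h).left w) = h.left w from congr(($(lift_snd g h)).left w)]
      exact hh ⟨w, rfl⟩
  · rintro _ ⟨w, rfl⟩
    let φ : G ⊗ G ⟶ G := fst G G * snd G G * (fst G G)⁻¹
    have e : CartesianMonoidalCategory.lift g n ≫ φ = g * n * g⁻¹ := by
      simp [φ, MonObj.comp_mul, GrpObj.comp_inv]
    rw [← e, Over.comp_left, Scheme.Hom.comp_apply]
    refine key φ (g.left w) (fun a c _ => ?_) _ (congr(($(lift_fst g n)).left w)) ?_
    · rw [show CartesianMonoidalCategory.lift a (toUnit _ ≫ η[G]) ≫ φ = toUnit _ ≫ η[G] by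
        simp [φ, MonObj.comp_mul, GrpObj.comp_inv, ← Hom.one_def]]
      exact hunit c
    · rw [show (snd G G).left ((CartesianMonoidalCategory.lift g n).left w) = n.left w from congr(($(lift_snd g n)).left w)]
      exact hn ⟨w, rfl⟩

end Groth.Agent.S5344
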