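import Groth.Statements.S5346
import Groth.Agent.S1309
import Groth.Agent.S1303
import Groth.Agent.S1313
import Groth.Agent.S1316
import Groth.Agent.L08.GQuot.Artinian
import Groth.Agent.L20.ThickeningProps
import Groth.Agent.L08.MulEtaleBC
-- import your own Groth.Agent.* helpers here

set_option autoImplicit false
universe u
open CategoryTheory CategoryTheory.Limits MonoidalCategory CartesianMonoidalCategory MonObj GrpObj AlgebraicGeometry
open SGA3

namespace Groth.Agent.S5346

/-- Let A be a local artinian ring with residue field k and i : Spec k → Spec A the closed point. (i) If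
X is an A-scheme whose base change X ⊗_A k is locally of finite type (resp. of finite type) over k,
then X is locally of finite type (resp. of finite type) over A. (ii) If u : X → Y is a morphism of
A-schemes whose base change u ⊗_A k is an immersion (resp. a closed immersion), then u is an
immersion (resp. a closed immersion). -/
theorem result (A : Type u) [CommRing A] [IsArtinianRing A] [IsLocalRing A] (X Y : Over (Spec (CommRingCat.of A))) (u : X ⟶ Y) :
    letI i : Spec (CommRingCat.of (IsLocalRing.ResidueField A)) ⟶ (Spec (CommRingCat.of A)) := Spec.map (CommRingCat.ofHom (IsLocalRing.residue A))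
    (LocallyOfFiniteType (pullback.snd X.hom i) → LocallyOfFiniteType X.hom) ∧
    (LocallyOfFiniteType (pullback.snd X.hom i) → QuasiCompact (pullback.snd X.hom i) → QuasiCompact X.hom) ∧
    (IsImmersion ((Over.pullback i).map u).left → IsImmersion u.left) ∧
    (IsClosedImmersion ((Over.pullback i).map u).left → IsClosedImmersion u.left) := by
  let θ : Spec (CommRingCat.of (IsLocalRing.ResidueField A)) ⟶ Spec (CommRingCat.of A) :=
    Spec.map (CommRingCat.ofHom (IsLocalRing.residue A))
  obtain ⟨hci, hsurj, hnil⟩ := Groth.L08.GQuot.resPt_props (A := A)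
  haveI : IsClosedImmersion θ := hci
  have hthk : ∀ (Z : Over (Spec (CommRingCat.of A))),
      MoreMor.IsFiniteOrderThickening (Limits.pullback.fst Z.hom θ) := fun Z =>
    ⟨⟨MorphismProperty.pullback_fst _ _ hci, MorphismProperty.pullback_fst _ _ hsurj⟩,
      Groth.L20.Thick.isNilpotent_ker_of_isPullback (iY := θ) hnil (IsPullback.of_hasPullback Z.hom θ)⟩
  have sq := (Groth.L08.MulEtale.isPullback_map θ u).flip
  refine ⟨fun h => ?_, fun _ h => ?_, fun h => ?_, fun h => ?_⟩
  · exact (Groth.Agent.S1309.result _ θ _ X.hom ⟨⟨hci, hsurj⟩, hnil⟩ (IsPullback.of_hasPullback X.hom θ)).1 h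
  · exact (Groth.Agent.S1303.result _ θ _ X.hom (hthk X).1 ⟨hci, hsurj⟩ Limits.pullback.condition).1 h
  · haveI := h
    haveI : LocallyOfFiniteType ((Over.pullback θ).map u).left := inferInstance
    haveI : LocallyOfFiniteType u.left :=
      (Groth.Agent.S1309.result _ _ _ u.left (hthk Y) sq).1 inferInstance
    exact (Groth.Agent.S1316.result _ _ _ u.left (hthk Y).1 sq).1 h
  · haveI := h
    haveI : LocallyOfFiniteType ((Over.pullback θ).map u).left := inferInstance
    haveI : LocallyOfFiniteType u.left :=
      (Groth.Agent.S1309.result _ _ _ u.left (hthk Y) sq).1 inferInstance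
    exact (Groth.Agent.S1313.result _ _ _ u.left (hthk Y).1 sq).1 h

end Groth.Agent.S5346
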