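import Groth.Statements.S5347
import Groth.Agent.L08.FlatAtPoint
import Groth.Agent.L25.Actions
-- import your own Groth.Agent.* helpers here

set_option autoImplicit false
universe u
open CategoryTheory CategoryTheory.Limits MonoidalCategory CartesianMonoidalCategory MonObj GrpObj AlgebraicGeometry
open SGA3

namespace Groth.Agent.S5347

/-- Let A be a local artinian ring, G a flat A-group scheme (not assumed of finite type), X an A-scheme
with a left action of G and an A-point s₀ of X, and φ : G → X the orbit morphism g ↦ g·s₀. If φ is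
flat at some point of G (the local ring of G there is flat over the local ring of X at the image),
then φ is flat. -/
theorem result (A : Type u) [CommRing A] [IsArtinianRing A] [IsLocalRing A] (G X : Over (Spec (CommRingCat.of A))) [GrpObj G] [Flat G.hom]
    (a : AlgGrp.Action G X) (s₀ : 𝟙_ (Over (Spec (CommRingCat.of A))) ⟶ X)
    (h : ∃ g : G.left, ((a.orbitMap s₀).left.stalkMap g).hom.Flat) : Flat (a.orbitMap s₀).left := by
  obtain ⟨x, hx⟩ := h
  let φ := a.orbitMap s₀
  refine Flat.of_stalkMap _ fun g => ?_
  obtain ⟨w, hw1, hw2⟩ := Scheme.Pullback.exists_preimage_pullback x g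
    (show G.hom x = G.hom g from Subsingleton.elim (α := PrimeSpectrum A) _ _)
  let τ := CartesianMonoidalCategory.lift (snd G G * (fst G G)⁻¹) (fst G G)
  let m : G ⊗ G ⟶ G := fst G G * snd G G
  let z : (G ⊗ G).left := τ.left w
  have hz : (snd G G).left z = x := by
    have e : τ ≫ snd G G = fst G G := lift_snd _ _
    exact (congr(($e).left w)).trans hw1
  have hm : m.left z = g := by
    have e : τ ≫ m = snd G G := by
      simp [τ, m, MonObj.comp_mul]
    exact (congr(($e).left w)).trans hw2
  have hφ : ∀ {T : Over (Spec (CommRingCat.of A))} (p : T ⟶ G),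
      p ≫ φ = lift p (toUnit T ≫ s₀) ≫ a.act := by
    intro T p
    show p ≫ lift (𝟙 G) (toUnit G ≫ s₀) ≫ a.act = _
    rw [← Category.assoc, comp_lift, Category.comp_id, ← Category.assoc, Subsingleton.elim (p ≫ toUnit G) (toUnit T)]
  have hmφ : m ≫ φ = (G ◁ φ) ≫ a.act := by
    rw [hφ m, Groth.L25.Actions.mul_act, ← hφ (snd G G)]
    congr 1
  have h1 : ((G ◁ φ).left.stalkMap z).hom.Flat :=
    Groth.L21.GorensteinBaseChange.flat_stalkMap_of_isPullback
      (Groth.L25.Actions.isPullback_whiskerLeft_left G φ).flip z (by rw [hz]; exact hx)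
  haveI : Flat m.left := by
    have := Groth.L08.FlatAtPoint.flat_act (G := G) (H := G) (𝟙 G)
    simpa [Groth.L08.FlatAtPoint.act, m] using this
  haveI : Flat a.act.left := Groth.L25.Actions.act_of_hom a @Flat ‹Flat G.hom›
  have h2 : ((m.left ≫ φ.left).stalkMap z).hom.Flat := by
    rw [← Over.comp_left, hmφ, Over.comp_left, Scheme.Hom.stalkMap_comp]
    exact RingHom.Flat.comp (Flat.stalkMap a.act.left _) h1
  rw [Scheme.Hom.stalkMap_comp] at h2
  rw [← hm]
  let ra := (φ.left.stalkMap (m.left z)).hom
  let b := (m.left.stalkMap z).hom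
  have hb : b.Flat := Flat.stalkMap m.left _
  show ra.Flat
  letI := ra.toAlgebra
  letI := b.toAlgebra
  letI := (b.comp ra).toAlgebra
  haveI : IsScalarTower _ _ _ :=
    IsScalarTower.of_algebraMap_eq (R := X.left.presheaf.stalk (φ.left (m.left z)))
      (S := G.left.presheaf.stalk (m.left z)) (A := (G ⊗ G).left.presheaf.stalk z) fun _ => rfl
  haveI : Module.Flat (X.left.presheaf.stalk (φ.left (m.left z))) ((G ⊗ G).left.presheaf.stalk z) := h2
  haveI : Module.Flat (G.left.presheaf.stalk (m.left z)) ((G ⊗ G).left.presheaf.stalk z) := hb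
  haveI : IsLocalHom (algebraMap (G.left.presheaf.stalk (m.left z)) ((G ⊗ G).left.presheaf.stalk z)) :=
    inferInstanceAs (IsLocalHom b)
  haveI : Module.FaithfullyFlat (G.left.presheaf.stalk (m.left z)) ((G ⊗ G).left.presheaf.stalk z) :=
    Module.FaithfullyFlat.of_flat_of_isLocalHom
  exact Groth.L25.Translate.flat_of_comp_faithfullyFlat (T := (G ⊗ G).left.presheaf.stalk z)

end Groth.Agent.S5347
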