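import Groth.Statements.S5351
import Groth.Agent.L08.GQuot.Components
import Groth.Agent.L08.GQuot.Struct
-- import your own Groth.Agent.* helpers here

set_option autoImplicit false
universe u
open CategoryTheory CategoryTheory.Limits MonoidalCategory CartesianMonoidalCategory MonObj GrpObj AlgebraicGeometry
open SGA3

namespace Groth.Agent.S5351

/-- Let A be a local artinian ring, G an A-group scheme locally of finite type, and u : F → G a
homomorphism which is a closed immersion, with F flat and quasi-compact (hence of finite type) over
A (G is not assumed flat). Then there are an A-scheme X and a morphism p : G → X over A (the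
quotient of G by F acting by left translations) such that: X is separated and locally of finite type
over A; p is surjective, flat and locally of finite presentation; the square formed by (f, g) ↦
u(f)·g, the second projection F ×_A G → G and p (twice) is cartesian; X is flat (resp.
quasi-compact, resp. smooth) over A when G is; and every connected component of X is irreducible and
quasi-compact, of dimension d with d + dim F = dim G. (The published statement asks only that F be a
closed subgroup scheme flat over A, hence locally of finite type; this row also assumes F
quasi-compact over A, the case in which the second projection F ×_A G → G is of finite presentation,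
as the reduction to the residue field used in the proof requires. The published statement also
asserts exactness of F ×_A G ⇉ G → X in the category of all ringed spaces and a right action of G on
X; these are not part of this row.) -/
theorem result (A : Type u) [CommRing A] [IsArtinianRing A] [IsLocalRing A] (F G : Over (Spec (CommRingCat.of A))) [GrpObj F] [GrpObj G]
    [LocallyOfFiniteType G.hom] [Flat F.hom] [QuasiCompact F.hom] (u : F ⟶ G) [IsMonHom u] [IsClosedImmersion u.left] :
    ∃ (X : Over (Spec (CommRingCat.of A))) (p : G ⟶ X),
      IsSeparated X.hom ∧ LocallyOfFiniteType X.hom ∧
      Surjective p.left ∧ Flat p.left ∧ LocallyOfFinitePresentation p.left ∧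
      IsPullback ((u ▷ G) ≫ μ[G]) (snd F G) p p ∧
      (Flat G.hom → Flat X.hom) ∧ (QuasiCompact G.hom → QuasiCompact X.hom) ∧ (Smooth G.hom → Smooth X.hom) ∧
      ∀ x : X.left, IsIrreducible (connectedComponent x) ∧ IsCompact (connectedComponent x) ∧
        topologicalKrullDim ↥(connectedComponent x) + topologicalKrullDim ↥F.left = topologicalKrullDim ↥G.left := by
  haveI : Mono u := Over.mono_of_mono_left u
  haveI : LocallyOfFiniteType F.hom := by rw [← Over.w u]; infer_instance
  obtain ⟨Y, p, hps, hpf, hpl, sq⟩ := Groth.L08.GQuot.exists_quotient_artinian u
  obtain ⟨X, q, h1, h2, h3, h4, h5, h6, h7, h8, h9⟩ := Groth.L08.GQuot.exists_struct (v := u) p sq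
  haveI : IsSeparated X.hom := h9 inferInstance
  haveI : LocallyOfFiniteType X.hom := h5 inferInstance
  have sq' : IsPullback (Groth.L08.GQuot.tt u) (Groth.L08.GQuot.ss F G) q.left q.left := by
    have := h4.map (Over.forget (Spec (CommRingCat.of A)))
    rw [← Groth.L08.GQuot.tO_eq] at this
    exact this
  exact ⟨X, q, inferInstance, inferInstance, h1, h2, h3, h4, h6, h7, h8, fun x =>
    Groth.L08.GQuot.components q sq' x⟩

end Groth.Agent.S5351
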