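import Groth.Statements.S5352
import Groth.Agent.L08.NormalQuot.Affine
-- import your own Groth.Agent.* helpers here

set_option autoImplicit false
universe u
open CategoryTheory CategoryTheory.Limits MonoidalCategory CartesianMonoidalCategory MonObj GrpObj AlgebraicGeometry
open SGA3

namespace Groth.Agent.S5352

/-- Let k be a field. The category of commutative affine algebraic k-groups (commutative group objects
in k-schemes whose underlying scheme is affine and of finite type over k, as a full subcategory of
commutative group objects over Spec k) is an abelian category. -/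
theorem result (k : Type u) [Field k] :
    Nonempty (Abelian (ObjectProperty.FullSubcategory
      (fun G : CommGrp (Over (Spec (CommRingCat.of k))) => LocallyOfFiniteType G.X.hom ∧ QuasiCompact G.X.hom ∧ IsAffine G.X.left))) := by
  refine Groth.L08.AbelianGrp.abelian ⟨fun _ h => ⟨h.1, h.2.1⟩, ⟨?_, ?_, ?_⟩, ?_, ?_, ?_⟩
  · exact inferInstanceAs (LocallyOfFiniteType (𝟙 (Spec (CommRingCat.of k))))
  · exact inferInstanceAs (QuasiCompact (𝟙 (Spec (CommRingCat.of k))))
  · exact inferInstanceAs (IsAffine (Spec (CommRingCat.of k)))
  · rintro G H ⟨_, _, _⟩ ⟨_, _, _⟩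
    haveI : IsAffineHom H.X.hom := inferInstance
    haveI : IsAffine (pullback G.X.hom H.X.hom) := inferInstance
    exact ⟨inferInstanceAs (LocallyOfFiniteType (pullback.fst G.X.hom H.X.hom ≫ G.X.hom)),
      inferInstanceAs (QuasiCompact (pullback.fst G.X.hom H.X.hom ≫ G.X.hom)),
      inferInstanceAs (IsAffine (pullback G.X.hom H.X.hom))⟩
  · rintro G H ⟨_, _, _⟩ i hi
    rw [← Over.w i]
    exact ⟨inferInstance, inferInstance, isAffine_of_isAffineHom i.left⟩
  · intro G Q hG q _ _ _ _ h1 h2 _ _ _ _ _
    obtain ⟨_, _, _⟩ := hG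
    haveI := h1
    exact ⟨h1, h2, Groth.L08.NormalQuot.isAffine_of_surjective_hom q⟩

end Groth.Agent.S5352
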