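import Groth.Statements.S5353
import Groth.Agent.L24.Alg.SourceFppf
import Groth.Agent.L25.Translate
import Groth.Agent.L20.FibreStalk
import Mathlib.AlgebraicGeometry.Morphisms.FlatMono
import Mathlib.AlgebraicGeometry.Morphisms.Etale
import Mathlib.AlgebraicGeometry.Noetherian

set_option autoImplicit false
universe u
open CategoryTheory CategoryTheory.Limits MonoidalCategory CartesianMonoidalCategory MonObj GrpObj AlgebraicGeometry
open SGA3

namespace Groth.Agent.S5353

/-- Let A be a local artinian ring, G an A-group scheme which is flat and locally of finite type, i : G⁰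
→ G an open subgroup scheme whose image is the connected component of the unit (the neutral
component), and p : G → Q a homomorphism of A-group schemes which is surjective, flat and locally of
finite presentation with kernel G⁰ (Q is the quotient of G by G⁰). Then Q is etale over A. -/
theorem result (A : Type u) [CommRing A] [IsArtinianRing A] [IsLocalRing A] (G0 G Q : Over (Spec (CommRingCat.of A))) [GrpObj G0] [GrpObj G] [GrpObj Q]
    [Flat G.hom] [LocallyOfFiniteType G.hom] (i : G0 ⟶ G) [IsMonHom i] [IsOpenImmersion i.left]
    (pt : ↥(𝟙_ (Over (Spec (CommRingCat.of A)))).left) (hi : Set.range i.left.base = connectedComponent (η[G].left.base pt))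
    (p : G ⟶ Q) [IsMonHom p] [Surjective p.left] [Flat p.left] [LocallyOfFinitePresentation p.left]
    (hK : AlgGrp.IsKernel i p) : Etale Q.hom := by
  have hS : Subsingleton ↥(Spec (CommRingCat.of A)) := inferInstanceAs (Subsingleton (PrimeSpectrum A))
  haveI : IsLocallyNoetherian (Spec (CommRingCat.of A)) := inferInstance
  haveI : LocallyOfFinitePresentation G.hom :=
    LocallyOfFinitePresentation.iff_locallyOfFiniteType.mpr inferInstance
  have hpw : p.left ≫ Q.hom = G.hom := Over.w p
  haveI : Flat (p.left ≫ Q.hom) := hpw.symm ▸ (inferInstance : Flat G.hom)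
  haveI : Flat Q.hom := Groth.L25.Translate.flat_of_comp p.left Q.hom
  haveI : LocallyOfFinitePresentation Q.hom :=
    Groth.L24.Alg.locallyOfFinitePresentation_of_fppf_comp p.left Q.hom (hpw.symm ▸ (inferInstance : LocallyOfFinitePresentation G.hom))
  have hiw : i.left ≫ G.hom = G0.hom := Over.w i
  haveI : Flat G0.hom := hiw ▸ inferInstance
  haveI : LocallyOfFinitePresentation G0.hom := hiw ▸ inferInstance
  haveI : Surjective G0.hom := ⟨fun c => by
    obtain ⟨z, -⟩ : η[G].left pt ∈ Set.range i.left := hi ▸ mem_connectedComponent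
    exact ⟨z, Subsingleton.elim _ _⟩⟩
  haveI : Mono η[Q].left := SplitMono.mono ⟨Q.hom, Over.w η[Q]⟩
  have hK' : i.left ≫ p.left = G0.hom ≫ η[Q].left := congrArg (fun f => f.left) hK.w
  haveI : Flat (G0.hom ≫ η[Q].left) := hK' ▸ inferInstance
  haveI : Flat η[Q].left := Groth.L25.Translate.flat_of_comp G0.hom η[Q].left
  haveI : LocallyOfFinitePresentation η[Q].left :=
    Groth.L24.Alg.locallyOfFinitePresentation_of_fppf_comp G0.hom η[Q].left (hK' ▸ inferInstance)
  haveI : IsOpenImmersion η[Q].left := IsOpenImmersion.of_flat_of_mono _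
  haveI : IsOpenImmersion (Limits.pullback.diagonal Q.hom) :=
    Groth.L25.GrpBasics.diagonal_of_unit @IsOpenImmersion Q ‹_›
  exact Etale.of_formallyUnramified_of_flat _

end Groth.Agent.S5353
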