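import Groth.Statements.S5354
import Groth.Agent.L25.Translate

set_option autoImplicit false
universe u
open CategoryTheory CategoryTheory.Limits MonoidalCategory CartesianMonoidalCategory MonObj GrpObj AlgebraicGeometry
open SGA3

namespace Groth.Agent.S5354

/-- Let G be a group scheme over a field k (not assumed of finite type). For every point x of G there is
a point z of G ×_k G with product x whose two projections are maximal points of G (generic points of
irreducible components). -/
theorem result (k : Type u) [Field k] (G : Over (Spec (CommRingCat.of k))) [GrpObj G] (x : G.left) :
    ∃ z : ↥(G ⊗ G).left, μ[G].left.base z = x ∧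
      closure {(fst G G).left.base z} ∈ irreducibleComponents ↥G.left ∧
      closure {(snd G G).left.base z} ∈ irreducibleComponents ↥G.left := by
  obtain ⟨w, hw, h1, h2⟩ := Groth.L25.Translate.exists_mul_eq_maximal x
  exact ⟨w, hw, (Groth.L16.closure_singleton_mem_irreducibleComponents_iff _).mpr h1,
    (Groth.L16.closure_singleton_mem_irreducibleComponents_iff _).mpr h2⟩
end Groth.Agent.S5354
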