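import Groth.Statements.S5358
import Groth.Agent.L08.FactorLocus
import Groth.Agent.L08.SubgroupObj
import Groth.Agent.L26.AV.GroupSep
import Groth.Agent.S0351
import Mathlib.AlgebraicGeometry.Morphisms.Immersion

set_option autoImplicit false
universe u
open CategoryTheory CategoryTheory.Limits MonoidalCategory CartesianMonoidalCategory MonObj GrpObj AlgebraicGeometry
open SGA3

namespace Groth.Agent.S5358
open CategoryTheory CategoryTheory.Limits MonoidalCategory CartesianMonoidalCategory MonObj AlgebraicGeometry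

/-- Let G be a group scheme over a field k, y' : Y' → G an immersion and y : Y → G a closed immersion.
(ii) The transporter of Y' into Y, whose points with values in S' are the g such that conjugation by
g carries every point of Y' (after any base change S'' → S') into Y, is represented by a closed
subscheme of G; if y' is also a closed immersion, so is the strict transporter (g Y' g⁻¹ = Y
functorially). (iii) For every subgroup scheme h : H → G (a homomorphism which is an immersion), the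
normalizer of H in G is represented by a closed subscheme of G. -/
theorem result (k : Type u) [Field k] (G Y Y' : Over (Spec (CommRingCat.of k))) [GrpObj G]
    (y : Y ⟶ G) [IsClosedImmersion y.left] (y' : Y' ⟶ G) [IsImmersion y'.left] :
    (∃ (T : Over (Spec (CommRingCat.of k))) (t : T ⟶ G), IsClosedImmersion t.left ∧
      ∀ (S' : Over (Spec (CommRingCat.of k))) (g : S' ⟶ G), (∃ z : S' ⟶ T, z ≫ t = g) ↔
        ∀ (S'' : Over (Spec (CommRingCat.of k))) (s : S'' ⟶ S') (x : S'' ⟶ Y'),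
          ∃ x' : S'' ⟶ Y, (s ≫ g) * (x ≫ y') * (s ≫ g)⁻¹ = x' ≫ y) ∧
    (IsClosedImmersion y'.left →
      ∃ (T : Over (Spec (CommRingCat.of k))) (t : T ⟶ G), IsClosedImmersion t.left ∧
      ∀ (S' : Over (Spec (CommRingCat.of k))) (g : S' ⟶ G), (∃ z : S' ⟶ T, z ≫ t = g) ↔
        ((∀ (S'' : Over (Spec (CommRingCat.of k))) (s : S'' ⟶ S') (x : S'' ⟶ Y'),
          ∃ x' : S'' ⟶ Y, (s ≫ g) * (x ≫ y') * (s ≫ g)⁻¹ = x' ≫ y) ∧
        (∀ (S'' : Over (Spec (CommRingCat.of k))) (s : S'' ⟶ S') (x' : S'' ⟶ Y),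
          ∃ x : S'' ⟶ Y', (s ≫ g)⁻¹ * (x' ≫ y) * (s ≫ g) = x ≫ y'))) ∧
    (∀ (H : Over (Spec (CommRingCat.of k))) [GrpObj H] (h : H ⟶ G) [IsMonHom h] [IsImmersion h.left],
      ∃ (N : Over (Spec (CommRingCat.of k))) (_ : GrpObj N) (n : N ⟶ G), IsClosedImmersion n.left ∧
        Red.IsNormalizerOf h n) := by
  have key : ∀ {A B : Over (Spec (CommRingCat.of k))} (a : A ⟶ G) (b : B ⟶ G) [IsClosedImmersion b.left],
      (∃ (T : Over (Spec (CommRingCat.of k))) (t : T ⟶ G), IsClosedImmersion t.left ∧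
        ∀ (S' : Over (Spec (CommRingCat.of k))) (g : S' ⟶ G), (∃ z : S' ⟶ T, z ≫ t = g) ↔
          ∀ (S'' : Over (Spec (CommRingCat.of k))) (s : S'' ⟶ S') (x : S'' ⟶ A),
            ∃ x' : S'' ⟶ B, (s ≫ g) * (x ≫ a) * (s ≫ g)⁻¹ = x' ≫ b) ∧
      (∃ (T : Over (Spec (CommRingCat.of k))) (t : T ⟶ G), IsClosedImmersion t.left ∧
        ∀ (S' : Over (Spec (CommRingCat.of k))) (g : S' ⟶ G), (∃ z : S' ⟶ T, z ≫ t = g) ↔
          ∀ (S'' : Over (Spec (CommRingCat.of k))) (s : S'' ⟶ S') (x : S'' ⟶ A),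
            ∃ x' : S'' ⟶ B, (s ≫ g)⁻¹ * (x ≫ a) * (s ≫ g) = x' ≫ b) := by
    intro A B a b _
    refine ⟨?_, ?_⟩
    · obtain ⟨T, t, ht, h⟩ := Groth.L08.FactorLocus.exists_closedImmersion_lands
        (snd A G * (fst A G ≫ a) * (snd A G)⁻¹) b
      refine ⟨T, t, ht, fun S' g => (h S' g).trans ?_⟩
      simp only [MonObj.comp_mul, GrpObj.comp_inv, whiskerLeft_fst_assoc, whiskerLeft_snd]
      constructor
      · rintro ⟨w, hw⟩ S'' s x
        refine ⟨lift x s ≫ w, ?_⟩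
        rw [Category.assoc, hw]
        simp only [MonObj.comp_mul, GrpObj.comp_inv, lift_fst_assoc, lift_snd_assoc]
      · intro hg
        obtain ⟨w, hw⟩ := hg (A ⊗ S') (snd A S') (fst A S')
        exact ⟨w, hw.symm⟩
    · obtain ⟨T, t, ht, h⟩ := Groth.L08.FactorLocus.exists_closedImmersion_lands
        ((snd A G)⁻¹ * (fst A G ≫ a) * snd A G) b
      refine ⟨T, t, ht, fun S' g => (h S' g).trans ?_⟩
      simp only [MonObj.comp_mul, GrpObj.comp_inv, whiskerLeft_fst_assoc, whiskerLeft_snd]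
      constructor
      · rintro ⟨w, hw⟩ S'' s x
        refine ⟨lift x s ≫ w, ?_⟩
        rw [Category.assoc, hw]
        simp only [MonObj.comp_mul, GrpObj.comp_inv, lift_fst_assoc, lift_snd_assoc]
      · intro hg
        obtain ⟨w, hw⟩ := hg (A ⊗ S') (snd A S') (fst A S')
        exact ⟨w, hw.symm⟩
  have inter : ∀ {T₁ T₂ : Over (Spec (CommRingCat.of k))} (t₁ : T₁ ⟶ G) (t₂ : T₂ ⟶ G)
      [IsClosedImmersion t₁.left] [IsClosedImmersion t₂.left],
      ∃ (T : Over (Spec (CommRingCat.of k))) (t : T ⟶ G), IsClosedImmersion t.left ∧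
        ∀ (S' : Over (Spec (CommRingCat.of k))) (g : S' ⟶ G),
          (∃ z : S' ⟶ T, z ≫ t = g) ↔ (∃ z : S' ⟶ T₁, z ≫ t₁ = g) ∧ (∃ z : S' ⟶ T₂, z ≫ t₂ = g) := by
    intro T₁ T₂ t₁ t₂ _ _
    refine ⟨Over.mk (pullback.fst t₁.left t₂.left ≫ t₁.left ≫ G.hom),
      Over.homMk (pullback.fst t₁.left t₂.left ≫ t₁.left) (by simp), ?_, fun S' g => ⟨?_, ?_⟩⟩
    · show IsClosedImmersion (pullback.fst t₁.left t₂.left ≫ t₁.left)
      infer_instance
    · rintro ⟨z, rfl⟩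
      refine ⟨⟨Over.homMk (z.left ≫ pullback.fst t₁.left t₂.left) ?_, ?_⟩,
        ⟨Over.homMk (z.left ≫ pullback.snd t₁.left t₂.left) ?_, ?_⟩⟩
      · rw [← Over.w t₁, Category.assoc]; exact Over.w z
      · apply Over.OverMorphism.ext; simp
      · rw [← Over.w t₂, Category.assoc, ← pullback.condition_assoc]; exact Over.w z
      · apply Over.OverMorphism.ext; simp [pullback.condition]
    · rintro ⟨⟨z₁, h₁⟩, ⟨z₂, h₂⟩⟩
      have e : z₁.left ≫ t₁.left = z₂.left ≫ t₂.left := by rw [← Over.comp_left, ← Over.comp_left, h₁, h₂]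
      refine ⟨Over.homMk (pullback.lift z₁.left z₂.left e) ?_, ?_⟩
      · show pullback.lift _ _ e ≫ pullback.fst _ _ ≫ _ = _
        rw [pullback.lift_fst_assoc, ← Category.assoc, ← Over.comp_left, h₁, Over.w]
      · apply Over.OverMorphism.ext
        show pullback.lift _ _ e ≫ pullback.fst _ _ ≫ _ = _
        rw [pullback.lift_fst_assoc, ← Over.comp_left, h₁]
  refine ⟨(key y' y).1, fun hy' => ?_, fun H _ h _ _ => ?_⟩
  · obtain ⟨T₁, t₁, ht₁, h₁⟩ := (key y' y).1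
    obtain ⟨T₂, t₂, ht₂, h₂⟩ := (key y y').2
    obtain ⟨T, t, ht, hT⟩ := inter t₁ t₂
    exact ⟨T, t, ht, fun S' g => (hT S' g).trans (and_congr (h₁ S' g) (h₂ S' g))⟩
  · haveI : IsClosedImmersion h.left := Groth.Agent.S0351.result k H G h
    obtain ⟨T₁, t₁, ht₁, h₁⟩ := (key h h).1
    obtain ⟨T₂, t₂, ht₂, h₂⟩ := (key h h).2
    obtain ⟨T, t, ht, hT⟩ := inter t₁ t₂
    have hiff : ∀ (S' : Over (Spec (CommRingCat.of k))) (g : S' ⟶ G), (∃ z : S' ⟶ T, z ≫ t = g) ↔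
        ∀ (X' : Over (Spec (CommRingCat.of k))) (x : X' ⟶ S') (a : X' ⟶ H),
          (∃ h' : X' ⟶ H, (x ≫ g) * (a ≫ h) * (x ≫ g)⁻¹ = h' ≫ h) ∧
          (∃ h' : X' ⟶ H, (x ≫ g)⁻¹ * (a ≫ h) * (x ≫ g) = h' ≫ h) := fun S' g =>
      ((hT S' g).trans (and_congr (h₁ S' g) (h₂ S' g))).trans
        ⟨fun e X' x a => ⟨e.1 X' x a, e.2 X' x a⟩,
          fun e => ⟨fun X' x a => (e X' x a).1, fun X' x a => (e X' x a).2⟩⟩
    haveI : Mono t := Groth.L08.mono_of_closedImmersion t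
    have self : ∀ (X' : Over (Spec (CommRingCat.of k))) (x : X' ⟶ T) (a : X' ⟶ H),
        (∃ h' : X' ⟶ H, (x ≫ t) * (a ≫ h) * (x ≫ t)⁻¹ = h' ≫ h) ∧
        (∃ h' : X' ⟶ H, (x ≫ t)⁻¹ * (a ≫ h) * (x ≫ t) = h' ≫ h) := fun X' x a =>
      (hiff T t).1 ⟨𝟙 T, Category.id_comp t⟩ X' x a
    obtain ⟨gN, hgN⟩ := Groth.L08.exists_grpObj_of_mono t
      ((hiff _ _).2 fun X' x a => by
        rw [show x ≫ η[G] = (1 : X' ⟶ G) by rw [Hom.one_def, toUnit_unique x (toUnit X')]]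
        exact ⟨⟨a, by simp⟩, ⟨a, by simp⟩⟩)
      ((hiff _ _).2 fun X' x a => by
        simp only [MonObj.comp_mul, ← Category.assoc]
        obtain ⟨a₁, e₁⟩ := (self X' (x ≫ snd T T) a).1
        obtain ⟨a₂, e₂⟩ := (self X' (x ≫ fst T T) a₁).1
        obtain ⟨b₁, f₁⟩ := (self X' (x ≫ fst T T) a).2
        obtain ⟨b₂, f₂⟩ := (self X' (x ≫ snd T T) b₁).2
        refine ⟨⟨a₂, ?_⟩, ⟨b₂, ?_⟩⟩
        · rw [← e₂, ← e₁]; group
        · rw [← f₂, ← f₁]; group)
      ((hiff _ _).2 fun X' x a => by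
        simp only [GrpObj.comp_inv, _root_.inv_inv]
        exact ⟨(self X' x a).2, (self X' x a).1⟩)
    exact ⟨T, gN, t, ht, hgN, inferInstance, hiff⟩

end Groth.Agent.S5358
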