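import Groth.Statements.S5359
import Groth.Agent.L08.MonoEndo.Main
-- import your own Groth.Agent.* helpers here

set_option autoImplicit false
set_option backward.isDefEq.respectTransparency.types false
set_option linter.style.haveILetI false
universe u
open CategoryTheory CategoryTheory.Limits MonoidalCategory CartesianMonoidalCategory MonObj GrpObj AlgebraicGeometry
open SGA3

namespace Groth.Agent.S5359

/-- Let G be an S-group scheme and u : X → G a monomorphism of S-schemes with X of finite presentation
over S. If a point g : T → G is such that, for every T' → T and every point x of X with values in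
T', the conjugate g x g⁻¹ is again a point of X, then the same holds for g⁻¹: the transporter of X
into X coincides with the strict transporter (the normalizer of X). -/
theorem result (S : Scheme.{u}) (G X : Over S) [GrpObj G] (u : X ⟶ G) [Mono u]
    [LocallyOfFinitePresentation X.hom] [QuasiCompact X.hom] [QuasiSeparated X.hom]
    (T : Over S) (g : T ⟶ G)
    (hg : ∀ (T' : Over S) (t : T' ⟶ T) (x : T' ⟶ X), ∃ x' : T' ⟶ X, (t ≫ g) * (x ≫ u) * (t ≫ g)⁻¹ = x' ≫ u) :
    ∀ (T' : Over S) (t : T' ⟶ T) (x : T' ⟶ X), ∃ x' : T' ⟶ X, (t ≫ g)⁻¹ * (x ≫ u) * (t ≫ g) = x' ≫ u := by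
  obtain ⟨x', hx'⟩ := hg (X ⊗ T) (snd X T) (fst X T)
  let c : X ⊗ T ⟶ X ⊗ T := lift x' (snd X T)
  have hc : c ≫ snd X T = snd X T := lift_snd _ _
  haveI : Mono c := ⟨fun {Z} a b h => by
    have h2 : a ≫ snd X T = b ≫ snd X T := by
      have := congrArg (· ≫ snd X T) h
      simpa [c] using this
    have h1 : a ≫ x' = b ≫ x' := by
      have := congrArg (· ≫ fst X T) h
      simpa [c] using this
    have ha := congrArg (a ≫ ·) hx'
    have hb := congrArg (b ≫ ·) hx'
    simp only [MonObj.comp_mul, GrpObj.comp_inv] at ha hb
    rw [← Category.assoc a (snd X T) g, ← Category.assoc a (fst X T) u, ← Category.assoc a x' u] at ha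
    rw [← Category.assoc b (snd X T) g, ← Category.assoc b (fst X T) u, ← Category.assoc b x' u] at hb
    rw [h1, h2, ← hb] at ha
    have h3 := mul_left_cancel (mul_right_cancel ha)
    exact CartesianMonoidalCategory.hom_ext _ _ ((cancel_mono u).mp h3) h2⟩
  haveI : IsIso c := by
    haveI : LocallyOfFinitePresentation (snd X T).left :=
      inferInstanceAs (LocallyOfFinitePresentation (pullback.snd X.hom T.hom))
    haveI : QuasiCompact (snd X T).left :=
      inferInstanceAs (QuasiCompact (pullback.snd X.hom T.hom))
    haveI : QuasiSeparated (snd X T).left :=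
      inferInstanceAs (QuasiSeparated (pullback.snd X.hom T.hom))
    haveI : IsIso c.left := Groth.L08.MonoEndo.isIso_of_mono (snd X T).left c.left
      (by rw [← Over.comp_left, hc])
    haveI : IsIso ((Over.forget S).map c) := ‹IsIso c.left›
    exact isIso_of_reflects_iso c (Over.forget S)
  intro T' t x
  refine ⟨(lift x t ≫ inv c) ≫ fst X T, ?_⟩
  have ht : (lift x t ≫ inv c) ≫ snd X T = t := by
    rw [Category.assoc, (IsIso.inv_comp_eq c).mpr hc.symm, lift_snd]
  have hx : (lift x t ≫ inv c) ≫ x' = x := by
    have : x' = c ≫ fst X T := (lift_fst _ _).symm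
    rw [this, Category.assoc, IsIso.inv_hom_id_assoc, lift_fst]
  have key := congrArg ((lift x t ≫ inv c) ≫ ·) hx'
  simp only [MonObj.comp_mul, GrpObj.comp_inv] at key
  rw [← Category.assoc (lift x t ≫ inv c) (snd X T) g, ht,
    ← Category.assoc (lift x t ≫ inv c) (fst X T) u,
    ← Category.assoc (lift x t ≫ inv c) x' u, hx] at key
  rw [← key]
  group

end Groth.Agent.S5359
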