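import Groth.Statements.S5360
import Groth.Agent.L08.MonoEndo.Main

set_option backward.isDefEq.respectTransparency.types false

set_option autoImplicit false
universe u
open CategoryTheory CategoryTheory.Limits MonoidalCategory CartesianMonoidalCategory MonObj GrpObj AlgebraicGeometry
open SGA3

namespace Groth.Agent.S5360

/-- Let G be an S-scheme of finite presentation over S with an associative composition law m : G ×_S G →
G such that for every S-scheme S' and every point g of G with values in S' the left and right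
translations by g are injective on G(S'), and such that G has an S-point. Then G is an S-group
scheme: there is a group object structure on G over S whose multiplication is m. -/
theorem result (S : Scheme.{u}) (G : Over S)
    [LocallyOfFinitePresentation G.hom] [QuasiCompact G.hom] [QuasiSeparated G.hom]
    (m : G ⊗ G ⟶ G) (hassoc : (m ▷ G) ≫ m = (α_ G G G).hom ≫ (G ◁ m) ≫ m)
    (hl : ∀ (T : Over S) (g : T ⟶ G), Function.Injective (fun x : T ⟶ G => lift g x ≫ m))
    (hr : ∀ (T : Over S) (g : T ⟶ G), Function.Injective (fun x : T ⟶ G => lift x g ≫ m))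
    (e : 𝟙_ (Over S) ⟶ G) :
    ∃ inst : GrpObj G, inst.mul = m := by
  let σ : G ⊗ G ⟶ G ⊗ G := lift (fst G G) m
  have hσ : ∀ {T : Over S} (a b : T ⟶ G), lift a b ≫ σ = lift a (lift a b ≫ m) := fun a b => by
    rw [comp_lift, lift_fst]
  have : Mono σ := ⟨fun {T} u v huv => by
    obtain ⟨a, b, rfl⟩ : ∃ a b, lift a b = u := ⟨u ≫ fst _ _, u ≫ snd _ _, by rw [← comp_lift, lift_fst_snd, Category.comp_id]⟩
    obtain ⟨a', b', rfl⟩ : ∃ a b, lift a b = v := ⟨v ≫ fst _ _, v ≫ snd _ _, by rw [← comp_lift, lift_fst_snd, Category.comp_id]⟩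
    rw [hσ, hσ] at huv
    have h1 := congrArg (· ≫ fst G G) huv
    have h2 := congrArg (· ≫ snd G G) huv
    simp only [lift_fst, lift_snd] at h1 h2
    subst h1
    rw [hl T a h2]⟩
  have : Mono σ.left := inferInstanceAs (Mono ((Over.forget S).map σ))
  have hfst : σ.left ≫ (fst G G).left = (fst G G).left := congr($(lift_fst (fst G G) m).left)
  have : LocallyOfFinitePresentation (fst G G).left :=
    inferInstanceAs (LocallyOfFinitePresentation (CategoryTheory.Limits.pullback.fst G.hom G.hom))
  have : QuasiCompact (fst G G).left :=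
    inferInstanceAs (QuasiCompact (CategoryTheory.Limits.pullback.fst G.hom G.hom))
  have : QuasiSeparated (fst G G).left :=
    inferInstanceAs (QuasiSeparated (CategoryTheory.Limits.pullback.fst G.hom G.hom))
  have : IsIso σ.left := Groth.L08.MonoEndo.isIso_of_mono (fst G G).left σ.left hfst
  have : IsIso σ := by
    have : IsIso ((Over.forget S).map σ) := this
    exact isIso_of_reflects_iso σ (Over.forget S)
  -- division on the left
  let mm : ∀ {T : Over S}, (T ⟶ G) → (T ⟶ G) → (T ⟶ G) := fun a b => lift a b ≫ m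
  have hdiv : ∀ {T : Over S} (a b : T ⟶ G), ∃ x, mm a x = b := fun {T} a b => by
    refine ⟨lift a b ≫ inv σ ≫ snd G G, ?_⟩
    have e : lift a b ≫ inv σ = lift a (lift a b ≫ inv σ ≫ snd G G) := by
      apply hom_ext
      · have h3 : inv σ ≫ fst G G = fst G G := by rw [IsIso.inv_comp_eq, lift_fst]
        rw [Category.assoc, h3, lift_fst, lift_fst]
      · rw [lift_snd, Category.assoc]
    show lift a (lift a b ≫ inv σ ≫ snd G G) ≫ m = b
    rw [← e, Category.assoc, show m = σ ≫ snd G G from (lift_snd _ _).symm, IsIso.inv_hom_id_assoc, lift_snd]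
  have hass : ∀ {T : Over S} (a b c : T ⟶ G), mm (mm a b) c = mm a (mm b c) := fun {T} a b c => by
    have h := congrArg (fun q => lift (lift a b) c ≫ q) hassoc
    simp only [← Category.assoc, lift_whiskerRight, lift_lift_associator_hom, lift_whiskerLeft] at h
    exact h
  have hnat : ∀ {T T' : Over S} (f : T' ⟶ T) (a b : T ⟶ G), f ≫ mm a b = mm (f ≫ a) (f ≫ b) := fun f a b => by
    show f ≫ lift a b ≫ m = _
    rw [comp_lift_assoc]
  obtain ⟨u, hu⟩ := hdiv e e
  have hu1 : ∀ {T : Over S} (y : T ⟶ G), mm (toUnit T ≫ u) y = y := fun {T} y => hl T (toUnit T ≫ e) (by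
    show mm (toUnit T ≫ e) (mm (toUnit T ≫ u) y) = mm (toUnit T ≫ e) y
    rw [← hass, ← hnat, hu])
  have hu2 : ∀ {T : Over S} (y : T ⟶ G), mm y (toUnit T ≫ u) = y := fun {T} y => hr T y (by
    show mm (mm y (toUnit T ≫ u)) y = mm y y
    rw [hass, hu1])
  obtain ⟨ι', hι⟩ := hdiv (𝟙 G) (toUnit G ≫ u)
  have hι' : mm ι' (𝟙 G) = toUnit G ≫ u := hl G (𝟙 G) (by
    show mm (𝟙 G) (mm ι' (𝟙 G)) = mm (𝟙 G) (toUnit G ≫ u)
    rw [← hass, hι, hu1, hu2])
  letI mon : MonObj G :=
    { one := u
      mul := m
      one_mul := by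
        rw [show u ▷ G = lift (toUnit _ ≫ u) (snd (𝟙_ (Over S)) G) by
          apply hom_ext <;> simp [toUnit_unique (fst (𝟙_ (Over S)) G) (toUnit _)], leftUnitor_hom]
        exact hu1 _
      mul_one := by
        rw [show G ◁ u = lift (fst G (𝟙_ (Over S))) (toUnit _ ≫ u) by
          apply hom_ext <;> simp [toUnit_unique (snd G (𝟙_ (Over S))) (toUnit _)], rightUnitor_hom]
        exact hu2 _
      mul_assoc := hassoc }
  exact ⟨{ toMonObj := mon, inv := ι', left_inv := hι', right_inv := hι }, rfl⟩

end Groth.Agent.S5360
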