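import Groth.Statements.S5363
import Groth.Agent.L08.Centre.Basic

set_option linter.style.haveILetI false

set_option autoImplicit false
universe u
open CategoryTheory CategoryTheory.Limits MonoidalCategory CartesianMonoidalCategory MonObj GrpObj AlgebraicGeometry
open SGA3

namespace Groth.Agent.S5363

/-- Let G be a group scheme over a field k and g a k-rational point of G. Then the smallest closed
subgroup scheme Γ of G through which g factors (the closed subgroup generated by g) is commutative. -/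
theorem result (k : Type u) [Field k] (G : Over (Spec (CommRingCat.of k))) [GrpObj G]
    (g : 𝟙_ (Over (Spec (CommRingCat.of k))) ⟶ G) (Γ : Over (Spec (CommRingCat.of k))) [GrpObj Γ] (i : Γ ⟶ G) [IsMonHom i] [IsClosedImmersion i.left]
    (hf : ∃ f' : 𝟙_ (Over (Spec (CommRingCat.of k))) ⟶ Γ, f' ≫ i = g)
    (hmin : ∀ (Γ' : Over (Spec (CommRingCat.of k))) (_ : GrpObj Γ') (i' : Γ' ⟶ G), IsMonHom i' → IsClosedImmersion i'.left →
        (∃ f'' : 𝟙_ (Over (Spec (CommRingCat.of k))) ⟶ Γ', f'' ≫ i' = g) → ∃ j : Γ ⟶ Γ', j ≫ i' = i) :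
    IsCommMonObj Γ := by
  obtain ⟨g', hg'⟩ := hf
  haveI : IsSeparated Γ.hom := Groth.L08.AbelianGrp.isSeparated Γ
  haveI : Mono i := Over.mono_of_mono_left i
  -- a closed subgroup of `Γ` through which `g'` factors is everything
  have key : ∀ (T : Over (Spec (CommRingCat.of k))) (_ : GrpObj T) (t : T ⟶ Γ), IsMonHom t → IsClosedImmersion t.left →
      (∃ z, z ≫ t = g') → ∃ r, r ≫ t = 𝟙 Γ := by
    rintro T _ t _ _ ⟨z, hz⟩
    haveI : IsClosedImmersion (t ≫ i).left := by rw [Over.comp_left]; infer_instance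
    obtain ⟨j, hj⟩ := hmin T inferInstance (t ≫ i) inferInstance inferInstance ⟨z, by rw [← Category.assoc, hz, hg']⟩
    exact ⟨j, by rw [← cancel_mono i, Category.assoc, hj, Category.id_comp]⟩
  have hcomm : ∀ (X : Over (Spec (CommRingCat.of k))) (h : X ⟶ Γ), (toUnit X ≫ g') * h = h * (toUnit X ≫ g') := by
    obtain ⟨T, t, ht, hT⟩ := Groth.L08.FactorLocus.exists_closedImmersion_agree
      ((fst (𝟙_ (Over (Spec (CommRingCat.of k)))) Γ ≫ g') * snd (𝟙_ _) Γ) (snd (𝟙_ _) Γ * (fst (𝟙_ _) Γ ≫ g'))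
    haveI : Mono t := Over.mono_of_mono_left t
    have crit : ∀ (X : Over (Spec (CommRingCat.of k))) (x : X ⟶ Γ), (∃ z, z ≫ t = x) ↔
        (toUnit X ≫ g') * x = x * (toUnit X ≫ g') := by
      intro X x
      rw [hT X x]
      simp only [MonObj.comp_mul, whiskerLeft_fst_assoc, whiskerLeft_snd]
      constructor
      · intro e
        have := congrArg (lift (toUnit X) (𝟙 X) ≫ ·) e
        simpa only [MonObj.comp_mul, lift_fst_assoc, lift_snd_assoc, Category.id_comp] using this
      · intro e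
        have := congrArg (snd (𝟙_ _) X ≫ ·) e
        simp only [MonObj.comp_mul] at this
        rwa [← Category.assoc, toUnit_unique (snd (𝟙_ _) X ≫ toUnit X) (fst (𝟙_ _) X)] at this
    have hc : ∀ (X : Over (Spec (CommRingCat.of k))) (a : X ⟶ T), Commute (toUnit X ≫ g') (a ≫ t) :=
      fun X a => (crit X _).1 ⟨a, rfl⟩
    obtain ⟨gT, hmT⟩ := Groth.L08.exists_grpObj_of_mono t
      ((crit _ η[Γ]).2 (by rw [MonObj.one_eq_one, _root_.mul_one, _root_.one_mul]))
      ((crit _ _).2 ((hc _ (fst T T)).mul_right (hc _ (snd T T))))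
      ((crit _ _).2 ((hc _ (𝟙 T)).inv_right.trans (by rw [Category.id_comp])))
    obtain ⟨r, hr⟩ := key T gT t hmT ht ((crit _ g').2 (by rw [toUnit_unique (toUnit _) (𝟙 _), Category.id_comp]))
    intro X h
    exact (crit X h).1 ⟨h ≫ r, by rw [Category.assoc, hr, Category.comp_id]⟩
  obtain ⟨Z, gZ, t, ht, htc, hZ⟩ := Groth.L08.Centre.exists_centre Γ
  obtain ⟨z, hz⟩ := (hZ.2.2 (𝟙_ _) g').2 fun X x h => by
    simp only [Category.comp_id]
    rw [toUnit_unique x (toUnit X)]
    exact hcomm X h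
  obtain ⟨r, hr⟩ := key Z gZ t ht htc ⟨z, hz⟩
  have hall := (hZ.2.2 Γ (𝟙 Γ)).1 ⟨r, hr⟩ (Γ ⊗ Γ) (snd Γ Γ) (fst Γ Γ)
  simp only [Category.comp_id] at hall
  refine ⟨?_⟩
  rw [MonObj.mul_eq_mul Γ, MonObj.comp_mul, CartesianMonoidalCategory.braiding_hom_fst, CartesianMonoidalCategory.braiding_hom_snd]
  exact hall

end Groth.Agent.S5363
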