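import Groth.Statements.S5373
import Mathlib.AlgebraicGeometry.Morphisms.Flat
import Mathlib.AlgebraicGeometry.Morphisms.Separated

set_option autoImplicit false
universe u
open CategoryTheory CategoryTheory.Limits MonoidalCategory CartesianMonoidalCategory MonObj GrpObj AlgebraicGeometry
open SGA3

namespace Groth.Agent.S5373

/-- Let p : X → Y be a morphism of S-schemes and v : X ×_Y X → X ×_S X the canonical monomorphism (the
graph of the effective equivalence relation defined by p). Then (i) v is an immersion, and a closed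
immersion if Y is separated over S; (ii) if p is covering for the fpqc topology (some Z → Y which is
flat, surjective, with every affine open of Y the image of a quasi-compact open of Z, factors
through p), so that Y represents the quotient sheaf of X by this equivalence relation, and v is a
closed immersion, then Y is separated over S. -/
theorem result (S : Scheme.{u}) (X Y : Over S) (p : X ⟶ Y) :
    letI v : (pullback p p) ⟶ X ⊗ X := lift (pullback.fst p p) (pullback.snd p p)
    IsImmersion v.left ∧ (IsSeparated Y.hom → IsClosedImmersion v.left) ∧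
    ((∃ (Z : Scheme.{u}) (q : Z ⟶ Y.left) (r : Z ⟶ X.left), r ≫ p.left = q ∧ Surjective q ∧ Flat q ∧
        ∀ V : Y.left.Opens, IsAffineOpen V → ∃ W : Z.Opens, IsCompact (W : Set Z) ∧ q.base '' (W : Set Z) = (V : Set Y.left)) →
      IsClosedImmersion v.left → IsSeparated Y.hom) := by
  let v : pullback p p ⟶ X ⊗ X := lift (pullback.fst p p) (pullback.snd p p)
  let δ : Y ⟶ Y ⊗ Y := lift (𝟙 Y) (𝟙 Y)
  have hw : v ≫ (p ⊗ₘ p) = (pullback.fst p p ≫ p) ≫ δ := by
    apply CartesianMonoidalCategory.hom_ext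
    · simp [v, δ]
    · simp [v, δ, pullback.condition]
  have hpb : IsPullback v (pullback.fst p p ≫ p) (p ⊗ₘ p) δ := by
    refine IsPullback.of_isLimit' ⟨hw⟩ (PullbackCone.IsLimit.mk _ (fun s => pullback.lift (s.fst ≫ fst X X) (s.fst ≫ snd X X) ?_)
      (fun s => ?_) (fun s => ?_) fun s m h₁ h₂ => ?_)
    · have h₁ := congr($(s.condition) ≫ fst Y Y)
      have h₂ := congr($(s.condition) ≫ snd Y Y)
      simp [δ] at h₁ h₂
      rw [Category.assoc, Category.assoc, h₁, h₂]
    · apply CartesianMonoidalCategory.hom_ext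
      · rw [Category.assoc, show v ≫ fst X X = pullback.fst p p from lift_fst _ _, pullback.lift_fst]
      · rw [Category.assoc, show v ≫ snd X X = pullback.snd p p from lift_snd _ _, pullback.lift_snd]
    · have h₁ := congr($(s.condition) ≫ fst Y Y)
      simp [δ] at h₁
      rw [← Category.assoc, pullback.lift_fst, Category.assoc]
      exact h₁
    · apply pullback.hom_ext
      · rw [pullback.lift_fst, ← h₁, Category.assoc, lift_fst]
      · rw [pullback.lift_snd, ← h₁, Category.assoc, lift_snd]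
  have sq := hpb.map (Over.forget S)
  have hδ : δ.left = pullback.diagonal Y.hom := by
    apply pullback.hom_ext
    · exact congr(($(lift_fst (𝟙 Y) (𝟙 Y))).left).trans (pullback.diagonal_fst _).symm
    · exact congr(($(lift_snd (𝟙 Y) (𝟙 Y))).left).trans (pullback.diagonal_snd _).symm
  haveI hδi : IsImmersion δ.left := by rw [hδ]; infer_instance
  refine ⟨MorphismProperty.of_isPullback sq.flip hδi, fun h => ?_, ?_⟩
  · exact MorphismProperty.of_isPullback sq.flip (show IsClosedImmersion δ.left by rw [hδ]; infer_instance)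
  rintro ⟨Z, q, r, hr, hq, hqf, hW⟩ hv
  refine ⟨IsClosedImmersion.of_isPreimmersion _ (isClosed_of_closure_subset fun w hw => ?_)⟩
  rw [← hδ] at hw ⊢
  let y₁ := pullback.fst Y.hom Y.hom w
  let y₂ := pullback.snd Y.hom Y.hom w
  obtain ⟨_, ⟨V₁, hV₁, rfl⟩, hy₁, -⟩ := Y.left.isBasis_affineOpens.exists_subset_of_mem_open (Set.mem_univ y₁) isOpen_univ
  obtain ⟨_, ⟨V₂, hV₂, rfl⟩, hy₂, -⟩ := Y.left.isBasis_affineOpens.exists_subset_of_mem_open (Set.mem_univ y₂) isOpen_univ
  have chart : ∀ V : Y.left.Opens, IsAffineOpen V → ∃ (W : Z.Opens) (e : W.toScheme ⟶ V.toScheme),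
      e ≫ V.ι = W.ι ≫ q ∧ Flat e ∧ QuasiCompact e ∧ Surjective e := by
    intro V hV
    obtain ⟨W, hWc, hWV⟩ := hW V hV
    haveI : CompactSpace W.toScheme := isCompact_iff_compactSpace.mp hWc
    haveI : IsAffine V.toScheme := hV
    let e := IsOpenImmersion.lift V.ι (W.ι ≫ q) (by
      rintro _ ⟨z, rfl⟩; rw [Scheme.Opens.range_ι, ← hWV]; exact ⟨z.1, z.2, rfl⟩)
    have he : e ≫ V.ι = W.ι ≫ q := IsOpenImmersion.lift_fac _ _ _
    refine ⟨W, e, he, ?_, quasiCompact_of_compactSpace e, ⟨fun y => ?_⟩⟩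
    · exact MorphismProperty.of_isPullback (IsPullback.of_horiz_isIso_mono (fst := 𝟙 _) (snd := e) (f := W.ι ≫ q)
        (g := V.ι) ⟨by simp [he]⟩) (inferInstance : Flat (W.ι ≫ q))
    · obtain ⟨z, hz, hzy⟩ := hWV.ge y.2
      refine ⟨⟨z, hz⟩, V.ι.isOpenEmbedding.injective ?_⟩
      rw [← Scheme.Hom.comp_apply, he]
      exact hzy
  obtain ⟨W₁, e₁, he₁, hf₁, hc₁, hs₁⟩ := chart V₁ hV₁
  obtain ⟨W₂, e₂, he₂, hf₂, hc₂, hs₂⟩ := chart V₂ hV₂
  let o : pullback ((Scheme.Opens.ι V₁) ≫ Y.hom) ((Scheme.Opens.ι V₂) ≫ Y.hom) ⟶ pullback Y.hom Y.hom :=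
    pullback.map _ _ _ _ (Scheme.Opens.ι V₁) (Scheme.Opens.ι V₂) (𝟙 S) (by simp) (by simp)
  let e : pullback (e₁ ≫ (Scheme.Opens.ι V₁) ≫ Y.hom) (e₂ ≫ (Scheme.Opens.ι V₂) ≫ Y.hom) ⟶ pullback ((Scheme.Opens.ι V₁) ≫ Y.hom) ((Scheme.Opens.ι V₂) ≫ Y.hom) :=
    pullback.map _ _ _ _ e₁ e₂ (𝟙 S) (by simp) (by simp)
  haveI : Flat e := MorphismProperty.pullbackMap (P := @Flat) hf₁ hf₂ rfl rfl
  haveI : QuasiCompact e := MorphismProperty.pullbackMap (P := @QuasiCompact) hc₁ hc₂ rfl rfl
  haveI : Surjective e := MorphismProperty.pullbackMap (P := @Surjective) hs₁ hs₂ rfl rfl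
  have hrq : ∀ (W : Z.Opens) (V : Y.left.Opens) (e' : W.toScheme ⟶ V.toScheme), e' ≫ V.ι = W.ι ≫ q →
      (e' ≫ V.ι ≫ Y.hom) = (W.ι ≫ r) ≫ X.hom := fun W V e' h => by
    rw [reassoc_of% h, ← hr, Category.assoc, Category.assoc, Over.w p]
  let g : pullback (e₁ ≫ (Scheme.Opens.ι V₁) ≫ Y.hom) (e₂ ≫ (Scheme.Opens.ι V₂) ≫ Y.hom) ⟶ (X ⊗ X).left :=
    pullback.map _ _ X.hom X.hom (W₁.ι ≫ r) (W₂.ι ≫ r) (𝟙 S) (by rw [Category.comp_id, hrq _ _ _ he₁])
      (by rw [Category.comp_id, hrq _ _ _ he₂])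
  have hg : g ≫ (p ⊗ₘ p).left = e ≫ o := by
    apply pullback.hom_ext
    · rw [Category.assoc, show (p ⊗ₘ p).left ≫ pullback.fst Y.hom Y.hom = pullback.fst X.hom X.hom ≫ p.left from
        congr(($(tensorHom_fst p p)).left)]
      refine (Category.assoc _ _ _).symm.trans ((congrArg (· ≫ p.left) (pullback.lift_fst _ _ _)).trans ?_)
      refine (Category.assoc _ _ _).trans ((congrArg (pullback.fst _ _ ≫ ·)
        ((Category.assoc _ _ _).trans ((congrArg ((W₁).ι ≫ ·) hr).trans he₁.symm))).trans ?_)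
      refine ((Category.assoc _ _ _).trans ((congrArg (e ≫ ·) (pullback.lift_fst _ _ _)).trans ?_)).symm
      exact (Category.assoc _ _ _).symm.trans ((congrArg (· ≫ Scheme.Opens.ι V₁) (pullback.lift_fst _ _ _)).trans
        (Category.assoc _ _ _))
    · rw [Category.assoc, show (p ⊗ₘ p).left ≫ pullback.snd Y.hom Y.hom = pullback.snd X.hom X.hom ≫ p.left from
        congr(($(tensorHom_snd p p)).left)]
      refine (Category.assoc _ _ _).symm.trans ((congrArg (· ≫ p.left) (pullback.lift_snd _ _ _)).trans ?_)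
      refine (Category.assoc _ _ _).trans ((congrArg (pullback.snd _ _ ≫ ·)
        ((Category.assoc _ _ _).trans ((congrArg ((W₂).ι ≫ ·) hr).trans he₂.symm))).trans ?_)
      refine ((Category.assoc _ _ _).trans ((congrArg (e ≫ ·) (pullback.lift_snd _ _ _)).trans ?_)).symm
      exact (Category.assoc _ _ _).symm.trans ((congrArg (· ≫ Scheme.Opens.ι V₂) (pullback.lift_snd _ _ _)).trans
        (Category.assoc _ _ _))
  have hpre : (p ⊗ₘ p).left ⁻¹' Set.range δ.left = Set.range v.left := by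
    rw [← Scheme.Pullback.range_fst]
    refine (show Set.range v.left = Set.range (pullback.fst (p ⊗ₘ p).left δ.left) from ?_).symm
    rw [show v.left = sq.isoPullback.hom ≫ pullback.fst (p ⊗ₘ p).left δ.left from sq.isoPullback_hom_fst.symm]
    apply Set.Subset.antisymm
    · rintro _ ⟨b, rfl⟩
      exact ⟨sq.isoPullback.hom b, rfl⟩
    · rintro _ ⟨a, rfl⟩
      obtain ⟨b, hb⟩ := sq.isoPullback.hom.surjective a
      exact ⟨b, congrArg (pullback.fst (p ⊗ₘ p).left δ.left).base hb⟩
  have hcl : IsClosed (e ⁻¹' (o ⁻¹' Set.range δ.left)) := by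
    have : IsClosed (g ⁻¹' ((p ⊗ₘ p).left ⁻¹' Set.range δ.left)) := by
      rw [hpre]; exact v.left.isClosedEmbedding.isClosed_range.preimage g.continuous
    rw [← Set.preimage_comp, ← TopCat.coe_comp, ← Scheme.Hom.comp_base, hg] at this
    exact this
  have hO : IsClosed (o ⁻¹' Set.range δ.left) := (Flat.isQuotientMap_of_surjective e).isClosed_preimage.1 hcl
  obtain ⟨t, rfl⟩ : w ∈ Set.range o := by
    rw [Scheme.Pullback.range_map]
    exact ⟨(Scheme.Opens.range_ι _).symm ▸ hy₁, (Scheme.Opens.range_ι _).symm ▸ hy₂⟩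
  have h := o.isOpenEmbedding.isOpenMap.preimage_closure_subset_closure_preimage hw
  rw [hO.closure_eq] at h
  exact h

end Groth.Agent.S5373
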