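import Groth.Statements.S5369
import Groth.Agent.S5373
import Groth.Agent.L25.Actions

set_option autoImplicit false
universe u
open CategoryTheory CategoryTheory.Limits MonoidalCategory CartesianMonoidalCategory MonObj GrpObj AlgebraicGeometry
open SGA3

namespace Groth.Agent.S5369

/-- Let u : G' → G be a monomorphism of S-group schemes and p : G → G'' a morphism of S-schemes which is
covering for the fpqc topology (some Z → G'' which is flat, surjective, with every affine open of
G'' the image of a quasi-compact open of Z, factors through p) and such that the square (g, h) ↦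
g·u(h), first projection G ×_S G' → G, p, p is cartesian, so that G'' represents the fpqc quotient
sheaf G/G'. Let ε'' be the composite of the unit section of G with p. Then the square formed by u,
the structure morphism G' → S, p and ε'' is cartesian; u is an immersion; and G'' is separated over
S if and only if u is a closed immersion, if and only if ε'' is a closed immersion. -/
theorem result (S : Scheme.{u}) (G G' G'' : Over S) [GrpObj G] [GrpObj G']
    (u : G' ⟶ G) [IsMonHom u] [Mono u] (p : G ⟶ G'')
    (hcov : (∃ (Z : Scheme.{u}) (q : Z ⟶ G''.left) (r : Z ⟶ G.left), r ≫ p.left = q ∧ Surjective q ∧ Flat q ∧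
        ∀ V : G''.left.Opens, IsAffineOpen V → ∃ W : Z.Opens, IsCompact (W : Set Z) ∧ q.base '' (W : Set Z) = (V : Set G''.left)))
    (hsq : IsPullback ((G ◁ u) ≫ μ[G]) (fst G G') p p) :
    IsPullback u (toUnit G') p (η[G] ≫ p) ∧ IsImmersion u.left ∧
    (IsSeparated G''.hom ↔ IsClosedImmersion u.left) ∧ (IsClosedImmersion u.left ↔ IsClosedImmersion (η[G] ≫ p).left) := by
  let ε : 𝟙_ (Over S) ⟶ G'' := η[G] ≫ p
  have hcond : ∀ {T : Over S} (a : T ⟶ G), a ≫ p = toUnit T ≫ ε → a ≫ p = (1 : T ⟶ G) ≫ p := fun a ha => by
    rw [ha, show ε = η[G] ≫ p from rfl, ← Category.assoc]; rfl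
  have hm : (G ◁ u) ≫ μ[G] = fst G G' * (snd G G' ≫ u) := by
    rw [MonObj.mul_eq_mul G, MonObj.comp_mul, whiskerLeft_fst, whiskerLeft_snd]
  have hsq' : IsPullback (fst G G' * (snd G G' ≫ u)) (fst G G') p p := hm ▸ hsq
  have hw : u ≫ p = toUnit G' ≫ ε := by
    have h := lift (1 : G' ⟶ G) (𝟙 G') ≫= hsq'.w
    rw [← Category.assoc, ← Category.assoc, MonObj.comp_mul, ← Category.assoc, lift_fst, lift_snd,
      _root_.one_mul, Category.id_comp] at h
    rw [h, show ε = η[G] ≫ p from rfl, ← Category.assoc]; rfl
  have hpb : IsPullback u (toUnit G') p ε := by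
    refine IsPullback.of_isLimit' ⟨hw⟩ (PullbackCone.IsLimit.mk _
      (fun s => hsq'.lift s.fst (1 : s.pt ⟶ G) (hcond s.fst (by rw [s.condition, Subsingleton.elim s.snd (toUnit _)])) ≫ snd G G')
      (fun s => ?_) (fun s => Subsingleton.elim _ _) fun s m h₁ _ => ?_)
    · have h := hsq'.lift_fst s.fst (1 : s.pt ⟶ G) (hcond s.fst (by rw [s.condition, Subsingleton.elim s.snd (toUnit _)]))
      rw [MonObj.comp_mul, hsq'.lift_snd, _root_.one_mul] at h
      rw [Category.assoc]
      exact h
    · have h := hsq'.lift_fst s.fst (1 : s.pt ⟶ G) (hcond s.fst (by rw [s.condition, Subsingleton.elim s.snd (toUnit _)]))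
      rw [MonObj.comp_mul, hsq'.lift_snd, _root_.one_mul, ← Category.assoc] at h
      exact ((cancel_mono u).1 (h.trans h₁.symm)).symm
  have sq := (hpb.map (Over.forget S)).flip
  haveI hsec : IsImmersion ε.left := by
    haveI : IsImmersion (ε.left ≫ G''.hom) := by
      rw [Over.w ε]; exact inferInstanceAs (IsImmersion (𝟙 S))
    exact IsImmersion.of_comp ε.left G''.hom
  have hsep : IsSeparated G''.hom → IsClosedImmersion ε.left := fun h => by
    haveI : IsClosedImmersion (ε.left ≫ G''.hom) := by
      rw [Over.w ε]; exact inferInstanceAs (IsClosedImmersion (𝟙 S))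
    exact IsClosedImmersion.of_comp ε.left G''.hom
  have hu : IsClosedImmersion ε.left → IsClosedImmersion u.left := fun h => MorphismProperty.of_isPullback sq h
  have hback : IsClosedImmersion u.left → IsSeparated G''.hom := fun h => by
    refine (Groth.Agent.S5373.result S G G'' p).2.2 hcov ?_
    let v : pullback p p ⟶ G ⊗ G := lift (pullback.fst p p) (pullback.snd p p)
    haveI : IsClosedImmersion (G ◁ u).left :=
      MorphismProperty.of_isPullback (Groth.L25.Actions.isPullback_whiskerLeft_left G u).flip h
    have hσ : IsIso (lift (fst G G * snd G G) (fst G G)) := by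
      refine ⟨lift (snd G G) ((snd G G)⁻¹ * fst G G), ?_, ?_⟩
      all_goals
        apply CartesianMonoidalCategory.hom_ext
        · simp [MonObj.comp_mul, GrpObj.comp_inv]
        · simp [MonObj.comp_mul, GrpObj.comp_inv]
    haveI : IsIso (lift (fst G G * snd G G) (fst G G)).left :=
      inferInstanceAs (IsIso ((Over.forget S).map (lift (fst G G * snd G G) (fst G G))))
    have e : v = hsq.isoPullback.inv ≫ (G ◁ u) ≫ lift (fst G G * snd G G) (fst G G) := by
      rw [Iso.eq_inv_comp]
      apply CartesianMonoidalCategory.hom_ext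
      · rw [Category.assoc, Category.assoc, lift_fst, lift_fst, hsq.isoPullback_hom_fst, MonObj.mul_eq_mul G]
      · rw [Category.assoc, Category.assoc, lift_snd, lift_snd, hsq.isoPullback_hom_snd, whiskerLeft_fst]
    show IsClosedImmersion v.left
    rw [e, Over.comp_left, Over.comp_left]
    haveI : IsIso hsq.isoPullback.inv.left := inferInstanceAs (IsIso ((Over.forget S).map hsq.isoPullback.inv))
    infer_instance
  exact ⟨hpb, MorphismProperty.of_isPullback sq hsec, ⟨fun h => hu (hsep h), hback⟩,
    ⟨fun h => hsep (hback h), hu⟩⟩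

end Groth.Agent.S5369
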