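import Groth.Statements.S5370
import Groth.Agent.L19.FlatComp
import Groth.Agent.L23.QFDescent
import Groth.Agent.L25.Actions

set_option linter.style.haveILetI false

set_option autoImplicit false
universe u
open CategoryTheory CategoryTheory.Limits MonoidalCategory CartesianMonoidalCategory MonObj GrpObj AlgebraicGeometry
open SGA3

namespace Groth.Agent.S5370

/-- Let u : G' → G be a monomorphism of S-group schemes and p : G → G'' a morphism of S-schemes which is
covering for the fpqc topology (some Z → G'' which is flat, surjective, with every affine open of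
G'' the image of a quasi-compact open of Z, factors through p) and such that the square (g, h) ↦
g·u(h), first projection G ×_S G' → G, p, p is cartesian, so that G'' represents the fpqc quotient
sheaf G/G'. Then: (ix) if G is reduced, G'' is reduced; (xi) G' is flat over S if and only if p is
flat, and in that case G'' is flat over S if and only if G is flat over S. -/
theorem result (S : Scheme.{u}) (G G' G'' : Over S) [GrpObj G] [GrpObj G']
    (u : G' ⟶ G) [IsMonHom u] [Mono u] (p : G ⟶ G'')
    (hcov : (∃ (Z : Scheme.{u}) (q : Z ⟶ G''.left) (r : Z ⟶ G.left), r ≫ p.left = q ∧ Surjective q ∧ Flat q ∧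
        ∀ V : G''.left.Opens, IsAffineOpen V → ∃ W : Z.Opens, IsCompact (W : Set Z) ∧ q.base '' (W : Set Z) = (V : Set G''.left)))
    (hsq : IsPullback ((G ◁ u) ≫ μ[G]) (fst G G') p p) :
    (IsReduced G.left → IsReduced G''.left) ∧
    (Flat G'.hom ↔ Flat p.left) ∧ (Flat p.left → (Flat G''.hom ↔ Flat G.hom)) := by
  obtain ⟨Z, q, r, hr, hqs, hqf, hqW⟩ := hcov
  haveI : Surjective p.left := by
    haveI : Surjective (r ≫ p.left) := by rw [hr]; infer_instance
    exact Surjective.of_comp r p.left
  refine ⟨fun hG => ?_, ⟨fun hG' => ?_, fun hp => ?_⟩, fun hp => ⟨fun h => ?_, fun h => ?_⟩⟩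
  · haveI : ∀ y : G''.left, _root_.IsReduced (G''.left.presheaf.stalk y) := fun y => by
      obtain ⟨z, hz⟩ := q.surjective y
      subst hr
      subst hz
      have hinj := Groth.L19.stalkMap_injective_of_flat (r ≫ p.left) z
      rw [Scheme.Hom.stalkMap_comp] at hinj
      exact isReduced_of_injective (p.left.stalkMap (r z)).hom fun a b h => hinj (congrArg (r.stalkMap z).hom h)
    exact isReduced_of_isReduced_stalk G''.left
  · haveI : Flat (fst G G').left :=
      MorphismProperty.of_isPullback (Groth.L25.Actions.isPullback_snd G G').flip hG'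
    have sq := hsq.map (Over.forget S)
    have hpp : Flat (pullback.snd p.left p.left) := by
      show Flat (pullback.snd ((Over.forget S).map p) ((Over.forget S).map p))
      rw [← sq.isoPullback_inv_snd]; exact (MorphismProperty.cancel_left_of_respectsIso @Flat sq.isoPullback.inv _).2 this
    have hpp' : Flat (pullback.fst p.left p.left) := by
      rw [← pullbackSymmetry_hom_comp_snd]; infer_instance
    rw [IsZariskiLocalAtTarget.iff_of_iSup_eq_top (P := @Flat) _ (iSup_affineOpens_eq_top G''.left)]
    intro V
    obtain ⟨W, hWc, hWV⟩ := hqW V V.2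
    haveI : CompactSpace W.toScheme := isCompact_iff_compactSpace.mp hWc
    haveI : IsAffine (V : G''.left.Opens).toScheme := V.2
    let e := IsOpenImmersion.lift (V : G''.left.Opens).ι (W.ι ≫ q) (by
      rintro _ ⟨z, rfl⟩; rw [Scheme.Opens.range_ι, ← hWV]; exact ⟨z.1, z.2, rfl⟩)
    have he : e ≫ (V : G''.left.Opens).ι = W.ι ≫ q := IsOpenImmersion.lift_fac _ _ _
    haveI : QuasiCompact e := quasiCompact_of_compactSpace e
    haveI : Surjective e := ⟨fun y => by
      obtain ⟨z, hz, hzy⟩ := hWV.ge y.2
      refine ⟨⟨z, hz⟩, (V : G''.left.Opens).ι.isOpenEmbedding.injective ?_⟩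
      rw [← Scheme.Hom.comp_apply, he]
      exact hzy⟩
    haveI : Flat e := MorphismProperty.of_isPullback (IsPullback.of_horiz_isIso_mono (fst := 𝟙 _) (snd := e) (f := W.ι ≫ q)
        (g := (V : G''.left.Opens).ι) ⟨by simp [he]⟩) (inferInstance : Flat (W.ι ≫ q))
    refine MorphismProperty.of_pullback_fst_of_descendsAlong (P := @Flat) (Q := @Surjective ⊓ @Flat ⊓ @QuasiCompact)
      (f := e) ⟨⟨inferInstance, inferInstance⟩, inferInstance⟩ ?_
    have hA := ((IsPullback.of_hasPullback e (p.left ∣_ (V : G''.left.Opens))).flip.paste_horiz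
      (isPullback_morphismRestrict p.left (V : G''.left.Opens)).flip).flip
    have hB := ((IsPullback.of_hasPullback (W.ι ≫ r) (pullback.fst p.left p.left)).flip.paste_horiz
      (IsPullback.of_hasPullback p.left p.left).flip).flip
    rw [he, ← hr, ← Category.assoc] at hA
    rw [← hA.isoIsPullback_hom_fst _ _ hB]
    infer_instance
  · have h := MorphismProperty.of_isPullback (P := @Flat) ((hsq.map (Over.forget S))) hp
    have sq' : IsPullback (lift (toUnit G' ≫ η[G]) (𝟙 G') : G' ⟶ G ⊗ G').left G'.hom (fst G G').left η[G].left := by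
      refine IsPullback.of_right ?_ ?_ (Groth.L25.Actions.isPullback_snd G G').flip
      · rw [← Over.comp_left, lift_snd, Over.id_left, Over.w η[G]]
        haveI : IsIso (𝟙_ (Over S)).hom := inferInstanceAs (IsIso (𝟙 S))
        exact IsPullback.of_horiz_isIso ⟨by simp⟩
      · rw [← Over.comp_left, lift_fst, Over.comp_left]
        rfl
    exact MorphismProperty.of_isPullback sq' h
  · haveI := hp
    haveI := h
    rw [← Over.w p]; infer_instance
  · rw [Flat.iff_flat_stalkMap]
    intro y
    obtain ⟨x, rfl⟩ := p.left.surjective y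
    exact Groth.L19.flat_stalkMap_of_comp p.left G''.hom x (Flat.stalkMap p.left x)
      (by haveI := h; have := Flat.stalkMap G.hom x; rw [← Over.w p] at this; exact this)

end Groth.Agent.S5370
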