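import Groth.Statements.S5939
import Mathlib.AlgebraicGeometry.Morphisms.QuasiSeparated

set_option autoImplicit false
universe u
open CategoryTheory AlgebraicGeometry
open Unram17

namespace Groth.Agent.S5939

/-- Let f : X ⟶ Y be faithfully flat, locally of finite presentation and quasi-compact, and let g : Y ⟶
Z be a morphism such that f ≫ g is of finite presentation (locally of finite presentation,
quasi-compact and quasi-separated). Then g is quasi-compact and quasi-separated; together with the
descent of local finite presentation along f this says that g is of finite presentation. This is the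
case f quasi-compact. -/
theorem result {X Y Z : Scheme.{u}} (f : X ⟶ Y) (g : Y ⟶ Z)
    [Surjective f] [Flat f] [LocallyOfFinitePresentation f] [QuasiCompact f]
    [LocallyOfFinitePresentation (f ≫ g)] [QuasiCompact (f ≫ g)] [QuasiSeparated (f ≫ g)] :
    QuasiCompact g ∧ QuasiSeparated g := by
  have key : ∀ {A B C : Scheme.{u}} (a : A ⟶ B) (b : B ⟶ C), Surjective a → QuasiCompact (a ≫ b) →
      QuasiCompact b := by
    intro A B C a b ha hab
    refine ⟨fun U hU hU' => ?_⟩
    have h := (hab.isCompact_preimage U hU hU').image a.continuous
    rwa [show (a ≫ b).base ⁻¹' U = a.base ⁻¹' (b.base ⁻¹' U) from rfl,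
      Set.image_preimage_eq _ a.surjective] at h
  refine ⟨key f g inferInstance inferInstance, ⟨key f (Limits.pullback.diagonal g) inferInstance ?_⟩⟩
  have e : f ≫ Limits.pullback.diagonal g = Limits.pullback.diagonal (f ≫ g) ≫
      Limits.pullback.map (f ≫ g) (f ≫ g) g g f f (𝟙 Z) (by simp) (by simp) := by
    apply Limits.pullback.hom_ext
    · rw [Category.assoc, Category.assoc, Limits.pullback.diagonal_fst, Category.comp_id]
      erw [Limits.pullback.lift_fst]
      rw [← Category.assoc, Limits.pullback.diagonal_fst]
      exact (Category.id_comp f).symm
    · rw [Category.assoc, Category.assoc, Limits.pullback.diagonal_snd, Category.comp_id]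
      erw [Limits.pullback.lift_snd]
      rw [← Category.assoc, Limits.pullback.diagonal_snd]
      exact (Category.id_comp f).symm
  rw [e]
  haveI : QuasiCompact (Limits.pullback.diagonal (f ≫ g)) := QuasiSeparated.quasiCompact_diagonal
  haveI : QuasiCompact (Limits.pullback.map (f ≫ g) (f ≫ g) g g f f (𝟙 Z) (by simp) (by simp)) :=
    MorphismProperty.pullback_map (P := @QuasiCompact) inferInstance inferInstance rfl rfl
  infer_instance

end Groth.Agent.S5939
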