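import Groth.Statements.S5371
import Groth.Agent.Lead.QuotTransfer
import Groth.Agent.L23.FppfSmooth
import Groth.Agent.L23.Descent
import Groth.Agent.L13.CGrpExt.Descend
import Groth.Agent.L20.ThickeningTopology
import Groth.Agent.L25.Unramified
import Groth.Agent.L07.SyntOverField
import Groth.Agent.S5939

set_option linter.style.haveILetI false

set_option autoImplicit false
universe u
open CategoryTheory CategoryTheory.Limits MonoidalCategory CartesianMonoidalCategory MonObj GrpObj AlgebraicGeometry
open SGA3

namespace Groth.Agent.S5371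

/-- Let u : G' → G be a monomorphism of S-group schemes and p : G → G'' a morphism of S-schemes which is
covering for the fpqc topology (some Z → G'' which is flat, surjective, with every affine open of
G'' the image of a quasi-compact open of Z, factors through p) and such that the square (g, h) ↦
g·u(h), first projection G ×_S G' → G, p, p is cartesian, so that G'' represents the fpqc quotient
sheaf G/G'. (xii) G' is flat and locally of finite presentation over S if and only if p is
surjective, flat and locally of finite presentation; in that case, if G is locally of finite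
presentation (resp. locally of finite type, of finite type, smooth, etale, unramified, locally
quasi-finite) over S, so is G''. (xiii) If G' is flat and of finite presentation over S then p is of
finite presentation, and G is of finite presentation over S if and only if G'' is. -/
theorem result (S : Scheme.{u}) (G G' G'' : Over S) [GrpObj G] [GrpObj G']
    (u : G' ⟶ G) [IsMonHom u] [Mono u] (p : G ⟶ G'')
    (hcov : (∃ (Z : Scheme.{u}) (q : Z ⟶ G''.left) (r : Z ⟶ G.left), r ≫ p.left = q ∧ Surjective q ∧ Flat q ∧
        ∀ V : G''.left.Opens, IsAffineOpen V → ∃ W : Z.Opens, IsCompact (W : Set Z) ∧ q.base '' (W : Set Z) = (V : Set G''.left)))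
    (hsq : IsPullback ((G ◁ u) ≫ μ[G]) (fst G G') p p) :
    ((Flat G'.hom ∧ LocallyOfFinitePresentation G'.hom) ↔
      (Surjective p.left ∧ Flat p.left ∧ LocallyOfFinitePresentation p.left)) ∧
    (Flat p.left → LocallyOfFinitePresentation p.left →
      (LocallyOfFinitePresentation G.hom → LocallyOfFinitePresentation G''.hom) ∧
      (LocallyOfFiniteType G.hom → LocallyOfFiniteType G''.hom) ∧
      (LocallyOfFiniteType G.hom → QuasiCompact G.hom → QuasiCompact G''.hom) ∧
      (Smooth G.hom → Smooth G''.hom) ∧ (Etale G.hom → Etale G''.hom) ∧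
      (FormallyUnramified G.hom → LocallyOfFinitePresentation G.hom → FormallyUnramified G''.hom) ∧
      (LocallyQuasiFinite G.hom → LocallyOfFiniteType G.hom → LocallyQuasiFinite G''.hom)) ∧
    (Flat G'.hom → LocallyOfFinitePresentation G'.hom → QuasiCompact G'.hom → QuasiSeparated G'.hom →
      QuasiCompact p.left ∧ QuasiSeparated p.left ∧ LocallyOfFinitePresentation p.left ∧
      ((LocallyOfFinitePresentation G.hom ∧ QuasiCompact G.hom ∧ QuasiSeparated G.hom) ↔
        (LocallyOfFinitePresentation G''.hom ∧ QuasiCompact G''.hom ∧ QuasiSeparated G''.hom))) := by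
  obtain ⟨Z, q, r, hr, hqs, hqf, hqW⟩ := hcov
  have hcov : ∃ (Z : Scheme.{u}) (q : Z ⟶ G''.left) (r : Z ⟶ G.left), r ≫ p.left = q ∧ Surjective q ∧ Flat q ∧
      ∀ V : G''.left.Opens, IsAffineOpen V → ∃ W : Z.Opens, IsCompact (W : Set Z) ∧ q.base '' (W : Set Z) = (V : Set G''.left) :=
    ⟨Z, q, r, hr, hqs, hqf, hqW⟩
  haveI : Surjective p.left := by
    haveI : Surjective (r ≫ p.left) := by rw [hr]; infer_instance
    exact Surjective.of_comp r p.left
  have tr := fun (P : MorphismProperty Scheme.{u}) (_ : P.IsStableUnderBaseChange) (_ : IsZariskiLocalAtTarget P)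
    (_ : P.DescendsAlong (@Surjective ⊓ @Flat ⊓ @QuasiCompact)) => Groth.Lead.QuotTransfer.hom_iff_proj P hcov hsq
  have hF := tr @Flat inferInstance inferInstance inferInstance
  have hP := tr @LocallyOfFinitePresentation inferInstance inferInstance inferInstance
  have hw : p.left ≫ G''.hom = G.hom := Over.w p
  refine ⟨⟨fun h => ⟨inferInstance, hF.1 h.1, hP.1 h.2⟩, fun h => ⟨hF.2 h.2.1, hP.2 h.2.2⟩⟩, fun hf hfp => ?_,
    fun h1 h2 h3 h4 => ?_⟩
  · haveI := hf
    haveI := hfp
    refine ⟨fun h => ?_, fun h => ?_, fun _ h => ?_, fun h => ?_, fun h => ?_, fun h h' => ?_, fun h h' => ?_⟩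
    · exact Groth.L24.Alg.locallyOfFinitePresentation_of_fppf_comp p.left G''.hom (hw.symm ▸ h)
    · exact Groth.L24.Alg.locallyOfFiniteType_of_fppf_comp p.left G''.hom (hw.symm ▸ h)
    · haveI : QuasiCompact (p.left ≫ G''.hom) := hw.symm ▸ h
      exact Groth.L20.Thick.quasiCompact_of_comp_surjective p.left G''.hom
    · exact Groth.L23.FppfSmooth.smooth_of_fppf_comp p.left G''.hom (hw.symm ▸ h)
    · exact Groth.L23.FppfSmooth.etale_of_fppf_comp p.left G''.hom (hw.symm ▸ h)
    · haveI : LocallyOfFinitePresentation G''.hom :=
        Groth.L24.Alg.locallyOfFinitePresentation_of_fppf_comp p.left G''.hom (hw.symm ▸ h')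
      refine Groth.L25.Unramified.formallyUnramified_of_fibres _ fun s => ?_
      let b := S.fromSpecResidueField s
      let pb : Over.mk (pullback.snd G.hom b) ⟶ Over.mk (pullback.snd G''.hom b) :=
        (Over.pullback b).map p
      have hsq := (Groth.Lead.QuotTransfer.isPullback_bc b p).flip
      haveI : Flat pb.left := MorphismProperty.of_isPullback hsq hf
      haveI : Surjective pb.left := MorphismProperty.of_isPullback hsq inferInstance
      haveI : LocallyOfFinitePresentation pb.left := MorphismProperty.of_isPullback hsq hfp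
      haveI : FormallyUnramified (pullback.snd G.hom b) := MorphismProperty.pullback_snd _ _ h
      haveI : LocallyOfFinitePresentation (pullback.snd G.hom b) := MorphismProperty.pullback_snd _ _ h'
      haveI : Flat (pullback.snd G.hom b) := Groth.L07.SyntOverField.flat_over_field _
      have he : Etale (pb.left ≫ pullback.snd G''.hom b) := by
        rw [show pb.left ≫ pullback.snd G''.hom b = pullback.snd G.hom b from Over.w pb,
          Etale.iff_flat_and_formallyUnramified]
        exact ⟨inferInstance, inferInstance, inferInstance⟩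
      haveI : Etale (pullback.snd G''.hom b) := Groth.L23.FppfSmooth.etale_of_fppf_comp _ _ he
      exact inferInstanceAs (FormallyUnramified (pullback.snd G''.hom b))
    · haveI : LocallyOfFiniteType G''.hom :=
        Groth.L24.Alg.locallyOfFiniteType_of_fppf_comp p.left G''.hom (hw.symm ▸ h')
      rw [locallyQuasiFinite_iff_isDiscrete_preimage_singleton]
      intro s
      haveI := h
      rw [isDiscrete_iff_forall_exists_isOpen]
      intro y hy
      obtain ⟨x, rfl⟩ := p.left.surjective y
      obtain ⟨O, hO, hOx⟩ := isDiscrete_iff_forall_exists_isOpen.1 (G.hom.isDiscrete_preimage_singleton s) x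
        (by rw [← hw]; exact hy)
      refine ⟨p.left '' O, p.left.isOpenMap _ hO, Set.eq_singleton_iff_unique_mem.2
        ⟨⟨⟨x, (hOx.ge rfl).1, rfl⟩, hy⟩, ?_⟩⟩
      rintro _ ⟨⟨a, ha, rfl⟩, hay⟩
      have : a ∈ O ∩ G.hom ⁻¹' {s} := ⟨ha, by rw [← hw]; exact hay⟩
      rw [hOx] at this
      rw [Set.mem_singleton_iff.1 this]
  · haveI := hF.1 h1
    haveI := hP.1 h2
    haveI := (tr @QuasiCompact inferInstance inferInstance inferInstance).1 h3
    haveI := (tr @QuasiSeparated inferInstance inferInstance inferInstance).1 h4
    refine ⟨inferInstance, inferInstance, inferInstance, ⟨fun ⟨a, b, c⟩ => ?_, fun ⟨a, b, c⟩ => ?_⟩⟩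
    · haveI : LocallyOfFinitePresentation (p.left ≫ G''.hom) := hw.symm ▸ a
      haveI : QuasiCompact (p.left ≫ G''.hom) := hw.symm ▸ b
      haveI : QuasiSeparated (p.left ≫ G''.hom) := hw.symm ▸ c
      exact ⟨Groth.L24.Alg.locallyOfFinitePresentation_of_fppf_comp p.left G''.hom inferInstance,
        Groth.Agent.S5939.result p.left G''.hom⟩
    · haveI := a
      haveI := b
      haveI := c
      rw [← hw]
      exact ⟨inferInstance, inferInstance, inferInstance⟩

end Groth.Agent.S5371
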