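import Groth.Statements.S5372
import Groth.Agent.Lead.FpqcQuot

set_option linter.style.haveILetI false

set_option autoImplicit false
universe u
open CategoryTheory CategoryTheory.Limits MonoidalCategory CartesianMonoidalCategory MonObj GrpObj AlgebraicGeometry
open SGA3

namespace Groth.Agent.S5372

/-- Let u : G' → G be a monomorphism of S-group schemes which is normal, and p : G → G'' a morphism of
S-schemes which is covering for the fpqc topology (some Z → G'' which is flat, surjective, with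
every affine open of G'' the image of a quasi-compact open of Z, factors through p) and such that
the square (g, h) ↦ g·u(h), first projection G ×_S G' → G, p, p is cartesian, so that G'' represents
the fpqc quotient sheaf G/G'. Then there is a structure of S-group scheme on G'' for which p is a
homomorphism, and it is unique: any morphism m : G'' ×_S G'' → G'' with (p × p) followed by m equal
to the multiplication of G followed by p is its multiplication. -/
theorem result (S : Scheme.{u}) (G G' G'' : Over S) [GrpObj G] [GrpObj G']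
    (u : G' ⟶ G) [IsMonHom u] [Mono u] (p : G ⟶ G'')
    (hcov : (∃ (Z : Scheme.{u}) (q : Z ⟶ G''.left) (r : Z ⟶ G.left), r ≫ p.left = q ∧ Surjective q ∧ Flat q ∧
        ∀ V : G''.left.Opens, IsAffineOpen V → ∃ W : Z.Opens, IsCompact (W : Set Z) ∧ q.base '' (W : Set Z) = (V : Set G''.left)))
    (hsq : IsPullback ((G ◁ u) ≫ μ[G]) (fst G G') p p) (hN : AlgGrp.IsNormalHom u) :
    ∃ _ : GrpObj G'', IsMonHom p ∧ ∀ m : G'' ⊗ G'' ⟶ G'', (p ⊗ₘ p) ≫ m = μ[G] ≫ p → m = μ[G''] := by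
  obtain ⟨Z, q, r, hr, hqs, hqf, hqW⟩ := hcov
  have hUp : Groth.L09.UEffEpi.UEE p := Groth.Lead.FpqcQuot.uee_over p
    (Groth.L09.UEffEpi.of_comp (v := r) (hr ▸ Groth.Lead.FpqcQuot.uee_of_cover q hqW))
  have hμu : ∀ {T : Over S} (a : T ⟶ G) (n : T ⟶ G'), lift a n ≫ (G ◁ u) ≫ μ[G] = a * (n ≫ u) :=
    fun a n => Groth.L09.GrpQuot.lift_relSnd u a n
  -- two points have the same image iff they differ by a point of `G'`
  have hiff : ∀ {T : Over S} (a b : T ⟶ G), a ≫ p = b ≫ p ↔ ∃ n : T ⟶ G', a = b * (n ≫ u) := by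
    intro T a b
    constructor
    · intro h
      obtain ⟨l, hl₁, hl₂⟩ := hsq.exists_lift a b h
      refine ⟨l ≫ snd G G', ?_⟩
      rw [← hl₁, ← hl₂, Groth.L09.GrpQuot.comp_relSnd]
      simp
    · rintro ⟨n, rfl⟩
      rw [← hμu, Category.assoc, hsq.w, lift_fst_assoc]
  have hUpp : Groth.L09.UEffEpi.UEE (p ⊗ₘ p) := Groth.L09.GrpQuot.tensor_uee hUp hUp
  haveI := Groth.L09.UEffEpi.effectiveEpi hUp
  haveI := Groth.L09.UEffEpi.effectiveEpi hUpp
  have hw : ∀ {T : Over S} (g₁ g₂ : T ⟶ G ⊗ G), g₁ ≫ (p ⊗ₘ p) = g₂ ≫ (p ⊗ₘ p) →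
      g₁ ≫ μ[G] ≫ p = g₂ ≫ μ[G] ≫ p := by
    intro T g₁ g₂ h
    have h₁ := congrArg (· ≫ fst G'' G'') h
    have h₂ := congrArg (· ≫ snd G'' G'') h
    simp only [Category.assoc, tensorHom_fst, tensorHom_snd] at h₁ h₂
    rw [← Category.assoc, ← Category.assoc] at h₁ h₂
    obtain ⟨n₁, hn₁⟩ := (hiff _ _).1 h₁
    obtain ⟨n₂, hn₂⟩ := (hiff _ _).1 h₂
    obtain ⟨n', hn'⟩ := hN T (g₂ ≫ snd G G)⁻¹ n₁
    rw [_root_.inv_inv] at hn'
    rw [← Category.assoc, ← Category.assoc, hiff]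
    refine ⟨n' * n₂, ?_⟩
    simp only [MonObj.mul_eq_mul G, MonObj.comp_mul, MonObj.mul_comp, hn₁, hn₂]
    rw [← hn']
    group
  have hwi : ∀ {T : Over S} (g₁ g₂ : T ⟶ G), g₁ ≫ p = g₂ ≫ p → g₁ ≫ ι[G] ≫ p = g₂ ≫ ι[G] ≫ p := by
    intro T g₁ g₂ h
    obtain ⟨n, rfl⟩ := (hiff _ _).1 h
    obtain ⟨n', hn'⟩ := hN T g₂ n⁻¹
    rw [← Category.assoc, ← Category.assoc, hiff]
    refine ⟨n', ?_⟩
    rw [← hn', GrpObj.inv_comp, ← Hom.inv_def, ← Hom.inv_def]
    group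
  let m := EffectiveEpi.desc (p ⊗ₘ p) (μ[G] ≫ p) hw
  let i := EffectiveEpi.desc p (ι[G] ≫ p) hwi
  have hm : (p ⊗ₘ p) ≫ m = μ[G] ≫ p := EffectiveEpi.fac _ _ _
  letI gQ := Groth.L09.GrpQuot.grpObjOfEpi p hUp m i hm (EffectiveEpi.fac _ _ _)
  refine ⟨gQ, ⟨rfl, hm.symm⟩, fun m' h => ?_⟩
  exact (cancel_epi (p ⊗ₘ p)).1 (h.trans hm.symm)

end Groth.Agent.S5372
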