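import Groth.Statements.S5375
import Groth.Agent.S8220
import Groth.Agent.L08.Dual
import Groth.Agent.L08.LinRed
import Mathlib.RingTheory.FiniteType

set_option autoImplicit false
universe u
open CategoryTheory CategoryTheory.Limits MonoidalCategory CartesianMonoidalCategory MonObj GrpObj AlgebraicGeometry
open SGA3

namespace Groth.Agent.S5375

/-- Let A be a commutative Hopf algebra over a field k (an affine k-group, not necessarily of finite
type) and x an element of A. Then there is a subalgebra B of A of finite type over k containing x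
which is a sub-Hopf-algebra: the comultiplication sends B into B ⊗ B and the antipode preserves B. -/
theorem result (k : Type u) [Field k] (A : Type u) [CommRing A] [HopfAlgebra k A] (x : A) :
    ∃ B : Subalgebra k A, x ∈ B ∧ B.FG ∧ SGA3.IsHopfSubalgebra k A B := by
  classical
  obtain ⟨C, hCfin, hxC, hC⟩ := Groth.Agent.S8220.result (k := k) (A := A) {x}
  obtain ⟨t, ht⟩ := (Module.Finite.iff_fg.1 hCfin)
  let S : A →ₐ[k] A := HopfAlgebra.antipodeAlgHom k A
  have hS : ∀ a, S a = HopfAlgebraStruct.antipode (R := k) a := fun a => rfl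
  have hSS : ∀ a, S (S a) = a := fun a => Groth.L08.antipode_antipode_apply a
  let g : Set A := ↑t ∪ S '' ↑t
  let B : Subalgebra k A := Algebra.adjoin k g
  have hCB : ∀ c ∈ C, c ∈ B := by
    intro c hc
    rw [← ht] at hc
    exact Submodule.span_le (p := Subalgebra.toSubmodule B) |>.2
      (fun y hy => Algebra.subset_adjoin (Or.inl hy)) hc
  have hSB : ∀ b ∈ B, S b ∈ B := by
    intro b hb
    have h : B.map S ≤ B := by
      rw [AlgHom.map_adjoin]
      refine Algebra.adjoin_le ?_
      rintro _ ⟨y, hy | ⟨z, hz, rfl⟩, rfl⟩
      · exact Algebra.subset_adjoin (Or.inr ⟨y, hy, rfl⟩)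
      · rw [hSS]
        exact Algebra.subset_adjoin (Or.inl hz)
    exact h ⟨b, hb, rfl⟩
  let D : Subalgebra k A := (Algebra.TensorProduct.map B.val B.val).range.comap
    (Bialgebra.comulAlgHom k A)
  have hBD : B ≤ D := by
    have hCD : ∀ c ∈ C, c ∈ D := by
      intro c hc
      obtain ⟨z, hz⟩ := hC c hc
      let i : C →ₗ[k] B := C.subtype.codRestrict (Subalgebra.toSubmodule B) (fun w => hCB w w.2)
      refine ⟨TensorProduct.map i i z, ?_⟩
      have : (TensorProduct.map B.val.toLinearMap B.val.toLinearMap) ∘ₗ (TensorProduct.map i i) =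
          TensorProduct.map C.subtype C.subtype := by
        rw [← TensorProduct.map_comp]
        rfl
      exact (LinearMap.congr_fun this z).trans hz
    refine Algebra.adjoin_le ?_
    rintro y (hy | ⟨z, hz, rfl⟩)
    · exact hCD y (ht ▸ Submodule.subset_span hy)
    · obtain ⟨w, hw⟩ := hCD z (ht ▸ Submodule.subset_span hz)
      let sB : B →ₗ[k] B := ((S.comp B.val).codRestrict B (fun v => hSB v v.2)).toLinearMap
      refine ⟨TensorProduct.map sB sB (TensorProduct.comm k B B w), ?_⟩
      change TensorProduct.map B.val.toLinearMap B.val.toLinearMap _ =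
        Coalgebra.comul (R := k) (HopfAlgebraStruct.antipode (R := k) z)
      rw [Groth.L08.comul_antipode]
      have hw' : TensorProduct.map B.val.toLinearMap B.val.toLinearMap w =
          Coalgebra.comul (R := k) z := hw
      rw [← hw']
      clear hw'
      clear hw
      induction w using TensorProduct.induction_on with
      | zero => simp
      | tmul a b => rfl
      | add a b ha hb => simp only [map_add, ha, hb]
  refine ⟨B, hCB x (hxC (by simp)), ⟨t ∪ t.image S, by rw [Finset.coe_union, Finset.coe_image]⟩,
    fun b hb => ?_, fun b hb => hSB b hb⟩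
  obtain ⟨z, hz⟩ := hBD hb
  exact ⟨z, hz⟩
end Groth.Agent.S5375
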