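import Groth.Statements.S5376
import Groth.Agent.L08.CartierRed
import Mathlib.LinearAlgebra.TensorProduct.RightExactness
import Mathlib.LinearAlgebra.Quotient.Basic

set_option autoImplicit false
universe u
open CategoryTheory CategoryTheory.Limits MonoidalCategory CartesianMonoidalCategory MonObj GrpObj AlgebraicGeometry
open SGA3

namespace Groth.Agent.S5376

open TensorProduct HopfRep

section Orbit

variable {k : Type u} [Field k] {A : Type u} [CommRing A] [HopfAlgebra k A]
variable {V : Type u} [AddCommGroup V] [Module k V] [Comod k A V]

theorem points_separate [IsAlgClosed k] [Algebra.FiniteType k A] [IsReduced A] {a : A}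
    (h : ∀ g : A →ₐ[k] k, g a = 0) : a = 0 := by
  refine Groth.L08.CartierRed.eq_zero_of_forall_closure_point (k := k) fun g => ?_
  let e := AlgEquiv.ofBijective (Algebra.ofId k (AlgebraicClosure k)) IsAlgClosed.algebraMap_bijective_of_isIntegral
  have h1 := congrArg e (h (e.symm.toAlgHom.comp g))
  simpa using h1

/-- convolution of two points -/
noncomputable def pmul (g h : A →ₐ[k] k) : A →ₐ[k] k :=
  (Algebra.TensorProduct.lmul' k).comp ((Algebra.TensorProduct.map g h).comp (Bialgebra.comulAlgHom k A))

theorem act_act (g h : A →ₐ[k] k) (v : V) :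
    Comod.act k A V g (Comod.act k A V h v) = Comod.act k A V (pmul g h) v := by
  have key := LinearMap.congr_fun (Comod.coassoc (k := k) (A := A) (V := V)) v
  simp only [LinearMap.comp_apply, LinearEquiv.coe_coe] at key
  let Φ : V ⊗[k] (A ⊗[k] A) →ₗ[k] V :=
    (TensorProduct.rid k V).toLinearMap ∘ₗ
      LinearMap.lTensor V ((Algebra.TensorProduct.lmul' k).comp (Algebra.TensorProduct.map g h)).toLinearMap
  have hL : ∀ y : V ⊗[k] A, Φ (TensorProduct.assoc k V A A ((Comod.coact (k := k) (A := A)).rTensor A y)) =
      Comod.act k A V g ((TensorProduct.rid k V) (LinearMap.lTensor V h.toLinearMap y)) := fun y => by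
    induction y using TensorProduct.induction_on with
    | zero => simp
    | add a b ha hb => simp only [map_add, ha, hb]
    | tmul x a =>
      rw [LinearMap.rTensor_tmul, LinearMap.lTensor_tmul, TensorProduct.rid_tmul, map_smul]
      simp only [Comod.act, LinearMap.comp_apply, LinearEquiv.coe_coe]
      generalize Comod.coact (k := k) (A := A) x = z
      induction z using TensorProduct.induction_on with
      | zero => simp
      | add c d hc hd => simp only [TensorProduct.add_tmul, map_add, smul_add, hc, hd]
      | tmul x' b => simp [Φ, smul_smul, mul_comm]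
  have hR : ∀ y : V ⊗[k] A, Φ ((CoalgebraStruct.comul (R := k) (A := A)).lTensor V y) =
      (TensorProduct.rid k V) (LinearMap.lTensor V (pmul g h).toLinearMap y) := fun y => by
    induction y using TensorProduct.induction_on with
    | zero => simp
    | add a b ha hb => simp only [map_add, ha, hb]
    | tmul x a => rfl
  calc Comod.act k A V g (Comod.act k A V h v)
      = Φ (TensorProduct.assoc k V A A ((Comod.coact (k := k) (A := A)).rTensor A (Comod.coact v))) := (hL _).symm
    _ = Φ ((CoalgebraStruct.comul (R := k) (A := A)).lTensor V (Comod.coact v)) := by rw [key]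
    _ = Comod.act k A V (pmul g h) v := hR _

theorem act_counit (v : V) : Comod.act k A V (Bialgebra.counitAlgHom k A) v = v := by
  have key := LinearMap.congr_fun (Comod.counit_comp (k := k) (A := A) (V := V)) v
  simp only [LinearMap.comp_apply, LinearMap.flip_apply, TensorProduct.mk_apply] at key
  show (TensorProduct.rid k V) ((CoalgebraStruct.counit (R := k) (A := A)).lTensor V (Comod.coact v)) = v
  rw [key, TensorProduct.rid_tmul, one_smul]

theorem act_mem_of_isSubcomod {W : Submodule k V} (hW : IsSubcomod (k := k) (A := A) W) {w : V} (hw : w ∈ W)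
    (g : A →ₐ[k] k) : Comod.act k A V g w ∈ W := by
  obtain ⟨y, hy⟩ := hW w hw
  show (TensorProduct.rid k V) (g.toLinearMap.lTensor V (Comod.coact w)) ∈ W
  rw [← hy]
  clear hy
  induction y using TensorProduct.induction_on with
  | zero => simp
  | add a b ha hb => simp only [map_add]; exact W.add_mem ha hb
  | tmul x a =>
    rw [LinearMap.rTensor_tmul, LinearMap.lTensor_tmul, TensorProduct.rid_tmul]
    exact W.smul_mem _ x.2

theorem isSubcomod_of_act_mem [IsAlgClosed k] [Algebra.FiniteType k A] [IsReduced A] {W : Submodule k V}
    (hW : ∀ g : A →ₐ[k] k, ∀ w ∈ W, Comod.act k A V g w ∈ W) : IsSubcomod (k := k) (A := A) W := by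
  classical
  intro w hw
  have hex : Function.Exact W.subtype W.mkQ := LinearMap.exact_subtype_mkQ W
  refine ((rTensor_exact A hex (Submodule.mkQ_surjective W)) _).mp ?_
  let b := Module.Free.chooseBasis k (V ⧸ W)
  let c := TensorProduct.equivFinsuppOfBasisLeft b (N := A)
  apply c.injective
  rw [map_zero]
  ext j
  refine points_separate (k := k) fun g => ?_
  have h1 : ∀ y : (V ⧸ W) ⊗[k] A, g (c y j) = b.repr ((TensorProduct.rid k _) (g.toLinearMap.lTensor _ y)) j := fun y => by
    induction y using TensorProduct.induction_on with
    | zero => simp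
    | add a b ha hb => simp [map_add, ha, hb]
    | tmul x a => simp [c, mul_comm]
  have h2 : ∀ y : V ⊗[k] A, (TensorProduct.rid k (V ⧸ W)) (g.toLinearMap.lTensor _ (W.mkQ.rTensor A y)) =
      W.mkQ ((TensorProduct.rid k V) (g.toLinearMap.lTensor V y)) := fun y => by
    induction y using TensorProduct.induction_on with
    | zero => simp
    | add a b ha hb => simp only [map_add, ha, hb]
    | tmul x a => simp
  rw [h1, h2]
  have h3 : W.mkQ (Comod.act k A V g w) = 0 := (Submodule.Quotient.mk_eq_zero W).mpr (hW g w hw)
  rw [show (TensorProduct.rid k V) (g.toLinearMap.lTensor V (Comod.coact w)) = Comod.act k A V g w from rfl, h3]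
  simp

end Orbit

/-- Let k be an algebraically closed field, A a finitely generated commutative Hopf algebra over k which
is reduced (a reduced affine algebraic k-group G), V a finite-dimensional A-comodule and v a vector
of V. Let E be the k-subspace of V spanned by the vectors g·v for g running over the k-points of G
(algebra maps A → k). Then E is a subcomodule of V containing v, and it is the smallest one. -/
theorem result (k : Type u) [Field k] [IsAlgClosed k] (A : Type u) [CommRing A] [HopfAlgebra k A]
    [Algebra.FiniteType k A] [IsReduced A] (V : Type u) [AddCommGroup V] [Module k V] [HopfRep.Comod k A V]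
    [Module.Finite k V] (v : V) :
    letI E : Submodule k V := Submodule.span k (Set.range fun g : A →ₐ[k] k => HopfRep.Comod.act k A V g v)
    HopfRep.IsSubcomod (k := k) (A := A) E ∧ v ∈ E ∧
      ∀ W : Submodule k V, HopfRep.IsSubcomod (k := k) (A := A) W → v ∈ W → E ≤ W := by
  refine ⟨isSubcomod_of_act_mem fun g w hw => ?_, Submodule.subset_span ⟨_, act_counit v⟩, fun W hW hv =>
    Submodule.span_le.mpr ?_⟩
  · induction hw using Submodule.span_induction with
    | mem x hx =>
      obtain ⟨h, rfl⟩ := hx
      exact Submodule.subset_span ⟨_, (act_act g h v).symm⟩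
    | zero => rw [map_zero]; exact Submodule.zero_mem _
    | add x y _ _ hx hy => rw [map_add]; exact Submodule.add_mem _ hx hy
    | smul c x _ hx => rw [map_smul]; exact Submodule.smul_mem _ c hx
  · rintro _ ⟨g, rfl⟩
    exact act_mem_of_isSubcomod hW hv g

end Groth.Agent.S5376
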