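import Groth.Statements.S5377
import Mathlib.RingTheory.RingHom.FaithfullyFlat
import Mathlib.RingTheory.Flat.EquationalCriterion
import Mathlib.Algebra.Category.Ring.FilteredColimits
import Mathlib.CategoryTheory.Limits.ConcreteCategory.Basic

set_option autoImplicit false
universe u
open CategoryTheory CategoryTheory.Limits MonoidalCategory CartesianMonoidalCategory MonObj GrpObj AlgebraicGeometry
open SGA3

namespace Groth.Agent.S5377

variable {J : Type u} [SmallCategory J] [IsFiltered J]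

theorem exists_lift (A : J ⥤ CommRingCat.{u}) {l : ℕ} (a : Fin l → (colimit A : CommRingCat.{u}))
    (j0 : J) : ∃ (k : J) (_ : j0 ⟶ k) (b : Fin l → A.obj k), ∀ i, colimit.ι A k (b i) = a i := by
  classical
  choose j x hx using fun i => Concrete.colimit_exists_rep A (a i)
  let O : Finset J := insert j0 (Finset.univ.image j)
  obtain ⟨k, hk⟩ := IsFiltered.sup_objs_exists O
  have hj : ∀ i, Nonempty (j i ⟶ k) := fun i => hk (by simp [O])
  obtain ⟨f0⟩ : Nonempty (j0 ⟶ k) := hk (by simp [O])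
  refine ⟨k, f0, fun i => A.map (hj i).some (x i), fun i => ?_⟩
  rw [← hx i]
  exact congr($(colimit.w A (hj i).some) (x i))

theorem exists_map_eq (A : J ⥤ CommRingCat.{u}) {j : J} {x y : A.obj j}
    (h : colimit.ι A j x = colimit.ι A j y) : ∃ (k : J) (f : j ⟶ k), A.map f x = A.map f y := by
  obtain ⟨k, f, g, hfg⟩ := (Concrete.colimit_rep_eq_iff_exists A x y).1 h
  exact ⟨IsFiltered.coeq f g, f ≫ IsFiltered.coeqHom f g, by
    have h2 : f ≫ IsFiltered.coeqHom f g = g ≫ IsFiltered.coeqHom f g := IsFiltered.coeq_condition f g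
    conv_rhs => rw [h2]
    simp only [Functor.map_comp, CommRingCat.comp_apply]
    rw [hfg]⟩

variable (C A : J ⥤ CommRingCat.{u}) (φ : C ⟶ A)

theorem ι_colimMap (j : J) (c : C.obj j) :
    (colimMap φ).hom (colimit.ι C j c) = colimit.ι A j (φ.app j c) :=
  congr($(CategoryTheory.Limits.ι_colimMap φ j) c)

theorem flat_colimMap (h : ∀ j, (φ.app j).hom.Flat) : (colimMap φ).hom.Flat := by
  algebraize [(colimMap φ).hom]
  refine (RingHom.flat_algebraMap_iff).2 (Module.Flat.of_forall_isTrivialRelation fun {l f x} hfx => ?_)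
  obtain ⟨j₁, -, c, hc⟩ := exists_lift C f (IsFiltered.nonempty (C := J)).some
  obtain ⟨j₂, g, a, ha⟩ := exists_lift A x j₁
  let c₂ : Fin l → C.obj j₂ := fun i => C.map g (c i)
  have hc₂ : ∀ i, colimit.ι C j₂ (c₂ i) = f i := fun i =>
    (congr($(colimit.w C g) (c i))).trans (hc i)
  have h0 : colimit.ι A j₂ (∑ i, φ.app j₂ (c₂ i) * a i) = colimit.ι A j₂ 0 := by
    rw [map_zero, map_sum]
    refine Eq.trans ?_ hfx
    refine Finset.sum_congr rfl fun i _ => ?_
    rw [map_mul, ha, ← ι_colimMap, hc₂, Algebra.smul_def]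
    rfl
  obtain ⟨k, q, hq⟩ := exists_map_eq A h0
  have hk := h k
  algebraize [(φ.app k).hom]
  let f' : Fin l → C.obj k := fun i => C.map q (c₂ i)
  let x' : Fin l → A.obj k := fun i => A.map q (a i)
  have hrel : ∑ i, f' i • x' i = 0 := by
    rw [map_zero, map_sum] at hq
    refine Eq.trans ?_ hq
    refine Finset.sum_congr rfl fun i _ => ?_
    rw [map_mul, Algebra.smul_def]
    exact congrArg (· * _) congr($(φ.naturality q) (c₂ i))
  haveI : Module.Flat (C.obj k) (A.obj k) := (RingHom.flat_algebraMap_iff).1 hk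
  obtain ⟨κ, e, y, hy, he⟩ := Module.Flat.isTrivialRelation_of_sum_smul_eq_zero hrel
  refine ⟨κ, fun i r => colimit.ι C k (e i r), fun r => colimit.ι A k (y r), fun i => ?_, fun r => ?_⟩
  · rw [← ha i, ← congr($(colimit.w A q) (a i))]
    show colimit.ι A k (x' i) = _
    rw [hy i, map_sum]
    refine Finset.sum_congr rfl fun r _ => ?_
    rw [Algebra.smul_def, Algebra.smul_def, map_mul]
    exact congrArg (· * _) (ι_colimMap C A φ k (e i r)).symm
  · have hr := congrArg (colimit.ι C k) (he r)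
    rw [map_zero, map_sum] at hr
    refine Eq.trans ?_ hr
    refine Finset.sum_congr rfl fun i _ => ?_
    rw [map_mul, ← hc₂ i]
    exact congrArg (· * _) congr($(colimit.w C q) (c₂ i)).symm

theorem result (J : Type u) [SmallCategory J] [IsFiltered J]
    (C A : J ⥤ CommRingCat.{u}) (φ : C ⟶ A) (h : ∀ j : J, (φ.app j).hom.FaithfullyFlat) :
    (colimMap φ).hom.FaithfullyFlat := by
  have hflat := flat_colimMap C A φ fun j => (h j).flat
  algebraize [(colimMap φ).hom]
  refine (RingHom.faithfullyFlat_algebraMap_iff).2 ?_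
  haveI : Module.Flat (colimit C : CommRingCat.{u}) (colimit A : CommRingCat.{u}) :=
    (RingHom.flat_algebraMap_iff).1 hflat
  refine ⟨fun {m} hm htop => hm.ne_top ?_⟩
  rw [Ideal.smul_top_eq_map, Submodule.restrictScalars_eq_top_iff] at htop
  have h1 : (1 : (colimit A : CommRingCat.{u})) ∈ Ideal.map (algebraMap _ _) m := htop ▸ Submodule.mem_top
  rw [Ideal.map, Ideal.span, Submodule.mem_span_iff_exists_finset_subset] at h1
  obtain ⟨w, t, ht, -, hsum⟩ := h1
  choose c hcm hct using fun i : Fin t.card => ht (t.equivFin.symm i).2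
  obtain ⟨j₁, -, c', hc'⟩ := exists_lift C c (IsFiltered.nonempty (C := J)).some
  obtain ⟨j₂, g, a, ha⟩ := exists_lift A (fun i : Fin t.card => w (t.equivFin.symm i)) j₁
  let c₂ : Fin t.card → C.obj j₂ := fun i => C.map g (c' i)
  have hc₂ : ∀ i, colimit.ι C j₂ (c₂ i) = c i := fun i => (congr($(colimit.w C g) (c' i))).trans (hc' i)
  have h0 : colimit.ι A j₂ (∑ i, a i * φ.app j₂ (c₂ i)) = colimit.ι A j₂ 1 := by
    rw [map_one, map_sum, ← hsum, ← Finset.sum_coe_sort t, ← t.equivFin.symm.sum_comp]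
    refine Finset.sum_congr rfl fun i _ => ?_
    rw [map_mul, ha, ← ι_colimMap, hc₂]
    exact congrArg (w _ * ·) (hct i)
  obtain ⟨k, q, hq⟩ := exists_map_eq A h0
  have hk := h k
  algebraize [(φ.app k).hom]
  haveI : Module.FaithfullyFlat (C.obj k) (A.obj k) := (RingHom.faithfullyFlat_algebraMap_iff).1 hk
  let P : Ideal (C.obj k) := Ideal.span (Set.range fun i => C.map q (c₂ i))
  have hP : Ideal.map (algebraMap (C.obj k) (A.obj k)) P = ⊤ := by
    rw [Ideal.eq_top_iff_one]
    rw [map_one, map_sum] at hq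
    rw [← hq]
    refine Ideal.sum_mem _ fun i _ => ?_
    rw [map_mul]
    refine Ideal.mul_mem_left _ _ ?_
    rw [show A.map q (φ.app j₂ (c₂ i)) = φ.app k (C.map q (c₂ i)) from congr($(φ.naturality q) (c₂ i)).symm]
    exact Ideal.mem_map_of_mem _ (Ideal.subset_span ⟨i, rfl⟩)
  have hP' : P = ⊤ := by
    rw [← Ideal.comap_map_eq_self_of_faithfullyFlat (B := A.obj k) P, hP, Ideal.comap_top]
  have hm1 : Ideal.map (colimit.ι C k).hom P ≤ m := by
    rw [Ideal.map_span, Ideal.span_le]
    rintro _ ⟨_, ⟨i, rfl⟩, rfl⟩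
    show colimit.ι C k (C.map q (c₂ i)) ∈ m
    rw [show colimit.ι C k (C.map q (c₂ i)) = c i from (congr($(colimit.w C q) (c₂ i))).trans (hc₂ i)]
    exact hcm i
  rw [hP', Ideal.map_top] at hm1
  exact top_le_iff.1 hm1

end Groth.Agent.S5377
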