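import Groth.Statements.S5378
import Groth.Agent.L15.AffFactor.Basic
import Mathlib.AlgebraicGeometry.Group.Affine
-- import your own Groth.Agent.* helpers here

set_option autoImplicit false
universe u
open CategoryTheory CategoryTheory.Limits MonoidalCategory CartesianMonoidalCategory MonObj GrpObj AlgebraicGeometry
open SGA3

namespace Groth.Agent.S5378

/-- Let k be a field, G a k-group scheme of finite type, G' an affine k-group scheme (not necessarily of
finite type) and u : G → G' a homomorphism. Then u factors as a homomorphism p : G → C which is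
surjective and flat (C is the quotient of G by the kernel of u) followed by a homomorphism i : C →
G' which is a closed immersion; in particular C is affine. If moreover u induces an injective map on
global sections, then i is an isomorphism (so G' is of finite type and u is faithfully flat). -/
theorem result (k : Type u) [Field k] (G G' : Over (Spec (CommRingCat.of k))) [GrpObj G] [GrpObj G']
    [LocallyOfFiniteType G.hom] [QuasiCompact G.hom] [IsAffine G'.left] (u : G ⟶ G') [IsMonHom u] :
    ∃ (C : Over (Spec (CommRingCat.of k))) (_ : GrpObj C) (p : G ⟶ C) (i : C ⟶ G'), IsMonHom p ∧ IsMonHom i ∧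
      p ≫ i = u ∧ Surjective p.left ∧ Flat p.left ∧ IsClosedImmersion i.left ∧ IsAffine C.left ∧
      (Function.Injective u.left.appTop.hom → IsIso i) := by
  obtain ⟨H, ⟨e⟩⟩ := (essImage_hopfSpec (G := Grp.mk G')).mpr ‹IsAffine G'.left›
  let X : Over (Spec (CommRingCat.of k)) := (Spec (CommRingCat.of H.unop)).asOver (Spec (CommRingCat.of k))
  let φ : X ⟶ G' := e.hom.hom.hom
  let ψ : G' ⟶ X := e.inv.hom.hom
  have h1 : φ ≫ ψ = 𝟙 X := congrArg (fun f => f.hom.hom) e.hom_inv_id
  have h2 : ψ ≫ φ = 𝟙 G' := congrArg (fun f => f.hom.hom) e.inv_hom_id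
  haveI : IsMonHom φ := e.hom.hom.isMonHom_hom
  haveI : IsMonHom ψ := e.inv.hom.isMonHom_hom
  haveI : IsIso φ := ⟨ψ, h1, h2⟩
  haveI : IsIso φ.left := inferInstanceAs (IsIso ((Over.forget _).map φ))
  obtain ⟨C, gC, p, q, hp, hq, hpq, hsurj, hfl, hci⟩ :=
    Groth.L15.AffFactor.exists_factor (k := k) (A := H.unop) (u ≫ ψ)
  have hfac : p ≫ q ≫ φ = u := by rw [reassoc_of% hpq, h2, Category.comp_id]
  haveI : IsClosedImmersion (q ≫ φ).left := by rw [Over.comp_left]; infer_instance
  haveI : IsAffine C.left := isAffine_of_isAffineHom (q ≫ φ).left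
  refine ⟨C, gC, p, q ≫ φ, hp, inferInstance, hfac, hsurj, hfl, inferInstance, inferInstance, fun hu => ?_⟩
  have hinj : Function.Injective (q ≫ φ).left.appTop.hom := by
    rw [← hfac, Over.comp_left, Scheme.Hom.comp_appTop, CommRingCat.hom_comp, RingHom.coe_comp] at hu
    exact hu.of_comp
  have hker : (q ≫ φ).left.ker = ⊥ := Scheme.IdealSheafData.ext_of_isAffine (by
    rw [(q ≫ φ).left.ker_apply ⟨⊤, isAffineOpen_top G'.left⟩, Scheme.IdealSheafData.ideal_bot,
      Pi.bot_apply]
    exact (RingHom.injective_iff_ker_eq_bot _).1 hinj)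
  haveI : IsIso (q ≫ φ).left := IsClosedImmersion.isIso_iff_ker_eq_bot.2 hker
  haveI : IsIso ((Over.forget _).map (q ≫ φ)) := ‹IsIso (q ≫ φ).left›
  exact isIso_of_reflects_iso (q ≫ φ) (Over.forget _)

end Groth.Agent.S5378
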