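import Groth.Statements.S5380
import Mathlib.RingTheory.Flat.Equalizer
import Mathlib.RingTheory.Flat.Localization
import Mathlib.RingTheory.Flat.Tensor
import Mathlib.RingTheory.Localization.BaseChange
import Mathlib.LinearAlgebra.TensorProduct.Quotient
import Mathlib.LinearAlgebra.DirectSum.Finsupp
import Mathlib.RingTheory.DiscreteValuationRing.Basic

set_option autoImplicit false
universe u
open CategoryTheory CategoryTheory.Limits MonoidalCategory CartesianMonoidalCategory MonObj GrpObj AlgebraicGeometry
open SGA3

namespace Groth.Agent.S5380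

open TensorProduct

section Core

variable {A : Type u} [CommRing A] {M : Type u} [AddCommGroup M] [Module A M]

/-- a presentation stays injective after tensoring with a module killed by `ϖ` -/
theorem lTensor_injective_of_killed (ϖ : A) (hϖ : IsSMulRegular M ϖ)
    [Module.Flat (A ⧸ Ideal.span {ϖ}) (M ⧸ (Ideal.span {ϖ} • (⊤ : Submodule A M)))]
    {K F : Type u} [AddCommGroup K] [Module A K] [AddCommGroup F] [Module A F]
    (i : K →ₗ[A] F) (p : F →ₗ[A] M) (hi : Function.Injective i) (hp : Function.Surjective p)
    (hex : Function.Exact i p)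
    (Q : Type u) [AddCommGroup Q] [Module A Q] [Module (A ⧸ Ideal.span {ϖ}) Q]
    [IsScalarTower A (A ⧸ Ideal.span {ϖ}) Q] :
    Function.Injective (i.lTensor Q) := by
  let J : Ideal A := Ideal.span {ϖ}
  haveI : Module.Flat (A ⧸ J) ((A ⧸ J) ⊗[A] M) := by
    let e := LinearEquiv.extendScalarsOfSurjective (R := A) (S := A ⧸ J) Ideal.Quotient.mk_surjective
      (TensorProduct.quotTensorEquivQuotSMul M J)
    exact Module.Flat.of_linearEquiv e
  have hinj : Function.Injective (i.baseChange (A ⧸ J)) := by
    rw [← LinearMap.ker_eq_bot, LinearMap.ker_eq_bot']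
    intro z hz
    obtain ⟨x, rfl⟩ := TensorProduct.mk_surjective A K (A ⧸ J) Ideal.Quotient.mk_surjective z
    rw [TensorProduct.mk_apply, LinearMap.baseChange_tmul] at hz
    have h1 : i x ∈ J • (⊤ : Submodule A F) := by
      rw [← Submodule.Quotient.mk_eq_zero, ← TensorProduct.quotTensorEquivQuotSMul_mk_one_tmul J,
        hz, map_zero]
    rw [Submodule.ideal_span_singleton_smul, Submodule.mem_smul_pointwise_iff_exists] at h1
    obtain ⟨f, -, hf⟩ := h1
    have h2 : p f = 0 := hϖ.right_eq_zero_of_smul (by rw [← map_smul, hf, hex.apply_apply_eq_zero])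
    obtain ⟨x', rfl⟩ := (hex f).mp h2
    rw [← map_smul] at hf
    rw [← hi hf, TensorProduct.mk_apply, TensorProduct.tmul_smul, TensorProduct.smul_tmul']
    have : ϖ • (1 : A ⧸ J) = 0 := by
      rw [Algebra.smul_def, _root_.mul_one]
      exact Ideal.Quotient.eq_zero_iff_mem.mpr (Ideal.mem_span_singleton_self ϖ)
    rw [this, TensorProduct.zero_tmul]
  have hexB : Function.Exact (i.baseChange (A ⧸ J)) (p.baseChange (A ⧸ J)) := lTensor_exact (A ⧸ J) hex hp
  have hpB : Function.Surjective (p.baseChange (A ⧸ J)) := LinearMap.lTensor_surjective (A ⧸ J) hp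
  have key := LinearMap.lTensor_injective_of_exact_of_flat (p.baseChange (A ⧸ J)) hpB _ hinj hexB Q
  let eK := AlgebraTensorModule.cancelBaseChange A (A ⧸ J) (A ⧸ J) Q K
  let eF := AlgebraTensorModule.cancelBaseChange A (A ⧸ J) (A ⧸ J) Q F
  have hcomm : ∀ z, i.lTensor Q (eK z) = eF ((i.baseChange (A ⧸ J)).lTensor Q z) := by
    intro z
    induction z using TensorProduct.induction_on with
    | zero => simp
    | add a b ha hb => simp only [map_add, ha, hb]
    | tmul q w =>
      induction w using TensorProduct.induction_on with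
      | zero => simp
      | add a b ha hb => simp only [TensorProduct.tmul_add, map_add, ha, hb]
      | tmul b k => simp [eK, eF]
  intro a b hab
  obtain ⟨a, rfl⟩ := eK.surjective a
  obtain ⟨b, rfl⟩ := eK.surjective b
  rw [hcomm, hcomm] at hab
  rw [key (eF.injective hab)]

theorem regular_tensor_aux (ϖ : A) (hϖ : IsSMulRegular M ϖ)
    [Module.Flat (A ⧸ Ideal.span {ϖ}) (M ⧸ (Ideal.span {ϖ} • (⊤ : Submodule A M)))]
    {N : Type u} [AddCommGroup N] [Module A N] (hN : IsSMulRegular N ϖ)
    {K F : Type u} [AddCommGroup K] [Module A K] [AddCommGroup F] [Module A F] [Module.Flat A F]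
    (i : K →ₗ[A] F) (p : F →ₗ[A] M) (hi : Function.Injective i) (hp : Function.Surjective p)
    (hex : Function.Exact i p) :
    IsSMulRegular (N ⊗[A] M) ϖ := by
  let J : Ideal A := Ideal.span {ϖ}
  have hQ := lTensor_injective_of_killed ϖ hϖ i p hi hp hex
    (N ⧸ J • (⊤ : Submodule A N))
  have hF : IsSMulRegular (N ⊗[A] F) ϖ := by
    have h := Module.Flat.rTensor_preserves_injective_linearMap (M := F) (LinearMap.lsmul A N ϖ) hN
    intro a b hab
    refine h ?_
    have he : ∀ w : N ⊗[A] F, (LinearMap.lsmul A N ϖ).rTensor F w = ϖ • w := fun w => by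
      induction w using TensorProduct.induction_on with
      | zero => simp
      | add a b ha hb => simp only [map_add, ha, hb, smul_add]
      | tmul n f => rw [LinearMap.rTensor_tmul, LinearMap.lsmul_apply, TensorProduct.smul_tmul']
    rw [he, he]
    exact hab
  refine IsSMulRegular.of_right_eq_zero_of_smul fun z hz => ?_
  obtain ⟨f, rfl⟩ := LinearMap.lTensor_surjective N hp z
  rw [← map_smul] at hz
  obtain ⟨k, hk⟩ := ((lTensor_exact N hex hp) _).mp hz
  let q : N →ₗ[A] N ⧸ J • (⊤ : Submodule A N) := (J • (⊤ : Submodule A N)).mkQ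
  have h3 : q.rTensor K k = 0 := by
    apply hQ
    have hcm : ∀ w : N ⊗[A] K, i.lTensor _ (q.rTensor K w) = q.rTensor F (i.lTensor N w) := fun w => by
      induction w using TensorProduct.induction_on with
      | zero => simp
      | add a b ha hb => simp only [map_add, ha, hb]
      | tmul a m => rfl
    rw [map_zero, hcm]
    have : (q.rTensor F) ((i.lTensor N) k) = 0 := by
      rw [hk, map_smul]
      generalize (q.rTensor F) f = w
      induction w using TensorProduct.induction_on with
      | zero => simp
      | add a b ha hb => rw [smul_add, ha, hb, add_zero]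
      | tmul n f =>
        obtain ⟨n, rfl⟩ := Submodule.Quotient.mk_surjective _ n
        rw [TensorProduct.smul_tmul', ← Submodule.Quotient.mk_smul,
          (Submodule.Quotient.mk_eq_zero _).mpr (Submodule.smul_mem_smul (Ideal.mem_span_singleton_self ϖ) (Submodule.mem_top (x := n))),
          TensorProduct.zero_tmul]
    exact this
  have hexq : Function.Exact (LinearMap.lsmul A N ϖ) q := by
    intro n
    rw [Submodule.mkQ_apply, Submodule.Quotient.mk_eq_zero]
    exact ⟨fun h => by
      rw [Submodule.ideal_span_singleton_smul, Submodule.mem_smul_pointwise_iff_exists] at h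
      obtain ⟨m, -, hm⟩ := h
      exact ⟨m, hm⟩, fun ⟨m, hm⟩ => hm ▸ Submodule.smul_mem_smul (Ideal.mem_span_singleton_self ϖ) trivial⟩
  obtain ⟨k', hk'⟩ := ((rTensor_exact K hexq (Submodule.mkQ_surjective _)) k).mp h3
  have h4 : ϖ • i.lTensor N k' = ϖ • f := by
    rw [← hk, ← hk', ← map_smul]
    congr 1
  rw [← hF h4]
  exact (lTensor_exact N hex hp).apply_apply_eq_zero k'

theorem regular_tensor (ϖ : A) (hϖ : IsSMulRegular M ϖ)
    [Module.Flat (A ⧸ Ideal.span {ϖ}) (M ⧸ (Ideal.span {ϖ} • (⊤ : Submodule A M)))]
    {N : Type u} [AddCommGroup N] [Module A N] (hN : IsSMulRegular N ϖ) :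
    IsSMulRegular (N ⊗[A] M) ϖ :=
  let p : (M →₀ A) →ₗ[A] M := Finsupp.linearCombination A id
  regular_tensor_aux (K := LinearMap.ker p) (F := M →₀ A) ϖ hϖ hN (LinearMap.ker p).subtype p Subtype.val_injective
    (Finsupp.linearCombination_surjective A Function.surjective_id) (LinearMap.exact_subtype_ker_map p)

theorem flat_of_flat_mod_and_away (ϖ : A) (hA : IsSMulRegular A ϖ) (hM : IsSMulRegular M ϖ)
    [Module.Flat (A ⧸ Ideal.span {ϖ}) (M ⧸ (Ideal.span {ϖ} • (⊤ : Submodule A M)))]
    [Module.Flat (Localization.Away ϖ) (LocalizedModule (Submonoid.powers ϖ) M)] :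
    Module.Flat A M := by
  rw [Module.Flat.iff_rTensor_injective']
  intro I
  let S := Submonoid.powers ϖ
  haveI : Module.Flat A (Localization.Away ϖ) := IsLocalization.flat _ S
  haveI : Module.Flat A (LocalizedModule S M) := Module.Flat.trans A (Localization.Away ϖ) _
  let g := LocalizedModule.mkLinearMap S M
  rw [← LinearMap.ker_eq_bot, LinearMap.ker_eq_bot']
  intro z hz
  have h1 : g.lTensor I z = 0 := by
    refine Module.Flat.rTensor_preserves_injective_linearMap (M := LocalizedModule S M) I.subtype I.injective_subtype ?_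
    have hw : ∀ w : I ⊗[A] M, I.subtype.rTensor (LocalizedModule S M) (g.lTensor I w) =
        g.lTensor A (I.subtype.rTensor M w) := fun w => by
      induction w using TensorProduct.induction_on with
      | zero => simp
      | add a b ha hb => simp only [map_add, ha, hb]
      | tmul a m => rfl
    rw [map_zero, hw, hz, map_zero]
  let c := TensorProduct.comm A I M
  let c' := TensorProduct.comm A I (LocalizedModule S M)
  have h2 : AlgebraTensorModule.rTensor A I g (c z) = 0 := by
    have : ∀ w : I ⊗[A] M, AlgebraTensorModule.rTensor A I g (c w) = c' (g.lTensor I w) := fun w => by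
      induction w using TensorProduct.induction_on with
      | zero => simp
      | add a b ha hb => simp only [map_add, ha, hb]
      | tmul a m => rfl
    rw [this, h1, map_zero]
  obtain ⟨⟨s, n, rfl⟩, hs⟩ := (IsLocalizedModule.eq_zero_iff S (AlgebraTensorModule.rTensor A I g)).mp h2
  have hI : IsSMulRegular I ϖ := fun a b h => Subtype.ext (hA (congrArg Subtype.val h))
  have h3 : IsSMulRegular (I ⊗[A] M) (ϖ ^ n) := (regular_tensor ϖ hM hI).pow n
  apply h3.right_eq_zero_of_smul
  apply c.injective
  rw [map_smul, map_zero]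
  exact hs

end Core

/-- Let R be a discrete valuation ring with uniformizer π, A a flat commutative R-algebra and M an
A-module which is flat over R. Suppose that M/πM is a flat module over A/πA and that M ⊗_R K is a
flat module over A ⊗_R K, K the fraction field of R (equivalently, M[1/π] is flat over A[1/π], the
form used here). Then M is a flat A-module. -/
theorem result (R : Type u) [CommRing R] [IsDomain R] [IsDiscreteValuationRing R]
    (π : R) (hπ : Irreducible π) (A : Type u) [CommRing A] [Algebra R A] [Module.Flat R A]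
    (M : Type u) [AddCommGroup M] [Module A M] [Module R M] [IsScalarTower R A M] [Module.Flat R M]
    (h1 : Module.Flat (A ⧸ Ideal.span {algebraMap R A π}) (M ⧸ (Ideal.span {algebraMap R A π} • (⊤ : Submodule A M))))
    (h2 : Module.Flat (Localization.Away (algebraMap R A π)) (LocalizedModule (Submonoid.powers (algebraMap R A π)) M)) :
    Module.Flat A M := by
  haveI := h1
  haveI := h2
  have key : ∀ (N : Type u) [AddCommGroup N] [Module A N] [Module R N] [IsScalarTower R A N] [Module.Flat R N],
      IsSMulRegular N (algebraMap R A π) := by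
    intro N _ _ _ _ _ a b hab
    have hπ0 : IsSMulRegular R π := fun x y h => mul_left_cancel₀ hπ.ne_zero h
    have h := Module.Flat.lTensor_preserves_injective_linearMap (M := N) (LinearMap.lsmul R R π) hπ0
    have h' : Function.Injective (fun x : N => π • x) := by
      intro x y hxy
      have hx : ∀ w : N, (LinearMap.lsmul R R π).lTensor N (w ⊗ₜ[R] 1) = (π • w) ⊗ₜ[R] (1 : R) := fun w => by
        rw [LinearMap.lTensor_tmul, LinearMap.lsmul_apply, TensorProduct.tmul_smul, TensorProduct.smul_tmul']
      have := h ((hx x).trans ((congrArg (fun w => w ⊗ₜ[R] (1 : R)) hxy).trans (hx y).symm))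
      simpa using congrArg (TensorProduct.rid R N) this
    exact h' (by simpa [algebraMap_smul] using hab)
  exact flat_of_flat_mod_and_away (algebraMap R A π) (key A) (key M)

end Groth.Agent.S5380
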