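import Groth.Statements.S5381
import Mathlib.RingTheory.Flat.TorsionFree
import Mathlib.AlgebraicGeometry.Morphisms.Flat
-- import your own Groth.Agent.* helpers here

set_option autoImplicit false
set_option backward.isDefEq.respectTransparency.types false
set_option linter.style.haveILetI false
universe u
open CategoryTheory CategoryTheory.Limits MonoidalCategory CartesianMonoidalCategory MonObj GrpObj AlgebraicGeometry
open SGA3

namespace Groth.Agent.S5381

/-- For S the spectrum of a Dedekind domain R: let X be a scheme which is flat, quasi-compact and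
quasi-separated over R. Then the ring of global sections Γ(X, O_X) is a flat R-module. (The
published remark takes S locally noetherian and regular of dimension 1 and also observes, when S is
local with closed point s and uniformizer π, that Γ(X, O_X)/πΓ(X, O_X) → Γ(X_s, O_{X_s}) is
injective; this row takes S the spectrum of a Dedekind domain and omits the injectivity.) -/
theorem result (R : Type u) [CommRing R] [IsDedekindDomain R]
    (X : Scheme.{u}) (f : X ⟶ Spec (CommRingCat.of R)) [Flat f] [QuasiCompact f] [QuasiSeparated f] :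
    letI := ((Scheme.ΓSpecIso (CommRingCat.of R)).inv ≫ f.appTop).hom.toAlgebra
    Module.Flat R Γ(X, ⊤) := by
  let ρ : R →+* Γ(X, ⊤) := ((Scheme.ΓSpecIso (CommRingCat.of R)).inv ≫ f.appTop).hom
  letI := ρ.toAlgebra
  rw [IsDedekindDomain.flat_iff_torsion_eq_bot, eq_bot_iff]
  rintro x ⟨r, hr⟩
  rw [Submodule.mem_bot]
  have hx : ρ r * x = 0 := hr
  refine X.IsSheaf.section_ext fun z _ => ?_
  obtain ⟨_, ⟨U, hU, rfl⟩, hzU, -⟩ := X.isBasis_affineOpens.exists_subset_of_mem_open (Set.mem_univ z) isOpen_univ
  refine ⟨U, le_top, hzU, ?_⟩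
  rw [map_zero]
  let res : Γ(X, ⊤) →+* Γ(X, U) := (X.presheaf.map (homOfLE (le_top : U ≤ ⊤)).op).hom
  have hflat : (res.comp ρ).Flat := by
    have h1 : (f.appLE ⊤ U le_top).hom.Flat :=
      HasRingHomProperty.appLE (P := @Flat) f ‹Flat f› ⟨⊤, isAffineOpen_top _⟩ ⟨U, hU⟩ le_top
    have h2 : ((Scheme.ΓSpecIso (CommRingCat.of R)).inv).hom.Flat :=
      RingHom.Flat.of_bijective (ConcreteCategory.bijective_of_isIso _)
    exact h2.comp h1
  letI := (res.comp ρ).toAlgebra
  haveI : Module.Flat R Γ(X, U) := hflat
  have h := congrArg res hx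
  rw [map_mul, map_zero] at h
  by_contra hne
  have hr0 : IsSMulRegular R (r : R) := (IsRegular.of_ne_zero (nonZeroDivisors.coe_ne_zero r)).left
  have h2 : IsSMulRegular Γ(X, U) (r : R) := hr0.of_flat
  exact hne (h2 (show (r : R) • res x = (r : R) • 0 by rw [smul_zero]; exact h))

end Groth.Agent.S5381
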