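import Groth.Statements.S5385
import Groth.Agent.S0376
import Groth.Agent.S0377
import Groth.Agent.S0372
import Groth.Agent.L29.Dual.SchLocus

set_option autoImplicit false
universe u
open CategoryTheory CategoryTheory.Limits MonoidalCategory CartesianMonoidalCategory MonObj GrpObj AlgebraicGeometry
open SGA3

namespace Groth.Agent.S5385

/-- Let A be an artinian ring and X a nonempty scheme locally of finite type over A. Then X has a closed
point whose local ring is Cohen–Macaulay. -/
theorem result (A : Type u) [CommRing A] [IsArtinianRing A] (X : Scheme.{u})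
    (f : X ⟶ Spec (CommRingCat.of A)) [LocallyOfFiniteType f] [Nonempty X] :
    ∃ x : X, IsClosed ({x} : Set X) ∧ LocCoh.IsCohenMacaulayLocalRing (X.presheaf.stalk x) := by
  obtain ⟨x⟩ := ‹Nonempty X›
  haveI : JacobsonSpace X := LocallyOfFiniteType.jacobsonSpace f
  obtain ⟨_, ⟨U₀, hU, rfl⟩, hxU, -⟩ := X.isBasis_affineOpens.exists_subset_of_mem_open (Set.mem_univ x) isOpen_univ
  let U : X.Opens := U₀
  let g : U.toScheme ⟶ Spec (CommRingCat.of A) := U.ι ≫ f
  haveI : IsAffine U.toScheme := hU
  let B := Γ(U.toScheme, ⊤)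
  let φ : A →+* B := ((Scheme.ΓSpecIso (CommRingCat.of A)).inv ≫ g.appTop).hom
  have hφ : φ.FiniteType := by
    have h : RingHom.FiniteType g.appTop.hom := (HasRingHomProperty.iff_of_isAffine (P := @LocallyOfFiniteType)).1 inferInstance
    exact h.comp (RingHom.FiniteType.of_surjective _ (ConcreteCategory.bijective_of_isIso (Scheme.ΓSpecIso (CommRingCat.of A)).inv).2)
  algebraize [φ]
  haveI : Algebra.FiniteType A B := hφ
  haveI : IsNoetherianRing B := Algebra.FiniteType.isNoetherianRing A B
  let q : PrimeSpectrum B := U.toScheme.isoSpec.hom ⟨x, hxU⟩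
  let p : PrimeSpectrum A := PrimeSpectrum.comap (algebraMap A B) q
  haveI : DiscreteTopology (PrimeSpectrum A) := inferInstance
  obtain ⟨_, ⟨e, rfl⟩, hpe, he⟩ := PrimeSpectrum.isTopologicalBasis_basic_opens.exists_subset_of_mem_open
    (Set.mem_singleton p) (isOpen_discrete {p})
  let C := Localization.Away (algebraMap A B e)
  let Ap := Localization.AtPrime p.asIdeal
  have hunit : ∀ s : p.asIdeal.primeCompl, IsUnit (algebraMap A C s) := fun s => by
    have hle : PrimeSpectrum.basicOpen e ≤ PrimeSpectrum.basicOpen (s : A) := fun y hy => by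
      rw [show y = p from he hy]; exact s.2
    obtain ⟨n, hn⟩ := PrimeSpectrum.basicOpen_le_basicOpen_iff _ _ |>.1 hle
    obtain ⟨c, hc⟩ := Ideal.mem_span_singleton'.1 hn
    have hu : IsUnit (algebraMap A C (e ^ n)) := by
      rw [map_pow, IsScalarTower.algebraMap_apply A B C]
      exact (IsLocalization.map_units C (⟨_, Submonoid.mem_powers _⟩ : Submonoid.powers (algebraMap A B e))).pow n
    rw [← hc, map_mul] at hu
    exact isUnit_of_mul_isUnit_right hu
  letI : Algebra Ap C := (IsLocalization.lift hunit).toAlgebra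
  haveI : IsScalarTower A Ap C := IsScalarTower.of_algebraMap_eq fun a => (IsLocalization.lift_eq hunit a).symm
  haveI : Algebra.EssFiniteType A C := Algebra.EssFiniteType.comp A B C
  haveI : Algebra.EssFiniteType Ap C := Algebra.EssFiniteType.of_comp A Ap C
  haveI : IsArtinianRing Ap := inferInstance
  haveI : IsNoetherianRing C := IsLocalization.isNoetherianRing (Submonoid.powers (algebraMap A B e)) C inferInstance
  obtain ⟨N, hN⟩ : IsNilpotent (IsLocalRing.maximalIdeal Ap) := by
    rw [← IsLocalRing.jacobson_eq_maximalIdeal ⊥ bot_ne_top]; exact IsArtinianRing.isNilpotent_jacobson_bot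
  have hbot : ∀ m, N ≤ m → (IsLocalRing.maximalIdeal Ap ^ m • ⊤ : Submodule Ap Ap) = ⊥ := fun m hm => by
    rw [eq_bot_iff]
    refine (Submodule.smul_mono_left (Ideal.pow_le_pow_right hm)).trans ?_
    rw [hN]; simp
  haveI : IsAdicComplete (IsLocalRing.maximalIdeal Ap) Ap :=
    { haus' := fun y hy => by have := hy N; rwa [hbot N le_rfl, SModEq.bot] at this
      prec' := fun F hF => ⟨F N, fun i => by
        rcases le_total i N with h | h
        · exact hF h
        · have := hF h
          rw [hbot N le_rfl, SModEq.bot] at this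
          rw [this]
          exact SModEq.rfl⟩ }
  obtain ⟨ω, hω⟩ := Groth.Agent.S0376.result Ap
  obtain ⟨ω', hω'⟩ := Groth.Agent.S0377.result Ap ω hω C
  obtain ⟨ho, hd⟩ := Groth.Agent.S0372.result C ω' hω'
  let j : Spec (CommRingCat.of C) ⟶ X :=
    Spec.map (CommRingCat.ofHom (algebraMap B C)) ≫ U.toScheme.isoSpec.inv ≫ U.ι
  haveI : IsOpenImmersion (Spec.map (CommRingCat.ofHom (algebraMap B C))) :=
    IsOpenImmersion.of_isLocalization (algebraMap A B e)
  haveI : Nonempty (PrimeSpectrum C) := by
    have : q ∈ Set.range (PrimeSpectrum.comap (algebraMap B C)) := by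
      rw [PrimeSpectrum.localization_away_comap_range C (algebraMap A B e)]
      exact hpe
    obtain ⟨r, -⟩ := this
    exact ⟨r⟩
  obtain ⟨_, ⟨c, hc, rfl⟩, hyc⟩ := nonempty_inter_closedPoints
    (Set.Nonempty.image j (hd.nonempty : Set.Nonempty _)) (j.isOpenEmbedding.isOpenMap _ ho).isLocallyClosed
  exact ⟨j c, hyc, (Groth.L29.SchLocus.cm_stalk_iff j c).2 hc⟩

end Groth.Agent.S5385
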