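import Groth.Statements.S5387
import Groth.Agent.L25.Translate

set_option autoImplicit false
universe u
open CategoryTheory CategoryTheory.Limits MonoidalCategory CartesianMonoidalCategory MonObj GrpObj AlgebraicGeometry
open SGA3

namespace Groth.Agent.S5387

open CategoryTheory.Limits in
theorem stalk_iso_of_iso {X : Scheme.{u}} (φ : X ⟶ X) [IsIso φ] {a x : X} (h : φ a = x) :
    Nonempty (X.presheaf.stalk a ≅ X.presheaf.stalk x) := by
  subst h
  exact ⟨(asIso (φ.stalkMap a)).symm⟩


/-- Let k be an algebraically closed field, G a group scheme locally of finite type over k and x a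
closed point of G. Then the local ring of G at x is isomorphic to the local ring of G at the unit
point (an isomorphism is induced by a translation; this row asserts the existence of an isomorphism
of rings). -/
theorem result (k : Type u) [Field k] [IsAlgClosed k] (G : Over (Spec (CommRingCat.of k))) [GrpObj G]
    [LocallyOfFiniteType G.hom] (pt : ↥(𝟙_ (Over (Spec (CommRingCat.of k)))).left) (x : G.left) (hx : IsClosed ({x} : Set G.left)) :
    Nonempty (G.left.presheaf.stalk (η[G].left.base pt) ≅ G.left.presheaf.stalk x) := by
  let q : 𝟙_ (Over (Spec (CommRingCat.of k))) ⟶ G :=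
    Over.homMk _ ((pointEquivClosedPoint G.hom).symm ⟨x, hx⟩).2
  have hpt : pt = IsLocalRing.closedPoint k := Subsingleton.elim (α := PrimeSpectrum k) _ _
  have hq : q.left (IsLocalRing.closedPoint k) = x :=
    congrArg Subtype.val ((pointEquivClosedPoint G.hom).apply_symm_apply ⟨x, hx⟩)
  have e : η[G] ≫ (GrpObj.mulRight q).hom = q := by
    simp only [GrpObj.mulRight_hom, comp_lift_assoc, Category.comp_id]
    rw [← Category.assoc η[G] (toUnit G) q, toUnit_unique (η[G] ≫ toUnit G) (𝟙 _), Category.id_comp]
    rw [← Category.id_comp η[G]]
    exact lift_comp_one_left _ q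
  haveI : IsIso (GrpObj.mulRight q).hom.left :=
    inferInstanceAs (IsIso ((Over.forget _).map (GrpObj.mulRight q).hom))
  exact stalk_iso_of_iso (GrpObj.mulRight q).hom.left
    (by rw [hpt]; exact (congr(($e).left (IsLocalRing.closedPoint k))).trans hq)
end Groth.Agent.S5387
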