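import Groth.Statements.S5390
import Mathlib.AlgebraicGeometry.Morphisms.FlatDescent

set_option autoImplicit false
universe u
open CategoryTheory CategoryTheory.Limits MonoidalCategory CartesianMonoidalCategory MonObj GrpObj AlgebraicGeometry
open SGA3

namespace Groth.Agent.S5390

lemma restrict_square {X X' Y Y' : Scheme.{u}} {f : X ⟶ Y} {g : Y' ⟶ Y} {p : X' ⟶ X} {f' : X' ⟶ Y'}
    (h : IsPullback p f' f g) (U : Y.Opens) (V : Y'.Opens) (e : V ≤ g ⁻¹ᵁ U) :
    ∃ l : (f' ⁻¹ᵁ V).toScheme ⟶ (f ⁻¹ᵁ U).toScheme,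
      IsPullback l (f' ∣_ V) (f ∣_ U) (g.resLE U V e) := by
  have h1 := (isPullback_morphismRestrict f' V).flip.paste_horiz h
  rw [← Scheme.Hom.resLE_comp_ι g e] at h1
  exact ⟨_, IsPullback.of_right' h1 (isPullback_morphismRestrict f U).flip⟩

lemma of_le {P : MorphismProperty Scheme.{u}} [P.IsStableUnderBaseChange] {X Y : Scheme.{u}}
    (f : X ⟶ Y) {V U : Y.Opens} (h : V ≤ U) (hU : P (f ∣_ U)) : P (f ∣_ V) := by
  have hsq : IsPullback (𝟙 X) f f (𝟙 Y) := IsPullback.of_horiz_isIso ⟨by simp⟩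
  obtain ⟨l, hl⟩ := restrict_square hsq U V (by simpa using h)
  exact P.of_isPullback hl hU

/-- Let P be a property of morphisms of schemes which is local on the target for the fpqc topology
(stable under base change, Zariski-local on the target, descending along flat surjective
quasi-compact morphisms). Let f : X → Y be a morphism, g : Y' → Y a flat morphism whose underlying
map is open, and f' : X ×_Y Y' → Y' the base change. If W is the largest open of Y over which f has
P and W₁' the largest open of Y' over which f' has P, then W₁' = g⁻¹(W). -/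
theorem result (P : MorphismProperty Scheme.{u}) [P.IsStableUnderBaseChange] [IsZariskiLocalAtTarget P]
    [P.DescendsAlong (@Flat ⊓ @Surjective ⊓ @QuasiCompact)]
    (X Y Y' : Scheme.{u}) (f : X ⟶ Y) (g : Y' ⟶ Y) [Flat g] (hg : IsOpenMap g.base)
    (W : Y.Opens) (hW : P (f ∣_ W)) (hmax : ∀ W₀ : Y.Opens, P (f ∣_ W₀) → W₀ ≤ W)
    (W₁ : Y'.Opens) (hW₁ : P (pullback.snd f g ∣_ W₁)) (hmax₁ : ∀ W₀ : Y'.Opens, P (pullback.snd f g ∣_ W₀) → W₀ ≤ W₁) :
    W₁ = g ⁻¹ᵁ W := by
  apply le_antisymm
  · let V : Y.Opens := ⟨g.base '' (W₁ : Set Y'), hg _ W₁.2⟩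
    have hV : P (f ∣_ V) := by
      refine IsZariskiLocalAtTarget.of_iSup_eq_top
        (fun A : {A : Y.affineOpens // A.1 ≤ V} => V.ι ⁻¹ᵁ A.1.1) ?_ fun A => ?_
      · rw [eq_top_iff]
        rintro ⟨x, hx⟩ -
        obtain ⟨_, ⟨A, hA, rfl⟩, hxA, hAV⟩ :=
          Y.isBasis_affineOpens.exists_subset_of_mem_open hx V.2
        exact TopologicalSpace.Opens.mem_iSup.2 ⟨⟨⟨A, hA⟩, hAV⟩, hxA⟩
      · have hA : P (f ∣_ A.1.1) := by
          obtain ⟨⟨A, hA⟩, hAV⟩ := A
          change P (f ∣_ A)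
          let S := {B : Y'.Opens // IsAffineOpen B ∧ B ≤ g ⁻¹ᵁ A ⊓ W₁}
          have hcov : (A : Set Y) ⊆ ⋃ B : S, g.base '' (B.1 : Set Y') := by
            intro y hy
            obtain ⟨y', hy', rfl⟩ := hAV hy
            obtain ⟨_, ⟨B, hB, rfl⟩, hy'B, hBs⟩ := Y'.isBasis_affineOpens.exists_subset_of_mem_open
              (show y' ∈ ((g ⁻¹ᵁ A ⊓ W₁ : Y'.Opens) : Set Y') from ⟨hy, hy'⟩)
              (g ⁻¹ᵁ A ⊓ W₁).2
            exact Set.mem_iUnion.2 ⟨⟨B, hB, hBs⟩, y', hy'B, rfl⟩
          obtain ⟨s, hs⟩ := hA.isCompact.elim_finite_subcover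
            (fun B : S => g.base '' (B.1 : Set Y')) (fun B => hg _ B.1.2) hcov
          let Q : Y'.Opens := s.sup (fun B => B.1)
          have hQle : Q ≤ g ⁻¹ᵁ A ⊓ W₁ := Finset.sup_le fun B _ => B.2.2
          have hQc : IsCompact (Q : Set Y') := by
            simp only [Q, TopologicalSpace.Opens.coe_finset_sup, Finset.sup_set_eq_biUnion, Function.comp_apply]
            exact s.isCompact_biUnion fun B _ => B.2.1.isCompact
          let q := g.resLE A Q (hQle.trans inf_le_left)
          have : CompactSpace Q := isCompact_iff_compactSpace.mp hQc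
          have : IsAffine A.toScheme := hA
          have : Flat q := by
            have : Flat (q ≫ A.ι) := by rw [Scheme.Hom.resLE_comp_ι]; infer_instance
            exact MorphismProperty.of_postcomp (W := @Flat) (W' := @IsOpenImmersion) q A.ι
              inferInstance this
          have : Surjective q := ⟨fun a => by
            obtain ⟨B, hBs, hB⟩ := Set.mem_iUnion₂.1 (hs a.2)
            obtain ⟨y', hy', e⟩ := hB
            have hyQ : y' ∈ Q := (Finset.le_sup (f := fun B : S => B.1) hBs) hy'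
            refine ⟨⟨y', hyQ⟩, Subtype.ext ?_⟩
            change (q ≫ A.ι) ⟨y', hyQ⟩ = a.1
            rw [Scheme.Hom.resLE_comp_ι]
            exact e⟩
          obtain ⟨l, hl⟩ := restrict_square (IsPullback.of_hasPullback f g) A Q
            (hQle.trans inf_le_left)
          exact MorphismProperty.DescendsAlong.of_isPullback (P := P)
            (Q := @Flat ⊓ @Surjective ⊓ @QuasiCompact) hl.flip
            ⟨⟨‹_›, ‹_›⟩, inferInstanceAs (QuasiCompact q)⟩ (of_le _ (hQle.trans inf_le_right) hW₁)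
        obtain ⟨l, hl⟩ := restrict_square (isPullback_morphismRestrict f V).flip A.1.1
          (V.ι ⁻¹ᵁ A.1.1) le_rfl
        exact P.of_isPullback hl hA
    intro y hy
    exact hmax V hV ⟨y, hy, rfl⟩
  · refine hmax₁ _ ?_
    obtain ⟨l, hl⟩ := restrict_square (IsPullback.of_hasPullback f g) W (g ⁻¹ᵁ W) le_rfl
    exact P.of_isPullback hl hW

end Groth.Agent.S5390
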