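import Groth.Statements.S5389
import Groth.Agent.S5390
import Groth.Agent.L25.Actions
-- import your own Groth.Agent.* helpers here

set_option autoImplicit false
universe u
open CategoryTheory CategoryTheory.Limits MonoidalCategory CartesianMonoidalCategory MonObj GrpObj AlgebraicGeometry
open SGA3

namespace Groth.Agent.S5389

/-- Let P be a property of morphisms of schemes which is local on the target for the fpqc topology
(stable under base change, Zariski-local on the target, and descending along flat surjective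
quasi-compact morphisms). Let u : G → H be a homomorphism of S-group schemes with G flat and
universally open over S, W the largest open subscheme of H over which the restriction of u has P,
and V = u⁻¹(W). Then the image U of V in S is open and V is an open subgroup scheme of G over U: V
contains the unit point of every fibre of G that it meets, V is stable under the inversion of G, and
the product of a point of G ×_S G whose two projections lie in V lies in V. -/
theorem result (P : MorphismProperty Scheme.{u}) [P.IsStableUnderBaseChange] [IsZariskiLocalAtTarget P]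
    [P.DescendsAlong (@Flat ⊓ @Surjective ⊓ @QuasiCompact)]
    (S : Scheme.{u}) (G H : Over S) [GrpObj G] [GrpObj H] (u : G ⟶ H) [IsMonHom u] [Flat G.hom] [UniversallyOpen G.hom]
    (W : H.left.Opens) (hW : P (u.left ∣_ W)) (hmax : ∀ W' : H.left.Opens, P (u.left ∣_ W') → W' ≤ W) :
    letI V : G.left.Opens := u.left ⁻¹ᵁ W
    IsOpen (G.hom.base '' (V : Set G.left)) ∧
    (∀ g ∈ V, ∀ p : ↥(𝟙_ (Over S)).left, (𝟙_ (Over S)).hom.base p = G.hom.base g → η[G].left.base p ∈ V) ∧
    (∀ g ∈ V, ι[G].left.base g ∈ V) ∧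
    (∀ z : ↥(G ⊗ G).left, (fst G G).left.base z ∈ V → (snd G G).left.base z ∈ V → μ[G].left.base z ∈ V) := by
  let a : G ⊗ H ⟶ H := (fst G H ≫ u) * snd G H
  have hsq₂ : IsPullback (G ◁ u) (snd G G) (snd G H) u := Groth.L25.GrpBasics.isPullback_whiskerLeft G u
  have hσ : IsIso (CartesianMonoidalCategory.lift (fst G G) (fst G G * snd G G)) := by
    refine ⟨CartesianMonoidalCategory.lift (fst G G) ((fst G G)⁻¹ * snd G G), ?_, ?_⟩
    all_goals
      ext1
      · simp
      · simp [MonObj.comp_mul, GrpObj.comp_inv]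
  let τ : G ⊗ H ≅ G ⊗ H :=
    { hom := CartesianMonoidalCategory.lift (fst G H) a
      inv := CartesianMonoidalCategory.lift (fst G H) ((fst G H ≫ u)⁻¹ * snd G H)
      hom_inv_id := by
        ext1
        · simp
        · simp [a, MonObj.comp_mul, GrpObj.comp_inv, ← Category.assoc, _root_.mul_assoc]
      inv_hom_id := by
        ext1
        · simp
        · simp [a, MonObj.comp_mul, GrpObj.comp_inv, ← Category.assoc, _root_.mul_assoc] }
  have hτ : τ.hom ≫ snd G H = a := lift_snd _ _
  haveI hτi : IsIso τ.hom := τ.isIso_hom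
  have hcomm : (G ◁ u) ≫ τ.hom = CartesianMonoidalCategory.lift (fst G G) (fst G G * snd G G) ≫ (G ◁ u) := by
    ext1
    · simp [τ]
    · simp [τ, a, MonObj.comp_mul, MonObj.mul_comp]
  have hsq₁ : IsPullback (G ◁ u) (μ[G]) a u := by
    haveI := hσ
    have h0 : IsPullback (G ◁ u) (CartesianMonoidalCategory.lift (fst G G) (fst G G * snd G G)) τ.hom (G ◁ u) :=
      IsPullback.of_vert_isIso ⟨hcomm⟩
    have h := h0.paste_vert hsq₂
    rw [lift_snd, hτ] at h
    rwa [show μ[G] = fst G G * snd G G from MonObj.mul_eq_mul G]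
  haveI hsnd : Flat (snd G H).left ∧ UniversallyOpen (snd G H).left :=
    ⟨MorphismProperty.of_isPullback (Groth.L25.Actions.isPullback_snd G H) ‹Flat G.hom›,
      MorphismProperty.of_isPullback (Groth.L25.Actions.isPullback_snd G H) ‹UniversallyOpen G.hom›⟩
  haveI := hsnd.1
  haveI := hsnd.2
  haveI : IsIso τ.hom.left := inferInstanceAs (IsIso ((Over.forget S).map τ.hom))
  haveI : Flat a.left := by rw [← hτ, Over.comp_left]; infer_instance
  haveI : UniversallyOpen a.left := by rw [← hτ, Over.comp_left]; infer_instance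
  -- the largest open over which a base change has P
  let f' := (G ◁ u).left
  let Ws : Set (G ⊗ H).left.Opens := {W₀ | P (f' ∣_ W₀)}
  let M : (G ⊗ H).left.Opens := ⨆ W₀ : Ws, W₀.1
  have hM : P (f' ∣_ M) := by
    refine (IsZariskiLocalAtTarget.iff_of_iSup_eq_top (P := P)
      (fun W₀ : Ws => M.ι ⁻¹ᵁ W₀.1) ?_).2 fun W₀ => ?_
    · exact eq_top_iff.2 fun z _ => by
        obtain ⟨W₀, hW₀⟩ := TopologicalSpace.Opens.mem_iSup.1 z.2
        exact TopologicalSpace.Opens.mem_iSup.2 ⟨W₀, hW₀⟩
    · rw [P.arrow_mk_iso_iff (morphismRestrictRestrict f' M (M.ι ⁻¹ᵁ W₀.1))]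
      rw [show M.ι ''ᵁ (M.ι ⁻¹ᵁ W₀.1) = W₀.1 by
        rw [Scheme.Hom.image_preimage_eq_opensRange_inf, Scheme.Opens.opensRange_ι]
        exact inf_eq_right.2 (le_iSup (fun W₁ : Ws => W₁.1) W₀)]
      exact W₀.2
  have hkey : ∀ (b : G ⊗ H ⟶ H) (c : G ⊗ G ⟶ G), IsPullback (G ◁ u) c b u → Flat b.left → IsOpenMap b.left →
      M = b.left ⁻¹ᵁ W := by
    intro b c hsq hb hbo
    have sq : IsPullback c.left f' u.left b.left := (IsPullback.map (Over.forget S) hsq).flip
    have hiso : ∀ W₀, P (Limits.pullback.snd u.left b.left ∣_ W₀) ↔ P (f' ∣_ W₀) := fun W₀ => by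
      have q₁ := (isPullback_morphismRestrict (Limits.pullback.snd u.left b.left) W₀).flip.paste_horiz
        (IsPullback.of_hasPullback u.left b.left)
      have q₂ := (isPullback_morphismRestrict f' W₀).flip.paste_horiz sq
      rw [← q₁.isoPullback_hom_snd, ← q₂.isoPullback_hom_snd, P.cancel_left_of_respectsIso,
        P.cancel_left_of_respectsIso]
    exact Groth.Agent.S5390.result P G.left H.left (G ⊗ H).left u.left b.left hbo W hW hmax M
      ((hiso M).2 hM) fun W₀ h₀ => le_iSup (fun W₁ : Ws => W₁.1) ⟨W₀, (hiso W₀).1 h₀⟩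
  have e₁ := hkey a μ[G] hsq₁ inferInstance a.left.isOpenMap
  have e₂ := hkey (snd G H) (snd G G) hsq₂ inferInstance (snd G H).left.isOpenMap
  let V : G.left.Opens := u.left ⁻¹ᵁ W
  have main : ∀ z : (G ⊗ G).left, μ[G].left z ∈ V ↔ (snd G G).left z ∈ V := fun z => by
    have h1 : u.left (μ[G].left z) = a.left ((G ◁ u).left z) := by
      rw [← Scheme.Hom.comp_apply, ← Scheme.Hom.comp_apply, ← Over.comp_left, ← Over.comp_left, hsq₁.w]
    have h2 : u.left ((snd G G).left z) = (snd G H).left ((G ◁ u).left z) := by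
      rw [← Scheme.Hom.comp_apply, ← Scheme.Hom.comp_apply, ← Over.comp_left, ← Over.comp_left, hsq₂.w]
    show u.left _ ∈ W ↔ u.left _ ∈ W
    rw [h1, h2]
    exact SetLike.ext_iff.1 (e₁.symm.trans e₂) ((G ◁ u).left z)
  have hunit : ∀ (x : G.left) (p : ↥(𝟙_ (Over S)).left), (𝟙_ (Over S)).hom.base p = G.hom.base x →
      η[G].left p = (toUnit G ≫ η[G]).left x := fun x p hp => by
    rw [Over.comp_left, Scheme.Hom.comp_apply,
      show (toUnit G).left x = p from (congrArg (fun φ : G.left ⟶ S => φ x) (Over.w (toUnit G))).trans hp.symm]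
  refine ⟨G.hom.isOpenMap _ V.2, fun g hg p hp => ?_, fun g hg => ?_, fun z _ h => (main z).2 h⟩
  · let l := CartesianMonoidalCategory.lift ι[G] (𝟙 G)
    have e : l ≫ μ[G] = toUnit G ≫ η[G] := GrpObj.left_inv G
    show η[G].left p ∈ V
    rw [hunit g p hp, ← e, Over.comp_left, Scheme.Hom.comp_apply]
    refine (main _).2 ?_
    rw [show (snd G G).left (l.left g) = g from congr(($(lift_snd ι[G] (𝟙 G))).left g)]
    exact hg
  · let l := CartesianMonoidalCategory.lift (𝟙 G) ι[G]
    have e : l ≫ μ[G] = toUnit G ≫ η[G] := GrpObj.right_inv G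
    rw [← show (snd G G).left (l.left g) = ι[G].left g from congr(($(lift_snd (𝟙 G) ι[G])).left g)]
    refine (main _).1 ?_
    let l' := CartesianMonoidalCategory.lift ι[G] (𝟙 G)
    have e' : l' ≫ μ[G] = toUnit G ≫ η[G] := GrpObj.left_inv G
    rw [← Scheme.Hom.comp_apply, ← Over.comp_left, e, ← e', Over.comp_left, Scheme.Hom.comp_apply]
    refine (main _).2 ?_
    rw [show (snd G G).left (l'.left g) = g from congr(($(lift_snd ι[G] (𝟙 G))).left g)]
    exact hg

end Groth.Agent.S5389
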