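import Groth.Statements.S5391
import Groth.Agent.L25.EGA145.QuasiSection
-- import your own Groth.Agent.* helpers here

set_option autoImplicit false
set_option backward.isDefEq.respectTransparency.types false
set_option backward.isDefEq.respectTransparency false
universe u
open CategoryTheory CategoryTheory.Limits MonoidalCategory CartesianMonoidalCategory MonObj GrpObj AlgebraicGeometry
open SGA3

namespace Groth.Agent.S5391

/-- Let f : X → S be a morphism locally of finite presentation, s a point of S and x a point of the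
fibre X_s = f⁻¹(s) which is closed in it. Suppose f is universally open at the generic point z of
some irreducible component Z of the fibre X_s containing x, with the local dimension of X_s at x
equal to dim Z. Then there are an affine scheme S', an etale morphism w : S' → S, a finite
surjective morphism of finite presentation π : S'' → S', and a morphism h : S'' → X with h f = π w,
such that exactly one point s'' of S'' lies over s, h(s'') = x, and h induces an isomorphism κ(x) ≅
κ(s''). -/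
theorem result (X S : Scheme.{u}) (f : X ⟶ S) [LocallyOfFinitePresentation f]
    (s : S) (x : X) (hxs : f.base x = s) (hx : IsClosed ((Subtype.val : ↥(f.base ⁻¹' {s}) → X) ⁻¹' {x}))
    (Z : Set ↥(f.base ⁻¹' {s})) (hZ : Z ∈ irreducibleComponents ↥(f.base ⁻¹' {s})) (hxZ : x ∈ (Subtype.val '' Z))
    (z : X) (hz : z ∈ Subtype.val '' Z ∧ Subtype.val '' Z ⊆ closure {z}) (hopen : EGA43.IsUnivOpenAt f z)
    (hdim : FlatMor.localDim ↥(f.base ⁻¹' {s}) ⟨x, hxs⟩ = topologicalKrullDim ↥Z) :
    ∃ (S' S'' : Scheme.{u}) (_ : IsAffine S') (w : S' ⟶ S) (π : S'' ⟶ S') (h : S'' ⟶ X),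
      Etale w ∧ IsFinite π ∧ Surjective π ∧ LocallyOfFinitePresentation π ∧ h ≫ f = π ≫ w ∧
      ∃ s'' : S'', (π ≫ w).base ⁻¹' {s} = {s''} ∧ h.base s'' = x ∧ IsIso (h.residueFieldMap s'') := by
  subst hxs
  have hfz : f z = f x := by
    obtain ⟨w, -, hw⟩ := hz.1
    exact hw ▸ w.2
  have hcl : ∀ x' : X, f x' = f x → x ⤳ x' → x' = x := fun x' hx' hsp =>
    by
      have h1 : (⟨x, rfl⟩ : ↥(f.base ⁻¹' {f.base x})) ⤳ ⟨x', hx'⟩ :=
        (Topology.IsInducing.subtypeVal.specializes_iff).1 hsp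
      exact h1.mem_closed hx (show (⟨x, rfl⟩ : ↥(f.base ⁻¹' {f.base x})).1 ∈ ({x} : Set X) from rfl)
  -- the dimension
  let k : Type u := S.residueField (f z)
  letI : (f.fiber (f z)).Over (Spec (CommRingCat.of k)) := ⟨f.fiberToSpecResidueField (f z)⟩
  haveI : LocallyOfFiniteType (f.fiber (f z) ↘ Spec (CommRingCat.of k)) :=
    MorphismProperty.pullback_snd _ _ inferInstance
  letI : ∀ b, Algebra k ((f.fiber (f z)).residueField b) := fun b => Curv2.resAlgebra k _ b
  obtain ⟨n, hn, -⟩ := Groth.L22.SchemeDim.exists_dim_closure_eq_trdeg k (f.fiber (f z)) (f.asFiber z)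
  have hn' : Groth.L07.Equidim.fdim f z = (n : WithBot ℕ∞) := by
    rw [← hn, ← Groth.L07.Equidim.fdim_fiberι, f.fiberι_asFiber]
  have hZn : topologicalKrullDim ↥Z ≤ (n : WithBot ℕ∞) := by
    rw [← hn', ← Groth.L22.SchemeDim.topologicalKrullDim_eq_of_isEmbedding
      (Topology.IsEmbedding.subtypeVal.comp Topology.IsEmbedding.subtypeVal)
      (show Set.range (Subtype.val ∘ (Subtype.val : Z → _)) = Subtype.val '' Z by
        rw [Set.range_comp, Subtype.range_coe])]
    refine Groth.L22.SchemeDim.topologicalKrullDim_mono fun t ht => ⟨hz.2 ht, ?_⟩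
    obtain ⟨w, -, rfl⟩ := ht
    show f w.1 = f z
    rw [hfz]
    exact w.2
  haveI : Nonempty {U : TopologicalSpace.Opens ↥(f.base ⁻¹' {f.base x}) // ⟨x, rfl⟩ ∈ U} := ⟨⟨⊤, trivial⟩⟩
  obtain ⟨⟨U', hxU'⟩, hU'⟩ := ciInf_mem (fun U : {U : TopologicalSpace.Opens ↥(f.base ⁻¹' {f.base x}) //
    ⟨x, rfl⟩ ∈ U} => topologicalKrullDim ((U.1 : Set ↥(f.base ⁻¹' {f.base x})) : Set _))
  obtain ⟨U0, hU0, hU0e⟩ := Topology.IsInducing.subtypeVal.isOpen_iff.mp U'.2
  refine Groth.L25.EGA145.exists_quasiSection f x z (specializes_iff_mem_closure.2 (hz.2 hxZ)) hfz hcl hopen n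
    hn'.ge ⟨U0, hU0⟩ (show (⟨x, rfl⟩ : ↥(f.base ⁻¹' {f.base x})) ∈ Subtype.val ⁻¹' U0 from hU0e ▸ hxU') ?_
  have key : topologicalKrullDim ((U' : Set ↥(f.base ⁻¹' {f.base x})) : Set _) =
      topologicalKrullDim ((U0 ∩ f ⁻¹' {f x} : Set X) : Set X) :=
    (Groth.L22.SchemeDim.topologicalKrullDim_eq_of_isEmbedding
      (Topology.IsEmbedding.subtypeVal.comp Topology.IsEmbedding.subtypeVal)
      (by rw [Set.range_comp, Subtype.range_coe, show (U' : Set ↥(f.base ⁻¹' {f.base x})) = Subtype.val ⁻¹' U0 from hU0e.symm, Subtype.image_preimage_val, Set.inter_comm])).symm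
  exact key.symm.trans_le ((hU'.trans_le hdim.le).trans hZn)

end Groth.Agent.S5391
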