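import Groth.Prelude.Def_SGA3x
import Groth.Prelude.Def_Red
import Groth.Prelude.Def_AlgGrp
import Groth.Prelude.Def_EGA43
import Groth.Prelude.Def_Flat
import Groth.Prelude.Def_ProCons
import Mathlib.AlgebraicGeometry.Morphisms.Flat
import Mathlib.AlgebraicGeometry.Morphisms.Smooth
import Mathlib.AlgebraicGeometry.Morphisms.Etale
import Mathlib.AlgebraicGeometry.Morphisms.ClosedImmersion
import Mathlib.AlgebraicGeometry.Morphisms.Separated
import Mathlib.AlgebraicGeometry.Morphisms.FinitePresentation
import Mathlib.AlgebraicGeometry.Morphisms.FiniteType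
import Mathlib.AlgebraicGeometry.Morphisms.QuasiCompact
import Mathlib.AlgebraicGeometry.Morphisms.QuasiFinite
import Mathlib.AlgebraicGeometry.Morphisms.FormallyUnramified
import Mathlib.AlgebraicGeometry.Morphisms.UniversallyOpen
import Mathlib.AlgebraicGeometry.Morphisms.UniversallyInjective
import Mathlib.AlgebraicGeometry.Morphisms.Integral
import Mathlib.AlgebraicGeometry.Fiber
import Mathlib.CategoryTheory.Limits.Shapes.Pullback.IsPullback.Defs
import Mathlib.Topology.KrullDimension
import Mathlib.Topology.Constructible
import Mathlib.Topology.LocallyConstant.Basic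
import Mathlib.Topology.Connected.Basic
import Mathlib.Topology.Semicontinuity.Defs
import Mathlib.RingTheory.Flat.Basic
import Groth.Agent.L02.SchDom.MonoApps

set_option autoImplicit false
namespace SGA3
end SGA3
universe u
open CategoryTheory CategoryTheory.Limits MonoidalCategory CartesianMonoidalCategory MonObj GrpObj AlgebraicGeometry
open SGA3

namespace Groth.Agent.S5392

/-- Let X be an S-group scheme which is smooth and of finite presentation over S with connected fibres,
Y an S-group scheme of finite presentation over S and i : Y → X a homomorphism which is a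
monomorphism. Then there is a closed immersion t : T → S, locally of finite presentation, such that
a morphism g : S' → S factors through t exactly when the base change of i along g is an isomorphism. -/
theorem result (S : Scheme.{u}) (X Y : Over S) [GrpObj X] [GrpObj Y]
    [Smooth X.hom] [QuasiCompact X.hom] [QuasiSeparated X.hom]
    (hconn : ∀ s : S, _root_.IsConnected (X.hom.base ⁻¹' {s}))
    [LocallyOfFinitePresentation Y.hom] [QuasiCompact Y.hom] [QuasiSeparated Y.hom]
    (i : Y ⟶ X) [IsMonHom i] [Mono i] :
    ∃ (T : Scheme.{u}) (t : T ⟶ S), IsClosedImmersion t ∧ LocallyOfFinitePresentation t ∧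
      ∀ (S' : Scheme.{u}) (g : S' ⟶ S),
        (∃ g' : S' ⟶ T, g' ≫ t = g) ↔ IsIso ((Over.pullback g).map i) := by
  haveI : Mono i.left := inferInstanceAs (Mono ((Over.forget S).map i))
  haveI : LocallyOfFinitePresentation i.left := by
    haveI : LocallyOfFinitePresentation (i.left ≫ X.hom) := by rw [Over.w i]; infer_instance
    exact Groth.L20.locallyOfFinitePresentation_of_comp i.left X.hom
  obtain ⟨T, t, ht, hl, hT⟩ := Groth.L02.SchDom.exists_subgroupLocus (Groth.L02.SchDom.irrFib_of_group X
    fun s => Groth.L02.SchDom.connectedSpace_fiber_of_isConnected X.hom s (hconn s)) i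
  refine ⟨T, t, ht, hl, fun S' g => (hT S' g).trans ?_⟩
  constructor
  · rintro ⟨l, hl⟩
    have hlY : l ≫ Y.hom = Limits.pullback.snd X.hom g ≫ g := by
      rw [← Over.w i, reassoc_of% hl, Limits.pullback.condition]
    let r : (Over.pullback g).obj X ⟶ (Over.pullback g).obj Y :=
      Over.homMk (Limits.pullback.lift l (Limits.pullback.snd X.hom g) hlY) (Limits.pullback.lift_snd _ _ _)
    haveI : IsSplitEpi ((Over.pullback g).map i) := ⟨⟨r, by
      apply Over.OverMorphism.ext
      apply Limits.pullback.hom_ext
      · have e : ((Over.pullback g).map i).left ≫ Limits.pullback.fst X.hom g =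
            Limits.pullback.fst Y.hom g ≫ i.left := Limits.pullback.lift_fst _ _ _
        show (Limits.pullback.lift l _ hlY ≫ ((Over.pullback g).map i).left) ≫ Limits.pullback.fst X.hom g =
          𝟙 _ ≫ Limits.pullback.fst X.hom g
        rw [Category.assoc, e, Limits.pullback.lift_fst_assoc, hl, Category.id_comp]
      · have e : ((Over.pullback g).map i).left ≫ Limits.pullback.snd X.hom g = Limits.pullback.snd Y.hom g :=
          Limits.pullback.lift_snd _ _ _
        show (Limits.pullback.lift l _ hlY ≫ ((Over.pullback g).map i).left) ≫ Limits.pullback.snd X.hom g =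
          𝟙 _ ≫ Limits.pullback.snd X.hom g
        rw [Category.assoc, e, Limits.pullback.lift_snd, Category.id_comp]⟩⟩
    exact isIso_of_mono_of_isSplitEpi _
  · intro h
    refine ⟨(inv ((Over.pullback g).map i)).left ≫ Limits.pullback.fst Y.hom g, ?_⟩
    have e : ((Over.pullback g).map i).left ≫ Limits.pullback.fst X.hom g =
        Limits.pullback.fst Y.hom g ≫ i.left := Limits.pullback.lift_fst _ _ _
    rw [Category.assoc, ← e, ← Category.assoc, ← Over.comp_left, IsIso.inv_hom_id]
    exact Category.id_comp _

end Groth.Agent.S5392
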