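import Groth.Statements.S5393
import Groth.Agent.L08.NeutralImm
-- import your own Groth.Agent.* helpers here

set_option autoImplicit false
set_option backward.isDefEq.respectTransparency.types false
set_option linter.style.haveILetI false
universe u
open CategoryTheory CategoryTheory.Limits MonoidalCategory CartesianMonoidalCategory MonObj GrpObj AlgebraicGeometry
open SGA3

namespace Groth.Agent.S5393

/-- Let G be an S-group scheme locally of finite presentation and quasi-separated over S, H an S-group
scheme smooth and of finite presentation over S with connected fibres, u : H → G a homomorphism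
which is a monomorphism, n : N → G the normalizer of H in G (a closed subgroup scheme) and j : H → N
the homomorphism with j n = u. The following are equivalent: (i) j is an open immersion; (ii) H
represents the neutral component of N: a point g : T → N factors through j exactly when the image of
its underlying map lies in the union of the neutral components of the fibres of N; (iii) for every s
in S, the fibre j_s : H_s → N_s is an open immersion whose image is the neutral component of N_s.
(The published statement asks H only to be smooth over S with connected fibres; this row also asks H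
quasi-compact and quasi-separated over S, the hypotheses under which the normalizer is shown to be
representable.) -/
theorem result (S : Scheme.{u}) (G H N : Over S) [GrpObj G] [GrpObj H] [GrpObj N]
    [LocallyOfFinitePresentation G.hom] [QuasiSeparated G.hom] [Smooth H.hom] [QuasiCompact H.hom] [QuasiSeparated H.hom]
    (hconn : ∀ s : S, _root_.IsConnected (H.hom.base ⁻¹' {s})) (u : H ⟶ G) [IsMonHom u] [Mono u]
    (n : N ⟶ G) [IsClosedImmersion n.left] (hN : Red.IsNormalizerOf u n) (j : H ⟶ N) [IsMonHom j] (hj : j ≫ n = u) :
    (IsOpenImmersion j.left ↔
      ∀ (T : Over S) (g : T ⟶ N), (∃ h : T ⟶ H, h ≫ j = g) ↔ Set.range g.left.base ⊆ SGA3x.neutralSet N) ∧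
    (IsOpenImmersion j.left ↔
      ∀ s : S, IsOpenImmersion ((Over.pullback (S.fromSpecResidueField s)).map j).left ∧
        j.left.base '' (H.hom.base ⁻¹' {s}) = SGA3x.neutralSet N ∩ N.hom.base ⁻¹' {s}) := by
  haveI : Mono j := by haveI : Mono (j ≫ n) := hj.symm ▸ inferInstance; exact mono_of_mono j n
  haveI : LocallyOfFiniteType N.hom := by
    haveI : LocallyOfFiniteType (n.left ≫ G.hom) := inferInstance
    rwa [Over.w n] at this
  haveI : QuasiSeparated N.hom := by
    haveI : QuasiSeparated (n.left ≫ G.hom) := inferInstance
    rwa [Over.w n] at this
  have h13 : IsOpenImmersion j.left → ∀ s : S, IsOpenImmersion ((Over.pullback (S.fromSpecResidueField s)).map j).left ∧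
      j.left.base '' (H.hom.base ⁻¹' {s}) = SGA3x.neutralSet N ∩ N.hom.base ⁻¹' {s} := fun h s => by
    haveI := h
    haveI h' : IsOpenImmersion ((Over.pullback (S.fromSpecResidueField s)).map j).left :=
      MorphismProperty.of_isPullback (P := @IsOpenImmersion)
        (Groth.L25.SchImage.isPullback_fst_map (S.fromSpecResidueField s) j) ‹_›
    exact ⟨h', Groth.L08.NeutralImm.image_eq_of_open j hconn s h'⟩
  refine ⟨⟨fun h T g => ?_, fun h => ?_⟩, ⟨h13, fun h => ?_⟩⟩
  · haveI := h
    have hr := Groth.L08.NeutralImm.range_eq_of_open j hconn
    refine ⟨?_, fun hg => ?_⟩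
    · rintro ⟨l, rfl⟩
      rintro _ ⟨t, rfl⟩
      rw [← hr]
      exact ⟨l.left t, rfl⟩
    · have hg' : Set.range g.left ⊆ Set.range j.left := fun y hy => hr.symm ▸ hg hy
      refine ⟨Over.homMk (IsOpenImmersion.lift j.left g.left hg') ?_,
        Over.OverMorphism.ext (IsOpenImmersion.lift_fac _ _ _)⟩
      rw [← Over.w j, IsOpenImmersion.lift_fac_assoc, Over.w g]
  · exact Groth.L08.NeutralImm.isOpenImmersion_of_fibres j
      fun s => Groth.L08.NeutralImm.open_fibre_of_rep j hconn h s
  · exact Groth.L08.NeutralImm.isOpenImmersion_of_fibres j fun s => (h s).1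

end Groth.Agent.S5393
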