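import Groth.Statements.S5394
import Groth.Agent.Lead.MaxSubgroup
import Groth.Agent.L20.FibreScheme
import Mathlib.Topology.Sober

set_option autoImplicit false
universe u
open CategoryTheory CategoryTheory.Limits MonoidalCategory CartesianMonoidalCategory MonObj GrpObj AlgebraicGeometry
open SGA3

namespace Groth.Agent.S5394

/-- Let G be an S-group scheme which is flat and locally of finite presentation over S and f : X → G a
morphism of S-schemes with X locally of finite presentation over S. Suppose that for every point s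
of S and every maximal point g of the fibre G_s (generic point of an irreducible component) there is
a point x of X with f(x) = g at which f is flat. Let V be the open subscheme of X where f is flat.
Then the morphism V ×_S V → G, (x, y) ↦ f(x)·f(y), is flat, locally of finite presentation and
surjective; in particular X ×_S X → G, (x, y) ↦ f(x)·f(y), is covering for the fppf topology. (The
published statement does not assume G flat over S and asserts only the covering property; this row
assumes G flat over S, as the flatness step of the printed proof does, and concludes the flat,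
locally finitely presented, surjective form that proof establishes. Without flatness of G the
flatness conclusion fails, e.g. for the identity of the closed subgroup tx = 0 of the additive group
over k[t].) -/
theorem result (S : Scheme.{u}) (G X : Over S) [GrpObj G] [LocallyOfFinitePresentation G.hom] [Flat G.hom]
    [LocallyOfFinitePresentation X.hom] (f : X ⟶ G)
    (hf : ∀ (s : S) (g : ↥(G.hom.base ⁻¹' {s})), closure {g} ∈ irreducibleComponents ↥(G.hom.base ⁻¹' {s}) →
      ∃ x : X.left, f.left.base x = g.1 ∧ (f.left.stalkMap x).hom.Flat)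
    (V : X.left.Opens) (hV : (V : Set X.left) = {x : X.left | (f.left.stalkMap x).hom.Flat}) :
    letI fV : Over.mk (V.ι ≫ X.hom) ⟶ G := Over.homMk (V.ι ≫ f.left) ((Category.assoc _ _ _).trans (congrArg (V.ι ≫ ·) (Over.w f)))
    Flat ((fV ⊗ₘ fV) ≫ μ[G]).left ∧ LocallyOfFinitePresentation ((fV ⊗ₘ fV) ≫ μ[G]).left ∧
      Surjective ((fV ⊗ₘ fV) ≫ μ[G]).left := by
  let Vo : Over S := Over.mk (V.ι ≫ X.hom)
  let fV : Vo ⟶ G := Over.homMk (V.ι ≫ f.left) ((Category.assoc _ _ _).trans (congrArg (V.ι ≫ ·) (Over.w f)))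
  haveI hflV : Flat fV.left := by
    show Flat (V.ι ≫ f.left)
    refine Flat.of_stalkMap _ fun v => ?_
    rw [Scheme.Hom.stalkMap_comp]
    have hv : (f.left.stalkMap (V.ι v)).hom.Flat := by
      have : V.ι v ∈ (V : Set X.left) := v.2
      rwa [hV] at this
    exact RingHom.Flat.comp hv (RingHom.Flat.of_bijective (ConcreteCategory.bijective_of_isIso (V.ι.stalkMap v)))
  haveI : LocallyOfFinitePresentation Vo.hom := (inferInstance : LocallyOfFinitePresentation (V.ι ≫ X.hom))
  haveI : LocallyOfFinitePresentation fV.left := by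
    haveI : LocallyOfFinitePresentation (fV.left ≫ G.hom) := by rw [Over.w fV]; infer_instance
    exact Groth.L20.locallyOfFinitePresentation_of_comp fV.left G.hom
  -- flatness and finite presentation
  have hμ : ∀ (P : MorphismProperty Scheme.{u}) [P.IsStableUnderBaseChange] [P.RespectsIso], P G.hom → P μ[G].left := by
    intro P _ _ h
    have e : μ[G] = Groth.Lead.MaxSubgroup.act (𝟙 G) := by
      rw [MonObj.mul_eq_mul G]; simp
    rw [e]
    exact Groth.Lead.MaxSubgroup.act_prop P _ h
  haveI := hμ @Flat ‹_›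
  haveI := hμ @LocallyOfFinitePresentation ‹_›
  haveI : Flat (fV ⊗ₘ fV).left := by
    rw [MonoidalCategory.tensorHom_def, Over.comp_left]
    haveI : Flat (fV ▷ Vo).left := MorphismProperty.of_isPullback (Groth.L25.Actions.isPullback_whiskerRight_left fV Vo).flip hflV
    haveI : Flat (G ◁ fV).left := MorphismProperty.of_isPullback (Groth.L25.Actions.isPullback_whiskerLeft_left G fV).flip hflV
    infer_instance
  haveI : LocallyOfFinitePresentation (fV ⊗ₘ fV).left := by
    rw [MonoidalCategory.tensorHom_def, Over.comp_left]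
    haveI : LocallyOfFinitePresentation (fV ▷ Vo).left :=
      MorphismProperty.of_isPullback (Groth.L25.Actions.isPullback_whiskerRight_left fV Vo).flip ‹_›
    haveI : LocallyOfFinitePresentation (G ◁ fV).left :=
      MorphismProperty.of_isPullback (Groth.L25.Actions.isPullback_whiskerLeft_left G fV).flip ‹_›
    infer_instance
  show Flat ((fV ⊗ₘ fV) ≫ μ[G]).left ∧ LocallyOfFinitePresentation ((fV ⊗ₘ fV) ≫ μ[G]).left ∧
    Surjective ((fV ⊗ₘ fV) ≫ μ[G]).left
  rw [Over.comp_left]
  refine ⟨inferInstance, inferInstance, ⟨fun g => ?_⟩⟩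
  -- surjectivity
  let s := G.hom g
  let D : Set ↥(G.hom ⁻¹' {s}) := {y | y.1 ∈ Set.range fV.left}
  haveI : QuasiSober ↥(G.hom ⁻¹' {s}) := (G.hom.fiberHomeo s).symm.isClosedEmbedding.quasiSober
  have hD : Dense D := by
    intro y
    obtain ⟨γ, hγ⟩ : ∃ γ : ↥(G.hom ⁻¹' {s}), closure {γ} = irreducibleComponent y := by
      obtain ⟨γ, hγ⟩ := QuasiSober.sober isIrreducible_irreducibleComponent (isClosed_irreducibleComponent (x := y))
      exact ⟨γ, hγ⟩
    obtain ⟨x, hx, hxf⟩ := hf s γ (hγ ▸ irreducibleComponent_mem_irreducibleComponents y)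
    have hγD : γ ∈ D := by
      have hxV : x ∈ (V : Set X.left) := by rw [hV]; exact hxf
      exact ⟨⟨x, hxV⟩, hx⟩
    exact closure_mono (Set.singleton_subset_iff.2 hγD) (hγ.symm ▸ mem_irreducibleComponent)
  have hDo : IsOpen D := (fV.left.isOpenMap.isOpen_range).preimage continuous_subtype_val
  -- the fibre of the multiplication over `g`
  let T : Over S := Over.mk (G.left.fromSpecResidueField g ≫ G.hom)
  let gT : T ⟶ G := Over.homMk (G.left.fromSpecResidueField g) rfl
  let θ : G ⊗ T ⟶ G ⊗ T := lift ((fst G T)⁻¹ * (snd G T ≫ gT)) (snd G T)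
  let θ' : G ⊗ T ⟶ G ⊗ T := lift ((snd G T ≫ gT) * (fst G T)⁻¹) (snd G T)
  have hθ : θ' ≫ θ = 𝟙 _ ∧ θ ≫ θ' = 𝟙 _ := by
    constructor
    all_goals
      apply CartesianMonoidalCategory.hom_ext
      · simp [θ, θ', MonObj.comp_mul, GrpObj.comp_inv, _root_.mul_assoc, _root_.mul_inv_rev]
      · simp [θ, θ']
  haveI : IsIso θ := ⟨θ', hθ.2, hθ.1⟩
  haveI : IsIso θ.left := inferInstanceAs (IsIso ((Over.forget S).map θ))
  have hT : ∀ t : (G ⊗ T).left, G.hom ((fst G T).left t) = s := fun t => by
    rw [← Scheme.Hom.comp_apply, Over.w (fst G T), ← Over.w (snd G T), Scheme.Hom.comp_apply]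
    exact congrArg G.hom (Scheme.fromSpecResidueField_apply (x := g) _)
  let r : Spec (G.left.residueField g) ⟶ Spec (S.residueField s) := Spec.map (G.hom.residueFieldMap g)
  let B := IsPullback.of_hasPullback G.hom (S.fromSpecResidueField s)
  have hr : r ≫ S.fromSpecResidueField s = G.left.fromSpecResidueField g ≫ G.hom :=
    Scheme.Hom.SpecMap_residueFieldMap_fromSpecResidueField G.hom g
  have A : IsPullback (fst G T).left (snd G T).left G.hom (r ≫ S.fromSpecResidueField s) := by
    rw [hr]; exact Groth.L25.Actions.isPullback_snd G T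
  let q : (G ⊗ T).left ⟶ G.hom.fiber s :=
    B.lift (fst G T).left ((snd G T).left ≫ r) (by rw [Category.assoc]; exact A.w)
  have hq₁ : q ≫ G.hom.fiberι s = (fst G T).left := B.lift_fst _ _ _
  have hq : IsOpenMap q := by
    haveI : UniversallyOpen r := inferInstance
    haveI : UniversallyOpen q := by
      refine MorphismProperty.of_isPullback (P := @UniversallyOpen) (IsPullback.of_right ?_ (B.lift_snd _ _ _) B).flip
        (inferInstance : UniversallyOpen r)
      rw [B.lift_fst]
      exact A
    exact q.isOpenMap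
  let q₁ : (G ⊗ T).left → ↥(G.hom ⁻¹' {s}) := fun t => ⟨(fst G T).left t, hT t⟩
  have hq₁' : q₁ = G.hom.fiberHomeo s ∘ q := funext fun t => Subtype.ext (by
    show (fst G T).left t = G.hom.fiberι s (q t)
    rw [← Scheme.Hom.comp_apply, hq₁])
  have ho₁ : IsOpenMap q₁ := hq₁' ▸ (G.hom.fiberHomeo s).isOpenMap.comp hq
  have hc₁ : Continuous q₁ := ((fst G T).left.continuous).subtype_mk _
  have hd₁ : Dense (q₁ ⁻¹' D) := hD.preimage ho₁
  have hd₂ : Dense (θ.left ⁻¹' (q₁ ⁻¹' D)) := hd₁.preimage θ.left.isOpenEmbedding.isOpenMap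
  have hne : Nonempty ↥(G ⊗ T).left := by
    exact ⟨(lift gT (𝟙 T)).left (IsLocalRing.closedPoint (G.left.residueField g))⟩
  obtain ⟨t, ht₁, ht₂⟩ := hd₁.inter_open_nonempty (θ.left ⁻¹' (q₁ ⁻¹' D))
    ((hDo.preimage hc₁).preimage θ.left.continuous) hd₂.nonempty
  let m : G ⊗ T ⟶ G ⊗ G := lift (fst G T) (θ ≫ fst G T)
  obtain ⟨z, hz⟩ : m.left t ∈ Set.range (fV ⊗ₘ fV).left := by
    have hR : Set.range (fV ⊗ₘ fV).left =
        (fst G G).left ⁻¹' Set.range fV.left ∩ (snd G G).left ⁻¹' Set.range fV.left :=
      Scheme.Pullback.range_map (f := Vo.hom) (g := Vo.hom) (f' := G.hom) (g' := G.hom) (i₁ := fV.left) (i₂ := fV.left)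
        (i₃ := 𝟙 S) (by simp) (by simp)
    rw [hR]
    refine ⟨?_, ?_⟩
    · rw [Set.mem_preimage, ← Scheme.Hom.comp_apply, ← Over.comp_left, lift_fst]
      exact ht₂
    · rw [Set.mem_preimage, ← Scheme.Hom.comp_apply, ← Over.comp_left, lift_snd, Over.comp_left, Scheme.Hom.comp_apply]
      exact ht₁
  refine ⟨z, ?_⟩
  rw [Scheme.Hom.comp_apply, hz, ← Scheme.Hom.comp_apply, ← Over.comp_left]
  have e : m ≫ μ[G] = snd G T ≫ gT := by
    rw [MonObj.mul_eq_mul G, MonObj.comp_mul, lift_fst, lift_snd]
    simp [θ, mul_inv_cancel_left]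
  rw [e, Over.comp_left, Scheme.Hom.comp_apply]
  exact Scheme.fromSpecResidueField_apply (x := g) _

end Groth.Agent.S5394
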