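import Groth.Statements.S5400
import Groth.Agent.L25.LimHom
import Groth.Agent.L02.NeutralOpen.Repr
import Groth.Agent.L19.Limit.Cons
import Groth.Agent.S5322

set_option autoImplicit false
set_option maxSynthPendingDepth 3
set_option backward.isDefEq.respectTransparency.types false
set_option backward.isDefEq.respectTransparency false
set_option maxHeartbeats 800000
universe u
open CategoryTheory CategoryTheory.Limits MonoidalCategory CartesianMonoidalCategory MonObj GrpObj AlgebraicGeometry
open SGA3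

namespace Groth.Agent.S5400

/-- Let S be the limit of a cofiltered system (S_i) of quasi-compact quasi-separated schemes with affine
transition morphisms, j an index and G_j an S_j-group scheme of finite presentation; put G = G_j
×_{S_j} S. Then the neutral component subfunctor of G is representable (there is a monomorphism G⁰ →
G through which a point factors exactly when its image lies in the union of the neutral components
of the fibres) if and only if there is an index i over j such that the neutral component of G_j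
×_{S_j} S_i is representable. -/
theorem result {I : Type u} [SmallCategory I] [IsCofiltered I]
    (D : I ⥤ Scheme.{u}) (c : Limits.Cone D) (hc : Limits.IsLimit c)
    [∀ (i i' : I) (f : i ⟶ i'), IsAffineHom (D.map f)] [∀ i, CompactSpace (D.obj i)] [∀ i, QuasiSeparatedSpace (D.obj i)]
    (j : I) (Gj : Over (D.obj j)) [GrpObj Gj]
    [LocallyOfFinitePresentation Gj.hom] [QuasiCompact Gj.hom] [QuasiSeparated Gj.hom] :
    (∃ (G0 : Over c.pt) (i0 : G0 ⟶ Red.bc (c.π.app j) Gj), Mono i0 ∧
      ∀ (T : Over c.pt) (g : T ⟶ Red.bc (c.π.app j) Gj), (∃ z : T ⟶ G0, z ≫ i0 = g) ↔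
        Set.range g.left.base ⊆ SGA3x.neutralSet (Red.bc (c.π.app j) Gj)) ↔
    ∃ (i : I) (f : i ⟶ j) (G0 : Over (D.obj i)) (i0 : G0 ⟶ Red.bc (D.map f) Gj), Mono i0 ∧
      ∀ (T : Over (D.obj i)) (g : T ⟶ Red.bc (D.map f) Gj), (∃ z : T ⟶ G0, z ≫ i0 = g) ↔
        Set.range g.left.base ⊆ SGA3x.neutralSet (Red.bc (D.map f) Gj) := by
  haveI : CompactSpace ↥c.pt := Scheme.compactSpace_of_isLimit D c hc
  constructor
  · rintro ⟨G0, i0, hi0, hrep⟩
    haveI : LocallyOfFinitePresentation (Red.bc (c.π.app j) Gj).hom :=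
      inferInstanceAs (LocallyOfFinitePresentation (pullback.snd Gj.hom (c.π.app j)))
    haveI := hi0
    let V : (Red.bc (c.π.app j) Gj).left.Opens :=
      ⟨_, Groth.L02.NeutralOpen.isOpen_of_rep (Red.bc (c.π.app j) Gj) G0 i0 hrep⟩
    have hV : IsCompact (V : Set (Red.bc (c.π.app j) Gj).left) := by
      obtain ⟨-, hqc⟩ := Groth.L02.NeutralOpen.rep_isOpenImmersion (Red.bc (c.π.app j) Gj) G0 i0 hrep
      haveI : CompactSpace G0.left := QuasiCompact.compactSpace_of_compactSpace G0.hom
      show IsCompact (SGA3x.neutralSet (Red.bc (c.π.app j) Gj))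
      rw [← Groth.L02.NeutralOpen.range_rep (Red.bc (c.π.app j) Gj) G0 i0 hrep]
      exact isCompact_range i0.left.continuous
    haveI : ∀ {k k' : Over j} (ψ : k ⟶ k'), IsAffineHom ((Groth.L25.LimHom.stage D j).map ψ) := fun ψ =>
      inferInstanceAs (IsAffineHom (D.map ψ.left))
    obtain ⟨k, W, hW, hWV⟩ := Groth.L19.Limit.exists_stage_open (D := Groth.L25.LimHom.stage D j)
      (c := c.whisker (Over.forget j)) Gj.hom (fun i => D.map i.hom) (Groth.L25.LimHom.ht D j) (c.π.app j)
      (Groth.L25.LimHom.hT D c j) ((Functor.Initial.isLimitWhiskerEquiv (Over.forget j) c).symm hc) V hV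
    let W' : ((Groth.L25.LimHom.sys D j Gj).obj k).Opens := W
    -- the neutral set at a stage
    let N : ∀ i : Over j, Set ↥((Groth.L25.LimHom.sys D j Gj).obj i) := fun i =>
      SGA3x.neutralSet (Red.bc (D.map i.hom) Gj)
    have hNfst : ∀ i : Over j, N i = pullback.fst Gj.hom (D.map i.hom) ⁻¹' SGA3x.neutralSet Gj :=
      fun i => Groth.Agent.S5322.result _ _ _ Gj
    haveI : LocallyOfFinitePresentation (Red.bc (D.map k.hom) Gj).hom :=
      inferInstanceAs (LocallyOfFinitePresentation (pullback.snd Gj.hom (D.map k.hom)))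
    haveI : QuasiSeparated (Red.bc (D.map k.hom) Gj).hom :=
      inferInstanceAs (QuasiSeparated (pullback.snd Gj.hom (D.map k.hom)))
    haveI : ∀ i : Over j, QuasiSeparatedSpace ↥((Groth.L25.LimHom.sys D j Gj).obj i) := fun i => inferInstance
    have hWc : Topology.IsLocallyConstructible (W' : Set ↥((Groth.L25.LimHom.sys D j Gj).obj k)) :=
      Topology.IsConstructible.isLocallyConstructible (IsCompact.isConstructible hW W'.2)
    have hNc : Topology.IsLocallyConstructible (N k) := Groth.L02.NeutralOpen.isLocallyConstructible _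
    have hfst : ∀ i : Over j, (Groth.L25.LimHom.sysCone D c j Gj).π.app i ≫ pullback.fst Gj.hom (D.map i.hom) =
        pullback.fst Gj.hom (c.π.app j) := fun i => (pullback.lift_fst _ _ _).trans (Category.comp_id _)
    have heq : (Groth.L25.LimHom.sysCone D c j Gj).π.app k ⁻¹' (W' : Set ↥((Groth.L25.LimHom.sys D j Gj).obj k)) =
        (Groth.L25.LimHom.sysCone D c j Gj).π.app k ⁻¹' N k := by
      have hWV' : (Groth.L25.LimHom.sysCone D c j Gj).π.app k ⁻¹' (W' : Set ↥((Groth.L25.LimHom.sys D j Gj).obj k)) =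
          SGA3x.neutralSet (Red.bc (c.π.app j) Gj) := congrArg SetLike.coe hWV
      refine hWV'.trans ?_
      rw [Groth.Agent.S5322.result, hNfst]
      ext z
      exact (iff_of_eq (congrArg (· ∈ SGA3x.neutralSet Gj)
        (congrArg (fun m : (Groth.L25.LimHom.sysCone D c j Gj).pt ⟶ Gj.left => m z) (hfst k)))).symm
    obtain ⟨k', φ, hφ⟩ := Groth.L19.Limit.exists_preimage_eq_preimage
      (Groth.L25.LimHom.isLimitSysCone D c hc j Gj) hWc hNc heq
    have hopen : IsOpen (N k') := by
      have e : (Groth.L25.LimHom.sys D j Gj).map φ ⁻¹' N k = N k' := by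
        rw [hNfst, hNfst]
        ext z
        have e' : (Groth.L25.LimHom.sys D j Gj).map φ ≫ pullback.fst Gj.hom (D.map k.hom) =
            pullback.fst Gj.hom (D.map k'.hom) := (pullback.lift_fst _ _ _).trans (Category.comp_id _)
        exact iff_of_eq (congrArg (· ∈ SGA3x.neutralSet Gj)
          (congrArg (fun m : (Groth.L25.LimHom.sys D j Gj).obj k' ⟶ Gj.left => m z) e'))
      rw [← e, ← hφ]
      exact W'.isOpen.preimage ((Groth.L25.LimHom.sys D j Gj).map φ).continuous
    let G' := Red.bc (D.map k'.hom) Gj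
    let O : G'.left.Opens := ⟨SGA3x.neutralSet G', hopen⟩
    let i' : Over.mk (O.ι ≫ G'.hom) ⟶ G' := Over.homMk O.ι rfl
    haveI : Mono i'.left := inferInstanceAs (Mono O.ι)
    refine ⟨k'.left, k'.hom, Over.mk (O.ι ≫ G'.hom), i', Over.mono_of_mono_left _, fun T g => ⟨?_, fun hg => ?_⟩⟩
    · rintro ⟨z, rfl⟩ _ ⟨w, rfl⟩
      exact (z.left w).2
    · have hr : Set.range g.left ⊆ Set.range O.ι := by rw [Scheme.Opens.range_ι]; exact hg
      refine ⟨Over.homMk (IsOpenImmersion.lift O.ι g.left hr) ?_, Over.OverMorphism.ext (IsOpenImmersion.lift_fac _ _ _)⟩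
      show IsOpenImmersion.lift O.ι g.left hr ≫ O.ι ≫ G'.hom = T.hom
      rw [IsOpenImmersion.lift_fac_assoc, Over.w]
  · rintro ⟨i, f, G0, i0, hi0, hrep⟩
    haveI : LocallyOfFinitePresentation (Red.bc (D.map f) Gj).hom :=
      inferInstanceAs (LocallyOfFinitePresentation (pullback.snd Gj.hom (D.map f)))
    haveI := hi0
    have h1 : IsOpen (SGA3x.neutralSet (Red.bc (D.map f) Gj)) :=
      Groth.L02.NeutralOpen.isOpen_of_rep (Red.bc (D.map f) Gj) G0 i0 hrep
    let G' := Red.bc (c.π.app j) Gj
    let π' : G'.left ⟶ (Red.bc (D.map f) Gj).left :=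
      pullback.map Gj.hom (c.π.app j) Gj.hom (D.map f) (𝟙 _) (c.π.app i) (𝟙 _) (by simp)
        (by rw [Category.comp_id, c.w f])
    have e : π' ⁻¹' SGA3x.neutralSet (Red.bc (D.map f) Gj) = SGA3x.neutralSet G' := by
      rw [Groth.Agent.S5322.result, Groth.Agent.S5322.result]
      ext z
      have e' : π' ≫ pullback.fst Gj.hom (D.map f) = pullback.fst Gj.hom (c.π.app j) :=
        (pullback.lift_fst _ _ _).trans (Category.comp_id _)
      exact iff_of_eq (congrArg (· ∈ SGA3x.neutralSet Gj) (congrArg (fun m : G'.left ⟶ Gj.left => m z) e'))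
    let O : G'.left.Opens := ⟨SGA3x.neutralSet G', e ▸ h1.preimage π'.continuous⟩
    let i' : Over.mk (O.ι ≫ G'.hom) ⟶ G' := Over.homMk O.ι rfl
    haveI : Mono i'.left := inferInstanceAs (Mono O.ι)
    refine ⟨Over.mk (O.ι ≫ G'.hom), i', Over.mono_of_mono_left _, fun T g => ⟨?_, fun hg => ?_⟩⟩
    · rintro ⟨z, rfl⟩ _ ⟨w, rfl⟩
      exact (z.left w).2
    · have hr : Set.range g.left ⊆ Set.range O.ι := by rw [Scheme.Opens.range_ι]; exact hg
      refine ⟨Over.homMk (IsOpenImmersion.lift O.ι g.left hr) ?_, Over.OverMorphism.ext (IsOpenImmersion.lift_fac _ _ _)⟩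
      show IsOpenImmersion.lift O.ι g.left hr ≫ O.ι ≫ G'.hom = T.hom
      rw [IsOpenImmersion.lift_fac_assoc, Over.w]

end Groth.Agent.S5400
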