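import Groth.Statements.S5402
import Groth.Agent.L25.EGA145.QuasiSection
import Groth.Agent.L25.EGA145.Translate
-- import your own Groth.Agent.* helpers here

set_option autoImplicit false
set_option maxSynthPendingDepth 3
set_option backward.isDefEq.respectTransparency.types false
set_option backward.isDefEq.respectTransparency false
universe u
open CategoryTheory CategoryTheory.Limits MonoidalCategory CartesianMonoidalCategory MonObj GrpObj AlgebraicGeometry
open SGA3

namespace Groth.Agent.S5402

open Groth.L25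

theorem surjective_bc {S S' : Scheme.{u}} {G X : Over S} [GrpObj G] (a : AlgGrp.Action G X)
    (hΦ : Surjective (lift a.act (snd G X)).left) (t : S' ⟶ S) :
    Surjective (lift (a.bc t).act (snd (Red.bc t G) (Red.bc t X))).left := by
  have key : lift (a.bc t).act (snd _ _) ≫ Functor.LaxMonoidal.μ (Over.pullback t) X X =
      Functor.LaxMonoidal.μ (Over.pullback t) G X ≫ (Over.pullback t).map (lift a.act (snd G X)) := by
    rw [← Functor.Monoidal.lift_μ, comp_lift_assoc, Functor.Monoidal.μ_snd, AlgGrp.Action.bc_act]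
  let φ := lift a.act (snd G X)
  have sq : IsPullback ((Over.pullback t).map φ).left (pullback.fst (G ⊗ X).hom t) (pullback.fst (X ⊗ X).hom t)
      φ.left := by
    have h1 : IsPullback (pullback.fst (G ⊗ X).hom t) (pullback.snd (G ⊗ X).hom t) (φ.left ≫ (X ⊗ X).hom) t := by
      convert IsPullback.of_hasPullback (G ⊗ X).hom t using 2
      exact Over.w φ
    refine (IsPullback.of_bot ?_ ?_ (IsPullback.of_hasPullback (X ⊗ X).hom t)).flip
    · rw [show ((Over.pullback t).map φ).left ≫ pullback.snd (X ⊗ X).hom t = pullback.snd (G ⊗ X).hom t from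
        pullback.lift_snd _ _ _]
      exact h1
    · exact (pullback.lift_fst _ _ _).symm
  have hs : Surjective ((Over.pullback t).map φ).left := MorphismProperty.of_isPullback sq.flip hΦ
  have h1 : IsIso (Functor.LaxMonoidal.μ (Over.pullback t) X X).left :=
    inferInstanceAs (IsIso ((Over.forget _).map (Functor.LaxMonoidal.μ (Over.pullback t) X X)))
  have h2 : IsIso (Functor.LaxMonoidal.μ (Over.pullback t) G X).left :=
    inferInstanceAs (IsIso ((Over.forget _).map (Functor.LaxMonoidal.μ (Over.pullback t) G X)))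
  have e : (lift (a.bc t).act (snd (Red.bc t G) (Red.bc t X))).left =
      (Functor.LaxMonoidal.μ (Over.pullback t) G X).left ≫ ((Over.pullback t).map φ).left ≫
        inv (Functor.LaxMonoidal.μ (Over.pullback t) X X).left := by
    rw [← Category.assoc, IsIso.eq_comp_inv]
    exact congrArg (fun m => m.left) key
  rw [e]
  infer_instance

theorem map_fst {S S' : Scheme.{u}} (t : S' ⟶ S) {A B : Over S} (φ : A ⟶ B) (p : ↥(Red.bc t A).left) :
    pullback.fst B.hom t (((Over.pullback t).map φ).left p) = φ.left (pullback.fst A.hom t p) := by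
  refine Eq.trans (Scheme.Hom.comp_apply _ _ p).symm (Eq.trans ?_ (Scheme.Hom.comp_apply _ _ p))
  exact congrArg (fun m : _ ⟶ B.left => m p) (pullback.lift_fst _ _ _)


/-- Let G be an S-group scheme locally of finite presentation over S and universally open over S on some
open containing the unit section, acting on an S-scheme X so that G ×_S X → X ×_S X, (g, x) ↦ (gx,
x), is surjective. Let U be an open subset of X, s a point of S such that the fibre X_s is locally
of finite type over κ(s) and U ∩ X_s is dense in X_s, and A a finite set of points of X_s. Then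
there are morphisms S'' → S' → S, the first finite and surjective and the second etale, with exactly
one point of S'' lying over s, and an S-morphism h : S'' → G, such that for every point z of X ×_S
S'' whose image in X lies in A, the image in X of the translate h·z lies in U. -/
theorem result (S : Scheme.{u}) (G X : Over S) [GrpObj G]
    [LocallyOfFinitePresentation G.hom]
    (hGo : ∃ W : G.left.Opens, (∀ p : ↥(𝟙_ (Over S)).left, η[G].left.base p ∈ W) ∧ UniversallyOpen (W.ι ≫ G.hom))
    (a : AlgGrp.Action G X) (hΦ : Surjective (lift a.act (snd G X)).left)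
    (U : X.left.Opens) (s : S) (hft : LocallyOfFiniteType (X.hom.fiberToSpecResidueField s))
    (hdense : X.hom.base ⁻¹' {s} ⊆ closure ((U : Set X.left) ∩ X.hom.base ⁻¹' {s}))
    (A : Set X.left) (hA : A.Finite) (hAs : A ⊆ X.hom.base ⁻¹' {s}) :
    ∃ (S' S'' : Scheme.{u}) (w : S' ⟶ S) (π : S'' ⟶ S') (h : Over.mk (π ≫ w) ⟶ G),
      Etale w ∧ IsFinite π ∧ Surjective π ∧ (∃ s₀ : S'', (π ≫ w).base ⁻¹' {s} = {s₀}) ∧
      ∀ z : ↥(X ⊗ Over.mk (π ≫ w)).left, (fst X (Over.mk (π ≫ w))).left.base z ∈ A →
        (lift (snd X (Over.mk (π ≫ w)) ≫ h) (fst X (Over.mk (π ≫ w))) ≫ a.act).left.base z ∈ U := by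
  obtain ⟨W, hW, hWo⟩ := hGo
  let k : Type u := S.residueField s
  let t : Spec (CommRingCat.of k) ⟶ S := S.fromSpecResidueField s
  let πG : (Red.bc t G).left ⟶ G.left := pullback.fst G.hom t
  let πX : (Red.bc t X).left ⟶ X.left := pullback.fst X.hom t
  have hrG : Set.range πG = G.hom.base ⁻¹' {s} := G.hom.range_fiberι s
  have hrX : Set.range πX = X.hom.base ⁻¹' {s} := X.hom.range_fiberι s
  have heG : Topology.IsEmbedding πG := (G.hom.fiberι s).isEmbedding
  have heX : Topology.IsEmbedding πX := (X.hom.fiberι s).isEmbedding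
  haveI : LocallyOfFiniteType (Red.bc t G).hom := MorphismProperty.pullback_snd G.hom t inferInstance
  haveI : LocallyOfFiniteType (Red.bc t X).hom := hft
  let Uk : (Red.bc t X).left.Opens := πX ⁻¹ᵁ U
  have hUk : Dense (Uk : Set (Red.bc t X).left) := fun p => by
    refine heX.isInducing.closure_eq_preimage_closure_image _ ▸ ?_
    show πX p ∈ closure (πX '' (πX ⁻¹' (U : Set X.left)))
    rw [Set.image_preimage_eq_inter_range, hrX]
    exact hdense (hrX ▸ ⟨p, rfl⟩)
  obtain ⟨C₀, hC₀, he'⟩ := exists_mem_irreducibleComponents_subset_of_isIrreducible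
    {Component.one (Red.bc t G)} isIrreducible_singleton
  have he : Component.one (Red.bc t G) ∈ C₀ := he' rfl
  obtain ⟨g₀, hgC, hgc, H⟩ := EGA145.Translate.exists_closed_translate (a.bc t) (surjective_bc a hΦ t) Uk hUk
    hC₀ he (πX ⁻¹' A) (hA.preimage heX.injective.injOn)
  let g : G.left := πG g₀
  have hgs : G.hom g = s := hrG.le ⟨g₀, rfl⟩
  let z₀ := hC₀.1.genericPoint
  have hgen : IsGenericPoint z₀ C₀ :=
    hC₀.1.isGenericPoint_genericPoint (isClosed_of_mem_irreducibleComponents _ hC₀)
  let z : G.left := πG z₀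
  have hzg : z ⤳ g := (hgen.specializes hgC).map πG.continuous
  have hzs : G.hom z = s := hrG.le ⟨z₀, rfl⟩
  have hzW : z ∈ W := by
    refine ((hgen.specializes he).map πG.continuous).mem_open W.2 ?_
    have e : ∀ p, πG ((η[Red.bc t G]).left p) ∈ W := fun p => by
      have e1 : η[Red.bc t G] = Functor.LaxMonoidal.ε (Over.pullback t) ≫ (Over.pullback t).map η[G] :=
        Functor.obj.η_def (F := Over.pullback t) G
      show pullback.fst G.hom t _ ∈ W
      rw [e1, Over.comp_left, Scheme.Hom.comp_apply, map_fst]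
      exact hW _
    exact e _
  have hopen : EGA43.IsUnivOpenAt G.hom z :=
    Groth.L07.UnivOpenAt.right_of_comp (f := W.ι) (x := ⟨z, hzW⟩)
      (Groth.L07.SectionComp.isUnivOpenAt_of_universallyOpen (W.ι ≫ G.hom) ⟨z, hzW⟩)
  have hcl : ∀ x' : G.left, G.hom x' = G.hom g → g ⤳ x' → x' = g := fun x' hx' hsp => by
    obtain ⟨y, rfl⟩ := hrG.ge (hx'.trans hgs)
    exact congrArg πG ((heG.isInducing.specializes_iff.1 hsp).mem_closed hgc rfl)
  haveI : IsLocallyNoetherian (Red.bc t G).left := LocallyOfFiniteType.isLocallyNoetherian (Red.bc t G).hom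
  obtain ⟨U1, hU1, hU1e⟩ := heG.isInducing.isOpen_iff.1 (Component.isOpen_of_mem (Red.bc t G) hC₀)
  -- the dimension
  letI : (Red.bc t G).left.Over (Spec (CommRingCat.of k)) := ⟨(Red.bc t G).hom⟩
  haveI : LocallyOfFiniteType ((Red.bc t G).left ↘ Spec (CommRingCat.of k)) :=
    inferInstanceAs (LocallyOfFiniteType (Red.bc t G).hom)
  letI : ∀ b, Algebra k ((Red.bc t G).left.residueField b) := fun b => Curv2.resAlgebra k _ b
  obtain ⟨n, hn, -⟩ := Groth.L22.SchemeDim.exists_dim_closure_eq_trdeg k (Red.bc t G).left z₀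
  have hn' : Groth.L07.Equidim.fdim G.hom z = (n : WithBot ℕ∞) :=
    (Groth.L07.Equidim.fdim_fiberι G.hom s z₀).trans hn
  have hU1n : topologicalKrullDim ((U1 ∩ G.hom.base ⁻¹' {G.hom g} : Set G.left) : Set G.left) ≤
      (n : WithBot ℕ∞) := by
    rw [hgs, ← hrG, ← Set.image_preimage_eq_inter_range, hU1e, ← hn, hgen.def]
    exact ((Groth.L22.SchemeDim.topologicalKrullDim_eq_of_isEmbedding (heG.comp Topology.IsEmbedding.subtypeVal)
      (by rw [Set.range_comp, Subtype.range_coe])).le)
  obtain ⟨S', S'', -, w, π, h, hw, hπ, hπs, -, hh, s'', hs'', hhs, -⟩ := EGA145.exists_quasiSection G.hom g z hzg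
    (hzs.trans hgs.symm) hcl hopen n hn'.ge ⟨U1, hU1⟩ (hU1e.ge hgC) hU1n
  rw [hgs] at hs''
  refine ⟨S', S'', w, π, Over.homMk h hh, hw, hπ, hπs, ⟨s'', hs''⟩, fun y hy => ?_⟩
  let T := Over.mk (π ≫ w)
  let hT : T ⟶ G := Over.homMk h hh
  let m : (G ⊗ X).left := (lift (snd X T ≫ hT) (fst X T)).left y
  have hy' : (snd X T).left y = s'' := by
    have : (π ≫ w) ((snd X T).left y) = s := by
      have e1 := congrArg (fun m : _ ⟶ S => m y) ((Over.w (snd X T)).trans (Over.w (fst X T)).symm)
      exact e1.trans (hAs hy)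
    exact (hs''.le this : _ ∈ ({s''} : Set S''))
  have hm1 : (fst G X).left m = g := by
    show (fst G X).left ((lift (snd X T ≫ hT) (fst X T)).left y) = g
    rw [← Scheme.Hom.comp_apply, ← Over.comp_left, lift_fst, Over.comp_left, Scheme.Hom.comp_apply, hy']
    exact hhs
  have hm2 : (snd G X).left m ∈ A := by
    show (snd G X).left ((lift (snd X T ≫ hT) (fst X T)).left y) ∈ A
    rw [← Scheme.Hom.comp_apply, ← Over.comp_left, lift_snd]
    exact hy
  have hms : (G ⊗ X).hom m = s := by
    rw [← Over.w (fst G X), Scheme.Hom.comp_apply, hm1, hgs]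
  obtain ⟨m₀, hm₀⟩ : m ∈ Set.range (pullback.fst (G ⊗ X).hom t) :=
    ((G ⊗ X).hom.range_fiberι s).ge hms
  haveI : IsIso (Functor.LaxMonoidal.μ (Over.pullback t) G X).left :=
    inferInstanceAs (IsIso ((Over.forget _).map (Functor.LaxMonoidal.μ (Over.pullback t) G X)))
  obtain ⟨mk, hmk⟩ := (Functor.LaxMonoidal.μ (Over.pullback t) G X).left.surjective m₀
  have k1 : πG ((fst (Red.bc t G) (Red.bc t X)).left mk) = g := by
    rw [← Functor.Monoidal.μ_fst (Over.pullback t) G X, Over.comp_left, Scheme.Hom.comp_apply, hmk]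
    exact (map_fst t (fst G X) m₀).trans (hm₀.symm ▸ hm1)
  have k2 : πX ((snd (Red.bc t G) (Red.bc t X)).left mk) ∈ A := by
    rw [← Functor.Monoidal.μ_snd (Over.pullback t) G X, Over.comp_left, Scheme.Hom.comp_apply, hmk]
    exact (map_fst t (snd G X) m₀).symm ▸ hm₀.symm ▸ hm2
  have hr : πX ((a.bc t).act.left mk) ∈ U := H mk (heG.injective k1) k2
  rw [AlgGrp.Action.bc_act, Over.comp_left, Scheme.Hom.comp_apply, hmk] at hr
  show a.act.left m ∈ U
  rw [← hm₀]
  exact (map_fst t a.act m₀) ▸ hr

end Groth.Agent.S5402
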