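import Groth.Prelude.Def_SGA3x
import Groth.Prelude.Def_Red
import Groth.Prelude.Def_AlgGrp
import Groth.Prelude.Def_EGA43
import Groth.Prelude.Def_Flat
import Groth.Prelude.Def_ProCons
import Mathlib.AlgebraicGeometry.Morphisms.Flat
import Mathlib.AlgebraicGeometry.Morphisms.Smooth
import Mathlib.AlgebraicGeometry.Morphisms.Etale
import Mathlib.AlgebraicGeometry.Morphisms.ClosedImmersion
import Mathlib.AlgebraicGeometry.Morphisms.Separated
import Mathlib.AlgebraicGeometry.Morphisms.FinitePresentation
import Mathlib.AlgebraicGeometry.Morphisms.FiniteType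
import Mathlib.AlgebraicGeometry.Morphisms.QuasiCompact
import Mathlib.AlgebraicGeometry.Morphisms.QuasiFinite
import Mathlib.AlgebraicGeometry.Morphisms.FormallyUnramified
import Mathlib.AlgebraicGeometry.Morphisms.UniversallyOpen
import Mathlib.AlgebraicGeometry.Morphisms.UniversallyInjective
import Mathlib.AlgebraicGeometry.Morphisms.Integral
import Mathlib.AlgebraicGeometry.Fiber
import Mathlib.CategoryTheory.Limits.Shapes.Pullback.IsPullback.Defs
import Mathlib.Topology.KrullDimension
import Mathlib.Topology.Constructible
import Mathlib.Topology.LocallyConstant.Basic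
import Mathlib.Topology.Connected.Basic
import Mathlib.Topology.Semicontinuity.Defs
import Mathlib.RingTheory.Flat.Basic
import Mathlib.RingTheory.Artinian.Ring
import Mathlib.AlgebraicGeometry.Morphisms.Immersion
import Mathlib.RingTheory.FiniteType
import Mathlib.RingTheory.FinitePresentation
import Mathlib.RingTheory.Ideal.Quotient.Nilpotent
import Mathlib.Algebra.Module.Projective
import Mathlib.RingTheory.Spectrum.Prime.Topology
import Mathlib.CategoryTheory.Monoidal.CommGrp_
import Mathlib.CategoryTheory.Abelian.Basic
import Mathlib.CategoryTheory.ObjectProperty.FullSubcategory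
import Groth.Agent.L16.HomogComp.BaseChange
import Groth.Agent.L25.Actions
import Mathlib.AlgebraicGeometry.PullbackCarrier

set_option autoImplicit false
set_option linter.style.haveILetI false
namespace CartesianMonoidalCategory
end CartesianMonoidalCategory
namespace GrpObj
end GrpObj
namespace MonObj
end MonObj
namespace SGA3
end SGA3
set_option linter.style.haveILetI false
set_option backward.isDefEq.respectTransparency.types false
set_option backward.isDefEq.respectTransparency false
universe u
open CategoryTheory CategoryTheory.Limits MonoidalCategory CartesianMonoidalCategory MonObj GrpObj AlgebraicGeometry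
open SGA3

namespace Groth.Agent.S5403

/-- Let G be a group scheme over a field k (not assumed of finite type) acting on a quasi-separated
k-scheme X so that G ×_k X → X ×_k X, (g, x) ↦ (gx, x), is surjective, and let x be a k-rational
point of X and C the connected component of X containing x. Then the orbit morphism g ↦ g·x maps the
irreducible component of G containing the unit point (the underlying set of the neutral component
G⁰) onto C, and for every field extension K of k the inverse image of C in X ⊗_k K is irreducible. -/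
theorem result (k : Type u) [Field k] (G X : Over (Spec (CommRingCat.of k)))
    [GrpObj G] [QuasiSeparatedSpace X.left] (a : AlgGrp.Action G X) (hΦ : Surjective (lift a.act (snd G X)).left)
    (x : 𝟙_ (Over (Spec (CommRingCat.of k))) ⟶ X) (pt : ↥(𝟙_ (Over (Spec (CommRingCat.of k)))).left)
    (C0 : Set G.left) (hC0 : C0 ∈ irreducibleComponents ↥G.left) (he : η[G].left.base pt ∈ C0) :
    (a.orbitMap x).left.base '' C0 = connectedComponent (x.left.base pt) ∧
    ∀ (K : Type u) [Field K] [Algebra k K],
      IsIrreducible ((pullback.fst X.hom (Spec.map (CommRingCat.ofHom (algebraMap k K)))).base ⁻¹' connectedComponent (x.left.base pt)) := by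
  let p0 : X.left := x.left.base pt
  have hC : connectedComponent p0 ∈ irreducibleComponents ↥X.left := by
    refine ⟨⟨⟨p0, mem_connectedComponent⟩, Groth.L16.HomogComp.isPreirreducible_connectedComponent a hΦ p0⟩,
      fun Z hZ hle => hZ.isConnected.subset_connectedComponent (hle mem_connectedComponent)⟩
  refine ⟨?_, fun K _ _ => Groth.L16.HomogComp.isIrreducible_preimage a hΦ x pt hC mem_connectedComponent K⟩
  have hone : Groth.L25.Component.one G ∈ C0 := by
    rwa [show η[G].left.base pt = Groth.L25.Component.one G from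
      congrArg η[G].left (Subsingleton.elim (α := PrimeSpectrum k) _ _)] at he
  have eo : fst G (𝟙_ _) ≫ a.orbitMap x = (G ◁ x) ≫ a.act := by
    rw [AlgGrp.Action.orbitMap, ← Category.assoc]
    congr 1
    apply CartesianMonoidalCategory.hom_ext
    · simp
    · simp only [Category.assoc, lift_snd, whiskerLeft_snd]
      rw [← Category.assoc, toUnit_unique (fst G (𝟙_ _) ≫ toUnit G) (snd G (𝟙_ _))]
  refine Set.Subset.antisymm ?_ fun y hy => ?_
  · refine (hC0.1.isConnected.image _ (Scheme.Hom.continuous _).continuousOn).subset_connectedComponent ⟨_, he, ?_⟩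
    rw [← Scheme.Hom.comp_apply, ← Over.comp_left, AlgGrp.Action.orbitMap, ← Category.assoc, comp_lift,
      Category.comp_id, ← Category.assoc, toUnit_unique (η[G] ≫ toUnit G) (𝟙 _), Category.id_comp,
      MonObj.one_eq_one, Groth.L25.Actions.one_act]
  · let ξ := hC.1.genericPoint
    have hgen := hC.1.isGenericPoint_genericPoint (isClosed_of_mem_irreducibleComponents _ hC)
    have hξ : Groth.L22.GeomConn.IsMaxPt ξ := Groth.L22.GeomConn.isMaxPt_genericPoint _ hC
    obtain ⟨h₁, h11, h12, h1m⟩ := Groth.L16.HomogComp.exists_act_isMaxPt a hΦ hC0 hone p0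
    have e1 : ξ = a.act.left h₁ :=
      Groth.L16.HomogComp.eq_act a hC0 hone hξ (hgen.specializes mem_connectedComponent) h11 h12 h1m
    obtain ⟨h₂, h21, h22, h2m⟩ := Groth.L16.HomogComp.exists_act_isMaxPt a hΦ hC0 hone y
    have e2 : ξ = a.act.left h₂ := Groth.L16.HomogComp.eq_act a hC0 hone hξ (hgen.specializes hy) h21 h22 h2m
    obtain ⟨w, w1, w2, w3⟩ := Groth.L16.HomogComp.exists_swap a hC0 hone h₂ h21
    obtain ⟨q, hq1, hq2⟩ := Scheme.exists_preimage_of_isPullback
      (Groth.L25.Actions.isPullback_whiskerLeft_left G a.act) w h₁ (w2.trans (e2.symm.trans e1))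
    let P : G ⊗ (G ⊗ X) ⟶ G ⊗ G := lift (fst G (G ⊗ X)) (snd G (G ⊗ X) ≫ fst G X)
    let R : G ⊗ (G ⊗ X) ⟶ G ⊗ X := lift (P ≫ μ[G]) (snd G (G ⊗ X) ≫ snd G X)
    have hR : R ≫ a.act = (G ◁ a.act) ≫ a.act := by
      show lift (lift _ _ ≫ μ[G]) _ ≫ a.act = _
      rw [← Hom.mul_def, Groth.L25.Actions.mul_act]
      congr 1
      apply CartesianMonoidalCategory.hom_ext
      · simp
      · simp only [lift_snd, whiskerLeft_snd]
        rw [← comp_lift_assoc, lift_fst_snd, Category.id_comp]
    have hP1 : (fst G G).left (P.left q) ∈ C0 := by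
      rw [← Scheme.Hom.comp_apply, ← Over.comp_left, lift_fst, ← whiskerLeft_fst G a.act, Over.comp_left,
        Scheme.Hom.comp_apply, hq1]
      exact w1
    have hP2 : (snd G G).left (P.left q) ∈ C0 := by
      rw [← Scheme.Hom.comp_apply, ← Over.comp_left, lift_snd, Over.comp_left, Scheme.Hom.comp_apply, hq2]
      exact h11
    have hμ : μ[G].left (P.left q) ∈ C0 := by
      let a₀ : AlgGrp.Action G G := ⟨μ[G], MonObj.one_mul G, MonObj.mul_assoc G⟩
      have hg0 := hC0.1.isGenericPoint_genericPoint (isClosed_of_mem_irreducibleComponents _ hC0)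
      obtain ⟨z, hz1, hz2⟩ := Groth.L16.HomogComp.exists_lift a₀ hC0 hone
        (Groth.L22.GeomConn.isMaxPt_genericPoint _ hC0) (P.left q) hP1 (hg0.specializes hP2)
      exact hg0.def.le (hz1.trans hz2).mem_closure
    have hr1 : (fst G X).left (R.left q) ∈ C0 := by
      rw [← Scheme.Hom.comp_apply, ← Over.comp_left, lift_fst, Over.comp_left, Scheme.Hom.comp_apply]
      exact hμ
    have hr2 : (snd G X).left (R.left q) = p0 := by
      rw [← Scheme.Hom.comp_apply, ← Over.comp_left, lift_snd, Over.comp_left, Scheme.Hom.comp_apply, hq2]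
      exact h12
    obtain ⟨g, hg1, -⟩ := Scheme.exists_preimage_of_isPullback
      (Groth.L25.Actions.isPullback_whiskerLeft_left G x) (R.left q) pt hr2
    refine ⟨(fst G (𝟙_ _)).left g, ?_, ?_⟩
    · rw [← whiskerLeft_fst G x, Over.comp_left, Scheme.Hom.comp_apply, hg1]
      exact hr1
    · rw [← Scheme.Hom.comp_apply, ← Over.comp_left, eo, Over.comp_left, Scheme.Hom.comp_apply, hg1,
        ← Scheme.Hom.comp_apply, ← Over.comp_left, hR, Over.comp_left, Scheme.Hom.comp_apply, hq1, w3, h22]

end Groth.Agent.S5403
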