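import Groth.Statements.S5415
import Groth.Agent.S0086
import Groth.Agent.L15.KerFlat.Basic
import Groth.Agent.L25.Actions

set_option linter.style.haveILetI false

set_option autoImplicit false
universe u
open CategoryTheory MonoidalCategory CartesianMonoidalCategory MonObj GrpObj AlgebraicGeometry CategoryTheory.Limits
open SGA3x

namespace Groth.Agent.S5415

/-- Let G be an S-group scheme of finite presentation over S, p : G → G'' a homomorphism which is
surjective, flat and locally of finite presentation onto an S-group scheme G'' proper and of finite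
presentation over S, and i : G' → G its kernel, with G' flat and of finite presentation over S. Let
H be an S-group scheme which is of finite presentation over S, or locally of finite presentation
over a locally Noetherian S, and u : G → H a homomorphism. If the restriction u ∘ i of u to G' is
proper, then u is proper. -/
theorem result (S : Scheme.{u}) (G G' G'' : Over S) [GrpObj G] [GrpObj G'] [GrpObj G'']
    [QuasiCompact G.hom] [QuasiSeparated G.hom] [LocallyOfFinitePresentation G.hom]
    [IsProper G''.hom] [LocallyOfFinitePresentation G''.hom]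
    [Flat G'.hom] [QuasiCompact G'.hom] [QuasiSeparated G'.hom] [LocallyOfFinitePresentation G'.hom]
    (p : G ⟶ G'') [IsMonHom p] [Surjective p.left] [Flat p.left] [LocallyOfFinitePresentation p.left]
    (i : G' ⟶ G) [IsMonHom i] (hker : AlgGrp.IsKernel i p)
    (H : Over S) [GrpObj H] [LocallyOfFinitePresentation H.hom]
    (hH : (QuasiCompact H.hom ∧ QuasiSeparated H.hom) ∨ IsLocallyNoetherian S)
    (u : G ⟶ H) [IsMonHom u] (hu : IsProper (i ≫ u).left) : IsProper u.left := by
  haveI : MorphismProperty.DescendsAlong @IsProper (@Surjective ⊓ @Flat ⊓ @QuasiCompact : MorphismProperty Scheme.{u}) :=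
    Groth.Agent.S0086.result
  haveI : QuasiCompact (p.left ≫ G''.hom) := (Over.w p).symm ▸ ‹QuasiCompact G.hom›
  haveI : QuasiCompact p.left := QuasiCompact.of_comp p.left G''.hom
  let v : G ⟶ H ⊗ G'' := lift u p
  let μ' : G ⊗ G' ⟶ G := fst G G' * (snd G G' ≫ i)
  let h : G ⊗ G' ⟶ H ⊗ G := lift (μ' ≫ u) (fst G G')
  let φ : H ⊗ G ⟶ H ⊗ G := lift ((snd H G ≫ u) * fst H G) (snd H G)
  haveI : IsIso φ := by
    refine ⟨lift ((snd H G ≫ u)⁻¹ * fst H G) (snd H G), ?_, ?_⟩
    all_goals
      apply CartesianMonoidalCategory.hom_ext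
      · simp [φ, MonObj.comp_mul, GrpObj.comp_inv]
      · simp [φ]
  haveI : IsIso φ.left := inferInstanceAs (IsIso ((Over.forget S).map φ))
  let w : G ⊗ G' ⟶ H ⊗ G := lift (snd G G' ≫ i ≫ u) (fst G G')
  have hh : h = w ≫ φ := by
    apply CartesianMonoidalCategory.hom_ext <;>
      simp [h, w, φ, μ', MonObj.mul_comp, MonObj.comp_mul, ← Category.assoc]
  haveI : IsProper w.left := by
    let sw : G ⊗ H ⟶ H ⊗ G := lift (snd G H) (fst G H)
    haveI : IsIso sw := by
      refine ⟨lift (snd H G) (fst H G), ?_, ?_⟩ <;> apply CartesianMonoidalCategory.hom_ext <;> simp [sw]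
    haveI : IsIso sw.left := inferInstanceAs (IsIso ((Over.forget S).map sw))
    haveI : IsProper (G ◁ (i ≫ u)).left := Groth.L25.Actions.of_whiskerLeft @IsProper G (i ≫ u) hu
    rw [show w = (G ◁ (i ≫ u)) ≫ sw from by apply CartesianMonoidalCategory.hom_ext <;> simp [w, sw], Over.comp_left]
    infer_instance
  haveI hhP : IsProper h.left := by rw [hh, Over.comp_left]; infer_instance
  have sq : IsPullback h μ' (H ◁ p) v := by
    refine IsPullback.of_right ?_ ?_ (Groth.L25.GrpBasics.isPullback_whiskerLeft H p).flip
    · rw [show h ≫ snd H G = fst G G' from lift_snd _ _, show v ≫ snd H G'' = p from lift_snd _ _]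
      exact Groth.L15.KerFlat.isPullback_kernelPair hker
    · have hk := (Groth.L15.KerFlat.isPullback_kernelPair hker).w
      apply CartesianMonoidalCategory.hom_ext
      · simp [h, v, μ']
      · simp [h, v]
        simpa [μ'] using hk
  haveI : IsProper v.left := MorphismProperty.of_isPullback_of_descendsAlong (P := @IsProper)
    (Q := @Surjective ⊓ @Flat ⊓ @QuasiCompact) (sq.map (Over.forget S))
    ⟨⟨Groth.L25.Actions.of_whiskerLeft @Surjective H p ‹_›, Groth.L25.Actions.of_whiskerLeft @Flat H p ‹_›⟩,
      Groth.L25.Actions.of_whiskerLeft @QuasiCompact H p ‹_›⟩ hhP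
  haveI : IsProper (fst H G'').left := MorphismProperty.pullback_fst H.hom G''.hom ‹_›
  rw [show u = v ≫ fst H G'' from (lift_fst _ _).symm, Over.comp_left]
  infer_instance

end Groth.Agent.S5415
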