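import Groth.Statements.S5416
import Groth.Agent.L24.Mono.Over
-- import your own Groth.Agent.* helpers here

set_option autoImplicit false
universe u
open CategoryTheory MonoidalCategory CartesianMonoidalCategory MonObj GrpObj AlgebraicGeometry CategoryTheory.Limits
open SGA3x

namespace Groth.Agent.S5416

/-- Let G be an S-group scheme locally of finite presentation over S acting on an S-scheme X, ξ a
section of X over S, and h : H → G the stabilizer of ξ (the cartesian square of the orbit map of ξ
against ξ), assumed flat over S. Suppose X is locally of finite type over S, or S locally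
Noetherian. Then the homogeneous space G/H is representable: there are an S-scheme Q, locally of
finite presentation over S, and q : G → Q representing the fppf quotient of G by H, and the orbit
map g ↦ g · ξ factors as q followed by a monomorphism Q → X. -/
theorem result (S : Scheme.{u}) (G X : Over S) [GrpObj G] [LocallyOfFinitePresentation G.hom] (a : AlgGrp.Action G X)
    (ξ : 𝟙_ (Over S) ⟶ X) (H : Over S) [GrpObj H] (h : H ⟶ G) [IsMonHom h]
    (hH : IsPullback h (toUnit H) (a.orbitMap ξ) ξ) [Flat H.hom]
    (hX : LocallyOfFiniteType X.hom ∨ IsLocallyNoetherian S) :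
    ∃ (Q : Over S) (q : G ⟶ Q), RedSub.IsQuotient h q ∧ LocallyOfFinitePresentation Q.hom ∧
      ∃ m : Q ⟶ X, Mono m ∧ q ≫ m = a.orbitMap ξ := by
  let j := h
  have ho : ∀ {T : Over S} (g : T ⟶ G), g ≫ a.orbitMap ξ = lift g (toUnit T ≫ ξ) ≫ a.act := fun g => by
    rw [AlgGrp.Action.orbitMap, comp_lift_assoc, Category.comp_id, comp_toUnit_assoc]
  have hmul : ∀ {T : Over S} (g : T ⟶ G) (k : T ⟶ H),
      lift g k ≫ (G ◁ j) ≫ μ[G] = g * (k ≫ j) := fun g k => by
    rw [lift_whiskerLeft_assoc, Hom.mul_def]
  have hfix : ∀ {T : Over S} (k : T ⟶ H),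
      lift (k ≫ j) (toUnit T ≫ ξ) ≫ a.act = toUnit T ≫ ξ := fun k => by
    rw [← ho, Category.assoc, hH.w, ← Category.assoc]
    congr 1
    exact toUnit_unique _ _
  have sq : IsPullback ((G ◁ j) ≫ μ[G]) (fst G (H)) (a.orbitMap ξ) (a.orbitMap ξ) := by
    refine IsPullback.mk' ?_ (fun T φ ψ h₁ h₂ => ?_) (fun T u v e => ?_)
    · have e := hmul (fst G (H)) (snd G _)
      rw [lift_fst_snd, Category.id_comp] at e
      rw [e, ho, ho, Groth.L25.Actions.mul_act, hfix]
    · apply CartesianMonoidalCategory.hom_ext
      · exact h₂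
      · apply hH.hom_ext
        · have e₁ : ∀ χ : T ⟶ G ⊗ H,
              χ ≫ (G ◁ j) ≫ μ[G] = (χ ≫ fst _ _) * ((χ ≫ snd _ _) ≫ j) := fun χ => by
            rw [← hmul, lift_comp_fst_snd]
          rw [e₁, e₁, h₂] at h₁
          exact mul_left_cancel h₁
        · exact toUnit_unique _ _
    · have e' : (v⁻¹ * u) ≫ a.orbitMap ξ = toUnit T ≫ ξ := by
        rw [ho, Groth.L25.Actions.mul_act, ← ho u, e, ho v, Groth.L25.Actions.inv_act]
      refine ⟨lift v (hH.lift (v⁻¹ * u) (toUnit T) e'), ?_, lift_fst _ _⟩
      rw [hmul, hH.lift_fst, mul_inv_cancel_left]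
  haveI : LocallyOfFiniteType ξ.left := by
    have : LocallyOfFiniteType (ξ.left ≫ X.hom) := by rw [Over.w]; exact inferInstanceAs (LocallyOfFiniteType (𝟙 S))
    exact locallyOfFiniteType_of_comp ξ.left X.hom
  have hHp : LocallyOfFinitePresentation H.hom := by
    rcases hX with hX | hS
    · haveI := hX
      have ho : LocallyOfFinitePresentation (a.orbitMap ξ).left := by
        have : LocallyOfFinitePresentation ((a.orbitMap ξ).left ≫ X.hom) := by rw [Over.w]; infer_instance
        exact Groth.L23.lfp_of_comp_lft _ X.hom this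
      have : LocallyOfFinitePresentation (toUnit H).left :=
        MorphismProperty.of_isPullback (P := @LocallyOfFinitePresentation) (hH.map (Over.forget S)) ho
      rwa [Over.toUnit_left] at this
    · haveI := hS
      haveI : LocallyOfFiniteType h.left :=
        MorphismProperty.of_isPullback (P := @LocallyOfFiniteType) (hH.map (Over.forget S)).flip ‹_›
      haveI : LocallyOfFiniteType H.hom := by rw [← Over.w h]; infer_instance
      exact LocallyOfFinitePresentation.iff_locallyOfFiniteType.2 inferInstance
  obtain ⟨Q, p, i, hpi, hs, hf, hp, hm, hQ, hpb⟩ := Groth.L24.MonoFac.exists_factor_over' (a.orbitMap ξ) sq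
    (MorphismProperty.of_isPullback (P := @Flat) (Groth.L25.Actions.isPullback_snd G _).flip ‹_›)
    (MorphismProperty.of_isPullback (P := @LocallyOfFinitePresentation) (Groth.L25.Actions.isPullback_snd G _).flip hHp)
  exact ⟨Q, p, ⟨hs, hf, hp, hpb.flip⟩, hQ, i, hm, hpi⟩

end Groth.Agent.S5416
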