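import Groth.Statements.S5420
import Groth.Agent.L25.Locus.Fixed
import Groth.Agent.L25.Locus.FixedConn

set_option autoImplicit false
universe u
open CategoryTheory MonoidalCategory CartesianMonoidalCategory MonObj GrpObj AlgebraicGeometry CategoryTheory.Limits
open Red

namespace Groth.Agent.S5420

/-- Let S be a scheme, Q an S-torus acting on an S-group scheme H by group automorphisms (on points, q ·
(h h') = (q · h)(q · h')), with H separated and smooth over S. (i) The functor of invariants H^Q
(points of H fixed by all points of Q after any base change) is representable by a closed subscheme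
F of H which is smooth over S. (ii) If moreover H is affine over S with connected fibres, then F is
affine over S with connected fibres. -/
theorem result (S : Scheme.{u}) (Q H : Over S) [GrpObj Q] [GrpObj H] (hQ : Red.IsTorus Q)
    [IsSeparated H.hom] [Smooth H.hom] (a : AlgGrp.Action Q H)
    (hmul : ∀ (X : Over S) (q : X ⟶ Q) (h h' : X ⟶ H),
      lift q (h * h') ≫ a.act = (lift q h ≫ a.act) * (lift q h' ≫ a.act)) :
    ∃ (F : Over S) (f : F ⟶ H), IsClosedImmersion f.left ∧ Smooth F.hom ∧
      (∀ (X : Over S) (h : X ⟶ H), (∃ x : X ⟶ F, x ≫ f = h) ↔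
        ∀ (X' : Over S) (g : X' ⟶ X) (q : X' ⟶ Q), lift q (g ≫ h) ≫ a.act = g ≫ h) ∧
      (IsAffineHom H.hom → (∀ s : S, _root_.IsConnected (H.hom.base ⁻¹' {s})) →
        IsAffineHom F.hom ∧ ∀ s : S, _root_.IsConnected (F.hom.base ⁻¹' {s})) := by
  have hQ' : TwC.Locally S TwC.Topology.fpqc (fun S' f => ∃ (M : Type) (_ : AddCommGroup M),
      Nonempty (Grp.mk (Red.bc f Q) ≅ Grp.mk (Red.DS S' M))) := by
    obtain ⟨S', f, h1, h2, h3, h4⟩ := hQ
    refine ⟨S', f, h1, h2, h3, fun s => ?_⟩
    obtain ⟨U, hU, r, e⟩ := h4 s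
    exact ⟨U, hU, _, inferInstance, e⟩
  obtain ⟨F, i, hi, hl, hF⟩ := Groth.L25.Locus.exists_fixedLocus a hQ'
  haveI := hi
  haveI : LocallyOfFinitePresentation i.left := hl inferInstance
  haveI : Mono ((Over.forget S).map i) := inferInstanceAs (Mono i.left)
  haveI : Mono i := (Over.forget S).mono_of_mono_map this
  refine ⟨F, i, hi, Groth.L25.Locus.smooth_fixedLocus a hQ' i hF, fun X h => hF X h, fun hA hc => ?_⟩
  haveI := hA
  refine ⟨?_, fun s => Groth.L25.Locus.isConnected_fibre_fixed hQ a hmul i (fun X h => hF X h) s (hc s)⟩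
  rw [← Over.w i]
  infer_instance

end Groth.Agent.S5420
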