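import Groth.Statements.S5426
import Groth.Agent.L01.Unip.NoMu
import Groth.Agent.L08.CartierRed

set_option autoImplicit false
universe u
open TensorProduct
open SGA3t2b

namespace Groth.Agent.S5426

/-- Let k be an algebraically closed field and A a finitely generated commutative Hopf algebra over k.
Then G = Spec A is unipotent (fixed-vector form) if and only if for every prime n there is no closed
subgroup of G isomorphic to μ_n (no surjective bialgebra map from A onto the group algebra k[ℤ/n]).
(The published statement is for an arbitrary algebraic group; this row treats affine groups only,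
and a unipotent group is affine.) -/
theorem result (k : Type u) [Field k] [IsAlgClosed k] (A : Type u) [CommRing A] [HopfAlgebra k A] [Algebra.FiniteType k A] :
    HopfRep.IsUnipotent k A ↔
      ∀ n : ℕ, n.Prime → (¬ ∃ φ : A →ₐc[k] MonoidAlgebra k (Multiplicative (ZMod n)), Function.Surjective φ) := by
  refine ⟨fun hU n hn => Groth.L01.Unip.noMu_of_isUnipotent hU hn, fun h => ?_⟩
  rcases CharP.exists k with ⟨q, hq⟩
  rcases CharP.char_is_prime_or_zero k q with hp | rfl
  · haveI := Fact.mk hp
    obtain ⟨r, hr⟩ := Groth.L01.Unip.exists_nil_bound q k A
    exact Groth.L01.Unip.isUnipotent_of_noMu q r A hr (h q hp) (Or.inr h)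
  · haveI : CharZero k := CharP.charP_to_charZero k
    haveI : IsReduced A := Groth.L08.CartierRed.isReduced_of_charZero (k := k) (A := A)
    exact Groth.L01.Unip.isUnipotent_of_points fun g => (Groth.L01.Unip.isUnipPt_pow g).2 h

end Groth.Agent.S5426
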