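import Groth.Statements.S5424
import Groth.Agent.L24.TorusField.Hopf
import Groth.Agent.L24.Count.UnipScheme
import Groth.Agent.S5426
import Groth.Agent.L24.Count.StabGroup
import Groth.Agent.S7951
import Groth.Agent.S18071
import Groth.Agent.L24.BorelPair.GeomTorus

set_option autoImplicit false
set_option backward.isDefEq.respectTransparency.types false
universe u
open TensorProduct
open SGA3t2b

namespace Groth.Agent.S5424

set_option backward.isDefEq.respectTransparency false
set_option backward.isDefEq.respectTransparency.types false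

open CategoryTheory AlgebraicGeometry MonoidalCategory CartesianMonoidalCategory MonObj

/-- (i) ⟺ (iv) ⟺ (v): let k be a field with algebraic closure k̄ and A a finitely generated commutative
Hopf algebra over k which is formally smooth and has no idempotents other than 0 and 1 (a smooth
connected affine algebraic group G). Then the following are equivalent: (i) G is unipotent
(fixed-vector form); (iv) there is an integer n > 1 such that G_{k̄} contains no closed subgroup
isomorphic to μ_n (no surjective bialgebra map from k̄ ⊗ A onto the group algebra k̄[ℤ/n]); (v)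
every subtorus of G is trivial (every Hopf quotient of A which is the algebra of a torus is k
itself). (The published condition (v) concerns maximal tori; since every torus lies in a maximal
one, this row's condition on all subtori is equivalent.) -/
theorem result (k : Type u) [Field k] (A : Type u) [CommRing A] [HopfAlgebra k A] [Algebra.FiniteType k A]
    [Algebra.FormallySmooth k A] (hconn : ∀ e : A, IsIdempotentElem e → e = 0 ∨ e = 1) :
    (HopfRep.IsUnipotent k A ↔
      ∃ n : ℕ, 1 < n ∧ ¬ ∃ φ : (AlgebraicClosure k ⊗[k] A) →ₐc[AlgebraicClosure k]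
        MonoidAlgebra (AlgebraicClosure k) (Multiplicative (ZMod n)), Function.Surjective φ) ∧
    (HopfRep.IsUnipotent k A ↔
      ∀ (B : Type u) [CommRing B] [HopfAlgebra k B] (φ : A →ₐc[k] B), Function.Surjective φ →
        SGA3b.IsTorus k B → Function.Bijective (algebraMap k B)) := by
  let Lb := AlgebraicClosure k
  let θ := Spec.map (CommRingCat.ofHom (algebraMap k (AlgebraicClosure k)))
  haveI : ConnectedSpace (PrimeSpectrum A) := by
    haveI : Nontrivial A := (Bialgebra.counitAlgHom k A).toRingHom.domain_nontrivial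
    haveI : PreconnectedSpace (PrimeSpectrum A) := by
      refine preconnectedSpace_iff_clopen.2 fun S hS => ?_
      obtain ⟨e, he, rfl⟩ := PrimeSpectrum.isClopen_iff.1 hS
      rcases hconn e he with rfl | rfl
      · left; simp
      · right; simp
    exact ⟨inferInstance⟩
  haveI : ConnectedSpace (Groth.L25.Bridge.P k A).left := inferInstanceAs (ConnectedSpace (PrimeSpectrum A))
  haveI : Algebra.FinitePresentation k A := Algebra.FinitePresentation.of_finiteType.1 inferInstance
  haveI : Algebra.Smooth k A := ⟨inferInstance, inferInstance⟩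
  haveI hsm : AlgebraicGeometry.Smooth (Groth.L25.Bridge.P k A).hom := by
    show AlgebraicGeometry.Smooth (Spec.map (CommRingCat.ofHom (algebraMap k A)))
    rw [HasRingHomProperty.Spec_iff (P := @AlgebraicGeometry.Smooth), CommRingCat.hom_ofHom]
    exact RingHom.smooth_algebraMap.2 inferInstance
  have h12 : HopfRep.IsUnipotent k A → ∃ n : ℕ, 1 < n ∧ ¬ ∃ φ : (AlgebraicClosure k ⊗[k] A) →ₐc[AlgebraicClosure k]
      MonoidAlgebra (AlgebraicClosure k) (Multiplicative (ZMod n)), Function.Surjective φ := fun h =>
    ⟨2, one_lt_two, (Groth.Agent.S5426.result Lb (Lb ⊗[k] A)).1 ((Groth.Agent.S7951.result k Lb A).1 h) 2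
      Nat.prime_two⟩
  have h23 : (∃ n : ℕ, 1 < n ∧ ¬ ∃ φ : (AlgebraicClosure k ⊗[k] A) →ₐc[AlgebraicClosure k]
      MonoidAlgebra (AlgebraicClosure k) (Multiplicative (ZMod n)), Function.Surjective φ) →
      ∀ (B : Type u) [CommRing B] [HopfAlgebra k B] (φ : A →ₐc[k] B), Function.Surjective φ →
        SGA3b.IsTorus k B → Function.Bijective (algebraMap k B) := by
    rintro ⟨m, hm, hno⟩ B _ _ φ hφ hB
    obtain ⟨r, ⟨d⟩⟩ := Groth.L24.TorusField.exists_laurent_closure (Groth.L24.TorusField.isTorus_P_of_sga3b hB)
    rcases Nat.eq_zero_or_pos r with rfl | hr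
    · have h1 : Module.finrank k B = 1 := by
        let eB : Lb ⊗[k] B ≃ₗ[Lb] MonoidAlgebra Lb (Multiplicative (Fin 0 → ℤ)) := d.toAlgEquiv.toLinearEquiv
        rw [← Module.finrank_baseChange (R := Lb) (S := k) (M' := B), eB.finrank_eq,
          (MonoidAlgebra.coeffLinearEquiv Lb).finrank_eq,
          Module.finrank_eq_card_basis
            (Finsupp.basisSingleOne : Module.Basis (Multiplicative (Fin 0 → ℤ)) Lb _)]
        exact Fintype.card_unique
      haveI : Nontrivial B := (Bialgebra.counitAlgHom k B).toRingHom.domain_nontrivial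
      haveI : Module.Finite k B := Module.finite_of_finrank_eq_succ h1
      have hinj : Function.Injective (Algebra.linearMap k B) := (algebraMap k B).injective
      exact ⟨hinj, (LinearMap.injective_iff_surjective_of_finrank_eq_finrank
        (by rw [h1, Module.finrank_self])).1 hinj⟩
    · exact absurd (Groth.L24.TorusField.exists_mu_quotient hr m φ hφ d) hno
  have h31 : (∀ (B : Type u) [CommRing B] [HopfAlgebra k B] (φ : A →ₐc[k] B), Function.Surjective φ →
      SGA3b.IsTorus k B → Function.Bijective (algebraMap k B)) → HopfRep.IsUnipotent k A := by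
    intro h
    have hk : Red.HasNoSubtorus k (Groth.L25.Bridge.P k A) := by
      intro T _ j _ _ hT
      haveI := Groth.L24.BorelPair.isAffine_of_isTorus hT
      obtain ⟨B, _, _, ⟨e⟩⟩ := Groth.L25.Bridge.exists_hopf (R := k) T
      let eT : T ≅ Groth.L25.Bridge.P k B := (Grp.forget _).mapIso e
      haveI : IsMonHom eT.inv := e.inv.hom.isMonHom_hom
      obtain ⟨φ, hφ⟩ := Groth.L08.TorusQuot.exists_sp (eT.inv ≫ j)
      haveI : Mono (Groth.L08.TorusQuot.sp φ) := by rw [hφ]; exact mono_comp _ _
      have hB : Red.IsTorus (Groth.L25.Bridge.P k B) := Groth.L25.TorLift.isTorus_of_iso e hT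
      haveI : IsAffineHom (Groth.L25.Bridge.P k A).hom := inferInstance
      haveI hcl : IsClosedImmersion (Groth.L08.TorusQuot.sp φ).left :=
        Groth.L25.MonoClosed.isClosedImmersion_of_mono (Groth.L25.Locus.isMultTypeFT_of_isTorus hB) _
      have hsur : Function.Surjective φ := by
        rw [Groth.L08.TorusQuot.sp_left] at hcl
        exact @Groth.L24.Count.surjective_of_isClosedImmersion _ _ _ _ (φ : A →+* B) hcl
      have hbij := h B φ hsur (Groth.L24.TorusField.sga3b_of_isTorus_P hB)
      haveI : IsIso (CommRingCat.ofHom (algebraMap k B)) := (ConcreteCategory.isIso_iff_bijective _).2 hbij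
      haveI : IsIso (Groth.L25.Bridge.P k B).hom :=
        inferInstanceAs (IsIso (Spec.map (CommRingCat.ofHom (algebraMap k B))))
      haveI : IsIso eT.hom.left := inferInstanceAs (IsIso ((Over.forget _).map eT.hom))
      show IsIso T.hom
      rw [← Over.w eT.hom]
      infer_instance
    haveI : IsAffineHom (Groth.L25.Bridge.P k A).hom := inferInstance
    have hkL := (Groth.Agent.S18071.result k (Groth.L25.Bridge.P k A)).1 hk
    let eb := Groth.L25.Bridge.bcIso k A Lb
    let e1 : Red.bc θ (Groth.L25.Bridge.P k A) ≅ Groth.L25.Bridge.P Lb (Lb ⊗[k] A) := (Grp.forget _).mapIso eb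
    haveI : IsMonHom e1.inv := eb.inv.hom.isMonHom_hom
    haveI : IsIso e1.inv.left := inferInstanceAs (IsIso ((Over.forget _).map e1.inv))
    haveI : AlgebraicGeometry.Smooth (Red.bc θ (Groth.L25.Bridge.P k A)).hom :=
      inferInstanceAs (AlgebraicGeometry.Smooth (Limits.pullback.snd (Groth.L25.Bridge.P k A).hom θ))
    haveI hsmL : AlgebraicGeometry.Smooth (Groth.L25.Bridge.P Lb (Lb ⊗[k] A)).hom := by
      rw [← Over.w e1.inv]; infer_instance
    haveI : _root_.IsReduced (Lb ⊗[k] A) :=
      (affine_isReduced_iff (CommRingCat.of (Lb ⊗[k] A))).1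
        (@Groth.Agent.AV.isReduced_of_smooth_field Lb _ _
          (Spec.map (CommRingCat.ofHom (algebraMap Lb (Lb ⊗[k] A)))) hsmL)
    haveI : IsDomain (Lb ⊗[k] A) := Groth.L01.MultConj.isDomain_of_connected hconn
    haveI : ConnectedSpace (Groth.L25.Bridge.P Lb (Lb ⊗[k] A)).left :=
      inferInstanceAs (ConnectedSpace (PrimeSpectrum (Lb ⊗[k] A)))
    exact (Groth.Agent.S7951.result k Lb A).2 (Groth.L24.Count.isUnipotent_of_noSubtorus
      (fun e he => IsIdempotentElem.iff_eq_zero_or_one.1 he) fun T _ j _ _ hT => hkL T (j ≫ e1.inv) hT)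
  exact ⟨⟨h12, fun h => h31 (h23 h)⟩, ⟨fun h => h23 (h12 h), h31⟩⟩

end Groth.Agent.S5424
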