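import Groth.Statements.S5427
import Groth.Agent.L25.SplitSub.Image
import Groth.Agent.L25.MonoClosed.Main
import Groth.Agent.L25.TorusTorsion
import Mathlib.RingTheory.SimpleModule.Basic
import Mathlib.RingTheory.ZMod

set_option autoImplicit false
universe u
set_option backward.isDefEq.respectTransparency.types false
open CategoryTheory MonoidalCategory CartesianMonoidalCategory MonObj GrpObj AlgebraicGeometry CategoryTheory.Limits
open Red

namespace Groth.Agent.S5427

/-- Let S be a scheme and G = D_S(M) a diagonalizable S-group of finite type, M a non-trivial finitely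
generated commutative group. Then there are a prime number r and a closed subgroup of G isomorphic
to (μ_r)_S: a homomorphism of S-groups D_S(ℤ/r) → D_S(M) which is a closed immersion. -/
theorem result (S : Scheme.{u}) (M : Type) [AddCommGroup M] [AddGroup.FG M] [Nontrivial M] :
    ∃ (r : ℕ) (_ : r.Prime) (j : Red.DS S (ZMod r) ⟶ Red.DS S M), IsMonHom j ∧ IsClosedImmersion j.left := by
  haveI : Module.Finite ℤ M := Module.Finite.iff_addGroup_fg.2 inferInstance
  obtain ⟨N, hN⟩ : ∃ N : Submodule ℤ M, IsCoatom N := by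
    obtain h | ⟨N, hN, -⟩ := eq_top_or_exists_le_coatom (⊥ : Submodule ℤ M)
    · exact absurd h bot_ne_top
    · exact ⟨N, hN⟩
  haveI : IsSimpleModule ℤ (M ⧸ N) := isSimpleModule_iff_isCoatom.2 hN
  obtain ⟨I, hI, ⟨e⟩⟩ := isSimpleModule_iff_quot_maximal.1 ‹IsSimpleModule ℤ (M ⧸ N)›
  obtain ⟨a, rfl⟩ : ∃ a, I = Ideal.span {a} := ⟨_, (Ideal.span_singleton_generator I).symm⟩
  have hr : a.natAbs.Prime := by
    have ha : a ≠ 0 := fun h0 => by
      have hp := Ring.ne_bot_of_isMaximal_of_not_isField hI Int.not_isField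
      exact hp (by rw [h0, Ideal.span_singleton_eq_bot])
    exact Int.prime_iff_natAbs_prime.1 ((Ideal.span_singleton_prime ha).1 hI.isPrime)
  haveI : NeZero a.natAbs := ⟨hr.ne_zero⟩
  haveI : Module.Finite ℤ (ZMod a.natAbs) := Module.Finite.of_finite
  let e' : (M ⧸ N) ≃+ ZMod a.natAbs := e.toAddEquiv.trans (Int.quotientSpanEquivZMod a).toAddEquiv
  let p : M →+ ZMod a.natAbs := e'.toAddMonoidHom.comp N.mkQ.toAddMonoidHom
  have hp : Function.Surjective p := e'.surjective.comp N.mkQ_surjective
  haveI := Groth.L25.TorusTorsion.isMonHom_DSmap S p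
  haveI := Groth.L25.SplitSub.mono_DSmap (S := S) p hp
  haveI : IsAffineHom (Red.DS S M).hom :=
    MorphismProperty.pullback_snd _ _ (inferInstanceAs (IsAffineHom (Spec.map _)))
  haveI : Monoid.FG (Multiplicative M) := AddMonoid.fg_iff_mul_fg.1 (AddGroup.fg_iff_addMonoid_fg.1 inferInstance)
  haveI : LocallyOfFiniteType (Red.DS S M).hom := MorphismProperty.pullback_snd _ _ (by
    show LocallyOfFiniteType (Spec.map (CommRingCat.ofHom (algebraMap (ULift.{u} ℤ) _)))
    rw [HasRingHomProperty.Spec_iff (P := @LocallyOfFiniteType), CommRingCat.hom_ofHom,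
      RingHom.finiteType_algebraMap]
    infer_instance)
  exact ⟨a.natAbs, hr, Red.DSmap S p, inferInstance, Groth.L25.MonoClosed.isClosedImmersion_DS _⟩

end Groth.Agent.S5427
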