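import Groth.Statements.S5436
import Groth.Agent.L08.BiratHom.Main
-- import your own Groth.Agent.* helpers here

set_option autoImplicit false
set_option backward.isDefEq.respectTransparency.types false
set_option linter.style.haveILetI false
universe u
open CategoryTheory MonoidalCategory CartesianMonoidalCategory MonObj GrpObj AlgebraicGeometry CategoryTheory.Limits
open SGA3x

namespace Groth.Agent.S5436

/-- Let G be an S-group scheme, flat and locally of finite presentation over S, U an open subscheme of G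
schematically dense in G relative to S, H an S-group scheme and f̄ : U → H an S-morphism. Let V be
an open of G ×_S G contained in (U ×_S U) ∩ m⁻¹(U) and schematically dense in G ×_S G relative to S,
such that for every S-scheme X and all X-points a, b of U with (a, b) in V, the product ab (a point
of U) satisfies f̄(ab) = f̄(a) f̄(b). Then there is a unique homomorphism of S-groups f : G → H
whose restriction to U is f̄. (The published statement also covers certain sheaves of groups H for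
the fppf topology that are not schemes; this row takes H a group scheme.) -/
theorem result (S : Scheme.{u}) (G H : Over S) [GrpObj G] [GrpObj H] [Flat G.hom] [LocallyOfFinitePresentation G.hom]
    (U : G.left.Opens) (hU : (∀ (S' : Scheme.{u}) (g : S' ⟶ S), CInt.IsSchematicallyDense ((pullback.fst G.hom g) ⁻¹ᵁ U)))
    (jU : Over.mk (U.ι ≫ G.hom) ⟶ G) (hjU : jU.left = U.ι) (fbar : Over.mk (U.ι ≫ G.hom) ⟶ H)
    (V : (G ⊗ G).left.Opens) (hV : (∀ (S' : Scheme.{u}) (g : S' ⟶ S), CInt.IsSchematicallyDense ((pullback.fst (G ⊗ G).hom g) ⁻¹ᵁ V)))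
    (hV1 : V ≤ (fst G G).left ⁻¹ᵁ U) (hV2 : V ≤ (snd G G).left ⁻¹ᵁ U) (hVm : V ≤ μ[G].left ⁻¹ᵁ U)
    (hmul : ∀ (X : Over S) (a b : X ⟶ Over.mk (U.ι ≫ G.hom)),
      Set.range (lift (a ≫ jU) (b ≫ jU)).left.base ⊆ (V : Set ↥(G ⊗ G).left) →
      ∃ c : X ⟶ Over.mk (U.ι ≫ G.hom), c ≫ jU = (a ≫ jU) * (b ≫ jU) ∧ c ≫ fbar = (a ≫ fbar) * (b ≫ fbar)) :
    ∃! f : G ⟶ H, IsMonHom f ∧ jU ≫ f = fbar := by
  have hjU' : jU = Groth.L08.BiratHom.incl U := Over.OverMorphism.ext hjU
  subst hjU'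
  refine Groth.L08.BiratHom.existsUnique_hom (φ := fbar) hU ?_
  intro X a b ha hb hab
  -- the open of pairs with product in `U`
  let P : (G ⊗ G).left.Opens := (fst G G).left ⁻¹ᵁ U ⊓ (snd G G).left ⁻¹ᵁ U ⊓ μ[G].left ⁻¹ᵁ U
  let p₁ := Groth.L08.BiratHom.incl P ≫ fst G G
  let p₂ := Groth.L08.BiratHom.incl P ≫ snd G G
  have h₁ : Groth.L08.BiratHom.InOp U p₁ := fun z => z.2.1.1
  have h₂ : Groth.L08.BiratHom.InOp U p₂ := fun z => z.2.1.2
  have hμ : Groth.L08.BiratHom.incl P ≫ μ[G] = p₁ * p₂ := by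
    rw [← MonObj.comp_mul, show fst G G * snd G G = μ[G] by rw [Hom.mul_def, lift_fst_snd, Category.id_comp]]
  have h₃ : Groth.L08.BiratHom.InOp U (p₁ * p₂) := hμ ▸ fun z => z.2.2
  have key : Groth.L08.BiratHom.val U fbar (p₁ * p₂) h₃ =
      Groth.L08.BiratHom.val U fbar p₁ h₁ * Groth.L08.BiratHom.val U fbar p₂ h₂ := by
    refine Groth.L08.BiratHom.eq_of_relDense (Groth.L08.BiratHom.RelDense.restrict hV P) _ _ ?_
    let κ := Groth.L08.BiratHom.incl (P.ι ⁻¹ᵁ V : (Groth.L08.BiratHom.sub P).left.Opens)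
    obtain ⟨a', ha'⟩ := Groth.L08.BiratHom.exists_fac U (κ ≫ p₁) (h₁.precomp κ)
    obtain ⟨b', hb'⟩ := Groth.L08.BiratHom.exists_fac U (κ ≫ p₂) (h₂.precomp κ)
    obtain ⟨c, hc, hcm⟩ := hmul _ a' b' (by
      rw [ha', hb', show lift (κ ≫ p₁) (κ ≫ p₂) = κ ≫ Groth.L08.BiratHom.incl P by ext <;> simp [p₁, p₂]]
      rintro _ ⟨z, rfl⟩
      exact z.2)
    rw [ha', hb', ← MonObj.comp_mul] at hc
    have e : κ ≫ Groth.L08.BiratHom.val U fbar (p₁ * p₂) h₃ =
        κ ≫ (Groth.L08.BiratHom.val U fbar p₁ h₁ * Groth.L08.BiratHom.val U fbar p₂ h₂) := by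
      rw [MonObj.comp_mul, Groth.L08.BiratHom.comp_val, Groth.L08.BiratHom.comp_val, Groth.L08.BiratHom.comp_val,
        ← Groth.L08.BiratHom.val_eq U fbar _ _ c hc, ← Groth.L08.BiratHom.val_eq U fbar _ _ a' ha',
        ← Groth.L08.BiratHom.val_eq U fbar _ _ b' hb', hcm]
    exact congrArg (fun m => m.left) e
  obtain ⟨q, hq⟩ := Groth.L08.BiratHom.exists_fac P (lift a b) fun x => by
    have e : a * b = lift a b ≫ μ[G] := Hom.mul_def a b
    refine ⟨⟨?_, ?_⟩, ?_⟩
    · show (fst G G).left ((lift a b).left x) ∈ U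
      rw [← Scheme.Hom.comp_apply, ← Over.comp_left, lift_fst]; exact ha x
    · show (snd G G).left ((lift a b).left x) ∈ U
      rw [← Scheme.Hom.comp_apply, ← Over.comp_left, lift_snd]; exact hb x
    · show μ[G].left ((lift a b).left x) ∈ U
      rw [← Scheme.Hom.comp_apply, ← Over.comp_left, ← e]; exact hab x
  have e₁ : q ≫ p₁ = a := by rw [← lift_fst a b, ← hq, Category.assoc]
  have e₂ : q ≫ p₂ = b := by rw [← lift_snd a b, ← hq, Category.assoc]
  have h := congrArg (q ≫ ·) key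
  simp only [MonObj.comp_mul, Groth.L08.BiratHom.comp_val] at h
  refine Eq.trans ?_ (h.trans (congrArg₂ (· * ·) (Groth.L08.BiratHom.val_congr U fbar e₁ _ _)
    (Groth.L08.BiratHom.val_congr U fbar e₂ _ _)))
  exact Groth.L08.BiratHom.val_congr U fbar (by rw [e₁, e₂]) _ _

end Groth.Agent.S5436
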