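import Groth.Statements.S5441
import Groth.Agent.S11932
import Groth.Agent.L15.Galois.Hom
import Mathlib.RingTheory.Jacobson.Ring
import Mathlib.RingTheory.Jacobson.Artinian
import Mathlib.RingTheory.Etale.Field
import Mathlib.RingTheory.Unramified.Field
import Mathlib.RingTheory.FiniteStability
import Mathlib.Algebra.Algebra.Epi
import Mathlib.RingTheory.SimpleModule.Basic
import Mathlib.RingTheory.SimpleModule.InjectiveProjective

set_option autoImplicit false
universe u
open TensorProduct
open SGA3

namespace Groth.Agent.S5441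

open TensorProduct

section
variable {k : Type u} [Field k] {A C : Type u} [CommRing A] [HopfAlgebra k A] [Algebra.FiniteType k A]
  [CommRing C] [HopfAlgebra k C] [Algebra C A] [IsScalarTower k C A]

/-- `a ↦ S(a₁) ⊗ a₂` in `A ⊗_C A` -/
noncomputable def diff : A →ₐ[k] A ⊗[C] A :=
  (Algebra.TensorProduct.lift
    (((Algebra.TensorProduct.includeLeft : A →ₐ[C] A ⊗[C] A).restrictScalars k).comp (HopfAlgebra.antipodeAlgHom k A))
    ((Algebra.TensorProduct.includeRight : A →ₐ[C] A ⊗[C] A).restrictScalars k) fun _ _ => Commute.all _ _).comp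
    (Bialgebra.comulAlgHom k A)

theorem one_tmul_mem (a : A) {M : Submodule A (A ⊗[C] A)} (hM : ∀ b, diff (k := k) (C := C) b ∈ M) :
    (1 : A) ⊗ₜ[C] a ∈ M := by
  let T : A ⊗[k] A →ₗ[k] A ⊗[C] A := (Algebra.TensorProduct.lift
    ((Algebra.TensorProduct.includeLeft : A →ₐ[C] A ⊗[C] A).restrictScalars k) (diff (k := k) (C := C))
    fun _ _ => Commute.all _ _).toLinearMap
  have hT : ∀ z : A ⊗[k] A, T z ∈ M := fun z => by
    induction z using TensorProduct.induction_on with
    | zero => simp
    | add p q hp hq => rw [map_add]; exact add_mem hp hq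
    | tmul p q =>
      have e : T (p ⊗ₜ q) = p • diff (k := k) (C := C) q := by
        show Algebra.TensorProduct.lift _ _ (fun _ _ => Commute.all _ _) (p ⊗ₜ[k] q) = _
        rw [Algebra.TensorProduct.lift_tmul, Algebra.smul_def]
        rfl
      rw [e]
      exact M.smul_mem _ (hM q)
  let ι : A ⊗[k] A →ₐ[k] A ⊗[C] A := Algebra.TensorProduct.lift
    ((Algebra.TensorProduct.includeLeft : A →ₐ[C] A ⊗[C] A).restrictScalars k)
    ((Algebra.TensorProduct.includeRight : A →ₐ[C] A ⊗[C] A).restrictScalars k) fun _ _ => Commute.all _ _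
  have hTι : ∀ z : A ⊗[k] A, T z = ι (Groth.L15.Galois.shear (HopfAlgebraStruct.antipode (R := k)) z) := fun z => by
    induction z using TensorProduct.induction_on with
    | zero => simp
    | add p q hp hq => simp only [map_add, hp, hq]
    | tmul p q =>
      rw [Groth.L15.Galois.shear_tmul, map_mul]
      show Algebra.TensorProduct.lift _ _ (fun _ _ => Commute.all _ _) (p ⊗ₜ[k] q) = _
      rw [Algebra.TensorProduct.lift_tmul]
      refine congrArg₂ (· * ·) (by simp [ι]) ?_
      show (Algebra.TensorProduct.lift _ _ (fun _ _ => Commute.all _ _)) (Coalgebra.comul (R := k) q) = _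
      induction Coalgebra.comul (R := k) q using TensorProduct.induction_on with
      | zero => simp
      | add r t hr ht => simp only [map_add, hr, ht]
      | tmul r t => simp [ι]
  have h := hT (Coalgebra.comul (R := k) a)
  have e := Groth.L15.Galois.shear_antipode_id ((1 : A) ⊗ₜ[k] a)
  rw [Groth.L15.Galois.shear_tmul, LinearMap.rTensor_id, LinearMap.id_apply, ← Algebra.TensorProduct.one_def,
    _root_.one_mul] at e
  rw [hTι, e] at h
  simpa [ι] using h

theorem finite_of_local_jacobson {k B : Type u} [Field k] [CommRing B] [Algebra k B] [Algebra.FiniteType k B]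
    [IsLocalRing B] [IsJacobsonRing B] : Module.Finite k B := by
  refine (Module.finite_iff_krullDimLE_zero k B).mpr (Ring.KrullDimLE.mk₀ fun P hP => ?_)
  have h := (isJacobsonRing_iff_prime_eq.mp inferInstance) P hP
  rw [IsLocalRing.jacobson_eq_maximalIdeal P hP.ne_top] at h
  exact h ▸ IsLocalRing.maximalIdeal.isMaximal B

variable (ψ : C →ₐc[k] A) (hψ : ∀ c, algebraMap C A c = ψ c)

include hψ in
theorem diff_eq (c : C) : diff (k := k) (C := C) (ψ c) = algebraMap k _ (Coalgebra.counit (R := k) c) := by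
  show (Algebra.TensorProduct.lift _ _ (fun _ _ => Commute.all _ _)) (Coalgebra.comul (R := k) (ψ c)) = _
  rw [← CoalgHomClass.map_comp_comul_apply ψ c]
  have key : ∀ z : C ⊗[k] C, (Algebra.TensorProduct.lift
      (((Algebra.TensorProduct.includeLeft : A →ₐ[C] A ⊗[C] A).restrictScalars k).comp (HopfAlgebra.antipodeAlgHom k A))
      ((Algebra.TensorProduct.includeRight : A →ₐ[C] A ⊗[C] A).restrictScalars k) fun _ _ => Commute.all _ _)
      (TensorProduct.map (ψ : C →ₗ[k] A) (ψ : C →ₗ[k] A) z) =
      ψ (LinearMap.mul' k C ((HopfAlgebraStruct.antipode (R := k)).rTensor C z)) ⊗ₜ[C] 1 := fun z => by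
    induction z using TensorProduct.induction_on with
    | zero => simp
    | add p q hp hq => simp only [map_add, add_tmul, hp, hq]
    | tmul p q =>
      rw [TensorProduct.map_tmul, Algebra.TensorProduct.lift_tmul]
      show (HopfAlgebra.antipodeAlgHom k A (ψ p)) ⊗ₜ[C] (1 : A) * (1 : A) ⊗ₜ[C] ψ q = _
      rw [Algebra.TensorProduct.tmul_mul_tmul, _root_.mul_one, _root_.one_mul, LinearMap.rTensor_tmul,
        LinearMap.mul'_apply, map_mul, show ψ (HopfAlgebraStruct.antipode (R := k) p) = HopfAlgebra.antipodeAlgHom k A (ψ p) from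
          (LinearMap.congr_fun (Groth.L15.Galois.antipode_comp ψ) p).symm,
        ← hψ q, Algebra.algebraMap_eq_smul_one, ← TensorProduct.smul_tmul, Algebra.smul_def, mul_comm,
        ← Algebra.algebraMap_eq_smul_one]
  refine (key _).trans ?_
  rw [HopfAlgebra.mul_antipode_rTensor_comul_apply, AlgHomClass.commutes ψ]
  rfl

include hψ in
theorem diff_vanish {J : Ideal A} (hJ : J = Ideal.map (ψ : C →+* A) (RingHom.ker (Bialgebra.counitAlgHom k C))) :
    J ≤ RingHom.ker (diff (k := k) (A := A) (C := C)) := by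
  rw [hJ, Ideal.map_le_iff_le_comap]
  intro c hc
  rw [Ideal.mem_comap, RingHom.mem_ker]
  refine (diff_eq ψ hψ c).trans ?_
  rw [show Coalgebra.counit (R := k) c = 0 from hc, map_zero]

include hψ in
theorem finite_of_isLocalRing [Module.Finite k C] [IsReduced C] (hinj : Function.Injective ψ) {J : Ideal A}
    (hJ : J = Ideal.map (ψ : C →+* A) (RingHom.ker (Bialgebra.counitAlgHom k C))) [Module.Finite k (A ⧸ J)] :
    Module.Finite k A := by
  haveI : IsArtinianRing C := IsArtinianRing.of_finite k C
  haveI : IsSemisimpleRing C := IsArtinianRing.isSemisimpleRing_of_isReduced C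
  have hfin : Module.Finite A (A ⊗[C] A) := by
    let δ : (A ⧸ J) →ₗ[k] A ⊗[C] A := (Ideal.Quotient.liftₐ J (diff (k := k) (A := A) (C := C)) (diff_vanish ψ hψ hJ)).toLinearMap
    obtain ⟨s, hs⟩ := (Module.Finite.fg_top : (⊤ : Submodule k (A ⧸ J)).FG)
    classical
    refine ⟨s.image δ, eq_top_iff.mpr fun z _ => ?_⟩
    set M := Submodule.span A (↑(s.image δ) : Set (A ⊗[C] A))
    have hM : ∀ b, diff (k := k) (C := C) b ∈ M := fun b => by
      have hb : Ideal.Quotient.mk J b ∈ Submodule.span k (↑s : Set (A ⧸ J)) := by rw [hs]; trivial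
      have h2 : δ (Ideal.Quotient.mk J b) ∈ (Submodule.span k (↑s : Set (A ⧸ J))).map δ := ⟨_, hb, rfl⟩
      rw [Submodule.map_span, ← Finset.coe_image] at h2
      exact Submodule.span_le_restrictScalars k A _ h2
    induction z using TensorProduct.induction_on with
    | zero => simp
    | add p q hp hq => exact add_mem (hp trivial) (hq trivial)
    | tmul p q =>
      have := M.smul_mem p (one_tmul_mem q hM)
      rwa [TensorProduct.smul_tmul', smul_eq_mul, _root_.mul_one] at this
  have hex : ∀ q : PrimeSpectrum C, ∃ P : Ideal A, P.IsMaximal ∧ P.comap (algebraMap C A) = q.asIdeal := fun q => by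
    have hi : Function.Injective (algebraMap C A) := fun a b h => hinj (by rw [← hψ, ← hψ]; exact h)
    haveI : q.asIdeal.IsMaximal := IsArtinianRing.isMaximal_of_isPrime _
    obtain ⟨P₀, hP₀, hP₀q⟩ := Ideal.exists_comap_eq_of_mem_minimalPrimes_of_injective hi q.asIdeal
      ⟨⟨inferInstance, bot_le⟩, fun P hP hle => by
        haveI := hP.1
        exact ((IsArtinianRing.isMaximal_of_isPrime P).eq_of_le (Ideal.IsPrime.ne_top inferInstance) hle).ge⟩
    obtain ⟨P, hP, hle⟩ := Ideal.exists_le_maximal P₀ hP₀.ne_top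
    haveI := hP
    exact ⟨P, hP, (‹q.asIdeal.IsMaximal›.eq_of_le (Ideal.IsPrime.ne_top inferInstance)
      (hP₀q ▸ Ideal.comap_mono hle)).symm⟩
  choose P hPm hPq using hex
  let N := ∀ q : PrimeSpectrum C, A ⧸ P q
  haveI : ∀ q, Module.Finite k (A ⧸ P q) := fun q => by
    haveI := hPm q
    letI := Ideal.Quotient.field (P q)
    exact finite_of_finite_type_of_isJacobsonRing k (A ⧸ P q)
  haveI : Module.Finite k N := Module.Finite.pi
  haveI : Module.Projective C N := Module.projective_of_isSemisimpleRing C N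
  haveI : Module.FaithfullyFlat C N := by
    refine { submodule_ne_top := fun m hm h => ?_ }
    let q : PrimeSpectrum C := ⟨m, hm.isPrime⟩
    have h1 : (1 : N) ∈ m • (⊤ : Submodule C N) := by rw [h]; trivial
    have h2 : ∀ x ∈ m • (⊤ : Submodule C N), x q = 0 := fun x hx => by
      refine Submodule.smul_induction_on hx (fun c hc y _ => ?_) (fun x y hx hy => by rw [Pi.add_apply, hx, hy, add_zero])
      rw [Pi.smul_apply, Algebra.smul_def, IsScalarTower.algebraMap_apply C A (A ⧸ P q), Ideal.Quotient.algebraMap_eq,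
        Ideal.Quotient.eq_zero_iff_mem.mpr (show algebraMap C A c ∈ P q by rw [← Ideal.mem_comap, hPq q]; exact hc),
        zero_mul]
    haveI := hPm q
    exact one_ne_zero (h2 _ h1)
  haveI : Module.Finite A (A ⊗[C] A) := hfin
  haveI : Module.Finite N (N ⊗[C] A) :=
    Module.Finite.equiv (TensorProduct.AlgebraTensorModule.cancelBaseChange C A N N A)
  haveI : Module.Finite k (N ⊗[C] A) := Module.Finite.trans N (N ⊗[C] A)
  exact Module.Finite.of_injective ((TensorProduct.mk C N A 1).restrictScalars k)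
    (Module.FaithfullyFlat.tensorProduct_mk_injective A)

include hψ in
theorem reduced_surjective [PerfectField k] [Module.Finite k A] [Algebra.Etale k C] {J : Ideal A}
    (hJ : J = Ideal.map (ψ : C →+* A) (RingHom.ker (Bialgebra.counitAlgHom k C))) [IsLocalRing (A ⧸ J)] :
    Function.Surjective ((Ideal.Quotient.mk (nilradical A)).comp (algebraMap C A)) ∧
    Algebra.Etale k (A ⧸ nilradical A) := by
  let N := nilradical A
  haveI : Module.Finite k (A ⧸ N) := Module.Finite.quotient k N
  haveI : IsReduced (A ⧸ N) := (Ideal.isRadical_iff_quotient_reduced _).mp (Ideal.radical_isRadical _)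
  haveI : Algebra.Etale k (A ⧸ N) := Groth.Agent.S11932.etale_of_reduced (A ⧸ N)
  refine ⟨?_, inferInstance⟩
  let π : A →ₐ[C] A ⧸ N := Ideal.Quotient.mkₐ C N
  let T : A ⊗[C] A →ₐ[C] ((A ⧸ N) ⊗[C] (A ⧸ N)) := Algebra.TensorProduct.map π π
  let φ : A →ₐ[k] ((A ⧸ N) ⊗[C] (A ⧸ N)) := (T.restrictScalars k).comp (diff (k := k) (C := C))
  haveI : Algebra.Etale k ((A ⧸ N) ⊗[k] (A ⧸ N)) := Algebra.Etale.comp k (A ⧸ N) _
  haveI : IsReduced ((A ⧸ N) ⊗[k] (A ⧸ N)) := Algebra.FormallyUnramified.isReduced_of_field k _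
  have hNφ : ∀ a ∈ N, φ a = 0 := fun a ha => by
    let πk := Ideal.Quotient.mkₐ k N
    let d : A →ₐ[k] (A ⧸ N) ⊗[k] (A ⧸ N) :=
      ((Algebra.TensorProduct.map πk πk).comp (Algebra.TensorProduct.map (HopfAlgebra.antipodeAlgHom k A) (AlgHom.id k A))).comp
        (Bialgebra.comulAlgHom k A)
    have hd : d a = 0 := ((mem_nilradical.mp ha).map d).eq_zero
    let ν : (A ⧸ N) ⊗[k] (A ⧸ N) →ₐ[k] ((A ⧸ N) ⊗[C] (A ⧸ N)) :=
      Algebra.TensorProduct.lift ((Algebra.TensorProduct.includeLeft : (A ⧸ N) →ₐ[C] ((A ⧸ N) ⊗[C] (A ⧸ N))).restrictScalars k)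
        ((Algebra.TensorProduct.includeRight : (A ⧸ N) →ₐ[C] ((A ⧸ N) ⊗[C] (A ⧸ N))).restrictScalars k) fun _ _ => Commute.all _ _
    have : φ a = ν (d a) := by
      show T (Algebra.TensorProduct.lift _ _ (fun _ _ => Commute.all _ _) (Coalgebra.comul (R := k) a)) =
        ν (Algebra.TensorProduct.map πk πk (Algebra.TensorProduct.map _ _ (Coalgebra.comul (R := k) a)))
      induction Coalgebra.comul (R := k) a using TensorProduct.induction_on with
      | zero => simp
      | add p q hp hq => simp only [map_add, hp, hq]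
      | tmul p q => simp [T, ν, π, πk]
    rw [this, hd, map_zero]
  have hφJ : ∀ a ∈ J, φ a = 0 := fun a ha => by
    show T (diff (k := k) (C := C) a) = 0
    rw [(RingHom.mem_ker).mp (diff_vanish ψ hψ hJ ha), map_zero]
  have hφ : ∀ a, φ a = algebraMap k ((A ⧸ N) ⊗[C] (A ⧸ N)) (Coalgebra.counit (R := k) a) := fun a => by
    haveI : Module.Finite k (A ⧸ J) := Module.Finite.quotient k J
    haveI : IsArtinianRing (A ⧸ J) := IsArtinianRing.of_finite k (A ⧸ J)
    let φJ : (A ⧸ J) →ₐ[k] ((A ⧸ N) ⊗[C] (A ⧸ N)) := Ideal.Quotient.liftₐ J φ hφJ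
    have hε : ∀ x ∈ J, Bialgebra.counitAlgHom k A x = 0 := fun x hx => by
      have h : J ≤ RingHom.ker (Bialgebra.counitAlgHom k A) := by
        rw [hJ, Ideal.map_le_iff_le_comap]
        intro c hc
        rw [Ideal.mem_comap, RingHom.mem_ker]
        exact (CoalgHomClass.counit_comp_apply ψ c).trans hc
      exact h hx
    let b := a - algebraMap k A (Coalgebra.counit (R := k) a)
    have hnil : IsNilpotent (Ideal.Quotient.mk J b) := by
      obtain ⟨n, hn⟩ := IsArtinianRing.isNilpotent_jacobson_bot (R := A ⧸ J)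
      rw [IsLocalRing.jacobson_eq_maximalIdeal ⊥ bot_ne_top] at hn
      refine ⟨n, ?_⟩
      have hm : Ideal.Quotient.mk J b ∈ IsLocalRing.maximalIdeal (A ⧸ J) := by
        rw [IsLocalRing.mem_maximalIdeal]
        intro hu
        have := hu.map (Ideal.Quotient.liftₐ J (Bialgebra.counitAlgHom k A) hε)
        rw [show Ideal.Quotient.liftₐ J (Bialgebra.counitAlgHom k A) hε (Ideal.Quotient.mk J b) = 0 by
          show Bialgebra.counitAlgHom k A b = 0
          rw [map_sub, AlgHom.commutes]; exact sub_self _] at this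
        exact not_isUnit_zero this
      have := Ideal.pow_mem_pow hm n
      rwa [hn] at this
    -- the reduced quotient of `A ⧸ J` is `k`
    obtain ⟨n, hn⟩ := hnil
    rw [← map_pow, Ideal.Quotient.eq_zero_iff_mem] at hn
    have hφb : IsNilpotent (φ b) := ⟨n, by rw [← map_pow]; exact hφJ _ hn⟩
    haveI : IsReduced ((A ⧸ N) ⊗[C] (A ⧸ N)) := by
      let ν : (A ⧸ N) ⊗[k] (A ⧸ N) →ₐ[k] ((A ⧸ N) ⊗[C] (A ⧸ N)) :=
        Algebra.TensorProduct.lift ((Algebra.TensorProduct.includeLeft : (A ⧸ N) →ₐ[C] ((A ⧸ N) ⊗[C] (A ⧸ N))).restrictScalars k)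
          ((Algebra.TensorProduct.includeRight : (A ⧸ N) →ₐ[C] ((A ⧸ N) ⊗[C] (A ⧸ N))).restrictScalars k) fun _ _ => Commute.all _ _
      have hν : Function.Surjective ν := (fun w => by
        induction w using TensorProduct.induction_on with
        | zero => exact ⟨0, map_zero _⟩
        | add p q hp hq => obtain ⟨u, rfl⟩ := hp; obtain ⟨v, rfl⟩ := hq; exact ⟨u + v, map_add _ _ _⟩
        | tmul p q => exact ⟨p ⊗ₜ q, by simp [ν]⟩)
      haveI : Algebra.FormallyUnramified k ((A ⧸ N) ⊗[C] (A ⧸ N)) := Algebra.FormallyUnramified.of_surjective ν hν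
      haveI : Module.Finite k ((A ⧸ N) ⊗[C] (A ⧸ N)) := Module.Finite.of_surjective ν.toLinearMap hν
      haveI : Algebra.EssFiniteType k ((A ⧸ N) ⊗[C] (A ⧸ N)) := inferInstance
      exact Algebra.FormallyUnramified.isReduced_of_field k ((A ⧸ N) ⊗[C] (A ⧸ N))
    have h0 := hφb.eq_zero
    rwa [map_sub, AlgHom.commutes, sub_eq_zero] at h0
  have key : ∀ a : A, (1 : A ⧸ N) ⊗ₜ[C] π a = π a ⊗ₜ[C] 1 := fun a => by
    let T' : A ⊗[k] A →ₐ[k] ((A ⧸ N) ⊗[C] (A ⧸ N)) := Algebra.TensorProduct.lift
      ((T.restrictScalars k).comp ((Algebra.TensorProduct.includeLeft : A →ₐ[C] A ⊗[C] A).restrictScalars k)) φ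
      fun _ _ => Commute.all _ _
    have hT' : ∀ z, T' z = π (TensorProduct.rid k A ((Coalgebra.counit (R := k) (A := A)).lTensor A z)) ⊗ₜ[C] 1 := fun z => by
      induction z using TensorProduct.induction_on with
      | zero => simp
      | add p q hp hq => simp only [map_add, add_tmul, hp, hq]
      | tmul p q =>
        rw [Algebra.TensorProduct.lift_tmul, hφ, ← Algebra.commutes, ← Algebra.smul_def]
        simp [T, TensorProduct.smul_tmul', π]
        rw [← Ideal.Quotient.mkₐ_eq_mk k, map_smul]
    let ι : A ⊗[k] A →ₐ[k] A ⊗[C] A := Algebra.TensorProduct.lift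
      ((Algebra.TensorProduct.includeLeft : A →ₐ[C] A ⊗[C] A).restrictScalars k)
      ((Algebra.TensorProduct.includeRight : A →ₐ[C] A ⊗[C] A).restrictScalars k) fun _ _ => Commute.all _ _
    have hTι : ∀ z : A ⊗[k] A, T' z = T (ι (Groth.L15.Galois.shear (HopfAlgebraStruct.antipode (R := k)) z)) := fun z => by
      induction z using TensorProduct.induction_on with
      | zero => simp
      | add p q hp hq => simp only [map_add, hp, hq]
      | tmul p q =>
        rw [Groth.L15.Galois.shear_tmul, map_mul, map_mul, Algebra.TensorProduct.lift_tmul]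
        refine congrArg₂ (· * ·) (by simp [ι]) ?_
        show T (Algebra.TensorProduct.lift _ _ (fun _ _ => Commute.all _ _) (Coalgebra.comul (R := k) q)) = _
        induction Coalgebra.comul (R := k) q using TensorProduct.induction_on with
        | zero => simp
        | add r t hr ht => simp only [map_add, hr, ht]
        | tmul r t => simp [ι]
    have e := Groth.L15.Galois.shear_antipode_id ((1 : A) ⊗ₜ[k] a)
    rw [Groth.L15.Galois.shear_tmul, LinearMap.rTensor_id, LinearMap.id_apply, ← Algebra.TensorProduct.one_def,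
      _root_.one_mul] at e
    have h := hT' (Coalgebra.comul (R := k) a)
    rw [hTι, e, Coalgebra.lTensor_counit_comul] at h
    simpa [ι, T] using h
  haveI : Module.Finite C (A ⧸ N) := Module.Finite.of_restrictScalars_finite k C (A ⧸ N)
  exact (Algebra.isEpi_iff_surjective_algebraMap_of_finite).mp
    ((Algebra.isEpi_iff_forall_one_tmul_eq C (A ⧸ N)).mpr fun x => by
      obtain ⟨a, rfl⟩ := Ideal.Quotient.mk_surjective x
      exact key a)

end

/-- Let k be a perfect field, A a finitely generated commutative Hopf algebra (an algebraic group H), ψ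
: C → A an injective bialgebra map with C an étale k-algebra (the étale quotient H″), J the Hopf
ideal of A generated by the image of the augmentation ideal of C (the kernel H′ = Spec (A/J)), with
A/J a local ring (H′ radiciel). Then H″ lifts uniquely into H and the lifting is the reduced
subgroup: there is exactly one bialgebra map r : A → C with r ∘ ψ = id, and every such r has kernel
the nilradical of A. -/
theorem result (k : Type u) [Field k] [PerfectField k] (A C : Type u) [CommRing A] [HopfAlgebra k A] [Algebra.FiniteType k A]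
    [CommRing C] [HopfAlgebra k C] [Algebra.Etale k C] (ψ : C →ₐc[k] A) (hψ : Function.Injective ψ)
    (J : Ideal A) [J.IsHopfIdeal k] (hJ : J = Ideal.map (ψ : C →+* A) (RingHom.ker (Bialgebra.counitAlgHom k C)))
    [IsLocalRing (A ⧸ J)] :
    (∃! r : A →ₐc[k] C, r.comp ψ = BialgHom.id k C) ∧
    ∀ r : A →ₐc[k] C, r.comp ψ = BialgHom.id k C → RingHom.ker (r : A →+* C) = nilradical A := by
  letI : Algebra C A := (ψ : C →ₐ[k] A).toRingHom.toAlgebra
  have hψ' : ∀ c, algebraMap C A c = ψ c := fun c => rfl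
  haveI : IsScalarTower k C A := IsScalarTower.of_algebraMap_eq fun x => (AlgHomClass.commutes ψ x).symm
  haveI : Module.Finite k C := Algebra.FormallyUnramified.finite_of_free k C
  haveI : IsReduced C := Algebra.FormallyUnramified.isReduced_of_field k C
  haveI : Module.Finite k (A ⧸ J) := by
    haveI : IsJacobsonRing (A ⧸ J) := isJacobsonRing_of_finiteType (A := k)
    exact finite_of_local_jacobson
  haveI : Module.Finite k A := finite_of_isLocalRing ψ hψ' hψ hJ
  obtain ⟨hs, het⟩ := reduced_surjective ψ hψ' hJ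
  let π : A →ₐ[k] A ⧸ nilradical A := Ideal.Quotient.mkₐ k _
  let q : C →ₐ[k] A ⧸ nilradical A := π.comp (ψ : C →ₐ[k] A)
  have hq : Function.Bijective q := by
    refine ⟨(injective_iff_map_eq_zero _).mpr fun c hc => ?_, hs⟩
    obtain ⟨n, hn⟩ := mem_nilradical.mp (Ideal.Quotient.eq_zero_iff_mem.mp hc)
    exact IsNilpotent.eq_zero ⟨n, hψ (by rw [map_pow, map_zero]; exact hn)⟩
  let e := AlgEquiv.ofBijective q hq
  let r0 : A →ₐ[k] C := e.symm.toAlgHom.comp π
  have hr0 : ∀ c, r0 (ψ c) = c := fun c => e.symm_apply_apply c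
  have hnilk : ∀ (f : A →ₐ[k] C) a, a ∈ nilradical A → f a = 0 := fun f a ha =>
    ((mem_nilradical.mp ha).map f).eq_zero
  have huniq : ∀ f : A →ₐ[k] C, (∀ c, f (ψ c) = c) → f = r0 := fun f hf => AlgHom.ext fun a => by
    have hmem : a - ψ (r0 a) ∈ nilradical A := by
      rw [← Ideal.Quotient.eq_zero_iff_mem, map_sub, sub_eq_zero]
      exact (e.apply_symm_apply (π a)).symm
    have := hnilk f _ hmem
    rwa [map_sub, hf, sub_eq_zero] at this
  have hε : (Bialgebra.counitAlgHom k C).comp r0 = Bialgebra.counitAlgHom k A := AlgHom.ext fun a => by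
    obtain ⟨c, hc⟩ := hq.2 (π a)
    have hmem : a - ψ c ∈ nilradical A := by
      rw [← Ideal.Quotient.eq_zero_iff_mem, map_sub, sub_eq_zero]
      exact hc.symm
    have h1 := ((mem_nilradical.mp hmem).map (Bialgebra.counitAlgHom k A)).eq_zero
    rw [map_sub, sub_eq_zero] at h1
    rw [AlgHom.comp_apply, h1, show r0 a = c from (sub_eq_zero.mp (by rw [← map_sub]; exact hnilk r0 _ hmem)).trans (hr0 c)]
    exact (CoalgHomClass.counit_comp_apply ψ c).symm
  have hΔ : (Algebra.TensorProduct.map r0 r0).comp (Bialgebra.comulAlgHom k A) = (Bialgebra.comulAlgHom k C).comp r0 :=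
    AlgHom.ext fun a => by
      obtain ⟨c, hc⟩ := hq.2 (π a)
      have hmem : a - ψ c ∈ nilradical A := by
        rw [← Ideal.Quotient.eq_zero_iff_mem, map_sub, sub_eq_zero]
        exact hc.symm
      haveI : Algebra.Etale k (C ⊗[k] C) := Algebra.Etale.comp k C _
      haveI : IsReduced (C ⊗[k] C) := Algebra.FormallyUnramified.isReduced_of_field k _
      have h1 := ((mem_nilradical.mp hmem).map ((Algebra.TensorProduct.map r0 r0).comp (Bialgebra.comulAlgHom k A))).eq_zero
      rw [map_sub, sub_eq_zero] at h1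
      rw [h1, AlgHom.comp_apply, AlgHom.comp_apply,
        show r0 a = c from (sub_eq_zero.mp (by rw [← map_sub]; exact hnilk r0 _ hmem)).trans (hr0 c)]
      show Algebra.TensorProduct.map r0 r0 (Coalgebra.comul (R := k) (ψ c)) = Coalgebra.comul (R := k) c
      rw [← CoalgHomClass.map_comp_comul_apply ψ c]
      induction Coalgebra.comul (R := k) c using TensorProduct.induction_on with
      | zero => simp
      | add p q hp hq => simp only [map_add, hp, hq]
      | tmul p q => simp [hr0]
  let r : A →ₐc[k] C := BialgHom.ofAlgHom r0 hε hΔ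
  have hf0 : ∀ f : A →ₐc[k] C, f.comp ψ = BialgHom.id k C → (f : A →ₐ[k] C) = r0 := fun f hf =>
    huniq f fun c => DFunLike.congr_fun hf c
  refine ⟨⟨r, DFunLike.ext _ _ hr0, fun f hf => DFunLike.ext _ _ fun a => AlgHom.congr_fun (hf0 f hf) a⟩, fun f hf => ?_⟩
  refine le_antisymm (fun a ha => ?_) fun a ha => hnilk (f : A →ₐ[k] C) a ha
  have h1 : r0 a = 0 := (AlgHom.congr_fun (hf0 f hf) a).symm.trans ha
  rw [← Ideal.Quotient.eq_zero_iff_mem]
  have := congrArg e h1
  rw [map_zero] at this
  exact (e.apply_symm_apply (π a)).symm.trans this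

end Groth.Agent.S5441
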