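import Groth.Statements.S5442
import Groth.Agent.L25.Locus.Fixed

set_option autoImplicit false
universe u
open CategoryTheory MonoidalCategory CartesianMonoidalCategory MonObj GrpObj AlgebraicGeometry CategoryTheory.Limits
open SGA3x

namespace Groth.Agent.S5442

/-- Let S be a scheme, G an S-group scheme separated and smooth over S, and H an S-group of
multiplicative type and of finite type acting on G by group automorphisms (on points, h · (g g′) =
(h · g)(h · g′)). Then the functor Z = G^H of invariants (points of G fixed by all points of H after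
any base change) is representable by a closed subgroup scheme of G which is smooth over S: there are
an S-group Z and a homomorphism Z → G which is a closed immersion, with Z smooth over S, whose
points are exactly the invariant points. (The published statement allows any S-group of
multiplicative type; this row assumes it moreover of finite type.) -/
theorem result (S : Scheme.{u}) (H G : Over S) [GrpObj H] [GrpObj G] (hH : SGA3x.IsMultTypeFT H)
    [IsSeparated G.hom] [Smooth G.hom] (a : AlgGrp.Action H G)
    (hmul : ∀ (X : Over S) (h : X ⟶ H) (g g' : X ⟶ G),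
      lift h (g * g') ≫ a.act = (lift h g ≫ a.act) * (lift h g' ≫ a.act)) :
    ∃ (Z : Over S) (_ : GrpObj Z) (z : Z ⟶ G) (_ : IsMonHom z), IsClosedImmersion z.left ∧ Smooth Z.hom ∧
      ∀ (X : Over S) (g : X ⟶ G), (∃ x : X ⟶ Z, x ≫ z = g) ↔
        ∀ (X' : Over S) (f : X' ⟶ X) (h : X' ⟶ H), lift h (f ≫ g) ≫ a.act = f ≫ g := by
  obtain ⟨W, i, hi, hl, hW⟩ := Groth.L25.Locus.exists_fixedLocus a (Groth.L25.Locus.locally_of_multTypeFT hH)
  have : Mono i := Over.mono_of_mono_left i
  have := hl inferInstance
  have hs := Groth.L25.Locus.smooth_fixedLocus a (Groth.L25.Locus.locally_of_multTypeFT hH) i hW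
  have h1 : ∀ (X : Over S) (h : X ⟶ H), lift h (1 : X ⟶ G) ≫ a.act = 1 := fun X h => by
    have e := hmul X h 1 1
    rw [_root_.one_mul] at e
    exact left_eq_mul.1 e
  obtain ⟨hg, him⟩ := Groth.L25.Locus.exists_subgroup i (Groth.L25.Locus.Fixed a) hW
    (fun X' t h => by rw [MonObj.comp_one, h1])
    (fun T' x y hx hy X' t h => by rw [MonObj.comp_mul, hmul, hx X' t h, hy X' t h])
    (fun T' x hx X' t h => by
      rw [GrpObj.comp_inv]
      have e := hmul X' h (t ≫ x) (t ≫ x)⁻¹
      rw [mul_inv_cancel, h1, hx X' t h] at e
      exact eq_inv_of_mul_eq_one_right e.symm)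
  exact ⟨W, hg, i, him, hi, hs, hW⟩

end Groth.Agent.S5442
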