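import Groth.Statements.S5445
import Groth.Agent.L24.RootD.Coord

set_option autoImplicit false
open RootD

namespace Groth.Agent.S5445

/-- A system of positive roots of a root datum contains exactly one system of simple roots (simple
systems in the sense of conditions on roots only: linearly independent, every root a non-negative or
non-positive integer combination). -/
theorem result {ι M N : Type*} [AddCommGroup M] [AddCommGroup N]
    (P : RootPairing ι ℤ M N) [Finite ι] (S : Set ι) (hS : RootD.IsPosSys P S) :
    ∃! Δ : Set ι, RootD.IsSimpleSys P Δ ∧ Δ ⊆ S := by
  refine ⟨Groth.L24.RootD.simples P S, ⟨(Groth.L24.RootD.isSimple_simples hS).isSimpleSys,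
    Groth.L24.RootD.simples_subset⟩, fun Δ h => ?_⟩
  exact Groth.L24.RootD.eq_simples_of_subset hS (Groth.L24.RootD.isSimpleSys_iff.1 h.1) h.2

end Groth.Agent.S5445
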