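import Groth.Statements.S5446
import Groth.Agent.L24.RootD.Levi

set_option autoImplicit false
open RootD

namespace Groth.Agent.S5446

/-- If the roots indexed by Δ are indivisible and linearly independent and every root is, up to sign, a
non-negative rational combination of them (some positive multiple is a non-negative integer
combination), then Δ is a system of simple roots: every root is, up to sign, a non-negative integer
combination of Δ. -/
theorem result {ι M N : Type*} [AddCommGroup M] [AddCommGroup N]
    (P : RootPairing ι ℤ M N) [Finite ι] (Δ : Set ι)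
    (hind : ∀ i ∈ Δ, RootD.IsIndiv P i) (hli : LinearIndepOn ℤ P.root Δ)
    (hcone : ∀ k : ι, ∃ n : ℕ, 0 < n ∧
      (n • P.root k ∈ RootD.natSpan P Δ ∨ n • (-P.root k) ∈ RootD.natSpan P Δ)) :
    RootD.IsSimpleSys P Δ := by
  refine ⟨hli, fun k => ?_⟩
  classical
  obtain ⟨n, hn, h⟩ := hcone k
  obtain ⟨S0, hS0⟩ := Groth.L24.RootD.exists_isPosSys P
  let A : Set ι := {k | ∃ n : ℕ, 0 < n ∧ n • P.root k ∈ RootD.natSpan P Δ}
  have hA : RootD.IsPosSys P A := by
    refine Groth.L24.RootD.isPosSys_of_closed ?_ (fun k => ?_) ?_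
    · rintro i ⟨n, hn, h⟩ ⟨m, hm, h'⟩
      obtain ⟨c, hc, hc0, hci⟩ := Groth.L24.RootD.exists_comb_of_mem_natSpan h
      obtain ⟨d, hd, hd0, hdi⟩ := Groth.L24.RootD.exists_comb_of_mem_natSpan h'
      rw [Groth.L24.RootD.root_neg, smul_neg] at hdi
      have e : (m : ℤ) • c + (n : ℤ) • d = 0 := by
        refine Groth.L24.RootD.comb_unique hli (fun x hx => ?_) (by simp) ?_
        · rcases Finset.mem_union.1 (Finsupp.support_add hx) with h' | h'
          · exact hc (Finsupp.support_smul h')
          · exact hd (Finsupp.support_smul h')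
        · simp only [Groth.L24.RootD.comb, map_add, map_zsmul, map_zero] at hci hdi ⊢
          rw [hci, hdi, natCast_zsmul, natCast_zsmul, smul_neg, smul_comm, add_neg_cancel]
      have hc00 : c = 0 := by
        ext x
        have := DFunLike.congr_fun e x
        have h1 := hc0 x
        have h2 := hd0 x
        simp at this h1 h2 ⊢
        nlinarith
      rw [hc00] at hci
      have := Groth.L24.RootD.torsionFree_M P
      simp only [Groth.L24.RootD.comb, map_zero] at hci
      exact P.ne_zero i ((nsmul_eq_zero_iff_right hn.ne').1 hci.symm)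
    · obtain ⟨n, hn, h | h⟩ := hcone k
      · exact Or.inl ⟨n, hn, h⟩
      · exact Or.inr ⟨n, hn, by rw [Groth.L24.RootD.root_neg]; exact h⟩
    · rintro i j k ⟨n, hn, h⟩ ⟨m, hm, h'⟩ e
      refine ⟨n * m, Nat.mul_pos hn hm, ?_⟩
      rw [e, smul_add, mul_smul, mul_smul, smul_comm n m (P.root i)]
      exact add_mem (nsmul_mem h m) (nsmul_mem h' n)
  have hs := Groth.L24.RootD.isSimple_simples hA
  have hsub : Δ ⊆ Groth.L24.RootD.simples P A := by
    intro a ha
    have haA : a ∈ A := ⟨1, one_pos, by rw [one_smul]; exact Groth.L24.RootD.root_mem_natSpan ha⟩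
    by_contra hna
    obtain ⟨c, hc, hc0, hca⟩ := Groth.L24.RootD.exists_comb_of_mem_natSpan (Groth.L24.RootD.mem_natSpan_simples
      (Groth.L24.RootD.isClosedSub_of_isPosSys hA) hA.disjoint haA)
    -- every simple root of `A` is, after scaling, a combination of `Δ`
    have key : ∀ b ∈ c.support, ∃ t : ℤ, ∃ m : ℤ, m ≠ 0 ∧ m • P.root b = t • P.root a := by
      have hall : ∀ b : ι, ∃ m : ℕ, ∃ d : ι →₀ ℤ, 0 < m ∧ ↑d.support ⊆ Δ ∧
          (b ∈ A → 0 ≤ d) ∧ Groth.L24.RootD.comb P d = m • P.root b := by
        intro b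
        by_cases hb : b ∈ A
        · obtain ⟨m, hm, h⟩ := hb
          obtain ⟨d, hd, hd0, hdb⟩ := Groth.L24.RootD.exists_comb_of_mem_natSpan h
          exact ⟨m, d, hm, hd, fun _ => hd0, hdb⟩
        · obtain ⟨m, hm, h⟩ := (hA.cover b).resolve_left hb
          obtain ⟨d, hd, hd0, hdb⟩ := Groth.L24.RootD.exists_comb_of_mem_natSpan h
          refine ⟨m, -d, hm, by simpa using hd, fun h => absurd h hb, ?_⟩
          rw [Groth.L24.RootD.comb, map_neg, ← Groth.L24.RootD.comb, hdb, Groth.L24.RootD.root_neg, smul_neg, neg_neg]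
      choose m d hm hd hd0 hdb using hall
      have hM : ∀ b, (∏ x ∈ c.support, m x) = m b * ∏ x ∈ c.support.erase b, m x ∨ b ∉ c.support := by
        intro b
        by_cases hb : b ∈ c.support
        · exact Or.inl (Finset.mul_prod_erase _ m hb).symm
        · exact Or.inr hb
      intro b hb
      refine ⟨d b a, m b, by have := hm b; omega, ?_⟩
      have e : (∑ x ∈ c.support, (c x * ∏ y ∈ c.support.erase x, (m y : ℤ)) • d x) =
          Finsupp.single a (∏ y ∈ c.support, (m y : ℤ)) := by
        refine Groth.L24.RootD.comb_unique hli (fun x hx => ?_) (fun x hx => ?_) ?_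
        · obtain ⟨y, -, hy⟩ := Finset.mem_biUnion.1 (Finsupp.support_finsetSum hx)
          exact hd y (Finsupp.support_smul hy)
        · have := Finsupp.support_single_subset hx
          rw [Finset.mem_singleton] at this
          exact this ▸ ha
        · have hd' : ∀ x, Finsupp.linearCombination ℤ P.root (d x) = m x • P.root x := hdb
          have hca' : (∑ x ∈ c.support, c x • P.root x) = P.root a := by
            rw [← hca, Groth.L24.RootD.comb_def]
            rfl
          simp only [Groth.L24.RootD.comb, map_sum, map_zsmul, Finsupp.linearCombination_single, hd']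
          rw [← hca', Finset.smul_sum]
          refine Finset.sum_congr rfl fun x hx => ?_
          rw [← natCast_zsmul, smul_smul, smul_smul, ← Finset.mul_prod_erase _ (fun y => (m y : ℤ)) hx]
          congr 1
          ring
      have hsupp : ∀ x, x ≠ a → d b x = 0 := by
        intro x hx
        have h0 := DFunLike.congr_fun e x
        rw [Finsupp.finsetSum_apply, Finsupp.single_eq_of_ne hx] at h0
        have hnn : ∀ y ∈ c.support, 0 ≤ ((c y * ∏ z ∈ c.support.erase y, (m z : ℤ)) • d y) x := fun y hy => by
          simp only [Finsupp.smul_apply, smul_eq_mul]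
          exact mul_nonneg (mul_nonneg (hc0 y) (Finset.prod_nonneg fun z _ => Int.natCast_nonneg _))
            (hd0 y (Groth.L24.RootD.simples_subset (hc hy)) x)
        have := (Finset.sum_eq_zero_iff_of_nonneg hnn).1 h0 b hb
        simp only [Finsupp.smul_apply, smul_eq_mul, mul_eq_zero] at this
        refine this.resolve_left ?_
        rintro (h | h)
        · exact Finsupp.mem_support_iff.1 hb h
        · obtain ⟨z, -, hz⟩ := Finset.prod_eq_zero_iff.1 h
          have := hm z
          omega
      rw [natCast_zsmul, ← hdb b]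
      conv_lhs => rw [show d b = Finsupp.single a (d b a) by
        ext x
        by_cases hx : a = x
        · subst hx; simp
        · simp [hx, hsupp x (Ne.symm hx)]]
      simp
    have hka : ∀ b ∈ c.support, ∃ t : ℤ, P.root b = t • P.root a := fun b hb => by
      obtain ⟨t, m, hm, h⟩ := key b hb
      obtain ⟨s, rfl⟩ := Groth.L24.RootD.dvd_of_proportional (hind a ha) hm h
      exact ⟨s, Groth.L24.RootD.zsmul_cancel P hm (by rw [h, mul_smul])⟩
    obtain ⟨b, hb⟩ := Finsupp.support_nonempty_iff.2 (Groth.L24.RootD.comb_ne_zero_of_root hca)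
    obtain ⟨t, ht⟩ := hka b hb
    have hbs := hc hb
    rcases Groth.L24.RootD.multiple_of_root ht with rfl | rfl | rfl | rfl
    · exact hna ((P.root.injective (by rw [ht, one_smul]) : b = a) ▸ hbs)
    · rw [neg_one_zsmul, P.root_eq_neg_iff] at ht
      exact hA.disjoint haA (ht ▸ Groth.L24.RootD.simples_subset hbs)
    · exact hbs.2 ⟨a, haA, a, haA, by rw [ht, two_zsmul]⟩
    · have hbn : P.reflectionPerm b b ∈ A := by
        refine ⟨1, one_pos, ?_⟩
        rw [one_smul, Groth.L24.RootD.root_neg, ht, ← neg_smul, neg_neg, two_zsmul]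
        exact add_mem (Groth.L24.RootD.root_mem_natSpan ha) (Groth.L24.RootD.root_mem_natSpan ha)
      exact hA.disjoint (Groth.L24.RootD.simples_subset hbs) hbn
  have hspan : ∀ s ∈ Groth.L24.RootD.simples P A, s ∈ Δ := by
    intro s hs'
    obtain ⟨m, hm, h⟩ := Groth.L24.RootD.simples_subset hs'
    obtain ⟨d, hd, hd0, hdb⟩ := Groth.L24.RootD.exists_comb_of_mem_natSpan h
    have := hs.comb_eq (hd.trans hsub) (d := (m : ℤ) • Finsupp.single s 1) (fun x hx => by
      have := Finsupp.support_single_subset (Finsupp.support_smul hx)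
      rw [Finset.mem_singleton] at this
      exact this ▸ hs') (by rw [hdb]; simp)
    refine hd ?_
    rw [this, Finset.mem_coe, Finsupp.mem_support_iff]
    simp
    omega
  rcases hs.mem_or k with h | h
  · exact Or.inl (Groth.L24.RootD.natSpan_mono hspan h)
  · exact Or.inr (Groth.L24.RootD.natSpan_mono hspan h)

end Groth.Agent.S5446
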