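import Groth.Statements.S5447
import Groth.Agent.L24.RootD.Levi

set_option autoImplicit false
open RootD

namespace Groth.Agent.S5447

/-- If every root can be written in exactly one way as an integer combination of the roots indexed by Δ
with coefficients all of the same sign, then these roots are linearly independent (so Δ is a system
of simple roots) and indivisible. -/
theorem result {ι M N : Type*} [AddCommGroup M] [AddCommGroup N]
    (P : RootPairing ι ℤ M N) [Finite ι] (Δ : Set ι)
    (h : ∀ k : ι, ∃! c : ι →₀ ℤ, (↑c.support ⊆ Δ ∧ ((∀ j, 0 ≤ c j) ∨ (∀ j, c j ≤ 0)) ∧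
      Finsupp.linearCombination ℤ P.root c = P.root k)) :
    RootD.IsSimpleSys P Δ ∧ ∀ i ∈ Δ, RootD.IsIndiv P i := by
  classical
  have hindiv : RootD.IsSimpleSys P Δ → ∀ i ∈ Δ, RootD.IsIndiv P i :=
    fun hs i hi => (Groth.L24.RootD.isSimpleSys_iff.1 hs).indiv hi
  have hmem : ∀ k, P.root k ∈ RootD.natSpan P Δ ∨ -P.root k ∈ RootD.natSpan P Δ := by
    intro k
    obtain ⟨c, ⟨hc, hsgn, hck⟩, -⟩ := h k
    rcases hsgn with h0 | h0
    · exact Or.inl (hck ▸ Groth.L24.RootD.comb_mem_natSpan hc h0)
    · refine Or.inr ?_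
      have := Groth.L24.RootD.comb_mem_natSpan (P := P) (Δ := Δ) (c := -c) (by simpa using hc) (fun j => by simpa using h0 j)
      simpa [Groth.L24.RootD.comb, hck] using this
  let A : Set ι := RootD.posOf P Δ
  have hA : RootD.IsPosSys P A := by
    refine Groth.L24.RootD.isPosSys_of_closed ?_ (fun k => ?_) ?_
    · intro i hi hi'
      obtain ⟨c, hc, hc0, hci⟩ := Groth.L24.RootD.exists_comb_of_mem_natSpan hi
      obtain ⟨d, hd, hd0, hdi⟩ := Groth.L24.RootD.exists_comb_of_mem_natSpan hi'
      rw [Groth.L24.RootD.root_neg] at hdi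
      have e1 : c = -d := (h i).unique ⟨hc, Or.inl hc0, hci⟩
        ⟨by simpa using hd, Or.inr fun j => by simpa using hd0 j, by
          rw [map_neg]
          show -Groth.L24.RootD.comb P d = _
          rw [hdi, neg_neg]⟩
      exact Groth.L24.RootD.comb_ne_zero_of_root hci (le_antisymm (e1 ▸ neg_nonpos.2 hd0) hc0)
    · rcases hmem k with h | h
      · exact Or.inl h
      · exact Or.inr (Groth.L24.RootD.mem_posOf.2 (by rw [Groth.L24.RootD.root_neg]; exact h))
    · intro i j k hi hj e
      exact Groth.L24.RootD.mem_posOf.2 (e ▸ add_mem hi hj)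
  have hsimp : Δ ⊆ Groth.L24.RootD.simples P A := by
    intro a ha
    refine ⟨Groth.L24.RootD.root_mem_natSpan ha, ?_⟩
    rintro ⟨i, hi, j, hj, e⟩
    obtain ⟨c, hc, hc0, hci⟩ := Groth.L24.RootD.exists_comb_of_mem_natSpan hi
    obtain ⟨d, hd, hd0, hdj⟩ := Groth.L24.RootD.exists_comb_of_mem_natSpan hj
    have e1 : c + d = Finsupp.single a 1 := by
      refine (h a).unique ⟨fun x hx => ?_, Or.inl (add_nonneg hc0 hd0), ?_⟩
        ⟨fun x hx => ?_, Or.inl (Finsupp.single_nonneg.2 zero_le_one), by simp⟩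
      · rcases Finset.mem_union.1 (Finsupp.support_add hx) with h' | h'
        · exact hc h'
        · exact hd h'
      · rw [map_add, e]; exact congrArg₂ (· + ·) hci hdj
      · have := Finsupp.support_single_subset hx
        rw [Finset.mem_singleton] at this
        exact this ▸ ha
    have h3 : Groth.L24.RootD.csum c + Groth.L24.RootD.csum d = 1 := by
      rw [← Groth.L24.RootD.csum_single a 1, ← e1]; exact (map_add _ _ _).symm
    have h1 := Groth.L24.RootD.csum_pos hc0 (Groth.L24.RootD.comb_ne_zero_of_root hci)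
    have h2 := Groth.L24.RootD.csum_pos hd0 (Groth.L24.RootD.comb_ne_zero_of_root hdj)
    omega
  have hs : RootD.IsSimpleSys P Δ := ⟨(Groth.L24.RootD.linearIndepOn_simples hA).mono hsimp, hmem⟩
  exact ⟨hs, hindiv hs⟩

end Groth.Agent.S5447
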