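import Groth.Statements.S5451
import Groth.Agent.L24.RootD.Levi

set_option autoImplicit false
open RootD

namespace Groth.Agent.S5451

/-- If a root is a positive integer combination of roots α_i, then it can be reached from 0 by
successively adding roots taken among the α_i in such a way that every partial sum is a root. -/
theorem result {ι M N : Type*} [AddCommGroup M] [AddCommGroup N]
    (P : RootPairing ι ℤ M N) [Finite ι] {n : ℕ} (a : Fin n → ι) (m : Fin n → ℕ)
    (hm : ∀ i, 0 < m i) (k : ι) (hk : P.root k = ∑ i, m i • P.root (a i)) :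
    ∃ (l : ℕ) (b : Fin l → Fin n), 0 < l ∧
      (∀ p : Fin l, ∃ j : ι, P.root j = ∑ q ∈ Finset.univ.filter (fun q : Fin l => q.val ≤ p.val), P.root (a (b q))) ∧
      P.root k = ∑ q, P.root (a (b q)) := by
  classical
  suffices H : ∀ L : List ι, (L.map P.root).sum = P.root k → (∀ x ∈ L, ∃ q, a q = x) →
      ∃ (l : ℕ) (b : Fin l → Fin n), 0 < l ∧
        (∀ p : Fin l, ∃ j : ι, P.root j = ∑ q ∈ Finset.univ.filter (fun q : Fin l => q.val ≤ p.val), P.root (a (b q))) ∧
        P.root k = ∑ q, P.root (a (b q)) by
    refine H (((List.finRange n).map fun i => List.replicate (m i) (a i)).flatten) ?_ ?_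
    · rw [hk, List.map_flatten, List.sum_flatten, List.map_map, List.map_map, Fin.sum_univ_def]
      congr 1
      refine List.map_congr_left fun i _ => ?_
      simp
    · intro x hx
      obtain ⟨l, hl, hxl⟩ := List.mem_flatten.1 hx
      obtain ⟨i, -, rfl⟩ := List.mem_map.1 hl
      exact ⟨i, (List.eq_of_mem_replicate hxl).symm⟩
  intro L
  clear hk
  induction hL : L.length using Nat.strong_induction_on generalizing L k with
  | _ N ih =>
    intro hsum hL'
    have hk' : P.root k = Groth.L24.RootD.rsum P (L : Multiset ι) := by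
      simp [Groth.L24.RootD.rsum, hsum]
    rcases Groth.L24.RootD.exists_summand hk' with hmem | ⟨x, hx, -, k', hk''⟩
    · obtain ⟨q, rfl⟩ := hL' k hmem
      refine ⟨1, fun _ => q, one_pos, fun p => ⟨a q, ?_⟩, by simp⟩
      rw [Finset.filter_eq_self.2 (fun r _ => by omega)]
      simp
    · have hx' : x ∈ L := hx
      have hsum' : ((L.erase x).map P.root).sum = P.root k' := by
        have := ((List.perm_cons_erase hx').map P.root).sum_eq
        rw [List.map_cons, List.sum_cons, hsum] at this
        rw [hk'', this]
        abel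
      have hlen : (L.erase x).length < N := by
        rw [List.length_erase_of_mem hx']
        have := List.length_pos_of_mem hx'
        omega
      obtain ⟨q, rfl⟩ := hL' x hx'
      obtain ⟨l, b, hl, hb, hbk⟩ := ih _ hlen k' (L.erase (a q)) rfl hsum'
        (fun y hy => hL' y (List.mem_of_mem_erase hy))
      refine ⟨l + 1, Fin.snoc b q, Nat.succ_pos _, fun p => ?_, ?_⟩
      · rcases Fin.eq_castSucc_or_eq_last p with ⟨p, rfl⟩ | rfl
        · obtain ⟨j, hj⟩ := hb p
          refine ⟨j, hj.trans ?_⟩
          rw [Finset.sum_filter, Finset.sum_filter, Fin.sum_univ_castSucc]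
          have hp := p.isLt
          simp [Nat.not_le.2 hp]
        · refine ⟨k, ?_⟩
          rw [Finset.filter_eq_self.2 (fun r _ => by simp [Fin.val_last]; omega), Fin.sum_univ_castSucc]
          simp [← hbk, hk'']
      · rw [Fin.sum_univ_castSucc]
        simp [← hbk, hk'']

end Groth.Agent.S5451
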