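import Groth.Statements.S5459
import Groth.Agent.L24.RootD.Levi

set_option autoImplicit false
open RootD

namespace Groth.Agent.S5459

/-- A closed set of roots containing each root or its opposite is, for a suitable system of simple roots
Δ and a subset Δ' ⊆ Δ, the set of roots lying in ℕΔ ∪ (-ℕΔ'). -/
theorem result {ι M N : Type*} [AddCommGroup M] [AddCommGroup N]
    (P : RootPairing ι ℤ M N) [Finite ι] (P' : Set ι)
    (hP2 : ∀ i : ι, i ∈ P' ∨ P.reflectionPerm i i ∈ P') (hcl : RootD.IsClosedSub P P') :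
    ∃ Δ Δ' : Set ι, RootD.IsSimpleSys P Δ ∧ Δ' ⊆ Δ ∧
      P' = RootD.posOf P Δ ∪ {k : ι | -P.root k ∈ RootD.natSpan P Δ'} := by
  obtain ⟨S0, hS0⟩ := Groth.L24.RootD.exists_isPosSys P
  obtain ⟨g, -, hg⟩ := Groth.L24.RootD.exists_image_subset hS0 hP2 hcl
  have hS := Groth.L24.RootD.smul_isPosSys g hS0
  have hs := Groth.L24.RootD.isSimple_simples hS
  have e := Groth.L24.RootD.closed_superset_eq hS hs Groth.L24.RootD.simples_subset hcl hg
  refine ⟨_, {i | i ∈ Groth.L24.RootD.simples P ((fun i => g • i) '' S0) ∧ P.reflectionPerm i i ∈ P'},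
    hs.isSimpleSys, fun i hi => hi.1, ?_⟩
  rw [Groth.L24.RootD.posOf_simples hS]
  exact e

end Groth.Agent.S5459
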