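import Groth.Statements.S5466
import Groth.Agent.L24.RootD.Coord

set_option autoImplicit false
open RootD

namespace Groth.Agent.S5466

/-- The reflection in a simple root β maps every positive root not proportional to β to a positive root. -/
theorem result {ι M N : Type*} [AddCommGroup M] [AddCommGroup N]
    (P : RootPairing ι ℤ M N) [Finite ι] (Δ : Set ι) (hΔ : RootD.IsSimpleSys P Δ)
    (k i : ι) (hk : k ∈ RootD.posOf P Δ) (hi : i ∈ Δ)
    (hli : LinearIndependent ℤ ![P.root k, P.root i]) :
    P.reflectionPerm i k ∈ RootD.posOf P Δ := by
  have hΔ' := Groth.L24.RootD.isSimpleSys_iff.1 hΔ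
  rcases hΔ'.eq_single_or_reflection_mem_pos hi hk with h | h | h
  · exact absurd h fun h => by
      rw [LinearIndependent.pair_iff] at hli
      simpa using hli 1 (-1) (by simp [h])
  · exact absurd h fun h => by
      rw [LinearIndependent.pair_iff] at hli
      simpa using hli 1 (-2) (by rw [h]; module)
  · exact h

end Groth.Agent.S5466
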