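import Groth.Statements.S5468
import Groth.Agent.L24.RootD.Lengths

set_option autoImplicit false
open RootD

namespace Groth.Agent.S5468

/-- Two roots whose reflections are distinct and commute are orthogonal. -/
theorem result {ι M N : Type*} [AddCommGroup M] [AddCommGroup N]
    (P : RootPairing ι ℤ M N) [Finite ι] (i j : ι)
    (hne : P.reflection i ≠ P.reflection j) (hc : Commute (P.reflection i) (P.reflection j)) :
    P.IsOrthogonal i j := by
  have : Fintype ι := Fintype.ofFinite ι
  exact Groth.L24.RootD.orth_of_commute hne hc

end Groth.Agent.S5468
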