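import Groth.Statements.S5472
import Groth.Agent.L24.RootD.Tits
-- import your own Groth.Agent.* helpers here

set_option autoImplicit false
open RootPairing
open scoped Pointwise
open RootD

namespace Groth.Agent.S5472

/-- Let Δ be a system of simple roots (root-only sense), γ a positive root and α, β simple roots with
(γ, α^v) > 0 and (γ, β^v) ≥ 0 (equivalently: the order of s_α(γ) along Δ is smaller than that of γ,
and the order of s_β(γ) is at most that of γ). Then for every w in the group generated by s_α and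
s_β the order of w(γ) along Δ is at most that of γ, and strictly smaller unless w ∈ {1, s_β}. The
order is the sum of the coefficients along Δ; the conclusion is stated for the coefficient vector c
of γ - w(γ) along Δ: its coefficient sum is ≥ 0, and > 0 unless w = 1 or w = s_β. -/
theorem result {ι M N : Type*} [AddCommGroup M] [AddCommGroup N]
    (P : RootPairing ι ℤ M N) [Finite ι] (Δ : Set ι) (hΔ : RootD.IsSimpleSys P Δ)
    (k i j : ι) (hk : k ∈ RootD.posOf P Δ) (hi : i ∈ Δ) (hj : j ∈ Δ)
    (hα : 0 < P.pairing k i) (hβ : 0 ≤ P.pairing k j)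
    (g : P.Aut) (hg : g ∈ Subgroup.closure {Equiv.reflection P i, Equiv.reflection P j})
    (c : ι →₀ ℤ) (hc : ↑c.support ⊆ Δ)
    (hck : Finsupp.linearCombination ℤ P.root c = P.root k - P.root (g • k)) :
    0 ≤ c.sum (fun _ a => a) ∧ (g ≠ 1 → g ≠ Equiv.reflection P j → 0 < c.sum (fun _ a => a)) := by
  have hΔ' := Groth.L24.RootD.isSimpleSys_iff.1 hΔ
  have hT : ({i, j} : Set ι) ⊆ Δ := Set.pair_subset hi hj
  obtain ⟨l, hl, hlg⟩ := Groth.L24.RootD.exists_minWord (T := ({i, j} : Set ι)) (g := g)
    (by rwa [Set.image_pair])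
  have hp : ∀ a b : ι, P.pairingIn ℤ a b = P.pairing a b := fun a b => by
    have := P.algebraMap_pairingIn ℤ a b
    simpa using this
  have hnn : ∀ a ∈ ({i, j} : Set ι), 0 ≤ P.pairingIn ℤ k a := by
    rintro a (rfl | rfl) <;> rw [hp]
    · exact hα.le
    · exact hβ
  obtain ⟨d, hd, hdk, hd0, hdp⟩ := Groth.L24.RootD.comb_smul_sub hΔ' hT l hl hnn
  have hcd : c = d := hΔ'.comb_eq hc hd ((hlg.symm ▸ hdk).symm ▸ hck)
  have hsum : c.sum (fun _ a => a) = Groth.L24.RootD.csum c := (Groth.L24.RootD.csum_def c).symm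
  rw [hsum, hcd]
  refine ⟨hd0, fun h1 h2 => ?_⟩
  by_contra hneg
  have hall : ∀ a ∈ l, a = j := fun a ha => by
    rcases hl.1 a ha with e | e
    · exact absurd (hdp a ha (by rw [e, hp]; exact hα)) hneg
    · exact e
  rcases l with _ | ⟨a, t⟩
  · exact h1 (by rw [← hlg]; simp [Groth.L24.RootD.wd_nil])
  obtain rfl := hall a List.mem_cons_self
  rcases t with _ | ⟨b, t⟩
  · exact h2 (by rw [← hlg]; simp [Groth.L24.RootD.wd_singleton])
  obtain rfl := hall b (by simp)
  have := hl.2 t (fun x hx => hl.1 x (by simp [hx])) (by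
    rw [Groth.L24.RootD.wd_cons, Groth.L24.RootD.wd_cons, ← mul_assoc, Groth.L24.RootD.reflection_mul_self, one_mul])
  simp only [List.length_cons] at this
  omega

end Groth.Agent.S5472
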