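import Groth.Statements.S5477
import Groth.Agent.L24.RootD.Levi

set_option autoImplicit false
open RootPairing
open scoped Pointwise
open RootD

namespace Groth.Agent.S5477

/-- An automorphism of a root datum acting trivially on the radical (u(m) - m in the rational span of
the roots for all m) is determined by its action on the roots: if it fixes every root it is the
identity. -/
theorem result {ι M N : Type*} [AddCommGroup M] [AddCommGroup N]
    (P : RootPairing ι ℤ M N) [Finite ι] (u : P.Aut)
    (hs : ∀ m : M, ∃ n : ℕ, 0 < n ∧ n • (u • m - m) ∈ Submodule.span ℤ (Set.range P.root))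
    (hfix : ∀ i : ι, u • i = i) : u = 1 := by
  apply RootPairing.Equiv.weightHom_injective P
  ext m
  show u • m = (1 : P.Aut) • m
  rw [one_smul]
  obtain ⟨n, hn, h⟩ := hs m
  have := Groth.L24.RootD.torsionFree_M P
  have h0 : n • (u • m - m) = 0 := by
    refine Groth.L24.RootD.eq_zero_of_mem_rootSpan h fun j => ?_
    rw [map_nsmul, map_sub]
    conv_lhs => arg 2; arg 1; rw [← hfix j, Groth.L24.RootD.coroot'_smul]
    rw [sub_self, smul_zero]
  exact sub_eq_zero.1 ((nsmul_eq_zero_iff_right hn.ne').1 h0)

end Groth.Agent.S5477
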