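import Groth.Statements.S5478
import Groth.Agent.L24.RootD.Levi

set_option autoImplicit false
open RootPairing
open scoped Pointwise
open RootD

namespace Groth.Agent.S5478

/-- The group of automorphisms of a root datum that act trivially on the radical is finite. -/
theorem result {ι M N : Type*} [AddCommGroup M] [AddCommGroup N]
    (P : RootPairing ι ℤ M N) [Finite ι] :
    Set.Finite {u : P.Aut | ∀ m : M, ∃ n : ℕ, 0 < n ∧ n • (u • m - m) ∈ Submodule.span ℤ (Set.range P.root)} := by
  refine Set.Finite.of_finite_image (f := fun u : P.Aut => (RootPairing.Equiv.indexHom P u)) ?_ ?_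
  · exact Set.toFinite _
  intro u hu v hv e
  have hidx : ∀ i, u • i = v • i := fun i => _root_.Equiv.congr_fun e i
  apply RootPairing.Equiv.weightHom_injective P
  ext m
  show u • m = v • m
  obtain ⟨n, hn, h⟩ := hu m
  obtain ⟨n', hn', h'⟩ := hv m
  have := Groth.L24.RootD.torsionFree_M P
  have h0 : (n * n') • (u • m - v • m) = 0 := by
    refine Groth.L24.RootD.eq_zero_of_mem_rootSpan (P := P) ?_ fun j => ?_
    · have : (n * n') • (u • m - v • m) = n' • n • (u • m - m) - n • n' • (v • m - m) := by
        simp only [smul_smul, smul_sub, mul_comm n' n]; abel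
      rw [this]
      exact sub_mem (nsmul_mem h _) (nsmul_mem h' _)
    · rw [map_nsmul, map_sub]
      have ej : j = u • (u⁻¹ • j) := (smul_inv_smul u j).symm
      conv_lhs => arg 2; arg 1; rw [ej, Groth.L24.RootD.coroot'_smul]
      conv_lhs => arg 2; arg 2; rw [ej, hidx, Groth.L24.RootD.coroot'_smul]
      rw [sub_self, smul_zero]
  exact sub_eq_zero.1 ((nsmul_eq_zero_iff_right (Nat.mul_pos hn hn').ne').1 h0)

end Groth.Agent.S5478
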