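import Groth.Statements.S5479
import Groth.Agent.L24.RootD.Weyl

set_option autoImplicit false
open RootPairing
open scoped Pointwise
open RootD

namespace Groth.Agent.S5479

/-- Aut(R) is the semidirect product of the Weyl group by the stabiliser E_Δ of a system of simple
roots: every automorphism is uniquely w · e with w ∈ W and e(Δ) = Δ. -/
theorem result {ι M N : Type*} [AddCommGroup M] [AddCommGroup N]
    (P : RootPairing ι ℤ M N) [Finite ι] (Δ : Set ι) (hΔ : RootD.IsSimpleSys P Δ) (u : P.Aut) :
    ∃! w : P.weylGroup, (fun i : ι => ((w : P.Aut)⁻¹ * u) • i) '' Δ = Δ := by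
  have hΔ' := Groth.L24.RootD.isSimpleSys_iff.1 hΔ
  obtain ⟨g, hg, huniq⟩ := hΔ'.existsUnique_weyl (hΔ'.smul u)
  have key : ∀ w : P.weylGroup, (fun i : ι => ((w : P.Aut)⁻¹ * u) • i) '' Δ = Δ ↔
      (fun i : ι => (w : P.Aut) • i) '' Δ = (fun i : ι => u • i) '' Δ := by
    intro w
    constructor
    · intro h
      conv_lhs => rw [← h]
      rw [Groth.L24.RootD.image_image_smul, mul_inv_cancel_left]
    · intro h
      rw [← Groth.L24.RootD.image_image_smul, ← h, Groth.L24.RootD.image_image_smul, inv_mul_cancel]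
      simp
  exact ⟨g, (key g).2 hg, fun w hw => huniq w ((key w).1 hw)⟩

end Groth.Agent.S5479
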