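import Groth.Statements.S5482
import Groth.Agent.L24.RootD.Lengths

set_option autoImplicit false
open RootD

namespace Groth.Agent.S5482

/-- If the roots are partitioned into two closed symmetric subsets R', R'', then with Δ' = Δ ∩ R', Δ'' =
Δ ∩ R'' for a system of simple roots Δ one has R' = R_{Δ'}, R'' = R_{Δ''}, and Δ' is orthogonal to
Δ''. -/
theorem result {ι M N : Type*} [AddCommGroup M] [AddCommGroup N]
    (P : RootPairing ι ℤ M N) [Finite ι] (Δ : Set ι) (hΔ : RootD.IsSimpleSys P Δ) (R' : Set ι)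
    (hc : RootD.IsClosedSub P R') (hs : RootD.IsSymmSub P R') (hc' : RootD.IsClosedSub P R'ᶜ)
    (hs' : RootD.IsSymmSub P R'ᶜ) :
    R' = RootD.inSpan P (Δ ∩ R') ∧ R'ᶜ = RootD.inSpan P (Δ \ R') ∧
      ∀ i ∈ Δ ∩ R', ∀ j ∈ Δ \ R', P.IsOrthogonal i j := by
  have hΔ' := Groth.L24.RootD.isSimpleSys_iff.1 hΔ
  have h := Groth.L24.RootD.split_iff.2 ⟨hc, hs, hc', hs'⟩
  have e : Δ ∩ R'ᶜ = Δ \ R' := rfl
  have h1 : ∀ k ∈ R', k ∈ RootD.inSpan P (Δ ∩ R') := fun k hk => hΔ'.mem_inSpan_of_split h hk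
  have h2 : ∀ k ∈ R'ᶜ, k ∈ RootD.inSpan P (Δ \ R') := fun k hk => e ▸ hΔ'.mem_inSpan_of_split h.compl hk
  have e2 : Δ \ (Δ ∩ R') = Δ \ R' := by simp
  refine ⟨Set.Subset.antisymm h1 fun k hk => ?_, Set.Subset.antisymm h2 fun k hk => ?_,
    fun i hi j hj => Groth.L24.RootD.isOrthogonal_iff.2 (h i hi.2 j hj.2)⟩
  · by_contra hn
    exact hΔ'.disjoint_span Set.inter_subset_left hk (by rw [e2]; exact h2 k hn)
  · intro hn
    exact hΔ'.disjoint_span Set.inter_subset_left (h1 k hn) (by rw [e2]; exact hk)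

end Groth.Agent.S5482
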