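import Groth.Statements.S5486
import Groth.Agent.L24.RootD.Lengths

set_option autoImplicit false
open RootD

namespace Groth.Agent.S5486

/-- For orthogonal roots α, β, the sum α + β is a root if and only if the difference α - β is. -/
theorem result {ι M N : Type*} [AddCommGroup M] [AddCommGroup N]
    (P : RootPairing ι ℤ M N) [Finite ι] (i j : ι) (h : P.IsOrthogonal i j) :
    P.root i + P.root j ∈ Set.range P.root ↔ P.root i - P.root j ∈ Set.range P.root := by
  have hz : P.pairing i j = 0 := h.1
  have key : ∀ x : ℤ, P.root i + x • P.root j ∈ Set.range P.root → P.root i - x • P.root j ∈ Set.range P.root := by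
    rintro x ⟨k, hk⟩
    refine ⟨P.reflectionPerm j k, ?_⟩
    rw [RootPairing.root_reflectionPerm, hk, map_add, map_zsmul, RootPairing.reflection_apply_self,
      RootPairing.reflection_apply_root, hz]
    module
  constructor
  · intro hx
    simpa using key 1 (by simpa using hx)
  · intro hx
    simpa [sub_eq_add_neg] using key (-1) (by simpa [sub_eq_add_neg] using hx)

end Groth.Agent.S5486
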