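import Groth.Statements.S5489
import Groth.Agent.L24.RootD.Coord

set_option autoImplicit false
open RootD

namespace Groth.Agent.S5489

/-- If a root α, distinct from roots α_1, ..., α_n, is a non-negative rational combination of them, then
some α_l with non-zero coefficient has (α^v, α_l) > 0 and α - α_l a root. -/
theorem result {ι M N : Type*} [AddCommGroup M] [AddCommGroup N]
    (P : RootPairing ι ℤ M N) [Finite ι] {n : ℕ} (a : Fin n → ι) (m : Fin n → ℕ)
    (k : ι) (hne : ∀ l, a l ≠ k) (c : ℕ) (hc : 0 < c) (hk : c • P.root k = ∑ l, m l • P.root (a l)) :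
    ∃ l : Fin n, m l ≠ 0 ∧ 0 < P.pairing (a l) k ∧ P.root k - P.root (a l) ∈ Set.range P.root := by
  classical
  have h2 : (c : ℤ) * 2 = ∑ l, (m l : ℤ) * P.pairing (a l) k := by
    have := congrArg (P.coroot' k) hk
    simp only [map_nsmul, map_sum, RootPairing.root_coroot'_eq_pairing, RootPairing.pairing_same, nsmul_eq_mul] at this
    exact this
  have : ∃ l, 0 < (m l : ℤ) * P.pairing (a l) k := by
    by_contra hh
    push Not at hh
    have := Finset.sum_nonpos (s := Finset.univ) (fun l _ => hh l)
    omega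
  obtain ⟨l, hl⟩ := this
  have hm : m l ≠ 0 := fun e => by simp [e] at hl
  have hp : 0 < P.pairing (a l) k := pos_of_mul_pos_right hl (Int.natCast_nonneg _)
  have hp' : 0 < P.pairingIn ℤ k (a l) := by
    rw [P.zero_lt_pairingIn_iff' ℤ]
    rw [← P.algebraMap_pairingIn ℤ] at hp
    simpa using hp
  obtain ⟨k', hk'⟩ := Groth.L24.RootD.exists_root_sub hp' (hne l).symm
  exact ⟨l, hm, hp, k', hk'⟩

end Groth.Agent.S5489
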