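import Groth.Statements.S5494
import Groth.Agent.L24.RootD.Lengths

set_option autoImplicit false
open RootD

namespace Groth.Agent.S5494

/-- If a system of simple roots has no partition into two non-empty orthogonal subsets, then any two
roots are linked by a chain of roots with consecutive members non-orthogonal. -/
theorem result {ι M N : Type*} [AddCommGroup M] [AddCommGroup N]
    (P : RootPairing ι ℤ M N) [Finite ι] (Δ : Set ι) (hΔ : RootD.IsSimpleSys P Δ)
    (hconn : ∀ Δ' : Set ι, Δ' ⊆ Δ → (∀ i ∈ Δ', ∀ j ∈ Δ \ Δ', P.IsOrthogonal i j) → Δ' = ∅ ∨ Δ' = Δ)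
    (i j : ι) : Relation.ReflTransGen (fun a b : ι => ¬ P.IsOrthogonal a b) i j := by
  have hΔ' := Groth.L24.RootD.isSimpleSys_iff.1 hΔ
  classical
  have hreach : ∀ k, ∃ a ∈ Δ, ¬ P.IsOrthogonal k a := by
    intro k
    by_contra hh
    push Not at hh
    have h2 : P.pairingIn ℤ k k = 0 := Groth.L24.RootD.pairingIn_eq_zero_of_span (S := Δ) (by
      rcases hΔ'.mem_or k with h | h
      · exact Groth.L24.RootD.natSpan_le_span _ h
      · exact neg_mem_iff.1 (Groth.L24.RootD.natSpan_le_span _ h))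
      fun a ha => Groth.L24.RootD.pairingIn_comm_zero (Groth.L24.RootD.isOrthogonal_iff.1 (hh a ha))
    simp at h2
  have hsimp : ∀ a ∈ Δ, ∀ b ∈ Δ, Relation.ReflTransGen (fun a b : ι => ¬ P.IsOrthogonal a b) a b := by
    intro a ha b hb
    rcases hconn {x ∈ Δ | Relation.ReflTransGen (fun a b : ι => ¬ P.IsOrthogonal a b) a x} (fun x hx => hx.1)
      (fun x hx y hy => by
        by_contra hne
        exact hy.2 ⟨hy.1, hx.2.tail hne⟩) with h | h
    · have haa : a ∈ {x ∈ Δ | Relation.ReflTransGen (fun a b : ι => ¬ P.IsOrthogonal a b) a x} :=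
        ⟨ha, Relation.ReflTransGen.refl⟩
      rw [h] at haa
      exact haa.elim
    · exact (h.ge hb).2
  obtain ⟨a, ha, hia⟩ := hreach i
  obtain ⟨b, hb, hjb⟩ := hreach j
  exact ((Relation.ReflTransGen.single hia).trans (hsimp a ha b hb)).tail
    (fun h => hjb (RootPairing.IsOrthogonal.symm h))

end Groth.Agent.S5494
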