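import Groth.Statements.S5499
import Groth.Agent.L24.RootD.Long
import Groth.Agent.L24.RootD.Exists
-- import your own Groth.Agent.* helpers here

set_option autoImplicit false
open RootD

namespace Groth.Agent.S5499

/-- For an irreducible datum, where long(α) = ℓ(α)/ℓ(α₀) with ℓ(α₀) minimal: there is a unique
homomorphism u : Γ_0(R) → M^v with u(α) = long(α) α^v for every root α. -/
theorem result {ι M N : Type*} [AddCommGroup M] [AddCommGroup N]
    (P : RootPairing ι ℤ M N) [Finite ι] [Fintype ι]
    (hirr : ∀ R' : Set ι, RootD.IsClosedSub P R' → RootD.IsSymmSub P R' → RootD.IsClosedSub P R'ᶜ →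
      RootD.IsSymmSub P R'ᶜ → R' = ∅ ∨ R' = Set.univ)
    (i₀ : ι) (hmin : ∀ i : ι, P.RootForm (P.root i₀) (P.root i₀) ≤ P.RootForm (P.root i) (P.root i)) :
    ∃! u : Submodule.span ℤ (Set.range P.root) →+ N, ∀ i : ι,
      u ⟨P.root i, Submodule.subset_span (Set.mem_range_self i)⟩ =
        (P.RootForm (P.root i) (P.root i) / P.RootForm (P.root i₀) (P.root i₀)) • P.coroot i := by
  have := Groth.L24.RootD.torsionFree_N P
  have h0 : P.RootForm (P.root i₀) (P.root i₀) ≠ 0 := (Groth.L24.RootD.ell_pos (P := P) i₀).ne'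
  have hmul : ∀ i : ι, P.RootForm (P.root i₀) (P.root i₀) •
      ((P.RootForm (P.root i) (P.root i) / P.RootForm (P.root i₀) (P.root i₀)) • P.coroot i) =
      (2 : ℤ) • P.Polarization (P.root i) := fun i => by
    rw [smul_smul, Int.mul_ediv_cancel' ((Groth.L24.RootD.irr_of_closed hirr).ell_min_dvd hmin i),
      ← Groth.L24.RootD.ell_smul_coroot]
  obtain ⟨Δ, hΔ⟩ := Groth.L24.RootD.exists_isSimple P
  refine hΔ.existsUnique_extend
    (fun i => (P.RootForm (P.root i) (P.root i) / P.RootForm (P.root i₀) (P.root i₀)) • P.coroot i)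
    (fun i => smul_right_injective N h0 ?_) (fun i j k hk => smul_right_injective N h0 ?_)
  · simp only [smul_neg, hmul]
    rw [Groth.L24.RootD.root_neg, map_neg, smul_neg]
  · simp only [smul_add, hmul]
    rw [hk, map_add, smul_add]

end Groth.Agent.S5499
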