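import Groth.Statements.S5501
import Groth.Agent.L24.RootD.Ranks
-- import your own Groth.Agent.* helpers here

set_option autoImplicit false
universe u v w
open RootD

namespace Groth.Agent.S5501

/-- Adjoint case; the simply connected case is dual: a semisimple root datum R is adjoint if and only if
every isogeny R' → R is an isomorphism. -/
theorem result {ι : Type u} {M : Type v} {N : Type w} [AddCommGroup M] [AddCommGroup N]
    (P : RootPairing ι ℤ M N) [Finite ι] [Module.Finite ℤ M] [Module.Finite ℤ N]
    (hss : Module.finrank ℤ (Submodule.span ℤ (Set.range P.root)) = Module.finrank ℤ M) :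
    Submodule.span ℤ (Set.range P.root) = ⊤ ↔
      ∀ (ι' : Type u) (M' N' : Type v) [AddCommGroup M'] [AddCommGroup N'] [Finite ι']
        [Module.Finite ℤ M'] [Module.Finite ℤ N'] (P' : RootPairing ι' ℤ M' N') (f : RootPairing.Hom P' P),
        Function.Injective f.weightMap → Finite (M ⧸ LinearMap.range f.weightMap) →
          Function.Bijective f.weightMap := by
  have : Fintype ι := Fintype.ofFinite ι
  have : Module.IsReflexive ℤ M := .of_isPerfPair P.toLinearMap
  constructor
  · intro h ι' M' N' _ _ _ _ _ P' f hf _
    refine ⟨hf, LinearMap.range_eq_top.1 (top_le_iff.1 ?_)⟩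
    rw [← h, Submodule.span_le]
    rintro - ⟨i, rfl⟩
    exact ⟨P'.root (f.indexEquiv.symm i), by
      rw [RootPairing.Hom.root_weightMap_apply, _root_.Equiv.apply_symm_apply]⟩
  · intro h
    have hfin := Groth.L24.RootD.finite_quotient_of_full_rank hss
    let M' := Submodule.span ℤ (Set.range P.root)
    let r : ι → M' := fun i => ⟨P.root i, Submodule.subset_span (Set.mem_range_self i)⟩
    let c : N →ₗ[ℤ] Module.Dual ℤ M' := M'.subtype.dualMap ∘ₗ P.flip.toLinearMap
    have hc : ∀ n x, c n x = P.toLinearMap (x : M) n := fun _ _ => rfl
    have hcinj : Function.Injective c := by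
      intro a b hab
      have hker : ∀ x : M, P.toLinearMap x a = P.toLinearMap x b := by
        intro x
        have hm : Nat.card (M ⧸ M') • x ∈ M' := by
          rw [← Submodule.Quotient.mk_eq_zero, Submodule.Quotient.mk_smul]
          exact card_nsmul_eq_zero'
        have h1 := LinearMap.congr_fun hab ⟨_, hm⟩
        rw [hc, hc] at h1
        simp only [map_nsmul, LinearMap.smul_apply] at h1
        exact (smul_right_inj (Nat.card_pos (α := M ⧸ M')).ne').1 h1
      exact P.flip.toPerfPair.injective (LinearMap.ext hker)
    let P' : RootPairing ι ℤ M' (Module.Dual ℤ M') :=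
      { toLinearMap := Module.Dual.eval ℤ M'
        root := ⟨r, fun i j hij => P.root.injective (congrArg Subtype.val hij)⟩
        coroot := ⟨fun i => c (P.coroot i), hcinj.comp P.coroot.injective⟩
        root_coroot_two := fun i => P.root_coroot_two i
        reflectionPerm := P.reflectionPerm
        reflectionPerm_root := fun i j => Subtype.ext (P.reflectionPerm_root i j)
        reflectionPerm_coroot := fun i j => by
          change c (P.coroot j) - P.toLinearMap (P.root i) (P.coroot j) • c (P.coroot i)
            = c (P.coroot (P.reflectionPerm i j))
          rw [← P.reflectionPerm_coroot, map_sub, map_smul] }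
    let f : RootPairing.Hom P' P :=
      { weightMap := M'.subtype
        coweightMap := c
        indexEquiv := _root_.Equiv.refl ι
        weight_coweight_transpose := by
          refine LinearMap.ext fun n => LinearMap.ext fun x => ?_
          rfl
        root_weightMap := rfl
        coroot_coweightMap := rfl }
    have hr : LinearMap.range f.weightMap = M' := M'.range_subtype
    have hb := h ι M' (Module.Dual ℤ M') P' f M'.injective_subtype (by rw [hr]; exact hfin)
    rw [← LinearMap.range_eq_top.2 hb.2, hr]

end Groth.Agent.S5501
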