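import Groth.Statements.S5511
import Groth.Agent.L08.TorusWeights.CentreInter
import Groth.Agent.L08.TorusWeights.Radical
-- import your own Groth.Agent.* helpers here

set_option autoImplicit false
set_option backward.isDefEq.respectTransparency.types false
set_option linter.style.haveILetI false
open CategoryTheory MonoidalCategory CartesianMonoidalCategory MonObj GrpObj AlgebraicGeometry
universe u
open RedSub

namespace Groth.Agent.S5511

/-- The centre of a reductive group is the intersection of its maximal tori, in the functorial sense.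
Let G be a reductive S-group and j : Z ⟶ G its centre. For a point g of G with values in X, g
factors through Z if and only if, for every scheme Y over X and every maximal torus T ⟶ G_Y of the
base change of G to Y, the Y-valued point of G_Y defined by g factors through T. -/
theorem result {S : Scheme.{u}} {G Z : Over S} [GrpObj G] [GrpObj Z]
    (hG : Red.IsReductive G) (j : Z ⟶ G) (hZ : Red.IsCentre j) (X : Over S) (g : X ⟶ G) :
    (∃ z : X ⟶ Z, z ≫ j = g) ↔
      ∀ (Y : Scheme.{u}) (y : Y ⟶ X.left) (T : Over Y) [GrpObj T] (i : T ⟶ Red.bc (y ≫ X.hom) G),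
        Red.IsMaximalTorus i →
          ∃ p : Y ⟶ T.left, p ≫ T.hom = 𝟙 Y ∧
            p ≫ i.left ≫ Limits.pullback.fst G.hom (y ≫ X.hom) = y ≫ g.left := by
  haveI := hG.1; haveI := hG.2.1
  haveI := hZ.1
  constructor
  · rintro ⟨z, rfl⟩ Y y T _ i hi
    let r : Y ⟶ S := y ≫ X.hom
    let Q : Over Y := Over.mk (𝟙 Y)
    let g' : Over.mk (Q.hom ≫ r) ⟶ G :=
      (Over.homMk y (show y ≫ X.hom = Q.hom ≫ r from (Category.id_comp r).symm)) ≫ z ≫ j
    have hc : Groth.L08.TorusWeights.IsCentralPt g' := fun X' x h =>
      Groth.L08.TorusWeights.commute_centre hZ (x ≫ (Over.homMk y (show y ≫ X.hom = Q.hom ≫ r from (Category.id_comp r).symm)) ≫ z) h |>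
        fun e => by simpa [g', Category.assoc] using e
    obtain ⟨w, hw⟩ := Groth.L08.TorusWeights.exists_fac_maxTorus_of_central
      (Groth.L08.TorusWeights.unipotentRankZero_of_isReductive hG) r hi hc
    refine ⟨w.left, Over.w w, ?_⟩
    have e := congrArg (fun m => m.left ≫ Limits.pullback.fst G.hom r) hw
    simp only [Groth.L25.NilAction.ofBase, Over.homMk_left, Over.comp_left, Category.assoc, Limits.pullback.lift_fst] at e
    exact e
  · intro h
    refine (hZ.2.2 X g).2 fun X' x k => ?_
    rw [Category.comp_id]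
    refine Groth.L08.TorusWeights.commute_of_commutesAllTori hG (fun X'' x'' T _ i t hi => ?_) x k
    haveI := hi.1
    let r : X''.left ⟶ S := x''.left ≫ X.hom
    have hr : r = X''.hom := Over.w x''
    suffices key : ∀ (r' : X''.left ⟶ S) (hr' : r' = X''.hom) (T' : Over X''.left) (_ : GrpObj T')
        (i' : T' ⟶ Red.bc r' G), Red.IsMaximalTorus i' →
        ∃ p : X''.left ⟶ T'.left, p ≫ T'.hom = 𝟙 _ ∧
          p ≫ i'.left ≫ Limits.pullback.fst G.hom r' = x''.left ≫ g.left by
      obtain ⟨p, hp, hpe⟩ := key X''.hom rfl T inferInstance i hi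
      let p' : 𝟙_ (Over X''.left) ⟶ T := Over.homMk p hp
      have e : x'' ≫ g = Groth.L08.TorusWeights.idPt X'' ≫ Groth.L25.NilAction.toBase X''.hom (p' ≫ i) := by
        apply Over.OverMorphism.ext
        simp only [Groth.L08.TorusWeights.idPt, Groth.L25.NilAction.toBase, Over.homMk_left, Over.comp_left, Category.assoc, p']
        exact hpe.symm.trans (Category.id_comp _).symm
      rw [e, ← MonObj.comp_mul, ← MonObj.comp_mul, ← Groth.L25.NilAction.toBase_mul, ← Groth.L25.NilAction.toBase_mul,
        ← MonObj.mul_comp, ← MonObj.mul_comp, Groth.L08.TorusWeights.torus_comm hi.2.2.1]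
    intro r' hr' T' gT' i' hi'
    obtain rfl : r' = x''.left ≫ X.hom := hr'.trans hr.symm
    exact h X''.left x''.left T' i' hi'

end Groth.Agent.S5511
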