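import Groth.Statements.S5513
import Groth.Agent.L15.TypeRLe.Global
-- import your own Groth.Agent.* helpers here

set_option autoImplicit false
open CategoryTheory MonoidalCategory CartesianMonoidalCategory MonObj GrpObj AlgebraicGeometry
universe u
open RedSub

namespace Groth.Agent.S5513

/-- Let G be a reductive S-group, T a maximal torus of G, and H, H' two subgroups of type (R) of G
containing T. If at a point s of S the geometric fibre of H is contained in that of H' (inside the
geometric fibre of G), then there is an open neighbourhood U of s such that H_U ⊆ H'_U (the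
inclusion of H_U into G_U factors through H'_U). -/
theorem result {S : Scheme.{u}} {G T H H' : Over S} [GrpObj G] [GrpObj T] [GrpObj H] [GrpObj H']
    (hG : Red.IsReductive G) (i : T ⟶ G) (hT : Red.IsMaximalTorus i) (h : H ⟶ G) (h' : H' ⟶ G)
    (hH : RedSub.IsTypeR h) (hH' : RedSub.IsTypeR h') (t : T ⟶ H) (t' : T ⟶ H') (ht : t ≫ h = i) (ht' : t' ≫ h' = i)
    (s : S) (hs : ∃ f : Red.geomFibre s H ⟶ Red.geomFibre s H',
      f ≫ (Over.pullback (Red.geomPt s)).map h' = (Over.pullback (Red.geomPt s)).map h) :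
    ∃ U : S.Opens, s ∈ U ∧ ∃ f : Red.bc U.ι H ⟶ Red.bc U.ι H',
      f ≫ (Over.pullback U.ι).map h' = (Over.pullback U.ι).map h := by
  obtain ⟨f, hf⟩ := hs
  have hc := L15.TypeRLe.isClopen_le hG i hT h h' hH hH' t t' ht ht'
  refine ⟨⟨_, hc.2⟩, L15.TypeRLe.le_of_hom f hf, ?_⟩
  exact L15.TypeRLe.hom_of_le (L15.TypeRLe.le_of_fibres hG i hT h h' hH hH' t t' ht ht' _ fun _ hx => hx)

end Groth.Agent.S5513
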