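import Groth.Statements.S5514
import Groth.Agent.L15.EssFree.Main
-- import your own Groth.Agent.* helpers here

set_option autoImplicit false
open CategoryTheory MonoidalCategory CartesianMonoidalCategory MonObj GrpObj AlgebraicGeometry
universe u
open RedSub

namespace Groth.Agent.S5514

/-- A reductive S-group G is essentially free over S: every point of S has an affine open neighbourhood
U and a flat surjective morphism from an affine scheme S' to U such that G_{S'} is covered by affine
opens whose rings of functions are projective modules over the ring of S'. -/
theorem result {S : Scheme.{u}} (G : Over S) [GrpObj G] (hG : Red.IsReductive G) :
    SGA3x.IsEssentiallyFree G.hom := by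
  exact Groth.L15.EssFree.isEssentiallyFree_of_reductive G hG

end Groth.Agent.S5514
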