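import Groth.Statements.S5516
import Groth.Agent.L14.Splitting.Etale

set_option autoImplicit false
set_option backward.isDefEq.respectTransparency.types false
set_option linter.style.haveILetI false
open CategoryTheory MonoidalCategory CartesianMonoidalCategory MonObj GrpObj AlgebraicGeometry
universe u
open RedSub

namespace Groth.Agent.S5516

/-- Let k be a field and G a reductive k-group. Then there is a finite separable extension K of k over
which G_K is split: G_K admits a splitting in the sense of the prelude (split maximal torus, root
datum, root homomorphisms). -/
theorem result (k : Type u) [Field k] (G : Over (Spec (CommRingCat.of k))) [GrpObj G]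
    (hG : Red.IsReductive G) :
    ∃ (K : Type u) (_ : Field K) (_ : Algebra k K), FiniteDimensional k K ∧ Algebra.IsSeparable k K ∧
      Nonempty (Red.SplitRed (Red.bc (Spec.map (CommRingCat.ofHom (algebraMap k K))) G)) :=
  Groth.L14.Splitting.exists_rootData_field k G hG

end Groth.Agent.S5516
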