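import Groth.Statements.S5521
import Groth.Agent.L14.Chev.Cell.Span
import Groth.Agent.L14.Chev.Cell.Reduced

set_option autoImplicit false
set_option linter.style.haveILetI false
set_option backward.isDefEq.respectTransparency.types false
open CategoryTheory MonoidalCategory CartesianMonoidalCategory MonObj GrpObj AlgebraicGeometry
universe u
open RedSub Groth.L14.Chev.Cell Groth.L14.RankOne Groth.L14.Chart Groth.L25 CategoryTheory.Limits

namespace Groth.Agent.S5521

/-- Let G be a split reductive S-group (splitting D, root homomorphisms u_c : G_a ⟶ G), b a system of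
simple roots and α, β two roots positive for b. Let e be an injective enumeration of the roots of
the form i α + j β with i, j ≥ 1, with exponents (i_k, j_k). Then there is a unique family (C_k) of
global functions on S such that, for all points x, y of G_a (with values in any X over S), u_α(x)
u_β(y) u_α(x)⁻¹ = u_β(y) · ∏_k u_{e k}(C_k x^{i_k} y^{j_k}), the product taken in the order of e;
here a point z of G_a with coordinate C_k x^{i_k} y^{j_k} is any point whose coordinate function is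
that product. -/
theorem result {S : Scheme.{u}} {G : Over S} [GrpObj G] (D : Red.SplitRed G) (b : D.P.Base)
    (α β : D.idx) (hα : α ∈ RedSub.posRoots D.P b) (hβ : β ∈ RedSub.posRoots D.P b)
    {n : ℕ} (e : Fin n → D.idx) (i j : Fin n → ℕ) (he : Function.Injective e)
    (hij : ∀ k, 1 ≤ i k ∧ 1 ≤ j k ∧ D.P.root (e k) = (i k : ℤ) • D.P.root α + (j k : ℤ) • D.P.root β)
    (hall : ∀ (c : D.idx) (p q : ℕ), 1 ≤ p → 1 ≤ q → D.P.root c = (p : ℤ) • D.P.root α + (q : ℤ) • D.P.root β →
      c ∈ Set.range e) :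
    ∃! C : Fin n → Γ(S, ⊤), ∀ (X : Over S) (x y : X ⟶ Red.Ga S) (z : Fin n → (X ⟶ Red.Ga S)),
      (∀ k, Red.gaFn (z k) = X.hom.appTop (C k) * Red.gaFn x ^ (i k) * Red.gaFn y ^ (j k)) →
        (x ≫ D.u α) * (y ≫ D.u β) * (x ≫ D.u α)⁻¹ =
          (y ≫ D.u β) * (List.ofFn (fun k => z k ≫ D.u (e k))).prod := by
  classical
  haveI : Finite D.idx := Finite.of_fintype _
  haveI : ∀ c, IsMonHom (D.u c) := fun c => (D.rootHom c).1
  haveI : IsAddTorsionFree D.M := .of_isTorsionFree ℤ _
  obtain ⟨lam, hl⟩ := hasLam b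
  have hpa := (hl α).1 hα
  have hpb := (hl β).1 hβ
  have hlam : ∀ k, 0 < lam (D.P.root (e k)) := fun k => by
    obtain ⟨h1, h2, h3⟩ := hij k
    rw [h3, map_add, map_zsmul, map_zsmul, smul_eq_mul, smul_eq_mul]
    have : (1 : ℤ) ≤ i k := by exact_mod_cast h1
    have : (1 : ℤ) ≤ j k := by exact_mod_cast h2
    nlinarith
  haveI := mono_spanMap (D := D) he hlam
  -- the exponents are determined
  have huniq : ∀ (c : D.idx) (p q p' q' : ℕ), 1 ≤ p → 1 ≤ q → 1 ≤ p' → 1 ≤ q' →
      D.P.root c = p • D.P.root α + q • D.P.root β → D.P.root c = p' • D.P.root α + q' • D.P.root β →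
        p = p' ∧ q = q' := by
    intro c p q p' q' hp hq _ _ h h'
    by_cases hd : (p : ℤ) - p' = 0
    · refine ⟨by omega, ?_⟩
      rw [show p' = p by omega, h, add_right_inj, ← natCast_zsmul, ← natCast_zsmul] at h'
      exact_mod_cast smul_left_injective ℤ (D.P.ne_zero β) h'
    exfalso
    have hdep : ((p : ℤ) - p') • D.P.root α = ((q' : ℤ) - q) • D.P.root β := by
      have e : p • D.P.root α + q • D.P.root β = p' • D.P.root α + q' • D.P.root β := h.symm.trans h'
      simp only [← natCast_zsmul, sub_smul] at e ⊢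
      linear_combination (norm := abel) e
    rcases eq_or_neg_of_dep D.P b hd hdep with rfl | hneg
    · rw [← add_smul, ← natCast_zsmul] at h
      rcases eq_or_neg_of_dep D.P b (p := 1) (q := ((p + q : ℕ) : ℤ)) one_ne_zero (by rw [one_smul]; exact h) with rfl | hn
      · have := smul_left_injective ℤ (D.P.ne_zero c) ((one_smul ℤ (D.P.root c)).trans h)
        omega
      · have := smul_left_injective ℤ (D.P.ne_zero α) ((neg_one_smul ℤ (D.P.root α)).trans (hn.symm.trans h))
        omega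
    · rw [hneg, map_neg] at hpa
      omega
  let ex : D.idx → ℕ × ℕ := fun c => if hc : c ∈ Set.range e then (i hc.choose, j hc.choose) else (0, 0)
  have hex : ∀ k, ex (e k) = (i k, j k) := fun k => by
    have hc : e k ∈ Set.range e := ⟨k, rfl⟩
    simp only [ex, dif_pos hc]
    rw [he hc.choose_spec]
  -- local expansions
  let l := List.ofFn e ++ (Finset.univ.filter fun c => c ∉ Set.range e).toList
  have hl_nd : l.Nodup := by
    refine List.nodup_append.2 ⟨List.nodup_ofFn.2 he, Finset.nodup_toList _, fun a ha c hc h => ?_⟩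
    subst h
    simp only [Finset.mem_toList, Finset.mem_filter] at hc
    exact hc.2 (List.mem_ofFn.1 ha)
  have hl_mem : ∀ c, c ∈ l := fun c => by
    by_cases hc : c ∈ Set.range e
    · exact List.mem_append_left _ (List.mem_ofFn.2 hc)
    · exact List.mem_append_right _ (Finset.mem_toList.2 (Finset.mem_filter.2 ⟨Finset.mem_univ c, hc⟩))
  have hne : ∀ p q : ℕ, 1 ≤ p → 1 ≤ q → p • D.P.root α + q • D.P.root β ≠ 0 := fun p q hp hq h => by
    have := congrArg lam h
    rw [map_add, map_nsmul, map_nsmul, map_zero, nsmul_eq_mul, nsmul_eq_mul] at this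
    have : (1 : ℤ) ≤ p := by exact_mod_cast hp
    have : (1 : ℤ) ≤ q := by exact_mod_cast hq
    nlinarith
  have local_exp : ∀ {R : Type u} [CommRing R] (jR : Spec (CommRingCat.of R) ⟶ S) [IsOpenImmersion jR],
      ∃ K : D.idx → R, ∀ (C : Type u) [CommRing C] [Algebra R C] (x y : C),
        (gp jR y ≫ D.u β)⁻¹ * ((gp jR x ≫ D.u α) * (gp jR y ≫ D.u β) * (gp jR x ≫ D.u α)⁻¹) =
          rootProd jR D.u (List.ofFn e) (fun c => algebraMap R C (K c) * x ^ (ex c).1 * (-y) ^ (ex c).2) := by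
    intro R _ jR _
    obtain ⟨K, hK, hexp⟩ := comm_expansion jR D.rootHom hl_nd hl_mem α β hne ex fun c p q hp hq h => by
      obtain ⟨k, rfl⟩ := hall c p q hp hq (by simpa only [natCast_zsmul] using h)
      obtain ⟨h1, h2, h3⟩ := hij k
      simp only [natCast_zsmul] at h3
      obtain ⟨rfl, rfl⟩ := huniq _ _ _ _ _ hp hq h1 h2 h h3
      exact hex k
    refine ⟨K, fun C _ _ x y => ?_⟩
    have := hexp C x (-y)
    rw [Groth.L14.Chart.comm, gp_neg, GrpObj.inv_comp, _root_.inv_inv] at this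
    have hsplit : ∀ f : D.idx → C, rootProd jR D.u l f = rootProd jR D.u (List.ofFn e) f *
        rootProd jR D.u (Finset.univ.filter fun c => c ∉ Set.range e).toList f := fun f => by
      simp only [rootProd, l, List.map_append, List.prod_append]
    rw [hsplit, rootProd_eq_one jR (l := (Finset.univ.filter fun c => c ∉ Set.range e).toList)
        (x := fun c => algebraMap R C (K c) * x ^ (ex c).1 * (-y) ^ (ex c).2) fun c hc => ?_, _root_.mul_one] at this
    · rw [← this]
      group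
    · simp only [Finset.mem_toList, Finset.mem_filter] at hc
      by_cases hKc : K c = 0
      · simp [hKc]
      · obtain ⟨h1, h2, h3⟩ := hK c hKc
        exact absurd (hall c _ _ h1 h2 (by simpa only [natCast_zsmul] using h3)) hc.2
  -- the universal identity
  let Z := Red.Ga S ⊗ Red.Ga S
  haveI : IsAffineHom Z.hom := (affSmooth_ga.tensor affSmooth_ga).1
  let px : Z ⟶ Red.Ga S := fst _ _
  let py : Z ⟶ Red.Ga S := snd _ _
  let F : Z ⟶ G := (py ≫ D.u β)⁻¹ * ((px ≫ D.u α) * (py ≫ D.u β) * (px ≫ D.u α)⁻¹)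
  have hF : ∀ {X : Over S} (x y : X ⟶ Red.Ga S), lift x y ≫ F =
      (y ≫ D.u β)⁻¹ * ((x ≫ D.u α) * (y ≫ D.u β) * (x ≫ D.u α)⁻¹) := fun x y => by
    simp only [F, MonObj.comp_mul, GrpObj.comp_inv, px, py, ← Category.assoc, lift_fst, lift_snd]
  have hFt : ∀ {X : Over S} (t : X ⟶ Z), t ≫ F = lift (t ≫ px) (t ≫ py) ≫ F := fun t => by
    rw [show lift (t ≫ px) (t ≫ py) = t from CartesianMonoidalCategory.hom_ext _ _ (lift_fst _ _) (lift_snd _ _)]
  obtain ⟨w, hw⟩ : ∃ w : Z ⟶ pow (Red.Ga S) n, w ≫ spanMap D e = F := by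
    refine exists_lift_of_univ _ _ fun R _ jR _ => ?_
    obtain ⟨K, hK⟩ := local_exp jR
    refine ⟨_, (tup_spanMap (fun c => algebraMap R _ (K c) * gv (univ jR Z ≫ px) ^ (ex c).1 *
      (-gv (univ jR Z ≫ py)) ^ (ex c).2)).trans ?_⟩
    rw [← hK, hFt, hF, gp_gv, gp_gv]
  let o : 𝟙_ (Over S) ⟶ Red.Ga S := GaPts.ptOfElt 1
  let Cs : Fin n → Γ(S, ⊤) := fun k => Red.gaFn (lift o o ≫ w ≫ proj _ n k)
  -- coordinates of the universal lift
  have hcoord : ∀ k, w ≫ proj _ n k =
      GaPts.ptOfElt (Z.hom.appTop (Cs k) * Red.gaFn px ^ i k * Red.gaFn py ^ j k) := by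
    intro k
    refine hom_ext_open fun R _ jR _ C _ _ t => ?_
    obtain ⟨K, hK⟩ := local_exp jR
    have hval : ∀ t : Sp jR C ⟶ Z, gv (t ≫ w ≫ proj _ n k) =
        algebraMap R C (K (e k)) * gv (t ≫ px) ^ i k * (-gv (t ≫ py)) ^ j k := fun t => by
      obtain ⟨a, ha, ha'⟩ := exists_span_coords he (t ≫ w)
      rw [Category.assoc, hw, hFt, hF] at ha
      have h2 := hK C (gv (t ≫ px)) (gv (t ≫ py))
      rw [gp_gv, gp_gv, ha] at h2
      rw [← Category.assoc, ha', gv_gp, rootProd_injective_of_pos D.rootHom (List.nodup_ofFn.2 he) (fun c hc => by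
        obtain ⟨q, rfl⟩ := List.mem_ofFn.1 hc; exact hlam q) h2 (e k) (List.mem_ofFn.2 ⟨k, rfl⟩), hex]
    have ho : toUnit (Sp jR C) ≫ o = gp jR 1 := GaPts.gaFn_injective (by
      show Red.gaFn _ = Red.gaFn _
      rw [GaPts.gaFn_comp, GaPts.gaFn_ptOfElt, map_one, gaFn_gp, map_one])
    have h11 := hval (toUnit (Sp jR C) ≫ lift o o)
    simp only [px, py, Category.assoc, lift_fst, lift_snd, ho, gv_gp, one_pow, _root_.mul_one] at h11
    rw [← gp_gv (j := jR) (t ≫ w ≫ proj _ n k), ← gp_gv (j := jR) (t ≫ GaPts.ptOfElt _)]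
    congr 1
    rw [hval t, gv, gv, gv, GaPts.ptOfElt_comp, GaPts.gaFn_ptOfElt]
    simp only [map_mul, map_pow]
    rw [← GaPts.gaFn_comp, ← GaPts.gaFn_comp]
    have hc : t.left.appTop (Z.hom.appTop (Cs k)) = Red.gaFn ((toUnit (Sp jR C)) ≫ lift o o ≫ w ≫ proj _ n k) := by
      rw [GaPts.gaFn_comp, ← CommRingCat.comp_apply, ← Scheme.Hom.comp_appTop, Over.w]
      rfl
    rw [hc]
    show _ = gv (toUnit (Sp jR C) ≫ lift o o ≫ w ≫ proj _ n k) * gv (t ≫ px) ^ i k * gv (t ≫ py) ^ j k
    rw [h11, gv, gv, neg_pow]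
    ring
  refine ⟨Cs, fun X x y z hz => ?_, fun C' hC' => funext fun k => ?_⟩
  · have h1 := (hF x y)
    rw [← hw, ← Category.assoc, comp_span] at h1
    have h2 : ∀ k, (lift x y ≫ w) ≫ proj _ n k = z k := fun k => by
      rw [Category.assoc, hcoord, GaPts.ptOfElt_comp]
      refine GaPts.gaFn_injective ?_
      show Red.gaFn _ = Red.gaFn _
      rw [GaPts.gaFn_ptOfElt]
      simp only [map_mul, map_pow]
      rw [← GaPts.gaFn_comp, ← GaPts.gaFn_comp,
        ← CommRingCat.comp_apply, ← Scheme.Hom.comp_appTop, Over.w, hz k]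
      simp only [px, py, lift_fst, lift_snd]
    simp only [h2] at h1
    rw [h1]
    group
  · let z : Fin n → (𝟙_ (Over S) ⟶ Red.Ga S) := fun k => GaPts.ptOfElt (C' k)
    have h1 := hC' (𝟙_ _) o o z fun k => by
      simp only [z, o, GaPts.gaFn_ptOfElt, one_pow, _root_.mul_one]
      show C' k = (𝟙 S : S ⟶ S).appTop (C' k)
      simp
    have h2 : tup n z ≫ spanMap D e = (lift o o ≫ w) ≫ spanMap D e := by
      rw [Category.assoc, hw, hF, tup_comp, h1]
      group
    have h3 : z k = (lift o o ≫ w) ≫ proj _ n k := by rw [← (cancel_mono (spanMap D e)).1 h2, tup_proj]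
    have h4 := congrArg Red.gaFn h3
    simp only [z, GaPts.gaFn_ptOfElt, Category.assoc] at h4
    exact h4

end Groth.Agent.S5521
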