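import Groth.Statements.S5523
import Groth.Agent.L14.TypeR.Contain

set_option autoImplicit false
set_option backward.isDefEq.respectTransparency.types false
set_option linter.style.haveILetI false
open CategoryTheory MonoidalCategory CartesianMonoidalCategory MonObj GrpObj AlgebraicGeometry
universe u
open RedSub

open Groth.L14.RankOne Groth.L25 Groth.L14.Chart Groth.L14.Chev.Cell Groth.L14.TypeR
namespace Groth.Agent.S5523

/-- Let S be connected, G a split reductive S-group (splitting D), and H, H'' two subgroups of type (R)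
of G containing the torus T of the splitting, with root sets R' and R'' (the roots whose root
homomorphism factors through the subgroup). Then H ⊆ H'' if and only if R' ⊆ R''. -/
theorem result {S : Scheme.{u}} [ConnectedSpace S] {G H : Over S} [GrpObj G] [GrpObj H]
    (D : Red.SplitRed G) (h : H ⟶ G) (hH : RedSub.IsTypeR h) (t : D.T ⟶ H) (ht : t ≫ h = D.i) (R' : Set D.idx)
    (hR' : ∀ a : D.idx, (∃ v : Red.Ga S ⟶ H, v ≫ h = D.u a) ↔ a ∈ R')
    {H'' : Over S} [GrpObj H''] (h'' : H'' ⟶ G) (hH'' : RedSub.IsTypeR h'') (t'' : D.T ⟶ H'') (ht'' : t'' ≫ h'' = D.i)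
    (R'' : Set D.idx) (hR'' : ∀ a : D.idx, (∃ v : Red.Ga S ⟶ H'', v ≫ h'' = D.u a) ↔ a ∈ R'') :
    (∃ f : H ⟶ H'', f ≫ h'' = h) ↔ R' ⊆ R'' := by
  haveI := hH.1.1
  haveI := hH.2.1
  haveI := hH''.1.1
  haveI := hH''.1.2
  haveI : Nonempty S := inferInstance
  refine ⟨fun ⟨f, hf⟩ a ha => ?_, fun hsub => ?_⟩
  · obtain ⟨v, hv⟩ := (hR' a).2 ha
    exact (hR'' a).1 ⟨v ≫ f, by rw [Category.assoc, hf, hv]⟩
  · obtain ⟨b, -⟩ := Groth.L14.Chev.Cell.exists_base_of_noOpp (D := D) (Ψ := ∅)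
      ⟨fun a b c ha => absurd ha (Set.notMem_empty a), fun a b ha => absurd ha (Set.notMem_empty a)⟩
    exact Groth.L14.TypeR.exists_hom_of_roots hH.1.2 hH.2.2.2.1 t ht b h'' t'' ht'' fun a ha =>
      (hR'' a).2 (hsub ((hR' a).1 ha))

end Groth.Agent.S5523
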