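import Groth.Statements.S5524
import Groth.Agent.L14.TypeR.Contain

set_option autoImplicit false
set_option backward.isDefEq.respectTransparency.types false
set_option linter.style.haveILetI false
open CategoryTheory MonoidalCategory CartesianMonoidalCategory MonObj GrpObj AlgebraicGeometry
universe u
open RedSub

open Groth.L14.RankOne Groth.L25 Groth.L14.Chart Groth.L14.Chev.Cell Groth.L14.TypeR
namespace Groth.Agent.S5524

/-- Let S be connected, G a split reductive S-group (splitting D), H a subgroup of type (R) containing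
the torus T, with root set R'. For a root a, the intersection H ∩ U_a is trivial (a point x of G_a
with u_a(x) ∈ H is the zero point) if and only if a ∉ R'. -/
theorem result {S : Scheme.{u}} [ConnectedSpace S] {G H : Over S} [GrpObj G] [GrpObj H]
    (D : Red.SplitRed G) (h : H ⟶ G) (hH : RedSub.IsTypeR h) (t : D.T ⟶ H) (ht : t ≫ h = D.i) (R' : Set D.idx)
    (hR' : ∀ a : D.idx, (∃ v : Red.Ga S ⟶ H, v ≫ h = D.u a) ↔ a ∈ R') (a : D.idx) :
    (∀ (X : Over S) (x : X ⟶ Red.Ga S) (y : X ⟶ H), x ≫ D.u a = y ≫ h → x = 1) ↔ a ∉ R' := by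
  classical
  haveI := hH.1.1
  haveI := hH.2.1
  haveI : Nonempty S := inferInstance
  haveI : ∀ c, IsMonHom (D.u c) := fun c => (D.rootHom c).1
  refine ⟨fun htriv ha => ?_, fun ha X x y hxy => ?_⟩
  · obtain ⟨v, hv⟩ := (hR' a).2 ha
    have h1 := htriv _ (𝟙 (Red.Ga S)) v (by rw [Category.id_comp, hv])
    obtain ⟨s⟩ : Nonempty S := inferInstance
    obtain ⟨R, _, j, _, _, -⟩ := exists_chart s
    have h2 := congrArg (fun f => gp j (1 : AlgebraicClosure (S.residueField s)) ≫ f) h1
    simp only [Category.comp_id, MonObj.comp_one] at h2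
    rw [← gp_zero] at h2
    have h3 := congrArg gv h2
    rw [gv_gp, gv_gp] at h3
    exact one_ne_zero h3
  · obtain ⟨b, -⟩ := exists_base_of_noOpp (D := D) (Ψ := ∅)
      ⟨fun a b c ha => absurd ha (Set.notMem_empty a), fun a b ha => absurd ha (Set.notMem_empty a)⟩
    obtain ⟨n, en, hen⟩ := exists_enum (D := D) (RedSub.negRoots D.P b)
    obtain ⟨m, ep, hep⟩ := exists_enum (D := D) (RedSub.posRoots D.P b)
    refine hom_ext_open fun R _ j _ C _ _ τ => ?_
    have h1 : chart j D.u (cellList en ep) (co1 (Pi.single a (gv (τ ≫ x)))) ∈ HP j C h := by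
      rw [chart_single hen hep, gp_gv, Category.assoc, hxy, ← Category.assoc]
      exact mem_HP.2 ⟨_, rfl⟩
    have h2 : gv (τ ≫ x) = 0 := by
      have := cell_roots hen hep hH.1.2 hH.2.2.2.1 t ht _ h1 a fun hc =>
        ha ((hR' a).1 ((mem_tanRoots_iff hen hep hH.1.2 t ht a).2 hc))
      simpa [co1] using this
    rw [← gp_gv (τ ≫ x), h2, gp_zero, MonObj.comp_one]

end Groth.Agent.S5524
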