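import Groth.Statements.S5526
import Groth.Agent.L14.TypeR.AsymBorel

set_option autoImplicit false
set_option backward.isDefEq.respectTransparency.types false
set_option linter.style.haveILetI false
open CategoryTheory MonoidalCategory CartesianMonoidalCategory MonObj GrpObj AlgebraicGeometry
universe u
open RedSub

open Groth.L14.RankOne Groth.L25 Groth.L14.Chart Groth.L14.Chev.Cell Groth.L14.TypeR
namespace Groth.Agent.S5526

/-- (iii) ⟺ (ii): Let S be connected, G a split reductive S-group (splitting D), H a subgroup of type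
(R) containing the torus T, with root set R'. Then R' ∩ -R' = ∅ if and only if R' is contained in a
system of positive roots (so that H is contained in the corresponding Borel subgroup). Note R' need
not be closed. -/
theorem result {S : Scheme.{u}} [ConnectedSpace S] {G H : Over S} [GrpObj G] [GrpObj H]
    (D : Red.SplitRed G) (h : H ⟶ G) (hH : RedSub.IsTypeR h) (t : D.T ⟶ H) (ht : t ≫ h = D.i) (R' : Set D.idx)
    (hR' : ∀ a : D.idx, (∃ v : Red.Ga S ⟶ H, v ≫ h = D.u a) ↔ a ∈ R') :
    (∀ a ∈ R', D.P.reflectionPerm a a ∉ R') ↔ ∃ b : D.P.Base, R' ⊆ RedSub.posRoots D.P b := by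
  haveI := hH.1.1
  haveI := hH.2.1
  haveI := hH.2.2.1
  have hh := hH.1.2
  have hconn := hH.2.2.2.1
  refine ⟨fun hasym => ?_, fun ⟨b, hb⟩ a ha ha' => ?_⟩
  · obtain ⟨s⟩ := (inferInstance : Nonempty S)
    obtain ⟨R, _, j, _, p, rfl⟩ := exists_open_chart s
    obtain ⟨algK, hq, -⟩ := exists_algebra_geomPt (j := j) p
    letI := algK
    have h1 := isSolvableGrp_of_asym (j := j) (K := AlgebraicClosure (S.residueField (j p))) hh hconn t ht hR' hasym
    rw [hq] at h1
    exact exists_base_of_solvable hh hconn t ht hR' (j p) h1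
  · obtain ⟨lam, hl⟩ := hasLam b
    have h1 := (hl a).1 (hb ha)
    have h2 := (hl _).1 (hb ha')
    rw [root_opp, map_neg] at h2
    omega

end Groth.Agent.S5526
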