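import Groth.Statements.S5537
import Groth.Agent.L14.CentQuot.SplitMain

set_option autoImplicit false
set_option backward.isDefEq.respectTransparency.types false
set_option linter.style.haveILetI false
open CategoryTheory MonoidalCategory CartesianMonoidalCategory MonObj GrpObj AlgebraicGeometry
universe u
open RedSub

namespace Groth.Agent.S5537

/-- Let G be a split reductive S-group with splitting D (torus T ≅ D_S(M), roots in M, root
homomorphisms u_a) and N a subgroup of M containing the roots; Q = D_S(M/N) ⟶ D_S(M) ≅ T ⟶ G is then
a central subgroup. Then: the fppf quotient G' = G/Q is representable by a reductive S-group; and G'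
has a splitting D' whose character group is identified with N carrying the roots of D to the roots
of D' through a bijection of the index sets, whose torus T' receives T over the quotient map
compatibly with the map D_S(M) ⟶ D_S(N) induced by N ⊆ M, and whose root homomorphisms are the
composites of those of D with the quotient map. -/
theorem result {S : Scheme.{u}} {G : Over S} [GrpObj G] (D : Red.SplitRed G)
    (N : AddSubgroup D.M) (hN : ∀ a : D.idx, D.P.root a ∈ N) :
    ∃ (G' : Over S) (_ : GrpObj G') (q : G ⟶ G'), IsMonHom q ∧
      RedSub.IsQuotient (Red.DSmap S (QuotientAddGroup.mk' N) ≫ D.split.inv.hom.hom ≫ D.i) q ∧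
      Red.IsReductive G' ∧
      ∃ (D' : Red.SplitRed G') (τ : D.T ⟶ D'.T) (eidx : D.idx ≃ D'.idx) (em : D'.M ≃+ ↥N),
        τ ≫ D'.i = D.i ≫ q ∧
        τ ≫ D'.split.hom.hom.hom = D.split.hom.hom.hom ≫ Red.DSmap S (N.subtype.comp em.toAddMonoidHom) ∧
        (∀ a : D.idx, ((em (D'.P.root (eidx a)) : ↥N) : D.M) = D.P.root a) ∧
        (∀ a : D.idx, D.u a ≫ q = D'.u (eidx a)) := by
  obtain ⟨Q, gQ, q, hqm, hq, hQ⟩ := Groth.L14.CentQuot.exists_quotient_central D N hN
  exact ⟨Q, gQ, q, hqm, hq, Groth.L14.CentQuot.isReductive_quot D N q hq hQ,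
    Groth.L14.CentQuot.exists_split_quot D N hN q hq hQ⟩

end Groth.Agent.S5537
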