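import Groth.Statements.S5538
import Groth.Agent.L15.AdjCentre.Main
-- import your own Groth.Agent.* helpers here

set_option autoImplicit false
open CategoryTheory MonoidalCategory CartesianMonoidalCategory MonObj GrpObj AlgebraicGeometry
universe u
open RedSub

namespace Groth.Agent.S5538

/-- A reductive S-group G is adjoint (at every point the root datum of (any splitting of) the geometric
fibre is adjoint, i.e. its roots generate the character lattice) if and only if its centre is
trivial: every point of G which commutes with all points of G after every base change is the unit. -/
theorem result {S : Scheme.{u}} (G : Over S) [GrpObj G] (hG : Red.IsReductive G) :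
    (∀ (s : S) (D : Red.SplitRed (Red.geomFibre s G)), Submodule.span ℤ (Set.range D.P.root) = ⊤) ↔
      ∀ (X : Over S) (g : X ⟶ G), (∀ (X' : Over S) (x : X' ⟶ X) (h : X' ⟶ G), (x ≫ g) * h = h * (x ≫ g)) →
        g = 1 := by
  exact Groth.L15.AdjCentre.adjoint_iff_centre_trivial G hG

end Groth.Agent.S5538
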