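import Groth.Statements.S5540
import Groth.Agent.L15.TypeRLe.Global
-- import your own Groth.Agent.* helpers here

set_option autoImplicit false
open CategoryTheory MonoidalCategory CartesianMonoidalCategory MonObj GrpObj AlgebraicGeometry
universe u
open RedSub

namespace Groth.Agent.S5540

/-- For a reductive S-group G. Let T be a maximal torus of G and H, H' two subgroups of type (R) of G
containing T. Then the set U of points of S where the geometric fibres of H and H' coincide inside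
that of G is open and closed, and H_U = H'_U as subgroups of G_U. -/
theorem result {S : Scheme.{u}} {G T H H' : Over S} [GrpObj G] [GrpObj T] [GrpObj H] [GrpObj H']
    (hG : Red.IsReductive G) (i : T ⟶ G) (hT : Red.IsMaximalTorus i) (h : H ⟶ G) (h' : H' ⟶ G)
    (hH : RedSub.IsTypeR h) (hH' : RedSub.IsTypeR h') (t : T ⟶ H) (t' : T ⟶ H') (ht : t ≫ h = i) (ht' : t' ≫ h' = i) :
    IsClopen {s : S | ∃ e : Red.geomFibre s H ≅ Red.geomFibre s H',
        e.hom ≫ (Over.pullback (Red.geomPt s)).map h' = (Over.pullback (Red.geomPt s)).map h} ∧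
      ∀ (V : S.Opens), (∀ s ∈ V, ∃ e : Red.geomFibre s H ≅ Red.geomFibre s H',
          e.hom ≫ (Over.pullback (Red.geomPt s)).map h' = (Over.pullback (Red.geomPt s)).map h) →
        ∃ e : Red.bc V.ι H ≅ Red.bc V.ι H', e.hom ≫ (Over.pullback V.ι).map h' = (Over.pullback V.ι).map h := by
  have hset : {s : S | ∃ e : Red.geomFibre s H ≅ Red.geomFibre s H',
      e.hom ≫ (Over.pullback (Red.geomPt s)).map h' = (Over.pullback (Red.geomPt s)).map h} =
      {s | L15.TypeRLe.Le h h' (Red.geomPt s)} ∩ {s | L15.TypeRLe.Le h' h (Red.geomPt s)} := by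
    ext s
    refine ⟨fun ⟨e, he⟩ => ⟨L15.TypeRLe.le_of_hom _ he, L15.TypeRLe.le_of_hom e.inv
      (by rw [← he, Iso.inv_hom_id_assoc])⟩, fun ⟨h1, h2⟩ => ?_⟩
    exact L15.TypeRLe.exists_iso_of_le hH.1.2 hH'.1.2 h1 h2
  refine ⟨hset ▸ (L15.TypeRLe.isClopen_le hG i hT h h' hH hH' t t' ht ht').inter
    (L15.TypeRLe.isClopen_le hG i hT h' h hH' hH t' t ht' ht), fun V hV => ?_⟩
  have hV' : ∀ s ∈ V, s ∈ {s | L15.TypeRLe.Le h h' (Red.geomPt s)} ∩ {s | L15.TypeRLe.Le h' h (Red.geomPt s)} :=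
    fun s hs => hset ▸ hV s hs
  exact L15.TypeRLe.exists_iso_of_le hH.1.2 hH'.1.2
    (L15.TypeRLe.le_of_fibres hG i hT h h' hH hH' t t' ht ht' V fun s hs => (hV' s hs).1)
    (L15.TypeRLe.le_of_fibres hG i hT h' h hH' hH t' t ht' ht V fun s hs => (hV' s hs).2)

end Groth.Agent.S5540
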