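import Groth.Statements.S5544
import Groth.Agent.L14.Splitting.Compare
import Groth.Agent.L08.Borel.RedRankTorus

set_option autoImplicit false
set_option backward.isDefEq.respectTransparency.types false
set_option linter.style.haveILetI false
open CategoryTheory MonoidalCategory CartesianMonoidalCategory MonObj GrpObj AlgebraicGeometry
universe u
open RedSub

namespace Groth.Agent.S5544

/-- Let G be a reductive S-group. The function s ↦ type of G at s is locally constant: every point s of
S has an open neighbourhood U such that, for every s' ∈ U, the root datum of any splitting of the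
geometric fibre of G at s is isomorphic (an equivalence of root pairings) to that of any splitting
of the geometric fibre at s'. -/
theorem result {S : Scheme.{u}} (G : Over S) [GrpObj G] (hG : Red.IsReductive G) (s : S) :
    ∃ U : S.Opens, s ∈ U ∧ ∀ s' : S, s' ∈ U →
      ∀ (D : Red.SplitRed (Red.geomFibre s G)) (D' : Red.SplitRed (Red.geomFibre s' G)),
        Nonempty (RootPairing.Equiv D.P D'.P) := by
  obtain ⟨V, f, hf, ⟨v, hv⟩, -, T, _, i, r, hi, ⟨R⟩⟩ := Groth.L14.Splitting.exists_rootData_etale' hG s
  haveI := hf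
  refine ⟨⟨Set.range f.base, f.isOpenMap.isOpen_range⟩, ⟨v, hv⟩, fun s' hs' D D' => ?_⟩
  obtain ⟨σ, hσ⟩ := Groth.L08.Borel.exists_geomPt_lift f (t := s) ⟨v, hv⟩
  obtain ⟨σ', hσ'⟩ := Groth.L08.Borel.exists_geomPt_lift f (t := s') hs'
  obtain ⟨E, ⟨e⟩⟩ := Groth.L14.Splitting.exists_splitRed_comp f σ hσ hG R hi
  obtain ⟨E', ⟨e'⟩⟩ := Groth.L14.Splitting.exists_splitRed_comp f σ' hσ' hG R hi
  obtain ⟨a⟩ := Groth.L14.Splitting.equiv_of_splitRed D E
  obtain ⟨a'⟩ := Groth.L14.Splitting.equiv_of_splitRed D' E'
  exact ⟨RootPairing.Equiv.comp a'.symm (RootPairing.Equiv.comp e'.symm (RootPairing.Equiv.comp e a))⟩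

end Groth.Agent.S5544
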