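import Groth.Statements.S5551
import Groth.Agent.L14.TypeR.Cell

set_option autoImplicit false
set_option backward.isDefEq.respectTransparency.types false
set_option linter.style.haveILetI false
open CategoryTheory MonoidalCategory CartesianMonoidalCategory MonObj GrpObj AlgebraicGeometry
universe u
open RedSub

namespace Groth.Agent.S5551

/-- Let S be connected, G a split reductive S-group (splitting D), H a subgroup of type (R) containing T
with root set R', b a system of simple roots and e⁻, e⁺ enumerations of R' ∩ R_- and R' ∩ R_+ (in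
any order). Then the product morphism G_a^{R' ∩ R_-} x_S T x_S G_a^{R' ∩ R_+} ⟶ G factors through H,
and the factorisation is an open immersion into H. -/
theorem result {S : Scheme.{u}} [ConnectedSpace S] {G H : Over S} [GrpObj G] [GrpObj H]
    (D : Red.SplitRed G) (h : H ⟶ G) (hH : RedSub.IsTypeR h) (t : D.T ⟶ H) (ht : t ≫ h = D.i) (R' : Set D.idx)
    (hR' : ∀ a : D.idx, (∃ v : Red.Ga S ⟶ H, v ≫ h = D.u a) ↔ a ∈ R') (b : D.P.Base)
    {n m : ℕ} (eneg : Fin n → D.idx) (epos : Fin m → D.idx)
    (hneg : RedSub.Enumerates (R' ∩ RedSub.negRoots D.P b) eneg) (hpos : RedSub.Enumerates (R' ∩ RedSub.posRoots D.P b) epos) :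
    ∃ f : RedSub.pow (Red.Ga S) n ⊗ (D.T ⊗ RedSub.pow (Red.Ga S) m) ⟶ H,
      f ≫ h = RedSub.cellMap D eneg epos ∧ IsOpenImmersion f.left := by
  haveI := hH.1.1
  haveI := hH.2.1
  exact Groth.L14.TypeR.exists_cell hH.1.2 hH.2.2.2.1 t ht hR' hneg hpos

end Groth.Agent.S5551
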