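import Groth.Statements.S5553
import Groth.Agent.L14.TypeR.LeviMain

set_option autoImplicit false
set_option backward.isDefEq.respectTransparency.types false
set_option linter.style.haveILetI false
open CategoryTheory MonoidalCategory CartesianMonoidalCategory MonObj GrpObj AlgebraicGeometry
universe u
open RedSub

open Groth.L14.RankOne Groth.L25 Groth.L14.Chart Groth.L14.Chev.Cell Groth.L14.TypeR
namespace Groth.Agent.S5553

/-- Let S be connected, G a split reductive S-group (splitting D), R' a closed set of roots, R_1 its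
symmetric part and R_2 = R' ∖ R_1, H' = H_{R'} and H_1 = H_{R_1} the subgroups of type (R)
containing T with these root sets, H_1 ⊆ H'. Then there is a normal subgroup U_2 of H', its
unipotent radical, which for every ordering of R_2 is the image of G_a^{R_2} under the ordered
product of the root homomorphisms, such that H' is the semidirect product H_1 ⋉ U_2 (multiplication
H_1 x_S U_2 ⟶ H' is an isomorphism); and U_2 ∩ Norm_G(H_1) = e. -/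
theorem result {S : Scheme.{u}} [ConnectedSpace S] {G H' H₁ : Over S} [GrpObj G]
    [GrpObj H'] [GrpObj H₁] (D : Red.SplitRed G) (R' : Set D.idx)
    (hcl : ∀ a b c : D.idx, a ∈ R' → b ∈ R' → D.P.root a + D.P.root b = D.P.root c → c ∈ R')
    (h' : H' ⟶ G) (hH' : RedSub.IsTypeR h') (t' : D.T ⟶ H') (ht' : t' ≫ h' = D.i)
    (hR' : ∀ a : D.idx, (∃ v : Red.Ga S ⟶ H', v ≫ h' = D.u a) ↔ a ∈ R')
    (h₁ : H₁ ⟶ G) (hH₁ : RedSub.IsTypeR h₁) (t₁ : D.T ⟶ H₁) (ht₁ : t₁ ≫ h₁ = D.i)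
    (hR₁ : ∀ a : D.idx, (∃ v : Red.Ga S ⟶ H₁, v ≫ h₁ = D.u a) ↔ (a ∈ R' ∧ D.P.reflectionPerm a a ∈ R'))
    (f₁ : H₁ ⟶ H') (hf₁ : f₁ ≫ h' = h₁) :
    ∃ (U₂ : Over S) (_ : GrpObj U₂) (u₂ : U₂ ⟶ H'), IsMonHom u₂ ∧ Par.IsUnipotentRadical u₂ ∧
      IsIso ((f₁ ⊗ₘ u₂) ≫ μ[H']) ∧
      (∀ {m : ℕ} (e : Fin m → D.idx), RedSub.Enumerates {a | a ∈ R' ∧ D.P.reflectionPerm a a ∉ R'} e →
        ∃ ψ : RedSub.pow (Red.Ga S) m ≅ U₂, ψ.hom ≫ u₂ ≫ h' = RedSub.prodMap (Red.Ga S) m (fun k => D.u (e k))) ∧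
      ∀ (X : Over S) (x : X ⟶ U₂),
        (∀ (X' : Over S) (y : X' ⟶ X) (z : X' ⟶ H₁),
          (∃ z' : X' ⟶ H₁, (y ≫ x ≫ u₂ ≫ h') * (z ≫ h₁) * (y ≫ x ≫ u₂ ≫ h')⁻¹ = z' ≫ h₁) ∧
          (∃ z' : X' ⟶ H₁, (y ≫ x ≫ u₂ ≫ h')⁻¹ * (z ≫ h₁) * (y ≫ x ≫ u₂ ≫ h') = z' ≫ h₁)) → x = 1 := by
  haveI : Nonempty S := inferInstance
  haveI := hH'.1.1
  haveI := hH'.2.1
  haveI := hH'.2.2.1
  haveI := hH₁.1.1
  haveI := hH₁.2.1
  exact exists_levi hcl hH'.1.2 hH'.2.2.2.1 t' ht' hR' hH₁.1.2 hH₁.2.2.2.1 t₁ ht₁ hR₁ f₁ hf₁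

end Groth.Agent.S5553
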