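import Groth.Statements.S5554
import Groth.Agent.L15.Killing.Norm
-- import your own Groth.Agent.* helpers here

set_option autoImplicit false
open CategoryTheory MonoidalCategory CartesianMonoidalCategory MonObj GrpObj AlgebraicGeometry
universe u
open RedSub

namespace Groth.Agent.S5554

/-- The non-trivial point (the last arrow of 1 → W_H(T) → W_N(T) → N/H → 1 is an epimorphism of etale
sheaves), for a reductive S-group G. Let H ⟶ G be a subgroup of type (R), N ⟶ G its normaliser with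
H ⟶ N, and T a maximal torus of G contained in H. Then for every X over S and every X-point n of N,
every point of X has an etale neighbourhood f : Y ⟶ X and a Y-point y of H such that (n ∘ f) · y⁻¹
normalises T. -/
theorem result {S : Scheme.{u}} {G H N T : Over S} [GrpObj G] [GrpObj H] [GrpObj N]
    [GrpObj T] (hG : Red.IsReductive G) (h : H ⟶ G) (hH : RedSub.IsTypeR h) (nG : N ⟶ G) (hN : Red.IsNormalizerOf h nG)
    (k : H ⟶ N) (hk : k ≫ nG = h) [IsMonHom k] (t : T ⟶ H) [IsMonHom t] (hT : Red.IsMaximalTorus (t ≫ h))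
    (X : Over S) (n : X ⟶ N) (p : ↥X.left) :
    ∃ (Y : Scheme.{u}) (f : Y ⟶ X.left) (_ : Etale f), p ∈ Set.range f.base ∧
      ∃ y : Over.mk (f ≫ X.hom) ⟶ H,
        ∀ (X' : Over S) (z : X' ⟶ Over.mk (f ≫ X.hom)) (s : X' ⟶ T),
          (∃ s' : X' ⟶ T, (z ≫ ((Over.homMk f ≫ n) * (y ≫ k)⁻¹) ≫ nG) * (s ≫ t ≫ h) *
              (z ≫ ((Over.homMk f ≫ n) * (y ≫ k)⁻¹) ≫ nG)⁻¹ = s' ≫ t ≫ h) ∧
          (∃ s' : X' ⟶ T, (z ≫ ((Over.homMk f ≫ n) * (y ≫ k)⁻¹) ≫ nG)⁻¹ * (s ≫ t ≫ h) *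
              (z ≫ ((Over.homMk f ≫ n) * (y ≫ k)⁻¹) ≫ nG) = s' ≫ t ≫ h) := by
  haveI := hH.2.1; haveI := hH.2.2.1; haveI := hN.1
  obtain ⟨Y, f, hf, hfs, y, hy⟩ := L15.Killing.exists_torus_normalising hG h hH.1 t hT X (n ≫ nG)
    (fun X' x a => (((hN.2.2 X (n ≫ nG)).1 ⟨n, rfl⟩) X' x a).2)
  refine ⟨Y, f, hf, f.surjective p, y⁻¹, fun X' z s => ?_⟩
  have e : (z ≫ ((Over.homMk f ≫ n) * (y⁻¹ ≫ k)⁻¹) ≫ nG) =
      z ≫ ((Over.homMk f ≫ (n ≫ nG)) * (y ≫ h)) := by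
    rw [GrpObj.inv_comp, _root_.inv_inv, MonObj.mul_comp, Category.assoc, Category.assoc, hk]
  rw [e]
  exact hy X' z s

end Groth.Agent.S5554
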