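import Groth.Statements.S5556
import Groth.Agent.L14.LieEq.Basic

set_option autoImplicit false
set_option backward.isDefEq.respectTransparency.types false
set_option linter.style.haveILetI false
open CategoryTheory MonoidalCategory CartesianMonoidalCategory MonObj GrpObj AlgebraicGeometry
universe u
open RedSub

namespace Groth.Agent.S5556

/-- For a reductive S-group G. Let T be a maximal torus and H, H' two subgroups of type (R) of G
containing T. Then H = H' if and only if 𝔥 = 𝔥': H and H' coincide as subgroups of G (an isomorphism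
over G) if and only if, for every affine S-scheme Spec B, Lie(H/S)(Spec B) and Lie(H'/S)(Spec B)
have the same image in Lie(G/S)(Spec B). -/
theorem result {S : Scheme.{u}} {G T H H' : Over S} [GrpObj G] [GrpObj T] [GrpObj H] [GrpObj H']
    (hG : Red.IsReductive G) (i : T ⟶ G) (hT : Red.IsMaximalTorus i) (h : H ⟶ G) (h' : H' ⟶ G) [IsMonHom h]
    [IsMonHom h'] (hH : RedSub.IsTypeR h) (hH' : RedSub.IsTypeR h') (t : T ⟶ H) (t' : T ⟶ H') (ht : t ≫ h = i)
    (ht' : t' ≫ h' = i) :
    (∃ e : H ≅ H', e.hom ≫ h' = h) ↔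
      ∀ (B : Type u) [CommRing B] (f : Spec (CommRingCat.of B) ⟶ S),
        (LieS.map B f h).range = (LieS.map B f h').range := by
  haveI := hH.1.2; haveI := hH'.1.2
  haveI : Mono h := Over.mono_of_mono_left h
  haveI : Mono h' := Over.mono_of_mono_left h'
  constructor
  · rintro ⟨e, he⟩ B _ f
    exact le_antisymm (Groth.L14.LieEq.range_le_of_iso e he f)
      (Groth.L14.LieEq.range_le_of_iso e.symm (by rw [Iso.symm_hom, Iso.inv_comp_eq, he]) f)
  · intro hl
    have h1 := Groth.L14.LieEq.le_of_range hG i hT hH hH' t t' ht ht' fun K _ g => (hl K g).le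
    have h2 := Groth.L14.LieEq.le_of_range hG i hT hH' hH t' t ht' ht fun K _ g => (hl K g).ge
    obtain ⟨a, ha⟩ := h1 H ⟨H.hom, Category.comp_id _⟩ (𝟙 H)
    obtain ⟨b, hb⟩ := h2 H' ⟨H'.hom, Category.comp_id _⟩ (𝟙 H')
    rw [Category.id_comp] at ha hb
    exact ⟨⟨a, b, by rw [← cancel_mono h, Category.assoc, hb, ha, Category.id_comp],
      by rw [← cancel_mono h', Category.assoc, ha, hb, Category.id_comp]⟩, ha⟩

end Groth.Agent.S5556
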