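import Groth.Statements.S5561
import Groth.Agent.L14.TypeR.NormInter
import Groth.Agent.L14.TypeR.Borel
import Groth.Agent.L14.TypeR.Contain

set_option autoImplicit false
set_option backward.isDefEq.respectTransparency.types false
set_option linter.style.haveILetI false
open CategoryTheory MonoidalCategory CartesianMonoidalCategory MonObj GrpObj AlgebraicGeometry
universe u
open RedSub

open Groth.L14.RankOne Groth.L25 Groth.L14.Chart Groth.L14.Chev.Cell Groth.L14.TypeR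
namespace Groth.Agent.S5561

/-- Let S be connected, G a split reductive S-group (splitting D), H a subgroup of type (R) containing T
whose root set R' is contained in some system of positive roots, H'' a subgroup of type (R)
containing T with root set R'', and K ⊆ H the subgroup of type (R) containing T with root set R' ∩
R''. Then H ∩ Norm_G(H'') = K: a point of H normalises H'' if and only if it factors through K. -/
theorem result {S : Scheme.{u}} [ConnectedSpace S] {G H : Over S} [GrpObj G] [GrpObj H]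
    (D : Red.SplitRed G) (h : H ⟶ G) (hH : RedSub.IsTypeR h) (t : D.T ⟶ H) (ht : t ≫ h = D.i) (R' : Set D.idx)
    (hR' : ∀ a : D.idx, (∃ v : Red.Ga S ⟶ H, v ≫ h = D.u a) ↔ a ∈ R')
    (hpos : ∃ b : D.P.Base, R' ⊆ RedSub.posRoots D.P b)
    {H'' K : Over S} [GrpObj H''] [GrpObj K] (h'' : H'' ⟶ G) (hH'' : RedSub.IsTypeR h'') (t'' : D.T ⟶ H'')
    (ht'' : t'' ≫ h'' = D.i) (R'' : Set D.idx) (hR'' : ∀ a : D.idx, (∃ v : Red.Ga S ⟶ H'', v ≫ h'' = D.u a) ↔ a ∈ R'')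
    (kG : K ⟶ G) (hK : RedSub.IsTypeR kG) (tK : D.T ⟶ K) (htK : tK ≫ kG = D.i)
    (hRK : ∀ a : D.idx, (∃ v : Red.Ga S ⟶ K, v ≫ kG = D.u a) ↔ a ∈ R' ∩ R'') (fK : K ⟶ H) (hfK : fK ≫ h = kG)
    (X : Over S) (x : X ⟶ H) :
    (∀ (X' : Over S) (y : X' ⟶ X) (z : X' ⟶ H''),
        (∃ z' : X' ⟶ H'', (y ≫ x ≫ h) * (z ≫ h'') * (y ≫ x ≫ h)⁻¹ = z' ≫ h'') ∧
        (∃ z' : X' ⟶ H'', (y ≫ x ≫ h)⁻¹ * (z ≫ h'') * (y ≫ x ≫ h) = z' ≫ h'')) ↔
      ∃ w : X ⟶ K, w ≫ fK = x := by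
  haveI := hH.1.1
  haveI := hH.2.1
  haveI := hH''.1.1
  haveI := hH''.1.2
  haveI := hH''.2.1
  haveI := hK.1.1
  haveI := hK.1.2
  haveI := hK.2.1
  haveI := hH.1.2
  haveI : Mono h := Over.mono_of_mono_left h
  haveI : Mono fK := by
    haveI : Mono (fK ≫ h) := by rw [hfK]; exact Over.mono_of_mono_left kG
    exact mono_of_mono fK h
  obtain ⟨b, hb⟩ := hpos
  obtain ⟨m, e, he⟩ := exists_enum (D := D) R'
  obtain ⟨φ, hφ⟩ := exists_borel_iso hH.1.2 hH.2.2.2.1 t ht hR' hb he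
  refine ⟨fun hn => ?_, ?_⟩
  · refine exists_lift_of_pts fK x fun R _ j _ C _ _ τ => ?_
    have hmem : (τ ≫ x) ≫ h ∈ HP j C kG :=
      exists_pt_of_normalises hH''.1.2 hH''.2.2.2.1 t'' ht'' hR'' hb he φ hφ kG tK htK (τ ≫ x)
        (fun c hc hc'' => (hRK c).2 ⟨hc, hc''⟩) fun L _ _ ι₁ g hg => by
          obtain ⟨z, rfl⟩ := hg
          obtain ⟨z', hz'⟩ := (hn (Sp j L) (mor j ι₁ ≫ τ) z).1
          refine mem_HP.2 ⟨z', ?_⟩
          rw [← hz']
          simp only [Category.assoc]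
          rfl
    obtain ⟨k, hk⟩ := hmem
    exact ⟨k, (cancel_mono h).1 (by rw [Category.assoc, hfK]; exact hk)⟩
  · rintro ⟨w, rfl⟩ X' y z
    obtain ⟨f, hf⟩ := exists_hom_of_roots hK.1.2 hK.2.2.2.1 tK htK b h'' t'' ht''
      fun a ha => (hR'' a).2 ((hRK a).1 ha).2
    have e₁ : y ≫ (w ≫ fK) ≫ h = (y ≫ w ≫ f) ≫ h'' := by
      rw [Category.assoc w, hfK, ← hf, Category.assoc, Category.assoc]
    rw [e₁]
    exact ⟨⟨(y ≫ w ≫ f) * z * (y ≫ w ≫ f)⁻¹, by rw [MonObj.mul_comp, MonObj.mul_comp, GrpObj.inv_comp]⟩,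
      ⟨(y ≫ w ≫ f)⁻¹ * z * (y ≫ w ≫ f), by rw [MonObj.mul_comp, MonObj.mul_comp, GrpObj.inv_comp]⟩⟩

end Groth.Agent.S5561
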