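import Groth.Statements.S5562
import Groth.Agent.L14.TypeR.SpanRadical

set_option autoImplicit false
set_option backward.isDefEq.respectTransparency.types false
set_option linter.style.haveILetI false
open CategoryTheory MonoidalCategory CartesianMonoidalCategory MonObj GrpObj AlgebraicGeometry
universe u
open RedSub

open Groth.L14.RankOne Groth.L25 Groth.L14.Chart Groth.L14.Chev.Cell Groth.L14.TypeR
namespace Groth.Agent.S5562

/-- Let S be connected, G a split reductive S-group (splitting D), H a subgroup of type (R) containing T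
whose root set R' is closed with R' ∩ -R' = ∅, U = U_{R'} its unipotent radical, and H'' a subgroup
of type (R) containing T with root set R'' such that no root of R'' is the opposite of a root of R'.
If α ∈ R', β ∈ R'' and α + β a root imply α + β ∈ R', then H'' normalises U. (The published
statement does not require R'' ∩ -R' = ∅; that condition is necessary: for G = SL₂, H = B the Borel
subgroup with R' = {α} and H'' = G with R'' = {α, -α}, the remaining hypotheses hold vacuously, 2α
and 0 not being roots, while a representative of the reflection s_α conjugates U_α onto U_{-α}; the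
published proof applies the commutator formula to α ∈ R' and β ∈ R'', which requires β ≠ -α, and
with that condition it proves the statement given here.) -/
theorem result {S : Scheme.{u}} [ConnectedSpace S] {G H : Over S} [GrpObj G] [GrpObj H]
    (D : Red.SplitRed G) (h : H ⟶ G) (hH : RedSub.IsTypeR h) (t : D.T ⟶ H) (ht : t ≫ h = D.i) (R' : Set D.idx)
    (hR' : ∀ a : D.idx, (∃ v : Red.Ga S ⟶ H, v ≫ h = D.u a) ↔ a ∈ R')
    (hcl : ∀ a b c : D.idx, a ∈ R' → b ∈ R' → D.P.root a + D.P.root b = D.P.root c → c ∈ R')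
    (hasym : ∀ a ∈ R', D.P.reflectionPerm a a ∉ R') {U : Over S} [GrpObj U] (u : U ⟶ H) (hU : Par.IsUnipotentRadical u)
    {H'' : Over S} [GrpObj H''] (h'' : H'' ⟶ G) (hH'' : RedSub.IsTypeR h'') (t'' : D.T ⟶ H'') (ht'' : t'' ≫ h'' = D.i)
    (R'' : Set D.idx) (hR'' : ∀ a : D.idx, (∃ v : Red.Ga S ⟶ H'', v ≫ h'' = D.u a) ↔ a ∈ R'')
    (hmix : ∀ a b c : D.idx, a ∈ R' → b ∈ R'' → D.P.root a + D.P.root b = D.P.root c → c ∈ R')
    (hopp : ∀ a ∈ R', D.P.reflectionPerm a a ∉ R'') :
    ∀ (X : Over S) (y : X ⟶ H'') (x : X ⟶ U), ∃ x' : X ⟶ U,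
      (y ≫ h'') * (x ≫ u ≫ h) * (y ≫ h'')⁻¹ = x' ≫ u ≫ h := by
  haveI := hH.1.1
  haveI := hH.2.1
  haveI := hH''.1.1
  haveI := hH''.2.1
  have hno : NoOpp D R' := ⟨hcl, fun a b ha e hb => hasym a ha
    ((D.P.root.injective ((Groth.L24.RootD.root_neg (P := D.P) a).trans e.symm)) ▸ hb)⟩
  refine normalises_radical hH.1.2 hH.2.2.2.1 t ht hR' hno u hU hH''.1.2 hH''.2.2.2.1 t'' ht'' fun a ha => ?_
  refine stab_of_mix hcl (fun x c hx e => hmix x a c hx ((hR'' a).1 ha) e) fun x hx e => hopp x hx ?_
  have : D.P.reflectionPerm x x = a :=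
    D.P.root.injective ((Groth.L24.RootD.root_neg (P := D.P) x).trans (by rw [e, neg_neg]))
  exact this ▸ (hR'' a).1 ha

end Groth.Agent.S5562
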