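import Groth.Statements.S5563
import Groth.Agent.L14.TypeR.SpanRadical

set_option autoImplicit false
set_option backward.isDefEq.respectTransparency.types false
set_option linter.style.haveILetI false
open CategoryTheory MonoidalCategory CartesianMonoidalCategory MonObj GrpObj AlgebraicGeometry
universe u
open RedSub

open Groth.L14.RankOne Groth.L25 Groth.L14.Chart Groth.L14.Chev.Cell Groth.L14.TypeR
namespace Groth.Agent.S5563

/-- Let S be connected, G a split reductive S-group (splitting D), b a system of simple roots, a a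
simple root, H = H_{R_+ ∖ {a}} the subgroup of type (R) containing T with that root set and U =
U_{â} its unipotent radical. Then U_{-a} normalises U. -/
theorem result {S : Scheme.{u}} [ConnectedSpace S] {G H U : Over S} [GrpObj G]
    [GrpObj H] [GrpObj U] (D : Red.SplitRed G) (b : D.P.Base) (a : D.idx) (ha : a ∈ b.support) (h : H ⟶ G)
    (hH : RedSub.IsTypeR h) (t : D.T ⟶ H) (ht : t ≫ h = D.i)
    (hR : ∀ c : D.idx, (∃ v : Red.Ga S ⟶ H, v ≫ h = D.u c) ↔ (c ∈ RedSub.posRoots D.P b ∧ c ≠ a))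
    (u : U ⟶ H) (hU : Par.IsUnipotentRadical u) (X : Over S) (y : X ⟶ Red.Ga S) (x : X ⟶ U) :
    ∃ x' : X ⟶ U, (y ≫ D.u (D.P.reflectionPerm a a)) * (x ≫ u ≫ h) * (y ≫ D.u (D.P.reflectionPerm a a))⁻¹ =
      x' ≫ u ≫ h := by
  classical
  haveI := hH.1.1
  haveI := hH.2.1
  haveI : ∀ c, IsMonHom (D.u c) := fun c => (D.rootHom c).1
  obtain ⟨lam, hlam⟩ := hasLam b
  let R' : Set D.idx := {c | c ∈ RedSub.posRoots D.P b ∧ c ≠ a}
  have hapos : a ∈ RedSub.posRoots D.P b := AddSubmonoid.subset_closure ⟨a, ha, rfl⟩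
  have hneg : ∀ x : D.idx, D.P.root (D.P.reflectionPerm x x) = -D.P.root x := Groth.L24.RootD.root_neg (P := D.P)
  have hsimp : ∀ i ∈ RedSub.posRoots D.P b, ∀ k ∈ RedSub.posRoots D.P b, D.P.root a ≠ D.P.root i + D.P.root k := by
    haveI := Groth.L14.Chart.RootCombo.isCrystallographic D.P
    intro i hi k hk e
    exact ((Groth.L24.RootD.IsSimple.of_base b).mem_simples ha).2 ⟨i, hi, k, hk, e⟩
  have hcl : ∀ x z c : D.idx, x ∈ R' → z ∈ R' → D.P.root x + D.P.root z = D.P.root c → c ∈ R' := by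
    intro x z c hx hz e
    refine ⟨closed_posRoots b x z c hx.1 hz.1 e, ?_⟩
    rintro rfl
    exact hsimp x hx.1 z hz.1 e.symm
  have hopp' : ∀ x c : D.idx, x ∈ R' → D.P.root c = -D.P.root x → c ∉ R' := fun x c hx e hc => by
    have h1 := (hlam x).1 hx.1
    have h2 := (hlam c).1 hc.1
    rw [e, map_neg] at h2
    omega
  have hno : NoOpp D R' := ⟨hcl, hopp'⟩
  obtain ⟨b', hb'⟩ := exists_base_of_noOpp hno
  obtain ⟨lam', hlam'⟩ := exists_lam_of_noOpp hno
  have hF := filt_of_closed hno.1 lam' hlam'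
  obtain ⟨m₀, e₀, gP, he₀, hhom, hclo, -, -, -⟩ := exists_span D R' hno
  letI := gP
  haveI := hhom
  haveI := hclo
  haveI : Mono (spanMap D e₀) := by
    haveI : Mono (spanMap D e₀).left := inferInstance
    exact Over.mono_of_mono_left _
  obtain ⟨U₀, gU, u₀, hu₀, -, -, hrad, -, hψ⟩ := exists_unip hH.1.2 hH.2.2.2.1 t ht (R' := R') hR hb'
  obtain ⟨ψ, hψ⟩ := hψ e₀ he₀
  haveI := hu₀
  haveI := hU.1
  obtain ⟨f₁, hf₁⟩ := hrad.2.2.2.2.2.2 U u hU.2.1 hU.2.2.1 hU.2.2.2.1 hU.2.2.2.2.1 hU.2.2.2.2.2.1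
  obtain ⟨f₂, hf₂⟩ := hU.2.2.2.2.2.2 U₀ u₀ hrad.2.1 hrad.2.2.1 hrad.2.2.2.1 hrad.2.2.2.2.1 hrad.2.2.2.2.2.1
  have hstab : Stab D (D.P.reflectionPerm a a) R' := by
    refine stab_of_mix hcl (fun x c hx e => ⟨?_, ?_⟩) fun x hx e => ?_
    · rw [hneg, ← sub_eq_add_neg] at e
      refine (pos_or_neg D.P b c).resolve_right fun hc => ?_
      have hc' : D.P.reflectionPerm c c ∈ RedSub.posRoots D.P b := by
        show D.P.root _ ∈ AddSubmonoid.closure _
        rw [hneg]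
        exact hc
      exact hsimp x hx.1 _ hc' (by rw [hneg, ← e]; abel)
    · intro hc
      rw [hc, hneg, ← sub_eq_add_neg, sub_eq_iff_eq_add, ← two_zsmul] at e
      exact two_smul_notMem D.P b a ⟨x, e⟩
    · rw [hneg, neg_neg] at e
      exact hx.2 (D.P.root.injective e)
  have hx : x ≫ u ≫ h = (x ≫ f₁ ≫ ψ.inv) ≫ spanMap D e₀ := by
    rw [← hf₁, spanMap, ← hψ]
    simp only [Category.assoc, Iso.inv_hom_id_assoc]
  obtain ⟨x', hx'⟩ := exists_lift_of_pts (spanMap D e₀)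
    ((y ≫ D.u (D.P.reflectionPerm a a)) * ((x ≫ f₁ ≫ ψ.inv) ≫ spanMap D e₀) *
      (y ≫ D.u (D.P.reflectionPerm a a))⁻¹) fun R _ j _ C _ _ τ => by
    refine (mem_gen_span_iff hF he₀).1 ?_
    rw [MonObj.comp_mul, MonObj.comp_mul, GrpObj.comp_inv, ← Category.assoc τ y, ← Category.assoc τ (x ≫ _),
      ← gp_gv (τ ≫ y)]
    exact (conj_mem_of_stab hstab _ ((mem_gen_span_iff hF he₀).2 ⟨_, rfl⟩)).1
  refine ⟨x' ≫ ψ.hom ≫ f₂, ?_⟩
  rw [hx, ← hx', spanMap, ← hψ, ← hf₂]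
  simp only [Category.assoc]

end Groth.Agent.S5563
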