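import Groth.Statements.S5577
import Groth.Agent.L14.Coroot.Hom

set_option autoImplicit false
set_option backward.isDefEq.respectTransparency.types false
set_option linter.style.haveILetI false
open CategoryTheory MonoidalCategory CartesianMonoidalCategory MonObj GrpObj AlgebraicGeometry
universe u
open RedSub

open Groth.L14.RankOne Groth.L25 Groth.L14.Chart Groth.L14.Chev.Cell
namespace Groth.Agent.S5577

/-- Let G be a split reductive S-group (splitting D, T ≅ D_S(M), system of simple roots b, big cell map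
c : Ω ⟶ G), N = {m | (α*, m) = 0 for all coroots} and f : Ω ⟶ D_S(N) = T/T' the T-component followed
by D_S(M) ⟶ D_S(N). Then f is generically multiplicative: there is an open V ⊆ Ω x_S Ω containing
the unit point such that for all points x, y of Ω with (x, y) in V there is a point z of Ω with c(z)
= c(x) c(y) and f(z) = f(x) f(y). -/
theorem result {S : Scheme.{u}} {G : Over S} [GrpObj G]
    (D : Red.SplitRed G) (b : D.P.Base) {n m : ℕ} (eneg : Fin n → D.idx) (epos : Fin m → D.idx)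
    (hneg : RedSub.Enumerates (RedSub.negRoots D.P b) eneg) (hpos : RedSub.Enumerates (RedSub.posRoots D.P b) epos)
    (N : AddSubgroup D.M) (hN : ∀ x : D.M, x ∈ N ↔ ∀ c : D.idx, D.P.coroot c x = 0) :
    ∃ V : Set ↥((RedSub.pow (Red.Ga S) n ⊗ (D.T ⊗ RedSub.pow (Red.Ga S) m)) ⊗ (RedSub.pow (Red.Ga S) n ⊗ (D.T ⊗ RedSub.pow (Red.Ga S) m))).left, IsOpen V ∧
      (∀ u₀ : 𝟙_ (Over S) ⟶ RedSub.pow (Red.Ga S) n ⊗ (D.T ⊗ RedSub.pow (Red.Ga S) m), u₀ ≫ RedSub.cellMap D eneg epos = 1 →
        Set.range (lift u₀ u₀).left.base ⊆ V) ∧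
      ∀ (X : Over S) (x y : X ⟶ RedSub.pow (Red.Ga S) n ⊗ (D.T ⊗ RedSub.pow (Red.Ga S) m)), Set.range (lift x y).left.base ⊆ V →
        ∃ z : X ⟶ RedSub.pow (Red.Ga S) n ⊗ (D.T ⊗ RedSub.pow (Red.Ga S) m),
          z ≫ RedSub.cellMap D eneg epos = (x ≫ RedSub.cellMap D eneg epos) * (y ≫ RedSub.cellMap D eneg epos) ∧
          z ≫ snd _ _ ≫ fst _ _ ≫ D.split.hom.hom.hom ≫ Red.DSmap S N.subtype =
            (x ≫ snd _ _ ≫ fst _ _ ≫ D.split.hom.hom.hom ≫ Red.DSmap S N.subtype) *
              (y ≫ snd _ _ ≫ fst _ _ ≫ D.split.hom.hom.hom ≫ Red.DSmap S N.subtype) := by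
  haveI := isOpenImmersion_cellMap hneg hpos
  obtain ⟨F, hF, hFc, -⟩ := Groth.L14.Coroot.exists_torusHom D b N hneg hpos (fun x hx => (hN x).1 hx)
  let pr := (fst _ _ ≫ RedSub.cellMap D eneg epos) * (snd _ _ ≫ RedSub.cellMap D eneg epos)
  refine ⟨pr.left ⁻¹' Set.range (RedSub.cellMap D eneg epos).left,
    (RedSub.cellMap D eneg epos).left.isOpenEmbedding.isOpen_range.preimage (Scheme.Hom.continuous _), ?_, ?_⟩
  · intro u₀ hu₀
    rintro _ ⟨p, rfl⟩
    show pr.left ((lift u₀ u₀).left p) ∈ Set.range (RedSub.cellMap D eneg epos).left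
    rw [← Scheme.Hom.comp_apply, ← Over.comp_left,
      show lift u₀ u₀ ≫ pr = u₀ ≫ RedSub.cellMap D eneg epos by
        simp only [pr, MonObj.comp_mul, lift_fst_assoc, lift_snd_assoc, hu₀, _root_.one_mul],
      Over.comp_left, Scheme.Hom.comp_apply]
    exact Set.mem_range_self _
  · intro X x y hxy
    have hr : Set.range (lift x y ≫ pr).left ⊆ Set.range (RedSub.cellMap D eneg epos).left := by
      rintro _ ⟨p, rfl⟩
      rw [Over.comp_left, Scheme.Hom.comp_apply]
      exact hxy (Set.mem_range_self p)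
    obtain ⟨z, hz⟩ := Groth.L14.CellHom.exists_lift_of_mem (RedSub.cellMap D eneg epos) _ hr
    have hz' : z ≫ RedSub.cellMap D eneg epos = (x ≫ RedSub.cellMap D eneg epos) * (y ≫ RedSub.cellMap D eneg epos) := by
      rw [hz]; simp only [pr, MonObj.comp_mul, lift_fst_assoc, lift_snd_assoc]
    exact ⟨z, hz', Groth.L14.Coroot.fN_mul D b N hneg hpos (fun x hx => (hN x).1 hx) X x y z hz'⟩

end Groth.Agent.S5577
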