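import Groth.Statements.S5580
import Groth.Agent.L09.ToposQC

set_option autoImplicit false
open CategoryTheory CategoryTheory.Limits Opposite
universe u
open ToposFin

namespace Groth.Agent.S5580

/-- Quasi-compact and coherent cases: for the topos of sheaves of sets on a small site: let (X_i) be a
finite family of objects with coproduct X (given as a colimit cofan) and f : X -> Y a morphism with
components f_i : X_i -> Y. Then f is quasi-compact (resp. coherent) if and only if every f_i is. -/
theorem result {C : Type u} [SmallCategory C] {J : GrothendieckTopology C}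
    {Y : ToposFin.Sh J} {n : ℕ} (X : Fin n → ToposFin.Sh J) (c : Cofan X) (hc : IsColimit c)
    (f : c.pt ⟶ Y) :
    (ToposFin.IsQCHom f ↔ ∀ i, ToposFin.IsQCHom (c.inj i ≫ f)) ∧
    (ToposFin.IsCohHom f ↔ ∀ i, ToposFin.IsCohHom (c.inj i ≫ f)) := by
  open Groth.L09.Topos in
  have h₁ : ∀ i, ToposFin.IsQCHom (c.inj i) := isQCHom_cofan_inj_fintype hc
  have h₂ : ∀ i, ToposFin.IsQSHom (c.inj i) := fun i =>
    have := cofan_mono_fintype hc i
    isQSHom_of_mono _
  exact ⟨⟨fun h i => (qc J).comp_mem _ _ (h₁ i) h, isQCHom_of_finite_cover_source (covers_of_isColimit hc) f⟩,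
    ⟨fun h i => ⟨(qc J).comp_mem _ _ (h₁ i) h.1, (qs J).comp_mem _ _ (h₂ i) h.2⟩,
      fun h => ⟨isQCHom_of_finite_cover_source (covers_of_isColimit hc) f fun i => (h i).1,
        isQSHom_cofan_desc (isColimitUliftCofan hc) f fun i => (h i.down).2⟩⟩⟩

end Groth.Agent.S5580
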