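import Groth.Statements.S5582
import Groth.Agent.L09.ToposFP

set_option autoImplicit false
open CategoryTheory CategoryTheory.Limits Opposite
universe u
open ToposFin

namespace Groth.Agent.S5582

/-- Equivalence of (i), (ii bis) and (iii), for the topos of sheaves of sets on a small site admitting a
generating family of coherent objects: the coequalizer of every pair of arrows between coherent
objects is coherent if and only if every object X for which Hom(X, -) commutes with small filtered
colimits is coherent; and every object is a small filtered colimit of coherent objects if and only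
if that same condition holds. -/
theorem result {C : Type u} [SmallCategory C]
    {J : GrothendieckTopology C} (hE : ToposFin.HasCoherentGenerators J) :
    ((∀ (X₀ X₁ : ToposFin.Sh J) (a b : X₁ ⟶ X₀), ToposFin.IsCoherent X₀ → ToposFin.IsCoherent X₁ →
        ToposFin.IsCoherent (coequalizer a b)) ↔
      (∀ X : ToposFin.Sh J, ToposFin.IsFP X → ToposFin.IsCoherent X)) ∧
    ((∀ X : ToposFin.Sh J, ∃ (I : Type u) (_ : SmallCategory I) (_ : IsFiltered I) (D : I ⥤ ToposFin.Sh J),
        (∀ i, ToposFin.IsCoherent (D.obj i)) ∧ Nonempty (X ≅ colimit D)) ↔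
      (∀ X : ToposFin.Sh J, ToposFin.IsFP X → ToposFin.IsCoherent X)) := by
  open Groth.L09.Topos in
  have hP := genBy_of_hasCoherentGenerators hE
  have hFP : ∀ {X : ToposFin.Sh J}, ToposFin.IsCoherent X → ToposFin.IsFP X := isFP_of_isCoherent hP fun _ h => h.1
  have h₁ : (∀ (X₀ X₁ : ToposFin.Sh J) (a b : X₁ ⟶ X₀), ToposFin.IsCoherent X₀ → ToposFin.IsCoherent X₁ →
      ToposFin.IsCoherent (coequalizer a b)) ↔
      (∀ X : ToposFin.Sh J, ToposFin.IsFP X → ToposFin.IsCoherent X) := by
    refine ⟨fun h X hX => ?_, fun h X₀ X₁ a b h₀ h₁ => h _ (isFP_coequalizer a b (hFP h₀) (hFP h₁))⟩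
    obtain ⟨Q, i, p, hQ, hip⟩ := exists_retract_of_isFP hP (R := ToposFin.IsCoherent)
      (fun α β _ _ F G a b hF hG => h _ _ a b (isCoherent_cofan (coproductIsCoproduct F) hF)
        (isCoherent_cofan (coproductIsCoproduct G) hG)) hX
    exact isCoherent_of_retract i p hip hQ
  refine ⟨h₁, ⟨fun h X hX => ?_, fun h X => ?_⟩⟩
  · obtain ⟨I, _, _, D, hD, ⟨e⟩⟩ := h X
    obtain ⟨k, c, hc⟩ := (post_surjective_iff _ D).1 (hX I D).2 e.hom
    exact isCoherent_of_retract c (colimit.ι D k ≫ e.inv) (by rw [reassoc_of% hc, e.hom_inv_id]) (hD k)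
  · exact exists_presentation hP (R := ToposFin.IsCoherent)
      (fun α β _ _ F G a b hF hG => h₁.2 h _ _ a b (isCoherent_cofan (coproductIsCoproduct F) hF)
        (isCoherent_cofan (coproductIsCoproduct G) hG)) X

end Groth.Agent.S5582
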