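import Groth.Statements.S5586
import Groth.Agent.L09.ToposQC

set_option autoImplicit false
open CategoryTheory CategoryTheory.Limits Opposite
universe u
open ToposFin

namespace Groth.Agent.S5586

/-- Quasi-separated and coherent cases: for an algebraic topos of sheaves of sets on a small site: let f
: X -> Y be a morphism and (Y_i -> Y) a jointly epimorphic family. If the Y_i are quasi-separated
(resp. coherent), then f is quasi-separated (resp. coherent) if and only if every X x_Y Y_i is a
quasi-separated (resp. coherent) object. -/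
theorem result {C : Type u} [SmallCategory C]
    {J : GrothendieckTopology C} (hE : ToposFin.IsAlgebraic J) {X Y : ToposFin.Sh J} (f : X ⟶ Y)
    {ι : Type u} (Yi : ι → ToposFin.Sh J) (g : ∀ i, Yi i ⟶ Y)
    (hg : ∀ (Z : ToposFin.Sh J) (a b : Y ⟶ Z), (∀ i, g i ≫ a = g i ≫ b) → a = b) :
    ((∀ i, ToposFin.IsQS (Yi i)) → (ToposFin.IsQSHom f ↔ ∀ i, ToposFin.IsQS (pullback f (g i)))) ∧
    ((∀ i, ToposFin.IsCoherent (Yi i)) →
      (ToposFin.IsCohHom f ↔ ∀ i, ToposFin.IsCoherent (pullback f (g i)))) := by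
  open Groth.L09.Topos in
  have hP := genBy_qc_of_algebraic hE
  have loc_qs : (∀ i, ToposFin.IsQSHom (pullback.snd f (g i))) → ToposFin.IsQSHom f :=
    isQSHom_of_refines (fun _ a => refines_of_genBy hP (fun _ h => h) (covers_pullback_fst hg a)) f
  refine ⟨fun hY => ⟨fun h i => isQS_of_isQSHom ((qs J).pullback_snd f (g i) h) (hY i),
    fun h => loc_qs fun i => isQSHom_of_isQS_of_algebraic hE _ (h i)⟩, fun hY => ⟨fun h i =>
      isCoherent_of_isCohHom ⟨(qc J).pullback_snd f (g i) h.1, (qs J).pullback_snd f (g i) h.2⟩ (hY i),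
      fun h => ⟨isQCHom_of_refines (refines_of_genBy hP (fun _ h => h) hg) f fun i =>
        isQCHom_of_isQC_of_isQS _ (h i).1 (hY i).2, loc_qs fun i => isQSHom_of_isQS_of_algebraic hE _ (h i).2⟩⟩⟩

end Groth.Agent.S5586
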