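import Groth.Statements.S5588
import Groth.Agent.L09.ToposFP

set_option autoImplicit false
open CategoryTheory CategoryTheory.Limits Opposite
universe u
open ToposFin

namespace Groth.Agent.S5588

/-- (ii) implies (i), for the topos of sheaves of sets on a small site: let S be an isomorphism-closed
generating set of quasi-compact objects, stable under finite colimits and under fibre products. Then
S is the set of all coherent objects (so the topos is locally coherent), and every object X for
which Hom(X, -) commutes with small filtered colimits is coherent. -/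
theorem result {C : Type u} [SmallCategory C]
    {J : GrothendieckTopology C} (S : Set (ToposFin.Sh J)) (hqc : ∀ K ∈ S, ToposFin.IsQC K)
    (hiso : ∀ ⦃K L : ToposFin.Sh J⦄, K ∈ S → Nonempty (K ≅ L) → L ∈ S)
    (hgen : ToposFin.IsGenerating S) (hpb : ToposFin.ClosedUnderPullbacks S)
    (hcolim : ∀ (K : Type) [SmallCategory K] [FinCategory K] (D : K ⥤ ToposFin.Sh J),
      (∀ k, D.obj k ∈ S) → colimit D ∈ S) :
    (∀ X : ToposFin.Sh J, X ∈ S ↔ ToposFin.IsCoherent X) ∧
    (∀ X : ToposFin.Sh J, ToposFin.IsFP X → ToposFin.IsCoherent X) := by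
  open Groth.L09.Topos in
  have hP := genBy_of_isGenerating hgen
  have hcoh : ∀ K ∈ S, ToposFin.IsCoherent K := fun K h => ⟨hqc K h, isQS_of_mem hqc hgen hpb h⟩
  have hsum : ∀ (α : Type u) [Finite α] (F : α → ToposFin.Sh J), (∀ i, F i ∈ S) → (∐ F) ∈ S := by
    intro α _ F hF
    obtain ⟨n, ⟨e⟩⟩ := Finite.exists_equiv_fin α
    refine hiso (hcolim (Discrete (Fin n)) (Discrete.functor fun k => F (e.symm k)) fun k => hF _) ?_
    exact ⟨Sigma.reindex e.symm F⟩
  have hcoeq : ∀ {K L : ToposFin.Sh J} (a b : K ⟶ L), K ∈ S → L ∈ S → coequalizer a b ∈ S := fun a b hK hL =>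
    hcolim WalkingParallelPair (parallelPair a b) fun k => by cases k <;> assumption
  have hret : ∀ X : ToposFin.Sh J, ToposFin.IsFP X → X ∈ S := by
    intro X hX
    obtain ⟨Q, i, p, hQ, hip⟩ := exists_retract_of_isFP hP (R := (· ∈ S))
      (fun α β _ _ F G a b hF hG => hcoeq a b (hsum β G hG) (hsum α F hF)) hX
    refine hiso (hcoeq (p ≫ i) (𝟙 Q) hQ hQ)
      ⟨{ hom := coequalizer.desc p (by rw [Category.assoc, hip, Category.comp_id, Category.id_comp])
         inv := i ≫ coequalizer.π (p ≫ i) (𝟙 Q)
         hom_inv_id := coequalizer.hom_ext (by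
           rw [coequalizer.π_desc_assoc, Category.comp_id, ← Category.assoc, coequalizer.condition, Category.id_comp])
         inv_hom_id := by rw [Category.assoc, coequalizer.π_desc, hip] }⟩
  exact ⟨fun X => ⟨fun h => hcoh X h, fun h => hret X (isFP_of_isCoherent hP hqc h)⟩,
    fun X hX => hcoh X (hret X hX)⟩

end Groth.Agent.S5588
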