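import Groth.Statements.S5592
import Groth.Agent.L27.EtSite.SepClosedPoint

set_option autoImplicit false
open CategoryTheory CategoryTheory.Limits AlgebraicGeometry Opposite
universe u
open EtDesc

set_option backward.isDefEq.respectTransparency.types false
set_option linter.style.haveILetI false

namespace Groth.Agent.S5592

/-- Let k' be a separably closed extension field of a separably closed field k and u : Spec k' -> Spec k
the canonical morphism. Then the inverse image functor u^* from etale sheaves of sets on Spec k to
etale sheaves of sets on Spec k' is an equivalence of categories. -/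
theorem result (k k' : Type u) [Field k] [IsSepClosed k]
    [Field k'] [IsSepClosed k'] [Algebra k k'] :
    (EtDesc.pullSh (Spec.map (CommRingCat.ofHom (algebraMap k k')))).IsEquivalence := by
  let f := Spec.map (CommRingCat.ofHom (algebraMap k k'))
  let K : Scheme.{u} := Spec (CommRingCat.of k')
  let S₀ : Scheme.{u} := Spec (CommRingCat.of k)
  let e₀ : (EtCoh.bc f).obj (EtCoh.top S₀) ≅ EtCoh.top K :=
    MorphismProperty.Over.isoMk (@asIso _ _ _ _ (pullback.snd (𝟙 S₀) f) (IsPullback.of_hasPullback (𝟙 S₀) f).isIso_snd_of_isIso) (Category.comp_id _)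
  haveI := Groth.L27.SepClosedPoint.isEquivalence_sections k
  haveI := Groth.L27.SepClosedPoint.isEquivalence_sections k'
  let e : EtDesc.pushSh f ⋙ (sheafSections S₀.smallEtaleTopology (Type (u + 1))).obj (op (EtCoh.top S₀)) ≅
      (sheafSections K.smallEtaleTopology (Type (u + 1))).obj (op (EtCoh.top K)) :=
    NatIso.ofComponents (fun F => F.obj.mapIso e₀.symm.op) (fun φ => (φ.hom.naturality _).symm)
  haveI : (EtDesc.pushSh f ⋙ (sheafSections S₀.smallEtaleTopology (Type (u + 1))).obj
      (op (EtCoh.top S₀))).IsEquivalence := Functor.isEquivalence_of_iso e.symm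
  haveI : (EtDesc.pushSh f).IsEquivalence :=
    Functor.isEquivalence_of_comp_right _ ((sheafSections S₀.smallEtaleTopology (Type (u + 1))).obj (op (EtCoh.top S₀)))
  exact (EtDesc.adjSh f).isEquivalence_left_of_isEquivalence_right

end Groth.Agent.S5592
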