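import Groth.Statements.S5605
import Groth.Agent.L13.PCoh.Devissage

set_option autoImplicit false
universe w v u
open CategoryTheory CategoryTheory.Limits
open PCoh

namespace Groth.Agent.S5605

open CategoryTheory.Pretriangulated

/-- Let C be an abelian category and C₀ a strictly full additive subcategory, quasi-stable under kernels
of epimorphisms and quasi-liftable. For F', F'' in D(C), the direct sum F' ⊞ F'' is
n-pseudo-coherent (isomorphic to a strictly n-pseudo-coherent complex) if and only if F' and F''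
are. -/
theorem result {C : Type u} [Category.{v} C] [Abelian C] [HasDerivedCategory.{w} C]
    (P : ObjectProperty C) [P.IsClosedUnderIsomorphisms] [P.ContainsZero] (hsum : ∀ X Y : C, P X → P Y → P (X ⨯ Y))
    (hqs : PCoh.IsQuasiStableUnderKernels P) (hql : PCoh.IsQuasiLiftable P)
    (n : ℤ) (F' F'' : DerivedCategory C) [HasBinaryBiproduct F' F''] :
    (∃ E : CochainComplex C ℤ, PCoh.IsStrictPC P n E ∧ Nonempty (DerivedCategory.Q.obj E ≅ (F' ⊞ F''))) ↔
      (∃ E : CochainComplex C ℤ, PCoh.IsStrictPC P n E ∧ Nonempty (DerivedCategory.Q.obj E ≅ F')) ∧ (∃ E : CochainComplex C ℤ, PCoh.IsStrictPC P n E ∧ Nonempty (DerivedCategory.Q.obj E ≅ F'')) := by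
  refine ⟨fun h => ?_, fun ⟨h', h''⟩ =>
    Groth.L13.PCoh.isN_obj₂ P hsum hqs hql (binaryBiproductTriangle_distinguished F' F'') h' h''⟩
  let H := DerivedCategory.homologyFunctor C
  suffices key : ∀ (m : ℕ) (n : ℤ) (A B : DerivedCategory C) (_ : HasBinaryBiproduct A B),
      Groth.L13.PCoh.IsN P n (A ⊞ B) → (∀ i : ℤ, n + m ≤ i → IsZero ((H i).obj (A ⊞ B))) →
        Groth.L13.PCoh.IsN P n A ∧ Groth.L13.PCoh.IsN P n B by
    obtain ⟨b, hb⟩ := Groth.L13.PCoh.IsN.exists_bound P h
    exact key (b + 1 - n).toNat n F' F'' inferInstance h fun i hi => hb i (by omega)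
  intro m
  induction m with
  | zero =>
    intro n A B _ _ hz
    refine ⟨Groth.L13.PCoh.isN_of_isLE P hsum hql fun i hi => ?_, Groth.L13.PCoh.isN_of_isLE P hsum hql fun i hi => ?_⟩
    · exact IsZero.of_mono_eq_zero ((H i).map (biprod.inl : A ⟶ A ⊞ B)) ((hz i (by simpa using hi)).eq_of_tgt _ _)
    · exact IsZero.of_mono_eq_zero ((H i).map (biprod.inr : B ⟶ A ⊞ B)) ((hz i (by simpa using hi)).eq_of_tgt _ _)
  | succ m ih =>
    intro n A B _ hAB hz
    obtain ⟨hA, hB⟩ := ih (n + 1) A B inferInstance (Groth.L13.PCoh.IsN.mono P hAB (by omega))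
      fun i hi => hz i (by omega)
    suffices one : ∀ (A B : DerivedCategory C) (_ : HasBinaryBiproduct A B), Groth.L13.PCoh.IsN P n (A ⊞ B) →
        Groth.L13.PCoh.IsN P (n + 1) A → Groth.L13.PCoh.IsN P (n + 1) B → Groth.L13.PCoh.IsN P n A by
      refine ⟨one A B inferInstance hAB hA hB, ?_⟩
      haveI : HasBinaryBiproduct B A := hasBinaryBiproduct_of_total
        { pt := A ⊞ B, fst := biprod.snd, snd := biprod.fst, inl := biprod.inr, inr := biprod.inl } (by
          simp only [add_comm]; exact biprod.total)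
      exact one B A inferInstance (Groth.L13.PCoh.IsN.of_iso P hAB (biprod.braiding A B)) hB hA
    intro A B _ hAB hA hB
    obtain ⟨E₁, a₁, b₁, α, hz₁, hP₁, h11, h12⟩ := (Groth.Agent.S5598.result P hsum hqs hql (n + 1) A).1 hA
    obtain ⟨E₂, a₂, b₂, β, hz₂, hP₂, h21, h22⟩ := (Groth.Agent.S5598.result P hsum hqs hql (n + 1) B).1 hB
    have hE₁ : ∀ k, Groth.L13.PCoh.IsN P k (DerivedCategory.Q.obj E₁) := fun k =>
      ⟨E₁, ⟨⟨b₁, fun i hi => hz₁ i (Or.inr hi)⟩, fun i _ => hP₁ i⟩, ⟨Iso.refl _⟩⟩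
    have hE₂ : ∀ k, Groth.L13.PCoh.IsN P k (DerivedCategory.Q.obj E₂) := fun k =>
      ⟨E₂, ⟨⟨b₂, fun i hi => hz₂ i (Or.inr hi)⟩, fun i _ => hP₂ i⟩, ⟨Iso.refl _⟩⟩
    let X := DerivedCategory.Q.obj E₁
    let Y := DerivedCategory.Q.obj E₂
    obtain ⟨C₁, g₁, h₁, hT₁⟩ := distinguished_cocone_triangle α
    obtain ⟨W, g, h, hT⟩ := distinguished_cocone_triangle (biprod.map α β)
    have hW : Groth.L13.PCoh.IsN P n W := Groth.L13.PCoh.isN_obj₃ P hsum hqs hql hT
      (Groth.L13.PCoh.isN_obj₂ P hsum hqs hql (binaryBiproductTriangle_distinguished X Y) (hE₁ _) (hE₂ _)) hAB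
    have hH : ∀ i, n + 1 ≤ i → IsZero ((H i).obj C₁) :=
      (Groth.L13.PCoh.approx_iff_triangle _ hT₁ (n + 1)).1 ⟨h11, h12⟩
    have hepi : ∀ i, n + 1 ≤ i → Epi ((H i).map (biprod.map α β)) := fun i hi => by
      have e₁ : Epi ((H i).map α) := by
        rcases eq_or_lt_of_le hi with rfl | hi'
        · exact h12
        · have := h11 i hi'; infer_instance
      have e₂ : Epi ((H i).map β) := by
        rcases eq_or_lt_of_le hi with rfl | hi'
        · exact h22
        · have := h21 i hi'; infer_instance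
      rw [Preadditive.epi_iff_cancel_zero]
      intro Z k hk
      have i₁ : (H i).map (biprod.inl : A ⟶ A ⊞ B) ≫ k = 0 := by
        rw [← cancel_epi ((H i).map α), ← Functor.map_comp_assoc, ← biprod.inl_map α β,
          Functor.map_comp_assoc, hk, comp_zero, comp_zero]
      have i₂ : (H i).map (biprod.inr : B ⟶ A ⊞ B) ≫ k = 0 := by
        rw [← cancel_epi ((H i).map β), ← Functor.map_comp_assoc, ← biprod.inr_map α β,
          Functor.map_comp_assoc, hk, comp_zero, comp_zero]
      rw [← Category.id_comp k, ← CategoryTheory.Functor.map_id, ← biprod.total, Functor.map_add,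
        Functor.map_comp, Functor.map_comp, Preadditive.add_comp, Category.assoc, Category.assoc,
        i₁, i₂, comp_zero, comp_zero, add_zero]
    have hiso : ∀ i, n + 1 < i → IsIso ((H i).map (biprod.map α β)) := fun i hi => by
      haveI := hepi i hi.le
      haveI := h11 i hi
      haveI := h21 i hi
      haveI : Mono ((H i).map (biprod.map α β)) := by
        rw [Preadditive.mono_iff_cancel_zero]
        intro Z k hk
        have i₁ : k ≫ (H i).map (biprod.fst : X ⊞ Y ⟶ X) = 0 := by
          rw [← cancel_mono ((H i).map α), Category.assoc, ← Functor.map_comp, ← biprod.map_fst α β,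
            Functor.map_comp, reassoc_of% hk, zero_comp, zero_comp]
        have i₂ : k ≫ (H i).map (biprod.snd : X ⊞ Y ⟶ Y) = 0 := by
          rw [← cancel_mono ((H i).map β), Category.assoc, ← Functor.map_comp, ← biprod.map_snd α β,
            Functor.map_comp, reassoc_of% hk, zero_comp, zero_comp]
        rw [← Category.comp_id k, ← CategoryTheory.Functor.map_id, ← biprod.total, Functor.map_add,
          Functor.map_comp, Functor.map_comp, Preadditive.comp_add, reassoc_of% i₁, reassoc_of% i₂,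
          zero_comp, zero_comp, add_zero]
      exact isIso_of_mono_of_epi _
    have hWz : ∀ i, n < i → IsZero ((H i).obj W) := fun i hi =>
      (Groth.L13.PCoh.approx_iff_triangle _ hT (n + 1)).1 ⟨hiso, hepi (n + 1) le_rfl⟩ i (by omega)
    -- `C₁` is a retract of `W`
    let φ := completeDistinguishedTriangleMorphism _ _ hT hT₁ biprod.fst biprod.fst (biprod.map_fst α β)
    let ψ := completeDistinguishedTriangleMorphism _ _ hT₁ hT biprod.inl biprod.inl (biprod.inl_map α β).symm
    haveI : IsIso (ψ ≫ φ).hom₃ := by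
      refine isIso₃_of_isIso₁₂ (ψ ≫ φ) hT₁ hT₁ ?_ ?_
      · change IsIso ((biprod.inl : X ⟶ X ⊞ Y) ≫ biprod.fst)
        rw [biprod.inl_fst]
        infer_instance
      · change IsIso ((biprod.inl : A ⟶ A ⊞ B) ≫ biprod.fst)
        rw [biprod.inl_fst]
        infer_instance
    have hφe : Epi ((H n).map φ.hom₃) := by
      haveI : IsIso ((H n).map ψ.hom₃ ≫ (H n).map φ.hom₃) := by
        rw [← Functor.map_comp, ← comp_hom₃]
        infer_instance
      exact epi_of_epi ((H n).map ψ.hom₃) _
    have hC₁ : Groth.L13.PCoh.IsN P n C₁ := (Groth.Agent.S5603.result P hsum hqs hql n C₁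
      fun i hi => hH i (by omega)).2 (@Groth.L13.PCoh.ft_of_epi _ _ _ P _ _ ((H n).map φ.hom₃) hφe
        (Groth.L13.PCoh.IsN.ft_homology P hqs hW hWz))
    exact Groth.L13.PCoh.isN_obj₂ P hsum hqs hql hT₁ (hE₁ n) hC₁

end Groth.Agent.S5605
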