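import Groth.Statements.S5606
import Groth.Agent.L13.PCoh.Devissage

set_option autoImplicit false
universe w v u
open CategoryTheory CategoryTheory.Limits
open PCoh

namespace Groth.Agent.S5606

open CategoryTheory.Pretriangulated

/-- Let C be an abelian category, C₀ ⊆ C₁ strictly full additive subcategories with C₀ quasi-stable
under kernels of epimorphisms and quasi-liftable. If every object of C₁ is C₀-pseudo-coherent, then
C₁ is quasi-liftable in C and quasi-stable under kernels of epimorphisms. -/
theorem result {C : Type u} [Category.{v} C] [Abelian C] [HasDerivedCategory.{w} C]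
    (P : ObjectProperty C) [P.IsClosedUnderIsomorphisms] [P.ContainsZero] (hsum : ∀ X Y : C, P X → P Y → P (X ⨯ Y))
    (hqs : PCoh.IsQuasiStableUnderKernels P) (hql : PCoh.IsQuasiLiftable P)
    (P₁ : ObjectProperty C) [P₁.IsClosedUnderIsomorphisms] [P₁.ContainsZero]
    (hsum₁ : ∀ X Y : C, P₁ X → P₁ Y → P₁ (X ⨯ Y)) (hle : ∀ X : C, P X → P₁ X)
    (hpc : ∀ X : C, P₁ X → PCoh.IsPC P ((DerivedCategory.singleFunctor C 0).obj X)) :
    PCoh.IsQuasiLiftable P₁ ∧ PCoh.IsQuasiStableUnderKernels P₁ := by
  have hft : ∀ X, P₁ X → PCoh.IsOfFiniteType P X := fun X hX =>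
    (Groth.L13.PCoh.isN_zero_single_iff P hsum hqs hql X).1 (hpc X hX 0)
  constructor
  · intro E F u hu hF
    obtain ⟨E₀, π, hE₀, hπ⟩ := hft F hF
    obtain ⟨F', t, hF', ht⟩ := hql (pullback π u) E₀ (pullback.fst π u) inferInstance hE₀
    refine ⟨F', t ≫ pullback.snd π u, hle F' hF', ?_⟩
    rw [Category.assoc, ← pullback.condition, ← Category.assoc]
    exact epi_comp _ _
  · intro K hK hb hP
    obtain ⟨N, hN⟩ := hb
    have hz : ∀ j, N < j → Groth.L13.PCoh.IsN P 0
        ((DerivedCategory.singleFunctor C 0).obj (K.X j)) := fun j hj =>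
      Groth.L13.PCoh.isN_of_isLE P hsum hql fun _ _ => Functor.map_isZero _ (Functor.map_isZero _ (hN j hj))
    -- the cycles are pseudo-coherent, by descending induction
    have hcyc : ∀ (m j : ℕ), 1 ≤ j → N < j + m →
        ∀ n, Groth.L13.PCoh.IsN P n ((DerivedCategory.singleFunctor C 0).obj (kernel (K.d j (j + 1)))) := by
      intro m
      induction m with
      | zero =>
        intro j _ hj n
        have : IsZero (kernel (K.d j (j + 1))) :=
          IsZero.of_mono_eq_zero (kernel.ι _) ((hN j (by omega)).eq_of_tgt _ _)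
        exact Groth.L13.PCoh.isN_of_isLE P hsum hql fun _ _ => Functor.map_isZero _ (Functor.map_isZero _ this)
      | succ m ih =>
        intro j hj1 hj n
        have hex := (K.exactAt_iff' j (j + 1) (j + 2) (by simp) (by simp)).1 (hK (j + 1))
        let S : ShortComplex C := ShortComplex.mk (kernel.ι (K.d j (j + 1)))
          (kernel.lift (K.d (j + 1) (j + 2)) (K.d j (j + 1)) (K.d_comp_d _ _ _))
          (by rw [← cancel_mono (kernel.ι (K.d (j + 1) (j + 2)))]; simp)
        have hS : S.ShortExact :=
          { exact := ShortComplex.exact_of_f_is_kernel _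
              (isKernelOfComp (kernel.ι (K.d (j + 1) (j + 2))) (K.d j (j + 1))
                (kernelIsKernel (K.d j (j + 1))) S.zero (by simp [S]))
            epi_g := hex.epi_kernelLift }
        have := Groth.L13.PCoh.isN_obj₁ P hsum hqs hql hS.singleTriangle_distinguished (n := n - 1)
          (hpc _ (hP j hj1) (n - 1 + 1)) (ih (j + 1) (by omega) (by omega) (n - 1))
        rwa [sub_add_cancel] at this
    obtain ⟨E, π, hE, hπ⟩ := (Groth.L13.PCoh.isN_zero_single_iff P hsum hqs hql _).1
      (hcyc (N + 1) 1 le_rfl (by omega) 0)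
    refine ⟨E, π ≫ ?_, hle E hE, ?_⟩
    · haveI : Mono (K.d 0 1) := by
        have h0 := (K.exactAt_iff' 0 0 1 (by simp) (by simp)).1 (hK 0)
        exact h0.mono_g (K.shape 0 0 (by simp [ComplexShape.up_Rel]))
      haveI : Mono (K.sc' 0 1 2).f := ‹Mono (K.d 0 1)›
      exact ((kernelIsKernel (K.d 1 2)).conePointUniqueUpToIso
        ((K.exactAt_iff' 0 1 2 (by simp) (by simp)).1 (hK 1)).fIsKernel).hom
    · exact epi_comp _ _

end Groth.Agent.S5606
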