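import Groth.Statements.S5608
import Groth.Agent.L13.PCoh.Devissage
import Groth.Agent.L13.PCoh.Coherent

set_option autoImplicit false
universe w v u
open CategoryTheory CategoryTheory.Limits
open PCoh

namespace Groth.Agent.S5608

open CategoryTheory.Pretriangulated

/-- Punctual site: let C be an abelian category and C₀ a strictly full additive subcategory,
quasi-liftable in C, whose objects are C₀-coherent (of C₀-finite type, and every morphism from an
object of C₀ into them has kernel of C₀-finite type). For F ∈ D(C) with bounded above cohomology and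
n an integer: F is n-pseudo-coherent (isomorphic to a strictly n-pseudo-coherent complex) if and
only if H^n(F) is of C₀-finite type and H^i(F) is C₀-coherent for every i > n. -/
theorem result {C : Type u} [Category.{v} C] [Abelian C] [HasDerivedCategory.{w} C]
    (P : ObjectProperty C) [P.IsClosedUnderIsomorphisms] [P.ContainsZero] (hsum : ∀ X Y : C, P X → P Y → P (X ⨯ Y))
    (hql : PCoh.IsQuasiLiftable P)
    (hcoh : ∀ (X E : C) (u : E ⟶ X), P X → P E → PCoh.IsOfFiniteType P (kernel u))
    (n : ℤ) (F : DerivedCategory C) (b : ℤ) (hb : ∀ i : ℤ, b < i → IsZero ((DerivedCategory.homologyFunctor C i).obj F)) :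
    (∃ E : CochainComplex C ℤ, PCoh.IsStrictPC P n E ∧ Nonempty (DerivedCategory.Q.obj E ≅ F)) ↔
      (PCoh.IsOfFiniteType P ((DerivedCategory.homologyFunctor C n).obj F) ∧
        ∀ i : ℤ, n < i → (PCoh.IsOfFiniteType P ((DerivedCategory.homologyFunctor C i).obj F) ∧
          ∀ (E : C) (u : E ⟶ (DerivedCategory.homologyFunctor C i).obj F), P E → PCoh.IsOfFiniteType P (kernel u))) := by
  let H := DerivedCategory.homologyFunctor C
  have hqs : PCoh.IsQuasiStableUnderKernels P := by
    intro K hK hbd hP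
    haveI : Mono (K.d 0 1) := ((K.exactAt_iff' 0 0 1 (by simp) (by simp)).1 (hK 0)).mono_g
      (K.shape 0 0 (by simp [ComplexShape.up_Rel]))
    haveI : Mono (K.sc' 0 1 2).f := ‹Mono (K.d 0 1)›
    exact Groth.L13.PCoh.ft_of_iso P ((kernelIsKernel (K.d 1 2)).conePointUniqueUpToIso
      ((K.exactAt_iff' 0 1 2 (by simp) (by simp)).1 (hK 1)).fIsKernel)
      (hcoh (K.X 2) (K.X 1) (K.d 1 2) (hP 2 (by omega)) (hP 1 le_rfl))
  have hPprec : ∀ X : C, P X → Groth.L13.PCoh.Prec P X := fun X hX E u hE => hcoh X E u hX hE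
  have hPft : ∀ X : C, P X → PCoh.IsOfFiniteType P X := fun X hX => ⟨X, 𝟙 X, hX, inferInstance⟩
  -- cycles of a strictly pseudo-coherent complex
  have hcycle : ∀ (E : CochainComplex C ℤ) (i : ℤ), P (E.X i) → P (E.X (i + 1)) →
      PCoh.IsOfFiniteType P (E.cycles i) := fun E i h₁ h₂ =>
    Groth.L13.PCoh.ft_of_iso P ((kernelIsKernel (E.d i (i + 1))).conePointUniqueUpToIso
      (E.cyclesIsKernel i (i + 1) (by simp))) (hcoh _ _ _ h₂ h₁)
  have hhom : ∀ (E : CochainComplex C ℤ) (i : ℤ), P (E.X i) → P (E.X (i + 1)) →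
      PCoh.IsOfFiniteType P (E.homology i) := fun E i h₁ h₂ =>
    Groth.L13.PCoh.ft_of_epi P (E.homologyπ i) (hcycle E i h₁ h₂)
  constructor
  · rintro ⟨E, ⟨hbd, hP⟩, ⟨e⟩⟩
    have hiso : ∀ i, E.homology i ≅ (H i).obj F := fun i =>
      (DerivedCategory.homologyFunctorFactors C i).symm.app E ≪≫ (H i).mapIso e
    refine ⟨Groth.L13.PCoh.ft_of_iso P (hiso n) (hhom E n (hP n le_rfl) (hP (n + 1) (by omega))), fun i hi => ?_⟩
    refine ⟨Groth.L13.PCoh.ft_of_iso P (hiso i) (hhom E i (hP i hi.le) (hP (i + 1) (by omega))), ?_⟩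
    refine Groth.L13.PCoh.Prec.of_iso P (hiso i) ?_
    exact Groth.L13.PCoh.prec_X₃ P hsum hql
      (S := ShortComplex.mk (E.toCycles (i - 1) i) (E.homologyπ i) (E.toCycles_comp_homologyπ _ _))
      (ShortComplex.exact_of_g_is_cokernel _ (E.homologyIsCokernel (i - 1) i (by simp)))
      inferInstance (hPft _ (hP (i - 1) (by omega)))
      ((hPprec _ (hP i hi.le)).of_mono P (E.iCycles i))
  · rintro ⟨hn, hgt⟩
    suffices key : ∀ (k : ℕ) (m : ℤ), n ≤ m → b < m + k → Groth.L13.PCoh.IsN P m F from
      key (b + 1 - n).toNat n le_rfl (by omega)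
    intro k
    induction k with
    | zero => exact fun m _ hm => Groth.L13.PCoh.isN_of_isLE P hsum hql fun i hi => hb i (by simp at hm; omega)
    | succ k ih =>
      intro m hnm hmk
      obtain ⟨E, a, c, α, hz, hP, h1, h2⟩ := (Groth.Agent.S5598.result P hsum hqs hql (m + 1) F).1
        (ih (m + 1) (by omega) (by omega))
      obtain ⟨W, g, h, hT⟩ := distinguished_cocone_triangle α
      have hE : Groth.L13.PCoh.IsN P m (DerivedCategory.Q.obj E) :=
        ⟨E, ⟨⟨c, fun i hi => hz i (Or.inr hi)⟩, fun i _ => hP i⟩, ⟨Iso.refl _⟩⟩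
      have hW0 := (Groth.L13.PCoh.approx_iff_triangle _ hT (m + 1)).1 ⟨h1, h2⟩
      refine Groth.L13.PCoh.isN_obj₂ P hsum hqs hql hT hE ((Groth.Agent.S5603.result P hsum hqs hql m W
        fun i hi => hW0 i (by omega)).2 ?_)
      have hHE : PCoh.IsOfFiniteType P ((H (m + 1)).obj (DerivedCategory.Q.obj E)) :=
        Groth.L13.PCoh.ft_of_iso P ((DerivedCategory.homologyFunctorFactors C (m + 1)).symm.app E)
          (hhom E (m + 1) (hP _) (hP _))
      have hHF : PCoh.IsOfFiniteType P ((H m).obj F) := by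
        rcases eq_or_lt_of_le hnm with rfl | hlt
        · exact hn
        · exact (hgt m hlt).1
      -- the image of the connecting map
      have hker : PCoh.IsOfFiniteType P (kernel ((H (m + 1)).map α)) :=
        Groth.L13.PCoh.ft_kernel P _ hHE (hgt (m + 1) (by omega)).2
      have hex₁ := DerivedCategory.HomologySequence.exact₁ _ hT m (m + 1) rfl
      refine Groth.L13.PCoh.ft_X₂ P hsum hql
        (S := ShortComplex.mk ((H m).map g) (kernel.lift ((H (m + 1)).map α)
          (DerivedCategory.HomologySequence.δ (Triangle.mk α g h) m (m + 1) rfl)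
          (DerivedCategory.HomologySequence.δ_comp _ hT m (m + 1) rfl)) ?_) ?_ hex₁.epi_kernelLift hHF hker
      · rw [← cancel_mono (kernel.ι ((H (m + 1)).map α))]
        simp only [Category.assoc, kernel.lift_ι, zero_comp]
        exact DerivedCategory.HomologySequence.comp_δ _ hT m (m + 1) rfl
      · rw [ShortComplex.exact_iff_exact_up_to_refinements]
        intro A x hx
        dsimp at x hx
        obtain ⟨A', p, hp, y, hy⟩ := (DerivedCategory.HomologySequence.exact₃ _ hT m (m + 1) rfl).exact_up_to_refinements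
          x (((Category.assoc x _ _).trans (congrArg (x ≫ ·) (kernel.lift_ι _ _ _))).symm.trans
            ((congrArg (· ≫ kernel.ι _) hx).trans zero_comp))
        exact ⟨A', p, hp, y, hy⟩

end Groth.Agent.S5608
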