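import Groth.Statements.S5610
import Groth.Agent.L13.PCoh.Perfect

set_option autoImplicit false
universe w v u
open CategoryTheory CategoryTheory.Limits
open PCoh

namespace Groth.Agent.S5610

open CategoryTheory.Pretriangulated

/-- Let C be an abelian category and C₀ a strictly full additive subcategory, liftable and stable under
kernels of epimorphisms. Let a ≤ b, a ≤ c, and let F be a strictly perfect complex (terms in C₀)
vanishing outside [a, c] with H^i(F) = 0 for i > b. Then F has perfect amplitude in [a, min b c]: it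
is isomorphic in D(C) to a strictly perfect complex vanishing outside that interval. -/
theorem result {C : Type u} [Category.{v} C] [Abelian C] [HasDerivedCategory.{w} C]
    (P : ObjectProperty C) [P.IsClosedUnderIsomorphisms] [P.ContainsZero] (hsum : ∀ X Y : C, P X → P Y → P (X ⨯ Y))
    (hlift : ∀ (E F : C) (u : E ⟶ F), Epi u → P F → IsSplitEpi u)
    (hst : ∀ (E F : C) (u : E ⟶ F), Epi u → P E → P F → P (kernel u))
    (a b c : ℤ) (hab : a ≤ b) (hac : a ≤ c) (F : CochainComplex C ℤ)
    (hP : ∀ i : ℤ, P (F.X i)) (hvan : ∀ i : ℤ, i < a ∨ c < i → IsZero (F.X i))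
    (hcoh : ∀ i : ℤ, b < i → IsZero (F.homology i)) :
    ∃ F' : CochainComplex C ℤ, (∀ i : ℤ, P (F'.X i)) ∧ (∀ i : ℤ, i < a ∨ min b c < i → IsZero (F'.X i)) ∧
      Nonempty (DerivedCategory.Q.obj F' ≅ DerivedCategory.Q.obj F) := by
  rcases le_total c b with hcb | hbc
  · exact ⟨F, hP, fun i hi => hvan i (by omega), ⟨Iso.refl _⟩⟩
  haveI : F.IsStrictlyGE a := (CochainComplex.isStrictlyGE_iff F a).2 fun i hi => hvan i (Or.inl hi)
  haveI : F.IsLE b := (CochainComplex.isLE_iff F b).2 fun i hi =>
    (HomologicalComplex.exactAt_iff_isZero_homology F i).2 (hcoh i hi)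
  have hcyc : P (F.cycles b) := Groth.L13.PCoh.prop_cycles P hst F b c (fun i hi => hvan i (Or.inr hi))
    (fun i _ => hP i) fun i hi => (HomologicalComplex.exactAt_iff_isZero_homology F i).2 (hcoh i hi)
  have hzero : ∀ i, i < a ∨ b < i → IsZero ((F.truncLE b).X i) := fun i hi => by
    rcases lt_or_ge b i with hbi | hib
    · exact (F.truncLE b).isZero_of_isStrictlyLE b i hbi
    · exact (hvan i (Or.inl (by omega))).of_iso (F.truncLEXIso b i (by omega))
  refine ⟨F.truncLE b, fun i => ?_, fun i hi => hzero i (by omega),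
    ⟨asIso (DerivedCategory.Q.map (F.ιTruncLE b))⟩⟩
  rcases lt_trichotomy i b with hi | rfl | hi
  · exact P.prop_of_iso (F.truncLEXIso b i hi).symm (hP i)
  · exact P.prop_of_iso (F.truncLEXIsoCycles i).symm hcyc
  · exact Groth.L13.PCoh.prop_of_isZero P (hzero i (Or.inr hi))

end Groth.Agent.S5610
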