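import Groth.Statements.S5612
import Groth.Agent.L10.DRing.TorDim
-- import your own Groth.Agent.* helpers here

set_option autoImplicit false
universe u
open CategoryTheory CategoryTheory.Limits
attribute [local instance] HasDerivedCategory.standard
open DRing

namespace Groth.Agent.S5612

/-- Let A be a commutative ring all of whose modules have finite tor dimension (for instance A of finite
global dimension) and K ∈ D(A). (i) K has finite tor dimension if and only if K has bounded
cohomology. (ii) K is perfect if and only if K has bounded cohomology and is pseudo-coherent. -/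
theorem result {A : Type u} [CommRing A]
    (hA : ∀ (M : Type u) [AddCommGroup M] [Module A M], DRing.HasFiniteTorDim A M) (K : Dual.D A) :
    (DRing.HasFiniteTorDimCx A K ↔ ∃ a b : ℤ, ∀ i : ℤ, i < a ∨ b < i → Subsingleton (Dual.HD A K i)) ∧
      (DRing.IsPerfect A K ↔
        (∃ a b : ℤ, ∀ i : ℤ, i < a ∨ b < i → Subsingleton (Dual.HD A K i)) ∧ DRing.IsPseudoCoherent' A K) := by
  open CategoryTheory CategoryTheory.Limits in
  letI := HasDerivedCategory.standard (ModuleCat.{u} A)
  have key : DRing.HasFiniteTorDimCx A K ↔ ∃ a b : ℤ, ∀ i : ℤ, i < a ∨ b < i → Subsingleton (Dual.HD A K i) := by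
    refine ⟨fun ⟨a, b, E, hE, _, ⟨e⟩⟩ => ⟨a, b, fun i hi => ModuleCat.subsingleton_of_isZero
      ((Groth.L10.DR.HH_iso_zero e i).2 ((E.exactAt_iff_isZero_homology i).1
        (HomologicalComplex.ExactAt.of_isZero (hE i hi))))⟩, fun ⟨a, b, h⟩ => ?_⟩
    let P : ObjectProperty (Dual.D A) := fun L => DRing.HasFiniteTorDimCx A L
    haveI : P.IsClosedUnderIsomorphisms := ⟨fun e ⟨a, b, h⟩ => ⟨a, b, Groth.L10.DR.amp_of_iso e h⟩⟩
    have hz : ∀ i, i < a ∨ b < i → IsZero ((DerivedCategory.homologyFunctor (ModuleCat.{u} A) i).obj K) := fun i hi =>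
      haveI := h i hi; ModuleCat.isZero_of_subsingleton _
    refine Groth.L10.DR.of_homology P (fun Z hZ => ⟨0, 0, Groth.L10.DR.amp_of_isZero hZ 0 0⟩) (fun T hT h1 h3 => ?_)
      K a b ((DerivedCategory.isGE_iff K a).2 fun i hi => hz i (Or.inl hi))
      ((DerivedCategory.isLE_iff K b).2 fun i hi => hz i (Or.inr hi)) fun i _ _ => ?_
    · obtain ⟨a₁, b₁, h1⟩ := h1
      obtain ⟨a₃, b₃, h3⟩ := h3
      exact ⟨min a₁ a₃, max b₁ b₃, Groth.L10.DR.amp_second T hT
        (Groth.L10.DR.amp_mono h1 (min_le_left _ _) (le_max_left _ _))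
        (Groth.L10.DR.amp_mono h3 (min_le_right _ _) (le_max_right _ _))⟩
    · obtain ⟨a', b', h'⟩ := Groth.L10.DR.finiteTorDim_iff_amp.1
        (hA ((DerivedCategory.homologyFunctor (ModuleCat.{u} A) i).obj K))
      exact ⟨_, _, Groth.L10.DR.amp_of_iso (Groth.L10.DR.singleShift i _) (Groth.L10.DR.amp_shift h' (-i))⟩
  refine ⟨key, fun h => ⟨key.1 (Groth.L10.DR.amp_of_perfect h), Groth.L29.PerfPC.isPseudoCoherent'_of_isPerfect h⟩,
    fun ⟨h1, h2⟩ => ?_⟩
  obtain ⟨a, b, h⟩ := key.2 h1
  exact Groth.L10.DR.perfect_of_pc'_amp h2 h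

end Groth.Agent.S5612
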