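import Groth.Statements.S5613
import Groth.Agent.L29.KBasic
import Mathlib.Tactic.Ring

set_option autoImplicit false
universe v u
open CategoryTheory CategoryTheory.Limits CategoryTheory.Pretriangulated
open KZero

namespace Groth.Agent.S5613

/-- Let C be a pretriangulated category, L an object of C and n an integer such that the coproduct ∐_{i
≥ 0} L⟦2ni⟧ exists in C. Then cl(L) = 0 in K₀(C). -/
theorem result {C : Type u} [Category.{v} C] [Preadditive C] [HasZeroObject C]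
    [HasShift C ℤ] [∀ n : ℤ, (shiftFunctor C n).Additive] [Pretriangulated C]
    (L : C) (n : ℤ) [HasCoproduct (fun i : ℕ => (shiftFunctor C (2 * n * (i : ℤ))).obj L)] :
    KZero.clTri L = 0 := by
  set g : ℕ → C := fun i => (shiftFunctor C (2 * n * (i : ℤ))).obj L with hg
  -- the shifted coproduct is a coproduct of the tail
  let F : C ⥤ C := shiftFunctor C (2 * n)
  let e : ∀ i : ℕ, F.obj (g i) ≅ g (i + 1) := fun i =>
    ((shiftFunctorAdd' C (2 * n * (i : ℤ)) (2 * n) (2 * n * ((i + 1 : ℕ) : ℤ)) (by push_cast; ring)).app L).symm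
  have hc : IsColimit (Cofan.mk (F.obj (∐ g)) (fun i => F.map (Sigma.ι g i))) :=
    isColimitCofanMkObjOfIsColimit F _ _ (coproductIsCoproduct g)
  let z : L ≅ g 0 := ((shiftFunctorZero' C (2 * n * ((0 : ℕ) : ℤ)) (by simp)).app L).symm
  let inc : ∀ i : ℕ, g i ⟶ L ⊞ F.obj (∐ g) := fun i =>
    match i with
    | 0 => z.inv ≫ biprod.inl
    | (j + 1) => (e j).inv ≫ F.map (Sigma.ι g j) ≫ biprod.inr
  let fwd : ∐ g ⟶ L ⊞ F.obj (∐ g) := Sigma.desc inc
  let bwdR : F.obj (∐ g) ⟶ ∐ g := Cofan.IsColimit.desc hc (fun i => (e i).hom ≫ Sigma.ι g (i + 1))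
  let bwd : L ⊞ F.obj (∐ g) ⟶ ∐ g := biprod.desc (z.hom ≫ Sigma.ι g 0) bwdR
  have hb : ∀ i, F.map (Sigma.ι g i) ≫ bwdR = (e i).hom ≫ Sigma.ι g (i + 1) := fun i =>
    Cofan.IsColimit.fac hc (fun i => (e i).hom ≫ Sigma.ι g (i + 1)) i
  have h1 : fwd ≫ bwd = 𝟙 _ := by
    apply Sigma.hom_ext
    intro i
    cases i with
    | zero => simp [fwd, bwd, inc]
    | succ j =>
      simp only [fwd, bwd, inc, Sigma.ι_desc_assoc, Category.assoc, biprod.inr_desc, Category.comp_id]
      rw [hb, Iso.inv_hom_id_assoc]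
  have h2 : bwd ≫ fwd = 𝟙 _ := by
    apply biprod.hom_ext'
    · simp [fwd, bwd, inc]
    · simp only [bwd, biprod.inr_desc_assoc, Category.comp_id]
      apply Cofan.IsColimit.hom_ext hc
      intro i
      show F.map (Sigma.ι g i) ≫ bwdR ≫ fwd = F.map (Sigma.ι g i) ≫ biprod.inr
      rw [reassoc_of% (hb i)]
      simp [fwd, inc]
  have hQ := Groth.L29.clTri_iso (⟨fwd, bwd, h1, h2⟩ : ∐ g ≅ L ⊞ F.obj (∐ g))
  rw [Groth.L29.clTri_biprod, Groth.L29.clTri_shift] at hQ
  simpa [Int.negOnePow_two_mul] using hQ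

end Groth.Agent.S5613
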