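import Groth.Statements.S5614
import Groth.Agent.L29.KBasic

set_option autoImplicit false
universe v u
open CategoryTheory CategoryTheory.Limits CategoryTheory.Pretriangulated
open KZero

namespace Groth.Agent.S5614

/-- Let C be a pretriangulated category and S a dense set of objects, meaning that every set of objects
which contains S and which contains the third vertex of a distinguished triangle as soon as it
contains the other two is all of C. Then K₀(C) is generated by the classes of the objects of S. -/
theorem result {C : Type u} [Category.{v} C] [Preadditive C] [HasZeroObject C]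
    [HasShift C ℤ] [∀ n : ℤ, (shiftFunctor C n).Additive] [Pretriangulated C]
    (S : Set C)
    (hdense : ∀ T : Set C, S ⊆ T →
      (∀ tr : Triangle C, tr ∈ distinguishedTriangles →
        (tr.obj₁ ∈ T → tr.obj₂ ∈ T → tr.obj₃ ∈ T) ∧ (tr.obj₁ ∈ T → tr.obj₃ ∈ T → tr.obj₂ ∈ T) ∧
          (tr.obj₂ ∈ T → tr.obj₃ ∈ T → tr.obj₁ ∈ T)) → T = Set.univ) :
    AddSubgroup.closure (KZero.clTri '' S) = (⊤ : AddSubgroup (KZero.K0tri C)) := by
  have hT : {X : C | KZero.clTri X ∈ AddSubgroup.closure (KZero.clTri '' S)} = Set.univ := by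
    refine hdense _ (fun X hX => AddSubgroup.subset_closure ⟨X, hX, rfl⟩) (fun tr htr => ?_)
    have e := Groth.L29.clTri_triangle tr htr
    refine ⟨fun h1 h2 => ?_, fun h1 h3 => ?_, fun h2 h3 => ?_⟩
    · have : KZero.clTri tr.obj₃ = KZero.clTri tr.obj₂ - KZero.clTri tr.obj₁ := by
        rw [e]; abel
      rw [Set.mem_setOf_eq, this]; exact sub_mem h2 h1
    · rw [Set.mem_setOf_eq, e]; exact add_mem h1 h3
    · have : KZero.clTri tr.obj₁ = KZero.clTri tr.obj₂ - KZero.clTri tr.obj₃ := by
        rw [e]; abel
      rw [Set.mem_setOf_eq, this]; exact sub_mem h2 h3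
  rw [eq_top_iff]
  rintro x -
  obtain ⟨y, rfl⟩ := QuotientAddGroup.mk_surjective x
  induction y using FreeAbelianGroup.induction_on with
  | zero => exact zero_mem _
  | of X =>
    obtain ⟨X, hX⟩ := X
    exact (Set.eq_univ_iff_forall.1 hT) X
  | neg X h => rw [QuotientAddGroup.mk_neg]; exact neg_mem h
  | add a b ha hb => rw [QuotientAddGroup.mk_add]; exact add_mem ha hb

end Groth.Agent.S5614
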