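import Groth.Statements.S5616
import Groth.Agent.L00.ExtEfface
-- import your own Groth.Agent.* helpers here

set_option autoImplicit false
universe w w' v v' u u'
open CategoryTheory CategoryTheory.Limits
open CohDer

namespace Groth.Agent.S5616

/-- Let φ : A ⥤ B be an exact functor of abelian categories and M an object of A. The following are
equivalent: (i) for every L in A and every n, the map Ext^n_A(L, M) → Ext^n_B(φ L, φ M) induced by φ
is bijective; (ii) for every L the map Hom_A(L, M) → Hom_B(φ L, φ M) is bijective, and for every L,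
every n ≥ 1 and every x ∈ Ext^n_B(φ L, φ M) there is an epimorphism L' ⟶ L of A such that x
precomposed with its image under φ vanishes. -/
theorem result
    {A : Type u} [Category.{v} A] [Abelian A] [HasExt.{w} A]
    {B : Type u'} [Category.{v'} B] [Abelian B] [HasExt.{w'} B]
    (φ : A ⥤ B) [φ.Additive] [PreservesFiniteLimits φ] [PreservesFiniteColimits φ] (M : A) :
    (∀ (L : A) (n : ℕ), Function.Bijective (fun f : Abelian.Ext.{w} L M n => Abelian.Ext.mapExactFunctor φ f)) ↔
      ((∀ L : A, Function.Bijective (fun f : L ⟶ M => φ.map f)) ∧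
        ∀ (L : A) (n : ℕ), 1 ≤ n → ∀ x : Abelian.Ext.{w'} (φ.obj L) (φ.obj M) n,
          ∃ (L' : A) (p : L' ⟶ L), Epi p ∧ (Abelian.Ext.mk₀ (φ.map p)).comp x (zero_add n) = 0) := by
  constructor
  · intro h
    refine ⟨fun L => ?_, fun L n hn x => ?_⟩
    · have h0 := h L 0
      constructor
      · intro f g hfg
        refine (Abelian.Ext.mk₀_bijective L M).1 (h0.1 ?_)
        simp only [Abelian.Ext.mapExactFunctor_mk₀]
        exact congrArg _ hfg
      · intro g
        obtain ⟨f, hf⟩ := h0.2 (Abelian.Ext.mk₀ g)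
        obtain ⟨f', rfl⟩ := (Abelian.Ext.mk₀_bijective L M).2 f
        exact ⟨f', (Abelian.Ext.mk₀_bijective _ _).1 (by simpa [Abelian.Ext.mapExactFunctor_mk₀] using hf)⟩
    · obtain ⟨y, rfl⟩ := (h L n).2 x
      obtain ⟨L', p, hp, hpy⟩ := Groth.L00.ExtEfface.exists_epi hn y
      refine ⟨L', p, hp, ?_⟩
      show (Abelian.Ext.mk₀ (φ.map p)).comp (Abelian.Ext.mapExactFunctor φ y) (zero_add n) = 0
      rw [← Abelian.Ext.mapExactFunctor_mk₀, ← Abelian.Ext.mapExactFunctor_comp, hpy, Abelian.Ext.mapExactFunctor_zero]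
  · rintro ⟨h0, he⟩ L n
    exact Groth.L00.ExtEfface.bijective_of_effaceable φ M h0 he n L

end Groth.Agent.S5616
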