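import Groth.Statements.S5620
import Groth.Agent.L13.PCoh.Devissage
import Groth.Agent.S5617

set_option autoImplicit false
universe w v u w' v' u'
open CategoryTheory CategoryTheory.Limits
open PCoh

namespace Groth.Agent.S5620

open CategoryTheory.Pretriangulated

/-- Let (C, C₀) and (C', C₀') be abelian categories with strictly full additive subcategories, each
quasi-stable under kernels of epimorphisms and quasi-liftable, and let u : D(C) ⥤ D(C') be a
triangulated functor. Suppose there are integers a, b such that (i) for every E in C₀ the object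
u(E[0]) is a-pseudo-coherent relative to C₀', and (ii) u sends objects acyclic in degrees > 0 to
objects acyclic in degrees > b. Then if F ∈ D(C) is m-pseudo-coherent and acyclic in degrees > n,
u(F) is max(m + b, n + a)-pseudo-coherent relative to C₀' and acyclic in degrees > n + b. (The
source lets u be defined on D^+, D^- or D^b; here u is defined on all of D(C).) -/
theorem result {C : Type u} [Category.{v} C] [Abelian C] [HasDerivedCategory.{w} C]
    (P : ObjectProperty C) [P.IsClosedUnderIsomorphisms] [P.ContainsZero] (hsum : ∀ X Y : C, P X → P Y → P (X ⨯ Y))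
    (hqs : PCoh.IsQuasiStableUnderKernels P) (hql : PCoh.IsQuasiLiftable P)
    {C' : Type u'} [Category.{v'} C'] [Abelian C'] [HasDerivedCategory.{w'} C']
    (P' : ObjectProperty C') [P'.IsClosedUnderIsomorphisms] [P'.ContainsZero] (hsum' : ∀ X Y : C', P' X → P' Y → P' (X ⨯ Y))
    (hqs' : PCoh.IsQuasiStableUnderKernels P') (hql' : PCoh.IsQuasiLiftable P')
    (u : DerivedCategory C ⥤ DerivedCategory C') [u.CommShift ℤ] [u.IsTriangulated] (a b : ℤ)
    (hi : ∀ E : C, P E → ∃ E' : CochainComplex C' ℤ, PCoh.IsStrictPC P' a E' ∧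
      Nonempty (DerivedCategory.Q.obj E' ≅ u.obj ((DerivedCategory.singleFunctor C 0).obj E)))
    (hii : ∀ F : DerivedCategory C, (∀ i : ℤ, 0 < i → IsZero ((DerivedCategory.homologyFunctor C i).obj F)) →
      ∀ i : ℤ, b < i → IsZero ((DerivedCategory.homologyFunctor C' i).obj (u.obj F)))
    (m n : ℤ) (F : DerivedCategory C) (hF : (∃ E : CochainComplex C ℤ, PCoh.IsStrictPC P m E ∧ Nonempty (DerivedCategory.Q.obj E ≅ F)))
    (hac : ∀ i : ℤ, n < i → IsZero ((DerivedCategory.homologyFunctor C i).obj F)) :
    (∃ E' : CochainComplex C' ℤ, PCoh.IsStrictPC P' (max (m + b) (n + a)) E' ∧ Nonempty (DerivedCategory.Q.obj E' ≅ u.obj F)) ∧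
      ∀ i : ℤ, n + b < i → IsZero ((DerivedCategory.homologyFunctor C' i).obj (u.obj F)) := by
  -- shifted form of the acyclicity hypothesis
  have hii' : ∀ (G : DerivedCategory C) (c : ℤ),
      (∀ i, c < i → IsZero ((DerivedCategory.homologyFunctor C i).obj G)) →
      ∀ i, c + b < i → IsZero ((DerivedCategory.homologyFunctor C' i).obj (u.obj G)) := by
    intro G c hG i hi
    have h0 : ∀ j, 0 < j → IsZero ((DerivedCategory.homologyFunctor C j).obj (G⟦c⟧)) := fun j hj =>
      (hG (c + j) (by omega)).of_iso (((DerivedCategory.homologyFunctor C 0).shiftIso c j (c + j) rfl).app G)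
    exact (hii _ h0 (i - c) (by omega)).of_iso
      ((Iso.symm (((DerivedCategory.homologyFunctor C' 0).shiftIso c (i - c) i (by omega)).app (u.obj G)) :
          (DerivedCategory.homologyFunctor C' i).obj (u.obj G) ≅
            (DerivedCategory.homologyFunctor C' (i - c)).obj ((u.obj G)⟦c⟧)) ≪≫
        (DerivedCategory.homologyFunctor C' (i - c)).mapIso ((u.commShiftIso c).app G).symm)
  refine ⟨?_, hii' F n hac⟩
  have hbase : ∀ (G : DerivedCategory C) (c : ℤ),
      (∀ i, c < i → IsZero ((DerivedCategory.homologyFunctor C i).obj G)) → c + b < max (m + b) (n + a) →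
      Groth.L13.PCoh.IsN P' (max (m + b) (n + a)) (u.obj G) := fun G c hG hc =>
    Groth.L13.PCoh.isN_of_isLE P' hsum' hql' fun i hi => hii' G c hG i (by omega)
  rcases le_or_gt m n with hmn | hmn
  swap
  · exact hbase F n hac (by omega)
  obtain ⟨E, ⟨-, hP⟩, hz, ⟨e⟩⟩ := Groth.Agent.S5617.result P hsum hqs hql m (n + 1) (by omega) F hF
    fun i hi => hac i (by omega)
  refine Groth.L13.PCoh.IsN.of_iso P' ?_ (u.mapIso e)
  suffices key : ∀ (k : ℕ) (t : ℤ) (E : CochainComplex C ℤ), t < m + k → t ≤ n →
      (∀ i, t < i → IsZero (E.X i)) → (∀ i, m ≤ i → i ≤ t → P (E.X i)) →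
      Groth.L13.PCoh.IsN P' (max (m + b) (n + a)) (u.obj (DerivedCategory.Q.obj E)) from
    key (n + 1 - m).toNat n E (by omega) le_rfl (fun i hi => hz i (by omega)) fun i hi _ => hP i hi
  intro k
  induction k with
  | zero =>
    intro t E ht _ hE _
    exact hbase _ t (fun i hi => (Groth.L13.PCoh.isZero_homologyFunctor_Q_iff E i).2
      (ShortComplex.isZero_homology_of_isZero_X₂ _ (hE i hi))) (by simp at ht; omega)
  | succ k ih =>
    intro t E ht htn hE hPE
    by_cases htk : t < m + k
    · exact ih t E htk htn hE hPE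
    obtain ⟨G, T, hT, hG, hGi, ⟨e₁⟩, ⟨e₂⟩, ⟨e₃⟩⟩ := Groth.L13.PCoh.exists_term_triangle E t hE
    have h1 : Groth.L13.PCoh.IsN P' (max (m + b) (n + a)) (u.obj ((DerivedCategory.singleFunctor C t).obj (E.X t))) := by
      refine ((Groth.L13.PCoh.IsN.shift P' (hi (E.X t) (hPE t (by omega) le_rfl)) (-t) (a + t) (by omega)).of_iso
        P' ?_).mono P' (by omega)
      exact ((u.commShiftIso (-t)).app _).symm ≪≫
        u.mapIso (((DerivedCategory.singleFunctors C).shiftIso (-t) t 0 (by omega)).app (E.X t))
    refine (Groth.L13.PCoh.isN_obj₂ P' hsum' hqs' hql' (u.map_distinguished T hT)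
      (h1.of_iso P' (u.mapIso e₁).symm) ((ih (t - 1) G (by omega) (by omega) hG ?_).of_iso P'
        (u.mapIso e₃).symm)).of_iso P' (u.mapIso e₂)
    intro i hmi hit
    obtain ⟨ei⟩ := hGi i (by omega)
    exact P.prop_of_iso ei (hPE i hmi (by omega))

end Groth.Agent.S5620
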