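import Groth.Statements.S5621
import Groth.Agent.L13.PCoh.Perfect

set_option autoImplicit false
universe w v u
open CategoryTheory CategoryTheory.Limits
open PCoh

namespace Groth.Agent.S5621

open CategoryTheory.Pretriangulated

/-- Let C be an abelian category and C₀ a strictly full additive subcategory, liftable and stable under
kernels of epimorphisms. Let a ≤ b and let F be a complex with F^i = 0 for i outside [a, b], of
perfect amplitude in [a, b] (isomorphic in D(C) to a strictly perfect complex vanishing outside [a,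
b]), and with F^i in C₀ for i > a. Then F^a lies in C₀. -/
theorem result {C : Type u} [Category.{v} C] [Abelian C] [HasDerivedCategory.{w} C]
    (P : ObjectProperty C) [P.IsClosedUnderIsomorphisms] [P.ContainsZero] (hsum : ∀ X Y : C, P X → P Y → P (X ⨯ Y))
    (hlift : ∀ (E F : C) (u : E ⟶ F), Epi u → P F → IsSplitEpi u)
    (hst : ∀ (E F : C) (u : E ⟶ F), Epi u → P E → P F → P (kernel u))
    (a b : ℤ) (hab : a ≤ b) (F : CochainComplex C ℤ)
    (hvan : ∀ i : ℤ, i < a ∨ b < i → IsZero (F.X i)) (hP : ∀ i : ℤ, a < i → P (F.X i))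
    (hamp : (∃ E : CochainComplex C ℤ, (∀ i : ℤ, P (E.X i)) ∧ (∀ i : ℤ, i < a ∨ b < i → IsZero (E.X i)) ∧ Nonempty (DerivedCategory.Q.obj E ≅ DerivedCategory.Q.obj F))) :
    P (F.X a) := by
  obtain ⟨E, hPE, hzE, ⟨e⟩⟩ := hamp
  obtain ⟨s, hs⟩ := Groth.L13.PCoh.exists_Q_map_eq P hlift b (fun i hi => hzE i (Or.inr hi)) hPE e.hom
  haveI : IsIso (DerivedCategory.Q.map s) := hs ▸ inferInstance
  haveI : QuasiIso s := by rwa [← DerivedCategory.isIso_Q_map_iff_quasiIso]
  let K := CochainComplex.mappingCone s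
  have hac : ∀ i, K.ExactAt i := fun i => by
    refine (Groth.L13.PCoh.approx_iff_exactAt_cone s i).1 (Groth.L13.PCoh.Approx.of_isIso _ i) i le_rfl
  have hz : ∀ i, b < i → IsZero (K.X i) := fun i hi => by
    rw [CochainComplex.mappingCone.isZero_X_iff]
    exact ⟨hzE _ (Or.inr (by omega)), hvan _ (Or.inr hi)⟩
  have hK : ∀ i, a < i → P (K.X i) := fun i hi => Groth.L13.PCoh.prop_cone P hsum s i (hPE _) (hP i hi)
  have h1 : P (K.cycles (a + 1)) :=
    Groth.L13.PCoh.prop_cycles P hst K (a + 1) b hz (fun i hi => hK i (by omega)) fun i _ => hac i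
  -- the last term is a split extension
  have hex : (K.sc' (a - 1) a (a + 1)).Exact :=
    (K.exactAt_iff' (a - 1) a (a + 1) (by simp) (by simp)).1 (hac a)
  haveI : Mono (K.d (a - 1) a) := by
    have hex' := (K.exactAt_iff' (a - 2) (a - 1) a (by simp; omega) (by simp)).1 (hac (a - 1))
    refine hex'.mono_g (IsZero.eq_of_src ?_ _ _)
    change IsZero (K.X (a - 2))
    rw [CochainComplex.mappingCone.isZero_X_iff]
    exact ⟨hzE _ (Or.inl (by omega)), hvan _ (Or.inl (by omega))⟩
  haveI : Epi (K.toCycles a (a + 1)) := by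
    rw [epi_iff_surjective_up_to_refinements]
    intro A z
    have he := hac (a + 1)
    rw [HomologicalComplex.exactAt_iff' _ a (a + 1) (a + 2) (by simp) (by simp; omega),
      ShortComplex.exact_iff_exact_up_to_refinements] at he
    obtain ⟨A', p, hp, x, hx⟩ := he (z ≫ K.iCycles (a + 1))
      ((Category.assoc z _ _).trans ((congrArg (z ≫ ·) (K.iCycles_d (a + 1) (a + 2))).trans comp_zero))
    refine ⟨A', p, hp, x, ?_⟩
    rw [← cancel_mono (K.iCycles (a + 1)), Category.assoc, Category.assoc, K.toCycles_i]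
    exact hx
  let S : ShortComplex C := ShortComplex.mk (K.d (a - 1) a) (K.toCycles a (a + 1)) (by
    rw [← cancel_mono (K.iCycles (a + 1))]
    simp)
  have hS : S.ShortExact :=
    { exact := by
        rw [ShortComplex.exact_iff_exact_up_to_refinements] at hex ⊢
        intro A x hx
        refine hex x ?_
        change x ≫ K.d a (a + 1) = 0
        rw [← K.toCycles_i a (a + 1), reassoc_of% (show x ≫ K.toCycles a (a + 1) = 0 from hx), zero_comp]
      mono_f := inferInstanceAs (Mono (K.d (a - 1) a))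
      epi_g := inferInstanceAs (Epi (K.toCycles a (a + 1))) }
  haveI := hlift S.X₂ S.X₃ S.g hS.epi_g h1
  let σ := ShortComplex.Splitting.ofExactOfSection S hS.exact (section_ S.g) (IsSplitEpi.id S.g) hS.mono_f
  have hpred : P (K.X (a - 1)) := Groth.L13.PCoh.prop_cone P hsum s (a - 1) (hPE _)
    (Groth.L13.PCoh.prop_of_isZero P (hvan _ (Or.inl (by omega))))
  have hmid : P (E.X (a + 1) ⊞ F.X a) :=
    P.prop_of_iso ((σ.isoBinaryBiproduct).symm ≪≫ Groth.L13.PCoh.coneXIso s a)
      (Groth.L13.PCoh.prop_biprod P hsum hpred h1)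
  refine P.prop_of_iso ?_ (hst _ _ (biprod.fst : E.X (a + 1) ⊞ F.X a ⟶ _) inferInstance hmid (hPE _))
  exact kernelBiprodFstIso

end Groth.Agent.S5621
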