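import Groth.Statements.S5622
import Groth.Agent.L13.PCoh.Perfect
import Groth.Agent.S5605
import Groth.Agent.S5618
import Groth.Agent.S5621

set_option autoImplicit false
universe w v u
open CategoryTheory CategoryTheory.Limits
open PCoh

namespace Groth.Agent.S5622

open CategoryTheory.Pretriangulated

/-- Let C be an abelian category and C₀ a strictly full additive subcategory, liftable and stable under
kernels of epimorphisms, and a ≤ b. For F', F'' in D(C): (i) ⇒ (ii), where (i) says F' and F'' have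
perfect amplitude in [a, b] (each isomorphic to a strictly perfect complex vanishing outside [a, b])
and (ii) says F' ⊞ F'' does; and (ii) ⇒ (i) when C₀ is stable under direct factors. -/
theorem result {C : Type u} [Category.{v} C] [Abelian C] [HasDerivedCategory.{w} C]
    (P : ObjectProperty C) [P.IsClosedUnderIsomorphisms] [P.ContainsZero] (hsum : ∀ X Y : C, P X → P Y → P (X ⨯ Y))
    (hlift : ∀ (E F : C) (u : E ⟶ F), Epi u → P F → IsSplitEpi u)
    (hst : ∀ (E F : C) (u : E ⟶ F), Epi u → P E → P F → P (kernel u))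
    (a b : ℤ) (hab : a ≤ b) (F' F'' : DerivedCategory C) [HasBinaryBiproduct F' F''] :
    (((∃ E : CochainComplex C ℤ, (∀ i : ℤ, P (E.X i)) ∧ (∀ i : ℤ, i < a ∨ b < i → IsZero (E.X i)) ∧ Nonempty (DerivedCategory.Q.obj E ≅ F')) ∧ (∃ E : CochainComplex C ℤ, (∀ i : ℤ, P (E.X i)) ∧ (∀ i : ℤ, i < a ∨ b < i → IsZero (E.X i)) ∧ Nonempty (DerivedCategory.Q.obj E ≅ F''))) →
        (∃ E : CochainComplex C ℤ, (∀ i : ℤ, P (E.X i)) ∧ (∀ i : ℤ, i < a ∨ b < i → IsZero (E.X i)) ∧ Nonempty (DerivedCategory.Q.obj E ≅ (F' ⊞ F'')))) ∧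
      ((∀ (E' E'' : C) [HasBinaryBiproduct E' E''], P (E' ⊞ E'') → P E' ∧ P E'') →
        (∃ E : CochainComplex C ℤ, (∀ i : ℤ, P (E.X i)) ∧ (∀ i : ℤ, i < a ∨ b < i → IsZero (E.X i)) ∧ Nonempty (DerivedCategory.Q.obj E ≅ (F' ⊞ F''))) →
          (∃ E : CochainComplex C ℤ, (∀ i : ℤ, P (E.X i)) ∧ (∀ i : ℤ, i < a ∨ b < i → IsZero (E.X i)) ∧ Nonempty (DerivedCategory.Q.obj E ≅ F')) ∧ (∃ E : CochainComplex C ℤ, (∀ i : ℤ, P (E.X i)) ∧ (∀ i : ℤ, i < a ∨ b < i → IsZero (E.X i)) ∧ Nonempty (DerivedCategory.Q.obj E ≅ F''))) := by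
  haveI : ∀ i, PreservesBinaryBiproducts (HomologicalComplex.eval C (ComplexShape.up ℤ) i) := fun i =>
    preservesBinaryBiproducts_of_preservesBinaryProducts _
  haveI : PreservesBinaryBiproducts (DerivedCategory.Q : CochainComplex C ℤ ⥤ DerivedCategory C) :=
    preservesBinaryBiproducts_of_preservesBiproducts _
  refine ⟨fun ⟨⟨E', hP', hz', ⟨e'⟩⟩, ⟨E'', hP'', hz'', ⟨e''⟩⟩⟩ => ?_, fun hsm ⟨E, hPE, hzE, ⟨e⟩⟩ => ?_⟩
  · refine ⟨E' ⊞ E'', fun i => ?_, fun i hi => ?_, ⟨DerivedCategory.Q.mapBiprod E' E'' ≪≫ biprod.mapIso e' e''⟩⟩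
    · exact P.prop_of_iso ((HomologicalComplex.eval C (ComplexShape.up ℤ) i).mapBiprod E' E'').symm
        (Groth.L13.PCoh.prop_biprod P hsum (hP' i) (hP'' i))
    · exact ((biprod_isZero_iff _ _).2 ⟨hz' i hi, hz'' i hi⟩).of_iso
        ((HomologicalComplex.eval C (ComplexShape.up ℤ) i).mapBiprod E' E'')
  · let H := DerivedCategory.homologyFunctor C
    have hql := Groth.L13.PCoh.isQuasiLiftable P hlift
    have hqs := Groth.L13.PCoh.isQuasiStable P hst
    have hPC : PCoh.IsPC P F' ∧ PCoh.IsPC P F'' := by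
      constructor <;> intro k
      · exact ((Groth.Agent.S5605.result P hsum hqs hql k F' F'').1
          ⟨E, ⟨⟨b, fun i hi => hzE i (Or.inr hi)⟩, fun i _ => hPE i⟩, ⟨e⟩⟩).1
      · exact ((Groth.Agent.S5605.result P hsum hqs hql k F' F'').1
          ⟨E, ⟨⟨b, fun i hi => hzE i (Or.inr hi)⟩, fun i _ => hPE i⟩, ⟨e⟩⟩).2
    have hH : ∀ i, i < a ∨ b < i → IsZero ((H i).obj (F' ⊞ F'')) := fun i hi =>
      (((Groth.L13.PCoh.isZero_homologyFunctor_Q_iff E i).2
        (ShortComplex.isZero_homology_of_isZero_X₂ _ (hzE i hi)))).of_iso ((H i).mapIso e.symm)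
    have hH' : ∀ i, i < a ∨ b < i → IsZero ((H i).obj F') ∧ IsZero ((H i).obj F'') := fun i hi =>
      ⟨IsZero.of_mono_eq_zero ((H i).map (biprod.inl : F' ⟶ F' ⊞ F'')) ((hH i hi).eq_of_tgt _ _),
        IsZero.of_mono_eq_zero ((H i).map (biprod.inr : F'' ⟶ F' ⊞ F'')) ((hH i hi).eq_of_tgt _ _)⟩
    have key : ∀ (A : DerivedCategory C), PCoh.IsPC P A → (∀ i, i < a ∨ b < i → IsZero ((H i).obj A)) →
        ∃ G : CochainComplex C ℤ, (∀ i, i < a ∨ b < i → IsZero (G.X i)) ∧ (∀ i, a < i → P (G.X i)) ∧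
          Nonempty (DerivedCategory.Q.obj G ≅ A) := by
      intro A hA hAH
      obtain ⟨K, hPK, hzK, ⟨eK⟩⟩ :=
        Groth.Agent.S5618.result P hsum hqs hql (b + 1) A hA fun i hi => hAH i (Or.inr (by omega))
      haveI : K.IsGE a := (CochainComplex.isGE_iff K a).2 fun i hi => by
        rw [HomologicalComplex.exactAt_iff_isZero_homology]
        exact (Groth.L13.PCoh.isZero_homologyFunctor_Q_iff K i).1 ((hAH i (Or.inl hi)).of_iso ((H i).mapIso eK))
      refine ⟨K.truncGE a, fun i hi => ?_, fun i hi => P.prop_of_iso (K.truncGEXIso a i hi).symm (hPK i),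
        ⟨(asIso (DerivedCategory.Q.map (K.πTruncGE a))).symm ≪≫ eK⟩⟩
      rcases lt_or_ge i a with hia | hia
      · exact (K.truncGE a).isZero_of_isStrictlyGE a i hia
      · exact (hzK i (by omega)).of_iso (K.truncGEXIso a i (by omega))
    obtain ⟨G', hz', hP', ⟨e'⟩⟩ := key F' hPC.1 fun i hi => (hH' i hi).1
    obtain ⟨G'', hz'', hP'', ⟨e''⟩⟩ := key F'' hPC.2 fun i hi => (hH' i hi).2
    let φ := fun i => (HomologicalComplex.eval C (ComplexShape.up ℤ) i).mapBiprod G' G''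
    have hPa : P ((G' ⊞ G'').X a) := Groth.Agent.S5621.result P hsum hlift hst a b hab (G' ⊞ G'')
      (fun i hi => ((biprod_isZero_iff _ _).2 ⟨hz' i hi, hz'' i hi⟩).of_iso (φ i))
      (fun i hi => P.prop_of_iso (φ i).symm (Groth.L13.PCoh.prop_biprod P hsum (hP' i hi) (hP'' i hi)))
      ⟨E, hPE, hzE, ⟨e ≪≫ (biprod.mapIso e' e'').symm ≪≫ (DerivedCategory.Q.mapBiprod G' G'').symm⟩⟩
    obtain ⟨hG', hG''⟩ := hsm _ _ (P.prop_of_iso (φ a) hPa)
    refine ⟨⟨G', fun i => ?_, hz', ⟨e'⟩⟩, ⟨G'', fun i => ?_, hz'', ⟨e''⟩⟩⟩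
    · rcases lt_trichotomy i a with hi | rfl | hi
      · exact Groth.L13.PCoh.prop_of_isZero P (hz' i (Or.inl hi))
      · exact hG'
      · exact hP' i hi
    · rcases lt_trichotomy i a with hi | rfl | hi
      · exact Groth.L13.PCoh.prop_of_isZero P (hz'' i (Or.inl hi))
      · exact hG''
      · exact hP'' i hi

end Groth.Agent.S5622
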