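import Groth.Statements.S5625
import Groth.Agent.L16.QcqsPush
import Groth.Agent.L16.AffineBC.Pullback
import Mathlib.CategoryTheory.Adjunction.FullyFaithful
import Mathlib.CategoryTheory.Adjunction.Restrict
import Mathlib.CategoryTheory.Adjunction.Unique

set_option autoImplicit false
universe u
open CategoryTheory AlgebraicGeometry
open QCohCat

namespace Groth.Agent.S5625

/-- Let f : X ⟶ Y be a morphism of quasi-compact quasi-separated schemes and Q_X, Q_Y coherators (right
adjoints of the inclusions QCoh ⥤ Mod) on X and Y. Then Q_Y ∘ f_* and f_* ∘ Q_X agree: the two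
composite functors Mod(O_X) ⥤ Mod(O_Y) are naturally isomorphic (existence of a natural isomorphism;
the source's isomorphism is the canonical one between two right adjoints of the same functor). -/
theorem result {X Y : Scheme.{u}} [CompactSpace X] [QuasiSeparatedSpace X]
    [CompactSpace Y] [QuasiSeparatedSpace Y] (f : X ⟶ Y)
    (QX : X.Modules ⥤ QCohCat.QCoh X) (adjX : (QCohCat.isQCoh X).ι ⊣ QX)
    (QY : Y.Modules ⥤ QCohCat.QCoh Y) (adjY : (QCohCat.isQCoh Y).ι ⊣ QY) :
    Nonempty ((QX ⋙ (QCohCat.isQCoh X).ι ⋙ Scheme.Modules.pushforward f) ≅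
      (Scheme.Modules.pushforward f ⋙ QY ⋙ (QCohCat.isQCoh Y).ι)) := by
  haveI : QuasiCompact f := inferInstance
  haveI : QuasiSeparated f := inferInstance
  let fstar : QCohCat.QCoh Y ⥤ QCohCat.QCoh X := (QCohCat.isQCoh X).lift ((QCohCat.isQCoh Y).ι ⋙ Scheme.Modules.pullback f)
    (fun M => haveI : Coh.IsQCoh M.obj := M.property; Groth.L16.AffineBC.isQCoh_pullback _ M.obj)
  let fpush : QCohCat.QCoh X ⥤ QCohCat.QCoh Y := (QCohCat.isQCoh Y).lift ((QCohCat.isQCoh X).ι ⋙ Scheme.Modules.pushforward f)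
    (fun M => haveI : Coh.IsQCoh M.obj := M.property; Groth.L16.QcqsPush.isQCoh_push M.obj f)
  let adjq : fstar ⊣ fpush := (Scheme.Modules.pullbackPushforwardAdjunction f).restrictFullyFaithful
    (QCohCat.isQCoh Y).fullyFaithfulι (QCohCat.isQCoh X).fullyFaithfulι
    ((QCohCat.isQCoh X).liftCompιIso _ _).symm ((QCohCat.isQCoh Y).liftCompιIso _ _).symm
  let adjA := adjY.comp (Scheme.Modules.pullbackPushforwardAdjunction f)
  let adjB := adjq.comp adjX
  let e : Scheme.Modules.pushforward f ⋙ QY ≅ QX ⋙ fpush :=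
    adjA.rightAdjointUniq (adjB.ofNatIsoLeft ((QCohCat.isQCoh X).liftCompιIso _ _))
  exact ⟨(Functor.isoWhiskerLeft QX ((QCohCat.isQCoh Y).liftCompιIso _ _)).symm ≪≫ (Functor.associator _ _ _).symm ≪≫
    Functor.isoWhiskerRight e.symm _ ≪≫ Functor.associator _ _ _⟩

end Groth.Agent.S5625
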