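import Groth.Statements.S5629
import Groth.Agent.Lead.PerfFibre

set_option linter.style.haveILetI false
set_option linter.unusedVariables false
set_option backward.isDefEq.respectTransparency false
set_option backward.isDefEq.respectTransparency.types false
set_option backward.defeqAttrib.useBackward true


set_option autoImplicit false
universe u
open CategoryTheory CategoryTheory.Limits AlgebraicGeometry Opposite
attribute [local instance] HasDerivedCategory.standard
open KSix

namespace Groth.Agent.S5629

/-- Last assertion (criterion of perfection by fibres): let f : X ⟶ S be flat and locally of finite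
presentation and E ∈ D⁻(O_X). Then E is perfect if and only if E is perfect relative to f and, for
every s ∈ S, the derived pullback E_{X_s} = Li_s^* E to the fibre is perfect. Since f is flat and
locally of finite presentation, "perfect relative to f" is written as: pseudo-coherent and locally
of finite tor dimension relative to S (locally represented by bounded complexes of S-flat modules).
The derived pullbacks to the fibres are taken under their existence binders. -/
theorem result {X S : Scheme.{u}} (f : X ⟶ S) [Flat f] [LocallyOfFinitePresentation f]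
    [∀ s : S, DCoh.HasLpull (f.fiberι s)]
    (E : DCoh.D X) (b : ℤ) [E.IsLE b] :
    DCoh.IsPerfect E ↔
      ((∀ m : ℤ, DCoh.IsPseudoCoherentD m E) ∧ DCoh.LocHasFiniteRelTorDim f E ∧
        ∀ s : S, DCoh.IsPerfect ((DCoh.Lpull (f.fiberι s)).obj E)) := by

  obtain ⟨G, ⟨e⟩⟩ : ∃ G, Nonempty (DCoh.toD X G ≅ E) :=
    ⟨DerivedCategory.Q.objPreimage E, ⟨DerivedCategory.Q.objObjPreimageIso E⟩⟩
  constructor
  · intro h
    refine ⟨fun m => Groth.L29.DC.pc_of_perfect h m, ?_, fun s => Groth.L29.DC.isPerfect_Lpull _ h⟩
    refine (Groth.Lead.RelTorStalk.locRel_iff f E G e).2 fun x => ?_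
    obtain ⟨V, a, b, hx, -, hV⟩ := (Groth.L29.DC.locFiniteTorDim_iff _).1
      (Groth.L29.DC.locFiniteTorDim_of_perfect (Groth.L29.DC.isPerfect_of_iso e.symm h)) x
    refine ⟨V, a, b, hx, fun x' hx' => ?_⟩
    exact (Groth.Lead.SmoothStalk.amp_restrict_iff f V.ι ⟨x', hx'⟩ G a b).1
      (Groth.Lead.SmoothStalk.amp_stalk_base (V.ι ≫ f) _ a b _
        (Groth.Lead.SmoothPerf.stk_of_flatAmp _ (Groth.L29.DC.flatAmp_of_iso (Groth.L29.DC.resQIso V G) hV) _))
  · rintro ⟨hpc, hrel, hfib⟩
    refine Groth.L29.DC.isPerfect_of_iso e ?_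
    have hG : ∀ m, DCoh.IsPseudoCoherentD m (DCoh.toD X G) := fun m =>
      Groth.L29.DC.isPseudoCoherentD_of_iso e.symm (hpc m)
    refine Groth.Lead.PerfFibre.perfect_of_stk_amp G hG (fun x => ?_) fun x => ?_
    · obtain ⟨V, a, b', hx, hV⟩ := (Groth.Lead.RelTorStalk.locRel_iff f E G e).1 hrel x
      refine ⟨V, a, hx, fun i hi y hy => ?_⟩
      letI : Algebra (S.presheaf.stalk (f y)) (X.presheaf.stalk y) := (f.stalkMap y).hom.toAlgebra
      exact (Groth.Lead.SmoothAmp.isZero_homology_of_amp_res (A := S.presheaf.stalk (f y))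
        (Groth.Lead.SmoothStalk.stk y G) (hV _ hy) i (Or.inl hi)).of_iso (Groth.L29.DC.PerfDesc.stkQIso G i y)
    · have h := Groth.Lead.PerfFibre.amp_of_fibre f (f x) (f.asFiber x) G hG
        (Groth.L29.DC.isPerfect_of_iso ((DCoh.Lpull _).mapIso e.symm) (hfib (f x)))
      rwa [f.fiberι_asFiber] at h

end Groth.Agent.S5629
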