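import Groth.Statements.S5630
import Groth.Agent.L10.RelPC.RpushAmpLoc
import Groth.Agent.S6200
import Groth.Agent.L00.TorAmp

set_option autoImplicit false
set_option backward.defeqAttrib.useBackward true
set_option backward.isDefEq.respectTransparency false
universe u
open CategoryTheory CategoryTheory.Limits AlgebraicGeometry
attribute [local instance] HasDerivedCategory.standard
open KSix

namespace Groth.Agent.S5630

/-- Over the base S = Y and for f flat: let f : X ⟶ Y be flat, quasi-compact and quasi-separated with Y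
quasi-compact, and let N be an integer such that R^i f_* F = 0 for all i > N and all quasi-coherent
O_X-modules F. If E ∈ D^b(O_X) has quasi-coherent cohomology and flat amplitude in [a, b] relative
to Y (represented by a complex of Y-flat modules placed in [a, b]), then Rf_* E has tor amplitude in
[a, b + N] on Y. (The source allows any S-morphism f and tor amplitude relative to S; the relative
notion used here is the flat-representative one, adequate for flat f.) -/
theorem result {X Y : Scheme.{u}} (f : X ⟶ Y) [Flat f] [QuasiCompact f] [QuasiSeparated f]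
    [CompactSpace Y] [DCoh.HasRpush f] (N : ℕ)
    (hN : ∀ (F : X.Modules), QCohCat.isQCoh X F →
      ∀ i : ℤ, (N : ℤ) < i → IsZero (DCoh.HD ((DCoh.Rpush f).obj (DCoh.inD X F)) i))
    (E : DCoh.D X) (hqc : DCoh.IsQCohD E) (c d : ℤ) [E.IsGE c] [E.IsLE d]
    (a b : ℤ) (hE : DCoh.HasRelFlatAmplitudeIn f a b E) :
    DCoh.HasTorAmplitudeIn a (b + N) ((DCoh.Rpush f).obj E) := by
  let F := DerivedCategory.Q.objPreimage E
  let eF : DCoh.toD X F ≅ E := DerivedCategory.Q.objObjPreimageIso E
  obtain ⟨G, hGv, hGf, ⟨eG⟩⟩ := hE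
  have hF : DerSch.HasTorAmplitude (f ≫ 𝟙 Y) a b F := fun x => by
    rw [Category.comp_id]
    exact Groth.Lead.RelTorStalk.ampAt_of_relFlatAmp f F ⟨G, hGv, hGf, ⟨eG ≪≫ eF.symm⟩⟩ x
  have hq : DCoh.IsQCohD (DCoh.toD X F) := Groth.L29.DC.isQCohD_of_iso eF.symm hqc
  let R := DerivedCategory.Q.objPreimage ((DCoh.Rpush f).obj (DCoh.toD X F))
  let eR : DCoh.toD Y R ≅ (DCoh.Rpush f).obj (DCoh.toD X F) := DerivedCategory.Q.objObjPreimageIso _
  haveI : (DCoh.toD X F).IsLE b := Groth.Lead.RelTorStalk.isLE_of_ampAt (f ≫ 𝟙 Y) F fun x => ⟨a, hF x⟩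
  haveI hLE := Groth.L10.RelPC.RpushBound.isLE_Rpush f N
    (fun M hM => hN M hM) _ hq b inferInstance
  haveI : (DCoh.toD Y R).IsLE (b + N) := DerivedCategory.TStructure.t.isLE_of_iso eR.symm _
  have hR : DerSch.HasTorAmplitude (𝟙 Y) a (b + N) R := fun y =>
    Groth.L10.RelPC.RpushAmp.ampAt_Rpush f (𝟙 Y) F hq hF R eR y
      ⟨⊤, trivial, fun i hi => Functor.map_isZero _ (DerivedCategory.isZero_of_isLE _ (b + N) i hi)⟩
  obtain ⟨P, hPv, hPf, ⟨eP⟩⟩ := (Groth.Agent.S6200.result R (b + N) a (b + N)).2 hR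
  exact Groth.L00.TorAmp.torAmp_of_flatAmp hPv hPf (eP ≪≫ eR ≪≫ (DCoh.Rpush f).mapIso eF)

end Groth.Agent.S5630
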