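import Groth.Prelude.Def_Pic13
import Mathlib.FieldTheory.IsAlgClosed.Basic
import Mathlib.AlgebraicGeometry.Morphisms.Proper
import Mathlib.Topology.KrullDimension
import Mathlib.Data.Fin.VecNotation
import Mathlib.AlgebraicGeometry.Morphisms.ClosedImmersion
import Groth.Agent.L22.PDual.Pairing
import Groth.Agent.L02.Pic13Deg.Basic
import Groth.Agent.L19.InvOfTensor

set_option autoImplicit false
set_option linter.style.haveILetI false
namespace Pic13
end Pic13
universe u
open CategoryTheory CategoryTheory.Limits AlgebraicGeometry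
open Pic13

namespace Groth.Agent.S5632

/-- Let k be an algebraically closed field, X ⊆ P^n_k an integral closed subscheme of dimension r = s +
1 ≥ 1, with O_X(1) and O_X(-1) the restrictions of O(1) and O(-1). Let L be an invertible O_X-module
with inverse L' (L ⊗ L' ≅ O_X) whose degree (c₁(L)·c₁(O_X(1))^{r-1}) is ≤ 0 and with H^0(X, L) ≠ 0.
Then L ≅ O_X (so that its degree is 0 and h^0(L) = 1). Intersection numbers are those of FGA.intNum,
which takes the inverse modules L', O_X(-1) as arguments. -/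
theorem result (k : Type u) [Field k] [IsAlgClosed k] (n : ℕ) (X : Scheme.{u}) [X.Over (Spec (CommRingCat.of k))]
    (i : X ⟶ CohB1.ProjSpace n k) [IsClosedImmersion i] (hi : i ≫ CohB1.ProjSpace.toSpec n k = X ↘ Spec (CommRingCat.of k))
    [IsIntegral X] (s : ℕ) (hdim : topologicalKrullDim X = (s + 1 : ℕ))
    (L L' : X.Modules) (hL : PicF.IsInvertible L) (hLL' : Nonempty (CohB1.tensorMod L L' ≅ Coh.structureModule X))
    (hdeg : FGA.intNum k X (s + 1)
      (Matrix.vecCons L' (fun _ : Fin s => (Scheme.Modules.pullback i).obj (Twist.twistProjSpace n k (-1))))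
      (Coh.structureModule X) ≤ 0)
    (hsec : Nontrivial (Coh.HH X L 0)) :
    Nonempty (L ≅ Coh.structureModule X) := by
  haveI : IsProper (CohB1.ProjSpace.toSpec n k) := Groth.L22.PDual.proper n k
  haveI : IsProper (X ↘ Spec (CommRingCat.of k)) := by rw [← hi]; infer_instance
  haveI := Groth.L21.RR.isNoetherian_of_proper (X := X) k
  obtain ⟨φ, hφ⟩ := Groth.L21.RR.exists_hom_ne_zero (L := L)
  by_contra hno
  have hA := Groth.L11.NumOrth.isAmple_OX_one i
  have hAA : Nonempty (CohB1.tensorMod (Groth.L11.NumOrth.OX i 1) (Groth.L11.NumOrth.OX i (-1)) ≅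
      Coh.structureModule X) :=
    ⟨(Groth.L11.NumOrth.nonempty_OX_add i (show (1 : ℤ) + -1 = 0 by norm_num)).some ≪≫
      (Groth.L11.NumOrth.nonempty_OX_zero i).some⟩
  have hpos := Groth.L02.Pic13Deg.altT_pos_of_section k hdim hL hA hAA φ hφ
    fun h => hno ⟨(@asIso _ _ _ _ φ h).symm⟩
  have hL' : PicF.IsInvertible L' :=
    Groth.L19.InvOfTensor.isInvertible (Groth.L00.Tensor.tensorComm L' L ≪≫ hLL'.some)
  have heq := Groth.L22.Big.intNum_inv_eq k (n := s + 1) hdim.le
    (L := Fin.cons L (fun _ : Fin s => Groth.L11.NumOrth.OX i 1))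
    (L' := Matrix.vecCons L' (fun _ : Fin s => (Scheme.Modules.pullback i).obj (Twist.twistProjSpace n k (-1))))
    (Fin.cases hL fun _ => hA.1) (Fin.cases hL' fun _ => Groth.L11.NumOrth.isInvertible_OX i (-1))
    (Fin.cases ⟨Groth.L00.Tensor.tensorComm L' L ≪≫ hLL'.some⟩
      fun _ => ⟨Groth.L00.Tensor.tensorComm _ _ ≪≫ hAA.some⟩)
  rw [← heq] at hpos
  exact absurd (Int.cast_pos.1 hpos) (not_lt.2 hdeg)

end Groth.Agent.S5632
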