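import Groth.Statements.S5640
import Groth.Agent.L09.SecRep.Iso
import Groth.Agent.L20.ResAmple
import Groth.Agent.L29.DCoh.Flat
import Groth.Agent.L29.DCoh.RelTor
import Groth.Agent.L18.LocFreeFP

set_option autoImplicit false
universe u
open CategoryTheory CategoryTheory.Limits AlgebraicGeometry
open PicF

namespace Groth.Agent.S5640

/-- Let f : X ⟶ S be proper, flat and of finite presentation, and L, M invertible O_X-modules. For an
S-scheme T write L_T, M_T for the pullbacks to X_T = X ×_S T. Then the functor T ↦ Isom(L_T, M_T) is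
representable by an S-scheme affine and of finite presentation over S: there are such an S-scheme I
and an isomorphism u : L_I ≅ M_I such that every isomorphism L_T ≅ M_T is obtained from u by
pullback along a unique S-morphism T ⟶ I (pullbacks along X_T ⟶ X_I being compared through the
canonical isomorphisms (L_I)_T ≅ L_T, (M_I)_T ≅ M_T). -/
theorem result {X S : Scheme.{u}} (f : X ⟶ S) [IsProper f] [Flat f]
    [LocallyOfFinitePresentation f] (L M : X.Modules) (hL : PicF.IsInvertible L) (hM : PicF.IsInvertible M) :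
    ∃ (I : Over S) (u : FGA.ET f L I ≅ FGA.ET f M I), IsAffineHom I.hom ∧ LocallyOfFinitePresentation I.hom ∧
      ∀ (T : Over S) (v : FGA.ET f L T ≅ FGA.ET f M T), ∃! g : T ⟶ I,
        (FGA.ETiso f L g).symm ≪≫ (Scheme.Modules.pullback (PicF.XTmap f g)).mapIso u ≪≫ FGA.ETiso f M g = v := by
  have hl := Groth.L20.ResDescent.isFinLocFree_of_isInvertible hL
  have hm := Groth.L20.ResDescent.isFinLocFree_of_isInvertible hM
  haveI := Groth.L04.FinLocFreeHom.isQCoh_of_finLocFree hl
  haveI := Groth.L04.FinLocFreeHom.isQCoh_of_finLocFree hm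
  exact Groth.L09.SecRep.exists_rep_iso f L M hl hm (Groth.L18.LFP.isFP_of_isFinLocFree L hl)
    (Groth.L18.LFP.isFP_of_isFinLocFree M hm)
    (Groth.L29.DC.RelTor.isFlatOver_of_isFlat f (Groth.L29.DC.isFlat_of_isFinLocFree hl))
    (Groth.L29.DC.RelTor.isFlatOver_of_isFlat f (Groth.L29.DC.isFlat_of_isFinLocFree hm))

end Groth.Agent.S5640
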