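import Groth.Statements.S5641
import Groth.Agent.S1356
import Groth.Agent.S1357
import Groth.Agent.S1358
import Groth.Agent.S0419
import Groth.Agent.S0434
import Groth.Agent.L23.SourceReduced
import Groth.Agent.L23.LocalDimEtale

set_option autoImplicit false
universe u
open CategoryTheory CategoryTheory.Limits AlgebraicGeometry
open FlatMor

set_option backward.isDefEq.respectTransparency.types false
set_option linter.style.haveILetI false
set_option backward.isDefEq.respectTransparency false
set_option backward.isDefEq.respectTransparency.types false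
namespace Groth.Agent.S5641
open Groth.Agent.S1356 (fiber_baseChange)

theorem restrict_apply {A B : Scheme.{u}} (f : A ⟶ B) (U : B.Opens) (a : ↥((f ⁻¹ᵁ U : A.Opens) : Scheme.{u})) :
    ((f ∣_ U) a).1 = f a.1 := by
  show U.ι ((f ∣_ U) a) = f ((f ⁻¹ᵁ U).ι a)
  rw [← Scheme.Hom.comp_apply, morphismRestrict_ι]; rfl

theorem eq_generic {B : Scheme.{u}} [IrreducibleSpace ↥B] {a : B} (h : a ⤳ genericPoint ↥B) : a = genericPoint ↥B :=
  (h.antisymm (genericPoint_specializes _)).eq

theorem range_iso_comp {A B C : Scheme.{u}} (e : A ⟶ B) [IsIso e] (f : B ⟶ C) : Set.range (e ≫ f) = Set.range f := by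
  rw [Scheme.Hom.comp_base, TopCat.coe_comp, Set.range_comp, e.surjective.range_eq, Set.image_univ]

theorem isReduced_of_geometricallyReduced {Z : Scheme.{u}} {k : Type u} [Field k] (p : Z ⟶ Spec (CommRingCat.of k))
    [GeometricallyReduced p] : IsReduced Z :=
  GeometricallyReduced.geometrically_isReduced (f := p) (𝟙 _) (𝟙 Z) p IsPullback.of_id_fst

theorem map_genericPoint {A B : Scheme.{u}} [IrreducibleSpace ↥A] [IrreducibleSpace ↥B] (f : A ⟶ B)
    (h : genericPoint ↥B ∈ Set.range f) : f (genericPoint ↥A) = genericPoint ↥B := by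
  obtain ⟨a, ha⟩ := h
  exact eq_generic (ha ▸ (genericPoint_specializes a).map f.continuous)

theorem genericPoint_notMem_closure_image {A B : Scheme.{u}} [IrreducibleSpace ↥B] [TopologicalSpace.NoetherianSpace ↥A]
    (f : A ⟶ B) {C : Set A} (hC : IsClosed C) (h : ∀ c ∈ C, f c ≠ genericPoint ↥B) :
    genericPoint ↥B ∉ closure (f '' C) := by
  obtain ⟨S, hSf, hSc, hSi, rfl⟩ := TopologicalSpace.NoetherianSpace.exists_finite_set_isClosed_irreducible hC
  rw [Set.image_sUnion, Set.sUnion_eq_biUnion, (hSf.image _).closure_biUnion]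
  intro hη
  obtain ⟨_, ⟨s, hs, rfl⟩, hηs⟩ := Set.mem_iUnion₂.mp hη
  obtain ⟨c, hc⟩ := QuasiSober.sober (hSi s hs) (hSc s hs)
  have h1 : f '' s ⊆ closure {f c} := by
    rintro _ ⟨d, hd, rfl⟩
    exact ((hc.specializes hd).map f.continuous).mem_closure
  exact h c ⟨s, hs, hc.mem⟩ (eq_generic
    (specializes_iff_mem_closure.mpr (closure_minimal h1 isClosed_closure hηs)))

/-- Components of a geometrically reduced variety are geometrically reduced. -/
theorem geometricallyReduced_component {F : Scheme.{u}} {k : Type u} [Field k] (p : F ⟶ Spec (CommRingCat.of k))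
    [LocallyOfFiniteType p] [IsNoetherian F] [GeometricallyReduced p]
    {Z : Scheme.{u}} (j : Z ⟶ F) [IsClosedImmersion j] [IsReduced Z]
    (hj : Set.range j ∈ irreducibleComponents (F : Type u)) : GeometricallyReduced (j ≫ p) := by
  haveI := isReduced_of_geometricallyReduced p
  letI : F.Over (Spec (CommRingCat.of k)) := ⟨p⟩
  letI : Z.Over (Spec (CommRingCat.of k)) := ⟨j ≫ p⟩
  haveI : LocallyOfFiniteType (F ↘ Spec (CommRingCat.of k)) := ‹LocallyOfFiniteType p›
  haveI : LocallyOfFiniteType (Z ↘ Spec (CommRingCat.of k)) := inferInstanceAs (LocallyOfFiniteType (j ≫ p))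
  haveI : IrreducibleSpace ↥Z := by
    haveI : IrreducibleSpace ↥(Set.range j) := Subtype.irreducibleSpace hj.1
    exact j.isClosedEmbedding.isEmbedding.toHomeomorph.irreducibleSpace_iff.mpr inferInstance
  obtain ⟨U, hU, hUs⟩ := (Groth.Agent.S1549.result k F).mp ‹GeometricallyReduced p›
  let others := ⋃ C ∈ irreducibleComponents (F : Type u) \ {Set.range j}, C
  have hoc : IsClosed others := (TopologicalSpace.NoetherianSpace.finite_irreducibleComponents.subset Set.diff_subset).isClosed_biUnion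
    fun C hC => isClosed_of_mem_irreducibleComponents C hC.1
  have hne : (othersᶜ).Nonempty := by
    refine ⟨hj.1.genericPoint, fun hm => ?_⟩
    obtain ⟨C, ⟨hC, hCne⟩, hgC⟩ := Set.mem_iUnion₂.mp hm
    have hsub : Set.range j ⊆ C := by
      rw [← (hj.1.isGenericPoint_genericPoint (isClosed_of_mem_irreducibleComponents _ hj)).def]
      exact closure_minimal (Set.singleton_subset_iff.2 hgC) (isClosed_of_mem_irreducibleComponents C hC)
    exact hCne (le_antisymm (hj.2 hC.1 hsub) hsub)
  let O : F.Opens := U ⊓ ⟨othersᶜ, hoc.isOpen_compl⟩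
  obtain ⟨y, hy1, hy2⟩ := hU.inter_open_nonempty _ hoc.isOpen_compl hne
  have hOj : (O : Set F) ⊆ Set.range j := fun w hw => by
    by_contra hw'
    exact hw.2 (Set.mem_iUnion₂.mpr ⟨irreducibleComponent w, ⟨irreducibleComponent_mem_irreducibleComponents w,
      fun e => hw' (e ▸ mem_irreducibleComponent)⟩, mem_irreducibleComponent⟩)
  obtain ⟨z, hz⟩ := hOj (show y ∈ O from ⟨hy2, hy1⟩)
  refine (Groth.Agent.S1549.result k Z).mpr ⟨j ⁻¹ᵁ O, ?_, ?_⟩
  · exact IsOpen.dense (j ⁻¹ᵁ O).2 ⟨z, show j z ∈ O by rw [hz]; exact ⟨hy2, hy1⟩⟩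
  haveI : IsClosedImmersion (j ∣_ O) := MorphismProperty.of_isPullback (isPullback_morphismRestrict j O).flip ‹_›
  haveI : IsReduced (O : Scheme.{u}) := isReduced_of_isOpenImmersion O.ι
  haveI : Surjective (j ∣_ O) := ⟨fun w => by
    obtain ⟨v, hv⟩ := hOj w.2
    exact ⟨⟨v, show j v ∈ O by rw [hv]; exact w.2⟩, Subtype.ext ((restrict_apply _ _ _).trans hv)⟩⟩
  haveI := isIso_of_isClosedImmersion_of_surjective (j ∣_ O)
  have hOs : Smooth (O.ι ≫ p) := by
    rw [← Scheme.homOfLE_ι F (inf_le_left : O ≤ U), Category.assoc]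
    exact IsZariskiLocalAtSource.comp hUs _
  show Smooth ((j ⁻¹ᵁ O).ι ≫ j ≫ p)
  rw [← morphismRestrict_ι_assoc, MorphismProperty.cancel_left_of_respectsIso (P := @Smooth)]
  exact hOs

end Groth.Agent.S5641
namespace Groth.Agent.S5641

open Groth.Agent.S1356 (fiber_baseChange)
/-- Let S be an integral Noetherian scheme and f : X ⟶ S a morphism of finite type. Then there are a
nonempty open subscheme V of S, an integral scheme S' and a finite flat surjective morphism h : S' ⟶
V such that every irreducible component of X' = X ×_S S', given its reduced closed-subscheme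
structure, is flat over S' with geometrically integral fibres. (Fibres over all points of S' are
nonempty here, which the published statement does not require; it is obtained by shrinking V once
more.) -/
theorem result {X S : Scheme.{u}} [IsNoetherian S] [IsIntegral S]
    (f : X ⟶ S) [LocallyOfFiniteType f] [QuasiCompact f] :
    ∃ (V : S.Opens) (S' : Scheme.{u}) (h : S' ⟶ (V : Scheme.{u})), (V : Set S).Nonempty ∧ IsIntegral S' ∧
      IsFinite h ∧ Flat h ∧ Surjective h ∧
      ∀ (Z : Scheme.{u}) (i : Z ⟶ pullback f (h ≫ V.ι)) [IsClosedImmersion i] [IsReduced Z],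
        Set.range i.base ∈ irreducibleComponents ↥(pullback f (h ≫ V.ι)) →
          Flat (i ≫ pullback.snd f (h ≫ V.ι)) ∧ GeometricallyIntegral (i ≫ pullback.snd f (h ≫ V.ι)) := by
  classical
  obtain ⟨V₁, Y', g, X₁, r, hY', hV₁, -, hgfin, hguh, hr1, hr2, -, -, -, -, -, hgr⟩ := Groth.Agent.S1358.result f
  let gι := g ≫ V₁.ι
  let p₁ := pullback.snd f gι
  haveI : LocallyOfFiniteType p₁ := MorphismProperty.pullback_snd _ _ inferInstance
  haveI : QuasiCompact p₁ := MorphismProperty.pullback_snd _ _ inferInstance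
  obtain ⟨V', Y'', g', hY'', hV', -, hg's, hg'f, hg'e, hcomp⟩ := Groth.Agent.S1357.result p₁
  haveI : IsLocallyNoetherian Y' := LocallyOfFiniteType.isLocallyNoetherian gι
  haveI : CompactSpace ↥(V₁ : Scheme.{u}) := isCompact_iff_compactSpace.mp (TopologicalSpace.NoetherianSpace.isCompact _)
  haveI : CompactSpace ↥Y' := QuasiCompact.compactSpace_of_compactSpace g
  haveI : IsNoetherian Y' := ⟨⟩
  haveI : CompactSpace ↥(V' : Scheme.{u}) := isCompact_iff_compactSpace.mp (TopologicalSpace.NoetherianSpace.isCompact _)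
  haveI : CompactSpace ↥Y'' := QuasiCompact.compactSpace_of_compactSpace g'
  haveI : IsReduced (V' : Scheme.{u}) := isReduced_of_isOpenImmersion V'.ι
  haveI : IsReduced Y'' := Groth.L23.isReduced_of_etale g'
  haveI : IsIntegral Y'' := isIntegral_of_irreducibleSpace_of_isReduced Y''
  let e' := g' ≫ V'.ι
  let h₁ := e' ≫ gι
  haveI : LocallyOfFiniteType h₁ := inferInstance
  haveI : IsLocallyNoetherian Y'' := LocallyOfFiniteType.isLocallyNoetherian h₁
  haveI : IsNoetherian Y'' := ⟨⟩
  haveI : QuasiCompact h₁ := (quasiCompact_iff_compactSpace _).mpr inferInstance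
  let η'' := genericPoint ↥Y''
  have hη' : e' η'' = genericPoint ↥Y' := map_genericPoint e' (by
    obtain ⟨a, ha⟩ := g'.surjective ⟨_, Groth.L20.GenQS.genericPoint_mem V' hV'⟩
    exact ⟨a, congrArg V'.ι ha⟩)
  have hguhs : IsHomeomorph g := Groth.L20.isHomeomorph_of_isUnivHomeo hguh
  have hη₁ : gι (genericPoint ↥Y') = genericPoint ↥S := map_genericPoint gι (by
    obtain ⟨a, ha⟩ := hguhs.bijective.2 ⟨_, Groth.L20.GenQS.genericPoint_mem V₁ hV₁⟩
    exact ⟨a, congrArg V₁.ι ha⟩)
  have hh₁η : h₁ η'' = genericPoint ↥S := (congrArg gι hη').trans hη₁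
  -- only the generic point lies over the generic point
  have honly : ∀ b, h₁ b = genericPoint ↥S → b = η'' := by
    intro b hb
    haveI : LocallyQuasiFinite h₁ := inferInstance
    exact (Groth.L23.eq_of_specializes_of_lqf h₁ (genericPoint_specializes b) (hh₁η.trans hb.symm)).symm
  let p'' := pullback.snd p₁ e'
  let X'' := pullback p₁ e'
  haveI : LocallyOfFiniteType p'' := MorphismProperty.pullback_snd _ _ inferInstance
  haveI : QuasiCompact p'' := MorphismProperty.pullback_snd _ _ inferInstance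
  haveI : IsLocallyNoetherian X'' := LocallyOfFiniteType.isLocallyNoetherian p''
  haveI : CompactSpace ↥X'' := QuasiCompact.compactSpace_of_compactSpace p''
  haveI : IsNoetherian X'' := ⟨⟩
  -- the generic fibre
  let F'' := p''.fiber η''
  let fib := p''.fiberToSpecResidueField η''
  haveI : LocallyOfFiniteType fib := MorphismProperty.pullback_snd _ _ inferInstance
  haveI : QuasiCompact fib := MorphismProperty.pullback_snd _ _ inferInstance
  haveI : IsLocallyNoetherian F'' := LocallyOfFiniteType.isLocallyNoetherian fib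
  haveI : CompactSpace ↥F'' := QuasiCompact.compactSpace_of_compactSpace fib
  haveI : IsNoetherian F'' := ⟨⟩
  haveI := hr1
  haveI := hr2
  let r'' : pullback (r ≫ p₁) e' ⟶ X'' := (pullbackRightPullbackFstIso p₁ e' r).inv ≫ pullback.snd r _
  haveI : IsClosedImmersion r'' := by
    haveI : IsClosedImmersion (pullback.snd r (pullback.fst p₁ e')) := MorphismProperty.pullback_snd _ _ hr1
    show IsClosedImmersion (_ ≫ _); infer_instance
  haveI : Surjective r'' := by
    haveI : Surjective (pullback.snd r (pullback.fst p₁ e')) := MorphismProperty.pullback_snd _ _ hr2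
    show Surjective (_ ≫ _); infer_instance
  have hpred : r'' ≫ p'' = pullback.snd (r ≫ p₁) e' := by simp [r'', p'']
  let fr := Y''.fromSpecResidueField η''
  let pred := r'' ≫ p''
  have hgred : GeometricallyReduced (pred.fiberToSpecResidueField η'') :=
    fiber_baseChange (P := @GeometricallyReduced) (by
      show IsPullback (pullback.fst (r ≫ p₁) e') (r'' ≫ p'') (r ≫ p₁) e'
      rw [hpred]; exact IsPullback.of_hasPullback _ _) η'' hη' hgr
  haveI : IsReduced (pred.fiber η'') := isReduced_of_geometricallyReduced (k := Y''.residueField η'') (pred.fiberToSpecResidueField η'')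
  let c : pred.fiber η'' ⟶ F'' := (pullbackRightPullbackFstIso p'' fr r'').inv ≫ pullback.snd r'' _
  haveI : IsClosedImmersion c := by
    haveI : IsClosedImmersion (pullback.snd r'' (pullback.fst p'' fr)) := MorphismProperty.pullback_snd _ _ inferInstance
    show IsClosedImmersion (_ ≫ _); infer_instance
  haveI : Surjective c := by
    haveI : Surjective (pullback.snd r'' (pullback.fst p'' fr)) := MorphismProperty.pullback_snd _ _ ‹_›
    show Surjective (_ ≫ _); infer_instance
  have hc : c ≫ fib = pred.fiberToSpecResidueField η'' := by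
    refine (Category.assoc _ _ _).trans ?_
    exact pullbackRightPullbackFstIso_inv_snd_snd _ _ _
  haveI : LocallyOfFiniteType (pred.fiberToSpecResidueField η'') := by rw [← hc]; infer_instance
  haveI : IsLocallyNoetherian (pred.fiber η'') := LocallyOfFiniteType.isLocallyNoetherian (pred.fiberToSpecResidueField η'')
  haveI : CompactSpace ↥(pred.fiber η'') := c.isClosedEmbedding.compactSpace
  haveI : IsNoetherian (pred.fiber η'') := ⟨⟩
  have hcb : Function.Bijective c := ⟨c.isClosedEmbedding.injective, c.surjective⟩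
  -- components of the generic fibre are geometrically integral
  have hD : ∀ (D : Scheme.{u}) (j : D ⟶ F'') [IsClosedImmersion j] [IsReduced D],
      Set.range j ∈ irreducibleComponents (F'' : Type u) → GeometricallyIntegral (j ≫ fib) := by
    intro D j _ _ hj
    haveI : GeometricallyIrreducible (j ≫ fib) := by
      let J := Scheme.IdealSheafData.vanishingIdeal (X := F'') ⟨Set.range j, isClosed_of_mem_irreducibleComponents _ hj⟩
      haveI : IsReduced J.subscheme := Groth.L18.isReduced_vanishingIdeal_subscheme _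
      obtain ⟨d, hd⟩ := Groth.L20.SmoothStrat.exists_iso_of_range_eq j J.subschemeι (by
        rw [Scheme.IdealSheafData.range_subschemeι, Scheme.IdealSheafData.coe_support_vanishingIdeal]; rfl)
      rw [← hd, Category.assoc, MorphismProperty.cancel_left_of_respectsIso (P := @GeometricallyIrreducible)]
      exact hcomp _ hj
    haveI : GeometricallyReduced (j ≫ fib) := by
      haveI : Surjective (pullback.fst j c) := MorphismProperty.pullback_fst _ _ inferInstance
      haveI : IsClosedImmersion (pullback.fst j c) := MorphismProperty.pullback_fst _ _ inferInstance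
      haveI := isIso_of_isClosedImmersion_of_surjective (pullback.fst j c)
      let j' : D ⟶ pred.fiber η'' := inv (pullback.fst j c) ≫ pullback.snd j c
      haveI : IsClosedImmersion (pullback.snd j c) := MorphismProperty.pullback_snd _ _ inferInstance
      haveI : IsClosedImmersion j' := inferInstance
      have hj' : j' ≫ c = j := by simp [j', ← pullback.condition]
      have hr : Set.range j' = c ⁻¹' Set.range j := by
        rw [← Set.image_eq_image hcb.1, Set.image_preimage_eq _ hcb.2, ← Set.range_comp]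
        exact congrArg Set.range (by rw [← hj']; rfl)
      have hjc : Set.range j' ∈ irreducibleComponents (pred.fiber η'' : Type u) := by
        rw [hr]
        refine preimage_mem_irreducibleComponents hj ?_ (by rw [hcb.2.range_eq, Set.inter_univ]; exact hj.1.nonempty)
        exact (Equiv.ofBijective c hcb |> fun _ =>
          (c.isClosedEmbedding.isEmbedding.toHomeomorphOfSurjective hcb.2).isOpenEmbedding)
      haveI := hgred
      have := geometricallyReduced_component (k := Y''.residueField η'') (pred.fiberToSpecResidueField η'') j' hjc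
      rwa [← hc, reassoc_of% hj'] at this
    exact GeometricallyIntegral.of_geometricallyReduced_of_geometricallyIrreducible _
  -- a good open for each component
  have hgood : ∀ C : irreducibleComponents (X'' : Type u), ∃ O : Y''.Opens, η'' ∈ O ∧
      ((∀ x ∈ C.1, p'' x ∉ O) ∨
        ∀ (Z : Scheme.{u}) (i : Z ⟶ X'') [IsClosedImmersion i] [IsReduced Z], Set.range i = C.1 →
          Flat ((i ≫ p'') ∣_ O) ∧ GeometricallyIntegral ((i ≫ p'') ∣_ O)) := by
    rintro ⟨C, hC⟩
    have hCc := isClosed_of_mem_irreducibleComponents C hC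
    let ζ := hC.1.genericPoint
    have hζ : IsGenericPoint ζ C := hC.1.isGenericPoint_genericPoint hCc
    by_cases hmeet : η'' ∈ p'' '' C
    swap
    · refine ⟨⟨(closure {p'' ζ})ᶜ, isClosed_closure.isOpen_compl⟩, fun hm => hmeet ⟨ζ, hζ.mem, ?_⟩, Or.inl fun x hx h => ?_⟩
      · exact eq_generic (specializes_iff_mem_closure.mpr hm)
      · exact h ((hζ.specializes hx).map p''.continuous).mem_closure
    obtain ⟨x₀, hx₀, hx₀η⟩ := hmeet
    have hpζ : p'' ζ = η'' := eq_generic (by
      have h := (hζ.specializes hx₀).map p''.continuous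
      rw [hx₀η] at h; exact h)
    obtain ⟨ζ', hζ'⟩ : ζ ∈ Set.range (p''.fiberι η'') := by rw [p''.range_fiberι]; exact hpζ
    have hDcomp : p''.fiberι η'' ⁻¹' C ∈ irreducibleComponents (F'' : Type u) := by
      have h1 : p''.fiberι η'' ⁻¹' C = closure {ζ'} := by
        rw [(p''.fiberι η'').isEmbedding.isInducing.closure_eq_preimage_closure_image, Set.image_singleton, hζ', hζ.def]
      refine ⟨h1 ▸ isIrreducible_singleton.closure, fun D' hD' hsub => ?_⟩
      have h2 := (hD'.image _ (p''.fiberι η'').continuous.continuousOn).closure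
      have h3 : C ⊆ closure (p''.fiberι η'' '' D') := by
        rw [← hζ.def]
        refine closure_mono (Set.singleton_subset_iff.2 ⟨ζ', hsub ?_, hζ'⟩)
        show p''.fiberι η'' ζ' ∈ C
        rw [hζ']; exact hζ.mem
      exact fun d hd => hC.2 h2 h3 (subset_closure ⟨d, hd, rfl⟩)
    let J := Scheme.IdealSheafData.vanishingIdeal (X := X'') ⟨C, hCc⟩
    haveI : IsReduced J.subscheme := Groth.L18.isReduced_vanishingIdeal_subscheme _
    have hJ : Set.range J.subschemeι = C := by
      rw [Scheme.IdealSheafData.range_subschemeι, Scheme.IdealSheafData.coe_support_vanishingIdeal]; rfl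
    let q := J.subschemeι ≫ p''
    haveI : LocallyOfFiniteType q := inferInstance
    haveI : QuasiCompact q := inferInstance
    haveI : IsReduced (q.fiber η'') := Groth.Agent.S1358.isReduced_fiber_generic q
    have hqint : GeometricallyIntegral (q.fiberToSpecResidueField η'') := by
      let d : q.fiber η'' ⟶ F'' := (pullbackRightPullbackFstIso p'' fr J.subschemeι).inv ≫ pullback.snd J.subschemeι _
      haveI : IsClosedImmersion d := by
        haveI : IsClosedImmersion (pullback.snd J.subschemeι (pullback.fst p'' fr)) := MorphismProperty.pullback_snd _ _ inferInstance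
        show IsClosedImmersion (_ ≫ _); infer_instance
      have hd : d ≫ fib = q.fiberToSpecResidueField η'' := by
        refine (Category.assoc _ _ _).trans ?_
        exact pullbackRightPullbackFstIso_inv_snd_snd _ _ _
      have hrd : Set.range d = p''.fiberι η'' ⁻¹' C := by
        refine (range_iso_comp _ _).trans ?_
        rw [Scheme.Pullback.range_snd, hJ]
        rfl
      have h := hD _ d (hrd ▸ hDcomp)
      rwa [hd] at h
    haveI := hqint
    obtain ⟨U₁, hU₁, hUf, -⟩ := Groth.Agent.S0414.result q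
    obtain ⟨U₂, hU₂, hUr⟩ := Groth.Agent.S0434.result q (inferInstance : GeometricallyReduced (q.fiberToSpecResidueField η''))
    obtain ⟨U₃, hU₃, hUi⟩ := Groth.Agent.S0419.result q (inferInstance : GeometricallyIrreducible (q.fiberToSpecResidueField η''))
    refine ⟨U₁ ⊓ U₂ ⊓ U₃, ⟨⟨Groth.L20.GenQS.genericPoint_mem U₁ hU₁.nonempty, Groth.L20.GenQS.genericPoint_mem U₂ hU₂⟩,
      Groth.L20.GenQS.genericPoint_mem U₃ hU₃⟩, Or.inr fun Z i _ _ hi => ?_⟩
    obtain ⟨d, hd⟩ := Groth.L20.SmoothStrat.exists_iso_of_range_eq i J.subschemeι (hi.trans hJ.symm)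
    have mono : ∀ {P : MorphismProperty Scheme.{u}} [P.IsStableUnderBaseChange] {U U' : Y''.Opens},
        U' ≤ U → P (q ∣_ U) → P ((i ≫ p'') ∣_ U') := fun {P} _ {U U'} hle h => by
      have h1 := (Groth.L19.Limit.pb_iff_of_isPullback (isPullback_morphismRestrict q U).flip).mp h
      have h2 := Groth.L19.Limit.pb_comp (Scheme.homOfLE Y'' hle) h1
      rw [Scheme.homOfLE_ι] at h2
      have h3 : P (q ∣_ U') := (Groth.L19.Limit.pb_iff_of_isPullback (isPullback_morphismRestrict q U').flip).mpr h2
      have h4 : (i ≫ p'') = d.hom ≫ q := by rw [← hd, Category.assoc]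
      rw [h4, morphismRestrict_comp, P.cancel_left_of_respectsIso]
      exact h3
    refine ⟨mono (inf_le_left.trans inf_le_left) hUf, ?_⟩
    haveI := mono (P := @GeometricallyReduced) (U' := U₁ ⊓ U₂ ⊓ U₃) (inf_le_left.trans inf_le_right) hUr
    haveI := mono (P := @GeometricallyIrreducible) (inf_le_right : U₁ ⊓ U₂ ⊓ U₃ ≤ U₃) hUi
    exact GeometricallyIntegral.of_geometricallyReduced_of_geometricallyIrreducible _
  choose O hOη hO using hgood
  haveI : Fintype (irreducibleComponents (X'' : Type u)) :=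
    TopologicalSpace.NoetherianSpace.finite_irreducibleComponents.fintype
  let U'' : Y''.Opens := ⟨⋂ C, (O C : Set Y''), isOpen_iInter_of_finite fun C => (O C).2⟩
  obtain ⟨Uf, hUfd, hUf, -⟩ := Groth.Agent.S0414.result h₁
  let gV' : Set S := V₁.ι '' (g '' (V' : Set Y'))
  have hgV' : IsOpen gV' := V₁.ι.isOpenEmbedding.isOpenMap _ (hguhs.isOpenMap _ V'.2)
  let bad := closure (h₁ '' (U'' : Set Y'')ᶜ)
  have hbad : genericPoint ↥S ∉ bad := genericPoint_notMem_closure_image h₁ U''.2.isClosed_compl fun b hb h => by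
    refine hb ?_
    rw [honly b h]
    exact Set.mem_iInter.mpr hOη
  let Vs : S.Opens := ⟨gV' ∩ badᶜ ∩ (Uf : Set S), (hgV'.inter isClosed_closure.isOpen_compl).inter Uf.2⟩
  have hηV : genericPoint ↥S ∈ Vs := ⟨⟨by
    obtain ⟨a, ha⟩ := hV'
    exact ⟨g (genericPoint ↥Y'), ⟨_, Groth.L20.GenQS.genericPoint_mem V' ⟨a, ha⟩, rfl⟩, hη₁⟩, hbad⟩,
    Groth.L20.GenQS.genericPoint_mem Uf hUfd.nonempty⟩
  have hVV₁ : ∀ a, gι a ∈ Vs → a ∈ V' := by
    intro a ha
    obtain ⟨_, ⟨b, hb, rfl⟩, hbv⟩ := ha.1.1
    rwa [← hguhs.bijective.1 (V₁.ι.isOpenEmbedding.injective hbv)]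
  have hWle : h₁ ⁻¹ᵁ Vs ≤ U'' := fun b hb => by
    by_contra hn
    exact hb.1.2 (subset_closure ⟨b, hn, rfl⟩)
  haveI : IsFinite (V₁.ι ∣_ Vs) ∧ Surjective (V₁.ι ∣_ Vs) := by
    have : IsIso (V₁.ι ∣_ Vs) := by
      haveI : Surjective (V₁.ι ∣_ Vs) := ⟨fun w => by
        obtain ⟨b, -, hbv⟩ := w.2.1.1
        exact ⟨⟨b, show V₁.ι b ∈ Vs by rw [hbv]; exact w.2⟩, Subtype.ext ((restrict_apply _ _ _).trans hbv)⟩⟩
      haveI : IsClosedImmersion (V₁.ι ∣_ Vs) := .of_isPreimmersion _ (by rw [(V₁.ι ∣_ Vs).surjective.range_eq]; exact isClosed_univ)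
      haveI : IsReduced (Vs : Scheme.{u}) := isReduced_of_isOpenImmersion Vs.ι
      exact isIso_of_isClosedImmersion_of_surjective _
    exact ⟨inferInstance, inferInstance⟩
  obtain ⟨_, _⟩ := this
  haveI : IsFinite (g ∣_ (V₁.ι ⁻¹ᵁ Vs)) := MorphismProperty.of_isPullback (isPullback_morphismRestrict g _).flip hgfin
  haveI : Surjective g := ⟨hguhs.bijective.2⟩
  haveI : Surjective (g ∣_ (V₁.ι ⁻¹ᵁ Vs)) := MorphismProperty.of_isPullback (isPullback_morphismRestrict g _).flip ‹Surjective g›
  haveI : IsIso (V'.ι ∣_ (gι ⁻¹ᵁ Vs)) := by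
    haveI : Surjective (V'.ι ∣_ (gι ⁻¹ᵁ Vs)) := ⟨fun w => ⟨⟨⟨w.1, hVV₁ _ w.2⟩, w.2⟩, Subtype.ext (restrict_apply _ _ _)⟩⟩
    haveI : IsClosedImmersion (V'.ι ∣_ (gι ⁻¹ᵁ Vs)) :=
      .of_isPreimmersion _ (by rw [(V'.ι ∣_ (gι ⁻¹ᵁ Vs)).surjective.range_eq]; exact isClosed_univ)
    haveI : IsReduced ((gι ⁻¹ᵁ Vs : Y'.Opens) : Scheme.{u}) := isReduced_of_isOpenImmersion (gι ⁻¹ᵁ Vs).ι
    exact isIso_of_isClosedImmersion_of_surjective _
  haveI : IsFinite (g' ∣_ (V'.ι ⁻¹ᵁ (gι ⁻¹ᵁ Vs))) := MorphismProperty.of_isPullback (isPullback_morphismRestrict g' _).flip hg'f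
  haveI : Surjective (g' ∣_ (V'.ι ⁻¹ᵁ (gι ⁻¹ᵁ Vs))) := MorphismProperty.of_isPullback (isPullback_morphismRestrict g' _).flip hg's
  let h := h₁ ∣_ Vs
  have hfin : IsFinite h ∧ Surjective h := by
    have e : h = (g' ∣_ (V'.ι ⁻¹ᵁ (gι ⁻¹ᵁ Vs)) ≫ V'.ι ∣_ (gι ⁻¹ᵁ Vs)) ≫ g ∣_ (V₁.ι ⁻¹ᵁ Vs) ≫ V₁.ι ∣_ Vs := by
      simp only [h, h₁, e', gι, morphismRestrict_comp]
    rw [e]; exact ⟨inferInstance, inferInstance⟩
  let W := h₁ ⁻¹ᵁ Vs
  haveI : Nonempty ↥(W : Scheme.{u}) := ⟨⟨η'', show h₁ η'' ∈ Vs by rw [hh₁η]; exact hηV⟩⟩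
  refine ⟨Vs, W, h, ⟨_, hηV⟩, isIntegral_of_isOpenImmersion W.ι, hfin.1, ?_, hfin.2, ?_⟩
  · have h1 := (Groth.L19.Limit.pb_iff_of_isPullback (isPullback_morphismRestrict h₁ Uf).flip).mp hUf
    have h2 := Groth.L19.Limit.pb_comp (Scheme.homOfLE S (show Vs ≤ Uf from fun z hz => hz.2)) h1
    rw [Scheme.homOfLE_ι] at h2
    exact (Groth.L19.Limit.pb_iff_of_isPullback (isPullback_morphismRestrict h₁ Vs).flip).mpr h2
  intro Z i _ _ hi
  have hh : h ≫ Vs.ι = W.ι ≫ h₁ := morphismRestrict_ι _ _
  let ψ : pullback f (h ≫ Vs.ι) ≅ pullback p'' W.ι :=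
    (pullback.congrHom rfl (hh.trans (Category.assoc _ _ _).symm)) ≪≫
      (pullbackLeftPullbackSndIso f gι (W.ι ≫ e')).symm ≪≫ (pullbackLeftPullbackSndIso p₁ e' W.ι).symm
  have hψ : ψ.hom ≫ pullback.snd p'' W.ι = pullback.snd f (h ≫ Vs.ι) := by
    simp [ψ, p'', p₁]
  let k := ψ.hom ≫ pullback.fst p'' W.ι
  haveI : IsOpenImmersion k := inferInstance
  let C₀ := closure (k '' Set.range i)
  have hC₀ : C₀ ∈ irreducibleComponents (X'' : Type u) := by
    refine ⟨(hi.1.image _ k.continuous.continuousOn).closure, fun D hD hsub => ?_⟩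
    have h1 : Set.range i ⊆ k ⁻¹' closure D := fun z hz => subset_closure (hsub (subset_closure ⟨z, hz, rfl⟩))
    have h2 : IsIrreducible (k ⁻¹' closure D) := hD.closure.preimage_of_isPreirreducible_fiber k k.isOpenEmbedding.isOpenMap
      (fun x => (Set.subsingleton_singleton.preimage k.isOpenEmbedding.injective).isPreirreducible) (by
        obtain ⟨z, hz⟩ := hi.1.nonempty
        exact ⟨k z, h1 hz, z, rfl⟩)
    have h3 := hi.2 h2 h1
    refine subset_closure.trans ((subset_closure_inter_of_isPreirreducible_of_isOpen hD.closure.2 k.isOpenEmbedding.isOpen_range ?_).trans (closure_mono ?_))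
    · obtain ⟨z, hz⟩ := hi.1.nonempty
      exact ⟨k z, h1 hz, z, rfl⟩
    · rintro _ ⟨hx, z, rfl⟩
      exact ⟨z, h3 hx, rfl⟩
  let J := Scheme.IdealSheafData.vanishingIdeal (X := X'') ⟨C₀, isClosed_closure⟩
  haveI : IsReduced J.subscheme := Groth.L18.isReduced_vanishingIdeal_subscheme _
  have hJ : Set.range J.subschemeι = C₀ := by
    rw [Scheme.IdealSheafData.range_subschemeι, Scheme.IdealSheafData.coe_support_vanishingIdeal]; rfl
  have hCO : W ≤ O ⟨C₀, hC₀⟩ := fun w hw => Set.mem_iInter.mp (hWle hw) _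
  have hkW : ∀ z, p'' (k z) ∈ W := by
    intro z
    show p'' (pullback.fst p'' W.ι (ψ.hom z)) ∈ W
    rw [← Scheme.Hom.comp_apply (pullback.fst p'' W.ι), pullback.condition, Scheme.Hom.comp_apply]
    exact (pullback.snd p'' W.ι (ψ.hom z)).2
  rcases hO ⟨C₀, hC₀⟩ with hno | hyes
  · obtain ⟨z, hz⟩ := hi.1.nonempty
    exact absurd (hCO (hkW z)) (hno _ (subset_closure ⟨z, hz, rfl⟩))
  obtain ⟨hfl, hint⟩ := hyes J.subscheme J.subschemeι hJ
  let q := J.subschemeι ≫ p''
  have hres : ∀ {P : MorphismProperty Scheme.{u}} [P.IsStableUnderBaseChange],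
      P (q ∣_ O ⟨C₀, hC₀⟩) → P (pullback.snd q W.ι) := fun {P} _ h => by
    have h1 := (Groth.L19.Limit.pb_iff_of_isPullback (isPullback_morphismRestrict q _).flip).mp h
    have h2 := Groth.L19.Limit.pb_comp (Scheme.homOfLE Y'' hCO) h1
    rw [Scheme.homOfLE_ι] at h2
    exact (Groth.L19.Limit.pb_iff_of_isPullback (IsPullback.of_hasPullback q W.ι)).mpr h2
  let i₂ : pullback q W.ι ⟶ pullback p'' W.ι := (pullbackRightPullbackFstIso p'' W.ι J.subschemeι).inv ≫ pullback.snd J.subschemeι _
  haveI : IsClosedImmersion i₂ := by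
    haveI : IsClosedImmersion (pullback.snd J.subschemeι (pullback.fst p'' W.ι)) := MorphismProperty.pullback_snd _ _ inferInstance
    show IsClosedImmersion (_ ≫ _); infer_instance
  haveI : IsReduced (pullback q W.ι) := isReduced_of_isOpenImmersion (pullback.fst q W.ι)
  have hrange : Set.range (i ≫ ψ.hom) = Set.range i₂ := by
    have h2 : Set.range i₂ = pullback.fst p'' W.ι ⁻¹' C₀ := by
      refine (range_iso_comp _ _).trans ?_
      rw [Scheme.Pullback.range_snd, hJ]
    rw [h2, Scheme.Hom.comp_base, TopCat.coe_comp, Set.range_comp]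
    refine subset_antisymm ?_ fun w hw => ?_
    · rintro _ ⟨_, ⟨z, rfl⟩, rfl⟩
      exact subset_closure ⟨_, ⟨z, rfl⟩, rfl⟩
    · obtain ⟨v, rfl⟩ := ψ.hom.surjective w
      have hv : k v ∈ closure (k '' Set.range i) := hw
      have : v ∈ closure (Set.range i) := by
        rw [k.isOpenEmbedding.isInducing.closure_eq_preimage_closure_image]; exact hv
      exact ⟨v, by rwa [i.isClosedEmbedding.isClosed_range.closure_eq] at this, rfl⟩
  obtain ⟨d, hd⟩ := Groth.L20.SmoothStrat.exists_iso_of_range_eq (i ≫ ψ.hom) i₂ hrange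
  have hfac : i ≫ pullback.snd f (h ≫ Vs.ι) = d.hom ≫ pullback.snd q W.ι := by
    rw [← hψ, ← Category.assoc, ← hd, Category.assoc]
    simp [i₂, q]
  rw [hfac]
  exact ⟨(MorphismProperty.cancel_left_of_respectsIso (P := @Flat) _ _).mpr (hres hfl),
    (MorphismProperty.cancel_left_of_respectsIso (P := @GeometricallyIntegral) _ _).mpr (hres hint)⟩


end Groth.Agent.S5641
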