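import Groth.Prelude.Def_Pic13
import Mathlib.FieldTheory.IsAlgClosed.Basic
import Mathlib.AlgebraicGeometry.Morphisms.ClosedImmersion
import Mathlib.Topology.KrullDimension
import Mathlib.Data.Fin.VecNotation
import Mathlib.Data.Nat.Choose.Basic
import Groth.Agent.L22.PDual.Pairing
import Groth.Agent.L02.Pic13Deg.Basic
import Groth.Agent.L02.Pic13Deg.BinomPoly
import Groth.Agent.L19.InvOfTensor

set_option autoImplicit false
set_option linter.style.haveILetI false
namespace Pic13
end Pic13
universe u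
open CategoryTheory CategoryTheory.Limits AlgebraicGeometry
open Pic13

namespace Groth.Agent.S5644

open Groth.L02.Pic13Deg

/-- Let k be an algebraically closed field, X ⊆ P^n_k an integral closed subscheme of dimension r = s +
1, O_X(1) and O_X(-1) the restrictions of O(1) and O(-1), and L an invertible O_X-module with
inverse L'. Write the Hilbert polynomials in the binomial basis, χ(L(m)) = Σ_{j ≤ r} a_j C(m+j, j)
and χ(O_X(m)) = Σ_{j ≤ r} e_j C(m+j, j) for m ≥ 0 (Euler characteristics in degrees ≤ r). Then (i)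
a_r = e_r = (c₁(O_X(1))^r), the degree of X, and (ii) a_{r-1} - e_{r-1} = (c₁(L)·c₁(O_X(1))^{r-1}),
the degree of L. Intersection numbers are those of FGA.intNum, which takes the inverse modules L',
O_X(-1) as arguments. -/
theorem result (k : Type u) [Field k] [IsAlgClosed k] (n : ℕ) (X : Scheme.{u}) [X.Over (Spec (CommRingCat.of k))]
    (i : X ⟶ CohB1.ProjSpace n k) [IsClosedImmersion i] (hi : i ≫ CohB1.ProjSpace.toSpec n k = X ↘ Spec (CommRingCat.of k))
    [IsIntegral X] (s : ℕ) (hdim : topologicalKrullDim X = (s + 1 : ℕ))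
    (L L' : X.Modules) (hL : PicF.IsInvertible L) (hLL' : Nonempty (CohB1.tensorMod L L' ≅ Coh.structureModule X))
    (a e : Fin (s + 2) → ℤ)
    (ha : ∀ m : ℕ, FGA.eulerCharLE k X (Pic13.twistOn k i L m) (s + 1) = ∑ j : Fin (s + 2), a j * ((m + j).choose j : ℤ))
    (he : ∀ m : ℕ, FGA.eulerCharLE k X (Pic13.twistOn k i (Coh.structureModule X) m) (s + 1) =
      ∑ j : Fin (s + 2), e j * ((m + j).choose j : ℤ)) :
    a (Fin.last (s + 1)) = e (Fin.last (s + 1)) ∧
      a (Fin.last (s + 1)) = FGA.intNum k X (s + 1)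
        (fun _ : Fin (s + 1) => (Scheme.Modules.pullback i).obj (Twist.twistProjSpace n k (-1))) (Coh.structureModule X) ∧
      a (Fin.castSucc (Fin.last s)) - e (Fin.castSucc (Fin.last s)) = FGA.intNum k X (s + 1)
        (Matrix.vecCons L' (fun _ : Fin s => (Scheme.Modules.pullback i).obj (Twist.twistProjSpace n k (-1))))
        (Coh.structureModule X) := by
  haveI : IsProper (CohB1.ProjSpace.toSpec n k) := Groth.L22.PDual.proper n k
  haveI : IsProper (X ↘ Spec (CommRingCat.of k)) := by rw [← hi]; infer_instance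
  haveI := Groth.L21.RR.isNoetherian_of_proper (X := X) k
  let A := Groth.L11.NumOrth.OX i 1
  let A' := Groth.L11.NumOrth.OX i (-1)
  have hA := Groth.L11.NumOrth.isAmple_OX_one i
  have hAA : Nonempty (CohB1.tensorMod A' A ≅ Coh.structureModule X) :=
    ⟨(Groth.L11.NumOrth.nonempty_OX_add i (show (-1 : ℤ) + 1 = 0 by norm_num)).some ≪≫
      (Groth.L11.NumOrth.nonempty_OX_zero i).some⟩
  have hhilb : ∀ (F : X.Modules) (c : Fin (s + 2) → ℤ),
      (∀ m : ℕ, FGA.eulerCharLE k X (Pic13.twistOn k i F m) (s + 1) = ∑ j : Fin (s + 2), c j * ((m + j).choose j : ℤ)) →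
      ShStab.IsHilbPoly k X A F (bsum c) := by
    intro F c hc m
    rw [eval_bsum, ← hc m, Groth.L22.Inter.eulerCharLE_eq k hdim.le]
    exact congrArg Int.cast (Groth.L03.Euler.euler_iso
      (Groth.L00.Tensor.tensorIso (Iso.refl F) (Groth.L11.NumOrth.nonempty_pow_OX i m).some))
  have hPL := hhilb L a ha
  have hPO := hhilb (Coh.structureModule X) e he
  have hO := Groth.L16.CohClosedPush.isCoh_structure (X := X)
  have hsupp : topologicalKrullDim (CohB1.support (Coh.structureModule X)) ≤ ((s + 1 : ℕ) : WithBot ℕ∞) :=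
    (Groth.L22.Nakai.dim_support_structure X).le.trans hdim.le
  have h1 := Groth.L22.Nakai.altT_diag k A hPL (natDegree_bsum_le a)
  have h2 := Groth.L22.Nakai.altT_diag k A hPO (natDegree_bsum_le e)
  rw [coeff_bsum] at h1 h2
  have h3 := Groth.L22.Big.altT_tensor_invertible k (L := fun _ : Fin (s + 1) => A) (fun _ => hA.1) hL hO hsupp
  rw [Groth.L22.Inter.altT_iso k _ (Groth.L00.Tensor.tensorUnitLeft L)] at h3
  have htop : a (Fin.last (s + 1)) = e (Fin.last (s + 1)) := by
    have h4 := h1.symm.trans (h3.trans h2)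
    exact_mod_cast h4
  refine ⟨htop, ?_, ?_⟩
  · have h := Groth.L22.Big.intNum_inv_eq k (n := s + 1) hdim.le (L := fun _ : Fin (s + 1) => A)
      (L' := fun _ : Fin (s + 1) => A') (fun _ => hA.1) (fun _ => Groth.L11.NumOrth.isInvertible_OX i (-1))
      (fun _ => hAA)
    rw [h2, ← htop] at h
    exact_mod_cast h.symm
  · have hL' : PicF.IsInvertible L' :=
      Groth.L19.InvOfTensor.isInvertible (Groth.L00.Tensor.tensorComm L' L ≪≫ hLL'.some)
    have h := Groth.L22.Big.intNum_inv_eq k (n := s + 1) hdim.le (L := Fin.cons L (fun _ : Fin s => A))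
      (L' := Matrix.vecCons L' (fun _ : Fin s => A'))
      (Fin.cases hL fun _ => hA.1) (Fin.cases hL' fun _ => Groth.L11.NumOrth.isInvertible_OX i (-1))
      (Fin.cases ⟨Groth.L00.Tensor.tensorComm L' L ≪≫ hLL'.some⟩ fun _ => hAA)
    rw [Groth.L22.Inter.altT_cons, Groth.L22.Inter.altT_iso k _ (Groth.L00.Tensor.tensorUnitLeft L)] at h
    have hd : (bsum a - bsum e) = bsum (fun j : Fin (s + 1) => (a - e) j.castSucc) := by
      rw [bsum_sub, bsum_succ]
      simp [htop]
    have hdiff : Groth.L22.Inter.altT k (fun _ : Fin s => A) L -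
        Groth.L22.Inter.altT k (fun _ : Fin s => A) (Coh.structureModule X) =
          ((a (Fin.castSucc (Fin.last s)) - e (Fin.castSucc (Fin.last s)) : ℤ) : ℚ) := by
      have := Groth.L22.Nakai.alt_eval_sum s (bsum a - bsum e) (by rw [hd]; exact natDegree_bsum_le _)
      rw [hd, coeff_bsum] at this
      rw [Groth.L22.Inter.altT, Groth.L22.Inter.altT, ← map_sub]
      refine Eq.trans ?_ this
      rw [← hd]
      refine congrArg _ (funext fun v => ?_)
      obtain ⟨ev⟩ := Groth.L22.Nakai.nonempty_tensorPows_const A v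
      rw [Polynomial.eval_sub, ← hPL, ← hPO, Pi.sub_apply]
      exact congrArg₂ (fun p q : ℤ => (p : ℚ) - (q : ℚ))
        (Groth.L03.Euler.euler_iso (Groth.L00.Tensor.tensorIso (Iso.refl L) ev))
        (Groth.L03.Euler.euler_iso (Groth.L00.Tensor.tensorIso (Iso.refl (Coh.structureModule X)) ev))
    rw [hdiff] at h
    exact_mod_cast h.symm

end Groth.Agent.S5644
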