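import Groth.Prelude.Def_Pic13
import Groth.Prelude.Def_Pi1
import Mathlib.FieldTheory.IsAlgClosed.Basic
import Mathlib.AlgebraicGeometry.Morphisms.ClosedImmersion
import Mathlib.Topology.KrullDimension
import Mathlib.Data.Nat.Choose.Basic
import Groth.Agent.L11.Bdd.Coeff
-- import your own Groth.Agent.* helpers here

set_option autoImplicit false
set_option backward.isDefEq.respectTransparency false
set_option backward.isDefEq.respectTransparency.types false
universe u
open CategoryTheory CategoryTheory.Limits AlgebraicGeometry
open Pic13

namespace Groth.Agent.S5647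

/-- First assertion: over the base S = Spec k with k algebraically closed: let X ⊆ P^n_k be an integral
closed subscheme of dimension r, O_X(1) the restriction of O(1), and consider a family of invertible
O_X-modules L with Hilbert polynomials written χ(L(m)) = Σ_{j ≤ r} a_j(L) C(m+j, j) (m ≥ 0, Euler
characteristics in degrees ≤ r). Then the family is bounded if and only if the coefficients a_j(L)
stay bounded as L runs through it. (The published statement is for X projective over a Noetherian
base with a very ample O_X(1) and geometrically integral fibres of dimension r, and for families of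
classes on the fibres; this row is the case of an algebraically closed base field.) -/
theorem result (k : Type u) [Field k] [IsAlgClosed k] (n : ℕ) (X : Scheme.{u}) [X.Over (Spec (CommRingCat.of k))]
    (i : X ⟶ CohB1.ProjSpace n k) [IsClosedImmersion i] (hi : i ≫ CohB1.ProjSpace.toSpec n k = X ↘ Spec (CommRingCat.of k))
    [IsIntegral X] (r : ℕ) (hdim : topologicalKrullDim X = (r : ℕ))
    (Q : X.Modules → Prop) (hQ : ∀ L, Q L → PicF.IsInvertible L) :
    Pic13.IsBounded k X Q ↔ ∃ B : ℕ, ∀ L, Q L → ∃ a : Fin (r + 1) → ℤ,
      (∀ m : ℕ, FGA.eulerCharLE k X (Pic13.twistOn k i L m) r = ∑ j : Fin (r + 1), a j * ((m + j).choose j : ℤ)) ∧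
      ∀ j, |a j| ≤ B := by
  haveI : IsProper (CohB1.ProjSpace.toSpec n k) := Groth.L16.ProjSpace.isProper_toSpec n k
  haveI : IsProper (X ↘ Spec (CommRingCat.of k)) := hi ▸ inferInstance
  haveI := Groth.L21.RR.isNoetherian_of_proper (X := X) k
  rw [Groth.L11.Bdd.Gen.isBounded_iff_coeff k i hi r hdim Q hQ]
  have h : ∀ (L : X.Modules) (m : ℕ), FGA.eulerCharLE k X (Pic13.twistOn k i L m) r = Groth.L11.Bdd.Gen.chi i L m :=
    fun L m => Groth.L22.Inter.eulerCharLE_eq k hdim.le _
  simp only [h]
end Groth.Agent.S5647
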