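import Groth.Prelude.Def_Pic13
import Groth.Prelude.Def_Pi1
import Mathlib.FieldTheory.IsAlgClosed.Basic
import Mathlib.AlgebraicGeometry.Morphisms.ClosedImmersion
import Mathlib.Topology.KrullDimension
import Mathlib.Data.Nat.Choose.Basic
import Groth.Agent.L11.Bdd.Coeff
-- import your own Groth.Agent.* helpers here

set_option autoImplicit false
set_option backward.isDefEq.respectTransparency false
set_option backward.isDefEq.respectTransparency.types false
universe u
open CategoryTheory CategoryTheory.Limits AlgebraicGeometry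
open Pic13

namespace Groth.Agent.S5648

/-- Second assertion: over the base S = Spec k with k algebraically closed: let X ⊆ P^n_k be an integral
and normal closed subscheme of dimension r = s + 2 ≥ 2, O_X(1) the restriction of O(1), and consider
a family of invertible O_X-modules L with Hilbert polynomials χ(L(m)) = Σ_{j ≤ r} a_j(L) C(m+j, j)
(m ≥ 0). If the three coefficients a_r(L), a_{r-1}(L), a_{r-2}(L) stay bounded as L runs through the
family, then the family is bounded. (The published statement is for X projective over a Noetherian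
base with a very ample O_X(1) and geometrically integral and geometrically normal fibres of
dimension r, and for families of classes on the fibres; this row is the case of an algebraically
closed base field.) -/
theorem result (k : Type u) [Field k] [IsAlgClosed k] (n : ℕ) (X : Scheme.{u}) [X.Over (Spec (CommRingCat.of k))]
    (i : X ⟶ CohB1.ProjSpace n k) [IsClosedImmersion i] (hi : i ≫ CohB1.ProjSpace.toSpec n k = X ↘ Spec (CommRingCat.of k))
    [IsIntegral X] (hnor : Pi1.IsNormalScheme X)
    (s : ℕ) (hdim : topologicalKrullDim X = (s + 2 : ℕ))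
    (Q : X.Modules → Prop) (hQ : ∀ L, Q L → PicF.IsInvertible L)
    (hB : ∃ B : ℕ, ∀ L, Q L → ∃ a : Fin (s + 3) → ℤ,
      (∀ m : ℕ, FGA.eulerCharLE k X (Pic13.twistOn k i L m) (s + 2) = ∑ j : Fin (s + 3), a j * ((m + j).choose j : ℤ)) ∧
      |a (Fin.last (s + 2))| ≤ B ∧ |a (Fin.castSucc (Fin.last (s + 1)))| ≤ B ∧ |a (Fin.castSucc (Fin.castSucc (Fin.last s)))| ≤ B) :
    Pic13.IsBounded k X Q := by
  haveI : IsProper (CohB1.ProjSpace.toSpec n k) := Groth.L16.ProjSpace.isProper_toSpec n k
  haveI : IsProper (X ↘ Spec (CommRingCat.of k)) := hi ▸ inferInstance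
  haveI := Groth.L21.RR.isNoetherian_of_proper (X := X) k
  obtain ⟨B, hB⟩ := hB
  refine Groth.L11.Bdd.Gen.isBounded_topThree k i hi s hdim Q hQ ⟨B, fun L hL => ?_⟩
  obtain ⟨a, ha, h2, h1, h0⟩ := hB L hL
  refine ⟨a, fun m => (Groth.L22.Inter.eulerCharLE_eq k hdim.le _).symm.trans (ha m), fun j hj => ?_⟩
  rcases (show (j : ℕ) = s + 2 ∨ (j : ℕ) = s + 1 ∨ (j : ℕ) = s by have := j.2; omega) with e | e | e
  · rwa [show j = Fin.last (s + 2) from Fin.ext e]
  · rwa [show j = Fin.castSucc (Fin.last (s + 1)) from Fin.ext e]
  · rwa [show j = Fin.castSucc (Fin.castSucc (Fin.last s)) from Fin.ext e]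
end Groth.Agent.S5648
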