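import Groth.Statements.S5650
import Groth.Agent.L20.RG.IsoLocusFlat

set_option autoImplicit false
universe u
open CategoryTheory CategoryTheory.Limits AlgebraicGeometry
open FlatMor

set_option backward.isDefEq.respectTransparency.types false
namespace Groth.Agent.S5650

/-- Let X ⟶ S be proper and of finite presentation, u : F ⟶ G a morphism of finitely presented
O_X-modules with G flat over S. Then the subfunctor of S 'making u an isomorphism' is represented by
an open subscheme of S of finite presentation over S: there is a quasi-compact open U ⊆ S such that,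
for every scheme T and t : T ⟶ S, the pullback of u to X ×_S T is an isomorphism if and only if the
image of t lies in U. -/
theorem result {X S : Scheme.{u}} (f : X ⟶ S) [IsProper f] [LocallyOfFinitePresentation f]
    (F G : X.Modules) (hF : CohB1.IsFP F) (hG : CohB1.IsFP G) (hGfl : FlatMod.IsFlatOver f G) (u : F ⟶ G) :
    ∃ U : S.Opens, QuasiCompact U.ι ∧
      ∀ (T : Scheme.{u}) (t : T ⟶ S),
        IsIso ((Scheme.Modules.pullback (pullback.fst f t)).map u) ↔ Set.range t.base ⊆ (U : Set S) := by
  haveI : Coh.IsQCoh F := { nonempty_quasicoherentData := ⟨hF.exists_quasicoherentData.choose⟩ }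
  haveI : Coh.IsQCoh G := { nonempty_quasicoherentData := ⟨hG.exists_quasicoherentData.choose⟩ }
  have hopen := Groth.L20.RG.IsoFlat.isOpen_locus u f hF hG hGfl
  have hcons : Topology.IsLocallyConstructible (f.base '' (Groth.L20.RG.IsoFlat.locus u)ᶜ) :=
    f.isLocallyConstructible_image
      (fun x => let ⟨U, hxU, hU, h⟩ := Groth.L20.RG.IsoFlat.isLocallyConstructible_locus u f hF hG hGfl x
        ⟨U, hxU, hU, h.compl⟩)
  refine ⟨⟨(f.base '' (Groth.L20.RG.IsoFlat.locus u)ᶜ)ᶜ, (f.isClosedMap _ hopen.isClosed_compl).isOpen_compl⟩,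
    Groth.L20.DescLocus.quasiCompact_ι _ (by rwa [show ((_ : S.Opens) : Set S)ᶜ = _ from compl_compl _]), fun T t => ?_⟩
  exact Groth.L20.RG.IsoFlat.isIso_iff f hF hG hGfl u t

end Groth.Agent.S5650
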