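import Groth.Prelude.Def_Pic13
import Mathlib.FieldTheory.IsAlgClosed.Basic
import Mathlib.AlgebraicGeometry.Morphisms.ClosedImmersion
import Mathlib.Topology.KrullDimension
import Mathlib.Data.Fin.VecNotation
import Mathlib.Data.Nat.Choose.Basic
import Mathlib.LinearAlgebra.Dimension.Finrank
import Groth.Agent.L11.Bdd.Sharp
-- import your own Groth.Agent.* helpers here

set_option autoImplicit false
set_option backward.isDefEq.respectTransparency false
set_option backward.isDefEq.respectTransparency.types false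
universe u
open CategoryTheory CategoryTheory.Limits AlgebraicGeometry
open Pic13

namespace Groth.Agent.S5652

/-- Let k be an algebraically closed field, X ⊆ P^n_k an integral closed subscheme of dimension 2,
O_X(1) and O_X(-1) the restrictions of O(1) and O(-1), and L an invertible O_X-module with inverse
L' whose degree (c₁(L)·c₁(O_X(1))) is ≤ 0. Write χ(L(m)) = a_2 C(m+2,2) + a_1 C(m+1,1) + a_0 for m ≥
0. Then (i) h^1(X, L(m)) ≤ a_1 (a_1 + 1) a_2 - a_0 for every integer m, and (ii) a_0 ≤ a_1 (a_1 +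
1). Intersection numbers are those of FGA.intNum, which takes the inverse modules as arguments; h^1
is the dimension over k. -/
theorem result (k : Type u) [Field k] [IsAlgClosed k] (n : ℕ) (X : Scheme.{u}) [X.Over (Spec (CommRingCat.of k))]
    (i : X ⟶ CohB1.ProjSpace n k) [IsClosedImmersion i] (hi : i ≫ CohB1.ProjSpace.toSpec n k = X ↘ Spec (CommRingCat.of k))
    [IsIntegral X] (hdim : topologicalKrullDim X = (2 : ℕ))
    (L L' : X.Modules) (hL : PicF.IsInvertible L) (hLL' : Nonempty (CohB1.tensorMod L L' ≅ Coh.structureModule X))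
    (hdeg : FGA.intNum k X 2 (Matrix.vecCons L' (fun _ : Fin 1 => ((Scheme.Modules.pullback i).obj (Twist.twistProjSpace n k (-1))))) (Coh.structureModule X) ≤ 0)
    (a : Fin 3 → ℤ)
    (ha : ∀ m : ℕ, FGA.eulerCharLE k X (Pic13.twistOn k i L m) 2 = ∑ j : Fin 3, a j * ((m + j).choose j : ℤ)) :
    (∀ m : ℤ, (Module.finrank k (Coh.HH X (Pic13.twistOn k i L m) 1) : ℤ) ≤ a 1 * (a 1 + 1) * a 2 - a 0) ∧
      a 0 ≤ a 1 * (a 1 + 1) := by
  haveI : IsProper (CohB1.ProjSpace.toSpec n k) := Groth.L16.ProjSpace.isProper_toSpec n k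
  haveI : IsProper (X ↘ Spec (CommRingCat.of k)) := hi ▸ inferInstance
  haveI := Groth.L21.RR.isNoetherian_of_proper (X := X) k
  have hOX : Nonempty (CohB1.tensorMod (Groth.L11.NumOrth.OX i 1) (Groth.L11.NumOrth.OX i (-1)) ≅ Coh.structureModule X) := by
    obtain ⟨ea⟩ := Groth.L11.NumOrth.nonempty_OX_add i (show (1 : ℤ) + -1 = 0 by norm_num)
    obtain ⟨e0⟩ := Groth.L11.NumOrth.nonempty_OX_zero i
    exact ⟨ea ≪≫ e0⟩
  have hI : ((FGA.intNum k X 2 (Matrix.vecCons L' (fun _ : Fin 1 => ((Scheme.Modules.pullback i).obj (Twist.twistProjSpace n k (-1))))) (Coh.structureModule X) : ℤ) : ℚ) =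
      Groth.L22.Big.ii k L (Groth.L11.NumOrth.OX i 1) := by
    rw [← Groth.L22.Big.intNum_inv_eq_ii k hdim.le hL (Groth.L11.NumOrth.isInvertible_OX i 1) hLL' hOX,
      show (Matrix.vecCons L' (fun _ : Fin 1 => (Scheme.Modules.pullback i).obj (Twist.twistProjSpace n k (-1))) : Fin 2 → X.Modules) =
        ![L', Groth.L11.NumOrth.OX i (-1)] from funext fun l => by fin_cases l <;> rfl]
  have hd0 : Groth.L22.Big.ii k L (Groth.L11.NumOrth.OX i 1) ≤ 0 := by rw [← hI]; exact_mod_cast hdeg
  exact Groth.L11.Bdd.Gen.sharp i hi hdim hL hd0 a fun m => (Groth.L22.Inter.eulerCharLE_eq k hdim.le _).symm.trans (ha m)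
end Groth.Agent.S5652
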