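import Groth.Prelude.Def_Pic13
import Mathlib.FieldTheory.IsAlgClosed.Basic
import Mathlib.AlgebraicGeometry.Morphisms.ClosedImmersion
import Mathlib.Topology.KrullDimension
import Mathlib.Data.Fin.VecNotation
import Mathlib.Data.Nat.Choose.Basic
import Mathlib.LinearAlgebra.Dimension.Finrank
import Groth.Agent.L11.Bdd.Sharp2
-- import your own Groth.Agent.* helpers here

set_option autoImplicit false
set_option backward.isDefEq.respectTransparency false
set_option backward.isDefEq.respectTransparency.types false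
universe u
open CategoryTheory CategoryTheory.Limits AlgebraicGeometry
open Pic13

namespace Groth.Agent.S5653

/-- Let k be an algebraically closed field, X ⊆ P^n_k an integral closed subscheme of dimension 2,
O_X(1), O_X(-1) the restrictions of O(1), O(-1), with χ(O_X(m)) = e_2 C(m+2,2) + e_1 C(m+1,1) + e_0,
and L an invertible O_X-module with inverse L', of degree δ = (c₁(L)·c₁(O_X(1))) ≤ 0 and with
χ(L(m)) = a_2 C(m+2,2) + a_1 C(m+1,1) + a_0 (m ≥ 0). Put β = δ (e_2 - 1) + e_1. Then a_0 ≥ (c₁(L)²)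
+ 2 e_0 + (2 e_1 - a_1) C(δ, 1) + (2 e_2 - a_2) C(δ+1, 2) - β (β + 1), where C(δ, 1) = δ and C(δ+1,
2) = δ(δ+1)/2. (The published statement has +β(β+1) as its last term, which fails for O(1,-3) on P^1
× P^1 ⊆ P^3; this row has -β(β+1), the sign the published proof yields.) Intersection numbers are
those of FGA.intNum, which takes the inverse modules as arguments. -/
theorem result (k : Type u) [Field k] [IsAlgClosed k] (n : ℕ) (X : Scheme.{u}) [X.Over (Spec (CommRingCat.of k))]
    (i : X ⟶ CohB1.ProjSpace n k) [IsClosedImmersion i] (hi : i ≫ CohB1.ProjSpace.toSpec n k = X ↘ Spec (CommRingCat.of k))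
    [IsIntegral X] (hdim : topologicalKrullDim X = (2 : ℕ))
    (L L' : X.Modules) (hL : PicF.IsInvertible L) (hLL' : Nonempty (CohB1.tensorMod L L' ≅ Coh.structureModule X))
    (hdeg : FGA.intNum k X 2 (Matrix.vecCons L' (fun _ : Fin 1 => ((Scheme.Modules.pullback i).obj (Twist.twistProjSpace n k (-1))))) (Coh.structureModule X) ≤ 0)
    (a : Fin 3 → ℤ)
    (ha : ∀ m : ℕ, FGA.eulerCharLE k X (Pic13.twistOn k i L m) 2 = ∑ j : Fin 3, a j * ((m + j).choose j : ℤ))
    (e : Fin 3 → ℤ)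
    (he : ∀ m : ℕ, FGA.eulerCharLE k X (Pic13.twistOn k i (Coh.structureModule X) m) 2 = ∑ j : Fin 3, e j * ((m + j).choose j : ℤ)) :
    FGA.intNum k X 2 (Matrix.vecCons L' (fun _ : Fin 1 => L')) (Coh.structureModule X) + 2 * e 0 +
        (2 * e 1 - a 1) * FGA.intNum k X 2 (Matrix.vecCons L' (fun _ : Fin 1 => ((Scheme.Modules.pullback i).obj (Twist.twistProjSpace n k (-1))))) (Coh.structureModule X) +
        (2 * e 2 - a 2) * (FGA.intNum k X 2 (Matrix.vecCons L' (fun _ : Fin 1 => ((Scheme.Modules.pullback i).obj (Twist.twistProjSpace n k (-1))))) (Coh.structureModule X) *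
          (FGA.intNum k X 2 (Matrix.vecCons L' (fun _ : Fin 1 => ((Scheme.Modules.pullback i).obj (Twist.twistProjSpace n k (-1))))) (Coh.structureModule X) + 1) / 2) -
        (FGA.intNum k X 2 (Matrix.vecCons L' (fun _ : Fin 1 => ((Scheme.Modules.pullback i).obj (Twist.twistProjSpace n k (-1))))) (Coh.structureModule X) * (e 2 - 1) + e 1) *
          (FGA.intNum k X 2 (Matrix.vecCons L' (fun _ : Fin 1 => ((Scheme.Modules.pullback i).obj (Twist.twistProjSpace n k (-1))))) (Coh.structureModule X) * (e 2 - 1) + e 1 + 1)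
      ≤ a 0 := by
  haveI : IsProper (CohB1.ProjSpace.toSpec n k) := Groth.L16.ProjSpace.isProper_toSpec n k
  haveI : IsProper (X ↘ Spec (CommRingCat.of k)) := hi ▸ inferInstance
  haveI := Groth.L21.RR.isNoetherian_of_proper (X := X) k
  have hOX : Nonempty (CohB1.tensorMod (Groth.L11.NumOrth.OX i 1) (Groth.L11.NumOrth.OX i (-1)) ≅ Coh.structureModule X) := by
    obtain ⟨ea⟩ := Groth.L11.NumOrth.nonempty_OX_add i (show (1 : ℤ) + -1 = 0 by norm_num)
    obtain ⟨e0⟩ := Groth.L11.NumOrth.nonempty_OX_zero i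
    exact ⟨ea ≪≫ e0⟩
  have hI : ((FGA.intNum k X 2 (Matrix.vecCons L' (fun _ : Fin 1 => ((Scheme.Modules.pullback i).obj (Twist.twistProjSpace n k (-1))))) (Coh.structureModule X) : ℤ) : ℚ) =
      Groth.L22.Big.ii k L (Groth.L11.NumOrth.OX i 1) := by
    rw [← Groth.L22.Big.intNum_inv_eq_ii k hdim.le hL (Groth.L11.NumOrth.isInvertible_OX i 1) hLL' hOX,
      show (Matrix.vecCons L' (fun _ : Fin 1 => (Scheme.Modules.pullback i).obj (Twist.twistProjSpace n k (-1))) : Fin 2 → X.Modules) =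
        ![L', Groth.L11.NumOrth.OX i (-1)] from funext fun l => by fin_cases l <;> rfl]
  have hL' : PicF.IsInvertible L' := by
    obtain ⟨L₁, hL₁, ⟨e₁⟩⟩ := Groth.L08.Cube.exists_inverse hL
    obtain ⟨eL⟩ := hLL'
    exact Groth.L18.Ample.isInvertible_of_iso
      ((Groth.L00.Tensor.tensorUnitLeft L').symm ≪≫
        Groth.L00.Tensor.tensorIso (e₁.symm ≪≫ Groth.L00.Tensor.tensorComm L L₁) (Iso.refl L') ≪≫
        Groth.L00.Tensor.tensorAssoc L₁ L L' ≪≫ Groth.L00.Tensor.tensorIso (Iso.refl L₁) eL ≪≫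
        Groth.L00.Tensor.tensorUnitRight L₁).symm hL₁
  have hI2 : ((FGA.intNum k X 2 (Matrix.vecCons L' (fun _ : Fin 1 => L')) (Coh.structureModule X) : ℤ) : ℚ) =
      Groth.L22.Big.ii k L L := by
    rw [← Groth.L22.Big.intNum_inv_eq_ii k hdim.le hL hL hLL' hLL',
      show (Matrix.vecCons L' (fun _ : Fin 1 => L') : Fin 2 → X.Modules) = ![L', L'] from funext fun l => by fin_cases l <;> rfl]
  generalize FGA.intNum k X 2 (Matrix.vecCons L' (fun _ : Fin 1 => ((Scheme.Modules.pullback i).obj (Twist.twistProjSpace n k (-1))))) (Coh.structureModule X) = d at hdeg hI ⊢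
  generalize FGA.intNum k X 2 (Matrix.vecCons L' (fun _ : Fin 1 => L')) (Coh.structureModule X) = q at hI2 ⊢
  have h := Groth.L11.Bdd.Gen.coeff_zero_lower i hi hdim hL hL' hLL' d hI.symm hdeg a
    (fun m => (Groth.L22.Inter.eulerCharLE_eq k hdim.le _).symm.trans (ha m)) e
    (fun m => (Groth.L22.Inter.eulerCharLE_eq k hdim.le _).symm.trans (he m))
  rw [← hI2] at h
  obtain ⟨r, hr⟩ : (2 : ℤ) ∣ d * (d + 1) := even_iff_two_dvd.1 (Int.even_mul_succ_self d)
  rw [hr, Int.mul_ediv_cancel_left _ two_ne_zero]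
  have hr' : (d : ℚ) * ((d : ℚ) + 1) = 2 * (r : ℚ) := by exact_mod_cast hr
  rw [hr'] at h
  refine Int.cast_le (R := ℚ) |>.1 ?_
  push_cast at h ⊢
  linarith
end Groth.Agent.S5653
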