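import Groth.Statements.S5654
import Groth.Agent.S3020
import Groth.Agent.Lead.HomProper
import Groth.Agent.L23.AffineMor
import Groth.Agent.L08.AbelianGrp

set_option autoImplicit false
universe u
open CategoryTheory MonoidalCategory CartesianMonoidalCategory MonObj GrpObj AlgebraicGeometry
open GrpSch

namespace Groth.Agent.S5654

set_option linter.style.haveILetI false

set_option backward.isDefEq.respectTransparency.types false
open CategoryTheory.Limits

/-- Let k be a field, P and Q group schemes locally of finite type over k and f : P ⟶ Q a homomorphism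
of k-group schemes whose underlying morphism of schemes is quasi-affine. Then f is affine. -/
theorem result (k : Type u) [Field k] (P Q : Over (Spec (CommRingCat.of k))) [GrpObj P] [GrpObj Q]
    [LocallyOfFiniteType P.hom] [LocallyOfFiniteType Q.hom] (f : P ⟶ Q) [IsMonHom f] (hf : Mor2.IsQuasiAffine f.left) :
    IsAffineHom f.left := by
  haveI := hf.1
  obtain ⟨K, gK, i, _, _, -, hker⟩ := Groth.L08.AbelianGrp.exists_kernel f
  have sq : IsPullback i.left (toUnit K).left f.left η[Q].left := hker.map (Over.forget _)
  haveI : QuasiCompact (toUnit K).left := MorphismProperty.of_isPullback sq hf.1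
  haveI : LocallyOfFiniteType K.hom := by rw [← Over.w i]; infer_instance
  haveI : CompactSpace (𝟙_ (Over (Spec (CommRingCat.of k)))).left :=
    inferInstanceAs (CompactSpace (PrimeSpectrum k))
  have hKc : CompactSpace K.left :=
    QuasiCompact.compactSpace_of_compactSpace (toUnit K).left
  obtain ⟨V, hV, hpV, -⟩ := exists_isAffineOpen_mem_and_subset (X := Q.left)
    (x := η[Q].left (IsLocalRing.closedPoint k)) (U := ⊤) trivial
  have hr : Set.range i.left ⊆ Set.range (f.left ⁻¹ᵁ V).ι := by
    rw [Scheme.Opens.range_ι]
    rintro _ ⟨x, rfl⟩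
    show f.left (i.left x) ∈ V
    rw [← Scheme.Hom.comp_apply, sq.w, Scheme.Hom.comp_apply]
    haveI : Subsingleton (PrimeSpectrum k) := inferInstance
    rw [show (toUnit K).left x = IsLocalRing.closedPoint k from @Subsingleton.elim _ (inferInstanceAs (Subsingleton (PrimeSpectrum k))) _ _]
    exact hpV
  let l := IsOpenImmersion.lift (f.left ⁻¹ᵁ V).ι i.left hr
  haveI := hf.2 V hV
  haveI : IsImmersion (l ≫ (f.left ⁻¹ᵁ V).ι) := by rw [IsOpenImmersion.lift_fac]; infer_instance
  haveI : IsImmersion l := IsImmersion.of_comp l (f.left ⁻¹ᵁ V).ι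
  haveI : K.left.IsQuasiAffine := Scheme.IsQuasiAffine.of_isImmersion l
  haveI : QuasiCompact K.hom := by
    rw [quasiCompact_iff_compactSpace]; exact hKc
  haveI : IsAffine K.left := Groth.Agent.S3020.result k K
  haveI : IsAffineHom (pullback.snd f.left η[Q].left) := by
    haveI : IsAffine (pullback f.left η[Q].left) := IsAffine.of_isIso sq.isoPullback.inv
    haveI : IsAffine (𝟙_ (Over (Spec (CommRingCat.of k)))).left := inferInstanceAs (IsAffine (Spec (CommRingCat.of k)))
    exact isAffineHom_of_isAffine _
  exact Groth.Lead.HomProper.field_case (P := @IsAffineHom) (fun j _ => inferInstance) f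
    (Groth.Lead.HomProper.snd_self_of_ker f inferInstance)

end Groth.Agent.S5654
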