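import Groth.Statements.S5656
import Mathlib.Algebra.Group.ForwardDiff
import Mathlib.RingTheory.Binomial
import Mathlib.Algebra.Polynomial.Roots
import Mathlib.Tactic

set_option autoImplicit false
universe u
open W4sga6xxiii

namespace Groth.Agent.S5656

open Polynomial in
/-- A polynomial map is polynomial along every line. -/
theorem exists_line_poly {G : Type u} [AddCommGroup G] {f : G → ℚ} (hf : W4sga6xxiii.IsPolyMap f)
    (a x : G) : ∃ P : ℚ[X], ∀ n : ℤ, P.eval (n : ℚ) = f (a + n • x) := by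
  obtain ⟨m, y, -, hy⟩ := hf 2 ![a, x]
  refine ⟨∑ k : Fin 2 → Fin (m + 1), C (((Ring.choose (1 : ℤ) (k 0 : ℕ) : ℤ) : ℚ) * y k *
    (((k 1 : ℕ).factorial : ℚ))⁻¹) * (descPochhammer ℤ (k 1 : ℕ)).map (Int.castRingHom ℚ),
    fun n => ?_⟩
  have h := hy ![1, n]
  simp only [Fin.sum_univ_two, Matrix.cons_val_zero, Matrix.cons_val_one, one_smul,
    Fin.prod_univ_two] at h
  rw [h, Polynomial.eval_finset_sum]
  refine Finset.sum_congr rfl fun k _ => ?_
  have e : ((descPochhammer ℤ (k 1 : ℕ)).map (Int.castRingHom ℚ)).eval (n : ℚ)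
      = ((k 1 : ℕ).factorial : ℚ) * ((Ring.choose n (k 1 : ℕ) : ℤ) : ℚ) := by
    rw [Polynomial.eval_map, show (n : ℚ) = Int.castRingHom ℚ n from rfl,
      Polynomial.eval₂_hom]
    have h2 := Ring.descPochhammer_eq_factorial_smul_choose n (k 1 : ℕ)
    rw [← Polynomial.eval_eq_smeval] at h2
    rw [h2]
    simp [nsmul_eq_mul]
  rw [Polynomial.eval_mul, Polynomial.eval_C, e, zsmul_eq_mul, Int.cast_mul]
  field_simp

open Polynomial in
/-- Congruence for integer valued polynomials. -/
theorem dvd_factorial_mul_sub (Q : ℚ[X]) (d : ℕ) (hd : Q.natDegree ≤ d) (u : ℕ → ℤ)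
    (hu : ∀ n : ℕ, Q.eval (n : ℚ) = u n) (m : ℕ) : (m : ℤ) ∣ d.factorial * (u m - u 0) := by
  have hΔ : ∀ k, d < k → (fwdDiff (1 : ℕ))^[k] u 0 = 0 := by
    intro k hk
    have h1 := congrFun (Polynomial.fwdDiff_iter_eq_zero_of_degree_lt (hd.trans_lt hk)) (0 : ℚ)
    rw [fwdDiff_iter_eq_sum_shift] at h1 ⊢
    have : ((∑ i ∈ Finset.range (k + 1), ((-1 : ℤ) ^ (k - i) * k.choose i) • u (0 + i • 1) : ℤ)
        : ℚ) = 0 := by
      push_cast [smul_eq_mul]
      simpa [hu, zsmul_eq_mul] using h1
    exact_mod_cast this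
  have hN := shift_eq_sum_fwdDiff_iter (1 : ℕ) u m 0
  simp only [smul_eq_mul, mul_one, zero_add, nsmul_eq_mul] at hN
  rw [Finset.sum_range_succ'] at hN
  simp only [Nat.choose_zero_right, Nat.cast_one, one_mul, Function.iterate_zero, id_eq] at hN
  rw [hN, add_sub_cancel_right, Finset.mul_sum]
  refine Finset.dvd_sum fun k _ => ?_
  rcases Nat.lt_or_ge d (k + 1) with hk | hk
  · simp [hΔ _ hk]
  have h2 : (m : ℤ) ∣ d.factorial * m.choose (k + 1) := by
    have h3 : (m : ℕ) ∣ (k + 1).factorial * m.choose (k + 1) := by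
      rw [← Nat.descFactorial_eq_factorial_mul_choose]
      cases m with
      | zero => simp
      | succ m => exact ⟨_, Nat.succ_descFactorial_succ m k⟩
    exact_mod_cast h3.trans (mul_dvd_mul_right (Nat.factorial_dvd_factorial hk) _)
  rw [← mul_assoc]
  exact h2.mul_right _


/-- Let G be an abelian group and G' ⊆ G a subgroup which is divisible by some prime number p (every
element of G' is p times an element of G') and such that G/G' is a torsion group. Then every
polynomial map f : G → ℚ (admitting binomial expansions f(Σ n_i x_i) = Σ_k Π_i C(n_i, k_i) y_k along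
every finite sequence x) which takes only integer values is constant. -/
theorem result {G : Type u} [AddCommGroup G] (G' : AddSubgroup G)
    (p : ℕ) (hp : p.Prime) (hdiv : ∀ x ∈ G', ∃ y ∈ G', p • y = x) (htor : ∀ x : G, ∃ n : ℤ, n ≠ 0 ∧ n • x ∈ G')
    (f : G → ℚ) (hf : W4sga6xxiii.IsPolyMap f) (hint : ∀ x, ∃ z : ℤ, f x = z) (x : G) : f x = f 0 := by
  classical
  choose z hz using hint
  have key : ∀ a : G, ∀ w ∈ G', f (a + w) = f a := by
    intro a w hw
    obtain ⟨P, hP⟩ := exists_line_poly hf a w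
    have hdvd : ∀ t : ℕ, ((p ^ t : ℕ) : ℤ) ∣ (P.natDegree.factorial : ℤ) * (z (a + w) - z a) := by
      intro t
      have hdiv' : ∃ v ∈ G', (p ^ t) • v = w := by
        induction t with
        | zero => exact ⟨w, hw, by simp⟩
        | succ t ih =>
          obtain ⟨v, hv, hvw⟩ := ih
          obtain ⟨v', hv', hvv⟩ := hdiv v hv
          exact ⟨v', hv', by rw [pow_succ, mul_smul, hvv, hvw]⟩
      obtain ⟨v, -, hvw⟩ := hdiv'
      obtain ⟨Q, hQ⟩ := exists_line_poly hf a v
      have hcomp : P = Q.comp (Polynomial.C ((p ^ t : ℕ) : ℚ) * Polynomial.X) := by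
        apply Polynomial.eq_of_infinite_eval_eq
        refine Set.Infinite.mono ?_ (Set.infinite_range_of_injective
          (f := fun n : ℤ => (n : ℚ)) Int.cast_injective)
        rintro _ ⟨n, rfl⟩
        have e : ((p ^ t : ℕ) : ℚ) * (n : ℚ) = (((p ^ t : ℕ) * n : ℤ) : ℚ) := by push_cast; ring
        simp only [Set.mem_setOf_eq, Polynomial.eval_comp, Polynomial.eval_mul,
          Polynomial.eval_C, Polynomial.eval_X]
        rw [hP, e, hQ, mul_comm, mul_smul, natCast_zsmul, hvw]
      have hdeg : Q.natDegree = P.natDegree := by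
        rw [hcomp, Polynomial.natDegree_comp, Polynomial.natDegree_C_mul_X, mul_one]
        exact_mod_cast (pow_pos hp.pos t).ne'
      have h := dvd_factorial_mul_sub Q P.natDegree hdeg.le (fun n => z (a + (n : ℤ) • v))
        (fun n => by rw [← hz, ← hQ]; norm_num) (p ^ t)
      have hvw' : ((p ^ t : ℕ) : ℤ) • v = w := by rw [natCast_zsmul, hvw]
      simp only [hvw'] at h
      simpa using h
    by_contra hne
    have h0 : ((P.natDegree.factorial : ℤ) * (z (a + w) - z a)).natAbs ≠ 0 := by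
      refine Int.natAbs_ne_zero.2 (mul_ne_zero (by exact_mod_cast Nat.factorial_ne_zero _) ?_)
      intro h
      exact hne (by rw [hz, hz, sub_eq_zero.1 h])
    set M := ((P.natDegree.factorial : ℤ) * (z (a + w) - z a)).natAbs
    have := Nat.le_of_dvd (Nat.pos_of_ne_zero h0) (Int.natCast_dvd.1 (hdvd M))
    exact absurd this (not_le.2 (Nat.lt_pow_self hp.one_lt))
  obtain ⟨n, hn, hnx⟩ := htor x
  obtain ⟨P, hP⟩ := exists_line_poly hf 0 x
  have hPc : P = Polynomial.C (f 0) := by
    apply Polynomial.eq_of_infinite_eval_eq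
    refine Set.Infinite.mono ?_ (Set.infinite_range_of_injective
      (f := fun m : ℤ => ((m * n : ℤ) : ℚ)) fun a b hab => mul_right_cancel₀ hn (Int.cast_injective hab))
    rintro _ ⟨m, rfl⟩
    simp only [Set.mem_setOf_eq, Polynomial.eval_C]
    rw [hP, mul_smul, zero_add]
    simpa using key 0 _ (G'.zsmul_mem hnx m)
  have := hP 1
  rw [hPc, Polynomial.eval_C, one_smul, zero_add] at this
  exact this.symm

end Groth.Agent.S5656
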