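import Groth.Statements.S5657
import Mathlib.RingTheory.Ideal.BigOperators
import Mathlib.Tactic.Abel
import Mathlib.RingTheory.Binomial
import Mathlib.Algebra.BigOperators.Fin

set_option autoImplicit false
universe u
open TensorProduct
open W4sga6xxiii

namespace Groth.Agent.S5657

open TensorProduct

theorem zpow_eq_sum {A : Type u} [CommRing A] (u : Aˣ) {m : ℕ} (hu : ((u : A) - 1) ^ (m + 1) = 0) :
    ∀ n : ℤ, ((u ^ n : Aˣ) : A) = ∑ j : Fin (m + 1), (Ring.choose n (j : ℕ)) • ((u : A) - 1) ^ (j : ℕ) := by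
  set e := (u : A) - 1 with he
  let S : ℤ → A := fun n => ∑ j ∈ Finset.range (m + 1), Ring.choose n j • e ^ j
  have hstep : ∀ n, S (n + 1) = (u : A) * S n := by
    intro n
    have hu' : (u : A) = 1 + e := by rw [he]; ring
    show (∑ j ∈ Finset.range (m + 1), Ring.choose (n + 1) j • e ^ j) =
      (u : A) * ∑ j ∈ Finset.range (m + 1), Ring.choose n j • e ^ j
    rw [hu', add_mul, one_mul, Finset.mul_sum, Finset.sum_range_succ' (fun j => Ring.choose (n + 1) j • e ^ j),
      Finset.sum_range_succ' (fun j => Ring.choose n j • e ^ j),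
      Finset.sum_range_succ (fun j => e * Ring.choose n j • e ^ j)]
    simp only [Ring.choose_succ_succ, add_smul, Finset.sum_add_distrib, Ring.choose_zero_right,
      mul_smul_comm, ← pow_succ', hu, smul_zero, add_zero]
    abel
  suffices h : ∀ n, ((u ^ n : Aˣ) : A) = S n by
    intro n
    rw [h n]
    exact (Fin.sum_univ_eq_sum_range (fun j => Ring.choose n j • e ^ j) (m + 1)).symm
  intro n
  induction n using Int.induction_on with
  | zero =>
    simp only [S, zpow_zero, Units.val_one]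
    rw [Finset.sum_range_succ', Finset.sum_eq_zero fun j _ => by rw [Ring.choose_zero_succ, zero_smul]]
    simp
  | succ i ih => rw [hstep, ← ih, zpow_add_one, Units.val_mul, mul_comm]
  | pred i ih =>
    have h := hstep (-(i : ℤ) - 1)
    rw [sub_add_cancel, ← ih] at h
    have h2 : (u : A) * ((u ^ (-(i : ℤ) - 1) : Aˣ) : A) = ((u ^ (-(i : ℤ)) : Aˣ) : A) := by
      rw [← Units.val_mul, ← zpow_one_add]; congr 2; ring
    exact u.isUnit.mul_left_cancel (h2.trans h)


/-- Let A be a commutative ring, I an ideal of A with I^{m+1} = 0, and P ⊆ Aˣ the subgroup of units of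
the form 1 + y with y ∈ I. Then the map P → A ⊗_ℤ ℚ, x ↦ x ⊗ 1, is a polynomial map of degree ≤ m on
the abelian group P (written additively): along every finite sequence x_1, …, x_r in P one has
x_1^{n_1}⋯x_r^{n_r} ⊗ 1 = Σ_k Π_i C(n_i, k_i) y_k with y_k = 0 whenever k_1 + ⋯ + k_r > m. -/
theorem result (A : Type u) [CommRing A] (I : Ideal A) (m : ℕ) (hI : I ^ (m + 1) = ⊥)
    (P : Subgroup Aˣ) (hP : ∀ u : Aˣ, u ∈ P ↔ (u : A) - 1 ∈ I) :
    W4sga6xxiii.IsPolyMapLE (fun u : Additive P => (((Additive.toMul u : P) : Aˣ) : A) ⊗ₜ[ℤ] (1 : ℚ)) m := by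
  classical
  intro r x
  let v : Fin r → Aˣ := fun i => ((Additive.toMul (x i) : P) : Aˣ)
  have hv : ∀ i, (v i : A) - 1 ∈ I := fun i => (hP _).mp (Additive.toMul (x i)).2
  let y₀ : (Fin r → Fin (m + 1)) → A := fun k => ∏ i, ((v i : A) - 1) ^ (k i : ℕ)
  refine ⟨fun k => y₀ k ⊗ₜ[ℤ] (1 : ℚ), fun k hk => ?_, fun n => ?_⟩
  · have hmem : y₀ k ∈ ∏ i, I ^ (k i : ℕ) :=
      Ideal.prod_mem_prod fun i _ => Ideal.pow_mem_pow (hv i) _
    rw [Finset.prod_pow_eq_pow_sum] at hmem
    have hz : y₀ k = 0 := by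
      have := Ideal.pow_le_pow_right (show m + 1 ≤ ∑ i, (k i : ℕ) by omega) hmem
      rwa [hI, Submodule.mem_bot] at this
    simp only [hz, TensorProduct.zero_tmul]
  · have he : ∀ i, ((v i : A) - 1) ^ (m + 1) = 0 := fun i => by
      have := Ideal.pow_mem_pow (hv i) (m + 1)
      rwa [hI, Submodule.mem_bot] at this
    have hprod : (((Additive.toMul (∑ i, n i • x i) : P) : Aˣ) : A) =
        ∏ i, ((v i ^ n i : Aˣ) : A) := by
      simp [v]
    show ((((Additive.toMul (∑ i, n i • x i) : P) : Aˣ) : A)) ⊗ₜ[ℤ] (1 : ℚ) = _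
    rw [hprod, Finset.prod_congr rfl fun i _ => zpow_eq_sum (v i) (he i) (n i), Fintype.prod_sum,
      TensorProduct.sum_tmul]
    refine Finset.sum_congr rfl fun k _ => ?_
    rw [TensorProduct.smul_tmul', show (∏ i, Ring.choose (n i) (k i : ℕ)) • y₀ k =
      ∏ i, Ring.choose (n i) (k i : ℕ) • ((v i : A) - 1) ^ (k i : ℕ) by
        simp [y₀, zsmul_eq_mul, Finset.prod_mul_distrib]]

end Groth.Agent.S5657
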