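import Mathlib.LinearAlgebra.Matrix.GeneralLinearGroup.Defs
import Mathlib.LinearAlgebra.Matrix.SpecialLinearGroup
import Mathlib.RingTheory.Etale.Basic
import Mathlib.RingTheory.Spectrum.Prime.Basic
import Mathlib.GroupTheory.Commutator.Basic
import Groth.Agent.L02.GLSpread
import Groth.Agent.L02.SLComm
import Mathlib.RingTheory.Etale.StandardEtale
import Mathlib.FieldTheory.IsAlgClosed.AlgebraicClosure
import Mathlib.RingTheory.LocalRing.Basic
import Mathlib.RingTheory.LocalRing.ResidueField.Ideal

set_option autoImplicit false
namespace CAlg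
end CAlg
universe u
open CAlg

namespace Groth.Agent.S5658

/-- On the big étale site of a scheme the sheaf of commutator subgroups of Gl(n) is Sl(n) = Ker(det).
Concretely: let A be a commutative ring, n ≥ 0, s ∈ SL_n(A) and p a prime ideal of A. Then there are
an étale A-algebra A' with a prime ideal lying over p such that the image of s in GL_n(A') lies in
the commutator subgroup of GL_n(A'). (The inclusion of commutators in SL_n being clear, this is the
content of the statement.) -/
theorem result (A : Type u) [CommRing A] (n : ℕ)
    (s : Matrix.SpecialLinearGroup (Fin n) A) (p : PrimeSpectrum A) :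
    ∃ (A' : Type u) (_ : CommRing A') (_ : Algebra A A'), Algebra.Etale A A' ∧
      (∃ q : PrimeSpectrum A', q.asIdeal.comap (algebraMap A A') = p.asIdeal) ∧
      (Matrix.GeneralLinearGroup.map (algebraMap A A')) (Matrix.SpecialLinearGroup.toGL s) ∈
        commutator (Matrix.GeneralLinearGroup (Fin n) A') := by
  obtain ⟨A', _, _, hA', q, hq, u, hu, hu1⟩ : ∃ (A' : Type u) (_ : CommRing A') (_ : Algebra A A'),
      Algebra.Etale A A' ∧ ∃ q : PrimeSpectrum A', q.asIdeal.comap (algebraMap A A') = p.asIdeal ∧
        ∃ u : A', u ∉ q.asIdeal ∧ u - 1 ∉ q.asIdeal := by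
    by_cases h2 : (2 : A) ∈ p.asIdeal
    · have h3 : (3 : A) ∉ p.asIdeal := fun h3 => p.2.ne_top ((Ideal.eq_top_iff_one _).mpr (by
        have := p.asIdeal.sub_mem h3 h2; norm_num at this; exact this))
      let P : StandardEtalePair A :=
        { f := Polynomial.X ^ 2 + Polynomial.X + 1
          monic_f := by monicity!
          g := Polynomial.C 3
          cond := ⟨-(2 * Polynomial.X + 1), 4, 1, by
            simp only [Polynomial.derivative_add, Polynomial.derivative_X_pow, Polynomial.derivative_X,
              Polynomial.derivative_one, Nat.cast_ofNat, map_ofNat, pow_one]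
            ring⟩ }
      let K := AlgebraicClosure p.asIdeal.ResidueField
      obtain ⟨x, hx⟩ := IsAlgClosed.exists_root
        (Polynomial.X ^ 2 + Polynomial.X + 1 : Polynomial K) (by
          rw [show (Polynomial.X ^ 2 + Polynomial.X + 1 : Polynomial K).degree = 2 by compute_degree!]
          norm_num)
      have hker : ∀ a : A, algebraMap A K a = 0 ↔ a ∈ p.asIdeal := fun a => by
        rw [IsScalarTower.algebraMap_apply A p.asIdeal.ResidueField K, map_eq_zero_iff _
          (FaithfulSMul.algebraMap_injective _ K), Ideal.algebraMap_residueField_eq_zero]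
      have hmap : P.HasMap (S := K) x := ⟨by simpa [P] using hx, by
        simp only [P, Polynomial.aeval_C]
        exact isUnit_iff_ne_zero.mpr fun h => h3 ((hker 3).mp h)⟩
      let φ := P.lift x hmap
      refine ⟨P.Ring, inferInstance, inferInstance, inferInstance, ⟨RingHom.ker φ.toRingHom, RingHom.ker_isPrime _⟩,
        ?_, P.X, ?_, ?_⟩
      · ext a
        simp only [Ideal.mem_comap, RingHom.mem_ker, AlgHom.toRingHom_eq_coe, RingHom.coe_coe,
          AlgHom.commutes]
        exact hker a
      · intro h
        have h' : φ P.X = 0 := h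
        rw [StandardEtalePair.lift_X] at h'
        rw [h'] at hx
        simp at hx
      · intro h
        have h' : φ (P.X - 1) = 0 := h
        rw [map_sub, map_one, StandardEtalePair.lift_X, sub_eq_zero] at h'
        subst h'
        refine h3 ((hker 3).mp ?_)
        rw [map_ofNat]
        simp at hx
        linear_combination hx
    · refine ⟨A, inferInstance, Algebra.id A, inferInstance, p, Ideal.comap_id _, -1, ?_, ?_⟩
      · intro h
        exact p.2.ne_top (Ideal.eq_top_of_isUnit_mem _ h isUnit_one.neg)
      · intro h
        exact h2 (by have := p.asIdeal.neg_mem h; norm_num at this; exact this)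
  let L := Localization.AtPrime q.asIdeal
  let ι := algebraMap A' L
  let s' : Matrix.GeneralLinearGroup (Fin n) A' :=
    Matrix.GeneralLinearGroup.map (algebraMap A A') (Matrix.SpecialLinearGroup.toGL s)
  have hcomm : Matrix.GeneralLinearGroup.map ι s' ∈ commutator (Matrix.GeneralLinearGroup (Fin n) L) := by
    refine Groth.L02.SLComm.mem_commutator (B := L) (Groth.L02.GLSpread.isUnit_map q.asIdeal hu).unit ?_ _ ?_
    · have := Groth.L02.GLSpread.isUnit_map q.asIdeal hu1
      simpa [map_sub] using this
    · refine Units.ext ?_
      show (((s : Matrix (Fin n) (Fin n) A).map (algebraMap A A')).map ι).det = 1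
      rw [Matrix.map_map, show ((ι : A' → L) ∘ algebraMap A A') = ⇑(ι.comp (algebraMap A A')) from rfl,
        ← RingHom.mapMatrix_apply, ← RingHom.map_det, s.2, map_one]
  obtain ⟨g, hg, hs⟩ := Groth.L02.GLSpread.exists_mem_commutator_away q.asIdeal s' hcomm
  letI : Algebra.Etale A A' := hA'
  refine ⟨Localization.Away g, inferInstance, inferInstance, inferInstance,
    ⟨⟨Ideal.map (algebraMap A' (Localization.Away g)) q.asIdeal, ?_⟩, ?_⟩, ?_⟩
  · exact IsLocalization.isPrime_of_isPrime_disjoint (Submonoid.powers g) _ q.asIdeal q.2
      (Set.disjoint_left.mpr fun x ⟨k, hk⟩ hx => hg (q.2.mem_of_pow_mem k (show g ^ k ∈ q.asIdeal from (show g ^ k = x from hk) ▸ hx)))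
  · show (q.asIdeal.map (algebraMap A' (Localization.Away g))).comap (algebraMap A (Localization.Away g)) = _
    rw [IsScalarTower.algebraMap_eq A A' (Localization.Away g), ← Ideal.comap_comap,
      show (q.asIdeal.map (algebraMap A' (Localization.Away g))).comap (algebraMap A' (Localization.Away g)) = q.asIdeal from IsLocalization.under_map_of_isPrime_disjoint (Submonoid.powers g) (Localization.Away g) q.2
        (Set.disjoint_left.mpr fun x ⟨k, hk⟩ hx => hg (q.2.mem_of_pow_mem k (show g ^ k ∈ q.asIdeal from (show g ^ k = x from hk) ▸ hx))), hq]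
  · convert! hs using 1
end Groth.Agent.S5658
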