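import Mathlib.LinearAlgebra.Matrix.GeneralLinearGroup.Defs
import Mathlib.RingTheory.Spectrum.Prime.Topology
import Mathlib.Algebra.Algebra.Hom
import Mathlib.Algebra.BigOperators.Group.Finset.Basic
import Groth.Agent.L02.GLLocal
import Groth.Agent.L02.GmChar
import Mathlib.LinearAlgebra.Matrix.GeneralLinearGroup.Defs
import Mathlib.RingTheory.Localization.AtPrime.Basic
import Mathlib.Data.Finset.NoncommProd

set_option autoImplicit false
namespace CAlg
end CAlg
universe u
open CAlg

namespace Groth.Agent.S5659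

/-- Every homomorphism of group sheaves Gl(n_1) × ⋯ × Gl(n_r) → G_m is (s_1, …, s_r) ↦ det(s_1)^{m_1} ⋯
det(s_r)^{m_r} with locally constant integers m_i uniquely determined by it. Concretely, over a
commutative ring R whose prime spectrum is connected and for ranks n_i ≥ 1: every family of group
homomorphisms α_B : GL_{n_1}(B) × ⋯ × GL_{n_r}(B) → Bˣ, one for each commutative R-algebra B and
natural in B, is given by α_B(s) = Π_i det(s_i)^{m_i} for a unique m ∈ ℤ^r. (The published statement
allows ranks n_i ≥ 0; uniqueness of m_i needs n_i ≥ 1, since Gl(0) is trivial.) -/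
theorem result (R : Type u) [CommRing R] [ConnectedSpace (PrimeSpectrum R)]
    (r : ℕ) (n : Fin r → ℕ) (hn : ∀ i, 0 < n i)
    (α : ∀ (B : Type u) [CommRing B] [Algebra R B], (∀ i, Matrix.GeneralLinearGroup (Fin (n i)) B) →* Bˣ)
    (hα : ∀ (B C : Type u) [CommRing B] [Algebra R B] [CommRing C] [Algebra R C] (φ : B →ₐ[R] C)
      (s : ∀ i, Matrix.GeneralLinearGroup (Fin (n i)) B),
      α C (fun i => Matrix.GeneralLinearGroup.map φ.toRingHom (s i)) = Units.map (φ.toRingHom : B →* C) (α B s)) :
    ∃! m : Fin r → ℤ, ∀ (B : Type u) [CommRing B] [Algebra R B] (s : ∀ i, Matrix.GeneralLinearGroup (Fin (n i)) B),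
      α B s = ∏ i, Matrix.GeneralLinearGroup.det (s i) ^ (m i) := by
  classical
  have hdiag : ∀ i, ∀ a : Fin (n i), ∃ m : ℤ, ∀ (B : Type u) [CommRing B] [Algebra R B] (u : Bˣ),
      α B (Pi.mulSingle i (Groth.L02.GLLocal.dg (Pi.mulSingle a u))) = u ^ m := by
    intro i a
    refine Groth.L02.GmChar.exists_zpow (fun B _ _ => (α B).comp
      ((MonoidHom.mulSingle (fun i => Matrix.GeneralLinearGroup (Fin (n i)) B) i).comp
        (Groth.L02.GLLocal.dg.comp (MonoidHom.mulSingle (fun _ : Fin (n i) => Bˣ) a)))) ?_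
    intro B C _ _ _ _ φ u
    refine Eq.trans ?_ (hα B C φ _)
    refine congrArg _ (funext fun j => ?_)
    rcases eq_or_ne j i with rfl | hj
    · simp only [MonoidHom.coe_comp, Function.comp_apply, MonoidHom.mulSingle_apply, Pi.mulSingle_eq_same]
      rw [Groth.L02.GLLocal.map_dg]
      refine congrArg _ (funext fun b => ?_)
      exact (Pi.apply_mulSingle (fun _ => Units.map ((φ.toRingHom : B →+* C) : B →* C))
        (fun _ => map_one _) a u b).symm
    · simp [Pi.mulSingle_eq_of_ne hj]
  choose m hm using hdiag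
  have hsame : ∀ i a a', m i a = m i a' := by
    intro i a a'
    obtain ⟨g, hg⟩ := Groth.L02.GLLocal.exists_conj_dg (R := AddMonoidAlgebra R ℤ) (Equiv.swap a a')
    let T : (AddMonoidAlgebra R ℤ)ˣ := (AddMonoidAlgebra.of R ℤ).toHomUnits (Multiplicative.ofAdd 1)
    have h1 : α _ (Pi.mulSingle i (g * Groth.L02.GLLocal.dg (Pi.mulSingle a T) * g⁻¹)) =
        α _ (Pi.mulSingle i (Groth.L02.GLLocal.dg (Pi.mulSingle a T))) := by
      rw [Pi.mulSingle_mul, Pi.mulSingle_mul, map_mul, map_mul, Pi.mulSingle_inv, map_inv]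
      exact mul_inv_cancel_comm _ _
    rw [hg, show ((Pi.mulSingle a T : Fin (n i) → _) ∘ (Equiv.swap a a')) = Pi.mulSingle a' T by
      ext1 b
      simp only [Function.comp_apply, Pi.mulSingle_apply, Equiv.swap_apply_def]
      split_ifs <;> simp_all, hm, hm] at h1
    haveI : Nontrivial R := by
      obtain ⟨⟨q, hq⟩⟩ := (inferInstance : Nonempty (PrimeSpectrum R))
      exact ⟨⟨0, 1, fun h => hq.ne_top ((Ideal.eq_top_iff_one q).mpr (h ▸ q.zero_mem))⟩⟩
    have h2 := congrArg Units.val h1
    simp only [T, ← map_zpow, ← ofAdd_zsmul, MonoidHom.coe_toHomUnits, AddMonoidAlgebra.of_apply,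
      toAdd_ofAdd, smul_eq_mul, mul_one] at h2
    exact (AddMonoidAlgebra.single_left_injective one_ne_zero h2).symm
  let M : Fin r → ℤ := fun i => m i ⟨0, hn i⟩
  have htv : ∀ (B : Type u) [CommRing B] [Algebra R B] i (a b : Fin (n i)) (hab : a ≠ b) (c : B),
      α B (Pi.mulSingle i (Groth.L02.GLLocal.tv a b hab c)) = 1 := by
    intro B _ _ i a b hab c
    refine Groth.L02.GmChar.eq_one_of_scale_invariant (R := R)
      (fun B _ _ c => α B (Pi.mulSingle i (Groth.L02.GLLocal.tv a b hab c))) ?_ ?_ ?_ B c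
    · intro B C _ _ _ _ φ c
      refine Eq.trans ?_ (hα B C φ _)
      refine congrArg _ (funext fun j => ?_)
      rcases eq_or_ne j i with rfl | hj
      · simp only [Pi.mulSingle_eq_same]
        exact (Groth.L02.GLLocal.map_tv φ.toRingHom a b hab c).symm
      · simp [Pi.mulSingle_eq_of_ne hj]
    · intro B _ _ w c
      have h := congrArg (fun g => α B (Pi.mulSingle i g))
        (Groth.L02.GLLocal.dg_mul_tv a b hab (Pi.mulSingle a w) c)
      simp only [Pi.mulSingle_mul, map_mul, Pi.mulSingle_eq_same, Pi.mulSingle_eq_of_ne hab.symm,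
        inv_one, Units.val_one, mul_one] at h
      rw [mul_comm (α B _) (α B _)] at h
      exact (mul_right_cancel h).symm
    · intro B _ _
      rw [show Groth.L02.GLLocal.tv a b hab (0 : B) = 1 from Units.ext (Matrix.transvection_zero _ _),
        Pi.mulSingle_one, map_one]
  have hloc : ∀ (B : Type u) [CommRing B] [Algebra R B] [IsLocalRing B] i
      (g : Matrix.GeneralLinearGroup (Fin (n i)) B),
      α B (Pi.mulSingle i g) = Matrix.GeneralLinearGroup.det g ^ M i := by
    intro B _ _ _ i g
    refine Groth.L02.GLLocal.mem_iff_forall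
      (((α B).comp (MonoidHom.mulSingle (fun i => Matrix.GeneralLinearGroup (Fin (n i)) B) i)).eqLocus
        ((zpowGroupHom (M i)).comp Matrix.GeneralLinearGroup.det)) ?_ ?_ g
    · intro a b hab c
      show α B (Pi.mulSingle i _) = Matrix.GeneralLinearGroup.det _ ^ M i
      rw [htv, show Matrix.GeneralLinearGroup.det (Groth.L02.GLLocal.tv a b hab c) = 1 from
        Units.ext (Matrix.det_transvection_of_ne _ _ hab _), one_zpow]
    · intro d
      show α B (Pi.mulSingle i _) = Matrix.GeneralLinearGroup.det _ ^ M i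
      rw [show Matrix.GeneralLinearGroup.det (Groth.L02.GLLocal.dg d) = ∏ a, d a from Units.ext (by
        rw [Units.coe_prod]; exact Matrix.det_diagonal), ← Finset.prod_zpow]
      conv_lhs => rw [← Finset.univ_prod_mulSingle d]
      show ((α B).comp ((MonoidHom.mulSingle (fun i => Matrix.GeneralLinearGroup (Fin (n i)) B) i).comp
        Groth.L02.GLLocal.dg)) _ = _
      rw [map_prod]
      refine Finset.prod_congr rfl fun a _ => ?_
      show α B (Pi.mulSingle i (Groth.L02.GLLocal.dg (Pi.mulSingle a (d a)))) = _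
      rw [hm i a, hsame i a ⟨0, hn i⟩]
  have hgen : ∀ (B : Type u) [CommRing B] [Algebra R B]
      (s : ∀ i, Matrix.GeneralLinearGroup (Fin (n i)) B),
      α B s = ∏ i, Matrix.GeneralLinearGroup.det (s i) ^ (M i) := by
    intro B _ _ s
    conv_lhs => rw [← Finset.noncommProd_mulSingle s, Finset.map_noncommProd, Finset.noncommProd_eq_prod]
    refine Finset.prod_congr rfl fun i _ => Units.ext ?_
    rw [← sub_eq_zero]
    by_contra hne
    obtain ⟨𝔪, hmax, hle⟩ := Ideal.exists_le_maximal
      (LinearMap.ker (LinearMap.toSpanSingleton B B _)) (fun h => hne (by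
        have := (Ideal.eq_top_iff_one _).mp h
        rwa [LinearMap.mem_ker, LinearMap.toSpanSingleton_apply, one_smul] at this))
    let L := Localization.AtPrime 𝔪
    let φ : B →ₐ[R] L := IsScalarTower.toAlgHom R B L
    have h := hloc L i (Matrix.GeneralLinearGroup.map φ.toRingHom (s i))
    rw [Matrix.GeneralLinearGroup.map_det] at h
    have h' := hα B L φ (Pi.mulSingle i (s i))
    rw [show (fun j => Matrix.GeneralLinearGroup.map φ.toRingHom ((Pi.mulSingle i (s i) :
        ∀ j, Matrix.GeneralLinearGroup (Fin (n j)) B) j)) =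
      Pi.mulSingle i (Matrix.GeneralLinearGroup.map φ.toRingHom (s i)) from funext fun j => by
        rcases eq_or_ne j i with rfl | hj
        · simp only [Pi.mulSingle_eq_same]
        · simp only [Pi.mulSingle_eq_of_ne hj, map_one],
      h, ← map_zpow] at h'
    have h'' := congrArg Units.val h'
    simp only [Units.coe_map] at h''
    obtain ⟨⟨c, hc⟩, hc'⟩ := (IsLocalization.eq_iff_exists 𝔪.primeCompl L).mp h''
    exact hc (hle (by
      rw [LinearMap.mem_ker, LinearMap.toSpanSingleton_apply, smul_eq_mul, mul_sub, sub_eq_zero]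
      exact hc'.symm))
  refine ⟨M, hgen, fun m' hm' => funext fun i => ?_⟩
  let T : (AddMonoidAlgebra R ℤ)ˣ := (AddMonoidAlgebra.of R ℤ).toHomUnits (Multiplicative.ofAdd 1)
  let s : ∀ j, Matrix.GeneralLinearGroup (Fin (n j)) (AddMonoidAlgebra R ℤ) :=
    Pi.mulSingle i (Groth.L02.GLLocal.dg (Pi.mulSingle ⟨0, hn i⟩ T))
  have hdet : Matrix.GeneralLinearGroup.det (s i) = T := Units.ext (by
    simp only [s, Pi.mulSingle_eq_same, Matrix.GeneralLinearGroup.val_det_apply,
      Groth.L02.GLLocal.dg_val, Matrix.det_diagonal]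
    rw [Fintype.prod_eq_single ⟨0, hn i⟩ (fun b hb => by simp [Pi.mulSingle_eq_of_ne hb])]
    simp)
  have h := (hm' _ s).symm.trans (hgen _ s)
  rw [Fintype.prod_eq_single i (fun j hj => by simp [s, Pi.mulSingle_eq_of_ne hj]),
    Fintype.prod_eq_single i (fun j hj => by simp [s, Pi.mulSingle_eq_of_ne hj]), hdet] at h
  haveI : Nontrivial R := by
    obtain ⟨⟨q, hq⟩⟩ := (inferInstance : Nonempty (PrimeSpectrum R))
    exact ⟨⟨0, 1, fun h => hq.ne_top ((Ideal.eq_top_iff_one q).mpr (h ▸ q.zero_mem))⟩⟩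
  have h2 := congrArg Units.val h
  simp only [T, ← map_zpow, ← ofAdd_zsmul, MonoidHom.coe_toHomUnits, AddMonoidAlgebra.of_apply,
    toAdd_ofAdd, smul_eq_mul, mul_one] at h2
  exact AddMonoidAlgebra.single_left_injective one_ne_zero h2

end Groth.Agent.S5659
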