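import Groth.Statements.S5662
import Groth.Agent.L24.DescHom.Pair
import Groth.Agent.L24.DescHom.Congr

set_option autoImplicit false
set_option backward.isDefEq.respectTransparency false
set_option backward.isDefEq.respectTransparency.types false
universe u
open CategoryTheory CategoryTheory.Limits AlgebraicGeometry
open FlatMor

namespace Groth.Agent.S5662

/-- Let f : X ⟶ Y be a morphism of schemes, p₁, p₂ : X ×_Y X ⟶ X the projections and g = p₁ ≫ f. Assume
that the sequence O_Y → f_*O_X ⇉ g_*O_{X ×_Y X} is exact, i.e. on every open U ⊆ Y the sections of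
O_Y are exactly the sections of O_X over f⁻¹U whose two pullbacks to g⁻¹U agree (hypotheses hinj,
hex; hU is the bookkeeping identity of the two preimage opens). Then f is a morphism of descent for
finite locally free modules: for finite locally free O_Y-modules L and M, every morphism φ : f^*L ⟶
f^*M whose pullbacks along p₁ and p₂ agree (compared through the canonical isomorphisms p_i^* f^* ≅
(p_i ≫ f)^* and p₁ ≫ f = p₂ ≫ f) is f^*ψ for a unique ψ : L ⟶ M. (The published statement is made
under further standing hypotheses (a surjective morphism between schemes proper and of finite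
presentation over an integral Noetherian base, with flatness conditions), of which its proof uses
only the exactness above; this row assumes only that exactness.) -/
theorem result {X Y : Scheme.{u}} (f : X ⟶ Y)
    (hU : ∀ U : Y.Opens, (pullback.fst f f) ⁻¹ᵁ (f ⁻¹ᵁ U) = (pullback.snd f f) ⁻¹ᵁ (f ⁻¹ᵁ U))
    (hinj : ∀ U : Y.Opens, Function.Injective (f.app U))
    (hex : ∀ (U : Y.Opens) (a : Γ(X, f ⁻¹ᵁ U)),
      (pullback.fst f f).app (f ⁻¹ᵁ U) a =
        ((pullback f f).presheaf.map (eqToHom (hU U)).op) ((pullback.snd f f).app (f ⁻¹ᵁ U) a) →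
      a ∈ Set.range (f.app U))
    (L M : Y.Modules) (hL : FlatMod.IsFinLocFree L) (hM : FlatMod.IsFinLocFree M)
    (φ : (Scheme.Modules.pullback f).obj L ⟶ (Scheme.Modules.pullback f).obj M)
    (hφ : ((Scheme.Modules.pullbackComp (pullback.fst f f) f).app L).inv ≫
        (Scheme.Modules.pullback (pullback.fst f f)).map φ ≫ ((Scheme.Modules.pullbackComp (pullback.fst f f) f).app M).hom =
      ((Scheme.Modules.pullbackCongr (pullback.condition (f := f) (g := f))).app L).hom ≫
        ((Scheme.Modules.pullbackComp (pullback.snd f f) f).app L).inv ≫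
        (Scheme.Modules.pullback (pullback.snd f f)).map φ ≫ ((Scheme.Modules.pullbackComp (pullback.snd f f) f).app M).hom ≫
        ((Scheme.Modules.pullbackCongr (pullback.condition (f := f) (g := f))).app M).inv) :
    ∃! ψ : L ⟶ M, (Scheme.Modules.pullback f).map ψ = φ := by
  have le : ∀ U : Y.Opens, (pullback.fst f f ≫ f) ⁻¹ᵁ U ≤ pullback.snd f f ⁻¹ᵁ (f ⁻¹ᵁ U) :=
    fun U => (hU U).le
  have H : Groth.L24.DescHom.Exact' f f (pullback.fst f f) (pullback.snd f f)
      (h := pullback.fst f f ≫ f) rfl pullback.condition.symm := by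
    refine ⟨fun U r h1 _ => hinj U (h1.trans (map_zero (f.app U).hom).symm), fun U a b hab => ?_⟩
    let d : X ⟶ pullback f f := pullback.lift (𝟙 X) (𝟙 X) rfl
    have hle : f ⁻¹ᵁ U ≤ d ⁻¹ᵁ ((pullback.fst f f ≫ f) ⁻¹ᵁ U) := by
      rw [← Scheme.Hom.comp_preimage, pullback.lift_fst_assoc, Category.id_comp]
    have key : ∀ (p : pullback f f ⟶ X) (_ : d ≫ p = 𝟙 X)
        (h : (pullback.fst f f ≫ f) ⁻¹ᵁ U ≤ p ⁻¹ᵁ (f ⁻¹ᵁ U)) (x : Γ(X, f ⁻¹ᵁ U)),
        d.appLE _ _ hle (p.appLE _ _ h x) = x := by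
      intro p hp h x
      rw [← CommRingCat.comp_apply, Scheme.Hom.appLE_comp_appLE]
      have k : ∀ (m : X ⟶ X) (_ : m = 𝟙 X) (e : f ⁻¹ᵁ U ≤ m ⁻¹ᵁ (f ⁻¹ᵁ U)), m.appLE _ _ e x = x := by
        rintro m rfl e
        simp [Scheme.Hom.appLE]
        exact ConcreteCategory.congr_hom (X.presheaf.map_id _) x
      exact k _ hp _
    have hba : a = b := (key _ (pullback.lift_fst _ _ _) le_rfl a).symm.trans
      ((congrArg _ hab).trans (key _ (pullback.lift_snd _ _ _) (le U) b))
    subst hba
    have e1 : (pullback.fst f f).appLE (f ⁻¹ᵁ U) ((pullback.fst f f ≫ f) ⁻¹ᵁ U) le_rfl a =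
        (pullback.fst f f).app (f ⁻¹ᵁ U) a :=
      congrArg (fun q : Γ(X, f ⁻¹ᵁ U) ⟶ Γ(pullback f f, pullback.fst f f ⁻¹ᵁ (f ⁻¹ᵁ U)) => q a)
        (Scheme.Hom.app_eq_appLE (pullback.fst f f) (U := f ⁻¹ᵁ U)).symm
    obtain ⟨r, hr⟩ := hex U a (e1.symm.trans hab)
    exact ⟨r, hr, hr⟩
  have hc : Groth.L24.DescHom.pullComp (pullback.fst f f) f rfl φ =
      Groth.L24.DescHom.pullComp (pullback.snd f f) f pullback.condition.symm φ := by
    rw [Groth.L24.DescHom.pullComp_self, Groth.L24.DescHom.pullComp_eq _ f pullback.condition φ]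
    simpa using hφ
  obtain ⟨ψ, hψ, -⟩ := Groth.L24.DescHom.exists_hom H M hM φ φ hc
  exact ⟨ψ, hψ, fun ψ' hψ' => Groth.L24.DescHom.hom_ext H M hM ψ' ψ (hψ'.trans hψ.symm) (hψ'.trans hψ.symm)⟩

end Groth.Agent.S5662
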