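import Groth.Statements.S5670
import Groth.Agent.L16.Connected.Fibre

set_option autoImplicit false
universe u
open Pi1

namespace Groth.Agent.S5670

open CategoryTheory CategoryTheory.Limits AlgebraicGeometry in
/-- Let `f : X → Y` be a proper morphism of Noetherian schemes such that `O_Y → f_* O_X` is an
isomorphism (bijective on sections over every open of `Y`). Then for every connected finite étale
`Y'` over `Y`, the base change `X ×_Y Y'` is connected; equivalently, `f` induces a surjection on
étale fundamental groups. -/
theorem result {X Y Y' : Scheme.{u}} (f : X ⟶ Y) [IsProper f] [IsNoetherian X] [IsNoetherian Y] (hf : ∀ U : Y.Opens, Function.Bijective (f.app U)) (g : Y' ⟶ Y) [IsFinite g] [Etale g] [ConnectedSpace Y'] : ConnectedSpace ↥(pullback f g) := by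
  haveI := Groth.L16.Connected.geometricallyConnected f (fun U => (ConcreteCategory.isIso_iff_bijective _).2 (hf U))
  haveI : GeometricallyConnected (pullback.snd f g) := MorphismProperty.pullback_snd _ _ ‹GeometricallyConnected f›
  let q := pullback.snd f g
  haveI : Surjective q := inferInstance
  have hfib : ∀ t, _root_.IsConnected (q ⁻¹' {t}) := fun t => by
    haveI : ConnectedSpace ↥(q.fiber t) := GeometricallyConnected.geometrically_connectedSpace (f := q) _ _ _
      (IsPullback.of_hasPullback q (Y'.fromSpecResidueField t))
    rw [← q.range_fiberι, ← Set.image_univ]
    exact isConnected_univ.image _ (q.fiberι t).continuous.continuousOn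
  have hq : Topology.IsQuotientMap q := q.isClosedMap.isQuotientMap q.continuous q.surjective
  have := hq.isCoinducing.isConnected_preimage_of_isClosed hfib isClosed_univ isConnected_univ
  rw [Set.preimage_univ] at this
  exact connectedSpace_iff_univ.2 this
end Groth.Agent.S5670
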