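import Groth.Statements.S5671
import Groth.Agent.L04.CMBasic
import Groth.Agent.L04.CMLoc
-- import your own Groth.Agent.* helpers here

set_option autoImplicit false
universe u
open CategoryTheory
open Dual

namespace Groth.Agent.S5671

/-- First assertion, in the local-algebra form to which its proof reduces it: let `A` be a regular local
ring of dimension `n`, `p ≥ 0`, and `M` a finite `A`-module whose support has dimension at most `n -
p`. Then `Ext^i_A(M, A) = 0` for every `i < p`. (The geometric statement: on a nonsingular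
`n`-dimensional variety the sheaves `Ext^i(F, L)` vanish for `i < p` when `F` is coherent with
support of dimension `≤ n - p` and `L` is locally free.) -/
theorem result (A : Type u) [CommRing A] [IsRegularLocalRing A] (M : Type u) [AddCommGroup M] [Module A M] [Module.Finite A M] (p : ℕ) (hdim : Module.supportDim A M + p ≤ ringKrullDim A) (i : ℕ) (hi : i < p) : Subsingleton (Abelian.Ext (ModuleCat.of A M) (ModuleCat.of A A) i) := by
  haveI := Groth.L04.isCohenMacaulayLocalRing_of_regular A
  obtain ⟨d, hd⟩ := Groth.L01.exists_dim_eq_nat (R := A)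
  have hdepth : (d : ℕ∞) ≤ LocCoh.depth A A := by
    have h := LocCoh.IsCohenMacaulayLocalRing.supportDim_eq_depth (R := A)
    rw [Module.supportDim_self_eq_ringKrullDim, hd] at h
    exact (WithBot.coe_inj.1 h).le
  rcases subsingleton_or_nontrivial M with hM | hM
  · have hz : 𝟙 (ModuleCat.of A M) = 0 := by ext n; exact Subsingleton.elim (α := M) _ _
    refine ⟨fun x y => ?_⟩
    rw [← Abelian.Ext.mk₀_id_comp x, ← Abelian.Ext.mk₀_id_comp y, hz, Abelian.Ext.mk₀_zero,
      Abelian.Ext.zero_comp, Abelian.Ext.zero_comp]
  obtain ⟨r, hr⟩ : ∃ r : ℕ, Module.supportDim A M = r := by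
    have h1 : Module.supportDim A M ≠ ⊥ := (Module.supportDim_ne_bot_iff_nontrivial A M).2 hM
    have h2 : Module.supportDim A M ≤ (d : WithBot ℕ∞) := (Module.supportDim_le_ringKrullDim A M).trans hd.le
    obtain ⟨e, he⟩ := WithBot.ne_bot_iff_exists.1 h1
    rw [← he] at h2 ⊢
    obtain ⟨r, hr, -⟩ := ENat.le_coe_iff.1 (WithBot.coe_le_coe.1 h2)
    exact ⟨r, by rw [hr]; rfl⟩
  rw [hr, hd] at hdim
  have hrp : r + p ≤ d := by exact_mod_cast hdim
  exact Groth.L04.subsingleton_ext_of_add_supportDim_lt hdepth r M hr.le i (by omega)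

end Groth.Agent.S5671
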