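import Groth.Statements.S5672
import Groth.Agent.S5671
import Mathlib.Algebra.Homology.DerivedCategory.Ext.ExactSequences
import Mathlib.Algebra.Homology.DerivedCategory.Ext.Linear
import Mathlib.RingTheory.KrullDimension.Module
-- import your own Groth.Agent.* helpers here

set_option autoImplicit false
universe u
open CategoryTheory
open Dual

namespace Groth.Agent.S5672

variable {A : Type u} [CommRing A]

/-- Restriction of a class along a linear map. -/
noncomputable def pre {X Y : Type u} [AddCommGroup X] [Module A X] [AddCommGroup Y] [Module A Y] {p : ℕ}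
    (f : X →ₗ[A] Y) (η : Abelian.Ext (ModuleCat.of A Y) (ModuleCat.of A A) p) :
    Abelian.Ext (ModuleCat.of A X) (ModuleCat.of A A) p :=
  (Abelian.Ext.mk₀ (ModuleCat.ofHom f)).comp η (zero_add p)

variable {X Y Z : Type u} [AddCommGroup X] [Module A X] [AddCommGroup Y] [Module A Y] [AddCommGroup Z] [Module A Z]
  {p : ℕ}

theorem pre_comp (f : X →ₗ[A] Y) (g : Y →ₗ[A] Z) (η : Abelian.Ext (ModuleCat.of A Z) (ModuleCat.of A A) p) :
    pre (g ∘ₗ f) η = pre f (pre g η) := by
  simp only [pre, Abelian.Ext.mk₀_comp_mk₀_assoc]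
  rfl

theorem pre_add (f g : X →ₗ[A] Y) (η : Abelian.Ext (ModuleCat.of A Y) (ModuleCat.of A A) p) :
    pre (f + g) η = pre f η + pre g η := by
  simp only [pre, ModuleCat.ofHom_add, Abelian.Ext.mk₀_add, Abelian.Ext.add_comp]

theorem pre_zero (η : Abelian.Ext (ModuleCat.of A Y) (ModuleCat.of A A) p) : pre (0 : X →ₗ[A] Y) η = 0 := by
  rw [pre, ModuleCat.ofHom_zero, Abelian.Ext.mk₀_zero, Abelian.Ext.zero_comp]

theorem pre_smul (a : A) (f : X →ₗ[A] Y) (η : Abelian.Ext (ModuleCat.of A Y) (ModuleCat.of A A) p) :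
    pre (a • f) η = a • pre f η := by
  rw [pre, show ModuleCat.ofHom (a • f) = a • ModuleCat.ofHom f from rfl, Abelian.Ext.mk₀_smul,
    Abelian.Ext.smul_comp]
  rfl

theorem pre_sum {ι : Type*} (s : Finset ι) (f : ι → (X →ₗ[A] Y))
    (η : Abelian.Ext (ModuleCat.of A Y) (ModuleCat.of A A) p) : pre (∑ i ∈ s, f i) η = ∑ i ∈ s, pre (f i) η := by
  classical
  induction s using Finset.induction_on with
  | empty => simp [pre_zero]
  | insert i s hi ih => rw [Finset.sum_insert hi, pre_add, ih, Finset.sum_insert hi]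

theorem pre_id (η : Abelian.Ext (ModuleCat.of A Y) (ModuleCat.of A A) p) : pre LinearMap.id η = η :=
  Abelian.Ext.mk₀_id_comp η

theorem pre_pre_add (f : X →ₗ[A] Y) (η η' : Abelian.Ext (ModuleCat.of A Y) (ModuleCat.of A A) p) :
    pre f (η + η') = pre f η + pre f η' :=
  Abelian.Ext.comp_add _ _ _ _

theorem pre_pre_sum {ι : Type*} (f : X →ₗ[A] Y) (s : Finset ι)
    (η : ι → Abelian.Ext (ModuleCat.of A Y) (ModuleCat.of A A) p) :
    pre f (∑ i ∈ s, η i) = ∑ i ∈ s, pre f (η i) := by
  classical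
  induction s using Finset.induction_on with
  | empty => simp [pre]
  | insert i s hi ih => rw [Finset.sum_insert hi, pre_pre_add, ih, Finset.sum_insert hi]

/-- A presentation by a free module over the quotient. -/
theorem exists_cover (J : Ideal A) (M : Type u) [AddCommGroup M] [Module A M] [Module.Finite A M]
    (hJM : J • (⊤ : Submodule A M) = ⊥) :
    ∃ (n : ℕ) (π : (Fin n → A ⧸ J) →ₗ[A] M), Function.Surjective π := by
  obtain ⟨n, s, hs⟩ := Module.Finite.exists_fin (R := A) (M := M)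
  have hkill : ∀ i, J ≤ LinearMap.ker (LinearMap.toSpanSingleton A M (s i)) := fun i a ha => by
    rw [LinearMap.mem_ker, LinearMap.toSpanSingleton_apply, ← Submodule.mem_bot A, ← hJM]
    exact Submodule.smul_mem_smul ha Submodule.mem_top
  refine ⟨n, ∑ i, (Submodule.liftQ J _ (hkill i)) ∘ₗ LinearMap.proj i, fun m => ?_⟩
  obtain ⟨c, hc⟩ := (Submodule.mem_span_range_iff_exists_fun A).mp (hs ▸ Submodule.mem_top : m ∈ Submodule.span A (Set.range s))
  refine ⟨fun i => Submodule.Quotient.mk (c i), ?_⟩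
  rw [LinearMap.sum_apply, ← hc]
  exact Finset.sum_congr rfl fun i _ => rfl

theorem supportDim_le_quotient (J : Ideal A) (M : Type u) [AddCommGroup M] [Module A M] [Module.Finite A M]
    (hJM : J • (⊤ : Submodule A M) = ⊥) : Module.supportDim A M ≤ ringKrullDim (A ⧸ J) := by
  rw [← Module.supportDim_quotient_eq_ringKrullDim]
  refine Order.krullDim_le_of_strictMono (fun a => ⟨a.1, ?_⟩) (fun a b h => h)
  have h1 : a.1 ∈ PrimeSpectrum.zeroLocus (J : Set A) := by
    have h2 : a.1 ∈ PrimeSpectrum.zeroLocus (Module.annihilator A M : Set A) :=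
      (Set.ext_iff.mp Module.support_eq_zeroLocus a.1).mp a.2
    refine Set.Subset.trans (fun x hx => ?_) h2
    refine Module.mem_annihilator.mpr fun m => ?_
    rw [← Submodule.mem_bot A, ← hJM]
    exact Submodule.smul_mem_smul hx Submodule.mem_top
  rw [Module.support_eq_zeroLocus (M := A ⧸ J), Ideal.annihilator_quotient]
  exact h1

theorem smul_top_ker (J : Ideal A) {n : ℕ} (π : (Fin n → A ⧸ J) →ₗ[A] X) :
    J • (⊤ : Submodule A (LinearMap.ker π)) = ⊥ := by
  rw [eq_bot_iff, Submodule.smul_le]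
  intro a ha m _
  rw [Submodule.mem_bot]
  refine Subtype.ext (funext fun i => ?_)
  obtain ⟨b, hb⟩ := Submodule.Quotient.mk_surjective J ((m : Fin n → A ⧸ J) i)
  show a • ((m : Fin n → A ⧸ J) i) = 0
  rw [← hb, ← Submodule.Quotient.mk_smul, Submodule.Quotient.mk_eq_zero]
  exact J.mul_mem_right _ ha

theorem shortExact_ker {n : ℕ} (J : Ideal A) (π : (Fin n → A ⧸ J) →ₗ[A] X) (hπ : Function.Surjective π) :
    (ShortComplex.mk (ModuleCat.ofHom (LinearMap.ker π).subtype) (ModuleCat.ofHom π)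
      (ModuleCat.hom_ext (LinearMap.ext fun z => LinearMap.mem_ker.mp z.2))).ShortExact :=
  { exact := (ShortComplex.ShortExact.moduleCat_exact_iff_function_exact _).2 π.exact_subtype_ker_map
    mono_f := (ModuleCat.mono_iff_injective _).2 (LinearMap.ker π).injective_subtype
    epi_g := (ModuleCat.epi_iff_surjective _).2 hπ }

theorem eq_sum_single {n : ℕ} {R : Type u} [AddCommGroup R] [Module A R] :
    (LinearMap.id : (Fin n → R) →ₗ[A] (Fin n → R)) =
      ∑ i, LinearMap.single A (fun _ => R) i ∘ₗ LinearMap.proj i := by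
  refine LinearMap.ext fun x => ?_
  simp [LinearMap.sum_apply, Finset.univ_sum_single]

theorem pre_injective [IsRegularLocalRing A] (p : ℕ) (J : Ideal A) (hJ : ringKrullDim (A ⧸ J) + p ≤ ringKrullDim A)
    (M : Type u) [AddCommGroup M] [Module A M] [Module.Finite A M] (hJM : J • (⊤ : Submodule A M) = ⊥)
    (ξ : Abelian.Ext (ModuleCat.of A M) (ModuleCat.of A A) p) (h : ∀ u : (A ⧸ J) →ₗ[A] M, pre u ξ = 0) : ξ = 0 := by
  obtain ⟨n, π, hπ⟩ := exists_cover J M hJM
  have h0 : pre π ξ = 0 := by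
    rw [← pre_id (pre π ξ), eq_sum_single, pre_sum]
    refine Finset.sum_eq_zero fun i _ => ?_
    rw [pre_comp, ← pre_comp (LinearMap.single A (fun _ => A ⧸ J) i) π, h]
    simp [pre]
  have hS := shortExact_ker J π hπ
  rcases p with _ | q
  · obtain ⟨f, rfl⟩ := Abelian.Ext.homEquiv₀.symm.surjective ξ
    haveI := hS.epi_g
    rw [pre] at h0
    have h1 : Abelian.Ext.mk₀ (ModuleCat.ofHom π ≫ f) = 0 := by
      rw [← Abelian.Ext.mk₀_comp_mk₀]; exact h0
    rw [show f = 0 from by
      have h2 : ModuleCat.ofHom π ≫ f = 0 := by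
        simpa using congrArg Abelian.Ext.homEquiv₀ h1
      exact Limits.zero_of_epi_comp (ModuleCat.ofHom π) h2]
    exact Abelian.Ext.mk₀_zero _ _
  · obtain ⟨x, rfl⟩ := Abelian.Ext.contravariant_sequence_exact₃ hS (ModuleCat.of A A) ξ h0 (n₀ := q) (add_comm 1 q)
    haveI : IsNoetherianRing A := inferInstance
    haveI : Module.Finite A (LinearMap.ker π) := Module.Finite.iff_fg.mpr (IsNoetherian.noetherian _)
    haveI := Groth.Agent.S5671.result A (LinearMap.ker π) (q + 1)
      ((add_le_add (supportDim_le_quotient J _ (smul_top_ker J π)) le_rfl).trans hJ) q (by omega)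
    have hx : x = 0 := Subsingleton.elim _ _
    rw [hx, Abelian.Ext.comp_zero]

/-- Let `A` be a regular local ring of dimension `n`, `J` an ideal with `dim(A/J) ≤ n - p`, and `M` a
finite `A`-module with `JM = 0`. For `ξ ∈ Ext^p_A(M, A)` and an `A`-linear `u : A/J → M` write `u^*ξ
∈ Ext^p_A(A/J, A)` for the pullback. Then `ξ ↦ (u ↦ u^*ξ)` is injective, and every `A`-linear map
`Hom_A(A/J, M) → Ext^p_A(A/J, A)` is of the form `u ↦ u^*ξ` for some `ξ`. Since `Hom_A(A/J, M) = M`
here, this says that the canonical map `Ext^p_A(M, A) → Hom_A(M, Ext^p_A(A/J, A))` is bijective. -/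
theorem result (A : Type u) [CommRing A] [IsRegularLocalRing A] (p : ℕ) (J : Ideal A) (hJ : ringKrullDim (A ⧸ J) + p ≤ ringKrullDim A) (M : Type u) [AddCommGroup M] [Module A M] [Module.Finite A M] (hJM : J • (⊤ : Submodule A M) = ⊥) : Function.Injective (fun ξ : Abelian.Ext (ModuleCat.of A M) (ModuleCat.of A A) p => fun u : (A ⧸ J) →ₗ[A] M => (Abelian.Ext.mk₀ (ModuleCat.ofHom u)).comp ξ (zero_add p)) ∧ ∀ g : ((A ⧸ J) →ₗ[A] M) →ₗ[A] Abelian.Ext (ModuleCat.of A (A ⧸ J)) (ModuleCat.of A A) p, ∃ ξ : Abelian.Ext (ModuleCat.of A M) (ModuleCat.of A A) p, ∀ u : (A ⧸ J) →ₗ[A] M, g u = (Abelian.Ext.mk₀ (ModuleCat.ofHom u)).comp ξ (zero_add p) := by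
  refine ⟨fun ξ η hξη => sub_eq_zero.mp (pre_injective p J hJ M hJM (ξ - η) fun u => ?_), fun g => ?_⟩
  · have : pre u ξ = pre u η := congrFun hξη u
    have h2 := pre_pre_add u (ξ - η) η
    rw [sub_add_cancel, this] at h2
    exact (add_eq_right.mp h2.symm)
  obtain ⟨n, π, hπ⟩ := exists_cover J M hJM
  let e : Fin n → ((A ⧸ J) →ₗ[A] (Fin n → A ⧸ J)) := fun i => LinearMap.single A (fun _ => A ⧸ J) i
  let η : Abelian.Ext (ModuleCat.of A (Fin n → A ⧸ J)) (ModuleCat.of A A) p :=
    ∑ i, pre (LinearMap.proj i) (g (π ∘ₗ e i))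
  have key : ∀ w : (A ⧸ J) →ₗ[A] (Fin n → A ⧸ J), pre w η = g (π ∘ₗ w) := by
    intro w
    choose a ha using fun i => Submodule.Quotient.mk_surjective J (w (Submodule.Quotient.mk 1) i)
    have hw : ∀ i, LinearMap.proj i ∘ₗ w = a i • LinearMap.id := fun i =>
      Submodule.linearMap_qext _ (LinearMap.ext_ring (by
        show w (Submodule.Quotient.mk 1) i = a i • Submodule.Quotient.mk 1
        rw [← ha, ← Submodule.Quotient.mk_smul, smul_eq_mul, mul_one]))
    have hw' : w = ∑ i, a i • e i := by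
      refine Submodule.linearMap_qext _ (LinearMap.ext_ring (funext fun j => ?_))
      show w (Submodule.Quotient.mk 1) j = _
      rw [← ha]
      simp [e, Finset.sum_apply, Pi.single_apply, ← Submodule.Quotient.mk_smul]
      rw [Algebra.smul_def, mul_one]
      rfl
    rw [pre_pre_sum]
    simp only [← pre_comp, hw, pre_smul, pre_id]
    rw [hw', show π ∘ₗ ∑ i, a i • e i = ∑ i, π ∘ₗ (a i • e i) from map_sum (LinearMap.llcomp A (A ⧸ J) (Fin n → A ⧸ J) M π) _ _, map_sum]
    simp [LinearMap.comp_smul]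
  have hS := shortExact_ker J π hπ
  haveI : Module.Finite A (LinearMap.ker π) := Module.Finite.iff_fg.mpr (IsNoetherian.noetherian _)
  have hι : pre (LinearMap.ker π).subtype η = 0 := by
    refine pre_injective p J hJ _ (smul_top_ker J π) _ fun v => ?_
    rw [← pre_comp, key, show π ∘ₗ ((LinearMap.ker π).subtype ∘ₗ v) = 0 from
      LinearMap.ext fun x => LinearMap.mem_ker.mp (v x).2, map_zero]
  obtain ⟨ξ, hξ⟩ := Abelian.Ext.contravariant_sequence_exact₂ hS (ModuleCat.of A A) η hι
  refine ⟨ξ, fun u => ?_⟩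
  obtain ⟨z, hz⟩ := hπ (u (Submodule.Quotient.mk 1))
  choose a ha using fun i => Submodule.Quotient.mk_surjective J (z i)
  have hu : u = π ∘ₗ ∑ i, a i • e i := by
    refine Submodule.linearMap_qext _ (LinearMap.ext_ring ?_)
    show u (Submodule.Quotient.mk 1) = π ((∑ i, a i • e i) (Submodule.Quotient.mk 1))
    rw [← hz, LinearMap.sum_apply]
    congr 1
    conv_lhs => rw [← Finset.univ_sum_single z]
    refine Finset.sum_congr rfl fun i _ => ?_
    show _ = a i • LinearMap.single A (fun _ : Fin n => A ⧸ J) i (Submodule.Quotient.mk 1)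
    rw [← map_smul, ← Submodule.Quotient.mk_smul, smul_eq_mul, mul_one, ha]
    rfl
  show g u = pre u ξ
  rw [hu, pre_comp, ← key, show pre π ξ = η from hξ]

end Groth.Agent.S5672
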