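import Groth.Statements.S5674
import Groth.Agent.L22.ExtSh.Codim
import Groth.Agent.L17.SSClass
import Groth.Agent.L17.Duality
import Groth.Agent.L17.PushQCoh
import Groth.Agent.L23.LocalDimEtale
import Groth.Agent.S2768
import Groth.Agent.S11919
import Groth.Agent.L03.Euler.Basic
-- import your own Groth.Agent.* helpers here

set_option autoImplicit false
universe u
open CategoryTheory CategoryTheory.Limits AlgebraicGeometry
open ProjDual

namespace Groth.Agent.S5674

/-- Let `k` be an algebraically closed field, `X` a nonsingular algebraic set of dimension `n` over `k`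
— here: a quasi-compact `k`-scheme smooth of relative dimension `n` over `k` — `F` a coherent
`O_X`-module whose support has dimension at most `n - p`, and `L` a finite locally free
`O_X`-module. Then the (global) groups `Ext^i_{O_X}(F, L)` vanish for `i < p`. (All components of
`X` have dimension `n`; for a nonsingular algebraic set with a component of smaller dimension the
conclusion fails. The Ext instance on the category of `O_X`-modules is taken as a hypothesis; it
holds since that category is Grothendieck abelian.) -/
theorem result (k : Type u) [Field k] [IsAlgClosed k] (n : ℕ) (X : Scheme.{u}) [X.Over (Spec (CommRingCat.of k))] [SmoothOfRelativeDimension n (X ↘ Spec (CommRingCat.of k))] [CompactSpace X] [HasExt.{u} X.Modules] (F : X.Modules) (hF : Coh.IsCoh F) (L : X.Modules) (hL : FlatMod.IsFinLocFree L) (p : ℕ) (hsupp : topologicalKrullDim ↥(CohB1.support F) + p ≤ n) (i : ℕ) (hi : i < p) : Subsingleton (Abelian.Ext F L i) := by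
  let f := X ↘ Spec (CommRingCat.of k)
  haveI : SmoothOfRelativeDimension n f := ‹_›
  haveI : Smooth f := SmoothOfRelativeDimension.smooth n f
  haveI : IsLocallyNoetherian X := LocallyOfFiniteType.isLocallyNoetherian f
  haveI := Groth.L17.Duality.hasSheafHom F
  haveI : HasInjectiveResolutions (ModSite.Mod X.sheaf) := Groth.L17.PushQCoh.hasInjectiveResolutions X
  have hdim : ∀ x : X, (n : WithBot ℕ∞) ≤ FlatMor.localDim X x := fun x => by
    have h := Groth.Agent.S2768.result n f x
    rw [Groth.L23.fibreDimAt_eq_preimage] at h
    haveI : Subsingleton ↥(Spec (CommRingCat.of k)) := inferInstanceAs (Subsingleton (PrimeSpectrum k))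
    haveI := Groth.L23.quasiSober_preimage_singleton f (f x)
    rw [Groth.L23.localDim_homeomorph ((Homeomorph.setCongr
      (Set.eq_univ_of_forall fun y => show y ∈ f ⁻¹' {f x} from Subsingleton.elim (f y) (f x))).trans
      (Homeomorph.Set.univ X))] at h
    exact h.ge
  have hz : ∀ j : ℕ, j < p → IsZero ((ModSite.extSh (O := X.sheaf) F j).obj L) := fun j hj => by
    refine Groth.L22.ExtSh.isZero_extSh_of_isFinLocFree hF hL j fun x => ?_
    haveI : IsRegularLocalRing (X.presheaf.stalk x) := Groth.L21.Smooth.regular_stalk f x
    refine Groth.L22.ExtSh.subsingleton_ext_stalk (k := k) x (hdim x) hF ?_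
    rcases eq_or_ne (topologicalKrullDim (CohB1.support F)) ⊥ with h | h
    · rw [h, WithBot.bot_add]; exact WithBot.bot_lt_coe _
    obtain ⟨d, hd⟩ := WithBot.ne_bot_iff_exists.1 h
    rw [← hd] at hsupp ⊢
    cases d with
    | top =>
      rw [show ((⊤ : ℕ∞) : WithBot ℕ∞) + ((p : ℕ) : WithBot ℕ∞) = ((⊤ + p : ℕ∞) : WithBot ℕ∞) from rfl, top_add] at hsupp
      exact absurd (WithBot.coe_le_coe.1 hsupp) (by simp)
    | coe d =>
      have hdr : d + p ≤ n := by exact_mod_cast hsupp
      exact_mod_cast (show d + j < n by omega)
  obtain ⟨E, a, hfin, -, hE2⟩ := Groth.Agent.S11919.result X F L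
  have hP : Groth.L17.SSClass.IsThick (fun A : AddCommGrpCat.{u} => IsZero A) :=
    { zero := fun _ h => h
      iso := fun e h => h.of_iso e.symm
      ker := fun g h _ => h.of_mono (kernel.ι g)
      coker := fun g _ h => h.of_epi (cokernel.π g)
      ext := fun S hS h₁ h₃ => hS.exact.isZero_X₂ (h₁.eq_of_src _ _) (h₃.eq_of_tgt _ _) }
  have hres := Groth.L17.SSClass.abutment_mem hP a (i : ℤ) (i : ℤ) le_rfl (hfin _)
    (fun s t h => by
      refine IsZero.of_iso ?_ (hE2 s t).some
      rw [if_neg h]; exact isZero_zero _)
    (fun s t ht => by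
      refine IsZero.of_iso ?_ (hE2 s t).some
      split_ifs with h
      · haveI := Groth.L03.Euler.subsingleton_HH_of_isZero (hz t.toNat (by omega)) s.toNat
        exact AddCommGrpCat.isZero_of_subsingleton _
      · exact isZero_zero _)
  rw [if_pos (Int.natCast_nonneg i), Int.toNat_natCast] at hres
  exact AddCommGrpCat.subsingleton_of_isZero hres

end Groth.Agent.S5674
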