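import Groth.Statements.S5675
import Groth.Agent.S5665
import Groth.Agent.L12.TopExt.Basic
import Groth.Agent.L12.TopExt.Rank
import Groth.Agent.L12.TopExt.ExtKilled
import Groth.Agent.L12.TopExt.Conormal
import Groth.Agent.L14.DeRham.ExtBaseChange
-- import your own Groth.Agent.* helpers here

set_option autoImplicit false
universe u
open CategoryTheory
open Dual

open scoped TensorProduct
set_option maxHeartbeats 400000
set_option backward.isDefEq.respectTransparency false
set_option backward.isDefEq.respectTransparency.types false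

namespace Groth.Agent.S5675

/-- Let `k` be a perfect field, `A` a regular affine `k`-algebra of dimension `n` — here: `A` finitely
generated and smooth over `k` with `Ω_{A/k}` of rank `n` at every prime — and `xs = (x_1, …, x_p)`,
`p ≤ n`, a sequence with each `x_i` a non-zero-divisor on `A/(x_1, …, x_{i-1})`, generating an ideal
`J` such that `A/J` is again a regular (smooth) affine `k`-algebra. Write `Ω^m` for `m`-th exterior
powers of Kähler differentials. Then `Ext^p_A(Ω^(n-p)(A/J), Ω^n(A))` is isomorphic to `A/J` as an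
`A`-module. (Existence of an `A`-linear isomorphism only; the published one is canonical and
compatible with localisation, its unit being the fundamental class of `J` in `A`.) -/
theorem result (k : Type u) [Field k] [PerfectField k] (A : Type u) [CommRing A] [Algebra k A] [Algebra.FiniteType k A] [Algebra.Smooth k A] (n : ℕ) (hn : ∀ q : PrimeSpectrum A, Module.rankAtStalk (Ω[A⁄k]) q = n) (xs : List A) (hreg : RingTheory.Sequence.IsWeaklyRegular A xs) (J : Ideal A) (hJ : Ideal.ofList xs = J) [Algebra.Smooth k (A ⧸ J)] (p : ℕ) (hp : xs.length = p) (hpn : p ≤ n) : Nonempty (Abelian.Ext (ModuleCat.of A ↥((⋀[A ⧸ J]^(n - p) (Ω[(A ⧸ J)⁄k])).restrictScalars A)) (ModuleCat.of A ↥(⋀[A]^n (Ω[A⁄k]))) p ≃ₗ[A] (A ⧸ J)) := by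
  classical
  subst hp
  obtain ⟨split⟩ := Groth.L12.TopExt.exists_split (k := k) xs hreg J hJ
  have hr : ∀ q : PrimeSpectrum (A ⧸ J), Module.rankAtStalk (Ω[(A ⧸ J)⁄k]) q = n - xs.length := fun q => by
    haveI : Nontrivial (A ⧸ J) := q.nontrivial
    have h := congrFun (Module.rankAtStalk_eq_of_equiv split) q
    rw [Module.rankAtStalk_prod, Module.rankAtStalk_baseChange, hn] at h
    simp [Module.rankAtStalk_eq_finrank_of_free] at h
    omega
  have hvan := Groth.L12.TopExt.subsingleton_of_rank hr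
  haveI hinv := Groth.L12.TopExt.invertible_of_rank hr
  let N := ↥(⋀[A]^n (Ω[A⁄k]))
  let M := ↥(⋀[A ⧸ J]^(n - xs.length) (Ω[(A ⧸ J)⁄k]))
  haveI : Module.Finite (A ⧸ J) M := inferInstance
  haveI : Module.Projective (A ⧸ J) M := inferInstance
  obtain ⟨e₁⟩ := Groth.L12.TopExt.exists_extKilled J M (ModuleCat.of A N) xs.length
  obtain ⟨e₂⟩ := Groth.Agent.S5665.result A xs hreg N
  rw [hJ] at e₂
  let T := (A ⧸ J) ⊗[A] Ω[A⁄k]
  let ψ : (Ω[A⁄k]) [⋀^Fin n]→ₗ[A] ↥(⋀[A ⧸ J]^n T) :=
    { toFun := fun v => exteriorPower.ιMulti (A ⧸ J) n fun i => (1 : A ⧸ J) ⊗ₜ[A] v i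
      map_update_add' := by
        intro _ v i x y
        have h : ∀ z, (fun l => (1 : A ⧸ J) ⊗ₜ[A] (Function.update v i z l)) =
            Function.update (fun l => (1 : A ⧸ J) ⊗ₜ[A] v l) i ((1 : A ⧸ J) ⊗ₜ[A] z) :=
          fun z => funext fun l => Function.apply_update (fun _ (w : Ω[A⁄k]) => (1 : A ⧸ J) ⊗ₜ[A] w) v i z l
        simp only [h, TensorProduct.tmul_add, AlternatingMap.map_update_add]
      map_update_smul' := by
        intro _ v i a x
        have h : ∀ z, (fun l => (1 : A ⧸ J) ⊗ₜ[A] (Function.update v i z l)) =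
            Function.update (fun l => (1 : A ⧸ J) ⊗ₜ[A] v l) i ((1 : A ⧸ J) ⊗ₜ[A] z) :=
          fun z => funext fun l => Function.apply_update (fun _ (w : Ω[A⁄k]) => (1 : A ⧸ J) ⊗ₜ[A] w) v i z l
        simp only [h, TensorProduct.tmul_smul]
        rw [← algebraMap_smul (A ⧸ J) a ((1 : A ⧸ J) ⊗ₜ[A] x), AlternatingMap.map_update_smul, algebraMap_smul]
      map_eq_zero_of_eq' := fun v a b hab hne =>
        (exteriorPower.ιMulti (A ⧸ J) n).map_eq_zero_of_eq (fun l => (1 : A ⧸ J) ⊗ₜ[A] v l)
          (congrArg (fun w : Ω[A⁄k] => (1 : A ⧸ J) ⊗ₜ[A] w) hab) hne }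
  let Ψ : N →ₗ[A] ↥(⋀[A ⧸ J]^n T) := exteriorPower.alternatingMapLinearEquiv ψ
  have hbij := Groth.L14.DeRham.bijective_ext_baseChange (TensorProduct.mk A (A ⧸ J) (Ω[A⁄k]) 1)
    (by
      rw [show (TensorProduct.mk A (A ⧸ J) (Ω[A⁄k]) 1).liftBaseChange (A ⧸ J) = LinearMap.id from
        TensorProduct.AlgebraTensorModule.ext fun b w => by simp [TensorProduct.smul_tmul']]
      exact Function.bijective_id) n
    (Ψ.liftBaseChange (A ⧸ J))
    (fun v => by
      rw [LinearMap.liftBaseChange_tmul, one_smul]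
      exact exteriorPower.alternatingMapLinearEquiv_apply_ιMulti ψ v)
  obtain ⟨⟨top⟩, -⟩ := Groth.L12.TopExt.top_pi_prod (n - xs.length) hvan xs.length
  rw [Nat.add_sub_cancel' hpn] at top
  let E : (N ⧸ J • (⊤ : Submodule A N)) ≃ₗ[A] M :=
    (TensorProduct.quotTensorEquivQuotSMul N J).symm.trans
      ((((LinearEquiv.ofBijective _ hbij).trans (Groth.L12.TopExt.congrEquiv n split.symm)).trans top).restrictScalars A)
  have hend : Function.Bijective (Algebra.lsmul A A M (A := A ⧸ J)).toLinearMap := by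
    constructor
    · intro b c h
      refine (Module.Invertible.toModuleEnd_bijective (R := A ⧸ J) (M := M)).1 (LinearMap.ext fun m => ?_)
      exact LinearMap.congr_fun h m
    · intro f
      obtain ⟨b, hb⟩ := (Module.Invertible.toModuleEnd_bijective (R := A ⧸ J) (M := M)).2
        (f.extendScalarsOfSurjective Ideal.Quotient.mk_surjective)
      exact ⟨b, LinearMap.ext fun m => LinearMap.congr_fun hb m⟩
  exact ⟨(e₁.trans (LinearEquiv.congrRight (e₂.trans E))).trans (LinearEquiv.ofBijective _ hend).symm⟩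

end Groth.Agent.S5675
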