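import Groth.Prelude.Def_SGA3x
import Groth.Prelude.Def_Red
import Groth.Prelude.Def_AlgGrp
import Mathlib.AlgebraicGeometry.Noetherian
import Mathlib.AlgebraicGeometry.Morphisms.FiniteType
import Mathlib.AlgebraicGeometry.Morphisms.QuasiCompact
import Mathlib.AlgebraicGeometry.Morphisms.OpenImmersion
import Mathlib.Topology.Constructible
import Mathlib.Topology.Connected.Basic
import Groth.Agent.L02.NeutralOpen.Generic

set_option autoImplicit false
set_option linter.style.haveILetI false
namespace CartesianMonoidalCategory
end CartesianMonoidalCategory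
namespace FGA
end FGA
namespace GrpObj
end GrpObj
namespace MonObj
end MonObj
set_option linter.style.haveILetI false
universe u
open CategoryTheory CategoryTheory.Limits MonoidalCategory CartesianMonoidalCategory MonObj GrpObj AlgebraicGeometry
open FGA

namespace Groth.Agent.S5679

/-- Let S be a nonempty locally Noetherian scheme and G a group scheme locally of finite type over S.
Then there are a nonempty open subset U of S, a group scheme H of finite type over U with connected
fibres, and a homomorphism from H to the base change of G to U which is an open immersion and whose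
image in G is the set of points lying over U in the union of the connected components of the
identity of the fibres of G. -/
theorem result (S : Scheme.{u}) [IsLocallyNoetherian S] [Nonempty ↥S]
    (G : Over S) [GrpObj G] [LocallyOfFiniteType G.hom] :
    ∃ U : S.Opens, (U : Set ↥S).Nonempty ∧
      ∃ (H : Over (U : Scheme.{u})) (_ : GrpObj H) (i : H ⟶ Red.bc U.ι G), IsMonHom i ∧ IsOpenImmersion i.left ∧
        QuasiCompact H.hom ∧ LocallyOfFiniteType H.hom ∧
        (∀ u : ↥(U : Scheme.{u}), _root_.IsConnected (H.hom.base ⁻¹' {u})) ∧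
        Set.range (i.left ≫ pullback.fst G.hom U.ι).base = SGA3x.neutralSet G ∩ G.hom.base ⁻¹' (U : Set ↥S) := by
  obtain ⟨U, hne, hUa, ho, hc⟩ := Groth.L02.NeutralOpen.exists_open_base G
  haveI : IsAffine (U : Scheme.{u}) := hUa
  let N : (Red.bc U.ι G).left.Opens := ⟨_, ho⟩
  haveI : LocallyOfFiniteType (Red.bc U.ι G).hom := MorphismProperty.pullback_snd _ _ ‹LocallyOfFiniteType G.hom›
  obtain ⟨g, hg⟩ := Groth.L02.NeutralOpen.exists_subgroup (Red.bc U.ι G) N rfl
  refine ⟨U, hne, Over.mk (N.ι ≫ (Red.bc U.ι G).hom), g, Over.homMk N.ι rfl, hg, inferInstanceAs (IsOpenImmersion N.ι),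
    ?_, inferInstanceAs (LocallyOfFiniteType (N.ι ≫ (Red.bc U.ι G).hom)),
    Groth.L02.NeutralOpen.isConnected_fibre (Red.bc U.ι G) N rfl, ?_⟩
  · haveI : CompactSpace N.toScheme := isCompact_iff_compactSpace.1 hc
    exact (HasAffineProperty.iff_of_isAffine (P := @QuasiCompact)).2 (inferInstanceAs (CompactSpace N.toScheme))
  · show Set.range (N.ι ≫ pullback.fst G.hom U.ι).base = _
    rw [Scheme.Hom.comp_base, TopCat.coe_comp, Set.range_comp, Scheme.Opens.range_ι]
    show (pullback.fst G.hom U.ι).base '' SGA3x.neutralSet (Red.bc U.ι G) = _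
    rw [Groth.Agent.S5322.result, Set.image_preimage_eq_inter_range]
    exact congrArg _ (Groth.L02.NeutralOpen.range_resι G U)

end Groth.Agent.S5679
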