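import Groth.Prelude.Def_PicRel2
import Groth.Prelude.Def_Pic
import Groth.Prelude.Def_CohB1
import Groth.Prelude.Def_Pi1
import Mathlib.AlgebraicGeometry.Morphisms.Proper
import Mathlib.AlgebraicGeometry.Morphisms.Flat
import Mathlib.AlgebraicGeometry.Morphisms.FiniteType
import Mathlib.AlgebraicGeometry.Morphisms.Smooth
import Mathlib.AlgebraicGeometry.Morphisms.ClosedImmersion
import Mathlib.AlgebraicGeometry.Noetherian
import Mathlib.AlgebraicGeometry.ResidueField
import Mathlib.RingTheory.Artinian.Ring
import Mathlib.RingTheory.LocalRing.ResidueField.Defs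
import Mathlib.Topology.Connected.Basic
import Mathlib.AlgebraicGeometry.Modules.Sheaf
import Groth.Agent.L02.RootLift.Lift
import Mathlib.AlgebraicGeometry.PullbackCarrier
import Mathlib.RingTheory.Nilpotent.Basic

set_option autoImplicit false
set_option linter.style.haveILetI false
namespace FGA
end FGA
universe u
open CategoryTheory CategoryTheory.Limits AlgebraicGeometry
open FGA

namespace Groth.Agent.S5680

/-- Let A be an artinian local ring with maximal ideal m and ν ≥ 1 an integer with m^(ν+1) = 0; let X be
a scheme proper and flat over Spec A, n a natural number whose image in the residue field of A is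
nonzero, L an invertible module on X and L' an invertible module on the closed subscheme X ×_A
Spec(A/m^ν) whose n-th tensor power is isomorphic to the pullback of L. Then there is an invertible
module M on X whose n-th tensor power is isomorphic to L (existence of an isomorphism). -/
theorem result (A : Type u) [CommRing A] [IsArtinianRing A] [IsLocalRing A]
    (ν : ℕ) (hν : 1 ≤ ν) (hm : IsLocalRing.maximalIdeal A ^ (ν + 1) = ⊥)
    (X : Scheme.{u}) (f : X ⟶ Spec (CommRingCat.of A)) [IsProper f] [Flat f]
    (n : ℕ) (hn : (n : IsLocalRing.ResidueField A) ≠ 0)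
    (L : X.Modules) (hL : PicF.IsInvertible L)
    (L' : (pullback f (Spec.map (CommRingCat.ofHom (Ideal.Quotient.mk (IsLocalRing.maximalIdeal A ^ ν))))).Modules)
    (hL' : PicF.IsInvertible L')
    (hroot : Nonempty (CohB1.tensorPow L' n ≅
      (Scheme.Modules.pullback (pullback.fst f (Spec.map (CommRingCat.ofHom (Ideal.Quotient.mk (IsLocalRing.maximalIdeal A ^ ν)))))).obj L)) :
    ∃ M : X.Modules, PicF.IsInvertible M ∧ Nonempty (CohB1.tensorPow M n ≅ L) := by
  let q := Spec.map (CommRingCat.ofHom (Ideal.Quotient.mk (IsLocalRing.maximalIdeal A ^ ν)))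
  let i := pullback.fst f q
  haveI : IsClosedImmersion q := IsClosedImmersion.spec_of_surjective _ Ideal.Quotient.mk_surjective
  have hle : IsLocalRing.maximalIdeal A ^ ν ≤ IsLocalRing.maximalIdeal A := Ideal.pow_le_self (by omega)
  haveI : Nontrivial (A ⧸ IsLocalRing.maximalIdeal A ^ ν) :=
    Ideal.Quotient.nontrivial_iff.mpr fun h => (IsLocalRing.maximalIdeal.isMaximal A).ne_top (top_le_iff.1 (h ▸ hle))
  haveI : Surjective q := ⟨fun p => by
    obtain ⟨y⟩ := (inferInstance : Nonempty (PrimeSpectrum (A ⧸ IsLocalRing.maximalIdeal A ^ ν)))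
    exact ⟨y, Subsingleton.elim (α := PrimeSpectrum A) _ _⟩⟩
  have hi : MoreMor.IsThickening i := ⟨inferInstance, inferInstance⟩
  have hu : IsUnit (n : Γ(pullback f q, ⊤)) := by
    have hA : IsUnit ((n : ℕ) : A) := by
      by_contra hc
      refine hn ?_
      rw [← map_natCast (IsLocalRing.residue A), IsLocalRing.residue_eq_zero_iff]
      exact hc
    have := hA.map ((i ≫ f).appTop.hom.comp (Scheme.ΓSpecIso (CommRingCat.of A)).inv.hom)
    rwa [map_natCast] at this
  have hn0 : 0 < n := Nat.pos_of_ne_zero fun h => hn (by rw [h, Nat.cast_zero])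
  obtain ⟨σ⟩ := hroot
  obtain ⟨M, hM, hMp, -⟩ := Groth.L02.RootLift.exists_lift_root i hi hn0 hu L' hL' L hL σ
  exact ⟨M, hM, hMp⟩

end Groth.Agent.S5680
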