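import Groth.Prelude.Def_PicRel2
import Groth.Prelude.Def_Pic
import Groth.Prelude.Def_CohB1
import Groth.Prelude.Def_Pi1
import Mathlib.AlgebraicGeometry.Morphisms.Proper
import Mathlib.AlgebraicGeometry.Morphisms.Flat
import Mathlib.AlgebraicGeometry.Morphisms.FiniteType
import Mathlib.AlgebraicGeometry.Morphisms.Smooth
import Mathlib.AlgebraicGeometry.Morphisms.ClosedImmersion
import Mathlib.AlgebraicGeometry.Noetherian
import Mathlib.AlgebraicGeometry.ResidueField
import Mathlib.RingTheory.Artinian.Ring
import Mathlib.RingTheory.LocalRing.ResidueField.Defs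
import Mathlib.Topology.Connected.Basic
import Mathlib.AlgebraicGeometry.Modules.Sheaf
import Mathlib.AlgebraicGeometry.Morphisms.Etale
import Groth.Agent.L02.PicEtale.Lifts
import Groth.Agent.S1489
import Mathlib.AlgebraicGeometry.Noetherian
import Mathlib.AlgebraicGeometry.Morphisms.FinitePresentation

set_option autoImplicit false
set_option linter.style.haveILetI false
namespace FGA
end FGA
set_option linter.style.haveILetI false
set_option backward.isDefEq.respectTransparency false
universe u
open CategoryTheory CategoryTheory.Limits AlgebraicGeometry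
open FGA

namespace Groth.Agent.S5686

/-- Let S be a locally Noetherian scheme, f : X ⟶ S proper and flat, and suppose the relative Picard
functor of X over S (sheafified for the etale topology) is represented by an S-scheme P, locally of
finite type over S, through the family of maps φ. Let n be a natural number and m : P ⟶ P an
S-morphism such that for every S-scheme T and every invertible module L on X ×_S T, φ applied to the
class of the n-th tensor power of L equals φ applied to the class of L followed by m (so m is the
n-th power map of the Picard scheme). Then m is etale at all points of P whose residue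
characteristic is prime to n: the restriction of m to the open subset of P where n is invertible is
etale. (Local finite type of P over S is recorded as a hypothesis.) -/
theorem result {X S : Scheme.{u}} [IsLocallyNoetherian S] (f : X ⟶ S) [IsProper f] [Flat f]
    (P : Over S) [LocallyOfFiniteType P.hom] (φ : ∀ T : Over S, PicF.Cl (PicF.XT f T) → (T ⟶ P))
    (hP : PicRel.IsRelPic f P φ) (n : ℕ) (m : P ⟶ P)
    (hm : ∀ (T : Over S) (L : (PicF.XT f T).Modules), PicF.IsInvertible L →
      φ T (PicF.cl (CohB1.tensorPow L n)) = φ T (PicF.cl L) ≫ m) :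
    Etale ((P.left.basicOpen (n : Γ(P.left, ⊤))).ι ≫ m.left) := by
  set W := P.left.basicOpen ((n : ℕ) : Γ(P.left, ⊤)) with hWdef
  rcases Nat.eq_zero_or_pos n with hn0 | hn
  · haveI : IsEmpty W.toScheme := ⟨fun x => by
      have h := x.2
      subst hn0
      simp [hWdef] at h⟩
    infer_instance
  refine (Groth.Agent.S1489.result _).2 ⟨?_, ?_⟩
  · haveI : IsLocallyNoetherian P.left := LocallyOfFiniteType.isLocallyNoetherian P.hom
    haveI : LocallyOfFiniteType (m.left ≫ P.hom) := by rw [Over.w m]; infer_instance
    haveI : LocallyOfFiniteType m.left := locallyOfFiniteType_of_comp m.left P.hom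
    infer_instance
  · intro A _ I hI a₀ b₀ hsq
    set q := Spec.map (CommRingCat.ofHom (Ideal.Quotient.mk I)) with hq
    let T : Over S := Over.mk (b₀ ≫ P.hom)
    let T₀ : Over S := Over.mk (q ≫ T.hom)
    let i : T₀ ⟶ T := Over.homMk q rfl
    haveI : IsClosedImmersion q := IsClosedImmersion.spec_of_surjective _ Ideal.Quotient.mk_surjective
    haveI : Surjective q := ⟨fun (p : PrimeSpectrum A) => by
      have hle : I ≤ p.asIdeal := fun x hx => p.isPrime.mem_of_pow_mem 2 (by
        have := Ideal.pow_mem_pow hx 2
        rw [hI] at this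
        rw [this]; exact p.asIdeal.zero_mem)
      have hp : p ∈ Set.range (PrimeSpectrum.comap (Ideal.Quotient.mk I)) := by
        rw [range_comap_of_surjective _ _ Ideal.Quotient.mk_surjective, Ideal.mk_ker]
        exact hle
      exact hp⟩
    have hi : MoreMor.IsThickening i.left := ⟨‹IsClosedImmersion q›, ‹Surjective q›⟩
    let a : T₀ ⟶ P := Over.homMk (a₀ ≫ W.ι) (by
      show _ = q ≫ b₀ ≫ P.hom
      rw [reassoc_of% hsq, Over.w m, Category.assoc])
    let b : T ⟶ P := Over.homMk b₀ rfl
    have hu : IsUnit ((n : ℕ) : Γ(T₀.left, ⊤)) := by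
      refine Groth.L02.PicEtale.isUnit_natCast a₀ ?_
      have h1 : IsUnit (W.topIso.inv (P.left.presheaf.map (homOfLE (le_top : W ≤ ⊤)).op ((n : ℕ) : Γ(P.left, ⊤)))) :=
        (RingedSpace.isUnit_res_basicOpen _ _).map W.topIso.inv.hom
      rwa [map_natCast, map_natCast] at h1
    haveI : IsAffine T.left := inferInstanceAs (IsAffine (Spec (CommRingCat.of A)))
    obtain ⟨l, hl₀, hlm⟩ := Groth.L02.PicEtale.exists_lift hP hn hm hi hu a b
      (Over.OverMorphism.ext (hsq.trans (Category.assoc _ _ _).symm))
    have hr : Set.range l.left ⊆ Set.range W.ι := by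
      rintro _ ⟨y, rfl⟩
      obtain ⟨y₀, rfl⟩ := q.surjective y
      exact ⟨a₀ y₀, (congrArg (fun k => k y₀) (congrArg CommaMorphism.left hl₀)).symm⟩
    refine ⟨IsOpenImmersion.lift W.ι l.left hr, ⟨?_, ?_⟩, ?_⟩
    · rw [← cancel_mono W.ι, Category.assoc, IsOpenImmersion.lift_fac]
      exact congrArg CommaMorphism.left hl₀
    · rw [IsOpenImmersion.lift_fac_assoc]
      exact congrArg CommaMorphism.left hlm
    · rintro y ⟨hy₀, hym⟩
      have hw : (y ≫ W.ι) ≫ P.hom = b₀ ≫ P.hom := by
        rw [← hym]; simp
      let l' : T ⟶ P := Over.homMk (y ≫ W.ι) hw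
      have heq : l' = l := Groth.L02.PicEtale.eq_of_lift hP hn hm hi hu l' l
        (Over.OverMorphism.ext (by
          show q ≫ y ≫ W.ι = _
          rw [reassoc_of% hy₀]
          exact (congrArg CommaMorphism.left hl₀).symm))
        (Over.OverMorphism.ext (by
          show (y ≫ W.ι) ≫ m.left = _
          rw [Category.assoc, hym]
          exact (congrArg CommaMorphism.left hlm).symm))
      rw [← cancel_mono W.ι, IsOpenImmersion.lift_fac, ← heq]
      rfl

end Groth.Agent.S5686
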