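import Groth.Statements.S5691
import Mathlib.CategoryTheory.Subobject.ArtinianObject
import Mathlib.CategoryTheory.Elements
import Mathlib.CategoryTheory.Limits.Types.Filtered
import Mathlib.CategoryTheory.Limits.Preserves.Shapes.Equalizers
import Mathlib.CategoryTheory.Limits.Preserves.Shapes.Terminal
import Mathlib.CategoryTheory.Limits.Preserves.Shapes.BinaryProducts
import Mathlib.CategoryTheory.Limits.FunctorCategory.Basic
import Mathlib.CategoryTheory.Filtered.Basic

set_option autoImplicit false
universe u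
open CategoryTheory CategoryTheory.Limits
open FGA

namespace Groth.Agent.S5691

variable {C : Type u} [SmallCategory C] [HasFiniteLimits C] {F : C ⥤ Type u}

/-- A pair `(X, ξ)` is minimal if `ξ` comes from no proper subobject. -/
def IsMin' : ObjectProperty F.Elements :=
  fun p => ∀ ⦃Z : C⦄ (i : Z ⟶ p.1) [Mono i] (z : F.obj Z), F.map i z = p.2 → IsIso i

variable [PreservesFiniteLimits F]

theorem exists_equalizer {X Y : C} {f g : X ⟶ Y} {ξ : F.obj X} (h : F.map f ξ = F.map g ξ) :
    ∃ z, F.map (equalizer.ι f g) z = ξ := by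
  obtain ⟨l, hl⟩ := Fork.IsLimit.lift' (isLimitOfHasEqualizerOfPreservesLimit F f g)
    (↾(fun _ : PUnit.{u + 1} => ξ)) (by ext; exact h)
  exact ⟨l PUnit.unit, ConcreteCategory.congr_hom hl PUnit.unit⟩

theorem exists_prod {X Y : C} (ξ : F.obj X) (η : F.obj Y) :
    ∃ z : F.obj (X ⨯ Y), F.map prod.fst z = ξ ∧ F.map prod.snd z = η := by
  obtain ⟨l, hl, hl'⟩ := BinaryFan.IsLimit.lift' (isLimitOfHasBinaryProductOfPreservesLimit F X Y)
    (↾(fun _ : PUnit.{u + 1} => ξ)) (↾(fun _ : PUnit.{u + 1} => η))
  exact ⟨l PUnit.unit, ConcreteCategory.congr_hom hl PUnit.unit, ConcreteCategory.congr_hom hl' PUnit.unit⟩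

theorem eq_of_min {p : F.Elements} (hp : IsMin' p) {Z : C} {f g : p.1 ⟶ Z}
    (h : F.map f p.2 = F.map g p.2) : f = g := by
  obtain ⟨z, hz⟩ := exists_equalizer h
  haveI : IsIso (equalizer.ι f g) := hp (equalizer.ι f g) z hz
  rw [← cancel_epi (equalizer.ι f g)]
  exact equalizer.condition f g

omit [PreservesFiniteLimits F] in
theorem exists_min (hart : ∀ X : C, IsArtinianObject X) (p : F.Elements) :
    ∃ (q : F.Elements) (_ : IsMin' q) (a : q.1 ⟶ p.1), F.map a q.2 = p.2 := by
  haveI := hart p.1
  let T : Set (Subobject p.1) := {s | ∃ z, F.map s.arrow z = p.2}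
  have hT : T.Nonempty := ⟨Subobject.mk (𝟙 p.1), F.map (Subobject.underlyingIso (𝟙 p.1)).inv p.2, by
    rw [← FunctorToTypes.map_comp_apply, Subobject.underlyingIso_arrow, FunctorToTypes.map_id_apply]⟩
  obtain ⟨s, ⟨z, hz⟩, hs⟩ := (wellFounded_lt (α := Subobject p.1)).has_min T hT
  refine ⟨F.elementsMk (s : C) z, fun Z i _ w hw => ?_, s.arrow, hz⟩
  have hle : Subobject.mk (i ≫ s.arrow) ≤ s := Subobject.mk_le_of_comm i rfl
  have hmem : Subobject.mk (i ≫ s.arrow) ∈ T := ⟨F.map (Subobject.underlyingIso (i ≫ s.arrow)).inv w, by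
    rw [← FunctorToTypes.map_comp_apply, Subobject.underlyingIso_arrow, FunctorToTypes.map_comp_apply]
    exact (congrArg _ hw).trans hz⟩
  have heq : Subobject.mk (i ≫ s.arrow) = s := hle.eq_of_not_lt fun h => hs _ hmem h
  have : i = (Subobject.underlyingIso (i ≫ s.arrow)).inv ≫ (Subobject.isoOfEq _ _ heq).hom := by
    rw [← cancel_mono s.arrow]
    simp
  rw [this]
  infer_instance

theorem cofiltered (hart : ∀ X : C, IsArtinianObject X) :
    IsCofiltered (IsMin' (F := F)).FullSubcategory := by
  haveI : Nonempty (IsMin' (F := F)).FullSubcategory := by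
    obtain ⟨l, -⟩ : ∃ l : PUnit.{u + 1} ⟶ F.obj (⊤_ C), True :=
      ⟨(IsLimit.lift (isLimitOfHasTerminalOfPreservesLimit F) (asEmptyCone PUnit.{u + 1})), trivial⟩
    obtain ⟨q, hq, -⟩ := exists_min hart (F.elementsMk (⊤_ C) (l PUnit.unit))
    exact ⟨⟨q, hq⟩⟩
  haveI : IsCofilteredOrEmpty (IsMin' (F := F)).FullSubcategory := by
    refine ⟨fun p q => ?_, fun {p q} a b => ?_⟩
    · obtain ⟨z, hz₁, hz₂⟩ := exists_prod p.obj.2 q.obj.2
      obtain ⟨r, hr, a, ha⟩ := exists_min hart (F.elementsMk (p.obj.1 ⨯ q.obj.1) z)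
      refine ⟨⟨r, hr⟩, ObjectProperty.homMk (CategoryOfElements.homMk _ _ (a ≫ prod.fst) ?_),
        ObjectProperty.homMk (CategoryOfElements.homMk _ _ (a ≫ prod.snd) ?_), trivial⟩
      · rw [FunctorToTypes.map_comp_apply, ha]; exact hz₁
      · rw [FunctorToTypes.map_comp_apply, ha]; exact hz₂
    · refine ⟨p, 𝟙 p, ?_⟩
      have : a.hom.1 = b.hom.1 := eq_of_min p.property (a.hom.2.trans b.hom.2.symm)
      rw [Category.id_comp, Category.id_comp]
      exact ObjectProperty.hom_ext _ (CategoryOfElements.ext _ _ _ this)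
  exact {}

/-- Let C be a small category with finite limits all of whose objects are artinian (the subobjects of
each object satisfy the descending chain condition), and let F be a set-valued functor on C
preserving finite limits. Then F is strictly pro-representable: there are a small cofiltered
category J and a diagram D : J ⥤ C all of whose transition morphisms are epimorphisms such that F is
isomorphic to the colimit of the corepresentable functors Hom(D j, -). -/
theorem result {C : Type u} [SmallCategory C]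
    [HasFiniteLimits C] (hart : ∀ X : C, IsArtinianObject X) (F : C ⥤ Type u) [PreservesFiniteLimits F] :
    ∃ (J : Type u) (_ : SmallCategory J) (_ : IsCofiltered J) (D : J ⥤ C),
      (∀ ⦃j j' : J⦄ (a : j ⟶ j'), Epi (D.map a)) ∧ Nonempty (F ≅ colimit (D.op ⋙ coyoneda)) := by
  classical
  let J := (IsMin' (F := F)).FullSubcategory
  haveI hJ : IsCofiltered J := cofiltered hart
  let D : J ⥤ C := (IsMin' (F := F)).ι ⋙ CategoryOfElements.π F
  refine ⟨J, inferInstance, hJ, D, fun j j' a => ⟨fun g g' hgg => eq_of_min j'.property ?_⟩, ⟨?_⟩⟩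
  · have h1 : F.map (D.map a) j.obj.2 = j'.obj.2 := a.hom.2
    rw [← h1]
    exact (FunctorToTypes.map_comp_apply F (D.map a) g j.obj.2).symm.trans
      ((congrArg (fun m => F.map m j.obj.2) hgg).trans (FunctorToTypes.map_comp_apply F (D.map a) g' j.obj.2))
  · let app : ∀ j : Jᵒᵖ, (D.op ⋙ coyoneda).obj j ⟶ F := fun j => coyonedaEquiv.symm j.unop.obj.2
    let c : Cocone (D.op ⋙ coyoneda) :=
      { pt := F
        ι :=
          { app := app
            naturality := fun j j' a => by
              ext Z (f : D.obj j.unop ⟶ Z)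
              show F.map (D.map a.unop ≫ f) j'.unop.obj.2 = F.map f j.unop.obj.2
              rw [FunctorToTypes.map_comp_apply, show F.map (D.map a.unop) j'.unop.obj.2 = j.unop.obj.2 from a.unop.hom.2] } }
    have hc : IsColimit c := evaluationJointlyReflectsColimits _ fun Z => by
      refine Types.FilteredColimit.isColimitOf _ _ (fun x => ?_) fun i j xi xj hij => ?_
      · obtain ⟨q, hq, a, ha⟩ := exists_min hart (F.elementsMk Z x)
        exact ⟨Opposite.op ⟨q, hq⟩, a, ha.symm⟩
      · let k := IsFiltered.max i j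
        refine ⟨k, IsFiltered.leftToMax i j, IsFiltered.rightToMax i j, ?_⟩
        have h1 : F.map (D.map (IsFiltered.leftToMax i j).unop) k.unop.obj.2 = i.unop.obj.2 :=
          (IsFiltered.leftToMax i j).unop.hom.2
        have h2 : F.map (D.map (IsFiltered.rightToMax i j).unop) k.unop.obj.2 = j.unop.obj.2 :=
          (IsFiltered.rightToMax i j).unop.hom.2
        refine eq_of_min k.unop.property ?_
        show F.map (D.map (IsFiltered.leftToMax i j).unop ≫ xi) _ = F.map (D.map (IsFiltered.rightToMax i j).unop ≫ xj) _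
        rw [FunctorToTypes.map_comp_apply, FunctorToTypes.map_comp_apply, h1, h2]
        exact hij
    exact hc.coconePointUniqueUpToIso (colimit.isColimit _)

end Groth.Agent.S5691
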