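import Groth.Prelude.Def_FlatMod2
import Groth.Prelude.Def_Coh
import Mathlib.AlgebraicGeometry.Morphisms.Immersion
import Mathlib.AlgebraicGeometry.Morphisms.ClosedImmersion
import Mathlib.AlgebraicGeometry.Noetherian
import Mathlib.AlgebraicGeometry.Modules.Sheaf
import Groth.Agent.L02.Quot.RankLocus
import Groth.Agent.L15.Ref.FreeLocus

set_option autoImplicit false
set_option linter.style.haveILetI false
namespace FGA
end FGA
universe u
open CategoryTheory CategoryTheory.Limits AlgebraicGeometry
open FGA

namespace Groth.Agent.S5692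

/-- Let S be a locally Noetherian scheme, M a coherent module on S and r a natural number. Then there is
an immersion e : Z ⟶ S with the following universal property: for every scheme T and every morphism
g : T ⟶ S, the pullback of M along g is locally free of rank r if and only if g factors through e.
If moreover M is generated by r sections on a neighbourhood of every point of S (equivalently all
fibres of M have rank at most r), then e is a closed immersion. -/
theorem result (S : Scheme.{u}) [IsLocallyNoetherian S]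
    (M : S.Modules) (hM : Coh.IsCoh M) (r : ℕ) :
    ∃ (Z : Scheme.{u}) (e : Z ⟶ S), IsImmersion e ∧
      (∀ (T : Scheme.{u}) (g : T ⟶ S),
        FlatMod.IsFinLocFreeOfRank r ((Scheme.Modules.pullback g).obj M) ↔ ∃ g' : T ⟶ Z, g' ≫ e = g) ∧
      ((∀ s : ↥S, ∃ U : S.Opens, s ∈ U ∧ ∃ p : FlatMod.freeMod (↑U) r ⟶ M.restrict U.ι, Epi p) →
        IsClosedImmersion e) := by
  haveI : Coh.IsQCoh M := hM.1
  obtain ⟨Z, e, he, huniv, hcl⟩ := Groth.L02.Quot.exists_rankLocus M hM (Groth.L15.Ref.isFP_of_isCoh hM) r
  refine ⟨Z, e, he, huniv, fun h => hcl fun x hx => ?_⟩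
  obtain ⟨U, hxU, p, hp⟩ := h x
  obtain ⟨_, ⟨W, hW, rfl⟩, hxW, hWU⟩ := S.isBasis_affineOpens.exists_subset_of_mem_open hxU U.2
  haveI := Groth.L20.ModStalk.finite_sections M hM hW
  obtain ⟨φ, hφ, -⟩ := Groth.L15.FittSheaf.exists_sections_of_free_hom M p hW hWU
  refine absurd hx ((Groth.L15.FittSheaf.notMem_support_iff M hM.2 r (U := ⟨W, hW⟩) hxW).2 fun hle => ?_)
  have htop : Fitt.ideal Γ(S, W) Γ(M, W) r = ⊤ := by
    refine Groth.L13.Fitting.ideal_eq_top_of_gens (fun i => φ (Finsupp.single ⟨i⟩ 1)) ?_ le_rfl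
    rw [eq_top_iff, ← LinearMap.range_eq_top.2 hφ]
    rintro _ ⟨c, rfl⟩
    induction c using Finsupp.induction_linear with
    | zero => simp
    | add a b ha hb => rw [map_add]; exact add_mem ha hb
    | single i a =>
      rw [← mul_one a, ← smul_eq_mul, ← Finsupp.smul_single, map_smul]
      exact Submodule.smul_mem _ _ (Submodule.subset_span ⟨i.down, rfl⟩)
  rw [htop] at hle
  exact (hW.primeIdealOf ⟨x, hxW⟩).2.ne_top (top_le_iff.1 hle)

end Groth.Agent.S5692
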