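import Groth.Prelude.Def_SGA3x
import Groth.Prelude.Def_Red
import Groth.Prelude.Def_AlgGrp
import Mathlib.AlgebraicGeometry.Noetherian
import Mathlib.AlgebraicGeometry.Morphisms.FiniteType
import Mathlib.AlgebraicGeometry.Morphisms.QuasiCompact
import Mathlib.AlgebraicGeometry.Morphisms.OpenImmersion
import Mathlib.Topology.Constructible
import Mathlib.Topology.Connected.Basic
import Mathlib.Algebra.CharP.Lemmas
import Mathlib.AlgebraicGeometry.ResidueField
import Groth.Agent.L02.NeutralOpen.Sigma

set_option autoImplicit false
set_option linter.style.haveILetI false
namespace CartesianMonoidalCategory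
end CartesianMonoidalCategory
namespace FGA
end FGA
namespace GrpObj
end GrpObj
namespace MonObj
end MonObj
set_option linter.style.haveILetI false
universe u
open CategoryTheory CategoryTheory.Limits MonoidalCategory CartesianMonoidalCategory MonObj GrpObj AlgebraicGeometry
open FGA

namespace Groth.Agent.S5697

/-- Let S be a locally Noetherian scheme and G a commutative group scheme locally of finite type over S.
Assume that the union of the connected components of the identity of the fibres of G is closed in G,
and that G ⟶ S is universally open at the points of that union: for every base change S' ⟶ S, the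
structure map of G' = G ×_S S' is open at every point of the identity-component set of G' (the image
of every open neighbourhood is a neighbourhood). Then the prime-to-p torsion component set (points x
some n-th power of which, n ≥ 1 prime to the residue characteristic exponent, lies in the
identity-component set) is universally open over S at the points of the identity-component set, in
the same sense: for every base change S' ⟶ S, every point x' of the identity-component set of G' and
every open neighbourhood U of x', the image in S' of the intersection of U with the prime-to-p
torsion component set of G' is a neighbourhood of the image of x'. (The published statement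
concludes this at every point of the prime-to-p torsion component set; it fails for the closed
subgroup scheme of the constant group ℤ/2 over a discrete valuation ring of residue characteristic
different from 2 that keeps the non-identity element only over the closed point: there the
identity-component set is a copy of the base, all hypotheses hold, and the isolated non-identity
point over the closed point is 2-torsion with image the closed point alone. The published proof
treats neighbourhoods of points of the identity-component set, so the conclusion is stated at those
points here.) -/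
theorem result (S : Scheme.{u}) [IsLocallyNoetherian S]
    (G : Over S) [GrpObj G] [IsCommMonObj G] [LocallyOfFiniteType G.hom] (h0 : IsClosed (SGA3x.neutralSet G))
    (hopen : ∀ (S' : Scheme.{u}) (g : S' ⟶ S) (x' : ↥(Red.bc g G).left), x' ∈ SGA3x.neutralSet (Red.bc g G) →
      ∀ U : Set ↥(Red.bc g G).left, IsOpen U → x' ∈ U →
        (Red.bc g G).hom.base '' U ∈ nhds ((Red.bc g G).hom.base x'))
    (S' : Scheme.{u}) (g : S' ⟶ S) (x' : ↥(Red.bc g G).left)
    (hx' : x' ∈ SGA3x.neutralSet (Red.bc g G))
    (U : Set ↥(Red.bc g G).left) (hU : IsOpen U) (hxU : x' ∈ U) :
    (Red.bc g G).hom.base '' (U ∩ {x : ↥(Red.bc g G).left | ∃ n : ℕ, 0 < n ∧ Nat.Coprime n (ringExpChar (S'.residueField ((Red.bc g G).hom.base x))) ∧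
        ((𝟙 (Red.bc g G) : (Red.bc g G) ⟶ (Red.bc g G)) ^ n).left.base x ∈ SGA3x.neutralSet (Red.bc g G)}) ∈
      nhds ((Red.bc g G).hom.base x') := by
  haveI : LocallyOfFinitePresentation G.hom := Groth.L25.TrivLocus.lfp_of_noetherian G.hom
  haveI : IsLocallyNoetherian G.left := LocallyOfFiniteType.isLocallyNoetherian G.hom
  haveI : QuasiSeparated G.hom := inferInstance
  haveI : LocallyOfFinitePresentation (Red.bc g G).hom := MorphismProperty.pullback_snd _ _ ‹LocallyOfFinitePresentation G.hom›
  haveI : QuasiSeparated (Red.bc g G).hom := MorphismProperty.pullback_snd _ _ ‹QuasiSeparated G.hom›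
  have huo : ∀ x ∈ SGA3x.neutralSet (Red.bc g G), EGA43.IsUnivOpenAt (Red.bc g G).hom x := by
    intro x hx
    rw [Groth.Agent.S5322.result] at hx
    refine Groth.L07.UnivOpenAt.baseChange (IsPullback.of_hasPullback G.hom g) (x := pullback.fst G.hom g x) ?_ x rfl
    intro T t z hz W hW
    obtain ⟨W', hW'W, hW'o, hzW'⟩ := mem_nhds_iff.1 hW
    refine Filter.mem_of_superset (hopen T t z ?_ W' hW'o hzW') (Set.image_mono hW'W)
    rw [Groth.Agent.S5322.result]
    show pullback.fst G.hom t z ∈ SGA3x.neutralSet G
    rw [hz]
    exact hx
  refine Filter.mem_of_superset (Groth.L02.NeutralOpen.image_inter_neutral_mem_nhds (Red.bc g G) huo hx' hU hxU)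
    (Set.image_mono fun y hy => ⟨hy.1, 1, Nat.one_pos, Nat.coprime_one_left _, ?_⟩)
  show Groth.L02.NeutralOpen.pw (Red.bc g G) 1 y ∈ _
  rw [Groth.L02.NeutralOpen.pw_one]
  exact hy.2

end Groth.Agent.S5697
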