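import Groth.Prelude.Def_Pic13
import Groth.Prelude.Def_FGA
import Groth.Prelude.Def_Twist2
import Groth.Prelude.Def_CohB1
import Mathlib.FieldTheory.IsAlgClosed.Basic
import Mathlib.Data.Set.Finite.Basic
import Groth.Agent.L02.Quot.Bounded
import Groth.Agent.L22.Reg.Base
import Groth.Agent.L17.Strat.Hilbert

set_option autoImplicit false
set_option linter.style.haveILetI false
namespace FGA
end FGA
universe u
open CategoryTheory CategoryTheory.Limits AlgebraicGeometry
open FGA

namespace Groth.Agent.S5699

/-- Let k be an algebraically closed field, P projective n-space over k, E a coherent module on P and Φ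
a finite set of functions from ℤ to ℤ. Then the coherent quotient modules F of E whose Hilbert
function r ↦ χ(P, F(r)) (alternating sum of the dimensions of the cohomology groups in degrees at
most n) lies in Φ form a bounded family: there are a k-scheme T of finite type and a coherent module
on P ×_k T such that every such F is isomorphic to its fibre at some k-point of T. Stated over an
algebraically closed field; the published statement is the relative version over a Noetherian base
for classes of sheaves on the fibres, which this special case does not cover. -/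
theorem result (k : Type u) [Field k] [IsAlgClosed k] (n : ℕ)
    (E : (CohB1.ProjSpace n k).Modules) (hE : Coh.IsCoh E) (Φ : Set (ℤ → ℤ)) (hΦ : Φ.Finite) :
    Pic13.IsBounded k (CohB1.ProjSpace n k) (fun F =>
      Coh.IsCoh F ∧ (∃ p : E ⟶ F, Epi p) ∧
        (fun r : ℤ => FGA.eulerCharLE k (CohB1.ProjSpace n k)
          (CohB1.tensorMod F (Twist.twistProjSpace n k r)) n) ∈ Φ) := by
  let i := (Groth.L16.ProjSpace.isoOver n k).hom
  have hi : i ≫ CohB1.ProjSpaceOver.toBase n (Spec (CommRingCat.of k)) = CohB1.ProjSpace.toSpec n k :=
    Groth.L16.ProjSpace.isoOver_hom_toBase n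
  have hB := Groth.L02.Quot.Bounded.isBounded i (CohB1.ProjSpace.toSpec n k) rfl hi E hE Φ hΦ
  have he : ∀ (F : (CohB1.ProjSpace n k).Modules),
      (fun r : ℤ => FGA.eulerCharLE k (CohB1.ProjSpace n k) (CohB1.tensorMod F (Groth.L02.Quot.OX i r)) n) =
      fun r : ℤ => FGA.eulerCharLE k (CohB1.ProjSpace n k) (CohB1.tensorMod F (Twist.twistProjSpace n k r)) n := by
    intro F
    funext r
    refine Groth.L17.Strat.eulerCharLE_iso (Groth.L00.Tensor.tensorIso (Iso.refl _) ?_) n
    exact (Scheme.Modules.pullbackComp _ _).app _ ≪≫
      (Scheme.Modules.pullbackCongr (Groth.L16.ProjSpace.isPullback_over n (R := k)).isoPullback_hom_fst).app _ ≪≫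
      (Groth.L22.Reg.nonempty_pullback_O _ r).some
  simp only [he] at hB
  exact hB

end Groth.Agent.S5699
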