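import Groth.Prelude.Def_PicRel2
import Groth.Prelude.Def_Pic
import Groth.Prelude.Def_CohB1
import Groth.Prelude.Def_Pi1
import Mathlib.AlgebraicGeometry.Morphisms.Proper
import Mathlib.AlgebraicGeometry.Morphisms.Flat
import Mathlib.AlgebraicGeometry.Morphisms.FiniteType
import Mathlib.AlgebraicGeometry.Morphisms.Smooth
import Mathlib.AlgebraicGeometry.Morphisms.ClosedImmersion
import Mathlib.AlgebraicGeometry.Noetherian
import Mathlib.AlgebraicGeometry.ResidueField
import Mathlib.RingTheory.Artinian.Ring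
import Mathlib.RingTheory.LocalRing.ResidueField.Defs
import Mathlib.Topology.Connected.Basic
import Mathlib.AlgebraicGeometry.Modules.Sheaf
import Mathlib.AlgebraicGeometry.Morphisms.Separated
import Groth.Agent.L02.RigidDesc.Rigid
import Groth.Agent.L02.PicGrpObj.Main
import Groth.Agent.L26.AbDual.Classes

set_option autoImplicit false
set_option linter.style.haveILetI false
namespace FGA
end FGA
universe u
open CategoryTheory CategoryTheory.Limits AlgebraicGeometry
open FGA

namespace Groth.Agent.S5700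

/-- Let f : X ⟶ S be quasi-compact and separated, with the induced maps from sections of the structure
sheaf of S to sections of the structure sheaf of X bijective over every open of S, and admitting a
section σ; let g : S' ⟶ S be flat, surjective and quasi-compact, X' = X ×_S S', S'' = S' ×_S S' and
X'' = X ×_S S'' with its two projections to X'. If L' is an invertible module on X' whose pullbacks
along the two projections X'' ⟶ X' become isomorphic after tensoring the second with the pullback of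
some invertible module on S'', then there are an invertible module L on X and an invertible module
N' on S' with L' isomorphic to the tensor product of the pullback of L and the pullback of N'.
(Exactness of Pic(X)/Pic(S) → Pic(X')/Pic(S') ⇉ Pic(X'')/Pic(S'').) (The published statement asks
for sections of f only locally on S and is phrased with relative Picard classes, the global sections
of the Zariski sheaf on S associated with U ↦ Pic(X_U); this row assumes a global section, in which
case those classes are classes of invertible modules on X modulo those pulled back from S, and the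
local-section form follows from it by restricting to the opens of S over which a section exists.) -/
theorem result {X S S' : Scheme.{u}} (f : X ⟶ S)
    [QuasiCompact f] [IsSeparated f] (hf : ∀ U : S.Opens, Function.Bijective (f.app U))
    (σ : S ⟶ X) (hσ : σ ≫ f = 𝟙 S)
    (g : S' ⟶ S) [Flat g] [Surjective g] [QuasiCompact g]
    (L' : (pullback f g).Modules) (hL' : PicF.IsInvertible L')
    (hcomp : ∃ N'' : (pullback g g).Modules, PicF.IsInvertible N'' ∧
      Nonempty ((Scheme.Modules.pullback (pullback.map f (pullback.fst g g ≫ g) f g (𝟙 X) (pullback.fst g g) (𝟙 S)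
          ((Category.comp_id f).trans (Category.id_comp f).symm) (Category.comp_id _))).obj L' ≅
        CohB1.tensorMod ((Scheme.Modules.pullback (pullback.map f (pullback.fst g g ≫ g) f g (𝟙 X) (pullback.snd g g) (𝟙 S)
          ((Category.comp_id f).trans (Category.id_comp f).symm) ((Category.comp_id _).trans pullback.condition))).obj L')
          ((Scheme.Modules.pullback (pullback.snd f (pullback.fst g g ≫ g))).obj N''))) :
    ∃ (L : X.Modules) (N' : S'.Modules), PicF.IsInvertible L ∧ PicF.IsInvertible N' ∧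
      Nonempty (L' ≅ CohB1.tensorMod ((Scheme.Modules.pullback (pullback.fst f g)).obj L)
        ((Scheme.Modules.pullback (pullback.snd f g)).obj N')) := by
  classical
  let g' := pullback.fst f g
  let p' := pullback.snd f g
  let σ' : S' ⟶ pullback f g := pullback.lift (g ≫ σ) (𝟙 S') (by rw [Category.assoc, hσ, Category.comp_id, Category.id_comp])
  have hσ' : σ' ≫ p' = 𝟙 S' := pullback.lift_snd _ _ _
  let q : pullback g g ⟶ S := pullback.fst g g ≫ g
  let h₁ : pullback f q ⟶ pullback f g := pullback.map f (pullback.fst g g ≫ g) f g (𝟙 X) (pullback.fst g g) (𝟙 S)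
    ((Category.comp_id f).trans (Category.id_comp f).symm) (Category.comp_id _)
  let h₂ : pullback f q ⟶ pullback f g := pullback.map f (pullback.fst g g ≫ g) f g (𝟙 X) (pullback.snd g g) (𝟙 S)
    ((Category.comp_id f).trans (Category.id_comp f).symm) ((Category.comp_id _).trans pullback.condition)
  let pP : pullback f q ⟶ pullback g g := pullback.snd f q
  have hf₁ : h₁ ≫ g' = pullback.fst f q := (pullback.lift_fst _ _ _).trans (Category.comp_id _)
  have hf₂ : h₂ ≫ g' = pullback.fst f q := (pullback.lift_fst _ _ _).trans (Category.comp_id _)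
  have hp₁ : h₁ ≫ p' = pP ≫ pullback.fst g g := pullback.lift_snd _ _ _
  have hp₂ : h₂ ≫ p' = pP ≫ pullback.snd g g := pullback.lift_snd _ _ _
  have hw : g' ≫ f = p' ≫ g := pullback.condition
  have sq : IsPullback h₁ h₂ g' g' := IsPullback.of_isLimit' ⟨hf₁.trans hf₂.symm⟩ (PullbackCone.IsLimit.mk _
    (fun s => pullback.lift (s.fst ≫ g') (pullback.lift (s.fst ≫ p') (s.snd ≫ p') (by
        rw [Category.assoc, Category.assoc, ← hw, reassoc_of% s.condition])) (by
        rw [Category.assoc]
        refine (congrArg (s.fst ≫ ·) hw).trans ?_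
        show _ = _ ≫ pullback.fst g g ≫ g
        rw [pullback.lift_fst_assoc, Category.assoc]))
    (fun s => pullback.hom_ext (by rw [Category.assoc, hf₁, pullback.lift_fst]) (by
        rw [Category.assoc, hp₁, pullback.lift_snd_assoc, pullback.lift_fst]))
    (fun s => pullback.hom_ext (by rw [Category.assoc, hf₂, pullback.lift_fst, s.condition]) (by
        rw [Category.assoc, hp₂, pullback.lift_snd_assoc, pullback.lift_snd]))
    (fun s m hm₁ hm₂ => pullback.hom_ext (by rw [pullback.lift_fst, ← hm₁, Category.assoc, hf₁]) (pullback.hom_ext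
        (by rw [pullback.lift_snd, pullback.lift_fst, ← hm₁, Category.assoc, Category.assoc, hp₁])
        (by rw [pullback.lift_snd, pullback.lift_snd, ← hm₂, Category.assoc, Category.assoc, hp₂]))))
  let sP : pullback g g ⟶ pullback f q := pullback.lift (q ≫ σ) (𝟙 _) (by rw [Category.assoc, hσ, Category.comp_id, Category.id_comp])
  have hsP : sP ≫ pP = 𝟙 _ := pullback.lift_snd _ _ _
  have hs₁ : sP ≫ h₁ = pullback.fst g g ≫ σ' := pullback.hom_ext
    (by rw [Category.assoc, hf₁, pullback.lift_fst]; simp only [σ', q, Category.assoc, pullback.lift_fst])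
    (by rw [Category.assoc, hp₁, pullback.lift_snd_assoc, Category.id_comp, Category.assoc, hσ', Category.comp_id])
  have hs₂ : sP ≫ h₂ = pullback.snd g g ≫ σ' := pullback.hom_ext
    (by rw [Category.assoc, hf₂, pullback.lift_fst]; simp only [σ', q, Category.assoc, pullback.lift_fst, pullback.condition_assoc])
    (by rw [Category.assoc, hp₂, pullback.lift_snd_assoc, Category.id_comp, Category.assoc, hσ', Category.comp_id])
  have hsurj : Function.Surjective pP.appTop :=
    (Groth.L02.Canon.DescInvertible.bijective_app_of_flat (IsPullback.of_hasPullback f q) hf ⊤).2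
  -- classes
  haveI : Std.Associative (PicGrp.mulCl (Y := pullback f g)) := ⟨Groth.Agent.AbDualLib.mulCl_assoc⟩
  haveI : Std.Commutative (PicGrp.mulCl (Y := pullback f g)) := ⟨Groth.Agent.AbDualLib.mulCl_comm⟩
  haveI : Std.Associative (PicGrp.mulCl (Y := pullback g g)) := ⟨Groth.Agent.AbDualLib.mulCl_assoc⟩
  haveI : Std.Commutative (PicGrp.mulCl (Y := pullback g g)) := ⟨Groth.Agent.AbDualLib.mulCl_comm⟩
  let N' := (Scheme.Modules.pullback σ').obj L'
  have hN' : PicF.IsInvertible N' := Groth.L18.Ample.isInvertible_pullback σ' hL'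
  obtain ⟨_, ⟨M', rfl, hM'⟩, hnm⟩ := Groth.L02.PicGrpObj.exists_inverseCl (c := PicF.cl N') ⟨N', rfl, hN'⟩
  obtain ⟨N'', hN'', ⟨e⟩⟩ := hcomp
  have hc : PicF.pullCl h₁ (PicF.cl L') = PicGrp.mulCl (PicF.pullCl h₂ (PicF.cl L')) (PicF.pullCl pP (PicF.cl N'')) :=
    (PicGrp.cl_eq_cl_iff _ _).2 ⟨e⟩
  have hn : PicF.pullCl (pullback.fst g g) (PicF.cl N') =
      PicGrp.mulCl (PicF.pullCl (pullback.snd g g) (PicF.cl N')) (PicF.cl N'') := by
    have h := congrArg (PicF.pullCl sP) hc
    rw [Groth.Agent.AbDualLib.pullCl_mulCl, ← PicLoc.pullCl_comp, ← PicLoc.pullCl_comp, ← PicLoc.pullCl_comp, hs₁, hs₂,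
      hsP, PicLoc.pullCl_id, PicLoc.pullCl_comp, PicLoc.pullCl_comp] at h
    exact h
  have hm : PicGrp.mulCl (PicF.cl N'') (PicF.pullCl (pullback.fst g g) (PicF.cl M')) =
      PicF.pullCl (pullback.snd g g) (PicF.cl M') := by
    have h1 : PicGrp.mulCl (PicF.pullCl (pullback.fst g g) (PicF.cl N')) (PicF.pullCl (pullback.fst g g) (PicF.cl M')) =
        Groth.Agent.AbDualLib.oneCl _ := by
      rw [← Groth.Agent.AbDualLib.pullCl_mulCl, hnm, Groth.Agent.AbDualLib.pullCl_oneCl]
    have h2 : PicGrp.mulCl (PicF.pullCl (pullback.snd g g) (PicF.cl N')) (PicF.pullCl (pullback.snd g g) (PicF.cl M')) =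
        Groth.Agent.AbDualLib.oneCl _ := by
      rw [← Groth.Agent.AbDualLib.pullCl_mulCl, hnm, Groth.Agent.AbDualLib.pullCl_oneCl]
    rw [hn] at h1
    calc _ = PicGrp.mulCl (PicGrp.mulCl (PicF.cl N'') (PicF.pullCl (pullback.fst g g) (PicF.cl M')))
          (PicGrp.mulCl (PicF.pullCl (pullback.snd g g) (PicF.cl N')) (PicF.pullCl (pullback.snd g g) (PicF.cl M'))) := by
          rw [h2, Groth.Agent.AbDualLib.mul_oneCl]
      _ = PicGrp.mulCl (PicF.pullCl (pullback.snd g g) (PicF.cl M')) (PicGrp.mulCl (PicGrp.mulCl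
          (PicF.pullCl (pullback.snd g g) (PicF.cl N')) (PicF.cl N'')) (PicF.pullCl (pullback.fst g g) (PicF.cl M'))) := by
          ac_rfl
      _ = _ := by rw [h1, Groth.Agent.AbDualLib.mul_oneCl]
  let L₁ := CohB1.tensorMod L' ((Scheme.Modules.pullback p').obj M')
  have hL₁ : PicF.IsInvertible L₁ :=
    Groth.L18.GenLoc.isInvertible_tensor hL' (Groth.L18.Ample.isInvertible_pullback p' hM')
  have hcl : PicF.cl L₁ = PicGrp.mulCl (PicF.cl L') (PicF.pullCl p' (PicF.cl M')) := rfl
  haveI : Std.Associative (PicGrp.mulCl (Y := pullback f q)) := ⟨Groth.Agent.AbDualLib.mulCl_assoc⟩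
  haveI : Std.Commutative (PicGrp.mulCl (Y := pullback f q)) := ⟨Groth.Agent.AbDualLib.mulCl_comm⟩
  have hφ : PicF.pullCl h₁ (PicF.cl L₁) = PicF.pullCl h₂ (PicF.cl L₁) := by
    rw [hcl, Groth.Agent.AbDualLib.pullCl_mulCl, Groth.Agent.AbDualLib.pullCl_mulCl, ← PicLoc.pullCl_comp,
      ← PicLoc.pullCl_comp, hp₁, hp₂, PicLoc.pullCl_comp, PicLoc.pullCl_comp, hc, ← hm,
      Groth.Agent.AbDualLib.pullCl_mulCl]
    ac_rfl
  have he₀ : PicF.pullCl σ' (PicF.cl L₁) = Groth.Agent.AbDualLib.oneCl S' := by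
    rw [hcl, Groth.Agent.AbDualLib.pullCl_mulCl, ← PicLoc.pullCl_comp, hσ', PicLoc.pullCl_id]
    exact hnm
  obtain ⟨φ₀⟩ := (PicGrp.cl_eq_cl_iff _ _).1 hφ
  obtain ⟨e₀⟩ := (PicGrp.cl_eq_cl_iff _ _).1 he₀
  -- triples
  let t₁ : pullback (pullback.snd g g) (pullback.fst g g) ⟶ S' := pullback.fst _ _ ≫ pullback.fst g g
  let t₂ : pullback (pullback.snd g g) (pullback.fst g g) ⟶ S' := pullback.fst _ _ ≫ pullback.snd g g
  let t₃ : pullback (pullback.snd g g) (pullback.fst g g) ⟶ S' := pullback.snd _ _ ≫ pullback.snd g g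
  have ht₁₂ : t₁ ≫ g = t₂ ≫ g := (Category.assoc _ _ _).trans
    ((congrArg (pullback.fst (pullback.snd g g) (pullback.fst g g) ≫ ·) pullback.condition).trans (Category.assoc _ _ _).symm)
  have ht₂' : t₂ = pullback.snd _ _ ≫ pullback.fst g g := pullback.condition
  have ht₂₃ : t₂ ≫ g = t₃ ≫ g := by
    rw [ht₂', Category.assoc, Category.assoc]
    exact congrArg (pullback.snd (pullback.snd g g) (pullback.fst g g) ≫ ·) pullback.condition
  let u := t₁ ≫ g
  let r : ∀ (t : pullback (pullback.snd g g) (pullback.fst g g) ⟶ S'), t ≫ g = u → (pullback f u ⟶ pullback f g) :=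
    fun t ht => pullback.lift (pullback.fst f u) (pullback.snd f u ≫ t) (by rw [pullback.condition, Category.assoc, ht])
  let sQ : pullback (pullback.snd g g) (pullback.fst g g) ⟶ pullback f u :=
    pullback.lift (u ≫ σ) (𝟙 _) (by rw [Category.assoc, hσ, Category.comp_id, Category.id_comp])
  have hsr : ∀ t ht, sQ ≫ r t ht = t ≫ σ' := fun t ht => pullback.hom_ext
    (by rw [Category.assoc, pullback.lift_fst, pullback.lift_fst, ← ht]; simp only [σ', Category.assoc, pullback.lift_fst])
    (by rw [Category.assoc, pullback.lift_snd, pullback.lift_snd_assoc, Category.id_comp, Category.assoc, hσ',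
      Category.comp_id])
  obtain ⟨L, hL, ⟨eL⟩⟩ := Groth.L02.RigidDesc.exists_descended_of_section σ' e₀ hσ' sq pP hp₁ hp₂ sP hsP hs₁ hs₂ hsurj
    hL₁ φ₀ (r t₁ rfl) (r t₂ ht₁₂.symm) (r t₃ (ht₁₂.trans ht₂₃).symm)
    (by rw [pullback.lift_fst, pullback.lift_fst]) (by rw [pullback.lift_fst, pullback.lift_fst])
    (fun {T} a b c hab hbc => by
      have hga : ∀ x : T ⟶ pullback f g, (x ≫ p') ≫ g = (x ≫ g') ≫ f := fun x =>
        (Category.assoc _ _ _).trans ((congrArg (x ≫ ·) hw.symm).trans (Category.assoc _ _ _).symm)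
      obtain ⟨z₁, z₁a, z₁b⟩ : ∃ z : T ⟶ pullback g g, z ≫ pullback.fst g g = a ≫ p' ∧ z ≫ pullback.snd g g = b ≫ p' :=
        ⟨pullback.lift (a ≫ p') (b ≫ p') (by rw [hga, hga, hab]), pullback.lift_fst _ _ _, pullback.lift_snd _ _ _⟩
      obtain ⟨z₂, z₂a, z₂b⟩ : ∃ z : T ⟶ pullback g g, z ≫ pullback.fst g g = b ≫ p' ∧ z ≫ pullback.snd g g = c ≫ p' :=
        ⟨pullback.lift (b ≫ p') (c ≫ p') (by rw [hga, hga, hbc]), pullback.lift_fst _ _ _, pullback.lift_snd _ _ _⟩
      obtain ⟨z, za, zb⟩ : ∃ z : T ⟶ pullback (pullback.snd g g) (pullback.fst g g),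
          z ≫ pullback.fst _ _ = z₁ ∧ z ≫ pullback.snd _ _ = z₂ :=
        ⟨pullback.lift z₁ z₂ (z₁b.trans z₂a.symm), pullback.lift_fst _ _ _, pullback.lift_snd _ _ _⟩
      have k₁ : z ≫ t₁ = a ≫ p' := by simp only [t₁]; rw [← Category.assoc, za, z₁a]
      have k₂ : z ≫ t₂ = b ≫ p' := by simp only [t₂]; rw [← Category.assoc, za, z₁b]
      have k₃ : z ≫ t₃ = c ≫ p' := by simp only [t₃]; rw [← Category.assoc, zb, z₂b]
      have hu : (a ≫ g') ≫ f = z ≫ u := by
        show _ = z ≫ t₁ ≫ g
        rw [← Category.assoc z, k₁, hga]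
      obtain ⟨x, xa, xb⟩ : ∃ x : T ⟶ pullback f u, x ≫ pullback.fst f u = a ≫ g' ∧ x ≫ pullback.snd f u = z :=
        ⟨pullback.lift (a ≫ g') z hu, pullback.lift_fst _ _ _, pullback.lift_snd _ _ _⟩
      have key : ∀ (t : _ ⟶ S') (ht : t ≫ g = u) (y : T ⟶ pullback f g), y ≫ g' = a ≫ g' → z ≫ t = y ≫ p' →
          x ≫ r t ht = y := fun t ht y h1 h2 => pullback.hom_ext
        (by rw [Category.assoc, pullback.lift_fst, xa]; exact h1.symm)
        (by rw [Category.assoc, pullback.lift_snd, ← Category.assoc, xb]; exact h2)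
      exact ⟨x, key t₁ rfl a rfl k₁, key t₂ ht₁₂.symm b hab.symm k₂, key t₃ (ht₁₂.trans ht₂₃).symm c (hab.trans hbc).symm k₃⟩)
    t₁ t₂ t₃ (pullback.snd f u) sQ (pullback.lift_snd _ _ _) (hsr t₁ rfl) (hsr t₂ ht₁₂.symm)
    (hsr t₃ (ht₁₂.trans ht₂₃).symm)
    (Groth.L02.Canon.DescInvertible.bijective_app_of_flat (IsPullback.of_hasPullback f u) hf ⊤).2
  refine ⟨L, N', hL, hN', (PicGrp.cl_eq_cl_iff _ _).1 ?_⟩
  show PicF.cl L' = PicGrp.mulCl (PicF.pullCl g' (PicF.cl L)) (PicF.pullCl p' (PicF.cl N'))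
  rw [show PicF.pullCl g' (PicF.cl L) = PicF.cl L₁ from (PicGrp.cl_eq_cl_iff _ _).2 ⟨eL⟩, hcl,
    Groth.Agent.AbDualLib.mulCl_assoc, ← Groth.Agent.AbDualLib.pullCl_mulCl,
    Groth.Agent.AbDualLib.mulCl_comm (PicF.cl M'), hnm, Groth.Agent.AbDualLib.pullCl_oneCl,
    Groth.Agent.AbDualLib.mul_oneCl]

end Groth.Agent.S5700
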