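import Groth.Statements.S5702
import Groth.Agent.L11.Az.MaxEtale
import Mathlib.RingTheory.Etale.Field

set_option autoImplicit false
universe u v
open TensorProduct
open Dix

namespace Groth.Agent.S5702

section
open Polynomial

theorem separable_of_pi {k : Type u} [Field k] {E : Type v} [CommRing E] [Algebra k E] [Algebra.Etale k E]
    (y : E) : IsSeparable k y := by
  classical
  obtain ⟨I, _, Ai, _, _, e, h⟩ := (Algebra.Etale.iff_exists_algEquiv_prod k E).mp inferInstance
  haveI := Fintype.ofFinite I
  haveI := fun i => (h i).1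
  haveI := fun i => (h i).2
  let S : Finset k[X] := Finset.univ.image fun i => minpoly k (e y i)
  have hS : ∀ q ∈ S, Irreducible q ∧ q.Monic ∧ q.Separable := by
    intro q hq
    obtain ⟨i, -, rfl⟩ := Finset.mem_image.mp hq
    have hi : IsIntegral k (e y i) := Algebra.IsIntegral.isIntegral _
    exact ⟨minpoly.irreducible hi, minpoly.monic hi, Algebra.IsSeparable.isSeparable k _⟩
  have hP : (∏ q ∈ S, q).Separable := separable_prod' (f := fun q => q)
    (fun a ha b hb hab => (hS a ha).1.coprime_iff_not_dvd.mpr fun hd =>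
      hab (eq_of_monic_of_associated (hS a ha).2.1 (hS b hb).2.1 ((hS a ha).1.associated_of_dvd (hS b hb).1 hd)))
    fun a ha => (hS a ha).2.2
  refine hP.of_dvd (minpoly.dvd k y (e.injective ?_))
  rw [map_zero, ← aeval_algHom_apply e]
  funext i
  rw [show aeval (e y) (∏ q ∈ S, q) i = aeval (e y i) (∏ q ∈ S, q) from
      (aeval_algHom_apply (Pi.evalAlgHom k Ai i) (e y) _).symm,
    ← Finset.mul_prod_erase S _ (Finset.mem_image_of_mem (fun i => minpoly k (e y i)) (Finset.mem_univ i)),
    map_mul, minpoly.aeval, zero_mul, Pi.zero_apply]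

end


/-- Let A be a finite-dimensional central simple algebra over a field k, of dimension r² over k. Then
there is an element x of A such that the commutative subalgebra k[x] it generates is étale over k
(all its elements are separable over k) and has dimension r over k. -/
theorem result (k : Type u) [Field k] (A : Type v) [Ring A] [Algebra k A] [Algebra.IsCentral k A] [IsSimpleRing A] [FiniteDimensional k A] (r : ℕ) (hA : Module.finrank k A = r ^ 2) : ∃ x : A, Algebra.IsSeparable k (Algebra.adjoin k ({x} : Set A)) ∧ Module.finrank k (Algebra.adjoin k ({x} : Set A)) = r := by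
  classical
  obtain ⟨x, hsep, hdeg⟩ := Groth.L11.Az.exists_regular (k := k) A hA
  have hm : (minpoly k x).Monic := minpoly.monic (Algebra.IsIntegral.isIntegral x)
  haveI : Algebra.Etale k (AdjoinRoot (minpoly k x)) := Groth.L11.Az.etale_adjoinRoot hm hsep
  let u := Groth.L11.Az.rootHom (minpoly k x) x (minpoly.aeval k x)
  have hu : Function.Injective u := Groth.L11.Az.rootHom_injective_minpoly x
  have hr : u.range = Algebra.adjoin k ({x} : Set A) := by
    rw [Algebra.adjoin_singleton_eq_range_aeval]
    apply le_antisymm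
    · rintro _ ⟨y, rfl⟩
      obtain ⟨p, rfl⟩ := AdjoinRoot.mk_surjective y
      exact ⟨p, rfl⟩
    · rintro _ ⟨p, rfl⟩
      exact ⟨AdjoinRoot.mk _ p, rfl⟩
  let e : AdjoinRoot (minpoly k x) ≃ₐ[k] Algebra.adjoin k ({x} : Set A) :=
    (AlgEquiv.ofInjective u hu).trans (Subalgebra.equivOfEq _ _ hr)
  refine ⟨x, ⟨fun z => ?_⟩, ?_⟩
  · obtain ⟨y, rfl⟩ := e.surjective z
    have := separable_of_pi (k := k) y
    rw [IsSeparable] at this ⊢
    rwa [minpoly.algEquiv_eq]
  · rw [← e.toLinearEquiv.finrank_eq, (AdjoinRoot.powerBasis' hm).finrank, AdjoinRoot.powerBasis'_dim, hdeg]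

end Groth.Agent.S5702
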