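import Groth.Statements.S5705
import Groth.Agent.L11.Az.Morita

set_option autoImplicit false
universe u v
open TensorProduct
open Dix

namespace Groth.Agent.S5705

/-- Over a local base, where the Zariski-local conclusion becomes global. Let R be a local ring and A an
Azumaya algebra over R. Then every R-algebra automorphism u of A is inner, u(x) = a x a⁻¹ for some
unit a of A, and the unit a is determined up to multiplication by a unit of R. -/
theorem result (R : Type u) [CommRing R] [IsLocalRing R] (A : Type v) [Ring A] [Algebra R A] [IsAzumaya R A] (u : A ≃ₐ[R] A) : (∃ a : Aˣ, ∀ x : A, u x = (a : A) * x * (a⁻¹ : Aˣ)) ∧ (∀ a a' : Aˣ, (∀ x : A, u x = (a : A) * x * (a⁻¹ : Aˣ)) → (∀ x : A, u x = (a' : A) * x * (a'⁻¹ : Aˣ)) → ∃ c : Rˣ, (a' : A) = algebraMap R A (c : R) * (a : A)) := by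
  refine ⟨Groth.L11.Az.exists_inner u, fun a a' ha ha' => ?_⟩
  haveI : Module.Free R A := Module.free_of_flat_of_isLocalRing
  have hc : ((a⁻¹ * a' : Aˣ) : A) ∈ Subalgebra.center R A := Subalgebra.mem_center_iff.mpr fun x => by
    have h := ((ha x).symm.trans (ha' x))
    have h2 := congrArg (fun z => ((a⁻¹ : Aˣ) : A) * z * (a' : A)) h
    simpa [mul_assoc] using h2
  rw [Algebra.IsCentral.center_eq_bot, Algebra.mem_bot] at hc
  obtain ⟨c, hc⟩ := hc
  obtain ⟨ρ, hρ⟩ := Groth.L11.Az.exists_retraction (R := R) A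
  let d := ρ ((a'⁻¹ * a : Aˣ) : A)
  have hcd : c * d = 1 := by
    rw [← hρ, ← Units.mul_inv (a⁻¹ * a'), ← hc, mul_inv_rev, inv_inv, ← Algebra.smul_def, map_smul, smul_eq_mul]
  refine ⟨⟨c, d, hcd, by rw [mul_comm, hcd]⟩, ?_⟩
  change (a' : A) = algebraMap R A c * a
  rw [Algebra.commutes, hc, ← Units.val_mul, mul_inv_cancel_left]

end Groth.Agent.S5705
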