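import Groth.Statements.S5706
import Groth.Agent.L28.DivGen.Components
import Groth.Agent.L28.DivGen.InjH2
import Groth.Agent.L28.DivGen.GmPullComp

set_option autoImplicit false
set_option linter.style.haveILetI false
set_option backward.isDefEq.respectTransparency.types false
universe u
open CategoryTheory AlgebraicGeometry CategoryTheory.Limits
open Dix

namespace Groth.Agent.S5706

open Groth.L28.DivGen Groth.L28.CurveCd in
/-- classes restricting to zero on each component vanish -/
theorem eq_zero_of_components {X : Scheme.{u}} [IsNoetherian X] (h : ∀ x : X, IsDomain (X.presheaf.stalk x))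
    [∀ Z : irreducibleComponents (X : Type u), PreservesFiniteLimits (EtCoh.pull (compOpen h Z).ι)] (n : ℕ)
    (ξ : EtCoh.H X (EtCoh.Gm X) n) (hξ : ∀ Z, EtLim.HGmPull (compOpen h Z).ι n ξ = 0) : ξ = 0 := by
  haveI := (TopologicalSpace.NoetherianSpace.finite_irreducibleComponents (α := X)).to_subtype
  haveI := Fintype.ofFinite (irreducibleComponents (X : Type u))
  haveI : HasBiproduct (compFam h) := HasBiproductsOfShape.has_biproduct _
  let ψ : EtCoh.Gm X ⟶ ⨁ compFam h := biproduct.lift fun Z => EtLim.GmPush (compOpen h Z).ι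
  haveI : Mono ψ := (Groth.L27.EtSite.mono_iff_stalks _).2 fun Ω _ _ ξ => (bijective_stalk_compGm h ξ).1
  haveI : Epi ψ := (Groth.L27.EtSite.epi_iff_stalks _).2 fun Ω _ _ ξ => (bijective_stalk_compGm h ξ).2
  haveI : IsIso ψ := isIso_of_mono_of_epi _
  haveI : IsIso ((EtCoh.HF X n).map ψ) := inferInstance
  refine ((AddCommGrpCat.mono_iff_injective ((EtCoh.HF X n).map ψ)).1 inferInstance)
    (Eq.trans ?_ (map_zero ((EtCoh.HF X n).map ψ).hom).symm)
  refine eq_zero_of_π (compFam h) n _ fun Z => ?_
  haveI := isClosedImmersion_compOpen h Z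
  refine (Groth.L27.EtSite.bijective_HofPush (compOpen h Z).ι _
    (fun r hr => Groth.L27.EtSite.isZero_Rpush_of_propB _ (Groth.L27.EtSite.propB_of_isIntegralHom _) _ r hr) n).1
      (Eq.trans ?_ (map_zero _).symm)
  refine Eq.trans (congrArg (EtLim.HofPush (compOpen h Z).ι _ n) ?_) (hξ Z)
  refine (ConcreteCategory.comp_apply _ _ _).symm.trans ?_
  refine congrArg (fun m => m.hom ξ) (((EtCoh.HF X n).map_comp ψ (biproduct.π (compFam h) Z)).symm.trans ?_)
  exact congrArg (EtCoh.HF X n).map (biproduct.lift_π _ Z)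

/-- Let X be a noetherian scheme such that for every scheme U étale over X all local rings of U are
factorial domains. Then the restriction map from H²(X_et, G_m) to the product of the groups H²(Spec
O_{X,x}, G_m), x running over the maximal points of X (generic points of the irreducible
components), is injective. The restriction maps are the pullbacks EtLim.HGmPull along Spec O_{X,x} →
X, whose exactness hypothesis is carried as an instance binder. -/
theorem result (X : Scheme.{u}) [IsNoetherian X] (hfact : ∀ (U : X.Etale) (v : U.left), IsDomain (U.left.presheaf.stalk v) ∧ UniqueFactorizationMonoid (U.left.presheaf.stalk v)) [∀ x : X, Limits.PreservesFiniteLimits (EtCoh.pull (X.fromSpecStalk x))] (ξ : EtCoh.H X (EtCoh.Gm X) 2) (hξ : ∀ x : X, (∀ y : X, y ⤳ x → y = x) → EtLim.HGmPull (X.fromSpecStalk x) 2 ξ = 0) : ξ = 0 := by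
  have h : ∀ x : X, IsDomain (X.presheaf.stalk x) := fun x => (hfact (EtCoh.top X) x).1
  haveI := fun Z => Groth.L27.EtSite.preservesFiniteLimits_pull (Groth.L28.DivGen.compOpen h Z).ι
  refine eq_zero_of_components h 2 ξ fun Z => ?_
  haveI := Groth.L28.DivGen.isIntegral_compOpen h Z
  haveI := Groth.L28.DivGen.isNoetherian_compOpen h Z
  let U := Groth.L28.DivGen.compOpen h Z
  let g := genericPoint (U : Scheme.{u})
  haveI := Groth.L27.EtSite.preservesFiniteLimits_pull ((U : Scheme.{u}).fromSpecStalk g)
  refine Groth.L28.DivGen.eq_zero_of_HGmPull_gen (U : Scheme.{u}) (Groth.L28.DivGen.fact_compOpen h hfact Z) _ ?_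
  let e := Spec.map (U.ι.stalkMap g)
  haveI := Groth.L27.EtSite.preservesFiniteLimits_pull e
  haveI := Groth.L27.EtSite.preservesFiniteLimits_pull ((U : Scheme.{u}).fromSpecStalk g ≫ U.ι)
  rw [Groth.L28.DivGen.HGmPull_comp ((U : Scheme.{u}).fromSpecStalk g) U.ι rfl 2 ξ,
    ← Groth.L28.DivGen.HGmPull_comp e (X.fromSpecStalk (U.ι g)) (Scheme.SpecMap_stalkMap_fromSpecStalk U.ι (x := g)) 2 ξ,
    hξ (U.ι g) ?_, map_zero]
  intro y hy
  obtain ⟨y', rfl⟩ : y ∈ Set.range U.ι := U.range_ι.ge (hy.mem_open U.isOpen g.2)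
  exact congrArg U.ι ((((U.ι.isOpenEmbedding.isInducing.specializes_iff).1 hy).antisymm
    ((genericPoint_spec (U : Scheme.{u})).specializes trivial)).eq)

end Groth.Agent.S5706
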