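import Groth.Statements.S5707
import Groth.Agent.L28.CurveCd.Biprod
import Groth.Agent.L28.CurveCd.GmStalk
import Groth.Agent.L28.CurveCd.PrimaryVanish
import Groth.Agent.L28.GmH1.ThickPush
import Groth.Agent.S6641

set_option autoImplicit false
set_option linter.style.haveILetI false
set_option linter.unusedVariables false
set_option backward.isDefEq.respectTransparency.types false
universe u
open CategoryTheory CategoryTheory.Limits AlgebraicGeometry Opposite
open Dix
open Groth.L28.CurveCd

namespace Groth.Agent.S5707

/-- the direct images of the multiplicative groups of the local rings at non-closed points -/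
noncomputable abbrev thickFam (X : Scheme.{u}) (x : {x : X // ¬ IsClosed ({x} : Set X)}) : EtCoh.Ab X :=
  (EtCoh.push (X.fromSpecStalk x.1)).obj (EtCoh.Gm (Spec (X.presheaf.stalk x.1)))

/-- Let X be a noetherian scheme of dimension at most 1 without embedded associated points, that is,
such that for every point x of X which is not a maximal point the maximal ideal of the local ring
O_{X,x} contains a non-zero-divisor (this holds for instance when X is reduced), and assume that
every closed point of X has separably closed residue field. Then the restriction map from H²(X_et,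
G_m) to the product of the groups H²(Spec O_{X,x}, G_m) over the maximal points x of X is injective:
a class whose restriction to Spec O_{X,x} vanishes for every maximal point x is zero. -/
theorem result (X : Scheme.{u}) [IsNoetherian X] (hdim : topologicalKrullDim X ≤ 1) (hemb : ∀ x : X, (∃ y : X, y ≠ x ∧ y ⤳ x) → ∃ t ∈ IsLocalRing.maximalIdeal (X.presheaf.stalk x), t ∈ nonZeroDivisors (X.presheaf.stalk x)) (hsep : ∀ x : X, IsClosed ({x} : Set X) → IsSepClosed (X.residueField x)) [∀ x : X, Limits.PreservesFiniteLimits (EtCoh.pull (X.fromSpecStalk x))] (ξ : EtCoh.H X (EtCoh.Gm X) 2) (hξ : ∀ x : X, (∀ y : X, y ⤳ x → y = x) → EtLim.HGmPull (X.fromSpecStalk x) 2 ξ = 0) : ξ = 0 := by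
  haveI := finite_not_closed (X := X) hdim
  haveI := Fintype.ofFinite {x : X // ¬ IsClosed ({x} : Set X)}
  classical
  haveI : HasBiproduct (thickFam X) := HasBiproductsOfShape.has_biproduct _
  let φ : EtCoh.Gm X ⟶ ⨁ (thickFam X) := biproduct.lift fun x => EtLim.GmPush (X.fromSpecStalk x.1)
  have hgen : ∀ (Ω : Type u) [Field Ω] [IsSepClosed Ω] (w : Spec (CommRingCat.of Ω) ⟶ X),
      ¬ IsClosed ({w.base default} : Set X) → Function.Bijective ((EtCoh.stalk w).map φ) := by
    intro Ω _ _ w hc
    obtain ⟨x, hx⟩ : ∃ x, w.base default = x := ⟨_, rfl⟩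
    obtain ⟨v, rfl⟩ := Groth.L28.Sky.exists_factor w x hx
    let x₀ : {x : X // ¬ IsClosed ({x} : Set X)} := ⟨x, hx ▸ hc⟩
    refine bijective_stalk_lift (thickFam X) _ _ x₀ (fun y hne => ?_) ?_
    · refine isZero_stalk_push_closure _ _ _ ?_
      rw [range_fromSpecStalk_of_max y.1 ((isClosed_or_maximal hdim y.1).resolve_left y.2), hx]
      exact not_specializes hdim x₀.2 fun e => hne (Subtype.ext e.symm)
    · have := bijective_stalk_fromSpecStalk x (v ≫ Spec.map (X.residue x))
      rwa [Category.assoc] at this
  have hb := bijective_of_acyclic φ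
    (fun q => (acyclic_ker_coker_of_nonclosed' hsep φ hgen q).1)
    (fun q => (acyclic_ker_coker_of_nonclosed' hsep φ hgen q).2) 0
  refine hb.1.injective (Eq.trans ?_ (map_zero ((EtCoh.HF X 2).map φ).hom).symm)
  refine eq_zero_of_π (thickFam X) 2 _ fun x => ?_
  have hmax := (isClosed_or_maximal hdim x.1).resolve_left x.2
  haveI := subsingleton_spec_stalk x.1 hmax
  haveI := isAffineHom_fromSpecStalk x.1 hmax
  let j : Spec (X.presheaf.stalk x.1) ⟶ X := X.fromSpecStalk x.1
  obtain ⟨-, h2⟩ := Groth.L28.GmH1.push_Gm_thick j (fun W hW => IsAffineHom.isAffine_preimage (f := j) W hW)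
  have hc : (EtCoh.HF X 2).map (biproduct.π (thickFam X) x) ((EtCoh.HF X 2).map φ ξ) =
      (EtCoh.HF X 2).map (EtLim.GmPush j) ξ := by
    refine (ConcreteCategory.comp_apply _ _ _).symm.trans ?_
    refine congrArg (fun m => m.hom ξ) (((EtCoh.HF X 2).map_comp φ (biproduct.π (thickFam X) x)).symm.trans ?_)
    exact congrArg (EtCoh.HF X 2).map (biproduct.lift_π _ x)
  rw [hc]
  exact h2 (Eq.trans (hξ x.1 hmax) (map_zero _).symm)

end Groth.Agent.S5707
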