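import Groth.Statements.S5708
import Groth.Agent.L28.CurveCd.GmGeneric
import Groth.Agent.L28.GmH1.PointPush
import Groth.Agent.L23.SourceReduced
import Groth.Agent.S0229
import Groth.Agent.S6641

set_option autoImplicit false
set_option linter.style.haveILetI false
set_option backward.isDefEq.respectTransparency.types false
universe u
open CategoryTheory CategoryTheory.Limits AlgebraicGeometry Opposite TopologicalSpace
open Dix
open Groth.L28.CurveCd Groth.L28.Sky
open Groth.L28.Divisor (val val_inj)

namespace Groth.Agent.S5708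

theorem injective_stalk {X : Scheme.{u}} [IsReduced X] (x : X) (hmax : ∀ y : X, y ⤳ x → y = x)
    {Ω : Type u} [Field Ω] [IsSepClosed Ω] (v : Spec (CommRingCat.of Ω) ⟶ Spec (X.residueField x))
    (z : (EtCoh.stalk (v ≫ X.fromSpecResidueField x)).obj (EtCoh.Gm X))
    (hz : (EtCoh.stalk (v ≫ X.fromSpecResidueField x)).map (gmPoint x) z = 0) : z = 0 := by
  obtain ⟨V, y, s, rfl⟩ :=
    (Scheme.pointSmallEtale (v ≫ X.fromSpecResidueField x)).toPresheafFiber_jointly_surjective z
  obtain ⟨W, g, y', hy', hn⟩ := exists_unipotent x v hmax y s hz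
  let h : W.left ⟶ X := W.hom
  haveI : AlgebraicGeometry.Etale h := W.prop
  haveI : IsReduced W.left := Groth.L23.isReduced_of_etale h
  have hs : (EtCoh.Gm X).obj.map g.op s = 0 :=
    val_inj (W := W.left) (sub_eq_zero.1 hn.eq_zero)
  refine (congrArg (fun q => germ _ V q s) hy'.symm).trans ?_
  refine (germ_res _ g y' s).symm.trans ?_
  exact (congrArg (germ (v ≫ X.fromSpecResidueField x) W y') hs).trans (map_zero _)

/-- Let k be an algebraically closed field and X a reduced scheme of finite type over k of dimension at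
most 1 (an algebraic curve). Then H²(X_et, G_m) = 0. (The published statement is the vanishing of
the Brauer group of Azumaya algebras, which embeds in H²(X_et, G_m); this row states the vanishing
of H²(X_et, G_m) and assumes X reduced.) -/
theorem result (k : Type u) [Field k] [IsAlgClosed k] (X : Scheme.{u}) (f : X ⟶ Spec (CommRingCat.of k)) [LocallyOfFiniteType f] [QuasiCompact f] [IsReduced X] (hdim : topologicalKrullDim X ≤ 1) : Subsingleton (Dix.BrCoh X) := by
  haveI : IsLocallyNoetherian X := LocallyOfFiniteType.isLocallyNoetherian f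
  haveI : CompactSpace X := QuasiCompact.compactSpace_of_compactSpace f
  haveI := finite_not_closed (X := X) hdim
  haveI := Fintype.ofFinite {x : X // ¬ IsClosed ({x} : Set X)}
  classical
  haveI : HasBiproduct (gmFam X) := HasBiproductsOfShape.has_biproduct _
  have hgen : ∀ (Ω : Type u) [Field Ω] [IsSepClosed Ω] (ξ : Spec (CommRingCat.of Ω) ⟶ X),
      ¬ IsClosed ({ξ.base default} : Set X) → Function.Bijective ((EtCoh.stalk ξ).map (gmGen X)) := by
    intro Ω _ _ ξ hc
    obtain ⟨x, hx⟩ : ∃ x, ξ.base default = x := ⟨_, rfl⟩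
    obtain ⟨v, rfl⟩ := exists_factor ξ x hx
    let x₀ : {x : X // ¬ IsClosed ({x} : Set X)} := ⟨x, hx ▸ hc⟩
    obtain ⟨hs, hi⟩ := stalk_gmGen hdim x₀ v
    exact ⟨(injective_iff_map_eq_zero _).2 fun z hz =>
      injective_stalk x₀.1 ((isClosed_or_maximal hdim x₀.1).resolve_left x₀.2) v z (hi z hz), hs⟩
  have hb := bijective_of_acyclic (gmGen X)
    (fun i => (acyclic_ker_coker_of_nonclosed f (gmGen X) hgen i).1)
    (fun i => (acyclic_ker_coker_of_nonclosed f (gmGen X) hgen i).2) 0
  haveI hsum : Subsingleton ↥((EtCoh.HF X 2).obj (⨁ (gmFam X))) := by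
    haveI := isAdditive_HF (X := X) 2
    refine AddCommGrpCat.subsingleton_of_isZero (Groth.Agent.S6641.isZero_biproduct _ (gmFam X) fun x => ?_)
    haveI : Subsingleton ↥((EtCoh.HF X 2).obj (gmFam X x)) := by
      obtain ⟨_, htr⟩ := exists_algebra_trdeg_point f hdim x.1 x.2
      let j : Spec (CommRingCat.of (X.residueField x.1)) ⟶ X := X.fromSpecResidueField x.1
      haveI := Groth.L27.EtSite.preservesFiniteLimits_pull j
      haveI := Groth.Agent.S0229.result k (X.residueField x.1) htr 2 one_le_two
      exact (Groth.L28.GmH1.push_Gm j (fun W _ => Groth.L28.GmH1.isAffine_preimage_point j W)).2.subsingleton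
    exact AddCommGrpCat.isZero_of_subsingleton _
  exact hb.1.injective.subsingleton

end Groth.Agent.S5708
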