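import Groth.Statements.S5710
import Groth.Agent.L11.Az.MaxEtale

set_option autoImplicit false
universe u v
open TensorProduct
open Dix

namespace Groth.Agent.S5710

/-- Over a local base where the open neighbourhood is the whole scheme. Let R be a local ring with
residue field k and A an Azumaya algebra over R whose rank as a (free) R-module is r². Then A has a
maximal étale subalgebra: there are a commutative R-algebra E, finite étale and free of rank r over
R, and an R-algebra homomorphism u : E → A which is injective on the special fibre, k ⊗_R E → k ⊗_R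
A. -/
theorem result (R : Type u) [CommRing R] [IsLocalRing R] (A : Type u) [Ring A] [Algebra R A] [IsAzumaya R A] (r : ℕ) (hA : Module.finrank R A = r ^ 2) : ∃ (E : Type u) (_ : CommRing E) (_ : Algebra R E), Algebra.Etale R E ∧ Module.Finite R E ∧ Module.Free R E ∧ Module.finrank R E = r ∧ ∃ u : E →ₐ[R] A, Function.Injective (u.toLinearMap.lTensor (IsLocalRing.ResidueField R)) := by
  obtain ⟨f, ξ, hf, hmon, hdeg, hsep, hinj⟩ := Groth.L11.Az.exists_maxEtale (A := A) hA
  refine ⟨AdjoinRoot f, inferInstance, inferInstance, Groth.L11.Az.etale_adjoinRoot hmon hsep,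
    hmon.finite_adjoinRoot, hmon.free_adjoinRoot, ?_, Groth.L11.Az.rootHom f ξ hf, hinj⟩
  rw [(AdjoinRoot.powerBasis' hmon).finrank, AdjoinRoot.powerBasis'_dim, hdeg]

end Groth.Agent.S5710
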