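import Groth.Statements.S5713
import Groth.Agent.L11.Az.MaxEtale

set_option autoImplicit false
universe u v
open TensorProduct
open Dix

namespace Groth.Agent.S5713

/-- Over a local base. Let R be a local ring with residue field k, A an Azumaya algebra over R of rank
r², and ξ ∈ A an element whose image ξ̄ = 1 ⊗ ξ in k ⊗_R A is regular, i.e. generates a commutative
subalgebra k[ξ̄] which is étale over k (all elements separable) of dimension r. Then the powers 1,
ξ, …, ξ^{r-1} are linearly independent over R and ξ^r lies in their R-linear span; thus R[ξ] is a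
free R-module of rank r closed under multiplication, and ξ is a regular section over all of Spec R. -/
theorem result (R : Type u) [CommRing R] [IsLocalRing R] (A : Type u) [Ring A] [Algebra R A] [IsAzumaya R A] (r : ℕ) (hA : Module.finrank R A = r ^ 2) (ξ : A) (hsep : Algebra.IsSeparable (IsLocalRing.ResidueField R) (Algebra.adjoin (IsLocalRing.ResidueField R) ({(1 : IsLocalRing.ResidueField R) ⊗ₜ[R] ξ} : Set (IsLocalRing.ResidueField R ⊗[R] A)))) (hrk : Module.finrank (IsLocalRing.ResidueField R) (Algebra.adjoin (IsLocalRing.ResidueField R) ({(1 : IsLocalRing.ResidueField R) ⊗ₜ[R] ξ} : Set (IsLocalRing.ResidueField R ⊗[R] A))) = r) : LinearIndependent R (fun i : Fin r => ξ ^ (i : ℕ)) ∧ ξ ^ r ∈ Submodule.span R (Set.range (fun i : Fin r => ξ ^ (i : ℕ))) := by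
  classical
  set k := IsLocalRing.ResidueField R
  set ξb : k ⊗[R] A := (1 : k) ⊗ₜ[R] ξ
  set S := Algebra.adjoin k ({ξb} : Set (k ⊗[R] A))
  have hs : (minpoly k ξb).Separable := by
    have h := Algebra.IsSeparable.isSeparable k (⟨ξb, Algebra.self_mem_adjoin_singleton k ξb⟩ : S)
    unfold IsSeparable at h
    rwa [← minpoly.algHom_eq S.val Subtype.val_injective] at h
  have hd : (minpoly k ξb).natDegree = r := by
    have hmon := minpoly.monic (Algebra.IsIntegral.isIntegral (R := k) ξb)
    let φ := Groth.L11.Az.rootHom (minpoly k ξb) ξb (minpoly.aeval _ _)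
    have hr : S = φ.range := by
      change Algebra.adjoin k ({ξb} : Set (k ⊗[R] A)) = _
      rw [Algebra.adjoin_singleton_eq_range_aeval]
      ext z
      constructor
      · rintro ⟨p, rfl⟩; exact ⟨AdjoinRoot.mk _ p, rfl⟩
      · rintro ⟨y, rfl⟩
        obtain ⟨p, rfl⟩ := AdjoinRoot.mk_surjective y
        exact ⟨p, rfl⟩
    have h := (AlgEquiv.ofInjective φ (Groth.L11.Az.rootHom_injective_minpoly ξb)).toLinearEquiv.finrank_eq
    rw [(AdjoinRoot.powerBasis' hmon).finrank, AdjoinRoot.powerBasis'_dim] at h
    rw [h, ← hr, hrk]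
  exact (Groth.L11.Az.regular_element hA ξ hs hd).2

end Groth.Agent.S5713
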