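import Groth.Agent.L18.RelProjCounit
import Groth.Agent.L18.PBundle.Ample
import Groth.Statements.S5727
-- import your own Groth.Agent.* helpers here

set_option autoImplicit false
universe u
open CategoryTheory CategoryTheory.Limits AlgebraicGeometry TopologicalSpace Opposite
open scoped HomogeneousIdeal
open EGA2

namespace Groth.Agent.S5727

/-- Let Z be a scheme which is either quasi-compact and separated or has Noetherian underlying space, g
: Y → Z a quasi-compact morphism, K an invertible O_Y-module which is very ample relative to g, and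
E a quasi-coherent O_Y-module of finite type. Then there is m₀ such that for every m ≥ m₀ there are
a quasi-coherent O_Z-module F of finite type (depending on m) and an epimorphism g^*F → E ⊗ K^{⊗m}.
(The published statement says that E is isomorphic to a quotient of g^*F ⊗ K^{⊗(-m)}; for invertible
K this is the same as E ⊗ K^{⊗m} being a quotient of g^*F, the form used here, which avoids negative
tensor powers.) -/
theorem result {Y Z : Scheme.{u}}
    (hZ : (CompactSpace Z ∧ Z.IsSeparated) ∨ TopologicalSpace.NoetherianSpace Z) (g : Y ⟶ Z) [QuasiCompact g]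
    (K : Y.Modules) (hK : PicF.IsInvertible K) (hKva : RelProj.IsRelVeryAmple g K)
    (E : Y.Modules) (hE : Coh.IsQCoh E) (hEft : CohB1.IsFT E) :
    ∃ m₀ : ℕ, ∀ m : ℕ, m₀ ≤ m →
      ∃ (F : Z.Modules) (φ : (Scheme.Modules.pullback g).obj F ⟶ CohB1.tensorMod E (CohB1.tensorPow K m)),
        Coh.IsQCoh F ∧ CohB1.IsFT F ∧ Epi φ := by
  haveI hc : CompactSpace Z := hZ.elim (fun h => h.1) fun h => inferInstance
  haveI : QuasiSeparatedSpace Z := hZ.elim (fun h => by haveI := h.2; infer_instance) fun h => inferInstance
  have hamp := Groth.L18.PBundle.isRelAmple_of_isRelVeryAmple hKva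
  haveI : IsSeparated g := Groth.L18.RelCounit.isSeparated_of_isRelAmple hamp
  haveI : CompactSpace Y := QuasiCompact.compactSpace_of_compactSpace g
  haveI : Coh.IsQCoh E := hE
  obtain ⟨m₀, -, hm₀⟩ := Groth.L18.Ample.exists_isRelAmple_counit_epi g hamp E ⟨hE, hEft⟩
  refine ⟨m₀, fun m hm => ?_⟩
  have hpi := Groth.L18.Ample.isInvertible_tensorPow hK m
  haveI : Coh.IsQCoh (CohB1.tensorPow K m) := Groth.L21.Extend.isQCoh_of_isInvertible hpi
  haveI : Coh.IsQCoh (CohB1.tensorMod E (CohB1.tensorPow K m)) := Groth.L00.Tensor.isQCoh_tensorMod _ _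
  haveI := hm₀ m hm
  exact Groth.L18.CounitQuot.exists_quotient_pullback g (CohB1.tensorMod E (CohB1.tensorPow K m))
    (Groth.L00.Tensor.isFT_tensorMod _ _ hEft (Groth.L18.Ample.isFT_of_isInvertible hpi))

end Groth.Agent.S5727
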