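import Groth.Agent.L18.PBundle.VeryAmpleSec
import Groth.Agent.L18.PBundle.Embed
import Groth.Agent.L16.QcqsPush
import Groth.Statements.S5728
-- import your own Groth.Agent.* helpers here

set_option autoImplicit false
universe u
open CategoryTheory CategoryTheory.Limits AlgebraicGeometry TopologicalSpace Opposite
open scoped HomogeneousIdeal
open EGA2

namespace Groth.Agent.S5728

/-- Let f : X → Y be a proper morphism and L an invertible O_X-module which is very ample relative to f
and whose direct image f_*L (a quasi-coherent O_Y-module) is of finite type. Then f is projective: X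
is isomorphic over Y to the relative homogeneous spectrum of a quasi-coherent graded O_Y-algebra
generated by its degree-one part, with that part of finite type. -/
theorem result {X Y : Scheme.{u}} (f : X ⟶ Y) [IsProper f]
    (L : X.Modules) (hL : PicF.IsInvertible L) (hva : RelProj.IsRelVeryAmple f L)
    (hft : CohB1.IsFT ((Scheme.Modules.pushforward f).obj L)) : RelProj.IsProjective f := by
  haveI := Groth.L21.Extend.isQCoh_of_isInvertible hL
  haveI hQ : Coh.IsQCoh ((Scheme.Modules.pushforward f).obj L) := Groth.L16.QcqsPush.isQCoh_push L f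
  haveI hepi := Groth.L18.PBundle.counit_epi_of_isRelVeryAmple hva
  obtain ⟨P, p, chart, hP⟩ := Groth.L18.RP.exists_isRelProj (Groth.L18.SymSheaf.symGr ((Scheme.Modules.pushforward f).obj L))
  have hj := Groth.L18.SymSheaf.isGrSymAlg ((Scheme.Modules.pushforward f).obj L)
  obtain ⟨O1, lam, hO1⟩ := Groth.L18.PBundle.exists_twist hP 1
  obtain ⟨φ, hφ⟩ := Groth.L18.PBundle.exists_taut hj hP hQ hO1
  obtain ⟨r, hr, hs⟩ := Groth.L18.PBundle.exists_morphism hj hQ hP hO1 hφ hL
    ((Scheme.Modules.pullbackPushforwardAdjunction f).counit.app L) hepi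
  have h1 : Groth.L18.PBundle.adjSec ((Scheme.Modules.pullbackPushforwardAdjunction f).counit.app L) =
      𝟙 ((Scheme.Modules.pushforward f).obj L) := by
    rw [Groth.L18.PBundle.adjSec, Adjunction.homEquiv_unit]
    exact (Scheme.Modules.pullbackPushforwardAdjunction f).right_triangle_components _
  obtain ⟨τ, hτ⟩ := hs
  have hs : Groth.L18.PBundle.Sol φ r hr (𝟙 ((Scheme.Modules.pushforward f).obj L)) :=
    ⟨τ, fun U e => (hτ U e).trans (congrArg (Groth.L18.Frame.rs L _) (congr(($h1).app U e)))⟩
  haveI := Groth.L18.PBundle.isImmersion_of_pushforward hva hQ hj hO1 hφ hs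
  haveI : IsSeparated p := Groth.L18.RP.isSeparated hP
  haveI : IsProper r := by
    haveI : IsProper (r ≫ p) := hr.symm ▸ inferInstance
    exact IsProper.of_comp r p
  haveI : IsClosedImmersion r := IsClosedImmersion.of_isPreimmersion r r.isClosedMap.isClosed_range
  exact (Groth.L18.PBundle.isProjective_iff f).2
    ⟨_, _, _, P, p, chart, r, hQ, hft, hj, hP, inferInstance, hr⟩

end Groth.Agent.S5728
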