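import Groth.Statements.S5749
import Groth.Agent.L16.ProjSpace.SerreVanishing
import Groth.Agent.L16.CohClosedPush
import Groth.Agent.L17.ProjFormula
import Groth.Agent.L17.AffinePush
import Groth.Agent.L16.Existence.AmpleVanish
import Groth.Agent.L16.AffineBC.Pullback
import Groth.Agent.L29.DCoh.TensorPerfect
import Groth.Agent.L05.Prufer.Vanishing

set_option autoImplicit false
universe u
open Coherent

set_option backward.isDefEq.respectTransparency.types false
set_option linter.style.haveILetI false
set_option backward.isDefEq.respectTransparency false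
namespace Groth.Agent.S5749

open AlgebraicGeometry CategoryTheory in
/-- Let A be an Artinian local ring, i : X → P^r_A a closed immersion compatible with the structure
morphisms to Spec A (X projective over A with the very ample module i^* O(1)), F a coherent
O_X-module and F(n) = F ⊗ i^* O(n). Then for all sufficiently large n the Euler characteristic
χ_A(F(n)) = Σ_{j ≤ r} (-1)^j length_A H^j(X, F(n)) equals the length of H^0(X, F(n)), the A-module
of global sections of F(n). -/
theorem result (A : Type u) [CommRing A]
    [IsArtinianRing A] [IsLocalRing A] (r : ℕ) (X : Scheme.{u}) [X.Over (Spec (CommRingCat.of A))]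
    (i : X ⟶ CohB1.ProjSpace r A) [IsClosedImmersion i]
    (hi : i ≫ CohB1.ProjSpace.toSpec r A = X ↘ Spec (CommRingCat.of A)) (F : X.Modules) (hF : Coh.IsCoh F) :
    ∃ N : ℤ, ∀ n : ℤ, N ≤ n →
      ((Finset.range (r + 1)).sum fun j => (-1 : ℤ) ^ j *
        ((Module.length A (Coh.HH X (CohB1.tensorMod F
          ((Scheme.Modules.pullback i).obj (Twist.twistProjSpace r A n))) j)).toNat : ℤ)) =
      ((Module.length A (Coh.HH X (CohB1.tensorMod F
          ((Scheme.Modules.pullback i).obj (Twist.twistProjSpace r A n))) 0)).toNat : ℤ) := by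
  haveI : IsNoetherianRing A := inferInstance
  haveI : IsLocallyNoetherian (CohB1.ProjSpace r A) :=
    LocallyOfFiniteType.isLocallyNoetherian (CohB1.ProjSpace.toSpec r A)
  have hpush : Coh.IsCoh ((Coh.push i).obj F) := Groth.L16.CohClosedPush.isCoh_push i hF
  obtain ⟨N, hN⟩ := Groth.L16.ProjSpace.exists_vanishing r A _ hpush
  refine ⟨(N : ℤ), fun n hn => ?_⟩
  obtain ⟨d, rfl⟩ := Int.eq_ofNat_of_zero_le ((Int.natCast_nonneg N).trans hn)
  rw [Finset.sum_eq_single 0]
  · simp
  · intro j _ hj
    let O := Twist.twistProjSpace r A (d : ℤ)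
    have hO : FlatMod.IsFinLocFree O :=
      Groth.L16.Existence.isFinLocFree_of_isInvertible (Groth.L16.ProjTwist.isInvertible_twistProjSpace r A (d : ℤ))
    haveI : Coh.IsQCoh F := hF.1
    haveI : Coh.IsQCoh O := Groth.L16.ProjTwist.isQCoh_twist (CohB1.polyGrading r A) d
    haveI := Groth.L16.AffineBC.isQCoh_pullback i O
    haveI := Groth.L00.Tensor.isQCoh_tensorMod ((Scheme.Modules.pullback i).obj O) F
    have h1 : Subsingleton (Coh.HH (CohB1.ProjSpace r A)
        ((Coh.push i).obj (CohB1.tensorMod ((Scheme.Modules.pullback i).obj O) F)) j) :=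
      Groth.L16.ProjSpace.subsingleton_of_iso ((Groth.L17.ProjFormula.projIso i O hO).app F).symm j
        (hN d (Int.ofNat_le.1 hn) j (Nat.pos_of_ne_zero hj))
    obtain ⟨e₃⟩ := Groth.L17.nonempty_HH_push_of_isAffineHom i
      (CohB1.tensorMod ((Scheme.Modules.pullback i).obj O) F) j
    have h2 : Subsingleton (Coh.HH X (CohB1.tensorMod F ((Scheme.Modules.pullback i).obj O)) j) :=
      Groth.L16.ProjSpace.subsingleton_of_iso (Groth.L00.Tensor.tensorComm _ _) j
        (@Equiv.subsingleton _ _ e₃.toEquiv h1)
    haveI := h2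
    rw [Module.length_eq_zero]
    simp
  · simp

end Groth.Agent.S5749
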