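import Groth.Statements.S5750
import Groth.Agent.S5749
import Mathlib.Analysis.Polynomial.Basic

set_option autoImplicit false
universe u
open Coherent

set_option backward.isDefEq.respectTransparency.types false
namespace Groth.Agent.S5750

open AlgebraicGeometry CategoryTheory in
/-- Let A be an Artinian local ring, i : X → P^r_A a closed immersion compatible with the structure
morphisms to Spec A, F a coherent O_X-module and F(n) = F ⊗ i^* O(n). If a polynomial P over ℚ
satisfies P(n) = χ_A(F(n)) = Σ_{j ≤ r} (-1)^j length_A H^j(X, F(n)) for every integer n (the Hilbert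
polynomial of F), then the leading coefficient of P is non-negative. -/
theorem result (A : Type u) [CommRing A]
    [IsArtinianRing A] [IsLocalRing A] (r : ℕ) (X : Scheme.{u}) [X.Over (Spec (CommRingCat.of A))]
    (i : X ⟶ CohB1.ProjSpace r A) [IsClosedImmersion i]
    (hi : i ≫ CohB1.ProjSpace.toSpec r A = X ↘ Spec (CommRingCat.of A)) (F : X.Modules) (hF : Coh.IsCoh F)
    (P : Polynomial ℚ)
    (hP : ∀ n : ℤ, ((Finset.range (r + 1)).sum fun j => (-1 : ℚ) ^ j *
        ((Module.length A (Coh.HH X (CohB1.tensorMod F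
          ((Scheme.Modules.pullback i).obj (Twist.twistProjSpace r A n))) j)).toNat : ℚ)) = P.eval (n : ℚ)) :
    0 ≤ P.leadingCoeff := by
  obtain ⟨N, hN⟩ := Groth.Agent.S5749.result A r X i hi F hF
  by_contra hneg
  push Not at hneg
  have hev : ∀ n : ℕ, N ≤ (n : ℤ) → 0 ≤ P.eval (n : ℚ) := fun n hn => by
    have h1 := hP (n : ℤ)
    have h2 := hN (n : ℤ) hn
    rw [Int.cast_natCast] at h1
    rw [← h1]
    have h3 := congrArg (fun z : ℤ => (z : ℚ)) h2
    push_cast at h3
    exact h3 ▸ Nat.cast_nonneg _
  rcases Nat.eq_zero_or_pos P.natDegree with h0 | h0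
  · have h4 := hev N.toNat (Int.self_le_toNat N)
    rw [Polynomial.eq_C_of_natDegree_eq_zero h0, Polynomial.eval_C] at h4
    rw [Polynomial.leadingCoeff, h0] at hneg
    exact absurd h4 (not_le.2 hneg)
  · have ht := Polynomial.tendsto_atBot_of_leadingCoeff_nonpos (P := P)
      (Polynomial.natDegree_pos_iff_degree_pos.1 h0) hneg.le
    obtain ⟨M, hM⟩ := Filter.eventually_atTop.1 ((ht.comp tendsto_natCast_atTop_atTop).eventually
      (Filter.eventually_lt_atBot (0 : ℚ)))
    have h5 := hev (max M N.toNat) ((Int.self_le_toNat N).trans (Int.ofNat_le.2 (le_max_right _ _)))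
    exact absurd h5 (not_le.2 (hM _ (le_max_left _ _)))

end Groth.Agent.S5750
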