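import Groth.Statements.S5751
import Groth.Agent.L18.GrMod.AlphaEventually

set_option autoImplicit false
universe u
open CategoryTheory CategoryTheory.Limits AlgebraicGeometry Opposite TopologicalSpace
open scoped HomogeneousIdeal
noncomputable section
open Coherent

namespace Groth.Agent.S5751

/-- Over an affine base, for a graded ring generated in degree one, let S be a Noetherian commutative
ring positively graded by additive subgroups with irrelevant ideal generated by S_1, X = Proj S, and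
M a graded S-module (non-negatively graded here, the direct sum of its pieces) satisfying (TF): for
some k the submodule generated by the homogeneous elements of degree ≥ k is finitely generated.
Consider the graded module of sections n ↦ N_n = Γ(X, M(n)~), on which a homogeneous a ∈ S_e acts by
N_n → N_{n+e}, s ↦ (a/1)·s. Then there is k such that for every e ≥ 0 the group N_{k+e} is generated
by the images a · N_k, a ∈ S_e. (For a ring generated in degree one, condition (TF) for the graded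
module ⊕_n N_n is this eventual generation together with the finiteness of each N_n over S_0.) -/
theorem result {A σ : Type u} [CommRing A]
    [IsNoetherianRing A] [SetLike σ A] [AddSubgroupClass σ A] (𝒜 : ℕ → σ) [GradedRing 𝒜]
    (hgen : (HomogeneousIdeal.irrelevant 𝒜).toIdeal = Ideal.span (𝒜 1 : Set A))
    {M τ : Type u} [AddCommGroup M] [Module A M] [SetLike τ M] [AddSubgroupClass τ M] (ℳ : ℕ → τ)
    [SetLike.GradedSMul 𝒜 ℳ] [DirectSum.Decomposition ℳ]
    (hTF : ∃ k : ℕ, (Submodule.span A (⋃ i ∈ Set.Ici k, (ℳ i : Set M))).FG) :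
    ∃ k : ℕ, ∀ e : ℕ,
      (⨆ a : 𝒜 e, (GrMod.smulSect 𝒜 ℳ a (k : ℤ)
        (op (⊤ : Opens (ProjectiveSpectrum.top 𝒜)))).range) = ⊤ := by
  classical
  obtain ⟨N, hN⟩ := Groth.L18.AlphaEv.exists_bijective 𝒜 ℳ hTF
  obtain ⟨k₀, hk₀⟩ := hTF
  obtain ⟨G, hG, hspan⟩ := (Submodule.fg_span_iff_fg_span_finset_subset _).1 hk₀
  choose ε hεk hεm using fun g : G => Set.mem_iUnion₂.1 (hG g.2)
  let k : ℕ := max (max N k₀) (Finset.univ.sup ε)
  refine ⟨k, fun e => ?_⟩
  let Q : (e : ℕ) → AddSubgroup M := fun e => AddSubgroup.closure {z | ∃ a ∈ 𝒜 e, ∃ m ∈ ℳ k, z = a • m}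
  have step : ∀ e : ℕ, ∀ t ∈ 𝒜 1, ∀ z ∈ Q e, t • z ∈ Q (e + 1) := by
    intro e t ht z hz
    induction hz using AddSubgroup.closure_induction with
    | mem z hz =>
      obtain ⟨a, ha, m, hm, rfl⟩ := hz
      refine AddSubgroup.subset_closure ⟨t * a, ?_, m, hm, smul_smul _ _ _⟩
      have := SetLike.mul_mem_graded ht ha
      rwa [Nat.add_comm] at this
    | zero => rw [smul_zero]; exact zero_mem _
    | add x y _ _ hx hy => rw [smul_add]; exact add_mem hx hy
    | neg x _ hx => rw [smul_neg]; exact neg_mem hx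
  have main : ∀ e : ℕ, ∀ y ∈ ℳ (k + e), y ∈ Q e := by
    intro e
    induction e with
    | zero => exact fun y hy => AddSubgroup.subset_closure ⟨1, SetLike.GradedOne.one_mem, y, hy, (one_smul _ _).symm⟩
    | succ e ih =>
      intro y hy
      obtain ⟨c, hc⟩ := Submodule.mem_span_finset'.1 (show y ∈ Submodule.span A (G : Set M) from
        hspan ▸ Submodule.subset_span (Set.mem_iUnion₂.2 ⟨k + (e + 1),
          ((le_max_right _ _).trans (le_max_left _ _)).trans (Nat.le_add_right k (e + 1)), hy⟩))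
      rw [show y = (DirectSum.decompose ℳ y (k + (e + 1)) : M) from (DirectSum.decompose_of_mem_same ℳ hy).symm,
        ← hc, DirectSum.decompose_sum, DFinsupp.finsetSum_apply, AddSubmonoidClass.coe_finsetSum]
      refine sum_mem fun g _ => ?_
      have hgk : ε g ≤ k := (Finset.le_sup (Finset.mem_univ g)).trans (le_max_right _ _)
      rw [Groth.L18.GrM.decompose_smul_of_mem (𝒜 := 𝒜) (ℳ := ℳ) (hεm g), if_pos (by omega)]
      set a : A := GradedRing.proj 𝒜 (k + (e + 1) - ε g) (c g)
      have ha : a ∈ 𝒜 (k + (e + 1) - ε g) := SetLike.coe_mem _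
      have haI : a ∈ Ideal.span (𝒜 1 : Set A) := by
        rw [← hgen, HomogeneousIdeal.toIdeal_irrelevant, RingHom.mem_ker, GradedRing.projZeroRingHom_apply]
        exact DirectSum.decompose_of_mem_ne 𝒜 ha (by omega)
      obtain ⟨T, hT, haT⟩ := Submodule.mem_span_finite_of_mem_span haI
      obtain ⟨d, hd⟩ := Submodule.mem_span_finset'.1 haT
      rw [show a = GradedRing.proj 𝒜 (k + (e + 1) - ε g) a by
        rw [GradedRing.proj_apply, DirectSum.decompose_of_mem_same 𝒜 ha], ← hd, map_sum, Finset.sum_smul]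
      refine sum_mem fun t _ => ?_
      rw [smul_eq_mul, GradedRing.proj_apply,
        DirectSum.coe_decompose_mul_of_right_mem_of_le 𝒜 (hT t.2) (by omega), mul_comm, mul_smul]
      refine step e _ (hT t.2) _ (ih _ ?_)
      have hmem := SetLike.GradedSMul.smul_mem (A := 𝒜) (B := ℳ)
        (SetLike.coe_mem (DirectSum.decompose 𝒜 (d t) (k + (e + 1) - ε g - 1))) (hεm g)
      rwa [vadd_eq_add, show k + (e + 1) - ε g - 1 + ε g = k + e by omega] at hmem
  refine top_le_iff.1 fun x _ => ?_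
  let R := ⨆ a : 𝒜 e, (GrMod.smulSect 𝒜 ℳ a (k : ℤ) (op (⊤ : Opens (ProjectiveSpectrum.top 𝒜)))).range
  let x' : GrMod.sect 𝒜 ℳ ((k + e : ℕ) : ℤ) (op ⊤) :=
    ⟨fun p => ⟨(x.1 p).1, by
        have h := (x.1 p).2
        push_cast
        exact h⟩,
      fun p => by
        obtain ⟨V, hV, iV, i, j, m, s, nin, hdeg, hw⟩ := x.2 p
        exact ⟨V, hV, iV, i, j, m, s, nin, by push_cast; exact hdeg, hw⟩⟩
  obtain ⟨q, hq⟩ := (hN (k + e) (((le_max_left _ _).trans (le_max_left _ _)).trans (Nat.le_add_right k e))).2 x'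
  have hval : ∀ p, (x.1 p).1 = LocalizedModule.mk (q : M) 1 := fun p => by
    have h : GrMod.globalOf 𝒜 ℳ q = x' := hq
    exact (congrArg (fun s : GrMod.sect 𝒜 ℳ ((k + e : ℕ) : ℤ) (op ⊤) => (s.1 p).1) h).symm
  have hR : ∀ z ∈ Q e, ∃ w ∈ R, ∀ p, (w.1 p).1 = LocalizedModule.mk z 1 := by
    intro z hz
    induction hz using AddSubgroup.closure_induction with
    | mem z hz =>
      obtain ⟨a, ha, m, hm, rfl⟩ := hz
      refine ⟨GrMod.smulSect 𝒜 ℳ ⟨a, ha⟩ (k : ℤ) (op ⊤) (GrMod.globalOf 𝒜 ℳ ⟨m, hm⟩),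
        AddSubgroup.mem_iSup_of_mem (⟨a, ha⟩ : 𝒜 e) ⟨_, rfl⟩, fun p => ?_⟩
      rw [GrMod.smulSect_apply_coe, GrMod.globalOf_apply_coe, LocalizedModule.mk_smul_mk, one_mul]
    | zero => exact ⟨0, zero_mem _, fun p => (LocalizedModule.zero_mk _).symm⟩
    | add u v _ _ hu hv =>
      obtain ⟨wu, hwu, hu⟩ := hu
      obtain ⟨wv, hwv, hv⟩ := hv
      refine ⟨wu + wv, add_mem hwu hwv, fun p => ?_⟩
      show (wu.1 p).1 + (wv.1 p).1 = _
      rw [hu, hv]
      exact ((LocalizedModule.mkLinearMap _ M).map_add u v).symm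
    | neg u _ hu =>
      obtain ⟨w, hw, hu⟩ := hu
      refine ⟨-w, neg_mem hw, fun p => ?_⟩
      show -(w.1 p).1 = _
      rw [hu]
      exact ((LocalizedModule.mkLinearMap _ M).map_neg u).symm
  obtain ⟨w, hw, hwv⟩ := hR q (main e q q.2)
  exact (Groth.L18.GrM.sect_ext fun p => (hval p).trans (hwv p).symm : x = w) ▸ hw
end Groth.Agent.S5751
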