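import Groth.Statements.S5753
import Groth.Agent.L04.Depth
-- import your own Groth.Agent.* helpers here

set_option autoImplicit false
universe u
open EGA41

namespace Groth.Agent.S5753

/-- Let A be a Noetherian local ring with maximal ideal m and residue field k, and N a finitely
generated A-module. Then no element of m is N-regular (multiplication by it injective) if and only
if Hom_A(k, N) is nonzero. Applied to N = M/(x_1 M + ... + x_n M) for an M-regular sequence (x_i) in
m, this says that the sequence cannot be extended by an element of m if and only if Hom_A(k, M/(x_1
M + ... + x_n M)) ≠ 0. (The published statement allows an arbitrary module; for the direct sum N of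
the quotients of a two-dimensional regular local ring by all its height-one primes no element of m
is N-regular while Hom_A(k, N) = 0, and the published proof uses finiteness of the set of associated
primes, so N is taken finitely generated here.) -/
theorem result (A : Type u) [CommRing A]
    [IsLocalRing A] [IsNoetherianRing A] (N : Type u) [AddCommGroup N] [Module A N] [Module.Finite A N] :
    (∀ x ∈ IsLocalRing.maximalIdeal A, ¬ IsSMulRegular N x) ↔
      Nontrivial (IsLocalRing.ResidueField A →ₗ[A] N) := by
  refine ⟨fun h => ?_, fun h x hx hreg => ?_⟩
  · rcases Groth.L04.exists_regular_or_killed (IsLocalRing.maximalIdeal A) N with ⟨r, hr, hrr⟩ | ⟨w, hw0, hw⟩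
    · exact absurd hrr (h r hr)
    · let g : IsLocalRing.ResidueField A →ₗ[A] N :=
        Submodule.liftQ (IsLocalRing.maximalIdeal A) (LinearMap.toSpanSingleton A N w) fun r hr => hw r hr
      refine ⟨⟨g, 0, fun hg => hw0 ?_⟩⟩
      have h1 := LinearMap.congr_fun hg (IsLocalRing.residue A 1)
      rwa [LinearMap.zero_apply, show g (IsLocalRing.residue A 1) = (1 : A) • w from rfl, one_smul] at h1
  · obtain ⟨f, hf⟩ := exists_ne (0 : IsLocalRing.ResidueField A →ₗ[A] N)
    refine hf (LinearMap.ext fun z => hreg ?_)
    show x • f z = x • (0 : N)
    have hz : x • z = 0 := by
      rw [Algebra.smul_def, IsLocalRing.ResidueField.algebraMap_eq, (IsLocalRing.residue_eq_zero_iff x).mpr hx, zero_mul]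
    rw [smul_zero, ← map_smul, hz, map_zero]

end Groth.Agent.S5753
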