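import Groth.Statements.S5754
import Mathlib.RingTheory.Ideal.AssociatedPrime.Localization
import Mathlib.RingTheory.Support
import Mathlib.RingTheory.QuotSMulTop
import Mathlib.RingTheory.Noetherian.Basic
-- import your own Groth.Agent.* helpers here

set_option autoImplicit false
universe u
open EGA41

namespace Groth.Agent.S5754

/-- Let A be a Noetherian ring, M a finitely generated A-module and t an element of A which is
M-regular. For every associated prime p of M, every prime ideal minimal among those containing p +
tA is an associated prime of M/tM. -/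
theorem result (A : Type u) [CommRing A]
    [IsNoetherianRing A] (M : Type u) [AddCommGroup M] [Module A M] [Module.Finite A M] (t : A)
    (ht : IsSMulRegular M t) (p : Ideal A) (hp : p ∈ associatedPrimes A M) (q : Ideal A)
    (hq : q ∈ (p ⊔ Ideal.span {t}).minimalPrimes) : q ∈ associatedPrimes A (QuotSMulTop t M) := by
  open scoped Pointwise in
  obtain ⟨hpp, w, hw⟩ := isAssociatedPrime_iff.1 hp
  let N : Submodule A M :=
    { carrier := {m | ∀ a ∈ p, a • m = 0}
      add_mem' := fun hx hy a ha => by rw [smul_add, hx a ha, hy a ha, add_zero]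
      zero_mem' := fun a _ => smul_zero a
      smul_mem' := fun c x hx a ha => by rw [smul_comm, hx a ha, smul_zero] }
  have hwN : w ∈ N := fun a ha => by
    rw [hw, Submodule.mem_colon_singleton, Submodule.mem_bot] at ha
    exact ha
  have hann : Module.annihilator A N = p := by
    refine le_antisymm (fun a ha => ?_) fun a ha => Module.mem_annihilator.mpr fun m => Subtype.ext (m.2 a ha)
    rw [hw, Submodule.mem_colon_singleton, Submodule.mem_bot]
    exact congrArg Subtype.val (Module.mem_annihilator.mp ha ⟨w, hwN⟩)
  let g : QuotSMulTop t N →ₗ[A] QuotSMulTop t M := QuotSMulTop.map t N.subtype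
  have hg : Function.Injective g := by
    refine (injective_iff_map_eq_zero _).mpr fun x hx => ?_
    obtain ⟨x, rfl⟩ := Submodule.mkQ_surjective _ x
    have hx' : (x : M) ∈ t • (⊤ : Submodule A M) := (Submodule.Quotient.mk_eq_zero _).mp hx
    obtain ⟨m, -, hm⟩ := (Submodule.mem_smul_pointwise_iff_exists _ _ _).mp hx'
    refine (Submodule.Quotient.mk_eq_zero _).mpr ((Submodule.mem_smul_pointwise_iff_exists _ _ _).mpr
      ⟨⟨m, fun a ha => ht.right_eq_zero_of_smul ?_⟩, trivial, Subtype.ext hm⟩)
    rw [smul_comm, hm, x.2 a ha]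
  refine associatedPrimes.subset_of_injective hg
    (Module.associatedPrimes.minimalPrimes_annihilator_subset_associatedPrimes A _ ?_)
  have hsupp : ∀ P : PrimeSpectrum A, P ∈ Module.support A (QuotSMulTop t N) ↔ p ⊔ Ideal.span {t} ≤ P.asIdeal := by
    intro P
    rw [LinearEquiv.support_eq (Submodule.quotEquivOfEq _ _ (Submodule.ideal_span_singleton_smul t ⊤).symm),
      Module.support_quotient, Module.support_eq_zeroLocus, hann, sup_le_iff]
    rfl
  have hann' : ∀ P : Ideal A, P.IsPrime → (Module.annihilator A (QuotSMulTop t N) ≤ P ↔ p ⊔ Ideal.span {t} ≤ P) := by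
    intro P hP
    rw [← hsupp ⟨P, hP⟩, Module.support_eq_zeroLocus]
    rfl
  exact ⟨⟨hq.1.1, (hann' q hq.1.1).mpr hq.1.2⟩, fun r hr hrq => hq.2 ⟨hr.1, (hann' r hr.1).mp hr.2⟩ hrq⟩

end Groth.Agent.S5754
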