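import Groth.Statements.S5756
import Groth.Agent.L06.FiniteSupp

-- import your own Groth.Agent.* helpers here

set_option autoImplicit false
universe u
open EGA41

namespace Groth.Agent.S5756

/-- Suppose A and B are Noetherian local rings and ρ : A → B is a local homomorphism. Given a B-module M
that, viewed as an A-module through ρ, is finitely generated, the depth of M over A coincides with
the depth of M over B. -/
theorem result (A B : Type u) [CommRing A] [CommRing B] [IsLocalRing A]
    [IsLocalRing B] [IsNoetherianRing A] [IsNoetherianRing B] [Algebra A B] [IsLocalHom (algebraMap A B)]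
    (M : Type u) [AddCommGroup M] [Module B M] [Module A M] [IsScalarTower A B M] [Module.Finite A M] :
    LocCoh.depth A M = LocCoh.depth B M := by
  haveI : Module.Finite B M := Module.Finite.of_restrictScalars_finite A B M
  rcases subsingleton_or_nontrivial M with hM | hM
  · rw [LocCoh.depth, LocCoh.depth, Groth.L04.idealDepth_eq_top (Subsingleton.elim _ _),
      Groth.L04.idealDepth_eq_top (Subsingleton.elim _ _)]
  have h := Groth.L06.FiniteSupp.depth_eq (A := A) (B := B) (M := M) (IsLocalRing.maximalIdeal A)
  rw [(Groth.L06.FiniteSupp.local_eq M).2] at h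
  rw [h]
  have hB : (IsLocalRing.maximalIdeal B).comap (algebraMap A B) = IsLocalRing.maximalIdeal A :=
    ((IsLocalRing.local_hom_TFAE (algebraMap A B)).out 0 4 rfl rfl).mp inferInstance
  let qm : PrimeSpectrum B := ⟨IsLocalRing.maximalIdeal B, inferInstance⟩
  have huniq : ∀ q : PrimeSpectrum B, q.asIdeal.comap (algebraMap A B) = IsLocalRing.maximalIdeal A →
      q ∈ Module.support B M → q = qm := by
    intro q hq hqs
    obtain ⟨q', hle, hq'⟩ : ∃ q' : PrimeSpectrum B, q.asIdeal ≤ q'.asIdeal ∧ q' = qm :=
      ⟨qm, IsLocalRing.le_maximalIdeal q.isPrime.ne_top, rfl⟩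
    by_contra hne
    have hlt : q < qm := lt_of_le_of_ne (IsLocalRing.le_maximalIdeal q.isPrime.ne_top) hne
    have hms : qm ∈ Module.support B M := IsLocalRing.closedPoint_mem_support B M
    have := Groth.L06.FiniteSupp.comap_strictMono (A := A) (q := ⟨q, hqs⟩) (q' := ⟨qm, hms⟩) hlt
    simp only [hq, qm, hB, lt_irrefl] at this
  have hset : {q : PrimeSpectrum B | q.asIdeal.comap (algebraMap A B) = IsLocalRing.maximalIdeal A ∧
      q ∈ Module.support B M} = {qm} := Set.eq_singleton_iff_unique_mem.mpr
    ⟨⟨hB, IsLocalRing.closedPoint_mem_support B M⟩, fun q hq => huniq q hq.1 hq.2⟩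
  rw [hset, iInf_singleton]
  exact (Groth.L06.FiniteSupp.local_eq M).2

end Groth.Agent.S5756
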