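import Groth.Statements.S5764
import Groth.Agent.L06.SupportDim
import Mathlib.RingTheory.IntegralClosure.GoingDown

set_option autoImplicit false
universe u
open EGA41

namespace Groth.Agent.S5764

/-- Let B be an integral domain, A a local subring of B which is integrally closed (in its field of
fractions), and suppose B is integral over A. Then dim(B_n) = dim(A) for every maximal ideal n of B. -/
theorem result (A B : Type u) [CommRing A]
    [CommRing B] [IsDomain B] [Algebra A B] (hinj : Function.Injective (algebraMap A B)) [IsDomain A]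
    [IsLocalRing A] [IsIntegrallyClosed A] [Algebra.IsIntegral A B] (n : Ideal B) [n.IsMaximal] :
    ringKrullDim (Localization.AtPrime n) = ringKrullDim A := by
  haveI : FaithfulSMul A B := (faithfulSMul_iff_algebraMap_injective A B).mpr hinj
  rw [IsLocalization.AtPrime.ringKrullDim_eq_height n (Localization.AtPrime n)]
  refine le_antisymm (Ideal.height_le_ringKrullDim_of_isPrime.trans
    (Order.krullDim_le_of_strictMono (PrimeSpectrum.comap (algebraMap A B))
      fun I J h => Ideal.IsIntegral.comap_lt_comap (I := I.asIdeal) (J := J.asIdeal) h)) (iSup_le fun l => ?_)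
  obtain ⟨l', hl'1, hl'2⟩ : ∃ l' : LTSeries (PrimeSpectrum A), l.length ≤ l'.length ∧
      l'.last = IsLocalRing.closedPoint A := by
    rcases (IsLocalRing.le_maximalIdeal l.last.isPrime.ne_top).eq_or_lt with h | h
    · exact ⟨l, le_rfl, PrimeSpectrum.ext h⟩
    · exact ⟨l.snoc (IsLocalRing.closedPoint A) h, Nat.le_add_right _ _, RelSeries.last_snoc ..⟩
  have hn : (n.comap (algebraMap A B)).IsMaximal := Ideal.isMaximal_comap_of_isIntegral_of_isMaximal n
  have : n.LiesOver l'.last.asIdeal := ⟨by rw [hl'2]; exact (IsLocalRing.eq_maximalIdeal hn).symm⟩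
  obtain ⟨L, hL1, hL2, -⟩ := Ideal.exists_ltSeries_of_hasGoingDown l' n
  have h := Order.length_le_height (p := L) (x := (⟨n, inferInstance⟩ : PrimeSpectrum B)) hL2.le
  rw [← PrimeSpectrum.height_eq_orderHeight] at h
  exact WithBot.coe_le_coe.mpr (le_trans (by exact_mod_cast hL1 ▸ hl'1) h)

end Groth.Agent.S5764
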