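import Groth.Statements.S5765
import Groth.Agent.L06.SupportDim

set_option autoImplicit false
universe u
open EGA41

namespace Groth.Agent.S5765

/-- Let A be a ring, M a finitely generated A-module and p a prime ideal of A. Then dim_{A_p}(M_p) +
dim_A(M/pM) ≤ dim_A(M). -/
theorem result (A : Type u) [CommRing A] (M : Type u)
    [AddCommGroup M] [Module A M] [Module.Finite A M] (p : Ideal A) [p.IsPrime] :
    Module.supportDim (Localization.AtPrime p) (LocalizedModule p.primeCompl M) +
        Module.supportDim A (M ⧸ (p • (⊤ : Submodule A M))) ≤ Module.supportDim A M := by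
  by_cases hp : (⟨p, inferInstance⟩ : PrimeSpectrum A) ∈ Module.support A M
  swap
  · have : Subsingleton (LocalizedModule p.primeCompl M) := Module.notMem_support_iff.mp hp
    rw [Module.supportDim_eq_bot_of_subsingleton, WithBot.bot_add]
    exact bot_le
  let P : Module.support A M := ⟨⟨p, inferInstance⟩, hp⟩
  have : Nonempty (Module.support A M) := ⟨P⟩
  have h1 : Module.supportDim (Localization.AtPrime p) (LocalizedModule p.primeCompl M) ≤ (Order.height P : WithBot ℕ∞) := by
    rw [Order.height_eq_krullDim_Iic]
    refine Order.krullDim_le_of_strictMono (fun q => ⟨⟨PrimeSpectrum.comap (algebraMap A (Localization.AtPrime p)) q.1, ?_⟩, ?_⟩) ?_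
    · rw [Module.mem_support_iff_of_finite]
      intro a ha
      refine (Module.mem_support_iff_of_finite.mp q.2) (Module.mem_annihilator.mpr fun m => ?_)
      induction m using LocalizedModule.induction_on with
      | h m s => rw [algebraMap_smul, LocalizedModule.smul'_mk, Module.mem_annihilator.mp ha m, LocalizedModule.zero_mk]
    · exact ((IsLocalization.AtPrime.primeSpectrumOrderIso (Localization.AtPrime p) p) q.1).2
    · exact fun a b h => (IsLocalization.AtPrime.primeSpectrumOrderIso (Localization.AtPrime p) p).strictMono h
  have h2 : Module.supportDim A (M ⧸ p • (⊤ : Submodule A M)) ≤ (Order.coheight P : WithBot ℕ∞) := by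
    rw [Order.coheight_eq_krullDim_Ici]
    have hsub : ∀ q ∈ Module.support A (M ⧸ p • (⊤ : Submodule A M)), q ∈ Module.support A M ∧ p ≤ q.asIdeal := by
      intro q hq
      rw [Module.support_quotient] at hq
      exact hq
    exact Order.krullDim_le_of_strictMono (fun q => ⟨⟨q.1, (hsub q.1 q.2).1⟩, (hsub q.1 q.2).2⟩) fun a b h => h
  refine (add_le_add h1 h2).trans ?_
  rw [Module.supportDim, Order.krullDim_eq_iSup_height_add_coheight_of_nonempty, ← WithBot.coe_add, WithBot.coe_le_coe]
  exact le_iSup (fun a => Order.height a + Order.coheight a) P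

end Groth.Agent.S5765
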