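import Groth.Statements.S5766
import Groth.Agent.L06.SupportDim

set_option autoImplicit false
universe u
open EGA41

namespace Groth.Agent.S5766

/-- Let A be a Noetherian ring, ρ : A → B a ring homomorphism and M a B-module which is finitely
generated as an A-module via ρ. Then the dimension of M as an A-module equals its dimension as a
B-module. -/
theorem result (A B : Type u) [CommRing A] [CommRing B] [IsNoetherianRing A]
    [Algebra A B] (M : Type u) [AddCommGroup M] [Module B M] [Module A M] [IsScalarTower A B M]
    [Module.Finite A M] : Module.supportDim A M = Module.supportDim B M := by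
  open Groth.L06.SupportDim in
  haveI : Module.Finite B M := Module.Finite.of_restrictScalars_finite A B M
  rw [supportDim_eq_quotient, supportDim_eq_quotient]
  let g : A ⧸ Module.annihilator A M →+* B ⧸ Module.annihilator B M :=
    Ideal.quotientMap _ (algebraMap A B) (fun a ha => Ideal.mem_comap.mpr (Module.mem_annihilator.mpr
      fun m => by rw [algebraMap_smul]; exact Module.mem_annihilator.mp ha m))
  have hg : Function.Injective g := Ideal.quotientMap_injective' (fun a ha => Module.mem_annihilator.mpr fun m => by
    rw [← algebraMap_smul B]; exact Module.mem_annihilator.mp ha m)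
  letI := g.toAlgebra
  let toEnd : B →ₗ[A] Module.End A M := (Algebra.lsmul A A M : B →ₐ[A] Module.End A M).toLinearMap
  have hker : LinearMap.ker toEnd = (Module.annihilator B M).restrictScalars A := by
    ext b
    simp [toEnd, LinearMap.ext_iff, Module.mem_annihilator]
  haveI : IsNoetherian A (Module.End A M) := by
    obtain ⟨n, f, hf⟩ := Module.Finite.exists_fin' A M
    exact isNoetherian_of_injective (LinearMap.lcomp A M f) (fun φ ψ h => LinearMap.ext fun m => by
      obtain ⟨x, rfl⟩ := hf m; exact LinearMap.congr_fun h x)
  have hfin : Module.Finite A (B ⧸ Module.annihilator B M) := by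
    have h1 : Module.Finite A (B ⧸ LinearMap.ker toEnd) :=
      Module.Finite.of_injective (toEnd.ker.liftQ toEnd le_rfl) (LinearMap.ker_eq_bot.mp (by simp [Submodule.ker_liftQ]))
    rw [hker] at h1
    exact h1
  haveI : IsScalarTower A (A ⧸ Module.annihilator A M) (B ⧸ Module.annihilator B M) :=
    IsScalarTower.of_algebraMap_eq fun a => rfl
  haveI : Module.Finite (A ⧸ Module.annihilator A M) (B ⧸ Module.annihilator B M) :=
    Module.Finite.of_restrictScalars_finite A _ _
  haveI := Algebra.IsIntegral.of_finite (A ⧸ Module.annihilator A M) (B ⧸ Module.annihilator B M)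
  refine le_antisymm (iSup_le fun l => ?_) (Order.krullDim_le_of_strictMono (PrimeSpectrum.comap g)
    fun I J h => Ideal.IsIntegral.comap_lt_comap (I := I.asIdeal) (J := J.asIdeal) h)
  obtain ⟨Q, -, hQ, hQl⟩ := Ideal.exists_ideal_over_prime_of_isIntegral l.head.asIdeal (⊥ : Ideal (B ⧸ Module.annihilator B M))
    (by rw [← RingHom.ker_eq_comap_bot, RingHom.algebraMap_toAlgebra, (RingHom.injective_iff_ker_eq_bot _).mp hg]; exact bot_le)
  have : Q.LiesOver l.head.asIdeal := ⟨hQl.symm⟩
  obtain ⟨L, hL, -, -⟩ := Ideal.exists_ltSeries_of_hasGoingUp l Q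
  exact hL ▸ Order.LTSeries.length_le_krullDim L

end Groth.Agent.S5766
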