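import Groth.Statements.S5768
import Groth.Agent.L06.SupportDim

set_option autoImplicit false
universe u
open EGA41

namespace Groth.Agent.S5768

/-- Let A be a semi-local Noetherian ring with Jacobson radical r, M a nonzero finitely generated
A-module and x_1, ..., x_k elements of r. One always has dim(M/(x_1 M + ... + x_k M)) ≥ dim(M) - k,
and equality holds if and only if there exist further elements of r which together with the x_i form
a system of parameters for M (dim(M) elements of r modulo which M has finite length). -/
theorem result (A : Type u) [CommRing A]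
    [IsNoetherianRing A] [Finite (MaximalSpectrum A)] (M : Type u) [AddCommGroup M] [Module A M]
    [Module.Finite A M] [Nontrivial M] (xs : List A) (hxs : ∀ x ∈ xs, x ∈ Ring.jacobson A) :
    Module.supportDim A (M ⧸ (Ideal.ofList xs • (⊤ : Submodule A M))) + xs.length = Module.supportDim A M ↔
      ∃ ys : List A, (∀ y ∈ ys, y ∈ Ring.jacobson A) ∧
        ((xs ++ ys).length : WithBot ℕ∞) = Module.supportDim A M ∧
        IsFiniteLength A (M ⧸ (Ideal.ofList (xs ++ ys) • (⊤ : Submodule A M))) := by
  open Groth.L06.SupportDim in
  have hne : Module.annihilator A M ≠ ⊤ := fun h => not_subsingleton M ⟨fun a b => by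
    have h1 : ∀ m : M, m = 0 := fun m => by
      have := Module.mem_annihilator.mp (h.ge (Submodule.mem_top (x := (1 : A)))) m
      rwa [one_smul] at this
    rw [h1 a, h1 b]⟩
  have hof : ∀ l l' : List A, Ideal.ofList (l ++ l') = Ideal.ofList l ⊔ Ideal.ofList l' := Ideal.ofList_append
  obtain ⟨d, hd⟩ := exists_dim_eq_natCast hne
  obtain ⟨m, hm⟩ := exists_dim_eq_natCast (sup_ne_top hne
    (show Ideal.ofList xs ≤ Ring.jacobson A from Ideal.span_le.mpr hxs))
  simp only [isFiniteLength_iff, supportDim_quotient_smul]
  simp only [supportDim_eq_quotient, hd, hm]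
  constructor
  · intro h
    obtain ⟨ys, hys, hmem, hle⟩ := exists_parameters m _ hm
    refine ⟨ys, hmem, ?_, by rw [hof, ← sup_assoc]; exact hle⟩
    rw [← h, List.length_append, hys]
    push_cast
    rw [add_comm]
  · rintro ⟨ys, hmem, hlen, hle⟩
    rw [hof, ← sup_assoc] at hle
    have h1 := le_sup_ofList_add xs (Module.annihilator A M) hxs
    have h2 := (le_sup_ofList_add ys (Module.annihilator A M ⊔ Ideal.ofList xs) hmem).trans
      ((add_le_add_left hle _).trans (zero_add _).le)
    rw [hd, hm] at h1
    rw [hm] at h2
    rw [List.length_append] at hlen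
    norm_cast at h1 h2 hlen ⊢
    omega

end Groth.Agent.S5768
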