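import Groth.Statements.S5769


set_option autoImplicit false
universe u
open EGA41

namespace Groth.Agent.S5769

/-- Let φ : A → B be a local homomorphism of Noetherian local rings, m the maximal ideal of A and k its
residue field. Then dim(B) ≤ dim(A) + dim(B ⊗_A k), where B ⊗_A k = B/mB. -/
theorem result (A B : Type u) [CommRing A] [CommRing B]
    [IsLocalRing A] [IsLocalRing B] [IsNoetherianRing A] [IsNoetherianRing B] [Algebra A B]
    [IsLocalHom (algebraMap A B)] :
    ringKrullDim B ≤ ringKrullDim A +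
      ringKrullDim (B ⧸ (IsLocalRing.maximalIdeal A).map (algebraMap A B)) := by
  obtain ⟨p, hp⟩ : ∃ p : Ideal B, p = IsLocalRing.maximalIdeal B := ⟨_, rfl⟩
  haveI : (IsLocalRing.maximalIdeal B).LiesOver (IsLocalRing.maximalIdeal A) :=
    ⟨(((IsLocalRing.local_hom_TFAE (algebraMap A B)).out 0 4 rfl rfl).mp inferInstance : (IsLocalRing.maximalIdeal B).comap (algebraMap A B) = IsLocalRing.maximalIdeal A).symm⟩
  rw [← IsLocalRing.maximalIdeal_height_eq_ringKrullDim, ← IsLocalRing.maximalIdeal_height_eq_ringKrullDim]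
  refine (WithBot.coe_le_coe.mpr (Ideal.height_le_height_add_of_liesOver
    (IsLocalRing.maximalIdeal A) (IsLocalRing.maximalIdeal B))).trans ?_
  rw [WithBot.coe_add]
  refine add_le_add_right (Ideal.height_le_ringKrullDim_of_ne_top ?_) _
  intro htop
  have h1 := congrArg (Ideal.comap (Ideal.Quotient.mk _)) htop
  rw [Ideal.comap_map_of_surjective' _ Ideal.Quotient.mk_surjective, Ideal.mk_ker, Ideal.comap_top,
    sup_eq_left.mpr (Ideal.map_le_iff_le_comap.mpr
      (le_of_eq ((IsLocalRing.maximalIdeal B).over_def (IsLocalRing.maximalIdeal A))))] at h1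
  exact Ideal.IsPrime.ne_top' h1

end Groth.Agent.S5769
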