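import Groth.Statements.S5771
import Groth.Agent.S5769
import Mathlib.RingTheory.KrullDimension.NonZeroDivisors
import Mathlib.RingTheory.Ideal.KrullsHeightTheorem

set_option autoImplicit false
set_option linter.style.haveILetI false
universe u
open EGA41

namespace Groth.Agent.S5771

/-- Let φ : A → B be a local homomorphism of Noetherian local rings, m the maximal ideal of A, and
suppose mB is an ideal of definition of B (equivalently dim(B/mB) = 0). Then dim(B) ≤ dim(A); if
moreover A is an integral domain and dim(A) = dim(B), then φ is injective. -/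
theorem result (A B : Type u) [CommRing A] [CommRing B]
    [IsLocalRing A] [IsLocalRing B] [IsNoetherianRing A] [IsNoetherianRing B] [Algebra A B]
    [IsLocalHom (algebraMap A B)]
    (hdef : ringKrullDim (B ⧸ (IsLocalRing.maximalIdeal A).map (algebraMap A B)) = 0) :
    ringKrullDim B ≤ ringKrullDim A ∧
      (IsDomain A → ringKrullDim A = ringKrullDim B → Function.Injective (algebraMap A B)) := by
  have key : ∀ (C : Type u) [CommRing C] [IsLocalRing C] [IsNoetherianRing C] [Algebra C B]
      [IsLocalHom (algebraMap C B)],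
      ringKrullDim (B ⧸ (IsLocalRing.maximalIdeal C).map (algebraMap C B)) = 0 →
      ringKrullDim B ≤ ringKrullDim C := by
    intro C _ _ _ _ _ h
    simpa [h] using Groth.Agent.S5769.result C B
  refine ⟨key A hdef, fun hdom heq => ?_⟩
  rw [RingHom.injective_iff_ker_eq_bot]
  by_contra hne
  obtain ⟨x, hxK, hx0⟩ := Submodule.exists_mem_ne_zero_of_ne_bot hne
  let K := RingHom.ker (algebraMap A B)
  haveI : Nontrivial (A ⧸ K) := Ideal.Quotient.nontrivial_iff.mpr (RingHom.ker_ne_top _)
  haveI : IsLocalRing (A ⧸ K) :=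
    IsLocalRing.of_surjective' (Ideal.Quotient.mk K) Ideal.Quotient.mk_surjective
  letI : Algebra (A ⧸ K) B := (Ideal.Quotient.lift K (algebraMap A B) fun a ha => ha).toAlgebra
  have hcomp : (algebraMap (A ⧸ K) B).comp (Ideal.Quotient.mk K) = algebraMap A B := rfl
  haveI : IsLocalHom (algebraMap (A ⧸ K) B) := ⟨fun q hq => by
    obtain ⟨a, rfl⟩ := Ideal.Quotient.mk_surjective q
    exact (IsLocalHom.map_nonunit (f := algebraMap A B) a hq).map _⟩
  have hm : (IsLocalRing.maximalIdeal (A ⧸ K)).map (algebraMap (A ⧸ K) B)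
      = (IsLocalRing.maximalIdeal A).map (algebraMap A B) := by
    have hc : (IsLocalRing.maximalIdeal (A ⧸ K)).comap (Ideal.Quotient.mk K) = IsLocalRing.maximalIdeal A :=
      IsLocalRing.eq_maximalIdeal (Ideal.comap_isMaximal_of_surjective _ Ideal.Quotient.mk_surjective)
    rw [← hc, ← hcomp, ← Ideal.map_map, Ideal.map_comap_of_surjective _ Ideal.Quotient.mk_surjective]
  have h1 := key (A ⧸ K) (by rw [hm]; exact hdef)
  have h2 : ringKrullDim (A ⧸ K) ≤ ringKrullDim (A ⧸ Ideal.span {x}) :=
    ringKrullDim_le_of_surjective (Ideal.Quotient.factor ((Ideal.span_singleton_le_iff_mem _).mpr hxK))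
      (Ideal.Quotient.factor_surjective _)
  have h3 : ringKrullDim (A ⧸ K) + 1 ≤ ringKrullDim A :=
    (add_le_add_left h2 1).trans
      (ringKrullDim_quotient_succ_le_of_nonZeroDivisor (mem_nonZeroDivisors_of_ne_zero hx0))
  rw [heq] at h3
  have h4 : ringKrullDim B + 1 ≤ ringKrullDim B := (add_le_add_left h1 1).trans h3
  have hfin := (IsLocalRing.maximalIdeal B).height_ne_top Ideal.IsPrime.ne_top'
  obtain ⟨d, hd⟩ := ENat.ne_top_iff_exists.mp hfin
  rw [← IsLocalRing.maximalIdeal_height_eq_ringKrullDim, ← hd] at h4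
  norm_cast at h4
  omega

end Groth.Agent.S5771
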