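import Groth.Statements.S5772
import Mathlib.RingTheory.Filtration

set_option autoImplicit false
universe u
open scoped Pointwise
open EGA41

namespace Groth.Agent.S5772

/-- Let A be a Noetherian ring, M a finitely generated A-module and f an element of A. Then f is
M-regular (multiplication by f on M is injective) if and only if f is M-quasi-regular, i.e. the
canonical surjection (M/fM)[T] → gr(M) for the (f)-adic filtration is bijective, which amounts to:
for every k ≥ 0 and x ∈ M, f^k x ∈ f^(k+1) M implies x ∈ fM. -/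
theorem result (A : Type u) [CommRing A] [IsNoetherianRing A] (M : Type u)
    [AddCommGroup M] [Module A M] [Module.Finite A M] (f : A) :
    IsSMulRegular M f ↔
      ∀ (k : ℕ) (x : M), f ^ k • x ∈ f ^ (k + 1) • (⊤ : Submodule A M) → x ∈ f • (⊤ : Submodule A M) := by
  have key : ∀ k (y : M), y ∈ f ^ k • (⊤ : Submodule A M) ↔ ∃ z, f ^ k • z = y := fun k y => by
    simp [Submodule.mem_smul_pointwise_iff_exists]
  refine ⟨fun hf k x hx => ?_, fun h => isSMulRegular_iff_right_eq_zero_of_smul.mpr fun x hx => ?_⟩
  · obtain ⟨z, hz⟩ := (key _ _).mp hx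
    rw [pow_succ, ← smul_smul] at hz
    rw [Submodule.mem_smul_pointwise_iff_exists]
    exact ⟨z, trivial, (hf.pow k) hz⟩
  · have main : ∀ k, x ∈ f ^ k • (⊤ : Submodule A M) := by
      intro k
      induction k with
      | zero => rw [key]; exact ⟨x, by simp⟩
      | succ k ih =>
        obtain ⟨z, rfl⟩ := (key _ _).mp ih
        obtain ⟨w, -, rfl⟩ := (Submodule.mem_smul_pointwise_iff_exists _ _ _).mp (h (k + 1) z (by
          rw [key]; exact ⟨0, by rw [smul_zero, pow_succ', mul_smul, hx]⟩))
        rw [key]; exact ⟨w, by rw [pow_succ, mul_smul]⟩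
    have hmem : x ∈ (⨅ k : ℕ, (Ideal.span {f}) ^ k • (⊤ : Submodule A M)) := by
      rw [Submodule.mem_iInf]
      intro k
      rw [Ideal.span_singleton_pow, Submodule.ideal_span_singleton_smul]
      exact main k
    obtain ⟨⟨r, hr⟩, hrx⟩ := (Ideal.mem_iInf_smul_pow_eq_bot_iff (Ideal.span {f}) x).mp hmem
    obtain ⟨a, rfl⟩ := Ideal.mem_span_singleton'.mp hr
    rw [← hrx, mul_smul, hx, smul_zero]

end Groth.Agent.S5772
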