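import Groth.Statements.S5775
import Groth.Agent.L07.FibreRegularLocal
import Mathlib.RingTheory.Flat.Equalizer
import Mathlib.RingTheory.Finiteness.Nakayama
-- import your own Groth.Agent.* helpers here

set_option autoImplicit false
universe u
open EGA41

namespace Groth.Agent.S5775

/-- Let A → B be a local homomorphism of Noetherian local rings, m the maximal ideal of A, M a finitely
generated B-module flat over A and R a B-submodule of M such that M/R is flat over A. Let f_1, ...,
f_n be elements of the maximal ideal of B such that (i) f_i M ⊆ R for all i, (ii) the images of the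
f_i form an (M/mM)-regular sequence, and (iii) the submodule f_1 (M/mM) + ... + f_n (M/mM) is the
image of R in M/mM. Then (f_i) is an M-regular sequence and R = f_1 M + ... + f_n M. -/
theorem result (A B : Type u) [CommRing A] [CommRing B] [IsLocalRing A]
    [IsLocalRing B] [IsNoetherianRing A] [IsNoetherianRing B] [Algebra A B] [IsLocalHom (algebraMap A B)]
    (M : Type u) [AddCommGroup M] [Module B M] [Module A M] [IsScalarTower A B M] [Module.Finite B M]
    [Module.Flat A M] (R : Submodule B M) (hR : Module.Flat A (M ⧸ R)) (fs : List B)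
    (hfs : ∀ f ∈ fs, f ∈ IsLocalRing.maximalIdeal B) (h1 : Ideal.ofList fs • (⊤ : Submodule B M) ≤ R)
    (h2 : RingTheory.Sequence.IsWeaklyRegular
      (M ⧸ ((IsLocalRing.maximalIdeal A).map (algebraMap A B) • (⊤ : Submodule B M))) fs)
    (h3 : Ideal.ofList fs • (⊤ : Submodule B
        (M ⧸ ((IsLocalRing.maximalIdeal A).map (algebraMap A B) • (⊤ : Submodule B M)))) =
      R.map ((IsLocalRing.maximalIdeal A).map (algebraMap A B) • (⊤ : Submodule B M)).mkQ) :
    RingTheory.Sequence.IsWeaklyRegular M fs ∧ R = Ideal.ofList fs • (⊤ : Submodule B M) := by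
  obtain ⟨hreg, -⟩ := Groth.L07.FibreRegularLocal.isWeaklyRegular_and_flat (A := A) fs M h2
  refine ⟨hreg, le_antisymm ?_ h1⟩
  let mA := IsLocalRing.maximalIdeal A
  let mB := mA.map (algebraMap A B)
  haveI := hR
  have hle : R ≤ Ideal.ofList fs • (⊤ : Submodule B M) ⊔ mB • R := by
    intro r hr
    have h4 : (mB • (⊤ : Submodule B M)).mkQ r ∈ R.map (mB • (⊤ : Submodule B M)).mkQ := ⟨r, hr, rfl⟩
    rw [← h3, ← Submodule.range_mkQ, ← Submodule.map_top, ← Submodule.map_smul''] at h4
    obtain ⟨a, ha, hab⟩ := h4
    have hb : r - a ∈ mB • (⊤ : Submodule B M) := by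
      rw [← Submodule.ker_mkQ (mB • (⊤ : Submodule B M)), LinearMap.mem_ker, map_sub, hab, sub_self]
    have hbR : r - a ∈ R := sub_mem hr (h1 ha)
    refine Submodule.mem_sup.mpr ⟨a, ha, r - a, ?_, by abel⟩
    let f : M →ₗ[A] M ⧸ R := R.mkQ.restrictScalars A
    let g : R →ₗ[A] M := R.subtype.restrictScalars A
    have hinj : Function.Injective (g.lTensor (A ⧸ mA)) :=
      LinearMap.lTensor_injective_of_exact_of_flat f R.mkQ_surjective g Subtype.val_injective
        (LinearMap.exact_subtype_mkQ R) (A ⧸ mA)
    have hb' : (r - a) ∈ mA • (⊤ : Submodule A M) := by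
      have h5 := hb
      clear hb hbR
      generalize r - a = b at h5
      rw [← Submodule.restrictScalars_mem A, Ideal.smul_restrictScalars, Submodule.restrictScalars_top] at h5
      exact h5
    have hker : ∀ (N : Type u) [AddCommGroup N] [Module A N] (n : N),
        (1 : A ⧸ mA) ⊗ₜ[A] n = 0 ↔ n ∈ mA • (⊤ : Submodule A N) := fun N _ _ n => by
      rw [← (TensorProduct.quotTensorEquivQuotSMul N mA).map_eq_zero_iff]
      rw [show (1 : A ⧸ mA) = Ideal.Quotient.mk mA 1 from rfl, TensorProduct.quotTensorEquivQuotSMul_mk_tmul,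
        one_smul, Submodule.Quotient.mk_eq_zero]
    have h6 : (⟨r - a, hbR⟩ : R) ∈ mA • (⊤ : Submodule A R) := by
      rw [← hker]
      apply hinj
      rw [map_zero, LinearMap.lTensor_tmul]
      exact (hker M _).mpr hb'
    have h7 : ∀ v : R, v ∈ mA • (⊤ : Submodule A R) → (v : M) ∈ mB • R := fun v hv => by
      refine Submodule.smul_induction_on (p := fun v : R => (v : M) ∈ mB • R) hv (fun c hc v _ => ?_)
        (fun u v hu hv => add_mem hu hv)
      show c • (v : M) ∈ mB • R
      rw [← algebraMap_smul B c]
      exact Submodule.smul_mem_smul (Ideal.mem_map_of_mem _ hc) v.2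
    exact h7 _ h6
  exact Submodule.le_of_le_smul_of_le_jacobson_bot (IsNoetherian.noetherian R)
    ((IsLocalRing.map_maximalIdeal_le (algebraMap A B)).trans (IsLocalRing.maximalIdeal_le_jacobson _)) hle

end Groth.Agent.S5775
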