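import Groth.Statements.S5778
import Groth.Agent.L01.Regular
import Groth.Agent.L07.OrderValuation
import Mathlib.RingTheory.Length

set_option autoImplicit false
set_option linter.style.haveILetI false
universe u
open EGA41

namespace Groth.Agent.S5778

open IsLocalRing in
/-- Multiplication by `x` between consecutive truncations. -/
noncomputable def mulX {A : Type u} [CommRing A] [IsLocalRing A] (x : A) (hx : x ∈ maximalIdeal A) (s : ℕ) :
    (A ⧸ maximalIdeal A ^ s) →ₗ[A] (A ⧸ maximalIdeal A ^ (s + 1)) :=
  Submodule.mapQ _ _ (LinearMap.mulLeft A x) fun y hy => by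
    show x * y ∈ maximalIdeal A ^ (s + 1)
    rw [pow_succ']; exact Ideal.mul_mem_mul hx hy

open IsLocalRing in
theorem length_zero_layer (A : Type u) [CommRing A] [IsLocalRing A] :
    Module.length A (A ⧸ maximalIdeal A ^ (0 + 1)) = 1 := by
  haveI : IsSimpleModule A (A ⧸ maximalIdeal A ^ (0 + 1)) := by
    refine isSimpleModule_iff_isCoatom.mpr ?_
    rw [zero_add, pow_one]
    exact Ideal.IsMaximal.out
  exact Module.length_eq_one A _

open IsLocalRing in
theorem exists_step {A : Type u} [CommRing A] [IsLocalRing A] (x : A) (hx : x ∈ maximalIdeal A)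
    [IsLocalRing (A ⧸ Ideal.span {x})] (s : ℕ) :
    Module.length A (A ⧸ maximalIdeal A ^ (s + 1)) ≤ Module.length A (A ⧸ maximalIdeal A ^ s) +
        Module.length (A ⧸ Ideal.span {x}) ((A ⧸ Ideal.span {x}) ⧸ maximalIdeal (A ⧸ Ideal.span {x}) ^ (s + 1)) ∧
    (Function.Injective (mulX x hx s) →
      Module.length A (A ⧸ maximalIdeal A ^ (s + 1)) = Module.length A (A ⧸ maximalIdeal A ^ s) +
        Module.length (A ⧸ Ideal.span {x}) ((A ⧸ Ideal.span {x}) ⧸ maximalIdeal (A ⧸ Ideal.span {x}) ^ (s + 1))) ∧
    (∀ a b c : ℕ, Module.length A (A ⧸ maximalIdeal A ^ s) ≤ a →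
      Module.length (A ⧸ Ideal.span {x}) ((A ⧸ Ideal.span {x}) ⧸ maximalIdeal (A ⧸ Ideal.span {x}) ^ (s + 1)) ≤ b →
      Module.length A (A ⧸ maximalIdeal A ^ (s + 1)) = c → c = a + b →
      Module.length (A ⧸ Ideal.span {x}) ((A ⧸ Ideal.span {x}) ⧸ maximalIdeal (A ⧸ Ideal.span {x}) ^ (s + 1)) = b ∧
        Function.Injective (mulX x hx s)) := by
  set B := A ⧸ Ideal.span {x}
  let Q := B ⧸ maximalIdeal B ^ (s + 1)
  have hmap : maximalIdeal B ^ (s + 1) = (maximalIdeal A ^ (s + 1)).map (Ideal.Quotient.mk (Ideal.span {x})) := by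
    rw [Groth.L01.maximalIdeal_quotient_eq_map, Ideal.map_pow]
  let g₀ : A →ₗ[A] Q := ((maximalIdeal B ^ (s + 1)).mkQ.restrictScalars A) ∘ₗ (Ideal.span {x}).mkQ
  have hg₀ : ∀ a, g₀ a = 0 ↔ a ∈ maximalIdeal A ^ (s + 1) ⊔ Ideal.span {x} := fun a => by
    show Submodule.Quotient.mk (Ideal.Quotient.mk (Ideal.span {x}) a) = 0 ↔ _
    rw [Submodule.Quotient.mk_eq_zero, hmap, ← Ideal.mem_comap,
      Ideal.comap_map_of_surjective' _ Ideal.Quotient.mk_surjective, Ideal.mk_ker]
  let g : (A ⧸ maximalIdeal A ^ (s + 1)) →ₗ[A] Q := Submodule.liftQ _ g₀ fun a ha => (hg₀ a).mpr (Submodule.mem_sup_left ha)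
  have hg : Function.Surjective g := by
    intro q
    obtain ⟨b, rfl⟩ := Submodule.mkQ_surjective _ q
    obtain ⟨a, rfl⟩ := Ideal.Quotient.mk_surjective b
    exact ⟨Submodule.Quotient.mk a, rfl⟩
  have hex : Function.Exact (LinearMap.range (mulX x hx s)).subtype g := by
    rw [LinearMap.exact_iff, Submodule.range_subtype]
    ext z
    obtain ⟨a, rfl⟩ := Submodule.mkQ_surjective _ z
    rw [LinearMap.mem_ker]
    change g₀ a = 0 ↔ _
    rw [hg₀, LinearMap.mem_range]
    constructor
    · intro h
      obtain ⟨u, hu, v, hv, rfl⟩ := Submodule.mem_sup.mp h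
      obtain ⟨c, rfl⟩ := Ideal.mem_span_singleton'.mp hv
      refine ⟨Submodule.Quotient.mk c, ?_⟩
      show Submodule.Quotient.mk (x * c) = Submodule.Quotient.mk (u + c * x)
      rw [Submodule.Quotient.eq]
      have : x * c - (u + c * x) = -u := by ring
      rw [this]
      exact neg_mem hu
    · rintro ⟨y, hy⟩
      obtain ⟨c, rfl⟩ := Submodule.mkQ_surjective _ y
      have h : x * c - a ∈ maximalIdeal A ^ (s + 1) := (Submodule.Quotient.eq _).mp hy
      rw [show a = -(x * c - a) + x * c by ring]
      exact Submodule.add_mem_sup (neg_mem h) (Ideal.mem_span_singleton'.mpr ⟨c, mul_comm _ _⟩)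
  have hlenQ : Module.length A Q = Module.length B Q :=
    Module.length_eq_of_surjective (R := B) (S := A) Ideal.Quotient.mk_surjective
  have h1 := Module.length_eq_add_of_exact _ g (Submodule.injective_subtype _) hg hex
  rw [hlenQ] at h1
  have h2 := Module.length_eq_add_of_exact _ (mulX x hx s).rangeRestrict
    (Submodule.injective_subtype (LinearMap.ker (mulX x hx s))) (LinearMap.surjective_rangeRestrict _)
    (by rw [LinearMap.exact_iff, LinearMap.ker_rangeRestrict, Submodule.range_subtype])
  refine ⟨?_, fun hinj => ?_, fun a b c ha hb hc habc => ?_⟩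
  · rw [h1, h2]; gcongr; exact le_add_self
  · rw [h1, (LinearEquiv.ofInjective _ hinj).length_eq]
  · rw [h1] at hc
    obtain ⟨b', hb'⟩ := ENat.ne_top_iff_exists.mp (ne_top_of_le_ne_top (ENat.coe_ne_top b) hb)
    rw [h2] at ha
    obtain ⟨k, hk⟩ := ENat.ne_top_iff_exists.mp
      (ne_top_of_le_ne_top (ENat.coe_ne_top a) (le_trans le_self_add ha))
    obtain ⟨r, hr⟩ := ENat.ne_top_iff_exists.mp
      (ne_top_of_le_ne_top (ENat.coe_ne_top a) (le_trans le_add_self ha))
    rw [← hk, ← hr] at ha
    rw [← hr, ← hb'] at hc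
    rw [← hb'] at hb ⊢
    norm_cast at ha hb hc ⊢
    refine ⟨by omega, LinearMap.ker_eq_bot.mp ?_⟩
    rw [← Submodule.subsingleton_iff_eq_bot, ← Module.length_eq_zero_iff (R := A), ← hk]
    norm_cast
    omega

open IsLocalRing in
theorem main : ∀ (r : ℕ) (A : Type u) [CommRing A] [IsLocalRing A] [IsNoetherianRing A],
    (maximalIdeal A).spanFinrank = r →
      (∀ s : ℕ, Module.length A (A ⧸ maximalIdeal A ^ (s + 1)) ≤ ((s + r).choose s : ℕ∞)) ∧
      (IsRegularLocalRing A ↔ ∀ s : ℕ, Module.length A (A ⧸ maximalIdeal A ^ (s + 1)) = ((s + r).choose s : ℕ∞)) := by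
  intro r
  induction r with
  | zero =>
    intro A _ _ _ hr
    have hm : maximalIdeal A = ⊥ :=
      (Submodule.spanFinrank_eq_zero_iff_eq_bot (Ideal.fg_of_isNoetherianRing _)).mp hr
    haveI : IsRegularLocalRing A := IsRegularLocalRing.of_spanFinrank_maximalIdeal_le A (by
      rw [hr]; exact ringKrullDim_nonneg_of_nontrivial)
    have h : ∀ s : ℕ, Module.length A (A ⧸ maximalIdeal A ^ (s + 1)) = ((s + 0).choose s : ℕ∞) := by
      intro s
      have e : maximalIdeal A ^ (s + 1) = maximalIdeal A ^ (0 + 1) := by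
        rw [hm, zero_add, pow_one, ← Ideal.zero_eq_bot, zero_pow (Nat.succ_ne_zero s)]
      rw [(Submodule.quotEquivOfEq _ _ e).length_eq, length_zero_layer, add_zero, Nat.choose_self, Nat.cast_one]
    exact ⟨fun s => (h s).le, fun _ => h, fun _ => inferInstance⟩
  | succ r ih =>
    intro A _ _ _ hr
    obtain ⟨x, hx, hx2⟩ : ∃ x ∈ maximalIdeal A, x ∉ maximalIdeal A ^ 2 := by
      by_contra h
      push Not at h
      have : maximalIdeal A = ⊥ := Submodule.eq_bot_of_le_smul_of_le_jacobson_bot (maximalIdeal A) _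
        (Ideal.fg_of_isNoetherianRing _) (by rw [smul_eq_mul, ← pow_two]; exact h)
        (maximalIdeal_le_jacobson _)
      rw [this, Submodule.spanFinrank_bot] at hr
      omega
    haveI : IsLocalRing (A ⧸ Ideal.span {x}) := Groth.L01.isLocalRing_quotient
      (ne_top_of_le_ne_top (maximalIdeal.isMaximal A).ne_top ((Ideal.span_singleton_le_iff_mem _).mpr hx))
    have hr' : (maximalIdeal (A ⧸ Ideal.span {x})).spanFinrank = r := by
      have h1 := Groth.L01.spanFinrank_quotient_add_one_le hx hx2
      have h2 := Groth.L01.spanFinrank_le_succ hx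
      omega
    obtain ⟨hB, hBreg⟩ := ih (A ⧸ Ideal.span {x}) hr'
    have pascal : ∀ s, (s + 1 + (r + 1)).choose (s + 1) = (s + (r + 1)).choose s + (s + 1 + r).choose (s + 1) := by
      intro s
      rw [show s + 1 + (r + 1) = (s + 1 + r) + 1 by omega, Nat.choose_succ_succ' (s + 1 + r) s,
        show s + (r + 1) = s + 1 + r by omega]
    have hA : ∀ s : ℕ, Module.length A (A ⧸ maximalIdeal A ^ (s + 1)) ≤ ((s + (r + 1)).choose s : ℕ∞) := by
      intro s
      induction s with
      | zero => rw [length_zero_layer]; simp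
      | succ s ihs =>
        refine (exists_step x hx (s + 1)).1.trans ?_
        rw [pascal, Nat.cast_add]
        exact add_le_add ihs (hB (s + 1))
    refine ⟨hA, fun hreg => ?_, fun heq => ?_⟩
    · haveI := hreg
      have hBr := hBreg.mp (Groth.L01.regular_quotient_of_notMem_sq hx hx2).1
      have hord : Groth.L07.Order.HasOrd x 1 := ⟨by rwa [pow_one], hx2⟩
      intro s
      induction s with
      | zero => rw [length_zero_layer]; simp
      | succ s ihs =>
        rw [(exists_step x hx (s + 1)).2.1 ?_, ihs, hBr (s + 1), pascal, Nat.cast_add]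
        refine (injective_iff_map_eq_zero _).mpr fun z hz => ?_
        obtain ⟨y, rfl⟩ := Submodule.mkQ_surjective _ z
        have hxy : x * y ∈ maximalIdeal A ^ (s + 1 + 1) := (Submodule.Quotient.mk_eq_zero _).mp hz
        refine (Submodule.Quotient.mk_eq_zero _).mpr ?_
        by_contra hy
        have hy0 : y ≠ 0 := fun h => hy (h ▸ zero_mem _)
        obtain ⟨n, hn⟩ := Groth.L07.Order.exists_hasOrd hy0
        have h1 := (hord.mul hn).le_of_mem hxy
        exact hy (Ideal.pow_le_pow_right (show s + 1 ≤ n by omega) hn.1)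
    · have hstep := fun s : ℕ => (exists_step x hx (s + 1)).2.2 _ _ _ (hA s) (hB (s + 1)) (heq (s + 1)) (pascal s)
      haveI : IsRegularLocalRing (A ⧸ Ideal.span {x}) := hBreg.mpr fun s => by
        rcases s with _ | s
        · rw [length_zero_layer]; simp
        · exact (hstep s).1
      refine Groth.L01.exists_regular_of_quotient hx (mem_nonZeroDivisors_iff_right.mpr fun y hy => ?_)
      have hy' : ∀ s : ℕ, y ∈ maximalIdeal A ^ (s + 1) := fun s => by
        refine (Submodule.Quotient.mk_eq_zero _).mp ((hstep s).2 (a₁ := Submodule.Quotient.mk y) (a₂ := 0) ?_)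
        rw [map_zero]
        show Submodule.Quotient.mk (x * y) = 0
        rw [mul_comm, hy]; exact Submodule.Quotient.mk_zero _
      rw [← Submodule.mem_bot A, ← Ideal.iInf_pow_eq_bot_of_isLocalRing (maximalIdeal A) (maximalIdeal.isMaximal A).ne_top,
        Submodule.mem_iInf]
      exact fun s => Ideal.pow_le_pow_right (Nat.le_succ s) (hy' s)

/-- Let A be a Noetherian local ring with maximal ideal m, residue field k, and let r be the dimension
of the k-vector space m/m². Then A is regular if and only if the canonical surjection of graded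
k-algebras from the symmetric algebra of m/m² onto the associated graded ring of A for the m-adic
filtration is bijective. Since that surjection is bijective exactly when source and target have the
same length in every degree, the condition is expressed here as: length_A(A/m^(s+1)) equals the
binomial coefficient C(s+r, r) for every s ≥ 0. -/
theorem result (A : Type u) [CommRing A] [IsLocalRing A]
    [IsNoetherianRing A] :
    IsRegularLocalRing A ↔
      ∀ s : ℕ, Module.length A (A ⧸ IsLocalRing.maximalIdeal A ^ (s + 1)) =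
        ((s + Module.finrank (IsLocalRing.ResidueField A) (IsLocalRing.CotangentSpace A)).choose s : ℕ∞) := by

  rw [← IsLocalRing.spanFinrank_maximalIdeal_eq_finrank_cotangentSpace]
  exact (main _ A rfl).2

end Groth.Agent.S5778
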