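import Groth.Statements.S5779
import Groth.Agent.L01.Regular
import Mathlib.RingTheory.Ideal.Cotangent
import Mathlib.RingTheory.Ideal.KrullsHeightTheorem
import Mathlib.LinearAlgebra.Dimension.OrzechProperty

set_option autoImplicit false
set_option linter.style.haveILetI false
universe u
open EGA41

namespace Groth.Agent.S5779

/-- Let A be a Noetherian local ring with maximal ideal m and residue field k, (x_i)_{1 ≤ i ≤ r}
elements of m and J = x_1 A + ... + x_r A. Then A is regular with the classes of the x_i in m/m²
linearly independent over k (equivalently: the x_i are part of a regular system of parameters) if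
and only if the x_i are part of a system of parameters of A (dim(A/J) = dim(A) - r) and A/J is
regular. When these conditions hold, J is a prime ideal. -/
theorem result (A : Type u) [CommRing A] [IsLocalRing A]
    [IsNoetherianRing A] (r : ℕ) (x : Fin r → IsLocalRing.maximalIdeal A) :
    ((IsRegularLocalRing A ∧
        LinearIndependent (IsLocalRing.ResidueField A)
          (fun i => (IsLocalRing.maximalIdeal A).toCotangent (x i))) ↔
      (ringKrullDim (A ⧸ Ideal.span (Set.range fun i => (x i : A))) + r = ringKrullDim A ∧
        IsRegularLocalRing (A ⧸ Ideal.span (Set.range fun i => (x i : A))))) ∧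
    (IsRegularLocalRing (A ⧸ Ideal.span (Set.range fun i => (x i : A))) →
      ringKrullDim (A ⧸ Ideal.span (Set.range fun i => (x i : A))) + r = ringKrullDim A →
        (Ideal.span (Set.range fun i => (x i : A))).IsPrime) := by
  classical
  let m := IsLocalRing.maximalIdeal A
  let J := Ideal.span (Set.range fun i => (x i : A))
  have hJm : J ≤ m := Ideal.span_le.mpr (by rintro _ ⟨i, rfl⟩; exact (x i).2)
  haveI : Nontrivial (A ⧸ J) :=
    Ideal.Quotient.nontrivial_iff.mpr fun h => Ideal.IsPrime.ne_top' (top_le_iff.mp (h ▸ hJm))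
  haveI : IsLocalRing (A ⧸ J) :=
    IsLocalRing.of_surjective' (Ideal.Quotient.mk J) Ideal.Quotient.mk_surjective
  obtain ⟨e, he⟩ := Groth.L01.exists_dim_eq_nat (R := A ⧸ J)
  obtain ⟨N, hN⟩ := Groth.L01.exists_dim_eq_nat (R := A)
  have hup : N ≤ e + r := by
    have hr : J.spanFinrank ≤ r := (Submodule.spanFinrank_span_le_ncard_of_finite (Set.finite_range _)).trans
      ((Finite.card_range_le _).trans (Nat.card_fin r).le)
    have hu : ringKrullDim A ≤ ringKrullDim (A ⧸ J) + J.spanFinrank :=
      ringKrullDim_le_ringKrullDim_quotient_add_spanFinrank J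
        (hJm.trans (by rw [Ring.jacobson_eq_sInf_isMaximal]; exact le_sInf fun M hM => (IsLocalRing.eq_maximalIdeal hM).ge))
    rw [hN, he] at hu
    norm_cast at hu
    omega
  have sp : ∀ {s : Set ↥m}, Submodule.span (IsLocalRing.ResidueField A) (m.toCotangent '' s) = ⊤ ↔
      Submodule.span A s = ⊤ := IsLocalRing.CotangentSpace.span_image_eq_top_iff
  have hsub : ∀ s : Set ↥m, Submodule.span A s = ⊤ ↔ Ideal.span (Subtype.val '' s) = m := by
    intro s
    rw [← (Submodule.map_injective_of_injective m.injective_subtype).eq_iff, Submodule.map_span,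
      Submodule.map_subtype_top]
    rfl
  have hN' := IsLocalRing.spanFinrank_maximalIdeal_eq_finrank_cotangentSpace (R := A)
  have back : ringKrullDim (A ⧸ J) + r = ringKrullDim A → IsRegularLocalRing (A ⧸ J) →
      IsRegularLocalRing A ∧ LinearIndependent (IsLocalRing.ResidueField A) fun i => m.toCotangent (x i) := by
    intro hdim hreg
    have heq : e + r = N := by rw [he, hN] at hdim; exact_mod_cast hdim
    obtain ⟨s, hs, hsg⟩ := Submodule.FG.exists_span_finset_card_eq_spanFinrank (Ideal.fg_of_isNoetherianRing (IsLocalRing.maximalIdeal (A ⧸ J)))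
    have hse : s.card = e := by
      have := (isRegularLocalRing_iff (A ⧸ J)).mp hreg
      rw [he, ← hs] at this; exact_mod_cast this
    have hlift : ∀ q : s, ∃ y : ↥m, Ideal.Quotient.mk J y.1 = q.1 := fun q => by
      obtain ⟨y, hy⟩ := Ideal.Quotient.mk_surjective q.1
      refine ⟨⟨y, fun hu => ?_⟩, hy⟩
      have hq : q.1 ∈ IsLocalRing.maximalIdeal (A ⧸ J) := hsg ▸ Submodule.subset_span q.2
      exact hq (hy ▸ hu.map _)
    choose y hy using hlift
    let g : Fin r ⊕ s → ↥m := Sum.elim x y
    have hgen : Submodule.span A (Set.range g) = ⊤ := by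
      rw [hsub]
      refine le_antisymm (Ideal.span_le.mpr (by rintro _ ⟨z, -, rfl⟩; exact z.2)) fun z hz => ?_
      rw [Set.Sum.elim_range, Set.image_union, Ideal.span_union, ← Set.range_comp, ← Set.range_comp]
      have hzq : Ideal.Quotient.mk J z ∈ (Ideal.span (Set.range (Subtype.val ∘ y))).map (Ideal.Quotient.mk J) := by
        rw [Ideal.map_span, ← Set.range_comp]
        have : Set.range (Ideal.Quotient.mk J ∘ Subtype.val ∘ y) = (s : Set (A ⧸ J)) := by
          ext q
          exact ⟨by rintro ⟨p, rfl⟩; exact Set.mem_of_eq_of_mem (hy p) p.2, fun hq => ⟨⟨q, hq⟩, hy _⟩⟩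
        rw [this]
        rw [show Ideal.span (s : Set (A ⧸ J)) = IsLocalRing.maximalIdeal (A ⧸ J) from hsg,
          Groth.L01.maximalIdeal_quotient_eq_map]
        exact Ideal.mem_map_of_mem _ hz
      rw [Ideal.mem_quotient_iff_mem_sup, sup_comm] at hzq
      exact hzq
    have htop := sp.mpr hgen
    rw [← Set.range_comp] at htop
    have hfr : Module.finrank (IsLocalRing.ResidueField A) (IsLocalRing.CotangentSpace A) = N := by
      refine le_antisymm ?_ ?_
      · have h1 := finrank_range_le_card (R := IsLocalRing.ResidueField A) (m.toCotangent ∘ g)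
        rw [Set.finrank, htop, finrank_top] at h1
        exact h1.trans (by simp [hse]; omega)
      · have h2 := ringKrullDim_le_spanFinrank_maximalIdeal A
        rw [hN, hN'] at h2; exact_mod_cast h2
    refine ⟨(IsRegularLocalRing.iff_finrank_cotangentSpace A).mpr (by rw [hfr, hN]), ?_⟩
    have hli := linearIndependent_of_top_le_span_of_card_eq_finrank htop.ge
      (by rw [hfr]; simp [hse]; omega)
    exact hli.comp Sum.inl Sum.inl_injective
  refine ⟨⟨fun ⟨hreg, hli⟩ => ?_, fun h => back h.1 h.2⟩, fun hreg _ => ?_⟩
  · obtain ⟨B, hB⟩ : ∃ B : Set (IsLocalRing.CotangentSpace A), Set.range (fun i => m.toCotangent (x i)) ⊆ B ∧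
        LinearIndepOn (IsLocalRing.ResidueField A) id B ∧ Submodule.span (IsLocalRing.ResidueField A) B = ⊤ := by
      have h := linearIndepOn_id_range_iff hli.injective |>.mpr hli
      exact ⟨h.extend (Set.subset_univ _), h.subset_extend _, h.linearIndepOn_extend _, by
        rw [h.span_extend_eq_span, Submodule.span_univ]⟩
    obtain ⟨hsubB, hBli, hBspan⟩ := hB
    have hBfin : B.Finite := hBli.setFinite
    have hBcard : B.ncard = N := by
      have h1 : Module.finrank (IsLocalRing.ResidueField A) (IsLocalRing.CotangentSpace A) = B.ncard := by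
        haveI := hBfin.fintype
        rw [← finrank_top, ← hBspan, finrank_span_set_eq_card hBli, Set.ncard_eq_toFinset_card']
      have h2 := (IsRegularLocalRing.iff_finrank_cotangentSpace A).mp hreg
      rw [h1, hN] at h2; exact_mod_cast h2
    let R' := Set.range fun i => m.toCotangent (x i)
    have hR : R'.ncard = r := (Set.ncard_range_of_injective hli.injective).trans (Nat.card_fin r)
    let y : IsLocalRing.CotangentSpace A → ↥m := Function.surjInv m.toCotangent_surjective
    have hgen : Ideal.span (Subtype.val '' (Set.range x ∪ y '' (B \ R'))) = m := by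
      rw [← hsub, ← sp, Set.image_union, ← Set.range_comp, ← Set.image_comp]
      have : m.toCotangent ∘ y = id := funext fun q => Function.surjInv_eq m.toCotangent_surjective q
      rw [this, Set.image_id, show Set.range (m.toCotangent ∘ x) = R' from rfl,
        Set.union_sdiff_cancel hsubB, hBspan]
    have hgen' : IsLocalRing.maximalIdeal (A ⧸ J) =
        Ideal.span (Ideal.Quotient.mk J '' (Subtype.val '' (y '' (B \ R')))) := by
      rw [Groth.L01.maximalIdeal_quotient_eq_map]
      refine (congrArg (Ideal.map (Ideal.Quotient.mk J)) hgen.symm).trans ?_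
      rw [Set.image_union, Ideal.span_union, Ideal.map_sup, ← Set.range_comp,
        show Ideal.span (Set.range (Subtype.val ∘ x)) = J from rfl, Ideal.map_quotient_self, bot_sup_eq,
        Ideal.map_span]
    have hle : (IsLocalRing.maximalIdeal (A ⧸ J)).spanFinrank ≤ N - r := by
      rw [hgen']
      have hfin : (B \ R').Finite := hBfin.sdiff
      refine (Submodule.spanFinrank_span_le_ncard_of_finite (((hfin.image _).image _).image _)).trans ?_
      refine (Set.ncard_image_le ((hfin.image _).image _)).trans ((Set.ncard_image_le (hfin.image _)).trans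
        ((Set.ncard_image_le hfin).trans ?_))
      rw [Set.ncard_sdiff hsubB, hBcard, hR]
    have hge : e ≤ (IsLocalRing.maximalIdeal (A ⧸ J)).spanFinrank := by
      have := ringKrullDim_le_spanFinrank_maximalIdeal (A ⧸ J)
      rw [he] at this; exact_mod_cast this
    have hrN : r ≤ N := hR ▸ hBcard ▸ Set.ncard_le_ncard hsubB hBfin
    refine ⟨?_, IsRegularLocalRing.of_spanFinrank_maximalIdeal_le _ ?_⟩
    · rw [he, hN]; exact_mod_cast (show e + r = N by omega)
    · rw [he]
      exact Nat.cast_le.mpr (hle.trans (by omega))
  · haveI := hreg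
    haveI := Groth.L01.isDomain_of_regular (A ⧸ J)
    exact Ideal.Quotient.isDomain_iff_prime J |>.mp this

end Groth.Agent.S5779
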