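import Groth.Statements.S5780
import Mathlib.RingTheory.Ideal.AssociatedPrime.Finiteness
import Mathlib.RingTheory.Nakayama

set_option autoImplicit false
universe u
open EGA41

namespace Groth.Agent.S5780

/-- Let A be a Noetherian local ring with maximal ideal m. If every element of m which is not in m² is a
zero divisor in A, then there is a nonzero c in A with c m = 0, i.e. m is an associated prime of A. -/
theorem result (A : Type u) [CommRing A]
    [IsLocalRing A] [IsNoetherianRing A]
    (h : ∀ a ∈ IsLocalRing.maximalIdeal A, a ∉ IsLocalRing.maximalIdeal A ^ 2 → ¬ IsSMulRegular A a) :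
    IsLocalRing.maximalIdeal A ∈ associatedPrimes A A := by
  classical
  by_contra hm
  have hfin := associatedPrimes.finite A A
  have hsub : (IsLocalRing.maximalIdeal A : Set A) ⊆
      ⋃ i ∈ ((insert (IsLocalRing.maximalIdeal A ^ 2) hfin.toFinset : Finset (Ideal A)) : Set (Ideal A)), (i : Ideal A) := by
    intro a ha
    by_cases ha2 : a ∈ IsLocalRing.maximalIdeal A ^ 2
    · exact Set.mem_biUnion (by simp) ha2
    · have hnr := h a ha ha2
      rw [isSMulRegular_iff_right_eq_zero_of_smul] at hnr
      push Not at hnr
      obtain ⟨c, hc, hc0⟩ := hnr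
      have hmem : a ∈ ⋃ p ∈ associatedPrimes A A, (p : Set A) := by
        rw [biUnion_associatedPrimes_eq_zero_divisors]
        exact ⟨c, hc0, hc⟩
      obtain ⟨p, hp, hap⟩ := Set.mem_iUnion₂.mp hmem
      exact Set.mem_biUnion (by simp [hp]) hap
  obtain ⟨p, hp, hle⟩ := (Ideal.subset_union_prime (f := id) (IsLocalRing.maximalIdeal A ^ 2)
    (IsLocalRing.maximalIdeal A ^ 2) (fun i hi h1 _ => by
      simp only [Finset.mem_insert, Set.Finite.mem_toFinset] at hi
      exact (hi.resolve_left h1).isPrime)).mp hsub
  simp only [Finset.mem_insert, Set.Finite.mem_toFinset] at hp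
  rcases hp with rfl | hp
  · have h0 : IsLocalRing.maximalIdeal A = ⊥ :=
      Submodule.eq_bot_of_le_smul_of_le_jacobson_bot (IsLocalRing.maximalIdeal A) _
        (IsNoetherian.noetherian _) (by rw [smul_eq_mul, ← pow_two]; exact hle)
        (IsLocalRing.maximalIdeal_le_jacobson _)
    obtain ⟨q, hq⟩ := associatedPrimes.nonempty A A
    refine hm ?_
    have : q = IsLocalRing.maximalIdeal A :=
      (IsLocalRing.le_maximalIdeal hq.isPrime.ne_top).antisymm (h0 ▸ bot_le)
    exact this ▸ hq
  · have : p = IsLocalRing.maximalIdeal A :=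
      (IsLocalRing.le_maximalIdeal hp.isPrime.ne_top).antisymm hle
    exact hm (this ▸ hp)

end Groth.Agent.S5780
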