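import Groth.Statements.S5781
import Mathlib.LinearAlgebra.Dual.Lemmas
import Mathlib.RingTheory.LocalRing.ResidueField.Basic
import Mathlib.RingTheory.Ideal.Cotangent

set_option autoImplicit false
set_option linter.style.haveILetI false
universe u
open EGA41

namespace Groth.Agent.S5781

/-- Suppose A is a Noetherian local ring whose maximal ideal is m, and take a ∈ m with a ∉ m². Then the
quotient m/am contains a direct summand isomorphic to m/Aa: concretely, one can find A-linear maps f
: m/Aa → m/am and g : m/am → m/Aa such that g ∘ f is the identity. -/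
theorem result (A : Type u) [CommRing A] [IsLocalRing A]
    [IsNoetherianRing A] (a : A) (ha : a ∈ IsLocalRing.maximalIdeal A) (ha2 : a ∉ IsLocalRing.maximalIdeal A ^ 2) :
    ∃ (f : (↥(IsLocalRing.maximalIdeal A) ⧸ Submodule.span A {(⟨a, ha⟩ : ↥(IsLocalRing.maximalIdeal A))}) →ₗ[A]
          QuotSMulTop a ↥(IsLocalRing.maximalIdeal A))
      (g : QuotSMulTop a ↥(IsLocalRing.maximalIdeal A) →ₗ[A]
          (↥(IsLocalRing.maximalIdeal A) ⧸ Submodule.span A {(⟨a, ha⟩ : ↥(IsLocalRing.maximalIdeal A))})),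
      g.comp f = LinearMap.id := by
  classical
  let m := IsLocalRing.maximalIdeal A
  let a' : ↥m := ⟨a, ha⟩
  have hne : m.toCotangent a' ≠ 0 := by rw [Ne, Ideal.toCotangent_eq_zero]; exact ha2
  obtain ⟨φ, hφ⟩ : ∃ φ : IsLocalRing.CotangentSpace A →ₗ[IsLocalRing.ResidueField A] IsLocalRing.ResidueField A,
      φ (m.toCotangent a') = 1 := Module.Projective.exists_dual_eq_one _ hne
  let ι : IsLocalRing.ResidueField A →ₗ[A] QuotSMulTop a ↥m :=
    Submodule.liftQ m (LinearMap.toSpanSingleton A _ (Submodule.Quotient.mk a')) fun c hc => by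
      rw [LinearMap.mem_ker, LinearMap.toSpanSingleton_apply, ← Submodule.Quotient.mk_smul,
        Submodule.Quotient.mk_eq_zero]
      exact (Submodule.mem_smul_pointwise_iff_exists _ _ _).mpr
        ⟨⟨c, hc⟩, trivial, Subtype.ext (mul_comm a c)⟩
  let ψ : ↥m →ₗ[A] IsLocalRing.ResidueField A := (φ.restrictScalars A).comp m.toCotangent
  let F : ↥m →ₗ[A] QuotSMulTop a ↥m := Submodule.mkQ _ - ι.comp ψ
  refine ⟨Submodule.liftQ _ F ?_, Submodule.mapQ _ _ LinearMap.id ?_, ?_⟩
  · rw [Submodule.span_singleton_le_iff_mem, LinearMap.mem_ker]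
    have : ψ a' = (Submodule.Quotient.mk (1 : A) : A ⧸ m) := hφ
    simp only [F, LinearMap.sub_apply, LinearMap.comp_apply]
    rw [show ψ ⟨a, ha⟩ = _ from this]
    show Submodule.mkQ _ a' - LinearMap.toSpanSingleton A _ (Submodule.Quotient.mk a') 1 = 0
    simp
  · intro y hy
    obtain ⟨z, -, rfl⟩ := (Submodule.mem_smul_pointwise_iff_exists _ _ _).mp hy
    exact Submodule.mem_span_singleton.mpr ⟨z.1, Subtype.ext (mul_comm z.1 a)⟩
  · refine Submodule.linearMap_qext _ (LinearMap.ext fun y => ?_)
    obtain ⟨c, hc⟩ := Submodule.mkQ_surjective m (ψ y)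
    simp only [LinearMap.comp_apply, Submodule.mkQ_apply, Submodule.liftQ_apply, F,
      LinearMap.sub_apply, map_sub, LinearMap.id_apply]
    rw [← hc]
    show Submodule.Quotient.mk y - Submodule.Quotient.mk (c • a') = Submodule.Quotient.mk y
    rw [sub_eq_self, Submodule.Quotient.mk_eq_zero]
    exact Submodule.smul_mem _ _ (Submodule.mem_span_singleton_self _)

end Groth.Agent.S5781
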