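import Groth.Statements.S5783
import Groth.Agent.L06.FiniteSupp
import Groth.Agent.S4718
import Groth.Agent.S0605
import Groth.Agent.L03.AuslanderBuchsbaum
import Groth.Agent.L04.CMLoc

set_option autoImplicit false
set_option maxSynthPendingDepth 3
set_option linter.style.haveILetI false
universe u
open EGA41

namespace Groth.Agent.S5783

/-- Let A be a regular local ring, B a local ring and ρ : A → B a local homomorphism making B a finitely
generated A-module. Then B is a free A-module if and only if B is a Cohen-Macaulay ring and ρ is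
injective (the latter being equivalent to dim(B) = dim(A)). -/
theorem result (A B : Type u) [CommRing A] [CommRing B]
    [IsRegularLocalRing A] [IsLocalRing B] [Algebra A B] [IsLocalHom (algebraMap A B)] [Module.Finite A B] :
    Module.Free A B ↔ LocCoh.IsCohenMacaulayLocalRing B ∧ Function.Injective (algebraMap A B) := by
  haveI : IsNoetherianRing B := IsNoetherianRing.of_finite A B
  have hAB : LocCoh.IsCohenMacaulayModule A B ↔ LocCoh.IsCohenMacaulayModule B B := by
    have hq : ∀ q : PrimeSpectrum B, q.asIdeal.comap (algebraMap A B) = IsLocalRing.maximalIdeal A →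
        q.asIdeal = IsLocalRing.maximalIdeal B := fun q hq => by
      haveI : (q.asIdeal.comap (algebraMap A B)).IsMaximal := hq ▸ inferInstance
      haveI : q.asIdeal.IsMaximal := Ideal.isMaximal_of_isIntegral_of_isMaximal_comap (R := A) q.asIdeal ‹_›
      exact IsLocalRing.eq_maximalIdeal inferInstance
    obtain ⟨h1, h2⟩ := Groth.L06.FiniteSupp.local_eq (A := B) B
    refine (Groth.Agent.S4718.result A B B).trans ⟨fun h => ?_, fun h => ⟨?_, ?_⟩⟩
    · have := h.1 ⟨IsLocalRing.maximalIdeal B, inferInstance⟩
        ⟨(IsLocalRing.eq_maximalIdeal (Ideal.isMaximal_comap_of_isIntegral_of_isMaximal (R := A) (IsLocalRing.maximalIdeal B))), by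
          rw [Module.mem_support_iff_of_finite]; exact IsLocalRing.le_maximalIdeal (fun ht => not_subsingleton B (Module.annihilator_eq_top_iff.mp ht))⟩
      unfold LocCoh.IsCohenMacaulayModule at this ⊢
      rw [h1, h2] at this
      exact this
    · intro q hq'
      obtain ⟨P, hP⟩ := q
      obtain rfl : P = IsLocalRing.maximalIdeal B := hq ⟨P, hP⟩ hq'.1
      unfold LocCoh.IsCohenMacaulayModule at h ⊢
      rw [h1, h2]
      exact h
    · intro q hq1 q' hq2
      obtain ⟨P, hP⟩ := q
      obtain ⟨P', hP'⟩ := q'
      obtain rfl : P = IsLocalRing.maximalIdeal B := hq ⟨P, hP⟩ hq1.1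
      obtain rfl : P' = IsLocalRing.maximalIdeal B := hq ⟨P', hP'⟩ hq2.1
      rfl
  have hdim : Function.Injective (algebraMap A B) → Module.supportDim A B = ringKrullDim A := fun hinj => by
    rw [Module.supportDim_eq_ringKrullDim_quotient_annihilator,
      show Module.annihilator A B = ⊥ by
        refine eq_bot_iff.mpr fun a ha => hinj ?_
        rw [map_zero, ← mul_one (algebraMap A B a), ← Algebra.smul_def]
        exact Module.mem_annihilator.mp ha 1]
    exact ringKrullDim_eq_of_ringEquiv (RingEquiv.quotientBot A)
  constructor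
  · intro hfree
    have hinj : Function.Injective (algebraMap A B) := FaithfulSMul.algebraMap_injective A B
    refine ⟨⟨hAB.mp ?_⟩, hinj⟩
    unfold LocCoh.IsCohenMacaulayModule
    rw [hdim hinj, Groth.L03.AB.depth_free (R := A) B, ← Module.supportDim_self_eq_ringKrullDim]
    exact (Groth.L04.isCohenMacaulayLocalRing_of_regular A).supportDim_eq_depth
  · rintro ⟨hB, hinj⟩
    exact Groth.Agent.S0605.result A B ((hAB.mpr hB.supportDim_eq_depth).symm.trans (hdim hinj))

end Groth.Agent.S5783
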