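import Groth.Statements.S5787
import Mathlib.RingTheory.Regular.Category
import Mathlib.RingTheory.Regular.RegularSequence
import Mathlib.Algebra.Homology.DerivedCategory.Ext.ExactSequences
import Mathlib.Algebra.Homology.DerivedCategory.Ext.Linear


set_option autoImplicit false
universe u
open CategoryTheory
open EGA41

namespace Groth.Agent.S5787

open Abelian in
theorem smul_ext_eq_zero {A : Type u} [CommRing A] [IsLocalRing A] {x : A} (hx : x ∈ IsLocalRing.maximalIdeal A)
    {N : ModuleCat.{u} A} {i : ℕ} (e : Ext (ModuleCat.of A (IsLocalRing.ResidueField A)) N i) : x • e = 0 := by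
  have h0 : x • 𝟙 (ModuleCat.of A (IsLocalRing.ResidueField A)) = 0 := by
    refine ModuleCat.hom_ext (LinearMap.ext fun z => ?_)
    obtain ⟨a, rfl⟩ := IsLocalRing.residue_surjective z
    show x • IsLocalRing.residue A a = 0
    rw [Algebra.smul_def]
    show IsLocalRing.residue A x * IsLocalRing.residue A a = 0
    rw [(IsLocalRing.residue_eq_zero_iff x).2 hx, zero_mul]
  rw [← Ext.mk₀_id_comp e, ← Ext.smul_comp, ← Ext.mk₀_smul, h0, Ext.mk₀_zero, Ext.zero_comp]

open Abelian RingTheory.Sequence in
theorem aux {A : Type u} [CommRing A] [IsLocalRing A] [IsNoetherianRing A] (xs : List A) :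
    ∀ (M : Type u) [AddCommGroup M] [Module A M], (∀ x ∈ xs, x ∈ IsLocalRing.maximalIdeal A) →
      IsWeaklyRegular M xs →
      (∀ i < xs.length, Subsingleton (Ext (ModuleCat.of A (IsLocalRing.ResidueField A)) (ModuleCat.of A M) i)) ∧
      Nonempty ((IsLocalRing.ResidueField A →ₗ[A] (M ⧸ (Ideal.ofList xs • (⊤ : Submodule A M)))) ≃+
        Ext (ModuleCat.of A (IsLocalRing.ResidueField A)) (ModuleCat.of A M) xs.length) := by
  induction xs with
  | nil =>
    intro M _ _ _ _
    refine ⟨fun i hi => absurd hi (Nat.not_lt_zero i), ⟨?_⟩⟩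
    let h0 : Ext (ModuleCat.of A (IsLocalRing.ResidueField A)) (ModuleCat.of A M) 0 ≃ₗ[A]
        (IsLocalRing.ResidueField A →ₗ[A] M) := Ext.linearEquiv₀.trans ModuleCat.homLinearEquiv
    exact (((LinearEquiv.refl A (IsLocalRing.ResidueField A)).arrowCongr
      (Submodule.quotEquivOfEqBot (Ideal.ofList ([] : List A) • (⊤ : Submodule A M))
        (by simp [Ideal.ofList_nil]))).trans h0.symm).toAddEquiv
  | cons x rs ih =>
    intro M _ _ hxs hreg
    obtain ⟨hx, hreg'⟩ := (isWeaklyRegular_cons_iff M x rs).1 hreg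
    have hxm : x ∈ IsLocalRing.maximalIdeal A := hxs x (by simp)
    obtain ⟨hlow, ⟨e⟩⟩ := ih (QuotSMulTop x M) (fun y hy => hxs y (List.mem_cons_of_mem x hy)) hreg'
    let kk := ModuleCat.of A (IsLocalRing.ResidueField A)
    let S := (ModuleCat.of A M).smulShortComplex x
    have hS : S.ShortExact := hx.smulShortComplex_shortExact
    have hf : ∀ {i : ℕ} (a : Ext kk S.X₁ i), a.comp (Ext.mk₀ S.f) (add_zero i) = 0 := by
      intro i a
      have key : ∀ c : Ext kk (ModuleCat.of A M) i,
          c.comp (Ext.mk₀ (x • 𝟙 (ModuleCat.of A M))) (add_zero i) = 0 := fun c => by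
        rw [Ext.mk₀_smul, Ext.comp_smul]
        exact smul_ext_eq_zero hxm _
      exact key a
    have hlow' : ∀ i < (x :: rs).length, Subsingleton (Ext kk S.X₁ i) := by
      intro i hi
      refine subsingleton_of_forall_eq 0 fun a => ?_
      rcases i with _ | i
      · haveI : Mono S.f := hS.mono_f
        exact Ext.postcomp_mk₀_injective_of_mono kk S.f ((hf a).trans (map_zero _).symm)
      · obtain ⟨b, rfl⟩ := Ext.covariant_sequence_exact₁ kk hS a (hf a) (n₀ := i) rfl
        haveI : Subsingleton (Ext kk S.X₃ i) := hlow i (Nat.lt_of_succ_lt_succ hi)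
        rw [Subsingleton.elim b 0, Ext.zero_comp]
    refine ⟨hlow', ⟨?_⟩⟩
    let δ : Ext kk S.X₃ rs.length →+ Ext kk S.X₁ (rs.length + 1) :=
      hS.extClass.postcomp kk rfl
    have hδ : Function.Bijective δ := by
      constructor
      · refine (injective_iff_map_eq_zero δ).2 fun b hb => ?_
        obtain ⟨a, rfl⟩ := Ext.covariant_sequence_exact₃ kk hS b rfl hb
        haveI : Subsingleton (Ext kk S.X₂ rs.length) := hlow' rs.length (Nat.lt_succ_self _)
        rw [Subsingleton.elim a 0, Ext.zero_comp]
      · intro a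
        exact Ext.covariant_sequence_exact₁ kk hS a (hf a) rfl
    exact ((LinearEquiv.refl A (IsLocalRing.ResidueField A)).arrowCongr
      (Submodule.quotOfListConsSMulTopEquivQuotSMulTopInner M x rs)).toAddEquiv.trans (e.trans (AddEquiv.ofBijective δ hδ))

/-- Let A be a Noetherian local ring with maximal ideal m and residue field k, M an A-module and
(x_i)_{1 ≤ i ≤ n} an M-regular sequence of elements of m. Then Hom_A(k, M/(x_1 M + ... + x_n M)) and
Ext^n_A(k, M) are isomorphic (existence of an isomorphism; stated for the underlying abelian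
groups). -/
theorem result (A : Type u) [CommRing A] [IsLocalRing A]
    [IsNoetherianRing A] (M : Type u) [AddCommGroup M] [Module A M] (xs : List A)
    (hxs : ∀ x ∈ xs, x ∈ IsLocalRing.maximalIdeal A) (hreg : RingTheory.Sequence.IsWeaklyRegular M xs) :
    Nonempty ((IsLocalRing.ResidueField A →ₗ[A] (M ⧸ (Ideal.ofList xs • (⊤ : Submodule A M)))) ≃+
      Abelian.Ext (ModuleCat.of A (IsLocalRing.ResidueField A)) (ModuleCat.of A M) xs.length) := by
  exact (aux xs M hxs hreg).2

end Groth.Agent.S5787
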