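import Groth.Statements.S5800
import Groth.Agent.L06.Dim

set_option autoImplicit false
universe u
open TopDim

namespace Groth.Agent.S5800

/-- Let X be a topological space, x a point of X and (Y_i) a finite family of closed subsets each
containing x whose union is X. Then dim_x(X) = sup_i dim_x(Y_i). (The published statement lets the
Y_i be closed subsets of a neighbourhood U of x covering U; this row is the case U = X.) -/
theorem result (X : Type u) [TopologicalSpace X] (x : X)
    (ι : Type u) [Finite ι] (Y : ι → Set X) (hY : ∀ i, IsClosed (Y i)) (hx : ∀ i, x ∈ Y i)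
    (hcov : ⋃ i, Y i = Set.univ) :
    FlatMor.localDim X x = ⨆ i, FlatMor.localDim (Y i) ⟨x, hx i⟩ := by
  haveI : Nonempty ι := by
    obtain ⟨i, -⟩ := Set.mem_iUnion.mp (hcov.ge (Set.mem_univ x))
    exact ⟨i⟩
  refine le_antisymm ?_ (iSup_le fun i => le_iInf fun U => ?_)
  · have hex : ∀ i, ∃ U : {U : TopologicalSpace.Opens (Y i) // ⟨x, hx i⟩ ∈ U},
        topologicalKrullDim (U.1 : Set (Y i)) = FlatMor.localDim (Y i) ⟨x, hx i⟩ := fun i => by
      haveI : Nonempty {U : TopologicalSpace.Opens (Y i) // ⟨x, hx i⟩ ∈ U} := ⟨⟨⊤, trivial⟩⟩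
      exact csInf_mem (Set.range_nonempty _)
    choose U hU using hex
    have hopen : ∀ i, ∃ W : Set X, IsOpen W ∧ Subtype.val ⁻¹' W = (U i).1.1 := fun i =>
      isOpen_induced_iff.mp (U i).1.2
    choose W hWo hW using hopen
    refine iInf_le_of_le ⟨⟨⋂ i, W i, isOpen_iInter_of_finite hWo⟩,
      Set.mem_iInter.mpr fun i => (hW i).ge (U i).2⟩ ?_
    refine (Groth.L06.Dim.eq_iSup (fun i => (Subtype.val : (⋂ i, W i : Set X) → X) ⁻¹' Y i) fun p => ?_).le.trans ?_
    · exact (Groth.L06.Dim.exists_subset_of_finite_cover (fun i => (hY i).preimage continuous_subtype_val)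
        p.last.isIrreducible (by rw [← Set.preimage_iUnion, hcov, Set.preimage_univ]; exact Set.subset_univ _)).imp
        fun i hi => Groth.L06.Dim.length_le_of_last_subset p hi
    · refine iSup_le fun i => le_iSup_of_le i ?_
      rw [← hU i]
      let g : ((Subtype.val : (⋂ i, W i : Set X) → X) ⁻¹' Y i) → ((U i).1 : Set (Y i)) :=
        fun a => ⟨⟨a.1.1, a.2⟩, (hW i).subset (Set.mem_iInter.mp a.1.2 i)⟩
      have hg : Topology.IsInducing g :=
        Topology.IsInducing.of_comp (by fun_prop) (continuous_subtype_val.comp continuous_subtype_val)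
          (Topology.IsInducing.subtypeVal.comp Topology.IsInducing.subtypeVal :
            Topology.IsInducing (fun a : ((Subtype.val : (⋂ i, W i : Set X) → X) ⁻¹' Y i) => a.1.1))
      exact hg.topologicalKrullDim_le
  · refine iInf_le_of_le ⟨⟨Subtype.val ⁻¹' (U.1 : Set X), U.1.2.preimage continuous_subtype_val⟩, U.2⟩ ?_
    let g : ((Subtype.val : Y i → X) ⁻¹' (U.1 : Set X)) → (U.1 : Set X) := fun a => ⟨a.1.1, a.2⟩
    have hg : Topology.IsInducing g :=
      Topology.IsInducing.of_comp (by fun_prop) continuous_subtype_val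
        (Topology.IsInducing.subtypeVal.comp Topology.IsInducing.subtypeVal :
          Topology.IsInducing (fun a : ((Subtype.val : Y i → X) ⁻¹' (U.1 : Set X)) => a.1.1))
    exact hg.topologicalKrullDim_le

end Groth.Agent.S5800
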