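import Groth.Statements.S5801


set_option autoImplicit false
universe u
open scoped Pointwise
open EGA41

namespace Groth.Agent.S5801

/-- Let A be a ring, M an A-module and f ∈ A, and consider the canonical surjection (M/fM)[T] → gr(M)
for the (f)-adic filtration, whose injectivity says: for all k ≥ 0 and x ∈ M, f^k x ∈ f^(k+1) M
implies x ∈ fM. If f is M-regular this map is bijective; conversely, if it is bijective and M is
separated for the (f)-adic topology (the intersection of the f^k M is zero), then f is M-regular. -/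
theorem result (A : Type u) [CommRing A] (M : Type u)
    [AddCommGroup M] [Module A M] (f : A) :
    (IsSMulRegular M f →
        ∀ (k : ℕ) (x : M), f ^ k • x ∈ f ^ (k + 1) • (⊤ : Submodule A M) → x ∈ f • (⊤ : Submodule A M)) ∧
      ((⨅ k : ℕ, f ^ k • (⊤ : Submodule A M)) = ⊥ →
        (∀ (k : ℕ) (x : M), f ^ k • x ∈ f ^ (k + 1) • (⊤ : Submodule A M) → x ∈ f • (⊤ : Submodule A M)) →
          IsSMulRegular M f) := by
  have key : ∀ k (y : M), y ∈ f ^ k • (⊤ : Submodule A M) ↔ ∃ z, f ^ k • z = y := fun k y => by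
    simp [Submodule.mem_smul_pointwise_iff_exists]
  refine ⟨fun hf k x hx => ?_, fun hsep h => isSMulRegular_iff_right_eq_zero_of_smul.mpr fun x hx => ?_⟩
  · obtain ⟨z, hz⟩ := (key _ _).mp hx
    rw [pow_succ, ← smul_smul] at hz
    rw [Submodule.mem_smul_pointwise_iff_exists]
    exact ⟨z, trivial, (hf.pow k) hz⟩
  · have main : ∀ k, x ∈ f ^ k • (⊤ : Submodule A M) := by
      intro k
      induction k with
      | zero => rw [key]; exact ⟨x, by simp⟩
      | succ k ih =>
        obtain ⟨z, rfl⟩ := (key _ _).mp ih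
        obtain ⟨w, -, rfl⟩ := (Submodule.mem_smul_pointwise_iff_exists _ _ _).mp (h (k + 1) z (by
          rw [key]; exact ⟨0, by rw [smul_zero, pow_succ', mul_smul, hx]⟩))
        rw [key]; exact ⟨w, by rw [pow_succ, mul_smul]⟩
    have : x ∈ (⨅ k : ℕ, f ^ k • (⊤ : Submodule A M)) := Submodule.mem_iInf _ |>.mpr main
    rwa [hsep, Submodule.mem_bot] at this

end Groth.Agent.S5801
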