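import Groth.Statements.S5806
import Mathlib.RingTheory.Flat.Equalizer

set_option autoImplicit false
set_option linter.style.haveILetI false
universe u
open EGA41

namespace Groth.Agent.S5806

open TensorProduct in
/-- Let A be a ring, B a commutative A-algebra, (f_i)_{1 ≤ i ≤ n} elements of B and M a B-module.
Suppose (f_i) is M-regular and each of the A-modules M/(f_1 M + ... + f_i M), 0 ≤ i ≤ n, is flat.
Then for every ring homomorphism A → A', writing M' = M ⊗_A A' and f'_i = f_i ⊗ 1, the sequence
(f'_i) is M'-regular and the A'-modules M'/(f'_1 M' + ... + f'_{i-1} M') are flat: concretely,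
identifying M'/(f'_1 M' + ... + f'_{i-1} M') with A' ⊗_A (M/(f_1 M + ... + f_{i-1} M)),
multiplication by f_i on the latter is injective and the latter is A'-flat, for 1 ≤ i ≤ n. (The
published hypothesis lists only the flatness of M/(f_1 M + ... + f_{i-1} M) for 1 ≤ i ≤ n, omitting
M/(f_1 M + ... + f_n M); with that omission the case n = 1, A = B = k[t], M = k[t], f_1 = t, A' =
k[t]/(t) fails, since t acts as zero on k ⊗_A M = k, and the published proof uses the flatness of
M/(f_1 M + ... + f_i M) for every i ≤ n; so flatness of all these quotients is assumed here.) -/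
theorem result (A B : Type u) [CommRing A]
    [CommRing B] [Algebra A B] (M : Type u) [AddCommGroup M] [Module B M] [Module A M] [IsScalarTower A B M]
    (fs : List B) (hreg : RingTheory.Sequence.IsWeaklyRegular M fs)
    (hflat : ∀ i : ℕ, i ≤ fs.length → Module.Flat A (M ⧸ (Ideal.ofList (fs.take i) • (⊤ : Submodule B M))))
    (A' : Type u) [CommRing A'] [Algebra A A'] (i : Fin fs.length) :
    Function.Injective (LinearMap.lTensor A'
        (((LinearMap.lsmul B (M ⧸ (Ideal.ofList (fs.take i) • (⊤ : Submodule B M)))) (fs.get i)).restrictScalars A)) ∧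
      Module.Flat A' (A' ⊗[A] (M ⧸ (Ideal.ofList (fs.take i) • (⊤ : Submodule B M)))) := by
  have hi : (i : ℕ) < fs.length := i.2
  haveI := hflat i hi.le
  refine ⟨?_, inferInstance⟩
  set N := M ⧸ (Ideal.ofList (fs.take i) • (⊤ : Submodule B M))
  let g := fs.get i
  have hg : IsSMulRegular N g := hreg.regular_mod_prev i hi
  let f : N →ₗ[A] N := ((LinearMap.lsmul B N) g).restrictScalars A
  let P := M ⧸ (Ideal.ofList (fs.take (i + 1)) • (⊤ : Submodule B M))
  haveI : Module.Flat A P := hflat (i + 1) hi
  have hle : Ideal.ofList (fs.take i) • (⊤ : Submodule B M) ≤ Ideal.ofList (fs.take (i + 1)) • ⊤ := by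
    refine Submodule.smul_mono_left ?_
    rw [List.take_succ_eq_append_getElem hi, Ideal.ofList_append]
    exact le_sup_left
  let π : N →ₗ[A] P := (Submodule.factor hle).restrictScalars A
  have hπ : Function.Surjective π := Submodule.factor_surjective hle
  have hex : Function.Exact f π := by
    intro x
    obtain ⟨m, rfl⟩ := Submodule.mkQ_surjective _ x
    show Submodule.Quotient.mk m = (0 : P) ↔ _
    rw [Submodule.Quotient.mk_eq_zero, List.take_succ_eq_append_getElem hi, Ideal.ofList_append,
      Ideal.ofList_singleton, Submodule.sup_smul, Submodule.ideal_span_singleton_smul, Submodule.mem_sup]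
    constructor
    · rintro ⟨u, hu, v, hv, rfl⟩
      obtain ⟨w, -, rfl⟩ := Submodule.mem_smul_pointwise_iff_exists _ _ _ |>.mp hv
      refine ⟨Submodule.Quotient.mk w, ?_⟩
      show g • (Submodule.Quotient.mk w : N) = Submodule.Quotient.mk _
      rw [Submodule.Quotient.mk_add, (Submodule.Quotient.mk_eq_zero _).mpr hu, zero_add,
        Submodule.Quotient.mk_smul]
      rfl
    · rintro ⟨y, hy⟩
      obtain ⟨w, rfl⟩ := Submodule.mkQ_surjective _ y
      change (g • Submodule.Quotient.mk w : N) = Submodule.Quotient.mk m at hy
      rw [← Submodule.Quotient.mk_smul, Submodule.Quotient.eq] at hy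
      exact ⟨m - g • w, by rw [← neg_sub]; exact neg_mem hy, g • w, Submodule.smul_mem_pointwise_smul w g ⊤ trivial, sub_add_cancel m _⟩
  exact LinearMap.lTensor_injective_of_exact_of_flat (P := P) π hπ f (fun a b h => hg h) hex A'

end Groth.Agent.S5806
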