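import Groth.Statements.S5807
import Mathlib.RingTheory.RegularLocalRing.Polynomial
import Mathlib.RingTheory.Localization.LocalizationLocalization

set_option autoImplicit false
set_option linter.style.haveILetI false
universe u
open EGA41

namespace Groth.Agent.S5807

/-- Let A be a Noetherian ring which is a quotient of a regular ring B, and C an A-algebra of finite
type. Then every ring of fractions of C is a quotient of a regular ring. -/
theorem result (B A C : Type u) [CommRing B]
    [IsRegularRing B] [CommRing A] (π : B →+* A) (hπ : Function.Surjective π) [CommRing C] [Algebra A C]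
    [Algebra.FiniteType A C] (S : Submonoid C) :
    ∃ (R : Type u) (_ : CommRing R) (_ : IsRegularRing R) (f : R →+* Localization S),
      Function.Surjective f := by
  obtain ⟨n, f, hf⟩ := Algebra.FiniteType.iff_quotient_mvPolynomial''.mp (inferInstance : Algebra.FiniteType A C)
  let ψ : MvPolynomial (Fin n) B →+* C := f.toRingHom.comp (MvPolynomial.map π)
  have hψ : Function.Surjective ψ := hf.comp (MvPolynomial.map_surjective π hπ)
  let T := S.comap ψ
  have hreg : IsRegularRing (Localization T) := by
    haveI : IsNoetherianRing (Localization T) :=
      IsLocalization.isNoetherianRing T (Localization T) inferInstance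
    rw [isRegularRing_iff]
    intro P _
    haveI := IsLocalization.isLocalization_isLocalization_atPrime_isLocalization T
      (Localization.AtPrime P) P
    exact IsRegularLocalRing.of_ringEquiv
      (IsLocalization.algEquiv (P.comap (algebraMap (MvPolynomial (Fin n) B) (Localization T))).primeCompl
        (Localization.AtPrime (P.comap (algebraMap (MvPolynomial (Fin n) B) (Localization T))))
        (Localization.AtPrime P)).toRingEquiv
  refine ⟨Localization T, inferInstance, hreg,
    IsLocalization.map (Localization S) ψ (le_refl _ : T ≤ S.comap ψ), fun q => ?_⟩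
  obtain ⟨c, s, rfl⟩ := IsLocalization.exists_mk'_eq S q
  obtain ⟨c, rfl⟩ := hψ c
  obtain ⟨t, ht⟩ := hψ s
  refine ⟨IsLocalization.mk' _ c (⟨t, show ψ t ∈ S by rw [ht]; exact s.2⟩ : T), ?_⟩
  rw [IsLocalization.map_mk']
  congr 1
  exact Subtype.ext ht

end Groth.Agent.S5807
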