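import Groth.Statements.S5808
import Groth.Agent.L06.SupportDim
import Mathlib.RingTheory.Ideal.MinimalPrime.Basic
import Mathlib.Data.Fin.Tuple.Basic

set_option autoImplicit false
universe u
open EGA41

namespace Groth.Agent.S5808

/-- Let A be a semi-local Noetherian ring with spectrum X and Jacobson radical r, and a an ideal of A
distinct from A with codim(V(a), X) = h > 0 (h is the height of a). Then there exist h elements x_1,
..., x_h of a which are part of a system of parameters of A (so lie in r and can be completed by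
elements of r to dim(A) elements generating an ideal modulo which A has finite length) and such that
codim(V(a), V(x_1 A + ... + x_h A)) = 0, i.e. the image of a in A/(x_1 A + ... + x_h A) has height
0. -/
theorem result (A : Type u) [CommRing A] [IsNoetherianRing A]
    [Finite (MaximalSpectrum A)] (a : Ideal A) (ha : a ≠ ⊤) (h : ℕ) (hh : a.height = h) (hpos : 0 < h) :
    ∃ x : Fin h → A, (∀ i, x i ∈ a) ∧ (∀ i, x i ∈ Ring.jacobson A) ∧
      (∃ ys : List A, (∀ y ∈ ys, y ∈ Ring.jacobson A) ∧
        (((h + ys.length : ℕ) : ℕ∞) : WithBot ℕ∞) = ringKrullDim A ∧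
        IsFiniteLength A (A ⧸ (Ideal.span (Set.range x) ⊔ Ideal.ofList ys))) ∧
      (a.map (Ideal.Quotient.mk (Ideal.span (Set.range x)))).height = 0 := by
  classical
  obtain ⟨p, hp, hap, hph⟩ := Ideal.exists_isPrime_height_eq hh
  obtain ⟨D, hD⟩ := Groth.L06.SupportDim.exists_dim_eq_natCast (A := A) (I := ⊥) (ne_top_of_le_ne_top ha bot_le)
  have hdim : ringKrullDim A = D := by rw [← hD]; exact (RingEquiv.quotientBot A).symm.ringKrullDim
  have hhD : h ≤ D := by
    have h1 := Ideal.height_le_ringKrullDim_of_isPrime (I := p)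
    rw [hph, hdim] at h1
    exact_mod_cast h1
  have main : ∀ i, i ≤ h → ∃ x : Fin i → A, (∀ j, x j ∈ a) ∧ (∀ j, x j ∈ Ring.jacobson A) ∧
      ringKrullDim (A ⧸ Ideal.span (Set.range x)) = ((D - i : ℕ) : WithBot ℕ∞) ∧
      ∀ q ∈ (Ideal.span (Set.range x)).minimalPrimes, q ≤ p → (i : ℕ∞) ≤ q.height := by
    intro i
    induction i with
    | zero =>
      intro _
      refine ⟨Fin.elim0, fun j => j.elim0, fun j => j.elim0, ?_, fun q _ _ => by simp⟩
      rw [show Set.range (Fin.elim0 : Fin 0 → A) = ∅ from Set.range_eq_empty _, Ideal.span_empty, Nat.sub_zero, hD]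
    | succ i ih =>
      intro hi
      obtain ⟨x, hxa, hxJ, hxd, hxh⟩ := ih (Nat.le_of_succ_le hi)
      let I := Ideal.span (Set.range x)
      have hnota : ∀ q ∈ I.minimalPrimes, ¬ a ≤ q := by
        intro q hq haq
        have hq' : q ∈ (Ideal.span ((Finset.univ.image x : Finset A) : Set A)).minimalPrimes := by
          rwa [Finset.coe_image, Finset.coe_univ, Set.image_univ]
        have h1 := (Ideal.height_mono haq).trans (Ideal.height_le_card_of_mem_minimalPrimes_span_finset hq')
        rw [hh] at h1
        have h2 : h ≤ (Finset.univ.image x).card := by exact_mod_cast h1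
        have h3 : (Finset.univ.image x).card ≤ i := Finset.card_image_le.trans (by simp)
        omega
      let S := {q ∈ I.minimalPrimes | ¬ q.IsMaximal}
      have hfin : S.Finite := (I.finite_minimalPrimes_of_isNoetherianRing).subset fun q hq => hq.1
      obtain ⟨y, hy, hyS⟩ : ∃ y ∈ a ⊓ Ring.jacobson A, ∀ q ∈ S, y ∉ q := by
        by_contra! hc
        obtain ⟨q, hq, hle⟩ := (Ideal.subset_union_prime (s := hfin.toFinset) (f := id) ⊥ ⊥
          (fun q hq _ _ => (hfin.mem_toFinset.mp hq).1.1.1)).mp (fun y hy => by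
            obtain ⟨q, hq, hyq⟩ := hc y hy
            exact Set.mem_biUnion (hfin.mem_toFinset.mpr hq) hyq)
        have hq' := hfin.mem_toFinset.mp hq
        have := hq'.1.1.1
        rcases this.mul_le.1 (Ideal.mul_le_inf.trans hle) with h' | h'
        · exact hnota _ hq'.1 h'
        · exact hq'.2 (Groth.L06.SupportDim.exists_le_of_jacobson_le h')
      have hkey : ringKrullDim (A ⧸ (I ⊔ Ideal.span {y})) + 1 = ringKrullDim (A ⧸ I) := by
        refine (Groth.L06.SupportDim.sup_span_add_one_eq_iff I hy.2).mpr fun P hP hPd hyP => ?_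
        obtain ⟨q, hq, hqP⟩ := Ideal.exists_minimalPrimes_le hP
        have := hq.1.1
        by_cases hqm : q.IsMaximal
        · have hPq : q = P.asIdeal := hqm.eq_of_le P.isPrime.ne_top hqP
          have h0 := (Groth.L06.SupportDim.le_zero_iff_forall_isMaximal P.asIdeal).mpr fun r hr hle =>
            ((hPq ▸ hqm).eq_of_le hr.ne_top hle) ▸ (hPq ▸ hqm)
          rw [hPd, hxd] at h0
          norm_cast at h0
          omega
        · have hne : P.asIdeal ≠ q := fun e => hyS q ⟨hq, hqm⟩ (e ▸ hyP)
          obtain ⟨m, hm⟩ := Groth.L06.SupportDim.exists_dim_eq_natCast (I := P.asIdeal) P.isPrime.ne_top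
          have hlt : ringKrullDim (A ⧸ P.asIdeal) + 1 ≤ ringKrullDim (A ⧸ I) := by
            rw [hm]
            obtain ⟨l, hl⟩ := Order.le_krullDim_iff.mp (ringKrullDim_quotient P.asIdeal ▸ hm.ge)
            rw [ringKrullDim_quotient]
            refine le_of_eq_of_le ?_ (Order.LTSeries.length_le_krullDim
              ((l.map (fun z => (⟨z.1, le_trans hP z.2⟩ : PrimeSpectrum.zeroLocus (R := A) (I : Set A))) (fun _ _ hab => hab)).cons
                ⟨⟨q, hq.1.1⟩, hq.1.2⟩ ?_))
            · subst hl; rw [RelSeries.cons_length]; push_cast; rfl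
            · exact lt_of_le_of_lt (le_refl q) (lt_of_lt_of_le (lt_of_le_of_ne hqP hne.symm) l.head.2)
          rw [hPd, hxd] at hlt
          norm_cast at hlt
          omega
      have hspan : Ideal.span (Set.range (Fin.snoc x y : Fin (i + 1) → A)) = I ⊔ Ideal.span {y} := by
        rw [Fin.range_snoc, Ideal.span_insert, sup_comm]
      refine ⟨Fin.snoc x y, Fin.lastCases (by simpa using hy.1) (fun j => by simpa using hxa j),
        Fin.lastCases (by simpa using hy.2) (fun j => by simpa using hxJ j), ?_, fun q hq hqp => ?_⟩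
      · rw [hspan]
        obtain ⟨e, he⟩ := Groth.L06.SupportDim.exists_dim_eq_natCast (A := A) (I := I ⊔ Ideal.span {y}) (by
          intro htop
          rw [htop, hxd, ringKrullDim_eq_bot_of_subsingleton, WithBot.bot_add] at hkey
          exact WithBot.bot_ne_coe hkey)
        rw [he, hxd] at hkey
        norm_cast at hkey
        rw [he]; norm_cast; omega
      · rw [hspan] at hq
        have := hq.1.1
        obtain ⟨r, hr, hrq⟩ := Ideal.exists_minimalPrimes_le (le_sup_left.trans hq.1.2 : I ≤ q)
        have := hr.1.1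
        have := hq.1.1
        have hlt : r < q := by
          refine lt_of_le_of_ne hrq fun e => ?_
          have hyq : y ∈ q := hq.1.2 (Ideal.mem_sup_right (Ideal.mem_span_singleton_self y))
          by_cases hrm : r.IsMaximal
          · exact hnota r hr ((hap.trans (hrm.eq_of_le hp.ne_top (hrq.trans hqp)).ge))
          · exact hyS r ⟨hr, hrm⟩ (e ▸ hyq)
        have h1 := Ideal.height_add_one_le_of_lt_of_isPrime hlt
        have h2 := hxh r hr (hrq.trans hqp)
        exact le_trans (by rw [Nat.cast_succ]; gcongr) h1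
  obtain ⟨x, hxa, hxJ, hxd, hxh⟩ := main h le_rfl
  let I := Ideal.span (Set.range x)
  obtain ⟨l, hl1, hl2, hl3⟩ := Groth.L06.SupportDim.exists_parameters (D - h) I hxd
  refine ⟨x, hxa, hxJ, ⟨l, hl2, ?_, ?_⟩, ?_⟩
  · rw [hdim, hl1, Nat.add_sub_cancel' hhD]; rfl
  · refine (Groth.L06.SupportDim.isFiniteLength_iff).2 ?_
    rw [Groth.L06.SupportDim.supportDim_eq_quotient, Ideal.annihilator_quotient]
    exact hl3
  · have hIp : I ≤ p := Ideal.span_le.2 (Set.range_subset_iff.2 fun j => hap (hxa j))
    obtain ⟨q, hq, hqp⟩ := Ideal.exists_minimalPrimes_le hIp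
    have := hq.1.1
    have hqeq : q = p := Ideal.eq_of_le_of_height_le q hqp (hph ▸ hxh q hq hqp)
    subst hqeq
    haveI : (q.map (Ideal.Quotient.mk I)).IsPrime := Ideal.isPrime_map_quotientMk_of_isPrime hIp
    refine le_antisymm ((Ideal.height_mono (Ideal.map_mono hap)).trans (le_of_eq (Ideal.height_eq_zero_iff.2 ?_))) bot_le
    have hcomap : (q.map (Ideal.Quotient.mk I)).comap (Ideal.Quotient.mk I) = q := by
      rw [Ideal.comap_map_of_surjective _ Ideal.Quotient.mk_surjective, ← RingHom.ker_eq_comap_bot, Ideal.mk_ker, sup_eq_left.2 hIp]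
    refine ⟨⟨inferInstance, bot_le⟩, fun J hJ hJq => ?_⟩
    have := hJ.1
    have h1 : q ≤ J.comap (Ideal.Quotient.mk I) := hq.2 ⟨inferInstance, fun z hz => by
      rw [Ideal.mem_comap, Ideal.Quotient.eq_zero_iff_mem.2 hz]; exact zero_mem _⟩ (hcomap ▸ Ideal.comap_mono hJq)
    exact Ideal.map_le_iff_le_comap.2 h1

end Groth.Agent.S5808
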