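import Groth.Statements.S5809
import Groth.Agent.L01.PdRes
import Mathlib.RingTheory.LocalRing.Module
-- import your own Groth.Agent.* helpers here

set_option autoImplicit false
universe u
open CategoryTheory
open EGA41

namespace Groth.Agent.S5809

/-- Let A be a Noetherian local ring with residue field k, M a finitely generated A-module and n ≥ 0.
For M to have projective dimension at most n it is necessary that Tor^A_i(M, k) = 0 for all i > n,
and it suffices that Tor^A_(n+1)(M, k) = 0. (Tor is written here as the left derived functors of k ⊗
- evaluated at M, i.e. computed from a projective resolution of M.) -/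
theorem result (A : Type u) [CommRing A] [IsLocalRing A]
    [IsNoetherianRing A] (M : Type u) [AddCommGroup M] [Module A M] [Module.Finite A M] (n : ℕ) :
    (HasProjectiveDimensionLT (ModuleCat.of A M) (n + 1) →
        ∀ i : ℕ, n < i → Limits.IsZero (((Tor (ModuleCat.{u} A) i).obj
          (ModuleCat.of A (IsLocalRing.ResidueField A))).obj (ModuleCat.of A M))) ∧
      (Limits.IsZero (((Tor (ModuleCat.{u} A) (n + 1)).obj
          (ModuleCat.of A (IsLocalRing.ResidueField A))).obj (ModuleCat.of A M)) →
        HasProjectiveDimensionLT (ModuleCat.of A M) (n + 1)) := by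
  refine ⟨fun h i hi => Groth.L01.PdRes.tor_isZero_of_pdLT n _ M h i hi, ?_⟩
  induction n generalizing M with
  | zero =>
    intro h
    obtain ⟨a, π, hπ⟩ := Module.Finite.exists_fin' A M
    obtain ⟨f⟩ := Groth.L28.Kun.nonempty_tor_one (X := IsLocalRing.ResidueField A)
      (LinearMap.ker π).subtype π Subtype.val_injective (LinearMap.exact_subtype_ker_map π) hπ
    haveI : Subsingleton (DRing.Tor A 1 (IsLocalRing.ResidueField A) M) :=
      ModuleCat.subsingleton_of_isZero h
    haveI : Subsingleton (LinearMap.ker (LinearMap.lTensor (IsLocalRing.ResidueField A) (LinearMap.ker π).subtype)) :=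
      f.symm.injective.subsingleton
    have hinj : Function.Injective (LinearMap.lTensor (IsLocalRing.ResidueField A) (LinearMap.ker π).subtype) := by
      rw [← LinearMap.ker_eq_bot, Submodule.eq_bot_iff]
      exact fun x hx => congrArg Subtype.val (Subsingleton.elim (⟨x, hx⟩ : LinearMap.ker _) 0)
    haveI : Module.Free A M := Module.free_of_lTensor_residueField_injective (LinearMap.ker π).subtype π
      hπ (LinearMap.exact_subtype_ker_map π) hinj
    exact projective_iff_hasProjectiveDimensionLT_one.mp (ModuleCat.projective_of_free (Module.Free.chooseBasis A M))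
  | succ n ih =>
    intro h
    obtain ⟨a, π, hπ⟩ := Module.Finite.exists_fin' A M
    obtain ⟨f⟩ := Groth.L28.Kun.nonempty_tor_succ (X := IsLocalRing.ResidueField A)
      (LinearMap.ker π).subtype π Subtype.val_injective (LinearMap.exact_subtype_ker_map π) hπ n
    refine (Groth.L01.PdRes.pdLT_step (LinearMap.ker π).subtype π Subtype.val_injective
      (LinearMap.exact_subtype_ker_map π) hπ n).mpr (ih (LinearMap.ker π) ?_)
    exact h.of_iso f.symm.toModuleIso

end Groth.Agent.S5809
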