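import Groth.Statements.S5810
import Groth.Agent.L02.CMMor.FlatDepth
import Groth.Agent.L01.DepthBasic
import Groth.Agent.L04.Depth
import Groth.Agent.S0543
import Mathlib.RingTheory.AdicCompletion.AsTensorProduct
import Mathlib.RingTheory.AdicCompletion.LocalRing

-- import your own Groth.Agent.* helpers here

set_option autoImplicit false
universe u
open EGA41

namespace Groth.Agent.S5810

/-- Let A be a Noetherian local ring with maximal ideal m and M a finitely generated A-module; write Â
and M̂ for the m-adic completions. Then prof_A(M) = prof_Â(M̂). -/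
theorem result (A : Type u) [CommRing A] [IsLocalRing A] [IsNoetherianRing A] (M : Type u)
    [AddCommGroup M] [Module A M] [Module.Finite A M] :
    LocCoh.depth (AdicCompletion (IsLocalRing.maximalIdeal A) A) (AdicCompletion (IsLocalRing.maximalIdeal A) M) =
      LocCoh.depth A M := by
  haveI : IsNoetherianRing (AdicCompletion (IsLocalRing.maximalIdeal A) A) := Groth.Agent.S0543.result A _
  haveI := AdicCompletion.flat_of_isNoetherian (IsLocalRing.maximalIdeal A)
  let Ahat := AdicCompletion (IsLocalRing.maximalIdeal A) A
  have hm : (IsLocalRing.maximalIdeal A).map (algebraMap A Ahat) = IsLocalRing.maximalIdeal Ahat :=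
    (AdicCompletion.maximalIdeal_eq_map).symm
  have h0 : LocCoh.depth Ahat (EGA4.FibMod A Ahat Ahat) = 0 := by
    have hne : (Submodule.Quotient.mk (1 : Ahat) : EGA4.FibMod A Ahat Ahat) ≠ 0 := fun h => by
      rw [Submodule.Quotient.mk_eq_zero, Ideal.smul_eq_mul, Ideal.mul_top, EGA4.mB, hm] at h
      exact (IsLocalRing.maximalIdeal.isMaximal Ahat).ne_top ((Ideal.eq_top_iff_one _).mpr h)
    refine Groth.L01.depth_eq_zero_of_smul_eq_zero hne fun x hx => ?_
    rw [← Submodule.Quotient.mk_smul, Submodule.Quotient.mk_eq_zero, Ideal.smul_eq_mul, Ideal.mul_top, EGA4.mB, hm,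
      smul_eq_mul, mul_one]
    exact hx
  have h := L02.CMMor.depth_tensor (A := A) (B := Ahat) Ahat M
  rw [h0, add_zero] at h
  rw [← h]
  exact (Groth.L04.idealDepth_congr (AdicCompletion.ofTensorProductEquivOfFiniteNoetherian
    (IsLocalRing.maximalIdeal A) M)).symm

end Groth.Agent.S5810
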