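import Groth.Statements.S5811
import Groth.Agent.S0543
import Groth.Agent.L02.CMMor.FlatDepth
import Mathlib.RingTheory.AdicCompletion.AsTensorProduct
import Mathlib.RingTheory.AdicCompletion.LocalRing
import Mathlib.RingTheory.Ideal.KrullsHeightTheorem
import Mathlib.RingTheory.KrullDimension.Module


set_option autoImplicit false
universe u
open EGA41

namespace Groth.Agent.S5811

/-- Let A be a semi-local Noetherian ring (finitely many maximal ideals) with Jacobson radical r, M a
finitely generated A-module, and write Â and M̂ for the r-adic completions of A and M. Then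
dim_Â(M̂) = dim_A(M), the dimension of a module being the Krull dimension of its support. (For M = 0
both sides are ⊥.) -/
theorem result (A : Type u) [CommRing A] [IsNoetherianRing A]
    [Finite (MaximalSpectrum A)] (M : Type u) [AddCommGroup M] [Module A M] [Module.Finite A M] :
    Module.supportDim (AdicCompletion (Ring.jacobson A) A) (AdicCompletion (Ring.jacobson A) M) =
      Module.supportDim A M := by
  classical
  let J := Ring.jacobson A
  let S := AdicCompletion J A
  haveI : IsNoetherianRing S := Groth.Agent.S0543.result A _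
  haveI : Module.Flat A S := AdicCompletion.flat_of_isNoetherian J
  have hfg : J.FG := IsNoetherian.noetherian J
  haveI := AdicCompletion.isAdicComplete_self J hfg
  have hJmax : ∀ m : Ideal A, m.IsMaximal → J ≤ m := fun m hm => by
    show Ring.jacobson A ≤ m
    rw [← Ideal.jacobson_bot]
    exact sInf_le ⟨bot_le, hm⟩
  have hSmax : ∀ m : Ideal A, m.IsMaximal → (m.map (algebraMap A S)).IsMaximal := fun m hm =>
    haveI := hm
    AdicCompletion.isMaximal_map_of_le J m (hJmax m hm) hfg
  have hover : ∀ N : Ideal S, N.IsMaximal →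
      (N.comap (algebraMap A S)).IsMaximal ∧ (N.comap (algebraMap A S)).map (algebraMap A S) = N := by
    intro N hN
    have h1 : J ≤ N.comap (algebraMap A S) := Ideal.map_le_iff_le_comap.1
      ((IsAdicComplete.le_jacobson_bot (J.map (algebraMap A S))).trans (sInf_le ⟨bot_le, hN⟩))
    haveI : (N.comap (algebraMap A S)).IsPrime := Ideal.IsPrime.comap _
    haveI := Fintype.ofFinite (MaximalSpectrum A)
    have h2 : (Finset.univ.inf fun i : MaximalSpectrum A => i.asIdeal) ≤ N.comap (algebraMap A S) := by
      refine le_trans ?_ h1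
      show _ ≤ Ring.jacobson A
      rw [← Ideal.jacobson_bot]
      exact le_sInf fun m hm => Finset.inf_le (f := fun i : MaximalSpectrum A => i.asIdeal)
        (Finset.mem_univ (⟨m, hm.2⟩ : MaximalSpectrum A))
    obtain ⟨i, -, hi⟩ := (Ideal.IsPrime.inf_le' inferInstance).1 h2
    have heq : i.asIdeal = N.comap (algebraMap A S) := i.isMaximal.eq_of_le (Ideal.IsPrime.ne_top inferInstance) hi
    refine ⟨heq ▸ i.isMaximal, ?_⟩
    exact (hSmax _ (heq ▸ i.isMaximal)).eq_of_le hN.ne_top (Ideal.map_comap_le)
  let e : TensorProduct A S M ≃ₗ[S] AdicCompletion J M := AdicCompletion.ofTensorProductEquivOfFiniteNoetherian J M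
  rw [← Module.supportDim_eq_of_equiv e]
  let a := Module.annihilator A M
  have hsS : Module.support S (TensorProduct A S M) = PrimeSpectrum.zeroLocus (a.map (algebraMap A S) : Set S) := by
    rw [L02.CMMor.support_tensor (A := A) (B := S) S M, Module.support_eq_zeroLocus (R := A) (M := M),
      PrimeSpectrum.preimage_comap_zeroLocus, ← PrimeSpectrum.zeroLocus_span (_ '' _),
      Module.support_eq_zeroLocus (R := S) (M := S)]
    have h0 : Module.annihilator S S = ⊥ := by
      rw [eq_bot_iff]
      intro x hx
      simpa using Module.mem_annihilator.1 hx 1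
    rw [h0, Submodule.bot_coe, PrimeSpectrum.zeroLocus_singleton_zero, Set.univ_inter]
    rfl
  rw [Module.supportDim_eq_ringKrullDim_quotient_annihilator (R := A) (M := M),
    show Module.supportDim S (TensorProduct A S M) = Order.krullDim (Module.support S (TensorProduct A S M)) from rfl, hsS,
    ← ringKrullDim_quotient]
  refine le_antisymm ?_ ?_
  · let f : A ⧸ a →+* S ⧸ a.map (algebraMap A S) := Ideal.quotientMap _ (algebraMap A S) Ideal.le_comap_map
    letI : Algebra (A ⧸ a) (S ⧸ a.map (algebraMap A S)) := f.toAlgebra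
    rcases subsingleton_or_nontrivial (S ⧸ a.map (algebraMap A S)) with hs | hs
    · rw [ringKrullDim_eq_bot_of_subsingleton]; exact bot_le
    rw [← Ideal.sup_isMaximal_height_eq_ringKrullDim, WithBot.coe_iSup ⟨⊤, fun _ _ => le_top⟩]
    refine iSup_le fun n => ?_
    by_cases hn : n.IsMaximal
    swap
    · haveI : Nontrivial (A ⧸ a) := f.domain_nontrivial
      simp [hn, ringKrullDim_nonneg_of_nontrivial]
    rw [iSup_pos hn]
    let N := n.comap (Ideal.Quotient.mk (a.map (algebraMap A S)))
    haveI hNm : N.IsMaximal := Ideal.comap_isMaximal_of_surjective _ Ideal.Quotient.mk_surjective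
    obtain ⟨hm, hmap⟩ := hover N hNm
    set m := N.comap (algebraMap A S) with hmdef
    haveI := hn.isPrime
    let p : Ideal (A ⧸ a) := n.comap f
    have hp : p.map f = n := by
      refine le_antisymm Ideal.map_comap_le ?_
      have h1 : n = N.map (Ideal.Quotient.mk (a.map (algebraMap A S))) :=
        (Ideal.map_comap_of_surjective _ Ideal.Quotient.mk_surjective n).symm
      rw [h1, ← hmap, Ideal.map_le_iff_le_comap, Ideal.map_le_iff_le_comap]
      intro x hx
      rw [Ideal.mem_comap, Ideal.mem_comap]
      have : f (Ideal.Quotient.mk a x) = Ideal.Quotient.mk _ (algebraMap A S x) := Ideal.quotientMap_mk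
      rw [← this]
      refine Ideal.mem_map_of_mem f ?_
      show f (Ideal.Quotient.mk a x) ∈ n
      rw [this]
      exact hx
    haveI : n.LiesOver p := ⟨rfl⟩
    have h2 := Ideal.height_le_height_add_of_liesOver p n
    have h3 : (n.map (Ideal.Quotient.mk (p.map (algebraMap (A ⧸ a) (S ⧸ a.map (algebraMap A S)))))).height = 0 := by
      have : n.map (Ideal.Quotient.mk (p.map (algebraMap (A ⧸ a) (S ⧸ a.map (algebraMap A S))))) = ⊥ := by
        rw [Ideal.map_eq_bot_iff_le_ker, Ideal.mk_ker]
        exact hp.ge
      rw [this]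
      haveI : (p.map (algebraMap (A ⧸ a) (S ⧸ a.map (algebraMap A S)))).IsPrime := hp.symm ▸ inferInstance
      exact Ideal.height_bot
    rw [h3, add_zero] at h2
    exact (WithBot.coe_le_coe.2 h2).trans (Ideal.height_le_ringKrullDim_of_ne_top (Ideal.IsPrime.ne_top inferInstance))
  · rw [ringKrullDim_quotient, ringKrullDim_quotient]
    refine iSup_le fun lp => ?_
    let lp' : LTSeries (PrimeSpectrum A) := lp.map Subtype.val fun _ _ h => h
    obtain ⟨m, hm, hlm⟩ := Ideal.exists_le_maximal _ lp'.last.isPrime.ne_top
    have hn := hSmax m hm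
    haveI : (m.map (algebraMap A S)).LiesOver m :=
      ⟨hm.eq_of_le (Ideal.comap_ne_top _ hn.ne_top) Ideal.le_comap_map⟩
    haveI := hm.isPrime
    haveI := hn.isPrime
    obtain ⟨Q, -, hQ, hQl⟩ := Ideal.exists_ideal_le_liesOver_of_le (m.map (algebraMap A S)) hlm
    haveI := hQ
    haveI := hQl
    obtain ⟨L, hLlen, hLlast, hLmap⟩ := Ideal.exists_ltSeries_of_hasGoingDown lp' Q
    have hmem : ∀ i, L i ∈ PrimeSpectrum.zeroLocus (a.map (algebraMap A S) : Set S) := by
      intro i x hx
      have h4 : PrimeSpectrum.comap (algebraMap A S) (L i) ∈ lp'.toList := by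
        rw [← hLmap]
        exact List.mem_map_of_mem (RelSeries.mem_toList.2 ⟨i, rfl⟩)
      obtain ⟨j, hj⟩ := RelSeries.mem_toList.1 h4
      revert x
      show a.map (algebraMap A S) ≤ (L i).asIdeal
      rw [Ideal.map_le_iff_le_comap]
      exact (lp j).2.trans (congrArg PrimeSpectrum.asIdeal hj).le
    refine le_iSup_of_le ⟨L.length, fun i => ⟨L i, hmem i⟩, fun i => L.step i⟩ ?_
    show ((lp.length : ℕ) : WithBot ℕ∞) ≤ (L.length : WithBot ℕ∞)
    rw [hLlen]
    exact le_rfl

end Groth.Agent.S5811
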