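import Groth.Statements.S5813
import Mathlib.Tactic.LinearCombination
-- import your own Groth.Agent.* helpers here

set_option autoImplicit false
universe u
open EGA41

namespace Groth.Agent.S5813

/-- Injectivity, commutative form. Let J be an ideal of the commutative ring B, C = B ⧸ J, M a C-module.
Two B-extensions of C by M whose induced linear maps J/J² → M (obtained from the restriction to J of
the structure map B → E) coincide are equivalent. -/
theorem result {B : Type u} [CommRing B] (J : Ideal B)
    {M : Type u} [AddCommGroup M] [Module (B ⧸ J) M] [Module B M] [IsScalarTower B (B ⧸ J) M]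
    (X Y : Exal.Ext B (B ⧸ J) M) (h : X.conormalMap J = Y.conormalMap J) :
    Nonempty (X.Equiv Y) := by
  have hJ : ∀ (Z : Exal.Ext B (B ⧸ J) M) (b : J), algebraMap B Z.E b = Z.incl (Z.conormalMap J (J.toCotangent b)) :=
    fun Z b => (Exal.Ext.incl_kerLift Z _ (Exal.Ext.proj_algebraMap_eq_zero J Z b)).symm
  have hdec : ∀ (Z : Exal.Ext B (B ⧸ J) M) (e : Z.E), ∃ b m, e = algebraMap B Z.E b + Z.incl m := by
    intro Z e
    obtain ⟨b, hb⟩ := Ideal.Quotient.mk_surjective (Z.proj e)
    have : Z.proj (e - algebraMap B Z.E b) = 0 := by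
      rw [map_sub, AlgHom.commutes, Ideal.Quotient.algebraMap_eq, hb, sub_self]
    obtain ⟨m, hm⟩ := (Z.isExtension.exact _).1 this
    exact ⟨b, m, by rw [hm, add_sub_cancel]⟩
  have hwd : ∀ (P Q : Exal.Ext B (B ⧸ J) M), P.conormalMap J = Q.conormalMap J → ∀ b b' m m',
      algebraMap B P.E b + P.incl m = algebraMap B P.E b' + P.incl m' →
      algebraMap B Q.E b + Q.incl m = algebraMap B Q.E b' + Q.incl m' := by
    intro P Q hPQ b b' m m' heq
    have hb : b - b' ∈ J := by
      have h1 := congrArg P.proj heq
      rw [map_add, map_add, (P.isExtension.exact _).2 ⟨m, rfl⟩, (P.isExtension.exact _).2 ⟨m', rfl⟩,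
        add_zero, add_zero, AlgHom.commutes, AlgHom.commutes, Ideal.Quotient.algebraMap_eq] at h1
      exact Ideal.Quotient.eq.1 h1
    have h2 : P.conormalMap J (J.toCotangent ⟨b - b', hb⟩) = m' - m := by
      apply P.isExtension.incl_injective
      rw [← hJ, map_sub, map_sub]
      linear_combination heq
    have h3 := hJ Q ⟨b - b', hb⟩
    rw [← hPQ, h2, map_sub, map_sub] at h3
    linear_combination h3
  choose bX mX hX using hdec X
  let φ : X.E → Y.E := fun e => algebraMap B Y.E (bX e) + Y.incl (mX e)
  have hφ : ∀ b m, φ (algebraMap B X.E b + X.incl m) = algebraMap B Y.E b + Y.incl m := fun b m =>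
    hwd X Y h _ _ _ _ (hX _).symm
  have hmulE : ∀ (Z : Exal.Ext B (B ⧸ J) M) (b b' : B) (m m' : M),
      (algebraMap B Z.E b + Z.incl m) * (algebraMap B Z.E b' + Z.incl m') =
        algebraMap B Z.E (b * b') + Z.incl (Ideal.Quotient.mk J b • m' + Ideal.Quotient.mk J b' • m) := by
    intro Z b b' m m'
    have e1 := Z.isExtension.mul_incl (algebraMap B Z.E b) m'
    have e2 := Z.isExtension.mul_incl (algebraMap B Z.E b') m
    have e3 := Z.isExtension.mul_incl (Z.incl m) m'
    rw [(Z.isExtension.exact _).2 ⟨m, rfl⟩, zero_smul, map_zero] at e3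
    rw [AlgHom.commutes, Ideal.Quotient.algebraMap_eq] at e1 e2
    rw [map_mul, map_add]
    linear_combination e1 + e2 + e3
  let φh : X.E →ₐ[B] Y.E :=
    { toFun := φ
      map_one' := by
        have h1 := hφ 1 0
        rw [map_one, map_zero, add_zero, map_one, map_zero, add_zero] at h1
        exact h1
      map_mul' := fun x y => by
        rw [hX x, hX y, hmulE, hφ, hφ, hφ, hmulE]
      map_zero' := by
        have h1 := hφ 0 0
        rw [map_zero, map_zero, add_zero, map_zero, map_zero, add_zero] at h1
        exact h1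
      map_add' := fun x y => by
        rw [hX x, hX y, add_add_add_comm, ← map_add, ← map_add, hφ, hφ, hφ, add_add_add_comm, ← map_add, ← map_add]
      commutes' := fun b => by
        have h1 := hφ b 0
        rw [map_zero, add_zero, map_zero, add_zero] at h1
        exact h1 }
  have hbij : Function.Bijective φh := by
    refine ⟨fun x y hxy => ?_, fun y => ?_⟩
    · rw [hX x, hX y]
      exact hwd Y X h.symm _ _ _ _ hxy
    · obtain ⟨b, m, rfl⟩ := hdec Y y
      exact ⟨_, hφ b m⟩
  refine ⟨⟨AlgEquiv.ofBijective φh hbij, fun x => ?_, fun z => ?_⟩⟩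
  · show Y.proj (φ x) = X.proj x
    conv_rhs => rw [hX x]
    rw [map_add, map_add, (Y.isExtension.exact _).2 ⟨_, rfl⟩, (X.isExtension.exact _).2 ⟨_, rfl⟩,
      AlgHom.commutes, AlgHom.commutes]
  · show φ (X.incl z) = Y.incl z
    have h1 := hφ 0 z
    rw [map_zero, zero_add, map_zero, zero_add] at h1
    exact h1

end Groth.Agent.S5813
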