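import Groth.Statements.S5814
-- import your own Groth.Agent.* helpers here

set_option autoImplicit false
universe u
open EGA41

namespace Groth.Agent.S5814

attribute [local instance] Exal.opModule Exal.isCentralScalar_opModule

/-- Surjectivity, commutative form. Let J be an ideal of the commutative ring B, C = B ⧸ J, M a
C-module. Every linear map w : J/J² → M arises from a B-extension of C by M: there is an extension
whose induced map J/J² → M is w. Together with the injectivity statement this is the canonical
bijection between Hom_C(J/J², M) and the classes of B-extensions of C by M. -/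
theorem result {B : Type u} [CommRing B] (J : Ideal B)
    {M : Type u} [AddCommGroup M] [Module (B ⧸ J) M] [Module B M] [IsScalarTower B (B ⧸ J) M]
    (w : J.Cotangent →ₗ[B] M) :
    ∃ X : Exal.Ext B (B ⧸ J) M, X.conormalMap J = w := by
  let T := TrivSqZeroExt B M
  let I : Ideal T :=
    { carrier := {t | ∃ j : J, t = TrivSqZeroExt.inl (j : B) - TrivSqZeroExt.inr (w (J.toCotangent j))}
      add_mem' := by
        rintro _ _ ⟨j, rfl⟩ ⟨j', rfl⟩
        refine ⟨j + j', ?_⟩
        refine TrivSqZeroExt.ext ?_ ?_ <;> simp [T, sub_eq_add_neg]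
        abel
      zero_mem' := ⟨0, by refine TrivSqZeroExt.ext ?_ ?_ <;> simp [T]⟩
      smul_mem' := by
        rintro t _ ⟨j, rfl⟩
        refine ⟨(TrivSqZeroExt.fst (R := B) (M := M) t) • j, ?_⟩
        have hj : ((j : B) • TrivSqZeroExt.snd (R := B) (M := M) t) = 0 := by
          rw [← IsScalarTower.algebraMap_smul (B ⧸ J), Ideal.Quotient.algebraMap_eq,
            Ideal.Quotient.eq_zero_iff_mem.2 j.2, zero_smul]
        refine TrivSqZeroExt.ext ?_ ?_
        · simp [T]
        · simp [T, TrivSqZeroExt.snd_mul, hj] }
  have hI : ∀ t : T, t ∈ I ↔ ∃ j : J, t = TrivSqZeroExt.inl (j : B) - TrivSqZeroExt.inr (w (J.toCotangent j)) :=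
    fun _ => Iff.rfl
  let inr' : M →+ T := (TrivSqZeroExt.inrHom B M).toAddMonoidHom
  let fst' : T →ₐ[B] B ⧸ J :=
    { toRingHom := (Ideal.Quotient.mk J).comp (TrivSqZeroExt.fstHom B B M).toRingHom
      commutes' := fun _ => rfl }
  have hle : ∀ t ∈ I, fst' t = 0 := by
    intro t ht
    obtain ⟨j, rfl⟩ := (hI t).1 ht
    exact Ideal.Quotient.eq_zero_iff_mem.2 (by simpa [T] using j.2)
  let X : Exal.Ext B (B ⧸ J) M :=
    { E := T ⧸ I
      proj := Ideal.Quotient.liftₐ I fst' hle
      incl := (Ideal.Quotient.mk I).toAddMonoidHom.comp inr'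
      isExtension :=
        { proj_surjective := fun c => by
            obtain ⟨b, rfl⟩ := Ideal.Quotient.mk_surjective c
            exact ⟨Ideal.Quotient.mk I (TrivSqZeroExt.inl b), rfl⟩
          incl_injective := by
            rw [injective_iff_map_eq_zero]
            intro m hm
            obtain ⟨j, hj⟩ := (hI _).1 (Ideal.Quotient.eq_zero_iff_mem.1 hm)
            have h1 := congrArg (TrivSqZeroExt.fst (R := B) (M := M)) hj
            have h2 := congrArg (TrivSqZeroExt.snd (R := B) (M := M)) hj
            simp [inr', T] at h1 h2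
            rw [show j = 0 from Subtype.ext h1.symm, map_zero, map_zero, neg_zero] at h2
            exact h2
          exact := fun x => by
            obtain ⟨t, rfl⟩ := Ideal.Quotient.mk_surjective x
            constructor
            · intro ht
              let j : J := ⟨TrivSqZeroExt.fst (R := B) (M := M) t, Ideal.Quotient.eq_zero_iff_mem.1 ht⟩
              refine ⟨TrivSqZeroExt.snd (R := B) (M := M) t + w (J.toCotangent j), (Ideal.Quotient.eq.2 ((hI _).2 ⟨-j, ?_⟩))⟩
              refine TrivSqZeroExt.ext ?_ ?_ <;> simp [inr', j, T]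
            · rintro ⟨m, hm⟩
              rw [← hm]
              exact Ideal.Quotient.eq_zero_iff_mem.2 (by simp [inr', T])
          mul_incl := fun x z => by
            obtain ⟨t, rfl⟩ := Ideal.Quotient.mk_surjective x
            show Ideal.Quotient.mk I t * Ideal.Quotient.mk I (inr' z) = Ideal.Quotient.mk I _
            rw [← map_mul]
            refine congrArg (Ideal.Quotient.mk I) (TrivSqZeroExt.ext ?_ ?_)
            · simp [inr', T]
            · simp [inr', T, TrivSqZeroExt.snd_mul, fst']
              exact (IsScalarTower.algebraMap_smul (B ⧸ J) _ z).symm } }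
  refine ⟨X, ?_⟩
  refine LinearMap.ext fun c => ?_
  obtain ⟨j, rfl⟩ := J.toCotangent_surjective c
  apply X.isExtension.incl_injective
  refine (Exal.Ext.incl_kerLift X _ (Exal.Ext.proj_algebraMap_eq_zero J X j)).trans ?_
  exact Ideal.Quotient.eq.2 ((hI _).2 ⟨j, rfl⟩)

end Groth.Agent.S5814
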