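import Groth.Statements.S5815
import Mathlib.RingTheory.Smooth.Basic
-- import your own Groth.Agent.* helpers here

set_option autoImplicit false
universe u
open EGA41

namespace Groth.Agent.S5815

/-- Discrete case. A commutative A-algebra B is formally smooth if and only if every A-extension of B by
a B-module L is trivial (has an A-algebra section). A and B are taken in one universe and L ranges
over that universe. (The published statement is for topological rings, with direct-limit classes of
extensions; this row is its discrete case.) -/
theorem result (A B : Type u) [CommRing A] [CommRing B] [Algebra A B] :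
    Algebra.FormallySmooth A B ↔
      ∀ (L : Type u) [AddCommGroup L] [Module B L] (X : Exal.Ext A B L), X.IsTrivial := by
  constructor
  · intro h L _ _ X
    have hnil : IsNilpotent (RingHom.ker (X.proj : X.E →+* B)) := ⟨2, by
      rw [pow_two, Submodule.zero_eq_bot, eq_bot_iff, Ideal.mul_le]
      intro a ha b hb
      obtain ⟨z, rfl⟩ := (X.isExtension.exact a).1 ha
      obtain ⟨w, rfl⟩ := (X.isExtension.exact b).1 hb
      rw [X.isExtension.mul_incl, (X.isExtension.exact _).2 ⟨z, rfl⟩, zero_smul, map_zero]
      exact Submodule.zero_mem _⟩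
    refine ⟨Algebra.FormallySmooth.liftOfSurjective (AlgHom.id A B) X.proj X.isExtension.proj_surjective hnil, fun b => ?_⟩
    exact DFunLike.congr_fun
      (Algebra.FormallySmooth.comp_liftOfSurjective (AlgHom.id A B) X.proj X.isExtension.proj_surjective hnil) b
  · intro h
    refine Algebra.FormallySmooth.iff_comp_surjective.mpr fun R' _ _ I hI φ => ?_
    have hsq : ∀ a ∈ I, ∀ b ∈ I, a * b = 0 := fun a ha b hb => by
      have h1 : a * b ∈ I ^ 2 := pow_two I ▸ Ideal.mul_mem_mul ha hb
      rwa [hI] at h1
    choose s hs using fun b : B => Ideal.Quotient.mk_surjective (φ b)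
    have hwd : ∀ (x y : R') (z : I), Ideal.Quotient.mk I x = Ideal.Quotient.mk I y → x * (z : R') = y * z :=
      fun x y z hxy => by rw [← sub_eq_zero, ← sub_mul]; exact hsq _ (Ideal.Quotient.eq.mp hxy) _ z.2
    letI : Module B I :=
      { smul := fun b z => ⟨s b * z, I.mul_mem_left _ z.2⟩
        one_smul := fun z => Subtype.ext ((hwd _ 1 z (by rw [hs, map_one, map_one])).trans (one_mul _))
        mul_smul := fun a b z => Subtype.ext ((hwd _ (s a * s b) z (by rw [map_mul, hs, hs, hs, map_mul])).trans
          (mul_assoc _ _ _))
        smul_zero := fun b => Subtype.ext (mul_zero _)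
        smul_add := fun b x y => Subtype.ext (mul_add _ _ _)
        add_smul := fun a b z => Subtype.ext ((hwd _ (s a + s b) z (by rw [map_add, hs, hs, hs, map_add])).trans
          (add_mul _ _ _))
        zero_smul := fun z => Subtype.ext ((hwd _ 0 z (by rw [hs, map_zero, map_zero])).trans (zero_mul _)) }
    let E : Subalgebra A (B × R') :=
      AlgHom.equalizer (φ.comp (AlgHom.fst A B R')) ((Ideal.Quotient.mkₐ A I).comp (AlgHom.snd A B R'))
    let X : Exal.Ext A B I :=
      { E := E
        proj := (AlgHom.fst A B R').comp E.val
        incl :=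
          { toFun := fun z => ⟨(0, (z : R')), show φ 0 = Ideal.Quotient.mk I (z : R') by
              rw [map_zero, Ideal.Quotient.eq_zero_iff_mem.mpr z.2]⟩
            map_zero' := rfl
            map_add' := fun z w => Subtype.ext (Prod.ext (add_zero _).symm rfl) }
        isExtension :=
          { proj_surjective := fun b => ⟨⟨(b, s b), (hs b).symm⟩, rfl⟩
            incl_injective := fun z w hzw => Subtype.ext (congrArg (fun e : E => e.1.2) hzw)
            exact := fun x => by
              refine ⟨fun hx => ?_, ?_⟩
              · have hx1 : x.1.1 = 0 := hx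
                have hx2 : φ x.1.1 = Ideal.Quotient.mk I x.1.2 := x.2
                rw [hx1, map_zero] at hx2
                exact ⟨⟨x.1.2, Ideal.Quotient.eq_zero_iff_mem.mp hx2.symm⟩, Subtype.ext (Prod.ext hx1.symm rfl)⟩
              · rintro ⟨z, rfl⟩
                rfl
            mul_incl := fun x z => Subtype.ext (Prod.ext (mul_zero _)
              (hwd x.1.2 (s x.1.1) z (((hs x.1.1).trans (x.2 : φ x.1.1 = Ideal.Quotient.mk I x.1.2)).symm))) } }
    obtain ⟨σ, hσ⟩ := h I X
    refine ⟨(AlgHom.snd A B R').comp (E.val.comp σ), AlgHom.ext fun b => ?_⟩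
    have h1 : φ (σ b).1.1 = Ideal.Quotient.mk I (σ b).1.2 := (σ b).2
    have h2 : (σ b).1.1 = b := hσ b
    rw [h2] at h1
    exact h1.symm

end Groth.Agent.S5815
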