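import Groth.Statements.S5816
import Mathlib.Tactic.LinearCombination
import Mathlib.RingTheory.Ideal.Quotient.Operations
-- import your own Groth.Agent.* helpers here

set_option autoImplicit false
universe u
open EGA41

namespace Groth.Agent.S5816

attribute [local instance] Exal.opModule Exal.isCentralScalar_opModule

/-- Discrete case. For ring maps Λ → A → B, B is formally smooth over A relative to Λ (square-zero test
ideals) if and only if every A-extension of B by a B-module L which is Λ-trivial is A-trivial. Λ, A,
B are taken in one universe and L ranges over it. (The published statement is for topological rings;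
this row is its discrete case.) -/
theorem result (Λ A B : Type u) [CommRing Λ]
    [CommRing A] [CommRing B] [Algebra Λ A] [Algebra Λ B] [Algebra A B] [IsScalarTower Λ A B] :
    EGA41.IsFormallySmoothRel Λ A B ↔
      ∀ (L : Type u) [AddCommGroup L] [Module B L] (X : Exal.Ext A B L),
        X.IsTrivialOver Λ → X.IsTrivial := by
  constructor
  · intro h L _ _ X hX
    letI : Algebra Λ X.E := ((algebraMap A X.E).comp (algebraMap Λ A)).toAlgebra
    haveI : IsScalarTower Λ A X.E := IsScalarTower.of_algebraMap_eq' rfl
    let J : Ideal X.E := RingHom.ker X.proj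
    have hJ : J ^ 2 = ⊥ := by
      rw [eq_bot_iff, pow_two, Ideal.mul_le]
      intro x hx y hy
      obtain ⟨z, rfl⟩ := (X.isExtension.exact y).1 hy
      rw [Ideal.mem_bot, X.isExtension.mul_incl, show X.proj x = 0 from hx, zero_smul, map_zero]
    let e : (X.E ⧸ J) ≃ₐ[A] B := Ideal.quotientKerAlgEquivOfSurjective X.isExtension.proj_surjective
    obtain ⟨s, hs⟩ := hX
    let s' : B →ₐ[Λ] X.E :=
      { toFun := fun b => s b
        map_one' := map_one s
        map_mul' := map_mul s
        map_zero' := map_zero s
        map_add' := map_add s
        commutes' := s.commutes }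
    have hu : (Ideal.Quotient.mkₐ Λ J).comp s' = (e.symm.toAlgHom).restrictScalars Λ := by
      refine AlgHom.ext fun b => e.injective ?_
      show e (Ideal.Quotient.mk J (s' b)) = e (e.symm b)
      rw [AlgEquiv.apply_symm_apply]
      exact hs b
    obtain ⟨v, hv⟩ := h X.E J hJ e.symm.toAlgHom ⟨s', hu⟩
    refine ⟨v, fun b => ?_⟩
    exact (congrArg e (DFunLike.congr_fun hv b)).trans (e.apply_symm_apply b)
  · intro h C _ _ _ _ J hJ u₀ ⟨u, hu⟩
    have hmem : ∀ b, Ideal.Quotient.mk J (u b) = u₀ b := fun b => DFunLike.congr_fun hu b
    letI : Module B J := Module.compHom J u.toRingHom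
    let P : Subalgebra A (C × B) := AlgHom.equalizer ((Ideal.Quotient.mkₐ A J).comp (AlgHom.fst A C B))
      (u₀.comp (AlgHom.snd A C B))
    have hP : ∀ x : C × B, x ∈ P ↔ Ideal.Quotient.mk J x.1 = u₀ x.2 := fun _ => Iff.rfl
    let X : Exal.Ext A B J :=
      { E := P
        proj := (AlgHom.snd A C B).comp P.val
        incl :=
          { toFun := fun j => ⟨((j : C), 0), (hP _).2 (by rw [map_zero]; exact Ideal.Quotient.eq_zero_iff_mem.2 j.2)⟩
            map_zero' := rfl
            map_add' := fun j j' => Subtype.ext (Prod.ext rfl (add_zero (0 : B)).symm) }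
        isExtension :=
          { proj_surjective := fun b => ⟨⟨(u b, b), (hP _).2 (hmem b)⟩, rfl⟩
            incl_injective := fun j j' hjj => Subtype.ext (congrArg (fun p : P => p.1.1) hjj)
            exact := fun x => by
              constructor
              · intro hx
                have hx' : x.1.2 = 0 := hx
                have := (hP _).1 x.2
                rw [hx', map_zero] at this
                exact ⟨⟨x.1.1, Ideal.Quotient.eq_zero_iff_mem.1 this⟩, Subtype.ext (Prod.ext rfl hx'.symm)⟩
              · rintro ⟨j, rfl⟩
                rfl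
            mul_incl := fun x z => by
              apply Subtype.ext
              refine Prod.ext ?_ (mul_zero x.1.2)
              show x.1.1 * (z : C) = u x.1.2 * (z : C)
              rw [← sub_eq_zero, ← sub_mul]
              have hd : x.1.1 - u x.1.2 ∈ J := Ideal.Quotient.eq.1 (((hP _).1 x.2).trans (hmem _).symm)
              have := Ideal.mul_mem_mul hd z.2
              rwa [← pow_two, hJ, Ideal.mem_bot] at this } }
    have hX : X.IsTrivialOver Λ := by
      refine ⟨
        { toFun := fun b => (⟨(u b, b), (hP _).2 (hmem b)⟩ : P)
          map_one' := Subtype.ext (Prod.ext (map_one u) rfl)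
          map_mul' := fun a b => Subtype.ext (Prod.ext (map_mul u a b) rfl)
          map_zero' := Subtype.ext (Prod.ext (map_zero u) rfl)
          map_add' := fun a b => Subtype.ext (Prod.ext (map_add u a b) rfl)
          commutes' := fun l => Subtype.ext (Prod.ext ?_ ?_) }, fun b => rfl⟩
      · show u (algebraMap Λ B l) = algebraMap A C (algebraMap Λ A l)
        rw [AlgHom.commutes, IsScalarTower.algebraMap_apply Λ A C]
      · show algebraMap Λ B l = algebraMap A B (algebraMap Λ A l)
        rw [IsScalarTower.algebraMap_apply Λ A B]
    obtain ⟨s, hs⟩ := h J X hX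
    refine ⟨((AlgHom.fst A C B).comp P.val).comp s, AlgHom.ext fun b => ?_⟩
    show Ideal.Quotient.mk J (s b : P).1.1 = u₀ b
    rw [(hP _).1 (s b : P).2]
    exact congrArg u₀ (hs b)

end Groth.Agent.S5816
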