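import Groth.Statements.S5817
-- import your own Groth.Agent.* helpers here

set_option autoImplicit false
universe u v
open EGA41

namespace Groth.Agent.S5817

attribute [local instance] Exal.opModule Exal.isCentralScalar_opModule

/-- Commutative rings, exactness at Der_A(B, L). For ring maps A → B → C and a C-module L, the
B-extension of C by L attached to an A-derivation D : B → L (middle ring C ⊕ L, made a B-algebra
through x ↦ (x, D x)) is trivial if and only if D is the composite of B → C with an A-derivation C →
L. -/
theorem result {A : Type u} {B C L : Type v} [CommRing A] [CommRing B] [CommRing C]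
    [Algebra A B] [Algebra B C] [Algebra A C] [IsScalarTower A B C]
    [AddCommGroup L] [Module C L] [Module B L] [IsScalarTower B C L] [Module A L] [IsScalarTower A B L]
    [IsScalarTower A C L]
    (D : Derivation A B L) :
    (Exal.Ext.ofDerivation (C := C) D).IsTrivial ↔
      ∃ D' : Derivation A C L, D'.compAlgebraMap B = D := by
  constructor
  · rintro ⟨s, hs⟩
    have hfst : ∀ c, TrivSqZeroExt.fst (s c : TrivSqZeroExt C L) = c := hs
    have hB : ∀ b, TrivSqZeroExt.snd (s (algebraMap B C b) : TrivSqZeroExt C L) = D b := fun b => by
      rw [s.commutes]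
      show TrivSqZeroExt.snd (TrivSqZeroExt.inl (algebraMap B C b) + TrivSqZeroExt.inr (D b)) = D b
      simp
    have hmul : ∀ c c', TrivSqZeroExt.snd (s (c * c') : TrivSqZeroExt C L) =
        c • TrivSqZeroExt.snd (s c' : TrivSqZeroExt C L) + c' • TrivSqZeroExt.snd (s c : TrivSqZeroExt C L) := by
      intro c c'
      rw [map_mul]
      refine (TrivSqZeroExt.snd_mul (R := C) (M := L) (s c : TrivSqZeroExt C L) (s c' : TrivSqZeroExt C L)).trans ?_
      rw [hfst, hfst, op_smul_eq_smul]
    refine ⟨{ toFun := fun c => TrivSqZeroExt.snd (s c : TrivSqZeroExt C L)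
              map_add' := fun c c' => by rw [map_add]; rfl
              map_smul' := fun a c => ?_
              map_one_eq_zero' := ?_
              leibniz' := fun c c' => hmul c c' }, Derivation.ext hB⟩
    · rw [Algebra.smul_def, hmul, RingHom.id_apply, IsScalarTower.algebraMap_apply A B C, hB,
        Derivation.map_algebraMap, smul_zero, add_zero, ← IsScalarTower.algebraMap_apply, algebraMap_smul]
    · show TrivSqZeroExt.snd (s 1 : TrivSqZeroExt C L) = 0
      rw [map_one]; rfl
  · rintro ⟨D', rfl⟩
    let t : C → TrivSqZeroExt C L := fun c => TrivSqZeroExt.inl c + TrivSqZeroExt.inr (D' c)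
    have h1 : t 1 = 1 := by simp [t]
    have h2 : ∀ x y, t (x * y) = t x * t y := fun x y => by
      refine TrivSqZeroExt.ext ?_ ?_
      · simp [t]
      · simp [t, op_smul_eq_smul, add_comm]
    have h3 : t 0 = 0 := by simp [t]
    have h4 : ∀ x y, t (x + y) = t x + t y := fun x y => by
      refine TrivSqZeroExt.ext ?_ ?_ <;> simp [t]
    exact ⟨{ toFun := t, map_one' := h1, map_mul' := h2, map_zero' := h3, map_add' := h4, commutes' := fun b => rfl },
      fun c => show TrivSqZeroExt.fst (t c) = c by simp [t]⟩

end Groth.Agent.S5817
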