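import Groth.Statements.S5818
import Mathlib.Tactic.Ring
import Mathlib.Tactic.LinearCombination
import Mathlib.Tactic.Abel
-- import your own Groth.Agent.* helpers here

set_option autoImplicit false
universe u v
open EGA41

namespace Groth.Agent.S5818

attribute [local instance] Exal.opModule Exal.isCentralScalar_opModule

/-- Commutative rings, exactness at Exalcom_B(C, L) on underlying pointed sets. For ring maps A → B → C
and a C-module L, a B-extension of C by L is A-trivial if and only if it is equivalent to the
extension attached to some A-derivation B → L. -/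
theorem result {A : Type u} {B C L : Type v} [CommRing A] [CommRing B] [CommRing C]
    [Algebra A B] [Algebra B C] [Algebra A C] [IsScalarTower A B C]
    [AddCommGroup L] [Module C L] [Module B L] [IsScalarTower B C L] [Module A L] [IsScalarTower A B L]
    [IsScalarTower A C L]
    (X : Exal.Ext B C L) :
    X.IsTrivialOver A ↔
      ∃ D : Derivation A B L, Nonempty (X.Equiv (Exal.Ext.ofDerivation (C := C) D)) := by
  constructor
  · rintro ⟨s, hs⟩
    -- the section, with values in the middle ring
    let t : C →+* X.E := s.toRingHom
    have ht : ∀ c, X.proj (t c) = c := hs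
    have htA : ∀ a : A, t (algebraMap A C a) = algebraMap B X.E (algebraMap A B a) := fun a => s.commutes a
    have hk : ∀ b : B, X.proj (algebraMap B X.E b - t (algebraMap B C b)) = 0 := fun b => by
      rw [map_sub, ht, AlgHom.commutes, sub_self]
    let d : B → L := fun b => X.kerLift _ (hk b)
    have hd : ∀ b, X.incl (d b) = algebraMap B X.E b - t (algebraMap B C b) := fun b =>
      X.incl_kerLift _ (hk b)
    have hmul : ∀ (c : C) (l : L), X.incl (c • l) = t c * X.incl l := fun c l => by
      rw [X.isExtension.mul_incl, ht]
    have hB : ∀ (b : B) (l : L), X.incl (b • l) = algebraMap B X.E b * X.incl l := fun b l => by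
      rw [X.isExtension.mul_incl, AlgHom.commutes, IsScalarTower.algebraMap_smul]
    have hsq : ∀ l l' : L, X.incl l * X.incl l' = 0 := fun l l' => by
      rw [X.isExtension.mul_incl, (X.isExtension.exact _).2 ⟨l, rfl⟩, zero_smul, map_zero]
    let D₀ : B →ₗ[A] L :=
      { toFun := d
        map_add' := fun b b' => by
          apply X.isExtension.incl_injective
          rw [map_add, hd, hd, hd, map_add, map_add, map_add]
          ring
        map_smul' := fun a b => by
          apply X.isExtension.incl_injective
          rw [RingHom.id_apply, ← IsScalarTower.algebraMap_smul B a (d b), hB, hd, hd,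
            Algebra.smul_def, map_mul, map_mul, ← IsScalarTower.algebraMap_apply A B C, map_mul, htA]
          ring }
    let D : Derivation A B L := Derivation.mk' D₀ fun b b' => by
      apply X.isExtension.incl_injective
      change X.incl (d (b * b')) = X.incl (b • d b' + b' • d b)
      rw [map_add, ← IsScalarTower.algebraMap_smul C b' (d b), hmul, hB, hd, hd, hd, map_mul, map_mul,
        map_mul]
      ring
    let g : (Exal.Ext.ofDerivation (C := C) D).E →ₐ[B] X.E :=
      { toFun := fun x => t (TrivSqZeroExt.fst x) + X.incl (TrivSqZeroExt.snd x)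
        map_one' := by
          change t (TrivSqZeroExt.fst (1 : TrivSqZeroExt C L)) +
            X.incl (TrivSqZeroExt.snd (1 : TrivSqZeroExt C L)) = 1
          rw [TrivSqZeroExt.fst_one, TrivSqZeroExt.snd_one, map_one, map_zero, add_zero]
        map_mul' := fun x y => by
          revert x y
          change ∀ x y : TrivSqZeroExt C L, t (TrivSqZeroExt.fst (x * y)) +
            X.incl (TrivSqZeroExt.snd (x * y)) =
            (t (TrivSqZeroExt.fst x) + X.incl (TrivSqZeroExt.snd x)) *
            (t (TrivSqZeroExt.fst y) + X.incl (TrivSqZeroExt.snd y))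
          intro x y
          rw [TrivSqZeroExt.fst_mul, TrivSqZeroExt.snd_mul, op_smul_eq_smul, map_add, map_mul, hmul,
            hmul]
          linear_combination - hsq (TrivSqZeroExt.snd x) (TrivSqZeroExt.snd y)
        map_zero' := by
          change t (TrivSqZeroExt.fst (0 : TrivSqZeroExt C L)) +
            X.incl (TrivSqZeroExt.snd (0 : TrivSqZeroExt C L)) = 0
          rw [TrivSqZeroExt.fst_zero, TrivSqZeroExt.snd_zero, map_zero, map_zero, add_zero]
        map_add' := fun x y => by
          revert x y
          change ∀ x y : TrivSqZeroExt C L, t (TrivSqZeroExt.fst (x + y)) +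
            X.incl (TrivSqZeroExt.snd (x + y)) =
            (t (TrivSqZeroExt.fst x) + X.incl (TrivSqZeroExt.snd x)) +
            (t (TrivSqZeroExt.fst y) + X.incl (TrivSqZeroExt.snd y))
          intro x y
          rw [TrivSqZeroExt.fst_add, TrivSqZeroExt.snd_add, map_add, map_add]
          abel
        commutes' := fun b => by
          change t (TrivSqZeroExt.fst (TrivSqZeroExt.inl (algebraMap B C b) + TrivSqZeroExt.inr (d b) :
              TrivSqZeroExt C L)) + X.incl (TrivSqZeroExt.snd (TrivSqZeroExt.inl (algebraMap B C b) +
              TrivSqZeroExt.inr (d b) : TrivSqZeroExt C L)) = algebraMap B X.E b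
          rw [TrivSqZeroExt.fst_add, TrivSqZeroExt.fst_inl, TrivSqZeroExt.fst_inr,
            TrivSqZeroExt.snd_add, TrivSqZeroExt.snd_inl, TrivSqZeroExt.snd_inr, zero_add, add_zero,
            hd, add_sub_cancel] }
    have hgp : ∀ x, X.proj (g x) = (Exal.Ext.ofDerivation (C := C) D).proj x := fun x => by
      change X.proj (t (TrivSqZeroExt.fst x) + X.incl (TrivSqZeroExt.snd x)) = TrivSqZeroExt.fst x
      rw [map_add, ht, (X.isExtension.exact _).2 ⟨_, rfl⟩, add_zero]
    have hg : Function.Bijective g := by
      constructor
      · intro x y h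
        have h1 := congrArg X.proj h
        rw [hgp, hgp] at h1
        change TrivSqZeroExt.fst x = TrivSqZeroExt.fst y at h1
        change t (TrivSqZeroExt.fst x) + X.incl (TrivSqZeroExt.snd x) =
          t (TrivSqZeroExt.fst y) + X.incl (TrivSqZeroExt.snd y) at h
        rw [h1, add_right_inj] at h
        exact TrivSqZeroExt.ext h1 (X.isExtension.incl_injective h)
      · intro e
        obtain ⟨l, hl⟩ := (X.isExtension.exact (e - t (X.proj e))).1 (by rw [map_sub, ht, sub_self])
        refine ⟨(TrivSqZeroExt.inl (X.proj e) + TrivSqZeroExt.inr l : TrivSqZeroExt C L), ?_⟩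
        change t (TrivSqZeroExt.fst (TrivSqZeroExt.inl (X.proj e) + TrivSqZeroExt.inr l :
            TrivSqZeroExt C L)) + X.incl (TrivSqZeroExt.snd (TrivSqZeroExt.inl (X.proj e) +
            TrivSqZeroExt.inr l : TrivSqZeroExt C L)) = e
        rw [TrivSqZeroExt.fst_add, TrivSqZeroExt.fst_inl, TrivSqZeroExt.fst_inr,
          TrivSqZeroExt.snd_add, TrivSqZeroExt.snd_inl, TrivSqZeroExt.snd_inr, zero_add, add_zero,
          hl, add_sub_cancel]
    exact ⟨D, ⟨Exal.Ext.Equiv.symm
      { toAlgEquiv := AlgEquiv.ofBijective g hg
        proj_apply := hgp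
        apply_incl := fun l => by
          change t (TrivSqZeroExt.fst (TrivSqZeroExt.inr l : TrivSqZeroExt C L)) +
            X.incl (TrivSqZeroExt.snd (TrivSqZeroExt.inr l : TrivSqZeroExt C L)) = X.incl l
          rw [TrivSqZeroExt.fst_inr, TrivSqZeroExt.snd_inr, map_zero, zero_add] }⟩⟩
  · rintro ⟨D, ⟨e⟩⟩
    let i : C →+* (Exal.Ext.ofDerivation (C := C) D).E := TrivSqZeroExt.inlHom C L
    have hi : ∀ a : A, i (algebraMap A C a) =
        algebraMap B (Exal.Ext.ofDerivation (C := C) D).E (algebraMap A B a) := fun a => by
      change (TrivSqZeroExt.inl (algebraMap A C a) : TrivSqZeroExt C L) =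
        TrivSqZeroExt.inl (algebraMap B C (algebraMap A B a)) + TrivSqZeroExt.inr (D (algebraMap A B a))
      rw [← IsScalarTower.algebraMap_apply A B C, Derivation.map_algebraMap, TrivSqZeroExt.inr_zero,
        add_zero]
    let t : C →+* (X.restrictBase A).E := (e.toAlgEquiv.symm : _ →+* X.E).comp i
    refine ⟨{ t with commutes' := fun a => ?_ }, fun c => ?_⟩
    · change e.toAlgEquiv.symm (i (algebraMap A C a)) = algebraMap B X.E (algebraMap A B a)
      rw [hi, AlgEquiv.commutes]
    · change X.proj (e.toAlgEquiv.symm (i c)) = c
      exact (e.symm.proj_apply (i c)).trans rfl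

end Groth.Agent.S5818
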