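import Groth.Statements.S5819

-- import your own Groth.Agent.* helpers here

set_option autoImplicit false
universe u v
open EGA41

namespace Groth.Agent.S5819

/-- Commutative rings, exactness at Exalcom_A(C, L) on underlying pointed sets. For ring maps A → B → C
and a C-module L, an A-extension Y of C by L pulls back to a trivial A-extension of B if and only if
Y is equivalent to some B-extension of C by L viewed as an A-extension. -/
theorem result {A : Type u} {B C L : Type v} [CommRing A]
    [CommRing B] [CommRing C] [Algebra A B] [Algebra B C] [Algebra A C] [IsScalarTower A B C]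
    [AddCommGroup L] [Module C L] [Module B L] [IsScalarTower B C L]
    (Y : Exal.Ext A C L) :
    (Y.pullback B).IsTrivial ↔
      ∃ X : Exal.Ext B C L, Nonempty ((X.restrictBase A).Equiv Y) := by
  constructor
  · rintro ⟨s, hs⟩
    let σ : B →ₐ[A] Y.E := (AlgHom.fst A Y.E B).comp ((Y.fiberProd B).val.comp s)
    have hσ : ∀ b, Y.proj (σ b) = algebraMap B C b := fun b => by
      have h1 : Y.proj (s b).1.1 = algebraMap B C (s b).1.2 := (s b).2
      have h2 : (s b).1.2 = b := hs b
      rw [h2] at h1
      exact h1
    letI : Algebra B Y.E := σ.toRingHom.toAlgebra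
    let p : Y.E →ₐ[B] C := { Y.proj.toRingHom with commutes' := fun b => hσ b }
    let X : Exal.Ext B C L :=
      { E := Y.E, proj := p, incl := Y.incl
        isExtension :=
          { proj_surjective := Y.isExtension.proj_surjective
            incl_injective := Y.isExtension.incl_injective
            exact := Y.isExtension.exact
            mul_incl := Y.isExtension.mul_incl } }
    let e : (X.restrictBase A).E ≃ₐ[A] Y.E :=
      { toFun := fun x => x, invFun := fun x => x
        left_inv := fun x => rfl, right_inv := fun x => rfl
        map_mul' := fun x y => rfl, map_add' := fun x y => rfl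
        commutes' := fun a => σ.commutes a }
    exact ⟨X, ⟨⟨e, fun x => rfl, fun z => rfl⟩⟩⟩
  · rintro ⟨X, ⟨e⟩⟩
    let σ : B →ₐ[A] (X.restrictBase A).E :=
      { toFun := fun b => algebraMap B X.E b
        map_one' := map_one (algebraMap B X.E)
        map_mul' := map_mul (algebraMap B X.E)
        map_zero' := map_zero (algebraMap B X.E)
        map_add' := map_add (algebraMap B X.E)
        commutes' := fun a => rfl }
    let t : B →ₐ[A] Y.E := e.toAlgEquiv.toAlgHom.comp σ
    have ht : ∀ b, Y.proj (t b) = algebraMap B C b := fun b => by
      show Y.proj (e.toAlgEquiv (σ b)) = _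
      rw [e.proj_apply]
      exact X.proj.commutes b
    exact ⟨(AlgHom.prod t (AlgHom.id A B)).codRestrict (Y.fiberProd B) (fun b => ht b), fun b => rfl⟩

end Groth.Agent.S5819
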