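import Groth.Statements.S5821
import Groth.Agent.L06.CharHomApps

set_option autoImplicit false
set_option maxSynthPendingDepth 3
set_option linter.style.haveILetI false
universe u v
open EGA41

namespace Groth.Agent.S5821

/-- For a ring map A → B, an ideal K of B, C = B ⧸ K and the B-extension E = B ⧸ K² of C by K/K², if E
is A-trivial then its characteristic homomorphism Υ_{C/B/A} → K/K² is bijective (stated for every
C-linear χ satisfying the defining square, of which there is exactly one). -/
theorem result {A : Type u} {B : Type v} [CommRing A] [CommRing B] [Algebra A B]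
    (K : Ideal B) (hK : (Exal.Ext.infinitesimal K).IsTrivialOver A)
    (χ : ↥(EGA41.imperfection A B (B ⧸ K)) →ₗ[B ⧸ K] K.Cotangent)
    (hχ : (Exal.Ext.infinitesimal K).IsCharHom A χ) :
    Function.Bijective χ := by
  haveI := Groth.L06.CharHom.tower₁ (Λ := A) K
  obtain ⟨σ, hσ⟩ := Groth.L06.CharHom.exists_section (Exal.Ext.infinitesimal K) hK
  have he := Groth.L06.CharHom.charHom_eq (Exal.Ext.infinitesimal K) σ hσ hχ
  refine ⟨(injective_iff_map_eq_zero χ).mpr fun z hz => Subtype.ext ?_, fun y => ?_⟩
  · exact Groth.L06.CharHom.phi_injOn K σ hσ z z.2 ((he z).symm.trans hz)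
  · obtain ⟨x, rfl⟩ := K.toCotangent_surjective y
    exact ⟨⟨_, Groth.L06.CharHom.mapBaseChange_D K x.2⟩, (he _).trans (Groth.L06.CharHom.phi_tmul_mem K σ hσ x)⟩

end Groth.Agent.S5821
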