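import Groth.Statements.S5825
import Mathlib.Topology.Algebra.IsUniformGroup.Basic
import Mathlib.Topology.Algebra.Group.Basic
import Mathlib.Topology.Algebra.OpenSubgroup

set_option linter.style.haveILetI false

set_option autoImplicit false
universe u v w
open EGA41

namespace Groth.Agent.S5825

/-- Let A be a topological ring, M, N topological A-modules with the topologies deduced from that of A,
and u : M → N a continuous linear map with dense image (a formal epimorphism). Then u is a formal
bimorphism (dense image and inducing) if and only if, for every open ideal J of A, the induced map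
M/JM → N/JN is bijective (injectivity and surjectivity are written out elementwise). -/
theorem result {A : Type u} {M : Type v} {N : Type w} [CommRing A]
    [TopologicalSpace A] [AddCommGroup M] [Module A M] [TopologicalSpace M] [AddCommGroup N] [Module A N]
    [TopologicalSpace N] (hM : TopMod.IsDeduced A M) (hN : TopMod.IsDeduced A N) (u : M →L[A] N)
    (hu : DenseRange u) :
    IsDenseInducing u ↔
      ∀ J : Ideal A, IsOpen (J : Set A) →
        (∀ x : M, u x ∈ (J • ⊤ : Submodule A N) → x ∈ (J • ⊤ : Submodule A M)) ∧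
          ∀ y : N, ∃ x : M, y - u x ∈ (J • ⊤ : Submodule A N) := by
  obtain ⟨gM, bM⟩ := hM
  obtain ⟨gN, bN⟩ := hN
  have hopen : ∀ J : Ideal A, IsOpen (J : Set A) → IsOpen ((J • ⊤ : Submodule A N) : Set N) := fun J hJ =>
    AddSubgroup.isOpen_of_mem_nhds (J • ⊤ : Submodule A N).toAddSubgroup (bN.mem_of_mem hJ)
  have hsurj : ∀ J : Ideal A, IsOpen (J : Set A) → ∀ y : N, ∃ x : M, y - u x ∈ (J • ⊤ : Submodule A N) := by
    intro J hJ y
    exact hu.exists_mem_open ((hopen J hJ).preimage (continuous_const.sub continuous_id)) ⟨y, by simp⟩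
  have hle : ∀ (J : Ideal A) (x : M), x ∈ (J • ⊤ : Submodule A M) → u x ∈ (J • ⊤ : Submodule A N) := by
    intro J x hx
    exact Submodule.map_smul'' J ⊤ (u : M →ₗ[A] N) |>.trans_le (smul_mono_right J le_top) ⟨x, hx, rfl⟩
  constructor
  · intro h J hJ
    refine ⟨fun x hx => ?_, hsurj J hJ⟩
    have hn : ((J • ⊤ : Submodule A M) : Set M) ∈ Filter.comap u (nhds 0) := by
      rw [← map_zero u, ← h.isInducing.nhds_eq_comap]
      exact bM.mem_of_mem hJ
    obtain ⟨t, ht, hsub⟩ := hn
    obtain ⟨J', hJ', hJ's⟩ := bN.mem_iff.1 ht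
    suffices key : ∀ y ∈ (J • ⊤ : Submodule A N), ∃ m ∈ (J • ⊤ : Submodule A M), y - u m ∈ (J' • ⊤ : Submodule A N) by
      obtain ⟨m, hm, hxm⟩ := key _ hx
      rw [← map_sub] at hxm
      exact (Submodule.sub_mem_iff_left _ hm).1 (hsub (hJ's hxm))
    intro y hy
    refine Submodule.smul_induction_on hy (fun a ha n _ => ?_) fun p q hp hq => ?_
    · obtain ⟨m, hm⟩ := hsurj J' hJ' n
      refine ⟨a • m, Submodule.smul_mem_smul ha Submodule.mem_top, ?_⟩
      rw [map_smul, ← smul_sub]
      exact Submodule.smul_mem _ a hm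
    · obtain ⟨m₁, h₁, h₁'⟩ := hp
      obtain ⟨m₂, h₂, h₂'⟩ := hq
      exact ⟨m₁ + m₂, add_mem h₁ h₂, by rw [map_add, add_sub_add_comm]; exact add_mem h₁' h₂'⟩
  · intro h
    refine ⟨?_, hu⟩
    have hb : (Filter.comap u (nhds (0 : N))).HasBasis (fun J : Ideal A => IsOpen (J : Set A))
        (fun J : Ideal A => ((J • ⊤ : Submodule A M) : Set M)) := by
      refine (bN.comap u).congr (fun _ => Iff.rfl) fun J hJ => ?_
      ext x
      exact ⟨fun hx => (h J hJ).1 x hx, fun hx => hle J x hx⟩
    refine IsTopologicalAddGroup.isInducing_iff_nhds_zero.2 ?_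
    exact bM.eq_of_same_basis hb

end Groth.Agent.S5825
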