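import Groth.Statements.S5828
import Mathlib.RingTheory.Derivation.Basic
import Mathlib.Tactic.LinearCombination
-- import your own Groth.Agent.* helpers here

set_option autoImplicit false
universe u v
open EGA41

namespace Groth.Agent.S5828

/-- Commutative case. For an A-extension X of C by a C-module L, with middle ring E, projection p and
inclusion i, the A-derivations D : C → L and the self-equivalences of X correspond under D ↦ (x ↦ x
+ i (D (p x))): every derivation defines a self-equivalence with this formula, and every
self-equivalence is of this form for exactly one derivation. (Bijection of sets; the published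
statement also records compatibility with the group laws.) -/
theorem result {A : Type u} {C L : Type v} [CommRing A] [CommRing C] [Algebra A C]
    [AddCommGroup L] [Module C L] [Module A L] [IsScalarTower A C L] (X : Exal.Ext A C L) :
    (∀ D : Derivation A C L, ∃ e : X.Equiv X, ∀ x : X.E, e.toAlgEquiv x = x + X.incl (D (X.proj x))) ∧
      ∀ e : X.Equiv X, ∃! D : Derivation A C L, ∀ x : X.E, e.toAlgEquiv x = x + X.incl (D (X.proj x)) := by
  have hsq : ∀ z z' : L, X.incl z * X.incl z' = 0 := fun z z' => by
    rw [X.isExtension.mul_incl, (X.isExtension.exact _).2 ⟨z, rfl⟩, zero_smul, map_zero]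
  have hp : ∀ z : L, X.proj (X.incl z) = 0 := fun z => (X.isExtension.exact _).2 ⟨z, rfl⟩
  have hAL : ∀ (a : A) (z : L), algebraMap A X.E a * X.incl z = X.incl (a • z) := fun a z => by
    rw [X.isExtension.mul_incl, AlgHom.commutes, algebraMap_smul]
  refine ⟨fun D => ?_, fun e => ?_⟩
  · let f : Derivation A C L → X.E →ₐ[A] X.E := fun D =>
      { toFun := fun x => x + X.incl (D (X.proj x))
        map_one' := by simp
        map_mul' := fun x y => by
          show x * y + X.incl (D (X.proj (x * y))) = (x + X.incl (D (X.proj x))) * (y + X.incl (D (X.proj y)))
          rw [map_mul, Derivation.leibniz, map_add, ← X.isExtension.mul_incl, ← X.isExtension.mul_incl,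
            add_mul, mul_add, mul_add, hsq, add_zero, mul_comm (X.incl _) y]
          abel
        map_zero' := by simp
        map_add' := fun x y => by simp only [map_add]; abel
        commutes' := fun a => by simp }
    have hinv : ∀ D : Derivation A C L, (f D).comp (f (-D)) = AlgHom.id A X.E := fun D => AlgHom.ext fun x => by
      show x + X.incl ((-D) (X.proj x)) + X.incl (D (X.proj (x + X.incl ((-D) (X.proj x))))) = x
      rw [map_add, hp, add_zero, Derivation.neg_apply, map_neg, neg_add_cancel_right]
    refine ⟨⟨AlgEquiv.ofAlgHom (f D) (f (-D)) (hinv D) (by simpa using hinv (-D)), fun x => ?_, fun z => ?_⟩,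
      fun x => rfl⟩
    · show X.proj (x + X.incl _) = X.proj x
      rw [map_add, hp, add_zero]
    · show X.incl z + X.incl (D (X.proj (X.incl z))) = X.incl z
      rw [hp, map_zero, map_zero, add_zero]
  · have hdiff : ∀ x, ∃ z : L, X.incl z = e.toAlgEquiv x - x := fun x =>
      (X.isExtension.exact _).1 (by rw [map_sub, e.proj_apply, sub_self])
    choose d hd using hdiff
    have hd0 : ∀ x, X.proj x = 0 → d x = 0 := fun x hx => by
      obtain ⟨z, rfl⟩ := (X.isExtension.exact _).1 hx
      apply X.isExtension.incl_injective
      rw [hd, e.apply_incl, sub_self, map_zero]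
    have hadd : ∀ x y, d (x + y) = d x + d y := fun x y => by
      apply X.isExtension.incl_injective
      rw [map_add, hd, hd, hd, map_add]
      abel
    have hwd : ∀ x y, X.proj x = X.proj y → d x = d y := fun x y h => by
      have := hd0 (x - y) (by rw [map_sub, h, sub_self])
      rw [← add_zero (d y), ← this, ← hadd, add_sub_cancel]
    choose s hs using X.isExtension.proj_surjective
    let D : Derivation A C L := Derivation.mk'
      { toFun := fun c => d (s c)
        map_add' := fun a b => by
          rw [← hadd]; exact hwd _ _ (by rw [map_add, hs, hs, hs])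
        map_smul' := fun a c => by
          apply X.isExtension.incl_injective
          rw [RingHom.id_apply, ← hAL, hd (s c), hwd (s (a • c)) (algebraMap A X.E a * s c) (by
            rw [map_mul, hs, hs, AlgHom.commutes, Algebra.smul_def]), hd, map_mul, AlgEquiv.commutes, mul_sub] }
      fun a b => by
        show d (s (a * b)) = a • d (s b) + b • d (s a)
        apply X.isExtension.incl_injective
        rw [map_add, hwd (s (a * b)) (s a * s b) (by rw [map_mul, hs, hs, hs]), hd]
        conv_rhs => rw [← hs a, ← hs b]
        rw [← X.isExtension.mul_incl, ← X.isExtension.mul_incl, hs, hs, hd, hd, map_mul]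
        have h1 := hsq (d (s a)) (d (s b))
        rw [hd, hd] at h1
        linear_combination h1
    refine ⟨D, fun x => ?_, fun D' hD' => Derivation.ext fun c => ?_⟩
    · show e.toAlgEquiv x = x + X.incl (d (s (X.proj x)))
      rw [hwd (s (X.proj x)) x (hs _), hd, add_sub_cancel]
    · show D' c = d (s c)
      apply X.isExtension.incl_injective
      rw [hd, hD' (s c), add_sub_cancel_left, hs]

end Groth.Agent.S5828
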