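import Groth.Statements.S5829
-- import your own Groth.Agent.* helpers here

set_option autoImplicit false
universe u v w
open EGA41

namespace Groth.Agent.S5829

/-- Commutative case. Let B be a topological A-algebra in which the square of every open ideal is open,
and L a discrete B-module killed by an open ideal of B. Then every A-derivation B → L is continuous:
the submodule of continuous derivations is everything. (The topology of A is irrelevant and is not
assumed.) -/
theorem result {A : Type u} {B : Type v} {L : Type w} [CommRing A] [CommRing B]
    [Algebra A B] [AddCommGroup L] [Module A L] [Module B L] [IsScalarTower A B L] [TopologicalSpace B]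
    [IsTopologicalRing B] [TopologicalSpace L] [DiscreteTopology L] [ContinuousAdd L] [ContinuousConstSMul B L]
    (hsq : ∀ I : Ideal B, IsOpen (I : Set B) → IsOpen ((I ^ 2 : Ideal B) : Set B))
    (K : Ideal B) (hK : IsOpen (K : Set B)) (hKL : ∀ x ∈ K, ∀ z : L, x • z = 0) :
    TopMod.DerCont A B L = ⊤ := by
  rw [eq_top_iff]
  intro D _
  show Continuous fun x => D x
  refine continuous_iff_continuousAt.2 fun b => (continuousAt_const (y := D b)).congr ?_
  refine Filter.eventually_of_mem (IsOpen.mem_nhds (s := (fun x => x - b) ⁻¹' ((K ^ 2 : Ideal B) : Set B))
    ((hsq K hK).preimage (by fun_prop)) (by simp)) fun x hx => ?_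
  have h0 : ∀ y ∈ K ^ 2, D y = 0 := by
    intro y hy
    rw [pow_two] at hy
    refine Submodule.mul_induction_on hy (fun m hm n hn => ?_) (fun p q hp hq => ?_)
    · rw [Derivation.leibniz, hKL m hm, hKL n hn, add_zero]
    · rw [map_add, hp, hq, add_zero]
  have := h0 _ hx
  rw [map_sub, sub_eq_zero] at this
  exact this.symm

end Groth.Agent.S5829
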