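import Groth.Statements.S5830


set_option autoImplicit false
set_option linter.style.haveILetI false
universe u v
open EGA41

namespace Groth.Agent.S5830

variable {A : Type u} {B : Type v} [CommRing A] [CommRing B] [Algebra A B]
  {L : Type v} [AddCommGroup L] [Module B L] [Module A L] [IsScalarTower A B L]

/-- A symmetric Hochschild cocycle. -/
structure Cocycle (A : Type u) (B : Type v) (L : Type v) [CommRing A] [CommRing B] [Algebra A B]
    [AddCommGroup L] [Module B L] [Module A L] where
  f : B →ₗ[A] B →ₗ[A] L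
  symm : ∀ x y : B, f x y = f y x
  coc : ∀ x y z : B, f (x * y) z + z • f x y = x • f y z + f x (y * z)

/-- The algebra extension of `B` by `L` defined by a cocycle. -/
def HExt (_ : Cocycle A B L) : Type v := B × L

namespace HExt

variable (c : Cocycle A B L)

instance : AddCommGroup (HExt c) := inferInstanceAs (AddCommGroup (B × L))
instance : Module A (HExt c) := inferInstanceAs (Module A (B × L))
instance : Mul (HExt c) := ⟨fun p q => (p.1 * q.1, p.1 • q.2 + q.1 • p.2 + c.f p.1 q.1)⟩
instance : One (HExt c) := ⟨(1, - c.f 1 1)⟩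

omit [IsScalarTower A B L] in
theorem mul_def (p q : HExt c) :
    p * q = ((p.1 * q.1, p.1 • q.2 + q.1 • p.2 + c.f p.1 q.1) : B × L) := rfl

omit [IsScalarTower A B L] in
theorem f_one (z : B) : c.f 1 z = z • c.f 1 1 := by
  have h := c.coc 1 1 z
  simp only [mul_one, one_mul, one_smul] at h
  exact (add_left_cancel h).symm

protected theorem mul_comm' (p q : HExt c) : p * q = q * p := by
  refine Prod.ext (mul_comm _ _) ?_
  show _ + _ + _ = _ + _ + _
  rw [c.symm q.1 p.1]; abel

protected theorem mul_assoc' (p q r : HExt c) : p * q * r = p * (q * r) := by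
  refine Prod.ext (mul_assoc _ _ _) ?_
  have := c.coc p.1 q.1 r.1
  show (p.1 * q.1) • r.2 + r.1 • (p.1 • q.2 + q.1 • p.2 + c.f p.1 q.1) + c.f (p.1 * q.1) r.1 =
    p.1 • (q.1 • r.2 + r.1 • q.2 + c.f q.1 r.1) + (q.1 * r.1) • p.2 + c.f p.1 (q.1 * r.1)
  simp only [smul_add, smul_smul, mul_comm r.1 p.1, mul_comm r.1 q.1]
  linear_combination (norm := module) this

protected theorem left_distrib' (p q r : HExt c) : p * (q + r) = p * q + p * r := by
  refine Prod.ext (mul_add _ _ _) ?_
  show p.1 • (q.2 + r.2) + (q.1 + r.1) • p.2 + c.f p.1 (q.1 + r.1) =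
    (p.1 • q.2 + q.1 • p.2 + c.f p.1 q.1) + (p.1 • r.2 + r.1 • p.2 + c.f p.1 r.1)
  rw [smul_add, add_smul, map_add]; abel

protected theorem one_mul' (p : HExt c) : 1 * p = p := by
  refine Prod.ext (one_mul _) ?_
  show (1 : B) • p.2 + p.1 • (- c.f 1 1) + c.f 1 p.1 = p.2
  rw [f_one c p.1, one_smul, smul_neg]; abel

protected theorem zero_mul' (p : HExt c) : 0 * p = 0 := by
  refine Prod.ext (zero_mul _) ?_
  show (0 : B) • p.2 + p.1 • (0 : L) + c.f 0 p.1 = 0
  simp

instance : CommRing (HExt c) :=
  { (inferInstance : AddCommGroup (HExt c)) with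
    mul := (· * ·)
    one := 1
    mul_assoc := HExt.mul_assoc' c
    mul_comm := HExt.mul_comm' c
    left_distrib := HExt.left_distrib' c
    right_distrib := fun p q r => by
      rw [HExt.mul_comm' c (p + q) r, HExt.left_distrib', HExt.mul_comm' c r p, HExt.mul_comm' c r q]
    one_mul := HExt.one_mul' c
    mul_one := fun p => by rw [HExt.mul_comm' c p 1]; exact HExt.one_mul' c p
    zero_mul := HExt.zero_mul' c
    mul_zero := fun p => by rw [HExt.mul_comm' c p 0]; exact HExt.zero_mul' c p }

theorem smul_mul' (a : A) (p q : HExt c) : a • p * q = a • (p * q) := by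
  refine Prod.ext (smul_mul_assoc _ _ _) ?_
  show (a • p.1) • q.2 + q.1 • (a • p.2) + c.f (a • p.1) q.1 = a • (p.1 • q.2 + q.1 • p.2 + c.f p.1 q.1)
  rw [smul_add, smul_add, map_smul, LinearMap.smul_apply, smul_assoc, smul_comm q.1 a p.2]

instance : Algebra A (HExt c) := Algebra.ofModule (smul_mul' c) fun a p q => by
  rw [mul_comm p, smul_mul', mul_comm q]

/-- The projection. -/
def proj : HExt c →ₐ[A] B :=
  AlgHom.ofLinearMap
    ({ toFun := fun p => p.1, map_add' := fun _ _ => rfl, map_smul' := fun _ _ => rfl } : HExt c →ₗ[A] B)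
    rfl fun _ _ => rfl

theorem isNilpotent_ker : IsNilpotent (RingHom.ker (proj c : HExt c →+* B)) := by
  refine ⟨2, ?_⟩
  rw [Ideal.zero_eq_bot, pow_two, ← le_bot_iff, Ideal.mul_le]
  intro p hp q hq
  have hp' : p.1 = 0 := hp
  have hq' : q.1 = 0 := hq
  rw [Submodule.mem_bot]
  refine Prod.ext ?_ ?_
  · show p.1 * q.1 = 0
    rw [hp', zero_mul]
  · show p.1 • q.2 + q.1 • p.2 + c.f p.1 q.1 = 0
    simp [hp', hq']

end HExt

/-- Discrete case. If B is a formally smooth A-algebra then, for every B-module L, every A-bilinear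
symmetric Hochschild 2-cocycle f : B × B → L (f(xy, z) + z f(x, y) = x f(y, z) + f(x, yz)) is a
Hochschild 2-coboundary: f(x, y) = x g(y) − g(xy) + y g(x) for some A-linear g : B → L. (The
published statement is for topological algebras and open ideals; this row is its discrete case.) -/
theorem result {A : Type u} {B : Type v} [CommRing A] [CommRing B]
    [Algebra A B] [Algebra.FormallySmooth A B] {L : Type v} [AddCommGroup L] [Module B L] [Module A L]
    [IsScalarTower A B L] (f : B →ₗ[A] B →ₗ[A] L) (hsymm : ∀ x y : B, f x y = f y x)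
    (hcoc : ∀ x y z : B, f (x * y) z + z • f x y = x • f y z + f x (y * z)) :
    ∃ g : B →ₗ[A] L, ∀ x y : B, f x y = x • g y - g (x * y) + y • g x := by

  let c : Cocycle A B L := ⟨f, hsymm, hcoc⟩
  have hsurj : Function.Surjective (HExt.proj c) := fun b => ⟨((b, 0) : B × L), rfl⟩
  let s := Algebra.FormallySmooth.liftOfSurjective (AlgHom.id A B) (HExt.proj c) hsurj (HExt.isNilpotent_ker c)
  have hs : ∀ b, (s b).1 = b := fun b =>
    Algebra.FormallySmooth.liftOfSurjective_apply (AlgHom.id A B) (HExt.proj c) hsurj (HExt.isNilpotent_ker c) b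
  let g : B →ₗ[A] L :=
    { toFun := fun b => - (s b).2
      map_add' := fun x y => by rw [map_add]; show -((s x).2 + (s y).2) = _; rw [neg_add]
      map_smul' := fun a x => by rw [map_smul]; show -(a • (s x).2) = _; rw [RingHom.id_apply, smul_neg] }
  refine ⟨g, fun x y => ?_⟩
  have h := congrArg Prod.snd ((map_mul s x y).trans (HExt.mul_def c (s x) (s y)))
  rw [hs x, hs y] at h
  show f x y = x • (-(s y).2) - (-(s (x * y)).2) + y • (-(s x).2)
  rw [show (s (x * y)).2 = x • (s y).2 + y • (s x).2 + f x y from h, smul_neg, smul_neg]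
  abel

end Groth.Agent.S5830
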