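import Groth.Statements.S5831
import Mathlib.Algebra.Module.Torsion.Basic

set_option autoImplicit false
set_option linter.style.haveILetI false
universe u
open EGA41

namespace Groth.Agent.S5831

/-- Discrete case. Let B be an A-algebra which is a projective A-module (A and B in one universe). If
for every B-module L in that universe every A-bilinear symmetric Hochschild 2-cocycle B × B → L is a
coboundary, then B is formally smooth over A. (The published statement assumes B formally projective
as a topological A-module; for discrete rings this is projectivity.) -/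
theorem result {A B : Type u} [CommRing A]
    [CommRing B] [Algebra A B] [Module.Projective A B]
    (h : ∀ (L : Type u) [AddCommGroup L] [Module B L] [Module A L] [IsScalarTower A B L]
      (f : B →ₗ[A] B →ₗ[A] L), (∀ x y : B, f x y = f y x) →
        (∀ x y z : B, f (x * y) z + z • f x y = x • f y z + f x (y * z)) →
          ∃ g : B →ₗ[A] L, ∀ x y : B, f x y = x • g y - g (x * y) + y • g x) :
    Algebra.FormallySmooth A B := by
  refine Algebra.FormallySmooth.of_comp_surjective fun E _ _ I hI gI => ?_
  obtain ⟨σ, hσ⟩ := Module.projective_lifting_property (Ideal.Quotient.mkₐ A I).toLinearMap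
    gI.toLinearMap Ideal.Quotient.mk_surjective
  have hσ' : ∀ b, Ideal.Quotient.mk I (σ b) = gI b := LinearMap.congr_fun hσ
  have hkill : ∀ (a : E), a ∈ I → ∀ l : I, a • l = 0 := fun a ha l => Subtype.ext (by
    have : a * l.1 ∈ I ^ 2 := by rw [pow_two]; exact Ideal.mul_mem_mul ha l.2
    rwa [hI, Ideal.mem_bot] at this)
  letI : Module (E ⧸ I) I := Module.IsTorsionBySet.module fun x a => hkill a.1 a.2 x
  letI : Module B I := Module.compHom I gI.toRingHom
  have key : ∀ (b : B) (l : I), ((b • l : I) : E) = σ b * l := fun b l => by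
    show ((gI b • l : I) : E) = _
    rw [← hσ' b]
    rfl
  haveI : IsScalarTower A B I := ⟨fun a b l => Subtype.ext (by
    show _ = ((a • (b • l) : I) : E)
    rw [key, map_smul, Submodule.coe_smul_of_tower, key, smul_mul_assoc])⟩
  let d : B → B → E := fun x y => σ (x * y) - σ x * σ y
  have hd : ∀ x y, d x y ∈ I := fun x y => by
    rw [← Ideal.Quotient.eq_zero_iff_mem, map_sub, (Ideal.Quotient.mk I).map_mul, hσ', hσ', hσ', map_mul, sub_self]
  let f : B →ₗ[A] B →ₗ[A] I := LinearMap.mk₂ A (fun x y => ⟨d x y, hd x y⟩)
    (fun x x' y => Subtype.ext (by simp only [d, add_mul, map_add, Submodule.coe_add]; ring))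
    (fun a x y => Subtype.ext (by simp only [d, smul_mul_assoc, map_smul, Submodule.coe_smul_of_tower, smul_sub]))
    (fun x y y' => Subtype.ext (by simp only [d, mul_add, map_add, Submodule.coe_add]; ring))
    (fun a x y => Subtype.ext (by simp only [d, mul_smul_comm, map_smul, Submodule.coe_smul_of_tower, smul_sub]))
  have hf : ∀ x y, ((f x y : I) : E) = σ (x * y) - σ x * σ y := fun x y => rfl
  obtain ⟨g, hg⟩ := h I f (fun x y => Subtype.ext (by simp only [hf]; rw [mul_comm x, mul_comm (σ x)]))
    (fun x y z => Subtype.ext (by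
      simp only [Submodule.coe_add, key, hf]; rw [mul_assoc x y z]; ring))
  let s : B →ₗ[A] E := σ + (I.restrictScalars A).subtype.comp g
  have hs : ∀ b, s b = σ b + (g b : E) := fun b => rfl
  have hmul : ∀ x y, s (x * y) = s x * s y := by
    intro x y
    have h1 := congrArg Subtype.val (hg x y)
    rw [hf, Submodule.coe_add, AddSubgroupClass.coe_sub, key, key] at h1
    have h2 : (g x : E) * g y = 0 := congrArg Subtype.val (hkill _ (g x).2 (g y))
    rw [hs, hs, hs]
    linear_combination h1 - h2
  have hsq : ∀ b, Ideal.Quotient.mk I (s b) = gI b := fun b => by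
    rw [hs, map_add, hσ', Ideal.Quotient.eq_zero_iff_mem.mpr (g b).2, add_zero]
  have hone : s 1 = 1 := by
    have h1 : s 1 * s 1 = s 1 := by rw [← hmul, mul_one]
    have h2 : s 1 - 1 ∈ I := by
      rw [← Ideal.Quotient.eq_zero_iff_mem, map_sub, hsq, map_one, map_one, sub_self]
    have h3 : (s 1 - 1) * (s 1 - 1) = 0 := by
      have : (s 1 - 1) * (s 1 - 1) ∈ I ^ 2 := by rw [pow_two]; exact Ideal.mul_mem_mul h2 h2
      rwa [hI, Ideal.mem_bot] at this
    linear_combination h1 - h3
  exact ⟨AlgHom.ofLinearMap s hone hmul, AlgHom.ext hsq⟩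

end Groth.Agent.S5831
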