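import Groth.Statements.S5832
import Mathlib.Tactic.LinearCombination
import Mathlib.RingTheory.Ideal.Quotient.Operations
-- import your own Groth.Agent.* helpers here

set_option autoImplicit false
universe u u' v
open EGA41

namespace Groth.Agent.S5832

attribute [local instance] Exal.opModule Exal.isCentralScalar_opModule

/-- Surjectivity at the end of the sequence. For ring maps Λ → A → B → C and a C-module L, every
Λ-trivial A-extension of B by L is equivalent to the inverse image along B → C of a Λ-trivial
A-extension of C by L. (Exactness at the other places is that of the six-term derivation-extension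
sequence restricted to Λ-trivial classes.) -/
theorem result {Λ : Type u} {A : Type u'} {B C L : Type v}
    [CommRing Λ] [CommRing A] [CommRing B] [CommRing C] [Algebra Λ A] [Algebra Λ B] [Algebra Λ C]
    [Algebra A B] [Algebra B C] [Algebra A C] [IsScalarTower Λ A B] [IsScalarTower Λ A C] [IsScalarTower A B C]
    [AddCommGroup L] [Module C L] [Module B L] [IsScalarTower B C L]
    (Y : Exal.Ext A B L) (hY : Y.IsTrivialOver Λ) :
    ∃ X : Exal.Ext A C L, X.IsTrivialOver Λ ∧ Nonempty ((X.pullback B).Equiv Y) := by
  obtain ⟨s, hs⟩ := hY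
  let sf : B →+* Y.E := s.toRingHom
  have hsl : ∀ l : Λ, sf (algebraMap Λ B l) = algebraMap A Y.E (algebraMap Λ A l) := fun l => s.commutes l
  have hsp : ∀ b, Y.proj (sf b) = b := hs
  letI : Module A L := Module.compHom L (algebraMap A C)
  letI : Module Λ L := Module.compHom L ((algebraMap A C).comp (algebraMap Λ A))
  haveI : IsScalarTower A C L := ⟨fun a c z => by
    show (a • c) • z = algebraMap A C a • c • z
    rw [Algebra.smul_def, mul_smul]⟩
  haveI : IsScalarTower Λ A L := ⟨fun l a z => by
    show algebraMap A C (l • a) • z = algebraMap A C (algebraMap Λ A l) • algebraMap A C a • z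
    rw [Algebra.smul_def, map_mul, mul_smul]⟩
  haveI : IsScalarTower A B L := ⟨fun a b z => by
    show (a • b) • z = algebraMap A C a • b • z
    rw [Algebra.smul_def, mul_smul, IsScalarTower.algebraMap_apply A B C, algebraMap_smul C]⟩
  have hAB : ∀ (a : A) (z : L), algebraMap A B a • z = a • z := fun a z => algebraMap_smul B a z
  have hmem : ∀ a : A, Y.proj (algebraMap A Y.E a - sf (algebraMap A B a)) = 0 := fun a => by
    rw [map_sub, AlgHom.commutes, hsp, sub_self]
  let D₀ : A → L := fun a => Y.kerLift _ (hmem a)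
  have hD₀ : ∀ a, algebraMap A Y.E a = sf (algebraMap A B a) + Y.incl (D₀ a) := fun a => by
    rw [Exal.Ext.incl_kerLift, add_sub_cancel]
  have hsq : ∀ z z' : L, Y.incl z * Y.incl z' = 0 := fun z z' => by
    rw [Y.isExtension.mul_incl, (Y.isExtension.exact _).2 ⟨z, rfl⟩, zero_smul, map_zero]
  have hsi : ∀ (b : B) (z : L), sf b * Y.incl z = Y.incl (b • z) := fun b z => by
    rw [Y.isExtension.mul_incl, hsp]
  have hDl : ∀ l : Λ, D₀ (algebraMap Λ A l) = 0 := fun l => by
    apply Y.isExtension.incl_injective
    rw [Exal.Ext.incl_kerLift, map_zero, ← IsScalarTower.algebraMap_apply Λ A B, hsl, sub_self]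
  have hDmul : ∀ a b, D₀ (a * b) = a • D₀ b + b • D₀ a := fun a b => by
    apply Y.isExtension.incl_injective
    have e := map_mul (algebraMap A Y.E) a b
    rw [hD₀, hD₀, hD₀, map_mul, map_mul] at e
    rw [map_add, ← hAB, ← hAB, ← hsi, ← hsi]
    linear_combination e + hsq (D₀ a) (D₀ b)
  have hDadd : ∀ a b, D₀ (a + b) = D₀ a + D₀ b := fun a b => by
    apply Y.isExtension.incl_injective
    have e := map_add (algebraMap A Y.E) a b
    rw [hD₀, hD₀, hD₀, map_add, map_add] at e
    rw [map_add]
    linear_combination e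
  let hom : A →+* TrivSqZeroExt C L :=
    { toFun := fun a => TrivSqZeroExt.inl (algebraMap A C a) + TrivSqZeroExt.inr (D₀ a)
      map_one' := by
        rw [map_one, ← map_one (algebraMap Λ A), hDl, TrivSqZeroExt.inr_zero, add_zero, TrivSqZeroExt.inl_one]
      map_mul' := fun a b => by
        refine TrivSqZeroExt.ext ?_ ?_
        · simp
        · simp only [TrivSqZeroExt.snd_add, TrivSqZeroExt.snd_inl, TrivSqZeroExt.snd_inr, zero_add,
            TrivSqZeroExt.snd_mul, TrivSqZeroExt.fst_add, TrivSqZeroExt.fst_inl, TrivSqZeroExt.fst_inr, add_zero,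
            hDmul, op_smul_eq_smul]
          rfl
      map_zero' := by
        rw [map_zero, ← map_zero (algebraMap Λ A), hDl, TrivSqZeroExt.inr_zero, add_zero, TrivSqZeroExt.inl_zero]
      map_add' := fun a b => by
        rw [map_add, hDadd, TrivSqZeroExt.inl_add, TrivSqZeroExt.inr_add]
        abel }
  let alg : Algebra A (TrivSqZeroExt C L) := hom.toAlgebra
  let X : Exal.Ext A C L :=
    { E := TrivSqZeroExt C L
      commRing := inferInstance
      algebra := alg
      proj :=
        { toFun := fun x => TrivSqZeroExt.fst x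
          map_one' := TrivSqZeroExt.fst_one
          map_mul' := TrivSqZeroExt.fst_mul
          map_zero' := TrivSqZeroExt.fst_zero
          map_add' := TrivSqZeroExt.fst_add
          commutes' := fun a => by
            show TrivSqZeroExt.fst (TrivSqZeroExt.inl (algebraMap A C a) + TrivSqZeroExt.inr (D₀ a)) = _
            rw [TrivSqZeroExt.fst_add, TrivSqZeroExt.fst_inl, TrivSqZeroExt.fst_inr, add_zero] }
      incl := (TrivSqZeroExt.inrHom C L).toAddMonoidHom
      isExtension :=
        { proj_surjective := fun c => ⟨TrivSqZeroExt.inl c, rfl⟩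
          incl_injective := TrivSqZeroExt.inr_injective
          exact := fun x => by
            constructor
            · intro hx
              exact ⟨TrivSqZeroExt.snd x, TrivSqZeroExt.ext hx.symm rfl⟩
            · rintro ⟨z, rfl⟩
              rfl
          mul_incl := fun x z => by
            refine TrivSqZeroExt.ext ?_ ?_
            · change TrivSqZeroExt.fst x * 0 = 0
              exact mul_zero _
            · change TrivSqZeroExt.fst x • z + MulOpposite.op (0 : C) • TrivSqZeroExt.snd x = TrivSqZeroExt.fst x • z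
              rw [MulOpposite.op_zero, zero_smul, add_zero] } }
  refine ⟨X, ?_, ?_⟩
  · refine ⟨
      { toFun := fun c => (TrivSqZeroExt.inl c : TrivSqZeroExt C L)
        map_one' := rfl
        map_mul' := fun a b => (TrivSqZeroExt.inl_mul L a b)
        map_zero' := rfl
        map_add' := fun a b => (TrivSqZeroExt.inl_add L a b)
        commutes' := fun l => ?_ }, fun c => rfl⟩
    show (TrivSqZeroExt.inl (algebraMap Λ C l) : TrivSqZeroExt C L) =
      TrivSqZeroExt.inl (algebraMap A C (algebraMap Λ A l)) + TrivSqZeroExt.inr (D₀ (algebraMap Λ A l))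
    rw [hDl, TrivSqZeroExt.inr_zero, add_zero, ← IsScalarTower.algebraMap_apply Λ A C]
  · let sn : X.E → L := TrivSqZeroExt.snd
    let fs : X.E → C := TrivSqZeroExt.fst
    have hfs : ∀ p : X.fiberProd B, fs p.1.1 = algebraMap B C p.1.2 := fun p => p.2
    let φ : (X.pullback B).E →ₐ[A] Y.E :=
      { toFun := fun p => sf (p : X.fiberProd B).1.2 + Y.incl (sn (p : X.fiberProd B).1.1)
        map_one' := by
          show sf 1 + Y.incl (TrivSqZeroExt.snd (1 : TrivSqZeroExt C L)) = 1
          rw [map_one, TrivSqZeroExt.snd_one, map_zero, add_zero]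
        map_mul' := fun p q => by
          show sf (p.1.2 * q.1.2) + Y.incl (fs p.1.1 • sn q.1.1 + fs q.1.1 • sn p.1.1) =
            (sf p.1.2 + Y.incl (sn p.1.1)) * (sf q.1.2 + Y.incl (sn q.1.1))
          rw [hfs, hfs, algebraMap_smul, algebraMap_smul, map_mul, map_add, ← hsi, ← hsi]
          linear_combination -(hsq (sn p.1.1) (sn q.1.1))
        map_zero' := by
          show sf 0 + Y.incl (TrivSqZeroExt.snd (0 : TrivSqZeroExt C L)) = 0
          rw [map_zero, TrivSqZeroExt.snd_zero, map_zero, add_zero]
        map_add' := fun p q => by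
          show sf (p.1.2 + q.1.2) + Y.incl (sn p.1.1 + sn q.1.1) = _
          rw [map_add, map_add, add_add_add_comm]
        commutes' := fun a => by
          show sf (algebraMap A B a) + Y.incl (TrivSqZeroExt.snd
            (TrivSqZeroExt.inl (algebraMap A C a) + TrivSqZeroExt.inr (D₀ a) : TrivSqZeroExt C L)) = _
          rw [TrivSqZeroExt.snd_add, TrivSqZeroExt.snd_inl, TrivSqZeroExt.snd_inr, zero_add, ← hD₀] }
    have hbij : Function.Bijective φ := by
      refine ⟨(injective_iff_map_eq_zero φ).2 fun p hp => ?_, fun y => ?_⟩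
      · have hp' : sf (p : X.fiberProd B).1.2 + Y.incl (sn (p : X.fiberProd B).1.1) = 0 := hp
        have h2 : (p : X.fiberProd B).1.2 = 0 := by
          have := congrArg Y.proj hp'
          rwa [map_add, hsp, (Y.isExtension.exact _).2 ⟨_, rfl⟩, add_zero, map_zero] at this
        rw [h2, map_zero, zero_add] at hp'
        have h3 : sn (p : X.fiberProd B).1.1 = 0 := Y.isExtension.incl_injective (hp'.trans (map_zero Y.incl).symm)
        have h1 : fs (p : X.fiberProd B).1.1 = 0 := by rw [hfs, h2, map_zero]
        exact Subtype.ext (Prod.ext (TrivSqZeroExt.ext h1 h3) h2)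
      · have hy : Y.proj (y - sf (Y.proj y)) = 0 := by rw [map_sub, hsp, sub_self]
        refine ⟨(⟨(TrivSqZeroExt.inl (algebraMap B C (Y.proj y)) + TrivSqZeroExt.inr (Y.kerLift _ hy), Y.proj y), ?_⟩ :
          X.fiberProd B), ?_⟩
        · show TrivSqZeroExt.fst (TrivSqZeroExt.inl _ + TrivSqZeroExt.inr _ : TrivSqZeroExt C L) = algebraMap B C (Y.proj y)
          rw [TrivSqZeroExt.fst_add, TrivSqZeroExt.fst_inl, TrivSqZeroExt.fst_inr, add_zero]
        · show sf (Y.proj y) + Y.incl (TrivSqZeroExt.snd (TrivSqZeroExt.inl _ + TrivSqZeroExt.inr _ : TrivSqZeroExt C L)) = y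
          rw [TrivSqZeroExt.snd_add, TrivSqZeroExt.snd_inl, TrivSqZeroExt.snd_inr, zero_add,
            Exal.Ext.incl_kerLift, add_sub_cancel]
    refine ⟨⟨AlgEquiv.ofBijective φ hbij, fun p => ?_, fun z => ?_⟩⟩
    · show Y.proj (sf (p : X.fiberProd B).1.2 + Y.incl _) = _
      rw [map_add, hsp, (Y.isExtension.exact _).2 ⟨_, rfl⟩, add_zero]
      rfl
    · show sf 0 + Y.incl (TrivSqZeroExt.snd (TrivSqZeroExt.inr z : TrivSqZeroExt C L)) = Y.incl z
      rw [map_zero, TrivSqZeroExt.snd_inr, zero_add]

end Groth.Agent.S5832
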