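import Groth.Statements.S5835
import Groth.Agent.L06.FormSmoothField2
import Groth.Agent.L03.FieldFS
import Mathlib.RingTheory.Kaehler.JacobiZariski

set_option autoImplicit false
set_option maxSynthPendingDepth 3
set_option linter.style.haveILetI false
universe v w
open scoped TensorProduct
open EGA41

namespace Groth.Agent.S5835

theorem key {k₀ k K L : Type w}
    [Field k₀] [Field k] [Field K] [Field L] [Algebra k₀ k] [Algebra k₀ K] [Algebra k₀ L] [Algebra k K]
    [Algebra k L] [Algebra K L] [IsScalarTower k₀ k K] [IsScalarTower k₀ k L] [IsScalarTower k₀ K L]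
    [IsScalarTower k K L] [Algebra.IsGeometricallyReduced k L]
    (z : L ⊗[K] Ω[K⁄k₀]) (hz : z ∈ EGA41.imperfection k₀ K L)
    (hzk : (KaehlerDifferential.map k₀ k K K).baseChange L z = 0) : z = 0 := by
  haveI := Groth.L06.FormSmooth.formallySmooth_of_geometricallyReduced k L
  have hex := lTensor_exact L (KaehlerDifferential.exact_mapBaseChange_map k₀ k K) (KaehlerDifferential.map_surjective k₀ k K)
  obtain ⟨w, rfl⟩ := (hex z).mp hzk
  obtain ⟨v, rfl⟩ := (TensorProduct.AlgebraTensorModule.cancelBaseChange k K L L (Ω[k⁄k₀])).symm.surjective w
  have hcomp : ∀ v : L ⊗[k] Ω[k⁄k₀], KaehlerDifferential.mapBaseChange k₀ K L ((KaehlerDifferential.mapBaseChange k₀ k K).lTensor L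
      ((TensorProduct.AlgebraTensorModule.cancelBaseChange k K L L (Ω[k⁄k₀])).symm v)) =
      KaehlerDifferential.mapBaseChange k₀ k L v := by
    intro v
    induction v using TensorProduct.induction_on with
    | zero => simp
    | add a b ha hb => simp only [map_add, ha, hb]
    | tmul a b =>
      rw [TensorProduct.AlgebraTensorModule.cancelBaseChange_symm_tmul, LinearMap.lTensor_tmul,
        KaehlerDifferential.mapBaseChange_tmul, KaehlerDifferential.mapBaseChange_tmul,
        KaehlerDifferential.mapBaseChange_tmul, one_smul]
      congr 1
      have hb' : b ∈ Submodule.span k (Set.range (KaehlerDifferential.D k₀ k)) := by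
        rw [KaehlerDifferential.span_range_derivation]; trivial
      induction hb' using Submodule.span_induction with
      | mem x hx =>
        obtain ⟨y, rfl⟩ := hx
        simp [KaehlerDifferential.map_D, ← IsScalarTower.algebraMap_apply]
      | zero => simp
      | add x y _ _ hx hy => simp only [map_add, hx, hy]
      | smul r x _ hx =>
        simp only [map_smul, hx]
        rw [← algebraMap_smul K r (KaehlerDifferential.map k₀ k₀ k K x), map_smul, algebraMap_smul, hx]
  have hv : KaehlerDifferential.mapBaseChange k₀ k L v = 0 := (hcomp v).symm.trans hz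
  obtain ⟨y, rfl⟩ := (Algebra.H1Cotangent.exact_δ_mapBaseChange k₀ k L v).mp hv
  simp [Subsingleton.elim y 0]

/-- For fields k₀ ⊆ k ⊆ K ⊆ L, the map of imperfection modules Υ_{L/K/k₀} → Υ_{L/K/k} induced by
Ω_{K/k₀} → Ω_{K/k} is injective (k is k₀-admissible for the extension L of K) in each of the
following cases: L is separable over k; L is separable over K; k lies in k₀(K^p), p the
characteristic exponent. Separable means geometrically reduced (not necessarily algebraic). -/
theorem result {k : Type v} {k₀ K L : Type w}
    [Field k₀] [Field k] [Field K] [Field L] [Algebra k₀ k] [Algebra k₀ K] [Algebra k₀ L] [Algebra k K]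
    [Algebra k L] [Algebra K L] [IsScalarTower k₀ k K] [IsScalarTower k₀ k L] [IsScalarTower k₀ K L]
    [IsScalarTower k K L] (p : ℕ) [ExpChar K p]
    (h : Algebra.IsGeometricallyReduced k L ∨ Algebra.IsGeometricallyReduced K L ∨
      ∀ x : k, algebraMap k K x ∈ EGA41.pPowerSubalgebra p k₀ K) :
    ∀ z : L ⊗[K] Ω[K⁄k₀], z ∈ EGA41.imperfection k₀ K L →
      (KaehlerDifferential.map k₀ k K K).baseChange L z = 0 → z = 0 := by
  intro z hz hzk
  rcases h with h | h | h
  · haveI := h
    let F : IntermediateField k₀ K := (IsScalarTower.toAlgHom k₀ k K).fieldRange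
    let φ : k →ₐ[k₀] F := (IsScalarTower.toAlgHom k₀ k K).codRestrict F.toSubalgebra fun x => ⟨x, rfl⟩
    letI : Algebra k F := φ.toRingHom.toAlgebra
    haveI : IsScalarTower k₀ k F := IsScalarTower.of_algebraMap_eq fun x => (φ.commutes x).symm
    haveI : IsScalarTower k F K := IsScalarTower.of_algebraMap_eq fun x => rfl
    haveI : IsScalarTower k F L := IsScalarTower.of_algebraMap_eq fun x => IsScalarTower.algebraMap_apply k K L x
    have hsurj : Function.Surjective (algebraMap k F) := by
      rintro ⟨_, x, rfl⟩
      exact ⟨x, rfl⟩
    haveI : Algebra.IsGeometricallyReduced F L := by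
      rw [Algebra.isGeometricallyReduced_field_iff]
      haveI : Algebra.IsAlgebraic k (AlgebraicClosure F) := by
        haveI : Algebra.IsIntegral k F := ⟨fun y => by
          obtain ⟨x, rfl⟩ := hsurj y
          exact isIntegral_algebraMap⟩
        haveI : Algebra.IsIntegral k (AlgebraicClosure F) := Algebra.IsIntegral.trans F
        exact Algebra.isAlgebraic_iff_isIntegral.mpr inferInstance
      haveI h1 : TensorProduct.CompatibleSMul k F (AlgebraicClosure F) L :=
        TensorProduct.CompatibleSMul.of_algebraMap_surjective _ _ hsurj
      haveI h2 : TensorProduct.CompatibleSMul F k (AlgebraicClosure F) L := inferInstance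
      let e := Algebra.TensorProduct.equivOfCompatibleSMul (R := k) (S := F) (T := k) (A := AlgebraicClosure F) (B := L)
      exact isReduced_of_injective e e.injective
    have hz' : (KaehlerDifferential.map k₀ F K K).baseChange L z = 0 := by
      have hmap : KaehlerDifferential.map k₀ F K K =
          (KaehlerDifferential.map k F K K) ∘ₗ KaehlerDifferential.map k₀ k K K := by
        refine LinearMap.ext_on (KaehlerDifferential.span_range_derivation k₀ K) ?_
        rintro _ ⟨x, rfl⟩
        simp [KaehlerDifferential.map_D]
      rw [hmap, LinearMap.baseChange_comp, LinearMap.comp_apply, hzk, map_zero]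
    exact key (k := F) z hz hz'
  · haveI := h
    haveI := Groth.L06.FormSmooth.formallySmooth_of_geometricallyReduced K L
    obtain ⟨y, rfl⟩ := (Algebra.H1Cotangent.exact_δ_mapBaseChange k₀ K L z).mp hz
    rw [Subsingleton.elim y 0, map_zero]
  · cases ‹ExpChar K p› with
    | zero =>
      haveI := Groth.L03.FieldFS.formallySmooth_of_perfectField K L
      obtain ⟨y, rfl⟩ := (Algebra.H1Cotangent.exact_δ_mapBaseChange k₀ K L z).mp hz
      rw [Subsingleton.elim y 0, map_zero]
    | prime hp => ?_
    have hinj : Function.Injective (KaehlerDifferential.map k₀ k K K) := by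
      rw [injective_iff_map_eq_zero]
      intro w hw
      obtain ⟨v, rfl⟩ := ((KaehlerDifferential.exact_mapBaseChange_map k₀ k K) w).mp hw
      have hD : ∀ y ∈ EGA41.pPowerSubalgebra p k₀ K, KaehlerDifferential.D k₀ K y = 0 := by
        intro y hy
        refine Algebra.adjoin_induction ?_ ?_ ?_ ?_ hy
        · rintro _ ⟨b, rfl⟩
          rw [Derivation.leibniz_pow]
          rw [← Nat.cast_smul_eq_nsmul K, CharP.cast_eq_zero, zero_smul]
        · intro r; exact Derivation.map_algebraMap _ r
        · intro a b _ _ ha hb; rw [map_add, ha, hb, add_zero]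
        · intro a b _ _ ha hb; rw [Derivation.leibniz, ha, hb, smul_zero, smul_zero, add_zero]
      clear hw
      induction v using TensorProduct.induction_on with
      | zero => rw [map_zero]
      | add a b ha hb => rw [map_add, ha, hb, add_zero]
      | tmul a b =>
        rw [KaehlerDifferential.mapBaseChange_tmul]
        have hb : KaehlerDifferential.map k₀ k₀ k K b = 0 := by
          have hb' : b ∈ Submodule.span k (Set.range (KaehlerDifferential.D k₀ k)) := by
            rw [KaehlerDifferential.span_range_derivation]; trivial
          induction hb' using Submodule.span_induction with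
          | mem x hx =>
            obtain ⟨y, rfl⟩ := hx
            rw [KaehlerDifferential.map_D]
            exact hD _ (h y)
          | zero => rw [map_zero]
          | add x y _ _ hx hy => rw [map_add, hx, hy, add_zero]
          | smul r x _ hx => rw [map_smul, hx, smul_zero]
        rw [hb, smul_zero]
    exact (injective_iff_map_eq_zero _).mp (Module.Flat.lTensor_preserves_injective_linearMap _ hinj) z hzk

end Groth.Agent.S5835
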