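import Groth.Statements.S5836
import Groth.Agent.L06.ImperfTower
import Mathlib.LinearAlgebra.Dimension.RankNullity
import Mathlib.LinearAlgebra.Dimension.DivisionRing
import Mathlib.LinearAlgebra.Dimension.Constructions
import Mathlib.RingTheory.Flat.Basic

set_option autoImplicit false
set_option maxSynthPendingDepth 3
set_option linter.style.haveILetI false
universe u u' u'' w
open scoped TensorProduct
open EGA41

namespace Groth.Agent.S5836

/-- For fields k ⊆ k' ⊆ k'' ⊆ K ⊆ L put Δ(L/K, a/b) = ker(Υ_{L/K/b} → Υ_{L/K/a}) ⊆ L ⊗_K Ω_{K/b}. Then 0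
→ Δ(L/K, k'/k) → Δ(L/K, k''/k) → Δ(L/K, k''/k') → 0 is exact: stated as the surjectivity of the map
induced by L ⊗_K Ω_{K/k} → L ⊗_K Ω_{K/k'} (exactness on the left and in the middle hold by
construction), together with the resulting identity of ranks d(L/K, k''/k) = d(L/K, k''/k') + d(L/K,
k'/k). -/
theorem result {k : Type u} {k' : Type u'} {k'' : Type u''} {K L : Type w}
    [Field k] [Field k'] [Field k''] [Field K] [Field L]
    [Algebra k k'] [Algebra k k''] [Algebra k' k''] [IsScalarTower k k' k'']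
    [Algebra k K] [Algebra k' K] [Algebra k'' K] [IsScalarTower k k' K] [IsScalarTower k' k'' K]
    [IsScalarTower k k'' K] [Algebra K L] [Algebra k L] [Algebra k' L] [Algebra k'' L]
    [IsScalarTower k K L] [IsScalarTower k' K L] [IsScalarTower k'' K L] :
    (∀ w : L ⊗[K] Ω[K⁄k'], w ∈ EGA41.imperfection k' K L →
        (KaehlerDifferential.map k' k'' K K).baseChange L w = 0 →
          ∃ z : L ⊗[K] Ω[K⁄k], z ∈ EGA41.imperfection k K L ∧
            (KaehlerDifferential.map k k'' K K).baseChange L z = 0 ∧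
              (KaehlerDifferential.map k k' K K).baseChange L z = w) ∧
      Module.rank L ↥(EGA41.imperfection k K L ⊓
            LinearMap.ker ((KaehlerDifferential.map k k'' K K).baseChange L)) =
        Module.rank L ↥(EGA41.imperfection k' K L ⊓
              LinearMap.ker ((KaehlerDifferential.map k' k'' K K).baseChange L)) +
          Module.rank L ↥(EGA41.imperfection k K L ⊓
              LinearMap.ker ((KaehlerDifferential.map k k' K K).baseChange L)) := by
  classical
  haveI : IsScalarTower k k' L := IsScalarTower.of_algebraMap_eq fun x => by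
    rw [IsScalarTower.algebraMap_apply k K L, IsScalarTower.algebraMap_apply k' K L, ← IsScalarTower.algebraMap_apply k k' K]
  let f₁ := (KaehlerDifferential.map k k' K K).baseChange L
  let f₂ := (KaehlerDifferential.map k k'' K K).baseChange L
  let f₃ := (KaehlerDifferential.map k' k'' K K).baseChange L
  have hcomp : ∀ z, f₃ (f₁ z) = f₂ z :=
    Groth.L06.ImperfTower.kaehler_induction (by simp [f₁, f₂, f₃]) (fun x y hx hy => by simp [map_add, hx, hy]) fun c b => by
      simp [f₁, f₂, f₃, KaehlerDifferential.map_D]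
  have hm : ∀ z, KaehlerDifferential.mapBaseChange k' K L (f₁ z) =
      KaehlerDifferential.map k k' L L (KaehlerDifferential.mapBaseChange k K L z) :=
    Groth.L06.ImperfTower.kaehler_induction (by simp [f₁]) (fun x y hx hy => by simp [map_add, hx, hy]) fun c b => by
      simp [f₁, KaehlerDifferential.map_D, KaehlerDifferential.mapBaseChange_tmul]
  have part1 : ∀ w : L ⊗[K] Ω[K⁄k'], w ∈ EGA41.imperfection k' K L → f₃ w = 0 →
      ∃ z : L ⊗[K] Ω[K⁄k], z ∈ EGA41.imperfection k K L ∧ f₂ z = 0 ∧ f₁ z = w := by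
    intro w hw hw3
    obtain ⟨z₀, rfl⟩ := LinearMap.lTensor_surjective L (KaehlerDifferential.map_surjective k k' K) w
    have h0 : KaehlerDifferential.map k k' L L (KaehlerDifferential.mapBaseChange k K L z₀) = 0 := (hm z₀).symm.trans hw
    obtain ⟨v, hv⟩ := (KaehlerDifferential.exact_mapBaseChange_map k k' L _).mp h0
    have hz : f₁ (z₀ - Groth.L06.ImperfTower.push (K := K) v) = f₁ z₀ := by
      rw [map_sub, Groth.L06.ImperfTower.baseChange_push, sub_zero]
    refine ⟨z₀ - Groth.L06.ImperfTower.push (K := K) v, ?_, ?_, hz⟩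
    · show KaehlerDifferential.mapBaseChange k K L _ = 0
      rw [map_sub, Groth.L06.ImperfTower.mapBaseChange_push, hv, sub_self]
    · rw [← hcomp, hz]; exact hw3
  refine ⟨part1, ?_⟩
  let S₂ := EGA41.imperfection k K L ⊓ LinearMap.ker f₂
  let S₁ := EGA41.imperfection k K L ⊓ LinearMap.ker f₁
  let S₃ := EGA41.imperfection k' K L ⊓ LinearMap.ker f₃
  show Module.rank L S₂ = Module.rank L S₃ + Module.rank L S₁
  have hmem : ∀ z : S₂, f₁ z ∈ S₃ := fun z => by
    refine ⟨?_, ?_⟩
    · show KaehlerDifferential.mapBaseChange k' K L (f₁ z) = 0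
      rw [hm, show KaehlerDifferential.mapBaseChange k K L z = 0 from z.2.1, map_zero]
    · show f₃ (f₁ z) = 0
      rw [hcomp]; exact z.2.2
  let F : S₂ →ₗ[L] S₃ := (f₁ ∘ₗ S₂.subtype).codRestrict S₃ hmem
  have hsurj : LinearMap.range F = ⊤ := by
    rw [LinearMap.range_eq_top]
    intro w
    obtain ⟨z, hz, hz2, hz1⟩ := part1 w w.2.1 w.2.2
    exact ⟨⟨z, hz, hz2⟩, Subtype.ext hz1⟩
  have hle : S₁ ≤ S₂ := fun z hz => ⟨hz.1, by
    show f₂ z = 0
    rw [← hcomp, show f₁ z = 0 from hz.2, map_zero]⟩
  have hker : LinearMap.ker F = S₁.comap S₂.subtype := by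
    ext z
    exact ⟨fun h => ⟨z.2.1, congrArg Subtype.val (LinearMap.mem_ker.mp h)⟩, fun h => LinearMap.mem_ker.mpr (Subtype.ext h.2)⟩
  rw [← LinearMap.rank_range_add_rank_ker F, hsurj, rank_top, hker, (Submodule.comapSubtypeEquivOfLe hle).rank_eq]

end Groth.Agent.S5836
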