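import Groth.Statements.S5837
import Groth.Agent.L06.ImperfTower
import Mathlib.LinearAlgebra.Dimension.RankNullity
import Mathlib.LinearAlgebra.Dimension.DivisionRing
import Mathlib.LinearAlgebra.Dimension.Constructions
import Mathlib.RingTheory.Flat.Basic
import Mathlib.LinearAlgebra.TensorProduct.Prod

set_option autoImplicit false
set_option maxSynthPendingDepth 3
set_option linter.style.haveILetI false
universe u u' w
open scoped TensorProduct
open EGA41

namespace Groth.Agent.S5837

/-- Rank form. For fields k₀ ⊆ k ⊆ K ⊆ L ⊆ M, with Δ(F/E, k/k₀) = ker(Υ_{F/E/k₀} → Υ_{F/E/k}) and d its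
rank, one has d(M/K, k/k₀) = d(M/L, k/k₀) + d(L/K, k/k₀) (cardinal ranks; the published statement
gives the short exact sequence 0 → Δ(L/K, k/k₀) ⊗_L M → Δ(M/K, k/k₀) → Δ(M/L, k/k₀) → 0, of which
this row states the rank identity). -/
theorem result {k₀ : Type u} {k : Type u'} {K L M : Type w}
    [Field k₀] [Field k] [Field K] [Field L] [Field M] [Algebra k₀ k]
    [Algebra k₀ K] [Algebra k K] [IsScalarTower k₀ k K] [Algebra k₀ L] [Algebra k L] [IsScalarTower k₀ k L]
    [Algebra K L] [Algebra K M] [Algebra L M] [IsScalarTower K L M]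
    [Algebra k₀ M] [Algebra k M] [IsScalarTower k₀ K L] [IsScalarTower k K L]
    [IsScalarTower k₀ K M] [IsScalarTower k K M] [IsScalarTower k₀ L M] [IsScalarTower k L M] :
    Module.rank M ↥(EGA41.imperfection k₀ K M ⊓
          LinearMap.ker ((KaehlerDifferential.map k₀ k K K).baseChange M)) =
      Module.rank M ↥(EGA41.imperfection k₀ L M ⊓
            LinearMap.ker ((KaehlerDifferential.map k₀ k L L).baseChange M)) +
        Module.rank L ↥(EGA41.imperfection k₀ K L ⊓
            LinearMap.ker ((KaehlerDifferential.map k₀ k K K).baseChange L)) := by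
  classical
  let T : L ⊗[K] Ω[K⁄k₀] →ₗ[L] Ω[L⁄k₀] × (L ⊗[K] Ω[K⁄k]) :=
    (KaehlerDifferential.mapBaseChange k₀ K L).prod ((KaehlerDifferential.map k₀ k K K).baseChange L)
  let c := TensorProduct.AlgebraTensorModule.cancelBaseChange K L M M Ω[K⁄k₀]
  let Φ : M ⊗[K] Ω[K⁄k₀] →ₗ[M] M ⊗[L] Ω[L⁄k₀] := Groth.L06.ImperfTower.push (K := L)
  let bK := (KaehlerDifferential.map k₀ k K K).baseChange M
  let bL := (KaehlerDifferential.map k₀ k L L).baseChange M
  let S₂ := EGA41.imperfection k₀ K M ⊓ LinearMap.ker bK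
  let S₃ := EGA41.imperfection k₀ L M ⊓ LinearMap.ker bL
  let Q : M ⊗[K] Ω[K⁄k] →ₗ[M] M ⊗[L] Ω[L⁄k] := Groth.L06.ImperfTower.push (K := L)
  have hQ : ∀ z, bL (Φ z) = Q (bK z) :=
    Groth.L06.ImperfTower.kaehler_induction (by simp [bK, bL, Φ, Q]) (fun x y hx hy => by simp [map_add, hx, hy])
      fun m b => by
        simp [bK, bL, Φ, Q, Groth.L06.ImperfTower.push_tmul_D, KaehlerDifferential.map_D]
  have hm : ∀ z, KaehlerDifferential.mapBaseChange k₀ L M (Φ z) = KaehlerDifferential.mapBaseChange k₀ K M z := fun z =>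
    Groth.L06.ImperfTower.mapBaseChange_push z
  have hmem : ∀ z : S₂, Φ z ∈ S₃ := fun z => by
    refine ⟨?_, ?_⟩
    · show KaehlerDifferential.mapBaseChange k₀ L M (Φ z) = 0
      rw [hm]; exact z.2.1
    · show bL (Φ z) = 0
      rw [hQ, show bK z = 0 from z.2.2, map_zero]
  let F : S₂ →ₗ[M] S₃ := (Φ ∘ₗ S₂.subtype).codRestrict S₃ hmem
  have hsurj : LinearMap.range F = ⊤ := by
    rw [LinearMap.range_eq_top]
    rintro ⟨w, hw, hwb⟩
    obtain ⟨v, rfl⟩ := Groth.L06.ImperfTower.exists_push (k := k) (K := L) (LinearMap.mem_ker.mp hwb)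
    have hpp : ∀ v : M ⊗[k] Ω[k⁄k₀], Φ (Groth.L06.ImperfTower.push (K := K) v) = Groth.L06.ImperfTower.push (K := L) v :=
      Groth.L06.ImperfTower.kaehler_induction (by simp [Φ]) (fun x y hx hy => by simp [map_add, hx, hy]) fun m a => by
        simp [Φ, Groth.L06.ImperfTower.push_tmul_D, ← IsScalarTower.algebraMap_apply]
    refine ⟨⟨Groth.L06.ImperfTower.push (K := K) v, ?_, Groth.L06.ImperfTower.baseChange_push v⟩, Subtype.ext (hpp v)⟩
    show KaehlerDifferential.mapBaseChange k₀ K M _ = 0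
    rw [← hm, hpp]
    exact hw
  let ι : M ⊗[L] (LinearMap.ker T) →ₗ[M] M ⊗[K] Ω[K⁄k₀] := c.toLinearMap ∘ₗ (LinearMap.ker T).subtype.baseChange M
  have hι : Function.Injective ι :=
    c.injective.comp (Module.Flat.lTensor_preserves_injective_linearMap (M := M) _ Subtype.val_injective)
  let R : M ⊗[L] (L ⊗[K] Ω[K⁄k]) ≃ₗ[M] M ⊗[K] Ω[K⁄k] :=
    TensorProduct.AlgebraTensorModule.cancelBaseChange K L M M Ω[K⁄k]
  have hbK : ∀ x, bK (c x) = R (((KaehlerDifferential.map k₀ k K K).baseChange L).baseChange M x) := by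
    intro x
    induction x using TensorProduct.induction_on with
    | zero => simp
    | add a b ha hb => simp only [map_add, ha, hb]
    | tmul m y =>
      induction y using TensorProduct.induction_on with
      | zero => simp
      | add a b ha hb => simp only [TensorProduct.tmul_add, map_add, ha, hb]
      | tmul l w => simp [c, R, bK, TensorProduct.AlgebraTensorModule.cancelBaseChange_tmul]
  have hΦ : ∀ x, Φ (c x) = (KaehlerDifferential.mapBaseChange k₀ K L).baseChange M x := by
    intro x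
    show ((KaehlerDifferential.mapBaseChange k₀ K L).baseChange M) (c.symm (c x)) = _
    rw [LinearEquiv.symm_apply_apply]
  have hex : ∀ x : M ⊗[L] (L ⊗[K] Ω[K⁄k₀]), T.baseChange M x = 0 ↔ x ∈ LinearMap.range ((LinearMap.ker T).subtype.baseChange M) :=
    fun x => Module.Flat.lTensor_exact (R := L) M (f := (LinearMap.ker T).subtype) (g := T) T.exact_subtype_ker_map x
  have hT : ∀ x, T.baseChange M x = 0 ↔ Φ (c x) = 0 ∧ bK (c x) = 0 := by
    intro x
    rw [hΦ, hbK, LinearEquiv.map_eq_zero_iff]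
    let e := TensorProduct.prodRight L M M (Ω[L⁄k₀]) (L ⊗[K] Ω[K⁄k])
    have he : e (T.baseChange M x) = ((KaehlerDifferential.mapBaseChange k₀ K L).baseChange M x,
        ((KaehlerDifferential.map k₀ k K K).baseChange L).baseChange M x) := by
      induction x using TensorProduct.induction_on with
      | zero => simp [Prod.mk_zero_zero]
      | add a b ha hb => simp only [map_add, ha, hb, Prod.mk_add_mk]
      | tmul m y => simp [e, T]
    rw [← e.map_eq_zero_iff, he, Prod.mk_eq_zero]
  have hker : LinearMap.ker F = (LinearMap.range ι).comap S₂.subtype := by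
    ext z
    constructor
    · intro h
      have h1 : Φ (z : M ⊗[K] Ω[K⁄k₀]) = 0 := congrArg Subtype.val (LinearMap.mem_ker.mp h)
      obtain ⟨x, hx⟩ := c.surjective (z : M ⊗[K] Ω[K⁄k₀])
      obtain ⟨y, hy⟩ := (hex x).mp ((hT x).mpr ⟨by rw [hx]; exact h1, by rw [hx]; exact z.2.2⟩)
      exact ⟨y, (congrArg c hy).trans hx⟩
    · rintro ⟨y, hy⟩
      have h1 := ((hT _).mp ((hex _).mpr ⟨y, rfl⟩)).1
      refine LinearMap.mem_ker.mpr (Subtype.ext ?_)
      show Φ (z : M ⊗[K] Ω[K⁄k₀]) = 0
      rw [← Submodule.subtype_apply, ← hy]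
      exact h1
  have hle : LinearMap.range ι ≤ S₂ := by
    rintro _ ⟨y, rfl⟩
    obtain ⟨h1, h2⟩ := (hT _).mp ((hex _).mpr ⟨y, rfl⟩)
    refine ⟨?_, h2⟩
    show KaehlerDifferential.mapBaseChange k₀ K M (c ((LinearMap.ker T).subtype.baseChange M y)) = 0
    rw [← hm, h1, map_zero]
  have hTeq : LinearMap.ker T = EGA41.imperfection k₀ K L ⊓ LinearMap.ker ((KaehlerDifferential.map k₀ k K K).baseChange L) :=
    LinearMap.ker_prod _ _
  show Module.rank M S₂ = Module.rank M S₃ + _
  rw [← LinearMap.rank_range_add_rank_ker F, hsurj, rank_top, hker, (Submodule.comapSubtypeEquivOfLe hle).rank_eq,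
    (LinearEquiv.ofInjective ι hι).rank_eq.symm, Module.rank_baseChange, Cardinal.lift_id, hTeq]

end Groth.Agent.S5837
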