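import Groth.Statements.S5839
import Groth.Agent.L06.FormLeftInv

set_option autoImplicit false
set_option maxSynthPendingDepth 3
set_option linter.style.haveILetI false
universe u v w
open EGA41

namespace Groth.Agent.S5839

/-- Let A be preadmissible with ideal of definition 𝔏, the topologies of M and N deduced from that of A,
N/JN projective over A/J for every open ideal J; assuming moreover a countable decreasing
fundamental system of open ideals and M Hausdorff and complete, u : M → N has a linear left inverse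
if and only if the induced map M/𝔏M → N/𝔏N has one (both being equivalent to formal left
invertibility). -/
theorem result {A : Type u} {M : Type v} {N : Type w}
    [CommRing A] [TopologicalSpace A] [AddCommGroup M] [Module A M] [UniformSpace M] [IsUniformAddGroup M]
    [CompleteSpace M] [T2Space M] [AddCommGroup N] [Module A N] [TopologicalSpace N]
    (𝔍 : ℕ → Ideal A) (h𝔍open : ∀ n, IsOpen (𝔍 n : Set A)) (h𝔍anti : Antitone 𝔍)
    (h𝔍basis : (nhds (0 : A)).HasBasis (fun _ : ℕ => True) (fun n => (𝔍 n : Set A)))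
    (hM : TopMod.IsDeduced A M) (hN : TopMod.IsDeduced A N) (u : M →L[A] N)
    (hA : LinTop.IsPreadmissible A) (𝔏 : Ideal A) (h𝔏 : LinTop.IsIdealOfDefinition A 𝔏)
    (hproj : ∀ J : Ideal A, IsOpen (J : Set A) → Module.Projective (A ⧸ J) (N ⧸ (J • (⊤ : Submodule A N)))) :
    (∃ w : N →ₗ[A] M, ∀ x : M, w (u x) = x) ↔
      ∃ w₀ : N →ₗ[A] M ⧸ (𝔏 • ⊤ : Submodule A M), ∀ x : M, w₀ (u x) = Submodule.Quotient.mk x := by
  constructor
  · rintro ⟨w, hw⟩
    exact ⟨(𝔏 • ⊤ : Submodule A M).mkQ ∘ₗ w, fun x => by rw [LinearMap.comp_apply, hw]; rfl⟩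
  · intro h
    have hall := (Groth.L06.FormLeftInv.fli_iff hM hN u).mp
      ((Groth.L06.FormLeftInv.fli_iff_idealOfDefinition 𝔏 h𝔏 hM hN hproj u).mpr h)
    refine Groth.L06.FormLeftInv.exists_limit 𝔍 h𝔍open h𝔍anti h𝔍basis hM u.toLinearMap
      (fun n => hall (𝔍 n) (h𝔍open n)) fun n d hd => ?_
    haveI := hproj (𝔍 (n + 1)) (h𝔍open _)
    obtain ⟨g, hg⟩ := Groth.L06.FormLeftInv.exists_lift (𝔍 (n + 1))
      (Groth.L06.FormLeftInv.smul_quot_eq_zero (M := M) (𝔍 (n + 1))) _
      (Submodule.factor_surjective (Submodule.smul_mono_left (h𝔍anti n.le_succ))) d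
    obtain ⟨w', hw'⟩ := hall (𝔍 (n + 1)) (h𝔍open _)
    let gu := (𝔍 (n + 1) • ⊤ : Submodule A M).liftQ (g ∘ₗ u.toLinearMap)
      (Groth.L06.FormLeftInv.smul_top_le_ker _ (Groth.L06.FormLeftInv.smul_quot_eq_zero _) _)
    refine ⟨g - gu ∘ₗ w', fun x => ?_, LinearMap.ext fun y => ?_⟩
    · show g (u x) - gu (w' (u x)) = 0
      rw [hw']
      exact sub_self _
    · obtain ⟨z, hz⟩ := Submodule.Quotient.mk_surjective _ (w' y)
      have h1 := fun t => LinearMap.congr_fun hg t
      simp only [LinearMap.comp_apply] at h1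
      simp only [LinearMap.comp_apply, LinearMap.sub_apply, map_sub, ← hz]
      show _ - (Submodule.factor _) (g (u z)) = d y
      exact (congrArg₂ (· - ·) (h1 y) ((h1 (u z)).trans (hd z))).trans (sub_zero _)

end Groth.Agent.S5839
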