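import Groth.Statements.S5854
import Groth.Agent.L19.ZClos.FlatPullback
import Groth.Agent.L16.CohSupport
import Groth.Agent.L16.AffineBC.Pullback
import Groth.Agent.L19.PullChart

set_option autoImplicit false
set_option backward.isDefEq.respectTransparency.types false
set_option backward.isDefEq.respectTransparency false
set_option linter.style.haveILetI false
universe u
open ZClos

namespace Groth.Agent.S5854

open CategoryTheory CategoryTheory.Limits AlgebraicGeometry in
/-- Let f : X' → X be a flat morphism of locally Noetherian schemes, Z a subset of X stable under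
specialization, Z' = f⁻¹(Z) and F a quasi-coherent O_X-module. If H⁰_{X/Z}(F) is coherent then
H⁰_{X'/Z'}(f^* F) is coherent; the converse holds when f is moreover surjective (faithfully flat)
and quasi-compact. -/
theorem result {X X' : Scheme.{u}} [IsLocallyNoetherian X] [IsLocallyNoetherian X'] (f : X' ⟶ X) [Flat f]
    (Z : Set X) (hZ : StableUnderSpecialization Z) (F : X.Modules) (hF : Coh.IsQCoh F) :
    (Coh.IsCoh ((ZClos.H0 Z).obj F) →
      Coh.IsCoh ((ZClos.H0 (f.base ⁻¹' Z)).obj ((Scheme.Modules.pullback f).obj F))) ∧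
    (Surjective f → QuasiCompact f →
      Coh.IsCoh ((ZClos.H0 (f.base ⁻¹' Z)).obj ((Scheme.Modules.pullback f).obj F)) →
        Coh.IsCoh ((ZClos.H0 Z).obj F)) := by
  haveI := hF
  haveI : Coh.IsQCoh ((ZClos.H0 Z).obj F) := Groth.Agent.S5841.result X Z hZ F hF
  obtain ⟨e⟩ := Groth.L19.ZClos.nonempty_pullback_H0_iso f hZ F
  refine ⟨fun h => Groth.L16.CohSupport.isCoh_of_iso e (Groth.L16.AffineBC.isCoh_pullback f h), fun hs hq h => ?_⟩
  haveI := hs
  haveI := hq
  exact Groth.L19.PullChart.isCoh_of_pullback f _ (Groth.L16.CohSupport.isCoh_of_iso e.symm h)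

end Groth.Agent.S5854
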