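import Groth.Statements.S5857
import Groth.Agent.L19.ZClos.Lift
import Groth.Agent.S6039

set_option autoImplicit false
set_option backward.isDefEq.respectTransparency.types false
set_option backward.isDefEq.respectTransparency false
set_option linter.style.haveILetI false
universe u
open ZClos

namespace Groth.Agent.S5857

open CategoryTheory CategoryTheory.Limits AlgebraicGeometry in
/-- For a locally Noetherian scheme X, a subset Z of X stable under specialization and a coherent
O_X-module F whose Z-closure H⁰_{X/Z}(F) is coherent, the stalk of H⁰_{X/Z}(F) at every point of Z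
has depth at least 2. -/
theorem result (X : Scheme.{u}) [IsLocallyNoetherian X] (Z : Set X)
    (hZ : StableUnderSpecialization Z) (F : X.Modules) (hF : Coh.IsCoh F)
    (hH : Coh.IsCoh ((ZClos.H0 Z).obj F)) (x : X) (hx : x ∈ Z) :
    (2 : ℕ∞) ≤ LocCoh.depth (X.presheaf.stalk x) (((ZClos.H0 Z).obj F).presheaf.stalk x) := by
  let T : ZClos.Cl Z := ⟨⟨closure {x}, isClosed_closure⟩, Groth.L19.ZClos.closure_subset_of_stableUnderSpecialization hZ
    (A := closure {x}) (V := ⊤) (fun _ _ => trivial) (fun y hy => by simpa [closure_closure] using hy.1)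
    (fun y hy => hZ (specializes_iff_mem_closure.2 hy) hx) |>.trans' subset_closure⟩
  refine (Groth.Agent.S6039.result X T.U _ hH).2 (fun V => ?_) x (fun hxU => hxU (subset_closure rfl))
  exact (Groth.L19.ZClos.isZClosed_iff_res ((ZClos.H0 Z).obj F)).1 (Groth.L19.ZClos.isZClosed_H0 hZ F) T V

end Groth.Agent.S5857
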