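import Groth.Statements.S5858
import Groth.Agent.L19.ZClos.Depth
import Groth.Agent.L19.SupportPullback
import Groth.Agent.L04.CMBasic
import Groth.Agent.S5857

set_option autoImplicit false
set_option backward.isDefEq.respectTransparency.types false
set_option backward.isDefEq.respectTransparency false
set_option linter.style.haveILetI false
universe u
open ZClos

namespace Groth.Agent.S5858

open CategoryTheory CategoryTheory.Limits AlgebraicGeometry in
/-- For a locally Noetherian scheme X, a subset Z of X stable under specialization and a coherent
O_X-module F whose Z-closure H⁰_{X/Z}(F) is coherent: for every associated point x of F outside Z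
and every specialization y of x lying in Z, the closure of y has codimension at least 2 in the
closure of x, that is, the quotient of O_{X,y} by the prime ideal of the generization x has
dimension at least 2. -/
theorem result (X : Scheme.{u}) [IsLocallyNoetherian X] (Z : Set X)
    (hZ : StableUnderSpecialization Z) (F : X.Modules) (hF : Coh.IsCoh F)
    (hH : Coh.IsCoh ((ZClos.H0 Z).obj F))
    (x : X) (hx : x ∈ AssSch.Ass F) (hxZ : x ∉ Z) (y : X) (hy : y ∈ Z) (h : x ⤳ y) :
    (2 : WithBot ℕ∞) ≤ ringKrullDim (X.presheaf.stalk y ⧸
      (IsLocalRing.maximalIdeal (X.presheaf.stalk x)).comap (X.presheaf.stalkSpecializes h).hom) := by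
  haveI : Coh.IsQCoh F := hF.1
  haveI : Coh.IsQCoh ((ZClos.H0 Z).obj F) := hH.1
  haveI : IsNoetherianRing (X.presheaf.stalk y) := inferInstance
  haveI : Module.Finite (X.presheaf.stalk y) (((ZClos.H0 Z).obj F).presheaf.stalk y) :=
    Groth.L19.SupportPullback.finite_stalk _ hH y
  have hp := Groth.L19.ZClos.mem_associatedPrimes_stalk _ h (Groth.L19.ZClos.mem_ass_H0 F hxZ hx)
  have h2 := Groth.Agent.S5857.result X Z hZ F hF hH y hy
  exact (WithBot.coe_le_coe.mpr h2).trans (Groth.L04.depth_le_ringKrullDim_quotient hp)

end Groth.Agent.S5858
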