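import Groth.Statements.S5860
import Groth.Agent.L19.ZClos.Depth
import Groth.Agent.L19.SupportPullback
import Groth.Agent.S5857
import Groth.Agent.S5752

set_option autoImplicit false
set_option backward.isDefEq.respectTransparency.types false
set_option backward.isDefEq.respectTransparency false
set_option linter.style.haveILetI false
universe u
open ZClos

namespace Groth.Agent.S5860

open CategoryTheory CategoryTheory.Limits AlgebraicGeometry in
/-- Let X be a locally Noetherian scheme and F a coherent O_X-module with support all of X, having no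
associated point at which the local ring of X has dimension 1, and such that F' = H⁰_{X/Z}(F) is
coherent, Z = Z^(2)(X) being the set of points whose local ring has dimension at least 2. Then F'
satisfies (S_2): at every point x, depth(F'_x) ≥ min(2, dim F'_x). -/
theorem result (X : Scheme.{u}) [IsLocallyNoetherian X] (F : X.Modules) (hF : Coh.IsCoh F)
    (hsupp : ∀ x : X, Nontrivial (F.presheaf.stalk x))
    (hass : ∀ x ∈ AssSch.Ass F, ringKrullDim (X.presheaf.stalk x) ≠ 1)
    (hH : Coh.IsCoh ((ZClos.H0 (ZClos.dimGe X 2)).obj F)) (x : X) :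
    min (2 : WithBot ℕ∞) (Module.supportDim (X.presheaf.stalk x) (((ZClos.H0 (ZClos.dimGe X 2)).obj F).presheaf.stalk x)) ≤
      ((LocCoh.depth (X.presheaf.stalk x) (((ZClos.H0 (ZClos.dimGe X 2)).obj F).presheaf.stalk x) : ℕ∞) : WithBot ℕ∞) := by
  let Z := ZClos.dimGe X 2
  let H := (ZClos.H0 Z).obj F
  let R := X.presheaf.stalk x
  haveI : Module.Finite R (H.presheaf.stalk x) := Groth.L19.SupportPullback.finite_stalk H hH x
  by_cases hx : x ∈ Z
  · exact (min_le_left _ _).trans (WithBot.coe_le_coe.mpr
      (Groth.Agent.S5857.result X Z (Groth.L19.ZClos.stableUnderSpecialization_dimGe X 2) F hF hH x hx))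
  have hlt : ¬ (2 : WithBot ℕ∞) ≤ ringKrullDim R := hx
  have hsd := Module.supportDim_le_ringKrullDim R (H.presheaf.stalk x)
  by_cases h0 : ringKrullDim R ≤ 0
  · exact (min_le_right _ _).trans ((hsd.trans h0).trans (WithBot.coe_le_coe.mpr bot_le))
  have h1 : ringKrullDim R = 1 := by
    revert hlt h0
    generalize ringKrullDim R = d
    intro hlt h0
    induction d with
    | bot => exact absurd bot_le h0
    | coe a =>
      induction a using ENat.recTopCoe with
      | top => exact absurd (WithBot.coe_le_coe.mpr le_top) hlt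
      | coe n =>
        have e0 : ¬ (n : ℕ∞) ≤ ((0 : ℕ) : ℕ∞) := fun h => h0 (WithBot.coe_le_coe.mpr (by simpa using h))
        have e2 : ¬ ((2 : ℕ) : ℕ∞) ≤ (n : ℕ∞) := fun h => hlt (WithBot.coe_le_coe.mpr (by simpa using h))
        rw [Nat.cast_le] at e0 e2
        obtain rfl : n = 1 := by omega
        rfl
  have hd : (1 : ℕ∞) ≤ LocCoh.depth R (H.presheaf.stalk x) := by
    rw [Order.one_le_iff_pos, pos_iff_ne_zero]
    intro hd0
    have hm := (Groth.Agent.S5752.result R (H.presheaf.stalk x)).1 hd0
    rw [← LinearEquiv.AssociatedPrimes.eq (Groth.L19.ZClos.stalkEquivOff F hx)] at hm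
    exact hass x hm h1
  exact (min_le_right _ _).trans (hsd.trans (h1.le.trans (WithBot.coe_le_coe.mpr hd)))

end Groth.Agent.S5860
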