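import Groth.Statements.S5861
import Groth.Agent.L19.ZClos.Locus
import Groth.Agent.L19.ZClos.FullSupport
import Groth.Agent.S5752

set_option autoImplicit false
set_option backward.isDefEq.respectTransparency.types false
set_option backward.isDefEq.respectTransparency false
set_option linter.style.haveILetI false
universe u
open ZClos

namespace Groth.Agent.S5861

open CategoryTheory CategoryTheory.Limits AlgebraicGeometry in
/-- Suppose X is a locally Noetherian scheme and F is a coherent O_X-module whose support is the whole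
of X. Assume no associated point of F has a local ring of X of dimension 1, and assume H⁰_{X/Z}(F)
is coherent, where Z = Z^(2)(X) denotes the set of points whose local ring has dimension at least 2.
Consider the set U of points x where F satisfies (S_2), meaning depth(F_{x'}) ≥ min(2, dim F_{x'})
holds at every generization x' of x. Then U is an open subset, and the points lying outside U form a
set of codimension ≥ 2: the local ring at any such point has dimension at least 2. -/
theorem result (X : Scheme.{u}) [IsLocallyNoetherian X] (F : X.Modules) (hF : Coh.IsCoh F)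
    (hsupp : ∀ x : X, Nontrivial (F.presheaf.stalk x))
    (hass : ∀ x ∈ AssSch.Ass F, ringKrullDim (X.presheaf.stalk x) ≠ 1)
    (hH : Coh.IsCoh ((ZClos.H0 (ZClos.dimGe X 2)).obj F)) :
    IsOpen {x : X | ∀ x' : X, x' ⤳ x →
        min (2 : WithBot ℕ∞) (Module.supportDim (X.presheaf.stalk x') (F.presheaf.stalk x')) ≤
          ((LocCoh.depth (X.presheaf.stalk x') (F.presheaf.stalk x') : ℕ∞) : WithBot ℕ∞)} ∧
      ∀ x : X, (¬ ∀ x' : X, x' ⤳ x →
        min (2 : WithBot ℕ∞) (Module.supportDim (X.presheaf.stalk x') (F.presheaf.stalk x')) ≤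
          ((LocCoh.depth (X.presheaf.stalk x') (F.presheaf.stalk x') : ℕ∞) : WithBot ℕ∞)) →
        (2 : WithBot ℕ∞) ≤ ringKrullDim (X.presheaf.stalk x) := by
  haveI : Coh.IsQCoh F := hF.1
  let Z := ZClos.dimGe X 2
  have hZ := Groth.L19.ZClos.stableUnderSpecialization_dimGe X 2
  have key : ∀ w : X, (min (2 : WithBot ℕ∞) (Module.supportDim (X.presheaf.stalk w) (F.presheaf.stalk w)) ≤
      ((LocCoh.depth (X.presheaf.stalk w) (F.presheaf.stalk w) : ℕ∞) : WithBot ℕ∞)) ↔
      (w ∈ Z → (2 : ℕ∞) ≤ LocCoh.depth (X.presheaf.stalk w) (F.presheaf.stalk w)) := by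
    intro w
    rw [Groth.L19.ZClos.supportDim_stalk F hsupp]
    by_cases hw : w ∈ Z
    · have h2 : (2 : WithBot ℕ∞) ≤ ringKrullDim (X.presheaf.stalk w) := hw
      rw [min_eq_left h2, iff_true_intro hw, true_imp_iff]
      exact WithBot.coe_le_coe
    refine ⟨fun _ h => absurd h hw, fun _ => ?_⟩
    have hlt : ¬ (2 : WithBot ℕ∞) ≤ ringKrullDim (X.presheaf.stalk w) := hw
    haveI : Module.Finite (X.presheaf.stalk w) (F.presheaf.stalk w) :=
      Groth.L19.SupportPullback.finite_stalk F hF w
    by_cases h0 : ringKrullDim (X.presheaf.stalk w) ≤ 0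
    · exact (min_le_right _ _).trans (h0.trans (WithBot.coe_le_coe.mpr bot_le))
    have h1 : ringKrullDim (X.presheaf.stalk w) = 1 := by
      revert hlt h0
      generalize ringKrullDim (X.presheaf.stalk w) = d
      intro hlt h0
      induction d with
      | bot => exact absurd bot_le h0
      | coe a =>
        induction a using ENat.recTopCoe with
        | top => exact absurd (WithBot.coe_le_coe.mpr le_top) hlt
        | coe n =>
          have e0 : ¬ (n : ℕ∞) ≤ ((0 : ℕ) : ℕ∞) := fun h => h0 (WithBot.coe_le_coe.mpr (by simpa using h))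
          have e2 : ¬ ((2 : ℕ) : ℕ∞) ≤ (n : ℕ∞) := fun h => hlt (WithBot.coe_le_coe.mpr (by simpa using h))
          rw [Nat.cast_le] at e0 e2
          obtain rfl : n = 1 := by omega
          rfl
    have hd : (1 : ℕ∞) ≤ LocCoh.depth (X.presheaf.stalk w) (F.presheaf.stalk w) := by
      rw [Order.one_le_iff_pos, pos_iff_ne_zero]
      exact fun hd0 => hass w ((Groth.Agent.S5752.result _ _).1 hd0) h1
    exact (min_le_right _ _).trans (h1.le.trans (WithBot.coe_le_coe.mpr hd))
  have e : {x : X | ∀ x' : X, x' ⤳ x →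
        min (2 : WithBot ℕ∞) (Module.supportDim (X.presheaf.stalk x') (F.presheaf.stalk x')) ≤
          ((LocCoh.depth (X.presheaf.stalk x') (F.presheaf.stalk x') : ℕ∞) : WithBot ℕ∞)} =
      {x : X | ZClos.IsZClosedAt Z F x} := Set.ext fun x =>
    ⟨fun h => Groth.L19.ZClos.isZClosedAt_of_depth hZ F hF x fun w hw => (key w).1 (h w hw),
      fun h w hw => (key w).2 (Groth.L19.ZClos.depth_of_isZClosedAt hZ F hF x h w hw)⟩
  refine ⟨e ▸ Groth.L19.ZClos.isOpen_closedAt F hF hH, fun x hx => ?_⟩
  by_contra hxZ
  exact hx ((Set.ext_iff.1 e x).2 (Groth.L19.ZClos.bijective_rho_stalk F (fun h => hxZ h)))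

end Groth.Agent.S5861
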