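import Groth.Statements.S5864
-- import your own Groth.Agent.* helpers here
import Groth.Agent.L20.FlatGeneric
import Groth.Agent.L22.FibreDim
import Mathlib.AlgebraicGeometry.Morphisms.Preimmersion

set_option autoImplicit false
universe u
open RadPt

namespace Groth.Agent.S5864

open CategoryTheory AlgebraicGeometry in
/-- Let f : X → Y be a morphism of schemes whose induced morphism of reduced schemes is birational (f
maps the maximal points of X bijectively onto those of Y, with one-point fibres and trivial residue
field extensions over the maximal points of Y), g : Y' → Y a flat morphism and f' : X ×_Y Y' → Y'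
the base change (any cartesian square). Then the morphism of reduced schemes induced by f' is
birational in the same sense. -/
theorem result {X Y X' Y' : Scheme.{u}} {f : X ⟶ Y} {g : Y' ⟶ Y} [Flat g] {f' : X' ⟶ Y'} {g' : X' ⟶ X}
    (sq : IsPullback g' f' f g) (hf : RadPt.IsBirational f) : RadPt.IsBirational f' := by
  classical
  haveI : Flat g' := MorphismProperty.of_isPullback sq.flip inferInstance
  obtain ⟨hbij, hfib⟩ := hf
  have hgen : ∀ z : X', g (f' z) = f (g' z) := fun z => by
    rw [← Scheme.Hom.comp_apply, ← sq.w, Scheme.Hom.comp_apply]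
  -- the fibre over a generic point
  have key : ∀ x : X, f x ∈ genericPoints Y →
      ∃ (Q : Scheme.{u}) (a : Q ⟶ X'), IsPreimmersion a ∧ IsPreimmersion (a ≫ f') ∧
        Set.range a = g' ⁻¹' {x} ∧ Set.range (a ≫ f') = g ⁻¹' {f x} := by
    intro x hx
    haveI : IsIso (f.residueFieldMap x) :=
      (ConcreteCategory.isIso_iff_bijective _).2 ((hfib _ hx).2 x rfl)
    haveI : IsPreimmersion (X.fromSpecResidueField x ≫ f) := by
      rw [← Scheme.Hom.SpecMap_residueFieldMap_fromSpecResidueField f x]; infer_instance
    have hQ := (IsPullback.of_hasPullback g' (X.fromSpecResidueField x)).flip.paste_vert sq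
    haveI h2 : IsPreimmersion (Limits.pullback.fst g' (X.fromSpecResidueField x) ≫ f') :=
      MorphismProperty.of_isPullback hQ inferInstance
    refine ⟨_, Limits.pullback.fst g' (X.fromSpecResidueField x), inferInstance, h2, ?_, ?_⟩
    · ext z
      constructor
      · rintro ⟨q, rfl⟩
        show g' _ ∈ ({x} : Set X)
        rw [← Scheme.Hom.comp_apply, Limits.pullback.condition, Scheme.Hom.comp_apply]
        exact Scheme.fromSpecResidueField_apply x _
      · intro hz
        obtain ⟨q, hq, -⟩ := Scheme.Pullback.exists_preimage_pullback (f := g') (g := X.fromSpecResidueField x) z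
          (IsLocalRing.closedPoint _) (hz.trans (Scheme.fromSpecResidueField_apply x _).symm)
        exact ⟨q, hq⟩
    · ext z
      constructor
      · rintro ⟨q, rfl⟩
        show g _ ∈ ({f x} : Set Y)
        rw [Scheme.Hom.comp_apply, hgen, ← Scheme.Hom.comp_apply (Limits.pullback.fst g' _) g', Limits.pullback.condition,
          Scheme.Hom.comp_apply]
        exact congrArg f (Scheme.fromSpecResidueField_apply x _)
      · intro hz
        have hz' : g z = (X.fromSpecResidueField x ≫ f) (IsLocalRing.closedPoint _) := by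
          rw [Scheme.Hom.comp_apply, Scheme.fromSpecResidueField_apply]; exact hz
        obtain ⟨q, hq, -⟩ := Scheme.exists_preimage_of_isPullback hQ.flip _ _ hz'
        exact ⟨q, hq⟩
  -- over a generic point of X, generic points correspond
  have hY : ∀ z : X', z ∈ genericPoints X' → f' z ∈ genericPoints Y' := by
    intro z hz
    have hx := Groth.L20.apply_mem_genericPoints g' hz
    obtain ⟨Q, a, _, _, ha, hb⟩ := key (g' z) (hbij.mapsTo hx)
    obtain ⟨q, rfl⟩ := ha.ge (rfl : g' z = g' z)
    rw [Groth.L20.mem_genericPoints_iff] at hz ⊢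
    intro w hw
    have hy : g w = f (g' (a q)) := by
      refine (Groth.L20.mem_genericPoints_iff _).1 (hbij.mapsTo hx) _ ?_
      rw [← hgen]
      exact hw.map g.continuous
    obtain ⟨r, rfl⟩ := hb.ge hy
    have hr : r ⤳ q := (a ≫ f').isEmbedding.isInducing.specializes_iff.1
      (by rw [Scheme.Hom.comp_apply a f' q]; exact hw)
    rw [Scheme.Hom.comp_apply, hz _ (hr.map a.continuous)]
  have huniq : ∀ w ∈ genericPoints Y', ∀ z z' : X', f' z = w → f' z' = w → z = z' := by
    intro w hw z z' hz hz'
    have hy := Groth.L20.apply_mem_genericPoints g hw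
    have h1 : f (g' z) = g w := by rw [← hgen, hz]
    have h2 : f (g' z') = g w := by rw [← hgen, hz']
    obtain ⟨Q, a, _, _, ha, -⟩ := key (g' z) (h1 ▸ hy)
    obtain ⟨q, rfl⟩ := ha.ge (rfl : g' z = g' z)
    obtain ⟨q', rfl⟩ := ha.ge ((hfib _ hy).1 _ _ h2 h1)
    exact congrArg a ((a ≫ f').isEmbedding.injective
      (by rw [Scheme.Hom.comp_apply, Scheme.Hom.comp_apply, hz, hz']))
  refine ⟨⟨hY, fun z hz z' hz' e => huniq _ (hY z hz) z z' rfl e.symm, fun w hw => ?_⟩,
    fun w hw => ⟨huniq w hw, fun z hz => ?_⟩⟩
  · have hy := Groth.L20.apply_mem_genericPoints g hw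
    obtain ⟨x, hx, hxw⟩ := hbij.surjOn hy
    obtain ⟨z, hz, hzw⟩ := Scheme.exists_preimage_of_isPullback sq x w hxw
    obtain ⟨ξ, hξ, hξz⟩ := Groth.L20.exists_genericPoint_specializes z
    refine ⟨ξ, hξ, ((Groth.L20.mem_genericPoints_iff _).1 hw _ ?_)⟩
    rw [← hzw]
    exact hξz.map f'.continuous
  · have h1 : f (g' z) = g w := by rw [← hgen, hz]
    obtain ⟨Q, a, _, _, ha, -⟩ := key (g' z) (h1 ▸ Groth.L20.apply_mem_genericPoints g hw)
    obtain ⟨q, rfl⟩ := ha.ge (rfl : g' z = g' z)
    have hb := Groth.L22.FibreDim.residueFieldMap_bijective (a ≫ f') q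
    erw [Scheme.residueFieldMap_comp] at hb
    refine ⟨RingHom.injective _, fun v => ?_⟩
    obtain ⟨v', hv'⟩ := hb.2 ((a.residueFieldMap q).hom v)
    exact ⟨v', (Groth.L22.FibreDim.residueFieldMap_bijective a q).1 hv'⟩

end Groth.Agent.S5864
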