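import Groth.Statements.S5867
import Groth.Agent.L19.ZClos.Criteria
import Groth.Agent.L19.Ass.Basic
import Groth.Agent.L16.Rees.RelVanish
import Groth.Agent.L16.QcqsPush

set_option autoImplicit false
set_option backward.isDefEq.respectTransparency.types false
set_option backward.isDefEq.respectTransparency false
set_option linter.style.haveILetI false
universe u
open ZClos

namespace Groth.Agent.S5867

open CategoryTheory CategoryTheory.Limits AlgebraicGeometry in
/-- a) ⇒ d): for a locally Noetherian scheme X, a subset Z of X stable under specialization and a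
coherent O_X-module F none of whose associated points lies in Z: if H⁰_{X/Z}(F) is coherent, then
for every closed subset T of X contained in Z the direct image i_*(F|X∖T) along the inclusion i : X
∖ T → X is coherent. -/
theorem result (X : Scheme.{u}) [IsLocallyNoetherian X] (Z : Set X)
    (hZ : StableUnderSpecialization Z) (F : X.Modules) (hF : Coh.IsCoh F)
    (hass : ∀ x ∈ AssSch.Ass F, x ∉ Z) (hH : Coh.IsCoh ((ZClos.H0 Z).obj F)) (T : ZClos.Cl Z) :
    Coh.IsCoh ((ZClos.resPush T.U).obj F) := by
  haveI : Coh.IsQCoh F := hF.1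
  haveI : QuasiCompact T.U.ι := inferInstance
  haveI : Coh.IsQCoh (F.restrict T.U.ι) := Scheme.Modules.isQuasicoherent_restrictFunctor _ F
  haveI : Coh.IsQCoh ((ZClos.resPush T.U).obj F) := Groth.L16.QcqsPush.isQCoh_push (F.restrict T.U.ι) T.U.ι
  let a : (ZClos.resPush T.U).obj F ⟶ (ZClos.H0 Z).obj F := colimit.ι ((ZClos.diagram Z).obj F) T
  have zero_of_germs : ∀ (O : X.Opens) (r : Γ(F, O)),
      (∀ (y : X) (hy : y ∈ O), y ∉ Z → F.presheaf.germ O y hy r = 0) → r = 0 := by
    intro O r h
    refine Groth.L19.ZClos.section_ext fun x hx => ?_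
    rw [map_zero]
    obtain ⟨B, hB, hxB, hBO⟩ := exists_isAffineOpen_mem_and_subset (x := x) (U := O) hx
    have hBO' : B ≤ O := SetLike.coe_subset_coe.1 hBO
    have h0 : Groth.L18.Frame.rs F hBO' r = 0 := by
      by_contra hne
      obtain ⟨y, hy, hyA, hy0⟩ := Groth.L19.Ass.exists_ass_germ_ne_zero F hB hne
      exact hy0 ((Groth.L19.ZClos.germ_rs' hBO' hy r).trans (h y (hBO' hy) (hass y hyA)))
    rw [← Groth.L19.ZClos.germ_rs' hBO' hxB r, h0, map_zero]
  haveI : Mono a := Groth.L19.ZClos.mono_of_app_injective a fun W => (injective_iff_map_eq_zero _).2 fun r hr => by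
    have h0 : Groth.L18.Frame.rs F (Groth.L19.ZClos.image_eq T W).ge (show Γ(F, T.U.ι ''ᵁ T.U.ι ⁻¹ᵁ W) from r) = 0 :=
      zero_of_germs _ _ fun y hy hyZ => by
        refine (Groth.L19.ZClos.bijective_rho_stalk F hyZ).1 (Eq.trans ?_ (map_zero _).symm)
        refine (Groth.L19.ZClos.germ_ι F T r hy).symm.trans ?_
        exact (congrArg _ hr).trans (map_zero _)
    exact (Groth.L19.ZClos.bijective_rs F (Groth.L19.ZClos.image_eq T W).symm).1 (h0.trans (map_zero _).symm)
  exact Groth.L16.Rees.RelVanish.isCoh_of_mono a hH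

end Groth.Agent.S5867
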