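import Groth.Statements.S5868
import Groth.Agent.L19.ZClos.Finite
import Groth.Agent.L19.ZClos.Codim
import Groth.Agent.L16.CohSupport
import Groth.Agent.S5858
import Groth.Agent.S2666

set_option autoImplicit false
set_option backward.isDefEq.respectTransparency.types false
set_option backward.isDefEq.respectTransparency false
set_option linter.style.haveILetI false
universe u
open ZClos

namespace Groth.Agent.S5868

open CategoryTheory CategoryTheory.Limits AlgebraicGeometry in
/-- d) ⇒ a), second sufficient condition: let X be a locally Noetherian scheme, Z a subset of X stable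
under specialization and F a coherent O_X-module none of whose associated points lies in Z. Assume
that for every affine open V of X with ring A and every associated point x of F in V, with prime
ideal p ⊂ A, the domain A/p is universally catenary and N-1 (its integral closure is a finite
module); that is, the reduced closed subschemes on the closures of the associated points of F are
universally catenary with finite normalization. If, for a directed family of closed subsets T of X
contained in Z and covering Z, each direct image i_*(F|X∖T) is coherent, then H⁰_{X/Z}(F) is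
coherent. (The published statement also allows, in place of the condition on the closures of the
associated points, that X be locally immersible in a regular scheme; this row omits that
alternative.) -/
theorem result (X : Scheme.{u}) [IsLocallyNoetherian X] (Z : Set X)
    (hZ : StableUnderSpecialization Z) (F : X.Modules) (hF : Coh.IsCoh F)
    (hass : ∀ x ∈ AssSch.Ass F, x ∉ Z)
    (hX : ∀ (V : X.Opens) (hV : IsAffineOpen V) (x : X) (hxV : x ∈ V), x ∈ AssSch.Ass F →
        CAlg.IsUniversallyCatenary (Γ(X, V) ⧸ (hV.primeIdealOf ⟨x, hxV⟩).asIdeal) ∧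
          CAlg.IsN1 (Γ(X, V) ⧸ (hV.primeIdealOf ⟨x, hxV⟩).asIdeal))
    (𝒯 : Set (ZClos.Cl Z)) (hdir : DirectedOn (· ≤ ·) 𝒯) (hcov : ∀ z ∈ Z, ∃ T ∈ 𝒯, z ∈ (T.1 : Set X))
    (hd : ∀ T ∈ 𝒯, Coh.IsCoh ((ZClos.resPush T.U).obj F)) :
    Coh.IsCoh ((ZClos.H0 Z).obj F) := by
  haveI : Coh.IsQCoh F := hF.1
  refine Groth.L19.ZClos.isCoh_H0_of_cover F hZ hF fun p => ?_
  obtain ⟨V, hV, hpV, -⟩ := exists_isAffineOpen_mem_and_subset (x := p) (U := (⊤ : X.Opens)) trivial
  refine ⟨V, hV, hpV, fun x hx hxZ => ?_⟩
  haveI : IsNoetherianRing Γ(X, V) := IsLocallyNoetherian.component_noetherian ⟨V, hV⟩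
  haveI := x.isPrime
  have hw := Groth.L19.Ass.fromSpec_mem hV x
  have hwA : hV.fromSpec x ∈ AssSch.Ass F := Groth.L19.Ass.fromSpec_mem_ass F hV hx
  refine ⟨fun y hy hxy => ?_, ?_⟩
  · obtain ⟨T, hT, hyT⟩ := hcov _ hy
    have hvV := Groth.L19.Ass.fromSpec_mem hV y
    have hsp : hV.fromSpec x ⤳ hV.fromSpec y :=
      ((PrimeSpectrum.le_iff_specializes x y).1 hxy).map hV.fromSpec.continuous
    let t : ZClos.Cl (T.1 : Set X) := ⟨T.1, subset_rfl⟩
    have htop : IsTerminal t := IsTerminal.ofUniqueHom (fun a => homOfLE (show a ≤ t from fun z hz => a.2 hz))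
      fun _ _ => Subsingleton.elim _ _
    have hcoh : Coh.IsCoh ((ZClos.H0 (T.1 : Set X)).obj F) :=
      Groth.L16.CohSupport.isCoh_of_iso ((colimit.isoColimitCocone ⟨_, colimitOfDiagramTerminal htop
        ((ZClos.diagram (T.1 : Set X)).obj F)⟩).symm) (hd T hT)
    have h2 := Groth.Agent.S5858.result X (T.1 : Set X) (fun _ _ h ha => h.mem_closed T.1.isClosed ha) F hF hcoh
      (hV.fromSpec x) hwA (fun h => hass _ hwA (T.2 h)) (hV.fromSpec y) hyT hsp
    exact Groth.L19.ZClos.height_quotient_of_ringKrullDim hV hw hvV hsp x y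
      (Groth.L19.Ass.primeIdealOf_fromSpec hV x hw) (Groth.L19.Ass.primeIdealOf_fromSpec hV y hvV) h2
  · have h := hX V hV (hV.fromSpec x) hw hwA
    rw [Groth.L19.Ass.primeIdealOf_fromSpec hV x hw] at h
    exact Groth.Agent.S2666.result _ h.1 h.2

end Groth.Agent.S5868
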