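import Groth.Statements.S5869
import Groth.Agent.L19.ZClos.Finite
import Groth.Agent.L19.ZClos.SpecChart
import Groth.Agent.L19.ZClos.HullClosure

set_option autoImplicit false
set_option backward.isDefEq.respectTransparency.types false
set_option backward.isDefEq.respectTransparency false
set_option linter.style.haveILetI false
universe u
open ZClos

namespace Groth.Agent.S5869

open CategoryTheory CategoryTheory.Limits AlgebraicGeometry in
/-- a) ⇔ b): for a Noetherian ring A with X = Spec A, the following are equivalent: a) for every prime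
ideal q of A, writing B = A/q, the ring B^(1) (intersection of the localizations of B at its
height-one primes) is a finite B-algebra; b) for every finite A-module M and every subset Z of X
stable under specialization such that, for every associated prime p of M not in Z and every prime p'
∈ Z containing p, the image of p' in A/p has height at least 2, the Z-closure H⁰_{X/Z} of the module
M~ is coherent. -/
theorem result (A : Type u) [CommRing A] [IsNoetherianRing A] :
    (∀ (q : Ideal A) [q.IsPrime], EGA4.HeightOneHullFinite (A ⧸ q)) ↔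
      ∀ (M : Type u) [AddCommGroup M] [Module A M] [Module.Finite A M]
        (Z : Set (PrimeSpectrum A)), StableUnderSpecialization Z →
        (∀ x : PrimeSpectrum A, x.asIdeal ∈ associatedPrimes A M → x ∉ Z →
          ∀ y ∈ Z, x.asIdeal ≤ y.asIdeal → (2 : ℕ∞) ≤ (y.asIdeal.map (Ideal.Quotient.mk x.asIdeal)).height) →
        Coh.IsCoh ((ZClos.H0 (X := Spec (CommRingCat.of A)) Z).obj (EGA4.tildeOf A M)) := by
  haveI : IsNoetherianRing (CommRingCat.of A) := ‹IsNoetherianRing A›
  haveI : IsLocallyNoetherian (Spec (CommRingCat.of A)) := inferInstance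
  constructor
  · intro ha M _ _ _ Z hZ hc
    haveI : Module.Finite (CommRingCat.of A) (ModuleCat.of (CommRingCat.of A) M) := ‹Module.Finite A M›
    have hF : Coh.IsCoh (EGA4.tildeOf A M) :=
      Groth.L03.QcOpenExtend.isCoh_tilde (A := CommRingCat.of A) (ModuleCat.of (CommRingCat.of A) M)
    haveI : Coh.IsQCoh (EGA4.tildeOf A M) := hF.1
    refine Groth.L19.ZClos.isCoh_H0_of_cover (EGA4.tildeOf A M) hZ hF fun p =>
      ⟨⊤, isAffineOpen_top _, trivial, fun x hx hxZ => ?_⟩
    have hq := Groth.L19.ZClos.mem_associatedPrimes_of_top M x hx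
    haveI := x.isPrime
    let R := CommRingCat.of A
    let q := (isAffineOpen_top (Spec R)).fromSpec x
    haveI : q.asIdeal.IsPrime := q.isPrime
    have hcong := Groth.L19.ZClos.conditions_congr (A := A) (Scheme.ΓSpecIso R).commRingCatIsoToRingEquiv q.asIdeal
      x.asIdeal (Groth.L19.ZClos.asIdeal_of_top_chart R x)
    refine ⟨fun y hy hxy => ?_, hcong.1 (ha q.asIdeal)⟩
    rw [hcong.2 ((isAffineOpen_top (Spec R)).fromSpec y).asIdeal y.asIdeal
      (Groth.L19.ZClos.asIdeal_of_top_chart R y)]
    exact hc q hq hxZ _ hy ((PrimeSpectrum.le_iff_specializes _ _).2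
      (((PrimeSpectrum.le_iff_specializes x y).1 hxy).map (isAffineOpen_top (Spec R)).fromSpec.continuous))
  · intro hb q hq
    refine Groth.L19.ZClos.heightOneHullFinite_of_isCoh A q (hb (A ⧸ q) _ ?_ ?_)
    · intro y z hyz hy
      have hle : y.asIdeal ≤ z.asIdeal := (PrimeSpectrum.le_iff_specializes y z).2 hyz
      exact ⟨hy.1.trans hle, hy.2.trans (Ideal.height_mono (Ideal.map_mono hle))⟩
    · intro x hx hxZ y hy hxy
      have hxq : x.asIdeal = q := by
        rwa [associatedPrimes.eq_singleton_of_isPrimary (Ideal.IsPrime.isPrimary hq), hq.radical,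
          Set.mem_singleton_iff] at hx
      rw [hxq]
      exact hy.2

end Groth.Agent.S5869
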