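import Groth.Statements.S5870
import Groth.Agent.L19.ZClos.Criteria

set_option autoImplicit false
set_option backward.isDefEq.respectTransparency.types false
set_option backward.isDefEq.respectTransparency false
set_option linter.style.haveILetI false
universe u
open ZClos

namespace Groth.Agent.S5870

open CategoryTheory CategoryTheory.Limits AlgebraicGeometry in
/-- For a locally Noetherian scheme X, a subset Z of X stable under specialization and an arbitrary
O_X-module F, the Z-closure H⁰_{X/Z}(F) is zero if and only if the support of F is contained in Z,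
that is, the stalk of F at every point outside Z is zero. -/
theorem result (X : Scheme.{u}) [IsLocallyNoetherian X] (Z : Set X)
    (hZ : StableUnderSpecialization Z) (F : X.Modules) :
    IsZero ((ZClos.H0 Z).obj F) ↔ ∀ x : X, x ∉ Z → Subsingleton (F.presheaf.stalk x) := by
  constructor
  · intro h x hx
    have hb := Groth.L19.ZClos.bijective_rho_stalk F hx
    haveI : Subsingleton ((Groth.L21.Mod.stalkF X x).obj ((ZClos.H0 Z).obj F)) :=
      (Groth.L21.Mod.isZero_iff_stalk_subsingleton _).1 h x
    exact hb.1.subsingleton
  · intro h
    refine (Groth.L21.Mod.isZero_iff_stalk_subsingleton _).2 fun x => ⟨?_⟩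
    suffices ∀ a : ((ZClos.H0 Z).obj F).presheaf.stalk x, a = 0 from fun a b => (this a).trans (this b).symm
    intro a
    obtain ⟨W, hxW, σ, rfl⟩ := TopCat.Presheaf.exists_germ_eq ((ZClos.H0 Z).obj F).presheaf a
    have h0 : σ = 0 := Groth.L19.ZClos.eq_zero_of_germs hZ F σ fun y hy hyZ => by
      haveI : Subsingleton ((Groth.L21.Mod.stalkF X y).obj F) := h y hyZ
      obtain ⟨z, hz⟩ := (Groth.L19.ZClos.bijective_rho_stalk F hyZ).2 (((ZClos.H0 Z).obj F).presheaf.germ W y hy σ)
      rw [← hz]
      exact (congrArg _ (Subsingleton.elim z 0)).trans (map_zero _)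
    rw [h0]
    exact map_zero _

end Groth.Agent.S5870
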