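import Groth.Statements.S5872
import Groth.Agent.L02.FibDepth.ConstrResults
import Groth.Agent.L20.GenGeomRed
-- import your own Groth.Agent.* helpers here

set_option autoImplicit false
universe u
open CategoryTheory AlgebraicGeometry
open Cons9

namespace Groth.Agent.S5872

/-- Let S be an integral Noetherian scheme with generic point η, f : X ⟶ S a morphism of finite type and
F a coherent O_X-module; for s in S let F_s be the pullback of F to the scheme-theoretic fibre X_s.
If F_η has no embedded associated point, then there is an open neighbourhood U of η such that for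
every s in U the module F_s has no embedded associated point. -/
theorem result {X S : Scheme.{u}} [IsIntegral S] [IsNoetherian S]
    (f : X ⟶ S) [LocallyOfFiniteType f] [QuasiCompact f]
    (F : X.Modules) [Coh.IsQCoh F] (hF : CohB1.IsFP F)
    (hη : AssSch.NoEmbedded ((Scheme.Modules.pullback (f.fiberι (genericPoint S))).obj F)) :
    ∃ U : S.Opens, genericPoint S ∈ U ∧
      ∀ s ∈ U, AssSch.NoEmbedded ((Scheme.Modules.pullback (f.fiberι s)).obj F) := by
  haveI : LocallyOfFinitePresentation f := inferInstance
  obtain ⟨U, hU, hUo, hηU⟩ := mem_nhds_iff.1 (Groth.L20.GenGeomRed.mem_nhds_of_isLocallyConstructible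
    (L02.FibDepth.isLocallyConstructible_noEmbedded f F hF) hη)
  exact ⟨⟨U, hUo⟩, hηU, fun s hs => hU hs⟩

end Groth.Agent.S5872
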