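import Groth.Statements.S5873
import Groth.Agent.L06.AssGeneric

set_option autoImplicit false
set_option maxSynthPendingDepth 3
set_option linter.style.haveILetI false
universe u
open CategoryTheory AlgebraicGeometry
open Cons9 Groth.L06.AssGeneric L02.FibDepth

namespace Groth.Agent.S5873

/-- Let S be an integral Noetherian scheme with generic point η, f : X ⟶ S a morphism of finite type and
F a coherent O_X-module; for s in S write F_s for the pullback of F to the scheme-theoretic fibre
X_s. For an associated point x of F_η let Z_x denote the closure in X of the image of x, and (Z_x)_s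
its trace on X_s (the preimage under X_s ⟶ X). Then there is an open neighbourhood U of η such that
for every s in U: (a) the associated points of F_s are exactly the maximal points (those admitting
no proper generization inside the set) of the sets (Z_x)_s, for x running over the associated points
of F_η, so that the associated prime cycles of F_s are the irreducible components of the (Z_x)_s;
(b) for distinct associated points x, x' of F_η the maximal points of (Z_x)_s and of (Z_x')_s are
pairwise distinct; (c) for every associated point x of F_η and every maximal point z of (Z_x)_s, the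
point z is a maximal associated point of F_s (no other associated point of F_s generizes it) if and
only if x is a maximal associated point of F_η. -/
theorem result {X S : Scheme.{u}} [IsIntegral S] [IsNoetherian S]
    (f : X ⟶ S) [LocallyOfFiniteType f] [QuasiCompact f]
    (F : X.Modules) [Coh.IsQCoh F] (hF : CohB1.IsFP F) :
    ∃ U : S.Opens, genericPoint S ∈ U ∧ ∀ s ∈ U,
      (AssSch.Ass ((Scheme.Modules.pullback (f.fiberι s)).obj F) =
          ⋃ x ∈ AssSch.Ass ((Scheme.Modules.pullback (f.fiberι (genericPoint S))).obj F),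
            {z : ↥(f.fiber s) | z ∈ ((f.fiberι s).base ⁻¹' closure {(f.fiberι (genericPoint S)).base x}) ∧ ∀ z' ∈ ((f.fiberι s).base ⁻¹' closure {(f.fiberι (genericPoint S)).base x}), z' ⤳ z → z' = z}) ∧
      (∀ x ∈ AssSch.Ass ((Scheme.Modules.pullback (f.fiberι (genericPoint S))).obj F), ∀ x' ∈ AssSch.Ass ((Scheme.Modules.pullback (f.fiberι (genericPoint S))).obj F), x ≠ x' →
          Disjoint {z : ↥(f.fiber s) | z ∈ ((f.fiberι s).base ⁻¹' closure {(f.fiberι (genericPoint S)).base x}) ∧ ∀ z' ∈ ((f.fiberι s).base ⁻¹' closure {(f.fiberι (genericPoint S)).base x}), z' ⤳ z → z' = z}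
            {z : ↥(f.fiber s) | z ∈ ((f.fiberι s).base ⁻¹' closure {(f.fiberι (genericPoint S)).base x'}) ∧ ∀ z' ∈ ((f.fiberι s).base ⁻¹' closure {(f.fiberι (genericPoint S)).base x'}), z' ⤳ z → z' = z}) ∧
      (∀ x ∈ AssSch.Ass ((Scheme.Modules.pullback (f.fiberι (genericPoint S))).obj F),
        ∀ z ∈ {z : ↥(f.fiber s) | z ∈ ((f.fiberι s).base ⁻¹' closure {(f.fiberι (genericPoint S)).base x}) ∧ ∀ z' ∈ ((f.fiberι s).base ⁻¹' closure {(f.fiberι (genericPoint S)).base x}), z' ⤳ z → z' = z},
          ((∀ y ∈ AssSch.Ass ((Scheme.Modules.pullback (f.fiberι s)).obj F), y ⤳ z → y = z) ↔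
            (∀ y ∈ AssSch.Ass ((Scheme.Modules.pullback (f.fiberι (genericPoint S))).obj F), y ⤳ x → y = x))) := by


  haveI : LocallyOfFinitePresentation f := inferInstance
  obtain ⟨U, hU, hmain⟩ := exists_open_main f F hF
  refine ⟨U, hU, fun s hs => ?_⟩
  have hfs : ∀ (t : S) (w : ↥(f.fiber t)), f (f.fiberι t w) = t := fun t w =>
    (f.range_fiberι t).subset ⟨w, rfl⟩
  have hass : ∀ (t : S) (w : ↥(f.fiber t)),
      w ∈ AssSch.Ass ((Scheme.Modules.pullback (f.fiberι t)).obj F) ↔ f.fiberι t w ∈ (pd f F hF).Ass := fun t w =>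
    (forall_fiber_iff (f := f) (P := fun t w =>
      w ∈ AssSch.Ass ((Scheme.Modules.pullback (f.fiberι t)).obj F) ↔ f.fiberι t w ∈ (pd f F hF).Ass) t).2
      (fun z _ => by rw [f.fiberι_asFiber]; exact mem_ass_fiber_iff f F hF z) w
  have hmem : ∀ x : ↥(f.fiber (genericPoint S)),
      x ∈ AssSch.Ass ((Scheme.Modules.pullback (f.fiberι (genericPoint S))).obj F) ↔
        f.fiberι (genericPoint S) x ∈ AssGen f F hF := fun x =>
    (hass _ x).trans ⟨fun h => ⟨h, hfs _ x⟩, fun h => h.1⟩
  have hlift : ∀ y ∈ AssGen f F hF, ∃ x : ↥(f.fiber (genericPoint S)), f.fiberι (genericPoint S) x = y := fun y hy =>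
    (f.range_fiberι _).ge hy.2
  have hmx : ∀ (x : ↥(f.fiber (genericPoint S))) (z : ↥(f.fiber s)),
      (z ∈ {z : ↥(f.fiber s) | z ∈ ((f.fiberι s).base ⁻¹' closure {(f.fiberι (genericPoint S)).base x}) ∧ ∀ z' ∈ ((f.fiberι s).base ⁻¹' closure {(f.fiberι (genericPoint S)).base x}), z' ⤳ z → z' = z}) ↔
        MaxIn f (closure {f.fiberι (genericPoint S) x}) (f.fiberι s z) := by
    intro x z
    refine ⟨fun h => ⟨h.1, fun w hw hwf hsp => ?_⟩, fun h => ⟨h.1, fun z' hz' hsp => ?_⟩⟩
    · obtain ⟨v, rfl⟩ := (f.range_fiberι s).ge (show w ∈ f ⁻¹' {s} from hwf.trans (hfs s z))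
      exact congrArg (f.fiberι s) (h.2 v hw ((f.fiberι s).isEmbedding.isInducing.specializes_iff.1 hsp))
    · exact (f.fiberι s).isEmbedding.injective
        (h.2 _ hz' ((hfs s z').trans (hfs s z).symm) (hsp.map (f.fiberι s).continuous))
  refine ⟨Set.ext fun z => ?_, fun x hx x' hx' hne => ?_, fun x hx z hz => ?_⟩
  · simp only [Set.mem_iUnion, exists_prop]
    rw [hass, ((hmain _ ((hfs s z).symm ▸ hs)).1)]
    constructor
    · rintro ⟨y, hy, hm⟩
      obtain ⟨x, rfl⟩ := hlift y hy
      exact ⟨x, (hmem x).2 hy, (hmx x z).2 hm⟩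
    · rintro ⟨x, hx, hm⟩
      exact ⟨_, (hmem x).1 hx, (hmx x z).1 hm⟩
  · rw [Set.disjoint_left]
    intro z hz hz'
    exact hne ((f.fiberι _).isEmbedding.injective ((hmain _ ((hfs s z).symm ▸ hs)).2.1 _ ((hmem x).1 hx) _
      ((hmem x').1 hx') ((hmx x z).1 hz) ((hmx x' z).1 hz')))
  · have h := (hmain _ ((hfs s z).symm ▸ hs)).2.2 _ ((hmem x).1 hx) ((hmx x z).1 hz)
    refine Iff.trans ?_ (h.trans ?_)
    · constructor
      · intro hl y hy hyf hsp
        obtain ⟨v, rfl⟩ := (f.range_fiberι s).ge (show y ∈ f ⁻¹' {s} from hyf.trans (hfs s z))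
        exact congrArg (f.fiberι s) (hl v ((hass s v).2 hy) ((f.fiberι s).isEmbedding.isInducing.specializes_iff.1 hsp))
      · intro hl v hv hsp
        exact (f.fiberι s).isEmbedding.injective
          (hl _ ((hass s v).1 hv) ((hfs s v).trans (hfs s z).symm) (hsp.map (f.fiberι s).continuous))
    · constructor
      · intro hl v hv hsp
        exact (f.fiberι _).isEmbedding.injective (hl _ ((hmem v).1 hv) (hsp.map (f.fiberι _).continuous))
      · intro hl y hy hsp
        obtain ⟨v, rfl⟩ := hlift y hy
        exact congrArg (f.fiberι _) (hl v ((hmem v).2 hy) ((f.fiberι _).isEmbedding.isInducing.specializes_iff.1 hsp))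

end Groth.Agent.S5873
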