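import Groth.Statements.S5911
import Groth.Agent.L07.SepFlat

set_option autoImplicit false
universe u
open TensorProduct
open EGA43

namespace Groth.Agent.S5911

/-- Let A be a Noetherian ring, J an ideal of A and M an A-module which is ideally separated for the
J-adic topology (for every ideal a of A the module a ⊗_A M is J-adically separated). Let (p_i) be a
finite family of prime ideals of A containing J, let J_n be the intersection of the symbolic powers
p_i^{(n)} (preimages in A of the n-th powers of the maximal ideals of the local rings A_{p_i}), and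
assume every power J^n contains some J_m. Then M is flat if and only if (A/J) ⊗_A M is flat over A/J
and M_{p_i} is flat over A_{p_i} for every i. -/
theorem result {A : Type u} [CommRing A] [IsNoetherianRing A]
    (J : Ideal A) (M : Type u) [AddCommGroup M] [Module A M]
    (hsep : ∀ a : Ideal A, IsHausdorff J (↥a ⊗[A] M))
    {r : ℕ} (p : Fin r → Ideal A) [∀ i, (p i).IsPrime] (hp : ∀ i, J ≤ p i)
    (htop : ∀ n : ℕ, ∃ m : ℕ,
      ⨅ i, Ideal.comap (algebraMap A (Localization.AtPrime (p i))) (IsLocalRing.maximalIdeal (Localization.AtPrime (p i)) ^ m) ≤ J ^ n) :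
    Module.Flat A M ↔
      Module.Flat (A ⧸ J) ((A ⧸ J) ⊗[A] M) ∧
        ∀ i, Module.Flat (Localization.AtPrime (p i)) (LocalizedModule (p i).primeCompl M) := by
  classical
  refine ⟨fun h => ⟨inferInstance, fun i => ?_⟩, fun h => ?_⟩
  · exact Module.Flat.of_linearEquiv (LocalizedModule.equivTensorProduct (p i).primeCompl M)
  obtain ⟨hJflat, hloc⟩ := h
  haveI := hJflat
  let I : ℕ → Ideal A := fun k => ⨅ i, Ideal.comap (algebraMap A (Localization.AtPrime (p i)))
    (IsLocalRing.maximalIdeal (Localization.AtPrime (p i)) ^ k)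
  have hmem : ∀ k a, a ∈ I k ↔ ∀ i, algebraMap A (Localization.AtPrime (p i)) a ∈
      IsLocalRing.maximalIdeal (Localization.AtPrime (p i)) ^ k := fun k a => by
    simp only [I, Submodule.mem_iInf, Ideal.mem_comap]
  refine Groth.L07.SepFlat.flat_of_ideallySeparated J hsep fun n => ?_
  obtain ⟨m, hm⟩ := htop n
  refine ⟨I m, hm, ?_⟩
  refine Groth.L07.SepFlat.flat_quotient_of_chain J I
    (fun a b hab x hx => (hmem a x).mpr fun i => Ideal.pow_le_pow_right hab ((hmem b x).mp hx i))
    (fun k => ?_) ?_ m {t | ∀ q ∈ Finset.univ.image p, t ∉ q} ?_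
    (Groth.L07.SepFlat.killed_of_flat_localization M (Finset.univ.image p) ?_ ?_)
  · rw [Ideal.mul_le]
    intro x hx y hy
    refine (hmem _ _).mpr fun i => ?_
    rw [map_mul, pow_succ']
    exact Ideal.mul_mem_mul (by simpa using (hmem 1 x).mp hx i) ((hmem k y).mp hy i)
  · intro x hx
    refine (hmem _ _).mpr fun i => ?_
    rw [pow_one, IsLocalization.AtPrime.to_map_mem_maximal_iff _ (p i)]
    exact hp i hx
  · intro t ht k _ _ a _ hta
    refine (hmem _ _).mpr fun i => ?_
    have hu : IsUnit (algebraMap A (Localization.AtPrime (p i)) t) :=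
      IsLocalization.map_units _ (⟨t, ht _ (Finset.mem_image_of_mem p (Finset.mem_univ i))⟩ : (p i).primeCompl)
    have h1 := (hmem _ _).mp hta i
    rw [map_mul] at h1
    exact (Ideal.unit_mul_mem_iff_mem _ hu).mp h1
  · intro q hq
    obtain ⟨i, -, rfl⟩ := Finset.mem_image.mp hq
    infer_instance
  · intro q _ hq
    obtain ⟨i, -, hi⟩ := Finset.mem_image.mp hq
    subst hi
    exact hloc i

end Groth.Agent.S5911
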