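import Groth.Statements.S5912
import Groth.Agent.L07.SepFlat

set_option autoImplicit false
universe u
open TensorProduct
open EGA43

namespace Groth.Agent.S5912

/-- Let A be a Noetherian ring, J an ideal of A and M an A-module which is ideally separated for the
J-adic topology (for every ideal a of A the module a ⊗_A M is J-adically separated), and suppose
every quotient J^k/J^{k+1} is a flat (A/J)-module (the associated graded ring of A along J is flat
over A/J). Then M is flat if and only if (A/J) ⊗_A M is flat over A/J and M_p is flat over A_p for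
every associated prime p of the A-module A/J. -/
theorem result {A : Type u} [CommRing A] [IsNoetherianRing A]
    (J : Ideal A) (M : Type u) [AddCommGroup M] [Module A M]
    (hsep : ∀ a : Ideal A, IsHausdorff J (↥a ⊗[A] M))
    (hgr : ∀ k : ℕ, Module.Flat (A ⧸ J) ((A ⧸ J) ⊗[A] ↥(J ^ k))) :
    Module.Flat A M ↔
      Module.Flat (A ⧸ J) ((A ⧸ J) ⊗[A] M) ∧
        ∀ q : associatedPrimes A (A ⧸ J),
          haveI : q.1.IsPrime := IsAssociatedPrime.isPrime q.2
          Module.Flat (Localization.AtPrime q.1) (LocalizedModule q.1.primeCompl M) := by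
  classical
  refine ⟨fun h => ⟨inferInstance, fun p => ?_⟩, fun h => ?_⟩
  · haveI : p.1.IsPrime := IsAssociatedPrime.isPrime p.2
    exact Module.Flat.of_linearEquiv (LocalizedModule.equivTensorProduct p.1.primeCompl M)
  obtain ⟨hJflat, hloc⟩ := h
  haveI := hJflat
  have hfin := associatedPrimes.finite A (A ⧸ J)
  have hreg : ∀ t, (∀ p ∈ hfin.toFinset, t ∉ p) → IsSMulRegular (A ⧸ J) t := by
    intro t ht
    by_contra h
    have : t ∈ ⋃ p ∈ associatedPrimes A (A ⧸ J), (p : Set A) := by
      rw [biUnion_associatedPrimes_eq_compl_regular]; exact h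
    simp only [Set.mem_iUnion] at this
    obtain ⟨p, hp, htp⟩ := this
    exact ht p (hfin.mem_toFinset.mpr hp) htp
  refine Groth.L07.SepFlat.flat_of_ideallySeparated J hsep fun n => ⟨J ^ n, le_rfl, ?_⟩
  refine Groth.L07.SepFlat.flat_quotient_of_chain J (fun k => J ^ k)
    (fun a b hab => Ideal.pow_le_pow_right hab) (fun k => by rw [pow_one, ← pow_succ'])
    (by rw [pow_one]) n {t | ∀ p ∈ hfin.toFinset, t ∉ p} ?_
    (Groth.L07.SepFlat.killed_of_flat_localization M hfin.toFinset
      (fun p hp => IsAssociatedPrime.isPrime (hfin.mem_toFinset.mp hp))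
      (fun p _ hp => hloc ⟨p, hfin.mem_toFinset.mp hp⟩))
  intro t ht k _ _ a ha hta
  haveI := hgr k
  let X := TensorProduct A (A ⧸ J) ↥(J ^ k)
  have hinj : Function.Injective (LinearMap.lsmul (A ⧸ J) (A ⧸ J) (Ideal.Quotient.mk J t)) := by
    intro x y hxy
    apply hreg t ht
    obtain ⟨x, rfl⟩ := Ideal.Quotient.mk_surjective x
    obtain ⟨y, rfl⟩ := Ideal.Quotient.mk_surjective y
    exact hxy
  have h1 := Module.Flat.rTensor_preserves_injective_linearMap (M := X) _ hinj
  have h2 : (TensorProduct.mk A (A ⧸ J) ↥(J ^ k) 1 ⟨a, ha⟩ : X) = 0 := by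
    apply (TensorProduct.lid (A ⧸ J) X).symm.injective
    apply h1
    rw [map_zero, map_zero, TensorProduct.lid_symm_apply, LinearMap.rTensor_tmul,
      LinearMap.lsmul_apply, smul_eq_mul, mul_one]
    have h3 : (⟨t * a, (J ^ k).mul_mem_left t ha⟩ : ↥(J ^ k)) ∈
        LinearMap.ker (TensorProduct.mk A (A ⧸ J) ↥(J ^ k) 1) := by
      rw [LinearMap.ker_tensorProductMk, Submodule.mem_smul_top_iff, smul_eq_mul, ← pow_succ']
      exact hta
    have h4 : (⟨t * a, (J ^ k).mul_mem_left t ha⟩ : ↥(J ^ k)) = t • ⟨a, ha⟩ := rfl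
    rw [h4, LinearMap.mem_ker, map_smul, ← algebraMap_smul (A ⧸ J),
      Ideal.Quotient.algebraMap_eq] at h3
    rw [show Ideal.Quotient.mk J t ⊗ₜ[A ⧸ J] (TensorProduct.mk A (A ⧸ J) ↥(J ^ k) 1 ⟨a, ha⟩ : X) =
      (1 : A ⧸ J) ⊗ₜ[A ⧸ J] (Ideal.Quotient.mk J t • (TensorProduct.mk A (A ⧸ J) ↥(J ^ k) 1 ⟨a, ha⟩ : X))
      by rw [TensorProduct.tmul_smul, TensorProduct.smul_tmul', smul_eq_mul, mul_one]]
    rw [h3, TensorProduct.tmul_zero]
  rw [← LinearMap.mem_ker, LinearMap.ker_tensorProductMk, Submodule.mem_smul_top_iff, smul_eq_mul,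
    ← pow_succ'] at h2
  exact h2

end Groth.Agent.S5912
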