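import Groth.Statements.S7547
import Mathlib.Topology.JacobsonSpace
import Mathlib.Topology.Spectral.Prespectral
import Mathlib.Topology.Separation.Basic

set_option autoImplicit false
set_option linter.style.haveILetI false
universe u
open PtTop

namespace Groth.Agent.S7547

/-- Let X be a Kolmogorov topological space whose quasi-compact opens form a basis for the topology. If
X is not Jacobson, there is a point x ∈ X which is not closed but such that {x} is locally closed. -/
theorem result {X : Type u} [TopologicalSpace X]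
    [T0Space X] [PrespectralSpace X] (hX : ¬ JacobsonSpace X) :
    ∃ x : X, ¬ IsClosed ({x} : Set X) ∧ IsLocallyClosed ({x} : Set X) := by
  rw [jacobsonSpace_iff_locallyClosed] at hX
  push Not at hX
  obtain ⟨Z, hZne, hZ, hZe⟩ := hX
  obtain ⟨U, C, hU, hC, rfl⟩ := hZ
  obtain ⟨x, hxU, hxC⟩ := hZne
  obtain ⟨V, ⟨hVo, hVc⟩, hxV, hVU⟩ := PrespectralSpace.isTopologicalBasis.exists_subset_of_mem_open hxU hU
  haveI : CompactSpace V := isCompact_iff_compactSpace.mp hVc
  obtain ⟨z, hzC, hzcl⟩ := IsClosed.exists_closed_singleton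
    (S := (Subtype.val : V → X) ⁻¹' C) (hC.preimage continuous_subtype_val) ⟨⟨x, hxV⟩, hxC⟩
  refine ⟨z.1, fun h => ?_, ?_⟩
  · have h' : z.1 ∈ U ∩ C ∩ closedPoints X := ⟨⟨hVU z.2, hzC⟩, h⟩
    rw [hZe] at h'
    exact h'
  · have := hzcl.isLocallyClosed.image Topology.IsInducing.subtypeVal
      (by rw [Subtype.range_coe_subtype]; exact hVo.isLocallyClosed)
    rwa [Set.image_singleton] at this

end Groth.Agent.S7547
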