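import Groth.Statements.S5913
import Groth.Agent.S7547
import Groth.Agent.S4861
import Mathlib.AlgebraicGeometry.Morphisms.FiniteType
import Mathlib.AlgebraicGeometry.Morphisms.Immersion
import Mathlib.RingTheory.Spectrum.Prime.Jacobson
import Mathlib.RingTheory.Spectrum.Maximal.Basic
import Mathlib.RingTheory.KrullDimension.Field

set_option autoImplicit false
set_option maxSynthPendingDepth 3
set_option linter.style.haveILetI false
universe u
open CategoryTheory AlgebraicGeometry
open EGA43

namespace Groth.Agent.S5913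

/-- In the locally Noetherian form: a locally Noetherian scheme X is Jacobson if and only if it has no
subscheme isomorphic to the spectrum of a semi-local integral domain of dimension 1, i.e. there is
no immersion Spec R ⟶ X with R an integral domain having finitely many maximal ideals and Krull
dimension 1. -/
theorem result (X : Scheme.{u}) [IsLocallyNoetherian X] :
    JacobsonSpace X ↔
      ∀ (R : CommRingCat.{u}) [IsDomain R] (i : Spec R ⟶ X) [IsImmersion i],
        ¬ (Finite (MaximalSpectrum R) ∧ ringKrullDim R = 1) := by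
  constructor
  · intro hJ R hR i hi ⟨hfin, hdim⟩
    haveI : JacobsonSpace (Spec R) := LocallyOfFiniteType.jacobsonSpace i
    haveI : JacobsonSpace (PrimeSpectrum R) := ‹JacobsonSpace (Spec R)›
    have hcl : (closedPoints (PrimeSpectrum R)).Finite := by
      haveI := hfin
      refine (Set.finite_range (MaximalSpectrum.toPrimeSpectrum (R := R))).subset fun p hp => ?_
      exact ⟨⟨p.asIdeal, (PrimeSpectrum.isClosed_singleton_iff_isMaximal p).mp hp⟩, rfl⟩
    have huniv : closedPoints (PrimeSpectrum R) = Set.univ := by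
      rw [← closure_closedPoints (X := PrimeSpectrum R)]
      refine (IsClosed.closure_eq ?_).symm
      rw [← Set.biUnion_of_singleton (closedPoints (PrimeSpectrum R))]
      exact hcl.isClosed_biUnion fun p hp => hp
    have hbot : (⊥ : Ideal R).IsMaximal := (PrimeSpectrum.isClosed_singleton_iff_isMaximal
      (⟨⊥, Ideal.isPrime_bot⟩ : PrimeSpectrum R)).mp (huniv.ge trivial)
    haveI := Ring.isField_iff_maximal_bot.mpr hbot
    rw [ringKrullDim_eq_zero_of_isField this] at hdim
    exact zero_ne_one hdim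
  · intro h
    by_contra hJ
    obtain ⟨x, hxc, hxlc⟩ := Groth.Agent.S7547.result hJ
    obtain ⟨U₀, C₀, hU₀, hC₀, hUC⟩ := hxlc
    obtain ⟨y, hy, hyx⟩ : ∃ y ∈ closure ({x} : Set X), y ≠ x := by
      by_contra! hne
      exact hxc (closure_subset_iff_isClosed.mp hne)
    obtain ⟨_, ⟨W, hW, rfl⟩, hyW, -⟩ :=
      X.isBasis_affineOpens.exists_subset_of_mem_open (Set.mem_univ y) isOpen_univ
    change X.Opens at W
    replace hW : IsAffineOpen W := hW
    have hsp : x ⤳ y := specializes_iff_mem_closure.mpr hy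
    obtain ⟨p, hp⟩ : x ∈ Set.range hW.fromSpec := by rw [hW.range_fromSpec]; exact hsp.mem_open W.2 hyW
    obtain ⟨q, hq⟩ : y ∈ Set.range hW.fromSpec := by rw [hW.range_fromSpec]; exact hyW
    change PrimeSpectrum Γ(X, W) at p q
    have hpq : p < q := by
      refine lt_of_le_of_ne ?_ fun e => hyx ?_
      · rw [PrimeSpectrum.le_iff_specializes]
        exact hW.fromSpec.isEmbedding.isInducing.specializes_iff.mp (by rw [hp, hq]; exact hsp)
      · rw [← hq, ← hp, e]
    haveI : IsNoetherianRing Γ(X, W) := IsLocallyNoetherian.component_noetherian ⟨W, hW⟩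
    let A := Γ(X, W) ⧸ p.asIdeal
    have hloc : ∃ f : Γ(X, W), f ∉ p.asIdeal ∧ ∀ r : PrimeSpectrum Γ(X, W), p ≤ r → f ∉ r.asIdeal → r = p := by
      have hmem : x ∈ U₀ ∩ C₀ := hUC ▸ Set.mem_singleton x
      obtain ⟨_, ⟨f, rfl⟩, hpf, hf⟩ := PrimeSpectrum.isTopologicalBasis_basic_opens.exists_subset_of_mem_open
        (a := p) (show hW.fromSpec p ∈ U₀ by rw [hp]; exact hmem.1) (hU₀.preimage hW.fromSpec.continuous)
      refine ⟨f, hpf, fun r hr hfr => hW.fromSpec.isEmbedding.injective ?_⟩
      have h1 : hW.fromSpec r ∈ U₀ ∩ C₀ := ⟨hf hfr,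
        Specializes.mem_closed (hp ▸ ((PrimeSpectrum.le_iff_specializes p r).mp hr).map hW.fromSpec.continuous) hC₀ hmem.2⟩
      rw [← hUC] at h1
      exact h1.trans hp.symm
    obtain ⟨f, hfp, hf⟩ := hloc
    have hf0 : Ideal.Quotient.mk p.asIdeal f ≠ 0 := fun e => hfp (Ideal.Quotient.eq_zero_iff_mem.mp e)
    have hfld : IsField (Localization.Away (Ideal.Quotient.mk p.asIdeal f)) := by
      haveI : IsDomain (Localization.Away (Ideal.Quotient.mk p.asIdeal f)) :=
        IsLocalization.isDomain_localization (powers_le_nonZeroDivisors_of_noZeroDivisors hf0)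
      obtain ⟨M, hM⟩ := Ideal.exists_maximal (Localization.Away (Ideal.Quotient.mk p.asIdeal f))
      have hMq : M.comap (algebraMap A (Localization.Away (Ideal.Quotient.mk p.asIdeal f))) = ⊥ := by
        let r : PrimeSpectrum Γ(X, W) := PrimeSpectrum.comap (Ideal.Quotient.mk p.asIdeal)
          (PrimeSpectrum.comap (algebraMap A (Localization.Away (Ideal.Quotient.mk p.asIdeal f))) ⟨M, hM.isPrime⟩)
        have hr : r = p := hf r (fun a ha => show algebraMap A _ (Ideal.Quotient.mk p.asIdeal a) ∈ M by
            rw [Ideal.Quotient.eq_zero_iff_mem.mpr ha, map_zero]; exact zero_mem M)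
          (show f ∉ r.asIdeal from fun hfr => hM.ne_top (M.eq_top_of_isUnit_mem (show algebraMap A _ (Ideal.Quotient.mk p.asIdeal f) ∈ M from hfr) (IsLocalization.Away.algebraMap_isUnit _)))
        refine eq_bot_iff.mpr fun a ha => ?_
        obtain ⟨a, rfl⟩ := Ideal.Quotient.mk_surjective a
        exact Ideal.Quotient.eq_zero_iff_mem.mpr (hr ▸ (show a ∈ r.asIdeal from ha))
      have hMbot : M = ⊥ := by
        rw [← IsLocalization.map_under (Submonoid.powers (Ideal.Quotient.mk p.asIdeal f))
          (Localization.Away (Ideal.Quotient.mk p.asIdeal f)) M, Ideal.under_def, hMq, Ideal.map_bot]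
      exact Ring.isField_iff_maximal_bot.mpr (hMbot ▸ hM)
    have htfae := Groth.Agent.S4861.result A
    have h13 : (∃ g : A, g ≠ 0 ∧ IsField (Localization.Away g)) ↔ (Finite (MaximalSpectrum A) ∧ ringKrullDim A ≤ 1) := htfae.out 0 2
    obtain ⟨hfinA, hdimA⟩ := h13.mp ⟨_, hf0, hfld⟩
    have hdim1 : ringKrullDim A = 1 := by
      refine le_antisymm hdimA ?_
      by_contra hlt
      have hnf : ¬ IsField A := fun hA =>
        hpq.ne (PrimeSpectrum.ext (Ideal.IsMaximal.eq_of_le (Ideal.Quotient.maximal_of_isField _ hA) q.2.ne_top hpq.le))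
      obtain ⟨I, hI, hI'⟩ := Ring.not_isField_iff_exists_ideal_bot_lt_and_lt_top.mp hnf
      obtain ⟨m, hm, hIm⟩ := Ideal.exists_le_maximal I hI'.ne
      haveI : (⊥ : Ideal A).IsPrime := Ideal.isPrime_bot
      have h1 : (1 : WithBot ℕ∞) ≤ ringKrullDim A :=
        Order.LTSeries.length_le_krullDim (RelSeries.cons (RelSeries.singleton _ (⟨m, hm.isPrime⟩ : PrimeSpectrum A))
          ⟨⊥, Ideal.isPrime_bot⟩ (show (⊥ : Ideal A) < m from lt_of_lt_of_le hI hIm))
      exact hlt h1
    haveI : IsDomain (CommRingCat.of A) := inferInstanceAs (IsDomain A)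
    haveI : IsClosedImmersion (Spec.map (CommRingCat.ofHom (Ideal.Quotient.mk p.asIdeal))) :=
      IsClosedImmersion.spec_of_surjective _ Ideal.Quotient.mk_surjective
    exact h (CommRingCat.of A) (Spec.map (CommRingCat.ofHom (Ideal.Quotient.mk p.asIdeal)) ≫ hW.fromSpec) ⟨hfinA, hdim1⟩

end Groth.Agent.S5913
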