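import Groth.Statements.S5915
import Groth.Agent.L07.FlatFamilyApps

set_option autoImplicit false
set_option linter.style.haveILetI false
universe u
open CategoryTheory AlgebraicGeometry
open EGA43

namespace Groth.Agent.S5915

open CategoryTheory.Limits in
/-- Let Y be locally Noetherian, f : X ⟶ Y locally of finite type, F a coherent O_X-module, x a point of
X and y = f x. Let φ : O_{Y,y} ⟶ A' be an injective ring homomorphism which is finite (A' finitely
generated as an O_{Y,y}-module), Y' = Spec A' ⟶ Y the induced Y-scheme, X' = X ×_Y Y' and F' the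
pullback of F to X'. Then F is f-flat at x if and only if F' is flat over Y' at every point of X'
lying over x and over a closed point of Y'. (The published statement treats more generally a Zariski
ring A' whose radical pulls back to the maximal ideal and whose map on completions is injective;
this row is the case of a finite algebra with injective structure map, in which those conditions
hold.) -/
theorem result {X Y : Scheme.{u}} [IsLocallyNoetherian Y]
    (f : X ⟶ Y) [LocallyOfFiniteType f] (F : X.Modules) (hF : Coh.IsCoh F) (x : X)
    (A' : CommRingCat.{u}) (φ : Y.presheaf.stalk (f.base x) ⟶ A') (hfin : φ.hom.Finite)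
    (hinj : Function.Injective φ.hom) :
    FlatMod.IsFlatOverAt f F x ↔
      ∀ x' : ↥(pullback f (Spec.map φ ≫ Y.fromSpecStalk (f.base x))), pullback.fst f (Spec.map φ ≫ Y.fromSpecStalk (f.base x)) x' = x →
        IsClosed ({pullback.snd f (Spec.map φ ≫ Y.fromSpecStalk (f.base x)) x'} : Set ↥(Spec A')) →
          FlatMod.IsFlatOverAt (pullback.snd f (Spec.map φ ≫ Y.fromSpecStalk (f.base x))) ((Scheme.Modules.pullback (pullback.fst f (Spec.map φ ≫ Y.fromSpecStalk (f.base x)))).obj F) x' := by
  letI : Algebra (Y.presheaf.stalk (f.base x)) A' := φ.hom.toAlgebra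
  haveI : Module.Finite (Y.presheaf.stalk (f.base x)) A' := hfin
  haveI := hF.1
  constructor
  · intro h x' hx' _
    exact Groth.Agent.S1391.result f _ _ _ (IsPullback.of_hasPullback f _) F hF.1 x' (by rw [hx']; exact h)
  · intro h
    let R : MaximalSpectrum A' → Type u := fun n => Localization.AtPrime n.asIdeal
    letI : ∀ n, Algebra (Y.presheaf.stalk (f x)) (R n) := fun n =>
      ((algebraMap A' (R n)).comp φ.hom).toAlgebra
    haveI : ∀ n, IsLocalHom (algebraMap (Y.presheaf.stalk (f x)) (R n)) := fun n => by
      haveI : n.asIdeal.IsMaximal := n.isMaximal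
      refine ⟨fun a ha => not_not.mp fun hn => ?_⟩
      have h1 := Ideal.isMaximal_comap_of_isIntegral_of_isMaximal (R := Y.presheaf.stalk (f.base x)) n.asIdeal
      have h2 : a ∈ n.asIdeal.comap (algebraMap (Y.presheaf.stalk (f.base x)) A') :=
        IsLocalRing.eq_maximalIdeal h1 ▸ (IsLocalRing.mem_maximalIdeal a).mpr hn
      exact (IsLocalRing.mem_maximalIdeal _).mp
        ((IsLocalization.AtPrime.to_map_mem_maximal_iff (R n) n.asIdeal (φ.hom a)).mpr h2) ha
    refine Groth.L07.FlatFamily.flat_of_forall f x F hF R
      (fun k => Groth.L07.FlatFamily.htop_finite (A := Y.presheaf.stalk (f.base x)) (B := A') hinj k)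
      (fun n => Spec.map (CommRingCat.ofHom (algebraMap A' (R n))) ≫ (Spec.map φ ≫ Y.fromSpecStalk (f.base x)))
      (fun n => ?_) fun n x' h1 h2 => ?_
    · rw [← Category.assoc, ← Spec.map_comp]
      rfl
    · refine Groth.L07.FlatFamily.flat_of_comp f F x _ _ (IsLocalRing.closedPoint (R n))
        (fun z hz1 hz2 => h z hz1 ?_) x' h1 h2
      rw [hz2]
      have : (Spec.map (CommRingCat.ofHom (algebraMap A' (R n))) (IsLocalRing.closedPoint (R n))).asIdeal = n.asIdeal :=
        IsLocalization.AtPrime.under_maximalIdeal (R n) n.asIdeal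
      exact (PrimeSpectrum.isClosed_singleton_iff_isMaximal _).mpr (by rw [this]; exact n.isMaximal)

end Groth.Agent.S5915
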