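import Groth.Statements.S5916
import Groth.Agent.L07.ModSep.Spec

set_option autoImplicit false
set_option linter.style.haveILetI false
set_option maxSynthPendingDepth 3
set_option backward.isDefEq.respectTransparency.types false
set_option backward.isDefEq.respectTransparency false
universe u
open CategoryTheory AlgebraicGeometry
open EGA43

namespace Groth.Agent.S5916

open CategoryTheory.Limits in
/-- Case Z_λ = X: let A be a commutative ring, p : X ⟶ Spec A an A-scheme, F a quasi-coherent
O_X-module, (G_i) quasi-coherent O_X-modules flat over Spec A and u_i : F ⟶ G_i a separating family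
of homomorphisms (a section of F over an open subset killed by every u_i is zero). Let φ : A ⟶ A' be
a ring homomorphism. If for every factorisation A ⟶ B ⟶ A' of φ with A ⟶ B of finite type and B ⟶ A'
injective (every finitely generated sub-A-algebra B of A') the family pulled back to X ×_{Spec A}
Spec B is separating, then the family pulled back to X ×_{Spec A} Spec A' is separating. (The
published statement allows homomorphisms into direct images (f_λ)_*G_λ of modules G_λ flat over the
base; this row is the case Z_λ = X.) -/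
theorem result {X : Scheme.{u}} (A A' : CommRingCat.{u}) (φ : A ⟶ A')
    (p : X ⟶ Spec A) (F : X.Modules) [Coh.IsQCoh F] {ι : Type u} (G : ι → X.Modules) [∀ i, Coh.IsQCoh (G i)]
    (hG : ∀ i, FlatMod.IsFlatOver p (G i)) (u : ∀ i, F ⟶ G i)
    (h : ∀ (V : (X).Opens) (t : ↑((F).presheaf.obj (Opposite.op V))), (∀ i, (Scheme.Modules.Hom.mapPresheaf (u i)).app (Opposite.op V) t = 0) → t = 0)
    (hfg : ∀ (B : CommRingCat.{u}) (a : A ⟶ B) (b : B ⟶ A'), a ≫ b = φ → Function.Injective b.hom → a.hom.FiniteType →
      ∀ (V : (pullback p (Spec.map a)).Opens) (t : ↑(((Scheme.Modules.pullback (pullback.fst p (Spec.map a))).obj F).presheaf.obj (Opposite.op V))), (∀ i, (Scheme.Modules.Hom.mapPresheaf ((Scheme.Modules.pullback (pullback.fst p (Spec.map a))).map (u i))).app (Opposite.op V) t = 0) → t = 0) :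
    ∀ (V : (pullback p (Spec.map φ)).Opens) (t : ↑(((Scheme.Modules.pullback (pullback.fst p (Spec.map φ))).obj F).presheaf.obj (Opposite.op V))), (∀ i, (Scheme.Modules.Hom.mapPresheaf ((Scheme.Modules.pullback (pullback.fst p (Spec.map φ))).map (u i))).app (Opposite.op V) t = 0) → t = 0 := by
  haveI := fun i => Groth.L16.AffineBC.isQCoh_pullback (pullback.fst p (Spec.map φ)) (G i)
  haveI := Groth.L16.AffineBC.isQCoh_pullback (pullback.fst p (Spec.map φ)) F
  refine Groth.L07.ModSep.msep_of_affine (fun i => (Scheme.Modules.pullback (pullback.fst p (Spec.map φ))).map (u i))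
    fun x => ?_
  obtain ⟨_, ⟨U, hU, rfl⟩, hxU, -⟩ :=
    X.isBasis_affineOpens.exists_subset_of_mem_open (Set.mem_univ (pullback.fst p (Spec.map φ) x)) isOpen_univ
  letI : Algebra ↑A Γ(X, U) := (Groth.L07.ModSep.baseMap p U).hom.toAlgebra
  letI : Module ↑A Γ(F, U) := Module.compHom _ (Groth.L07.ModSep.baseMap p U).hom
  haveI : IsScalarTower ↑A Γ(X, U) Γ(F, U) := IsScalarTower.of_algebraMap_smul fun _ _ => rfl
  letI : ∀ i, Module ↑A Γ(G i, U) := fun i => Module.compHom _ (Groth.L07.ModSep.baseMap p U).hom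
  haveI : ∀ i, IsScalarTower ↑A Γ(X, U) Γ(G i, U) := fun i => IsScalarTower.of_algebraMap_smul fun _ _ => rfl
  haveI : ∀ i, Module.Flat ↑A Γ(G i, U) := fun i => Groth.L07.ModSep.flat_sections_spec p (G i) (hG i) hU
  letI : Algebra ↑A ↑A' := φ.hom.toAlgebra
  obtain ⟨hU', hiff⟩ := Groth.L07.ModSep.locMSep_spec_iff (A' := A') p u hU
  refine ⟨_, hU', hxU, hiff.mp ?_⟩
  refine Groth.L07.ModSep.locMSep_of_fg fun A₀ hA₀ => ?_
  haveI : Algebra.FiniteType ↑A A₀ := (Subalgebra.fg_iff_finiteType A₀).mp hA₀
  haveI := fun i => Groth.L16.AffineBC.isQCoh_pullback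
    (pullback.fst p (Spec.map (CommRingCat.ofHom (algebraMap ↑A A₀)))) (G i)
  haveI := Groth.L16.AffineBC.isQCoh_pullback
    (pullback.fst p (Spec.map (CommRingCat.ofHom (algebraMap ↑A A₀)))) F
  obtain ⟨hU₀, hiff₀⟩ := Groth.L07.ModSep.locMSep_spec_iff (A' := CommRingCat.of A₀) p u hU
  exact hiff₀.mpr (Groth.L07.ModSep.MSep.locMSep
    (hfg (CommRingCat.of A₀) (CommRingCat.ofHom (algebraMap ↑A A₀)) (CommRingCat.ofHom A₀.val.toRingHom)
      (by ext a; rfl) Subtype.val_injective
      (RingHom.finiteType_algebraMap.mpr inferInstance)) hU₀)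

end Groth.Agent.S5916
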