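import Groth.Statements.S5918
import Groth.Agent.L07.FlatFamilyApps

set_option autoImplicit false
set_option linter.style.haveILetI false
universe u
open CategoryTheory AlgebraicGeometry
open EGA43

namespace Groth.Agent.S5918

open CategoryTheory.Limits in
/-- Let A be an Artinian local ring, f : X ⟶ Spec A locally of finite type, F a coherent O_X-module and
x a point of X. Let (g_i : Y_i ⟶ Spec A) be a family of A-schemes such that an element of A whose
image in every Γ(Y_i, O_{Y_i}) is zero is itself zero. If, for every i, the pullback of F to X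
×_{Spec A} Y_i is flat over Y_i at every point lying over x, then F is f-flat at x. -/
theorem result {A : Type u} [CommRing A]
    [IsArtinianRing A] [IsLocalRing A] {X : Scheme.{u}} (f : X ⟶ Spec (CommRingCat.of A))
    [LocallyOfFiniteType f] (F : X.Modules) (hF : Coh.IsCoh F) (x : X)
    {ι : Type u} (Y : ι → Scheme.{u}) (g : ∀ i, Y i ⟶ Spec (CommRingCat.of A))
    (hg : ∀ a : A, (∀ i, (g i).appTop ((Scheme.ΓSpecIso (CommRingCat.of A)).inv a) = 0) → a = 0)
    (hflat : ∀ (i : ι) (x' : ↥(pullback f (g i))), pullback.fst f (g i) x' = x →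
      FlatMod.IsFlatOverAt (pullback.snd f (g i)) ((Scheme.Modules.pullback (pullback.fst f (g i))).obj F) x') :
    FlatMod.IsFlatOverAt f F x := by
  obtain ⟨e, he⟩ := Groth.L07.FlatFamily.exists_equiv_stalk (f x)
  let R : (Σ i, ↥(Y i)) → Type u := fun p => (Y p.1).presheaf.stalk p.2
  let v : ∀ p : (Σ i, ↥(Y i)), CommRingCat.of A ⟶ CommRingCat.of (R p) := fun p =>
    (Scheme.ΓSpecIso (CommRingCat.of A)).inv ≫ (g p.1).appTop ≫ (Y p.1).presheaf.germ ⊤ p.2 trivial
  have hv : ∀ p, Spec.map (v p) = (Y p.1).fromSpecStalk p.2 ≫ g p.1 := fun p => by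
    simp only [v, Spec.map_comp]
    erw [← Scheme.fromSpecStalk_toSpecΓ, Category.assoc, Category.assoc]
    congr 1
    erw [← Category.assoc, ← Scheme.toSpecΓ_naturality, Category.assoc, toSpecΓ_SpecMap_ΓSpecIso_inv,
      Category.comp_id]
  let φ : ∀ p, ((Spec (CommRingCat.of A)).presheaf.stalk (f x) : Type u) →+* R p :=
    fun p => (v p).hom.comp e.symm.toRingHom
  letI : ∀ p, Algebra ((Spec (CommRingCat.of A)).presheaf.stalk (f x)) (R p) := fun p => (φ p).toAlgebra
  haveI : IsArtinianRing ((Spec (CommRingCat.of A)).presheaf.stalk (f x)) := e.surjective.isArtinianRing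
  haveI : ∀ p, IsLocalHom (algebraMap ((Spec (CommRingCat.of A)).presheaf.stalk (f x)) (R p)) :=
    fun p => Groth.L07.FlatFamily.isLocalHom_of_artinian _
  haveI := hF.1
  refine Groth.L07.FlatFamily.flat_of_forall f x F hF R
    (fun k => Groth.L07.FlatFamily.htop_artinian R φ (fun a ha => ?_) k)
    (fun p => (Y p.1).fromSpecStalk p.2 ≫ g p.1) (fun p => ?_)
    (fun p x' h1 h2 => Groth.L07.FlatFamily.flat_of_comp f F x (g p.1) ((Y p.1).fromSpecStalk p.2)
      (IsLocalRing.closedPoint (R p)) (fun z hz _ => hflat p.1 z hz) x' h1 h2)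
  · have := hg (e.symm a) fun i => TopCat.Presheaf.section_ext (Y i).sheaf ⊤ _ 0 fun y hy => by
      exact (ha ⟨i, y⟩).trans (map_zero ((Y i).presheaf.germ ⊤ y hy).hom).symm
    rw [← e.apply_symm_apply a, this, map_zero]
  · rw [← hv]
    show _ = Spec.map (CommRingCat.ofHom (φ p)) ≫ _
    rw [Groth.L07.FlatFamily.tst_eq, ← Spec.map_comp, ← he, ← CommRingCat.ofHom_comp]
    congr 2
    ext a
    simp [φ]

end Groth.Agent.S5918
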