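import Groth.Statements.S5924
import Mathlib.AlgebraicGeometry.Noetherian
import Mathlib.AlgebraicGeometry.Morphisms.FiniteType
import Mathlib.RingTheory.Ideal.KrullsHeightTheorem

set_option autoImplicit false
set_option linter.style.haveILetI false
open CategoryTheory AlgebraicGeometry
universe u
open EGA43

namespace Groth.Agent.S5924

/-- Let Y be an irreducible locally Noetherian scheme, f : X ⟶ Y a morphism locally of finite type which
is equidimensional at the point x, and suppose that x is not a maximal point of its fibre f⁻¹(f x),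
i.e. some point of the fibre other than x specializes to x. Then there exist an affine open
neighbourhood U of x and a section g of O_X over U such that g vanishes at x (x is not in the basic
open set of g) while every maximal point of f⁻¹(f x) lying in U is in the basic open set of g. -/
theorem result {X Y : Scheme.{u}} [IrreducibleSpace Y]
    [IsLocallyNoetherian Y] (f : X ⟶ Y) [LocallyOfFiniteType f] (x : X) (hf : EGA43.IsEquidimAt f x)
    (hx : ∃ x' : X, f.base x' = f.base x ∧ x' ≠ x ∧ x ∈ closure ({x'} : Set X)) :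
    ∃ U : X.Opens, IsAffineOpen U ∧ x ∈ U ∧ ∃ g : Γ(X, U), x ∉ X.basicOpen g ∧
      ∀ z : X, f.base z = f.base x → (∀ z' : X, f.base z' = f.base x → z ∈ closure ({z'} : Set X) → z' = z) →
        z ∈ U → z ∈ X.basicOpen g := by
  obtain ⟨_, ⟨W, hW, rfl⟩, hxW, -⟩ :=
    Y.isBasis_affineOpens.exists_subset_of_mem_open (Set.mem_univ (f x)) isOpen_univ
  obtain ⟨_, ⟨V, hV, rfl⟩, hxV, hVW⟩ :=
    X.isBasis_affineOpens.exists_subset_of_mem_open (a := x) (show x ∈ f ⁻¹ᵁ W from hxW) (f ⁻¹ᵁ W).2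
  haveI : IsLocallyNoetherian X := LocallyOfFiniteType.isLocallyNoetherian f
  haveI : IsNoetherianRing Γ(X, V) := IsLocallyNoetherian.component_noetherian ⟨V, hV⟩
  let p : PrimeSpectrum Γ(Y, W) := hW.primeIdealOf ⟨f x, hxW⟩
  let Z : Set ↥(V : Set ↥X) := {z | f z.1 = f x ∧ ∀ z' : ↥X, f z' = f x → z'  ⤳ z.1 → z' = z.1}
  -- membership in a prime and specialization
  have hmem : ∀ (z : ↥(V : Set ↥X)) (g : Γ(X, V)), z.1 ∈ X.basicOpen g ↔ g ∉ (hV.primeIdealOf z).asIdeal := by
    intro z g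
    rw [← PrimeSpectrum.mem_basicOpen, ← hV.fromSpec_preimage_basicOpen]
    show z.1 ∈ X.basicOpen g ↔ hV.fromSpec (hV.primeIdealOf z) ∈ X.basicOpen g
    rw [hV.fromSpec_primeIdealOf]
  have hspec : ∀ (a b : ↥(V : Set ↥X)), (hV.primeIdealOf a).asIdeal ≤ (hV.primeIdealOf b).asIdeal → a.1 ⤳ b.1 := by
    intro a b hab
    have h1 : hV.primeIdealOf a ⤳ hV.primeIdealOf b := (PrimeSpectrum.le_iff_specializes _ _).mp hab
    have h2 := h1.map hV.fromSpec.continuous
    rwa [hV.fromSpec_primeIdealOf, hV.fromSpec_primeIdealOf] at h2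
  have hover : ∀ a : ↥(V : Set ↥X), f a.1 = f x →
      (hV.primeIdealOf a).asIdeal.comap (f.appLE W V hVW).hom = p.asIdeal := by
    intro a ha
    refine (congrArg PrimeSpectrum.asIdeal (IsAffineOpen.comap_primeIdealOf_appLE W hW V hV hVW a.2)).trans ?_
    congr 2
    exact Subtype.ext ha
  -- the maximal points of the fibre in `V` are minimal primes over the extended ideal
  let Q : Ideal Γ(X, V) := p.asIdeal.map (f.appLE W V hVW).hom
  have hZmin : (fun z => (hV.primeIdealOf z).asIdeal) '' Z ⊆ Q.minimalPrimes := by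
    rintro _ ⟨z, ⟨hz, hzmax⟩, rfl⟩
    refine ⟨⟨inferInstance, Ideal.map_le_iff_le_comap.mpr (hover z hz).ge⟩, fun q ⟨hq, hQq⟩ hle => ?_⟩
    obtain ⟨a, ha, rfl⟩ : ∃ (a : ↥X) (ha : a ∈ V), q = (hV.primeIdealOf ⟨a, ha⟩).asIdeal := by
      let q' : Spec Γ(X, V) := ⟨q, hq⟩
      have ha : hV.fromSpec q' ∈ V := hV.opensRange_fromSpec.le ⟨q', rfl⟩
      refine ⟨_, ha, ?_⟩
      haveI := hV.isOpenImmersion_fromSpec; rw [hV.fromSpec.isOpenEmbedding.injective (hV.fromSpec_primeIdealOf ⟨hV.fromSpec q', ha⟩)]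
    have h1 : (hW.primeIdealOf ⟨f a, hVW ha⟩).asIdeal = p.asIdeal := by
      refine (congrArg PrimeSpectrum.asIdeal (IsAffineOpen.comap_primeIdealOf_appLE W hW V hV hVW ha)).symm.trans ?_
      refine le_antisymm (le_trans (Ideal.comap_mono hle) (hover z hz).le) ?_
      exact Ideal.map_le_iff_le_comap.mp hQq
    have h2 : f a = f x := by
      have h3 := congrArg hW.fromSpec (PrimeSpectrum.ext h1)
      simp only [p] at h3
      rwa [hW.fromSpec_primeIdealOf, hW.fromSpec_primeIdealOf] at h3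
    have h4 : a = z.1 := hzmax a h2 (hspec ⟨a, ha⟩ z hle)
    subst h4
    exact le_rfl
  have hfin : ((fun z => (hV.primeIdealOf z).asIdeal) '' Z).Finite :=
    (Ideal.finite_minimalPrimes_of_isNoetherianRing _ Q).subset hZmin
  -- the prime of `x` is contained in none of them
  obtain ⟨g, hgx, hgZ⟩ : ∃ g ∈ (hV.primeIdealOf ⟨x, hxV⟩).asIdeal,
      ∀ P ∈ (fun z => (hV.primeIdealOf z).asIdeal) '' Z, g ∉ P := by
    by_contra hc
    push Not at hc
    obtain ⟨P, ⟨z, ⟨hz, hzmax⟩, rfl⟩, hle⟩ :=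
      ((hV.primeIdealOf ⟨x, hxV⟩).asIdeal.subset_union_prime_finite hfin (f := fun P => P) ⊤ ⊤
        fun P hP _ _ => (hZmin hP).1.1).mp fun g hg => by
          obtain ⟨P, hP, hgP⟩ := hc g hg
          exact Set.mem_iUnion₂.mpr ⟨P, hP, hgP⟩
    have h1 : x = z.1 := hzmax x rfl (hspec ⟨x, hxV⟩ z hle)
    obtain ⟨x', hx'f, hx'ne, hx'⟩ := hx
    exact hx'ne ((hzmax x' hx'f (h1 ▸ (specializes_iff_mem_closure.mpr hx'))).trans h1.symm)
  refine ⟨V, hV, hxV, g, fun h => (hmem ⟨x, hxV⟩ g).mp h hgx, fun z hz hmax hzV => (hmem ⟨z, hzV⟩ g).mpr ?_⟩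
  exact hgZ _ ⟨⟨z, hzV⟩, ⟨hz, fun z' hz' h => hmax z' hz' (specializes_iff_mem_closure.mp h)⟩, rfl⟩

end Groth.Agent.S5924
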