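import Groth.Statements.S5930
import Groth.Agent.L07.FibrePd

set_option autoImplicit false
universe u
open TensorProduct CategoryTheory
open EGA43

namespace Groth.Agent.S5930

/-- Let A be a commutative ring, B a finitely presented A-algebra which is flat as an A-module, and M a
finitely presented B-module which is flat as an A-module. Then the projective dimension of M as a
B-module equals the supremum, over the prime ideals p of A with residue fields κ(p), of the
projective dimensions of the modules (B ⊗_A κ(p)) ⊗_B M over the rings B ⊗_A κ(p). (Projective
dimensions are taken in the respective module categories, with values in WithBot ℕ∞ and the zero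
module of dimension ⊥. The published formula also equates these with the Tor-dimension of M over B;
that equality is not stated here.) -/
theorem result (A B M : Type u) [CommRing A] [CommRing B] [Algebra A B]
    [Algebra.FinitePresentation A B] [Module.Flat A B] [AddCommGroup M] [Module B M] [Module A M]
    [IsScalarTower A B M] [Module.FinitePresentation B M] [Module.Flat A M] :
    projectiveDimension (ModuleCat.of B M) =
      ⨆ p : PrimeSpectrum A, projectiveDimension
        (ModuleCat.of (B ⊗[A] p.asIdeal.ResidueField) ((B ⊗[A] p.asIdeal.ResidueField) ⊗[B] M)) := by
  have hle : ∀ {C : Type (u+1)} [Category.{u} C] [Abelian C] (X : C) (c : WithBot ℕ∞),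
      projectiveDimension X ≤ c ↔ ∀ i : ℕ, c < i → HasProjectiveDimensionLT X i := fun X c =>
    ⟨fun h i hi => projectiveDimension_lt_iff.mp (h.trans_lt hi), fun h => sInf_le h⟩
  refine le_antisymm ((hle _ _).mpr fun i hi => ?_) (iSup_le fun p => (hle _ _).mpr fun i hi => ?_)
  · rw [Groth.L07.SyzygyRes.pdLT_iff_fibres (A := A)]
    intro p
    exact projectiveDimension_lt_iff.mp ((le_iSup (fun p : PrimeSpectrum A => projectiveDimension
      (ModuleCat.of (B ⊗[A] p.asIdeal.ResidueField) ((B ⊗[A] p.asIdeal.ResidueField) ⊗[B] M))) p).trans_lt hi)
  · exact (Groth.L07.SyzygyRes.pdLT_iff_fibres (A := A) M i).mp (projectiveDimension_lt_iff.mp hi) p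

end Groth.Agent.S5930
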