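import Groth.Prelude.Def_CAlg
import Groth.Prelude.Def_FlatMod2
import Groth.Prelude.Def_CohB1
import Groth.Prelude.Def_FDesc
import Groth.Prelude.Def_MoreMor
import Groth.Prelude.Def_EGA4b
import Mathlib.AlgebraicGeometry.Morphisms.FinitePresentation
import Mathlib.AlgebraicGeometry.Morphisms.Flat
import Mathlib.AlgebraicGeometry.Morphisms.Proper
import Mathlib.AlgebraicGeometry.Fiber
import Mathlib.AlgebraicGeometry.Geometrically.Reduced
import Mathlib.Topology.KrullDimension
import Mathlib.Topology.LocallyConstant.Basic
import Mathlib.RingTheory.Support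
import Mathlib.RingTheory.KrullDimension.Basic
import Mathlib.RingTheory.IntegralClosure.IntegrallyClosed
import Mathlib.RingTheory.Ideal.AssociatedPrime.Basic
import Mathlib.RingTheory.Ideal.MinimalPrime.Basic
import Mathlib.LinearAlgebra.FiniteDimensional.Defs
import Groth.Agent.L07.GeomRk.Open

set_option autoImplicit false
namespace EGA43
end EGA43
open CategoryTheory AlgebraicGeometry
universe u
open EGA43

namespace Groth.Agent.S5932

/-- Let f : X ⟶ Y be a proper, flat morphism of finite presentation and k ≥ 1 a natural number. The set
of points y of Y such that the fibre X_y satisfies the geometric condition (R_k) (for every finite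
field extension K of κ(y), every local ring of the base change of X_y to K satisfies (R_k)), is
equidimensional at each of its points (every local ring of X_y has all quotients by minimal primes
of the same dimension) and has no embedded associated cycle (every associated prime of every local
ring of X_y is minimal), is open in Y. -/
theorem result {X Y : Scheme.{u}} (f : X ⟶ Y) [IsProper f]
    [Flat f] [LocallyOfFinitePresentation f] (k : ℕ) (hk : 1 ≤ k) :
    IsOpen {y : Y | ∀ x : ↥(f.fiber y), (∀ (K : Type u) [Field K] [Algebra (IsLocalRing.ResidueField (Y.presheaf.stalk y)) K],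
        Module.Finite (IsLocalRing.ResidueField (Y.presheaf.stalk y)) K →
        ∀ x' : ↥(FBase.bc (f.fiberToSpecResidueField y) K),
          (FBase.bcπ (f.fiberToSpecResidueField y) K).base x' = x →
          LocCoh.HasRk k ((FBase.bc (f.fiberToSpecResidueField y) K).presheaf.stalk x')) ∧
      EGA4.IsEquidim ↑((f.fiber y).presheaf.stalk x) ∧ (∀ p ∈ associatedPrimes ↑((f.fiber y).presheaf.stalk x) ↑((f.fiber y).presheaf.stalk x), p ∈ minimalPrimes ↑((f.fiber y).presheaf.stalk x))} := by
  refine (congrArg IsOpen (Set.ext fun y => ?_)).mp
    (L02.FibDepth.Pre.isOpen_forall (π := fun x : X => f x) f.isClosedMap (Groth.L07.GeomRk.isOpen_rk f k))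
  refine Iff.trans ?_ (L02.FibDepth.forall_fiber_iff (f := f) (P := fun s w =>
    Groth.L07.GeomRk.GeomAt (f.fiberToSpecResidueField s) (fun (K : Type u) [Field K] [Algebra (Y.residueField s) K] => Module.Finite (Y.residueField s) K)
      (fun R _ => LocCoh.HasRk k R) w ∧
      EGA4.IsEquidim ↑((f.fiber s).presheaf.stalk w) ∧
      (∀ p ∈ associatedPrimes ↑((f.fiber s).presheaf.stalk w) ↑((f.fiber s).presheaf.stalk w),
        p ∈ minimalPrimes ↑((f.fiber s).presheaf.stalk w))) y).symm
  exact forall_congr' fun x => forall_congr' fun _ => (and_congr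
    (Groth.L07.GeomRk.rk_iff f x k (fun K _ _ => Module.Finite (Y.residueField (f.base x)) K) fun _ _ _ h => h)
    (and_congr (Groth.L07.GeomRk.equi_ring_iff f x) (Groth.L07.GeomRk.noEmb_ring_iff f x))).symm

end Groth.Agent.S5932
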