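import Groth.Statements.S5935
import Groth.Agent.L07.Count.FlatProperConst

set_option autoImplicit false
set_option linter.style.haveILetI false
open CategoryTheory AlgebraicGeometry
universe u
open EGA43

namespace Groth.Agent.S5935

/-- Let f : X ⟶ Y be a proper, flat morphism of finite presentation and k ≥ 1 a natural number. The set
of points y of Y such that the fibre X_y is geometrically reduced over κ(y) and the geometric number
of connected components of X_y (the number of connected components after base change to a separable
closure of κ(y)) equals k is open in Y. -/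
theorem result {X Y : Scheme.{u}} (f : X ⟶ Y) [IsProper f]
    [Flat f] [LocallyOfFinitePresentation f] (k : ℕ) (hk : 1 ≤ k) :
    IsOpen {y : Y | GeometricallyReduced (f.fiberToSpecResidueField y) ∧ MoreMor.nGeomConnComp f y = k} := by
  rw [isOpen_iff_mem_nhds]
  rintro y ⟨hred, hn⟩
  obtain ⟨V, hV, hVn⟩ := Groth.L07.Count.nGeomConnComp_eq_nhds_flat_proper f y hred
  refine Filter.mem_of_superset (Filter.inter_mem ((Groth.L07.Count.isOpen_geomReduced_fibre f).mem_nhds hred) hV) ?_
  exact fun z hz => ⟨hz.1, (hVn z hz.2).trans hn⟩

end Groth.Agent.S5935
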