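import Groth.Statements.S5947
import Groth.Agent.L19.OmegaSh.Affine

set_option autoImplicit false
set_option linter.style.haveILetI false
set_option maxSynthPendingDepth 3
set_option backward.isDefEq.respectTransparency false
set_option backward.isDefEq.respectTransparency.types false
set_option linter.style.haveILetI false
universe u
open CategoryTheory AlgebraicGeometry TopologicalSpace
open Nrm16

namespace Groth.Agent.S5947

/-- Let A be a commutative ring, B an A-algebra and L a B-module; put S = Spec A, X = Spec B and let F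
be the O_X-module associated with L. For an S-derivation D of O_X into F write Γ(D) : B → L for its
effect on global sections (global sections of O_X and of F being identified with B and L by the
canonical isomorphisms). Then D ↦ Γ(D) is a bijection from the set of S-derivations of O_X into F
onto the set of A-derivations of B into L: every Γ(D) is an A-derivation, and every A-derivation of
B into L is Γ(D) for exactly one D. (The published statement asserts an isomorphism of B-modules; no
module structure is placed on sheaf derivations here, so this row states the bijection.) -/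
theorem result (A B : Type u) [CommRing A] [CommRing B] [Algebra A B]
    (L : Type u) [AddCommGroup L] [Module B L] [Module A L] [IsScalarTower A B L] :
    (∀ D : OmegaSh.Der (Spec.map (CommRingCat.ofHom (algebraMap A B))) (tilde (ModuleCat.of (CommRingCat.of B) L)),
      ∃ δ : Derivation A B L, ∀ t : B, D.app ⊤ ((Scheme.ΓSpecIso (CommRingCat.of B)).inv t) =
        (tilde.isoTop (ModuleCat.of (CommRingCat.of B) L)).hom (δ t)) ∧
    ∀ δ : Derivation A B L,
      ∃! D : OmegaSh.Der (Spec.map (CommRingCat.ofHom (algebraMap A B))) (tilde (ModuleCat.of (CommRingCat.of B) L)),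
        ∀ t : B, D.app ⊤ ((Scheme.ΓSpecIso (CommRingCat.of B)).inv t) =
          (tilde.isoTop (ModuleCat.of (CommRingCat.of B) L)).hom (δ t) := by
  classical
  let φ := CommRingCat.ofHom (algebraMap A B)
  let M : ModuleCat.{u} (CommRingCat.of B) := ModuleCat.of (CommRingCat.of B) L
  let γ := Scheme.ΓSpecIso (CommRingCat.of B)
  let G := tilde M
  let τ : L → Γ(G, ⊤) := fun x => (tilde.isoTop M).hom x
  have hτb : Function.Bijective τ := ConcreteCategory.bijective_of_isIso (tilde.isoTop M).hom
  have hτa : ∀ x y, τ (x + y) = τ x + τ y := fun x y => map_add (tilde.isoTop M).hom.hom x y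
  have hs : ∀ (x : Γ(Spec (CommRingCat.of B), ⊤)) (w : L), τ ((show B from γ.hom x) • w) = x • τ w := by
    intro x w
    refine ((tilde.isoTop M).hom.hom.map_smul _ _).trans ?_
    refine (Scheme.Modules.smul_Spec_def (γ.hom x) _).trans ?_
    exact congrArg (fun y : Γ(Spec (CommRingCat.of B), ⊤) => y • τ w)
      ((Groth.L18.Frame.ro_self _ _).trans (congr($(γ.hom_inv_id) x)))
  have hs' : ∀ (b : B) (w : L), τ (b • w) = γ.inv b • τ w := fun b w => by
    rw [← hs]
    exact congrArg (fun c : B => τ (c • w)) (congr($(γ.inv_hom_id) b)).symm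
  have hap : ∀ a : A, γ.inv (algebraMap A B a) =
      (Spec.map φ).appTop ((Scheme.ΓSpecIso (CommRingCat.of A)).inv a) := fun a =>
    congr($(Scheme.ΓSpecIso_inv_naturality φ) a)
  refine ⟨fun D => ?_, fun δ => ?_⟩
  · choose F hF using fun t : B => hτb.2 (D.app ⊤ (γ.inv t))
    have hmul : ∀ x y, F (x * y) = x • F y + y • F x := fun x y => hτb.1 (by
      rw [hF, hτa, hs', hs', hF, hF, map_mul]
      exact D.d_mul (X := Opposite.op ⊤) _ _)
    have hadd : ∀ x y, F (x + y) = F x + F y := fun x y => hτb.1 (by
      rw [hF, hτa, hF, hF, map_add, map_add])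
    have halg : ∀ a : A, F (algebraMap A B a) = 0 := fun a => hτb.1 (by
      rw [hF, hap]
      exact (Groth.L19.OmegaSh.der_appTop (Spec.map φ) (𝟙 _) (Category.comp_id _) D _).trans
        (map_zero (tilde.isoTop M).hom.hom).symm)
    let F' : B →ₗ[A] L :=
      { toFun := F
        map_add' := hadd
        map_smul' := fun a x => by
          rw [Algebra.smul_def, hmul, halg, smul_zero, add_zero, algebraMap_smul]
          rfl }
    exact ⟨Derivation.mk' F' hmul, fun t => (hF t).symm⟩
  · let δ₀ : Γ(Spec (CommRingCat.of B), ⊤) →+ Γ(G, ⊤) :=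
      AddMonoidHom.mk' (fun x => τ (δ (γ.hom x))) fun x y => by rw [map_add, map_add, hτa]
    have hδ₀ : ∀ x y, δ₀ (x * y) = x • δ₀ y + y • δ₀ x := fun x y => by
      show τ (δ (γ.hom (x * y))) = _
      rw [map_mul, Derivation.leibniz, hτa, hs, hs]
      rfl
    have hg : ∀ c, δ₀ ((Spec.map φ).appTop c) = 0 := fun c => by
      show τ (δ (γ.hom _)) = 0
      rw [show γ.hom ((Spec.map φ).appTop c) = algebraMap A B ((Scheme.ΓSpecIso (CommRingCat.of A)).hom c) from
        congr($(Scheme.ΓSpecIso_naturality φ) c), Derivation.map_algebraMap]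
      exact map_zero (tilde.isoTop M).hom.hom
    let D := Groth.L19.OmegaSh.derOfAlg G δ₀ hδ₀ (Spec.map φ) (𝟙 _) (Spec.map φ) (Category.comp_id _) hg
    have hD : ∀ t : B, D.app ⊤ (γ.inv t) = τ (δ t) := fun t => by
      refine (Groth.L19.OmegaSh.derOfAlg_top G δ₀ hδ₀ _ _ _ _ _ _).trans ?_
      show τ (δ (γ.hom (γ.inv t))) = _
      exact congrArg (fun c : B => τ (δ c)) (congr($(γ.inv_hom_id) t))
    refine ⟨D, hD, fun D' hD' => Groth.L19.OmegaSh.der_ext G D' D fun a => ?_⟩
    obtain ⟨t, rfl⟩ := (ConcreteCategory.bijective_of_isIso γ.inv).2 a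
    exact (hD' t).trans (hD t).symm

end Groth.Agent.S5947
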