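import Mathlib.AlgebraicGeometry.Morphisms.FinitePresentation
import Mathlib.AlgebraicGeometry.ResidueField
import Mathlib.Topology.Constructible
import Mathlib.CategoryTheory.Limits.Shapes.Pullback.IsPullback.Basic
import Groth.Prelude.Def_FlatMod2
import Groth.Prelude.Def_Coh
import Groth.Prelude.Def_CohB1
import Groth.Agent.L02.FibFlat.Constructible

set_option autoImplicit false
namespace Unram17
end Unram17
universe u
open CategoryTheory CategoryTheory.Limits AlgebraicGeometry TopologicalSpace Topology
open Unram17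

namespace Groth.Agent.S5948

/-- Let g : X ⟶ S and h : Y ⟶ S be locally of finite presentation, f : X ⟶ Y a morphism with f ≫ h = g,
and F a quasi-coherent O_X-module of finite presentation. For x in X with s = g(x), the fibres X_s ⟶
Y_s ⟶ Spec κ(s) of f over s are given by pullback squares, F_s is the pullback of F to X_s, and x is
identified with the unique point of X_s over it. Then the set E of points x such that F_s is flat
over Y_s at x (the stalk of F_s at x is a flat module over the local ring of Y_s at f_s(x)) is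
locally constructible in X. -/
theorem result {X Y S : Scheme.{u}} (g : X ⟶ S) (h : Y ⟶ S)
    [LocallyOfFinitePresentation g] [LocallyOfFinitePresentation h] (f : X ⟶ Y) (w : f ≫ h = g)
    (F : X.Modules) [Coh.IsQCoh F] (hF : CohB1.IsFP F) :
    IsLocallyConstructible {x : ↥X | ∀ (Xs Ys : Scheme.{u}) (ιX : Xs ⟶ X) (ιY : Ys ⟶ Y) (fs : Xs ⟶ Ys)
      (pY : Ys ⟶ Spec (S.residueField (g.base x))),
      IsPullback ιY pY h (S.fromSpecResidueField (g.base x)) → IsPullback ιX fs f ιY →
        ∀ x' : ↥Xs, ιX.base x' = x → FlatMod.IsFlatOverAt fs ((Scheme.Modules.pullback ιX).obj F) x'} := by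
  subst w
  refine (congrArg IsLocallyConstructible ?_).mp (Groth.L02.FibFlat.isLocallyConstructible_locus f h F hF)
  ext x
  simp only [Set.mem_ofPred_eq]
  constructor
  · intro hx Xs Ys ιX ιY fs pY hY hX x' hx'
    subst hx'
    have sq := hX.paste_vert hY
    let eY : Ys ≅ h.fiber ((f ≫ h) (ιX x')) := hY.isoPullback
    let eX : Xs ≅ (f ≫ h).fiber ((f ≫ h) (ιX x')) := sq.isoPullback
    let fm := MoreMor.fiberMap f h ((f ≫ h) (ιX x'))
    have hw : eX.hom ≫ fm = fs ≫ eY.hom := by
      refine pullback.hom_ext ?_ ?_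
      · refine (Category.assoc _ _ _).trans ((congrArg (eX.hom ≫ ·) (pullback.lift_fst _ _ _)).trans ?_)
        refine (Category.assoc _ _ _).symm.trans ?_
        refine ((congrArg (· ≫ f) sq.isoPullback_hom_fst).trans hX.w).trans ?_
        exact ((Category.assoc _ _ _).trans (congrArg (fs ≫ ·) hY.isoPullback_hom_fst)).symm
      · refine (Category.assoc _ _ _).trans ((congrArg (eX.hom ≫ ·) (pullback.lift_snd _ _ _)).trans ?_)
        refine sq.isoPullback_hom_snd.trans ?_
        exact ((Category.assoc _ _ _).trans (congrArg (fs ≫ ·) hY.isoPullback_hom_snd)).symm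
    haveI := Groth.L16.AffineBC.isQCoh_pullback ((f ≫ h).fiberι ((f ≫ h) (ιX x'))) F
    have hι : eX.hom ≫ (f ≫ h).fiberι ((f ≫ h) (ιX x')) = ιX := sq.isoPullback_hom_fst
    haveI : IsOpenImmersion eX.hom := inferInstanceAs (IsOpenImmersion sq.isoPullback.hom)
    haveI : IsOpenImmersion eY.hom := inferInstanceAs (IsOpenImmersion hY.isoPullback.hom)
    have h1 := (Groth.L02.FibFlat.fibre_iff f h F _ (eX.hom x') (x := ιX x')
      (congrArg (fun k : Xs ⟶ X => k x') hι)).2 hx
    have h2 := (Groth.L02.FibFlat.isFlatOverAt_openImmersion_iff hw _ x').2 h1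
    exact Groth.L20.FibreModule.isFlatOverAt_congr fs ((Scheme.Modules.pullbackComp _ _).app F ≪≫
      (Scheme.Modules.pullbackCongr hι).app F) h2
  · intro hx
    refine (Groth.L02.FibFlat.QF_iff_asFiber f h F x).2 ?_
    refine hx _ _ _ (h.fiberι _) _ _ (IsPullback.of_hasPullback h _) ?_ _ ((f ≫ h).fiberι_asFiber x)
    refine IsPullback.of_bot ?_ (pullback.lift_fst _ _ _).symm (IsPullback.of_hasPullback h _)
    rw [show MoreMor.fiberMap f h ((f ≫ h) x) ≫ pullback.snd h _ = pullback.snd (f ≫ h) _ from pullback.lift_snd _ _ _]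
    exact IsPullback.of_hasPullback (f ≫ h) _

end Groth.Agent.S5948
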