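import Groth.Statements.S5950
import Groth.Agent.L05.NormChar.Main
-- import your own Groth.Agent.* helpers here

set_option autoImplicit false
universe u
open CategoryTheory AlgebraicGeometry
open Unram17

namespace Groth.Agent.S5950

/-- Let X be an integral scheme which has a nonempty (hence dense) open subset at whose points the local
rings are integrally closed, let X' ⟶ X be its normalization, and let f : Y ⟶ X be a morphism of
schemes. Then there is an isomorphism Y ≅ X' over X if and only if: every local ring of Y is an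
integrally closed domain, f is an integral morphism, and there is a dense open subset U of X whose
preimage is dense in Y and such that the restriction f⁻¹(U) ⟶ U of f is an isomorphism. (The
published statement allows X reduced with locally finitely many irreducible components and a dense
normal open subset; this row states the case of an integral X. The quasi-compactness and
quasi-separatedness binders on the generic point always hold and only serve to form the
normalization.) -/
theorem result (X : Scheme.{u}) [IsIntegral X]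
    [QuasiCompact (X.fromSpecStalk (genericPoint X))] [QuasiSeparated (X.fromSpecStalk (genericPoint X))]
    (hV : ∃ V : X.Opens, (V : Set ↥X).Nonempty ∧ ∀ x ∈ V, IsIntegrallyClosed (X.presheaf.stalk x))
    {Y : Scheme.{u}} (f : Y ⟶ X) :
    (∃ e : Y ≅ Curv2.normalization X, e.hom ≫ Curv2.normalizationι X = f) ↔
      Pi1.IsNormalScheme Y ∧ IsIntegralHom f ∧
        ∃ U : X.Opens, Dense (U : Set ↥X) ∧ Dense ((f ⁻¹ᵁ U : Y.Opens) : Set ↥Y) ∧ IsIso (f ∣_ U) := by
  constructor
  · rintro ⟨e, he⟩
    obtain ⟨hY, hf, hirr, -, -⟩ := Groth.L05.NormChar.props_of_iso X f e he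
    obtain ⟨V, hVne, hVN⟩ := hV
    obtain ⟨x, hx⟩ := hVne
    obtain ⟨_, ⟨U, hU, rfl⟩, hxU, hUV⟩ := X.isBasis_affineOpens.exists_subset_of_mem_open hx V.2
    haveI := hirr
    haveI : IsIso (Curv2.normalizationι X ∣_ U) :=
      Groth.L05.NormChar.isIso_restrict_of_normal X hU ⟨x, hxU⟩ fun z hz => hVN z (hUV hz)
    refine ⟨hY, hf, U, U.2.dense ⟨x, hxU⟩, (f ⁻¹ᵁ U).2.dense ?_, ?_⟩
    · haveI : IsIso (f ∣_ U) := by
        subst he
        rw [morphismRestrict_comp]
        haveI : IsIso (e.hom ∣_ Curv2.normalizationι X ⁻¹ᵁ U) :=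
          IsZariskiLocalAtTarget.restrict (P := MorphismProperty.isomorphisms Scheme) (inferInstanceAs (IsIso e.hom)) _
        exact (MorphismProperty.isomorphisms Scheme).comp_mem _ _ this ‹IsIso (Curv2.normalizationι X ∣_ U)›
      obtain ⟨y, -⟩ := (f ∣_ U).surjective ⟨x, hxU⟩
      exact ⟨y.1, y.2⟩
    · subst he
      rw [morphismRestrict_comp]
      haveI : IsIso (e.hom ∣_ Curv2.normalizationι X ⁻¹ᵁ U) :=
        IsZariskiLocalAtTarget.restrict (P := MorphismProperty.isomorphisms Scheme) (inferInstanceAs (IsIso e.hom)) _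
      exact (MorphismProperty.isomorphisms Scheme).comp_mem _ _ this ‹IsIso (Curv2.normalizationι X ∣_ U)›
  · rintro ⟨hY, hf, U, hUd, hUd', hiso⟩
    haveI := hf
    haveI := hiso
    have hηU : genericPoint X ∈ U := by
      obtain ⟨z, hz⟩ := hUd.nonempty
      exact ((genericPoint_spec X).mem_open_set_iff U.2).2 ⟨z, trivial, hz⟩
    haveI : Nonempty U := ⟨⟨_, hηU⟩⟩
    haveI : IrreducibleSpace ↥(U : Scheme.{u}) := inferInstance
    haveI : IrreducibleSpace ↥Y := by
      have h1 := ((IrreducibleSpace.isIrreducible_univ ↥(U : Scheme.{u})).image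
        (fun u => (f ⁻¹ᵁ U).ι ((asIso (f ∣_ U)).inv u))
        (by fun_prop)).closure
      rw [irreducibleSpace_def]
      convert h1
      symm
      refine Set.eq_univ_of_univ_subset ((hUd'.closure_eq.symm.le).trans (closure_mono fun y hy => ?_))
      obtain ⟨u, hu⟩ := (asIso (f ∣_ U)).inv.surjective ⟨y, hy⟩
      exact ⟨u, trivial, by simp only [hu]; rfl⟩
    have hgenU : genericPoint Y ∈ f ⁻¹ᵁ U := by
      obtain ⟨z, hz⟩ := hUd'.nonempty
      exact ((genericPoint_spec Y).mem_open_set_iff (f ⁻¹ᵁ U).2).2 ⟨z, trivial, hz⟩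
    have hsurj : ∃ y, f y = genericPoint X := by
      obtain ⟨y, hy⟩ := (f ∣_ U).surjective ⟨_, hηU⟩
      exact ⟨y.1, (morphismRestrict_base_coe f U y).symm.trans (congrArg Subtype.val hy)⟩
    have hgen : f (genericPoint Y) = genericPoint X := by
      obtain ⟨y, hy⟩ := hsurj
      refine ((genericPoint_spec X).eq ?_).symm
      have : genericPoint X ∈ closure {f (genericPoint Y)} :=
        hy ▸ (((genericPoint_spec Y).specializes trivial).map f.continuous).mem_closure
      exact isGenericPoint_def.mpr (Set.eq_univ_of_univ_subset ((genericPoint_spec X).def.symm.le.trans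
        (closure_minimal (Set.singleton_subset_iff.mpr this) isClosed_closure)))
    haveI : IsIso (f.stalkMap (genericPoint Y)) :=
      ((MorphismProperty.isomorphisms CommRingCat).arrow_mk_iso_iff
        (morphismRestrictStalkMap f U ⟨_, hgenU⟩)).mp (MorphismProperty.isomorphisms.infer_property _)
    refine Groth.L05.NormChar.iso_of_props X f hY (Set.ext fun y => ⟨fun hy => ?_, fun hy => ?_⟩)
    · have hyU : y ∈ f ⁻¹ᵁ U := show f y ∈ U from (hy : f y = _) ▸ hηU
      have e : (f ∣_ U) ⟨y, hyU⟩ = (f ∣_ U) ⟨_, hgenU⟩ := Subtype.ext ((morphismRestrict_base_coe f U _).trans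
        ((hy : f y = _).trans (hgen.symm.trans (morphismRestrict_base_coe f U ⟨genericPoint Y, hgenU⟩).symm)))
      exact congrArg Subtype.val ((Scheme.homeoOfIso (asIso (f ∣_ U))).injective e)
    · rw [Set.mem_singleton_iff] at hy
      subst hy
      exact hgen

end Groth.Agent.S5950
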