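import Groth.Statements.S5961
import Groth.Agent.L19.OmegaSh.PrinPartOne

set_option autoImplicit false
set_option backward.isDefEq.respectTransparency.types false
set_option backward.isDefEq.respectTransparency false
set_option linter.style.haveILetI false
universe u
open CategoryTheory CategoryTheory.Limits AlgebraicGeometry TopologicalSpace Opposite
open Nrm16

namespace Groth.Agent.S5961

/-- Let f : X ⟶ S be a morphism of schemes, G an O_X-module and D : O_X ⟶ G a differential operator of
order at most 1 relative to S. Then D can be written in exactly one way as v + d with v : O_X ⟶ G an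
O_X-linear map and d an S-derivation of O_X into G. -/
theorem result {X S : Scheme.{u}} (f : X ⟶ S) (G : X.Modules)
    (D : (Coh.structureModule X).presheaf ⟶ G.presheaf)
    (hD : PrinPart.IsDiffOpLE f (Coh.structureModule X) G 1 D) :
    ∃! p : (Coh.structureModule X ⟶ G) × OmegaSh.Der f G,
      ∀ (U : X.Opens) (a : Γ(X, U)),
        D.app (op U) (OmegaSh.strSect X U a) = p.1.app U (OmegaSh.strSect X U a) + p.2.app U a := by
  obtain ⟨u, hu⟩ := hD
  let D' : ∀ U : X.Opens, Γ(X, U) →+ Γ(G, U) :=
    fun U => (D.app (op U)).hom.comp (OmegaSh.strSect X U)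
  have hD' : ∀ (U : X.Opens) (a : Γ(X, U)), D' U a = u.app U (PrinPart.dn f 1 U a) := fun U a => hu U _
  have hL : ∀ (U : X.Opens) (a b : Γ(X, U)),
      D' U (a * b) + (a * b) • D' U 1 = a • D' U b + b • D' U a := by
    intro U a b
    rw [hD', hD', hD', hD']
    exact Groth.L19.OmegaSh.leibniz_diffOp f u U a b
  have hB : ∀ (V : S.Opens) (c : Γ(S, V)),
      D' (f ⁻¹ᵁ V) (f.app V c) = f.app V c • D' (f ⁻¹ᵁ V) 1 := by
    intro V c
    rw [hD', hD']
    exact Groth.L19.OmegaSh.dn_app_base f u V c
  have hres : ∀ {U U' : X.Opens} (h : U' ≤ U) (a : Γ(X, U)),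
      D' U' (Groth.L18.Frame.ro h a) = Groth.L18.Frame.rs G h (D' U a) := fun h a =>
    congr($(D.naturality (homOfLE h).op) (OmegaSh.strSect X _ a))
  have hone : ∀ {U U' : X.Opens} (h : U' ≤ U), D' U' 1 = Groth.L18.Frame.rs G h (D' U 1) := fun {U U'} h => by
    rw [← hres]
    exact congrArg (D' U') (map_one _).symm
  let v : Coh.structureModule X ⟶ G :=
    ⟨PresheafOfModules.homMk
      { app := fun U => AddCommGrpCat.ofHom (AddMonoidHom.mk'
          (fun a => OmegaSh.fnSect X U.unop a • D' U.unop 1) (fun a b => by rw [map_add, add_smul]))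
        naturality := fun U U' i => by
          ext a
          show Groth.L18.Frame.ro i.unop.le (OmegaSh.fnSect X U.unop a) • D' U'.unop 1 =
            Groth.L18.Frame.rs G i.unop.le (OmegaSh.fnSect X U.unop a • D' U.unop 1)
          rw [Groth.L18.Frame.rs_smul, hone i.unop.le] }
      fun U (r : Γ(X, U.unop)) a => mul_smul r (OmegaSh.fnSect X U.unop a) (D' U.unop 1)⟩
  let d : OmegaSh.Der f G :=
    { d := fun {U} => AddMonoidHom.mk' (fun a => D' U.unop a - (show Γ(X, U.unop) from a) • D' U.unop 1)
        fun (a b : Γ(X, U.unop)) => by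
          show D' U.unop (a + b) - (a + b) • D' U.unop 1 = _
          rw [map_add, add_smul]
          exact add_sub_add_comm _ _ _ _
      d_mul := fun {U} (a b : Γ(X, U.unop)) => by
        show D' U.unop (a * b) - (a * b) • D' U.unop 1 =
          a • (D' U.unop b - b • D' U.unop 1) + b • (D' U.unop a - a • D' U.unop 1)
        rw [eq_sub_iff_add_eq.mpr (hL U.unop a b), smul_sub, smul_sub, ← mul_smul, ← mul_smul, mul_comm b a]
        abel
      d_map := fun {U U'} i (a : Γ(X, U.unop)) => by
        show D' U'.unop (Groth.L18.Frame.ro i.unop.le a) - Groth.L18.Frame.ro i.unop.le a • D' U'.unop 1 =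
          Groth.L18.Frame.rs G i.unop.le (D' U.unop a - a • D' U.unop 1)
        refine Eq.trans ?_ (map_sub _ _ _).symm
        rw [hres i.unop.le a, hone i.unop.le, ← Groth.L18.Frame.rs_smul]
      d_app := fun {V} c => by
        show D' (f ⁻¹ᵁ V.unop) (f.app V.unop c) - f.app V.unop c • D' (f ⁻¹ᵁ V.unop) 1 = 0
        rw [hB, sub_self] }
  refine ⟨(v, d), fun U a => ?_, ?_⟩
  · exact (add_sub_cancel (a • D' U 1) (D' U a)).symm
  rintro ⟨v', d'⟩ hp
  have h1 : ∀ U : X.Opens, v'.app U (OmegaSh.strSect X U 1) = D' U 1 := by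
    intro U
    have hd1 : d'.app U 1 = 0 := by
      have := Groth.L19.OmegaSh.der_mul d' (1 : Γ(X, U)) 1
      rw [mul_one, one_smul] at this
      exact left_eq_add.mp this
    have h := hp U 1
    rw [hd1, add_zero] at h
    exact h.symm
  have hv : ∀ (U : X.Opens) (a : Γ(X, U)), v'.app U (OmegaSh.strSect X U a) = a • D' U 1 := by
    intro U a
    rw [← h1, ← Scheme.Modules.Hom.app_smul]
    exact congrArg (v'.app U) (mul_one (OmegaSh.fnSect X U (OmegaSh.strSect X U a))).symm
  refine Prod.ext ?_ ?_
  · ext U a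
    exact hv U a
  · refine PresheafOfModules.Derivation.ext ?_
    ext U a
    have h := hp U.unop a
    rw [hv] at h
    exact eq_sub_iff_add_eq'.mpr h.symm

end Groth.Agent.S5961
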