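import Groth.Statements.S5970
import Groth.Agent.L07.StalkBijective
import Groth.Agent.L18.RelSpecAlg
import Groth.Agent.L18.SymGraded
import Groth.Agent.L14.Smoothing.SymAlg
import Groth.Agent.L19.OmegaSh.OmAff
import Groth.Agent.L19.OmegaSh.Affine
import Groth.Agent.L19.OmegaSh.Universal
import Groth.Agent.L29.DCoh.QCohLocal
import Groth.Agent.L18.IdealModule

set_option autoImplicit false
set_option linter.style.haveILetI false
set_option maxSynthPendingDepth 3
set_option backward.isDefEq.respectTransparency false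
set_option backward.isDefEq.respectTransparency.types false
set_option linter.style.haveILetI false
universe u
open CategoryTheory CategoryTheory.Limits AlgebraicGeometry TopologicalSpace Opposite
open Nrm16

namespace Groth.Agent.S5970

/-- Let S be a scheme, E a quasi-coherent O_S-module and A its symmetric algebra, given as a
quasi-coherent O_S-algebra with a module map j : E ⟶ A having the universal property; let X = V(E)
be the relative spectrum of A with structure morphism p : X ⟶ S, and let (Ω', d) be a sheaf of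
differentials of X over S (d a universal S-derivation of O_X into Ω'). Let φ : p^*E ⟶ Ω' be an
O_X-linear map such that, whenever a local section t of E over U and a function t' on p⁻¹U
correspond (t' maps to j(t) under the canonical identification of p_*O_X with A), φ sends the
pullback of t to d t'. Then φ is an isomorphism. -/
theorem result {S : Scheme.{u}} (E : S.Modules) (hE : Coh.IsQCoh E)
    (A : RelSpec.QCAlg S) (j : E ⟶ A.toModule) (hA : RelSpec.IsSymAlg E A j)
    (Ω' : A.spec.Modules) (d : OmegaSh.Der A.π Ω') (hd : OmegaSh.IsUniversal d)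
    (φ : (Scheme.Modules.pullback A.π).obj E ⟶ Ω')
    (hφ : ∀ (U : S.Opens) (t : Γ(E, U)) (t' : Γ(A.spec, A.π ⁻¹ᵁ U)),
      A.gammaMap.app (op U) t' = j.app U t →
        φ.app (A.π ⁻¹ᵁ U) (OmegaSh.pullSect A.π E U t) = d.app (A.π ⁻¹ᵁ U) t') :
    IsIso φ := by
  classical
  haveI : Coh.IsQCoh E := hE
  haveI hqE : Coh.IsQCoh ((Scheme.Modules.pullback A.π).obj E) := Groth.L16.AffineBC.isQCoh_pullback A.π E
  haveI haff : IsAffineHom A.π := ⟨fun U hU => by
    rw [RelSpec.QCAlg.π_preimage A U hU]; exact isAffineOpen_opensRange _⟩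
  obtain ⟨e, he⟩ := Groth.L19.OmegaSh.exists_iso_of_isUniversal
    (Groth.L19.OmegaSh.isUniversal_dOmega (f := A.π)) hd
  haveI : Coh.IsQCoh (Omega.sheaf A.π) := Groth.L16.AffineBC.isQCoh_pullback _ _
  haveI : Coh.IsQCoh Ω' := Groth.L29.DC.isQCoh_of_iso' e inferInstance
  obtain ⟨Φ, hΦr, hΦι, -⟩ := Groth.L18.SymSheaf.exists_equiv hA
  haveI := Groth.L18.RelSpecAlg.isIso_gammaMap A
  refine Groth.L07.ModBij.isIso_of_affine_cover φ fun x => ?_
  obtain ⟨_, ⟨U, hU, rfl⟩, hxU, -⟩ := S.isBasis_affineOpens.exists_subset_of_mem_open (Set.mem_univ (A.π x)) isOpen_univ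
  let W : A.spec.Opens := A.π ⁻¹ᵁ U
  have hW : IsAffineOpen W := hU.preimage A.π
  refine ⟨W, hW, hxU, ?_⟩
  let G : A.spec.Modules := (Scheme.Modules.pullback A.π).obj E
  let R := Γ(S, U)
  let B := Γ(A.spec, W)
  letI algRB : Algebra R B := (A.π.appLE U W le_rfl).hom.toAlgebra
  have halg : ∀ r : R, algebraMap R B r = A.π.app U r := fun r =>
    congr($((Scheme.Hom.app_eq_appLE A.π (U := U)).symm) r)
  letI := Module.compHom Γ(G, W) (A.π.appLE U W le_rfl).hom
  haveI : IsScalarTower R B Γ(G, W) := IsScalarTower.of_algebraMap_smul fun _ _ => rfl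
  have hbc : IsBaseChange B (Groth.L16.AffineBC.pullRes A.π E (le_rfl : W ≤ A.π ⁻¹ᵁ U)) :=
    Groth.L16.AffineBC.isBaseChange_pull A.π E hU hW le_rfl
  let P := Groth.L16.AffineBC.pullRes A.π E (le_rfl : W ≤ A.π ⁻¹ᵁ U)
  have hP : ∀ m, P m = OmegaSh.pullSect A.π E U m := fun m => Groth.L18.Frame.rs_self _ _ _
  -- the ring isomorphism
  let γ : B ≃+* A.presheaf.obj (op U) := RingEquiv.ofBijective (A.gammaMap.app (op U)).hom
    (ConcreteCategory.bijective_of_isIso (A.gammaMap.app (op U)))
  let Θ : Groth.L18.SymSheaf.Sym E U ≃+* B := (Φ U hU).trans γ.symm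
  have hγ : ∀ r : R, γ (algebraMap R B r) = (A.str.app (op U)).hom r := fun r => by
    rw [halg]
    exact congr($(A.π_c_gammaMap).app (op U) r)
  have hΘr : ∀ r : R, Θ (algebraMap _ _ r) = algebraMap R B r := fun r => by
    show γ.symm (Φ U hU _) = _
    rw [hΦr, ← hγ, RingEquiv.symm_apply_apply]
  have hΘι : ∀ m : Γ(E, U), φ.app W (P m) = d.app W (Θ (SymmetricAlgebra.ι _ Γ(E, U) m)) := fun m => by
    rw [hP]
    refine hφ U m _ ?_
    refine (γ.apply_symm_apply _).trans ?_
    exact hΦι U hU m
  -- sections of the differentials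
  haveI := Groth.L19.OmegaSh.isIso_toSect A.π ⟨W, hW⟩ ⟨U, hU⟩ le_rfl
  have hT₀ : Function.Bijective (OmAff.toSect A.π U W le_rfl) :=
    ConcreteCategory.bijective_of_isIso (OmAff.toSect A.π U W le_rfl)
  let T : Ω[B⁄R] →ₗ[B] Γ(Ω', W) :=
    { toFun := fun ω => e.hom.app W (OmAff.toSect A.π U W le_rfl ω)
      map_add' := fun a b => (congrArg (e.hom.app W) (map_add (OmAff.toSect A.π U W le_rfl).hom a b)).trans
        (map_add (e.hom.app W).hom _ _)
      map_smul' := fun a b => (congrArg (e.hom.app W) ((OmAff.toSect A.π U W le_rfl).hom.map_smul a b)).trans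
        (e.hom.app_smul a _) }
  have hT : Function.Bijective T := (ConcreteCategory.bijective_of_isIso (e.hom.app W)).comp hT₀
  have hTd : ∀ b : B, T (KaehlerDifferential.D R B b) = d.app W b := fun b =>
    (congrArg (e.hom.app W) (OmAff.toSect_d A.π U W le_rfl b)).trans (congrArg (fun D : OmegaSh.Der A.π Ω' => D.app W b) he)
  let Te : Ω[B⁄R] ≃ₗ[B] Γ(Ω', W) := LinearEquiv.ofBijective T hT
  let F : Γ(G, W) →ₗ[B] Ω[B⁄R] := Te.symm.toLinearMap.comp
    ({ toFun := fun g => φ.app W g
       map_add' := fun a b => map_add _ a b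
       map_smul' := fun a g => φ.app_smul a g } : Γ(G, W) →ₗ[B] Γ(Ω', W))
  have hFP : ∀ m, F (P m) = KaehlerDifferential.D R B (Θ (SymmetricAlgebra.ι _ Γ(E, U) m)) := fun m => by
    apply Te.injective
    show Te (Te.symm (φ.app W (P m))) = T _
    rw [LinearEquiv.apply_symm_apply, hTd, hΘι]
  -- the derivation into the pullback
  letI : Module (Groth.L18.SymSheaf.Sym E U) Γ(G, W) := Module.compHom Γ(G, W) (Θ : Groth.L18.SymSheaf.Sym E U →+* B)
  have hsm : ∀ (s : Groth.L18.SymSheaf.Sym E U) (g : Γ(G, W)), s • g = Θ s • g := fun _ _ => rfl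
  haveI : IsScalarTower R (Groth.L18.SymSheaf.Sym E U) Γ(G, W) := IsScalarTower.of_algebraMap_smul fun r g => by
    rw [hsm, hΘr, algebraMap_smul]
  obtain ⟨Dsym, hDa, hDι, hDmul, -⟩ := Groth.L14.Smoothing.SymAlg.exists_derivation (A := R) (Q := Γ(E, U))
    (R := R) (M := Γ(G, W)) 0 (fun a b => by simp) (fun r => rfl) P.toAddMonoidHom (fun a q => by rw [AddMonoidHom.zero_apply, smul_zero, add_zero]; exact P.map_smul a q)
  let δ : Derivation R B Γ(G, W) := Derivation.mk'
    { toFun := fun b => Dsym (Θ.symm b)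
      map_add' := fun a b => by rw [map_add, map_add]
      map_smul' := fun r b => by
        show Dsym (Θ.symm (r • b)) = r • Dsym (Θ.symm b)
        rw [Algebra.smul_def, map_mul, hDmul, show Θ.symm (algebraMap R B r) = algebraMap _ _ r from
          Θ.symm_apply_eq.2 (hΘr r).symm, hDa, AddMonoidHom.zero_apply, smul_zero, add_zero, algebraMap_smul] }
    (fun a b => by
      show Dsym (Θ.symm (a * b)) = a • Dsym (Θ.symm b) + b • Dsym (Θ.symm a)
      rw [map_mul, hDmul, hsm, hsm, RingEquiv.apply_symm_apply, RingEquiv.apply_symm_apply])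
  have hδι : ∀ m, δ (Θ (SymmetricAlgebra.ι _ Γ(E, U) m)) = P m := fun m => by
    show Dsym (Θ.symm (Θ _)) = _
    rw [RingEquiv.symm_apply_apply, hDι]; rfl
  let L := δ.liftKaehlerDifferential
  have hLF : ∀ g, L (F g) = g := by
    intro g
    refine hbc.inductionOn g (fun g => L (F g) = g) ?_ ?_ ?_ ?_
    · rw [map_zero, map_zero]
    · intro m
      show L (F (P m)) = P m
      rw [hFP, Derivation.liftKaehlerDifferential_comp_D, hδι]
    · intro a g hg
      rw [map_smul, map_smul, hg]
    · intro a b ha hb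
      rw [map_add, map_add, ha, hb]
  have hFL : F.comp L = LinearMap.id := by
    refine Derivation.liftKaehlerDifferential_unique _ _ (Derivation.ext fun b => ?_)
    show F (L (KaehlerDifferential.D R B b)) = KaehlerDifferential.D R B b
    rw [Derivation.liftKaehlerDifferential_comp_D]
    obtain ⟨s, rfl⟩ := Θ.surjective b
    induction s using SymmetricAlgebra.induction with
    | algebraMap r => rw [hΘr, Derivation.map_algebraMap, Derivation.map_algebraMap, map_zero]
    | ι m => rw [hδι, hFP]
    | mul x y hx hy => rw [map_mul, Derivation.leibniz, Derivation.leibniz, map_add, map_smul, map_smul, hx, hy]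
    | add x y hx hy => rw [map_add, map_add, map_add, map_add, hx, hy]
  have hFb : Function.Bijective F :=
    ⟨Function.LeftInverse.injective hLF, fun ω => ⟨L ω, LinearMap.congr_fun hFL ω⟩⟩
  have h2 : Function.Bijective fun g => Te (F g) := Te.bijective.comp hFb
  convert h2 using 1
  funext g
  exact (Te.apply_symm_apply _).symm

end Groth.Agent.S5970
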