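import Groth.Statements.S5977
import Groth.Agent.L07.PrinParts.DiffOp

set_option autoImplicit false
set_option linter.style.haveILetI false
universe u
open CategoryTheory CategoryTheory.Limits AlgebraicGeometry TopologicalSpace Opposite
open Nrm16

namespace Groth.Agent.S5977

/-- Let f : Y ⟶ Z be a morphism and j : X ⟶ Y a closed immersion, and let φ : j^* P^n_{Y/Z} ⟶ P^n_{X/Z}
be the canonical O_X-linear map of sheaves of principal parts of order n, the one sending the
pullback of d^n b to d^n (j♯ b). Then φ is an epimorphism. (The published statement also identifies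
the kernel of φ as the ideal generated by the pullback of d^n of the ideal of j; this row states the
surjectivity.) -/
theorem result {X Y Z : Scheme.{u}} (f : Y ⟶ Z) (j : X ⟶ Y) [IsClosedImmersion j] (n : ℕ)
    (φ : (Scheme.Modules.pullback j).obj (PrinPart.P f n) ⟶ PrinPart.P (j ≫ f) n)
    (hφ : PrinPart.IsPMap f (j ≫ f) j n φ) :
    Epi φ := by
  refine ⟨fun {G} a b h => Groth.L07.PrinParts.hom_ext_dP (j ≫ f) n a b fun U t => ?_⟩
  refine Groth.L07.PrinParts.germ_ext _ _ _ fun x hx => ?_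
  obtain ⟨c, hc⟩ := j.stalkMap_surjective x (X.presheaf.germ U x hx (show Γ(X, U) from t))
  obtain ⟨V, hxV, c, rfl⟩ := Y.presheaf.exists_germ_eq c
  rw [Scheme.Hom.germ_stalkMap_apply] at hc
  obtain ⟨W, hxW, i₁, i₂, hW⟩ := X.presheaf.germ_eq x hxV hx _ _ hc
  have h1 := congrArg (fun k => Scheme.Modules.Hom.app k (j ⁻¹ᵁ V)
    (OmegaSh.pullSect j (PrinPart.P f n) V (PrinPart.dn f n V c))) h
  change a.app (j ⁻¹ᵁ V) (φ.app _ _) = b.app (j ⁻¹ᵁ V) (φ.app _ _) at h1
  rw [hφ V c] at h1
  have key : ∀ (k : PrinPart.P (j ≫ f) n ⟶ G) (U₁ : X.Opens) (e : W ≤ U₁) (s : Γ(X, U₁)),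
      G.presheaf.germ U₁ x (e hxW) (k.app U₁ (PrinPart.dn (j ≫ f) n U₁ s)) =
        G.presheaf.germ W x hxW (k.app W (PrinPart.dn (j ≫ f) n W (X.presheaf.map (homOfLE e).op s))) := by
    intro k U₁ e s
    rw [← TopCat.Presheaf.germ_res_apply G.presheaf (homOfLE e) x hxW]
    refine congrArg _ ?_
    refine (ConcreteCategory.congr_hom (k.mapPresheaf.naturality (homOfLE e).op) _).symm.trans ?_
    exact congrArg _ (PrinPart.dP_map (j ≫ f) n (Coh.structureModule X) e _).symm
  refine (key a U i₂.le t).trans (Eq.trans ?_ (key b U i₂.le t).symm)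
  have hW' : X.presheaf.map (homOfLE i₁.le).op (j.app V c) =
      X.presheaf.map (homOfLE i₂.le).op (show Γ(X, U) from t) := hW
  rw [← hW', ← key a _ i₁.le, ← key b _ i₁.le]
  exact congrArg _ h1

end Groth.Agent.S5977
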