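import Groth.Statements.S5978
import Groth.Agent.L07.PrinParts.DiffOp
import Groth.Agent.L19.OmegaSh.Universal

set_option autoImplicit false
set_option maxSynthPendingDepth 3
set_option backward.isDefEq.respectTransparency false
set_option backward.isDefEq.respectTransparency.types false
set_option linter.style.haveILetI false
universe u
open CategoryTheory CategoryTheory.Limits AlgebraicGeometry TopologicalSpace Opposite
open Nrm16

namespace Groth.Agent.S5978

/-- Let f : X ⟶ S be a quasi-separated morphism, Ω_{X/S} its sheaf of differentials (the conormal sheaf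
of the diagonal) with its derivation d, e : O_X ⟶ P^1_{X/S} the O_X-linear map s ↦ s·1 and ι :
Ω_{X/S} ⟶ P^1_{X/S} the O_X-linear map with ι(d s) = d^1 s − s·1 for every local function s. Then
the map O_X ⊕ Ω_{X/S} ⟶ P^1_{X/S} induced by e and ι is an isomorphism of O_X-modules for the left
structure of P^1_{X/S}; in other words Ω_{X/S} is identified with the augmentation ideal of
P^1_{X/S} and d s = d^1 s − s. (The published text takes this as the definition of Ω_{X/S} for every
f; here Ω_{X/S} is the conormal sheaf of the diagonal, formed for quasi-separated f, and the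
identification is stated.) -/
theorem result {X S : Scheme.{u}} (f : X ⟶ S) [QuasiSeparated f]
    (e : Coh.structureModule X ⟶ PrinPart.P f 1)
    (he : ∀ (U : X.Opens) (s : Γ(X, U)), e.app U (OmegaSh.strSect X U s) = s • PrinPart.dn f 1 U 1)
    (ι : Omega.sheaf f ⟶ PrinPart.P f 1)
    (hι : ∀ (U : X.Opens) (s : Γ(X, U)),
      ι.app U ((OmegaSh.dOmega f).app U s) = PrinPart.dn f 1 U s - s • PrinPart.dn f 1 U 1) :
    IsIso (coprod.desc e ι) := by
  classical
  let Ω := Omega.sheaf f
  let O := Coh.structureModule X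
  let d : OmegaSh.Der f Ω := OmegaSh.dOmega f
  -- the augmentation
  obtain ⟨q, hq⟩ := Groth.L07.PrinParts.exists_factor f 1 (F := O) (G := O) (D := 𝟙 O.presheaf)
    (fun V s U hU t => rfl)
    (fun U a t => by
      have hd : ∀ K : Finset (Fin 2), ((∏ i ∈ K, a i) • ((∏ i ∈ Kᶜ, a i) • t)) = (∏ i, a i) • t := fun K => by
        rw [smul_smul, Finset.prod_mul_prod_compl]
      show (∑ K : Finset (Fin 2), ((-1 : ℤ) ^ K.card) • ((∏ i ∈ K, a i) • ((∏ i ∈ Kᶜ, a i) • t))) = 0
      simp only [hd, ← Finset.sum_smul]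
      rw [← Finset.powerset_univ, Finset.sum_powerset_neg_one_pow_card, if_neg Finset.univ_nonempty.ne_empty, zero_smul])
  -- the differential
  let D : O.presheaf ⟶ Ω.presheaf :=
    { app := fun U => AddCommGrpCat.ofHom ((d.app U.unop).comp (OmegaSh.fnSect X U.unop))
      naturality := fun U V i => by
        ext t
        exact d.d_map i t }
  have hleib : ∀ (U : X.Opens) (x y : Γ(X, U)), d.app U (x * y) = x • d.app U y + y • d.app U x :=
    fun U x y => d.d_mul (X := op U) x y
  have hone : ∀ U : X.Opens, d.app U (1 : Γ(X, U)) = 0 := fun U => d.d_one (op U)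
  obtain ⟨p, hp⟩ := Groth.L07.PrinParts.exists_factor f 1 (F := O) (G := Ω) (D := D)
    (fun V s U hU t => by
      show d.app U (X.presheaf.map (homOfLE hU).op (f.app V s) * (show Γ(X, U) from t)) = _
      rw [hleib]
      have h0 : d.app U (X.presheaf.map (homOfLE hU).op (f.app V s)) = 0 := by
        refine (d.d_map (homOfLE hU).op (f.app V s)).trans ?_
        refine (congrArg _ (d.d_app (X := op V) s)).trans ?_
        exact map_zero _
      rw [h0, smul_zero, add_zero]
      rfl)
    (fun U a t => by
      show (∑ K : Finset (Fin 2), ((-1 : ℤ) ^ K.card) • ((∏ i ∈ K, a i) •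
        d.app U ((∏ i ∈ Kᶜ, a i) * (show Γ(X, U) from t)))) = 0
      rw [← Finset.powerset_univ, show (Finset.univ : Finset (Fin 2)) = {0, 1} from rfl,
        show ({0, 1} : Finset (Fin 2)).powerset = {∅, {0}, {1}, {0, 1}} from rfl]
      rw [Finset.sum_insert (by decide), Finset.sum_insert (by decide), Finset.sum_insert (by decide),
        Finset.sum_singleton]
      rw [show (∅ : Finset (Fin 2))ᶜ = {0, 1} from rfl, show ({0} : Finset (Fin 2))ᶜ = {1} from rfl,
        show ({1} : Finset (Fin 2))ᶜ = {0} from rfl, show ({0, 1} : Finset (Fin 2))ᶜ = ∅ from rfl]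
      simp only [Finset.prod_pair (show (0 : Fin 2) ≠ 1 by decide), Finset.prod_singleton, Finset.prod_empty,
        Finset.card_empty, Finset.card_singleton, Finset.card_pair (show (0 : Fin 2) ≠ 1 by decide), pow_zero,
        pow_one, one_smul, one_mul, neg_sq, one_pow, neg_smul]
      rw [hleib U (a 0 * a 1), hleib U (a 0) (a 1), hleib U (a 1), hleib U (a 0)]
      simp only [smul_add, smul_smul]
      rw [mul_comm (a 1) (a 0), mul_comm (show Γ(X, U) from t) (a 1), mul_comm (show Γ(X, U) from t) (a 0)]
      abel)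
  have hqn : ∀ (U : X.Opens) (s : Γ(X, U)), q.app U (PrinPart.dn f 1 U s) = OmegaSh.strSect X U s :=
    fun U s => (hq U (OmegaSh.strSect X U s)).symm
  have hpn : ∀ (U : X.Opens) (s : Γ(X, U)), p.app U (PrinPart.dn f 1 U s) = d.app U s :=
    fun U s => (hp U (OmegaSh.strSect X U s)).symm
  have hext : ∀ {G : X.Modules} (α β : Ω ⟶ G), (∀ (U : X.Opens) (s : Γ(X, U)),
      α.app U (d.app U s) = β.app U (d.app U s)) → α = β := fun {G} α β h => by
    refine (Groth.L19.OmegaSh.isUniversal_dOmega (f := f) G (d.postcomp α.val)).unique rfl ?_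
    refine PresheafOfModules.Derivation.ext ?_
    ext U s
    exact (h U.unop s).symm
  have he_q : e ≫ q = 𝟙 _ := by
    refine Scheme.Modules.hom_ext _ _ fun U => ?_
    ext s₀
    let s : Γ(X, U) := OmegaSh.fnSect X U s₀
    show q.app U (e.app U (OmegaSh.strSect X U s)) = OmegaSh.strSect X U s
    rw [he, q.app_smul, hqn]
    show (s * 1 : Γ(X, U)) = s
    rw [mul_one]
  have he_p : e ≫ p = 0 := by
    refine Scheme.Modules.hom_ext _ _ fun U => ?_
    ext s₀
    let s : Γ(X, U) := OmegaSh.fnSect X U s₀
    show p.app U (e.app U (OmegaSh.strSect X U s)) = 0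
    rw [he, p.app_smul, hpn, hone, smul_zero]
  have hι_q : ι ≫ q = 0 := hext _ _ fun U s => by
    show q.app U (ι.app U (d.app U s)) = 0
    rw [hι, map_sub, q.app_smul, hqn, hqn, sub_eq_zero]
    show s = s * (1 : Γ(X, U))
    rw [mul_one]
  have hι_p : ι ≫ p = 𝟙 _ := hext _ _ fun U s => by
    show p.app U (ι.app U (d.app U s)) = d.app U s
    rw [hι, map_sub, p.app_smul, hpn, hpn, hone, smul_zero, sub_zero]
  refine ⟨⟨q ≫ coprod.inl + p ≫ coprod.inr, coprod.hom_ext ?_ ?_, ?_⟩⟩
  · rw [coprod.inl_desc_assoc, Preadditive.comp_add, reassoc_of% he_q, reassoc_of% he_p, zero_comp, add_zero,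
      Category.comp_id]
  · rw [coprod.inr_desc_assoc, Preadditive.comp_add, reassoc_of% hι_q, reassoc_of% hι_p, zero_comp, zero_add,
      Category.comp_id]
  · rw [Preadditive.add_comp, Category.assoc, Category.assoc, coprod.inl_desc, coprod.inr_desc]
    refine Groth.L07.PrinParts.hom_ext_dP f 1 _ _ fun U t₀ => ?_
    let s : Γ(X, U) := OmegaSh.fnSect X U t₀
    show e.app U (q.app U (PrinPart.dn f 1 U s)) + ι.app U (p.app U (PrinPart.dn f 1 U s)) = PrinPart.dn f 1 U s
    rw [hqn, hpn, he, hι, add_sub_cancel]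

end Groth.Agent.S5978
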