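import Groth.Statements.S5979
-- import your own Groth.Agent.* helpers here

set_option autoImplicit false
universe u
open CategoryTheory CategoryTheory.Limits AlgebraicGeometry TopologicalSpace Opposite
open Nrm16

namespace Groth.Agent.S5979

lemma isEquivalence_pushforward {X Y : Scheme.{u}} (g : X ⟶ Y) [IsIso g] :
    (Scheme.Modules.pushforward g).IsEquivalence :=
  (CategoryTheory.Equivalence.mk (Scheme.Modules.pushforward g) (Scheme.Modules.pushforward (inv g))
    ((Scheme.Modules.pushforwardId X).symm ≪≫
      Scheme.Modules.pushforwardCongr (IsIso.hom_inv_id g).symm ≪≫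
      (Scheme.Modules.pushforwardComp g (inv g)).symm)
    (Scheme.Modules.pushforwardComp (inv g) g ≪≫
      Scheme.Modules.pushforwardCongr (IsIso.inv_hom_id g) ≪≫
      Scheme.Modules.pushforwardId Y)).isEquivalence_functor

lemma bijective_pullSect {X Y : Scheme.{u}} (g : X ⟶ Y) [IsIso g] (F : Y.Modules) (U : Y.Opens) :
    Function.Bijective (OmegaSh.pullSect g F U) := by
  have := isEquivalence_pushforward g
  have : (Scheme.Modules.pullback g).IsEquivalence :=
    (Scheme.Modules.pullbackPushforwardAdjunction g).isEquivalence_left_of_isEquivalence_right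
  have h : IsIso ((Scheme.Modules.pullbackPushforwardAdjunction g).unit.app F) := inferInstance
  have h2 : IsIso ((Scheme.Modules.Hom.app ((Scheme.Modules.pullbackPushforwardAdjunction g).unit.app F) U)) :=
    inferInstance
  exact (ConcreteCategory.isIso_iff_bijective _).1 h2


/-- Let f : X ⟶ S be a morphism of schemes and F an O_X-module. For every open U of X the canonical
operator d^0 : Γ(U, F) ⟶ Γ(U, P^0_{X/S}(F)) is bijective; so P^0_{X/S}(F) is identified with F, and
P^0_{X/S} with O_X, through d^0. -/
theorem result {X S : Scheme.{u}} (f : X ⟶ S) (F : X.Modules) (U : X.Opens) :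
    Function.Bijective (PrinPart.dP f 0 F U) := by
  have : IsIso (PrinPart.toNbhd f 0) := by
    have : IsIso (Scheme.IdealSheafData.inclusion
        (PrinPart.ker_pow_succ_le (PrinPart.diagCl f) 0)) := by
      refine ⟨Scheme.IdealSheafData.inclusion (le_of_eq (pow_one _).symm), ?_, ?_⟩ <;> simp
    have : IsIso (PrinPart.diagCl f).toImage := inferInstance
    exact IsIso.comp_isIso
  have : IsIso (PrinPart.pr2 f 0) :=
    IsIso.of_isIso_fac_left (PrinPart.toNbhd_pr2 f 0)
  have h1 := bijective_pullSect (PrinPart.pr2 f 0) F U
  have heq := PrinPart.preimage_pr1 f 0 U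
  have h2 : Function.Bijective (((Scheme.Modules.pullback (PrinPart.pr2 f 0)).obj F).presheaf.map
      (homOfLE heq.le).op) := by
    have : IsIso (homOfLE heq.le) := ⟨homOfLE heq.ge, Subsingleton.elim _ _, Subsingleton.elim _ _⟩
    exact (ConcreteCategory.isIso_iff_bijective _).1 inferInstance
  exact h2.comp h1

end Groth.Agent.S5979
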