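import Groth.Statements.S5982
import Groth.Agent.L07.WRegPoint
import Mathlib.AlgebraicGeometry.AffineTransitionLimit

set_option autoImplicit false
set_option maxSynthPendingDepth 3
set_option backward.isDefEq.respectTransparency false
set_option backward.isDefEq.respectTransparency.types false
set_option linter.style.haveILetI false
universe u
open CategoryTheory AlgebraicGeometry
open CInt

namespace Groth.Agent.S5982

/-- Let S = lim S_i be a cofiltered limit of schemes with affine, flat transition maps, such that either
every S_i is locally Noetherian or every transition map is surjective; let S_{i₀} be a quasi-compact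
stage and f_1, …, f_n global sections of the structure sheaf of S_{i₀}. Then the images of the f_k
form a regular sequence for the structure sheaf of S (that is, a weakly regular sequence in Γ(U,
O_S) for every affine open U of S; no condition on the last quotient) if and only if, for some index
j over i₀, their images form a regular sequence for the structure sheaf of S_j in the same sense.
This is the case of the structure sheaf. -/
theorem result {I : Type u} [SmallCategory I] [IsCofiltered I]
    (D : I ⥤ Scheme.{u}) (c : Limits.Cone D) (hc : Limits.IsLimit c)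
    [∀ (i j : I) (f : i ⟶ j), IsAffineHom (D.map f)]
    (hflat : ∀ (i j : I) (f : i ⟶ j), Flat (D.map f))
    (hcase : (∀ i : I, IsLocallyNoetherian (D.obj i)) ∨
      ∀ (i j : I) (f : i ⟶ j), Surjective (D.map f))
    (i₀ : I) [CompactSpace (D.obj i₀)] (fs : List Γ(D.obj i₀, ⊤)) :
    (∀ U : c.pt.affineOpens, RingTheory.Sequence.IsWeaklyRegular Γ(c.pt, U.1)
        (fs.map (fun f => (c.pt.presheaf.map (homOfLE (le_top : U.1 ≤ ⊤)).op).hom ((c.π.app i₀).appTop.hom f)))) ↔
      ∃ (j : I) (φ : j ⟶ i₀), ∀ U : (D.obj j).affineOpens,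
        RingTheory.Sequence.IsWeaklyRegular Γ(D.obj j, U.1)
          (fs.map (fun f => ((D.obj j).presheaf.map (homOfLE (le_top : U.1 ≤ ⊤)).op).hom ((D.map φ).appTop.hom f))) := by
  have hπ : ∀ i, Flat (c.π.app i) := fun i => Groth.L19.Limit.flat_π_app hc i fun j φ => hflat j i φ
  haveI := hπ
  haveI : ∀ {i j : I} (f : i ⟶ j), Flat (D.map f) := fun f => hflat _ _ f
  have h0 := Groth.L07.WRegPoint.forall_iff (fs.map fun f => (c.π.app i₀).appTop.hom f)
  simp only [Groth.L07.TransPoint.resList, List.map_map, Function.comp_def] at h0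
  refine h0.trans ?_
  constructor
  · intro h
    have hgood : ∀ p : c.pt, Groth.L07.WRegPoint.WAt fs (c.π.app i₀ p) := fun p =>
      (Groth.L07.WRegPoint.wAt_iff_of_flat (c.π.app i₀) fs p).mp (h p)
    suffices ∃ (j : I) (φ : j ⟶ i₀), ∀ y : D.obj j, Groth.L07.WRegPoint.WAt fs (D.map φ y) by
      obtain ⟨j, φ, hj⟩ := this
      refine ⟨j, φ, fun U => ?_⟩
      have h' := (Groth.L07.WRegPoint.forall_iff (fs.map fun f => (D.map φ).appTop.hom f)).mpr
        (fun y => (Groth.L07.WRegPoint.wAt_iff_of_flat (D.map φ) fs y).mpr (hj y)) U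
      simpa only [Groth.L07.TransPoint.resList, List.map_map, Function.comp_def] using h'
    rcases hcase with hN | hS
    · haveI := hN i₀
      let C : Set (D.obj i₀) := {x | ¬ Groth.L07.WRegPoint.WAt fs x}
      have hC : IsClosed C := isOpen_compl_iff.mp (isOpen_iff_forall_mem_open.mpr fun x hx => by
        obtain ⟨W, hxW, hW⟩ := Groth.L07.WRegPoint.exists_nhd fs x (not_not.mp hx)
        exact ⟨W, fun y hy hbad => hbad (hW y hy), W.2, hxW⟩)
      by_contra hne
      push Not at hne
      haveI : ∀ {i j : I} (f : i ⟶ j), IsAffineHom (D.map f) := fun f => inferInstance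
      obtain ⟨s, hs⟩ := exists_mem_of_isClosed_of_nonempty' D c hc (j := i₀)
        (fun j φ => D.map φ ⁻¹' C) (fun j φ => hC.preimage (D.map φ).continuous)
        (fun j φ => let ⟨y, hy⟩ := hne j φ; ⟨y, hy⟩)
        (fun j φ => by
          haveI : CompactSpace (D.obj j) := QuasiCompact.compactSpace_of_compactSpace (D.map φ)
          exact (hC.preimage (D.map φ).continuous).isCompact)
        (fun j k a φ y hy => by
          show D.map φ (D.map a y) ∈ C
          rw [← Scheme.Hom.comp_apply, ← D.map_comp]
          exact hy)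
      have h1 := hs i₀ (𝟙 i₀)
      rw [D.map_id] at h1
      exact h1 (hgood s)
    · refine ⟨i₀, 𝟙 i₀, fun y => ?_⟩
      haveI : ∀ {i j : I} (f : i ⟶ j), IsAffineHom (D.map f) := fun f => inferInstance
      have hy : D.map (𝟙 i₀) y ∈ Set.range (c.π.app i₀) := by
        rw [Groth.L19.Limit.range_π_app hc i₀]
        exact Set.mem_iInter₂.mpr fun j φ => (hS j i₀ φ).surj _
      obtain ⟨p, hp⟩ := hy
      rw [← hp]
      exact hgood p
  · rintro ⟨j, φ, h⟩ p
    have hj : ∀ y : D.obj j, Groth.L07.WRegPoint.WAt fs (D.map φ y) := fun y =>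
      (Groth.L07.WRegPoint.wAt_iff_of_flat (D.map φ) fs y).mp
        ((Groth.L07.WRegPoint.forall_iff (fs.map fun f => (D.map φ).appTop.hom f)).mp (fun U => by
          simpa only [Groth.L07.TransPoint.resList, List.map_map, Function.comp_def] using h U) y)
    refine (Groth.L07.WRegPoint.wAt_iff_of_flat (c.π.app i₀) fs p).mpr ?_
    rw [← c.w φ]
    exact hj (c.π.app j p)

end Groth.Agent.S5982
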