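import Groth.Statements.S5983
import Groth.Agent.L07.RegImmLimit

set_option autoImplicit false
set_option maxSynthPendingDepth 3
set_option backward.isDefEq.respectTransparency false
set_option backward.isDefEq.respectTransparency.types false
set_option linter.style.haveILetI false
universe u
open CategoryTheory AlgebraicGeometry
open CInt

namespace Groth.Agent.S5983

/-- Let S = lim S_i be a cofiltered limit of schemes with affine, flat transition maps, S_{i₀} a stage
and j₀ : X₀ ⟶ S_{i₀} an immersion with X₀ quasi-compact; assume either that every S_i is locally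
Noetherian, or that every transition map is surjective and j₀ is locally of finite presentation.
Then the base change X₀ ×_{S_{i₀}} S ⟶ S of j₀ is a regular immersion if and only if, for some index
j over i₀, the base change X₀ ×_{S_{i₀}} S_j ⟶ S_j is a regular immersion. -/
theorem result {I : Type u} [SmallCategory I] [IsCofiltered I]
    (D : I ⥤ Scheme.{u}) (c : Limits.Cone D) (hc : Limits.IsLimit c)
    [∀ (i j : I) (f : i ⟶ j), IsAffineHom (D.map f)]
    (hflat : ∀ (i j : I) (f : i ⟶ j), Flat (D.map f))
    (i₀ : I) {X₀ : Scheme.{u}} (j₀ : X₀ ⟶ D.obj i₀) [CompactSpace X₀] [IsImmersion j₀]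
    (hcase : (∀ i : I, IsLocallyNoetherian (D.obj i)) ∨
      ((∀ (i j : I) (f : i ⟶ j), Surjective (D.map f)) ∧ LocallyOfFinitePresentation j₀)) :
    RegImm.IsRegularImmersion RegImm.Kind.regular (Limits.pullback.snd j₀ (c.π.app i₀)) ↔
      ∃ (j : I) (φ : j ⟶ i₀),
        RegImm.IsRegularImmersion RegImm.Kind.regular (Limits.pullback.snd j₀ (D.map φ)) := by
  constructor
  · intro h
    haveI : ∀ {i j : I} (f : i ⟶ j), IsAffineHom (D.map f) := fun f => inferInstance
    have hπ : ∀ j, Flat (Groth.L07.RegImmLimit.pr c j) := fun j =>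
      Groth.L19.Limit.flat_π_app hc j fun a φ => hflat a j φ
    have haff : ∀ j, IsAffineHom (Groth.L07.RegImmLimit.pr c j) := fun j => isAffineHom_π_app D c hc j
    obtain ⟨k, hk⟩ := Groth.L07.RegImmLimit.exists_stage_regular hc hflat
      (IsPullback.of_hasPullback j₀ (c.π.app i₀))
      (fun k O hO hcl => by
        rcases hcase with hN | ⟨-, hfp⟩
        · haveI := hN k.left
          haveI : IsNoetherianRing Γ(D.obj k.left, O) := IsLocallyNoetherian.component_noetherian ⟨O, hO⟩
          exact IsNoetherian.noetherian _
        · haveI := hfp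
          haveI : LocallyOfFinitePresentation (Limits.pullback.fst (D.map k.hom) j₀ ≫ 𝟙 (D.obj k.left)) := by
            rw [Category.comp_id]
            exact MorphismProperty.pullback_fst _ _ inferInstance
          exact Groth.L07.TransImm.fg_ker (𝟙 (D.obj k.left)) (Limits.pullback.fst (D.map k.hom) j₀) hO hO le_rfl hcl)
      (fun j O hO l hl p hp => by
        haveI := hπ j
        haveI := haff j
        rcases hcase with hN | ⟨hS, -⟩
        · haveI := hN j
          exact Groth.L07.RegImmLimit.exists_nhd_noetherian (Groth.L07.RegImmLimit.pr c j) hO (hO.preimage _) le_rfl l hl p hp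
        · haveI : Surjective (Groth.L07.RegImmLimit.pr c j) := ⟨fun y => by
            show y ∈ Set.range (c.π.app j)
            rw [Groth.L19.Limit.range_π_app hc j]
            exact Set.mem_iInter₂.mpr fun a φ => (hS a j φ).surj y⟩
          refine ⟨O, hO, le_rfl, hp, ?_⟩
          convert Groth.L07.RegImmLimit.descend_surjective (Groth.L07.RegImmLimit.pr c j) hO (hO.preimage _) l hl using 1
          exact (List.map_congr_left fun b _ => congr($((D.obj j).presheaf.map_id _) b)).trans (List.map_id l))
      h
    refine ⟨k.left, k.hom, ?_⟩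
    exact Groth.L03.RegImmFlat.isRegularImmersion_baseChange _ (Limits.pullback.fst (D.map k.hom) j₀) (𝟙 _)
      (Limits.pullback.snd j₀ (D.map k.hom)) (Limits.pullbackSymmetry j₀ (D.map k.hom)).hom
      (IsPullback.of_horiz_isIso ⟨by simp⟩) hk
  · rintro ⟨j, φ, h⟩
    haveI : ∀ {i j : I} (f : i ⟶ j), IsAffineHom (D.map f) := fun f => inferInstance
    haveI : Flat (c.π.app j) := Groth.L19.Limit.flat_π_app hc j fun a ψ => hflat a j ψ
    let q : Limits.pullback j₀ (c.π.app i₀) ⟶ Limits.pullback j₀ (D.map φ) :=
      Limits.pullback.lift (Limits.pullback.fst _ _) (Limits.pullback.snd _ _ ≫ c.π.app j)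
        (by rw [Category.assoc, c.w φ, Limits.pullback.condition])
    have hq : q ≫ Limits.pullback.fst j₀ (D.map φ) = Limits.pullback.fst j₀ (c.π.app i₀) := Limits.pullback.lift_fst _ _ _
    have sq : IsPullback q (Limits.pullback.snd j₀ (c.π.app i₀)) (Limits.pullback.snd j₀ (D.map φ)) (c.π.app j) := by
      refine IsPullback.of_right ?_ (Limits.pullback.lift_snd _ _ _) (IsPullback.of_hasPullback j₀ (D.map φ))
      rw [hq, c.w φ]
      exact IsPullback.of_hasPullback j₀ (c.π.app i₀)
    exact Groth.L03.RegImmFlat.isRegularImmersion_baseChange _ _ (c.π.app j) _ q sq h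

end Groth.Agent.S5983
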