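import Groth.Statements.S5984
import Groth.Agent.L07.TransImmLimit

set_option autoImplicit false
set_option maxSynthPendingDepth 3
set_option backward.isDefEq.respectTransparency false
set_option backward.isDefEq.respectTransparency.types false
set_option linter.style.haveILetI false
universe u
open CategoryTheory AlgebraicGeometry
open CInt

namespace Groth.Agent.S5984

/-- Let S = lim S_i be a cofiltered limit of schemes with affine transition maps, S_{i₀} a stage, g₀ :
X₀ ⟶ S_{i₀} locally of finite presentation with X₀ quasi-compact, and j₀ : Y₀ ⟶ X₀ an immersion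
locally of finite presentation with Y₀ quasi-compact. Then the base change Y₀ ×_{S_{i₀}} S ⟶ X₀
×_{S_{i₀}} S of j₀ is an immersion transversally regular relative to S if and only if, for some
index j over i₀, the base change Y₀ ×_{S_{i₀}} S_j ⟶ X₀ ×_{S_{i₀}} S_j is transversally regular
relative to S_j. -/
theorem result {I : Type u} [SmallCategory I]
    [IsCofiltered I] (D : I ⥤ Scheme.{u}) (c : Limits.Cone D) (hc : Limits.IsLimit c)
    [∀ (i j : I) (f : i ⟶ j), IsAffineHom (D.map f)]
    (i₀ : I) {X₀ Y₀ : Scheme.{u}} (g₀ : X₀ ⟶ D.obj i₀) [CompactSpace X₀]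
    [LocallyOfFinitePresentation g₀] (j₀ : Y₀ ⟶ X₀) [CompactSpace Y₀] [IsImmersion j₀]
    [LocallyOfFinitePresentation j₀] :
    RegImm.IsTransRegularImmersion (Limits.pullback.snd g₀ (c.π.app i₀))
        (Limits.pullback.snd j₀ (Limits.pullback.fst g₀ (c.π.app i₀))) ↔
      ∃ (j : I) (φ : j ⟶ i₀), RegImm.IsTransRegularImmersion (Limits.pullback.snd g₀ (D.map φ))
        (Limits.pullback.snd j₀ (Limits.pullback.fst g₀ (D.map φ))) := by
  constructor
  · intro h
    obtain ⟨k, hk⟩ := Groth.L07.TransImmLimit.exists_stage_trans hc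
      (IsPullback.of_hasPullback g₀ (c.π.app i₀)) (IsPullback.of_hasPullback j₀ (Limits.pullback.fst g₀ (c.π.app i₀))) h
    refine ⟨k.left, k.hom, ?_⟩
    let q := (Limits.pullbackSymmetry g₀ (D.map k.hom)).hom
    have sq : IsPullback q (Limits.pullback.snd g₀ (D.map k.hom)) (Limits.pullback.fst (D.map k.hom) g₀) (𝟙 _) :=
      IsPullback.of_horiz_isIso ⟨by simp [q]⟩
    have hsnd := Groth.L19.Limit.isPullback_stageHom (D := D) j₀ g₀ k
    have hq : q ≫ Limits.pullback.snd (D.map k.hom) g₀ = Limits.pullback.fst g₀ (D.map k.hom) := by simp [q]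
    let gZ : Limits.pullback j₀ (Limits.pullback.fst g₀ (D.map k.hom)) ⟶ _ :=
      hsnd.lift (Limits.pullback.fst _ _) (Limits.pullback.snd _ _ ≫ q)
        (by rw [Category.assoc, hq]; exact Limits.pullback.condition)
    have hsq : IsPullback gZ (Limits.pullback.snd j₀ (Limits.pullback.fst g₀ (D.map k.hom)))
        (Groth.L19.Limit.stageHom j₀ g₀ k) q := by
      refine IsPullback.of_right ?_ (hsnd.lift_snd _ _ _) hsnd
      rw [hsnd.lift_fst, hq]
      exact IsPullback.of_hasPullback _ _
    exact Groth.L07.TransPair.trans_baseChange sq hsq hk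
  · rintro ⟨j, φ, h⟩
    let q : Limits.pullback g₀ (c.π.app i₀) ⟶ Limits.pullback g₀ (D.map φ) :=
      Limits.pullback.lift (Limits.pullback.fst _ _) (Limits.pullback.snd _ _ ≫ c.π.app j)
        (by rw [Category.assoc, c.w φ, Limits.pullback.condition])
    have hq : q ≫ Limits.pullback.fst g₀ (D.map φ) = Limits.pullback.fst g₀ (c.π.app i₀) := Limits.pullback.lift_fst _ _ _
    have sq : IsPullback q (Limits.pullback.snd g₀ (c.π.app i₀)) (Limits.pullback.snd g₀ (D.map φ)) (c.π.app j) := by
      refine IsPullback.of_right ?_ (Limits.pullback.lift_snd _ _ _) (IsPullback.of_hasPullback g₀ (D.map φ))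
      rw [hq, c.w φ]
      exact IsPullback.of_hasPullback g₀ (c.π.app i₀)
    have hj := IsPullback.of_hasPullback j₀ (Limits.pullback.fst g₀ (D.map φ))
    have hsq : IsPullback (hj.lift (Limits.pullback.fst _ _) (Limits.pullback.snd _ _ ≫ q)
        (by rw [Category.assoc, hq]; exact Limits.pullback.condition))
        (Limits.pullback.snd j₀ (Limits.pullback.fst g₀ (c.π.app i₀)))
        (Limits.pullback.snd j₀ (Limits.pullback.fst g₀ (D.map φ))) q := by
      refine IsPullback.of_right ?_ (hj.lift_snd _ _ _) hj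
      rw [hj.lift_fst, hq]
      exact IsPullback.of_hasPullback _ _
    exact Groth.L07.TransPair.trans_baseChange sq hsq h

end Groth.Agent.S5984
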