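import Groth.Statements.S5985
import Groth.Agent.L16.FinPart.Union

set_option autoImplicit false
universe u
open CategoryTheory AlgebraicGeometry
open Unram

namespace Groth.Agent.S5985

/-- Let f : X ⟶ Y be separated and locally of finite type, and y a point of Y whose fibre f⁻¹(y) is
finite (hence discrete). Then there are an étale morphism g : Y' ⟶ Y, a point y' of Y' with g(y') =
y inducing an isomorphism of residue fields κ(y) ≅ κ(y'), and two complementary open subschemes V, W
of X' = X ×_Y Y' such that V ⟶ Y' is finite and W contains no point of X' lying over y'. -/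
theorem result {X Y : Scheme.{u}} (f : X ⟶ Y)
    [LocallyOfFiniteType f] [IsSeparated f] (y : Y) (hfin : (f ⁻¹' {y}).Finite) :
    ∃ (Y' : Scheme.{u}) (g : Y' ⟶ Y) (y' : Y'), Etale g ∧ g y' = y ∧
      IsIso (g.residueFieldMap y') ∧
      ∃ (V W : (Limits.pullback f g).Opens), IsCompl V W ∧
        IsFinite (V.ι ≫ Limits.pullback.snd f g) ∧
        ∀ x : ↥(Limits.pullback f g), Limits.pullback.snd f g x = y' → x ∈ V := by
  haveI : Finite ↥(f ⁻¹' {y}) := hfin.to_subtype
  have hx : ∀ i : ↥(f ⁻¹' {y}), f.QuasiFiniteAt i.1 := by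
    intro i
    have hi : f i.1 = y := i.2
    haveI : Finite (f.fiber (f i.1)) := by
      rw [hi]; exact (f.fiberHomeo y).finite_iff.mpr ‹_›
    exact Scheme.Hom.quasiFiniteAt_iff_isOpen_singleton_asFiber.mpr (isOpen_discrete _)
  obtain ⟨U, g, u, hn, V, hV⟩ := Groth.L16.FinPart.exists_family f y (fun i : ↥(f ⁻¹' {y}) => i.1)
    (fun i => i.2) hx
  haveI : ∀ i, IsFinite ((V i).ι ≫ Limits.pullback.snd f g) := fun i => (hV i).finite
  haveI : IsFinite ((⨆ i, V i).ι ≫ Limits.pullback.snd f g) := Groth.L16.FinPart.isFinite_iSup _ V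
  have hcl : IsClosed ((⨆ i, V i : (Limits.pullback f g).Opens) : Set ↥(Limits.pullback f g)) :=
    Groth.L16.FinPart.isClosed_of_isFinite (Limits.pullback.snd f g) _
  refine ⟨U, g, u, hn.etale, hn.base_eq, (ConcreteCategory.isIso_iff_bijective _).2 hn.residue_bijective,
    ⨆ i, V i, ⟨_, hcl.isOpen_compl⟩, ?_, inferInstance, fun x hx => ?_⟩
  · refine IsCompl.of_eq (TopologicalSpace.Opens.ext ?_) (TopologicalSpace.Opens.ext ?_)
    · exact Set.inter_compl_self _
    · exact Set.union_compl_self _
  · have hfx : f (Limits.pullback.fst f g x) = y := by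
      rw [← Scheme.Hom.comp_apply, Limits.pullback.condition, Scheme.Hom.comp_apply, hx, hn.base_eq]
    obtain ⟨v, hv, hvu, hvx⟩ := (hV ⟨_, hfx⟩).exists_mem
    obtain ⟨w, -, -, -, huniq⟩ := Groth.L16.FinPart.exists_unique_point f g u hn.residue_bijective
      (Limits.pullback.fst f g x) (hfx.trans hn.base_eq.symm)
    rw [(huniq x rfl hx).trans (huniq v hvx hvu).symm]
    exact TopologicalSpace.Opens.mem_iSup.2 ⟨_, hv⟩
end Groth.Agent.S5985
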