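import Groth.Statements.S5986
import Groth.Agent.L07.GeomRk.DepthAlong
-- import your own Groth.Agent.* helpers here

set_option autoImplicit false
universe u
open CategoryTheory CategoryTheory.Limits AlgebraicGeometry TopologicalSpace Topology
open CInt

namespace Groth.Agent.S5986

/-- Let f : X ⟶ S be locally of finite presentation, Y a closed subset of X which is locally
constructible in X, F a finitely presented quasi-coherent O_X-module flat over S, and n a natural
number. Then the set V_n of points y of Y at which the depth of the fibre module F_{f(y)} along Y ∩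
X_{f(y)} is at least n is retrocompact in X: it meets every quasi-compact open subset of X in a
quasi-compact set. -/
theorem result {X S : Scheme.{u}} (f : X ⟶ S)
    [LocallyOfFinitePresentation f] (Y : Closeds ↥X) (hY : IsLocallyConstructible (Y : Set ↥X))
    (F : X.Modules) (hqc : Coh.IsQCoh F) (hfp : CohB1.IsFP F) (hfl : FlatMod.IsFlatOver f F)
    (n : ℕ) :
    IsRetrocompact {y : ↥X | y ∈ Y ∧ (n : ℕ∞) ≤ CInt.fiberDepthAlong f F (Y : Set ↥X) y} := by
  refine Groth.L07.DepthAlong.isRetrocompact_of_isLocallyConstructible ?_
  convert hY.inter (L02.Cons.isLocallyConstructible_compl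
    (Groth.L07.DepthAlong.isLocallyConstructible_bad f F hfp hY n)) using 1
  ext y
  exact and_congr_right fun _ => Groth.L07.DepthAlong.natCast_le_iff f F hfp (Y : Set ↥X) n y

end Groth.Agent.S5986
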