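import Groth.Statements.S5991
import Groth.Agent.L06.CplKaehlerUniv
import Mathlib.RingTheory.AdicCompletion.Completeness
import Mathlib.RingTheory.AdicCompletion.Exactness

set_option autoImplicit false
set_option maxSynthPendingDepth 3
set_option linter.style.haveILetI false
universe u
open scoped TensorProduct
open EGA418

namespace Groth.Agent.S5991

/-- Let k be a field, R and S complete Noetherian local k-algebras such that the module of differentials
of the residue field of S over k is finite-dimensional, and let S be a finite R-algebra through a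
k-algebra homomorphism R → S. Write m for the maximal ideal of S and complete m-adically. Then the
S-module Ω_{S/R} is m-adically complete (it is its own completion), and the sequence of completed
modules (S ⊗_R Ω_{R/k})^ ⟶ (Ω_{S/k})^ ⟶ (Ω_{S/R})^ ⟶ 0, induced by the canonical maps S ⊗_R Ω_{R/k}
⟶ Ω_{S/k} ⟶ Ω_{S/R}, is exact: the second map is surjective and its kernel is the image of the
first. -/
theorem result (k R S : Type u) [Field k] [CommRing R] [IsNoetherianRing R]
    [IsLocalRing R] [Algebra k R] [IsAdicComplete (IsLocalRing.maximalIdeal R) R]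
    [CommRing S] [IsNoetherianRing S] [IsLocalRing S] [Algebra k S]
    [IsAdicComplete (IsLocalRing.maximalIdeal S) S] [Algebra R S] [IsScalarTower k R S]
    [Module.Finite R S] [Module.Finite (IsLocalRing.ResidueField S) (Ω[IsLocalRing.ResidueField S⁄k])] :
    IsAdicComplete (IsLocalRing.maximalIdeal S) (Ω[S⁄R]) ∧
      Function.Surjective (AdicCompletion.map (IsLocalRing.maximalIdeal S) (KaehlerDifferential.map k R S S)) ∧
      LinearMap.range (AdicCompletion.map (IsLocalRing.maximalIdeal S) (KaehlerDifferential.mapBaseChange k R S)) =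
        LinearMap.ker (AdicCompletion.map (IsLocalRing.maximalIdeal S) (KaehlerDifferential.map k R S S)) := by
  classical
  let m := IsLocalRing.maximalIdeal S
  refine ⟨(AdicCompletion.of_bijective_iff).mp (Groth.L06.CplKaehlerUniv.of_bijective (A := S) (Ω[S⁄R])),
    AdicCompletion.map_surjective _ (KaehlerDifferential.map_surjective k R S), ?_⟩
  haveI : Module.Finite (S ⧸ IsLocalRing.maximalIdeal S) (Ω[S ⧸ IsLocalRing.maximalIdeal S⁄k]) :=
    ‹Module.Finite (IsLocalRing.ResidueField S) (Ω[IsLocalRing.ResidueField S⁄k])›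
  haveI : Module.Finite S (IsLocalRing.maximalIdeal S) :=
    Module.Finite.iff_fg.mpr ((isNoetherianRing_iff_ideal_fg S).mp inferInstance _)
  haveI : Module.Finite S (IsLocalRing.maximalIdeal S).Cotangent :=
    Module.Finite.of_surjective _ (IsLocalRing.maximalIdeal S).toCotangent_surjective
  haveI : Module.Finite (S ⧸ IsLocalRing.maximalIdeal S) (IsLocalRing.maximalIdeal S).Cotangent :=
    Module.Finite.of_restrictScalars_finite S _ _
  haveI hfin : Module.Finite S (AdicCompletion m (Ω[S⁄k])) := Groth.L06.CplKaehler.finite_completedKaehler m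
  let φ := KaehlerDifferential.mapBaseChange k R S
  let ψ := KaehlerDifferential.map k R S S
  have hmono : LinearMap.range (AdicCompletion.map m φ) ≤ LinearMap.ker (AdicCompletion.map m ψ) := by
    rintro _ ⟨x, rfl⟩
    rw [LinearMap.mem_ker, ← LinearMap.comp_apply, AdicCompletion.map_comp,
      (KaehlerDifferential.exact_mapBaseChange_map k R S).linearMap_comp_eq_zero, AdicCompletion.map_zero, LinearMap.zero_apply]
  refine le_antisymm hmono fun z hz => ?_
  let W : Submodule S (AdicCompletion m (Ω[S⁄k])) := (LinearMap.range (AdicCompletion.map m φ)).restrictScalars S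
  show z ∈ W
  rw [← Submodule.Quotient.mk_eq_zero]
  have hall : ∀ n : ℕ, Submodule.Quotient.mk (p := W) z ∈ (m ^ n • ⊤ : Submodule S (AdicCompletion m (Ω[S⁄k]) ⧸ W)) := by
    intro n
    obtain ⟨y, hy⟩ := Submodule.Quotient.mk_surjective _ (z.val n)
    have h1 : Submodule.Quotient.mk (ψ y) = (0 : Ω[S⁄R] ⧸ (m ^ n • ⊤ : Submodule S (Ω[S⁄R]))) := by
      have h0 := congrArg (fun w => w.val n) hz
      refine Eq.trans ?_ h0
      show _ = (AdicCompletion.map m ψ z).val n
      rw [AdicCompletion.map_val_apply, ← hy]
      rfl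
    have h2 : ψ y ∈ Submodule.map ψ (m ^ n • ⊤ : Submodule S (Ω[S⁄k])) := by
      rw [Submodule.map_smul'', Submodule.map_top, LinearMap.range_eq_top.mpr (KaehlerDifferential.map_surjective k R S)]
      exact (Submodule.Quotient.mk_eq_zero _).mp h1
    obtain ⟨d, hd, hdy⟩ := h2
    obtain ⟨w, hw⟩ := (KaehlerDifferential.exact_mapBaseChange_map k R S (y - d)).mp (by rw [map_sub]; exact sub_eq_zero.mpr hdy.symm)
    have h3 : z - AdicCompletion.map m φ (AdicCompletion.of m _ w) ∈ (m ^ n • ⊤ : Submodule S (AdicCompletion m (Ω[S⁄k]))) := by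
      rw [AdicCompletion.pow_smul_top_eq_ker_eval ((isNoetherianRing_iff_ideal_fg S).mp inferInstance m), LinearMap.mem_ker, map_sub,
        sub_eq_zero, AdicCompletion.eval_apply, AdicCompletion.eval_apply, AdicCompletion.map_of, ← hy]
      show Submodule.Quotient.mk y = Submodule.Quotient.mk (φ w)
      rw [hw, Submodule.Quotient.eq]
      simpa using hd
    have h4 := Submodule.mem_map_of_mem (f := W.mkQ) h3
    rw [Submodule.map_smul'', map_sub, Submodule.mkQ_apply, Submodule.mkQ_apply,
      (Submodule.Quotient.mk_eq_zero W).mpr (⟨_, rfl⟩ : AdicCompletion.map m φ (AdicCompletion.of m _ w) ∈ W), sub_zero] at h4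
    exact Submodule.smul_mono le_rfl le_top h4
  have hinf : Submodule.Quotient.mk (p := W) z ∈ (⨅ i : ℕ, m ^ i • ⊤ : Submodule S (AdicCompletion m (Ω[S⁄k]) ⧸ W)) :=
    (Submodule.mem_iInf _).mpr hall
  rwa [Ideal.iInf_pow_smul_eq_bot_of_isLocalRing _ (IsLocalRing.maximalIdeal.isMaximal S).ne_top, Submodule.mem_bot] at hinf

end Groth.Agent.S5991
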