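import Groth.Statements.S5993
import Groth.Agent.L06.CplGeomMain
import Groth.Agent.L22.AffineDim

set_option autoImplicit false
set_option maxSynthPendingDepth 3
set_option linter.style.haveILetI false
universe u
open scoped TensorProduct
open EGA418

namespace Groth.Agent.S5993

/-- Let k be a field, A a complete Noetherian local k-algebra with maximal ideal m whose residue field
is a finite extension of k, k' an extension field of k, I the ideal of A ⊗_k k' generated by m, and
A' the completed tensor product of A and k' over k, namely the I-adic completion of A ⊗_k k'. Then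
A' is a Noetherian ring with finitely many maximal ideals, complete and separated for the ideal
generated by m, and for every maximal ideal M of A' the local ring A'_M is complete, faithfully flat
over A, of the same dimension as A, and has residue field finite over k'. -/
theorem result (k A k' : Type u) [Field k]
    [CommRing A] [IsNoetherianRing A] [IsLocalRing A] [Algebra k A]
    [IsAdicComplete (IsLocalRing.maximalIdeal A) A] [Module.Finite k (IsLocalRing.ResidueField A)]
    [Field k'] [Algebra k k'] (I : Ideal (A ⊗[k] k'))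
    (hI : I = (IsLocalRing.maximalIdeal A).map (algebraMap A (A ⊗[k] k'))) :
    IsNoetherianRing (AdicCompletion I (A ⊗[k] k')) ∧
      Finite (MaximalSpectrum (AdicCompletion I (A ⊗[k] k'))) ∧
      IsAdicComplete ((IsLocalRing.maximalIdeal A).map (algebraMap A (AdicCompletion I (A ⊗[k] k'))))
        (AdicCompletion I (A ⊗[k] k')) ∧
      ∀ M : MaximalSpectrum (AdicCompletion I (A ⊗[k] k')),
        IsAdicComplete (IsLocalRing.maximalIdeal (Localization.AtPrime M.asIdeal))
            (Localization.AtPrime M.asIdeal) ∧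
          Module.FaithfullyFlat A (Localization.AtPrime M.asIdeal) ∧
          ringKrullDim (Localization.AtPrime M.asIdeal) = ringKrullDim A ∧
          (((Ideal.Quotient.mk M.asIdeal).comp (algebraMap (A ⊗[k] k') (AdicCompletion I (A ⊗[k] k')))).comp
              Algebra.TensorProduct.includeRight.toRingHom).Finite := by
  classical
  subst hI
  obtain ⟨d, y, N, hy, hN, hd⟩ := Groth.L01.CohenFinite.exists_sop (R := A) ⊥ bot_le
  rw [sup_bot_eq] at hN
  rw [ringKrullDim_eq_of_ringEquiv (RingEquiv.quotientBot A)] at hd
  obtain ⟨alg, hT, hloc, hfin, -⟩ := Groth.L06.CplKaehlerRank.exists_powerSeries_finite (k := k) y hy N hN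
  letI := alg
  haveI := hT
  haveI := hloc
  haveI := hfin
  let R' := MvPowerSeries (Fin d) k'
  let C := Groth.L06.CplTensor.Mdl k k' A d
  let T := AdicCompletion ((IsLocalRing.maximalIdeal A).map (algebraMap A (A ⊗[k] k'))) (A ⊗[k] k')
  obtain ⟨e, heA, hec⟩ : ∃ e : T ≃+* C,
      (∀ a, e (algebraMap (A ⊗[k] k') T (a ⊗ₜ 1)) = Groth.L06.CplTensor.jA a) ∧
        ∀ c, e (algebraMap (A ⊗[k] k') T (1 ⊗ₜ c)) = Groth.L06.CplTensor.jR (MvPowerSeries.C c) :=
    Groth.L06.CplTensor.exists_equiv (k := k) (k' := k') (A := A) (n := d)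
  have heA' : ∀ a, e (algebraMap A T a) = Groth.L06.CplTensor.jA a := fun a => by
    rw [IsScalarTower.algebraMap_apply A (A ⊗[k] k') T]
    exact heA a
  haveI : IsAdicComplete (IsLocalRing.maximalIdeal k') k' := by rw [IsLocalRing.maximalIdeal_eq_bot]; infer_instance
  haveI : IsAdicComplete (IsLocalRing.maximalIdeal R') R' := Groth.L12.isAdicComplete_mvPowerSeries
  haveI : HenselianLocalRing R' := Groth.L05.henselianLocalRing_of_henselianRing
  haveI : IsNoetherianRing C := IsNoetherianRing.of_finite R' C
  haveI : Algebra.IsIntegral R' C := Algebra.IsIntegral.of_finite _ _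
  haveI hTn : IsNoetherianRing T := isNoetherianRing_of_ringEquiv C e.symm
  obtain ⟨ι, _, ee, hee, hlocal⟩ := Groth.L05.exists_idem_local_of_finite (A := R') C
  have hcase : ∀ M : Ideal C, M.IsMaximal → ∃ i, Ideal.span {1 - ee i} ≤ M := by
    intro M hM
    have : ∃ i, ee i ∉ M := by
      by_contra h
      push Not at h
      exact hM.ne_top ((Ideal.eq_top_iff_one M).mpr (hee.complete ▸ M.sum_mem fun i _ => h i))
    obtain ⟨i, hi⟩ := this
    refine ⟨i, (Ideal.span_singleton_le_iff_mem _).mpr ((hM.isPrime.mem_or_mem (?_ : ee i * (1 - ee i) ∈ M)).resolve_left hi)⟩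
    rw [(hee.idem i).mul_one_sub_self]
    exact zero_mem _
  haveI hfinC : Finite (MaximalSpectrum C) := by
    choose i hi using fun M : MaximalSpectrum C => hcase M.asIdeal M.isMaximal
    refine Finite.of_injective i fun M M' hMM => ?_
    have key : ∀ M : MaximalSpectrum C, ∀ j, Ideal.span {1 - ee j} ≤ M.asIdeal →
        haveI := hlocal j
        M.asIdeal = (IsLocalRing.maximalIdeal (C ⧸ Ideal.span {1 - ee j})).comap (Ideal.Quotient.mk _) := by
      intro M j hj
      haveI := hlocal j
      haveI := M.isMaximal
      haveI : (M.asIdeal.map (Ideal.Quotient.mk (Ideal.span {1 - ee j}))).IsMaximal :=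
        (Ideal.map_eq_top_or_isMaximal_of_surjective _ Ideal.Quotient.mk_surjective M.isMaximal).resolve_left fun h => by
          have h2 := congrArg (Ideal.comap (Ideal.Quotient.mk (Ideal.span {1 - ee j}))) h
          rw [Ideal.comap_map_of_surjective _ Ideal.Quotient.mk_surjective, ← RingHom.ker_eq_comap_bot, Ideal.mk_ker,
            sup_eq_left.mpr hj, Ideal.comap_top] at h2
          exact M.isMaximal.ne_top h2
      rw [← IsLocalRing.eq_maximalIdeal this, Ideal.comap_map_of_surjective _ Ideal.Quotient.mk_surjective,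
        ← RingHom.ker_eq_comap_bot, Ideal.mk_ker, sup_eq_left.mpr hj]
    refine MaximalSpectrum.ext ?_
    rw [key M (i M) (hi M), key M' (i M) (hMM ▸ hi M')]
  refine ⟨hTn, ?_, ?_, fun M => ?_⟩
  · refine Finite.of_injective (fun M : MaximalSpectrum T => (⟨M.asIdeal.comap e.symm, haveI := M.isMaximal; Ideal.comap_isMaximal_of_surjective _ e.symm.surjective⟩ : MaximalSpectrum C)) fun M M' h => ?_
    refine MaximalSpectrum.ext (Ideal.comap_injective_of_surjective _ e.symm.surjective (congrArg MaximalSpectrum.asIdeal h))
  · rw [IsScalarTower.algebraMap_eq A (A ⊗[k] k') T, ← Ideal.map_map]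
    exact (IsAdicComplete.map_algebraMap_iff _ T).mpr
      (AdicCompletion.isAdicComplete (Ideal.FG.map (IsNoetherian.noetherian _) _))
  · haveI : (M.asIdeal : Ideal T).IsMaximal := M.isMaximal
    haveI := M.isMaximal
    let MC := (M.asIdeal : Ideal T).comap e.symm
    haveI hMC : MC.IsMaximal := Ideal.comap_isMaximal_of_surjective _ e.symm.surjective
    obtain ⟨eL⟩ := Groth.L06.CplGeom.nonempty_locEquiv e.symm M.asIdeal
    obtain ⟨i, hi⟩ := hcase MC hMC
    haveI := hlocal i
    let D := C ⧸ Ideal.span {1 - ee i}
    haveI : Module.Finite R' D := Module.Finite.trans C _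
    haveI : IsNoetherianRing D := inferInstance
    haveI : Algebra.IsIntegral R' D := Algebra.IsIntegral.of_finite _ _
    have hmax : (IsLocalRing.maximalIdeal D).comap (algebraMap R' D) = IsLocalRing.maximalIdeal R' :=
      IsLocalRing.eq_maximalIdeal (Ideal.isMaximal_comap_of_isIntegral_of_isMaximal _)
    haveI : IsAdicComplete ((IsLocalRing.maximalIdeal R').map (algebraMap R' D)) D :=
      (IsAdicComplete.map_algebraMap_iff (IsLocalRing.maximalIdeal R') D).mpr
        (AdicCompletion.of_bijective_iff.mp (Groth.L06.CplKaehlerUniv.of_bijective _))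
    haveI : IsLocalHom (algebraMap R' D) := ((IsLocalRing.local_hom_TFAE _).out 0 4 :
      IsLocalHom (algebraMap R' D) ↔ (IsLocalRing.maximalIdeal D).comap (algebraMap R' D) = IsLocalRing.maximalIdeal R').mpr hmax
    obtain ⟨N', hN'⟩ := Groth.L06.CplTensor.exists_pow_le (k := k') (A := D) (n := d)
    haveI : IsAdicComplete (IsLocalRing.maximalIdeal D) D :=
      Groth.L13.Wild.isAdicComplete_of_pow_le (Ideal.map_le_iff_le_comap.mpr hmax.ge) hN'
    let π := Ideal.Quotient.mk (Ideal.span ({1 - ee i} : Set C))
    let PD := MC.map π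
    haveI hPD : PD.IsMaximal := (Ideal.map_eq_top_or_isMaximal_of_surjective _ Ideal.Quotient.mk_surjective hMC).resolve_left fun h => by
      have h2 := congrArg (Ideal.comap π) h
      rw [Ideal.comap_map_of_surjective _ Ideal.Quotient.mk_surjective, ← RingHom.ker_eq_comap_bot, Ideal.mk_ker,
        sup_eq_left.mpr hi, Ideal.comap_top] at h2
      exact hMC.ne_top h2
    have hPDc : PD.comap π = MC := by
      rw [Ideal.comap_map_of_surjective _ Ideal.Quotient.mk_surjective, ← RingHom.ker_eq_comap_bot, Ideal.mk_ker, sup_eq_left.mpr hi]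
    have hz : ∀ z, π z = 0 → ∃ s, π s ∉ PD ∧ s * z = 0 := fun z hz => by
      obtain ⟨w, rfl⟩ := Ideal.mem_span_singleton'.mp (Ideal.Quotient.eq_zero_iff_mem.mp hz)
      refine ⟨ee i, fun h => ?_, by rw [mul_comm w, ← mul_assoc, (hee.idem i).mul_one_sub_self, zero_mul]⟩
      have h1 : ee i ∈ MC := hPDc ▸ h
      exact hMC.ne_top ((Ideal.eq_top_iff_one _).mpr (by simpa using add_mem h1 (hi (Ideal.mem_span_singleton_self _))))
    obtain ⟨e2⟩ := Groth.L03.GeomRegular.nonempty_localEquiv π Ideal.Quotient.mk_surjective PD hz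
    have key : ∀ (J : Ideal C) [J.IsPrime], J = MC → Nonempty (Localization.AtPrime M.asIdeal ≃+* Localization.AtPrime J) := by
      intro J _ h
      subst h
      exact ⟨eL.symm⟩
    obtain ⟨eL'⟩ := key _ hPDc
    have hPDm : PD = IsLocalRing.maximalIdeal D := IsLocalRing.eq_maximalIdeal hPD
    have e3 : D ≃+* Localization.AtPrime PD :=
      (IsLocalization.atUnits D PD.primeCompl (S := Localization.AtPrime PD) (fun x hx => by
        have hx' : x ∉ IsLocalRing.maximalIdeal D := hPDm ▸ hx
        exact IsLocalRing.notMem_maximalIdeal.mp hx')).toRingEquiv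
    let eTot : D ≃+* Localization.AtPrime M.asIdeal := e3.trans (eL'.trans e2).symm
    have hmeq : (IsLocalRing.maximalIdeal D).map eTot = IsLocalRing.maximalIdeal (Localization.AtPrime M.asIdeal) :=
      IsLocalRing.eq_maximalIdeal (Ideal.map_isMaximal_of_equiv eTot)
    have hflatT : Module.Flat A T := by
      letI algC : Algebra A C := (Groth.L06.CplTensor.jA (k := k) (k' := k') (n := d)).toAlgebra
      haveI := Groth.L06.CplGeom.faithfullyFlat k k' d
      let eC : (A ⊗[MvPowerSeries (Fin d) k] R') ≃ₐ[A] C :=
        { (Algebra.TensorProduct.comm (MvPowerSeries (Fin d) k) A R').toRingEquiv with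
          commutes' := fun a => rfl }
      haveI : Module.Flat A C := Module.Flat.of_linearEquiv eC.symm.toLinearEquiv
      let eT : T ≃ₐ[A] C := { e with commutes' := fun a => heA' a }
      exact Module.Flat.of_linearEquiv eT.toLinearEquiv
    haveI := hflatT
    haveI : Module.Flat A (Localization.AtPrime M.asIdeal) := Module.Flat.trans A T _
    haveI hlocA : IsLocalHom (algebraMap A (Localization.AtPrime M.asIdeal)) := by
      refine ((IsLocalRing.local_hom_TFAE _).out 0 2 : IsLocalHom (algebraMap A (Localization.AtPrime M.asIdeal)) ↔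
        (IsLocalRing.maximalIdeal A).map (algebraMap A (Localization.AtPrime M.asIdeal)) ≤ IsLocalRing.maximalIdeal _).mpr ?_
      rw [IsScalarTower.algebraMap_eq A T (Localization.AtPrime M.asIdeal), ← Ideal.map_map,
        ← Localization.AtPrime.map_eq_maximalIdeal]
      refine Ideal.map_mono ?_
      rw [IsScalarTower.algebraMap_eq A (A ⊗[k] k') T, ← Ideal.map_map]
      haveI hc : IsAdicComplete (((IsLocalRing.maximalIdeal A).map (algebraMap A (A ⊗[k] k'))).map (algebraMap (A ⊗[k] k') T)) T :=
        (IsAdicComplete.map_algebraMap_iff _ T).mpr (AdicCompletion.isAdicComplete (Ideal.FG.map (IsNoetherian.noetherian _) _))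
      exact (IsAdicComplete.le_jacobson_bot _).trans (sInf_le ⟨bot_le, M.isMaximal⟩)
    refine ⟨?_, Module.FaithfullyFlat.of_flat_of_isLocalHom, le_antisymm ?_ ?_, ?_⟩
    · rw [← hmeq]
      exact (IsAdicComplete.congr_ringEquiv _ eTot).mpr inferInstance
    · rw [← ringKrullDim_eq_of_ringEquiv eTot]
      refine le_trans ?_ ((Groth.L01.PowSerReg.ringKrullDim_eq k' d).trans hd).le
      exact Order.krullDim_le_of_strictMono (fun Q => PrimeSpectrum.comap (algebraMap R' D) Q)
        fun Q Q' h => haveI := Q.2; Ideal.IsIntegral.comap_lt_comap (R := R') h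
    · haveI : IsNoetherianRing (Localization.AtPrime M.asIdeal) := IsLocalization.isNoetherianRing M.asIdeal.primeCompl _ hTn
      haveI : (IsLocalRing.maximalIdeal (Localization.AtPrime M.asIdeal)).LiesOver (IsLocalRing.maximalIdeal A) :=
        ⟨(((IsLocalRing.local_hom_TFAE (algebraMap A (Localization.AtPrime M.asIdeal))).out 0 4 :
          IsLocalHom (algebraMap A (Localization.AtPrime M.asIdeal)) ↔ (IsLocalRing.maximalIdeal (Localization.AtPrime M.asIdeal)).comap (algebraMap A (Localization.AtPrime M.asIdeal)) = IsLocalRing.maximalIdeal A).mp hlocA).symm⟩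
      rw [← IsLocalRing.maximalIdeal_height_eq_ringKrullDim, ← IsLocalRing.maximalIdeal_height_eq_ringKrullDim,
        Ideal.height_eq_height_add_of_liesOver_of_hasGoingDown (IsLocalRing.maximalIdeal A) (P := IsLocalRing.maximalIdeal (Localization.AtPrime M.asIdeal))]
      exact WithBot.coe_le_coe.mpr le_self_add
    · haveI := M.isMaximal
      have hsurj : Function.Surjective ((Ideal.Quotient.mk M.asIdeal).comp e.symm.toRingHom) :=
        Ideal.Quotient.mk_surjective.comp e.symm.surjective
      let r : R' →+* T ⧸ M.asIdeal := ((Ideal.Quotient.mk M.asIdeal).comp e.symm.toRingHom).comp (algebraMap R' C)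
      have hr : r.Finite := ((RingHom.Finite.of_surjective _ hsurj).comp (RingHom.finite_algebraMap.mpr inferInstance))
      letI := r.toAlgebra
      haveI : Module.Finite R' (T ⧸ M.asIdeal) := hr
      have hrmax : (⊥ : Ideal (T ⧸ M.asIdeal)).comap r = IsLocalRing.maximalIdeal R' := by
        haveI : Algebra.IsIntegral R' (T ⧸ M.asIdeal) := Algebra.IsIntegral.of_finite _ _
        haveI : (⊥ : Ideal (T ⧸ M.asIdeal)).IsMaximal := by
          letI := Ideal.Quotient.field M.asIdeal
          exact Ideal.bot_isMaximal
        exact IsLocalRing.eq_maximalIdeal (Ideal.isMaximal_comap_of_isIntegral_of_isMaximal (R := R') _)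
      have hfac : r = (r.comp (MvPowerSeries.C)).comp MvPowerSeries.constantCoeff := RingHom.ext fun a => by
        refine sub_eq_zero.mp ?_
        show r a - r (MvPowerSeries.C (MvPowerSeries.constantCoeff a)) = 0
        rw [← map_sub]
        have : a - MvPowerSeries.C (MvPowerSeries.constantCoeff a) ∈ (⊥ : Ideal (T ⧸ M.asIdeal)).comap r := by
          rw [hrmax, IsLocalRing.mem_maximalIdeal, mem_nonunits_iff, MvPowerSeries.isUnit_iff_constantCoeff, map_sub,
            MvPowerSeries.constantCoeff_C, sub_self]
          exact not_isUnit_zero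
        exact Ideal.mem_bot.mp this
      rw [hfac] at hr
      convert RingHom.Finite.of_comp_finite hr using 1
      refine RingHom.ext fun c => ?_
      show Ideal.Quotient.mk M.asIdeal (algebraMap (A ⊗[k] k') T (1 ⊗ₜ c)) = Ideal.Quotient.mk M.asIdeal (e.symm (Groth.L06.CplTensor.jR (MvPowerSeries.C c)))
      congr 1
      exact ((RingEquiv.symm_apply_eq _).mpr (hec c).symm).symm

end Groth.Agent.S5993
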