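import Groth.Statements.S5996
import Groth.Agent.L05.SectionExtend.Main
-- import your own Groth.Agent.* helpers here

set_option autoImplicit false
set_option backward.isDefEq.respectTransparency.types false
set_option backward.isDefEq.respectTransparency false
set_option linter.style.haveILetI false
universe u
open CategoryTheory AlgebraicGeometry
open Unram

namespace Groth.Agent.S5996

/-- Let Y be a reduced scheme whose irreducible components form a locally finite family, f : X ⟶ Y a
separated, locally of finite type, formally unramified morphism such that f(T) is closed in Y for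
every closed irreducible subset T of X, and u : U ⟶ X a section of f over a dense open U of Y. Then
for every point y of Y whose local ring is geometrically unibranch there are an open V ∋ y and a
section v : V ⟶ X of f agreeing with u on U ∩ V: the rational section defined by u is defined at
every geometrically unibranch point. -/
theorem result {X Y : Scheme.{u}} [IsReduced Y]
    (hcomp : LocallyFinite (fun Z : ↥(irreducibleComponents ↥Y) => (Z : Set ↥Y)))
    (f : X ⟶ Y) [IsSeparated f] [LocallyOfFiniteType f] [FormallyUnramified f]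
    (U : Y.Opens) (hU : Dense (U : Set ↥Y)) (u : (U : Scheme.{u}) ⟶ X) (hu : u ≫ f = U.ι)
    (hcl : ∀ T : Set ↥X, IsClosed T → IsIrreducible T → IsClosed (f '' T))
    (y : Y) (hy : CAlg2.IsGeomUnibranch (Y.presheaf.stalk y)) :
    ∃ (V : Y.Opens) (v : (V : Scheme.{u}) ⟶ X), y ∈ V ∧ v ≫ f = V.ι ∧
      Y.homOfLE (inf_le_left : U ⊓ V ≤ U) ≫ u = Y.homOfLE (inf_le_right : U ⊓ V ≤ V) ≫ v := by
  haveI := Groth.L05.SectionExtend.isDomain_stalk hy
  obtain ⟨V₀, -, hyV₀, hint⟩ := Groth.L05.SectionExtend.exists_integral_nhd hcomp y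
  haveI := hint
  have hsp : ∀ t : Y, t ∈ V₀ → (genericPoint (V₀ : Scheme.{u})).1 ⤳ t := fun t ht => by
    have h1 : genericPoint (V₀ : Scheme.{u}) ⤳ (⟨t, ht⟩ : (V₀ : Scheme.{u})) :=
      (genericPoint_spec (V₀ : Scheme.{u})).specializes trivial
    exact h1.map V₀.ι.continuous
  have hηU : (genericPoint (V₀ : Scheme.{u})).1 ∈ U := by
    obtain ⟨t, htV, htU⟩ := hU.inter_open_nonempty V₀ V₀.2 ⟨y, hyV₀⟩
    exact (hsp t htV).mem_open U.2 htU
  let x₁ : X := u ⟨_, hηU⟩
  have hfx₁ : f x₁ = (genericPoint (V₀ : Scheme.{u})).1 := by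
    show (u ≫ f) _ = _
    rw [hu]
    rfl
  obtain ⟨z, hz, hzy⟩ : y ∈ f '' closure {x₁} :=
    (hfx₁ ▸ hsp y hyV₀ : f x₁ ⤳ y).mem_closed (hcl _ isClosed_closure isIrreducible_singleton.closure)
      ⟨x₁, subset_closure rfl, rfl⟩
  obtain rfl : f z = y := hzy
  exact Groth.L05.SectionExtend.exists_extension hcomp hU hu
    (closure_mono (Set.singleton_subset_iff.mpr (Set.mem_range_self _)) hz) hy

end Groth.Agent.S5996
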