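import Groth.Statements.S5999
import Groth.Agent.L28.SmoothCrit.Basic

set_option autoImplicit false
set_option linter.style.haveILetI false
universe u
open SGA1

namespace Groth.Agent.S5999

open scoped TensorProduct in
theorem aux (R A : Type u) [CommRing R] [CommRing A] [Algebra R A] (q : Ideal A) [q.IsPrime] (F : A) (hF : F ∈ q) (s : Finset A)
    (hs : (s : Set A) ⊆ (Ideal.span ({F} : Set A) : Set A))
    (hgen : (Ideal.span ({F} : Set A)).map (algebraMap A (Localization.AtPrime q)) =
      Ideal.span (algebraMap A (Localization.AtPrime q) '' (s : Set A)))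
    (hli : LinearIndependent q.ResidueField fun g : ↥s => (1 : q.ResidueField) ⊗ₜ[A] KaehlerDifferential.D R A (g : A))
    (h0 : algebraMap A (Localization.AtPrime q) F ≠ 0) :
    (1 : q.ResidueField) ⊗ₜ[A] KaehlerDifferential.D R A F ≠ 0 := by
  classical
  intro hdF
  refine h0 ?_
  have hall : ∀ g ∈ s, algebraMap A (Localization.AtPrime q) g ∈
      IsLocalRing.maximalIdeal (Localization.AtPrime q) * Ideal.span {algebraMap A (Localization.AtPrime q) F} := by
    intro g hg
    obtain ⟨a, rfl⟩ := Ideal.mem_span_singleton'.1 (hs hg)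
    by_contra hna
    have ha : a ∉ q := fun ha => hna (by
      rw [map_mul]
      exact Ideal.mul_mem_mul ((IsLocalization.AtPrime.to_map_mem_maximal_iff _ q a).2 ha) (Ideal.subset_span rfl))
    refine hli.ne_zero ⟨a * F, hg⟩ ?_
    show (1 : q.ResidueField) ⊗ₜ[A] KaehlerDifferential.D R A (a * F) = 0
    rw [Derivation.leibniz, TensorProduct.tmul_add, TensorProduct.tmul_smul, TensorProduct.tmul_smul, hdF,
      smul_zero, zero_add, TensorProduct.smul_tmul', Algebra.smul_def,
      Ideal.algebraMap_residueField_eq_zero.2 hF, zero_mul, TensorProduct.zero_tmul]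
  have hle : Ideal.span {algebraMap A (Localization.AtPrime q) F} ≤
      IsLocalRing.maximalIdeal (Localization.AtPrime q) * Ideal.span {algebraMap A (Localization.AtPrime q) F} := by
    have e : Ideal.span {algebraMap A (Localization.AtPrime q) F} =
        Ideal.span (algebraMap A (Localization.AtPrime q) '' (s : Set A)) := by
      rw [← hgen, Ideal.map_span, Set.image_singleton]
    conv_lhs => rw [e]
    exact Ideal.span_le.2 (by rintro _ ⟨g, hg, rfl⟩; exact hall g hg)
  have := Submodule.eq_bot_of_le_smul_of_le_jacobson_bot (IsLocalRing.maximalIdeal (Localization.AtPrime q))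
    (Ideal.span {algebraMap A (Localization.AtPrime q) F}) (Submodule.fg_span_singleton _) hle
    (IsLocalRing.maximalIdeal_le_jacobson _)
  exact Ideal.span_singleton_eq_bot.1 this

open TensorProduct in
/-- Let R be a Noetherian ring, A an R-algebra of finite type, F an element of A, P a prime ideal of
A/(F) and q its preimage in A, and suppose A is smooth over R at q. Then the hypersurface A/(F) is
smooth over R at P if and only if either F is zero in the local ring A_q (F vanishes on a
neighbourhood of q) or the image dF(q) of the differential of F in κ(q) ⊗_A Ω_{A/R} is nonzero. -/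
theorem result
    (R A : Type u) [CommRing R] [CommRing A] [IsNoetherianRing R] [Algebra R A] [Algebra.FiniteType R A]
    (F : A) (P : Ideal (A ⧸ Ideal.span ({F} : Set A))) [P.IsPrime]
    (hX : Algebra.IsSmoothAt R (P.comap (Ideal.Quotient.mk (Ideal.span ({F} : Set A))))) :
    letI q : Ideal A := P.comap (Ideal.Quotient.mk (Ideal.span ({F} : Set A)))
    Algebra.IsSmoothAt R P ↔ algebraMap A (Localization.AtPrime q) F = 0 ∨
      (1 : q.ResidueField) ⊗ₜ[A] KaehlerDifferential.D R A F ≠ 0 := by
  classical
  haveI := hX
  haveI : IsNoetherianRing A := Algebra.FiniteType.isNoetherianRing R A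
  have hker : RingHom.ker (algebraMap A (A ⧸ Ideal.span ({F} : Set A))) = Ideal.span {F} := Ideal.mk_ker
  have h := Groth.L28.SmoothCrit.smoothAt_iff (A := R) (B := A) (R := A ⧸ Ideal.span ({F} : Set A))
    Ideal.Quotient.mk_surjective (IsNoetherian.noetherian _) P
    (P.comap (Ideal.Quotient.mk (Ideal.span ({F} : Set A)))) rfl
  rw [hker] at h
  have hF : F ∈ P.comap (Ideal.Quotient.mk (Ideal.span ({F} : Set A))) := by
    rw [Ideal.mem_comap, Ideal.Quotient.eq_zero_iff_mem.2 (Ideal.mem_span_singleton_self F)]
    exact P.zero_mem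
  refine h.trans ⟨?_, ?_⟩
  · rintro ⟨s, hs, hgen, hli⟩
    exact or_iff_not_imp_left.2 (aux R A _ F hF s hs hgen hli)
  · rintro (h0 | hd)
    · refine ⟨∅, by simp, ?_, linearIndependent_empty_type⟩
      rw [Ideal.map_span, Set.image_singleton, h0]
      simp
    · refine ⟨{F}, by simp, ?_, ?_⟩
      · rw [Ideal.map_span, Finset.coe_singleton]
      · haveI : Subsingleton (↥({F} : Finset A)) :=
          ⟨fun a b => Subtype.ext ((Finset.mem_singleton.1 a.2).trans (Finset.mem_singleton.1 b.2).symm)⟩
        refine LinearIndependent.of_subsingleton (⟨F, Finset.mem_singleton_self F⟩ : ↥({F} : Finset A)) ?_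
        exact hd

end Groth.Agent.S5999
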