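import Groth.Statements.S6001
import Groth.Agent.L05.Hensel.CplUnr
import Groth.Agent.L20.WeaklyEtale
import Mathlib.RingTheory.Etale.Locus
import Mathlib.RingTheory.Smooth.Flat
import Mathlib.RingTheory.Unramified.LocalRing
import Mathlib.RingTheory.Filtration
import Mathlib.RingTheory.AdicCompletion.Noetherian

set_option linter.style.haveILetI false

set_option autoImplicit false
universe u
open SGA1

namespace Groth.Agent.S6001

open IsLocalRing in
theorem exists_cplMap (A B : Type u) [CommRing A] [CommRing B] [IsLocalRing A] [IsLocalRing B] [Algebra A B]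
    [IsLocalHom (algebraMap A B)] :
    ∃ ψ : AdicCompletion (maximalIdeal A) A →+* AdicCompletion (maximalIdeal B) B,
      ψ.comp (algebraMap A (AdicCompletion (maximalIdeal A) A)) =
        (algebraMap B (AdicCompletion (maximalIdeal B) B)).comp (algebraMap A B) := by
  have hle : ∀ n : ℕ, maximalIdeal A ^ n ≤ (maximalIdeal B ^ n).comap (algebraMap A B) := fun n => by
    rw [← Ideal.map_le_iff_le_comap, Ideal.map_pow]
    exact Ideal.pow_right_mono (Ideal.map_le_iff_le_comap.2 fun a ha => Ideal.mem_comap.2 (map_nonunit (algebraMap A B) a ha)) n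
  let f : ∀ n, AdicCompletion (maximalIdeal A) A →+* B ⧸ maximalIdeal B ^ n := fun n =>
    (Ideal.quotientMap (maximalIdeal B ^ n) (algebraMap A B) (hle n)).comp
      (AdicCompletion.evalₐ (maximalIdeal A) n).toRingHom
  refine ⟨AdicCompletion.liftRingHom (maximalIdeal B) f fun {m n} hmn => RingHom.ext fun x => ?_,
    RingHom.ext fun a => AdicCompletion.ext_evalₐ fun n => ?_⟩
  · obtain ⟨c, rfl⟩ := AdicCompletion.mk_surjective (maximalIdeal A) A x
    simp only [f, RingHom.comp_apply, AlgHom.toRingHom_eq_coe, RingHom.coe_coe, AdicCompletion.evalₐ_mk,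
      Ideal.quotientMap_mk]
    show Ideal.Quotient.mk _ (algebraMap A B (c.val n)) = Ideal.Quotient.mk _ (algebraMap A B (c.val m))
    rw [Ideal.Quotient.mk_eq_mk_iff_sub_mem, ← map_sub]
    refine hle m ?_
    have h := SModEq.sub_mem.1 (c.property hmn).symm
    rwa [smul_eq_mul, Ideal.mul_top] at h
  · rw [RingHom.comp_apply, AdicCompletion.evalₐ_liftRingHom]
    simp [f]


/-- Let A be a Noetherian local ring which is analytically reduced (its completion has no nonzero
nilpotents), and let B be the local ring at a prime q, lying over the maximal ideal of A, of an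
A-algebra C of finite type that is etale over A at q (an etale local homomorphism A ⟶ B). Then B is
analytically reduced, and in particular reduced. -/
theorem result (A C : Type u) [CommRing A] [IsLocalRing A]
    [IsNoetherianRing A] [CommRing C] [Algebra A C] [Algebra.FiniteType A C] (q : Ideal C) [q.IsPrime]
    (hq : Ideal.comap (algebraMap A C) q = IsLocalRing.maximalIdeal A) (hC : Algebra.IsEtaleAt A q)
    (hA : IsReduced (AdicCompletion (IsLocalRing.maximalIdeal A) A)) :
    IsReduced (AdicCompletion (IsLocalRing.maximalIdeal (Localization.AtPrime q)) (Localization.AtPrime q)) ∧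
      IsReduced (Localization.AtPrime q) := by
  classical
  haveI := hC
  haveI : Algebra.FinitePresentation A C := Algebra.FinitePresentation.of_finiteType.mp inferInstance
  let B := Localization.AtPrime q
  haveI : IsNoetherianRing C := Algebra.FiniteType.isNoetherianRing A C
  haveI : IsNoetherianRing B := IsLocalization.isNoetherianRing q.primeCompl B inferInstance
  haveI : IsLocalHom (algebraMap A B) := ⟨fun a ha => by
    by_contra hna
    have h1 : algebraMap A C a ∈ q := by
      have : a ∈ Ideal.comap (algebraMap A C) q := by rw [hq]; exact hna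
      exact this
    rw [IsScalarTower.algebraMap_apply A C B] at ha
    exact (IsLocalization.AtPrime.isUnit_to_map_iff B q _).1 ha h1⟩
  haveI : Algebra.EssFiniteType C B := Algebra.EssFiniteType.of_isLocalization _ q.primeCompl
  haveI : Algebra.EssFiniteType A B := Algebra.EssFiniteType.comp A C B
  haveI : Algebra.FormallyEtale A B := hC
  haveI : Algebra.FormallyUnramified A B := inferInstance
  have hfl : Module.Flat A B := by
    obtain ⟨g, hg, hg'⟩ := Algebra.exists_etale_of_isEtaleAt (R := A) q
    haveI := hg'
    haveI : Module.Flat A (Localization.Away g) := Algebra.Smooth.flat A _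
    letI : Algebra (Localization.Away g) B :=
      (IsLocalization.Away.lift (S := Localization.Away g) g (g := algebraMap C B)
        ((IsLocalization.map_units B (⟨g, hg⟩ : q.primeCompl)))).toAlgebra
    haveI : IsScalarTower C (Localization.Away g) B := IsScalarTower.of_algebraMap_eq fun c =>
      (IsLocalization.Away.lift_eq (S := Localization.Away g) g _ c).symm
    haveI : IsScalarTower A (Localization.Away g) B := IsScalarTower.of_algebraMap_eq fun a => by
      rw [IsScalarTower.algebraMap_apply A C B, IsScalarTower.algebraMap_apply A C (Localization.Away g),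
        ← IsScalarTower.algebraMap_apply C (Localization.Away g) B]
    haveI : IsLocalization (q.primeCompl.map (algebraMap C (Localization.Away g))) B :=
      IsLocalization.isLocalization_of_submonoid_le _ _ (Submonoid.powers g) q.primeCompl
        (Submonoid.powers_le.2 hg)
    haveI : Module.Flat (Localization.Away g) B :=
      IsLocalization.flat B (q.primeCompl.map (algebraMap C (Localization.Away g)))
    exact Module.Flat.trans A (Localization.Away g) B
  obtain ⟨ψ, hψ⟩ := exists_cplMap A B
  letI : Algebra (AdicCompletion (IsLocalRing.maximalIdeal A) A) (AdicCompletion (IsLocalRing.maximalIdeal B) B) :=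
    ψ.toAlgebra
  haveI : IsScalarTower A (AdicCompletion (IsLocalRing.maximalIdeal A) A) (AdicCompletion (IsLocalRing.maximalIdeal B) B) :=
    IsScalarTower.of_algebraMap_eq fun a => by
      rw [IsScalarTower.algebraMap_apply A B (AdicCompletion (IsLocalRing.maximalIdeal B) B)]
      exact (RingHom.congr_fun hψ a).symm
  haveI : Algebra.Etale (AdicCompletion (IsLocalRing.maximalIdeal A) A) (AdicCompletion (IsLocalRing.maximalIdeal B) B) :=
    (Groth.L05.CplUnr.etale_iff A B).1 ⟨hfl, Algebra.FormallyUnramified.map_maximalIdeal, inferInstance, inferInstance⟩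
  haveI := hA
  have hred : IsReduced (AdicCompletion (IsLocalRing.maximalIdeal B) B) :=
    Groth.L20.isReduced_of_weaklyEtale (AdicCompletion (IsLocalRing.maximalIdeal A) A) _
  refine ⟨hred, isReduced_of_injective (algebraMap B (AdicCompletion (IsLocalRing.maximalIdeal B) B)) ?_⟩
  haveI : IsHausdorff (IsLocalRing.maximalIdeal B) B := IsHausdorff.of_isLocalRing (IsLocalRing.maximalIdeal B) B (IsLocalRing.maximalIdeal.isMaximal B).ne_top
  exact AdicCompletion.of_injective (IsLocalRing.maximalIdeal B) B

end Groth.Agent.S6001
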