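import Groth.Statements.S6002
import Groth.Agent.L11.SmoothLift.General

set_option autoImplicit false
set_option backward.isDefEq.respectTransparency.types false
set_option backward.isDefEq.respectTransparency false
universe u
open SGA1

namespace Groth.Agent.S6002

open AlgebraicGeometry CategoryTheory CategoryTheory.Limits in
/-- Let Y be a locally Noetherian scheme, Y₀ a closed subscheme of Y with the same underlying space (a
closed immersion i : Y₀ ⟶ Y that is surjective on points) and X₀ an affine scheme smooth over Y₀.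
Then there is a smooth Y-scheme X together with a Y₀-isomorphism e : X₀ ≅ X ×_Y Y₀, and X is unique
up to a (non-unique) isomorphism: for every smooth Y-scheme X' with a Y₀-isomorphism e' : X₀ ≅ X'
×_Y Y₀ there is a Y-isomorphism φ : X ≅ X' under which the closed immersion of X₀ into X given by e
corresponds to the one into X' given by e'. -/
theorem result {Y₀ Y X₀ : Scheme.{u}} [IsLocallyNoetherian Y]
    (i : Y₀ ⟶ Y) [IsClosedImmersion i] (hi : Function.Surjective i.base)
    (f₀ : X₀ ⟶ Y₀) [Smooth f₀] [IsAffine X₀] :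
    ∃ (X : Scheme.{u}) (g : X ⟶ Y) (_ : Smooth g) (e : X₀ ≅ pullback g i),
      e.hom ≫ pullback.snd g i = f₀ ∧
      ∀ (X' : Scheme.{u}) (g' : X' ⟶ Y) [Smooth g'] (e' : X₀ ≅ pullback g' i),
        e'.hom ≫ pullback.snd g' i = f₀ →
        ∃ φ : X ≅ X', φ.hom ≫ g' = g ∧
          (e.hom ≫ pullback.fst g i) ≫ φ.hom = e'.hom ≫ pullback.fst g' i := by
  haveI : Surjective i := ⟨hi⟩
  obtain ⟨L⟩ := Groth.L11.SmoothLift.exists_lift_top (i := i) (f₀ := f₀)
  haveI := L.smooth
  have hpb : IsPullback (X₀.topIso.inv ≫ L.c) f₀ L.f i :=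
    L.isPb.of_iso X₀.topIso (Iso.refl _) (Iso.refl _) (Iso.refl _) (by simp) (by simp) (by simp) (by simp)
  refine ⟨L.T, L.f, inferInstance, hpb.isoPullback, hpb.isoPullback_hom_snd, fun X' g' hg' e' he' => ?_⟩
  have hp : IsPullback (e'.hom ≫ pullback.fst g' i) f₀ g' i :=
    IsPullback.of_iso_pullback ⟨by rw [Category.assoc, pullback.condition, ← Category.assoc, he']⟩ e' rfl he'
  let L' : Groth.L11.SmoothLift.Lift f₀ i (⊤ : X₀.Opens) :=
    { T := X', f := g', smooth := hg', c := X₀.topIso.hom ≫ e'.hom ≫ pullback.fst g' i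
      isPb := hp.of_iso X₀.topIso.symm (Iso.refl _) (Iso.refl _) (Iso.refl _) (by simp) (by simp) (by simp) (by simp) }
  obtain ⟨φ, hφ, hc⟩ := Groth.L11.SmoothLift.same_lift (isAffineOpen_top X₀) L L'
  refine ⟨φ, hφ, ?_⟩
  rw [IsPullback.isoPullback_hom_fst, Category.assoc, hc]
  simp [L']

end Groth.Agent.S6002
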