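import Groth.Statements.S6011
-- import your own Groth.Agent.* helpers here

import Groth.Agent.L09.TorsorSch

set_option autoImplicit false
universe u
open CategoryTheory AlgebraicGeometry
open SGA1

namespace Groth.Agent.S6011

/-- An S-scheme X with an action of the S-group G is trivial — equivariantly isomorphic over S to G
acting on itself by translation — if and only if it is formally principal homogeneous (a
pseudo-torsor) and admits a section over S. -/
theorem result {S : Scheme.{u}}
    (G X : Over S) [GrpObj G] (a : AlgGrp.Action G X) :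
    Nonempty (NonAbH1.EquivIso (NonAbH1.trivialAction G) a) ↔
      (NonAbH1.IsPseudoTorsorSch a ∧ NonAbH1.HasSectionOver X (𝟙 S)) := by
  open MonoidalCategory CartesianMonoidalCategory MonObj in
  constructor
  · rintro ⟨⟨i, hi⟩⟩
    have e : (G ◁ i.hom) ≫ lift a.act (snd G X) =
        lift μ[G] (snd G G) ≫ (i.hom ⊗ₘ i.hom) := by
      ext1
      · simp only [Category.assoc, lift_fst, tensorHom_fst]
        rw [lift_fst_assoc]
        exact hi.symm
      · simp
    refine ⟨?_, ?_⟩
    · change IsIso (lift a.act (snd G X))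
      haveI : IsIso (lift μ[G] (snd G G)) := NonAbH1.isPseudoTorsorSch_trivialAction G
      haveI : IsIso ((G ◁ i.hom) ≫ lift a.act (snd G X)) := e ▸ inferInstance
      exact IsIso.of_isIso_comp_left (G ◁ i.hom) _
    · exact ⟨(η[G] ≫ i.hom).left, Over.w (η[G] ≫ i.hom)⟩
  · rintro ⟨h, σ, hσ⟩
    let s : 𝟙_ (Over S) ⟶ X := Over.homMk σ hσ
    haveI := Groth.L09.TorsorSch.isIso_trivMap a h s
    let i := (ρ_ G).symm ≪≫ asIso (Groth.L09.TorsorSch.trivMap a s) ≪≫ ρ_ X
    refine ⟨⟨i, ?_⟩⟩
    have hi : i.hom = lift (𝟙 G) (toUnit G ≫ s) ≫ a.act := by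
      simp only [i, Iso.trans_hom, Iso.symm_hom, asIso_hom, Groth.L09.TorsorSch.trivMap,
        rightUnitor_hom, lift_fst]
      rw [← Category.assoc]
      congr 1
      ext1 <;> simp
    change μ[G] ≫ i.hom = (G ◁ i.hom) ≫ a.act
    have hμ : (μ[G] : G ⊗ G ⟶ G) = fst G G * snd G G := by
      rw [Hom.mul_def, lift_fst_snd, Category.id_comp]
    rw [hi, ← Category.assoc, comp_lift, Category.comp_id, comp_toUnit_assoc, hμ,
      Groth.L25.Actions.mul_act]
    congr 1
    ext1
    · simp
    · simp only [lift_snd, whiskerLeft_snd]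
      rw [← Category.assoc, comp_lift, Category.comp_id, comp_toUnit_assoc]

end Groth.Agent.S6011
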