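import Groth.Statements.S6012
import Groth.Agent.L09.FibClvLemmas
import Groth.Agent.L09.FibBasic

set_option autoImplicit false
open CategoryTheory
universe v₁ v₂ u₁ u₂
open FibCat FibCat.Cleavage

namespace Groth.Agent.S6012
open CategoryTheory Category Functor

/-- Let `K` be a cleavage of an arbitrary functor `p : 𝒳 ⥤ 𝒮` (one chosen cartesian lift of every base
morphism at every object over its target; `p` is not assumed fibred). Then `p` is a fibred category
(composites of cartesian morphisms are cartesian) if and only if, for all composable base morphisms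
`g : R ⟶ T` and `f : T ⟶ S`, the comparison natural transformation `c_{f,g}` from `g^* f^*` to
`(fg)^*` determined by `K` is an isomorphism. -/
theorem result (𝒮 : Type u₁) (𝒳 : Type u₂) [Category.{v₁} 𝒮] [Category.{v₂} 𝒳] (p : 𝒳 ⥤ 𝒮) (K : FibCat.Cleavage p) :
    p.IsFibered ↔ ∀ (R S T : 𝒮) (f : T ⟶ S) (g : R ⟶ T), IsIso (K.comp f g) := by
  constructor
  · intro _ R S T f g
    have : ∀ a, IsIso ((K.comp f g).app a) := fun a => by
      have := K.isCartesian a.2 f
      have := K.isCartesian (K.obj_proj a.2 f) g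
      have hc : p.IsCartesian (g ≫ f) (K.lift (K.obj_proj a.2 f) g ≫ K.lift a.2 f) := inferInstance
      have := K.isCartesian a.2 (g ≫ f)
      have := K.isCartesian a.2 f
      let e := IsCartesian.domainUniqueUpToIso p (g ≫ f) (K.lift a.2 (g ≫ f)) (K.lift (K.obj_proj a.2 f) g ≫ K.lift a.2 f)
      have h2 : p.IsHomLift (𝟙 R) e.inv := inferInstance
      exact ⟨⟨e.inv, h2⟩, Fiber.hom_ext e.hom_inv_id, Fiber.hom_ext e.inv_hom_id⟩
    exact NatIso.isIso_of_isIso_app _
  · intro h
    have key : ∀ {R S T : 𝒮} (g : R ⟶ T) (f : T ⟶ S) {a : 𝒳} (ha : p.obj a = S),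
        p.IsCartesian (g ≫ f) (K.lift (K.obj_proj ha f) g ≫ K.lift ha f) := by
      intro R S T g f a ha
      have := h R S T f g
      let a' : p.Fiber S := Fiber.mk ha
      let e := Fiber.fiberInclusion.mapIso (asIso ((K.comp f g).app a'))
      have he : p.IsHomLift (𝟙 R) e.hom := ((K.comp f g).app a').2
      have hfac : e.hom ≫ K.lift ha (g ≫ f) = K.lift (K.obj_proj ha f) g ≫ K.lift ha f :=
        Groth.L09.Clv.comp_fac K f g a'
      have := K.isCartesian ha (g ≫ f)
      rw [← hfac]
      exact @IsCartesian.of_iso_comp _ _ _ _ p _ _ _ _ (g ≫ f) (K.lift ha (g ≫ f)) this _ e he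
    have := K.isPreFibered
    refine { comp := fun {R T S} g f {c b a} ψ φ hψ hφ => ?_ }
    have ha : p.obj a = S := IsHomLift.codomain_eq p f φ
    let e2 := IsCartesian.domainUniqueUpToIso p f (K.lift ha f) φ
    have h2 : e2.hom ≫ K.lift ha f = φ := IsCartesian.fac p f (K.lift ha f) φ
    have hb : p.IsCartesian g (ψ ≫ e2.hom) := inferInstance
    let e3 := IsCartesian.domainUniqueUpToIso p g (K.lift (K.obj_proj ha f) g) (ψ ≫ e2.hom)
    have h3 : e3.hom ≫ K.lift (K.obj_proj ha f) g = ψ ≫ e2.hom :=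
      IsCartesian.fac p g (K.lift (K.obj_proj ha f) g) (ψ ≫ e2.hom)
    have := key g f ha
    have : p.IsCartesian (g ≫ f) (e3.hom ≫ K.lift (K.obj_proj ha f) g ≫ K.lift ha f) := inferInstance
    rwa [← assoc, h3, assoc, h2] at this

end Groth.Agent.S6012
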