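import Groth.Statements.S6013
import Groth.Agent.L09.FibClvLemmas
import Groth.Agent.L09.FibBasic

set_option autoImplicit false
open CategoryTheory
universe v₁ v₂ u₁ u₂
open FibCat FibCat.Cleavage

namespace Groth.Agent.S6013
open CategoryTheory Category Functor

/-- Let `p : 𝒳 ⥤ 𝒮` be a fibred category with a cleavage `K`, and let `f : T ⟶ S` be an isomorphism of
the base. Then the inverse-image functor `f^*` of `K`, from the fibre over `S` to the fibre over
`T`, is an equivalence of categories. -/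
theorem result (𝒮 : Type u₁) (𝒳 : Type u₂) [Category.{v₁} 𝒮] [Category.{v₂} 𝒳] (p : 𝒳 ⥤ 𝒮) [p.IsFibered] (K : FibCat.Cleavage p)
    (S T : 𝒮) (f : T ⟶ S) [IsIso f] : (K.inverseImage f).IsEquivalence := by
  have hi : ∀ a : p.Fiber S, IsIso (K.lift a.2 f) := fun a =>
    IsStronglyCartesian.isIso_of_base_isIso p f (K.lift a.2 f)
  refine { faithful := ⟨fun {a b φ ψ} h => ?_⟩, full := ⟨fun {a b} χ => ?_⟩, essSurj := ⟨fun b => ?_⟩ }
  · have h1 := Groth.L09.Clv.map_fac K f φ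
    rw [h, Groth.L09.Clv.map_fac K f ψ] at h1
    have := hi a
    exact Fiber.hom_ext ((cancel_epi (K.lift a.2 f)).1 h1).symm
  · have := hi a
    let c : K.obj a.2 f ⟶ K.obj b.2 f := χ.1
    let ψ : a.1 ⟶ b.1 := CategoryTheory.inv (K.lift a.2 f) ≫ c ≫ K.lift b.2 f
    have hχ : p.IsHomLift (𝟙 T) c := χ.2
    have : p.IsHomLift (CategoryTheory.inv f) (CategoryTheory.inv (K.lift a.2 f)) := IsHomLift.inv p f _
    have hψ : p.IsHomLift (𝟙 S) ψ := by
      have := (K.isCartesian b.2 f).toIsHomLift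
      have h2 : p.IsHomLift (𝟙 T ≫ f) (c ≫ K.lift b.2 f) := inferInstance
      have : p.IsHomLift (CategoryTheory.inv f ≫ 𝟙 T ≫ f) ψ := IsHomLift.comp p _ _ _ _
      simpa using this
    refine ⟨⟨ψ, hψ⟩, Groth.L09.Clv.fiber_ext K f ?_⟩
    rw [Groth.L09.Clv.map_fac]
    exact IsIso.hom_inv_id_assoc (K.lift a.2 f) _
  · obtain ⟨a, e, he⟩ := Groth.L09.Fib.exists_iso_lift p (asIso f) b.1 b.2
    have ha : p.obj a = S := IsHomLift.codomain_eq p (asIso f).hom e.hom
    have hc : p.IsCartesian f e.hom := @IsStronglyCartesian.isCartesian_of_isStronglyCartesian _ _ _ _ p _ _ _ _ f e.hom (@IsStronglyCartesian.of_iso _ _ _ _ p _ _ _ _ f e he)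
    refine ⟨Fiber.mk ha, ⟨?_⟩⟩
    have := K.isCartesian ha f
    let d := IsCartesian.domainUniqueUpToIso p f e.hom (K.lift ha f)
    have h1 : p.IsHomLift (𝟙 T) d.hom := inferInstance
    have h2 : p.IsHomLift (𝟙 T) d.inv := inferInstance
    exact ⟨⟨d.hom, h1⟩, ⟨d.inv, h2⟩, Fiber.hom_ext d.hom_inv_id, Fiber.hom_ext d.inv_hom_id⟩

end Groth.Agent.S6013
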