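import Groth.Statements.S6016
import Groth.Agent.L09.FibClvLemmas
import Groth.Agent.L09.FibBasic

set_option autoImplicit false
open CategoryTheory
universe v₁ v₂ u₁ u₂
open FibCat FibCat.Cleavage

namespace Groth.Agent.S6016
open CategoryTheory Category Functor

/-- Let `K` be a cleavage of an arbitrary functor `p : 𝒳 ⥤ 𝒮` (not assumed normalised, `p` not assumed
fibred) and let `h : V ⟶ U`, `g : U ⟶ T`, `f : T ⟶ S` be base morphisms. Then the two natural
transformations from `h^* g^* f^*` to `(fgh)^*` built from the comparison morphisms agree: `c_{g,h}`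
whiskered on the left by `f^*`, followed by `c_{f,gh}`, equals `c_{f,g}` whiskered on the right by
`h^*`, followed by `c_{fg,h}` (the inverse images along the two bracketings of the triple composite
being identified). -/
theorem result (𝒮 : Type u₁) (𝒳 : Type u₂) [Category.{v₁} 𝒮] [Category.{v₂} 𝒳] (p : 𝒳 ⥤ 𝒮) (K : FibCat.Cleavage p) (S T U V : 𝒮) (f : T ⟶ S) (g : U ⟶ T) (h : V ⟶ U) :
    Functor.whiskerLeft (K.inverseImage f) (K.comp g h) ≫ K.comp f (h ≫ g) ≫ (K.inverseImageCongr (Category.assoc h g f)).hom =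
      Functor.whiskerRight (K.comp f g) (K.inverseImage h) ≫ K.comp (g ≫ f) h := by
  apply NatTrans.ext; funext a
  apply Groth.L09.Clv.fiber_ext K (h ≫ g ≫ f)
  simp only [NatTrans.comp_app, Functor.map_comp]
  let b := (K.inverseImage f).obj a
  have e1 := Groth.L09.Clv.comp_fac K g h b
  have e2 := Groth.L09.Clv.comp_fac K f (h ≫ g) a
  have e3 := Groth.L09.Clv.congr_fac K (Category.assoc h g f) a
  have e4 := Groth.L09.Clv.map_fac K h ((K.comp f g).app a)
  have e5 := Groth.L09.Clv.comp_fac K (g ≫ f) h a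
  have e6 := Groth.L09.Clv.comp_fac K f g a
  change (Fiber.fiberInclusion.map ((K.comp g h).app b) ≫ Fiber.fiberInclusion.map ((K.comp f (h ≫ g)).app a) ≫ Fiber.fiberInclusion.map ((K.inverseImageCongr (Category.assoc h g f)).hom.app a)) ≫ K.lift a.2 (h ≫ g ≫ f) =
    (Fiber.fiberInclusion.map ((K.inverseImage h).map ((K.comp f g).app a)) ≫ Fiber.fiberInclusion.map ((K.comp (g ≫ f) h).app a)) ≫ K.lift a.2 (h ≫ g ≫ f)
  refine ((assoc _ _ _).trans ((congrArg (_ ≫ ·) ((assoc _ _ _).trans ((congrArg (_ ≫ ·) e3).trans e2))).trans ((assoc _ _ _).symm.trans ((congrArg (· ≫ _) e1).trans (assoc _ _ _))))).trans ?_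
  exact (((assoc _ _ _).trans ((congrArg (_ ≫ ·) e5).trans ((assoc _ _ _).symm.trans ((congrArg (· ≫ _) e4).trans ((assoc _ _ _).trans (congrArg (_ ≫ ·) e6))))))).symm

end Groth.Agent.S6016
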