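import Groth.Statements.S6019
import Groth.Agent.L09.FibClvLemmas
import Groth.Agent.L09.FibBasic

set_option autoImplicit false
open CategoryTheory
universe v₁ v₂ u₁ u₂
open FibCat FibCat.Cleavage

namespace Groth.Agent.S6019
open CategoryTheory Category Functor

/-- A pre-fibred category admits a normalised cleavage: if every base morphism `R ⟶ p(a)` has a
cartesian morphism over it with target `a`, then one cartesian lift can be chosen for every base
morphism at every object over its target in such a way that the chosen lift of each identity `𝟙 S`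
at each object `a` over `S` is the identity of `a` (identities are transport morphisms). -/
theorem result (𝒮 : Type u₁) (𝒳 : Type u₂) [Category.{v₁} 𝒮] [Category.{v₂} 𝒳]
    (p : 𝒳 ⥤ 𝒮) [p.IsPreFibered] : ∃ K : FibCat.Cleavage p, K.IsNormalised := by
  have h : ∀ (R S : 𝒮) (a : 𝒳) (_ : p.obj a = S) (f : R ⟶ S), ∃ s : Σ b : 𝒳, (b ⟶ a),
      p.IsCartesian f s.2 ∧ (∀ h : R = S, f = eqToHom h → ∃ e : s.1 = a, s.2 = eqToHom e) := by
    intro R S a ha f
    by_cases hid : ∃ h : R = S, f = eqToHom h
    · obtain ⟨h, rfl⟩ := hid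
      subst h
      refine ⟨⟨a, 𝟙 a⟩, ?_, fun _ _ => ⟨rfl, rfl⟩⟩
      subst ha
      have : p.IsHomLift (𝟙 (p.obj a)) (𝟙 a) := IsHomLift.id rfl
      have : p.IsStronglyCartesian (𝟙 (p.obj a)) (𝟙 a) := IsStronglyCartesian.of_isIso p _ _
      rw [eqToHom_refl]
      exact inferInstanceAs (p.IsCartesian (𝟙 (p.obj a)) (𝟙 a))
    · exact ⟨⟨_, IsPreFibered.pullbackMap ha f⟩, inferInstance, fun h e => absurd ⟨h, e⟩ hid⟩
  choose s hs hn using h
  exact ⟨⟨fun {R S a} ha f => (s R S a ha f).1, fun {R S a} ha f => (s R S a ha f).2, fun {R S a} ha f => hs R S a ha f⟩,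
    fun S a ha => hn S S a ha (𝟙 S) rfl (by simp)⟩

end Groth.Agent.S6019
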