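import Groth.Statements.S6020
import Groth.Agent.L04.SupportSh.Criteria

set_option autoImplicit false
universe u
open CategoryTheory CategoryTheory.Limits TopologicalSpace
open LocCohZ

namespace Groth.Agent.S6020

/-- Consider a topological space X carrying a sheaf F of abelian groups, an open subset U whose
complement is the closed set Z, and a natural number N. The local cohomology sheaves ℋ^i_Z(F) are
zero for all i ≤ N exactly when, for each open V of X, restricting H^i(V, F) → H^i(V ∩ U, F) gives a
bijection whenever i < N and an injection when i = N. -/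
theorem result {X : TopCat.{u}} (F : CohTop.Ab X) (U : Opens X) (N : ℕ) :
    (∀ i : ℕ, i ≤ N → IsZero ((LocCohZ.HZsh U i).obj F)) ↔
      ∀ V : Opens X, (∀ i : ℕ, i < N → Function.Bijective (CohTop.res F i (inf_le_left : V ⊓ U ≤ V))) ∧
        Function.Injective (CohTop.res F N (inf_le_left : V ⊓ U ≤ V)) := by
  constructor
  · intro h V
    have hz := (Groth.L04.SupportSh.isZero_HZsh_iff_subsingleton_HZ U F (N + 1)).1 fun i hi => h i (by omega)
    exact ⟨fun i hi => ⟨(Groth.L04.SupportSh.res_bijective_of_subsingleton_HZ F i _).1 (hz V i (by omega)),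
        (Groth.L04.SupportSh.res_bijective_of_subsingleton_HZ F i _).2 (hz V (i + 1) (by omega))⟩,
      (Groth.L04.SupportSh.res_bijective_of_subsingleton_HZ F N _).1 (hz V N (by omega))⟩
  · intro h i hi
    obtain _ | p := i
    · refine Groth.L04.SupportSh.isZero_HZsh_zero U F fun V => (Groth.L04.SupportSh.res_zero_bijective_iff F _).1.1 ?_
      obtain _ | M := N
      · exact (h V).2
      · exact ((h V).1 0 M.succ_pos).1
    · exact Groth.L04.SupportSh.isZero_HZsh_succ U F p fun V => ((h V).1 p hi).2

end Groth.Agent.S6020
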