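import Groth.Statements.S6024
import Groth.Agent.L04.SupportSh.Flasque

set_option autoImplicit false
universe u
open CategoryTheory CategoryTheory.Limits TopologicalSpace
open LocCohZ

namespace Groth.Agent.S6024

/-- Consider a topological space X carrying a sheaf of abelian groups F, and assume that H^1_Z(X, F)
vanishes for each closed subset Z of X (writing Z = X − U with U open). Under this assumption, F is
flasque. -/
theorem result {X : TopCat.{u}} (F : CohTop.Ab X)
    (h : ∀ U : Opens X, Subsingleton (LocCohZ.HZc F 1 U)) : TopCat.Sheaf.IsFlasque F := by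
  refine ⟨fun {A B} i => (AddCommGrpCat.epi_iff_surjective _).2 fun t => ?_⟩
  obtain ⟨s, hs⟩ := (Groth.L04.SupportSh.res_zero_bijective_iff F (le_top : B.unop ≤ ⊤)).2.1
    ((Groth.L04.SupportSh.res_bijective_of_subsingleton_HZ F 0 (le_top : B.unop ≤ ⊤)).2 (h B.unop)) t
  refine ⟨F.obj.map (homOfLE (le_top : A.unop ≤ ⊤)).op s, ?_⟩
  refine Eq.trans ?_ hs
  rw [show (homOfLE (le_top : B.unop ≤ ⊤)).op = (homOfLE (le_top : A.unop ≤ ⊤)).op ≫ i from Subsingleton.elim _ _, F.obj.map_comp]
  rfl

end Groth.Agent.S6024
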