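import Groth.Statements.S6027
import Groth.Agent.L17.SectSupp
import Groth.Agent.L10.SiteRightDerived
import Groth.Agent.L15.RightDerivedExt

set_option autoImplicit false
universe u
open CategoryTheory CategoryTheory.Limits TopologicalSpace
open LocCohZ

namespace Groth.Agent.S6027

/-- The case of a closed subset. Let X be a topological space and Z a closed subset with open complement
U. For every q the q-th right derived functor of F ↦ Γ_Z(X, F) is isomorphic to the functor F ↦
Ext^q(ℤ_{Z,X}, F), where ℤ_{Z,X} = ℤ_X/ℤ_U. (Existence of an isomorphism of functors for each q;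
compatibility with connecting maps is not asserted.) -/
theorem result {X : TopCat.{u}} (U : Opens X) (q : ℕ) :
    Nonempty (LocCohZ.RHZ U q ≅ ToposFin.HZFunctor (LocCohZ.openSh U) q) := by
  letI := HasDerivedCategory.standard (CohTop.Ab X)
  obtain ⟨e⟩ := Groth.L17.SectSupp.exists_gammaZIso U
  exact ⟨Groth.L10.SiteCoh.rightDerivedCongr (F := LocCohZ.gammaZF U) e q ≪≫
    Groth.L15.RightDerivedExt.iso (LocCohZ.zq (le_top : U ≤ ⊤)) q ≪≫
    (Abelian.extFunctor.{u} q).mapIso (LocCohZ.zqIsoQuotZ U).op.symm⟩

end Groth.Agent.S6027
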