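import Groth.Statements.S6028
import Mathlib.CategoryTheory.Abelian.Refinements

set_option autoImplicit false
universe u
open CategoryTheory CategoryTheory.Limits TopologicalSpace
open LocCohZ

namespace Groth.Agent.S6028

/-- Let X be a topological space and W ⊆ V ⊆ T opens of X; put Z = T − W, Z' = T − V and Z'' = V − W, so
that Z' is closed in Z with complement Z''. Then 0 → ℤ_{Z'',X} → ℤ_{Z,X} → ℤ_{Z',X} → 0 is a short
exact sequence of abelian sheaves on X, where ℤ_{Z,X} = ℤ_T/ℤ_W and the maps are the induced ones. -/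
theorem result {X : TopCat.{u}} {W V T : Opens X} (hWV : W ≤ V) (hVT : V ≤ T) :
    ∃ w : LocCohZ.zqMap (hWV.trans hVT) hWV le_rfl hVT ≫ LocCohZ.zqMap hVT (hWV.trans hVT) hWV le_rfl = 0,
      (ShortComplex.mk _ _ w).ShortExact := by
  let a := CohCx.freeSheafMap (Opens.grothendieckTopology X) (homOfLE hWV)
  let b := CohCx.freeSheafMap (Opens.grothendieckTopology X) (homOfLE hVT)
  let c := CohCx.freeSheafMap (Opens.grothendieckTopology X) (homOfLE (hWV.trans hVT))
  have hc : a ≫ b = c := (CohFree.freeSheafMap_comp _ _ _).symm.trans rfl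
  have hid : ∀ (V : Opens X) (h : V ≤ V), CohCx.freeSheafMap (Opens.grothendieckTopology X) (homOfLE h) = 𝟙 _ := fun V h => by
    rw [show homOfLE h = 𝟙 V from Subsingleton.elim _ _]; simp [CohCx.freeSheafMap]
  haveI hb : Mono b := (LocCohZ.zqSeq_shortExact hVT).mono_f
  let f := LocCohZ.zqMap (hWV.trans hVT) hWV le_rfl hVT
  let g := LocCohZ.zqMap hVT (hWV.trans hVT) hWV le_rfl
  have hf : cokernel.π a ≫ f = b ≫ cokernel.π c := cokernel.π_desc _ _ _
  have hg : cokernel.π c ≫ g = cokernel.π b := by
    refine (cokernel.π_desc _ _ _).trans ?_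
    rw [hid, Category.id_comp]
  have w : f ≫ g = 0 := by
    rw [← cancel_epi (cokernel.π a), reassoc_of% hf, hg, cokernel.condition, comp_zero]
  haveI : Mono f := by
    refine Preadditive.mono_of_cancel_zero f fun {P} k hk => ?_
    obtain ⟨P', π, hπ, k', hk'⟩ := surjective_up_to_refinements_of_epi (cokernel.π a) k
    have h0 : (k' ≫ b) ≫ cokernel.π c = 0 := by
      rw [Category.assoc, ← hf, ← reassoc_of% hk', hk, comp_zero]
    obtain ⟨P'', π', hπ', m, hm⟩ := (ShortComplex.exact_of_g_is_cokernel (ShortComplex.mk c (cokernel.π c)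
      (cokernel.condition c)) (cokernelIsCokernel c)).exact_up_to_refinements (k' ≫ b) h0
    have h1 : π' ≫ k' = m ≫ a := by
      rw [← cancel_mono b, Category.assoc, Category.assoc, hc]
      exact hm
    haveI := hπ
    haveI := hπ'
    rw [← cancel_epi π, ← cancel_epi π', hk', reassoc_of% h1, cokernel.condition, comp_zero, comp_zero, comp_zero]
  haveI : Epi g := by
    haveI : Epi (cokernel.π c ≫ g) := by rw [hg]; infer_instance
    exact epi_of_epi (cokernel.π c) g
  refine ⟨w, { exact := ShortComplex.exact_of_g_is_cokernel _ (CokernelCofork.IsColimit.ofπ' g w fun {A} k hk => ?_) }⟩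
  have h2 : b ≫ cokernel.π c ≫ k = 0 := by
    rw [← reassoc_of% hf]
    exact (congrArg (cokernel.π a ≫ ·) hk).trans comp_zero
  refine ⟨cokernel.desc b (cokernel.π c ≫ k) h2, ?_⟩
  rw [← cancel_epi (cokernel.π c), reassoc_of% hg, cokernel.π_desc]

end Groth.Agent.S6028
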