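import Groth.Statements.S6029
import Groth.Agent.L17.SectSupp

set_option autoImplicit false
universe u
open CategoryTheory CategoryTheory.Limits TopologicalSpace
open LocCohZ

namespace Groth.Agent.S6029

/-- For a closed subset Z = X − U of a topological space X and an abelian sheaf F on X: there is an E₂
spectral sequence of abelian groups with E₂^{p,q} ≅ H^p(X, ℋ^q_Z(F)) for p, q ≥ 0 (and 0 otherwise),
bounded, abutting with finite filtrations to H^n_Z(X, F) (n ≥ 0; 0 for n < 0). (Existence only: the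
E₂ identifications and the abutment isomorphisms are some isomorphisms, not the canonical maps of a
construction, so edge maps and low-degree exact sequences are not part of this statement.) -/
theorem result {X : TopCat.{u}} (F : CohTop.Ab X) (U : Opens X) :
    ∃ (E : E₂CohomologicalSpectralSequence AddCommGrpCat.{u})
      (a : SpSeq.Abutment E (fun n : ℤ =>
        if 0 ≤ n then AddCommGrpCat.of (LocCohZ.HZc F n.toNat U) else AddCommGrpCat.of PUnit.{u + 1})),
      (∀ n : ℤ, a.IsFinite n) ∧ SpSeq.IsBounded E ∧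
      ∀ p q : ℤ, Nonempty ((E.page 2 le_rfl).X (p, q) ≅
        (if 0 ≤ p ∧ 0 ≤ q then AddCommGrpCat.of (CohTop.HU ((LocCohZ.HZsh U q.toNat).obj F) p.toNat ⊤)
          else AddCommGrpCat.of PUnit.{u + 1})) := by
  open CategoryTheory.Limits in
  letI := HasDerivedCategory.standard (CohTop.Ab X)
  let S := Groth.L17.GrothSS.secFun (Opens.grothendieckTopology X) (⊤ : Opens X)
  refine Groth.L17.GrothSS.exists_spectralSequence_of_iso (LocCohZ.sectSuppF U) S ?_
    F _ _ ?_ ?_ ?_ ?_
  · intro Q hQ q hq
    obtain ⟨k, rfl⟩ : ∃ k, q = k + 1 := ⟨q - 1, by omega⟩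
    obtain ⟨e⟩ := Groth.L17.GrothSS.nonempty_rightDerived_secFun (Opens.grothendieckTopology X) ⊤
      ((LocCohZ.sectSuppF U).obj Q) (k + 1)
    have := Groth.L10.TopCoh.isFlasque_of_injective Q
    refine IsZero.of_iso (@AddCommGrpCat.isZero_of_subsingleton _ ?_) e
    exact Groth.L10.TopCoh.subsingleton_ext_of_flasque _
      (Groth.L17.SectSupp.isFlasque_sectSupp U Q) ⊤ k
  · intro n
    obtain ⟨e⟩ := Groth.L17.SectSupp.exists_gammaZIso U
    obtain ⟨e'⟩ := Groth.L17.GrothSS.nonempty_rightDerived_homFun (LocCohZ.zq (le_top : U ≤ ⊤)) F n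
    rw [if_pos (Int.natCast_nonneg n), Int.toNat_natCast]
    exact ⟨e'.symm ≪≫ ((Groth.L10.SiteCoh.rightDerivedCongr e n).app F).symm⟩
  · intro n hn
    rw [if_neg (by omega)]
    exact Groth.L17.GrothSS.isZero_punit
  · intro p q
    obtain ⟨e⟩ := Groth.L17.GrothSS.nonempty_rightDerived_secFun (Opens.grothendieckTopology X) ⊤
      ((LocCohZ.HZsh U q).obj F) p
    rw [if_pos ⟨Int.natCast_nonneg p, Int.natCast_nonneg q⟩, Int.toNat_natCast, Int.toNat_natCast]
    exact ⟨e⟩
  · intro p q h
    rw [if_neg h]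
    exact Groth.L17.GrothSS.isZero_punit
end Groth.Agent.S6029
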