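import Groth.Statements.S6031
import Groth.Agent.L17.AffineVanishing

set_option autoImplicit false
universe u
open CategoryTheory CategoryTheory.Limits TopologicalSpace AlgebraicGeometry
open LocCohZ

namespace Groth.Agent.S6031

/-- Let Y be an affine scheme, U an open subset with closed complement Z and M a quasi-coherent
O_Y-module with underlying abelian sheaf F. Then 0 → H^0_Z(Y, F) → H^0(Y, F) → H^0(U, F) → H^1_Z(Y,
F) → 0 is exact, i.e. the connecting map H^0(U, F) → H^1_Z(Y, F) is surjective, and the connecting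
maps H^i(U, F) → H^{i+1}_Z(Y, F) are bijective for all i ≥ 1. (The published statement assumes U
quasi-compact; the printed proof of these two assertions only uses the vanishing of the higher
cohomology of F on the affine scheme Y, so U is an arbitrary open here.) -/
theorem result (Y : Scheme.{u}) [IsAffine Y] (M : Y.Modules)
    (hM : Coh.IsQCoh M) (U : Y.Opens) :
    Function.Surjective (LocCohZ.delta (X := Y.carrier) (Coh.toAb M) 0 (le_top : U ≤ ⊤)) ∧
      ∀ i : ℕ, 1 ≤ i →
        Function.Bijective (LocCohZ.delta (X := Y.carrier) (Coh.toAb M) i (le_top : U ≤ ⊤)) := by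
  haveI : Coh.IsQCoh M := hM
  have hvan : ∀ k, Subsingleton (CohTop.HU (X := Y.toTopCat) (Coh.toAb M) (k + 1) (⊤ : Y.Opens)) := fun k =>
    subsingleton_of_forall_eq 0 (Groth.L17.hu_affine_eq_zero M (isAffineOpen_top Y) k)
  have hS : (LocCohZ.zqSeq (X := Y.carrier) (le_top : U ≤ ⊤)).ShortExact := LocCohZ.zqSeq_shortExact _
  have hsurj : ∀ i, Function.Surjective (LocCohZ.delta (X := Y.carrier) (Coh.toAb M) i (le_top : U ≤ ⊤)) := by
    intro i x
    let x' : Abelian.Ext (LocCohZ.zqSeq (X := Y.carrier) (le_top : U ≤ ⊤)).X₃ (Coh.toAb M) (i + 1) := x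
    obtain ⟨y, hy⟩ := Abelian.Ext.contravariant_sequence_exact₃ hS (Coh.toAb M) x'
      (@Subsingleton.elim (CohTop.HU (X := Y.toTopCat) (Coh.toAb M) (i + 1) (⊤ : Y.Opens)) (hvan i) _ _) (n₀ := i) (add_comm 1 i)
    exact ⟨y, hy⟩
  refine ⟨hsurj 0, fun i hi => ⟨(injective_iff_map_eq_zero _).2 fun y hy => ?_, hsurj i⟩⟩
  obtain ⟨k, rfl⟩ : ∃ k, i = k + 1 := ⟨i - 1, by omega⟩
  let y' : Abelian.Ext (LocCohZ.zqSeq (X := Y.carrier) (le_top : U ≤ ⊤)).X₁ (Coh.toAb M) (k + 1) := y
  obtain ⟨z, hz⟩ := Abelian.Ext.contravariant_sequence_exact₁ hS (Coh.toAb M) y' (add_comm 1 (k + 1)) hy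
  refine hz.symm.trans ?_
  rw [show z = 0 from @Subsingleton.elim (CohTop.HU (X := Y.toTopCat) (Coh.toAb M) (k + 1) (⊤ : Y.Opens)) (hvan k) _ _]
  exact map_zero ((Abelian.Ext.mk₀ (LocCohZ.zqSeq (X := Y.carrier) (le_top : U ≤ ⊤)).f).precomp (Coh.toAb M) (zero_add (k + 1)))

end Groth.Agent.S6031
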