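import Groth.Statements.S6037
import Groth.Agent.L17.SectSuppPush

set_option autoImplicit false
universe u
open CategoryTheory CategoryTheory.Limits TopologicalSpace
open LocCohZ

namespace Groth.Agent.S6037

/-- Let f : X → Y be a continuous map of topological spaces, Y' a closed subset of Y with open
complement V, X' = f⁻¹(Y') and F an abelian sheaf on X. There is an E₂ spectral sequence of abelian
groups with E₂^{p,q} ≅ H^p_{Y'}(Y, R^q f_* F) for p, q ≥ 0 (0 otherwise), bounded, abutting with
finite filtrations to H^n_{X'}(X, F). (The published statement is for a morphism of ringed spaces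
and records module structures over the global sections of O_Y; here only abelian groups. Existence
only: the E₂ identifications and abutment isomorphisms are some isomorphisms, not the canonical
ones.) -/
theorem result {X Y : TopCat.{u}} (f : X ⟶ Y)
    (V : Opens Y) (F : CohTop.Ab X) :
    ∃ (E : E₂CohomologicalSpectralSequence AddCommGrpCat.{u})
      (a : SpSeq.Abutment E (fun n : ℤ =>
        if 0 ≤ n then AddCommGrpCat.of (LocCohZ.HZc F n.toNat ((Opens.map f).obj V))
          else AddCommGrpCat.of PUnit.{u + 1})),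
      (∀ n : ℤ, a.IsFinite n) ∧ SpSeq.IsBounded E ∧
      ∀ p q : ℤ, Nonempty ((E.page 2 le_rfl).X (p, q) ≅
        (if 0 ≤ p ∧ 0 ≤ q then AddCommGrpCat.of (LocCohZ.HZc ((CohTop.Rpush f q.toNat).obj F) p.toNat V)
          else AddCommGrpCat.of PUnit.{u + 1})) := by
  open CategoryTheory.Limits in
  letI := HasDerivedCategory.standard (CohTop.Ab Y)
  let S := Groth.L17.GrothSS.homFun (LocCohZ.zq (le_top : V ≤ ⊤))
  refine Groth.L17.GrothSS.exists_spectralSequence_of_iso (CohTop.push f) S ?_
    F _ _ ?_ ?_ ?_ ?_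
  · intro Q hQ q hq
    obtain ⟨k, rfl⟩ : ∃ k, q = k + 1 := ⟨q - 1, by omega⟩
    have := Groth.L10.TopCoh.push_injective f Q
    exact S.isZero_rightDerived_obj_injective_succ k _
  · intro n
    obtain ⟨e₁⟩ := Groth.L17.SectSupp.exists_gammaZIso V
    obtain ⟨e₂⟩ := Groth.L17.SectSupp.exists_gammaZPushIso f V
    obtain ⟨e₃⟩ := Groth.L17.SectSupp.exists_gammaZIso ((Opens.map f).obj V)
    obtain ⟨e'⟩ := Groth.L17.GrothSS.nonempty_rightDerived_homFun
      (LocCohZ.zq (le_top : (Opens.map f).obj V ≤ ⊤)) F n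
    let E : CohTop.push f ⋙ S ≅
        Groth.L17.GrothSS.homFun (LocCohZ.zq (le_top : (Opens.map f).obj V ≤ ⊤)) :=
      Functor.isoWhiskerLeft _ e₁.symm ≪≫ e₂ ≪≫ e₃
    rw [if_pos (Int.natCast_nonneg n), Int.toNat_natCast]
    exact ⟨e'.symm ≪≫ ((Groth.L10.SiteCoh.rightDerivedCongr E n).app F).symm⟩
  · intro n hn
    rw [if_neg (by omega)]
    exact Groth.L17.GrothSS.isZero_punit
  · intro p q
    obtain ⟨e⟩ := Groth.L17.GrothSS.nonempty_rightDerived_homFun (LocCohZ.zq (le_top : V ≤ ⊤))
      ((CohTop.Rpush f q).obj F) p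
    rw [if_pos ⟨Int.natCast_nonneg p, Int.natCast_nonneg q⟩, Int.toNat_natCast, Int.toNat_natCast]
    exact ⟨e⟩
  · intro p q h
    rw [if_neg h]
    exact Groth.L17.GrothSS.isZero_punit
end Groth.Agent.S6037
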