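import Groth.Statements.S6038
import Groth.Agent.L04.SupportSh.AboveDim

set_option autoImplicit false
universe u
open CategoryTheory CategoryTheory.Limits TopologicalSpace AlgebraicGeometry
open LocCohZ

namespace Groth.Agent.S6038

/-- In the case F = O_X (where Ext^i_Y(O_X, G) is the local cohomology sheaf ℋ^i_Y(G)). Let X be a
locally Noetherian scheme whose local rings are all regular, Y a closed subset with open complement
U, G a coherent O_X-module with underlying abelian sheaf F, and i a natural number with dim O_{X,x}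
< i for every x ∈ Y. Then ℋ^i_Y(F) = 0. -/
theorem result (X : Scheme.{u}) [IsLocallyNoetherian X]
    (hreg : ∀ x : X, IsRegularLocalRing (X.presheaf.stalk x)) (U : X.Opens) (G : X.Modules) (hG : Coh.IsCoh G)
    (i : ℕ) (hi : ∀ x : X, x ∉ (U : Set X) → ringKrullDim (X.presheaf.stalk x) < (i : WithBot ℕ∞)) :
    IsZero ((LocCohZ.HZsh (X := X.carrier) U i).obj (Coh.toAb G)) := by
  haveI : Coh.IsQCoh G := hG.1
  obtain _ | p := i
  · refine Groth.L04.SupportSh.isZero_HZsh_zero (X := X.carrier) U _ fun V => ?_
    have hU : U = ⊤ := eq_top_iff.2 fun x _ => by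
      by_contra hx
      exact absurd (hi x hx) (not_lt.2 ringKrullDim_nonneg_of_nontrivial)
    subst hU
    have h1 : V ≤ V ⊓ ⊤ := le_inf le_rfl le_top
    haveI : IsIso (homOfLE (inf_le_left : V ⊓ ⊤ ≤ V)).op :=
      ⟨(homOfLE h1).op, Subsingleton.elim _ _, Subsingleton.elim _ _⟩
    exact (AddCommGrpCat.mono_iff_injective _).1 inferInstance
  · refine Groth.L04.SupportSh.isZero_HZsh_succ_of_basis (X := X.carrier) U _ p _ X.isBasis_affineOpens fun V hV => ?_
    refine Groth.L04.SupportSh.res_affine_surjective U G hG.1 hV p fun x hx => ?_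
    have h := hi x hx
    generalize ringKrullDim (X.presheaf.stalk x) = a at h ⊢
    cases a with
    | bot => exact bot_le
    | coe a =>
      rw [show ((p + 1 : ℕ) : WithBot ℕ∞) = (((p + 1 : ℕ) : ℕ∞) : WithBot ℕ∞) from rfl, WithBot.coe_lt_coe] at h
      rw [show (p : WithBot ℕ∞) = ((p : ℕ∞) : WithBot ℕ∞) from rfl, WithBot.coe_le_coe]
      exact Order.le_of_lt_add_one (by exact_mod_cast h)

end Groth.Agent.S6038
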