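import Groth.Statements.S6040
import Groth.Agent.L04.SupportSh.Restrict
import Groth.Agent.L04.SupportSh.Basic
import Groth.Agent.L10.SiteRightDerived

set_option autoImplicit false
universe u
open CategoryTheory CategoryTheory.Limits TopologicalSpace
open LocCohZ

set_option backward.isDefEq.respectTransparency false

namespace Groth.Agent.S6040

open Groth.L04.SupportSh

/-- Let X be a topological space, U an open subset and j : U → X the inclusion, so that the sheaf of
sections with supports in the open U is Γ_U(F) = j_*(F|_U). For every q the local cohomology sheaf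
functor ℋ^q_U, i.e. the q-th right derived functor of F ↦ j_*(F|_U), is isomorphic to F ↦ R^q
j_*(F|_U). (Existence of an isomorphism of functors for each q.) -/
theorem result {X : TopCat.{u}} (U : Opens X) (q : ℕ) :
    Nonempty (CohCx.RpushOn (𝟙 X) U q ≅ CohTop.restrFunctor U ⋙ CohTop.Rpush (CohCx.incl U) q) := by
  let adj := TopCat.Sheaf.pullbackPushforwardAdjunction AddCommGrpCat.{u} (CohCx.incl U)
  let e : CohTop.pull (CohCx.incl U) ≅ CohTop.restrFunctor U :=
    adj.leftAdjointUniq (Groth.L17.SectSupp.restrAdj U)
  haveI : PreservesFiniteLimits (CohTop.restrFunctor U) := preservesFiniteLimits_of_natIso e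
  haveI : PreservesFiniteColimits (CohTop.restrFunctor U) := preservesFiniteColimits_of_natIso e
  haveI : (CohTop.restrFunctor U).PreservesInjectiveObjects :=
    ⟨fun {I} hI => Groth.L04.SupportSh.injective_restrFunctor U I⟩
  obtain ⟨e'⟩ := Groth.L04.FunctorLES.nonempty_precomp_iso (CohTop.restrFunctor U)
    (CohTop.push (CohCx.incl U)) q
  exact ⟨Groth.L10.SiteCoh.rightDerivedCongr (Iso.refl _) q ≪≫ e'⟩

end Groth.Agent.S6040
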