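import Groth.Statements.S6048
import Groth.Agent.L09.ShfRel
import Groth.Prelude.Def_W4sga3iivvp2RelPsh
import Mathlib.CategoryTheory.Sites.Over
import Mathlib.CategoryTheory.Sites.SheafOfTypes
import Mathlib.CategoryTheory.Subobject.Basic
import Mathlib.CategoryTheory.Monoidal.Cartesian.Basic

set_option autoImplicit false
open CategoryTheory CategoryTheory.Limits MonoidalCategory
universe w v₁ u₁
open ShfCat

namespace Groth.Agent.S6048
open CategoryTheory Category Limits Opposite Groth.L09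

open CartesianMonoidalCategory SemiCartesianMonoidalCategory in
/-- For sheaves of sets on a site with sheafification: let `p₁, p₂ : R ⇉ X` be an equivalence relation
of sheaves with universally effective quotient `π : X ⟶ X/R` and `Y` a sheaf. (a) A subsheaf `Z ⊆ X
× Y` stable under `R × Y`, covering `Y`, and any two of whose points over the same point of `Y` are
`R`-related, is the pullback of `π` along exactly one `f : Y ⟶ X/R`; (b) every `f : Y ⟶ X/R` arises
in this way. -/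
theorem result {C : Type u₁} [Category.{v₁} C]
    (J : GrothendieckTopology C) [HasSheafify J (Type w)]
    {R X : Sheaf J (Type w)} {p₁ p₂ : R ⟶ X}
    (e : UniversallyEffectiveEquivalenceRelation p₁ p₂) (Y : Sheaf J (Type w)) :
    (∀ (Z : Sheaf J (Type w)) (ι : Z ⟶ X ⊗ Y), Mono ι →
      (∀ (W : Sheaf J (Type w)) (r : W ⟶ R) (y : W ⟶ Y),
        (∃ z : W ⟶ Z, z ≫ ι = lift (r ≫ p₁) y) ↔ (∃ z : W ⟶ Z, z ≫ ι = lift (r ≫ p₂) y)) →
      Epi (ι ≫ snd X Y) →
      (∀ (W : Sheaf J (Type w)) (z₁ z₂ : W ⟶ Z), z₁ ≫ ι ≫ snd X Y = z₂ ≫ ι ≫ snd X Y →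
        ∃ r : W ⟶ R, r ≫ p₁ = z₁ ≫ ι ≫ fst X Y ∧ r ≫ p₂ = z₂ ≫ ι ≫ fst X Y) →
      ∃! f : Y ⟶ e.B, IsPullback (ι ≫ fst X Y) (ι ≫ snd X Y) e.π f) ∧
    (∀ f : Y ⟶ e.B, ∃ (Z : Sheaf J (Type w)) (ι : Z ⟶ X ⊗ Y), Mono ι ∧
      (∀ (W : Sheaf J (Type w)) (r : W ⟶ R) (y : W ⟶ Y),
        (∃ z : W ⟶ Z, z ≫ ι = lift (r ≫ p₁) y) ↔ (∃ z : W ⟶ Z, z ≫ ι = lift (r ≫ p₂) y)) ∧
      Epi (ι ≫ snd X Y) ∧
      (∀ (W : Sheaf J (Type w)) (z₁ z₂ : W ⟶ Z), z₁ ≫ ι ≫ snd X Y = z₂ ≫ ι ≫ snd X Y →
        ∃ r : W ⟶ R, r ≫ p₁ = z₁ ≫ ι ≫ fst X Y ∧ r ≫ p₂ = z₂ ≫ ι ≫ fst X Y) ∧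
      IsPullback (ι ≫ fst X Y) (ι ≫ snd X Y) e.π f) := by
  constructor
  · intro Z ι _ hst _ hker
    set q := ι ≫ snd X Y with hqdef
    have hq := ShfRel.shf_universally_effectiveEpi q
    have := UEffEpi.effectiveEpi hq
    let f := EffectiveEpi.desc q ((ι ≫ fst X Y) ≫ e.π) (fun {W} z₁ z₂ h => by
      obtain ⟨r, h₁, h₂⟩ := hker W z₁ z₂ h
      simp only [assoc] at h₁ h₂ ⊢
      rw [← reassoc_of% h₁, ← reassoc_of% h₂, e.isKernelPair.w])
    have hf : q ≫ f = (ι ≫ fst X Y) ≫ e.π := EffectiveEpi.fac _ _ _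
    refine ⟨f, ?_, fun f' hf' => ?_⟩
    · refine UEffEpi.isPullback_mk hf.symm (fun {W} x y hxy => ?_) (fun l m h₁ h₂ => ?_)
      · let c := pullback.fst y q
        let z := pullback.snd y q
        have hc : (z ≫ ι ≫ fst X Y) ≫ e.π = (c ≫ x) ≫ e.π := by
          rw [assoc, ← hf, ← reassoc_of% (show c ≫ y = z ≫ q from pullback.condition), assoc, hxy]
        let r := e.isKernelPair.lift _ _ hc
        obtain ⟨z', hz'⟩ := (hst _ r (c ≫ y)).mp ⟨z, by
          apply CartesianMonoidalCategory.hom_ext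
          · simp only [assoc, lift_fst]; exact (e.isKernelPair.lift_fst _ _ _).symm
          · simp only [assoc, lift_snd]; exact pullback.condition.symm⟩
        have := UEffEpi.effectiveEpi (UEffEpi.pullback_fst hq y)
        obtain ⟨k, hk⟩ := ShfRel.exists_lift_of_mono c ι (lift x y) z' (hz'.trans (by
          apply CartesianMonoidalCategory.hom_ext
          · simp only [assoc, lift_fst]; exact e.isKernelPair.lift_snd _ _ _
          · simp only [assoc, lift_snd]))
        refine ⟨k, ?_, ?_⟩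
        · rw [← assoc, hk, lift_fst]
        · rw [hqdef, ← assoc, hk, lift_snd]
      · rw [← cancel_mono ι]
        apply CartesianMonoidalCategory.hom_ext
        · simpa [assoc] using h₁
        · simpa [assoc, hqdef] using h₂
    · exact (cancel_epi q).mp (hf'.w.symm.trans hf.symm)
  · intro f
    have hπ := e.universally_effectiveEpi_π
    let ι : pullback e.π f ⟶ X ⊗ Y := lift (pullback.fst e.π f) (pullback.snd e.π f)
    have h1 : ι ≫ fst X Y = pullback.fst e.π f := lift_fst _ _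
    have h2 : ι ≫ snd X Y = pullback.snd e.π f := lift_snd _ _
    have hm : ∀ {W : Sheaf J (Type w)} (x : W ⟶ X) (y : W ⟶ Y),
        (∃ z : W ⟶ pullback e.π f, z ≫ ι = lift x y) ↔ x ≫ e.π = y ≫ f := by
      intro W x y
      constructor
      · rintro ⟨z, hz⟩
        have hx := congrArg (· ≫ fst X Y) hz
        have hy := congrArg (· ≫ snd X Y) hz
        simp only [assoc, h1, h2, lift_fst, lift_snd] at hx hy
        rw [← hx, ← hy, assoc, assoc, pullback.condition]
      · intro h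
        refine ⟨pullback.lift x y h, ?_⟩
        apply CartesianMonoidalCategory.hom_ext
        · rw [assoc, h1, lift_fst, pullback.lift_fst]
        · rw [assoc, h2, lift_snd, pullback.lift_snd]
    refine ⟨_, ι, ⟨fun a b hab => ?_⟩, fun W r y => ?_, ?_, fun W z₁ z₂ h => ?_, ?_⟩
    · apply pullback.hom_ext
      · rw [← h1, reassoc_of% hab]
      · rw [← h2, reassoc_of% hab]
    · rw [hm, hm, assoc, assoc, e.isKernelPair.w]
    · rw [h2]
      exact UEffEpi.epi (UEffEpi.pullback_snd hπ f)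
    · rw [h1]
      rw [h2] at h
      have hc : (z₁ ≫ pullback.fst e.π f) ≫ e.π = (z₂ ≫ pullback.fst e.π f) ≫ e.π := by
        rw [assoc, assoc, pullback.condition, reassoc_of% h]
      exact ⟨e.isKernelPair.lift _ _ hc, e.isKernelPair.lift_fst _ _ _, e.isKernelPair.lift_snd _ _ _⟩
    · rw [h1, h2]
      exact IsPullback.of_hasPullback _ _

end Groth.Agent.S6048
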