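import Groth.Statements.S6057
import Groth.Agent.L09.ShfRel
import Groth.Prelude.Def_W4sga3iivvp2RelPsh
import Mathlib.CategoryTheory.Sites.Over
import Mathlib.CategoryTheory.Sites.SheafOfTypes
import Mathlib.CategoryTheory.Subobject.Basic
import Mathlib.CategoryTheory.Monoidal.Cartesian.Basic

set_option autoImplicit false
open CategoryTheory
universe v₁ u₁
open ShfCat

namespace Groth.Agent.S6057
open CategoryTheory Category Limits Opposite Groth.L09

/-- Let `S` be an object whose representable presheaf is a sheaf for `J` and `φ : F ⟶ h_S` a morphism of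
presheaves of sets. The relative presheaf on `C/S` (sections of `F` over `T` lying over the given `T
⟶ S`) is separated (resp. a sheaf) for the induced topology on `C/S` if and only if `F` is separated
(resp. a sheaf). -/
theorem result {C : Type u₁} [Category.{v₁} C] (J : GrothendieckTopology C)
    {S : C} (hS : Presieve.IsSheaf J (yoneda.obj S)) {F : Cᵒᵖ ⥤ Type v₁} (φ : F ⟶ yoneda.obj S) :
    (Presieve.IsSeparated (J.over S) (ShfCat.relPsh φ) ↔ Presieve.IsSeparated J F) ∧
    (Presieve.IsSheaf (J.over S) (ShfCat.relPsh φ) ↔ Presieve.IsSheaf J F) := by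
  have sep1 : Presieve.IsSeparated J F → Presieve.IsSeparated (J.over S) (ShfCat.relPsh φ) := by
    intro h T R hR x t₁ t₂ h₁ h₂
    apply Subtype.ext
    refine (h _ ((J.mem_over_iff R).mp hR)).ext fun Z f hf => ?_
    rw [Sieve.overEquiv_iff] at hf
    exact (congrArg Subtype.val (h₁ _ hf)).trans (congrArg Subtype.val (h₂ _ hf)).symm
  have sep2 : Presieve.IsSeparated (J.over S) (ShfCat.relPsh φ) → Presieve.IsSeparated J F := by
    intro h T R hR x t₁ t₂ h₁ h₂
    have e : φ.app (op T) t₂ = φ.app (op T) t₁ := by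
      refine (hS R hR).isSeparatedFor.ext fun Z f hf => ?_
      rw [← NatTrans.naturality_apply, ← NatTrans.naturality_apply, h₁ f hf, h₂ f hf]
    refine congrArg Subtype.val ((h _ (J.overEquiv_symm_mem_over (Over.mk (φ.app (op T) t₁ : T ⟶ S)) R hR)).ext
      (t₁ := ⟨t₁, rfl⟩) (t₂ := ⟨t₂, e⟩) fun Z f hf => Subtype.ext ?_)
    exact (h₁ f.left hf).trans (h₂ f.left hf).symm
  refine ⟨⟨sep2, sep1⟩, ⟨fun h => ?_, fun h => ?_⟩⟩
  · intro T R hR x hx
    have hφ : Presieve.FamilyOfElements.Compatible (fun Z f hf => φ.app (op Z) (x f hf)) := by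
      intro Y₁ Y₂ Z g₁ g₂ f₁ f₂ h₁ h₂ hc
      rw [← NatTrans.naturality_apply, ← NatTrans.naturality_apply, hx g₁ g₂ h₁ h₂ hc]
    obtain ⟨s, hs, -⟩ := hS R hR _ hφ
    have hsec : ∀ (Z : Over S) (f : Z ⟶ Over.mk (s : T ⟶ S)) (hf : R f.left),
        φ.app (op Z.left) (x f.left hf) = Z.hom := fun Z f hf =>
      (hs f.left hf).symm.trans (Over.w f)
    obtain ⟨t, ht, -⟩ := h _ (J.overEquiv_symm_mem_over (Over.mk (s : T ⟶ S)) R hR)
      (fun Z f hf => ⟨x f.left hf, hsec Z f hf⟩)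
      (fun Y₁ Y₂ Z g₁ g₂ f₁ f₂ h₁ h₂ hc => Subtype.ext (hx g₁.left g₂.left h₁ h₂ (congrArg CommaMorphism.left hc :)))
    refine ⟨t.1, fun Z f hf => congrArg Subtype.val (ht (Over.homMk f : Over.mk (f ≫ s) ⟶ Over.mk (s : T ⟶ S)) hf), fun t' ht' => ?_⟩
    exact ((sep2 h.isSeparated) R hR).ext fun Z f hf => (ht' f hf).trans
      (congrArg Subtype.val (ht (Over.homMk f : Over.mk (f ≫ s) ⟶ Over.mk (s : T ⟶ S)) hf)).symm
  · intro T R hR x hx
    have hR' := (J.mem_over_iff R).mp hR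
    let x' : Presieve.FamilyOfElements F (Sieve.overEquiv T R).arrows := fun Z f hf =>
      (x (Over.homMk f : Over.mk (f ≫ T.hom) ⟶ T) ((Sieve.overEquiv_iff R f).mp hf)).1
    have hx' : x'.Compatible := by
      intro Y₁ Y₂ Z g₁ g₂ f₁ f₂ h₁ h₂ hc
      exact congrArg Subtype.val (hx (Over.homMk g₁ (by simp) : Over.mk (g₁ ≫ f₁ ≫ T.hom) ⟶ Over.mk (f₁ ≫ T.hom))
        (Over.homMk g₂ (by simp [reassoc_of% hc]) : Over.mk (g₁ ≫ f₁ ≫ T.hom) ⟶ Over.mk (f₂ ≫ T.hom))
        ((Sieve.overEquiv_iff R f₁).mp h₁) ((Sieve.overEquiv_iff R f₂).mp h₂) (by ext; exact hc))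
    obtain ⟨t, ht, -⟩ := h _ hR' x' hx'
    have e : φ.app (op T.left) t = T.hom := by
      refine (hS _ hR').isSeparatedFor.ext fun Z f hf => ?_
      rw [← NatTrans.naturality_apply, ht f hf]
      exact (x _ ((Sieve.overEquiv_iff R f).mp hf)).2
    refine ⟨⟨t, e⟩, fun Z f hf => ?_, fun t' ht' => ?_⟩
    · have hf' : Sieve.overEquiv T R f.left := ⟨Z, f, 𝟙 _, hf, by simp⟩
      refine Subtype.ext ((ht f.left hf').trans ?_)
      have := congrArg Subtype.val (hx (Over.homMk (𝟙 Z.left) (by simp [Over.w f]) : Z ⟶ Over.mk (f.left ≫ T.hom)) (𝟙 Z)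
        ((Sieve.overEquiv_iff R f.left).mp hf') hf (by ext; simp))
      exact (ConcreteCategory.congr_hom (F.map_id _) _).symm.trans (this.trans (ConcreteCategory.congr_hom (F.map_id _) _))
    · apply Subtype.ext
      refine (h _ hR').isSeparatedFor.ext fun Z f hf => ?_
      rw [ht f hf]
      exact congrArg Subtype.val (ht' _ ((Sieve.overEquiv_iff R f).mp hf))

end Groth.Agent.S6057
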