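import Groth.Statements.S6058
import Groth.Agent.L25.Char.AdicConnected
import Groth.Agent.L25.Char.TorsionPoints
import Groth.Agent.L25.MultType.Torsion
import Mathlib.FieldTheory.IsAlgClosed.AlgebraicClosure

set_option autoImplicit false
universe u
open TensorProduct SGA3b
open SGA3b

namespace Groth.Agent.S6058

open WithConv in
theorem comp_powConv {R : Type u} [CommRing R] {C : Type u} [CommRing C] [HopfAlgebra R C]
    {k : Type u} [CommRing k] [Algebra R k] (x : WithConv (C →ₐ[R] k)) (n : ℕ) (c : C) :
    x.ofConv (SGA3b.powConv R C n c) = (x ^ n).ofConv c := by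
  induction n generalizing c with
  | zero =>
    rw [pow_zero, Groth.L25.MultType.powConv_zero, AlgHom.comp_apply]
    change x.ofConv (algebraMap R C (Coalgebra.counit c)) = algebraMap R k (Coalgebra.counit c)
    rw [AlgHom.commutes]
  | succ n ih =>
    rw [pow_succ, Groth.L25.MultType.powConv_succ_apply,
      show (x ^ n * x).ofConv c = (x ^ n * x) c from rfl, AlgHom.convMul_apply]
    induction Coalgebra.comul (R := R) c using TensorProduct.induction_on with
    | zero => simp
    | add a b ha hb => simp only [map_add, ha, hb]
    | tmul a b =>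
      rw [TensorProduct.map_tmul, LinearMap.mul'_apply, map_mul, Algebra.TensorProduct.lift_tmul,
        AlgHom.toLinearMap_apply, ih]
      rfl


/-- Let A be a Noetherian ring, separated and complete for the I-adic topology, and H = Spec C a
commutative affine A-group (C cocommutative) with C flat and of finite type over A, such that the
reduction H₀ = Spec ((A/I) ⊗ C) is an isotrivial (A/I)-group of multiplicative type and such that
for every n > 0 the kernel ₙH = Spec (C/Jₙ) of the n-th power map is finite over A (Jₙ the ideal
generated by the image of the augmentation ideal under the n-th power endomorphism). Then H is an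
isotrivial A-group of multiplicative type. (Affine group schemes over an affine base are taken in
Hopf-algebra form; base change is the tensor product.) -/
theorem result (A : Type u) [CommRing A] [IsNoetherianRing A] (I : Ideal A) [IsAdicComplete I A]
    (C : Type u) [CommRing C] [HopfAlgebra A C] [Coalgebra.IsCocomm A C] [Module.Flat A C] (hft : Algebra.FiniteType A C)
    (h0 : IsIsotrivial (A ⧸ I) ((A ⧸ I) ⊗[A] C))
    (hfin : ∀ n : ℕ, 0 < n → Module.Finite A (C ⧸ torsionIdeal A C n)) :
    IsIsotrivial A C := by
  classical
  obtain ⟨G, _, _, φ, e, hG, hφ, he, hker, hmem, -⟩ :=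
    Groth.L25.Char.exists_clopen hft (fun q _ _ => Groth.L25.Char.flat_localization (R := A) q) h0
  have he0 : e = 0 := by
    refine he.eq_zero_of_isNilpotent (mem_nilradical.1 ?_)
    rw [nilradical_eq_sInf]
    refine Ideal.mem_sInf.2 fun {q} (hq : q.IsPrime) => ?_
    obtain ⟨T, _, _, _, _, hff, M, _, ⟨d⟩⟩ := hG
    haveI := hff
    let W := T ⊗[A] q.ResidueField
    haveI : Nontrivial W :=
      (Module.FaithfullyFlat.tensorProduct_mk_injective (A := A) (B := T) q.ResidueField).nontrivial
    obtain ⟨w, hw⟩ := Ideal.exists_maximal W
    letI : Field (W ⧸ w) := Ideal.Quotient.field w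
    let k := AlgebraicClosure (W ⧸ w)
    let g : q.ResidueField →ₐ[A] W ⧸ w :=
      (Ideal.Quotient.mkₐ A w).comp Algebra.TensorProduct.includeRight
    let x : C →ₐ[A] k :=
      ((IsScalarTower.toAlgHom A (W ⧸ w) k).comp g).comp (IsScalarTower.toAlgHom A C q.ResidueField)
    haveI : Nontrivial T :=
      (algebraMap T k).domain_nontrivial
    haveI : Algebra.FiniteType A G := Algebra.FiniteType.of_surjective (φ : C →ₐ[A] G) hφ
    haveI : Algebra.FiniteType T (MonoidAlgebra T M) :=
      Algebra.FiniteType.equiv (A := T ⊗[A] G) inferInstance d.toAlgEquiv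
    haveI : Group.FG M := MonoidAlgebra.finiteType_iff_group_fg.1 (inferInstance : Algebra.FiniteType T _)
    haveI := hft
    have h1 : x e = 0 := Groth.L25.Char.apply_eq_zero_of_torsion φ hφ e he hker d
      (fun y n hn hyn => by
        haveI := hfin n hn
        let π := Ideal.Quotient.mkₐ A (torsionIdeal A C n)
        have hπ : π e = 0 := by
          refine Groth.L25.Char.Descent.eq_zero_of_idem_of_mem_jacobson (he.map π) ?_
          refine Groth.L05.map_le_jacobson_bot (IsAdicComplete.le_jacobson_bot I) ?_
          have h2 : Ideal.map (algebraMap A C) I ≤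
              (Ideal.map (algebraMap A (C ⧸ torsionIdeal A C n)) I).comap π :=
            Ideal.map_le_iff_le_comap.2 fun r hr => by
              rw [Ideal.mem_comap, Ideal.mem_comap, AlgHom.commutes]
              exact Ideal.mem_map_of_mem _ hr
          exact h2 hmem
        have hle : torsionIdeal A C n ≤ RingHom.ker y.ofConv := by
          refine Groth.L25.MultType.torsionIdeal_le_iff.2 fun a => ?_
          rw [RingHom.mem_ker, map_sub, comp_powConv, hyn, AlgHom.commutes, sub_eq_zero]
          rfl
        exact hle (Ideal.Quotient.eq_zero_iff_mem.1 hπ))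
      (WithConv.toConv x)
    have h3 : algebraMap C q.ResidueField e = 0 := by
      apply (g : q.ResidueField →+* W ⧸ w).injective
      apply (algebraMap (W ⧸ w) k).injective
      rw [map_zero, map_zero]
      exact h1
    exact Ideal.algebraMap_residueField_eq_zero.1 h3
  have hbij : Function.Bijective φ := by
    refine ⟨(injective_iff_map_eq_zero φ).2 fun c hc => ?_, hφ⟩
    have hmem : c ∈ RingHom.ker (φ : C →ₐ[A] G) := hc
    rw [hker, he0, Ideal.span_singleton_eq_bot.2 rfl] at hmem
    exact hmem
  exact Groth.L25.Char.isIsotrivial_of_bialgEquiv (BialgEquiv.ofBijective φ hbij).symm hG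
end Groth.Agent.S6058
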