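import Groth.Statements.S6060
import Groth.Agent.L25.NhdEq.Subgroup

set_option autoImplicit false
set_option backward.isDefEq.respectTransparency.types false
open CategoryTheory MonoidalCategory CartesianMonoidalCategory MonObj GrpObj AlgebraicGeometry
universe u
open SGA3x

namespace Groth.Agent.S6060

/-- Let G be an S-group, suppose S locally Noetherian or G of finite presentation over S, and let i₁ :
H₁ ⟶ G, i₂ : H₂ ⟶ G be two sub-group-schemes (homomorphisms which are immersions) of multiplicative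
type and of finite type. Let s ∈ S be a point such that the fibre (H₁)_s is central in G_s (every
point of G_s commutes with every point of (H₁)_s) and (H₁)_s = (H₂)_s as subgroups of G_s (an
isomorphism of the fibres compatible with the inclusions). Then there is an open neighbourhood U of
s such that H₁|_U = H₂|_U as subgroups of G|_U. -/
theorem result {S : Scheme.{u}} (G H₁ H₂ : Over S) [GrpObj G] [GrpObj H₁] [GrpObj H₂]
    (hG : IsLocallyNoetherian S ∨ (LocallyOfFinitePresentation G.hom ∧ QuasiCompact G.hom ∧ QuasiSeparated G.hom))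
    (h₁ : SGA3x.IsMultTypeFT H₁) (h₂ : SGA3x.IsMultTypeFT H₂)
    (i₁ : H₁ ⟶ G) [IsMonHom i₁] [IsImmersion i₁.left] (i₂ : H₂ ⟶ G) [IsMonHom i₂] [IsImmersion i₂.left] (s : S)
    (hc : ∀ (X : Over (Spec (S.residueField s))) (g : X ⟶ Red.bc (S.fromSpecResidueField s) G)
      (h : X ⟶ Red.bc (S.fromSpecResidueField s) H₁),
      g * (h ≫ (Over.pullback (S.fromSpecResidueField s)).map i₁) = (h ≫ (Over.pullback (S.fromSpecResidueField s)).map i₁) * g)
    (hs : ∃ ψ : Red.bc (S.fromSpecResidueField s) H₁ ≅ Red.bc (S.fromSpecResidueField s) H₂,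
      ψ.hom ≫ (Over.pullback (S.fromSpecResidueField s)).map i₂ = (Over.pullback (S.fromSpecResidueField s)).map i₁) :
    ∃ U : S.Opens, s ∈ U ∧ ∃ ψ : Red.bc U.ι H₁ ≅ Red.bc U.ι H₂,
      ψ.hom ≫ (Over.pullback U.ι).map i₂ = (Over.pullback U.ι).map i₁ := by
  have hG' : IsLocallyNoetherian S ∨ LocallyOfFinitePresentation G.hom := hG.imp_right And.left
  obtain ⟨ψ, hψ⟩ := hs
  have hψ' : ψ.inv ≫ (Over.pullback (S.fromSpecResidueField s)).map i₁ =
      (Over.pullback (S.fromSpecResidueField s)).map i₂ := by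
    rw [← hψ, Iso.inv_hom_id_assoc]
  have hcent := Groth.L25.NhdEq.comm_of_map (S.fromSpecResidueField s) i₁ hc
  obtain ⟨U₁, hs₁, h12⟩ := Groth.L25.NhdEq.exists_nhd_fac h₁ h₂ i₁ i₂ hG' s
    (fun X w hw h => Groth.L25.NhdEq.fac_of_map (S.fromSpecResidueField s) i₁ i₂ ψ.hom hψ X w hw h)
    hcent
  obtain ⟨U₂, hs₂, h21⟩ := Groth.L25.NhdEq.exists_nhd_fac h₂ h₁ i₂ i₁ hG' s
    (fun X w hw h => Groth.L25.NhdEq.fac_of_map (S.fromSpecResidueField s) i₂ i₁ ψ.inv hψ' X w hw h)
    (fun X w hw g h => by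
      obtain ⟨h', hh⟩ := Groth.L25.NhdEq.fac_of_map (S.fromSpecResidueField s) i₂ i₁ ψ.inv hψ' X w hw h
      rw [← hh]
      exact hcent X w hw g h')
  have : Mono i₁ := Over.mono_of_mono_left i₁
  have : Mono i₂ := Over.mono_of_mono_left i₂
  have hr : ∀ (X : Over S) (w : X.left ⟶ (U₁ ⊓ U₂).toScheme), w ≫ (U₁ ⊓ U₂).ι = X.hom →
      Set.range X.hom ⊆ (↑(U₁ ⊓ U₂) : Set S) := by
    intro X w hw
    rintro _ ⟨y, rfl⟩
    rw [← hw, ← Scheme.Opens.range_ι]
    exact ⟨w y, rfl⟩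
  exact ⟨U₁ ⊓ U₂, ⟨hs₁, hs₂⟩, Groth.L25.NhdEq.iso_of_factors (U₁ ⊓ U₂).ι i₁ i₂
    (fun X w hw => h12 X ((hr X w hw).trans Set.inter_subset_left))
    (fun X w hw => h21 X ((hr X w hw).trans Set.inter_subset_right))⟩

end Groth.Agent.S6060
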