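import Groth.Prelude.Def_SGA3x
import Groth.Prelude.Def_MoreMor
import Mathlib.AlgebraicGeometry.Morphisms.Flat
import Mathlib.AlgebraicGeometry.Morphisms.Finite
import Mathlib.AlgebraicGeometry.Morphisms.FiniteType
import Mathlib.AlgebraicGeometry.Morphisms.ClosedImmersion
import Mathlib.AlgebraicGeometry.Noetherian
import Mathlib.AlgebraicGeometry.Fiber
import Groth.Agent.L02.SchDom.ClosedLocus
import Groth.Agent.L02.SchDom.TorsionKernel

set_option autoImplicit false
namespace SGA3x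
end SGA3x
open CategoryTheory MonoidalCategory CartesianMonoidalCategory MonObj GrpObj AlgebraicGeometry
universe u
open SGA3x

namespace Groth.Agent.S6065

open CategoryTheory.Limits in
/-- Let S be a locally Noetherian scheme, H a commutative S-group which is of finite type over S, and E
a nonempty set of integers n > 0 stable under multiplication, such that: a) for every n ∈ E the
kernel ₙH of the n-th power map of H (the pullback of the unit section along that map) is finite and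
flat over S; b) for every s ∈ S the family of fibres (ₙH)_s ⟶ H_s, n ∈ E, is schematically dense in
H_s (a section of the structure sheaf of H_s over an open subset whose pullback to every (ₙH)_s
vanishes is zero). Let Y be a closed subscheme of H. Then the functor on S-schemes whose value at S'
⟶ S is a point when H ×_S S' ⟶ H factors through Y and empty otherwise is representable by a closed
subscheme T of S; and if S is Noetherian there is n ∈ E such that, for every S' ⟶ S, H ×_S S' ⟶ H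
factors through Y if and only if ₙH ×_S S' ⟶ H does. -/
theorem result {S : Scheme.{u}} [IsLocallyNoetherian S]
    (H : Over S) [GrpObj H] [IsCommMonObj H] [LocallyOfFiniteType H.hom] [QuasiCompact H.hom]
    (E : Set ℕ) (hE : E.Nonempty) (hE0 : ∀ n ∈ E, 0 < n) (hEmul : ∀ m ∈ E, ∀ n ∈ E, m * n ∈ E)
    (ha : ∀ n ∈ E, IsFinite ((pullback.snd η[H].left (𝟙 H ^ n : H ⟶ H).left) ≫ H.hom) ∧ Flat ((pullback.snd η[H].left (𝟙 H ^ n : H ⟶ H).left) ≫ H.hom))
    (hb : ∀ (s : S) (V : (H.hom.fiber s).Opens) (t : Γ(H.hom.fiber s, V)),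
      (∀ n ∈ E, (MoreMor.fiberMap (pullback.snd η[H].left (𝟙 H ^ n : H ⟶ H).left) H.hom s).app V t = 0) → t = 0)
    (Y : Scheme.{u}) (y : Y ⟶ H.left) [IsClosedImmersion y] :
    (∃ (T : Scheme.{u}) (t : T ⟶ S), IsClosedImmersion t ∧
      ∀ (S' : Scheme.{u}) (g : S' ⟶ S), (∃ g' : S' ⟶ T, g' ≫ t = g) ↔
        ∃ l : pullback H.hom g ⟶ Y, l ≫ y = pullback.fst H.hom g) ∧
    (AlgebraicGeometry.IsNoetherian S → ∃ n ∈ E, ∀ (S' : Scheme.{u}) (g : S' ⟶ S),
      (∃ l : pullback H.hom g ⟶ Y, l ≫ y = pullback.fst H.hom g) ↔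
        ∃ l : pullback ((pullback.snd η[H].left (𝟙 H ^ n : H ⟶ H).left) ≫ H.hom) g ⟶ Y,
          l ≫ y = pullback.fst ((pullback.snd η[H].left (𝟙 H ^ n : H ⟶ H).left) ≫ H.hom) g ≫ (pullback.snd η[H].left (𝟙 H ^ n : H ⟶ H).left)) := by
  have hp : ∀ n : E, IsFinite (Groth.L02.SchDom.kerιLeft H n.1 ≫ H.hom) ∧
      Flat (Groth.L02.SchDom.kerιLeft H n.1 ≫ H.hom) := fun n => ha n.1 n.2
  have hT : ∀ n : E, ∃ (T : Scheme.{u}) (t : T ⟶ S), IsClosedImmersion t ∧
      ∀ (S' : Scheme.{u}) (g : S' ⟶ S), (∃ g' : S' ⟶ T, g' ≫ t = g) ↔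
        ∃ l, l ≫ y = pullback.fst (Groth.L02.SchDom.kerιLeft H n.1 ≫ H.hom) g ≫
          Groth.L02.SchDom.kerιLeft H n.1 := by
    intro n
    haveI := (hp n).1
    haveI := (hp n).2
    haveI : LocallyOfFinitePresentation (Groth.L02.SchDom.kerιLeft H n.1 ≫ H.hom) :=
      LocallyOfFinitePresentation.iff_locallyOfFiniteType.2 inferInstance
    obtain ⟨T, t, ht, -, h⟩ := Groth.L02.SchDom.exists_factorLocus
      (Groth.L02.SchDom.kerιLeft H n.1 ≫ H.hom) y (Groth.L02.SchDom.kerιLeft H n.1)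
    exact ⟨T, t, ht, h⟩
  choose T t ht hT using hT
  have key : ∀ (S' : Scheme.{u}) (g : S' ⟶ S),
      (∃ l, l ≫ y = pullback.fst H.hom g) ↔ ∀ n : E, ∃ g', g' ≫ t n = g := by
    intro S' g
    refine ⟨fun ⟨l, hl⟩ n => (hT n S' g).2
      ⟨Groth.L02.SchDom.bcMap H.hom g (Groth.L02.SchDom.kerFam H E) ⟨n⟩ ≫ l, ?_⟩, fun h => ?_⟩
    · rw [Category.assoc, hl]
      exact pullback.lift_fst _ _ _
    · refine (Groth.L02.SchDom.kerFam_dom_bc H E (fun n hn => (ha n hn).2) hb g).factors y _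
        fun n => ?_
      obtain ⟨l, hl⟩ := (hT n.down S' g).1 (h n.down)
      exact ⟨l, hl.trans (pullback.lift_fst _ _ _).symm⟩
  refine ⟨?_, fun hN => ?_⟩
  · obtain ⟨T₀, t₀, ht₀, h₀⟩ := Groth.L02.SchDom.exists_inter t
    exact ⟨T₀, t₀, ht₀, fun S' g => (h₀ S' g).trans (key S' g).symm⟩
  · haveI := hN
    have hmono : ∀ (n n' : E), n.1 ∣ n'.1 → ∀ (S' : Scheme.{u}) (g : S' ⟶ S),
        (∃ g', g' ≫ t n' = g) → ∃ g', g' ≫ t n = g := by
      intro n n' hnn S' g hg
      obtain ⟨z, hz⟩ := Groth.L02.SchDom.exists_kerι_of_dvd H hnn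
      obtain ⟨l, hl⟩ := (hT n' S' g).1 hg
      refine (hT n S' g).2 ⟨pullback.map (Groth.L02.SchDom.kerιLeft H n.1 ≫ H.hom) g
        (Groth.L02.SchDom.kerιLeft H n'.1 ≫ H.hom) g z.left (𝟙 _) (𝟙 _)
        ((Category.comp_id _).trans (Over.w z).symm) (by simp) ≫ l, ?_⟩
      rw [Category.assoc, hl, pullback.lift_fst_assoc, Category.assoc]
      exact congrArg (pullback.fst (Groth.L02.SchDom.kerιLeft H n.1 ≫ H.hom) g ≫ ·)
        (congrArg CommaMorphism.left hz)
    have hdir : Directed (· ≤ ·) fun n : E => (t n).ker := fun n m => by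
      refine ⟨⟨n.1 * m.1, hEmul _ n.2 _ m.2⟩, ?_, ?_⟩
      · exact (Groth.L02.SchDom.exists_factor_iff_ker_le _ _).1
          (hmono n ⟨n.1 * m.1, hEmul _ n.2 _ m.2⟩ (dvd_mul_right _ _) _ _ ⟨𝟙 _, Category.id_comp _⟩)
      · exact (Groth.L02.SchDom.exists_factor_iff_ker_le _ _).1
          (hmono m ⟨n.1 * m.1, hEmul _ n.2 _ m.2⟩ (dvd_mul_left _ _) _ _ ⟨𝟙 _, Category.id_comp _⟩)
    haveI : Nonempty E := hE.to_subtype
    obtain ⟨n, hn⟩ := Groth.L02.SchDom.exists_ge_of_directed _ hdir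
    refine ⟨n.1, n.2, fun S' g => (key S' g).trans ⟨fun h => (hT n S' g).1 (h n), fun h m => ?_⟩⟩
    exact (Groth.L02.SchDom.exists_factor_iff_ker_le _ _).2 ((hn m).trans
      ((Groth.L02.SchDom.exists_factor_iff_ker_le _ _).1 ((hT n S' g).2 h)))

end Groth.Agent.S6065
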