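import Groth.Prelude.Def_SGA3x
import Groth.Prelude.Def_MoreMor
import Mathlib.AlgebraicGeometry.Morphisms.Flat
import Mathlib.AlgebraicGeometry.Morphisms.Finite
import Mathlib.AlgebraicGeometry.Morphisms.FiniteType
import Mathlib.AlgebraicGeometry.Morphisms.ClosedImmersion
import Mathlib.AlgebraicGeometry.Noetherian
import Mathlib.AlgebraicGeometry.Fiber
import Groth.Agent.L02.SchDom.ClosedLocus
import Groth.Agent.L02.SchDom.TorsionKernel

set_option autoImplicit false
namespace SGA3x
end SGA3x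
open CategoryTheory MonoidalCategory CartesianMonoidalCategory MonObj GrpObj AlgebraicGeometry
universe u
open SGA3x

namespace Groth.Agent.S6066

open CategoryTheory.Limits in
/-- Let S be a locally Noetherian scheme, H a commutative S-group which is of finite type over S, and E
a nonempty set of integers n > 0 stable under multiplication such that a) every kernel ₙH of the
n-th power map (n ∈ E; the pullback of the unit section along that map) is finite and flat over S
and b) for every s ∈ S the family of fibres (ₙH)_s ⟶ H_s, n ∈ E, is schematically dense in H_s. Let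
u : H ⟶ G be a homomorphism into an S-group G locally of finite type over S and k : K ⟶ G a closed
sub-group-scheme. Then the transporter of u into K — the subfunctor of G of those points g, with
values in an S-scheme X, such that for every X' ⟶ X and every X'-valued point h of H the point g
u(h) g⁻¹ lies in K — is representable by a closed subscheme of G; and if the scheme G is Noetherian
there is n ∈ E such that a point g of G lies in the transporter if and only if g u(h) g⁻¹ lies in K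
for all points h of H with h^n = 1. (The published statement is over an arbitrary base S and also
asserts that the transporter is smooth over S when G is smooth, K is smooth or of multiplicative
type and the ₙH, n ∈ E, are of multiplicative type; this row assumes S locally Noetherian, the
setting in which the printed argument through the base G applies, and does not state the smoothness
assertion.) -/
theorem result {S : Scheme.{u}} [IsLocallyNoetherian S]
    (H : Over S) [GrpObj H] [IsCommMonObj H] [LocallyOfFiniteType H.hom] [QuasiCompact H.hom]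
    (E : Set ℕ) (hE : E.Nonempty) (hE0 : ∀ n ∈ E, 0 < n) (hEmul : ∀ m ∈ E, ∀ n ∈ E, m * n ∈ E)
    (ha : ∀ n ∈ E, IsFinite ((pullback.snd η[H].left (𝟙 H ^ n : H ⟶ H).left) ≫ H.hom) ∧ Flat ((pullback.snd η[H].left (𝟙 H ^ n : H ⟶ H).left) ≫ H.hom))
    (hb : ∀ (s : S) (V : (H.hom.fiber s).Opens) (t : Γ(H.hom.fiber s, V)),
      (∀ n ∈ E, (MoreMor.fiberMap (pullback.snd η[H].left (𝟙 H ^ n : H ⟶ H).left) H.hom s).app V t = 0) → t = 0)
    (G K : Over S) [GrpObj G] [GrpObj K] [LocallyOfFiniteType G.hom] (u : H ⟶ G) [IsMonHom u]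
    (k : K ⟶ G) [IsMonHom k] [IsClosedImmersion k.left] :
    (∃ (T : Over S) (j : T ⟶ G), IsClosedImmersion j.left ∧
      ∀ (X : Over S) (g : X ⟶ G), (∃ t : X ⟶ T, t ≫ j = g) ↔
        ∀ (X' : Over S) (x : X' ⟶ X) (h : X' ⟶ H), ∃ κ : X' ⟶ K, (x ≫ g) * (h ≫ u) * (x ≫ g)⁻¹ = κ ≫ k) ∧
    (AlgebraicGeometry.IsNoetherian G.left → ∃ n ∈ E, ∀ (X : Over S) (g : X ⟶ G),
      (∀ (X' : Over S) (x : X' ⟶ X) (h : X' ⟶ H), ∃ κ : X' ⟶ K, (x ≫ g) * (h ≫ u) * (x ≫ g)⁻¹ = κ ≫ k) ↔
        ∀ (X' : Over S) (x : X' ⟶ X) (h : X' ⟶ H), h ^ n = 1 → ∃ κ : X' ⟶ K, (x ≫ g) * (h ≫ u) * (x ≫ g)⁻¹ = κ ≫ k) := by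
  haveI : IsLocallyNoetherian G.left := LocallyOfFiniteType.isLocallyNoetherian G.hom
  have hfac : ∀ {X : Over S} (f : X ⟶ G), (∃ l : X.left ⟶ K.left, l ≫ k.left = f.left) →
      ∃ κ : X ⟶ K, f = κ ≫ k := by
    rintro X f ⟨l, hl⟩
    refine ⟨Over.homMk l ?_, Over.OverMorphism.ext hl.symm⟩
    rw [← Over.w k, ← Category.assoc, hl, Over.w f]
  let C : ℕ → ∀ X : Over S, (X ⟶ G) → Prop := fun n X g =>
    ∀ (X' : Over S) (x : X' ⟶ X) (h : X' ⟶ H), h ^ n = 1 →
      ∃ κ : X' ⟶ K, (x ≫ g) * (h ≫ u) * (x ≫ g)⁻¹ = κ ≫ k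
  have hT : ∀ n : E, ∃ (T : Scheme.{u}) (t : T ⟶ G.left), IsClosedImmersion t ∧
      ∀ (X : Over S) (g : X ⟶ G), (∃ g', g' ≫ t = g.left) ↔ C n.1 X g := by
    intro n
    let jker := Groth.L02.SchDom.kerι H n.1
    let Z : Over S := Groth.L02.SchDom.kerOver H n.1
    haveI : IsFinite Z.hom := (ha n.1 n.2).1
    haveI : Flat Z.hom := (ha n.1 n.2).2
    haveI : IsFinite (snd Z G).left := inferInstanceAs (IsFinite (pullback.snd Z.hom G.hom))
    haveI : Flat (snd Z G).left := inferInstanceAs (Flat (pullback.snd Z.hom G.hom))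
    haveI : LocallyOfFinitePresentation (snd Z G).left :=
      LocallyOfFinitePresentation.iff_locallyOfFiniteType.2 inferInstance
    let a : Z ⊗ G ⟶ G := snd Z G * (fst Z G ≫ jker ≫ u) * (snd Z G)⁻¹
    obtain ⟨T, t, ht, -, hT⟩ :=
      Groth.L02.SchDom.exists_factorLocus (snd Z G).left k.left a.left
    refine ⟨T, t, ht, fun X g => (hT _ g.left).trans ⟨fun ⟨l, hl⟩ X' x h hh => ?_, fun hC => ?_⟩⟩
    · obtain ⟨z, hz⟩ := (Groth.L02.SchDom.factors_kerι_iff H n.1 h).2 hh
      let c : X' ⟶ Z ⊗ G := lift z (x ≫ g)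
      have e : (x ≫ g) * (h ≫ u) * (x ≫ g)⁻¹ = c ≫ a := by
        simp only [a, c, MonObj.comp_mul, GrpObj.comp_inv, lift_snd, lift_fst_assoc,
          ← Category.assoc z, jker, hz]
      rw [e]
      refine hfac _ ⟨pullback.lift c.left x.left ?_ ≫ l, ?_⟩
      · rw [← Over.comp_left, ← Over.comp_left, lift_snd]
      · rw [Category.assoc, hl, pullback.lift_fst_assoc, Over.comp_left]
    · let P : Over S := Over.mk (pullback.fst (snd Z G).left g.left ≫ (Z ⊗ G).hom)
      let c : P ⟶ Z ⊗ G := Over.homMk (pullback.fst _ _) rfl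
      let x : P ⟶ X := Over.homMk (pullback.snd _ _) (by
        show pullback.snd (snd Z G).left g.left ≫ X.hom = pullback.fst _ _ ≫ (Z ⊗ G).hom
        rw [← Over.w g, ← pullback.condition_assoc, Over.w (snd Z G)])
      have hx : c ≫ snd Z G = x ≫ g := Over.OverMorphism.ext pullback.condition
      obtain ⟨κ, hκ⟩ := hC P x (c ≫ fst Z G ≫ jker)
        ((Groth.L02.SchDom.factors_kerι_iff H n.1 _).1 ⟨c ≫ fst Z G, Category.assoc _ _ _⟩)
      have e : c ≫ a = κ ≫ k := by
        rw [← hκ, ← hx]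
        simp only [a, MonObj.comp_mul, GrpObj.comp_inv, Category.assoc]
      exact ⟨κ.left, (congrArg CommaMorphism.left e).symm⟩
  choose T t ht hT using hT
  have key : ∀ (X : Over S) (g : X ⟶ G), (∀ n : E, C n.1 X g) →
      ∀ (X' : Over S) (x : X' ⟶ X) (h : X' ⟶ H),
        ∃ κ : X' ⟶ K, (x ≫ g) * (h ≫ u) * (x ≫ g)⁻¹ = κ ≫ k := by
    intro X g hg X' x h
    let A : H ⊗ X' ⟶ G := (snd H X' ≫ x ≫ g) * (fst H X' ≫ u) * (snd H X' ≫ x ≫ g)⁻¹
    obtain ⟨l, hl⟩ := (Groth.L02.SchDom.kerFam_dom_bc H E (fun n hn => (ha n hn).2) hb X'.hom).factors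
      k.left A.left (fun n => by
        let jker := Groth.L02.SchDom.kerι H n.down.1
        let Z : Over S := Groth.L02.SchDom.kerOver H n.down.1
        obtain ⟨κ, hκ⟩ := hg n.down (Z ⊗ X') (snd Z X' ≫ x) (fst Z X' ≫ jker)
          ((Groth.L02.SchDom.factors_kerι_iff H n.down.1 _).1 ⟨_, rfl⟩)
        have e : Groth.L02.SchDom.bcMap H.hom X'.hom (Groth.L02.SchDom.kerFam H E) n =
            (jker ▷ X').left := by
          apply pullback.hom_ext
          · exact (pullback.lift_fst _ _ _).trans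
              (congrArg CommaMorphism.left (whiskerRight_fst jker X')).symm
          · exact ((pullback.lift_snd _ _ _).trans (Category.comp_id _)).trans
              (congrArg CommaMorphism.left (whiskerRight_snd jker X')).symm
        refine ⟨κ.left, ?_⟩
        rw [e]
        refine (congrArg CommaMorphism.left hκ).symm.trans (congrArg CommaMorphism.left (?_ :
          _ = (jker ▷ X') ≫ A))
        simp only [A, MonObj.comp_mul, GrpObj.comp_inv, whiskerRight_fst_assoc, whiskerRight_snd_assoc,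
          Category.assoc]
        rfl)
    obtain ⟨κ, hκ⟩ := hfac A ⟨l, hl⟩
    refine ⟨lift h (𝟙 X') ≫ κ, ?_⟩
    rw [Category.assoc, ← hκ]
    simp only [A, MonObj.comp_mul, GrpObj.comp_inv, lift_fst_assoc, lift_snd_assoc, Category.id_comp]
  refine ⟨?_, fun hN => ?_⟩
  · obtain ⟨T₀, t₀, ht₀, h₀⟩ := Groth.L02.SchDom.exists_inter t
    refine ⟨Over.mk (t₀ ≫ G.hom), Over.homMk t₀ rfl, ht₀, fun X g => ?_⟩
    have hover : (∃ w : X ⟶ Over.mk (t₀ ≫ G.hom), w ≫ (Over.homMk t₀ rfl : _ ⟶ G) = g) ↔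
        ∃ w : X.left ⟶ T₀, w ≫ t₀ = g.left :=
      ⟨fun ⟨w, hw⟩ => ⟨w.left, congrArg CommaMorphism.left hw⟩, fun ⟨w, hw⟩ =>
        ⟨Over.homMk w (by show w ≫ t₀ ≫ G.hom = _; rw [← Category.assoc, hw, Over.w g]),
          Over.OverMorphism.ext hw⟩⟩
    rw [hover, h₀]
    exact ⟨fun h => key X g fun n => (hT n X g).1 (h n),
      fun h n => (hT n X g).2 fun X' x p _ => h X' x p⟩
  · haveI := hN
    have hdir : Directed (· ≤ ·) fun n : E => (t n).ker := fun n m => by
      let nm : E := ⟨n.1 * m.1, hEmul _ n.2 _ m.2⟩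
      let τ : Over.mk (t nm ≫ G.hom) ⟶ G := Over.homMk (t nm) rfl
      have hc : C nm.1 _ τ := (hT nm _ τ).1 ⟨𝟙 _, Category.id_comp _⟩
      refine ⟨nm, ?_, ?_⟩
      · exact (Groth.L02.SchDom.exists_factor_iff_ker_le _ _).1 ((hT n _ τ).2 fun X' x p hp =>
          hc X' x p (by show p ^ (n.1 * m.1) = 1; rw [pow_mul, hp, one_pow]))
      · exact (Groth.L02.SchDom.exists_factor_iff_ker_le _ _).1 ((hT m _ τ).2 fun X' x p hp =>
          hc X' x p (by show p ^ (n.1 * m.1) = 1; rw [mul_comm, pow_mul, hp, one_pow]))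
    haveI : Nonempty E := hE.to_subtype
    obtain ⟨n, hn⟩ := Groth.L02.SchDom.exists_ge_of_directed _ hdir
    refine ⟨n.1, n.2, fun X g => ⟨fun h X' x p _ => h X' x p, fun h => key X g fun m => ?_⟩⟩
    exact (hT m X g).1 ((Groth.L02.SchDom.exists_factor_iff_ker_le _ _).2 ((hn m).trans
      ((Groth.L02.SchDom.exists_factor_iff_ker_le _ _).1 ((hT n X g).2 h))))

end Groth.Agent.S6066
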