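import Groth.Statements.S6070
import Groth.Agent.L25.Bridge.TorsionLift
-- import your own Groth.Agent.* helpers here

set_option autoImplicit false
open CategoryTheory MonoidalCategory CartesianMonoidalCategory MonObj GrpObj AlgebraicGeometry
universe u
open SGA3x

namespace Groth.Agent.S6070

/-- In lifting form: what formal smoothness of the morphism H ↦ ₙH of the functor of multiplicative
subgroups means. Let S = Spec R be affine, J a nilpotent ideal of R, S₀ = Spec (R/J), n a natural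
number and G an S-group which is smooth over S. Let j₀ : H₀ ⟶ G₀ = G ×_S S₀ be a sub-group-scheme (a
homomorphism which is an immersion) of multiplicative type (fpqc-locally isomorphic, as a group, to
diagonalisable groups D(M), M allowed to vary and taken in Type 0), and l : L ⟶ G a sub-group-scheme
of multiplicative type whose base change to S₀ is the n-torsion of H₀ inside G₀: a point of G₀
factors through L ×_S S₀ if and only if it is j₀(h) for a point h of H₀ with h^n = 1. Then there is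
a sub-group-scheme j : H ⟶ G of multiplicative type whose base change to S₀ coincides with H₀ as a
subgroup of G₀ (an isomorphism compatible with the maps to G₀) and whose n-torsion is L: a point of
G factors through L if and only if it is j(h) for a point h of H with h^n = 1. -/
theorem result {R : Type u} [CommRing R] (J : Ideal R) (hJ : IsNilpotent J) (n : ℕ)
    (G : Over (Spec (CommRingCat.of R))) [GrpObj G] (hG : Smooth G.hom)
    (H₀ : Over (Spec (CommRingCat.of (R ⧸ J)))) [GrpObj H₀]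
    (hH₀ : TwC.Locally (Spec (CommRingCat.of (R ⧸ J))) TwC.Topology.fpqc (fun S' f => ∃ (M : Type) (_ : AddCommGroup M), Nonempty (Grp.mk (Red.bc f H₀) ≅ Grp.mk (Red.DS S' M))))
    (j₀ : H₀ ⟶ Red.bc (Spec.map (CommRingCat.ofHom (Ideal.Quotient.mk J))) G) [IsMonHom j₀] [IsImmersion j₀.left]
    (L : Over (Spec (CommRingCat.of R))) [GrpObj L] (hL : TwC.Locally (Spec (CommRingCat.of R)) TwC.Topology.fpqc (fun S' f => ∃ (M : Type) (_ : AddCommGroup M), Nonempty (Grp.mk (Red.bc f L) ≅ Grp.mk (Red.DS S' M))))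
    (l : L ⟶ G) [IsMonHom l] [IsImmersion l.left]
    (hL0 : ∀ (X : Over (Spec (CommRingCat.of (R ⧸ J)))) (g : X ⟶ Red.bc (Spec.map (CommRingCat.ofHom (Ideal.Quotient.mk J))) G),
      (∃ y : X ⟶ Red.bc (Spec.map (CommRingCat.ofHom (Ideal.Quotient.mk J))) L, y ≫ (Over.pullback (Spec.map (CommRingCat.ofHom (Ideal.Quotient.mk J)))).map l = g) ↔
        ∃ h : X ⟶ H₀, h ^ n = 1 ∧ h ≫ j₀ = g) :
    ∃ (H : Over (Spec (CommRingCat.of R))) (_ : GrpObj H) (j : H ⟶ G), IsMonHom j ∧ IsImmersion j.left ∧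
      TwC.Locally (Spec (CommRingCat.of R)) TwC.Topology.fpqc (fun S' f => ∃ (M : Type) (_ : AddCommGroup M), Nonempty (Grp.mk (Red.bc f H) ≅ Grp.mk (Red.DS S' M))) ∧
      (∃ φ : Red.bc (Spec.map (CommRingCat.ofHom (Ideal.Quotient.mk J))) H ≅ H₀, φ.hom ≫ j₀ = (Over.pullback (Spec.map (CommRingCat.ofHom (Ideal.Quotient.mk J)))).map j) ∧
      ∀ (X : Over (Spec (CommRingCat.of R))) (g : X ⟶ G),
        (∃ y : X ⟶ L, y ≫ l = g) ↔ ∃ h : X ⟶ H, h ^ n = 1 ∧ h ≫ j = g := by
  have := hG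
  have : Mono l := Over.mono_of_mono_left l
  obtain ⟨H, i, j, hjm, hji, -, hH, φ, hφm, hφ⟩ :=
    Groth.L25.Bridge.exists_subgroup_lift hJ H₀ hH₀ j₀
  have hφn : ∀ (X : Over (Spec (CommRingCat.of (R ⧸ J)))) (c : X ⟶ Red.bc (Groth.L25.Bridge.πJ J) H),
      (c ≫ φ.hom) ^ n = (c ^ n) ≫ φ.hom := fun X c =>
    (map_pow (MonoidHom.mk' (M := (X ⟶ Red.bc (Groth.L25.Bridge.πJ J) H)) (fun c => c ≫ φ.hom)
      fun a b => MonObj.mul_comp a b φ.hom) c n).symm
  obtain ⟨j', hjm', hji', hmap, hiff⟩ := Groth.L25.Bridge.exists_torsion_lift hJ n hH j hL l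
    (fun Y q a => by
      obtain ⟨h, hn, hh⟩ := (hL0 _ (Groth.L25.Bridge.ptBC q (a ≫ l))).1
        ⟨Groth.L25.Bridge.ptBC q a, (Groth.L25.Bridge.ptBC_map q a l).symm⟩
      obtain ⟨c, hc⟩ := Groth.L25.Bridge.exists_ptBC q (h ≫ φ.inv)
      have hch : Groth.L25.Bridge.ptBC q c ≫ φ.hom = h := by
        rw [hc, Category.assoc, φ.inv_hom_id, Category.comp_id]
      refine ⟨c, (Groth.L25.Bridge.ptBC_pow_eq_one q c).1 ((cancel_mono φ.hom).1 ?_),
        Groth.L25.Bridge.ptBC_injective q ?_⟩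
      · rw [← hφn, hch, hn, MonObj.one_comp]
      · rw [Groth.L25.Bridge.ptBC_map, ← hφ, ← Category.assoc, hch, hh])
    (fun Y q c hc => by
      obtain ⟨y, hy⟩ := (hL0 _ (Groth.L25.Bridge.ptBC q (c ≫ j))).2 ⟨Groth.L25.Bridge.ptBC q c ≫ φ.hom,
        by rw [hφn, (Groth.L25.Bridge.ptBC_pow_eq_one q c).2 hc, MonObj.one_comp],
        by rw [Category.assoc, hφ, Groth.L25.Bridge.ptBC_map]⟩
      obtain ⟨a, ha⟩ := Groth.L25.Bridge.exists_ptBC q y
      refine ⟨a, Groth.L25.Bridge.ptBC_injective q ?_⟩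
      rw [Groth.L25.Bridge.ptBC_map, ha]
      exact hy)
  exact ⟨H, i, j', hjm', hji', Groth.L25.Bridge.locally_of_ft hH, ⟨φ, hφ.trans hmap.symm⟩, hiff⟩
end Groth.Agent.S6070
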