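import Groth.Statements.S6072
import Groth.Agent.L25.Char.DescentApply
import Groth.Agent.L25.Char.EtaleSplit
import Mathlib.RingTheory.Unramified.Finite
import Mathlib.RingTheory.Finiteness.Descent

set_option autoImplicit false
universe u
open TensorProduct SGA3b
open SGA3b

namespace Groth.Agent.S6072

theorem isIsotrivial_of_field {k : Type u} [Field k] {A : Type u} [CommRing A] [HopfAlgebra k A]
    [Algebra.FiniteType k A] (h : SGA3b.IsMultType k A) : SGA3b.IsIsotrivial k A := by
  obtain ⟨B, _, _, _, q, hq, -, M, hM, -, ⟨e⟩⟩ :=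
    Groth.L25.Char.exists_etale_split h (⊥ : Ideal k)
  haveI : Nontrivial B := ⟨0, 1, fun h => hq.ne_top ((Ideal.eq_top_iff_one _).2 (h ▸ q.zero_mem))⟩
  haveI : Module.Finite k B := Algebra.FormallyUnramified.finite_of_free k B
  exact ⟨B, inferInstance, inferInstance, inferInstance, inferInstance, inferInstance, M, hM, ⟨e⟩⟩

theorem finite_type_of_finite {K : Type u} [CommRing K] [Nontrivial K] {M : Type u}
    [Module.Finite K (MonoidAlgebra K M)] : Finite M :=
  Module.Finite.finite_basis (Module.Basis.ofRepr (MonoidAlgebra.coeffLinearEquiv K))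

theorem finite_of_reduction {R : Type u} [CommRing R] {k : Type u} [CommRing k] [Nontrivial k]
    [Algebra R k] {A : Type u} [CommRing A] [HopfAlgebra R A] (hA : SGA3b.IsIsotrivial R A)
    [Module.Finite k (k ⊗[R] A)] : Module.Finite R A := by
  obtain ⟨R', _, _, _, _, hff, M, _, ⟨e⟩⟩ := hA
  haveI := hff
  let W := R' ⊗[R] k
  letI : Algebra k W := Algebra.TensorProduct.rightAlgebra
  haveI : IsScalarTower R k W := IsScalarTower.of_algebraMap_eq fun r => by
    change algebraMap R R' r ⊗ₜ[R] (1 : k) = (1 : R') ⊗ₜ algebraMap R k r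
    exact Algebra.TensorProduct.tmul_one_eq_one_tmul r
  haveI : Nontrivial W :=
    (Module.FaithfullyFlat.tensorProduct_mk_injective (A := R) (B := R') k).nontrivial
  haveI : Module.Finite W (W ⊗[R] A) :=
    Module.Finite.equiv (Groth.L25.MultType.cancelBialg R k W A).toLinearEquiv
  haveI : Module.Finite W (MonoidAlgebra W M) :=
    Module.Finite.equiv (Groth.L25.Char.splitEquiv e W).symm.toLinearEquiv
  haveI : Finite M := finite_type_of_finite (K := W)
  haveI : Module.Finite R' (MonoidAlgebra R' M) :=
    Module.Finite.of_basis (Module.Basis.ofRepr (MonoidAlgebra.coeffLinearEquiv R'))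
  haveI : Module.Finite R' (R' ⊗[R] A) := Module.Finite.equiv e.symm.toLinearEquiv
  exact Module.Finite.of_finite_tensorProduct_of_faithfullyFlat R'
theorem lift_finite (R : Type u) [CommRing R] [HenselianLocalRing R] (C₀ : Type u) [CommRing C₀]
    [HopfAlgebra (R ⧸ IsLocalRing.maximalIdeal R) C₀]
    [Module.Finite (R ⧸ IsLocalRing.maximalIdeal R) C₀]
    (h : SGA3b.IsIsotrivial (R ⧸ IsLocalRing.maximalIdeal R) C₀) :
    ∃ (C : Type u) (_ : CommRing C) (_ : HopfAlgebra R C), Module.Finite R C ∧
      SGA3b.IsIsotrivial R C ∧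
      Nonempty (((R ⧸ IsLocalRing.maximalIdeal R) ⊗[R] C) ≃ₐc[R ⧸ IsLocalRing.maximalIdeal R] C₀) := by
  obtain ⟨C, _, _, hC, ⟨θ⟩⟩ :=
    Groth.L25.Char.Descent.exists_isotrivial_lift (IsLocalRing.maximalIdeal R) (B := C₀) h
  haveI : Module.Finite (R ⧸ IsLocalRing.maximalIdeal R)
      ((R ⧸ IsLocalRing.maximalIdeal R) ⊗[R] C) := Module.Finite.equiv θ.symm.toLinearEquiv
  exact ⟨C, inferInstance, inferInstance,
    finite_of_reduction (k := R ⧸ IsLocalRing.maximalIdeal R) hC, hC, ⟨θ⟩⟩


/-- Let R be a henselian local ring with residue field k and H₀ = Spec C₀ a k-group of multiplicative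
type which is finite over k. Then H₀ lifts to R: there is an R-group H = Spec C of multiplicative
type, finite over R and isotrivial, together with an isomorphism of k-groups H ×_R k ≅ H₀, i.e. a
bialgebra isomorphism k ⊗_R C ≅ C₀ (existence of an isomorphism; the lift is determined up to
isomorphism only). (Affine group schemes over an affine base are taken in Hopf-algebra form; base
change is the tensor product.) -/
theorem result (R : Type u) [CommRing R] [HenselianLocalRing R]
    (C₀ : Type u) [CommRing C₀] [HopfAlgebra (IsLocalRing.ResidueField R) C₀] [Module.Finite (IsLocalRing.ResidueField R) C₀]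
    (h₀ : IsMultType (IsLocalRing.ResidueField R) C₀) :
    ∃ (C : Type u) (_ : CommRing C) (_ : HopfAlgebra R C), Module.Finite R C ∧ IsIsotrivial R C ∧
      Nonempty ((IsLocalRing.ResidueField R ⊗[R] C) ≃ₐc[IsLocalRing.ResidueField R] C₀) := by
  haveI : Algebra.FiniteType (IsLocalRing.ResidueField R) C₀ := inferInstance
  have h := isIsotrivial_of_field (k := IsLocalRing.ResidueField R) h₀
  have H := @lift_finite R _ _ C₀ _
    (inferInstance : HopfAlgebra (IsLocalRing.ResidueField R) C₀)
  exact @H (inferInstance : Module.Finite (IsLocalRing.ResidueField R) C₀) h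
end Groth.Agent.S6072
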