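import Groth.Statements.S6073
import Groth.Agent.L25.GenWords.Generated
-- import your own Groth.Agent.* helpers here

set_option autoImplicit false
set_option backward.isDefEq.respectTransparency.types false
set_option maxSynthPendingDepth 3
universe u
open CategoryTheory CategoryTheory.Limits MonoidalCategory CartesianMonoidalCategory MonObj GrpObj AlgebraicGeometry
open SGA3

namespace Groth.Agent.S6073

/-- Let k be an algebraically closed field, G a group scheme locally of finite type over k, and a : A →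
G, b : B → G two closed subgroup schemes which are geometrically reduced over k, such that either
(a) A and B are normal in G and of finite type over k, or (b) A is connected and B is of finite type
over k. Let i : Γ → G be the commutator subgroup scheme (A, B): the smallest closed subgroup scheme
of G through which A ×_k B → G, (x, y) ↦ a(x) b(y) a(x)⁻¹ b(y)⁻¹, factors. Then the image of Γ(k) in
G(k) is the commutator subgroup of the images of A(k) and B(k): the subgroup of G(k) generated by
the commutators of a k-point of A with a k-point of B. -/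
theorem result (k : Type u) [Field k] [IsAlgClosed k]
    (G A B : Over (Spec (CommRingCat.of k))) [GrpObj G] [GrpObj A] [GrpObj B] [LocallyOfFiniteType G.hom]
    (a : A ⟶ G) [IsMonHom a] [IsClosedImmersion a.left] (b : B ⟶ G) [IsMonHom b] [IsClosedImmersion b.left]
    [GeometricallyReduced A.hom] [GeometricallyReduced B.hom] [QuasiCompact B.hom]
    (hcase : (AlgGrp.IsNormalHom a ∧ AlgGrp.IsNormalHom b ∧ QuasiCompact A.hom) ∨ ConnectedSpace A.left)
    (Γ : Over (Spec (CommRingCat.of k))) [GrpObj Γ] (i : Γ ⟶ G) [IsMonHom i] [IsClosedImmersion i.left]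
    (hf : ∃ f' : A ⊗ B ⟶ Γ, f' ≫ i = (((fst A B) ≫ a) * ((snd A B) ≫ b) * ((fst A B) ≫ a)⁻¹ * ((snd A B) ≫ b)⁻¹))
    (hmin : ∀ (Γ' : Over (Spec (CommRingCat.of k))) (_ : GrpObj Γ') (i' : Γ' ⟶ G), IsMonHom i' → IsClosedImmersion i'.left →
        (∃ f'' : A ⊗ B ⟶ Γ', f'' ≫ i' = (((fst A B) ≫ a) * ((snd A B) ≫ b) * ((fst A B) ≫ a)⁻¹ * ((snd A B) ≫ b)⁻¹)) → ∃ j : Γ ⟶ Γ', j ≫ i' = i) :
    Set.range (fun z : 𝟙_ (Over (Spec (CommRingCat.of k))) ⟶ Γ => z ≫ i) =
      ((⁅Subgroup.closure (Set.range (fun x : 𝟙_ (Over (Spec (CommRingCat.of k))) ⟶ A => x ≫ a)),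
         Subgroup.closure (Set.range (fun y : 𝟙_ (Over (Spec (CommRingCat.of k))) ⟶ B => y ≫ b))⁆ : Subgroup (𝟙_ (Over (Spec (CommRingCat.of k))) ⟶ G)) :
        Set (𝟙_ (Over (Spec (CommRingCat.of k))) ⟶ G)) := by
  haveI : Mono a := Over.mono_of_mono_left a
  haveI : Mono b := Over.mono_of_mono_left b
  haveI : LocallyOfFiniteType A.hom := by rw [← Over.w a]; infer_instance
  haveI : LocallyOfFiniteType B.hom := by rw [← Over.w b]; infer_instance
  haveI : GeometricallyReduced (A ⊗ B).hom :=
    ((Groth.L15.GenSub.redProd_of_geometricallyReduced A).tensor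
      (Groth.L15.GenSub.redProd_of_geometricallyReduced B)).geometricallyReduced
  have hcase' : ConnectedSpace A.left ∨
      (Mono a ∧ AlgGrp.IsNormalHom a ∧ Mono b ∧ AlgGrp.IsNormalHom b ∧ QuasiCompact A.hom ∧ QuasiCompact B.hom) := by
    rcases hcase with ⟨h1, h2, h3⟩ | h
    · exact .inr ⟨‹_›, h1, ‹_›, h2, h3, ‹_›⟩
    · exact .inl h
  obtain ⟨L, -, hcl, hall, hiff⟩ := Groth.L25.GenWords.exists_comm_words a b hcase'
  have hr := Groth.L25.GenWords.range_generated (Groth.L25.GenWords.comm a b) Γ i hf hmin L hcl hall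
  rw [Groth.L25.GenWords.closure_range_eq_img a, Groth.L25.GenWords.closure_range_eq_img b]
  ext g
  rw [SetLike.mem_coe, hiff g, ← hr]
  haveI : LocallyOfFiniteType Γ.hom := by rw [← Over.w i]; infer_instance
  constructor
  · rintro ⟨z, rfl⟩
    exact Groth.L25.GenWords.pt_mem_range i z
  · exact fun h => Groth.L25.GenWords.exists_lift_pt i g h

end Groth.Agent.S6073
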