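import Groth.Statements.S6077
import Groth.Agent.L25.GenWords.WordLength
import Groth.Agent.L25.GenWords.CommField
import Groth.Agent.L25.WordPoints

set_option autoImplicit false
set_option maxSynthPendingDepth 3
set_option backward.isDefEq.respectTransparency.types false
universe u
open CategoryTheory CategoryTheory.Limits MonoidalCategory CartesianMonoidalCategory MonObj GrpObj AlgebraicGeometry
open SGA3
open Groth.L25.GenWords

namespace Groth.Agent.S6077

/-- Let k be an algebraically closed field, G a group scheme locally of finite type over k, X a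
geometrically reduced k-scheme locally of finite type, f : X → G a k-morphism, and h : H → G a
closed subgroup scheme whose underlying set is contained in the image of f. Let i : Γ → G be the
smallest closed subgroup scheme of G through which f factors. Say that a point of G lies under a
word of length n in f when there are a k-scheme T, a point p of T, T-valued points x_1, …, x_n of X
and signs such that f(x_1)^{±1} ⋯ f(x_n)^{±1} maps p to it; let Γ'₀ be the set of k-points of G
whose point lies under some word (of any length n ≥ 0). Suppose that Γ'₀ is covered by finitely many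
left translates a · H(k) of the image of H(k) in G(k), with the a in Γ'₀ (H(k) has finite index in
Γ'₀). Then there is m such that the underlying set of Γ is the set of points of G lying under a word
of length m, and there are finitely many k-points a_1, …, a_r of G such that the underlying set of Γ
is the union of the left translates a_j · H of the underlying set of H. -/
theorem result (k : Type u) [Field k] [IsAlgClosed k]
    (G X H : Over (Spec (CommRingCat.of k))) [GrpObj G] [GrpObj H] [LocallyOfFiniteType G.hom]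
    [LocallyOfFiniteType X.hom] [GeometricallyReduced X.hom] (f : X ⟶ G)
    (h : H ⟶ G) [IsMonHom h] [IsClosedImmersion h.left] (hH : Set.range h.left.base ⊆ Set.range f.left.base)
    (Γ : Over (Spec (CommRingCat.of k))) [GrpObj Γ] (i : Γ ⟶ G) [IsMonHom i] [IsClosedImmersion i.left]
    (hf : ∃ f' : X ⟶ Γ, f' ≫ i = f)
    (hmin : ∀ (Γ' : Over (Spec (CommRingCat.of k))) (_ : GrpObj Γ') (i' : Γ' ⟶ G), IsMonHom i' → IsClosedImmersion i'.left →
        (∃ f'' : X ⟶ Γ', f'' ≫ i' = f) → ∃ j : Γ ⟶ Γ', j ≫ i' = i)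
    (hfin : ∃ F : Finset (𝟙_ (Over (Spec (CommRingCat.of k))) ⟶ G),
      (∀ a ∈ F, ∃ (n : ℕ) (T : Over (Spec (CommRingCat.of k))) (p : T.left) (p₀ : (𝟙_ (Over (Spec (CommRingCat.of k)))).left) (x : Fin n → (T ⟶ X)) (ε : Fin n → Bool),
        ((List.ofFn fun j : Fin n => if ε j then x j ≫ f else (x j ≫ f)⁻¹).prod : T ⟶ G).left.base p = a.left.base p₀) ∧
      ∀ g : 𝟙_ (Over (Spec (CommRingCat.of k))) ⟶ G, (∃ (n : ℕ) (T : Over (Spec (CommRingCat.of k))) (p : T.left) (p₀ : (𝟙_ (Over (Spec (CommRingCat.of k)))).left) (x : Fin n → (T ⟶ X)) (ε : Fin n → Bool),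
        ((List.ofFn fun j : Fin n => if ε j then x j ≫ f else (x j ≫ f)⁻¹).prod : T ⟶ G).left.base p = g.left.base p₀) →
        ∃ a ∈ F, ∃ y : 𝟙_ (Over (Spec (CommRingCat.of k))) ⟶ H, g = a * (y ≫ h)) :
    (∃ m : ℕ, Set.range i.left.base =
      {g : G.left | ∃ (T : Over (Spec (CommRingCat.of k))) (p : T.left) (x : Fin m → (T ⟶ X)) (ε : Fin m → Bool),
        ((List.ofFn fun j : Fin m => if ε j then x j ≫ f else (x j ≫ f)⁻¹).prod : T ⟶ G).left.base p = g}) ∧
    ∃ F : Finset (𝟙_ (Over (Spec (CommRingCat.of k))) ⟶ G), Set.range i.left.base =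
      ⋃ a ∈ F, (fun z => ((λ_ G).inv ≫ (a ▷ G) ≫ μ[G]).left.base z) '' Set.range h.left.base := by
  haveI : JacobsonSpace G.left := LocallyOfFiniteType.jacobsonSpace G.hom
  let c := IsLocalRing.closedPoint k
  let K : Subgroup (pts G) := Subgroup.closure (Set.range fun x : pts X => x ≫ f)
  let pt' : pts G → G.left := Groth.L25.Solv.pt G
  -- points under words form the subgroup generated by the image
  have hgen : {g : pts G | ∃ p₀ : (𝟙_ (Over (Spec (CommRingCat.of k)))).left, g.left p₀ ∈ Set.range f.left} =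
      Set.range fun x : pts X => x ≫ f := by
    ext g
    constructor
    · rintro ⟨p₀, y, hy⟩
      exact Groth.L25.WordPoints.exists_point_over f g p₀ y hy
    · rintro ⟨x, rfl⟩
      exact ⟨c, x.left c, rfl⟩
  have hΓ0 : ∀ g : pts G, (∃ (n : ℕ) (T : Over (Spec (CommRingCat.of k))) (p : T.left) (p₀ : (𝟙_ (Over (Spec (CommRingCat.of k)))).left) (x : Fin n → (T ⟶ X)) (ε : Fin n → Bool),
        ((List.ofFn fun j : Fin n => if ε j then x j ≫ f else (x j ≫ f)⁻¹).prod : T ⟶ G).left.base p = g.left.base p₀) ↔ g ∈ K := by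
    intro g
    have h := Set.ext_iff.1 (Groth.L25.WordPoints.closure_eq (G := G) (X := X) f) g
    rw [hgen] at h
    exact h
  obtain ⟨F, hF, hcov⟩ := hfin
  haveI : LocallyOfFiniteType H.hom := by rw [← Over.w h]; infer_instance
  let D : Set G.left := Set.range h.left
  have hD : IsClosed D := h.left.isClosedEmbedding.isClosed_range
  have hHK : ∀ y : pts H, y ≫ h ∈ K := fun y => by
    obtain ⟨x, hx⟩ := hH ⟨y.left c, rfl⟩
    obtain ⟨z, hz⟩ := Groth.L25.WordPoints.exists_point_over f (y ≫ h) c x hx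
    exact Subgroup.subset_closure ⟨z, hz⟩
  have hcov' : ∀ g ∈ K, ∃ r ∈ (F : Set (pts G)), pt' (r⁻¹ * g) ∈ D := fun g hg => by
    obtain ⟨a, ha, y, rfl⟩ := hcov g ((hΓ0 g).2 hg)
    exact ⟨a, ha, by rw [inv_mul_cancel_left]; exact pt_mem_range h y⟩
  have hDl : D ⊆ Set.range (word f [true]).left := by
    obtain ⟨r, hr⟩ := exists_single f true
    refine hH.trans ?_
    rintro _ ⟨x, rfl⟩
    exact ⟨r.left x, congrArg (fun m : X ⟶ G => m.left x) hr⟩
  obtain ⟨L, hLfin, hLcl, hLall, hiff⟩ := exists_finite_words f K rfl D hD [true] hDl (F : Set (pts G))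
    F.finite_toSet (fun a ha => (hΓ0 a).1 (hF a ha)) hcov'
  have hr := range_generated f Γ i hf hmin L hLcl hLall
  constructor
  · refine exists_fixed_length f ?_ i hf L hLfin hr
    have h1 : η[H] ≫ h = η[G] := IsMonHom.one_hom h
    obtain ⟨x, hx⟩ := hH ⟨η[H].left c, rfl⟩
    exact ⟨x, c, by rw [hx, ← h1]; rfl⟩
  refine ⟨F, ?_⟩
  let φ : pts G → (G ⟶ G) := fun a => (λ_ G).inv ≫ (a ▷ G) ≫ μ[G]
  have hφ : ∀ a, φ a = (toUnit G ≫ a) * 𝟙 G := fun a => by
    show (λ_ G).inv ≫ (a ▷ G) ≫ μ[G] = _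
    rw [Hom.mul_def, ← Category.assoc (λ_ G).inv]
    congr 1
    apply CartesianMonoidalCategory.hom_ext
    · rw [lift_fst, Category.assoc, whiskerRight_fst, ← Category.assoc, toUnit_unique ((λ_ G).inv ≫ fst _ _) (toUnit G)]
    · rw [lift_snd, Category.assoc, whiskerRight_snd, leftUnitor_inv_snd]
  have hφpt : ∀ a g : pts G, g ≫ φ a = a * g := fun a g => by
    rw [hφ, MonObj.comp_mul, Groth.L25.Solv.const_comp, Category.comp_id]
  have hinv : ∀ a : pts G, φ a ≫ φ a⁻¹ = 𝟙 G := fun a => by
    rw [hφ a⁻¹, MonObj.comp_mul, ← Category.assoc, comp_toUnit, Category.comp_id, hφ a, ← _root_.mul_assoc,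
      ← MonObj.comp_mul, inv_mul_cancel, MonObj.comp_one, _root_.one_mul]
  have hinv' : ∀ a : pts G, φ a⁻¹ ≫ φ a = 𝟙 G := fun a => by
    have := hinv a⁻¹
    rwa [_root_.inv_inv] at this
  have himg : ∀ a : pts G, (fun z => (φ a).left z) '' D = (φ a⁻¹).left ⁻¹' D := fun a => by
    ext w
    constructor
    · rintro ⟨z, hz, rfl⟩
      show (φ a⁻¹).left ((φ a).left z) ∈ D
      rw [← Scheme.Hom.comp_apply, ← Over.comp_left, hinv]
      exact hz
    · intro hw
      exact ⟨_, hw, congrArg (fun m : G ⟶ G => m.left w) (hinv' a)⟩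
  let Y : Set G.left := ⋃ a ∈ F, (fun z => (φ a).left z) '' D
  have hY : IsClosed Y := by
    refine F.finite_toSet.isClosed_biUnion fun a _ => ?_
    rw [himg]
    exact hD.preimage (φ a⁻¹).left.continuous
  have hpts : ∀ g : pts G, pt' g ∈ Set.range i.left ↔ pt' g ∈ Y := by
    intro g
    rw [hr, ← hiff g]
    simp only [Y, Set.mem_iUnion, himg, Set.mem_preimage]
    constructor
    · intro hg
      obtain ⟨a, ha, y, rfl⟩ := hcov g ((hΓ0 g).2 hg)
      refine ⟨a, ha, ?_⟩
      show Groth.L25.Solv.pt G ((a * (y ≫ h)) ≫ φ a⁻¹) ∈ D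
      rw [hφpt, inv_mul_cancel_left]
      exact pt_mem_range h y
    · rintro ⟨a, ha, hmem⟩
      have h2 : Groth.L25.Solv.pt G (g ≫ φ a⁻¹) ∈ D := hmem
      rw [hφpt] at h2
      obtain ⟨y, hy⟩ := exists_lift_pt h (a⁻¹ * g) h2
      have := K.mul_mem ((hΓ0 a).1 (hF a ha)) (hHK y)
      rwa [hy, mul_inv_cancel_left] at this
  show Set.range i.left = Y
  have hi : IsClosed (Set.range i.left) := i.left.isClosedEmbedding.isClosed_range
  rw [← JacobsonSpace.closure_inter_closedPoints hi, ← JacobsonSpace.closure_inter_closedPoints hY]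
  congr 1
  ext x
  constructor <;> rintro ⟨hx, hxc⟩ <;> obtain ⟨g, rfl⟩ := Groth.L25.Solv.exists_pt G hxc
  · exact ⟨(hpts g).1 hx, hxc⟩
  · exact ⟨(hpts g).2 hx, hxc⟩

end Groth.Agent.S6077
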