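import Groth.Statements.S6078
import Groth.Agent.L25.GenWords.Fibre

set_option autoImplicit false
set_option maxSynthPendingDepth 3
set_option backward.isDefEq.respectTransparency.types false
set_option backward.isDefEq.respectTransparency false
set_option synthInstance.maxHeartbeats 200000
set_option maxHeartbeats 1000000
universe u
open CategoryTheory CategoryTheory.Limits MonoidalCategory CartesianMonoidalCategory MonObj GrpObj AlgebraicGeometry
open SGA3
open Groth.L25.GenWords Groth.L19.Limit Topology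

namespace Groth.Agent.S6078

/-- Case (G, H) = H: let S be an integral scheme with generic point η, G an S-group scheme and h : H → G
a normal subgroup scheme of G, with G and H of finite presentation over S and with smooth generic
fibres G_η, H_η. Suppose that (G_η, H_η) = H_η: the subgroup H_η is contained in every closed
subgroup scheme of G_η through which the morphism G_η ×_{κ(η)} H_η → G_η, (g, x) ↦ g h(x) g⁻¹
h(x)⁻¹, factors (H_η itself is such a subgroup since H is normal). Then there is a nonempty open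
subset U of S such that for every s ∈ U the same holds on the fibre at s: H_s is contained in every
closed subgroup scheme of G_s through which G_s ×_{κ(s)} H_s → G_s, (g, x) ↦ g h(x) g⁻¹ h(x)⁻¹,
factors. -/
theorem result (S : Scheme.{u}) [IsIntegral S] (G H : Over S) [GrpObj G] [GrpObj H]
    [LocallyOfFinitePresentation G.hom] [QuasiCompact G.hom] [QuasiSeparated G.hom]
    [LocallyOfFinitePresentation H.hom] [QuasiCompact H.hom] [QuasiSeparated H.hom]
    (h : H ⟶ G) [IsMonHom h] [IsImmersion h.left] (hN : AlgGrp.IsNormalHom h)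
    (hsmG : Smooth (Red.bc (S.fromSpecResidueField (genericPoint S)) G).hom) (hsmH : Smooth (Red.bc (S.fromSpecResidueField (genericPoint S)) H).hom)
    (hgen : (∀ (K : Over (Spec (S.residueField (genericPoint S)))) (_ : GrpObj K) (j : K ⟶ (Red.bc (S.fromSpecResidueField (genericPoint S)) G)), IsMonHom j → IsClosedImmersion j.left →
        (∃ c : (Red.bc (S.fromSpecResidueField (genericPoint S)) G) ⊗ (Red.bc (S.fromSpecResidueField (genericPoint S)) H) ⟶ K, c ≫ j = (((fst (Red.bc (S.fromSpecResidueField (genericPoint S)) G) (Red.bc (S.fromSpecResidueField (genericPoint S)) H)) * ((snd (Red.bc (S.fromSpecResidueField (genericPoint S)) G) (Red.bc (S.fromSpecResidueField (genericPoint S)) H)) ≫ ((Over.pullback (S.fromSpecResidueField (genericPoint S))).map h)) * (fst (Red.bc (S.fromSpecResidueField (genericPoint S)) G) (Red.bc (S.fromSpecResidueField (genericPoint S)) H))⁻¹ * ((snd (Red.bc (S.fromSpecResidueField (genericPoint S)) G) (Red.bc (S.fromSpecResidueField (genericPoint S)) H)) ≫ ((Over.pullback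 (S.fromSpecResidueField (genericPoint S))).map h))⁻¹ : (Red.bc (S.fromSpecResidueField (genericPoint S)) G) ⊗ (Red.bc (S.fromSpecResidueField (genericPoint S)) H) ⟶ (Red.bc (S.fromSpecResidueField (genericPoint S)) G)))) → ∃ m : (Red.bc (S.fromSpecResidueField (genericPoint S)) H) ⟶ K, m ≫ j = ((Over.pullback (S.fromSpecResidueField (genericPoint S))).map h))) :
    ∃ U : S.Opens, (U : Set S).Nonempty ∧ ∀ s : U,
      (∀ (K : Over (Spec (S.residueField (s : S)))) (_ : GrpObj K) (j : K ⟶ (Red.bc (S.fromSpecResidueField (s : S)) G)), IsMonHom j → IsClosedImmersion j.left →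
        (∃ c : (Red.bc (S.fromSpecResidueField (s : S)) G) ⊗ (Red.bc (S.fromSpecResidueField (s : S)) H) ⟶ K, c ≫ j = (((fst (Red.bc (S.fromSpecResidueField (s : S)) G) (Red.bc (S.fromSpecResidueField (s : S)) H)) * ((snd (Red.bc (S.fromSpecResidueField (s : S)) G) (Red.bc (S.fromSpecResidueField (s : S)) H)) ≫ ((Over.pullback (S.fromSpecResidueField (s : S))).map h)) * (fst (Red.bc (S.fromSpecResidueField (s : S)) G) (Red.bc (S.fromSpecResidueField (s : S)) H))⁻¹ * ((snd (Red.bc (S.fromSpecResidueField (s : S)) G) (Red.bc (S.fromSpecResidueField (s : S)) H)) ≫ ((Over.pullback (S.fromSpecResidueField (s : S))).map h))⁻¹ : (Red.bc (S.fromSpecResidueField (s : S)) G) ⊗ (Red.bc (S.fromSpecResidueField (s : S)) H) ⟶ (Red.bc (S.fromSpecResidueField (s : S)) G)))) → ∃ m : (Red.bc (S.fromSpecResidueField (s : S)) H) ⟶ K, m ≫ j = ((Over.pullback (S.fromSpecResidueField (s : S))).map h)) := by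
  let η₀ := genericPoint S
  let ρ := S.fromSpecResidueField η₀
  haveI : LocallyOfFiniteType (Red.bc ρ G).hom := inferInstanceAs (LocallyOfFiniteType (pullback.snd G.hom ρ))
  haveI : LocallyOfFiniteType (Red.bc ρ H).hom := inferInstanceAs (LocallyOfFiniteType (pullback.snd H.hom ρ))
  haveI : QuasiCompact (Red.bc ρ G).hom := inferInstanceAs (QuasiCompact (pullback.snd G.hom ρ))
  haveI : QuasiCompact (Red.bc ρ H).hom := inferInstanceAs (QuasiCompact (pullback.snd H.hom ρ))
  haveI := hsmG
  haveI := hsmH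
  haveI : IsMonHom ((Over.pullback ρ).map h) := Groth.L25.SpreadSub.isMonHom_map ρ h
  haveI : IsImmersion ((Over.pullback ρ).map h).left :=
    MorphismProperty.of_isPullback (Groth.L25.SpreadSub.isPullback_map ρ h) ‹_›
  have hid : AlgGrp.IsNormalHom (𝟙 (Red.bc ρ G)) := fun T g n =>
    ⟨g * (n ≫ 𝟙 (Red.bc ρ G)) * g⁻¹, (Category.comp_id _).symm⟩
  obtain ⟨Γ, instΓ, i, hi, hic, -, -, -, ⟨f', hf'⟩, L, hLfin, hr⟩ :=
    exists_comm_field (k := S.residueField η₀) (𝟙 (Red.bc ρ G)) ((Over.pullback ρ).map h)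
      (.inr ⟨hid, isNormalHom_bc ρ h hN⟩)
  obtain ⟨m, hm⟩ := hgen Γ instΓ i hi hic ⟨f', by rw [hf']; simp only [Groth.L25.GenWords.comm, Category.comp_id]; rfl⟩
  let YS : Set G.left := ⋃ l ∈ L, Set.range (word (Groth.L25.GenWords.comm (𝟙 G) h) l).left
  haveI : LocallyOfFinitePresentation (G ⊗ H).hom :=
    inferInstanceAs (LocallyOfFinitePresentation (pullback.fst G.hom H.hom ≫ G.hom))
  haveI : QuasiCompact (G ⊗ H).hom := inferInstanceAs (QuasiCompact (pullback.fst G.hom H.hom ≫ G.hom))
  let E : Set H.left := h.left ⁻¹' YS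
  have hE : IsLocallyConstructible E :=
    Groth.L28.Fib.isLocallyConstructible_preimage h.left (isLocallyConstructible_words S G (Groth.L25.GenWords.comm (𝟙 G) h) L hLfin)
  have hc : IsLocallyConstructible (H.hom '' Eᶜ)ᶜ :=
    Groth.L06.NRQuot.isLocallyConstructible_compl
      (H.hom.isLocallyConstructible_image (Groth.L06.NRQuot.isLocallyConstructible_compl hE))
  have hnot : η₀ ∈ (H.hom '' Eᶜ)ᶜ := by
    rintro ⟨y, hy, hy'⟩
    refine hy ?_
    obtain ⟨z, hz⟩ : y ∈ Set.range (pullback.fst H.hom ρ) := by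
      rw [Scheme.Pullback.range_fst, Scheme.range_fromSpecResidueField]
      exact hy'
    have h1 : ((Over.pullback ρ).map h).left z ∈ Set.range i.left := range_subset_of_comp' m hm ⟨z, rfl⟩
    obtain ⟨l, hl, hxl⟩ := Set.mem_iUnion₂.1 (hr h1)
    rw [← CategoryTheory.Functor.map_id (Over.pullback ρ) G] at hxl
    show h.left y ∈ YS
    rw [← hz, show h.left (pullback.fst H.hom ρ z) = pullback.fst G.hom ρ (((Over.pullback ρ).map h).left z) from
      (congrArg (fun f : _ ⟶ G.left => f z) (Groth.L25.SpreadSub.map_fst ρ h)).symm]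
    exact Set.mem_biUnion hl ((range_word_comm_map ρ (𝟙 G) h l).le hxl)
  obtain ⟨V, hV, hVo, hVη⟩ := mem_nhds_iff.1 (Groth.L25.GenWords.ConsGeneric.mem_nhds_of_isLocallyConstructible hc hnot)
  haveI : Smooth (Red.bc (S.fromSpecStalk η₀) H).hom := bc_stalk_generic @Smooth H hsmH
  obtain ⟨W, hW, hsmW⟩ := exists_nhd_pb H.hom (𝟙 S) η₀ descends_smooth
    ⟨⟨inferInstance, inferInstance⟩, inferInstance⟩ (by
      have h0 := (pb_iff_of_isPullback (P := @Smooth) (IsPullback.of_hasPullback H.hom (S.fromSpecStalk η₀))).1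
        ‹Smooth (Red.bc (S.fromSpecStalk η₀) H).hom›
      have := pb_comp (pullback.snd (𝟙 S) (S.fromSpecStalk η₀)) h0
      rwa [← pullback.condition, Category.comp_id] at this)
  refine ⟨⟨V, hVo⟩ ⊓ W, ⟨η₀, hVη, hW⟩, fun s K _ j hj hjc hfac => ?_⟩
  haveI := hj
  haveI := hjc
  let t := S.fromSpecResidueField (s : S)
  haveI : Smooth (Red.bc t H).hom := by
    have hs := pb_comp (IsOpenImmersion.lift ((𝟙 S) ⁻¹ᵁ W).ι t
      (by rw [Scheme.Opens.range_ι]; rintro _ ⟨x, rfl⟩; rw [Scheme.fromSpecResidueField_apply]; exact s.2.2)) hsmW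
    rw [IsOpenImmersion.lift_fac] at hs
    exact (pb_iff_of_isPullback (IsPullback.of_hasPullback H.hom t)).2 hs
  haveI : IsReduced (Red.bc t H).left := isReduced_of_smooth_field (Red.bc t H).hom
  refine exists_lift_of_words t (𝟙 G) h h L (fun z => ?_) K j ?_
  · by_contra hn
    have : pullback.fst H.hom t z ∈ Eᶜ := hn
    refine hV ?_ ⟨_, this, rfl⟩
    have e1 : (pullback.fst H.hom t ≫ H.hom) z = (pullback.snd H.hom t ≫ t) z :=
      congrArg (fun f : pullback H.hom t ⟶ S => f z) pullback.condition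
    rw [Scheme.Hom.comp_apply, Scheme.Hom.comp_apply, Scheme.fromSpecResidueField_apply] at e1
    exact e1.symm ▸ s.2.1
  · obtain ⟨c, hc'⟩ := hfac
    refine ⟨c, hc'.trans ?_⟩
    rw [CategoryTheory.Functor.map_id]
    simp only [Groth.L25.GenWords.comm, Category.comp_id]
    rfl

end Groth.Agent.S6078
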