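import Groth.Statements.S6083
import Groth.Agent.L25.EGA145.Open
-- import your own Groth.Agent.* helpers here

set_option autoImplicit false
set_option backward.isDefEq.respectTransparency.types false
set_option backward.isDefEq.respectTransparency false
universe u
open CategoryTheory CategoryTheory.Limits MonoidalCategory CartesianMonoidalCategory MonObj GrpObj AlgebraicGeometry
open SGA3

namespace Groth.Agent.S6083

/-- Let f : X → S be a morphism locally of finite presentation, s a point of S, x a point of the fibre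
X_s = f⁻¹(s), n the local dimension of X_s at x, q : 𝔸^n_S → S the affine n-space over S and u : X →
𝔸^n_S a locally quasi-finite morphism with u q = f. Suppose that f is universally open at the
generic point z of an irreducible component Z of X_s which contains x and has dimension n. Then u is
universally open at x. -/
theorem result (X S : Scheme.{u}) (f : X ⟶ S) [LocallyOfFinitePresentation f]
    (s : S) (x : X) (hxs : f.base x = s) (n : ℕ)
    (u : X ⟶ 𝔸(ULift.{u} (Fin n); S)) [LocallyQuasiFinite u] (hu : u ≫ (𝔸(ULift.{u} (Fin n); S) ↘ S) = f)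
    (Z : Set ↥(f.base ⁻¹' {s})) (hZ : Z ∈ irreducibleComponents ↥(f.base ⁻¹' {s})) (hxZ : x ∈ (Subtype.val '' Z))
    (z : X) (hz : z ∈ Subtype.val '' Z ∧ Subtype.val '' Z ⊆ closure {z}) (hopen : EGA43.IsUnivOpenAt f z)
    (hdimZ : topologicalKrullDim ↥Z = n) (hdimx : FlatMor.localDim ↥(f.base ⁻¹' {s}) ⟨x, hxs⟩ = n) :
    EGA43.IsUnivOpenAt u x := by
  have hfz : f z = s := by
    obtain ⟨w, -, hw⟩ := hz.1
    exact hw ▸ w.2
  refine Groth.L25.EGA145.isUnivOpenAt f u hu x z (specializes_iff_mem_closure.2 (hz.2 hxZ))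
    (hfz.trans hxs.symm) hopen (Groth.L07.Equidim.genericPoint_of_fdim _ (u z) ?_)
  haveI : LocallyOfFiniteType (u ≫ (𝔸(ULift.{u} (Fin n); S) ↘ S)) := hu ▸ inferInstance
  haveI : LocallyOfFiniteType u := locallyOfFiniteType_of_comp u (𝔸(ULift.{u} (Fin n); S) ↘ S)
  rw [← Groth.L07.Equidim.fdim_comp u _ f hu z, Nat.card_ulift, Nat.card_fin, ← hdimZ]
  rw [← Groth.L22.SchemeDim.topologicalKrullDim_eq_of_isEmbedding
    (Topology.IsEmbedding.subtypeVal.comp Topology.IsEmbedding.subtypeVal)
    (show Set.range (Subtype.val ∘ (Subtype.val : Z → _)) = Subtype.val '' Z by rw [Set.range_comp, Subtype.range_coe])]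
  refine Groth.L22.SchemeDim.topologicalKrullDim_mono fun t ht => ⟨hz.2 ht, ?_⟩
  obtain ⟨w, -, rfl⟩ := ht
  show f w.1 = f z
  rw [hfz]
  exact w.2

end Groth.Agent.S6083
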