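import Groth.Statements.S6089
import Groth.Agent.L25.Translate
import Groth.Agent.L15.GenSub.Dom

set_option autoImplicit false
universe u
open CategoryTheory CategoryTheory.Limits MonoidalCategory CartesianMonoidalCategory MonObj GrpObj AlgebraicGeometry
open SGA3

namespace Groth.Agent.S6089

open Groth.L25

variable {k : Type u} [Field k]

/-- The generic point of the neutral component. -/
theorem exists_generic (F : Over (Spec (CommRingCat.of k))) [GrpObj F] [LocallyOfFiniteType F.hom] :
    ∃ ξ : F.left, closure {ξ} = connectedComponent (Component.one F) ∧ (∀ w, w ⤳ ξ → ξ ⤳ w) := by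
  haveI := LocallyOfFiniteType.isLocallyNoetherian F.hom
  exact Component.maximal_of_mem_irreducibleComponents
    (Component.connectedComponent_mem F (Component.one F))

/-- The restriction of a homomorphism to the reduced subgroups. -/
theorem exists_red {F G F' G' : Over (Spec (CommRingCat.of k))} [GrpObj F] [GrpObj G] [GrpObj F']
    [GrpObj G'] (u : F ⟶ G) [IsMonHom u] [IsReduced F'.left] (a : F' ⟶ F) [IsMonHom a]
    (b : G' ⟶ G) [IsMonHom b] [IsClosedImmersion b.left] [Surjective b.left] :
    ∃ u' : F' ⟶ G', u' ≫ b = a ≫ u ∧ IsMonHom u' := by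
  obtain ⟨l, hl⟩ := Groth.L15.GenSub.exists_lift_of_range b.left (a ≫ u).left
    (fun x _ => b.left.surjective x)
  let u' : F' ⟶ G' := Over.homMk l (by
    rw [← Over.w b, ← Category.assoc, hl]; exact Over.w (a ≫ u))
  have hu' : u' ≫ b = a ≫ u := Over.OverMorphism.ext hl
  haveI : Mono b := (Over.forget _).mono_of_mono_map (inferInstanceAs (Mono b.left))
  refine ⟨u', hu', ⟨?_, ?_⟩⟩
  · rw [← cancel_mono b, Category.assoc, hu', IsMonHom.one_hom_assoc, IsMonHom.one_hom,
      IsMonHom.one_hom]
  · rw [← cancel_mono b, Category.assoc, hu', IsMonHom.mul_hom_assoc, IsMonHom.mul_hom,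
      Category.assoc, IsMonHom.mul_hom, tensorHom_comp_tensorHom_assoc,
      tensorHom_comp_tensorHom_assoc, hu']

/-- Let k be a perfect field and u : F → G a homomorphism of k-group schemes locally of finite type over
k. Let a : F' → F and b : G' → G be homomorphisms which are closed immersions, surjective on
underlying spaces, with F' and G' reduced (the subgroups F_red and G_red), let p : F → X and q : G →
Y be k-morphisms which are flat, surjective and locally of finite presentation and make the squares
formed by (f', f) ↦ a(f') · f, the second projection, p, p (and likewise for b, q) cartesian (the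
quotients of F and G by the left actions of F_red and G_red), and let v : X → Y satisfy p v = u q.
Then u is flat if and only if (ii) holds: the neutral component of G (the connected component of the
unit point) is contained in the closure of the image under u of the neutral component of F, and v is
flat. -/
theorem result (k : Type u) [Field k] [PerfectField k]
    (F G F' G' : Over (Spec (CommRingCat.of k))) [GrpObj F] [GrpObj G] [GrpObj F'] [GrpObj G']
    [LocallyOfFiniteType F.hom] [LocallyOfFiniteType G.hom] (u : F ⟶ G) [IsMonHom u]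
    [IsReduced F'.left] (a : F' ⟶ F) [IsMonHom a] [IsClosedImmersion a.left] [Surjective a.left]
    [IsReduced G'.left] (b : G' ⟶ G) [IsMonHom b] [IsClosedImmersion b.left] [Surjective b.left]
    (X Y : Over (Spec (CommRingCat.of k))) (p : F ⟶ X) [Flat p.left] [Surjective p.left] [LocallyOfFinitePresentation p.left]
    (hp : IsPullback ((a ▷ F) ≫ μ[F]) (snd F' F) p p)
    (q : G ⟶ Y) [Flat q.left] [Surjective q.left] [LocallyOfFinitePresentation q.left]
    (hq : IsPullback ((b ▷ G) ≫ μ[G]) (snd G' G) q q)
    (v : X ⟶ Y) (hv : p ≫ v = u ≫ q) :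
    Flat u.left ↔
      ((∀ p₀ : (𝟙_ (Over (Spec (CommRingCat.of k)))).left, connectedComponent ((η[G] : (𝟙_ (Over (Spec (CommRingCat.of k)))) ⟶ G).left.base p₀) ⊆
          closure (u.left.base '' connectedComponent ((η[F] : (𝟙_ (Over (Spec (CommRingCat.of k)))) ⟶ F).left.base p₀))) ∧
        Flat v.left) := by
  obtain ⟨ξF, hF, hFmax⟩ := exists_generic F
  obtain ⟨ξG, hG, hGmax⟩ := exists_generic G
  have hone : ∀ {H : Over (Spec (CommRingCat.of k))} [GrpObj H]
      (p₀ : (𝟙_ (Over (Spec (CommRingCat.of k)))).left),
      (η[H] : (𝟙_ (Over (Spec (CommRingCat.of k)))) ⟶ H).left.base p₀ = Component.one H := fun {H} _ p₀ =>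
    congrArg η[H].left (Subsingleton.elim (α := PrimeSpectrum k) _ _)
  simp only [hone]
  constructor
  · intro _
    refine ⟨fun _ => ?_, ?_⟩
    · have hm : ∀ w, w ⤳ u.left ξF → u.left ξF ⤳ w :=
        Translate.maximal_map u.left.continuous (Flat.generalizingMap u.left) hFmax
      have h1 : u.left (Component.one F) = Component.one G :=
        congr(($(IsMonHom.one_hom u)).left (IsLocalRing.closedPoint k))
      have hmem : u.left ξF ∈ connectedComponent (Component.one G) := by
        rw [← h1]
        exact u.left.continuous.image_connectedComponent_subset _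
          ⟨ξF, hF ▸ subset_closure rfl, rfl⟩
      have hsp : ξG ⤳ u.left ξF := specializes_iff_mem_closure.mpr (hG.symm ▸ hmem)
      rw [← hG]
      refine closure_minimal (Set.singleton_subset_iff.mpr ?_) isClosed_closure
      refine closure_mono (Set.singleton_subset_iff.mpr ?_)
        (specializes_iff_mem_closure.mp (hm _ hsp))
      exact ⟨ξF, hF ▸ subset_closure rfl, rfl⟩
    · have : Flat (p.left ≫ v.left) := by
        rw [← Over.comp_left, hv, Over.comp_left]; infer_instance
      exact Translate.flat_of_comp p.left v.left
  · rintro ⟨hdom, hv'⟩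
    have hsub := hdom (IsLocalRing.closedPoint k)
    have hsp : u.left ξF ⤳ ξG := by
      rw [specializes_iff_mem_closure]
      refine closure_minimal ?_ isClosed_closure (hsub (hG ▸ subset_closure rfl))
      rintro _ ⟨c, hc, rfl⟩
      rw [← hF] at hc
      exact specializes_iff_mem_closure.mp
        ((specializes_iff_mem_closure.mpr hc).map u.left.continuous)
    have hm : ∀ w, w ⤳ u.left ξF → u.left ξF ⤳ w := fun w hw =>
      hsp.trans (hGmax w (hw.trans hsp))
    obtain ⟨u', hu', _⟩ := exists_red u a b
    obtain ⟨h₀, rfl⟩ := a.left.surjective ξF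
    have hb : b.left (u'.left h₀) = u.left (a.left h₀) := congr(($hu').left h₀)
    have hflat' : Flat u'.left := by
      refine Translate.flat_of_maximal_mem u' h₀ fun w hw => ?_
      rw [← b.left.isEmbedding.isInducing.specializes_iff, hb]
      exact hm _ (hb ▸ hw.map b.left.continuous)
    let Φ : F' ⊗ F ⟶ F := (a ▷ F) ≫ μ[F]
    let ψ : G' ⊗ F ⟶ G := (G' ◁ u) ≫ (b ▷ G) ≫ μ[G]
    have hΦ : Flat Φ.left ∧ Surjective Φ.left :=
      ⟨MorphismProperty.of_isPullback (hp.map (Over.forget _)).flip ‹Flat p.left›,
        MorphismProperty.of_isPullback (hp.map (Over.forget _)).flip ‹Surjective p.left›⟩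
    have hψ : Flat ψ.left := by
      refine MorphismProperty.of_isPullback
        (((GrpBasics.isPullback_whiskerLeft G' u).paste_horiz hq).map (Over.forget _)).flip ?_
      show Flat (u ≫ q).left
      rw [← hv, Over.comp_left]
      infer_instance
    have hwh : Flat (u' ▷ F).left :=
      MorphismProperty.of_isPullback
        ((GrpBasics.isPullback_whiskerRight u' F).map (Over.forget _)).flip hflat'
    have e : Φ ≫ u = (u' ▷ F) ≫ ψ := by
      have e1 : Φ = (fst F' F ≫ a) * snd F' F := by
        simp only [Φ, Hom.mul_def]; congr 1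
      have e2 : ψ = (fst G' F ≫ b) * (snd G' F ≫ u) := by
        simp only [ψ, Hom.mul_def]; rw [← Category.assoc]; congr 1; ext <;> simp
      rw [e1, e2, MonObj.mul_comp, MonObj.comp_mul, Category.assoc, ← hu', whiskerRight_fst_assoc,
        whiskerRight_snd_assoc]
    have : Flat (Φ.left ≫ u.left) := by
      rw [← Over.comp_left, e, Over.comp_left]; infer_instance
    obtain ⟨_, _⟩ := hΦ
    exact Translate.flat_of_comp Φ.left u.left

end Groth.Agent.S6089
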