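import Groth.Statements.S6090
import Groth.Agent.L25.GenWords.Derived

set_option autoImplicit false
set_option maxSynthPendingDepth 3
set_option backward.isDefEq.respectTransparency.types false
set_option backward.isDefEq.respectTransparency false
set_option synthInstance.maxHeartbeats 200000
set_option maxHeartbeats 1000000
universe u
open CategoryTheory CategoryTheory.Limits MonoidalCategory CartesianMonoidalCategory MonObj GrpObj AlgebraicGeometry
open SGA3
open Groth.L25.GenWords Groth.L25.LimHom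

namespace Groth.Agent.S6090

/-- Let S be an integral scheme, G an S-group scheme of finite presentation over S all of whose fibres
are smooth, and n ≥ 1 an integer. Then there are a nonempty open subset U of S and a normal closed
subgroup scheme d : D → G|_U, of finite presentation over U with smooth fibres, such that for every
s ∈ U the fibre D_s → G_s is the n-th derived subgroup scheme of G_s: there are closed subgroup
schemes K⁰, …, Kⁿ of G_s with K⁰ = G_s, each K^p (p ≥ 1) the smallest closed subgroup scheme of G_s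
through which K^{p-1} ×_{κ(s)} K^{p-1} → G_s, (x, y) ↦ x y x⁻¹ y⁻¹, factors, and D_s = Kⁿ as
subgroup schemes of G_s. (The published statement also treats the lower central series (G, K^{p-1});
that variant is not stated here.) -/
theorem result (S : Scheme.{u}) [IsIntegral S] (G : Over S) [GrpObj G]
    [LocallyOfFinitePresentation G.hom] [QuasiCompact G.hom] [QuasiSeparated G.hom]
    (hsm : ∀ s : S, Smooth (G.hom.fiberToSpecResidueField s)) (n : ℕ) (hn : 1 ≤ n) :
    ∃ U : S.Opens, (U : Set S).Nonempty ∧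
      ∃ (D : Over (U : Scheme.{u})) (_ : GrpObj D) (d : D ⟶ Red.bc U.ι G), IsMonHom d ∧ IsClosedImmersion d.left ∧
        AlgGrp.IsNormalHom d ∧ LocallyOfFinitePresentation D.hom ∧ QuasiCompact D.hom ∧ QuasiSeparated D.hom ∧
        (∀ s : (U : Scheme.{u}), Smooth (D.hom.fiberToSpecResidueField s)) ∧
        ∀ s : (U : Scheme.{u}),
          ∃ (K : Fin (n + 1) → Over (Spec ((U : Scheme.{u}).residueField s))) (_ : ∀ p, GrpObj (K p)) (emb : ∀ p, K p ⟶ (Red.bc ((U : Scheme.{u}).fromSpecResidueField s) (Red.bc U.ι G))),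
            (∀ p, IsMonHom (emb p) ∧ IsClosedImmersion (emb p).left) ∧ IsIso (emb 0) ∧
            (∀ p : Fin n,
              (∃ c : (K p.castSucc) ⊗ (K p.castSucc) ⟶ (K p.succ), c ≫ emb p.succ = (((fst (K p.castSucc) (K p.castSucc)) ≫ emb p.castSucc) * ((snd (K p.castSucc) (K p.castSucc)) ≫ emb p.castSucc) * ((fst (K p.castSucc) (K p.castSucc)) ≫ emb p.castSucc)⁻¹ * ((snd (K p.castSucc) (K p.castSucc)) ≫ emb p.castSucc)⁻¹)) ∧
              ∀ (Γ' : Over (Spec ((U : Scheme.{u}).residueField s))) (_ : GrpObj Γ') (i' : Γ' ⟶ (Red.bc ((U : Scheme.{u}).fromSpecResidueField s) (Red.bc U.ι G))), IsMonHom i' → IsClosedImmersion i'.left →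
                (∃ c' : (K p.castSucc) ⊗ (K p.castSucc) ⟶ Γ', c' ≫ i' = (((fst (K p.castSucc) (K p.castSucc)) ≫ emb p.castSucc) * ((snd (K p.castSucc) (K p.castSucc)) ≫ emb p.castSucc) * ((fst (K p.castSucc) (K p.castSucc)) ≫ emb p.castSucc)⁻¹ * ((snd (K p.castSucc) (K p.castSucc)) ≫ emb p.castSucc)⁻¹)) → ∃ j : (K p.succ) ⟶ Γ', j ≫ i' = emb p.succ) ∧
            ∃ e : (Red.bc ((U : Scheme.{u}).fromSpecResidueField s) D) ≅ K (Fin.last n), e.hom ≫ emb (Fin.last n) = ((Over.pullback ((U : Scheme.{u}).fromSpecResidueField s)).map d) := by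
  obtain ⟨m, rfl⟩ : ∃ m, n = m + 1 := ⟨n - 1, by omega⟩
  haveI : IsClosedImmersion (𝟙 G : G ⟶ G).left := inferInstanceAs (IsClosedImmersion (𝟙 G.left))
  obtain ⟨T, instT, j, hj, D₀, instD, d₀, hd, hdc, hdn, hlfp, hqc, hqs, hsmD, hch⟩ :=
    exists_derived m S G G (𝟙 G) (fun T g x => ⟨g * (x ≫ 𝟙 G) * g⁻¹, (Category.comp_id _).symm⟩)
      (hsm (genericPoint S))
  let U : S.Opens := j.opensRange
  let w : (U : Scheme.{u}) ⟶ T := j.isoOpensRange.inv
  have hw : w ≫ j = U.ι := j.isoOpensRange_inv_comp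
  haveI : Nonempty T := inferInstance
  haveI := hd
  haveI := hdc
  haveI := hlfp
  haveI := hqc
  haveI := hqs
  haveI : IsMonHom (cmp hw G).hom := isMonHom_cmp hw G
  haveI := Groth.L25.SpreadSub.isIso_left (cmp hw G).hom
  haveI : IsMonHom ((Over.pullback w).map d₀) := Groth.L25.SpreadSub.isMonHom_map w d₀
  haveI : IsClosedImmersion ((Over.pullback w).map d₀).left :=
    MorphismProperty.of_isPullback (Groth.L25.SpreadSub.isPullback_map w d₀) hdc
  have hsmU : Smooth (Red.bc w D₀).hom := MorphismProperty.pullback_snd _ _ hsmD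
  refine ⟨U, ⟨j (Classical.arbitrary T), ⟨_, rfl⟩⟩, Red.bc w D₀, inferInstance,
    (Over.pullback w).map d₀ ≫ (cmp hw G).hom, inferInstanceAs (IsMonHom (_ ≫ _)),
    by rw [Over.comp_left]; infer_instance,
    isNormalHom_of_iso _ _ (Iso.refl _) (cmp hw G) (Category.id_comp _) (isNormalHom_bc w d₀ hdn),
    inferInstanceAs (LocallyOfFinitePresentation (pullback.snd D₀.hom w)),
    inferInstanceAs (QuasiCompact (pullback.snd D₀.hom w)),
    inferInstanceAs (QuasiSeparated (pullback.snd D₀.hom w)),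
    fun s => MorphismProperty.pullback_snd _ _ hsmU, fun s => ?_⟩
  let t := (U : Scheme.{u}).fromSpecResidueField s
  let σ := t ≫ U.ι
  have h1 : (t ≫ w) ≫ j = σ := by rw [Category.assoc, hw]
  have hσ' : t ≫ U.ι = σ := rfl
  let φ : Red.bc σ G ≅ Red.bc t (Red.bc U.ι G) := (cmp hσ' G).symm
  haveI : IsMonHom φ.hom := isMonHom_cmp_inv hσ' G
  haveI : IsMonHom φ.inv := isMonHom_cmp hσ' G
  haveI := Groth.L25.SpreadSub.isIso_left φ.hom
  have h := (hch _ (t ≫ w) σ h1).transport φ (m + 1) (Iso.refl _) (cmp (Eq.refl (t ≫ w)) D₀)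
  rw [Iso.refl_hom, Category.id_comp, CategoryTheory.Functor.map_id, Category.id_comp] at h
  obtain ⟨K, instK, emb, hemb, ⟨r0, hr0⟩, hsteps, ⟨r, hr⟩⟩ := h.toFin _ inferInstance inferInstance inferInstance
  refine ⟨K, instK, emb, hemb, ?_, hsteps, r, hr.trans ?_⟩
  · rw [show emb 0 = r0.inv ≫ φ.hom by rw [← hr0, Iso.inv_hom_id_assoc]]
    infer_instance
  · show (cmp (Eq.refl (t ≫ w)) D₀).hom ≫ ((Over.pullback (t ≫ w)).map d₀ ≫ (cmp h1 G).hom) ≫ φ.hom = _
    rw [Category.assoc, ← Category.assoc, ← cmp_naturality (Eq.refl (t ≫ w)) d₀, Category.assoc,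
      ← Category.assoc (cmp (Eq.refl (t ≫ w)) _).hom, cmp_cocycle (Eq.refl (t ≫ w)) h1 hw hσ' G,
      Category.assoc, show φ.hom = (cmp hσ' G).inv from rfl, Iso.hom_inv_id, Category.comp_id, ← Functor.map_comp]

end Groth.Agent.S6090
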