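import Groth.Statements.S6101
import Groth.Agent.L14.Chev.Cell.Ordered

set_option autoImplicit false
set_option linter.style.haveILetI false
set_option backward.isDefEq.respectTransparency.types false
open CategoryTheory MonoidalCategory CartesianMonoidalCategory MonObj GrpObj AlgebraicGeometry
universe u
open RedSub Groth.L14.Chev.Cell Groth.L14.RankOne Groth.L14.Chart Groth.L25

namespace Groth.Agent.S6101

/-- On points: let G be a split reductive S-group (splitting D with torus T, lattice M and root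
homomorphisms u_a), fix a total order on M compatible with addition, and let a_1 < ⋯ < a_N be the
roots which are positive for it, enumerated increasingly by e. For i + m = N write U_{>i} for the
products u_{a_{i+1}}(y_1) ⋯ u_{a_N}(y_m) of points of G_a, taken in increasing order. Then: U_{>i}
is closed under products and inverses; it is normalised by the points of T and by the points of
U_{>0}; and conjugating a point of U_{>i} by a point of U_{>0} does not change its first factor y_1
(inner automorphisms of U_{>0} act trivially on U_{>i}/U_{>i+1} = U_{a_{i+1}}). -/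
theorem result {S : Scheme.{u}} {G : Over S} [GrpObj G] (D : Red.SplitRed G)
    [LinearOrder D.M] [IsOrderedAddMonoid D.M] {N : ℕ} (e : Fin N → D.idx) (he : Function.Injective e)
    (hrange : ∀ a : D.idx, a ∈ Set.range e ↔ 0 < D.P.root a) (hmono : StrictMono (fun k => D.P.root (e k)))
    (i m : ℕ) (h : i + m = N) :
    (∀ (X : Over S) (y y' : Fin m → (X ⟶ Red.Ga S)), ∃ z : Fin m → (X ⟶ Red.Ga S),
      (List.ofFn (fun k => z k ≫ D.u (e (Fin.cast h (Fin.natAdd i k))))).prod =
        (List.ofFn (fun k => y k ≫ D.u (e (Fin.cast h (Fin.natAdd i k))))).prod *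
          (List.ofFn (fun k => y' k ≫ D.u (e (Fin.cast h (Fin.natAdd i k))))).prod) ∧
    (∀ (X : Over S) (y : Fin m → (X ⟶ Red.Ga S)), ∃ z : Fin m → (X ⟶ Red.Ga S),
      (List.ofFn (fun k => z k ≫ D.u (e (Fin.cast h (Fin.natAdd i k))))).prod =
        ((List.ofFn (fun k => y k ≫ D.u (e (Fin.cast h (Fin.natAdd i k))))).prod)⁻¹) ∧
    (∀ (X : Over S) (t : X ⟶ D.T) (y : Fin m → (X ⟶ Red.Ga S)), ∃ z : Fin m → (X ⟶ Red.Ga S),
      (List.ofFn (fun k => z k ≫ D.u (e (Fin.cast h (Fin.natAdd i k))))).prod =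
        (t ≫ D.i) * (List.ofFn (fun k => y k ≫ D.u (e (Fin.cast h (Fin.natAdd i k))))).prod * (t ≫ D.i)⁻¹) ∧
    (∀ (X : Over S) (x : Fin N → (X ⟶ Red.Ga S)) (y : Fin m → (X ⟶ Red.Ga S)), ∃ z : Fin m → (X ⟶ Red.Ga S),
      (List.ofFn (fun k => z k ≫ D.u (e (Fin.cast h (Fin.natAdd i k))))).prod =
        (List.ofFn (fun k => x k ≫ D.u (e k))).prod *
          (List.ofFn (fun k => y k ≫ D.u (e (Fin.cast h (Fin.natAdd i k))))).prod *
            ((List.ofFn (fun k => x k ≫ D.u (e k))).prod)⁻¹ ∧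
      ∀ k : Fin m, (k : ℕ) = 0 → z k = y k) := by
  classical
  haveI : ∀ c, IsMonHom (D.u c) := fun c => (D.rootHom c).1
  obtain ⟨mu, hmu⟩ := exists_mu (D := D) hrange
  have hF := filt_ordLv he hrange hmono
  let e' := tailEnum e i m h
  have he' : Function.Injective e' := tailEnum_injective he h
  have hmu' : ∀ k, 0 < mu (D.P.root (e' k)) := fun k => hmu _
  have htail := mem_tail_iff (e := e) he h
  have hl : ∀ c, c ∈ List.ofFn e ↔ c ∈ Set.range e := fun c => by rw [List.mem_ofFn, Set.mem_range]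
  have hnd : (List.ofFn e).Nodup := List.nodup_ofFn.2 he
  haveI hP := (affSmooth_span (S := S) (k := m))
  haveI hQ := (affSmooth_span (S := S) (k := N))
  have hmem : ∀ {R : Type u} [CommRing R] {j : Spec (CommRingCat.of R) ⟶ S} [IsOpenImmersion j] {C : Type u}
      [CommRing C] [Algebra R C] (t : Sp j C ⟶ RedSub.pow (Red.Ga S) m),
      t ≫ spanMap D e' ∈ gen j C D.u (Set.range e) (ordLv e) (i + 1) := by
    intro R _ j _ C _ _ t
    obtain ⟨x, hx, -⟩ := exists_span_coords he' t
    rw [hx]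
    exact rootProd_mem_gen D.rootHom fun c hc _ => (htail c).1 (List.mem_ofFn.1 hc)
  have hmem0 : ∀ {R : Type u} [CommRing R] {j : Spec (CommRingCat.of R) ⟶ S} [IsOpenImmersion j] {C : Type u}
      [CommRing C] [Algebra R C] (t : Sp j C ⟶ RedSub.pow (Red.Ga S) N),
      t ≫ spanMap D e ∈ gen j C D.u (Set.range e) (ordLv e) 0 := by
    intro R _ j _ C _ _ t
    obtain ⟨x, hx, -⟩ := exists_span_coords he t
    rw [hx]
    exact rootProd_mem_gen D.rootHom fun c hc _ => ⟨(hl c).1 hc, Nat.zero_le _⟩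
  refine ⟨fun X y y' => ?_, fun X y => ?_, fun X t y => ?_, fun X x y => ?_⟩
  · haveI := (hP.tensor hP).1
    obtain ⟨w, hw⟩ := exists_span_lift he' hmu' hF htail
      ((fst (RedSub.pow (Red.Ga S) m) (RedSub.pow (Red.Ga S) m) ≫ spanMap D e') * (snd _ _ ≫ spanMap D e'))
      fun R _ j _ => by
        rw [MonObj.comp_mul, ← Category.assoc, ← Category.assoc]
        exact mul_mem (hmem _) (hmem _)
    refine ⟨fun k => (lift (tup m y) (tup m y') ≫ w) ≫ proj _ m k, ?_⟩
    refine (comp_span (D := D) (e := e') (lift (tup m y) (tup m y') ≫ w)).symm.trans ?_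
    rw [Category.assoc, hw, MonObj.comp_mul, lift_fst_assoc, lift_snd_assoc, tup_comp, tup_comp]
    rfl
  · haveI := hP.1
    obtain ⟨w, hw⟩ := exists_span_lift he' hmu' hF htail (spanMap D e')⁻¹ fun R _ j _ => by
      rw [GrpObj.comp_inv]
      exact inv_mem (hmem _)
    refine ⟨fun k => (tup m y ≫ w) ≫ proj _ m k, ?_⟩
    refine (comp_span (D := D) (e := e') (tup m y ≫ w)).symm.trans ?_
    rw [Category.assoc, hw, GrpObj.comp_inv, tup_comp]
    rfl
  · haveI := ((affSmooth_torus D).tensor hP).1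
    obtain ⟨w, hw⟩ := exists_span_lift he' hmu' hF htail
      ((fst D.T (RedSub.pow (Red.Ga S) m) ≫ D.i) * (snd _ _ ≫ spanMap D e') * (fst _ _ ≫ D.i)⁻¹)
      fun R _ j _ => by
        obtain ⟨χ, hχ⟩ := exists_tpt (D := D) j (univ j (D.T ⊗ RedSub.pow (Red.Ga S) m) ≫ fst _ _)
        rw [MonObj.comp_mul, MonObj.comp_mul, GrpObj.comp_inv, ← Category.assoc, ← Category.assoc, ← hχ]
        exact conjT_mem_gen χ (hmem _)
    refine ⟨fun k => (lift t (tup m y) ≫ w) ≫ proj _ m k, ?_⟩
    refine (comp_span (D := D) (e := e') (lift t (tup m y) ≫ w)).symm.trans ?_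
    rw [Category.assoc, hw, MonObj.comp_mul, MonObj.comp_mul, GrpObj.comp_inv, lift_fst_assoc, lift_snd_assoc,
      tup_comp]
    rfl
  · haveI := (hQ.tensor hP).1
    obtain ⟨w, hw⟩ := exists_span_lift he' hmu' hF htail
      ((fst (RedSub.pow (Red.Ga S) N) (RedSub.pow (Red.Ga S) m) ≫ spanMap D e) * (snd _ _ ≫ spanMap D e') *
        (fst _ _ ≫ spanMap D e)⁻¹)
      fun R _ j _ => by
        rw [MonObj.comp_mul, MonObj.comp_mul, GrpObj.comp_inv, ← Category.assoc, ← Category.assoc]
        exact (conj_mem_gen D.rootHom hF (hmem0 _) _ (hmem _)).1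
    refine ⟨fun k => (lift (tup N x) (tup m y) ≫ w) ≫ proj _ m k, ?_, fun k hk => ?_⟩
    · refine (comp_span (D := D) (e := e') (lift (tup N x) (tup m y) ≫ w)).symm.trans ?_
      rw [Category.assoc, hw, MonObj.comp_mul, MonObj.comp_mul, GrpObj.comp_inv, lift_fst_assoc, lift_snd_assoc,
        tup_comp, tup_comp]
      rfl
    have key : w ≫ proj _ m k = snd _ _ ≫ proj _ m k := by
      cases m with
      | zero => exact k.elim0
      | succ m' =>
        obtain rfl : k = 0 := Fin.ext hk
        refine hom_ext_open fun R _ j _ C _ _ t => ?_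
        obtain ⟨a, ha, ha'⟩ := exists_span_coords he' (t ≫ snd _ _)
        obtain ⟨z, hz, hz'⟩ := exists_span_coords he' (t ≫ w)
        rw [← Category.assoc, ← Category.assoc, ha', hz']
        congr 1
        have hc0 : e' 0 ∈ Set.range e ∧ i + 1 ≤ ordLv e (e' 0) := (htail _).1 ⟨0, rfl⟩
        have hlv : ordLv e (e' 0) = i + 1 := by
          show ordLv e (e _) = _
          rw [ordLv_apply he]; simp
        have hhead : ∀ a : D.idx → C, ∃ r ∈ gen j C D.u (Set.range e) (ordLv e) (i + 1 + 1),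
            rootProd j D.u (List.ofFn e') a = (gp j (a (e' 0)) ≫ D.u (e' 0)) * r := fun a => by
          refine ⟨rootProd j D.u (List.ofFn fun k : Fin m' => e' k.succ) a,
            rootProd_mem_gen D.rootHom fun c hc _ => ?_, ?_⟩
          · obtain ⟨k, rfl⟩ := List.mem_ofFn.1 hc
            refine ⟨⟨_, rfl⟩, ?_⟩
            show _ ≤ ordLv e (e _)
            rw [ordLv_apply he]; simp
          · simp [rootProd, List.ofFn_succ]
        obtain ⟨ra, hra, ea⟩ := hhead a
        obtain ⟨rz, hrz, ez⟩ := hhead z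
        obtain ⟨x', hx', ex'⟩ := exists_conj_coord (j := j) hF hnd hl hc0.1 hc0.2 hra
          (hmem0 (t ≫ fst _ _)) (a (e' 0))
        have hzt : rootProd j D.u (List.ofFn e') z =
            ((t ≫ fst _ _) ≫ spanMap D e) * ((t ≫ snd _ _) ≫ spanMap D e') * ((t ≫ fst _ _) ≫ spanMap D e)⁻¹ := by
          rw [← hz, Category.assoc, hw, MonObj.comp_mul, MonObj.comp_mul, GrpObj.comp_inv, ← Category.assoc,
            ← Category.assoc]
        rw [ha, ea, ex', ez] at hzt
        refine sub_eq_zero.1 (eq_zero_of_mem_gen (j := j) hF hnd hl (mu := mu) (fun c hc => by obtain ⟨q, rfl⟩ := hc; exact hmu q)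
          hc0.1 (show ordLv e (e' 0) < i + 1 + 1 by omega) ?_)
        rw [sub_eq_neg_add, gp_add, gp_neg, MonObj.mul_comp, GrpObj.inv_comp,
          eq_mul_inv_iff_mul_eq.2 hzt, show ∀ A B C' : Sp j C ⟶ G, A⁻¹ * (A * B * C'⁻¹) = B * C'⁻¹ from
            fun A B C' => by group]
        exact mul_mem (rootProd_mem_gen D.rootHom fun c hc hc' => ⟨(hl c).1 hc, hx' c hc'⟩) (inv_mem hrz)
    show (lift (tup N x) (tup m y) ≫ w) ≫ proj _ m k = y k
    rw [Category.assoc, key, lift_snd_assoc, tup_proj]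

end Groth.Agent.S6101
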