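import Groth.Statements.S6104
import Groth.Agent.L14.Coroot.Hom

set_option autoImplicit false
set_option backward.isDefEq.respectTransparency.types false
set_option linter.style.haveILetI false
open CategoryTheory MonoidalCategory CartesianMonoidalCategory MonObj GrpObj AlgebraicGeometry
universe u
open RedSub

open Groth.L14.RankOne Groth.L25 Groth.L14.Chart Groth.L14.Chev.Cell
namespace Groth.Agent.S6104

/-- Let G be a split reductive S-group (splitting D, T ≅ D_S(M), system of simple roots b, big cell Ω =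
U⁻ · T · U for enumerations of the negative and positive roots), N = {m | (α*, m) = 0 for all
coroots}, T' = D_S(M/N) ⊆ T and Ω' = U⁻ · T' · U. For every S-point w of G normalising T there is an
open V_w ⊆ G containing the unit section such that int(w)Ω' ∩ V_w ⊆ Ω': if g is a point of Ω' and
the point w g w⁻¹ of G lies in V_w, then w g w⁻¹ is a point of Ω'. -/
theorem result {S : Scheme.{u}} {G : Over S} [GrpObj G] (D : Red.SplitRed G)
    (b : D.P.Base) {n m : ℕ} (eneg : Fin n → D.idx) (epos : Fin m → D.idx)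
    (hneg : RedSub.Enumerates (RedSub.negRoots D.P b) eneg) (hpos : RedSub.Enumerates (RedSub.posRoots D.P b) epos)
    (N : AddSubgroup D.M) (hN : ∀ x : D.M, x ∈ N ↔ ∀ c : D.idx, D.P.coroot c x = 0)
    (w : 𝟙_ (Over S) ⟶ G)
    (hw : ∀ (X : Over S) (t : X ⟶ D.T), (∃ t' : X ⟶ D.T, (toUnit X ≫ w) * (t ≫ D.i) * (toUnit X ≫ w)⁻¹ = t' ≫ D.i) ∧
      (∃ t' : X ⟶ D.T, (toUnit X ≫ w)⁻¹ * (t ≫ D.i) * (toUnit X ≫ w) = t' ≫ D.i)) :
    ∃ V : Set ↥G.left, IsOpen V ∧ Set.range η[G].left.base ⊆ V ∧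
      ∀ (X : Over S) (g : X ⟶ RedSub.pow (Red.Ga S) n ⊗ (Red.DS S (D.M ⧸ N) ⊗ RedSub.pow (Red.Ga S) m)),
        Set.range ((toUnit X ≫ w) * (g ≫ ((fst _ _ ≫ RedSub.prodMap (Red.Ga S) n (fun k => D.u (eneg k))) *
        ((snd _ _ ≫ fst _ _ ≫ Red.DSmap S (QuotientAddGroup.mk' N) ≫ D.split.inv.hom.hom ≫ D.i) *
          (snd _ _ ≫ snd _ _ ≫ RedSub.prodMap (Red.Ga S) m (fun k => D.u (epos k)))))) * (toUnit X ≫ w)⁻¹).left.base ⊆ V →
        ∃ g' : X ⟶ RedSub.pow (Red.Ga S) n ⊗ (Red.DS S (D.M ⧸ N) ⊗ RedSub.pow (Red.Ga S) m),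
          (toUnit X ≫ w) * (g ≫ ((fst _ _ ≫ RedSub.prodMap (Red.Ga S) n (fun k => D.u (eneg k))) *
        ((snd _ _ ≫ fst _ _ ≫ Red.DSmap S (QuotientAddGroup.mk' N) ≫ D.split.inv.hom.hom ≫ D.i) *
          (snd _ _ ≫ snd _ _ ≫ RedSub.prodMap (Red.Ga S) m (fun k => D.u (epos k)))))) * (toUnit X ≫ w)⁻¹ = g' ≫ ((fst _ _ ≫ RedSub.prodMap (Red.Ga S) n (fun k => D.u (eneg k))) *
        ((snd _ _ ≫ fst _ _ ≫ Red.DSmap S (QuotientAddGroup.mk' N) ≫ D.split.inv.hom.hom ≫ D.i) *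
          (snd _ _ ≫ snd _ _ ≫ RedSub.prodMap (Red.Ga S) m (fun k => D.u (epos k))))) := by
  haveI := isOpenImmersion_cellMap hneg hpos
  haveI := isMonHom_i (D := D)
  obtain ⟨F, hF, hFc, hFi⟩ := Groth.L14.Coroot.exists_torusHom D b N hneg hpos (fun x hx => (hN x).1 hx)
  refine ⟨Set.range (RedSub.cellMap D eneg epos).left,
    (RedSub.cellMap D eneg epos).left.isOpenEmbedding.isOpen_range, ?_, fun X g hr => ?_⟩
  · rintro _ ⟨p, rfl⟩
    refine ⟨((1 : 𝟙_ (Over S) ⟶ D.T) ≫ Groth.L14.Coroot.torPt D n m).left p, ?_⟩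
    rw [← Scheme.Hom.comp_apply, ← Over.comp_left, Category.assoc, Groth.L14.Coroot.torPt_cellMap,
      MonObj.one_comp, MonObj.one_eq_one]
  · obtain ⟨w₁, hw₁⟩ := Groth.L14.CellHom.exists_lift_of_mem (RedSub.cellMap D eneg epos) _ hr
    haveI := hF
    obtain ⟨g', hg'⟩ := Groth.L14.Coroot.exists_cellPrime hFc w₁ (by
      rw [hw₁]
      let Φ : (X ⟶ G) →* (X ⟶ Red.DS S ↥N) := MonoidHom.mk' (fun p => p ≫ F) fun p q => MonObj.mul_comp p q F
      have h1 := Groth.L14.Coroot.cellPrime_comp hFc hFi g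
      change Φ _ = 1 at h1
      show Φ _ = 1
      rw [map_mul, map_mul, map_inv, h1, _root_.mul_one, _root_.mul_inv_cancel])
    exact ⟨g', (hg'.trans hw₁).symm⟩

end Groth.Agent.S6104
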