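import Groth.Statements.S6105
import Groth.Agent.L14.Coroot.Hom

set_option autoImplicit false
set_option backward.isDefEq.respectTransparency.types false
set_option linter.style.haveILetI false
open CategoryTheory MonoidalCategory CartesianMonoidalCategory MonObj GrpObj AlgebraicGeometry
universe u
open RedSub

open Groth.L14.RankOne Groth.L25 Groth.L14.Chart Groth.L14.Chev.Cell
namespace Groth.Agent.S6105

/-- Let G be a split reductive S-group (splitting D, T ≅ D_S(M), system of simple roots b, enumerations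
of the negative and positive roots, U = ∏_{a > 0} U_a, U⁻ = ∏_{a < 0} U_a), N = {m | (α*, m) = 0 for
all coroots}, T' = D_S(M/N) ⊆ T and Ω' = U⁻ · T' · U. Then there is an open V₀ ⊆ G containing the
unit section such that U(S') U⁻(S') ∩ V₀(S') ⊆ Ω'(S') for every S': a product x y of a point x of U
and a point y of U⁻ which lies in V₀ is a point of Ω'. -/
theorem result {S : Scheme.{u}} {G : Over S} [GrpObj G]
    (D : Red.SplitRed G) (b : D.P.Base) {n m : ℕ} (eneg : Fin n → D.idx) (epos : Fin m → D.idx)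
    (hneg : RedSub.Enumerates (RedSub.negRoots D.P b) eneg) (hpos : RedSub.Enumerates (RedSub.posRoots D.P b) epos)
    (N : AddSubgroup D.M) (hN : ∀ x : D.M, x ∈ N ↔ ∀ c : D.idx, D.P.coroot c x = 0) :
    ∃ V : Set ↥G.left, IsOpen V ∧ Set.range η[G].left.base ⊆ V ∧
      ∀ (X : Over S) (x : X ⟶ RedSub.pow (Red.Ga S) m) (y : X ⟶ RedSub.pow (Red.Ga S) n),
        Set.range ((x ≫ RedSub.prodMap (Red.Ga S) m (fun k => D.u (epos k))) *
          (y ≫ RedSub.prodMap (Red.Ga S) n (fun k => D.u (eneg k)))).left.base ⊆ V →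
        ∃ g' : X ⟶ RedSub.pow (Red.Ga S) n ⊗ (Red.DS S (D.M ⧸ N) ⊗ RedSub.pow (Red.Ga S) m),
          (x ≫ RedSub.prodMap (Red.Ga S) m (fun k => D.u (epos k))) *
            (y ≫ RedSub.prodMap (Red.Ga S) n (fun k => D.u (eneg k))) = g' ≫ ((fst _ _ ≫ RedSub.prodMap (Red.Ga S) n (fun k => D.u (eneg k))) *
        ((snd _ _ ≫ fst _ _ ≫ Red.DSmap S (QuotientAddGroup.mk' N) ≫ D.split.inv.hom.hom ≫ D.i) *
          (snd _ _ ≫ snd _ _ ≫ RedSub.prodMap (Red.Ga S) m (fun k => D.u (epos k))))) := by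
  haveI := isOpenImmersion_cellMap hneg hpos
  haveI := isMonHom_i (D := D)
  obtain ⟨F, hF, hFc, -⟩ := Groth.L14.Coroot.exists_torusHom D b N hneg hpos (fun x hx => (hN x).1 hx)
  refine ⟨Set.range (RedSub.cellMap D eneg epos).left,
    (RedSub.cellMap D eneg epos).left.isOpenEmbedding.isOpen_range, ?_, fun X x y hr => ?_⟩
  · rintro _ ⟨p, rfl⟩
    refine ⟨((1 : 𝟙_ (Over S) ⟶ D.T) ≫ Groth.L14.Coroot.torPt D n m).left p, ?_⟩
    rw [← Scheme.Hom.comp_apply, ← Over.comp_left, Category.assoc, Groth.L14.Coroot.torPt_cellMap,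
      MonObj.one_comp, MonObj.one_eq_one]
  · obtain ⟨w, hw⟩ := Groth.L14.CellHom.exists_lift_of_mem (RedSub.cellMap D eneg epos) _ hr
    haveI := hF
    obtain ⟨g', hg'⟩ := Groth.L14.Coroot.exists_cellPrime hFc w (by
      rw [hw, MonObj.mul_comp, Groth.L14.Coroot.prodMap_comp_pos hFc, Groth.L14.Coroot.prodMap_comp_neg hFc,
        _root_.one_mul])
    exact ⟨g', (hg'.trans hw).symm⟩

end Groth.Agent.S6105
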