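import Groth.Statements.S6108
import Groth.Agent.S6101
import Groth.Agent.L14.Chev.Cell.Ordered

set_option autoImplicit false
set_option linter.style.haveILetI false
set_option linter.unusedSimpArgs false
set_option backward.isDefEq.respectTransparency.types false
open CategoryTheory MonoidalCategory CartesianMonoidalCategory MonObj GrpObj AlgebraicGeometry
universe u
open RedSub Groth.L14.Chev.Cell

namespace Groth.Agent.S6108

/-- Let G be a split reductive S-group (splitting D with root homomorphisms u_a, lattice M), fix a total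
order on M compatible with addition, let a_1 < ⋯ < a_N be the positive roots enumerated increasingly
by e, and let f_1, …, f_N : G_a ⟶ H be homomorphisms into an S-group scheme H. Let F be the map
u_{a_1}(x_1) ⋯ u_{a_N}(x_N) ↦ f_1(x_1) ⋯ f_N(x_N) on points of U = U_{a_1} ⋯ U_{a_N}. Then F is
multiplicative if and only if, for all i < j and all points a, c of G_a, F applied to the
coordinates of u_{a_j}(c) u_{a_i}(a) u_{a_j}(c)⁻¹ equals f_j(c) f_i(a) f_j(c)⁻¹. (The published
statement allows H to be any group functor over S; this row takes H to be a group scheme over S.) -/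
theorem result {S : Scheme.{u}} {G H : Over S} [GrpObj G] [GrpObj H]
    (D : Red.SplitRed G) [LinearOrder D.M] [IsOrderedAddMonoid D.M] {N : ℕ} (e : Fin N → D.idx)
    (he : Function.Injective e) (hrange : ∀ a : D.idx, a ∈ Set.range e ↔ 0 < D.P.root a)
    (hmono : StrictMono (fun k => D.P.root (e k))) (f : Fin N → (Red.Ga S ⟶ H)) (hf : ∀ k, IsMonHom (f k)) :
    (∀ (X : Over S) (x y z : Fin N → (X ⟶ Red.Ga S)),
      (List.ofFn (fun k => z k ≫ D.u (e k))).prod =
          (List.ofFn (fun k => x k ≫ D.u (e k))).prod * (List.ofFn (fun k => y k ≫ D.u (e k))).prod →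
        (List.ofFn (fun k => z k ≫ f k)).prod =
          (List.ofFn (fun k => x k ≫ f k)).prod * (List.ofFn (fun k => y k ≫ f k)).prod) ↔
    (∀ (X : Over S) (i j : Fin N), i < j → ∀ (a c : X ⟶ Red.Ga S) (z : Fin N → (X ⟶ Red.Ga S)),
      (List.ofFn (fun k => z k ≫ D.u (e k))).prod = (c ≫ D.u (e j)) * (a ≫ D.u (e i)) * (c ≫ D.u (e j))⁻¹ →
        (List.ofFn (fun k => z k ≫ f k)).prod = (c ≫ f j) * (a ≫ f i) * (c ≫ f j)⁻¹) := by
  classical
  haveI : ∀ c, IsMonHom (D.u c) := fun c => (D.rootHom c).1
  haveI := hf
  obtain ⟨mu, hmu⟩ := exists_mu (D := D) hrange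
  haveI := mono_spanMap (D := D) he hmu
  let P : ∀ {X : Over S}, (Fin N → (X ⟶ Red.Ga S)) → (X ⟶ G) := fun x => (List.ofFn fun k => x k ≫ D.u (e k)).prod
  let F : ∀ {X : Over S}, (Fin N → (X ⟶ Red.Ga S)) → (X ⟶ H) := fun x => (List.ofFn fun k => x k ≫ f k).prod
  have huniq : ∀ {X : Over S} {x y : Fin N → (X ⟶ Red.Ga S)}, P x = P y → x = y := fun {X x y} h => funext fun k => by
    have h' : tup N x ≫ spanMap D e = tup N y ≫ spanMap D e := by rw [tup_comp, tup_comp]; exact h
    rw [← tup_proj x k, (cancel_mono (spanMap D e)).1 h', tup_proj]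
  let Supp : ℕ → ∀ {X : Over S}, (Fin N → (X ⟶ Red.Ga S)) → Prop := fun i X x => ∀ k : Fin N, (k : ℕ) < i → x k = 1
  -- peeling the lowest coordinate
  have peel : ∀ {X : Over S} {M : Over S} [GrpObj M] (g : Fin N → (Red.Ga S ⟶ M)) (_ : ∀ k, IsMonHom (g k))
      (x : Fin N → (X ⟶ Red.Ga S)) (i : Fin N), Supp i x →
        (List.ofFn fun k => x k ≫ g k).prod =
          (x i ≫ g i) * (List.ofFn fun k => Function.update x i 1 k ≫ g k).prod := by
    intro X M _ g hg x i hx
    have key : ∀ (n : ℕ) (a : Fin n → (X ⟶ M)) (i : Fin n), (∀ k : Fin n, (k : ℕ) < i → a k = 1) →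
        (List.ofFn a).prod = a i * (List.ofFn (Function.update a i 1)).prod := by
      intro n
      induction n with
      | zero => exact fun a i => i.elim0
      | succ n ih =>
        intro a i ha
        induction i using Fin.cases with
        | zero =>
          rw [List.ofFn_succ, List.ofFn_succ, List.prod_cons, List.prod_cons, Function.update_self, _root_.one_mul]
          simp [Function.update_of_ne, Fin.succ_ne_zero]
        | succ i =>
          have e0 : Function.update a i.succ 1 0 = 1 := by
            rw [Function.update_of_ne (Fin.succ_ne_zero i).symm]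
            exact ha 0 (Nat.succ_pos _)
          rw [List.ofFn_succ, List.ofFn_succ, List.prod_cons, List.prod_cons, e0, ha 0 (Nat.succ_pos _),
            _root_.one_mul, _root_.one_mul, ih (fun k => a k.succ) i fun k hk => ha k.succ (by simpa using hk)]
          congr 3
          funext k
          by_cases hk : k = i
          · subst hk; simp
          · rw [Function.update_of_ne hk, Function.update_of_ne fun h => hk (Fin.succ_injective _ h)]
    rw [key N (fun k => x k ≫ g k) i fun k hk => by rw [hx k hk]; haveI := hg k; exact MonObj.one_comp _]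
    congr 3
    funext k
    by_cases hk : k = i
    · subst hk; haveI := hg k; simp [MonObj.one_comp]
    · simp [Function.update_of_ne hk]
  have Ppeel : ∀ {X : Over S} (x : Fin N → (X ⟶ Red.Ga S)) (i : Fin N), Supp i x →
      P x = (x i ≫ D.u (e i)) * P (Function.update x i 1) := fun x i => peel (fun k => D.u (e k)) (fun k => inferInstance) x i
  have Fpeel : ∀ {X : Over S} (x : Fin N → (X ⟶ Red.Ga S)) (i : Fin N), Supp i x →
      F x = (x i ≫ f i) * F (Function.update x i 1) := fun x i => peel f hf x i
  have supp_update : ∀ {X : Over S} (x : Fin N → (X ⟶ Red.Ga S)) (i : Fin N), Supp i x →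
      Supp (i + 1) (Function.update x i 1) := fun x i hx k hk => by
    by_cases h : k = i
    · subst h; simp
    · rw [Function.update_of_ne h]
      exact hx k (Nat.lt_of_le_of_ne (Nat.lt_succ_iff.1 hk) fun h' => h (Fin.ext h'))
  have one_eq : ∀ {X : Over S} (x : Fin N → (X ⟶ Red.Ga S)), Supp N x → F x = 1 ∧ P x = 1 := fun x hx => by
    have hx1 : ∀ k, x k = 1 := fun k => hx k k.2
    constructor <;> refine List.prod_eq_one fun g hg => ?_ <;> obtain ⟨k, rfl⟩ := List.mem_ofFn.1 hg <;>
      simp [hx1, MonObj.one_comp]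
  let single : ∀ {X : Over S}, Fin N → (X ⟶ Red.Ga S) → (Fin N → (X ⟶ Red.Ga S)) := fun i a => Function.update (fun _ => 1) i a
  have supp_single : ∀ {X : Over S} (i : Fin N) (a : X ⟶ Red.Ga S) (l : ℕ), l ≤ i → Supp l (single i a) :=
    fun i a l hl k hk => Function.update_of_ne (fun h => by subst h; omega) _ _
  have single_P : ∀ {X : Over S} (i : Fin N) (a : X ⟶ Red.Ga S), P (single i a) = a ≫ D.u (e i) ∧ F (single i a) = a ≫ f i := by
    intro X i a
    have h1 : (Function.update (single i a) i 1 : Fin N → (X ⟶ Red.Ga S)) = fun _ => 1 := by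
      simp [single]
    obtain ⟨hF1, hP1⟩ := one_eq (fun _ => (1 : X ⟶ Red.Ga S)) fun _ _ => rfl
    rw [Ppeel _ i (supp_single i a i le_rfl), Fpeel _ i (supp_single i a i le_rfl), h1, hF1, hP1, _root_.mul_one,
      _root_.mul_one]
    simp [single]
  -- conversion with the tails
  have split : ∀ {X : Over S} (i m : ℕ) (h : i + m = N) (x : Fin N → (X ⟶ Red.Ga S)), Supp i x →
      P x = (List.ofFn fun k => x (Fin.cast h (Fin.natAdd i k)) ≫ D.u (e (Fin.cast h (Fin.natAdd i k)))).prod := by
    intro X i m h x hx
    subst h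
    show (List.ofFn fun k => x k ≫ D.u (e k)).prod = _
    rw [List.ofFn_add, List.prod_append, List.prod_eq_one (fun g hg => ?_), _root_.one_mul]
    · rfl
    · obtain ⟨k, rfl⟩ := List.mem_ofFn.1 hg
      rw [hx _ (by simp)]
      exact MonObj.one_comp _
  have ext : ∀ {X : Over S} (i m : ℕ) (h : i + m = N) (y : Fin m → (X ⟶ Red.Ga S)),
      ∃ z, Supp i z ∧ P z = (List.ofFn fun k => y k ≫ D.u (e (Fin.cast h (Fin.natAdd i k)))).prod := by
    intro X i m h y
    refine ⟨fun k => if hk : i ≤ k then y ⟨(k : ℕ) - i, by omega⟩ else 1, fun k hk => dif_neg (by omega), ?_⟩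
    rw [split i m h _ fun k hk => dif_neg (by omega)]
    congr 2
    funext k
    simp
  have mulE : ∀ {X : Over S} (i : ℕ), i ≤ N → ∀ x y : Fin N → (X ⟶ Red.Ga S), Supp i x → Supp i y →
      ∃ z, Supp i z ∧ P z = P x * P y := by
    intro X i hi x y hx hy
    obtain ⟨m, hm⟩ := Nat.exists_eq_add_of_le hi
    obtain ⟨z, hz⟩ := (Groth.Agent.S6101.result D e he hrange hmono i m hm.symm).1 X
      (fun k => x (Fin.cast hm.symm (Fin.natAdd i k))) (fun k => y (Fin.cast hm.symm (Fin.natAdd i k)))
    obtain ⟨z', hz', e'⟩ := ext i m hm.symm z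
    exact ⟨z', hz', by rw [e', hz, split i m hm.symm x hx, split i m hm.symm y hy]⟩
  have conjE : ∀ {X : Over S} (i : ℕ), i ≤ N → ∀ x y : Fin N → (X ⟶ Red.Ga S), Supp i y →
      ∃ z, Supp i z ∧ P z = P x * P y * (P x)⁻¹ := by
    intro X i hi x y hy
    obtain ⟨m, hm⟩ := Nat.exists_eq_add_of_le hi
    obtain ⟨z, hz, -⟩ := (Groth.Agent.S6101.result D e he hrange hmono i m hm.symm).2.2.2 X x
      (fun k => y (Fin.cast hm.symm (Fin.natAdd i k)))
    obtain ⟨z', hz', e'⟩ := ext i m hm.symm z
    exact ⟨z', hz', by rw [e', hz, split i m hm.symm y hy]⟩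
  constructor
  · intro hmul X i j _ a c z hz
    obtain ⟨w, -, hw⟩ := mulE 0 (Nat.zero_le _) (single j c) (single i a) (fun k hk => absurd hk (by omega))
      (fun k hk => absurd hk (by omega))
    have h1 := hmul X _ _ w hw
    have h2 := hmul X w (single j c⁻¹) z (by
      show P z = P w * P (single j c⁻¹)
      rw [hw, (single_P j c).1, (single_P i a).1, (single_P j c⁻¹).1, GrpObj.inv_comp]
      exact hz)
    show F z = _
    rw [show F z = F w * F (single j c⁻¹) from h2, show F w = F (single j c) * F (single i a) from h1,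
      (single_P j c).2, (single_P i a).2, (single_P j c⁻¹).2, GrpObj.inv_comp]
  intro hrel X
  suffices main : ∀ d i, i + d = N → ∀ x y z : Fin N → (X ⟶ Red.Ga S), Supp i x → Supp i y → Supp i z →
      P z = P x * P y → F z = F x * F y from
    fun x y z h => main N 0 (Nat.zero_add N) x y z (fun k hk => absurd hk (by omega))
      (fun k hk => absurd hk (by omega)) (fun k hk => absurd hk (by omega)) h
  intro d
  induction d with
  | zero =>
    intro i hi x y z hx hy hz _
    obtain rfl : i = N := by omega
    rw [(one_eq x hx).1, (one_eq y hy).1, (one_eq z hz).1, _root_.one_mul]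
  | succ d IH =>
    intro i hi x y z hx hy hz hxy
    have IH1 := IH (i + 1) (by omega)
    let i' : Fin N := ⟨i, by omega⟩
    let c := y i'
    -- conjugation by the lowest root point respects the map
    have hconj : ∀ d' l, l + d' = N → i + 1 ≤ l → ∀ x0 w : Fin N → (X ⟶ Red.Ga S), Supp l x0 → Supp (i + 1) w →
        P w = (c ≫ D.u (e i'))⁻¹ * P x0 * (c ≫ D.u (e i')) →
          F w = (c ≫ f i')⁻¹ * F x0 * (c ≫ f i') := by
      intro d'
      induction d' with
      | zero =>
        intro l hl _ x0 w hx0 _ hP
        obtain rfl : l = N := by omega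
        obtain ⟨h1, h2⟩ := one_eq x0 hx0
        obtain ⟨h3, h4⟩ := one_eq (fun _ => (1 : X ⟶ Red.Ga S)) fun _ _ => rfl
        have : P w = P (fun _ => (1 : X ⟶ Red.Ga S)) := by rw [hP, h2, h4]; group
        rw [huniq this, h1, h3]
        group
      | succ d' ihd =>
        intro l hl hil x0 w hx0 hw hP
        let l' : Fin N := ⟨l, by omega⟩
        let p := x0 l'
        let x1 := Function.update x0 l' 1
        obtain ⟨wa, hwa, hPa⟩ := conjE (i + 1) (by omega) (single i' c⁻¹) (single l' p) (supp_single l' p _ hil)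
        obtain ⟨wb, hwb, hPb⟩ := conjE (i + 1) (by omega) (single i' c⁻¹) x1
          (fun k hk => supp_update x0 l' hx0 k (lt_of_lt_of_le hk (hil.trans (Nat.le_succ l))))
        rw [(single_P i' c⁻¹).1, GrpObj.inv_comp, _root_.inv_inv] at hPa hPb
        rw [(single_P l' p).1] at hPa
        have hFw : F w = F wa * F wb := IH1 wa wb w hwa hwb hw (by
          rw [hP, Ppeel x0 l' hx0, hPa, hPb]; group; rfl)
        have hFb := ihd (l + 1) (by omega) (by omega) x1 wb (supp_update x0 l' hx0) hwb hPb
        obtain ⟨r, hr, hPr⟩ := mulE (i + 1) (by omega) wa (single l' p⁻¹) hwa (supp_single l' p⁻¹ _ hil)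
        have hFr : F r = F wa * F (single l' p⁻¹) := IH1 _ _ r hwa (supp_single l' p⁻¹ _ hil) hr hPr
        let z0 := Function.update r i' c
        have hz0 : Supp i z0 := fun k hk => by
          simp only [z0]
          rw [Function.update_of_ne (fun h => by subst h; simp [i'] at hk)]
          exact hr k (by omega)
        have hr1 : Function.update z0 i' 1 = r := funext fun k => by
          by_cases h : k = i'
          · subst h; rw [Function.update_self]; exact (hr i' (Nat.lt_succ_self i)).symm
          · simp [z0, Function.update_of_ne h]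
        have hz0i : z0 i' = c := Function.update_self _ _ _
        have hrel' := hrel X i' l' (by show i < l; omega) c p z0 (by
          show P z0 = _
          rw [Ppeel z0 i' hz0, hz0i, hr1, hPr, hPa, (single_P l' p⁻¹).1, GrpObj.inv_comp]
          group)
        rw [show (List.ofFn fun k => z0 k ≫ f k).prod = F z0 from rfl, Fpeel z0 i' hz0, hz0i, hr1, hFr,
          (single_P l' p⁻¹).2, GrpObj.inv_comp] at hrel'
        have hFa : F wa = (c ≫ f i')⁻¹ * (p ≫ f l') * (c ≫ f i') := by
          calc F wa = (c ≫ f i')⁻¹ * ((c ≫ f i') * (F wa * (p ≫ f l')⁻¹)) * (p ≫ f l') := by group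
            _ = _ := by rw [hrel']; group
        rw [hFw, hFa, hFb, Fpeel x0 l' hx0]
        group
        rfl
    let x0 := Function.update x i' 1
    let y0 := Function.update y i' 1
    obtain ⟨w, hw, hPw⟩ := conjE (i + 1) (by omega) (single i' c⁻¹) x0 (supp_update x i' hx)
    rw [(single_P i' c⁻¹).1, GrpObj.inv_comp, _root_.inv_inv] at hPw
    obtain ⟨t, ht, hPt⟩ := mulE (i + 1) (by omega) w y0 hw (supp_update y i' hy)
    have hFt := IH1 w y0 t hw (supp_update y i' hy) ht hPt
    have hFw := hconj d (i + 1) (by omega) le_rfl x0 w (supp_update x i' hx) hw hPw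
    let z' := Function.update t i' (x i' * c)
    have hz' : Supp i z' := fun k hk => by
      simp only [z']
      rw [Function.update_of_ne (fun h => by subst h; simp [i'] at hk)]
      exact ht k (by omega)
    have ht1 : Function.update z' i' 1 = t := funext fun k => by
      by_cases h : k = i'
      · subst h; rw [Function.update_self]; exact (ht i' (Nat.lt_succ_self i)).symm
      · simp [z', Function.update_of_ne h]
    have hz'i : z' i' = x i' * c := Function.update_self _ _ _
    obtain rfl : z = z' := huniq (by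
      rw [hxy, Ppeel x i' hx, Ppeel y i' hy, Ppeel z' i' hz', hz'i, ht1, hPt, hPw, MonObj.mul_comp]
      simp only [c, x0, y0]
      group)
    rw [Fpeel z' i' hz', hz'i, ht1, hFt, hFw, Fpeel x i' hx, Fpeel y i' hy, MonObj.mul_comp]
    simp only [c, x0, y0]
    group

end Groth.Agent.S6108
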