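import Groth.Statements.S6120
import Mathlib.CategoryTheory.Limits.Shapes.Equalizers
import Mathlib.CategoryTheory.Limits.Shapes.Products
import Mathlib.CategoryTheory.Limits.Shapes.BinaryProducts

set_option autoImplicit false
open CategoryTheory CategoryTheory.Limits Opposite
universe w v₁ v₂ u₁ u₂
open SGA4

namespace Groth.Agent.S6120

/-- Let `I` be a category with a family of objects `i α` (`α : A`) such that every binary product `i α ⨯
i β` exists in `I` and every object of `I` admits a morphism to some `i α`. Let `F : Iᵒᵖ ⥤ C` be a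
functor, and assume that `C` has equalizers and that the products `∏ F (i α)` and `∏ F (i α ⨯ i β)`
exist in `C`. Then the limit of `F` exists, the canonical map `lim F ⟶ ∏ F (i α)` is a monomorphism,
and a map `t : T ⟶ ∏ F (i α)` factors through `lim F` exactly when its composites with the two maps
`∏ F (i α) ⇉ ∏ F (i α ⨯ i β)` induced by the two projections agree: `lim F` is the equalizer of that
pair. (The published statement assumes that `C` has all limits of the size of `A`; only equalizers
and the two products named are assumed here, which is what the equalizer construction uses.) -/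
theorem result
    {I : Type u₁} [Category.{v₁} I] {C : Type u₂} [Category.{v₂} C] {A : Type w} (i : A → I)
    [∀ α β, HasBinaryProduct (i α) (i β)]
    (hcov : ∀ j : I, ∃ α, Nonempty (j ⟶ i α))
    (F : Iᵒᵖ ⥤ C) [HasEqualizers C]
    [HasProduct (fun α => F.obj (op (i α)))]
    [HasProduct (fun p : A × A => F.obj (op (i p.1 ⨯ i p.2)))] :
    HasLimit F ∧ ∀ [HasLimit F],
      Mono (Pi.lift (fun α => limit.π F (op (i α)))) ∧
      ∀ (T : C) (t : T ⟶ ∏ᶜ (fun α => F.obj (op (i α)))),
        (∃ s : T ⟶ limit F, s ≫ Pi.lift (fun α => limit.π F (op (i α))) = t) ↔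
        t ≫ Pi.lift (fun p : A × A =>
            Pi.π (fun α => F.obj (op (i α))) p.1 ≫ F.map (prod.fst : i p.1 ⨯ i p.2 ⟶ i p.1).op) =
        t ≫ Pi.lift (fun p : A × A =>
            Pi.π (fun α => F.obj (op (i α))) p.2 ≫ F.map (prod.snd : i p.1 ⨯ i p.2 ⟶ i p.2).op) := by
  classical
  choose a ha using hcov
  let f₀ : ∀ j, j ⟶ i (a j) := fun j => (ha j).some
  let P := ∏ᶜ (fun α => F.obj (op (i α)))
  let p : P ⟶ _ := Pi.lift (fun p : A × A =>
      Pi.π (fun α => F.obj (op (i α))) p.1 ≫ F.map (prod.fst : i p.1 ⨯ i p.2 ⟶ i p.1).op)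
  let q : P ⟶ _ := Pi.lift (fun p : A × A =>
      Pi.π (fun α => F.obj (op (i α))) p.2 ≫ F.map (prod.snd : i p.1 ⨯ i p.2 ⟶ i p.2).op)
  have indep : ∀ {T : C} (t : T ⟶ P), t ≫ p = t ≫ q → ∀ (j : I) (α β : A) (f : j ⟶ i α) (g : j ⟶ i β),
      t ≫ Pi.π _ α ≫ F.map f.op = t ≫ Pi.π _ β ≫ F.map g.op := by
    intro T t ht j α β f g
    have h1 := ht =≫ Pi.π _ (α, β)
    simp only [Category.assoc, p, q, Pi.lift_π] at h1
    have h2 := h1 =≫ F.map (prod.lift f g).op
    simp only [Category.assoc, ← F.map_comp, ← op_comp, prod.lift_fst, prod.lift_snd] at h2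
    exact h2
  let mkCone : ∀ {T : C} (t : T ⟶ P), t ≫ p = t ≫ q → Cone F := fun {T} t ht =>
    { pt := T
      π := { app := fun j => t ≫ Pi.π _ (a j.unop) ≫ F.map (f₀ j.unop).op
             naturality := fun j k φ => by
               dsimp
               rw [Category.id_comp, Category.assoc, Category.assoc, ← F.map_comp]
               exact indep t ht k.unop _ _ (f₀ k.unop) (φ.unop ≫ f₀ j.unop) } }
  have back : ∀ {T : C} (t : T ⟶ P) (ht : t ≫ p = t ≫ q) (α : A),
      (mkCone t ht).π.app (op (i α)) = t ≫ Pi.π _ α := fun t ht α => by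
    have := indep t ht (i α) _ α (f₀ (i α)) (𝟙 _)
    rw [op_id, F.map_id, Category.comp_id] at this
    exact this
  let toP : ∀ c : Cone F, c.pt ⟶ P := fun c => Pi.lift (fun α => c.π.app (op (i α)))
  have toPeq : ∀ c : Cone F, toP c ≫ p = toP c ≫ q := fun c => by
    refine Pi.hom_ext _ _ (fun x => ?_)
    obtain ⟨α, β⟩ := x
    simp only [Category.assoc, p, q, Pi.lift_π]
    simp only [toP, ← Category.assoc, Pi.lift_π]
    exact (c.w (prod.fst : i α ⨯ i β ⟶ i α).op).trans (c.w (prod.snd : i α ⨯ i β ⟶ i β).op).symm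
  have toPπ : ∀ (c : Cone F) (j : Iᵒᵖ),
      toP c ≫ Pi.π _ (a j.unop) ≫ F.map (f₀ j.unop).op = c.π.app j := fun c j => by
    simp only [toP, ← Category.assoc, Pi.lift_π]
    exact c.w (f₀ j.unop).op
  let L := mkCone (equalizer.ι p q) (equalizer.condition p q)
  have hL : IsLimit L :=
    { lift := fun c => equalizer.lift (toP c) (toPeq c)
      fac := fun c j => by
        show equalizer.lift (toP c) (toPeq c) ≫ equalizer.ι p q ≫ _ = _
        rw [equalizer.lift_ι_assoc]
        exact toPπ c j
      uniq := fun c m hm => by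
        refine equalizer.hom_ext ?_
        rw [equalizer.lift_ι]
        refine Pi.hom_ext _ _ (fun α => ?_)
        rw [Category.assoc, Pi.lift_π, ← hm]
        congr 1
        exact (back _ (equalizer.condition p q) α).symm }
  refine ⟨⟨⟨L, hL⟩⟩, fun {_} => ⟨⟨fun g h e => limit.hom_ext fun j => ?_⟩, fun T t => ⟨?_, fun ht => ?_⟩⟩⟩
  · have e' := (e =≫ Pi.π _ (a j.unop)) =≫ F.map (f₀ j.unop).op
    simp only [Category.assoc, Pi.lift_π_assoc, Limits.limit.w] at e'
    exact e'
  · rintro ⟨s, rfl⟩
    rw [Category.assoc, Category.assoc]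
    exact congrArg (s ≫ ·) (toPeq (limit.cone F))
  · refine ⟨limit.lift F (mkCone t ht), Pi.hom_ext _ _ (fun α => ?_)⟩
    rw [Category.assoc, Pi.lift_π, limit.lift_π]
    exact back t ht α

end Groth.Agent.S6120
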