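import Groth.Statements.S6121
import Groth.Agent.L09.FibBasic

set_option autoImplicit false
open CategoryTheory
universe v₁ v₂ u₁ u₂
open SGA4

namespace Groth.Agent.S6121
open CategoryTheory Category Functor Limits Opposite

/-- For a fibered functor `p : E ⥤ B` (every morphism of `B` has a cartesian lift with prescribed
codomain, and cartesian morphisms compose), `p` reflects isomorphisms if and only if every fibre
category of `p` (objects over `b`, morphisms lying over the identity of `b`) is a groupoid. -/
theorem result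
    {B : Type u₁} [Category.{v₁} B] {E : Type u₂} [Category.{v₂} E] (p : E ⥤ B) [p.IsFibered] :
    p.ReflectsIsomorphisms ↔ ∀ b : B, IsGroupoid (p.Fiber b) := by
  constructor
  · intro h b
    refine ⟨fun {a c} φ => ?_⟩
    have hl : p.IsHomLift (𝟙 b) φ.1 := φ.2
    have : IsIso (p.map φ.1) := by
      rw [IsHomLift.fac' p (𝟙 b) φ.1]; infer_instance
    have : IsIso φ.1 := isIso_of_reflects_iso φ.1 p
    have hinv : p.IsHomLift (𝟙 b) (CategoryTheory.inv φ.1) := IsHomLift.lift_id_inv_isIso p b _
    exact ⟨⟨CategoryTheory.inv φ.1, hinv⟩,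
      Fiber.hom_ext (IsIso.hom_inv_id φ.1), Fiber.hom_ext (IsIso.inv_hom_id φ.1)⟩
  · intro h
    refine ⟨fun {a c} f hf => ?_⟩
    exact Groth.L09.Fib.isIso_of_isFibGrpd p (Groth.L09.Fib.isFibGrpd_of_isFibered p h) (p.map f) f

end Groth.Agent.S6121
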