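import Groth.Statements.S6122
import Groth.Agent.L09.FibBasic

set_option autoImplicit false
open CategoryTheory
universe v₁ v₂ u₁ u₂
open SGA4

namespace Groth.Agent.S6122
open CategoryTheory Category Functor Limits Opposite

/-- For a fibered functor `p : E ⥤ B` (every morphism of `B` has a cartesian lift with prescribed
codomain, and cartesian morphisms compose), `p` is faithful if and only if every fibre category of
`p` (objects over `b`, morphisms lying over the identity of `b`) has at most one morphism between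
any two objects. -/
theorem result
    {B : Type u₁} [Category.{v₁} B] {E : Type u₂} [Category.{v₂} E] (p : E ⥤ B) [p.IsFibered] :
    p.Faithful ↔ ∀ (b : B) (x y : p.Fiber b), Subsingleton (x ⟶ y) := by
  constructor
  · intro h b x y
    refine ⟨fun φ ψ => Fiber.hom_ext (p.map_injective ?_)⟩
    have h1 : p.IsHomLift (𝟙 b) φ.1 := φ.2
    have h2 : p.IsHomLift (𝟙 b) ψ.1 := ψ.2
    exact (IsHomLift.fac' p (𝟙 b) φ.1).trans (IsHomLift.fac' p (𝟙 b) ψ.1).symm
  · intro h
    refine ⟨fun {a c} f g hfg => ?_⟩
    let π := IsPreFibered.pullbackMap (rfl : p.obj c = p.obj c) (p.map f)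
    have : p.IsHomLift (p.map f) g := by rw [hfg]; infer_instance
    let χ₁ := IsCartesian.map p (p.map f) π f
    let χ₂ := IsCartesian.map p (p.map f) π g
    have hz : p.obj (IsPreFibered.pullbackObj (rfl : p.obj c = p.obj c) (p.map f)) = p.obj a :=
      IsPreFibered.pullbackObj_proj _ _
    let x : p.Fiber (p.obj a) := Fiber.mk (rfl : p.obj a = p.obj a)
    let y : p.Fiber (p.obj a) := Fiber.mk hz
    let c₁ : x ⟶ y := ⟨χ₁, IsCartesian.map_isHomLift p (p.map f) π f⟩
    let c₂ : x ⟶ y := ⟨χ₂, IsCartesian.map_isHomLift p (p.map f) π g⟩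
    have hc : χ₁ = χ₂ := congrArg Subtype.val (@Subsingleton.elim _ (h _ x y) c₁ c₂)
    rw [← IsCartesian.fac p (p.map f) π f, ← IsCartesian.fac p (p.map f) π g]
    exact congrArg (· ≫ π) hc

end Groth.Agent.S6122
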