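import Groth.Statements.S6124
import Mathlib.CategoryTheory.Limits.Preserves.Shapes.Pullbacks
import Mathlib.CategoryTheory.Limits.Shapes.Diagonal
import Mathlib.CategoryTheory.Subobject.Lattice
import Mathlib.Tactic.Push

set_option autoImplicit false
open CategoryTheory CategoryTheory.Limits Opposite
universe w v₁ v₂ u₁ u₂
open SGA4

namespace Groth.Agent.S6124
open CategoryTheory Category Functor Limits Opposite

/-- Let `E` have pullbacks, let `P` be a detecting family of objects of `E` (a morphism `f` is
invertible as soon as every map out of an object of `P` factors uniquely through `f`), and let `φ i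
: E ⥤ E' i` be functors preserving pullbacks. Then the `φ i` jointly reflect isomorphisms if and
only if, for every `X` with `P X` and every subobject `X'` of `X` other than `⊤`, some `φ i` takes
the inclusion `X' ⟶ X` to a morphism that is not invertible. -/
theorem result
    {E : Type u₁} [Category.{v₁} E] [HasPullbacks E] (P : ObjectProperty E) (hP : P.IsDetecting)
    {κ : Type w} {E' : κ → Type u₂} [∀ k, Category.{v₂} (E' k)] (φ : ∀ k, E ⥤ E' k)
    [∀ k, PreservesLimitsOfShape WalkingCospan (φ k)] :
    (∀ ⦃X Y : E⦄ (f : X ⟶ Y), (∀ k, IsIso ((φ k).map f)) → IsIso f) ↔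
      ∀ (X : E), P X → ∀ (X' : Subobject X), X' ≠ ⊤ → ∃ k, ¬ IsIso ((φ k).map X'.arrow) := by
  constructor
  · intro h X _ X' hX'
    by_contra hc
    push Not at hc
    have := h X'.arrow hc
    exact hX' (Subobject.eq_top_of_isIso_arrow X')
  · intro h
    -- monos first
    have hmono : ∀ ⦃A B : E⦄ (m : A ⟶ B), Mono m → (∀ k, IsIso ((φ k).map m)) → IsIso m := by
      intro A B m _ hm
      refine hP m fun T hT t => ?_
      have hsub : Subobject.mk (pullback.snd m t) = ⊤ := by
        by_contra hne
        obtain ⟨k, hk⟩ := h T hT _ hne
        apply hk
        have hps : IsIso ((φ k).map (pullback.snd m t)) := by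
          have := hasPullback_of_preservesPullback (φ k) m t
          rw [← PreservesPullback.iso_hom_snd (φ k) m t]
          have := hm k
          infer_instance
        have : (Subobject.mk (pullback.snd m t)).arrow =
            (Subobject.underlyingIso (pullback.snd m t)).hom ≫ pullback.snd m t :=
          (Subobject.underlyingIso_hom_comp_eq_mk _).symm
        rw [this, Functor.map_comp]
        infer_instance
      have : IsIso (pullback.snd m t) := (Subobject.isIso_iff_mk_eq_top _).mpr hsub
      refine ⟨CategoryTheory.inv (pullback.snd m t) ≫ pullback.fst m t, ?_, fun y hy => ?_⟩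
      · simp [assoc, pullback.condition]
      · rw [← cancel_mono m]; simp [assoc, pullback.condition, hy]
    intro X Y f hf
    have hm : Mono f := by
      refine (pullback.isIso_diagonal_iff f).mp (hmono _ inferInstance fun k => ?_)
      have := hf k
      have h1 : IsIso ((φ k).map (pullback.fst f f)) := by
        rw [← PreservesPullback.iso_hom_fst (φ k) f f]; infer_instance
      have h2 : (φ k).map (pullback.diagonal f) ≫ (φ k).map (pullback.fst f f) = 𝟙 _ := by
        rw [← (φ k).map_comp, pullback.diagonal_fst, (φ k).map_id]
      exact IsIso.of_isIso_fac_right h2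
    exact hmono f hm hf

end Groth.Agent.S6124
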