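import Groth.Statements.S6126
import Groth.Agent.L09.LanInd
import Groth.Prelude.Def_SGA4a
import Mathlib.CategoryTheory.Subobject.Basic
import Mathlib.CategoryTheory.Limits.Shapes.Diagonal
import Mathlib.CategoryTheory.Preadditive.Injective.Basic
import Mathlib.CategoryTheory.Sites.LocallyBijective
import Mathlib.CategoryTheory.Sites.Limits

set_option autoImplicit false
open CategoryTheory CategoryTheory.Limits
universe v₁ u₁
open SGA4

namespace Groth.Agent.S6126
open CategoryTheory Category Functor Limits Opposite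

/-- Let `E` be a category with `v₁`-small hom-sets admitting a separating family of objects `G t`
indexed by a `v₁`-small type, in which every object admits a monomorphism into an injective object.
Assume that each coproduct `G t ⨿ G t` exists and that every morphism out of `G t ⨿ G t` factors as
an effective epimorphism followed by a monomorphism. Then `E` admits a coseparating family of
injective objects indexed by a `v₁`-small type. (The published statement moreover bounds the size of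
this family in terms of the hom-sets `Hom (G t', G t ⨿ G t)`; only existence is stated here. The
published statement speaks of generating and cogenerating families; its proof uses and produces
joint faithfulness of maps out of, resp. into, the family, which is the sense taken here.) -/
theorem result
    {E : Type u₁} [Category.{v₁} E] {ι : Type v₁} (G : ι → E)
    (hG : (ObjectProperty.ofObj G).IsSeparating)
    [EnoughInjectives E] [∀ t, HasBinaryCoproduct (G t) (G t)]
    (hfac : ∀ (t : ι) (X : E) (f : G t ⨿ G t ⟶ X),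
      ∃ (Y : E) (e : G t ⨿ G t ⟶ Y) (m : Y ⟶ X), EffectiveEpi e ∧ Mono m ∧ e ≫ m = f) :
    ∃ (κ : Type v₁) (H : κ → E),
      (∀ k, Injective (H k)) ∧ (ObjectProperty.ofObj H).IsCoseparating := by
  let R : ∀ (t : ι) {Z : E}, (G t ⨿ G t ⟶ Z) → Set (Σ s, (G s ⟶ G t ⨿ G t) × (G s ⟶ G t ⨿ G t)) :=
    fun t Z e => {p | p.2.1 ≫ e = p.2.2 ≫ e}
  let κ := {p : Σ t : ι, Set (Σ s, (G s ⟶ G t ⨿ G t) × (G s ⟶ G t ⨿ G t)) //
    ∃ (Z : E) (e : G p.1 ⨿ G p.1 ⟶ Z), EffectiveEpi e ∧ R p.1 e = p.2}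
  choose Z e he hR using fun p : κ => p.2
  refine ⟨κ, fun p => Injective.under (Z p), fun p => inferInstance, ?_⟩
  intro X Y f g hfg
  refine hG f g fun T hT x => ?_
  obtain ⟨t⟩ := hT
  obtain ⟨W, q, m, hq, hm, hqm⟩ := hfac t Y (coprod.desc (x ≫ f) (x ≫ g))
  let p : κ := ⟨⟨t, R t q⟩, W, q, hq, rfl⟩
  have hd : ∀ {A : E} (g₁ g₂ : A ⟶ G t ⨿ G t), g₁ ≫ q = g₂ ≫ q → g₁ ≫ e p = g₂ ≫ e p := by
    intro A g₁ g₂ h
    refine hG _ _ fun S hS a => ?_
    obtain ⟨s⟩ := hS
    have : (⟨s, a ≫ g₁, a ≫ g₂⟩ : Σ s, (G s ⟶ G t ⨿ G t) × (G s ⟶ G t ⨿ G t)) ∈ R p.1.1 (e p) := by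
      rw [hR p]
      show (a ≫ g₁) ≫ q = (a ≫ g₂) ≫ q
      rw [assoc, assoc, h]
    exact (assoc _ _ _).symm.trans (Eq.trans this (assoc _ _ _))
  have hd' : ∀ {A : E} (g₁ g₂ : A ⟶ G t ⨿ G t), g₁ ≫ e p = g₂ ≫ e p → g₁ ≫ q = g₂ ≫ q := by
    intro A g₁ g₂ h
    refine hG _ _ fun S hS a => ?_
    obtain ⟨s⟩ := hS
    have : (⟨s, a ≫ g₁, a ≫ g₂⟩ : Σ s, (G s ⟶ G t ⨿ G t) × (G s ⟶ G t ⨿ G t)) ∈ R p.1.1 q := by
      show _ ∈ p.1.2
      rw [← hR p]
      show (a ≫ g₁) ≫ e p = (a ≫ g₂) ≫ e p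
      rw [assoc, assoc, h]
    exact (assoc _ _ _).symm.trans (Eq.trans this (assoc _ _ _))
  let φ : W ⟶ Z p := EffectiveEpi.desc q (e p) hd
  have hφ : q ≫ φ = e p := EffectiveEpi.fac q (e p) hd
  have := he p
  let ψ : Z p ⟶ W := EffectiveEpi.desc (e p) q hd'
  have hψ : e p ≫ ψ = q := EffectiveEpi.fac (e p) q hd'
  have hφψ : φ ≫ ψ = 𝟙 W := by rw [← cancel_epi q, reassoc_of% hφ, hψ, comp_id]
  have hmi : Mono (φ ≫ Injective.ι (Z p)) := by
    have : Mono φ := mono_of_mono_fac hφψ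
    infer_instance
  let w : Y ⟶ Injective.under (Z p) := Injective.factorThru (φ ≫ Injective.ι (Z p)) m
  have hw : m ≫ w = φ ≫ Injective.ι (Z p) := Injective.comp_factorThru _ _
  have h1 : (coprod.inl ≫ q) ≫ m = x ≫ f := by rw [assoc, hqm, coprod.inl_desc]
  have h2 : (coprod.inr ≫ q) ≫ m = x ≫ g := by rw [assoc, hqm, coprod.inr_desc]
  have h3 : (coprod.inl ≫ q) ≫ m ≫ w = (coprod.inr ≫ q) ≫ m ≫ w := by
    rw [← assoc _ m w, ← assoc _ m w, h1, h2, assoc, assoc, hfg _ ⟨p⟩ w]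
  rw [hw, cancel_mono] at h3
  rw [← h1, ← h2, h3]

end Groth.Agent.S6126
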