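import Groth.Statements.S6128
import Mathlib.CategoryTheory.Sites.CoverLifting
import Mathlib.CategoryTheory.Sites.Pullback
import Mathlib.CategoryTheory.Sites.Subcanonical
import Mathlib.CategoryTheory.Sites.Closed
import Mathlib.CategoryTheory.Sites.LocallyBijective
import Mathlib.CategoryTheory.Adjunction.Triple
import Mathlib.CategoryTheory.Limits.Elements
import Mathlib.CategoryTheory.Limits.Indization.IndObject
import Mathlib.CategoryTheory.Limits.Constructions.WeaklyInitial
import Mathlib.CategoryTheory.Limits.Shapes.Opposites.Equalizers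
import Mathlib.CategoryTheory.Limits.Preserves.Shapes.Equalizers
import Mathlib.CategoryTheory.Limits.Types.Equalizers
import Mathlib.CategoryTheory.EffectiveEpi.Comp
import Mathlib.CategoryTheory.Limits.Shapes.RegularMono

set_option autoImplicit false
open CategoryTheory
universe u
open SGA4

namespace Groth.Agent.S6128
open CategoryTheory Category Functor Limits Opposite

/-- Let `u : C ⥤ C'` be a functor between small sites. If the right Kan extension along `u` of the
underlying presheaf of every sheaf of sets on `C` is a sheaf on `C'`, then `u` is cocontinuous: for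
every object `Y` of `C` and every covering sieve `R` of `u Y`, the sieve of morphisms `g : Z ⟶ Y`
with `u g ∈ R` covers `Y`. -/
theorem result
    {C : Type u} [SmallCategory C] {C' : Type u} [SmallCategory C']
    (J : GrothendieckTopology C) (J' : GrothendieckTopology C') (u : C ⥤ C')
    (h : ∀ G : Sheaf J (Type u), Presheaf.IsSheaf J' ((u.op.ran).obj G.obj)) :
    u.IsCocontinuous J J' := by
  refine ⟨fun {X} S hS => ?_⟩
  let R : (C'ᵒᵖ ⥤ Type u) ⥤ (Cᵒᵖ ⥤ Type u) := (Functor.whiskeringLeft Cᵒᵖ C'ᵒᵖ (Type u)).obj u.op
  have hW : J.W (R.map S.functorInclusion) := by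
    rw [GrothendieckTopology.W_eq_isLocal_range_sheafToPresheaf_obj]
    rintro _ ⟨G, rfl⟩
    have hS' := Presieve.isSheafFor_iff_yonedaSheafCondition.mp
      ((isSheaf_iff_isSheaf_of_type _ _).mp (h G) S hS)
    let e := fun F => (u.op.ranAdjunction (Type u)).homEquiv F G.obj
    refine (Function.bijective_iff_existsUnique _).mpr fun g => ?_
    obtain ⟨k, hk, hk'⟩ := hS' (e _ g)
    refine ⟨(e _).symm k, ?_, fun m hm => ?_⟩
    · apply (e _).injective
      exact ((u.op.ranAdjunction (Type u)).homEquiv_naturality_left _ _).trans (by rw [Equiv.apply_symm_apply]; exact hk)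
    · apply (e _).injective
      rw [Equiv.apply_symm_apply]
      refine hk' _ ?_
      rw [← hm]
      exact ((u.op.ranAdjunction (Type u)).homEquiv_naturality_left _ _).symm
  have := (J.W_iff_isLocallyBijective _).mp hW |>.2
  refine J.superset_covering ?_ (Presheaf.imageSieve_mem J (R.map S.functorInclusion) (U := op X) (𝟙 (u.obj X)))
  rintro Y f ⟨t, ht⟩
  have ht' : t.1 = u.map f ≫ 𝟙 (u.obj X) := ht
  show S (u.map f)
  simpa [ht'] using t.2

end Groth.Agent.S6128
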