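import Groth.Statements.S6131
import Mathlib.CategoryTheory.Sites.CoverLifting
import Mathlib.CategoryTheory.Sites.Pullback
import Mathlib.CategoryTheory.Sites.Subcanonical
import Mathlib.CategoryTheory.Sites.Closed
import Mathlib.CategoryTheory.Sites.LocallyBijective
import Mathlib.CategoryTheory.Adjunction.Triple
import Mathlib.CategoryTheory.Limits.Elements
import Mathlib.CategoryTheory.Limits.Indization.IndObject
import Mathlib.CategoryTheory.Limits.Constructions.WeaklyInitial
import Mathlib.CategoryTheory.Limits.Shapes.Opposites.Equalizers
import Mathlib.CategoryTheory.Limits.Preserves.Shapes.Equalizers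
import Mathlib.CategoryTheory.Limits.Types.Equalizers
import Mathlib.CategoryTheory.EffectiveEpi.Comp
import Mathlib.CategoryTheory.Limits.Shapes.RegularMono

set_option autoImplicit false
open CategoryTheory CategoryTheory.Limits
universe u
open SGA4

namespace Groth.Agent.S6131
open CategoryTheory Category Functor Limits Opposite

/-- For a small site `(C, J)` and an object `X` of `C`, the sheaf associated to the presheaf represented
by `X` is an initial object of the category of sheaves of sets if and only if the empty sieve covers
`X`. -/
theorem result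
    {C : Type u} [SmallCategory C] (J : GrothendieckTopology C) (X : C) :
    Nonempty (IsInitial ((presheafToSheaf J (Type u)).obj (yoneda.obj X))) ↔ (⊥ : Sieve X) ∈ J X := by
  constructor
  · rintro ⟨hI⟩
    let Ω : Sheaf J (Type u) := ⟨(Functor.closedSieves J).toFunctor, (isSheaf_iff_isSheaf_of_type _ _).mpr (classifier_isSheaf J)⟩
    have hsub : Subsingleton (Ω.obj.obj (op X)) := by
      refine ⟨fun a b => ?_⟩
      let e := ((sheafificationAdjunction J (Type u)).homEquiv (yoneda.obj X) Ω).trans yonedaEquiv
      exact e.symm.injective (hI.hom_ext _ _)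
    refine (J.close_eq_top_iff_mem _).mp ?_
    exact congrArg Subtype.val (hsub.elim ⟨J.close ⊥, J.close_isClosed _⟩ ⟨(⊤ : Sieve X), fun Y f _ => trivial⟩)
  · intro h
    refine ⟨IsInitial.ofUniqueHom (fun G => ?_) (fun G m => ?_)⟩
    · exact ((sheafificationAdjunction J (Type u)).homEquiv _ G).symm (yonedaEquiv.symm
        ((((isSheaf_iff_isSheaf_of_type _ _).mp G.property) _ h (fun Y f hf => hf.elim) (fun _ _ _ _ _ _ _ h₁ => h₁.elim)).choose))
    · apply ((sheafificationAdjunction J (Type u)).homEquiv _ G).injective
      apply yonedaEquiv.injective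
      refine (((isSheaf_iff_isSheaf_of_type _ _).mp G.property) _ h).isSeparatedFor.ext (fun Y f hf => hf.elim)

end Groth.Agent.S6131
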