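import Groth.Statements.S6132
import Groth.Prelude.Def_SGA4a
import Groth.Agent.L09.ShfRel
import Groth.Agent.L09.CoprodTopos
import Mathlib.CategoryTheory.Sites.Canonical
import Mathlib.CategoryTheory.Limits.Shapes.Pullback.HasPullback
import Mathlib.CategoryTheory.Limits.Preserves.Shapes.Products

set_option autoImplicit false
open CategoryTheory CategoryTheory.Limits
universe u
open SGA4

namespace Groth.Agent.S6132
open CategoryTheory CategoryTheory.Limits Opposite

/-- Let `(C, J)` be a small site, `X` an object and `s i : Y i ⟶ X` a family of morphisms all of whose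
base changes exist in `C`. If the family is covering, every `s i` is a monomorphism, and for `i ≠ j`
the fibre product `Y i ×_X Y j` is covered by the empty sieve, then the associated sheaf of `X`,
with the maps induced by the `s i`, is a coproduct of the associated sheaves of the `Y i` in the
category of sheaves of sets. -/
theorem result
    {C : Type u} [SmallCategory C] (J : GrothendieckTopology C) {X : C} {ι : Type u}
    (Y : ι → C) (s : ∀ i, Y i ⟶ X) [∀ (i : ι) (Z : C) (g : Z ⟶ X), HasPullback (s i) g]
    (hcov : Sieve.ofArrows Y s ∈ J X) (hmono : ∀ i, Mono (s i))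
    (hdisj : ∀ i j, i ≠ j → (⊥ : Sieve (pullback (s i) (s j))) ∈ J (pullback (s i) (s j))) :
    Nonempty (IsColimit (Cofan.mk ((presheafToSheaf J (Type u)).obj (yoneda.obj X))
      (fun i => (presheafToSheaf J (Type u)).map (yoneda.map (s i))))) := by
  refine Groth.L09.CoprodTopos.isColimit_sheafify_of_locallyBijective (fun i => yoneda.obj (Y i)) (fun i => yoneda.map (s i))
    (fun U (x : U ⟶ X) => ⟨_, J.pullback_stable x hcov, fun V k hk => ?_⟩)
    (fun i U (y : U ⟶ Y i) (y' : U ⟶ Y i) e => ⟨⊤, J.top_mem _, fun V k _ => ?_⟩)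
    (fun i j hij U (y : U ⟶ Y i) (y' : U ⟶ Y j) e => ?_)
  · rw [Sieve.pullback_apply, Sieve.mem_ofArrows_iff] at hk
    obtain ⟨i, a, ha⟩ := hk
    exact ⟨i, a, ha.symm⟩
  · have := hmono i
    exact congrArg (fun z : U ⟶ Y i => k ≫ z) ((cancel_mono (s i)).mp e)
  · refine J.superset_covering ?_ (J.pullback_stable (pullback.lift y y' e) (hdisj i j hij))
    intro V k hk
    exact hk

end Groth.Agent.S6132
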