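import Groth.Statements.S6134
import Mathlib.CategoryTheory.Sites.CoverLifting
import Mathlib.CategoryTheory.Sites.Pullback
import Mathlib.CategoryTheory.Sites.Subcanonical
import Mathlib.CategoryTheory.Sites.Closed
import Mathlib.CategoryTheory.Sites.LocallyBijective
import Mathlib.CategoryTheory.Adjunction.Triple
import Mathlib.CategoryTheory.Limits.Elements
import Mathlib.CategoryTheory.Limits.Indization.IndObject
import Mathlib.CategoryTheory.Limits.Constructions.WeaklyInitial
import Mathlib.CategoryTheory.Limits.Shapes.Opposites.Equalizers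
import Mathlib.CategoryTheory.Limits.Preserves.Shapes.Equalizers
import Mathlib.CategoryTheory.Limits.Types.Equalizers
import Mathlib.CategoryTheory.EffectiveEpi.Comp
import Mathlib.CategoryTheory.Limits.Shapes.RegularMono

set_option autoImplicit false
open CategoryTheory CategoryTheory.Limits
universe u
open SGA4

namespace Groth.Agent.S6134
open CategoryTheory Category Functor Limits Opposite

/-- Let `C` be a small category with topologies `J ≤ J'` (every `J`-covering sieve is `J'`-covering),
`X` an object and `s i : Y i ⟶ X` a family of morphisms. If the associated `J`-sheaf of the presheaf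
represented by `X`, with the maps induced by the `s i`, is a coproduct of the associated `J`-sheaves
of the `Y i` (in sheaves of sets), then the same holds for `J'`. -/
theorem result
    {C : Type u} [SmallCategory C] {J J' : GrothendieckTopology C} (hJ : J ≤ J')
    {X : C} {ι : Type u} (Y : ι → C) (s : ∀ i, Y i ⟶ X)
    (h : Nonempty (IsColimit (Cofan.mk ((presheafToSheaf J (Type u)).obj (yoneda.obj X))
      (fun i => (presheafToSheaf J (Type u)).map (yoneda.map (s i)))))) :
    Nonempty (IsColimit (Cofan.mk ((presheafToSheaf J' (Type u)).obj (yoneda.obj X))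
      (fun i => (presheafToSheaf J' (Type u)).map (yoneda.map (s i))))) := by
  obtain ⟨h⟩ := h
  let A := sheafificationAdjunction J (Type u)
  let A' := sheafificationAdjunction J' (Type u)
  let GJ : Sheaf J' (Type u) → Sheaf J (Type u) := fun G =>
    ⟨G.obj, (isSheaf_iff_isSheaf_of_type _ _).mpr (Presieve.isSheaf_of_le _ hJ ((isSheaf_iff_isSheaf_of_type _ _).mp G.property))⟩
  have key : ∀ G : Sheaf J' (Type u), Function.Bijective
      (fun (φ : yoneda.obj X ⟶ G.obj) => fun i => yoneda.map (s i) ≫ φ) := by
    intro G
    refine ⟨fun φ ψ hφ => ?_, fun f => ?_⟩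
    · apply (A.homEquiv _ (GJ G)).symm.injective
      refine Cofan.IsColimit.hom_ext h _ _ fun i => ?_
      show (presheafToSheaf J (Type u)).map (yoneda.map (s i)) ≫ _ = (presheafToSheaf J (Type u)).map (yoneda.map (s i)) ≫ _
      exact (A.homEquiv_naturality_left_symm (Y := GJ G) (yoneda.map (s i)) φ).symm.trans
        ((congrArg (A.homEquiv _ (GJ G)).symm (congrFun hφ i)).trans (A.homEquiv_naturality_left_symm (Y := GJ G) (yoneda.map (s i)) ψ))
    · refine ⟨A.homEquiv _ (GJ G) (Cofan.IsColimit.desc h fun i => (A.homEquiv _ (GJ G)).symm (f i)), funext fun i => ?_⟩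
      refine (A.homEquiv_naturality_left _ _).symm.trans ?_
      erw [Cofan.IsColimit.fac h]
      exact Equiv.apply_symm_apply _ _
  refine ⟨Cofan.IsColimit.mk _ (fun c => (A'.homEquiv _ c.pt).symm ((key c.pt).2 fun i => A'.homEquiv _ _ (c.inj i)).choose) (fun c i => ?_) (fun c m hm => ?_)⟩
  · show (presheafToSheaf J' (Type u)).map (yoneda.map (s i)) ≫ _ = _
    exact (A'.homEquiv_naturality_left_symm _ _).symm.trans
      ((congrArg (A'.homEquiv _ c.pt).symm (congrFun ((key c.pt).2 fun i => A'.homEquiv _ _ (c.inj i)).choose_spec i)).trans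
        (Equiv.symm_apply_apply _ _))
  · apply (A'.homEquiv _ c.pt).injective
    rw [Equiv.apply_symm_apply]
    refine (key c.pt).1 (funext fun i => ?_)
    exact ((A'.homEquiv_naturality_left _ _).symm.trans (congrArg _ (hm i))).trans
      (congrFun ((key c.pt).2 fun i => A'.homEquiv _ _ (c.inj i)).choose_spec i).symm

end Groth.Agent.S6134
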