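import Groth.Statements.S6135
import Groth.Agent.L09.LanInd
import Groth.Prelude.Def_SGA4a
import Mathlib.CategoryTheory.Subobject.Basic
import Mathlib.CategoryTheory.Limits.Shapes.Diagonal
import Mathlib.CategoryTheory.Preadditive.Injective.Basic
import Mathlib.CategoryTheory.Sites.LocallyBijective
import Mathlib.CategoryTheory.Sites.Limits

set_option autoImplicit false
open CategoryTheory CategoryTheory.Limits
universe u
open SGA4

namespace Groth.Agent.S6135
open CategoryTheory Category Functor Limits Opposite

/-- Faithful case. Let `u : C ⥤ C'` be a functor between small categories and `u_!` the left Kan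
extension functor on presheaves of sets, whose restriction to ind-objects (presheaves that are small
filtered colimits of representables) is the induced functor `Ind C ⥤ Ind C'`. Then `u` is faithful
if and only if `u_!` is injective on morphisms between ind-representable presheaves. -/
theorem result
    {C : Type u} [SmallCategory C] {C' : Type u} [SmallCategory C'] (u : C ⥤ C') :
    u.Faithful ↔ ∀ (F G : Cᵒᵖ ⥤ Type u), IsIndObject F → IsIndObject G →
      Function.Injective (fun φ : F ⟶ G => (u.op.lan : (Cᵒᵖ ⥤ Type u) ⥤ (C'ᵒᵖ ⥤ Type u)).map φ) := by
  constructor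
  · intro _ F G _ hG φ ψ h
    ext Z x
    apply Groth.L09.LanInd.unit_injective u hG Z
    have h1 := ConcreteCategory.congr_hom (congrArg (fun t => NatTrans.app t Z) ((u.op.lanAdjunction (Type u)).unit.naturality φ)) x
    have h2 := ConcreteCategory.congr_hom (congrArg (fun t => NatTrans.app t Z) ((u.op.lanAdjunction (Type u)).unit.naturality ψ)) x
    exact h1.trans ((congrArg (fun k => (ConcreteCategory.hom (NatTrans.app k (u.op.obj Z))) (((u.op.lanAdjunction (Type u)).unit.app F).app Z x)) h).trans h2.symm)
  · intro h
    refine ⟨fun {X Y} a b hab => yoneda.map_injective (h _ _ (isIndObject_yoneda X) (isIndObject_yoneda Y) ?_)⟩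
    refine (cancel_mono (Groth.L09.LanInd.toYoneda u Y)).mp ?_
    rw [Groth.L09.LanInd.map_toYoneda, Groth.L09.LanInd.map_toYoneda, hab]

end Groth.Agent.S6135
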