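import Groth.Statements.S6137
import Mathlib.CategoryTheory.Sites.CoverLifting
import Mathlib.CategoryTheory.Sites.Pullback
import Mathlib.CategoryTheory.Sites.Subcanonical
import Mathlib.CategoryTheory.Sites.Closed
import Mathlib.CategoryTheory.Sites.LocallyBijective
import Mathlib.CategoryTheory.Adjunction.Triple
import Mathlib.CategoryTheory.Limits.Elements
import Mathlib.CategoryTheory.Limits.Indization.IndObject
import Mathlib.CategoryTheory.Limits.Constructions.WeaklyInitial
import Mathlib.CategoryTheory.Limits.Shapes.Opposites.Equalizers
import Mathlib.CategoryTheory.Limits.Preserves.Shapes.Equalizers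
import Mathlib.CategoryTheory.Limits.Types.Equalizers
import Mathlib.CategoryTheory.EffectiveEpi.Comp
import Mathlib.CategoryTheory.Limits.Shapes.RegularMono

set_option autoImplicit false
open CategoryTheory CategoryTheory.Limits
universe v u
open SGA4

namespace Groth.Agent.S6137
open CategoryTheory Category Functor Limits Opposite

/-- Let `C` be a category with `v`-small hom-sets admitting all `v`-small limits, and `F : C ⥤ Type v` a
functor. Then `F` is corepresentable if and only if it is pro-representable (viewed as a presheaf on
`Cᵒᵖ` it is an ind-object, i.e. a small filtered colimit of corepresentable functors) and preserves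
all `v`-small limits. -/
theorem result
    {C : Type u} [Category.{v} C] [HasLimitsOfSize.{v, v} C] (F : C ⥤ Type v) :
    F.IsCorepresentable ↔
      IsIndObject (unopUnop C ⋙ F) ∧ PreservesLimitsOfSize.{v, v} F := by
  constructor
  · intro hF
    have e := F.coreprW
    refine ⟨?_, preservesLimits_of_natIso e⟩
    let e' : yoneda.obj (op F.coreprX) ≅ unopUnop C ⋙ F :=
      NatIso.ofComponents (fun Y => Equiv.toIso ((opEquiv (unop Y) (op F.coreprX)).trans (e.app Y.unop.unop).toEquiv))
        (fun {Y Z} f => by
          ext g
          exact (elementwise_of% (e.hom.naturality f.unop.unop)) g.unop)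
    exact IsIndObject.map e'.hom (isIndObject_yoneda _)
  · rintro ⟨hI, hP⟩
    obtain ⟨P⟩ := hI.nonempty_presentation
    have : ∀ (ι : Type v), HasProductsOfShape ι F.Elements := fun ι => inferInstance
    let B : P.I → F.Elements := fun i => ⟨(P.F.obj i).unop, yonedaEquiv (P.ι.app i)⟩
    have hB : ∀ A : F.Elements, ∃ i, Nonempty (B i ⟶ A) := by
      rintro ⟨c, ξ⟩
      obtain ⟨i, (g : op c ⟶ P.F.obj i), hg⟩ := Types.jointly_surjective _
        (isColimitOfPreserves ((evaluation _ (Type v)).obj (op (op c))) P.isColimit) ξ
      refine ⟨i, ⟨CategoryOfElements.homMk _ _ g.unop ?_⟩⟩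
      have := (elementwise_of% ((P.ι.app i).naturality g.op)) (𝟙 (P.F.obj i))
      refine Eq.trans this.symm (Eq.trans ?_ hg)
      show (P.ι.app i).app (op (op c)) (g ≫ 𝟙 _) = _
      rw [comp_id]
      rfl
    obtain ⟨T, hT⟩ := has_weakly_initial_of_weakly_initial_set_and_hasProducts hB
    have := hasInitial_of_weakly_initial_and_hasWideEqualizers hT
    exact Functor.Elements.isCorepresentable_of_hasInitial F

end Groth.Agent.S6137
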