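import Groth.Statements.S6138
import Mathlib.CategoryTheory.Sites.CoverLifting
import Mathlib.CategoryTheory.Sites.Pullback
import Mathlib.CategoryTheory.Sites.Subcanonical
import Mathlib.CategoryTheory.Sites.Closed
import Mathlib.CategoryTheory.Sites.LocallyBijective
import Mathlib.CategoryTheory.Adjunction.Triple
import Mathlib.CategoryTheory.Limits.Elements
import Mathlib.CategoryTheory.Limits.Indization.IndObject
import Mathlib.CategoryTheory.Limits.Constructions.WeaklyInitial
import Mathlib.CategoryTheory.Limits.Shapes.Opposites.Equalizers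
import Mathlib.CategoryTheory.Limits.Preserves.Shapes.Equalizers
import Mathlib.CategoryTheory.Limits.Types.Equalizers
import Mathlib.CategoryTheory.EffectiveEpi.Comp
import Mathlib.CategoryTheory.Limits.Shapes.RegularMono

set_option autoImplicit false
open CategoryTheory CategoryTheory.Limits Opposite
universe v u
open SGA4

namespace Groth.Agent.S6138
open CategoryTheory Category Functor Limits Opposite

/-- Let `C` have coequalizers and pullbacks, let `F` be a presheaf of sets on `C` taking coequalizers of
`C` to equalizers, and let `u ∈ F(X)`, viewed as a morphism `h_X ⟶ F`. Then this morphism is a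
monomorphism (the map `v ↦ F(v)(u)` is injective on `Hom(Y, X)` for every `Y`) if and only if `u` is
minimal: whenever `u = F(p)(u')` for an effective epimorphism `p : X ⟶ X'` and some `u' ∈ F(X')`,
`p` is an isomorphism. (Coequalizers are used for one implication and pullbacks for the other; both
are assumed here.) -/
theorem result
    {C : Type u} [Category.{v} C] [HasCoequalizers C] [HasPullbacks C]
    (F : Cᵒᵖ ⥤ Type v) [PreservesLimitsOfShape WalkingParallelPair F]
    {X : C} (u : F.obj (op X)) :
    (∀ (Y : C) (v v' : Y ⟶ X), F.map v.op u = F.map v'.op u → v = v') ↔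
      ∀ (X' : C) (p : X ⟶ X') (u' : F.obj (op X')),
        EffectiveEpi p → F.map p.op u' = u → IsIso p := by
  constructor
  · intro h X' p u' hp hu
    have hker : ∀ {W : C} (g₁ g₂ : W ⟶ X), g₁ ≫ p = g₂ ≫ p → g₁ = g₂ := by
      intro W g₁ g₂ hg
      refine h W g₁ g₂ ?_
      rw [← hu, ← elementwise_of% (F.map_comp p.op g₁.op), ← elementwise_of% (F.map_comp p.op g₂.op),
        ← op_comp, ← op_comp, hg]
    refine ⟨EffectiveEpi.desc p (𝟙 X) (fun g₁ g₂ hg => by rw [comp_id, comp_id]; exact hker g₁ g₂ hg), EffectiveEpi.fac p _ _, ?_⟩
    rw [← cancel_epi p, EffectiveEpi.fac_assoc]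
    simp
  · intro h Y v v' hvv
    let c : Cofork v v' := colimit.cocone (parallelPair v v')
    have hc : IsColimit (Cofork.ofπ (coequalizer.π v v') (coequalizer.condition v v')) :=
      coequalizerIsCoequalizer v v'
    have hl : IsLimit (Fork.ofι (coequalizer.π v v').op
        ((congrArg Quiver.Hom.op (coequalizer.condition v v')) : (coequalizer.π v v').op ≫ v.op = (coequalizer.π v v').op ≫ v'.op)) :=
      Cofork.isColimitOfπEquivIsLimitOp (coequalizer.π v v') (coequalizer.π v v') (coequalizer.condition v v') (congrArg Quiver.Hom.op (coequalizer.condition v v')) rfl hc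
    have hlF := (isLimitMapConeForkEquiv F _) (isLimitOfPreserves F hl)
    obtain ⟨u', hu', -⟩ := Types.unique_of_type_equalizer _ _ hlF u hvv
    have := h _ (coequalizer.π v v') u' inferInstance hu'
    exact (cancel_mono (coequalizer.π v v')).mp (coequalizer.condition v v')

end Groth.Agent.S6138
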