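import Groth.Statements.S6139
import Mathlib.CategoryTheory.Sites.CoverLifting
import Mathlib.CategoryTheory.Sites.Pullback
import Mathlib.CategoryTheory.Sites.Subcanonical
import Mathlib.CategoryTheory.Sites.Closed
import Mathlib.CategoryTheory.Sites.LocallyBijective
import Mathlib.CategoryTheory.Adjunction.Triple
import Mathlib.CategoryTheory.Limits.Elements
import Mathlib.CategoryTheory.Limits.Indization.IndObject
import Mathlib.CategoryTheory.Limits.Constructions.WeaklyInitial
import Mathlib.CategoryTheory.Limits.Shapes.Opposites.Equalizers
import Mathlib.CategoryTheory.Limits.Preserves.Shapes.Equalizers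
import Mathlib.CategoryTheory.Limits.Types.Equalizers
import Mathlib.CategoryTheory.EffectiveEpi.Comp
import Mathlib.CategoryTheory.Limits.Shapes.RegularMono

set_option autoImplicit false
open CategoryTheory CategoryTheory.Limits
universe v u
open SGA4

namespace Groth.Agent.S6139
open CategoryTheory Category Functor Limits Opposite

/-- For an object `X` of a category `C`, the empty sieve on `X` is covering for the canonical topology
of `C` (the finest topology for which every representable presheaf is a sheaf) if and only if `X` is
a strict initial object: `X` is initial and every morphism with target `X` is an isomorphism. (The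
source phrases the first condition as: for some topology coarser than the canonical one the
associated sheaf of `h_X` is initial; that sheaf is initial exactly when the empty sieve covers `X`,
and coverage by the empty sieve passes to the finer canonical topology.) -/
theorem result
    {C : Type u} [Category.{v} C] (X : C) :
    (⊥ : Sieve X) ∈ Sheaf.canonicalTopology C X ↔
      (Nonempty (IsInitial X) ∧ ∀ (Y : C) (f : Y ⟶ X), IsIso f) := by
  constructor
  · intro h
    have hU : ∀ (Y : C), (⊥ : Sieve Y) ∈ Sheaf.canonicalTopology C Y → Nonempty (IsInitial Y) := by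
      intro Y hY
      have hs : ∀ Z : C, Presieve.IsSheafFor (yoneda.obj Z) ((⊥ : Sieve Y) : Presieve Y) := fun Z =>
        Sheaf.sheaf_for_finestTopology _ (Set.mem_range_self _) _ hY
      exact ⟨IsInitial.ofUniqueHom (fun Z => ((hs Z) (fun _ f hf => hf.elim) (fun _ _ _ _ _ _ _ h₁ => h₁.elim)).choose)
        (fun Z m => (hs Z).isSeparatedFor.ext (fun _ f hf => hf.elim))⟩
    obtain ⟨hX⟩ := hU X h
    refine ⟨⟨hX⟩, fun Y f => ?_⟩
    obtain ⟨hY⟩ := hU Y (by
      have := (Sheaf.canonicalTopology C).pullback_stable f h
      rwa [show Sieve.pullback f (⊥ : Sieve X) = ⊥ by ext; exact Iff.rfl] at this)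
    exact ⟨hX.to Y, hY.hom_ext _ _, hX.hom_ext _ _⟩
  · rintro ⟨⟨hX⟩, hiso⟩
    show (⊥ : Sieve X) ∈ Sheaf.finestTopology _ X
    simp only [Sheaf.finestTopology, GrothendieckTopology.mem_sInf, Set.mem_image, Set.mem_range]
    rintro _ ⟨_, ⟨Z, rfl⟩, rfl⟩ Y f
    have := hiso Y f
    intro x _
    refine ⟨f ≫ hX.to Z, fun W g hg => hg.elim, fun m _ => ?_⟩
    show (m : Y ⟶ Z) = _
    rw [← cancel_epi (inv f)]
    exact hX.hom_ext _ _

end Groth.Agent.S6139
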