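import Groth.Statements.S6140
import Groth.Agent.L09.EquivRelSheaf

set_option autoImplicit false
open CategoryTheory CategoryTheory.Limits
universe u
open SGA4

namespace Groth.Agent.S6140

/-- Let `C` be a small category with pullbacks, `p₁ p₂ : R ⇉ X` an equivalence relation in `C` admitting
a coequalizer cofork `c`, and `ε` the canonical functor to sheaves of sets for the canonical
topology of `C`. Then the equivalence relation is effective and universal (`R` is the kernel pair of
the quotient map, which is a coequalizer all of whose base changes are effective epimorphisms) if
and only if `ε` takes `c` to a coequalizer of `ε p₁, ε p₂`. (For a small category every topology has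
a small topologically generating family, so both implications of the published statement apply. The
published statement asks only that the quotient map have all base changes; this row assumes that `C`
has all pullbacks.) -/
theorem result
    {C : Type u} [SmallCategory C] [HasPullbacks C] {R X : C} (p₁ p₂ : R ⟶ X)
    (hR : SGA4.IsEquivRel p₁ p₂) (c : Cofork p₁ p₂) (hc : IsColimit c) :
    SGA4.IsEffectiveUniversalEquivRel p₁ p₂ ↔
      Nonempty (IsColimit ((yoneda ⋙ presheafToSheaf (Sheaf.canonicalTopology C) (Type u)).mapCocone c)) := by
  refine (Groth.L09.EquivRelSheaf.main c.π c.condition hR (hc.ofIsoColimit (Cofork.isoCoforkOfπ c))).trans ?_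
  have e := (Cocone.functoriality _ (yoneda ⋙ presheafToSheaf (Sheaf.canonicalTopology C) (Type u))).mapIso
    (Cofork.isoCoforkOfπ c)
  exact ⟨fun ⟨h⟩ => ⟨h.ofIsoColimit e.symm⟩, fun ⟨h⟩ => ⟨h.ofIsoColimit e⟩⟩

end Groth.Agent.S6140
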