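import Groth.Statements.S6141
import Mathlib.CategoryTheory.Sites.CoverLifting
import Mathlib.CategoryTheory.Sites.Pullback
import Mathlib.CategoryTheory.Sites.Subcanonical
import Mathlib.CategoryTheory.Sites.Closed
import Mathlib.CategoryTheory.Sites.LocallyBijective
import Mathlib.CategoryTheory.Adjunction.Triple
import Mathlib.CategoryTheory.Limits.Elements
import Mathlib.CategoryTheory.Limits.Indization.IndObject
import Mathlib.CategoryTheory.Limits.Constructions.WeaklyInitial
import Mathlib.CategoryTheory.Limits.Shapes.Opposites.Equalizers
import Mathlib.CategoryTheory.Limits.Preserves.Shapes.Equalizers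
import Mathlib.CategoryTheory.Limits.Types.Equalizers
import Mathlib.CategoryTheory.EffectiveEpi.Comp
import Mathlib.CategoryTheory.Limits.Shapes.RegularMono

set_option autoImplicit false
open CategoryTheory
universe u
open SGA4

namespace Groth.Agent.S6141
open CategoryTheory Category Functor Limits Opposite

/-- Let `u : C ⥤ C'` be a functor between small sites which is continuous and cocontinuous. If `u` is
full and faithful, then the left adjoint `u_!` of the restriction functor `u^*` on sheaves of sets
is full and faithful. -/
theorem result
    {C : Type u} [SmallCategory C] {C' : Type u} [SmallCategory C']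
    (J : GrothendieckTopology C) (K : GrothendieckTopology C') (u : C ⥤ C')
    [u.IsContinuous J K] [u.IsCocontinuous J K] [u.Full] [u.Faithful] :
    (u.sheafPullback (Type u) J K).Full ∧ (u.sheafPullback (Type u) J K).Faithful := by
  have : (u.sheafPushforwardCocontinuous (Type u) J K).Full ∧ (u.sheafPushforwardCocontinuous (Type u) J K).Faithful := by
    let hran : (u.op.ran : (Cᵒᵖ ⥤ Type u) ⥤ _).FullyFaithful := (u.op.ranAdjunction (Type u)).fullyFaithfulROfIsIsoCounit
    let hc := ((fullyFaithfulSheafToPresheaf J (Type u)).comp hran).ofIso
      (u.sheafPushforwardCocontinuousCompSheafToPresheafIso (Type u) J K).symm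
    let hf := Functor.FullyFaithful.ofCompFaithful hc
    exact ⟨hf.full, hf.faithful⟩
  obtain ⟨_, _⟩ := this
  let T : Adjunction.Triple (u.sheafPullback (Type u) J K) (u.sheafPushforwardContinuous (Type u) J K)
      (u.sheafPushforwardCocontinuous (Type u) J K) :=
    ⟨u.sheafAdjunctionContinuous (Type u) J K, u.sheafAdjunctionCocontinuous (Type u) J K⟩
  let hF := T.fullyFaithfulEquiv.symm (Functor.FullyFaithful.ofFullyFaithful _)
  exact ⟨hF.full, hF.faithful⟩

end Groth.Agent.S6141
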