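import Groth.Statements.S6142
import Mathlib.CategoryTheory.Sites.CoverLifting
import Mathlib.CategoryTheory.Sites.Pullback
import Mathlib.CategoryTheory.Sites.Subcanonical
import Mathlib.CategoryTheory.Sites.Closed
import Mathlib.CategoryTheory.Sites.LocallyBijective
import Mathlib.CategoryTheory.Adjunction.Triple
import Mathlib.CategoryTheory.Limits.Elements
import Mathlib.CategoryTheory.Limits.Indization.IndObject
import Mathlib.CategoryTheory.Limits.Constructions.WeaklyInitial
import Mathlib.CategoryTheory.Limits.Shapes.Opposites.Equalizers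
import Mathlib.CategoryTheory.Limits.Preserves.Shapes.Equalizers
import Mathlib.CategoryTheory.Limits.Types.Equalizers
import Mathlib.CategoryTheory.EffectiveEpi.Comp
import Mathlib.CategoryTheory.Limits.Shapes.RegularMono

set_option autoImplicit false
open CategoryTheory
universe u
open SGA4

namespace Groth.Agent.S6142
open CategoryTheory Category Functor Limits Opposite

/-- Let `u : C ⥤ C'` be a continuous and cocontinuous functor between small sites whose topologies are
subcanonical. If the left adjoint `u_!` of the restriction functor `u^*` on sheaves of sets is full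
and faithful, then `u` is full and faithful. -/
theorem result
    {C : Type u} [SmallCategory C] {C' : Type u} [SmallCategory C']
    (J : GrothendieckTopology C) (K : GrothendieckTopology C') [J.Subcanonical] [K.Subcanonical]
    (u : C ⥤ C') [u.IsContinuous J K] [u.IsCocontinuous J K]
    (h : (u.sheafPullback (Type u) J K).Full ∧ (u.sheafPullback (Type u) J K).Faithful) :
    u.Full ∧ u.Faithful := by
  obtain ⟨_, _⟩ := h
  let A := u.sheafAdjunctionContinuous (Type u) J K
  let η : ∀ X, K.yoneda.obj (u.obj X) ⟶ (u.sheafPullback (Type u) J K).obj (J.yoneda.obj X) :=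
    fun X => K.yonedaEquiv.symm (J.yonedaEquiv (A.unit.app (J.yoneda.obj X)))
  let ζ : ∀ X, (u.sheafPullback (Type u) J K).obj (J.yoneda.obj X) ⟶ K.yoneda.obj (u.obj X) :=
    fun X => (A.homEquiv _ _).symm (J.yonedaEquiv.symm (K.yonedaEquiv (𝟙 (K.yoneda.obj (u.obj X)))))
  have hηζ : ∀ X, η X ≫ ζ X = 𝟙 _ := by
    intro X
    apply K.yonedaEquiv.injective
    refine (K.yonedaEquiv_comp (η X) (ζ X)).trans ?_
    have h2 : A.unit.app (J.yoneda.obj X) ≫ (u.sheafPushforwardContinuous (Type u) J K).map (ζ X) =
        J.yonedaEquiv.symm (K.yonedaEquiv (𝟙 (K.yoneda.obj (u.obj X)))) :=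
      (A.homEquiv_unit _ _ (ζ X)).symm.trans (Equiv.apply_symm_apply _ _)
    have h3 := (J.yonedaEquiv_comp _ _).symm.trans ((congrArg J.yonedaEquiv h2).trans (Equiv.apply_symm_apply _ _))
    simp only [η, Equiv.apply_symm_apply]
    exact h3
  have hζη : ∀ X, ζ X ≫ η X = 𝟙 _ := by
    intro X
    apply (A.homEquiv _ _).injective
    rw [A.homEquiv_id]
    refine (A.homEquiv_naturality_right _ _).trans ?_
    simp only [ζ, Equiv.apply_symm_apply]
    apply J.yonedaEquiv.injective
    refine (J.yonedaEquiv_comp _ _).trans ?_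
    rw [Equiv.apply_symm_apply]
    exact (K.yonedaEquiv_comp (𝟙 _) (η X)).symm.trans ((congrArg K.yonedaEquiv (id_comp (η X))).trans (Equiv.apply_symm_apply _ _))
  let e : u ⋙ K.yoneda ≅ J.yoneda ⋙ u.sheafPullback (Type u) J K :=
    NatIso.ofComponents (fun X => ⟨η X, ζ X, hηζ X, hζη X⟩) (by
      intro X Y f
      apply K.yonedaEquiv.injective
      refine (K.yonedaEquiv_naturality (η Y) (u.map f)).symm.trans ?_
      refine Eq.trans ?_ (K.yonedaEquiv_comp (η X) _).symm
      simp only [η, Equiv.apply_symm_apply]
      refine (J.yonedaEquiv_naturality (A.unit.app (J.yoneda.obj Y)) f).trans ?_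
      exact (congrArg J.yonedaEquiv (A.unit.naturality (J.yoneda.map f))).trans (J.yonedaEquiv_comp _ _))
  let hf := ((J.yonedaFullyFaithful).comp (Functor.FullyFaithful.ofFullyFaithful (u.sheafPullback (Type u) J K))).ofIso e.symm
  let hu := Functor.FullyFaithful.ofCompFaithful hf
  exact ⟨hu.full, hu.faithful⟩

end Groth.Agent.S6142
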