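import Groth.Statements.S6143
import Groth.Prelude.Def_SGA4a
import Groth.Agent.L09.ShfRel
import Groth.Agent.L09.CoprodTopos
import Mathlib.CategoryTheory.Sites.Canonical
import Mathlib.CategoryTheory.Limits.Shapes.Pullback.HasPullback
import Mathlib.CategoryTheory.Limits.Preserves.Shapes.Products

set_option autoImplicit false
open CategoryTheory CategoryTheory.Limits
universe u
open SGA4

namespace Groth.Agent.S6143
open CategoryTheory CategoryTheory.Limits Opposite

/-- Let `C` be a small category, `X` an object and `s i : Y i ⟶ X` a family of morphisms all of whose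
base changes exist. Then the associated sheaf of `h_X` for the canonical topology, with the maps
induced by the `s i`, is a coproduct of the associated sheaves of the `h_{Y i}` (in sheaves of sets
for the canonical topology) if and only if `X` is a disjoint universal coproduct of the `Y i` in
`C`: the cofan `(X, s)` is a colimit, the injections of a coproduct of the family are monomorphisms
with pairwise pullbacks initial, and the colimit is stable under base change. (The source asks for
the coproduct decomposition after sheafification for some topology coarser than the canonical one;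
this is equivalent to asking it for the canonical topology itself.) -/
theorem result
    {C : Type u} [SmallCategory C] {X : C} {ι : Type u} (Y : ι → C) (s : ∀ i, Y i ⟶ X)
    [∀ (i : ι) (Z : C) (g : Z ⟶ X), HasPullback (s i) g] :
    Nonempty (IsColimit (Cofan.mk
        ((presheafToSheaf (Sheaf.canonicalTopology C) (Type u)).obj (yoneda.obj X))
        (fun i => (presheafToSheaf (Sheaf.canonicalTopology C) (Type u)).map (yoneda.map (s i))))) ↔
      (Nonempty (IsColimit (Cofan.mk X s)) ∧ CoproductDisjoint Y ∧
        IsUniversalColimit (Cofan.mk X s)) := by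
  let J := Sheaf.canonicalTopology C
  let L := presheafToSheaf J (Type u)
  constructor
  · rintro ⟨hc⟩
    let e : yoneda ⋙ L ≅ J.yoneda :=
      Functor.isoWhiskerLeft J.yoneda (asIso (sheafificationAdjunction J (Type u)).counit) ≪≫ Functor.rightUnitor _
    have hm : IsColimit (J.yoneda.mapCocone (Cofan.mk X s)) :=
      IsColimit.mapCoconeEquiv e ((Cofan.isColimitMapCoconeEquiv (yoneda ⋙ L) Y (Cofan.mk X s)).symm hc)
    have : PreservesLimitsOfShape WalkingCospan (J.yoneda ⋙ sheafToPresheaf J (Type u)) :=
      inferInstanceAs (PreservesLimitsOfShape WalkingCospan yoneda)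
    have : PreservesLimitsOfShape WalkingCospan J.yoneda :=
      preservesLimitsOfShape_of_reflects_of_preserves J.yoneda (sheafToPresheaf J (Type u))
    have hcC : IsColimit (Cofan.mk X s) := isColimitOfReflects J.yoneda hm
    refine ⟨⟨hcC⟩, ?_, IsUniversalColimit.of_mapCocone J.yoneda (Groth.L09.CoprodTopos.shf_universal_of_isColimit hm)⟩
    have hd := Groth.L09.CoprodTopos.shf_coproductDisjoint (fun i => J.yoneda.obj (Y i))
    have hm' := Cofan.isColimitMapCoconeEquiv J.yoneda Y (Cofan.mk X s) hm
    have : ∀ i, Mono (Cofan.inj (Cofan.mk X s) i) := fun i => by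
      have : Mono (J.yoneda.map (Cofan.inj (Cofan.mk X s) i)) := CoproductDisjoint.mono_inj hm' i
      exact J.yoneda.mono_of_mono_map this
    have : ∀ i j, HasPullback (Cofan.inj (Cofan.mk X s) i) (Cofan.inj (Cofan.mk X s) j) := fun i j =>
      inferInstanceAs (HasPullback (s i) (s j))
    refine CoproductDisjoint.of_cofan hcC (fun {i j} _ => PullbackCone.mk (pullback.fst _ _) (pullback.snd _ _) pullback.condition)
      (fun {i j} _ => pullbackIsPullback _ _) (fun {i j} hij => ?_)
    have hp := (IsPullback.of_hasPullback (Cofan.inj (Cofan.mk X s) i) (Cofan.inj (Cofan.mk X s) j)).map J.yoneda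
    refine Classical.choice ?_
    obtain ⟨hI⟩ := CoproductDisjoint.nonempty_isInitial_of_ne hm' hij _ hp.isLimit
    exact ⟨IsInitial.ofUniqueHom (fun W => J.yonedaFullyFaithful.preimage (hI.to _))
      (fun W m => J.yonedaFullyFaithful.map_injective (hI.hom_ext _ _))⟩
  · rintro ⟨⟨hcC⟩, hd, hu⟩
    have hpb : ∀ {U : C} (g : U ⟶ X),
        Nonempty (IsColimit (Cofan.mk U (fun k => pullback.snd (s k) g))) := fun {U} g =>
      hu (Cofan.mk U fun k => pullback.snd (s k) g) (Discrete.natTrans fun k => pullback.fst (s k.as) g) g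
        (NatTrans.ext (funext fun ⟨k⟩ => pullback.condition)) (NatTrans.equifibered_of_discrete _)
        (fun ⟨k⟩ => (IsPullback.of_hasPullback (s k) g).flip)
    have hz : ∀ {U : C} (i j : ι), i ≠ j → ∀ (y : U ⟶ Y i) (y' : U ⟶ Y j), y ≫ s i = y' ≫ s j →
        ∀ W : C, ∃! _f : U ⟶ W, True := by
      classical
      intro U i j hij y y' e W
      obtain ⟨hI⟩ : Nonempty (IsInitial (pullback (s i) (s j))) :=
        ⟨IsInitial.ofCoproductDisjointOfIsColimit hij hcC⟩
      refine ⟨pullback.lift y y' e ≫ hI.to W, trivial, fun a _ => ?_⟩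
      generalize pullback.lift y y' e ≫ hI.to W = b
      obtain ⟨hU⟩ := hpb (y ≫ s i)
      let m := Cofan.IsColimit.desc hU (fun k => pullback.snd (s k) (y ≫ s i) ≫ if k = i then a else b)
      have hm : ∀ k (σ : U ⟶ pullback (s k) (y ≫ s i)), σ ≫ pullback.snd (s k) (y ≫ s i) = 𝟙 U →
          m = if k = i then a else b := fun k σ hσ => by
        have := Cofan.IsColimit.fac hU (fun k => pullback.snd (s k) (y ≫ s i) ≫ if k = i then a else b) k
        have := congrArg (σ ≫ ·) this
        simp only [Cofan.inj, Cofan.mk_ι_app] at this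
        rwa [← Category.assoc, ← Category.assoc, hσ, Category.id_comp, Category.id_comp] at this
      have h1 := hm i (pullback.lift y (𝟙 U) (by simp)) (pullback.lift_snd _ _ _)
      have h2 := hm j (pullback.lift y' (𝟙 U) (by simp [e])) (pullback.lift_snd _ _ _)
      rw [if_pos rfl] at h1
      rw [if_neg (Ne.symm hij)] at h2
      exact h1.symm.trans h2
    refine Groth.L09.CoprodTopos.isColimit_sheafify_of_locallyBijective (fun i => yoneda.obj (Y i)) (fun i => yoneda.map (s i))
      (fun U (x : U ⟶ X) => ⟨(Sieve.ofArrows Y s).pullback x, J.pullback_stable x ?_, fun V k hk => ?_⟩)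
      (fun i U (y : U ⟶ Y i) (y' : U ⟶ Y i) e => ⟨⊤, J.top_mem _, fun V k _ => ?_⟩)
      (fun i j hij U (y : U ⟶ Y i) (y' : U ⟶ Y j) e => ?_)
    · refine Sheaf.mem_finestTopology_of_forall_isSheafFor ?_
      rintro _ ⟨W, rfl⟩ U g x hx
      obtain ⟨hU⟩ := hpb g
      have hmem : ∀ k, (Sieve.ofArrows Y s).pullback g (pullback.snd (s k) g) := fun k => by
        rw [Sieve.pullback_apply, Sieve.mem_ofArrows_iff]
        exact ⟨k, pullback.fst (s k) g, pullback.condition.symm⟩
      refine ⟨Cofan.IsColimit.desc hU (fun k => x _ (hmem k)), fun V a ha => ?_, fun m hm => ?_⟩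
      · have ha' := ha
        rw [Sieve.pullback_apply, Sieve.mem_ofArrows_iff] at ha'
        obtain ⟨k, b, hb⟩ := ha'
        have hl := pullback.lift_snd (f := s k) (g := g) b a hb.symm
        have := hx (pullback.lift b a hb.symm) (𝟙 V) (hmem k) ha (by rw [hl, Category.id_comp])
        show a ≫ Cofan.IsColimit.desc hU _ = x a ha
        have hf := Cofan.IsColimit.fac hU (fun k => x _ (hmem k)) k
        conv_lhs => rw [← hl]
        rw [Category.assoc]
        exact ((congrArg (pullback.lift b a hb.symm ≫ ·) hf).trans this).trans (Category.id_comp _)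
      · refine Cofan.IsColimit.hom_ext hU _ _ fun k => ?_
        rw [Cofan.IsColimit.fac]
        exact hm _ (hmem k)
    · rw [Sieve.pullback_apply, Sieve.mem_ofArrows_iff] at hk
      obtain ⟨i, a, ha⟩ := hk
      exact ⟨i, a, ha.symm⟩
    · have : Mono (s i) := CoproductDisjoint.mono_inj hcC i
      exact congrArg (fun z : U ⟶ Y i => k ≫ z) ((cancel_mono (s i)).mp e)
    · refine Sheaf.mem_finestTopology_of_forall_isSheafFor ?_
      rintro _ ⟨W, rfl⟩ V g x hx
      obtain ⟨m, -, hm⟩ := hz i j hij (g ≫ y) (g ≫ y') (by simpa using congrArg (g ≫ ·) e) W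
      exact ⟨m, fun Z a ha => False.elim ha, fun m' _ => hm m' trivial⟩

end Groth.Agent.S6143
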