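import Groth.Statements.S6144
import Groth.Agent.L09.LanInd
import Groth.Prelude.Def_SGA4a
import Mathlib.CategoryTheory.Subobject.Basic
import Mathlib.CategoryTheory.Limits.Shapes.Diagonal
import Mathlib.CategoryTheory.Preadditive.Injective.Basic
import Mathlib.CategoryTheory.Sites.LocallyBijective
import Mathlib.CategoryTheory.Sites.Limits

set_option autoImplicit false
open CategoryTheory CategoryTheory.Limits
universe w v u
open SGA4

namespace Groth.Agent.S6144
open CategoryTheory Category Functor Limits Opposite

/-- Let `E` be a category with `v`-small hom-sets and pullbacks, admitting a detecting family of objects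
indexed by a `v`-small type (maps out of the family jointly reflect isomorphisms). Then every
detecting family `Y : I → E`, indexed by an arbitrary type, contains a detecting subfamily indexed
by a `v`-small subset of `I`. -/
theorem result
    {E : Type u} [Category.{v} E] [HasPullbacks E] {κ : Type v} (G : κ → E)
    (hG : (ObjectProperty.ofObj G).IsDetecting) {I : Type w} (Y : I → E)
    (hY : (ObjectProperty.ofObj Y).IsDetecting) :
    ∃ J : Set I, Small.{v} J ∧ (ObjectProperty.ofObj (fun j : J => Y j)).IsDetecting := by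
  let R : ∀ {k : κ} {M : E}, (M ⟶ G k) → Set (Σ k', G k' ⟶ G k) := fun m =>
    {p | ∃ h : _ ⟶ _, h ≫ m = p.2}
  let Bad : Set (Σ k : κ, Set (Σ k', G k' ⟶ G k)) :=
    {p | ∃ (M : E) (m : M ⟶ G p.1), Mono m ∧ R m = p.2 ∧
      ∃ (i : I) (s : Y i ⟶ G p.1), ¬ ∃ h, h ≫ m = s}
  choose M m hm hR wit s hs using fun p : Bad => p.2
  refine ⟨Set.range wit, small_range wit, ?_⟩
  have hmono : ∀ {A B : E} (f : A ⟶ B), Mono f →
      (∀ p (t : Y (wit p) ⟶ B), ∃ h, h ≫ f = t) → IsIso f := by
    intro A B f _ hf
    refine hG f fun T hT t => ?_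
    obtain ⟨k⟩ := hT
    have hP : IsIso (pullback.snd f t) := by
      refine hY _ fun T hT σ => ?_
      obtain ⟨i⟩ := hT
      by_cases hσ : ∃ h, h ≫ pullback.snd f t = σ
      · obtain ⟨h, hh⟩ := hσ
        exact ⟨h, hh, fun y hy => (cancel_mono _).mp (hy.trans hh.symm)⟩
      exfalso
      let p : Bad := ⟨⟨k, R (pullback.snd f t)⟩, _, pullback.snd f t, inferInstance, rfl, i, σ, hσ⟩
      obtain ⟨h, hh⟩ := hf p (s p ≫ t)
      apply hs p
      have hl := pullback.lift_snd h (s p) hh
      -- transport along the equality of realised sets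
      have hle : ∃ e : pullback f t ⟶ M p, e ≫ m p = pullback.snd f t := by
        have := hm p
        have : IsIso (pullback.snd (m p) (pullback.snd f t)) := by
          refine hG _ fun T hT g => ?_
          obtain ⟨k'⟩ := hT
          have hmem : (⟨k', g ≫ pullback.snd f t⟩ : Σ k', G k' ⟶ G k) ∈ R (m p) := by
            rw [hR p]; exact ⟨g, rfl⟩
          obtain ⟨h', hh'⟩ := hmem
          exact ⟨pullback.lift h' g hh', pullback.lift_snd _ _ _,
            fun y hy => (cancel_mono (pullback.snd (m p) (pullback.snd f t))).mp (hy.trans (pullback.lift_snd _ _ _).symm)⟩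
        refine ⟨CategoryTheory.inv (pullback.snd (m p) (pullback.snd f t)) ≫ pullback.fst _ _, ?_⟩
        rw [assoc, pullback.condition, IsIso.inv_hom_id_assoc]
      obtain ⟨e, he⟩ := hle
      exact ⟨pullback.lift h (s p) hh ≫ e, by rw [assoc, he, hl]⟩
    refine ⟨CategoryTheory.inv (pullback.snd f t) ≫ pullback.fst f t, ?_, fun y hy => ?_⟩
    · simp [assoc, pullback.condition]
    · rw [← cancel_mono f]; simp [assoc, pullback.condition, hy]
  intro A B f hf
  have hu : ∀ p (t : Y (wit p) ⟶ B), ∃! h, h ≫ f = t := fun p t => hf _ ⟨⟨wit p, p, rfl⟩⟩ t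
  have : Mono f := by
    refine (pullback.isIso_diagonal_iff f).mp (hmono _ inferInstance fun p t => ⟨t ≫ pullback.fst f f, ?_⟩)
    apply pullback.hom_ext
    · simp
    · have hc : (t ≫ pullback.snd f f) ≫ f = (t ≫ pullback.fst f f) ≫ f := by simp [assoc, pullback.condition]
      simpa using ((hu p _).unique hc rfl).symm
  exact hmono f this fun p t => (hu p t).exists

end Groth.Agent.S6144
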