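import Groth.Statements.S6159
import Groth.Agent.L09.ShfSetup
import Mathlib.CategoryTheory.Sites.Continuous
import Mathlib.CategoryTheory.Limits.Preserves.Opposites

set_option autoImplicit false
universe u
open CategoryTheory
open SGA4

namespace Groth.Agent.S6159
open CategoryTheory Category Limits Opposite Groth.L09.Giraud

open CategoryTheory.Limits in
/-- Sheaf topoi on small sites (C, J), (D, K), each with its canonical topology: a functor f from
sheaves of sets on C to sheaves of sets on D commutes with all u-small colimits if and only if it is
continuous, i.e. composition with f carries every sheaf of sets for the canonical topology of the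
target to a sheaf for the canonical topology of the source. (Continuity is Mathlib's
`Functor.IsContinuous`: on these large sites it tests sheaves with values in the next universe,
`Type (u+1)`, which is the source's choice of a larger universe for the test sheaves; the hom
universe is u. The equivalence of both conditions with f being a left adjoint is a separate result,
not stated here.) -/
theorem result {C D : Type u} [SmallCategory C] [SmallCategory D]
    (J : GrothendieckTopology C) (K : GrothendieckTopology D) (f : Sheaf J (Type u) ⥤ Sheaf K (Type u)) :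
    PreservesColimitsOfSize.{u, u} f ↔
      f.IsContinuous.{u} (Sheaf.canonicalTopology (Sheaf J (Type u))) (Sheaf.canonicalTopology (Sheaf K (Type u))) := by
  obtain ⟨C₁, _, w₁, hw₁⟩ := shf_setup J
  obtain ⟨C₂, _, w₂, hw₂⟩ := shf_setup K
  constructor
  · intro hf
    have hop : PreservesLimitsOfSize.{u, u} f.op := preservesLimitsOfSize_op f
    have : f.IsLeftAdjoint := isLeftAdjoint_of_hasGlue f fun Y => hasGlue_of_preservesLimits hw₁ _
    let adj := Adjunction.ofIsLeftAdjoint f
    refine ⟨fun G => ?_⟩
    have hG : Presieve.IsSheaf (Sheaf.canonicalTopology (Sheaf K (Type u))) G.obj :=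
      (isSheaf_iff_isSheaf_of_type _ _).1 G.property
    refine (isSheaf_canonical_iff_hasGlue hw₁ _).2 ?_
    have : PreservesLimitsOfSize.{u, u} G.obj :=
      preservesLimits_of_hasGlue hw₂ _ ((isSheaf_canonical_iff_hasGlue hw₂ _).1 hG)
    exact hasGlue_of_preservesLimits hw₁ _
  · intro hf
    have : f.IsLeftAdjoint := by
      refine isLeftAdjoint_of_hasGlue f fun Y => (isSheaf_canonical_iff_hasGlue hw₁ _).1 ?_
      let G : Sheaf (Sheaf.canonicalTopology (Sheaf K (Type u))) (Type (u + 1)) :=
        ⟨yoneda.obj Y ⋙ uliftFunctor.{u + 1}, (isSheaf_iff_isSheaf_of_type _ _).2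
          (Presieve.isSheaf_comp_uliftFunctor _ (Sheaf.isSheaf_yoneda_obj Y))⟩
      refine (Presieve.isSheaf_iff_of_nat_equiv (P₁ := f.op ⋙ yoneda.obj Y) (P₂ := f.op ⋙ G.obj)
        (fun _ => Equiv.ulift.symm) (fun _ _ _ _ => rfl)).2 ?_
      exact hf.op_comp_isSheaf_of_types G
    exact (Adjunction.ofIsLeftAdjoint f).leftAdjoint_preservesColimits

end Groth.Agent.S6159
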