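import Groth.Statements.S6167
import Groth.Agent.L15.FlatCrit.Factor
import Mathlib.Tactic.Ring
import Mathlib.Tactic.LinearCombination
import Mathlib.Tactic.FieldSimp
import Mathlib.Algebra.BigOperators.Ring.Finset

set_option autoImplicit false
universe u
open CategoryTheory
open ModSite

namespace Groth.Agent.S6167

/-- Ringed site (C, O), small, with commutative structure sheaf: a morphism from an O-module of finite
presentation (Mathlib's notion: over some family of objects covering every object, a cokernel of a
map of finite free modules) to a flat O-module factors, locally on the site, through a finite free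
module: for every object X there is a covering family (Y_i -> X) and for each i a factorisation
F|Y_i -> (O|Y_i)^n -> H|Y_i of the restricted morphism. -/
theorem result {C : Type u} [SmallCategory C] {J : GrothendieckTopology C}
    (O : Sheaf J CommRingCat.{u}) (F H : ModSite.Mod O) [F.IsFinitePresentation] (hH : ModSite.IsFlat H)
    (φ : F ⟶ H) (X : C) :
    ∃ (ι : Type u) (Y : ι → C) (g : ∀ i, Y i ⟶ X), Sieve.ofArrows Y g ∈ J X ∧
      ∀ i, ∃ (n : ℕ) (a : (ModSite.restr O (Y i)).obj F ⟶ SheafOfModules.free (ULift.{u} (Fin n)))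
        (b : SheafOfModules.free (ULift.{u} (Fin n)) ⟶ (ModSite.restr O (Y i)).obj H),
        a ≫ b = (ModSite.restr O (Y i)).map φ := by
  obtain ⟨σ, hσ⟩ := SheafOfModules.IsFinitePresentation.exists_quasicoherentData F
  let good : (Σ W : C, W ⟶ X) → Prop := fun i =>
    ∃ (n : ℕ) (a : (ModSite.restr O i.1).obj F ⟶ SheafOfModules.free (ULift.{u} (Fin n)))
      (b : SheafOfModules.free (ULift.{u} (Fin n)) ⟶ (ModSite.restr O i.1).obj H),
      a ≫ b = (ModSite.restr O i.1).map φ
  refine ⟨{i : Σ W : C, W ⟶ X // good i}, fun i => i.1.1, fun i => i.1.2, ?_, fun i => i.2⟩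
  refine J.transitive (σ.coversTop X) _ fun Y h hh => ?_
  obtain ⟨i, ⟨v⟩⟩ := (Sieve.mem_ofObjects_iff ..).mp hh
  obtain ⟨R, hR, hRd⟩ := Groth.L15.FlatCrit.exists_sieve_factor O hH φ (σ.presentation i) v
  refine J.superset_covering (fun W e he => ?_) hR
  exact Sieve.ofArrows_mk (fun i : {i : Σ W : C, W ⟶ X // good i} => i.1.1) (fun i => i.1.2) ⟨⟨W, e ≫ h⟩, hRd e he⟩

end Groth.Agent.S6167
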