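import Groth.Statements.S6172
-- import your own Groth.Agent.* helpers here

set_option autoImplicit false
universe u
open CategoryTheory
open SGA4

namespace Groth.Agent.S6172

open CategoryTheory.Limits MonoidalCategory in
/-- Topos E of sheaves of sets on a small site, localised at an object Z: with j_Z : E/Z -> E the
localisation morphism, j_Z^* X = Z x X over Z, and j_{Z*} its right adjoint (taken as an instance
hypothesis, which holds in any topos), j_{Z*} j_Z^* Y is isomorphic to the internal hom Hom(Z, Y)
for every object Y. Existence of an isomorphism only (the source's is canonical). -/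
theorem result {C : Type u} [SmallCategory C] (J : GrothendieckTopology C)
    (Z Y : Sheaf J (Type u)) [(Over.star Z).IsLeftAdjoint] :
    Nonempty (((Over.star Z).rightAdjoint).obj ((Over.star Z).obj Y) ≅ (ihom Z).obj Y) := by
  let t : ∀ X : Sheaf J (Type u), (Z ⊗ X) ≅ Limits.prod Z X := fun X =>
    IsLimit.conePointUniqueUpToIso (s := BinaryFan.mk (SemiCartesianMonoidalCategory.fst Z X) (SemiCartesianMonoidalCategory.snd Z X))
      (t := BinaryFan.mk Limits.prod.fst Limits.prod.snd)
      (CartesianMonoidalCategory.tensorProductIsBinaryProduct Z X) (Limits.prodIsProd Z X)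
  have h₁ : ∀ X, (t X).hom ≫ Limits.prod.fst = SemiCartesianMonoidalCategory.fst Z X := fun X =>
    IsLimit.conePointUniqueUpToIso_hom_comp _ _ (Discrete.mk WalkingPair.left)
  have h₂ : ∀ X, (t X).hom ≫ Limits.prod.snd = SemiCartesianMonoidalCategory.snd Z X := fun X =>
    IsLimit.conePointUniqueUpToIso_hom_comp _ _ (Discrete.mk WalkingPair.right)
  let e : tensorLeft Z ≅ Over.star Z ⋙ Over.forget Z := NatIso.ofComponents (fun X => t X) fun {X X'} f => by
    show (Z ◁ f) ≫ (t X').hom = (t X).hom ≫ Limits.prod.map (𝟙 Z) f
    apply Limits.prod.hom_ext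
    · rw [Category.assoc, h₁, Category.assoc, Limits.prod.map_fst, Category.comp_id, h₁]; exact CartesianMonoidalCategory.whiskerLeft_fst Z f
    · rw [Category.assoc, h₂, Category.assoc, Limits.prod.map_snd, reassoc_of% (h₂ X)]; exact CartesianMonoidalCategory.whiskerLeft_snd Z f
  exact ⟨(((((Adjunction.ofIsLeftAdjoint (Over.star Z)).comp (Over.forgetAdjStar Z)).ofNatIsoLeft e.symm)).rightAdjointUniq
    (ihom.adjunction Z)).app Y⟩

end Groth.Agent.S6172
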