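import Groth.Statements.S6173
import Groth.Prelude.Def_SGA4a
import Mathlib.CategoryTheory.Sites.Point.Over
import Mathlib.CategoryTheory.Sites.Point.Map
import Mathlib.CategoryTheory.Sites.CoversTop
import Mathlib.CategoryTheory.Sites.LocallyBijective

set_option autoImplicit false
universe u
open CategoryTheory
open SGA4

namespace Groth.Agent.S6173
open CategoryTheory Category Limits Opposite

/-- Second assertion (topos of sheaves on a small site (C, J); E/X_i the induced topoi, modelled by the
sites (C/X_i, J/X_i); 'enough points' = a small conservative family of points, equivalently all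
fibre functors together are conservative): if (X_i) is a family of objects covering the final object
and every E/X_i has enough points, then E has enough points. (The first assertion, that E/X inherits
enough points from E, is Mathlib's instance.) -/
theorem result {C : Type u} [SmallCategory C] (J : GrothendieckTopology C) {ι : Type u}
    (X : ι → C) (hX : J.CoversTop X) (h : ∀ i, GrothendieckTopology.HasEnoughPoints.{u} (J.over (X i))) :
    GrothendieckTopology.HasEnoughPoints.{u} J := by
  choose P hPs hP using fun i => (h i).exists_objectProperty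
  let pt : (Σ i, (P i).FullSubcategory) → GrothendieckTopology.Point.{u} J := fun x => x.2.obj.map (Over.forget (X x.1)) J
  have : ∀ i, Small.{u} (P i).FullSubcategory := fun i =>
    small_of_surjective (α := Subtype (P i)) (f := fun z => ⟨z.1, z.2⟩) fun z => ⟨⟨z.obj, z.property⟩, rfl⟩
  refine ⟨ObjectProperty.ofObj pt, inferInstance, ⟨⟨fun {F G} f hf => ?_⟩⟩⟩
  have key : ∀ i, IsIso (((Over.forget (X i)).sheafPushforwardContinuous (Type u) (J.over (X i)) J).map f) := fun i => by
    have := fun Φ : (P i).FullSubcategory =>
      (NatIso.isIso_map_iff (Φ.obj.sheafFiberMapIso (Over.forget (X i)) J (Type u)) f).mp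
        (hf ⟨pt ⟨i, Φ⟩, ObjectProperty.ofObj_apply _ _⟩)
    exact (hP i).jointlyReflectIsomorphisms_type.isIso_iff _ |>.mpr this
  have hbij : ∀ (T : C) (i : ι) (_ : T ⟶ X i), Function.Bijective (f.hom.app (op T)) := fun T i a => by
    have := key i
    exact (isIso_iff_bijective _).mp (inferInstanceAs (IsIso
      ((((sheafToPresheaf (J.over (X i)) (Type u)).map
        (((Over.forget (X i)).sheafPushforwardContinuous (Type u) (J.over (X i)) J).map f))).app (op (Over.mk a)))))
  refine (Sheaf.isLocallyBijective_iff_isIso f).mp ⟨⟨fun {U} x y e => ?_⟩, ⟨fun {U} y => ?_⟩⟩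
  · obtain ⟨U⟩ := U
    refine J.superset_covering ?_ (hX U)
    rintro T k ⟨i, ⟨a⟩⟩
    refine (hbij T i a).injective ?_
    show f.hom.app (op T) (F.obj.map k.op x) = f.hom.app (op T) (F.obj.map k.op y)
    rw [NatTrans.naturality_apply, NatTrans.naturality_apply, e]
  · refine J.superset_covering ?_ (hX U)
    rintro T k ⟨i, ⟨a⟩⟩
    exact (hbij T i a).surjective _

end Groth.Agent.S6173
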