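import Groth.Statements.S6176
import Groth.Agent.L09.LanInd
import Groth.Prelude.Def_SGA4a
import Mathlib.CategoryTheory.Subobject.Basic
import Mathlib.CategoryTheory.Limits.Shapes.Diagonal
import Mathlib.CategoryTheory.Preadditive.Injective.Basic
import Mathlib.CategoryTheory.Sites.LocallyBijective
import Mathlib.CategoryTheory.Sites.Limits

set_option autoImplicit false
universe u
open CategoryTheory
open SGA4

namespace Groth.Agent.S6176
open CategoryTheory Category Functor Limits Opposite

open CategoryTheory.Limits in
/-- The clause on products (topos of sheaves of sets on a small site; j : E/U -> E the open embedding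
defined by an open U, i.e. a subobject of the final object, so that j_! is the forgetful functor
from objects over U): j_! commutes with products indexed by a nonempty u-small set. (Commutation
with fibre products and cofiltered limits, the other clauses, holds for the forgetful functor of any
slice.) -/
theorem result {C : Type u} [SmallCategory C] (J : GrothendieckTopology C)
    (U : Sheaf J (Type u)) (hU : SGA4.IsOpen U) (I : Type u) [Nonempty I] :
    PreservesLimitsOfShape (Discrete I) (Over.forget U) := by
  refine ⟨fun {K} => ⟨fun {c} hc => ⟨?_⟩⟩⟩
  have hsub : ∀ {A : Sheaf J (Type u)} (a b : A ⟶ U), a = b := fun a b =>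
    have : Mono (terminal.from U) := hU
    (cancel_mono (terminal.from U)).mp (terminal.hom_ext _ _)
  let i₀ : Discrete I := ⟨Classical.arbitrary I⟩
  let lift : ∀ s : Cone (K ⋙ Over.forget U), Cone K := fun s =>
    { pt := Over.mk (s.π.app i₀ ≫ (K.obj i₀).hom)
      π := Discrete.natTrans fun i => Over.homMk (s.π.app i) (hsub _ _) }
  refine IsLimit.mk (fun s => (hc.lift (lift s)).left) (fun s i => ?_) (fun s m hm => ?_)
  · exact congrArg CommaMorphism.left (hc.fac (lift s) i)
  · let m' : (lift s).pt ⟶ c.pt := Over.homMk m (hsub _ _)
    have : m' = hc.lift (lift s) := hc.uniq (lift s) m' fun i => Over.OverMorphism.ext (hm i)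
    exact congrArg CommaMorphism.left this

end Groth.Agent.S6176
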