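import Groth.Statements.S6177
import Groth.Agent.L09.Closed

set_option autoImplicit false
universe u
open CategoryTheory
open SGA4

namespace Groth.Agent.S6177
open CategoryTheory Category Limits SGA4 Groth.L09.Closed

open CategoryTheory.Limits in
/-- Topos of sheaves of sets on a small site; U an open, i.e. a subobject of the final object; X_CU the
pushout of U <- U x X -> X along the two projections: (ii) <=> (iii): the canonical map X -> X_CU is
an isomorphism if and only if the projection U x X -> U is an isomorphism (X belongs to the closed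
complement of U); and (i) => (iii): if X is isomorphic to Y_CU for some Y then X belongs to the
closed complement of U ((iii) => (i) with Y = X is then immediate from (ii)). -/
theorem result {C : Type u} [SmallCategory C] (J : GrothendieckTopology C)
    (U : Sheaf J (Type u)) (hU : SGA4.IsOpen U) (X : Sheaf J (Type u)) :
    (SGA4.closedCompl U X ↔ IsIso (pushout.inr (prod.fst : U ⨯ X ⟶ U) (prod.snd : U ⨯ X ⟶ X))) ∧
    ((∃ Y : Sheaf J (Type u), Nonempty (X ≅ pushout (prod.fst : U ⨯ Y ⟶ U) (prod.snd : U ⨯ Y ⟶ Y))) →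
      SGA4.closedCompl U X) := by
  have key : ∀ {A B : Sheaf J (Type u)} (_ : A ≅ B), SGA4.closedCompl U A → SGA4.closedCompl U B := by
    intro A B e (h : IsIso _)
    have : IsIso (prod.map (𝟙 U) e.inv) := inferInstance
    show IsIso (prod.fst : U ⨯ B ⟶ U)
    rw [← (prod.map_fst (𝟙 U) e.inv).trans (comp_id _)]
    infer_instance
  have hp : ∀ Y : Sheaf J (Type u), SGA4.closedCompl U (pushout (prod.fst : U ⨯ Y ⟶ U) (prod.snd : U ⨯ Y ⟶ Y)) :=
    fun Y => key (Groth.L09.Closed.isPushout hU Y).isoPushout (Groth.L09.Closed.cl_mem hU Y)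
  refine ⟨⟨fun h => ?_, fun h => key (asIso (pushout.inr (prod.fst : U ⨯ X ⟶ U) (prod.snd : U ⨯ X ⟶ X))).symm (hp X)⟩,
    fun ⟨Y, ⟨e⟩⟩ => key e.symm (hp Y)⟩
  have := Groth.L09.Closed.η_isIso hU h
  rw [← (Groth.L09.Closed.isPushout hU X).inr_isoPushout_hom]
  infer_instance

end Groth.Agent.S6177
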