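import Groth.Statements.S6180
import Groth.Agent.L27.EtSite.StrictLocal
import Groth.Agent.L27.EtSite.Pull

set_option autoImplicit false
open CategoryTheory CategoryTheory.Limits AlgebraicGeometry Opposite
universe u
open EtDesc

set_option backward.isDefEq.respectTransparency.types false

namespace Groth.Agent.S6180

/-- Let X be a scheme, x a point of X, R a strict henselisation of O_{X,x} with strict localisation X̄ =
Spec R -> X and attached geometric point ξ : Spec κ(R) -> X. The fibre functor F ↦ F_ξ on etale
sheaves of sets on X is isomorphic to the functor F ↦ Γ(X̄, F̄), F̄ the inverse image of F on X̄.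
(The published statement gives a canonical isomorphism — global sections of F̄ identified with its
stalk at the closed point of X̄, then with F_ξ; this row asserts only that an isomorphism of
functors exists.) -/
theorem result (X : Scheme.{u}) (x : X)
    (R : Type u) [CommRing R] [IsLocalRing R] [Algebra (X.presheaf.stalk x) R]
    [IsLocalHom (algebraMap (X.presheaf.stalk x) R)] [Hensel.IsStrictHenselization (X.presheaf.stalk x) R]
    [IsSepClosed (IsLocalRing.ResidueField R)] :
    Nonempty ((Scheme.pointSmallEtale (Hens2.geomPt X x R)).sheafFiber (A := Type (u + 1)) ≅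
      EtDesc.pullSh (Hens2.specOf X x R) ⋙
        (sheafSections (Spec (CommRingCat.of R)).smallEtaleTopology (Type (u + 1))).obj
          (op (EtCoh.top (Spec (CommRingCat.of R))))) := by
  haveI : HenselianLocalRing R :=
    (‹Hensel.IsStrictHenselization (X.presheaf.stalk x) R›).henselian
  let ξ := Groth.L27.EtSite.closedPt R
  let Φ := Scheme.pointSmallEtale ξ
  let T := EtCoh.top (Spec (CommRingCat.of R))
  let S₀ := (sheafSections (Spec (CommRingCat.of R)).smallEtaleTopology (Type (u + 1))).obj (op T)
  let α : S₀ ⟶ Φ.sheafFiber (A := Type (u + 1)) :=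
    { app := fun G => Φ.toPresheafFiber T (Groth.L27.EtSite.topPt R) G.obj
      naturality := fun G G' φ => (Φ.toPresheafFiber_naturality φ.hom T (Groth.L27.EtSite.topPt R)).symm }
  haveI : ∀ G, IsIso (α.app G) := fun G =>
    (ConcreteCategory.isIso_iff_bijective _).2 (Groth.L27.EtSite.bijective_toPresheafFiber R G.obj)
  haveI : IsIso α := NatIso.isIso_of_isIso_app α
  exact ⟨(Groth.L27.EtSite.stalkPullShIso (Hens2.specOf X x R) ξ).symm ≪≫
    Functor.isoWhiskerLeft _ (asIso α).symm⟩

end Groth.Agent.S6180
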