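import Groth.Statements.S6191
import Groth.Agent.Lead.StalkPush
import Groth.Agent.L10.DRing.Amp
set_option linter.style.haveILetI false
set_option backward.isDefEq.respectTransparency false
set_option backward.isDefEq.respectTransparency.types false
set_option backward.defeqAttrib.useBackward true

set_option autoImplicit false
universe u
open CategoryTheory CategoryTheory.Limits AlgebraicGeometry
attribute [local instance] HasDerivedCategory.standard
open KSix

namespace Groth.Agent.S6191

/-- Let i : X ⟶ X' be a closed immersion, f' : X' ⟶ Y smooth, f = i ≫ f', and F a cochain complex of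
O_X-modules whose termwise direct image i_* F has tor amplitude in [a, b] in the absolute sense on
X' (it is isomorphic in D(O_X') to a complex of flat O_X'-modules placed in [a, b]). Then F has tor
amplitude in [a, b] relative to f (stalkwise flat models placed in [a, b] over the local rings of
Y). -/
theorem result {X X' Y : Scheme.{u}} (i : X ⟶ X') [IsClosedImmersion i]
    (f' : X' ⟶ Y) [Smooth f'] (F : CochainComplex X.Modules ℤ) (a b : ℤ)
    (hF : DCoh.HasFlatAmplitudeIn a b (DCoh.toD X' (((Scheme.Modules.pushforward i).mapHomologicalComplex (ComplexShape.up ℤ)).obj F))) :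
    DerSch.HasTorAmplitude (i ≫ f') a b F := by
  intro x
  obtain ⟨E, hE, hflat, ⟨e⟩⟩ := hF
  let T := DerSch.stalkCxOver f' (i x)
  let R := DerSch.stalkOver f' (i x)
  haveI : PreservesFiniteLimits (DerSch.stalkFunctor X' (i x)) := Groth.L00.Stk.preservesFiniteLimits (X := X') (i x)
  haveI : PreservesFiniteColimits (DerSch.stalkFunctor X' (i x)) := Groth.L00.Stk.preservesFiniteColimits (X := X') (i x)
  haveI : PreservesFiniteColimits (ModuleCat.restrictScalars.{u} (f'.stalkMap (i x)).hom) := inferInstance
  let e' := R.mapDerivedCategory.mapIso e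
  refine Groth.L10.DR.amp_of_iso
    ((R.mapDerivedCategoryFactors.app E).symm ≪≫ e' ≪≫ R.mapDerivedCategoryFactors.app _ ≪≫
      DerivedCategory.Q.mapIso ((NatIso.mapHomologicalComplex (Groth.Lead.StalkPush.stalkOverPushIso i f' x
        i.isClosedEmbedding.isInducing) (ComplexShape.up ℤ)).app F)) ?_
  refine ⟨T.obj E, fun n hn => R.map_isZero (hE n hn), fun n => ?_, ⟨Iso.refl _⟩⟩
  letI : Algebra (Y.presheaf.stalk (f' (i x))) (X'.presheaf.stalk (i x)) := (f'.stalkMap (i x)).hom.toAlgebra
  haveI : Module.Flat (Y.presheaf.stalk (f' (i x))) (X'.presheaf.stalk (i x)) := Flat.stalkMap f' (i x)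
  haveI : Module.Flat (X'.presheaf.stalk (i x)) ((DerSch.stalkFunctor X' (i x)).obj (E.X n)) := hflat n (i x)
  letI : Module (Y.presheaf.stalk (f' (i x))) ((DerSch.stalkFunctor X' (i x)).obj (E.X n)) :=
    Module.compHom _ (f'.stalkMap (i x)).hom
  haveI : IsScalarTower (Y.presheaf.stalk (f' (i x))) (X'.presheaf.stalk (i x)) ((DerSch.stalkFunctor X' (i x)).obj (E.X n)) :=
    IsScalarTower.of_algebraMap_smul fun _ _ => rfl
  exact Module.Flat.trans (Y.presheaf.stalk (f' (i x))) (X'.presheaf.stalk (i x)) ((DerSch.stalkFunctor X' (i x)).obj (E.X n))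

end Groth.Agent.S6191
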