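import Groth.Statements.S6193
import Groth.Agent.L10.RelPC.RpushAmpLoc

set_option autoImplicit false
set_option backward.defeqAttrib.useBackward true
set_option backward.isDefEq.respectTransparency false
universe u
open CategoryTheory CategoryTheory.Limits AlgebraicGeometry
attribute [local instance] HasDerivedCategory.standard
open KSix

namespace Groth.Agent.S6193

/-- Let f : X ⟶ Y be quasi-compact, quasi-separated and locally of finite tor dimension (the structure
sheaf of X is locally of finite tor amplitude relative to f, stalkwise), the derived direct image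
being assumed to exist, and let E ∈ D(O_X), given by a cochain complex F, have bounded
quasi-coherent cohomology. If E is locally of finite tor dimension in the absolute sense on X, then
Rf_* E is locally of finite tor dimension in the absolute sense on Y. -/
theorem result {X Y : Scheme.{u}} (f : X ⟶ Y) [QuasiCompact f] [QuasiSeparated f]
    [DCoh.HasRpush f] (hf : DerSch.LocFiniteTorDim f) (F : CochainComplex X.Modules ℤ)
    (hqc : DCoh.IsQCohD (DCoh.toD X F)) (c d : ℤ) [(DCoh.toD X F).IsGE c] [(DCoh.toD X F).IsLE d]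
    (hE : DCoh.LocHasFiniteTorDim (DCoh.toD X F)) :
    DCoh.LocHasFiniteTorDim ((DCoh.Rpush f).obj (DCoh.toD X F)) := by
  have h₁ : DerSch.LocFiniteTorAmplitude (f ≫ 𝟙 Y) F := by
    rw [Category.comp_id]
    exact Groth.L10.RelPC.RpushAmpLoc.locFinite_of_abs f hf F ((Groth.Lead.SmoothPerf.locFinite_iff (𝟙 X) F).2 hE)
  let R := DerivedCategory.Q.objPreimage ((DCoh.Rpush f).obj (DCoh.toD X F))
  let eR : DCoh.toD Y R ≅ (DCoh.Rpush f).obj (DCoh.toD X F) := DerivedCategory.Q.objObjPreimageIso _
  intro y
  obtain ⟨V, a, b, hy, hV⟩ := (Groth.Lead.SmoothPerf.locFinite_iff (𝟙 Y) R).1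
    (Groth.L10.RelPC.RpushAmpLoc.locFinite_Rpush f (𝟙 Y) F hqc h₁ R eR) y
  exact ⟨V, a, b, hy, fun F' ⟨e⟩ => hV F' ⟨e ≪≫ eR.symm⟩⟩

end Groth.Agent.S6193
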