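import Groth.Statements.S6207
import Groth.Agent.L29.RelPC.Mor

set_option autoImplicit false
set_option backward.isDefEq.respectTransparency false
universe u
open CategoryTheory CategoryTheory.Limits AlgebraicGeometry
attribute [local instance] HasDerivedCategory.standard
open KSix

namespace Groth.Agent.S6207

/-- Suppose g : Y ⟶ Z is locally of finite type and pseudo-coherent (meaning O_Y, placed in degree 0, is
n-pseudo-coherent relative to g for each integer n). Fix an integer r and an object E of D(O_Y)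
whose cohomology is bounded above. Then absolute r-pseudo-coherence of E on Y holds exactly when E
is r-pseudo-coherent relative to g (chart form). -/
theorem result {Y Z : Scheme.{u}} (g : Y ⟶ Z)
    [LocallyOfFiniteType g] (hg : ∀ n : ℤ, DerSch.IsNPseudoCoherent g n) (r b : ℤ) (E : DCoh.D Y) [E.IsLE b] :
    DCoh.IsPseudoCoherentD r E ↔ DerSch.IsPseudoCoherentRel g r E := by
  have hP : ∀ (U : Y.Opens) (V : Z.Opens) (hU : IsAffineOpen U) (hV : IsAffineOpen V) (hle : U ≤ g ⁻¹ᵁ V) (n : ℕ)
      (φ : MvPolynomial (Fin n) Γ(Z, V) →+* Γ(Y, U)) (hφ : DerSch.IsChart g U V hle φ)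
      (_ : IsClosedImmersion (Groth.L29.RelPC.chartI U φ)),
      Groth.L29.DC.ClosedPC.PO (Groth.L29.RelPC.chartI U φ) := by
    intro U V hU hV hle n φ hφ _ k
    haveI := Groth.L29.DC.ClosedPC.additive (Groth.L29.RelPC.chartI U φ)
    haveI := Groth.L29.DC.ClosedPC.exactLeft (Groth.L29.RelPC.chartI U φ)
    haveI := Groth.L29.DC.ClosedPC.exactRight (Groth.L29.RelPC.chartI U φ)
    refine Groth.L29.DC.isPseudoCoherentD_of_iso ?_
      (Groth.L29.RelPC.good_of_rel ((Groth.L29.RelPC.unit_pc_iff k).1 (hg k)) hU hV hle hle n φ hφ).2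
    exact (Groth.L29.DC.ClosedPC.pD (Groth.L29.RelPC.chartI U φ)).mapIso
        (((Scheme.Modules.restrictFunctor U.ι).mapDerivedCategorySingleFunctor 0).app _ ≪≫
          (DerivedCategory.singleFunctor _ 0).mapIso (Scheme.Modules.restrictUnitIso U.ι)) ≪≫
      ((Scheme.Modules.pushforward (Groth.L29.RelPC.chartI U φ)).mapDerivedCategorySingleFunctor 0).app _
  constructor
  · intro hE
    refine Groth.L29.RelPC.rel_iff.2 fun U V hU hV hle _ n φ hφ => ?_
    haveI := Groth.L29.RelPC.isClosedImmersion_chartI hU hφ.1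
    exact ⟨inferInstance, (Groth.L29.DC.ClosedPC.pc_push_iff _ (hP U V hU hV hle n φ hφ inferInstance) _ r).1
      (Groth.L29.DC.PCStalk.pc_res U.ι hE)⟩
  · intro hE
    refine Groth.L29.DC.PCDesc.pc_of_local fun y => ?_
    obtain ⟨U, V, hle, hU, hV, hy⟩ := Groth.L29.RelPC.exists_affine y g
    obtain ⟨n, φ, hφ⟩ := Groth.L29.RelPC.exists_isChart g hU hV hle
    obtain ⟨_, hp⟩ := Groth.L29.RelPC.good_of_rel hE hU hV hle hle n φ hφ
    exact ⟨U, hy, (Groth.L29.DC.ClosedPC.pc_push_iff _ (hP U V hU hV hle n φ hφ inferInstance) _ r).2 hp⟩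

end Groth.Agent.S6207
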