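import Groth.Statements.S6214
import Groth.Agent.Lead.AmpZero
import Groth.Agent.L29.RelPC.Mor
import Groth.Agent.L29.RelPC.Hom2
import Groth.Agent.L29.RelPC.SrcPerfect
set_option linter.style.haveILetI false
set_option backward.isDefEq.respectTransparency false
set_option backward.isDefEq.respectTransparency.types false
set_option backward.defeqAttrib.useBackward true

set_option autoImplicit false
universe u
open CategoryTheory CategoryTheory.Limits AlgebraicGeometry
attribute [local instance] HasDerivedCategory.standard
open KSix

namespace Groth.Agent.S6214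

/-- A morphism f : X ⟶ Y locally of finite type has perfect dimension at most 0 (O_X placed in degree 0
is pseudo-coherent relative to f in chart form and has stalkwise tor amplitude in [0, 0] over the
local rings of Y) if and only if f is flat and locally of finite presentation. -/
theorem result {X Y : Scheme.{u}} (f : X ⟶ Y) [LocallyOfFiniteType f] :
    DerSch.HasPerfDimLE f 0 ↔ (Flat f ∧ LocallyOfFinitePresentation f) := by
  constructor
  · intro h
    obtain ⟨hpc, hamp⟩ := h
    simp only [Nat.cast_zero, neg_zero] at hamp
    refine ⟨(Groth.Lead.AmpZero.isFlatOver_structureModule_iff f).1 ((Groth.Lead.AmpZero.amp_single_iff f _).1 hamp), ?_⟩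
    have hmor : MoreMor.IsPseudoCoherentMor f := Groth.L29.RelPC.mor_iff.2 ⟨inferInstance, hpc⟩
    rw [HasRingHomProperty.iff_appLE (P := @LocallyOfFinitePresentation)]
    intro U V hle
    letI := (f.appLE U.1 V.1 hle).hom.toAlgebra
    exact Groth.L29.RelPC.finitePresentation_of_hom (hmor V.1 U.1 V.2 U.2 hle)
  · rintro ⟨hflat, hlfp⟩
    haveI := hflat
    haveI := hlfp
    refine ⟨(Groth.L29.RelPC.mor_iff.1 (Groth.L29.RelPC.perfect_iff_locTD.1 Groth.L29.RelPC.perfect_of_flat).1).2, ?_⟩
    simp only [Nat.cast_zero, neg_zero]
    exact (Groth.Lead.AmpZero.amp_single_iff f _).2 ((Groth.Lead.AmpZero.isFlatOver_structureModule_iff f).2 hflat)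

end Groth.Agent.S6214
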