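import Groth.Statements.S6217
import Groth.Agent.Lead.SmoothPerf
import Groth.Agent.L29.RelPC.Closed
import Groth.Agent.L29.RelPC.Closed
import Groth.Agent.L29.RelPC.SrcPerfect
import Groth.Agent.L29.DCoh.Amplitude
set_option linter.style.haveILetI false
set_option backward.isDefEq.respectTransparency false
set_option backward.isDefEq.respectTransparency.types false
set_option backward.defeqAttrib.useBackward true

set_option autoImplicit false
universe u
open CategoryTheory CategoryTheory.Limits AlgebraicGeometry
attribute [local instance] HasDerivedCategory.standard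
open KSix

namespace Groth.Agent.S6217

/-- Let i : X ⟶ Y be a closed immersion, g : Y ⟶ S smooth, and F a cochain complex of O_X-modules. Then
F is perfect relative to i ≫ g (pseudo-coherent relative to it in chart form, and locally on X of
finite stalkwise tor amplitude over the local rings of S) if and only if the termwise direct image
i_* F, which computes Ri_* F, is perfect on Y in the absolute sense. -/
theorem result {X Y S : Scheme.{u}} (i : X ⟶ Y) [IsClosedImmersion i]
    (g : Y ⟶ S) [Smooth g] (F : CochainComplex X.Modules ℤ) :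
    DerSch.IsPerfectRel (i ≫ g) F ↔ DCoh.IsPerfect (DCoh.toD Y (((Scheme.Modules.pushforward i).mapHomologicalComplex (ComplexShape.up ℤ)).obj F)) := by
  haveI := Groth.L29.DC.ClosedPC.exactRight i
  haveI := Groth.L29.DC.ClosedPC.exactLeft i
  have hg : ∀ k : ℤ, DerSch.IsNPseudoCoherent g k :=
    (Groth.L29.RelPC.mor_iff.1 (Groth.L29.RelPC.perfect_iff_locTD.1 Groth.L29.RelPC.perfect_of_flat).1).2
  let e := (Scheme.Modules.pushforward i).mapDerivedCategoryFactors.app F
  have hpc : DerSch.IsPseudoCoherentRelAll (i ≫ g) (DCoh.toD X F) ↔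
      ∀ m : ℤ, DCoh.IsPseudoCoherentD m (DCoh.toD Y (((Scheme.Modules.pushforward i).mapHomologicalComplex (ComplexShape.up ℤ)).obj F)) :=
    forall_congr' fun m => (Groth.L29.RelPC.rel_closed_iff i g m (DCoh.toD X F)).trans
      ((Groth.L29.RelPC.pc_iff_rel hg m _).symm.trans
        ⟨Groth.L29.DC.isPseudoCoherentD_of_iso e, Groth.L29.DC.isPseudoCoherentD_of_iso e.symm⟩)
  rw [Groth.L29.DC.isPerfect_iff_pc_finiteTorDim]
  exact and_congr hpc ((Groth.Lead.SmoothStalk.locFinite_push_iff g i F).symm.trans
    (Groth.Lead.SmoothPerf.locFinite_iff g _))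

end Groth.Agent.S6217
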