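import Groth.Statements.S6218
import Groth.Agent.S6191
import Groth.Agent.L29.RelPC.Closed
import Groth.Agent.L29.RelPC.SrcPerfect
import Groth.Agent.L29.DCoh.Amplitude
set_option linter.style.haveILetI false
set_option backward.isDefEq.respectTransparency false
set_option backward.isDefEq.respectTransparency.types false
set_option backward.defeqAttrib.useBackward true

set_option autoImplicit false
universe u
open CategoryTheory CategoryTheory.Limits AlgebraicGeometry
attribute [local instance] HasDerivedCategory.standard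
open KSix

namespace Groth.Agent.S6218

/-- Let i : X ⟶ Y be a closed immersion, g : Y ⟶ S smooth, a and b integers, and F a cochain complex of
O_X-modules such that the termwise direct image i_* F has perfect amplitude in [a, b] on Y in the
absolute sense (locally isomorphic in D to a complex of finite locally free modules placed in [a,
b]). Then F has perfect amplitude in [a, b] relative to i ≫ g (pseudo-coherent relative to it in
chart form, with stalkwise tor amplitude in [a, b] over the local rings of S). -/
theorem result {X Y S : Scheme.{u}} (i : X ⟶ Y) [IsClosedImmersion i]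
    (g : Y ⟶ S) [Smooth g] (a b : ℤ) (F : CochainComplex X.Modules ℤ)
    (hF : KSix.HasPerfectAmplitudeIn a b (DCoh.toD Y (((Scheme.Modules.pushforward i).mapHomologicalComplex (ComplexShape.up ℤ)).obj F))) :
    DerSch.HasPerfAmplitudeRel (i ≫ g) a b F := by
  haveI := Groth.L29.DC.ClosedPC.exactRight i
  haveI := Groth.L29.DC.ClosedPC.exactLeft i
  let G := ((Scheme.Modules.pushforward i).mapHomologicalComplex (ComplexShape.up ℤ)).obj F
  let K := DCoh.toD Y G
  have hloc := (Groth.L29.DC.hasPerfectAmplitudeIn_iff_local K a b).1 hF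
  have hflat : DCoh.HasFlatAmplitudeIn a b K := by
    by_cases hab : a ≤ b
    · refine Groth.L29.DC.flatAmp_of_local hab K fun x => ?_
      obtain ⟨V, hx, T, hv, hf, ⟨e⟩⟩ := hloc x
      exact ⟨V, hx, T, hv, fun n => Groth.L29.DC.isFlat_of_isFinLocFree (hf n), ⟨e.symm⟩⟩
    · have hz : ∀ n, IsZero (DCoh.HD K n) := fun n => Groth.L29.DC.isZero_HD_of_local K n fun x => by
        obtain ⟨V, hx, T, hv, hf, ⟨e⟩⟩ := hloc x
        exact ⟨V, hx, Groth.L29.DC.isZero_HD_of_flatAmp (a := a) (b := b)
          ⟨T, hv, fun n => Groth.L29.DC.isFlat_of_isFinLocFree (hf n), ⟨e.symm⟩⟩ (by omega)⟩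
      obtain ⟨P, hP, -, hPf, ⟨eP⟩⟩ := Groth.L29.DC.exists_flat_representative_le K b fun n _ => hz n
      haveI := hP
      haveI : P.IsGE a := (CochainComplex.isGE_iff P a).2 fun n hn =>
        (HomologicalComplex.exactAt_iff_isZero_homology _ _).2 ((hz n).of_iso
          (((DerivedCategory.homologyFunctorFactors Y.Modules n).app P).symm ≪≫
            (DerivedCategory.homologyFunctor Y.Modules n).mapIso eP))
      haveI : IsIso (DerivedCategory.Q.map (P.πTruncGE a)) :=
        (DerivedCategory.isIso_Q_map_iff_quasiIso _ _).2 inferInstance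
      have hz' : ∀ n, IsZero ((P.truncGE a).X n) := fun n => by
        rcases lt_trichotomy n a with hn | rfl | hn
        · exact CochainComplex.isZero_of_isStrictlyGE (P.truncGE a) a n hn
        · exact (IsZero.of_epi (P.pOpcycles n) (CochainComplex.isZero_of_isStrictlyLE P b n (by omega))).of_iso
            (P.truncGEXIsoOpcycles n)
        · exact (CochainComplex.isZero_of_isStrictlyLE P b n (by omega)).of_iso (P.truncGEXIso a n hn)
      exact ⟨P.truncGE a, fun n _ => hz' n, fun n => Groth.L00.KFlat.isFlat_zero (hz' n),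
        ⟨(asIso (DerivedCategory.Q.map (P.πTruncGE a))).symm ≪≫ eP⟩⟩
  refine ⟨fun m => ?_, Groth.Agent.S6191.result i g F a b hflat⟩
  have hperf : DCoh.IsPerfect K := (Groth.L29.DC.isPerfect_iff K).2 fun x => by
    obtain ⟨V, hx, T, hv, hf, e⟩ := hloc x
    exact ⟨V, hx, T, ⟨⟨a, b, hv⟩, hf⟩, e⟩
  haveI : LocallyOfFinitePresentation g := inferInstance
  have hg : ∀ k : ℤ, DerSch.IsNPseudoCoherent g k :=
    (Groth.L29.RelPC.mor_iff.1 (Groth.L29.RelPC.perfect_iff_locTD.1 Groth.L29.RelPC.perfect_of_flat).1).2
  refine (Groth.L29.RelPC.rel_closed_iff i g m (DCoh.toD X F)).2 ?_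
  exact (Groth.L29.RelPC.pc_iff_rel hg m _).1 (Groth.L29.DC.isPseudoCoherentD_of_iso
    ((Scheme.Modules.pushforward i).mapDerivedCategoryFactors.app F).symm (Groth.L29.DC.pc_of_perfect hperf m))

end Groth.Agent.S6218
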