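import Groth.Statements.S6219
import Groth.Agent.Lead.SmoothPerf
import Groth.Agent.L29.RelPC.Closed
import Groth.Agent.L29.RelPC.Closed
import Groth.Agent.L29.RelPC.SrcPerfect
import Groth.Agent.L29.DCoh.Amplitude
set_option linter.style.haveILetI false
set_option backward.isDefEq.respectTransparency false
set_option backward.isDefEq.respectTransparency.types false
set_option backward.defeqAttrib.useBackward true

set_option autoImplicit false
universe u
open CategoryTheory CategoryTheory.Limits AlgebraicGeometry
attribute [local instance] HasDerivedCategory.standard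
open KSix

namespace Groth.Agent.S6219

/-- Let i : X ⟶ Y be a closed immersion, g : Y ⟶ S smooth of relative dimension at most d (every point
of Y has an open neighbourhood on which g is smooth of some relative dimension n ≤ d), a and b
integers, and F a cochain complex of O_X-modules with perfect amplitude in [a, b] relative to i ≫ g
(pseudo-coherent relative to it in chart form, with stalkwise tor amplitude in [a, b] over the local
rings of S). Then the termwise direct image i_* F has perfect amplitude in [a - d, b] on Y in the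
absolute sense (locally isomorphic in D to a complex of finite locally free modules placed in [a -
d, b]). -/
theorem result {X Y S : Scheme.{u}} (i : X ⟶ Y) [IsClosedImmersion i]
    (g : Y ⟶ S) [Smooth g] (d : ℕ)
    (hd : ∀ y : Y, ∃ (n : ℕ) (V : Y.Opens), n ≤ d ∧ y ∈ V ∧ SmoothOfRelativeDimension n (V.ι ≫ g))
    (a b : ℤ) (F : CochainComplex X.Modules ℤ) (hF : DerSch.HasPerfAmplitudeRel (i ≫ g) a b F) :
    KSix.HasPerfectAmplitudeIn (a - d) b (DCoh.toD Y (((Scheme.Modules.pushforward i).mapHomologicalComplex (ComplexShape.up ℤ)).obj F)) := by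
  haveI := Groth.L29.DC.ClosedPC.exactRight i
  haveI := Groth.L29.DC.ClosedPC.exactLeft i
  have hg : ∀ k : ℤ, DerSch.IsNPseudoCoherent g k :=
    (Groth.L29.RelPC.mor_iff.1 (Groth.L29.RelPC.perfect_iff_locTD.1 Groth.L29.RelPC.perfect_of_flat).1).2
  let e := (Scheme.Modules.pushforward i).mapDerivedCategoryFactors.app F
  have hpc : DerSch.IsPseudoCoherentRelAll (i ≫ g) (DCoh.toD X F) ↔
      ∀ m : ℤ, DCoh.IsPseudoCoherentD m (DCoh.toD Y (((Scheme.Modules.pushforward i).mapHomologicalComplex (ComplexShape.up ℤ)).obj F)) :=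
    forall_congr' fun m => (Groth.L29.RelPC.rel_closed_iff i g m (DCoh.toD X F)).trans
      ((Groth.L29.RelPC.pc_iff_rel hg m _).symm.trans
        ⟨Groth.L29.DC.isPseudoCoherentD_of_iso e, Groth.L29.DC.isPseudoCoherentD_of_iso e.symm⟩)
  have hamp := Groth.Lead.SmoothPerf.flatAmp_smooth g d hd _ a b
    ((Groth.Lead.SmoothStalk.torAmplitude_push_iff g i F a b).2 hF.2)
  by_cases hab : a - d ≤ b
  · exact (Groth.L29.DC.hasPerfectAmplitudeIn_iff _ _ _ hab).2 ⟨hpc.1 hF.1 _, hamp⟩
  · obtain ⟨E, hE, -, ⟨eE⟩⟩ := hamp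
    refine (Groth.L29.DC.hasPerfectAmplitudeIn_iff_local _ _ _).2 fun x => ⟨⊤, trivial, ?_⟩
    have hz : ∀ n, IsZero (E.X n) := fun n => hE n (by omega)
    let R := Scheme.Modules.restrictFunctor (⊤ : Y.Opens).ι
    refine ⟨(R.mapHomologicalComplex (ComplexShape.up ℤ)).obj E, fun n _ => R.map_isZero (hz n),
      fun n => ?_, ⟨(Groth.L29.DC.resD ⊤).mapIso eE.symm ≪≫ Groth.L29.DC.resQIso ⊤ E⟩⟩
    exact Groth.L29.LocFree.of_isZero (R.map_isZero (hz n))

end Groth.Agent.S6219
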