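import Groth.Statements.S6225
import Groth.Agent.L29.RelPC.Module

set_option autoImplicit false
set_option backward.isDefEq.respectTransparency false
universe u
open CategoryTheory CategoryTheory.Limits AlgebraicGeometry
attribute [local instance] HasDerivedCategory.standard
open KSix

namespace Groth.Agent.S6225

/-- Last assertion: a morphism f : X ⟶ Y locally of finite type is (-1)-pseudo-coherent (O_X placed in
degree 0 is (-1)-pseudo-coherent relative to f, in chart form) if and only if f is locally of finite
presentation. -/
theorem result {X Y : Scheme.{u}} (f : X ⟶ Y) [LocallyOfFiniteType f] :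
    DerSch.IsNPseudoCoherent f (-1) ↔ LocallyOfFinitePresentation f := by
  have key : ∀ (U : X.Opens) (V : Y.Opens), IsAffineOpen U → IsAffineOpen V → ∀ h : U ≤ f ⁻¹ᵁ V,
      (Groth.L29.RelPC.Good f (-1) (DCoh.inD X (Coh.structureModule X)) U V ↔
        (f.appLE V U h).hom.FinitePresentation) := by
    intro U V hU hV h
    letI := (f.appLE V U h).hom.toAlgebra
    haveI := Groth.L29.RelPC.isClosedImmersion_toSpecΓ hU
    haveI := Groth.L18.TildeF.tilde_preservesFiniteLimits (R := Γ(X, U))
    obtain ⟨e⟩ := Groth.L29.RelPC.nonempty_unit_iso hU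
    rw [Groth.L29.RelPC.good_iff_rel hU hV h e]
    haveI : Algebra.FiniteType Γ(Y, V) Γ(X, U) := f.finiteType_appLE hV hU h
    obtain ⟨n, α, hα⟩ := Groth.L10.RelPC.exists_presentation Γ(Y, V) Γ(X, U)
    refine (Groth.L10.RelPC.module_iff α hα Γ(X, U)).2.trans ?_
    have key2 : ∀ {P B : Type u} [CommRing P] [CommRing B] (a : P →+* B), Function.Surjective a →
        (@Module.FinitePresentation P B _ _ (Module.compHom B a) ↔ (RingHom.ker a).FG) := by
      intro P B _ _ a ha
      letI : Module P B := Module.compHom B a
      let l : P →ₗ[P] B :=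
        { toFun := a, map_add' := map_add a, map_smul' := fun r x => map_mul a r x }
      haveI : Module.Finite P P := Module.Finite.self P
      exact ⟨fun _ => Module.FinitePresentation.fg_ker l ha,
        fun h => Module.finitePresentation_of_surjective l ha h⟩
    refine (key2 α.toRingHom hα).trans ⟨fun hk => ?_, fun hfp => ?_⟩
    · exact Algebra.FinitePresentation.of_surjective hα hk
    · haveI : Algebra.FinitePresentation Γ(Y, V) Γ(X, U) := hfp
      exact Algebra.FinitePresentation.ker_fG_of_surjective α hα
  rw [Groth.L29.RelPC.unit_pc_iff]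
  constructor
  · intro hr
    exact ⟨fun {V} hV {U} hU h => (key U V hU hV h).1 (Groth.L29.RelPC.good_of_rel hr hU hV h)⟩
  · intro hf
    exact Groth.L29.RelPC.rel_iff.2 fun U V hU hV h => (key U V hU hV h).2 (f.finitePresentation_appLE hV hU h)

end Groth.Agent.S6225
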