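import Groth.Statements.S6234
import Groth.Agent.Lead.RelFinTor
set_option linter.style.haveILetI false
set_option backward.isDefEq.respectTransparency false
set_option backward.isDefEq.respectTransparency.types false
set_option backward.defeqAttrib.useBackward true
set_option maxHeartbeats 1000000

set_option autoImplicit false
universe u
open CategoryTheory CategoryTheory.Limits AlgebraicGeometry
attribute [local instance] HasDerivedCategory.standard
open KSix

namespace Groth.Agent.S6234

/-- Case of a projective morphism: let S be a scheme, q : Y ⟶ S locally of finite type, i : X ⟶ P^r_Y a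
closed immersion with f : X ⟶ Y the composite with the projection, and F a cochain complex of
O_X-modules whose class in D(O_X) has bounded cohomology and which is perfect relative to f ≫ q : X
⟶ S (pseudo-coherent relative to it in chart form, and locally on X of finite stalkwise tor
amplitude over the local rings of S). Then, Rf_* being assumed to exist, Rf_* F is perfect relative
to q: every cochain complex representing it is. (The published statement allows any projective
S-morphism, a closed immersion into P(M) with M quasi-coherent of finite type on Y; this row takes M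
free of rank r + 1.) -/
theorem result {X Y S : Scheme.{u}} (q : Y ⟶ S)
    [LocallyOfFiniteType q] (r : ℕ) (i : X ⟶ CohB1.ProjSpaceOver r Y) [IsClosedImmersion i]
    [DCoh.HasRpush (i ≫ CohB1.ProjSpaceOver.toBase r Y)]
    (F : CochainComplex X.Modules ℤ) (c d : ℤ) [(DCoh.toD X F).IsGE c] [(DCoh.toD X F).IsLE d]
    (hF : DerSch.IsPerfectRel ((i ≫ CohB1.ProjSpaceOver.toBase r Y) ≫ q) F) :
    ∀ F' : CochainComplex Y.Modules ℤ,
      Nonempty (DCoh.toD Y F' ≅ (DCoh.Rpush (i ≫ CohB1.ProjSpaceOver.toBase r Y)).obj (DCoh.toD X F)) →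
        DerSch.IsPerfectRel q F' := by
  intro F' ⟨eF⟩
  haveI := Groth.L29.DC.RpushQC.hasRpush i
  haveI := Groth.L29.DC.RpushQC.hasRpush (CohB1.ProjSpaceOver.toBase r Y)
  haveI := Groth.L29.DC.ClosedPC.exactRight i
  haveI := Groth.L29.DC.ClosedPC.exactLeft i
  let G := ((Scheme.Modules.pushforward i).mapHomologicalComplex (ComplexShape.up ℤ)).obj F
  let eG := (Scheme.Modules.pushforward i).mapDerivedCategoryFactors.app F
  obtain ⟨e1⟩ := Groth.Lead.ClosedRpush.nonempty_Rpush_iso_pD i (DCoh.toD X F)
  have e2 := (Groth.L29.BC.cR (g := i) (f := CohB1.ProjSpaceOver.toBase r Y)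
    (h := i ≫ CohB1.ProjSpaceOver.toBase r Y) rfl).app (DCoh.toD X F)
  have hpc : ∀ k : ℤ, DerSch.IsPseudoCoherentRel (CohB1.ProjSpaceOver.toBase r Y ≫ q) k (DCoh.toD _ G) := fun k => by
    have h2 := hF.1 k
    rw [Category.assoc] at h2
    exact Groth.L29.RelPC.rel_iso eG ((Groth.L29.RelPC.rel_closed_iff i _ k _).1 h2)
  have hG : DerSch.LocFiniteTorAmplitude (CohB1.ProjSpaceOver.toBase r Y ≫ q) G := by
    have h2 := hF.2
    rw [Category.assoc] at h2
    exact (Groth.Lead.SmoothStalk.locFinite_push_iff _ i F).2 h2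
  have e3 : (DCoh.Rpush i).obj (DCoh.toD X F) ≅ DCoh.toD _ G := e1.trans eG
  have e4 : (DCoh.Rpush (CohB1.ProjSpaceOver.toBase r Y)).obj ((DCoh.Rpush i).obj (DCoh.toD X F)) ≅
      (DCoh.Rpush (CohB1.ProjSpaceOver.toBase r Y)).obj (DCoh.toD _ G) :=
    (DCoh.Rpush (CohB1.ProjSpaceOver.toBase r Y)).mapIso e3
  have e5 : DCoh.toD Y F' ≅ (DCoh.Rpush (CohB1.ProjSpaceOver.toBase r Y)).obj ((DCoh.Rpush i).obj (DCoh.toD X F)) :=
    eF.trans e2.symm
  have e : DCoh.toD Y F' ≅ (DCoh.Rpush (CohB1.ProjSpaceOver.toBase r Y)).obj (DCoh.toD _ G) := e5.trans e4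
  exact ⟨fun m => Groth.L29.RelPC.rel_iso e.symm (Groth.Lead.RelRpushProj.rel_Rpush_projSpace r q hpc m),
    Groth.Lead.RelFinTor.locFinite_Rpush_projSpace r q G hpc hG F' e⟩

end Groth.Agent.S6234
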