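import Groth.Statements.S6231
import Groth.Agent.Lead.AmpLower
import Groth.Agent.S6234
import Groth.Agent.S6235
import Groth.Agent.S7278
import Groth.Agent.L29.DCoh.PushTilde

set_option linter.style.haveILetI false
set_option backward.isDefEq.respectTransparency false
set_option backward.isDefEq.respectTransparency.types false
set_option backward.defeqAttrib.useBackward true
set_option maxHeartbeats 1600000


set_option autoImplicit false
universe u
open CategoryTheory CategoryTheory.Limits AlgebraicGeometry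
attribute [local instance] HasDerivedCategory.standard
open KSix

namespace Groth.Agent.S6231

/-- Case of a projective morphism: let S be a quasi-compact scheme, q : Y ⟶ S of finite type, i : X ⟶
P^r_Y a closed immersion with f : X ⟶ Y the composite with the projection, N a natural number such
that R^i f_* M = 0 for every i above N and every quasi-coherent O_X-module M, a and b integers, and
F a cochain complex of O_X-modules whose class in D(O_X) has bounded cohomology and which has
perfect amplitude in [a, b] relative to f ≫ q : X ⟶ S. Then, Rf_* being assumed to exist, Rf_* F has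
perfect amplitude in [a, b + N] relative to q: every cochain complex representing it does. (The
published statement allows any projective S-morphism, a closed immersion into P(M) with M
quasi-coherent of finite type on Y; this row takes M free of rank r + 1.) -/
theorem result {X Y S : Scheme.{u}} [CompactSpace S]
    (q : Y ⟶ S) [LocallyOfFiniteType q] [QuasiCompact q] (r : ℕ) (i : X ⟶ CohB1.ProjSpaceOver r Y) [IsClosedImmersion i]
    [DCoh.HasRpush (i ≫ CohB1.ProjSpaceOver.toBase r Y)] (N : ℕ)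
    (hN : ∀ M : X.Modules, Coh.IsQCoh M → ∀ j : ℤ, (N : ℤ) < j →
      IsZero (DCoh.HD ((DCoh.Rpush (i ≫ CohB1.ProjSpaceOver.toBase r Y)).obj (DCoh.inD X M)) j))
    (F : CochainComplex X.Modules ℤ) (c d : ℤ) [(DCoh.toD X F).IsGE c] [(DCoh.toD X F).IsLE d]
    (a b : ℤ) (hF : DerSch.HasPerfAmplitudeRel ((i ≫ CohB1.ProjSpaceOver.toBase r Y) ≫ q) a b F) :
    ∀ F' : CochainComplex Y.Modules ℤ,
      Nonempty (DCoh.toD Y F' ≅ (DCoh.Rpush (i ≫ CohB1.ProjSpaceOver.toBase r Y)).obj (DCoh.toD X F)) →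
        DerSch.HasPerfAmplitudeRel q a (b + N) F' := by
  intro F' ⟨eF⟩
  haveI : ∀ R : CommRingCat.{u}, PreservesFiniteLimits (tilde.functor R) := fun R =>
    Groth.L18.TildeF.tilde_preservesFiniteLimits (R := R)
  let p := CohB1.ProjSpaceOver.toBase r Y
  let f := i ≫ p
  haveI : CompactSpace Y := QuasiCompact.compactSpace_of_compactSpace q
  haveI : ((DCoh.toD X F)).IsLE b := Groth.Lead.RelTorStalk.isLE_of_ampAt (f ≫ q) F fun x => ⟨a, hF.2 x⟩
  have hFq : DCoh.IsQCohD (DCoh.toD X F) := Groth.Agent.S6235.result _ _ hF.1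
  have hlocF : DerSch.LocFiniteTorAmplitude (f ≫ q) F := fun x => ⟨⊤, a, b, trivial, fun z _ => hF.2 z⟩
  obtain ⟨hpc', hloc'⟩ := Groth.Agent.S6234.result q r i F c d ⟨hF.1, hlocF⟩ F' ⟨eF⟩
  refine ⟨hpc', fun y => ?_⟩
  haveI := Groth.L29.DC.RpushQC.hasRpush i
  haveI := Groth.L29.DC.RpushQC.hasRpush p
  haveI := Groth.L29.DC.ClosedPC.exactRight i
  haveI := Groth.L29.DC.ClosedPC.exactLeft i
  let G := ((Scheme.Modules.pushforward i).mapHomologicalComplex (ComplexShape.up ℤ)).obj F
  let eG := (Scheme.Modules.pushforward i).mapDerivedCategoryFactors.app F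
  obtain ⟨e1⟩ := Groth.Lead.ClosedRpush.nonempty_Rpush_iso_pD i (DCoh.toD X F)
  let e2 : DCoh.toD Y F' ≅ (DCoh.Rpush p).obj (DCoh.toD _ G) :=
    eF ≪≫ ((Groth.L29.BC.cR (g := i) (f := p) (h := i ≫ p) rfl).app (DCoh.toD X F)).symm ≪≫
      (DCoh.Rpush p).mapIso (e1 ≪≫ eG)
  have hGamp : DerSch.HasTorAmplitude (p ≫ q) a b G := by
    refine (Groth.Lead.SmoothStalk.torAmplitude_push_iff (p ≫ q) i F a b).2 ?_
    rw [← Category.assoc]
    exact hF.2
  have hpcG : DerSch.IsPseudoCoherentRelAll (p ≫ q) (DCoh.toD _ G) := fun k => by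
    have h2 := hF.1 k
    rw [Category.assoc] at h2
    exact Groth.L29.RelPC.rel_iso eG ((Groth.L29.RelPC.rel_closed_iff i _ k _).1 h2)
  have hGq : DCoh.IsQCohD (DCoh.toD _ G) := Groth.Agent.S6235.result _ _ hpcG
  -- affine charts around `y`
  obtain ⟨_, ⟨V, hV, rfl⟩, hyV, -⟩ :=
    S.isBasis_affineOpens.exists_subset_of_mem_open (Set.mem_univ (q y)) isOpen_univ
  obtain ⟨_, ⟨U, hU, rfl⟩, hyU, hsub⟩ := Y.isBasis_affineOpens.exists_subset_of_mem_open
    (show y ∈ (↑(q ⁻¹ᵁ V) : Set Y) from hyV) (q ⁻¹ᵁ V).isOpen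
  have hUV : U ≤ q ⁻¹ᵁ V := hsub
  let R := Γ(S, V)
  let B := Γ(Y, U)
  let φ : R ⟶ B := q.appLE V U hUV
  obtain ⟨n, ψ, hψs, hψc⟩ : ∃ (n : ℕ) (ψ : MvPolynomial (Fin n) R →+* B),
      Function.Surjective ψ ∧ ψ.comp MvPolynomial.C = φ.hom := by
    letI := φ.hom.toAlgebra
    haveI : Algebra.FiniteType R B := LocallyOfFiniteType.finiteType_appLE q hV hU hUV
    obtain ⟨n, α, hα⟩ := Algebra.FiniteType.iff_quotient_mvPolynomial''.1 ‹Algebra.FiniteType R B›
    exact ⟨n, α.toRingHom, hα, α.comp_algebraMap⟩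
  let A := Spec (CommRingCat.of (MvPolynomial (Fin n) R))
  let j : Spec B ⟶ A := Spec.map (CommRingCat.ofHom ψ)
  haveI : IsClosedImmersion j := IsClosedImmersion.spec_of_surjective _ hψs
  let cA : A ⟶ Spec R := Spec.map (CommRingCat.ofHom (MvPolynomial.C : R →+* MvPolynomial (Fin n) R))
  haveI : Smooth cA := (HasRingHomProperty.Spec_iff (P := @Smooth)).2
    (RingHom.smooth_algebraMap.2 (⟨inferInstance, inferInstance⟩ : Algebra.Smooth R (MvPolynomial (Fin n) R)))
  have hjc : j ≫ cA = Spec.map φ := by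
    rw [← Spec.map_comp]
    exact congrArg Spec.map (CommRingCat.hom_ext hψc)
  let u := hU.fromSpec
  let e := pullback.fst p u
  let pU := pullback.snd p u
  let pA := CohB1.ProjSpaceOver.toBase r A
  let t := CohB1.ProjSpace.toSpec r (ULift.{u} ℤ)
  have hbig : IsPullback (e ≫ pullback.fst t (specULiftZIsTerminal.from Y)) pU t
      (specULiftZIsTerminal.from (Spec B)) := by
    have := (IsPullback.of_hasPullback p u).paste_horiz
      (IsPullback.of_hasPullback t (specULiftZIsTerminal.from Y))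
    rwa [specULiftZIsTerminal.hom_ext (u ≫ specULiftZIsTerminal.from Y) (specULiftZIsTerminal.from _)] at this
  let j' : pullback p u ⟶ CohB1.ProjSpaceOver r A :=
    pullback.lift (e ≫ pullback.fst t (specULiftZIsTerminal.from Y)) (pU ≫ j) (specULiftZIsTerminal.hom_ext _ _)
  have hj'1 : j' ≫ pA = pU ≫ j := pullback.lift_snd _ _ _
  have hsq : IsPullback j' pU pA j := by
    refine IsPullback.of_right (h₂₁ := j) (h₂₂ := specULiftZIsTerminal.from A) (v₁₃ := t)
      (h₁₂ := pullback.fst t (specULiftZIsTerminal.from A)) ?_ hj'1 (IsPullback.of_hasPullback _ _)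
    rw [specULiftZIsTerminal.hom_ext (j ≫ specULiftZIsTerminal.from A) (specULiftZIsTerminal.from _),
      show j' ≫ pullback.fst t (specULiftZIsTerminal.from A) = e ≫ pullback.fst t (specULiftZIsTerminal.from Y)
        from pullback.lift_fst _ _ _]
    exact hbig
  haveI : IsClosedImmersion j' := MorphismProperty.of_isPullback (P := @IsClosedImmersion) hsq.flip inferInstance
  let g := pA ≫ cA
  haveI : Smooth g := inferInstance
  haveI : (CohB1.ProjSpaceOver r A).IsSeparated := ⟨by rw [← terminal.comp_from g]; infer_instance⟩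
  -- the complex on the smooth scheme over the affine base
  let G' := ((Scheme.Modules.restrictFunctor e).mapHomologicalComplex (ComplexShape.up ℤ)).obj G
  haveI := Groth.L29.DC.RpushQC.hasRpush j'
  haveI := Groth.L29.DC.RpushQC.hasRpush g
  haveI := Groth.L29.DC.RpushQC.hasRpush pU
  haveI := Groth.L29.DC.RpushQC.hasRpush (pU ≫ Spec.map φ)
  haveI := Groth.L29.DC.RpushQC.hasRpush (Spec.map φ)
  haveI := Groth.L29.DC.ClosedPC.exactRight j'
  haveI := Groth.L29.DC.ClosedPC.exactLeft j'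
  let H := ((Scheme.Modules.pushforward j').mapHomologicalComplex (ComplexShape.up ℤ)).obj G'
  obtain ⟨e3⟩ := Groth.Lead.ClosedRpush.nonempty_Rpush_iso_pD j' (DCoh.toD _ G')
  let eH : (DCoh.Rpush j').obj (DCoh.toD _ G') ≅ DCoh.toD _ H :=
    e3 ≪≫ (Scheme.Modules.pushforward j').mapDerivedCategoryFactors.app G'
  have hwj : j' ≫ g ≫ hV.fromSpec = e ≫ p ≫ q := by
    rw [show g = pA ≫ cA from rfl, Category.assoc, reassoc_of% hj'1, reassoc_of% hjc]
    rw [show Spec.map φ ≫ hV.fromSpec = u ≫ q from hV.SpecMap_appLE_fromSpec q hU hUV, ← Category.assoc,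
      ← pullback.condition, Category.assoc]
  have hH : ∀ z, DerSch.HasTorAmplitudeAt g a b H z := by
    refine (Groth.Lead.SmoothStalk.torAmplitude_push_iff g j' G' a b).2 fun z => ?_
    refine (Groth.Agent.S7278.amp_base_iff (j' ≫ g) hV.fromSpec G' z a b).1 ?_
    rw [Category.assoc, hwj]
    exact (Groth.Lead.SmoothStalk.amp_restrict_iff (p ≫ q) e z G a b).2 (hGamp _)
  have hHq : DCoh.IsQCohD ((DCoh.Rpush j').obj (DCoh.toD _ G')) :=
    Groth.L29.DC.RpushQC.isQCohD_Rpush j' _ (Groth.L29.DC.isQCohD_of_iso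
      ((Scheme.Modules.restrictFunctor e).mapDerivedCategoryFactors.app G)
      (Groth.L29.DC.isQCohD_restrictD e hGq))
  have hHflat : DCoh.HasRelFlatAmplitudeIn g a b ((DCoh.Rpush j').obj (DCoh.toD _ G')) := by
    obtain ⟨C, h1, h2, ⟨h3⟩⟩ := Groth.Lead.RelTorStalk.relFlatAmp_of_ampAt g H hH
    exact ⟨C, h1, h2, ⟨h3 ≪≫ eH.symm⟩⟩
  -- identification with the chart of `F'`
  have hq' : DCoh.IsQCohD (DCoh.toD Y F') := Groth.Agent.S6235.result _ _ hpc'
  obtain ⟨M, ⟨eM⟩⟩ := (Groth.L29.DC.TildeD.isQCohD_iff _).1 (Groth.L29.DC.isQCohD_restrictD u hq')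
  obtain ⟨ePT⟩ := Groth.L29.DC.PushTilde.nonempty_tildeD_Rpush φ
  obtain ⟨eV⟩ := Groth.L29.DC.RpushRes.nonempty_iso p u e pU
    (Scheme.Hom.opensRange_pullbackFst u p).ge
    pullback.condition.symm
  have hjg : j' ≫ g = pU ≫ Spec.map φ := by
    simp only [g, ← Category.assoc, hj'1]
    rw [Category.assoc, hjc]
  let e₀ : (DCoh.tildeD R).obj ((DRing.restrictD φ.hom).obj M) ≅
      (DCoh.Rpush g).obj ((DCoh.Rpush j').obj (DCoh.toD _ G')) :=
    (ePT.app M).symm ≪≫ (DCoh.Rpush (Spec.map φ)).mapIso (eM ≪≫ (DCoh.restrictD u).mapIso e2 ≪≫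
        eV.app (DCoh.toD _ G) ≪≫ (DCoh.Rpush pU).mapIso
          ((Scheme.Modules.restrictFunctor e).mapDerivedCategoryFactors.app G)) ≪≫
      (Groth.L29.BC.cR (g := pU) (f := Spec.map φ) (h := pU ≫ Spec.map φ) rfl).app _ ≪≫
      ((Groth.L29.BC.cR (g := j') (f := g) (h := pU ≫ Spec.map φ) hjg).app _).symm
  have hM : ∀ k, b + N < k → IsZero ((Groth.L02.PC.HH k).obj M) := fun k hk => by
    refine (Groth.L29.DC.TildeAlg.isZero_hd_iff M k).1 (IsZero.of_iso ?_
      ((DerivedCategory.homologyFunctor _ k).mapIso eM ≪≫ Groth.L29.DC.HDResIso u _ k))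
    refine (Scheme.Modules.restrictFunctor u).map_isZero (IsZero.of_iso ?_
      ((DerivedCategory.homologyFunctor _ k).mapIso eF))
    exact Groth.Lead.AmpLower.isZero_Rpush_gt f N hN (DCoh.toD X F) hFq b k hk
  have hB : ∀ k, b + N < k → IsZero (DCoh.HD ((DCoh.Rpush g).obj ((DCoh.Rpush j').obj (DCoh.toD _ G'))) k) :=
    fun k hk => by
    refine IsZero.of_iso ((Groth.L29.DC.TildeAlg.isZero_hd_iff _ k).2 ?_)
      ((DerivedCategory.homologyFunctor _ k).mapIso e₀.symm)
    let P := DerivedCategory.Q.objPreimage M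
    let eP : DRing.toD P ≅ M := DerivedCategory.Q.objObjPreimageIso M
    refine (Groth.L10.DR.HH_iso_zero (((ModuleCat.restrictScalars.{u} φ.hom).mapDerivedCategoryFactors.app P).symm ≪≫
      (DRing.restrictD φ.hom).mapIso eP) k).2 ?_
    exact ((ModuleCat.restrictScalars.{u} φ.hom).map_isZero
      ((Groth.L10.DR.HH_iso_zero eP k).1 (hM k hk))).of_iso
        ((P.sc k).mapHomologyIso (ModuleCat.restrictScalars.{u} φ.hom))
  have hamp := Groth.Lead.AmpLower.amp_model g (B := b + N) hHflat hHq _ e₀ hB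
  exact (Groth.Agent.S7278.chart_iff q F' hU hV hUV M eM.symm a (b + N)).2 hamp y hyU

end Groth.Agent.S6231
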