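import Groth.Statements.S6236
import Groth.Agent.L29.KSix.Chart

set_option autoImplicit false
set_option backward.isDefEq.respectTransparency false
universe u
open CategoryTheory CategoryTheory.Limits AlgebraicGeometry
attribute [local instance] HasDerivedCategory.standard
open KSix

namespace Groth.Agent.S6236

/-- Let f : X ⟶ Y be a morphism of schemes with X quasi-compact, n an integer, and E an object of D(O_X)
which is n-pseudo-coherent relative to f (chart form; in particular f is locally of finite type).
Then the cohomology of E is bounded above. (Without quasi-compactness of X the cohomology is only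
locally bounded above.) -/
theorem result {X Y : Scheme.{u}} [CompactSpace X] (f : X ⟶ Y) (n : ℤ)
    (E : DCoh.D X) (hE : DerSch.IsPseudoCoherentRel f n E) : ∃ b : ℤ, E.IsLE b := by
  choose V U k φ hx hU hφ hp using fun x => Groth.L29.KSix.exists_chart hE x
  choose N hN using fun x => Groth.L29.KSix.exists_isZero_of_chartPC (hU x) (hφ x) (hp x)
  obtain ⟨t, ht⟩ := isCompact_univ.elim_finite_subcover (fun x : X => (U x : Set X))
    (fun x => (U x).isOpen) (fun x _ => Set.mem_iUnion.2 ⟨x, hx x⟩)
  obtain ⟨B, hB⟩ := (t.image N).finite_toSet.bddAbove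
  refine ⟨B, (DerivedCategory.isLE_iff E B).2 fun i hi => Groth.L29.DC.isZero_HD_of_local E i fun x => ?_⟩
  obtain ⟨y, hy, hxy⟩ := Set.mem_iUnion₂.1 (ht (Set.mem_univ x))
  exact ⟨U y, hxy, (hN y i ((hB (Finset.mem_coe.2 (Finset.mem_image_of_mem N hy))).trans hi.le)).of_iso
    (Groth.L29.DC.HDResIso (U y).ι E i)⟩

end Groth.Agent.S6236
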