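import Groth.Statements.S6239
set_option linter.style.haveILetI false

set_option autoImplicit false
universe u
open CategoryTheory CategoryTheory.Limits AlgebraicGeometry
attribute [local instance] HasDerivedCategory.standard
open KSix

namespace Groth.Agent.S6239

/-- Let f : X ⟶ Y be a morphism with X quasi-compact and F a cochain complex of O_X-modules which is
perfect relative to f (pseudo-coherent relative to f in chart form, and locally on X of finite
stalkwise tor amplitude over the local rings of Y). Then F has finite perfect amplitude relative to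
f: one interval [a, b] works at every point of X. -/
theorem result {X Y : Scheme.{u}} [CompactSpace X] (f : X ⟶ Y)
    (F : CochainComplex X.Modules ℤ) (hF : DerSch.IsPerfectRel f F) :
    DerSch.HasFinitePerfAmplitudeRel f F := by
  obtain ⟨hpc, hloc⟩ := hF
  choose V a b hxV hab using hloc
  obtain ⟨s, hs⟩ := isCompact_univ.elim_finite_subcover (fun x => (V x : Set X)) (fun x => (V x).isOpen)
    (fun x _ => Set.mem_iUnion.2 ⟨x, hxV x⟩)
  obtain ⟨A, hA⟩ := (s.finite_toSet.image a).bddBelow
  obtain ⟨B, hB⟩ := (s.finite_toSet.image b).bddAbove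
  refine ⟨A, B, hpc, fun y => ?_⟩
  obtain ⟨x, hx, hyx⟩ := Set.mem_iUnion₂.1 (hs (Set.mem_univ y))
  obtain ⟨E, hE, hflat, he⟩ := hab x y hyx
  refine ⟨E, fun i hi => hE i ?_, hflat, he⟩
  have h1 := hA ⟨x, hx, rfl⟩
  have h2 := hB ⟨x, hx, rfl⟩
  rcases hi with hi | hi
  · exact Or.inl (hi.trans_le h1)
  · exact Or.inr (h2.trans_lt hi)

end Groth.Agent.S6239
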