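import Groth.Statements.S6247
import Groth.Agent.L04.DerComp.SiteLTensor
import Groth.Agent.L15.ModTensor.Flat
import Groth.Agent.L15.KFlatSite.Assoc

set_option autoImplicit false
set_option backward.defeqAttrib.useBackward true
set_option backward.isDefEq.respectTransparency false
universe u
open CategoryTheory CategoryTheory.Limits AlgebraicGeometry
attribute [local instance] HasDerivedCategory.standard
open KSix

namespace Groth.Agent.S6247

/-- One ringed site: let (C, J, O) be a small site with a sheaf of commutative rings O, let E be a
cochain complex of O-modules isomorphic in D(O) to a complex P of flat O-modules which vanishes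
outside [m, n] (E has flat amplitude in [m, n]), and let F be a cochain complex of flat O-modules
which vanishes outside [m', n']. Then, the derived tensor product − ⊗^L_O F being assumed to exist,
E ⊗^L_O F is isomorphic in D(O) to a complex of flat O-modules vanishing outside [m + m', n + n']:
flat amplitudes add, and in particular the derived tensor product of two objects of finite flat
amplitude has finite flat amplitude. (The published statement is for a morphism of ringed topoi f
from S' to S and the external derived tensor product of an object over S' with an object over S,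
flatness meaning exactness of the tensor product functor; this row is the case S' = S with f the
identity, on the topos of sheaves on a small site, with the second factor given by its own flat
model.) -/
theorem result {C : Type u} [SmallCategory C]
    {J : GrothendieckTopology C} (O : Sheaf J CommRingCat.{u}) (E P : CochainComplex (ModSite.Mod O) ℤ)
    (m n : ℤ) (hP : ∀ i : ℤ, ModSite.IsFlat (P.X i)) (hPb : ∀ i : ℤ, i < m ∨ n < i → IsZero (P.X i))
    (eP : DerivedCategory.Q.obj P ≅ DerivedCategory.Q.obj E) (F : CochainComplex (ModSite.Mod O) ℤ)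
    (m' n' : ℤ) (hF : ∀ i : ℤ, ModSite.IsFlat (F.X i)) (hFb : ∀ i : ℤ, i < m' ∨ n' < i → IsZero (F.X i))
    [ModSite.HasLTensorCx F] :
    ∃ G : CochainComplex (ModSite.Mod O) ℤ, (∀ i : ℤ, ModSite.IsFlat (G.X i)) ∧
      (∀ i : ℤ, i < m + m' ∨ n + n' < i → IsZero (G.X i)) ∧
      Nonempty (DerivedCategory.Q.obj G ≅ (ModSite.LTensorCx F).obj (DerivedCategory.Q.obj E)) := by
  haveI : HasColimitsOfShape (Discrete.{0} (ℤ × ℤ)) (ModSite.Mod O) := by
    haveI := Groth.L10.shMod_isGrothendieckAbelian (ModSite.ringSh O)
    infer_instance
  have hPk : ModSite.IsKFlat P := Groth.L15.KFlatSite.of_bounded P n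
    ((CochainComplex.isStrictlyLE_iff _ _).2 fun i hi => hPb i (Or.inr hi)) hP
  haveI := Groth.L04.SiteLTensor.isIso_counit F P hPk
  refine ⟨((ModSite.tensorCx O).obj P).obj F, fun k => ?_, fun k hk => ?_, ⟨?_⟩⟩
  · haveI := Groth.L10.shMod_isGrothendieckAbelian (ModSite.ringSh O)
    let e : (ComplexShape.π (ComplexShape.up ℤ) (ComplexShape.up ℤ) (ComplexShape.up ℤ)) ⁻¹' {k} → ModSite.Mod O :=
      fun q => ((ModSite.tensorBi O).obj (P.X q.1.1)).obj (F.X q.1.2)
    refine Groth.L15.ModTensor.isFlat_congr (F := ∐ fun q : ULift.{u} _ => e q.down) ?_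
      (Groth.L15.ModTensor.isFlat_sigma _ fun q => Groth.L15.ModTensor.isFlat_ten _ _ (hP _) (hF _))
    exact Sigma.whiskerEquiv (f := fun q : ULift.{u} _ => e q.down) (g := e) Equiv.ulift.{u} fun q => Iso.refl _
  · refine (IsZero.iff_id_eq_zero _).2 (HomologicalComplex.mapBifunctor.hom_ext fun i j h => ?_)
    have hij : i + j = k := h
    by_cases hi : i < m ∨ n < i
    · exact (((ModSite.tensorBi O).map_isZero (hPb i hi)).obj (F.X j)).eq_of_src _ _
    · exact (Functor.map_isZero _ (hFb j (by omega))).eq_of_src _ _
  · exact (asIso (((ModSite.tensorCxQ F).totalLeftDerivedCounit DerivedCategory.Q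
      (HomologicalComplex.quasiIso (ModSite.Mod O) (ComplexShape.up ℤ))).app P)).symm ≪≫
      (ModSite.LTensorCx F).mapIso eP

end Groth.Agent.S6247
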