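import Groth.Statements.S6251
import Groth.Agent.L10.HExact.Converse
import Groth.Agent.L10.HExact.Push
import Groth.Agent.S6235
import Groth.Agent.S6221
import Groth.Agent.S6201
import Groth.Agent.L29.RelPC.Open

set_option autoImplicit false
set_option backward.defeqAttrib.useBackward true
set_option backward.isDefEq.respectTransparency false
universe u
open CategoryTheory CategoryTheory.Limits AlgebraicGeometry
attribute [local instance] HasDerivedCategory.standard
open KSix

namespace Groth.Agent.S6251

/-- Let Y be a quasi-compact quasi-separated scheme, r a natural number, i : X ⟶ P^r_Y a closed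
immersion with f : X ⟶ Y its composite with the projection, p an integer, and E ∈ D^b(O_X), given by
a cochain complex F, perfect relative to f (pseudo-coherent relative to f in chart form and locally
on X of finite stalkwise tor amplitude over the local rings of Y). The derived functors Lf^*, − ⊗^L
F and Rf_* and the derived pullbacks to the points Spec κ(y) ⟶ Y being assumed to exist: if the
functor M ↦ R^p f_*(Lf^* M ⊗^L F) is exact on the full subcategory of quasi-coherent O_Y-modules
(preserves finite limits and finite colimits there), then H^p(Rf_* E) is a finite locally free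
O_Y-module and the function y ↦ dim_{κ(y)} H^p(Rf_* E ⊗^L κ(y)) is locally constant on Y. (The
published statement is for a proper morphism of quasi-compact schemes with Y quasi-separated, under
the finiteness property for proper pseudo-coherent direct images, which holds for projective
morphisms; it allows a closed immersion into P(M) with M quasi-coherent of finite type on Y, and
this row takes M free of rank r + 1; it writes the functor as M ↦ R^p f_*(E ⊗^L Lf^* M), and this
row takes the derived tensor product with F as the fixed right-hand factor.) -/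
theorem result {X Y : Scheme.{u}} [CompactSpace Y]
    [QuasiSeparatedSpace Y] (r : ℕ) (i : X ⟶ CohB1.ProjSpaceOver r Y) [IsClosedImmersion i]
    (F : CochainComplex X.Modules ℤ) (a b : ℤ) [(DCoh.toD X F).IsGE a] [(DCoh.toD X F).IsLE b]
    (hF : DerSch.IsPerfectRel (i ≫ CohB1.ProjSpaceOver.toBase r Y) F) (p : ℤ) [DCoh.HasLpull (i ≫ CohB1.ProjSpaceOver.toBase r Y)]
    [DCoh.HasLTensorCx F] [DCoh.HasRpush (i ≫ CohB1.ProjSpaceOver.toBase r Y)]
    [PreservesFiniteLimits ((QCohCat.isQCoh Y).ι ⋙ DerivedCategory.singleFunctor Y.Modules 0 ⋙ DCoh.Lpull (i ≫ CohB1.ProjSpaceOver.toBase r Y) ⋙ DCoh.LTensorCx F ⋙ DCoh.Rpush (i ≫ CohB1.ProjSpaceOver.toBase r Y) ⋙ DerivedCategory.homologyFunctor Y.Modules p)]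
    [PreservesFiniteColimits ((QCohCat.isQCoh Y).ι ⋙ DerivedCategory.singleFunctor Y.Modules 0 ⋙ DCoh.Lpull (i ≫ CohB1.ProjSpaceOver.toBase r Y) ⋙ DCoh.LTensorCx F ⋙ DCoh.Rpush (i ≫ CohB1.ProjSpaceOver.toBase r Y) ⋙ DerivedCategory.homologyFunctor Y.Modules p)]
    [∀ y : Y, DCoh.HasLpull (Y.fromSpecResidueField y)] :
    FlatMod.IsFinLocFree (DCoh.HD ((DCoh.Rpush (i ≫ CohB1.ProjSpaceOver.toBase r Y)).obj (DCoh.toD X F)) p) ∧
      IsLocallyConstant (fun y : Y => PerfD.betti ((DCoh.Rpush (i ≫ CohB1.ProjSpaceOver.toBase r Y)).obj (DCoh.toD X F)) y p) := by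
  let f := i ≫ CohB1.ProjSpaceOver.toBase r Y
  haveI : QuasiCompact (CohB1.ProjSpaceOver.toBase r Y) := inferInstance
  obtain ⟨K, _, ⟨eK⟩, hK⟩ := Groth.L10.HExact.Push.exists_repr f F
    (Groth.Agent.S6235.result f _ hF.1)
  obtain ⟨t⟩ := hK p
  haveI := preservesFiniteLimits_of_natIso t.symm
  haveI := preservesFiniteColimits_of_natIso t.symm
  obtain ⟨P, q, hP, -, hq, -⟩ := Groth.L00.KFlat.exists_resolution K
  haveI := (DerivedCategory.isIso_Q_map_iff_quasiIso _ q).2 hq
  let eP : DCoh.toD Y P ≅ DCoh.toD Y K := asIso (DerivedCategory.Q.map q)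
  obtain ⟨h₀, h₁⟩ := Groth.L10.HExact.Converse.test_of_exact K P hP eP p
  have hF' : DerSch.IsPseudoCoherentRelAll (f ≫ 𝟙 Y) (DCoh.toD X F) := by
    rw [Category.comp_id]; exact hF.1
  have hR := Groth.Agent.S6221.result (𝟙 Y) r i (DCoh.toD X F) a hF' (p - 1)
  let G := DerivedCategory.Q.objPreimage ((DCoh.Rpush f).obj (DCoh.toD X F))
  let eG : DCoh.toD Y G ≅ (DCoh.Rpush f).obj (DCoh.toD X F) := DerivedCategory.Q.objObjPreimageIso _
  have hR' : DerSch.IsPseudoCoherentRel (𝟙 Y ≫ 𝟙 Y) (p - 1) (DCoh.toD Y G) := by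
    rw [Category.comp_id]; exact Groth.L29.RelPC.rel_iso eG.symm hR
  have hpc := Groth.L29.DC.isPseudoCoherentD_of_iso
    (DerivedCategory.Q.mapIso ((NatIso.mapHomologicalComplex (Scheme.Modules.pushforwardId Y) _).app G ≪≫
      (Functor.mapHomologicalComplexIdIso _ _).app G) ≪≫ eG)
    ((Groth.Agent.S6201.result (𝟙 Y) (𝟙 Y) (p - 1) G).1 hR')
  exact Groth.L10.HExact.Converse.isFinLocFree_and_betti P hP _ (eP ≪≫ eK) p hpc h₀ h₁

end Groth.Agent.S6251
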