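import Groth.Statements.S6253
import Groth.Agent.L10.HExact.Criterion
import Groth.Agent.L17.QCohGab.Groth
import Groth.Agent.L29.BC.LTExact
import Groth.Agent.L29.BC.Closure
import Groth.Agent.L29.DCoh.Gen.RpushTri
import Groth.Agent.L29.DCoh.RHomExists

set_option autoImplicit false
set_option backward.defeqAttrib.useBackward true
set_option backward.isDefEq.respectTransparency false
universe u
open CategoryTheory CategoryTheory.Limits AlgebraicGeometry
attribute [local instance] HasDerivedCategory.standard
open KSix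

namespace Groth.Agent.S6253

/-- Let f : X ⟶ Y be a quasi-compact quasi-separated morphism of quasi-compact quasi-separated schemes,
E ∈ D^b(O_X), given by a cochain complex F, with quasi-coherent cohomology and of finite tor
amplitude relative to f (stalkwise), and p an integer. The derived functors Lf^*, − ⊗^L F and Rf_*
being assumed to exist: the functor M ↦ R^p f_*(Lf^* M ⊗^L F) from quasi-coherent O_Y-modules to
O_Y-modules is right exact if and only if the functor M ↦ R^{p+1} f_*(Lf^* M ⊗^L F) on
quasi-coherent O_Y-modules is left exact. (The published statement writes E ⊗_Y^L M = E ⊗^L Lf^* M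
and regards the functors as valued in quasi-coherent modules; this row takes the derived tensor
product with F as the fixed right-hand factor and values in all O_Y-modules.) -/
theorem result {X Y : Scheme.{u}} [CompactSpace X]
    [QuasiSeparatedSpace X] [CompactSpace Y] [QuasiSeparatedSpace Y] (f : X ⟶ Y) [QuasiCompact f]
    [QuasiSeparated f] (F : CochainComplex X.Modules ℤ) (a b : ℤ) [(DCoh.toD X F).IsGE a]
    [(DCoh.toD X F).IsLE b] (hq : DCoh.IsQCohD (DCoh.toD X F)) (hF : DerSch.HasFiniteTorAmplitude f F)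
    (p : ℤ) [DCoh.HasLpull f] [DCoh.HasLTensorCx F] [DCoh.HasRpush f] :
    PreservesFiniteColimits ((QCohCat.isQCoh Y).ι ⋙ DerivedCategory.singleFunctor Y.Modules 0 ⋙ DCoh.Lpull f ⋙ DCoh.LTensorCx F ⋙ DCoh.Rpush f ⋙ DerivedCategory.homologyFunctor Y.Modules p) ↔
      PreservesFiniteLimits ((QCohCat.isQCoh Y).ι ⋙ DerivedCategory.singleFunctor Y.Modules 0 ⋙ DCoh.Lpull f ⋙ DCoh.LTensorCx F ⋙ DCoh.Rpush f ⋙ DerivedCategory.homologyFunctor Y.Modules (p + 1)) := by
  haveI := Groth.L17.QCohGab.preservesFiniteLimits_ι Y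
  letI := Groth.L29.DC.Gen.commShiftRpush f
  haveI := Groth.L29.DC.Gen.isTriangulated_Rpush f
  letI := Groth.L29.BC.commShiftLpull f
  haveI := Groth.L29.BC.isTriangulated_Lpull f
  haveI := Groth.L29.DC.RHom.hasRSheafHom F
  haveI : (DCoh.LTensorCx F).Additive := by
    haveI : (DCoh.LTensorCx F).IsLeftAdjoint := ⟨_, ⟨DCoh.RSheafHomAdj F⟩⟩
    haveI := preservesBinaryBiproducts_of_preservesBinaryCoproducts (DCoh.LTensorCx F)
    exact Functor.additive_of_preservesBinaryBiproducts _
  let G := (QCohCat.isQCoh Y).ι ⋙ DerivedCategory.singleFunctor Y.Modules 0 ⋙ DCoh.Lpull f ⋙ DCoh.LTensorCx F ⋙ DCoh.Rpush f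
  exact Groth.L10.HExact.iff_succ G (fun S hS => by
    have hS' : (S.map (QCohCat.isQCoh Y).ι).ShortExact := hS.map_of_exact _
    obtain ⟨h, hd⟩ := Groth.L10.HExact.exists_triangle (DCoh.LTensorCx F)
      (Groth.L29.BC.LTExact.exists_distinguished F) _ ((DCoh.Lpull f).map_distinguished _ hS'.singleTriangle_distinguished)
    exact ⟨_, (DCoh.Rpush f).map_distinguished _ hd⟩) p

end Groth.Agent.S6253
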