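import Groth.Statements.S6263
import Mathlib.RingTheory.Flat.Basic
import Mathlib.RingTheory.Flat.Tensor
import Mathlib.RingTheory.Flat.Stability
import Mathlib.RingTheory.Support
import Mathlib.RingTheory.Nakayama
import Mathlib.LinearAlgebra.TensorProduct.Quotient
import Mathlib.RingTheory.LocalRing.ResidueField.Ideal
import Mathlib.RingTheory.Localization.BaseChange
import Mathlib.RingTheory.Flat.Localization

set_option autoImplicit false
universe u
open CAlg

namespace Groth.Agent.S6263

section
open TensorProduct

theorem flat_tensorProduct {R S T M : Type u} [CommRing R] [CommRing S] [CommRing T] [Algebra R S] [Algebra S T]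
    [Algebra R T] [IsScalarTower R S T] [AddCommGroup M] [Module R M] [Module S M] [IsScalarTower R S M]
    [Module.Flat S T] [Module.Flat R M] : Module.Flat R (T ⊗[S] M) := by
  rw [Module.Flat.iff_lTensor_injective']
  intro J
  have h1 : Function.Injective (TensorProduct.AlgebraTensorModule.lTensor S M J.subtype : M ⊗[R] J →ₗ[S] M ⊗[R] R) :=
    Module.Flat.lTensor_preserves_injective_linearMap (M := M) J.subtype Subtype.val_injective
  have h2 := Module.Flat.lTensor_preserves_injective_linearMap (M := T)
    (TensorProduct.AlgebraTensorModule.lTensor S M J.subtype) h1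
  intro a b hab
  apply (TensorProduct.AlgebraTensorModule.assoc R S S T M J).injective
  apply h2
  have key : ∀ z : (T ⊗[S] M) ⊗[R] J, (TensorProduct.AlgebraTensorModule.lTensor S M J.subtype).lTensor T
      (TensorProduct.AlgebraTensorModule.assoc R S S T M J z) =
      TensorProduct.AlgebraTensorModule.assoc R S S T M R (J.subtype.lTensor (T ⊗[S] M) z) := by
    intro z
    induction z using TensorProduct.induction_on with
    | zero => simp
    | tmul w j =>
      induction w using TensorProduct.induction_on with
      | zero => simp
      | tmul t m => simp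
      | add x y hx hy => simp only [TensorProduct.add_tmul, map_add, hx, hy]
    | add x y hx hy => simp only [map_add, hx, hy]
  rw [key, key, hab]


end

open TensorProduct


/-- For a ring map R → S and a finite S-module N which is flat as an R-module, generalizations lift
along the map from the support of N (a subset of Spec S) to Spec R: if p ≤ p' are primes of R and q'
is a prime of S in the support of N whose inverse image in R is p', then some prime q ≤ q' of S lies
in the support of N and has inverse image p. -/
theorem result {R S : Type u} [CommRing R] [CommRing S] [Algebra R S] (N : Type u) [AddCommGroup N] [Module S N] [Module R N] [IsScalarTower R S N] [Module.Finite S N] [Module.Flat R N] (p p' : Ideal R) [p.IsPrime] [p'.IsPrime] (hle : p ≤ p') (q' : PrimeSpectrum S) (hq' : q' ∈ Module.support S N) (hover : q'.asIdeal.under R = p') : ∃ q : PrimeSpectrum S, q ≤ q' ∧ q ∈ Module.support S N ∧ q.asIdeal.under R = p := by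
  classical
  let Sq := Localization.AtPrime q'.asIdeal
  let N' := Sq ⊗[S] N
  haveI : Module.Flat R N' := flat_tensorProduct
  haveI hnt : Nontrivial N' :=
    (LocalizedModule.equivTensorProduct q'.asIdeal.primeCompl N).toEquiv.symm.nontrivial_congr.mpr hq'
  have hlt : p • (⊤ : Submodule R N') ≠ ⊤ := by
    intro h
    have hle : (⊤ : Submodule Sq N') ≤ IsLocalRing.maximalIdeal Sq • ⊤ := by
      intro z _
      have hz : z ∈ p • (⊤ : Submodule R N') := by rw [h]; trivial
      refine Submodule.smul_induction_on hz (fun r hr x _ => ?_) fun a b ha hb => add_mem ha hb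
      rw [← algebraMap_smul Sq r x]
      refine Submodule.smul_mem_smul ?_ Submodule.mem_top
      rw [IsScalarTower.algebraMap_apply R S Sq, IsLocalization.AtPrime.to_map_mem_maximal_iff Sq q'.asIdeal]
      exact (hover.symm ▸ hle hr : r ∈ q'.asIdeal.under R)
    exact (bot_ne_top : (⊥ : Submodule Sq N') ≠ ⊤) (Submodule.eq_bot_of_le_smul_of_le_jacobson_bot _ ⊤ Module.Finite.fg_top hle
      (IsLocalRing.maximalIdeal_le_jacobson ⊥)).symm
  haveI hQ : Nontrivial (N' ⧸ p • (⊤ : Submodule R N')) := Submodule.Quotient.nontrivial_iff.mpr hlt
  let κ := p.ResidueField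
  let T := N' ⊗[R] κ
  haveI : Nontrivial T := by
    haveI : Nontrivial (N' ⊗[R] (R ⧸ p)) :=
      ((TensorProduct.comm R _ _).trans (TensorProduct.quotTensorEquivQuotSMul N' p)).toEquiv.nontrivial
    exact (Module.Flat.lTensor_preserves_injective_linearMap (M := N') ((IsScalarTower.toAlgHom R (R ⧸ p) κ).toLinearMap)
      p.injective_algebraMap_quotient_residueField).nontrivial
  have hann : ∀ s ∈ Module.annihilator S N, ∀ w : T, s • w = 0 := by
    intro s hs w
    induction w using TensorProduct.induction_on with
    | zero => rw [smul_zero]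
    | tmul x c =>
      rw [TensorProduct.smul_tmul']
      suffices hx : s • x = 0 by rw [hx, TensorProduct.zero_tmul]
      induction x using TensorProduct.induction_on with
      | zero => rw [smul_zero]
      | tmul a n => rw [← TensorProduct.tmul_smul, Module.mem_annihilator.mp hs n, TensorProduct.tmul_zero]
      | add a b ha hb => rw [smul_add, ha, hb, add_zero]
    | add a b ha hb => rw [smul_add, ha, hb, add_zero]
  have hpT : ∀ r ∈ p, ∀ w : T, r • w = 0 := by
    intro r hr w
    induction w using TensorProduct.induction_on with
    | zero => rw [smul_zero]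
    | tmul x c => rw [← TensorProduct.tmul_smul, Algebra.smul_def, Ideal.algebraMap_residueField_eq_zero.mpr hr, zero_mul, TensorProduct.tmul_zero]
    | add a b ha hb => rw [smul_add, ha, hb, add_zero]
  obtain ⟨z, hz⟩ := exists_ne (0 : T)
  let I : Ideal S :=
    { carrier := {s | s • z = 0}
      zero_mem' := zero_smul S z
      add_mem' := fun {a b} (ha : a • z = 0) (hb : b • z = 0) => by show (a + b) • z = 0; rw [add_smul, ha, hb, add_zero]
      smul_mem' := fun c a (ha : a • z = 0) => by show (c * a) • z = 0; rw [mul_smul, ha, smul_zero] }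
  have hinj1 : ∀ s : S, s ∉ q'.asIdeal → Function.Injective (fun w : T => s • w) := by
    intro s hs a b hab
    have hu : IsUnit (algebraMap S Sq s) := IsLocalization.map_units Sq (⟨s, hs⟩ : q'.asIdeal.primeCompl)
    apply hu.smul_left_cancel.mp
    rw [algebraMap_smul, algebraMap_smul]
    exact hab
  have hinj2 : ∀ r : R, r ∉ p → Function.Injective (fun w : T => r • w) := by
    intro r hr a b hab
    have hu : IsUnit (algebraMap R κ r) := (Ne.isUnit fun h => hr (Ideal.algebraMap_residueField_eq_zero.mp h))
    have key : ∀ w : T, r • w = TensorProduct.map LinearMap.id (LinearMap.lsmul R κ r) w := by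
      intro w
      induction w using TensorProduct.induction_on with
      | zero => simp
      | tmul x c => simp
      | add x y hx hy => rw [smul_add, map_add, hx, hy]
    let mi : κ →ₗ[R] κ := LinearMap.mulLeft R ↑(hu.unit⁻¹)
    have h2 : mi ∘ₗ LinearMap.lsmul R κ r = LinearMap.id := LinearMap.ext fun c => by
      show ↑(hu.unit⁻¹) * (r • c) = c
      rw [Algebra.smul_def, ← mul_assoc, IsUnit.val_inv_mul, one_mul]
    have h3 : ∀ w : T, TensorProduct.map LinearMap.id mi (r • w) = w := fun w => by
      rw [key, ← LinearMap.comp_apply, ← TensorProduct.map_comp, LinearMap.id_comp, h2, TensorProduct.map_id, LinearMap.id_apply]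
    rw [← h3 a, ← h3 b, show r • a = r • b from hab]
  let M₀ : Submonoid S := q'.asIdeal.primeCompl ⊔ Algebra.algebraMapSubmonoid S p.primeCompl
  have hdisj : Disjoint (I : Set S) (M₀ : Set S) := by
    rw [Set.disjoint_left]
    intro x hx hxM
    obtain ⟨s, hs, t, ⟨r, hr, rfl⟩, rfl⟩ := Submonoid.mem_sup.mp hxM
    apply hz
    apply hinj2 r hr
    apply hinj1 s hs
    show s • r • z = s • r • (0 : T)
    rw [smul_zero, smul_zero, ← algebraMap_smul S r z, ← mul_smul]
    exact hx
  obtain ⟨Q, hQp, hIQ, hQd⟩ := Ideal.exists_le_prime_disjoint I M₀ hdisj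
  refine ⟨⟨Q, hQp⟩, fun x hx => ?_, ?_, ?_⟩
  · by_contra h
    exact Set.disjoint_left.mp hQd hx ((le_sup_left : q'.asIdeal.primeCompl ≤ M₀) h)
  · rw [Module.support_eq_zeroLocus]
    intro s hs
    exact hIQ (show s • z = 0 from hann s hs z)
  · refine le_antisymm (fun r hr => ?_) (fun r hr => ?_)
    · by_contra h
      exact Set.disjoint_left.mp hQd hr ((le_sup_right : Algebra.algebraMapSubmonoid S p.primeCompl ≤ M₀) ⟨r, h, rfl⟩)
    · refine hIQ (show algebraMap R S r • z = 0 from ?_)
      rw [algebraMap_smul]
      exact hpT r hr z

end Groth.Agent.S6263
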