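import Groth.Statements.S6264
import Mathlib.RingTheory.Localization.AtPrime.Basic
import Mathlib.RingTheory.Ideal.GoingUp
import Mathlib.RingTheory.Ideal.HasGoingUp
import Mathlib.RingTheory.Ideal.GoingDown

set_option autoImplicit false
universe u
open CAlg

namespace Groth.Agent.S6264

/-- Let R → S be a ring map with the going-up property and p a prime of R such that exactly one prime q
of S lies over p. Then the localization S_p of S at the image of R - p is a localization of S at q,
i.e. S_p = S_q. -/
theorem result {R S : Type u} [CommRing R] [CommRing S] [Algebra R S] [Algebra.HasGoingUp R S] (p : Ideal R) [p.IsPrime] (q : Ideal S) [q.IsPrime] [q.LiesOver p] (huniq : ∀ q' : Ideal S, q'.IsPrime → q'.under R = p → q' = q) : IsLocalization.AtPrime (Localization (Algebra.algebraMapSubmonoid S p.primeCompl)) q := by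
  have key : ∀ (Q : Ideal S) [Q.IsPrime], Q.under R ≤ p → Q ≤ q := by
    intro Q _ hQ
    obtain ⟨Q', hle, hQ', hQ'p⟩ := Ideal.exists_ideal_ge_liesOver_of_le Q hQ
    exact huniq Q' hQ' hQ'p.over.symm ▸ hle
  refine IsLocalization.of_le (Algebra.algebraMapSubmonoid S p.primeCompl) q.primeCompl ?_ ?_
  · rintro _ ⟨r, hr, rfl⟩ hmem
    exact hr ((Ideal.over_def q p).symm ▸ hmem : r ∈ p)

  intro x hx
  by_contra hu
  obtain ⟨P, hP, hxP⟩ := exists_max_ideal_of_mem_nonunits (show algebraMap S (Localization (Algebra.algebraMapSubmonoid S p.primeCompl)) x ∈ nonunits _ from hu)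
  haveI := hP.isPrime
  have hle : (P.comap (algebraMap S _)).under R ≤ p := fun r hr => by
    by_contra hrp
    exact hP.ne_top (Ideal.eq_top_of_isUnit_mem _ hr
      (IsLocalization.map_units _ (⟨algebraMap R S r, r, hrp, rfl⟩ : Algebra.algebraMapSubmonoid S p.primeCompl)))
  refine hx (key _ hle hxP)

end Groth.Agent.S6264
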