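import Groth.Statements.S6265
import Mathlib.RingTheory.Localization.AtPrime.Basic
import Mathlib.RingTheory.Ideal.GoingUp
import Mathlib.RingTheory.Ideal.HasGoingUp
import Mathlib.RingTheory.Ideal.GoingDown

set_option autoImplicit false
universe u
open CAlg

namespace Groth.Agent.S6265

/-- Let R → S be a ring map with the going-down property such that over every prime of R lies at most
one prime of S, and let p be a prime of R and q a prime of S above it. Then the localization S_p of
S at the image of R - p is a localization of S at q, i.e. S_p = S_q. -/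
theorem result {R S : Type u} [CommRing R] [CommRing S] [Algebra R S] [Algebra.HasGoingDown R S] (hinj : ∀ q₁ q₂ : Ideal S, q₁.IsPrime → q₂.IsPrime → q₁.under R = q₂.under R → q₁ = q₂) (p : Ideal R) [p.IsPrime] (q : Ideal S) [q.IsPrime] [q.LiesOver p] : IsLocalization.AtPrime (Localization (Algebra.algebraMapSubmonoid S p.primeCompl)) q := by
  have key : ∀ (Q : Ideal S) [Q.IsPrime], Q.under R ≤ p → Q ≤ q := by
    intro Q _ hQ
    haveI : Ideal.IsPrime (Q.under R) := Ideal.IsPrime.under R Q
    obtain ⟨Q', hle, hQ', hQ'p⟩ := Ideal.exists_ideal_le_liesOver_of_le (S := S) q (p := Q.under R) (q := p) hQ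
    exact hinj Q Q' inferInstance hQ' hQ'p.over ▸ hle
  refine IsLocalization.of_le (Algebra.algebraMapSubmonoid S p.primeCompl) q.primeCompl ?_ ?_
  · rintro _ ⟨r, hr, rfl⟩ hmem
    exact hr ((Ideal.over_def q p).symm ▸ hmem : r ∈ p)

  intro x hx
  by_contra hu
  obtain ⟨P, hP, hxP⟩ := exists_max_ideal_of_mem_nonunits (show algebraMap S (Localization (Algebra.algebraMapSubmonoid S p.primeCompl)) x ∈ nonunits _ from hu)
  haveI := hP.isPrime
  have hle : (P.comap (algebraMap S _)).under R ≤ p := fun r hr => by
    by_contra hrp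
    exact hP.ne_top (Ideal.eq_top_of_isUnit_mem _ hr
      (IsLocalization.map_units _ (⟨algebraMap R S r, r, hrp, rfl⟩ : Algebra.algebraMapSubmonoid S p.primeCompl)))
  refine hx (key _ hle hxP)

end Groth.Agent.S6265
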