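import Groth.Statements.S6266
import Groth.Agent.L01.RankExchange
import Mathlib.RingTheory.LocalProperties.FinitePresentation
import Mathlib.RingTheory.Support
-- import your own Groth.Agent.* helpers here

set_option autoImplicit false
universe u
open scoped TensorProduct
open CAlg

namespace Groth.Agent.S6266

open Groth.L01.RankExchange in
theorem injective_of_mu_eq {A : Type u} [CommRing A] [IsReduced A] {M : Type u} [AddCommGroup M]
    [Module A M] {n : ℕ} (g : (Fin n → A) →ₗ[A] M) (hg : Function.Surjective g)
    (h : ∀ q : PrimeSpectrum A, mu M q = n) : Function.Injective g := by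
  refine (injective_iff_map_eq_zero _).mpr fun v hv => funext fun i => ?_
  refine IsNilpotent.eq_zero (mem_nilradical.mp ?_)
  rw [nilradical_eq_sInf, Submodule.mem_sInf]
  rintro (q : Ideal A) (hq : Ideal.IsPrime _)
  have : Nontrivial A := (⟨q, hq⟩ : PrimeSpectrum A).nontrivial
  let gq := g.baseChange q.ResidueField
  have hsurj : Function.Surjective gq := LinearMap.lTensor_surjective _ hg
  have : Module.Finite A M := Module.Finite.of_surjective g hg
  have hdim : Module.finrank q.ResidueField (q.ResidueField ⊗[A] (Fin n → A)) =
      Module.finrank q.ResidueField (q.ResidueField ⊗[A] M) := by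
    rw [Module.finrank_baseChange, Module.finrank_fin_fun]
    exact (h ⟨q, hq⟩).symm
  have hinj : Function.Injective gq :=
    (LinearMap.injective_iff_surjective_of_finrank_eq_finrank hdim).mpr hsurj
  have hv0 : (1 : q.ResidueField) ⊗ₜ[A] v = 0 :=
    hinj (by rw [LinearMap.baseChange_tmul, hv, TensorProduct.tmul_zero, map_zero])
  have := congrArg ((TensorProduct.rid A q.ResidueField).toLinearMap ∘ₗ
    (LinearMap.proj i : (Fin n → A) →ₗ[A] A).lTensor q.ResidueField) hv0
  simp only [LinearMap.coe_comp, LinearEquiv.coe_coe, Function.comp_apply, LinearMap.lTensor_tmul,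
    LinearMap.proj_apply, map_zero, TensorProduct.rid_tmul, ← Algebra.algebraMap_eq_smul_one,
    Ideal.algebraMap_residueField_eq_zero] at this
  exact this

open Groth.L01.RankExchange in
theorem exists_free_away {A : Type u} [CommRing A] [IsReduced A] {M : Type u} [AddCommGroup M]
    [Module A M] [Module.Finite A M] (h : IsLocallyConstant (mu (A := A) M)) (x : PrimeSpectrum A) :
    ∃ f : A, f ∉ x.asIdeal ∧
      Module.FinitePresentation (Localization.Away f) (Localization.Away f ⊗[A] M) := by
  classical
  let k := x.asIdeal.ResidueField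
  let S : Submodule k (k ⊗[A] M) := Submodule.span k (Set.range fun m : M => (1 : k) ⊗ₜ[A] m)
  have hS : S = ⊤ := by
    refine eq_top_iff.mpr fun z htop => ?_
    clear htop
    induction z using TensorProduct.induction_on with
    | zero => exact zero_mem _
    | tmul a m =>
      rw [show a ⊗ₜ[A] m = a • ((1 : k) ⊗ₜ[A] m) by rw [TensorProduct.smul_tmul', smul_eq_mul, mul_one]]
      exact S.smul_mem a (Submodule.subset_span ⟨m, rfl⟩)
    | add a b ha hb => exact add_mem ha hb
  obtain ⟨v, hv', hspan, -⟩ := Submodule.exists_fun_fin_finrank_span_eq k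
    (Set.range fun m : M => (1 : k) ⊗ₜ[A] m)
  choose w hv using hv'
  have hspan' : Submodule.span k (Set.range v) = ⊤ := hspan.trans hS
  let N := Submodule.span A (Set.range w)
  have hx : x ∉ Module.support A (M ⧸ N) := by
    rw [Module.mem_support_iff_nontrivial_residueField_tensorProduct, not_nontrivial_iff_subsingleton]
    refine subsingleton_of_forall_eq 0 fun z => ?_
    obtain ⟨z, rfl⟩ := LinearMap.lTensor_surjective k N.mkQ_surjective z
    have hz : z ∈ Submodule.span k (Set.range v) := hspan'.symm ▸ Submodule.mem_top
    show N.mkQ.baseChange k z = 0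
    refine LinearMap.mem_ker.mp ((Submodule.span_le.mpr ?_ : _ ≤ LinearMap.ker (N.mkQ.baseChange k)) hz)
    rintro _ ⟨i, rfl⟩
    rw [SetLike.mem_coe, LinearMap.mem_ker, ← hv i, LinearMap.baseChange_tmul, Submodule.mkQ_apply,
      (Submodule.Quotient.mk_eq_zero N).mpr (Submodule.subset_span ⟨i, rfl⟩), TensorProduct.tmul_zero]
  have hN : ¬ Module.annihilator A (M ⧸ N) ≤ x.asIdeal := by
    rwa [Module.support_eq_zeroLocus, PrimeSpectrum.mem_zeroLocus] at hx
  obtain ⟨a, ha, hax⟩ := SetLike.not_le_iff_exists.mp hN
  have haN : ∀ m : M, a • m ∈ N := fun m => by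
    have := Module.mem_annihilator.mp ha (Submodule.Quotient.mk m)
    rwa [← Submodule.Quotient.mk_smul, Submodule.Quotient.mk_eq_zero] at this
  obtain ⟨U, hU, hxU, hconst⟩ := (IsLocallyConstant.iff_exists_open _).mp h x
  obtain ⟨_, ⟨b, rfl⟩, hxb, hbU⟩ :=
    PrimeSpectrum.isTopologicalBasis_basic_opens.exists_subset_of_mem_open hxU hU
  refine ⟨a * b, fun hab => (x.2.mem_or_mem hab).elim hax hxb, ?_⟩
  let T := Localization.Away (a * b)
  have : IsReduced T := isReduced_localizationPreserves (Submonoid.powers (a * b)) T inferInstance
  let g : (Fin (Module.finrank k (Submodule.span k (Set.range fun m : M => (1 : k) ⊗ₜ[A] m))) → T) →ₗ[T] T ⊗[A] M :=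
    Fintype.linearCombination T fun i => (1 : T) ⊗ₜ[A] w i
  have hu : IsUnit (algebraMap A T a) :=
    isUnit_of_mul_isUnit_left (y := algebraMap A T b)
      (by rw [← map_mul]; exact IsLocalization.Away.algebraMap_isUnit (a * b))
  have hle : N ≤ Submodule.comap (TensorProduct.mk A T M 1)
      ((LinearMap.range g).restrictScalars A) := by
    refine Submodule.span_le.mpr ?_
    rintro _ ⟨i, rfl⟩
    refine ⟨Pi.single i 1, ?_⟩
    simp [g, Fintype.linearCombination_apply_single]
  have hg : Function.Surjective g := by
    rw [← LinearMap.range_eq_top, eq_top_iff]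
    intro z htop
    clear htop
    induction z using TensorProduct.induction_on with
    | zero => exact zero_mem _
    | tmul t m =>
      have hm : (1 : T) ⊗ₜ[A] (a • m) ∈ LinearMap.range g := hle (haN m)
      have e : t ⊗ₜ[A] m = (t * (↑hu.unit⁻¹ : T)) • ((1 : T) ⊗ₜ[A] (a • m)) := by
        rw [TensorProduct.smul_tmul', smul_eq_mul, mul_one, ← TensorProduct.smul_tmul,
          Algebra.smul_def]
        congr 1
        rw [mul_left_comm, IsUnit.mul_val_inv, mul_one]
      rw [e]
      exact Submodule.smul_mem _ _ hm
    | add p q hp hq => exact add_mem hp hq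
  have hinj := injective_of_mu_eq g hg fun q => by
    rw [mu_baseChange M T q]
    refine (hconst _ (hbU ?_)).trans ?_
    · show b ∉ _
      intro hb
      refine q.2.ne_top (Ideal.eq_top_of_isUnit_mem _ hb ?_)
      exact isUnit_of_mul_isUnit_right (x := algebraMap A T a)
        (by rw [← map_mul]; exact IsLocalization.Away.algebraMap_isUnit (a * b))
    · exact ((congrArg (fun S : Submodule k (k ⊗[A] M) => Module.finrank k S) hS).trans
        (finrank_top _ _)).symm
  exact Module.FinitePresentation.of_equiv (LinearEquiv.ofBijective g ⟨hinj, hg⟩)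

/-- Let R be a reduced ring and M an R-module. Then M is a finite projective R-module if and only if M
is finitely generated and the function on Spec R sending a prime p to the dimension of κ(p) ⊗ M over
the residue field κ(p) is locally constant for the Zariski topology. -/
theorem result (R : Type u) [CommRing R] [IsReduced R] (M : Type u) [AddCommGroup M] [Module R M] : (Module.Finite R M ∧ Module.Projective R M) ↔ (Module.Finite R M ∧ IsLocallyConstant (fun p : PrimeSpectrum R => Module.finrank p.asIdeal.ResidueField (p.asIdeal.ResidueField ⊗[R] M))) := by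
  constructor
  · rintro ⟨hf, hp⟩
    have := Module.finitePresentation_of_projective R M
    exact ⟨hf, Groth.L01.RankExchange.isLocallyConstant_mu M⟩
  · rintro ⟨hf, h⟩
    refine ⟨hf, ?_⟩
    have := Groth.L01.RankExchange.flat_of_isLocallyConstant M h
    let s : Set R := {f | Module.FinitePresentation (Localization.Away f) (Localization.Away f ⊗[R] M)}
    have hs : Ideal.span s = ⊤ := by
      by_contra hne
      obtain ⟨m, hm, hle⟩ := Ideal.exists_le_maximal _ hne
      obtain ⟨f, hfx, hfs⟩ := exists_free_away h ⟨m, hm.isPrime⟩
      exact hfx (hle (Ideal.subset_span hfs))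
    have : Module.FinitePresentation R M :=
      Module.FinitePresentation.of_localizationSpan' s hs
        (Rₚ := fun g : s => Localization.Away g.1)
        (Mₚ := fun g : s => Localization.Away g.1 ⊗[R] M)
        (fun g => TensorProduct.mk R (Localization.Away g.1) M 1) (fun g => g.2)
    exact Module.Flat.projective_of_finitePresentation

end Groth.Agent.S6266
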