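import Groth.Statements.S6267
import Mathlib.Tactic
import Mathlib.RingTheory.Spectrum.Prime.Module
import Mathlib.RingTheory.LocalRing.Module
import Mathlib.RingTheory.Localization.AtPrime.Basic
import Mathlib.RingTheory.Ideal.KrullsHeightTheorem
import Mathlib.LinearAlgebra.Matrix.NonsingularInverse
import Mathlib.RingTheory.TensorProduct.Quotient
import Mathlib.RingTheory.Flat.FaithfullyFlat.Basic
import Mathlib.LinearAlgebra.TensorProduct.Prod
import Mathlib.RingTheory.LocalProperties.Reduced
import Mathlib.RingTheory.Finiteness.ModuleFinitePresentation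
import Groth.Agent.L02.Dominate
import Groth.Agent.L02.Flat
import Groth.Agent.L02.CountableML

set_option autoImplicit false
universe u
open CAlg

namespace Groth.Agent.S6267

/-- Let R be a ring and f : M → M' a map of R-modules with M' flat. Then f is universally injective
exactly when, for each finitely generated ideal I of R, the induced map M ⊗ R/I → M' ⊗ R/I (that is,
M/IM → M'/IM') is injective. -/
theorem result {R : Type u} [CommRing R] {M M' : Type u} [AddCommGroup M] [Module R M] [AddCommGroup M'] [Module R M'] [Module.Flat R M'] (f : M →ₗ[R] M') : CAlgX.UniversallyInjective R f ↔ ∀ I : Ideal R, I.FG → Function.Injective (f.rTensor (R ⧸ I)) := by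
  refine ⟨fun h I _ => h _, fun h => ?_⟩
  have hf : Function.Injective f := by
    have h0 := h ⊥ Submodule.fg_bot
    intro x y hxy
    have h1 := h0 (a₁ := x ⊗ₜ (Ideal.Quotient.mk ⊥ 1)) (a₂ := y ⊗ₜ (Ideal.Quotient.mk ⊥ 1)) (by simp [hxy])
    have h2 := congrArg (TensorProduct.tensorQuotEquivQuotSMul M (⊥ : Ideal R)) h1
    simp only [TensorProduct.tensorQuotEquivQuotSMul_tmul_mk, one_smul] at h2
    rw [Submodule.Quotient.eq] at h2
    simpa [sub_eq_zero] using h2
  have : Module.Flat R (M' ⧸ LinearMap.range f) :=
    Groth.L02.flat_of_exact_of_rTensor_quotient f (LinearMap.range f).mkQ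
      (LinearMap.exact_iff.mpr (by rw [Submodule.ker_mkQ])) (Submodule.mkQ_surjective _) h
  exact Groth.L02.universallyInjective_of_flat_coker f (LinearMap.range f).mkQ hf
    (LinearMap.exact_iff.mpr (by rw [Submodule.ker_mkQ])) (Submodule.mkQ_surjective _)

end Groth.Agent.S6267
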