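import Groth.Statements.S6268
import Mathlib.Tactic
import Mathlib.RingTheory.Spectrum.Prime.Module
import Mathlib.RingTheory.LocalRing.Module
import Mathlib.RingTheory.Localization.AtPrime.Basic
import Mathlib.RingTheory.Ideal.KrullsHeightTheorem
import Mathlib.LinearAlgebra.Matrix.NonsingularInverse
import Mathlib.RingTheory.TensorProduct.Quotient
import Mathlib.RingTheory.Flat.FaithfullyFlat.Basic
import Mathlib.LinearAlgebra.TensorProduct.Prod
import Mathlib.RingTheory.LocalProperties.Reduced
import Mathlib.RingTheory.Finiteness.ModuleFinitePresentation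
import Groth.Agent.L02.Dominate
import Groth.Agent.L02.Flat
import Groth.Agent.L02.CountableML

set_option autoImplicit false
universe u
open CAlg

namespace Groth.Agent.S6268

/-- Suppose the structure map R → S of an R-algebra S is universally injective as an R-linear map. Then
tensoring with S detects injectivity and surjectivity of R-linear maps (and hence reflects
isomorphisms): for an R-linear g : M → N, if S ⊗ g is injective then so is g, and if S ⊗ g is
surjective then so is g. -/
theorem result {R S : Type u} [CommRing R] [CommRing S] [Algebra R S] (hS : CAlgX.UniversallyInjective R (Algebra.linearMap R S)) {M N : Type u} [AddCommGroup M] [Module R M] [AddCommGroup N] [Module R N] (g : M →ₗ[R] N) : (Function.Injective (g.lTensor S) → Function.Injective g) ∧ (Function.Surjective (g.lTensor S) → Function.Surjective g) := by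
  have hinj : ∀ (P : Type u) [AddCommGroup P] [Module R P],
      Function.Injective fun p : P => (1 : S) ⊗ₜ[R] p := by
    intro P _ _ p q hpq
    have := hS P (a₁ := (1 : R) ⊗ₜ p) (a₂ := (1 : R) ⊗ₜ q) (by simpa using hpq)
    simpa using congrArg (TensorProduct.lid R P) this
  constructor
  · intro hg x y hxy
    exact hinj M (hg (by simp [hxy]))
  · intro hg
    rw [← LinearMap.range_eq_top]
    by_contra hne
    obtain ⟨n, -, hn⟩ := SetLike.exists_of_lt (lt_top_iff_ne_top.mpr hne)
    have hz : (LinearMap.range g).mkQ.lTensor S ((1 : S) ⊗ₜ n) = 0 := by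
      obtain ⟨w, hw⟩ := hg ((1 : S) ⊗ₜ n)
      rw [← hw, ← LinearMap.comp_apply, ← LinearMap.lTensor_comp,
        show (LinearMap.range g).mkQ.comp g = 0 from LinearMap.range_le_ker_iff.mp (by rw [Submodule.ker_mkQ]),
        LinearMap.lTensor_zero, LinearMap.zero_apply]
    have := hinj (N ⧸ LinearMap.range g) (a₁ := (LinearMap.range g).mkQ n) (a₂ := 0)
      (by simpa using hz)
    exact hn ((Submodule.Quotient.mk_eq_zero _).mp this)

end Groth.Agent.S6268
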