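import Groth.Statements.S6272
import Mathlib.Algebra.Module.Projective
import Mathlib.RingTheory.TensorProduct.Basic
import Mathlib.Algebra.Module.Torsion.Basic
import Mathlib.LinearAlgebra.Quotient.Basic
import Mathlib.RingTheory.Ideal.Quotient.Operations
import Mathlib.Tactic.LinearCombination
import Mathlib.Tactic.Abel

set_option autoImplicit false
universe u
open scoped TensorProduct
open CAlg

namespace Groth.Agent.S6272

section
open TensorProduct

theorem lift_killed {R : Type u} [CommRing R] (I : Ideal R) {P N N' : Type u} [AddCommGroup P] [Module R P]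
    [AddCommGroup N] [Module R N] [AddCommGroup N'] [Module R N']
    (hI : Module.Projective (R ⧸ I) ((R ⧸ I) ⊗[R] P)) (hN : ∀ r ∈ I, ∀ x : N, r • x = 0)
    (hN' : ∀ r ∈ I, ∀ x : N', r • x = 0) (g : N →ₗ[R] N') (hg : Function.Surjective g) (h : P →ₗ[R] N') :
    ∃ h' : P →ₗ[R] N, g ∘ₗ h' = h := by
  letI : Module (R ⧸ I) N := Module.IsTorsionBySet.module (fun x r => hN r.1 r.2 x)
  letI : Module (R ⧸ I) N' := Module.IsTorsionBySet.module (fun x r => hN' r.1 r.2 x)
  haveI : IsScalarTower R (R ⧸ I) N := Module.IsTorsionBySet.isScalarTower _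
  haveI : IsScalarTower R (R ⧸ I) N' := Module.IsTorsionBySet.isScalarTower _
  obtain ⟨l, hl⟩ := Module.projective_lifting_property (g.extendScalarsOfSurjective (S := R ⧸ I) Ideal.Quotient.mk_surjective)
    (LinearMap.liftBaseChange (R ⧸ I) h) hg
  refine ⟨(l.restrictScalars R) ∘ₗ TensorProduct.mk R (R ⧸ I) P 1, LinearMap.ext fun p => ?_⟩
  have := LinearMap.congr_fun hl ((1 : R ⧸ I) ⊗ₜ[R] p)
  simp at this
  exact this

theorem mem_inf_smul {R : Type u} [CommRing R] (I J : Ideal R) {α : Type u} (x : α →₀ R)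
    (hx : x ∈ I • (⊤ : Submodule R (α →₀ R))) (hx' : x ∈ J • (⊤ : Submodule R (α →₀ R))) (hIJ : I ⊓ J = ⊥) : x = 0 := by
  have key : ∀ (K : Ideal R) (y : α →₀ R), y ∈ K • (⊤ : Submodule R (α →₀ R)) → ∀ a, y a ∈ K := fun K y hy a => by
    refine Submodule.smul_induction_on hy (fun r hr z _ => ?_) fun u v hu hv => ?_
    · rw [Finsupp.smul_apply, smul_eq_mul]
      exact K.mul_mem_right _ hr
    · rw [Finsupp.add_apply]
      exact K.add_mem hu hv
  ext a
  have h : x a ∈ I ⊓ J := ⟨key I x hx a, key J x hx' a⟩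
  rw [hIJ] at h
  simpa using h

theorem projective_of_two (R : Type u) [CommRing R] (I J : Ideal R) (hIJ : I ⊓ J = ⊥) (P : Type u) [AddCommGroup P] [Module R P]
    (hI : Module.Projective (R ⧸ I) ((R ⧸ I) ⊗[R] P)) (hJ : Module.Projective (R ⧸ J) ((R ⧸ J) ⊗[R] P)) :
    Module.Projective R P := by
  let π : (P →₀ R) →ₗ[R] P := Finsupp.linearCombination R id
  have hπ : Function.Surjective π := Finsupp.linearCombination_id_surjective R P
  let IF : Submodule R (P →₀ R) := I • ⊤
  let JF : Submodule R (P →₀ R) := J • ⊤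
  let IP : Submodule R P := I • ⊤
  let JP : Submodule R P := J • ⊤
  have kill : ∀ (K : Ideal R) {M : Type u} [AddCommGroup M] [Module R M] (W : Submodule R M),
      K • ⊤ ≤ W → ∀ r ∈ K, ∀ x : M ⧸ W, r • x = 0 := by
    intro K M _ _ W hW r hr x
    obtain ⟨m, rfl⟩ := Submodule.Quotient.mk_surjective _ x
    rw [← Submodule.Quotient.mk_smul, Submodule.Quotient.mk_eq_zero]
    exact hW (Submodule.smul_mem_smul hr trivial)
  have himg : ∀ K : Ideal R, (K • (⊤ : Submodule R (P →₀ R))).map π = K • (⊤ : Submodule R P) := fun K => by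
    rw [Submodule.map_smul'', Submodule.map_top, LinearMap.range_eq_top.mpr hπ]
  let πI : ((P →₀ R) ⧸ IF) →ₗ[R] (P ⧸ IP) := Submodule.mapQ IF IP π (Submodule.map_le_iff_le_comap.mp (himg I).le)
  let πJ : ((P →₀ R) ⧸ JF) →ₗ[R] (P ⧸ JP) := Submodule.mapQ JF JP π (Submodule.map_le_iff_le_comap.mp (himg J).le)
  have hπI : Function.Surjective πI := fun y => by
    obtain ⟨y, rfl⟩ := Submodule.Quotient.mk_surjective _ y
    obtain ⟨f, rfl⟩ := hπ y
    exact ⟨Submodule.Quotient.mk f, rfl⟩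
  obtain ⟨sI, hsI⟩ := lift_killed I hI (kill I IF le_rfl) (kill I IP le_rfl) πI hπI IP.mkQ
  let q : ((P →₀ R) ⧸ IF) →ₗ[R] ((P →₀ R) ⧸ (IF ⊔ JF)) := Submodule.factor le_sup_left
  let q' : ((P →₀ R) ⧸ JF) →ₗ[R] ((P →₀ R) ⧸ (IF ⊔ JF)) := Submodule.factor le_sup_right
  let g : ((P →₀ R) ⧸ JF) →ₗ[R] (P ⧸ JP) × ((P →₀ R) ⧸ (IF ⊔ JF)) := πJ.prod q'
  let h : P →ₗ[R] (P ⧸ JP) × ((P →₀ R) ⧸ (IF ⊔ JF)) := JP.mkQ.prod (q ∘ₗ sI)
  have hh : ∀ p, h p ∈ LinearMap.range g := by
    intro p
    obtain ⟨f, hf⟩ := Submodule.Quotient.mk_surjective _ (sI p)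
    have h1 : p - π f ∈ IP := by
      have := LinearMap.congr_fun hsI p
      rw [LinearMap.comp_apply, ← hf] at this
      exact (Submodule.Quotient.eq _).mp this.symm
    rw [show IP = IF.map π from (himg I).symm] at h1
    obtain ⟨e, he, hee⟩ := h1
    refine ⟨Submodule.Quotient.mk (f + e), Prod.ext ?_ ?_⟩
    · show Submodule.Quotient.mk (π (f + e)) = Submodule.Quotient.mk p
      rw [map_add, hee, add_sub_cancel]
    · show Submodule.Quotient.mk (f + e) = q (sI p)
      rw [← hf]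
      exact (Submodule.Quotient.eq _).mpr (Submodule.mem_sup_left (by show f + e - f ∈ IF; rw [add_sub_cancel_left]; exact he))
  obtain ⟨sJ, hsJ⟩ := lift_killed J hJ (kill J JF le_rfl)
    (fun r hr x => Subtype.ext (Prod.ext (kill J JP le_rfl r hr x.1.1) (kill J (IF ⊔ JF) le_sup_right r hr x.1.2)))
    g.rangeRestrict g.surjective_rangeRestrict (h.codRestrict _ hh)
  have hsJ1 : ∀ p, πJ (sJ p) = Submodule.Quotient.mk p := fun p =>
    congrArg (fun z => z.1.1) (LinearMap.congr_fun hsJ p)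
  have hsJ2 : ∀ p, q' (sJ p) = q (sI p) := fun p => congrArg (fun z => z.1.2) (LinearMap.congr_fun hsJ p)
  let both : (P →₀ R) →ₗ[R] ((P →₀ R) ⧸ IF) × ((P →₀ R) ⧸ JF) := IF.mkQ.prod JF.mkQ
  have hinj : Function.Injective both := by
    rw [injective_iff_map_eq_zero]
    intro x hx
    exact mem_inf_smul I J x ((Submodule.Quotient.mk_eq_zero _).mp (congrArg Prod.fst hx))
      ((Submodule.Quotient.mk_eq_zero _).mp (congrArg Prod.snd hx)) hIJ
  have hmem : ∀ p, (sI.prod sJ) p ∈ LinearMap.range both := by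
    intro p
    obtain ⟨a, ha⟩ := Submodule.Quotient.mk_surjective _ (sI p)
    obtain ⟨b, hb⟩ := Submodule.Quotient.mk_surjective _ (sJ p)
    have h1 := hsJ2 p
    rw [← ha, ← hb] at h1
    obtain ⟨u, hu, v, hv, huv⟩ := Submodule.mem_sup.mp ((Submodule.Quotient.eq _).mp h1)
    simp only [LinearMap.id_apply] at huv
    refine ⟨a + u, Prod.ext ?_ ?_⟩
    · show Submodule.Quotient.mk (a + u) = sI p
      rw [← ha]
      exact (Submodule.Quotient.eq _).mpr (by rw [add_sub_cancel_left]; exact hu)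
    · show Submodule.Quotient.mk (a + u) = sJ p
      rw [← hb]
      refine (Submodule.Quotient.eq _).mpr ?_
      rw [show a + u - b = -v by linear_combination (norm := abel) huv]
      exact JF.neg_mem hv
  let σ : P →ₗ[R] (P →₀ R) := (LinearEquiv.ofInjective both hinj).symm.toLinearMap ∘ₗ (sI.prod sJ).codRestrict _ hmem
  have hσ : ∀ p, both (σ p) = (sI p, sJ p) := fun p =>
    congrArg Subtype.val ((LinearEquiv.ofInjective both hinj).apply_symm_apply ⟨_, hmem p⟩)
  let δ : P →ₗ[R] P := π ∘ₗ σ - LinearMap.id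
  have hδI : ∀ p, δ p ∈ IP := fun p => by
    have h1 := congrArg πI (congrArg Prod.fst (hσ p))
    exact (Submodule.Quotient.eq _).mp (h1.trans (LinearMap.congr_fun hsI p))
  have hδJ : ∀ p, δ p ∈ JP := fun p => by
    have h1 := congrArg πJ (congrArg Prod.snd (hσ p))
    exact (Submodule.Quotient.eq _).mp (h1.trans (hsJ1 p))
  have hδδ : ∀ p, δ (δ p) = 0 := by
    intro p
    refine Submodule.smul_induction_on (hδI p) (fun r hr x _ => ?_) fun a b ha hb => by rw [map_add, ha, hb, add_zero]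
    rw [map_smul]
    refine Submodule.smul_induction_on (hδJ x) (fun s hs y _ => ?_) fun a b ha hb => by rw [smul_add, ha, hb, add_zero]
    have : r * s ∈ I ⊓ J := ⟨I.mul_mem_right _ hr, J.mul_mem_left _ hs⟩
    rw [hIJ, Submodule.mem_bot] at this
    rw [smul_smul, this, zero_smul]
  refine Module.Projective.of_split (σ ∘ₗ (LinearMap.id - δ)) π (LinearMap.ext fun p => ?_)
  have h1 : ∀ x, π (σ x) = δ x + x := fun x => by simp [δ]
  show π (σ (p - δ p)) = p
  rw [h1, map_sub, hδδ, sub_zero, add_sub_cancel]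

end


/-- Over a ring R, take two ideals I and J meeting in zero (I ∩ J = 0) and an R-module P. If the
R/I-module P/IP (that is, R/I ⊗ P) and the R/J-module P/JP (that is, R/J ⊗ P) are both projective,
then P itself is projective over R. -/
theorem result {R : Type u} [CommRing R] (I J : Ideal R) (hIJ : I ⊓ J = ⊥) (P : Type u) [AddCommGroup P] [Module R P] (hI : Module.Projective (R ⧸ I) ((R ⧸ I) ⊗[R] P)) (hJ : Module.Projective (R ⧸ J) ((R ⧸ J) ⊗[R] P)) : Module.Projective R P := by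
  exact projective_of_two R I J hIJ P hI hJ

end Groth.Agent.S6272
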