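import Groth.Statements.S6273
import Mathlib.RingTheory.Spectrum.Prime.Topology
import Mathlib.RingTheory.Localization.Defs

set_option autoImplicit false
universe u
open CAlg

namespace Groth.Agent.S6273

section

variable {R : Type u} [CommRing R] (S : Submonoid R) {A : Type u} [CommRing A] [Algebra R A] [IsLocalization S A]

include S in
theorem range_eq (hcl : IsClosed (Set.range (PrimeSpectrum.comap (algebraMap R A)))) :
    Set.range (PrimeSpectrum.comap (algebraMap R A)) =
      PrimeSpectrum.zeroLocus (RingHom.ker (algebraMap R A) : Set R) := by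
  rw [← hcl.closure_eq]
  exact PrimeSpectrum.closure_range_comap (algebraMap R A)

include S in
theorem surjective_of_closed (hcl : IsClosed (Set.range (PrimeSpectrum.comap (algebraMap R A)))) :
    Function.Surjective (algebraMap R A) := by
  let I := RingHom.ker (algebraMap R A)
  have hu : ∀ s : S, IsUnit (Ideal.Quotient.mk I (s : R)) := by
    intro s
    by_contra hs
    obtain ⟨m, hm, hsm⟩ := exists_max_ideal_of_mem_nonunits (show Ideal.Quotient.mk I (s : R) ∈ nonunits _ from hs)
    haveI := hm.isPrime
    have hIm : I ≤ m.comap (Ideal.Quotient.mk I) := fun x hx => by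
      rw [Ideal.mem_comap, Ideal.Quotient.eq_zero_iff_mem.mpr hx]
      exact m.zero_mem
    obtain ⟨P, hP⟩ : (⟨m.comap (Ideal.Quotient.mk I), inferInstance⟩ : PrimeSpectrum R) ∈ Set.range (PrimeSpectrum.comap (algebraMap R A)) := by
      rw [range_eq S hcl]
      exact hIm
    have h1 : (s : R) ∈ (PrimeSpectrum.comap (algebraMap R A) P).asIdeal := by rw [hP]; exact hsm
    exact P.2.ne_top (Ideal.eq_top_of_isUnit_mem _ h1 (IsLocalization.map_units A s))
  intro a
  obtain ⟨⟨x, s⟩, hxs⟩ := IsLocalization.surj S a
  obtain ⟨t, ht⟩ := (hu s).exists_left_inv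
  obtain ⟨t, rfl⟩ := Ideal.Quotient.mk_surjective t
  rw [← map_mul, ← map_one (Ideal.Quotient.mk I)] at ht
  have ht' : algebraMap R A t * algebraMap R A s = 1 := by
    have := Ideal.Quotient.eq.mp ht
    rw [RingHom.mem_ker, map_sub, map_mul, map_one, sub_eq_zero] at this
    exact this
  exact ⟨x * t, by rw [map_mul, ← hxs, mul_assoc, mul_comm _ (algebraMap R A t), ht', mul_one]⟩

end


/-- Let R be a ring, S ⊆ R a multiplicative subset and A = S⁻¹R. If the image of Spec(A) → Spec(R) is
closed, then the localization map R → A is surjective; in particular A is isomorphic to R/I for the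
ideal I = ker(R → A). -/
theorem result {R : Type u} [CommRing R] (S : Submonoid R) (A : Type u) [CommRing A] [Algebra R A] [IsLocalization S A] (hcl : IsClosed (Set.range (PrimeSpectrum.comap (algebraMap R A)))) : Function.Surjective (algebraMap R A) := by
  exact surjective_of_closed S hcl

end Groth.Agent.S6273
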