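import Groth.Statements.S6274
import Mathlib.RingTheory.Spectrum.Prime.Topology
import Mathlib.RingTheory.Localization.Defs
import Mathlib.RingTheory.Ideal.Quotient.Operations
import Mathlib.Topology.NoetherianSpace
import Groth.Agent.S6273

set_option autoImplicit false
universe u
open CAlg

namespace Groth.Agent.S6274

/-- Let R be a ring, S ⊆ R a multiplicative subset and A = S⁻¹R, and assume the image of Spec(A) →
Spec(R) is closed. If Spec(R) is a Noetherian topological space (which holds when R is Noetherian)
or S is finitely generated as a monoid, then R is isomorphic to A × R' for some ring R', by an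
isomorphism whose first component is the localization map R → A. -/
theorem result {R : Type u} [CommRing R] (S : Submonoid R) (A : Type u) [CommRing A] [Algebra R A] [IsLocalization S A] (hcl : IsClosed (Set.range (PrimeSpectrum.comap (algebraMap R A)))) (h : TopologicalSpace.NoetherianSpace (PrimeSpectrum R) ∨ S.FG) : ∃ (R' : Type u) (_ : CommRing R') (e : R ≃+* A × R'), ∀ x : R, (e x).1 = algebraMap R A x := by
  classical
  have hsurj := Groth.Agent.S6273.result S A hcl
  have hr : Set.range (PrimeSpectrum.comap (algebraMap R A)) = {p : PrimeSpectrum R | Disjoint (S : Set R) ↑p.asIdeal} :=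
    PrimeSpectrum.localization_comap_range A S
  have hgen : ∀ p q : PrimeSpectrum R, p ⤳ q → q ∈ Set.range (PrimeSpectrum.comap (algebraMap R A)) →
      p ∈ Set.range (PrimeSpectrum.comap (algebraMap R A)) := by
    intro p q hpq hq
    rw [hr] at hq ⊢
    exact hq.mono_right ((PrimeSpectrum.le_iff_specializes p q).mpr hpq)
  have hopen : IsOpen (Set.range (PrimeSpectrum.comap (algebraMap R A))) := by
    rcases h with hN | hfg
    · haveI := hN
      rw [← isClosed_compl_iff]
      have hcompl : (Set.range (PrimeSpectrum.comap (algebraMap R A)))ᶜ =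
          ⋃ Z ∈ {Z ∈ irreducibleComponents (PrimeSpectrum R) |
            Z ⊆ (Set.range (PrimeSpectrum.comap (algebraMap R A)))ᶜ}, Z := by
        refine Set.Subset.antisymm (fun x hx => ?_) (Set.iUnion₂_subset fun Z hZ => hZ.2)
        refine Set.mem_biUnion (x := irreducibleComponent x) ⟨irreducibleComponent_mem_irreducibleComponents x, fun y hy hy' => ?_⟩ mem_irreducibleComponent
        have hirr := isIrreducible_irreducibleComponent (x := x)
        obtain ⟨η, hη⟩ := QuasiSober.sober hirr isClosed_irreducibleComponent
        have h1 : η ∈ Set.range (PrimeSpectrum.comap (algebraMap R A)) := hgen η y (hη.specializes hy) hy'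
        exact hx (hcl.closure_subset_iff.mpr (Set.singleton_subset_iff.mpr h1) (hη ▸ mem_irreducibleComponent))
      rw [hcompl]
      exact (TopologicalSpace.NoetherianSpace.finite_irreducibleComponents.subset fun Z hZ => hZ.1).isClosed_biUnion
        fun Z hZ => isClosed_of_mem_irreducibleComponents Z hZ.1
    · obtain ⟨T, rfl⟩ := hfg
      rw [hr]
      have : {p : PrimeSpectrum R | Disjoint (Submonoid.closure (T : Set R) : Set R) ↑p.asIdeal} =
          (PrimeSpectrum.basicOpen (∏ t ∈ T, t) : Set (PrimeSpectrum R)) := by
        ext p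
        simp only [PrimeSpectrum.basicOpen_eq_zeroLocus_compl, Set.mem_compl_iff,
          PrimeSpectrum.mem_zeroLocus, Set.singleton_subset_iff, SetLike.mem_coe, Set.mem_ofPred_eq]
        constructor
        · intro hd hp
          exact Set.disjoint_left.mp hd (Submonoid.prod_mem _ fun t ht => Submonoid.subset_closure ht) hp
        · intro hp
          rw [Set.disjoint_left]
          intro z hz
          induction hz using Submonoid.closure_induction with
          | mem t ht => exact fun h => hp (Ideal.mem_of_dvd _ (Finset.dvd_prod_of_mem _ ht) h)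
          | one => exact fun h => p.2.ne_top ((Ideal.eq_top_iff_one _).mpr h)
          | mul a b _ _ ha hb => exact fun h => (p.2.mem_or_mem h).elim ha hb
      rw [this]
      exact PrimeSpectrum.isOpen_basicOpen
  obtain ⟨e, he, heU⟩ := PrimeSpectrum.exists_idempotent_basicOpen_eq_of_isClopen ⟨hcl, hopen⟩
  have hinS : ∀ p : PrimeSpectrum R, e ∉ p.asIdeal → ∀ s ∈ S, s ∉ p.asIdeal := by
    intro p hp s hs hsp
    have : p ∈ Set.range (PrimeSpectrum.comap (algebraMap R A)) := by rw [heU]; exact hp
    rw [hr] at this
    exact Set.disjoint_left.mp this hs hsp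
  have heA : algebraMap R A e = 1 := by
    have hu : IsUnit (algebraMap R A e) := by
      by_contra hu
      obtain ⟨P, hP, hPe⟩ := exists_max_ideal_of_mem_nonunits (show algebraMap R A e ∈ nonunits _ from hu)
      have : PrimeSpectrum.comap (algebraMap R A) ⟨P, hP.isPrime⟩ ∈ (PrimeSpectrum.basicOpen e : Set (PrimeSpectrum R)) := by
        rw [← heU]; exact ⟨_, rfl⟩
      exact this hPe
    exact hu.mul_left_cancel (by rw [mul_one, ← map_mul, he.eq])
  let I : Ideal R := Ideal.span {1 - e}
  let J : Ideal R := Ideal.span {e}
  have hker : RingHom.ker (algebraMap R A) = I := by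
    refine le_antisymm (fun x hx => ?_) ((Ideal.span_singleton_le_iff_mem _).mpr (by rw [RingHom.mem_ker, map_sub, map_one, heA, sub_self]))
    rw [RingHom.mem_ker] at hx
    obtain ⟨s, hs⟩ := (IsLocalization.map_eq_zero_iff S A x).mp hx
    have hu : IsUnit (Ideal.Quotient.mk I (s : R)) := by
      by_contra hu
      obtain ⟨m, hm, hsm⟩ := exists_max_ideal_of_mem_nonunits (show Ideal.Quotient.mk I (s : R) ∈ nonunits _ from hu)
      haveI := hm.isPrime
      refine hinS ⟨m.comap (Ideal.Quotient.mk I), inferInstance⟩ (fun hem => hm.ne_top ((Ideal.eq_top_iff_one _).mpr ?_)) s s.2 hsm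
      have h1 : Ideal.Quotient.mk I e = 1 := by
        rw [← map_one (Ideal.Quotient.mk I), Ideal.Quotient.eq]
        exact neg_sub (1 : R) e ▸ neg_mem (Ideal.mem_span_singleton_self (1 - e))
      exact h1 ▸ hem
    refine Ideal.Quotient.eq_zero_iff_mem.mp (hu.mul_right_eq_zero.mp ?_)
    rw [← map_mul, hs, map_zero]
  have hcop : IsCoprime I J := Ideal.isCoprime_iff_exists.mpr
    ⟨1 - e, Ideal.mem_span_singleton_self _, e, Ideal.mem_span_singleton_self _, by rw [sub_add_cancel]⟩
  have hinf : I ⊓ J = ⊥ := by
    rw [← Ideal.mul_eq_inf_of_coprime (Ideal.isCoprime_iff_sup_eq.mp hcop), Ideal.span_singleton_mul_span_singleton, sub_mul, one_mul, he.eq, sub_self]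
    exact Ideal.span_singleton_eq_bot.mpr rfl
  let E : R ≃+* (R ⧸ I) × (R ⧸ J) :=
    ((RingEquiv.quotientBot R).symm.trans (Ideal.quotEquivOfEq hinf.symm)).trans (Ideal.quotientInfEquivQuotientProd I J hcop)
  let EA : (R ⧸ I) ≃+* A := (Ideal.quotEquivOfEq hker.symm).trans (RingHom.quotientKerEquivOfSurjective hsurj)
  exact ⟨R ⧸ J, inferInstance, E.trans (EA.prodCongr (RingEquiv.refl _)), fun x => rfl⟩

end Groth.Agent.S6274
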