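import Groth.Statements.S6275
import Mathlib.Tactic

set_option autoImplicit false
universe u
open CAlg

namespace Groth.Agent.S6275

/-- Let R be a Noetherian ring and p ⊆ R a prime. Then there is f ∈ R, f ∉ p, such that R_f → R_p is
injective; equivalently every x ∈ R mapping to zero in R_p maps to zero in R_f. (The cases of a
domain and of a reduced ring with finitely many minimal primes are not included here.) -/
theorem result {R : Type u} [CommRing R] [IsNoetherianRing R] (p : Ideal R) [p.IsPrime] : ∃ f : R, f ∉ p ∧ ∀ x : R, algebraMap R (Localization.AtPrime p) x = 0 → algebraMap R (Localization.Away f) x = 0 := by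
  classical
  obtain ⟨s, hs⟩ := IsNoetherian.noetherian (RingHom.ker (algebraMap R (Localization.AtPrime p)))
  have h : ∀ x ∈ s, ∃ c : R, c ∉ p ∧ c * x = 0 := fun x hx => by
    have hx0 : x ∈ RingHom.ker (algebraMap R (Localization.AtPrime p)) := hs ▸ Submodule.subset_span hx
    obtain ⟨⟨c, hc⟩, hc'⟩ := (IsLocalization.map_eq_zero_iff p.primeCompl _ x).mp hx0
    exact ⟨c, hc, hc'⟩
  choose! c hc₁ hc₂ using h
  refine ⟨∏ x ∈ s, c x, ?_, fun x hx => ?_⟩
  · intro hm
    obtain ⟨j, hj, hj'⟩ := (Ideal.IsPrime.prod_mem_iff (hp := inferInstance)).mp hm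
    exact hc₁ j hj hj'
  · rw [IsLocalization.map_eq_zero_iff (Submonoid.powers (∏ x ∈ s, c x))]
    refine ⟨⟨_, Submonoid.mem_powers _⟩, ?_⟩
    show (∏ y ∈ s, c y) * x = 0
    have hx' : x ∈ Submodule.span R (s : Set R) := by rw [hs]; exact hx
    clear hx
    induction hx' using Submodule.span_induction with
    | mem y hy => rw [← Finset.prod_erase_mul _ _ hy, mul_assoc, hc₂ y hy, mul_zero]
    | zero => simp
    | add a b _ _ ha hb => rw [mul_add, ha, hb, add_zero]
    | smul a b _ hb => rw [smul_eq_mul, mul_left_comm, hb, mul_zero]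

end Groth.Agent.S6275
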