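import Groth.Statements.S6277
import Mathlib.Tactic

set_option autoImplicit false
universe u
open CAlg

namespace Groth.Agent.S6277

/-- Any surjective ring endomorphism of a Noetherian ring is an isomorphism (bijective). -/
theorem result {R : Type u} [CommRing R] [IsNoetherianRing R] (f : R →+* R) (hf : Function.Surjective f) : Function.Bijective f := by
  refine ⟨?_, hf⟩
  have hmono : Monotone (fun n : ℕ => RingHom.ker (f ^ n)) := monotone_nat_of_le_succ fun n x hx => by
    simp only [RingHom.mem_ker, RingHom.coe_pow] at hx ⊢
    rw [Function.iterate_succ_apply', hx, map_zero]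
  obtain ⟨n, hn⟩ := monotone_stabilizes_iff_noetherian.mpr (inferInstance : IsNoetherian R R) ⟨_, hmono⟩
  rw [injective_iff_map_eq_zero]
  intro x hx
  obtain ⟨y, rfl⟩ : ∃ y, (f^[n]) y = x := (hf.iterate n) x
  have h1 : y ∈ RingHom.ker (f ^ (n + 1)) := by
    simp [RingHom.mem_ker, RingHom.coe_pow, Function.iterate_succ_apply', hx]
  have h2 : y ∈ RingHom.ker (f ^ n) := by
    have := hn (n + 1) (by omega)
    simp only [OrderHom.coe_mk] at this
    rw [this]; exact h1
  simpa [RingHom.mem_ker, RingHom.coe_pow] using h2

end Groth.Agent.S6277
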