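import Groth.Statements.S6278
import Groth.Agent.L06.NormalTotalQuot

set_option autoImplicit false
set_option maxSynthPendingDepth 3
set_option linter.style.haveILetI false
universe u
open CAlg

namespace Groth.Agent.S6278

/-- A normal ring R (all localizations at primes are integrally closed domains) is integrally closed in
its total ring of fractions. -/
theorem result (R : Type u) [CommRing R] (hR : EGA4.IsNormalRing R) : IsIntegrallyClosedIn R (FractionRing R) := by
  refine isIntegrallyClosedIn_iff.mpr ⟨IsFractionRing.injective R (FractionRing R), fun {y} hy => ?_⟩
  exact Groth.L06.NormalTotalQuot.integrallyClosedIn_of_normal hR y hy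

end Groth.Agent.S6278
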