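import Groth.Statements.S6279
import Mathlib.RingTheory.Localization.LocalizationLocalization
import Mathlib.RingTheory.Localization.Away.Basic
import Mathlib.RingTheory.IntegralClosure.IntegrallyClosed

set_option autoImplicit false
universe u
open CAlg

namespace Groth.Agent.S6279

/-- A finite product of normal rings is normal (a ring is normal when every localization at a prime is
an integrally closed domain). -/
theorem result {ι : Type u} [Finite ι] (A : ι → Type u) [∀ i, CommRing (A i)] (hA : ∀ i, EGA4.IsNormalRing (A i)) : EGA4.IsNormalRing (∀ i, A i) := by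
  classical
  haveI := Fintype.ofFinite ι
  intro p hp
  obtain ⟨i, hi⟩ : ∃ i, (Pi.single i 1 : ∀ i, A i) ∉ p := by
    by_contra hc
    push Not at hc
    refine hp.ne_top ((Ideal.eq_top_iff_one _).2 ?_)
    rw [← Finset.univ_sum_single (1 : ∀ i, A i)]
    exact sum_mem fun i _ => hc i
  letI : Algebra (∀ i, A i) (A i) := (Pi.evalRingHom A i).toAlgebra
  haveI : IsLocalization.Away (Pi.single i 1 : ∀ i, A i) (A i) := by
    refine IsLocalization.away_of_isIdempotentElem ?_ ?_ (fun a => ⟨Pi.single i a, by simp [RingHom.algebraMap_toAlgebra]⟩)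
    · rw [IsIdempotentElem, ← Pi.single_mul, one_mul]
    · ext x
      rw [RingHom.mem_ker, Ideal.mem_span_singleton']
      constructor
      · intro hx
        have hx' : x i = 0 := hx
        refine ⟨x, funext fun j => ?_⟩
        by_cases hj : j = i
        · subst hj; simp [hx']
        · simp [Pi.single_eq_of_ne hj]
      · rintro ⟨c, rfl⟩
        show ((c * (1 - Pi.single i 1)) : ∀ i, A i) i = 0
        simp
  have hdisj : Disjoint (Submonoid.powers (Pi.single i 1 : ∀ i, A i) : Set (∀ i, A i)) p :=
    (Ideal.disjoint_powers_iff_notMem _ hp.isRadical).2 hi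
  let q := p.map (algebraMap (∀ i, A i) (A i))
  haveI : q.IsPrime := IsLocalization.isPrime_of_isPrime_disjoint (Submonoid.powers (Pi.single i 1 : ∀ i, A i)) (A i) p hp hdisj
  have hq : q.comap (algebraMap (∀ i, A i) (A i)) = p :=
    IsLocalization.under_map_of_isPrime_disjoint (Submonoid.powers (Pi.single i 1 : ∀ i, A i)) (A i) hp hdisj
  haveI h := IsLocalization.isLocalization_isLocalization_atPrime_isLocalization
    (M := Submonoid.powers (Pi.single i 1 : ∀ i, A i)) (Localization.AtPrime q) q
  simp only [hq] at h
  let e : Localization.AtPrime p ≃ₐ[∀ i, A i] Localization.AtPrime q := IsLocalization.algEquiv p.primeCompl _ _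
  obtain ⟨h1, h2⟩ := hA i q
  exact ⟨e.toRingEquiv.toMulEquiv.isDomain, IsIntegrallyClosed.of_equiv e.symm.toRingEquiv⟩


end Groth.Agent.S6279
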