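import Groth.Statements.S6282
import Mathlib.RingTheory.Flat.FaithfullyFlat.Basic
import Mathlib.LinearAlgebra.TensorProduct.Tower
import Mathlib.RingTheory.Flat.Basic
import Mathlib.RingTheory.Flat.Tensor
import Mathlib.RingTheory.Flat.Stability

set_option autoImplicit false
universe u
open scoped TensorProduct
open CAlg

namespace Groth.Agent.S6282

theorem flat_tensorProduct {R S T M : Type u} [CommRing R] [CommRing S] [CommRing T] [Algebra R S] [Algebra S T]
    [Algebra R T] [IsScalarTower R S T] [AddCommGroup M] [Module R M] [Module S M] [IsScalarTower R S M]
    [Module.Flat S T] [Module.Flat R M] : Module.Flat R (T ⊗[S] M) := by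
  rw [Module.Flat.iff_lTensor_injective']
  intro J
  have h1 : Function.Injective (TensorProduct.AlgebraTensorModule.lTensor S M J.subtype : M ⊗[R] J →ₗ[S] M ⊗[R] R) :=
    Module.Flat.lTensor_preserves_injective_linearMap (M := M) J.subtype Subtype.val_injective
  have h2 := Module.Flat.lTensor_preserves_injective_linearMap (M := T)
    (TensorProduct.AlgebraTensorModule.lTensor S M J.subtype) h1
  intro a b hab
  apply (TensorProduct.AlgebraTensorModule.assoc R S S T M J).injective
  apply h2
  have key : ∀ z : (T ⊗[S] M) ⊗[R] J, (TensorProduct.AlgebraTensorModule.lTensor S M J.subtype).lTensor T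
      (TensorProduct.AlgebraTensorModule.assoc R S S T M J z) =
      TensorProduct.AlgebraTensorModule.assoc R S S T M R (J.subtype.lTensor (T ⊗[S] M) z) := by
    intro z
    induction z using TensorProduct.induction_on with
    | zero => simp
    | tmul w j =>
      induction w using TensorProduct.induction_on with
      | zero => simp
      | tmul t m => simp
      | add x y hx hy => simp only [TensorProduct.add_tmul, map_add, hx, hy]
    | add x y hx hy => simp only [map_add, hx, hy]
  rw [key, key, hab]


theorem flat_of_faithfullyFlat_tensorProduct {R S T M : Type u} [CommRing R] [CommRing S] [CommRing T] [Algebra R S]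
    [Algebra S T] [Algebra R T] [IsScalarTower R S T] [AddCommGroup M] [Module R M] [Module S M] [IsScalarTower R S M]
    [Module.FaithfullyFlat S T] [Module.Flat R (T ⊗[S] M)] : Module.Flat R M := by
  rw [Module.Flat.iff_lTensor_injective']
  intro J
  have key : ∀ z : (T ⊗[S] M) ⊗[R] J, (TensorProduct.AlgebraTensorModule.lTensor S M J.subtype).lTensor T
      (TensorProduct.AlgebraTensorModule.assoc R S S T M J z) =
      TensorProduct.AlgebraTensorModule.assoc R S S T M R (J.subtype.lTensor (T ⊗[S] M) z) := by
    intro z
    induction z using TensorProduct.induction_on with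
    | zero => simp
    | tmul w j =>
      induction w using TensorProduct.induction_on with
      | zero => simp
      | tmul t m => simp
      | add x y hx hy => simp only [TensorProduct.add_tmul, map_add, hx, hy]
    | add x y hx hy => simp only [map_add, hx, hy]
  have h1 : Function.Injective (J.subtype.lTensor (T ⊗[S] M)) :=
    Module.Flat.lTensor_preserves_injective_linearMap J.subtype Subtype.val_injective
  have h2 : Function.Injective ((TensorProduct.AlgebraTensorModule.lTensor S M J.subtype).lTensor T) := by
    intro a b hab
    obtain ⟨a, rfl⟩ := (TensorProduct.AlgebraTensorModule.assoc R S S T M J).surjective a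
    obtain ⟨b, rfl⟩ := (TensorProduct.AlgebraTensorModule.assoc R S S T M J).surjective b
    rw [key, key] at hab
    rw [h1 ((TensorProduct.AlgebraTensorModule.assoc R S S T M R).injective hab)]
  exact (Module.FaithfullyFlat.lTensor_injective_iff_injective S T
    (TensorProduct.AlgebraTensorModule.lTensor S M J.subtype)).mp h2




/-- Let S → S' be a homomorphism of R-algebras, M an S-module, and M' = S' ⊗_S M with its induced
R-module structure. (1) When S' is flat over S, R-flatness of M passes to M'. (2) When S' is
faithfully flat over S, M is R-flat exactly when M' is. -/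
theorem result {R S S' : Type u} [CommRing R] [CommRing S] [CommRing S'] [Algebra R S] [Algebra R S'] [Algebra S S'] [IsScalarTower R S S'] (M : Type u) [AddCommGroup M] [Module S M] [Module R M] [IsScalarTower R S M] : ([Module.Flat S S'] → Module.Flat R M → Module.Flat R (S' ⊗[S] M)) ∧ ([Module.FaithfullyFlat S S'] → (Module.Flat R M ↔ Module.Flat R (S' ⊗[S] M))) := by
  refine ⟨fun {_} _ => flat_tensorProduct, fun {_} => ⟨fun _ => flat_tensorProduct, fun _ => flat_of_faithfullyFlat_tensorProduct (S := S) (T := S')⟩⟩

end Groth.Agent.S6282
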