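import Groth.Statements.S6283
import Mathlib.RingTheory.Flat.Basic
import Mathlib.LinearAlgebra.TensorProduct.Quotient
import Mathlib.LinearAlgebra.TensorProduct.Pi
import Mathlib.RingTheory.Finiteness.Basic

set_option autoImplicit false
universe u
open scoped TensorProduct
open CAlg

namespace Groth.Agent.S6283

/-- Let R → S be a flat ring map, M an R-module and m ∈ M. Then Ann_R(m)S = Ann_S(1 ⊗ m), the
annihilator in S of the element 1 ⊗ m of S ⊗_R M. If moreover M is a finite R-module then Ann_R(M)S
= Ann_S(S ⊗_R M). -/
theorem result {R S : Type u} [CommRing R] [CommRing S] [Algebra R S] [Module.Flat R S] (M : Type u) [AddCommGroup M] [Module R M] : (∀ m : M, ((Submodule.span R {m}).annihilator).map (algebraMap R S) = (Submodule.span S {(1 : S) ⊗ₜ[R] m}).annihilator) ∧ (Module.Finite R M → (Module.annihilator R M).map (algebraMap R S) = Module.annihilator S (S ⊗[R] M)) := by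
  classical
  have key : ∀ (N : Type u) [AddCommGroup N] [Module R N] (m : N) (s : S), s ⊗ₜ[R] m = 0 →
      s ∈ ((Submodule.span R {m}).annihilator).map (algebraMap R S) := by
    intro N _ _ m s hs
    let a := (Submodule.span R {m}).annihilator
    let f : (R ⧸ a) →ₗ[R] N := Submodule.liftQ a (LinearMap.toSpanSingleton R N m) fun r hr => by
      rw [LinearMap.mem_ker, LinearMap.toSpanSingleton_apply]
      exact (Submodule.mem_annihilator_span_singleton m r).1 hr
    have hf : Function.Injective f := by
      rw [injective_iff_map_eq_zero]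
      intro z hz
      obtain ⟨r, rfl⟩ := Submodule.Quotient.mk_surjective a z
      exact (Submodule.Quotient.mk_eq_zero a).2 ((Submodule.mem_annihilator_span_singleton m r).2 hz)
    have hinj := Module.Flat.lTensor_preserves_injective_linearMap (M := S) f hf
    have h0 : s ⊗ₜ[R] (Submodule.Quotient.mk (p := a) (1 : R)) = 0 := hinj (by
      rw [LinearMap.lTensor_tmul, map_zero]
      show s ⊗ₜ[R] ((1 : R) • m) = 0
      rw [one_smul, hs])
    have h1 := congrArg (TensorProduct.tensorQuotEquivQuotSMul S a) (show s ⊗ₜ[R] (Ideal.Quotient.mk a 1) = 0 from h0)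
    rw [map_zero, TensorProduct.tensorQuotEquivQuotSMul_tmul_mk, one_smul, Submodule.Quotient.mk_eq_zero,
      Ideal.smul_top_eq_map, Submodule.restrictScalars_mem] at h1
    exact h1
  refine ⟨fun m => le_antisymm (Ideal.map_le_iff_le_comap.2 fun r hr => ?_) fun s hs => ?_, fun hfin => ?_⟩
  · refine Ideal.mem_comap.2 ((Submodule.mem_annihilator_span_singleton _ _).2 ?_)
    rw [TensorProduct.smul_tmul', smul_eq_mul, mul_one, Algebra.algebraMap_eq_smul_one, TensorProduct.smul_tmul,
      (Submodule.mem_annihilator_span_singleton m r).1 hr, TensorProduct.tmul_zero]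
  · have h := (Submodule.mem_annihilator_span_singleton _ _).1 hs
    rw [TensorProduct.smul_tmul', smul_eq_mul, mul_one] at h
    exact key M m s h
  · refine le_antisymm (Ideal.map_le_iff_le_comap.2 fun r hr => Ideal.mem_comap.2 (Module.mem_annihilator.2 fun z => ?_)) fun s hs => ?_
    · induction z using TensorProduct.induction_on with
      | zero => rw [smul_zero]
      | tmul a b =>
        rw [TensorProduct.smul_tmul', smul_eq_mul, ← Algebra.smul_def, TensorProduct.smul_tmul,
          Module.mem_annihilator.1 hr b, TensorProduct.tmul_zero]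
      | add a b ha hb => rw [smul_add, ha, hb, add_zero]
    · obtain ⟨t, g, hg⟩ := Module.Finite.exists_fin (R := R) (M := M)
      have h0 : s ⊗ₜ[R] g = 0 := (TensorProduct.piRight R R S fun _ : Fin t => M).injective (funext fun i => by
        rw [map_zero, Pi.zero_apply, TensorProduct.piRight_apply, TensorProduct.piRightHom_tmul]
        have := Module.mem_annihilator.1 hs ((1 : S) ⊗ₜ g i)
        rwa [TensorProduct.smul_tmul', smul_eq_mul, mul_one] at this)
      refine Ideal.map_mono (fun r hr => Module.mem_annihilator.2 fun z => ?_) (key _ g s h0)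
      have hr' := (Submodule.mem_annihilator_span_singleton g r).1 hr
      have hz : z ∈ Submodule.span R (Set.range g) := by rw [hg]; trivial
      induction hz using Submodule.span_induction with
      | mem x hx => obtain ⟨i, rfl⟩ := hx; exact congrFun hr' i
      | zero => exact smul_zero r
      | add a b _ _ ha hb => rw [smul_add, ha, hb, add_zero]
      | smul c a _ ha => rw [smul_comm, ha, smul_zero]


end Groth.Agent.S6283
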