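import Groth.Statements.S6286
import Mathlib.RingTheory.LocalRing.ResidueField.Ideal
import Mathlib.RingTheory.TensorProduct.Maps
import Mathlib.RingTheory.Flat.Basic
import Mathlib.RingTheory.Spectrum.Prime.RingHom
import Mathlib.LinearAlgebra.FreeModule.Basic
import Mathlib.LinearAlgebra.Basis.VectorSpace
import Mathlib.RingTheory.Nilpotent.Lemmas

set_option autoImplicit false
universe u
open scoped TensorProduct
open CAlg

namespace Groth.Agent.S6286

/-- Let k be a field, R and S k-algebras, S' ⊆ S a k-subalgebra and f ∈ R ⊗ₖ S', with image f again in R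
⊗ₖ S. Then the images in Spec(R) of Spec((R ⊗ₖ S)_f) and of Spec((R ⊗ₖ S')_f) coincide: a prime p of
R is the contraction of a prime of R ⊗ₖ S not containing f if and only if it is the contraction of a
prime of R ⊗ₖ S' not containing f. -/
theorem result (k : Type u) [Field k] (R S : Type u) [CommRing R] [Algebra k R] [CommRing S] [Algebra k S] (S' : Subalgebra k S) (f : R ⊗[k] S') (p : PrimeSpectrum R) : (∃ q : PrimeSpectrum (R ⊗[k] S), Algebra.TensorProduct.map (AlgHom.id k R) S'.val f ∉ q.asIdeal ∧ q.asIdeal.comap (algebraMap R (R ⊗[k] S)) = p.asIdeal) ↔ (∃ q' : PrimeSpectrum (R ⊗[k] S'), f ∉ q'.asIdeal ∧ q'.asIdeal.comap (algebraMap R (R ⊗[k] S')) = p.asIdeal) := by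
  set ι := Algebra.TensorProduct.map (AlgHom.id k R) S'.val with hι
  constructor
  · rintro ⟨q, hf, hq⟩
    refine ⟨PrimeSpectrum.comap ι.toRingHom q, hf, ?_⟩
    rw [← hq]
    show (q.asIdeal.comap ι.toRingHom).comap _ = _
    rw [Ideal.comap_comap]
    congr 1
  · rintro ⟨q', hf, hq'⟩
    let K := p.asIdeal.ResidueField
    let g : R →ₐ[k] K := IsScalarTower.toAlgHom k R K
    let φ := Algebra.TensorProduct.map g (AlgHom.id k S)
    let φ' := Algebra.TensorProduct.map g (AlgHom.id k S')
    let ιK := Algebra.TensorProduct.map (AlgHom.id k K) S'.val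
    have hinj : Function.Injective ιK :=
      Module.Flat.lTensor_preserves_injective_linearMap (M := K) S'.val.toLinearMap Subtype.val_injective
    have hcomm : ∀ x, ιK (φ' x) = φ (ι x) := by
      intro x
      induction x using TensorProduct.induction_on with
      | zero => simp
      | tmul a b => simp [ιK, φ', φ, ι]
      | add a b ha hb => simp only [map_add, ha, hb]
    have hnil : ¬ IsNilpotent (φ (ι f)) := by
      rw [← hcomm]
      rintro ⟨n, hn⟩
      rw [← map_pow, map_eq_zero_iff _ hinj] at hn
      let L := q'.asIdeal.ResidueField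
      let a : R →+* L := (algebraMap (R ⊗[k] S') L).comp (algebraMap R (R ⊗[k] S'))
      have hker : RingHom.ker a = p.asIdeal := by
        rw [← RingHom.comap_ker, Ideal.ker_algebraMap_residueField, hq']
      have hunit : p.asIdeal.primeCompl ≤ (IsUnit.submonoid L).comap a := fun r hr =>
        isUnit_iff_ne_zero.mpr fun h => hr (hker.le h)
      let bK : K →+* L := Ideal.ResidueField.lift p.asIdeal a hker.ge hunit
      let bAlg : K →ₐ[k] L := { bK with
        commutes' := fun c => by
          show bK (algebraMap k K c) = _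
          rw [IsScalarTower.algebraMap_apply k R K]
          show Ideal.ResidueField.lift p.asIdeal a hker.ge hunit (algebraMap R K (algebraMap k R c)) = _
          rw [Ideal.ResidueField.lift_algebraMap]
          show algebraMap (R ⊗[k] S') L (algebraMap R (R ⊗[k] S') (algebraMap k R c)) = _
          rw [← IsScalarTower.algebraMap_apply k R (R ⊗[k] S'), ← IsScalarTower.algebraMap_apply] }
      let ψ : K ⊗[k] S' →ₐ[k] L := Algebra.TensorProduct.lift bAlg
        ((IsScalarTower.toAlgHom k (R ⊗[k] S') L).comp Algebra.TensorProduct.includeRight) fun _ _ => Commute.all _ _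
      have hψ : ∀ x, ψ (φ' x) = algebraMap (R ⊗[k] S') L x := by
        intro x
        induction x using TensorProduct.induction_on with
        | zero => simp
        | add a b ha hb => simp only [map_add, ha, hb]
        | tmul r s =>
          simp only [φ', Algebra.TensorProduct.map_tmul, ψ, Algebra.TensorProduct.lift_tmul]
          show Ideal.ResidueField.lift p.asIdeal a hker.ge hunit (algebraMap R K r) * algebraMap (R ⊗[k] S') L ((1 : R) ⊗ₜ[k] s) = _
          rw [Ideal.ResidueField.lift_algebraMap]
          show algebraMap (R ⊗[k] S') L (algebraMap R (R ⊗[k] S') r) * _ = _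
          rw [← map_mul, Algebra.TensorProduct.algebraMap_apply, Algebra.TensorProduct.tmul_mul_tmul, Algebra.algebraMap_self_apply, mul_one, one_mul]
      have h1 := congrArg ψ hn
      rw [map_pow, hψ, map_zero] at h1
      exact hf (Ideal.ker_algebraMap_residueField q'.asIdeal |>.le (pow_eq_zero_iff'.mp h1).1)
    rw [nilpotent_iff_mem_prime] at hnil
    push Not at hnil
    obtain ⟨Q, hQ, hfQ⟩ := hnil
    refine ⟨⟨Q.comap φ.toRingHom, inferInstance⟩, hfQ, ?_⟩
    show (Q.comap φ.toRingHom).comap _ = _
    rw [Ideal.comap_comap]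
    have h2 : φ.toRingHom.comp (algebraMap R (R ⊗[k] S)) = (algebraMap K (K ⊗[k] S)).comp (algebraMap R K) := by
      ext r
      simp [φ, g, Algebra.TensorProduct.algebraMap_apply]
    rw [h2, ← Ideal.comap_comap, Ideal.eq_bot_of_prime (I := Q.comap (algebraMap K (K ⊗[k] S))), ← RingHom.ker_eq_comap_bot,
      Ideal.ker_algebraMap_residueField]

end Groth.Agent.S6286
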