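import Groth.Statements.S6288
import Mathlib.Tactic
import Mathlib.RingTheory.Spectrum.Prime.Module
import Mathlib.RingTheory.LocalRing.Module
import Mathlib.RingTheory.Localization.AtPrime.Basic
import Mathlib.RingTheory.Ideal.KrullsHeightTheorem
import Mathlib.LinearAlgebra.Matrix.NonsingularInverse
import Mathlib.RingTheory.TensorProduct.Quotient
import Mathlib.RingTheory.Flat.FaithfullyFlat.Basic
import Mathlib.LinearAlgebra.TensorProduct.Prod
import Mathlib.RingTheory.LocalProperties.Reduced

set_option autoImplicit false
universe u
open CAlg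

namespace Groth.Agent.S6288

/-- Let L/K be an algebraic extension of fields and B ⊆ L a valuation ring with fraction field L which
is not a field. Then A = K ∩ B is a valuation ring of K (automatic) which is again not a field, i.e.
A ≠ K. -/
theorem result (K L : Type u) [Field K] [Field L] [Algebra K L] [Algebra.IsAlgebraic K L] (B : ValuationSubring L) (hB : B ≠ ⊤) : B.comap (algebraMap K L) ≠ ⊤ := by
  intro hA
  apply hB
  rw [eq_top_iff]
  intro x _
  have hint : IsIntegral K x := Algebra.IsIntegral.isIntegral x
  obtain ⟨f, hf, hfx⟩ := hint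
  have hcoe : ∀ c : K, algebraMap K L c ∈ B := fun c => by
    have h : c ∈ B.comap (algebraMap K L) := hA ▸ ValuationSubring.mem_top c
    exact h
  let g : K →+* B := (algebraMap K L).codRestrict B.toSubring hcoe
  have : IsIntegral B x := by
    refine ⟨f.map g, hf.map g, ?_⟩
    rw [Polynomial.eval₂_map]
    exact hfx
  obtain ⟨b, hb⟩ := IsIntegrallyClosed.isIntegral_iff.mp this
  exact hb ▸ b.2

end Groth.Agent.S6288
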