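import Groth.Statements.S6289
import Mathlib.RingTheory.Valuation.ValuationSubring
import Mathlib.RingTheory.LocalRing.ResidueField.Basic

set_option autoImplicit false
universe u
open CAlg

namespace Groth.Agent.S6289

/-- Let A' be a valuation ring with residue field K and A ⊆ K a valuation ring with fraction field K.
Then the subring C of A' consisting of the elements whose residue class lies in A is a valuation
ring. -/
theorem result (A' : Type u) [CommRing A'] [IsDomain A'] [ValuationRing A'] (A : ValuationSubring (IsLocalRing.ResidueField A')) : ValuationRing (A.toSubring.comap (IsLocalRing.residue A')) := by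
  let C := A.toSubring.comap (IsLocalRing.residue A')
  have key : ∀ a b : C, ∀ t : A', (b : A') = a * t → ∃ c : C, a * c = b ∨ b * c = a := by
    intro a b t ht
    by_cases hA : IsLocalRing.residue A' t ∈ A
    · exact ⟨⟨t, hA⟩, Or.inl (Subtype.ext ht.symm)⟩
    · have hu : IsUnit t := by
        rw [← IsLocalRing.residue_ne_zero_iff_isUnit]
        intro h
        rw [h] at hA
        exact hA A.zero_mem
      obtain ⟨u, rfl⟩ := hu
      have hinv : IsLocalRing.residue A' ((u⁻¹ : A'ˣ) : A') ∈ A := by
        rcases A.mem_or_inv_mem (IsLocalRing.residue A' (u : A')) with h | h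
        · exact absurd h hA
        · have e : (IsLocalRing.residue A' (u : A'))⁻¹ = IsLocalRing.residue A' ((u⁻¹ : A'ˣ) : A') := by
            refine inv_eq_of_mul_eq_one_right ?_
            rw [← map_mul, Units.mul_inv, map_one]
          rwa [← e]
      refine ⟨⟨((u⁻¹ : A'ˣ) : A'), hinv⟩, Or.inr (Subtype.ext ?_)⟩
      show (b : A') * ((u⁻¹ : A'ˣ) : A') = a
      rw [ht, mul_assoc, Units.mul_inv, mul_one]
  show ValuationRing C
  haveI : PreValuationRing C := ⟨fun a b => by
    obtain ⟨t, ht | ht⟩ := PreValuationRing.cond (a : A') (b : A')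
    · exact key a b t ht.symm
    · obtain ⟨c, hc⟩ := key b a t ht.symm
      exact ⟨c, hc.symm⟩⟩
  exact { }

end Groth.Agent.S6289
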