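import Groth.Statements.S6290
import Mathlib.Tactic

set_option autoImplicit false
universe u
open CAlg

namespace Groth.Agent.S6290

/-- Let R be a Noetherian ring, I ⊆ R an ideal, M a finite R-module and N = ⋂ₙ IⁿM. Then for every prime
p ⊇ I there is f ∈ R, f ∉ p, with N_f = 0, i.e. every element of N is annihilated by some power of
f. -/
theorem result {R : Type u} [CommRing R] [IsNoetherianRing R] (I : Ideal R) (M : Type u) [AddCommGroup M] [Module R M] [Module.Finite R M] (p : Ideal R) [p.IsPrime] (hIp : I ≤ p) : ∃ f : R, f ∉ p ∧ ∀ x ∈ (⨅ n : ℕ, I ^ n • (⊤ : Submodule R M)), ∃ k : ℕ, f ^ k • x = 0 := by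
  classical
  obtain ⟨s, hs⟩ := IsNoetherian.noetherian (⨅ n : ℕ, I ^ n • (⊤ : Submodule R M))
  have h : ∀ x ∈ s, ∃ r ∈ I, r • x = x := fun x hx => by
    obtain ⟨⟨r, hr⟩, hr'⟩ := (Ideal.mem_iInf_smul_pow_eq_bot_iff I x).mp (hs ▸ Submodule.subset_span hx)
    exact ⟨r, hr, hr'⟩
  choose! c hc₁ hc₂ using h
  refine ⟨∏ x ∈ s, (1 - c x), ?_, fun x hx => ⟨1, ?_⟩⟩
  · intro hm
    obtain ⟨j, hj, hj'⟩ := (Ideal.IsPrime.prod_mem_iff (hp := inferInstance)).mp hm
    refine (inferInstance : p.IsPrime).ne_top (p.eq_top_iff_one.mpr ?_)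
    simpa using add_mem hj' (hIp (hc₁ j hj))
  · rw [pow_one]
    have hx' : x ∈ Submodule.span R (s : Set M) := hs ▸ hx
    clear hx
    induction hx' using Submodule.span_induction with
    | mem y hy => rw [← Finset.prod_erase_mul _ _ hy, mul_smul, sub_smul, one_smul, hc₂ y hy, sub_self, smul_zero]
    | zero => simp
    | add a b _ _ ha hb => rw [smul_add, ha, hb, add_zero]
    | smul a b _ hb => rw [smul_comm, hb, smul_zero]

end Groth.Agent.S6290
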