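import Groth.Statements.S6292
import Mathlib.Tactic
import Mathlib.RingTheory.Spectrum.Prime.Module
import Mathlib.RingTheory.LocalRing.Module
import Mathlib.RingTheory.Localization.AtPrime.Basic
import Mathlib.RingTheory.Ideal.KrullsHeightTheorem
import Mathlib.LinearAlgebra.Matrix.NonsingularInverse
import Mathlib.RingTheory.TensorProduct.Quotient
import Mathlib.RingTheory.Flat.FaithfullyFlat.Basic
import Mathlib.LinearAlgebra.TensorProduct.Prod
import Mathlib.RingTheory.LocalProperties.Reduced

set_option autoImplicit false
universe u
open CAlg

namespace Groth.Agent.S6292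

/-- Let R be a ring and m ⊆ R a finitely generated maximal ideal (for instance R Noetherian). If M is a
finite R-module with mⁿM = 0 for some n, then M has finite length. -/
theorem result {R : Type u} [CommRing R] (m : Ideal R) [m.IsMaximal] (hm : m.FG) (M : Type u) [AddCommGroup M] [Module R M] [Module.Finite R M] (n : ℕ) (hn : m ^ n • (⊤ : Submodule R M) = ⊥) : IsFiniteLength R M := by
  revert M
  induction n with
  | zero =>
    intro M _ _ _ hn
    rw [pow_zero, Ideal.one_eq_top, Submodule.top_smul] at hn
    have : Subsingleton M := Submodule.subsingleton_iff R |>.mp (subsingleton_iff_bot_eq_top.mp hn.symm)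
    exact IsFiniteLength.of_subsingleton
  | succ n ih =>
    intro M _ _ _ hn
    set N : Submodule R M := m • ⊤
    have : Module.Finite R N := Module.Finite.iff_fg.mpr (Submodule.FG.smul hm Module.Finite.fg_top)
    have hN : IsFiniteLength R N := by
      refine ih N (Submodule.map_injective_of_injective N.subtype_injective ?_)
      rw [Submodule.map_smul'', Submodule.map_top, Submodule.range_subtype, Submodule.map_bot,
        ← Submodule.mul_smul, ← pow_succ, hn]
    obtain ⟨h1, h2⟩ := isFiniteLength_iff_isNoetherian_isArtinian.mp hN
    have ht : Module.IsTorsionBySet R (M ⧸ N) m := by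
      intro x a
      obtain ⟨x, rfl⟩ := N.mkQ_surjective x
      rw [← map_smul, Submodule.mkQ_apply, Submodule.Quotient.mk_eq_zero]
      exact Submodule.smul_mem_smul a.2 trivial
    let _ := ht.module
    let _ : Field (R ⧸ m) := Ideal.Quotient.field m
    have : IsScalarTower R (R ⧸ m) (M ⧸ N) := ht.isScalarTower
    have : Module.Finite (R ⧸ m) (M ⧸ N) := Module.Finite.of_restrictScalars_finite R (R ⧸ m) (M ⧸ N)
    have : IsArtinian R (M ⧸ N) :=
      isArtinian_of_surjective_algebraMap (R := R ⧸ m) (S := R) Ideal.Quotient.mk_surjective
    have : IsNoetherian R (M ⧸ N) := by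
      refine ⟨fun W => ?_⟩
      let W' : Submodule (R ⧸ m) (M ⧸ N) :=
        { W.toAddSubmonoid with
          smul_mem' := fun c x hx => by
            obtain ⟨c, rfl⟩ := Ideal.Quotient.mk_surjective c
            exact W.smul_mem c hx }
      exact (IsNoetherian.noetherian W').restrictScalars_of_surjective (A := R ⧸ m) Ideal.Quotient.mk_surjective
    exact isFiniteLength_iff_isNoetherian_isArtinian.mpr
      ⟨isNoetherian_of_range_eq_ker N.subtype N.mkQ (by simp),
       isArtinian_of_range_eq_ker N.subtype N.mkQ (by simp)⟩

end Groth.Agent.S6292
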