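import Groth.Statements.S6294
import Mathlib.RingTheory.Localization.AtPrime.Basic
import Mathlib.RingTheory.Spectrum.Prime.Basic
import Mathlib.RingTheory.Ideal.MinimalPrime.Localization
import Mathlib.RingTheory.Localization.FractionRing
import Mathlib.Algebra.Group.Pi.Units
import Mathlib.RingTheory.Ideal.Operations

set_option autoImplicit false
universe u
open CAlg

namespace Groth.Agent.S6294

/-- Let R be a ring with finitely many minimal primes q₁, …, q_t, and assume that the zerodivisors of R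
are precisely the elements of q₁ ∪ … ∪ q_t. Then Q(R), the total ring of fractions of R, equals
R_{q₁} × … × R_{q_t}: the diagonal map R → ∏ R_{q_i} is a localization of R at its non-zerodivisors. -/
theorem result {R : Type u} [CommRing R] {ι : Type} [Fintype ι] (q : ι → Ideal R) [∀ i, (q i).IsPrime] (hinj : Function.Injective q) (hmin : ∀ P : Ideal R, P ∈ minimalPrimes R ↔ P ∈ Set.range q) (hzd : ∀ x : R, x ∈ nonZeroDivisors R ↔ ∀ i, x ∉ q i) : IsLocalization (nonZeroDivisors R) (∀ i, Localization.AtPrime (q i)) := by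
  classical
  have hqmin : ∀ i, q i ∈ minimalPrimes R := fun i => (hmin _).mpr ⟨i, rfl⟩
  have hx : ∀ i, ∃ x, x ∉ q i ∧ ∀ j, j ≠ i → x ∈ q j := by
    intro i
    have h1 : ∀ j, j ≠ i → ∃ y ∈ q j, y ∉ q i := by
      intro j hj
      by_contra! hle
      exact hj (hinj (le_antisymm hle ((hqmin i).2 ⟨inferInstance, bot_le⟩ hle)))
    choose y hy hy' using h1
    refine ⟨∏ j ∈ (Finset.univ.erase i).attach, y j.1 (Finset.mem_erase.mp j.2).1, ?_, ?_⟩
    · intro hmem
      obtain ⟨j, -, hj⟩ := (Ideal.IsPrime.prod_mem_iff).mp hmem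
      exact hy' _ _ hj
    · intro j hj
      rw [← Finset.prod_erase_mul _ _ (Finset.mem_attach _ (⟨j, Finset.mem_erase.mpr ⟨hj, Finset.mem_univ j⟩⟩))]
      exact Ideal.mul_mem_left _ _ (hy j _)
  choose x hx1 hx2 using hx
  have hnil : ∀ i j, j ≠ i → IsNilpotent (algebraMap R (Localization.AtPrime (q j)) (x i)) := by
    intro i j hj
    rw [nilpotent_iff_mem_prime]
    intro P hP
    have hle : P.comap (algebraMap R (Localization.AtPrime (q j))) ≤ q j := by
      intro z hz
      by_contra hzq
      exact hP.ne_top (Ideal.eq_top_of_isUnit_mem _ hz (IsLocalization.map_units _ (⟨z, hzq⟩ : (q j).primeCompl)))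
    have heq := (hqmin j).2 ⟨Ideal.comap_isPrime (algebraMap R (Localization.AtPrime (q j))) P, bot_le⟩ hle
    exact heq (hx2 i j hj)
  have hN : ∀ i, ∃ N, ∀ j, j ≠ i → algebraMap R (Localization.AtPrime (q j)) (x i ^ (N + 1)) = 0 := by
    intro i
    choose n hn using fun j (hj : j ≠ i) => hnil i j hj
    refine ⟨∑ j, if hj : j ≠ i then n j hj else 0, fun j hj => ?_⟩
    rw [map_pow]
    refine pow_eq_zero_of_le ?_ (hn j hj)
    refine Nat.le_succ_of_le ?_
    exact (le_of_eq (by rw [dif_pos hj])).trans (Finset.single_le_sum (f := fun j => if hj : j ≠ i then n j hj else 0) (fun _ _ => Nat.zero_le _) (Finset.mem_univ j))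
  choose N hN using hN
  let ε : ι → R := fun i => x i ^ (N i + 1)
  have hε1 : ∀ i, ε i ∉ q i := fun i h => hx1 i (Ideal.IsPrime.mem_of_pow_mem inferInstance _ h)
  have hε2 : ∀ i j, j ≠ i → ε i ∈ q j := fun i j hj => Ideal.pow_mem_of_mem _ (hx2 i j hj) _ (Nat.succ_pos _)
  have comb : ∀ t : ι → R, (∀ i, t i ∉ q i) → ∑ i, ε i * t i ∈ nonZeroDivisors R := by
    intro t ht
    rw [hzd]
    intro j hmem
    rw [← Finset.add_sum_erase _ _ (Finset.mem_univ j)] at hmem
    have h2 : ∑ i ∈ Finset.univ.erase j, ε i * t i ∈ q j :=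
      Submodule.sum_mem _ fun i hi => Ideal.mul_mem_right _ _ (hε2 i j (Finset.mem_erase.mp hi).1.symm)
    rcases (Ideal.IsPrime.mem_or_mem inferInstance ((Ideal.add_mem_iff_left _ h2).mp hmem)) with h | h
    · exact hε1 j h
    · exact ht j h
  have proj : ∀ (t : ι → R) (j : ι), algebraMap R (Localization.AtPrime (q j)) (∑ i, ε i * t i) =
      algebraMap R (Localization.AtPrime (q j)) (ε j * t j) := by
    intro t j
    rw [map_sum, Finset.sum_eq_single j (fun i _ hi => by rw [map_mul, hN i j hi.symm, zero_mul]) (fun h => absurd (Finset.mem_univ j) h)]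
  refine (isLocalization_iff _ _).mpr ⟨fun s => ?_, fun z => ?_, fun {a b} hab => ?_⟩
  · rw [Pi.isUnit_iff]
    intro i
    exact IsLocalization.map_units (Localization.AtPrime (q i)) (⟨s.1, (hzd s.1).mp s.2 i⟩ : (q i).primeCompl)
  · choose p hp using fun i => IsLocalization.surj (q i).primeCompl (z i)
    refine ⟨(∑ i, ε i * (p i).1, ⟨∑ i, ε i * ((p i).2 : R), comb _ fun i => (p i).2.2⟩), funext fun j => ?_⟩
    show z j * algebraMap R (Localization.AtPrime (q j)) (∑ i, ε i * ((p i).2 : R)) = algebraMap R (Localization.AtPrime (q j)) (∑ i, ε i * (p i).1)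
    rw [proj (fun i => ((p i).2 : R)) j, proj (fun i => (p i).1) j, map_mul, map_mul, mul_left_comm, hp j]
  · have h1 : ∀ i, ∃ t : (q i).primeCompl, (t : R) * a = t * b := fun i =>
      IsLocalization.exists_of_eq (congrFun hab i)
    choose t ht using h1
    refine ⟨⟨∑ i, ε i * (t i : R), comb _ fun i => (t i).2⟩, ?_⟩
    simp only [Finset.sum_mul, mul_assoc, ht]

end Groth.Agent.S6294
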