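import Groth.Statements.S6297
import Groth.Agent.L03.McCoy
import Mathlib.LinearAlgebra.Matrix.Determinant.Basic

set_option autoImplicit false
universe u
open CAlg

namespace Groth.Agent.S6297

section
open Matrix

theorem row_minor_mem {R : Type u} [CommRing R] {n m : ℕ} (A : Matrix (Fin n) (Fin m) R) (f : Fin m → Fin n) :
    (A.submatrix f id).det ∈ CAlgX.minorIdeal A m :=
  Ideal.subset_span ⟨(f, id), rfl⟩

theorem det_mul_mem {R : Type u} [CommRing R] {n m : ℕ} (A : Matrix (Fin n) (Fin m) R) (B : Matrix (Fin m) (Fin n) R) :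
    (B * A).det ∈ CAlgX.minorIdeal A m := by
  classical
  have h : B * A = fun i => ∑ k, B i k • A k := by
    ext i j
    simp [Matrix.mul_apply]
  show (Matrix.detRowAlternating : (Fin m → R) [⋀^Fin m]→ₗ[R] R).toMultilinearMap (B * A) ∈ _
  rw [h, MultilinearMap.map_sum]
  refine Ideal.sum_mem _ fun f _ => ?_
  rw [MultilinearMap.map_smul_univ]
  exact Ideal.mul_mem_left _ _ (row_minor_mem A f)

theorem exists_left_inv {R : Type u} [CommRing R] {n m : ℕ} (A : Matrix (Fin n) (Fin m) R) {f : R}
    (hf : f ∈ CAlgX.minorIdeal A m) : ∃ B : Matrix (Fin m) (Fin n) R, B * A = f • (1 : Matrix (Fin m) (Fin m) R) := by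
  classical
  induction hf using Submodule.span_induction with
  | mem d hd =>
    obtain ⟨⟨r, g⟩, rfl⟩ := hd
    by_cases hg : Function.Injective g
    · let σ : Equiv.Perm (Fin m) := Equiv.ofBijective g (Finite.injective_iff_bijective.1 hg)
      let N := A.submatrix r id
      have hdet : (A.submatrix r g).det = ((Equiv.Perm.sign σ : ℤ) : R) * N.det := by
        rw [← Matrix.det_permute' σ N]
        rfl
      refine ⟨((Equiv.Perm.sign σ : ℤ) : R) • (N.adjugate * (1 : Matrix (Fin n) (Fin n) R).submatrix r id), ?_⟩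
      rw [Matrix.smul_mul, Matrix.mul_assoc, show (1 : Matrix (Fin n) (Fin n) R).submatrix r id * A = N by
        ext i j; simp [Matrix.mul_apply, N, Matrix.one_apply], Matrix.adjugate_mul, smul_smul]
      show _ = (A.submatrix r g).det • (1 : Matrix (Fin m) (Fin m) R)
      rw [hdet]
    · exact ⟨0, by rw [Matrix.zero_mul]; show (0 : Matrix _ _ R) = (A.submatrix r g).det • _
                   rw [Groth.L03.McCoy.det_eq_zero_of_not_injective A r g hg, zero_smul]⟩
  | zero => exact ⟨0, by simp⟩
  | add a b _ _ ha hb =>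
    obtain ⟨B, hB⟩ := ha
    obtain ⟨C, hC⟩ := hb
    exact ⟨B + C, by rw [Matrix.add_mul, hB, hC, add_smul]⟩
  | smul c a _ ha =>
    obtain ⟨B, hB⟩ := ha
    exact ⟨c • B, by rw [Matrix.smul_mul, hB, smul_smul, smul_eq_mul]⟩

end


/-- Let R be a ring, m ≤ n, A an n × m matrix over R and J the ideal generated by the m × m minors of A.
(1) For every f ∈ J there is an m × n matrix B with BA = f · 1. (2) If BA = f · 1 for some m × n
matrix B, then f^m ∈ J. -/
theorem result {R : Type u} [CommRing R] {n m : ℕ} (hmn : m ≤ n) (A : Matrix (Fin n) (Fin m) R) : (∀ f ∈ CAlgX.minorIdeal A m, ∃ B : Matrix (Fin m) (Fin n) R, B * A = f • (1 : Matrix (Fin m) (Fin m) R)) ∧ (∀ (f : R) (B : Matrix (Fin m) (Fin n) R), B * A = f • (1 : Matrix (Fin m) (Fin m) R) → f ^ m ∈ CAlgX.minorIdeal A m) := by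
  refine ⟨fun f hf => exists_left_inv A hf, fun f B hBA => ?_⟩
  have := det_mul_mem A B
  rw [hBA, Matrix.det_smul, Matrix.det_one, mul_one, Fintype.card_fin] at this
  exact this

end Groth.Agent.S6297
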