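import Groth.Statements.S6298
import Mathlib.Tactic

set_option autoImplicit false
universe u
open CAlg

namespace Groth.Agent.S6298

/-- Let R be a ring, x ∈ R, I ⊆ R an ideal and p₁, …, p_r prime ideals such that for each i the coset x
+ I is not contained in p_i. Then there is y ∈ I with x + y ∉ p_i for all i. -/
theorem result {R : Type u} [CommRing R] (x : R) (I : Ideal R) {r : ℕ} (p : Fin r → Ideal R) [∀ i, (p i).IsPrime] (h : ∀ i, ∃ y ∈ I, x + y ∉ p i) : ∃ y ∈ I, ∀ i, x + y ∉ p i := by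
  classical
  suffices H : ∀ s : Finset (Fin r), ∃ y ∈ I, ∀ i ∈ s, x + y ∉ p i by
    obtain ⟨y, hy, hy'⟩ := H Finset.univ
    exact ⟨y, hy, fun i => hy' i (Finset.mem_univ i)⟩
  intro s
  induction s using Finset.strongInduction with
  | _ s ih =>
  rcases s.eq_empty_or_nonempty with rfl | hs
  · exact ⟨0, zero_mem I, by simp⟩
  obtain ⟨q, hq, hmin⟩ := (s.image p).exists_minimal (hs.image p)
  obtain ⟨i₀, hi₀, rfl⟩ := Finset.mem_image.mp hq
  obtain ⟨y, hy, hy'⟩ := ih (s.erase i₀) (Finset.erase_ssubset hi₀)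
  by_cases hgood : x + y ∈ p i₀
  swap
  · refine ⟨y, hy, fun i hi => ?_⟩
    by_cases h : i = i₀
    · exact h ▸ hgood
    · exact hy' i (Finset.mem_erase.mpr ⟨h, hi⟩)
  obtain ⟨w, hw, hw'⟩ := h i₀
  have hc : ∀ j ∈ s.erase i₀, ∃ c ∈ p j, c ∉ p i₀ := fun j hj => by
    apply SetLike.not_le_iff_exists.mp
    intro hle
    have : p i₀ ≤ p j := hmin (Finset.mem_image_of_mem p (Finset.mem_of_mem_erase hj)) hle
    exact hy' j hj (this hgood)
  choose! c hc₁ hc₂ using hc
  refine ⟨y + (w - y) * ∏ j ∈ s.erase i₀, c j, add_mem hy (I.mul_mem_right _ (sub_mem hw hy)), fun i hi => ?_⟩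
  by_cases h : i = i₀
  · subst h
    intro hm
    have h1 : (w - y) * ∏ j ∈ s.erase i, c j ∈ p i := by
      have := sub_mem hm hgood
      convert this using 1; ring
    rcases Ideal.IsPrime.mem_or_mem inferInstance h1 with h2 | h2
    · exact hw' (by have := add_mem h2 hgood; convert this using 1; ring)
    · obtain ⟨j, hj, hj'⟩ := (Ideal.IsPrime.prod_mem_iff (hp := inferInstance)).mp h2
      exact hc₂ j hj hj'
  · intro hm
    have hj := Finset.mem_erase.mpr ⟨h, hi⟩
    refine hy' i hj ?_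
    have h1 : (w - y) * ∏ j ∈ s.erase i₀, c j ∈ p i := by
      rw [← Finset.mul_prod_erase _ c hj, mul_left_comm]
      exact (p i).mul_mem_right _ (hc₁ i hj)
    have := sub_mem hm h1
    convert this using 1; ring

end Groth.Agent.S6298
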