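import Groth.Statements.S6300
import Groth.Agent.L19.SmoothNormal
-- import your own Groth.Agent.* helpers here

set_option autoImplicit false
universe u
open CAlg

namespace Groth.Agent.S6300

/-- Let R be a normal ring (every localization at a prime is an integrally closed domain). Then R[x] is
a normal ring. -/
theorem result (R : Type u) [CommRing R] (hR : EGA4.IsNormalRing R) : EGA4.IsNormalRing (Polynomial R) := by
  haveI : Algebra.Smooth R (MvPolynomial (Fin 1) R) := ⟨inferInstance, inferInstance⟩
  exact Groth.L06.NormalAscent.isNormalRing_of_ringEquiv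
    ((MvPolynomial.finSuccEquiv R 0).toRingEquiv.trans
      (Polynomial.mapEquiv (MvPolynomial.isEmptyAlgEquiv R (Fin 0)).toRingEquiv))
    (Groth.L19.SmoothNormal.isNormalRing_of_smooth R (MvPolynomial (Fin 1) R) hR)

end Groth.Agent.S6300
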