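import Groth.Statements.S6301
import Mathlib.Tactic
import Mathlib.RingTheory.Spectrum.Prime.Module
import Mathlib.RingTheory.LocalRing.Module
import Mathlib.RingTheory.Localization.AtPrime.Basic
import Mathlib.RingTheory.Ideal.KrullsHeightTheorem
import Mathlib.LinearAlgebra.Matrix.NonsingularInverse
import Mathlib.RingTheory.TensorProduct.Quotient
import Mathlib.RingTheory.Flat.FaithfullyFlat.Basic
import Mathlib.LinearAlgebra.TensorProduct.Prod
import Mathlib.RingTheory.LocalProperties.Reduced
import Mathlib.RingTheory.Finiteness.ModuleFinitePresentation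
import Groth.Agent.L02.Dominate
import Groth.Agent.L02.Flat
import Groth.Agent.L02.CountableML

set_option autoImplicit false
universe u
open CAlg

namespace Groth.Agent.S6301

/-- An R-module M is flat exactly when, for every finitely presented R-module P and every surjective
R-module map N → M, the induced map Hom_R(P, N) → Hom_R(P, M) is surjective (modules P, N taken in
the same universe). -/
theorem result {R : Type u} [CommRing R] (M : Type u) [AddCommGroup M] [Module R M] : Module.Flat R M ↔ ∀ (P : Type u) [AddCommGroup P] [Module R P], Module.FinitePresentation R P → ∀ (N : Type u) [AddCommGroup N] [Module R N] (g : N →ₗ[R] M), Function.Surjective g → ∀ h : P →ₗ[R] M, ∃ h' : P →ₗ[R] N, g.comp h' = h := by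
  classical
  constructor
  · intro _ P _ _ hP N _ _ g hg h
    obtain ⟨k, a, b, hab⟩ := Module.Flat.exists_factorization_of_finitePresentation h
    obtain ⟨c, hc⟩ := Module.projective_lifting_property g b hg
    exact ⟨c.comp a, by rw [← LinearMap.comp_assoc, hc, hab]⟩
  · intro h
    obtain ⟨L, _, _, hL, π, hπ⟩ : ∃ (L : Type u) (_ : AddCommGroup L) (_ : Module R L)
        (_ : Module.Flat R L) (π : L →ₗ[R] M), Function.Surjective π :=
      ⟨M →₀ R, inferInstance, inferInstance, inferInstance, Finsupp.linearCombination R id,
        fun m => ⟨Finsupp.single m 1, by simp⟩⟩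
    refine Groth.L02.flat_of_exact_of_rTensor_quotient (LinearMap.ker π).subtype π
      (LinearMap.exact_subtype_ker_map π) hπ (fun I hI => ?_)
    revert I
    suffices hui : CAlgX.UniversallyInjective R (LinearMap.ker π).subtype from fun I _ => hui _
    refine Groth.L02.universallyInjective_of_coeff _ fun n m x y a hxy => ?_
    let A : (Fin n → R) →ₗ[R] (Fin m → R) := Fintype.linearCombination R a
    let K := LinearMap.range A
    let Y : (Fin m → R) →ₗ[R] M := Fintype.linearCombination R (fun j => π (y j))
    have hY : K ≤ LinearMap.ker Y := by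
      rintro _ ⟨v, rfl⟩
      rw [LinearMap.mem_ker, ← LinearMap.comp_apply]
      have : Y.comp A = 0 := by
        refine (Pi.basisFun R (Fin n)).ext fun i => ?_
        have h1 : A (Pi.single i 1) = a i := by simp [A, Fintype.linearCombination_apply_single]
        rw [Pi.basisFun_apply, LinearMap.comp_apply, h1, LinearMap.zero_apply,
          ← LinearMap.mem_ker.mp (x i).2, show ((x i : LinearMap.ker π) : L) = ∑ j, a i j • y j from hxy i]
        simp [Y, Fintype.linearCombination_apply]
      rw [this, LinearMap.zero_apply]
    have : Module.FinitePresentation R ((Fin m → R) ⧸ K) :=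
      Module.finitePresentation_of_surjective K.mkQ K.mkQ_surjective
        (by rw [Submodule.ker_mkQ]; show (LinearMap.range A).FG; rw [LinearMap.range_eq_map]; exact Module.Finite.fg_top.map A)
    obtain ⟨Y', hY'⟩ := h _ this _ π hπ (K.liftQ Y hY)
    have hz : ∀ j, y j - Y' (K.mkQ (Pi.single j 1)) ∈ LinearMap.ker π := fun j => by
      rw [LinearMap.mem_ker, map_sub, ← LinearMap.comp_apply π Y', hY']
      simp [Y, Fintype.linearCombination_apply_single]
    refine ⟨fun j => ⟨_, hz j⟩, fun i => Subtype.ext ?_⟩
    simp only [Submodule.coe_sum, Submodule.coe_smul, smul_sub, Finset.sum_sub_distrib]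
    rw [← hxy i]
    have : ∑ j, a i j • Y' (K.mkQ (Pi.single j 1)) = 0 := by
      simp only [← map_smul, ← map_sum]
      rw [Submodule.mkQ_apply, (Submodule.Quotient.mk_eq_zero K).mpr, map_zero]
      refine ⟨Pi.single i 1, ?_⟩
      funext l
      simp [A, Fintype.linearCombination_apply_single, Finset.sum_apply, Pi.single_apply]
    rw [this, sub_zero]
    rfl

end Groth.Agent.S6301
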