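import Groth.Statements.S6303
import Mathlib.Tactic
import Mathlib.RingTheory.Spectrum.Prime.Module
import Mathlib.RingTheory.LocalRing.Module
import Mathlib.RingTheory.Localization.AtPrime.Basic
import Mathlib.RingTheory.Ideal.KrullsHeightTheorem
import Mathlib.LinearAlgebra.Matrix.NonsingularInverse
import Mathlib.RingTheory.TensorProduct.Quotient
import Mathlib.RingTheory.Flat.FaithfullyFlat.Basic
import Mathlib.LinearAlgebra.TensorProduct.Prod
import Mathlib.RingTheory.LocalProperties.Reduced

set_option autoImplicit false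
universe u
open CAlg

namespace Groth.Agent.S6303

/-- Let R be a ring, I, J ⊆ R ideals and M a flat R-module. Then IM ∩ JM = (I ∩ J)M. -/
theorem result {R : Type u} [CommRing R] (I J : Ideal R) (M : Type u) [AddCommGroup M] [Module R M] [Module.Flat R M] : (I • (⊤ : Submodule R M)) ⊓ (J • ⊤) = (I ⊓ J) • (⊤ : Submodule R M) := by
  refine le_antisymm (fun x hx => ?_) (le_inf (Submodule.smul_mono_left inf_le_left) (Submodule.smul_mono_left inf_le_right))
  let f : (R ⧸ (I ⊓ J)) →ₗ[R] (R ⧸ I) × (R ⧸ J) :=
    Submodule.liftQ (I ⊓ J) (LinearMap.prod I.mkQ J.mkQ) (by simp [LinearMap.ker_prod])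
  have hf : Function.Injective f := by
    rw [← LinearMap.ker_eq_bot]
    exact Submodule.ker_liftQ_eq_bot _ _ _ (by simp [LinearMap.ker_prod])
  have hinj := Module.Flat.rTensor_preserves_injective_linearMap (M := M) f hf
  rw [← Submodule.Quotient.mk_eq_zero]
  apply (TensorProduct.quotTensorEquivQuotSMul M (I ⊓ J)).symm.injective
  rw [map_zero, TensorProduct.quotTensorEquivQuotSMul_symm_mk]
  apply hinj
  rw [map_zero, LinearMap.rTensor_tmul]
  apply (TensorProduct.prodLeft R R (R ⧸ I) (R ⧸ J) M).injective
  rw [map_zero, show f 1 = (1, 1) from rfl, TensorProduct.prodLeft_tmul]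
  refine Prod.ext ?_ ?_
  · apply (TensorProduct.quotTensorEquivQuotSMul M I).injective
    simpa [Submodule.Quotient.mk_eq_zero] using hx.1
  · apply (TensorProduct.quotTensorEquivQuotSMul M J).injective
    simpa [Submodule.Quotient.mk_eq_zero] using hx.2

end Groth.Agent.S6303
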