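import Groth.Statements.S6305
import Mathlib.Tactic
import Mathlib.RingTheory.Spectrum.Prime.Module
import Mathlib.RingTheory.LocalRing.Module
import Mathlib.RingTheory.Localization.AtPrime.Basic
import Mathlib.RingTheory.Ideal.KrullsHeightTheorem
import Mathlib.LinearAlgebra.Matrix.NonsingularInverse
import Mathlib.RingTheory.TensorProduct.Quotient
import Mathlib.RingTheory.Flat.FaithfullyFlat.Basic
import Mathlib.LinearAlgebra.TensorProduct.Prod
import Mathlib.RingTheory.LocalProperties.Reduced
import Mathlib.RingTheory.Finiteness.ModuleFinitePresentation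
import Groth.Agent.L02.Dominate
import Groth.Agent.L02.Flat
import Groth.Agent.L02.CountableML

set_option autoImplicit false
universe u
open CAlg

namespace Groth.Agent.S6305

/-- An R-module M is flat exactly when every short exact sequence 0 → M₁ → M₂ → M → 0 of R-modules is
universally exact, i.e. its first map M₁ → M₂ is universally injective. -/
theorem result {R : Type u} [CommRing R] (M : Type u) [AddCommGroup M] [Module R M] : Module.Flat R M ↔ ∀ (M₁ M₂ : Type u) [AddCommGroup M₁] [Module R M₁] [AddCommGroup M₂] [Module R M₂] (f : M₁ →ₗ[R] M₂) (g : M₂ →ₗ[R] M), Function.Injective f → Function.Exact f g → Function.Surjective g → CAlgX.UniversallyInjective R f := by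
  constructor
  · intro _ M₁ M₂ _ _ _ _ f g hf hex hg
    exact Groth.L02.universallyInjective_of_flat_coker f g hf hex hg
  · intro h
    obtain ⟨L, _, _, hL, π, hπ⟩ : ∃ (L : Type u) (_ : AddCommGroup L) (_ : Module R L)
        (_ : Module.Flat R L) (π : L →ₗ[R] M), Function.Surjective π :=
      ⟨M →₀ R, inferInstance, inferInstance, inferInstance, Finsupp.linearCombination R id,
        fun m => ⟨Finsupp.single m 1, by simp⟩⟩
    exact Groth.L02.flat_of_exact_of_rTensor_quotient (LinearMap.ker π).subtype π
      (LinearMap.exact_subtype_ker_map π) hπ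
      (fun I _ => h _ _ (LinearMap.ker π).subtype π (LinearMap.ker π).subtype_injective
        (LinearMap.exact_subtype_ker_map π) hπ (R ⧸ I))

end Groth.Agent.S6305
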