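import Groth.Statements.S6308
import Mathlib.RingTheory.Support
import Mathlib.RingTheory.LocalRing.Module
import Mathlib.Algebra.Module.LocalizedModule.Exact
import Mathlib.LinearAlgebra.TensorProduct.RightExactness
import Mathlib.RingTheory.Spectrum.Prime.Topology

set_option autoImplicit false
universe u
open scoped TensorProduct
open CAlg

namespace Groth.Agent.S6308

section
open scoped TensorProduct

theorem surj_iff_subsingleton {M N C : Type*} [AddCommGroup M] [AddCommGroup N] [AddCommGroup C]
    {f : M → N} {g : N → C} (hg : Function.Surjective g) (hex : Function.Exact f g) :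
    Function.Surjective f ↔ Subsingleton C := by
  constructor
  · intro hf
    refine subsingleton_of_forall_eq 0 fun c => ?_
    obtain ⟨n, rfl⟩ := hg c
    obtain ⟨m, rfl⟩ := hf n
    exact hex.apply_apply_eq_zero m
  · intro h n
    exact (hex n).mp (Subsingleton.elim _ _)

theorem localized_surj_iff {R : Type u} [CommRing R] {M N : Type u} [AddCommGroup M] [Module R M] [AddCommGroup N]
    [Module R N] (φ : M →ₗ[R] N) (S : Submonoid R) :
    Function.Surjective (LocalizedModule.map S φ) ↔ Subsingleton (LocalizedModule S (N ⧸ LinearMap.range φ)) :=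
  surj_iff_subsingleton (LocalizedModule.map_surjective S _ (Submodule.mkQ_surjective _))
    (LocalizedModule.map_exact S φ (LinearMap.range φ).mkQ φ.exact_map_mkQ_range)

theorem lTensor_surj_iff {R : Type u} [CommRing R] {M N : Type u} [AddCommGroup M] [Module R M] [AddCommGroup N]
    [Module R N] (φ : M →ₗ[R] N) (K : Type u) [AddCommGroup K] [Module R K] :
    Function.Surjective (φ.lTensor K) ↔ Subsingleton (K ⊗[R] (N ⧸ LinearMap.range φ)) :=
  surj_iff_subsingleton (LinearMap.lTensor_surjective K (Submodule.mkQ_surjective _))
    (lTensor_exact K φ.exact_map_mkQ_range (Submodule.mkQ_surjective _))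

end


/-- Let R be a ring and φ : M → N a map of R-modules with N finite. For a prime p, the localization φ_p
: M_p → N_p is surjective if and only if φ ⊗ κ(p) : M ⊗ κ(p) → N ⊗ κ(p) is surjective; the set U of
such primes is open in Spec(R); and for every f ∈ R with D(f) ⊆ U the map M_f → N_f is surjective. -/
theorem result {R : Type u} [CommRing R] {M N : Type u} [AddCommGroup M] [Module R M] [AddCommGroup N] [Module R N] [Module.Finite R N] (φ : M →ₗ[R] N) : (∀ p : PrimeSpectrum R, Function.Surjective (LocalizedModule.map p.asIdeal.primeCompl φ) ↔ Function.Surjective (φ.lTensor p.asIdeal.ResidueField)) ∧ IsOpen {p : PrimeSpectrum R | Function.Surjective (LocalizedModule.map p.asIdeal.primeCompl φ)} ∧ (∀ f : R, (↑(PrimeSpectrum.basicOpen f) : Set (PrimeSpectrum R)) ⊆ {p : PrimeSpectrum R | Function.Surjective (LocalizedModule.map p.asIdeal.primeCompl φ)} → Function.Surjective (LocalizedModule.map (Submonoid.powers f) φ)) := by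
  have hU : {p : PrimeSpectrum R | Function.Surjective (LocalizedModule.map p.asIdeal.primeCompl φ)} =
      (Module.support R (N ⧸ LinearMap.range φ))ᶜ := by
    ext p
    rw [Set.mem_compl_iff, Set.mem_ofPred_eq, localized_surj_iff, Module.notMem_support_iff]
  refine ⟨fun p => ?_, ?_, fun f hf => ?_⟩
  · rw [localized_surj_iff, lTensor_surj_iff, ← Module.notMem_support_iff,
      Module.mem_support_iff_nontrivial_residueField_tensorProduct, not_nontrivial_iff_subsingleton]
  · rw [hU, Module.support_eq_zeroLocus]
    exact (PrimeSpectrum.isClosed_zeroLocus _).isOpen_compl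
  · rw [hU] at hf
    rw [localized_surj_iff]
    refine LocalizedModule.subsingleton_iff_support_subset.mpr fun p hp => ?_
    by_contra h
    exact hf (by simpa using h) hp

end Groth.Agent.S6308
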