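import Groth.Statements.S6309
import Mathlib.RingTheory.Support
import Mathlib.RingTheory.LocalRing.Module
import Mathlib.Algebra.Module.LocalizedModule.Exact
import Mathlib.LinearAlgebra.TensorProduct.RightExactness
import Mathlib.RingTheory.Spectrum.Prime.Topology
import Mathlib.Algebra.Module.FinitePresentation
import Mathlib.RingTheory.Localization.BaseChange
import Mathlib.RingTheory.Localization.Module
import Mathlib.RingTheory.TensorProduct.Free
import Mathlib.RingTheory.Flat.Basic

set_option autoImplicit false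
universe u
open scoped TensorProduct
open CAlg

namespace Groth.Agent.S6309

section
open scoped TensorProduct

theorem injective_of_smul_split {R : Type u} [CommRing R] {P₁ P₂ K : Type u} [AddCommGroup P₁] [Module R P₁]
    [AddCommGroup P₂] [Module R P₂] [Field K] [Algebra R K] (φ : P₁ →ₗ[R] P₂) (ψ : P₂ →ₗ[R] P₁) (g : R)
    (hg : algebraMap R K g ≠ 0) (h : ψ ∘ₗ φ = g • LinearMap.id) : Function.Injective (φ.lTensor K) := by
  intro a b hab
  have h1 := congrArg (ψ.lTensor K) hab
  rw [← LinearMap.comp_apply, ← LinearMap.lTensor_comp, h, LinearMap.lTensor_smul, LinearMap.lTensor_id,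
    ← LinearMap.comp_apply, ← LinearMap.lTensor_comp, h, LinearMap.lTensor_smul, LinearMap.lTensor_id] at h1
  simp only [LinearMap.smul_apply, LinearMap.id_apply] at h1
  rw [← algebraMap_smul K g, ← algebraMap_smul K g b] at h1
  exact smul_right_injective _ hg h1

theorem exists_split {R : Type u} [CommRing R] {P₁ P₂ : Type u} [AddCommGroup P₁] [Module R P₁]
    [AddCommGroup P₂] [Module R P₂] [Module.Finite R P₁] [Module.Projective R P₁] [Module.Finite R P₂]
    [Module.Projective R P₂] (φ : P₁ →ₗ[R] P₂) (p : Ideal R) [p.IsPrime]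
    (h : Function.Injective (φ.lTensor p.ResidueField)) :
    ∃ g ∉ p, ∃ ψ : P₂ →ₗ[R] P₁, ψ ∘ₗ φ = g • LinearMap.id := by
  let A := Localization.AtPrime p
  haveI : Module.Free A (A ⊗[R] P₂) := Module.free_of_flat_of_isLocalRing
  let e₁ := TensorProduct.AlgebraTensorModule.cancelBaseChange R A A p.ResidueField P₁
  let e₂ := TensorProduct.AlgebraTensorModule.cancelBaseChange R A A p.ResidueField P₂
  have key : ∀ z, e₂ ((φ.baseChange A).lTensor p.ResidueField z) = φ.lTensor p.ResidueField (e₁ z) := by
    intro z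
    induction z using TensorProduct.induction_on with
    | zero => simp
    | tmul c w =>
      induction w using TensorProduct.induction_on with
      | zero => simp
      | tmul a x => simp [e₁, e₂]
      | add a b ha hb => rw [TensorProduct.tmul_add, map_add, map_add, map_add, map_add, ha, hb]
    | add a b ha hb => rw [map_add, map_add, map_add, map_add, ha, hb]
  have hinj : Function.Injective ((φ.baseChange A).lTensor (IsLocalRing.ResidueField A)) := by
    intro a b hab
    apply e₁.injective
    apply h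
    rw [← key, ← key]
    exact congrArg e₂ hab
  obtain ⟨l', hl'⟩ := (IsLocalRing.split_injective_iff_lTensor_residueField_injective (φ.baseChange A)).mpr hinj
  let m₁ : P₁ →ₗ[R] A ⊗[R] P₁ := TensorProduct.mk R A P₁ 1
  haveI : IsLocalizedModule p.primeCompl m₁ :=
    (isLocalizedModule_iff_isBaseChange p.primeCompl A m₁).mpr (TensorProduct.isBaseChange R P₁ A)
  haveI : Module.FinitePresentation R P₂ := Module.finitePresentation_of_projective R P₂
  obtain ⟨ψ, s, hψ⟩ := Module.FinitePresentation.exists_lift_of_isLocalizedModule p.primeCompl m₁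
    ((l'.restrictScalars R) ∘ₗ TensorProduct.mk R A P₂ 1)
  have h1 : m₁ ∘ₗ (ψ ∘ₗ φ) = m₁ ∘ₗ ((s : R) • LinearMap.id) := by
    ext x
    have h2 := LinearMap.congr_fun hψ (φ x)
    have h3 : l' ((1 : A) ⊗ₜ[R] φ x) = (1 : A) ⊗ₜ[R] x := LinearMap.congr_fun hl' ((1 : A) ⊗ₜ[R] x)
    simp only [LinearMap.comp_apply, LinearMap.smul_apply, LinearMap.coe_restrictScalars, TensorProduct.mk_apply,
      Submonoid.smul_def] at h2 ⊢
    rw [h2, h3, LinearMap.id_apply, map_smul]
    rfl
  obtain ⟨t, ht⟩ := Module.Finite.exists_smul_of_comp_eq_of_isLocalizedModule p.primeCompl m₁ _ _ h1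
  refine ⟨(t : R) * s, fun hm => ((Ideal.IsPrime.mem_or_mem inferInstance hm).elim t.2 s.2), (t : R) • ψ, ?_⟩
  rw [LinearMap.smul_comp, ← Submonoid.smul_def, ht, Submonoid.smul_def, smul_smul]

end


/-- Let R be a ring and φ : P₁ → P₂ a map of finite projective R-modules. The set U of primes p of R
such that φ ⊗ κ(p) is injective is open, and for every f ∈ R with D(f) ⊆ U the map (P₁)_f → (P₂)_f
is injective and Coker(φ)_f is a finite projective module over R_f. -/
theorem result {R : Type u} [CommRing R] {P₁ P₂ : Type u} [AddCommGroup P₁] [Module R P₁] [AddCommGroup P₂] [Module R P₂] [Module.Finite R P₁] [Module.Projective R P₁] [Module.Finite R P₂] [Module.Projective R P₂] (φ : P₁ →ₗ[R] P₂) : IsOpen {p : PrimeSpectrum R | Function.Injective (φ.lTensor p.asIdeal.ResidueField)} ∧ ∀ f : R, (↑(PrimeSpectrum.basicOpen f) : Set (PrimeSpectrum R)) ⊆ {p : PrimeSpectrum R | Function.Injective (φ.lTensor p.asIdeal.ResidueField)} → Function.Injective (LocalizedModule.map (Submonoid.powers f) φ) ∧ Module.Finite (Localization.Away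 f) (LocalizedModule (Submonoid.powers f) (P₂ ⧸ LinearMap.range φ)) ∧ Module.Projective (Localization.Away f) (LocalizedModule (Submonoid.powers f) (P₂ ⧸ LinearMap.range φ)) := by
  let J : Ideal R := Ideal.span {g | ∃ ψ : P₂ →ₗ[R] P₁, ψ ∘ₗ φ = g • LinearMap.id}
  have hJ : ∀ g ∈ J, ∃ ψ : P₂ →ₗ[R] P₁, ψ ∘ₗ φ = g • LinearMap.id := by
    intro g hg
    induction hg using Submodule.span_induction with
    | mem x hx => exact hx
    | zero => exact ⟨0, by simp⟩
    | add a b _ _ ha hb =>
      obtain ⟨u, hu⟩ := ha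
      obtain ⟨v, hv⟩ := hb
      exact ⟨u + v, by rw [LinearMap.add_comp, hu, hv, add_smul]⟩
    | smul c a _ ha =>
      obtain ⟨u, hu⟩ := ha
      exact ⟨c • u, by rw [LinearMap.smul_comp, hu, smul_smul, smul_eq_mul]⟩
  have hU : {p : PrimeSpectrum R | Function.Injective (φ.lTensor p.asIdeal.ResidueField)} =
      (PrimeSpectrum.zeroLocus (J : Set R))ᶜ := by
    ext p
    rw [Set.mem_ofPred_eq, Set.mem_compl_iff, PrimeSpectrum.mem_zeroLocus, Set.not_subset]
    constructor
    · intro h
      obtain ⟨g, hg, ψ, hψ⟩ := exists_split φ p.asIdeal h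
      exact ⟨g, Ideal.subset_span ⟨ψ, hψ⟩, hg⟩
    · rintro ⟨g, hg, hgp⟩
      obtain ⟨ψ, hψ⟩ := hJ g hg
      exact injective_of_smul_split φ ψ g (fun h => hgp (Ideal.algebraMap_residueField_eq_zero.mp h)) hψ
  refine ⟨hU ▸ (PrimeSpectrum.isClosed_zeroLocus _).isOpen_compl, fun f hf => ?_⟩
  rw [hU] at hf
  have hfJ : f ∈ J.radical := by
    rw [← PrimeSpectrum.vanishingIdeal_zeroLocus_eq_radical, PrimeSpectrum.mem_vanishingIdeal]
    intro p hp
    by_contra hfp
    exact hf hfp hp
  obtain ⟨n, hn⟩ := hfJ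
  obtain ⟨ψ, hψ⟩ := hJ _ hn
  let A := Localization.Away f
  let S := Submonoid.powers f
  have hu : IsUnit (algebraMap R A (f ^ n)) := IsLocalization.map_units A (⟨f ^ n, n, rfl⟩ : S)
  have hsmul : ∀ {M : Type u} [AddCommGroup M] [Module R M] (x : LocalizedModule S M),
      LocalizedModule.map S ((f ^ n) • (LinearMap.id : M →ₗ[R] M)) x = algebraMap R A (f ^ n) • x := by
    intro M _ _ x
    rw [map_smul, LocalizedModule.map_id, LinearMap.smul_apply, LinearMap.id_apply, algebraMap_smul]
  have hcomp : ∀ {X Y Z : Type u} [AddCommGroup X] [Module R X] [AddCommGroup Y] [Module R Y] [AddCommGroup Z] [Module R Z]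
      (a : X →ₗ[R] Y) (b : Y →ₗ[R] Z) (x : LocalizedModule S X),
      LocalizedModule.map S b (LocalizedModule.map S a x) = LocalizedModule.map S (b ∘ₗ a) x := by
    intro X Y Z _ _ _ _ _ _ a b x
    induction x using LocalizedModule.induction_on with
    | h m s => simp [LocalizedModule.map_mk]
  refine ⟨fun a b hab => ?_, ?_⟩
  · have := congrArg (LocalizedModule.map S ψ) hab
    rw [hcomp, hcomp, hψ, hsmul, hsmul] at this
    exact (IsUnit.smul_left_cancel hu).mp this
  · haveI : Module.Projective A (LocalizedModule S P₂) :=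
      Module.Projective.of_equiv (LocalizedModule.equivTensorProduct S P₂).symm
    haveI : Module.Finite A (LocalizedModule S P₂) :=
      Module.Finite.equiv (LocalizedModule.equivTensorProduct S P₂).symm
    let q := (LinearMap.range φ).mkQ
    let e : (P₂ ⧸ LinearMap.range φ) →ₗ[R] P₂ := (LinearMap.range φ).liftQ ((f ^ n) • LinearMap.id - φ ∘ₗ ψ) (by
      rintro _ ⟨x, rfl⟩
      rw [LinearMap.mem_ker, LinearMap.sub_apply, LinearMap.smul_apply, LinearMap.id_apply, LinearMap.comp_apply,
        ← LinearMap.comp_apply ψ φ, hψ, LinearMap.smul_apply, LinearMap.id_apply, map_smul, sub_self])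
    have he : q ∘ₗ e = (f ^ n) • LinearMap.id := by
      refine LinearMap.ext fun c => ?_
      obtain ⟨y, rfl⟩ := Submodule.mkQ_surjective _ c
      show q ((f ^ n) • y - φ (ψ y)) = (f ^ n) • q y
      rw [map_sub, map_smul, show q (φ (ψ y)) = 0 from (Submodule.Quotient.mk_eq_zero _).mpr ⟨_, rfl⟩, sub_zero]
    let r := (hu.unit⁻¹ : Aˣ).val • LocalizedModule.map S q
    have hr : r ∘ₗ LocalizedModule.map S e = LinearMap.id := LinearMap.ext fun x => by
      show (hu.unit⁻¹ : Aˣ).val • LocalizedModule.map S q (LocalizedModule.map S e x) = x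
      rw [hcomp, he, hsmul, smul_smul, IsUnit.val_inv_mul, one_smul]
    exact ⟨Module.Finite.of_surjective (LocalizedModule.map S q) (LocalizedModule.map_surjective S _ (Submodule.mkQ_surjective _)),
      Module.Projective.of_split (LocalizedModule.map S e) r hr⟩

end Groth.Agent.S6309
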