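import Groth.Statements.S6310
import Mathlib.Algebra.Module.LocalizedModule.Basic
import Mathlib.LinearAlgebra.Matrix.Charpoly.LinearMap
import Mathlib.RingTheory.Localization.Away.Basic

set_option autoImplicit false
universe u
open CAlg

namespace Groth.Agent.S6310

theorem exists_smul_of_mem_span {R M ι : Type*} [CommRing R] [AddCommGroup M] [Module R M]
    (S : Submonoid R) (x : ι → M) {z : LocalizedModule S M}
    (hz : z ∈ Submodule.span (Localization S) (Set.range fun j => LocalizedModule.mkLinearMap S M (x j))) :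
    ∃ t ∈ S, ∃ n ∈ Submodule.span R (Set.range x), t • z = LocalizedModule.mkLinearMap S M n := by
  induction hz using Submodule.span_induction with
  | mem z hz =>
    obtain ⟨j, rfl⟩ := hz
    exact ⟨1, S.one_mem, x j, Submodule.subset_span ⟨j, rfl⟩, one_smul _ _⟩
  | zero => exact ⟨1, S.one_mem, 0, zero_mem _, by simp⟩
  | add a b _ _ ha hb =>
    obtain ⟨t, ht, n, hn, he⟩ := ha
    obtain ⟨t', ht', n', hn', he'⟩ := hb
    refine ⟨t * t', S.mul_mem ht ht', t' • n + t • n', add_mem (Submodule.smul_mem _ _ hn) (Submodule.smul_mem _ _ hn'), ?_⟩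
    rw [map_add, map_smul, map_smul, ← he, ← he', smul_add, mul_smul, mul_smul, smul_comm t t' a]
  | smul c a _ ha =>
    obtain ⟨t, ht, n, hn, he⟩ := ha
    obtain ⟨⟨r, u⟩, hc⟩ := IsLocalization.surj S c
    refine ⟨(u : R) * t, S.mul_mem u.2 ht, r • n, Submodule.smul_mem _ _ hn, ?_⟩
    rw [map_smul, ← he, mul_smul, smul_comm t c a, ← smul_assoc (u : R) c, Algebra.smul_def (u : R) c, mul_comm, hc, algebraMap_smul]

theorem span_eq_top_of_smul_mem {R M ι : Type*} [CommRing R] [AddCommGroup M] [Module R M]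
    (S : Submonoid R) (x : ι → M) (h : ∀ m : M, ∃ t ∈ S, t • m ∈ Submodule.span R (Set.range x)) :
    Submodule.span (Localization S) (Set.range fun j => LocalizedModule.mkLinearMap S M (x j)) = ⊤ := by
  rw [eq_top_iff]
  intro z _
  obtain ⟨⟨m, u⟩, hu⟩ := IsLocalizedModule.surj S (LocalizedModule.mkLinearMap S M) z
  obtain ⟨t, ht, htm⟩ := h m
  set W := Submodule.span (Localization S) (Set.range fun j => LocalizedModule.mkLinearMap S M (x j))
  have h1 : LocalizedModule.mkLinearMap S M (t • m) ∈ W := by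
    have h2 : Submodule.span R (Set.range x) ≤ (W.restrictScalars R).comap (LocalizedModule.mkLinearMap S M) :=
      Submodule.span_le.mpr (by rintro _ ⟨j, rfl⟩; exact Submodule.subset_span ⟨j, rfl⟩)
    exact h2 htm
  rw [map_smul, ← hu] at h1
  change t • ((u : R) • z) ∈ W at h1
  rw [← mul_smul, ← algebraMap_smul (Localization S), Submodule.smul_mem_iff_of_isUnit W
    (IsLocalization.map_units (Localization S) ⟨t * u, S.mul_mem ht u.2⟩)] at h1
  exact h1

/-- Let R be a ring, S ⊆ R a multiplicative subset, I ⊆ R an ideal and M a finite R-module. If x₁, …,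
x_r ∈ M have images generating S⁻¹(M/IM) as an S⁻¹R-module, then there is f ∈ S + I (f = s + i with
s ∈ S, i ∈ I) such that x₁, …, x_r generate M_f as an R_f-module. -/
theorem result {R : Type u} [CommRing R] (S : Submonoid R) (I : Ideal R) (M : Type u) [AddCommGroup M] [Module R M] [Module.Finite R M] {r : ℕ} (x : Fin r → M) (hx : Submodule.span (Localization S) (Set.range fun j => LocalizedModule.mkLinearMap S (M ⧸ (I • (⊤ : Submodule R M))) (Submodule.Quotient.mk (x j))) = ⊤) : ∃ (s : R) (i : R), s ∈ S ∧ i ∈ I ∧ Submodule.span (Localization.Away (s + i)) (Set.range fun j => LocalizedModule.mkLinearMap (Submonoid.powers (s + i)) M (x j)) = ⊤ := by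
  classical
  set N : Submodule R M := Submodule.span R (Set.range x) with hN
  set Q := M ⧸ N
  have h1 : ∀ m : M, ∃ s ∈ S, s • m ∈ N ⊔ I • (⊤ : Submodule R M) := by
    intro m
    have hm : LocalizedModule.mkLinearMap S (M ⧸ (I • (⊤ : Submodule R M))) (Submodule.Quotient.mk m) ∈
        Submodule.span (Localization S) (Set.range fun j => LocalizedModule.mkLinearMap S
          (M ⧸ (I • (⊤ : Submodule R M))) (Submodule.Quotient.mk (x j))) := hx ▸ Submodule.mem_top
    obtain ⟨t, ht, n, hn, he⟩ := exists_smul_of_mem_span S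
      ((Submodule.mkQ (I • (⊤ : Submodule R M))) ∘ x) hm
    rw [← map_smul] at he
    obtain ⟨c, hc⟩ := IsLocalizedModule.exists_of_eq (S := S) he
    obtain ⟨n, hnN, rfl⟩ : n ∈ N.map (Submodule.mkQ (I • (⊤ : Submodule R M))) := by
      rw [hN, Submodule.map_span, ← Set.range_comp]; exact hn
    refine ⟨(c : R) * t, S.mul_mem c.2 ht, ?_⟩
    have h2 : Submodule.mkQ (I • (⊤ : Submodule R M)) (((c : R) * t) • m - (c : R) • n) = 0 := by
      rw [map_sub, mul_smul, map_smul, map_smul, map_smul, sub_eq_zero]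
      exact hc
    rw [Submodule.mkQ_apply, Submodule.Quotient.mk_eq_zero] at h2
    have h3 := add_mem (Submodule.mem_sup_right (S := N) h2)
      (Submodule.mem_sup_left (T := I • (⊤ : Submodule R M)) (N.smul_mem (c : R) hnN))
    rwa [sub_add_cancel] at h3
  choose σ hσS hσ using h1
  obtain ⟨G, hG⟩ := Module.finite_def.mp (inferInstance : Module.Finite R M)
  set s : R := ∏ g ∈ G, σ g
  have hs : s ∈ S := S.prod_mem fun g _ => hσS g
  have hsm : ∀ m : M, s • m ∈ N ⊔ I • (⊤ : Submodule R M) := by
    intro m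
    have : m ∈ Submodule.span R (G : Set M) := hG ▸ Submodule.mem_top
    induction this using Submodule.span_induction with
    | mem g hg =>
      obtain ⟨c, hc⟩ : σ g ∣ s := Finset.dvd_prod_of_mem _ hg
      rw [hc, mul_comm, mul_smul]
      exact Submodule.smul_mem _ _ (hσ g)
    | zero => simp
    | add a b _ _ ha hb => rw [smul_add]; exact add_mem ha hb
    | smul r a _ ha => rw [smul_comm]; exact Submodule.smul_mem _ _ ha
  let f : Module.End R Q := s • LinearMap.id
  have hrange : LinearMap.range f ≤ I • ⊤ := by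
    rintro _ ⟨q, rfl⟩
    obtain ⟨m, rfl⟩ := Submodule.Quotient.mk_surjective _ q
    show Submodule.Quotient.mk (s • m) ∈ _
    obtain ⟨n, hn, y, hy, he⟩ := Submodule.mem_sup.mp (hsm m)
    rw [← he, ← Submodule.mkQ_apply, map_add, Submodule.mkQ_apply, (Submodule.Quotient.mk_eq_zero N).mpr hn, zero_add]
    exact Submodule.smul_mono le_rfl le_top ((Submodule.map_smul'' I ⊤ N.mkQ) ▸ Submodule.mem_map_of_mem hy)
  obtain ⟨p, hp, -, hpI, hp0⟩ :=
    LinearMap.exists_monic_and_natDegree_eq_and_coeff_mem_pow_and_aeval_eq_zero R f I hrange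
  refine ⟨s ^ p.natDegree, p.eval s - s ^ p.natDegree, S.pow_mem hs _, ?_, ?_⟩
  · rw [Polynomial.eval_eq_sum_range, Finset.sum_range_succ, hp.coeff_natDegree, one_mul, add_sub_cancel_right]
    refine I.sum_mem fun k hk => I.mul_mem_right _ ?_
    exact Ideal.pow_le_self (Nat.sub_ne_zero_of_lt (Finset.mem_range.mp hk)) (hpI k)
  · rw [add_sub_cancel]
    refine span_eq_top_of_smul_mem _ x fun m => ⟨p.eval s, Submonoid.mem_powers _, ?_⟩
    have hf : f = algebraMap R (Module.End R Q) s := rfl
    rw [hf, Polynomial.aeval_algebraMap_apply_eq_algebraMap_eval] at hp0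
    have h := LinearMap.congr_fun hp0 (Submodule.Quotient.mk m : Q)
    rw [Module.algebraMap_end_apply, LinearMap.zero_apply,
      ← Submodule.Quotient.mk_smul, Submodule.Quotient.mk_eq_zero] at h
    exact h

end Groth.Agent.S6310
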