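import Groth.Statements.S6311
import Groth.Agent.L29.K.Sub
import Mathlib.Algebra.Category.ModuleCat.Abelian
import Mathlib.Algebra.Homology.ShortComplex.ModuleCat
import Mathlib.Algebra.Exact.Basic
import Mathlib.RingTheory.LocalRing.Module
import Mathlib.LinearAlgebra.Dimension.Constructions

set_option autoImplicit false
universe u
open CategoryTheory
open CAlg

namespace Groth.Agent.S6311

section
open CategoryTheory

variable (R : Type u) [CommRing R]

/-- finite projective -/
abbrev FP : ObjectProperty (ModuleCat.{u} R) := fun M => Module.Finite R M ∧ Module.Projective R M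

theorem fp_pi (n : ℕ) : FP R (ModuleCat.of R (Fin n → R)) :=
  ⟨inferInstanceAs (Module.Finite R (Fin n → R)), inferInstanceAs (Module.Projective R (Fin n → R))⟩

instance : (FP R).IsClosedUnderIsomorphisms := ⟨fun e h => by
  haveI := h.1
  haveI := h.2
  exact ⟨Module.Finite.equiv e.toLinearEquiv, Module.Projective.of_equiv e.toLinearEquiv⟩⟩

theorem clSub_pi : ∀ n : ℕ,
    KZero.clSub (FP R) (ModuleCat.of R (Fin n → R)) = n • KZero.clSub (FP R) (ModuleCat.of R R) := by
  intro n
  induction n with
  | zero =>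
    rw [zero_smul]
    exact Groth.L29.KSub.clSub_zero _ (ModuleCat.isZero_of_subsingleton _) (fp_pi R 0)
  | succ n ih =>
    let e : (R × (Fin n → R)) ≃ₗ[R] (Fin (n + 1) → R) := Fin.consLinearEquiv R (fun _ : Fin (n + 1) => R)
    let f : ModuleCat.of R R ⟶ ModuleCat.of R (R × (Fin n → R)) := ModuleCat.ofHom (LinearMap.inl R R (Fin n → R))
    let g : ModuleCat.of R (R × (Fin n → R)) ⟶ ModuleCat.of R (Fin n → R) := ModuleCat.ofHom (LinearMap.snd R R (Fin n → R))
    have hS : (ShortComplex.mk f g (by ext x; rfl)).ShortExact :=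
      { exact := (ShortComplex.moduleCat_exact_iff _).mpr fun x (hx : x.2 = 0) => ⟨x.1, Prod.ext rfl hx.symm⟩
        mono_f := (ModuleCat.mono_iff_injective _).mpr LinearMap.inl_injective
        epi_g := (ModuleCat.epi_iff_surjective _).mpr LinearMap.snd_surjective }
    have h1 : FP R (ModuleCat.of R R) := ⟨inferInstanceAs (Module.Finite R R), inferInstanceAs (Module.Projective R R)⟩
    have h2 : FP R (ModuleCat.of R (R × (Fin n → R))) := (FP R).prop_of_iso e.toModuleIso.symm (fp_pi R (n + 1))
    have hz : Limits.IsZero (ModuleCat.of R (Fin 0 → R)) := ModuleCat.isZero_of_subsingleton _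
    rw [← Groth.L29.KSub.clSub_iso _ e.toModuleIso hz (fp_pi R 0) h2,
      Groth.L29.KSub.clSub_shortExact _ hS h1 h2 (fp_pi R n)]
    show KZero.clSub (FP R) (ModuleCat.of R R) + KZero.clSub (FP R) (ModuleCat.of R (Fin n → R)) = _
    rw [ih, add_comm, succ_nsmul]

theorem clSub_eq [IsLocalRing R] (M : ModuleCat.{u} R) (hM : FP R M) :
    KZero.clSub (FP R) M = Module.finrank R M • KZero.clSub (FP R) (ModuleCat.of R R) := by
  haveI := hM.1
  haveI := hM.2
  haveI : Module.Free R M := Module.free_of_flat_of_isLocalRing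
  rw [← clSub_pi R (Module.finrank R M)]
  exact Groth.L29.KSub.clSub_iso _ (Module.finBasis R M).equivFun.toModuleIso
    (ModuleCat.isZero_of_subsingleton (ModuleCat.of R (Fin 0 → R))) (fp_pi R 0) hM

theorem finrank_add [IsLocalRing R] (S : ShortComplex (ModuleCat.{u} R)) (hS : S.ShortExact)
    (h₁ : FP R S.X₁) (h₃ : FP R S.X₃) :
    Module.finrank R S.X₂ = Module.finrank R S.X₁ + Module.finrank R S.X₃ := by
  haveI := h₁.1
  haveI := h₁.2
  haveI := h₃.1
  haveI := h₃.2
  haveI : Module.Free R S.X₁ := Module.free_of_flat_of_isLocalRing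
  haveI : Module.Free R S.X₃ := Module.free_of_flat_of_isLocalRing
  haveI := hS.mono_f
  haveI := hS.epi_g
  obtain ⟨s, hs⟩ := Module.projective_lifting_property S.g.hom LinearMap.id
    ((ModuleCat.epi_iff_surjective S.g).mp inferInstance)
  have hex : Function.Exact S.f.hom S.g.hom := LinearMap.exact_iff.mpr hS.exact.moduleCat_range_eq_ker.symm
  obtain ⟨e, -⟩ := (hex.splitSurjectiveEquiv ((ModuleCat.mono_iff_injective S.f).mp inferInstance)) ⟨s, hs⟩
  rw [e.finrank_eq, Module.finrank_prod]

end


/-- Let R be a local ring. Then K₀(R), the Grothendieck group of the category of finite projective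
R-modules, is isomorphic to ℤ via the rank; precisely, there is an isomorphism K₀(R) ≅ ℤ of abelian
groups sending the class [R] to 1 (such an isomorphism is then unique, K₀(R) being generated by
[R]). -/
theorem result (R : Type u) [CommRing R] [IsLocalRing R] : ∃ e : KZero.K0sub (fun M : ModuleCat.{u} R => Module.Finite R M ∧ Module.Projective R M) ≃+ ℤ, e (KZero.clSub (fun M : ModuleCat.{u} R => Module.Finite R M ∧ Module.Projective R M) (ModuleCat.of R R)) = 1 := by
  let φ : KZero.K0sub (FP R) →+ ℤ := Groth.L29.KSub.lift (fun M : ModuleCat.{u} R => (Module.finrank R M : ℤ))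
    fun S hS h₁ _ h₃ => by exact_mod_cast finrank_add R S hS h₁ h₃
  let ψ : ℤ →+ KZero.K0sub (FP R) := zmultiplesHom _ (KZero.clSub (FP R) (ModuleCat.of R R))
  have h1 : FP R (ModuleCat.of R R) := ⟨inferInstanceAs (Module.Finite R R), inferInstanceAs (Module.Projective R R)⟩
  have hφ1 : φ (KZero.clSub (FP R) (ModuleCat.of R R)) = 1 := by
    show φ _ = _
    rw [Groth.L29.KSub.lift_clSub _ _ h1]
    simp
  have hψφ : ψ.comp φ = AddMonoidHom.id _ := Groth.L29.KSub.hom_ext fun M hM => by
    show ψ (φ (KZero.clSub (FP R) M)) = KZero.clSub (FP R) M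
    rw [Groth.L29.KSub.lift_clSub _ _ hM, clSub_eq R M hM]
    simp [ψ]
  have hφψ : φ.comp ψ = AddMonoidHom.id _ := AddMonoidHom.ext_int (by simp [ψ, hφ1])
  exact ⟨AddMonoidHom.toAddEquiv φ ψ hψφ hφψ, hφ1⟩

end Groth.Agent.S6311
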