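import Groth.Statements.S6312
import Mathlib.RingTheory.Length
import Mathlib.Algebra.Module.LocalizedModule.Submodule

set_option autoImplicit false
universe u
open CAlg

namespace Groth.Agent.S6312

/-- Let R be a ring, M an R-module and S ⊆ R a multiplicative subset. Then length_{S⁻¹R}(S⁻¹M) ≤
length_R(M). -/
theorem result {R : Type u} [CommRing R] (S : Submonoid R) (M : Type u) [AddCommGroup M] [Module R M] : Module.length (Localization S) (LocalizedModule S M) ≤ Module.length R M := by
  rw [← WithBot.coe_le_coe, Module.coe_length, Module.coe_length]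
  refine Order.krullDim_le_of_strictMono
    (fun N => (N.restrictScalars R).comap (LocalizedModule.mkLinearMap S M)) fun N N' hlt => ?_
  refine lt_of_le_of_ne (Submodule.comap_mono (Submodule.restrictScalars_le R |>.2 hlt.le)) fun e => hlt.ne ?_
  have key : ∀ (Q Q' : Submodule (Localization S) (LocalizedModule S M)),
      (Q.restrictScalars R).comap (LocalizedModule.mkLinearMap S M) ≤ (Q'.restrictScalars R).comap (LocalizedModule.mkLinearMap S M) → Q ≤ Q' := by
    intro Q Q' h x hx
    obtain ⟨⟨m, s⟩, hs⟩ := IsLocalizedModule.surj S (LocalizedModule.mkLinearMap S M) x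
    have hm : m ∈ (Q.restrictScalars R).comap (LocalizedModule.mkLinearMap S M) := by
      show LocalizedModule.mkLinearMap S M m ∈ Q
      rw [← hs, Submonoid.smul_def, ← algebraMap_smul (Localization S) (s : R)]
      exact Q.smul_mem _ hx
    have h2 : LocalizedModule.mkLinearMap S M m ∈ Q' := h hm
    rw [← hs, Submonoid.smul_def, ← algebraMap_smul (Localization S) (s : R)] at h2
    obtain ⟨u, hu⟩ := IsLocalization.map_units (Localization S) s
    rw [← hu] at h2
    simpa [← mul_smul] using Q'.smul_mem (↑u⁻¹ : Localization S) h2
  exact le_antisymm (key _ _ e.le) (key _ _ e.ge)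


end Groth.Agent.S6312
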