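import Groth.Statements.S6319
import Groth.Agent.L29.K.Sub
import Mathlib.RingTheory.Length
import Mathlib.Algebra.Category.ModuleCat.Abelian
import Mathlib.Algebra.Homology.ShortComplex.ModuleCat
import Mathlib.RingTheory.Artinian.Module
import Mathlib.RingTheory.HopkinsLevitzki

set_option autoImplicit false
universe u
open CategoryTheory
open CAlg

namespace Groth.Agent.S6319

/-- Let R be an Artinian local ring. The length function defines a homomorphism of abelian groups
length_R : K'₀(R) → ℤ on the Grothendieck group of finite R-modules, sending the class of a finite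
module M to its (finite) length. -/
theorem result (R : Type u) [CommRing R] [IsArtinianRing R] [IsLocalRing R] : ∃ φ : KZero.K0sub (fun M : ModuleCat.{u} R => Module.Finite R M) →+ ℤ, ∀ (M : ModuleCat.{u} R), Module.Finite R M → (φ (KZero.clSub (fun M : ModuleCat.{u} R => Module.Finite R M) M) : ℤ) = (Module.length R M).toNat := by
  refine ⟨Groth.L29.KSub.lift (fun M : ModuleCat.{u} R => ((Module.length R M).toNat : ℤ)) fun S hS h₁ _ h₃ => ?_,
    fun M hM => Groth.L29.KSub.lift_clSub _ _ hM⟩
  have fin : ∀ N : ModuleCat.{u} R, Module.Finite R N → Module.length R N ≠ ⊤ := fun N hN => by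
    haveI := hN
    rw [Module.length_ne_top_iff, isFiniteLength_iff_isNoetherian_isArtinian]
    exact ⟨inferInstance, inferInstance⟩
  haveI := hS.mono_f
  haveI := hS.epi_g
  rw [Module.length_eq_add_of_exact S.f.hom S.g.hom ((ModuleCat.mono_iff_injective S.f).mp inferInstance)
    ((ModuleCat.epi_iff_surjective S.g).mp inferInstance) (LinearMap.exact_iff.mpr hS.exact.moduleCat_range_eq_ker.symm),
    ENat.toNat_add (fin _ h₁) (fin _ h₃), Nat.cast_add]

end Groth.Agent.S6319
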