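import Groth.Statements.S6320
import Groth.Agent.L03.LengthSum
import Mathlib.LinearAlgebra.Dimension.StrongRankCondition
import Mathlib.RingTheory.Ideal.Quotient.Operations

set_option autoImplicit false
universe u
open CAlg

namespace Groth.Agent.S6320

/-- Let A be a local ring with maximal ideal m, B a semi-local ring with maximal ideals m₁, …, mₙ and A
→ B a ring map such that each mᵢ lies over m with [κ(mᵢ) : κ(m)] finite. Then for every B-module M
of finite length, length_A(M) = Σᵢ [κ(mᵢ) : κ(m)] · length_{B_{mᵢ}}(M_{mᵢ}); in particular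
length_A(M) is finite. -/
theorem result {A B : Type u} [CommRing A] [IsLocalRing A] [CommRing B] [Algebra A B] [Finite (MaximalSpectrum B)] (hover : ∀ n : MaximalSpectrum B, n.asIdeal.comap (algebraMap A B) = IsLocalRing.maximalIdeal A) (hfin : ∀ n : MaximalSpectrum B, Module.Finite (A ⧸ n.asIdeal.comap (algebraMap A B)) (B ⧸ n.asIdeal)) (M : Type u) [AddCommGroup M] [Module B M] [Module A M] [IsScalarTower A B M] (hM : IsFiniteLength B M) : Module.length A M = ∑ᶠ n : MaximalSpectrum B, (Module.finrank (A ⧸ n.asIdeal.comap (algebraMap A B)) (B ⧸ n.asIdeal) : ℕ∞) * Module.length (Localization.AtPrime n.asIdeal) (LocalizedModule n.asIdeal.primeCompl M) := by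
  rw [(Groth.L03.LengthSum.length_eq_finsum A hM).2]
  refine finsum_congr fun n => ?_
  congr 1
  haveI := hfin n
  haveI hmax : (n.asIdeal.comap (algebraMap A B)).IsMaximal := by
    rw [hover n]; exact IsLocalRing.maximalIdeal.isMaximal A
  letI : Field (A ⧸ n.asIdeal.comap (algebraMap A B)) := Ideal.Quotient.field _
  rw [Module.length_eq_of_surjective (R := A ⧸ n.asIdeal.comap (algebraMap A B)) Ideal.Quotient.mk_surjective,
    Module.length_eq_finrank]

end Groth.Agent.S6320
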