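import Groth.Statements.S6321
import Mathlib.Algebra.Colimit.Ring
import Mathlib.LinearAlgebra.TensorProduct.DirectLimit
import Mathlib.RingTheory.RingHom.FaithfullyFlat
import Mathlib.RingTheory.Flat.Basic
import Mathlib.RingTheory.Flat.Tensor

set_option autoImplicit false
universe u
open CAlg

namespace Groth.Agent.S6321

section
open TensorProduct

theorem tensor_colim (R : Type u) [CommRing R] {ι : Type u} [Preorder ι] [IsDirectedOrder ι] [Nonempty ι]
    (G : ι → Type u) [∀ i, CommRing (G i)] [∀ i, Algebra R (G i)]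
    (f : ∀ i j : ι, i ≤ j → (G i →ₐ[R] G j)) [DirectedSystem G (fun i j h => f i j h)]
    (A : Type u) [CommRing A] [Algebra R A] (g : ∀ i, G i →ₐ[R] A)
    (hg : ∀ i j (h : i ≤ j), (g j).comp (f i j h) = g i)
    (hsurj : ∀ a : A, ∃ i, ∃ x : G i, g i x = a)
    (hker : ∀ i (x : G i), g i x = 0 → ∃ j, ∃ h : i ≤ j, f i j h x = 0)
    (M : Type u) [AddCommGroup M] [Module R M] :
    (∀ a : M ⊗[R] A, ∃ i z, (g i).toLinearMap.lTensor M z = a) ∧
      ∀ i (z : M ⊗[R] G i), (g i).toLinearMap.lTensor M z = 0 →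
        ∃ j, ∃ h : i ≤ j, (f i j h).toLinearMap.lTensor M z = 0 := by
  classical
  have hgf : ∀ i j (h : i ≤ j) (x : G i), g j (f i j h x) = g i x := fun i j h x => DFunLike.congr_fun (hg i j h) x
  have hff : ∀ i j k (hij : i ≤ j) (hjk : j ≤ k) (x : G i), f j k hjk (f i j hij x) = f i k (hij.trans hjk) x :=
    fun i j k hij hjk x => DirectedSystem.map_map' (fun i j h => f i j h) hij hjk x
  let fl : ∀ i j, i ≤ j → G i →ₗ[R] G j := fun i j h => (f i j h).toLinearMap
  haveI : DirectedSystem G (fun i j h => fl i j h) :=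
    ⟨fun i x => DirectedSystem.map_self (f := fun i j h => f i j h) x, fun k j i hij hjk x => hff i j k hij hjk x⟩
  let fM : ∀ i j, i ≤ j → M ⊗[R] G i →ₗ[R] M ⊗[R] G j := fun i j h => (fl i j h).lTensor M
  haveI : DirectedSystem (fun i => M ⊗[R] G i) (fun i j h => fM i j h) :=
    ⟨fun i x => by
      induction x using TensorProduct.induction_on with
      | zero => simp
      | tmul a b =>
        show a ⊗ₜ[R] f i i _ b = a ⊗ₜ[R] b
        rw [DirectedSystem.map_self (f := fun i j h => f i j h)]
      | add a b ha hb => simp only [map_add, ha, hb],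
     fun k j i hij hjk x => by
      induction x using TensorProduct.induction_on with
      | zero => simp
      | tmul a b =>
        show a ⊗ₜ[R] f _ _ hjk (f _ _ hij b) = a ⊗ₜ[R] f _ _ (hij.trans hjk) b
        rw [hff]
      | add a b ha hb => simp only [map_add, ha, hb]⟩
  let L := Module.DirectLimit G fl
  let e0 : L →ₗ[R] A := Module.DirectLimit.lift R ι G fl (fun i => (g i).toLinearMap) fun i j h x => hgf i j h x
  have hl : ∀ i x, e0 (Module.DirectLimit.of R ι G fl i x) = g i x := fun i x => Module.DirectLimit.lift_of _ _ x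
  have he0 : Function.Bijective e0 := by
    refine ⟨(injective_iff_map_eq_zero _).2 fun x hx => ?_, fun a => ?_⟩
    · obtain ⟨i, x, rfl⟩ := Module.DirectLimit.exists_of x
      rw [hl] at hx
      obtain ⟨j, h, hj⟩ := hker i x hx
      rw [← Module.DirectLimit.of_f (hij := h), show fl i j h x = 0 from hj, map_zero]
    · obtain ⟨i, x, rfl⟩ := hsurj a
      exact ⟨Module.DirectLimit.of R ι G fl i x, hl i x⟩
  let e := LinearEquiv.ofBijective e0 he0
  have hcomm : ∀ i (z : M ⊗[R] G i), (g i).toLinearMap.lTensor M z =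
      e.toLinearMap.lTensor M ((Module.DirectLimit.of R ι G fl i).lTensor M z) := by
    intro i z
    induction z using TensorProduct.induction_on with
    | zero => simp
    | tmul a b =>
      show a ⊗ₜ[R] g i b = a ⊗ₜ[R] e0 (Module.DirectLimit.of R ι G fl i b)
      rw [hl]
    | add a b ha hb => simp only [map_add, ha, hb]
  have hR : ∀ i (z : M ⊗[R] G i), TensorProduct.directLimitRight fl M ((Module.DirectLimit.of R ι G fl i).lTensor M z) =
      Module.DirectLimit.of R ι (fun i => M ⊗[R] G i) fM i z := by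
    intro i z
    induction z using TensorProduct.induction_on with
    | zero => simp
    | tmul a b => exact TensorProduct.directLimitRight_tmul_of fl M a b
    | add a b ha hb => simp only [map_add, ha, hb]
  refine ⟨fun a => ?_, fun i z hz => ?_⟩
  · induction a using TensorProduct.induction_on with
    | zero => exact ⟨Classical.arbitrary ι, 0, map_zero _⟩
    | tmul b a => obtain ⟨i, x, rfl⟩ := hsurj a; exact ⟨i, b ⊗ₜ x, rfl⟩
    | add a b ha hb =>
      obtain ⟨i, x, rfl⟩ := ha; obtain ⟨j, y, rfl⟩ := hb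
      obtain ⟨k, hik, hjk⟩ := exists_ge_ge i j
      refine ⟨k, (f i k hik).toLinearMap.lTensor M x + (f j k hjk).toLinearMap.lTensor M y, ?_⟩
      rw [map_add, ← LinearMap.lTensor_comp_apply, ← LinearMap.lTensor_comp_apply, ← AlgHom.comp_toLinearMap,
        ← AlgHom.comp_toLinearMap, hg, hg]
  · have hinj : Function.Injective (e.toLinearMap.lTensor M) := (LinearEquiv.lTensor M e).injective
    rw [hcomm, ← map_zero (e.toLinearMap.lTensor M)] at hz
    have h0 := congrArg (TensorProduct.directLimitRight fl M) (hinj hz)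
    rw [hR, map_zero] at h0
    exact Module.DirectLimit.of.zero_exact (f := fM) h0

theorem flat_colim (R : Type u) [CommRing R] {ι : Type u} [Preorder ι] [IsDirectedOrder ι] [Nonempty ι]
    (G : ι → Type u) [∀ i, CommRing (G i)] [∀ i, Algebra R (G i)] [∀ i, Module.Flat R (G i)]
    (f : ∀ i j : ι, i ≤ j → (G i →ₐ[R] G j)) [DirectedSystem G (fun i j h => f i j h)]
    (A : Type u) [CommRing A] [Algebra R A] (g : ∀ i, G i →ₐ[R] A)
    (hg : ∀ i j (h : i ≤ j), (g j).comp (f i j h) = g i)
    (hsurj : ∀ a : A, ∃ i, ∃ x : G i, g i x = a)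
    (hker : ∀ i (x : G i), g i x = 0 → ∃ j, ∃ h : i ≤ j, f i j h x = 0) : Module.Flat R A := by
  rw [Module.Flat.iff_rTensor_injective']
  intro I
  rw [injective_iff_map_eq_zero]
  intro x hx
  obtain ⟨i, z, rfl⟩ := (tensor_colim R G f A g hg hsurj hker I).1 x
  rw [← LinearMap.comp_apply, LinearMap.rTensor_comp_lTensor, ← LinearMap.lTensor_comp_rTensor, LinearMap.comp_apply] at hx
  obtain ⟨j, h, hj⟩ := (tensor_colim R G f A g hg hsurj hker R).2 i _ hx
  rw [← LinearMap.comp_apply, LinearMap.lTensor_comp_rTensor, ← LinearMap.rTensor_comp_lTensor, LinearMap.comp_apply] at hj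
  have h0 := (Module.Flat.iff_rTensor_injective'.mp (inferInstance : Module.Flat R (G j)) I)
    (hj.trans (map_zero _).symm)
  rw [← hg i j h, AlgHom.comp_toLinearMap, LinearMap.lTensor_comp_apply, h0, map_zero]

end


/-- Let R be a ring and (Sᵢ, φᵢⱼ) a directed system of faithfully flat R-algebras whose transition maps
are R-algebra maps. Then S = colim Sᵢ is a faithfully flat R-algebra: for any index i the composite
R → Sᵢ → S is faithfully flat. -/
theorem result {R : Type u} [CommRing R] {ι : Type u} [Preorder ι] [Nonempty ι] [IsDirected ι (· ≤ ·)] (G : ι → Type u) [∀ i, CommRing (G i)] [∀ i, Algebra R (G i)] (f : ∀ i j, i ≤ j → G i →+* G j) [DirectedSystem G fun i j h => f i j h] (hcompat : ∀ i j (h : i ≤ j), (f i j h).comp (algebraMap R (G i)) = algebraMap R (G j)) (hff : ∀ i, (algebraMap R (G i)).FaithfullyFlat) (i : ι) : ((Ring.DirectLimit.of G (fun i j h => f i j h) i).comp (algebraMap R (G i))).FaithfullyFlat := by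
  classical
  haveI : ∀ j, Module.Flat R (G j) := fun j => RingHom.flat_algebraMap_iff.mp (hff j).flat
  let f' : ∀ i j, i ≤ j → (G i →ₐ[R] G j) := fun i j h => { f i j h with commutes' := fun r => RingHom.congr_fun (hcompat i j h) r }
  haveI : DirectedSystem G (fun i j h => f' i j h) :=
    { map_self := fun i x => DirectedSystem.map_self' (fun i j h => f i j h) x
      map_map := fun i j k hij hjk x => DirectedSystem.map_map' (fun i j h => f i j h) hij hjk x }
  let A := Ring.DirectLimit G (fun i j h => f i j h)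
  let φ := (Ring.DirectLimit.of G (fun i j h => f i j h) i).comp (algebraMap R (G i))
  letI : Algebra R A := φ.toAlgebra
  let g : ∀ j, G j →ₐ[R] A := fun j => { Ring.DirectLimit.of G (fun i j h => f i j h) j with
    commutes' := fun r => by
      obtain ⟨k, hik, hjk⟩ := exists_ge_ge i j
      show Ring.DirectLimit.of G (fun i j h => f i j h) j (algebraMap R (G j) r) = Ring.DirectLimit.of G (fun i j h => f i j h) i (algebraMap R (G i) r)
      rw [← Ring.DirectLimit.of_f hjk, ← Ring.DirectLimit.of_f hik]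
      exact congrArg _ ((RingHom.congr_fun (hcompat j k hjk) r).trans (RingHom.congr_fun (hcompat i k hik) r).symm) }
  have hg : ∀ a b (h : a ≤ b), (g b).comp (f' a b h) = g a := fun a b h => AlgHom.ext fun x => Ring.DirectLimit.of_f h x
  have hker : ∀ j (x : G j), g j x = 0 → ∃ k, ∃ h : j ≤ k, f' j k h x = 0 := fun j x hx =>
    Ring.DirectLimit.of.zero_exact (f' := fun i j h => f i j h) hx
  haveI hflat : Module.Flat R A := flat_colim R G f' A g hg (fun a => Ring.DirectLimit.exists_of a) hker
  show Module.FaithfullyFlat R A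
  refine { submodule_ne_top := fun {m} hm htop => ?_ }
  have lift : ∀ x ∈ m • (⊤ : Submodule R A), ∃ j, ∃ y ∈ m • (⊤ : Submodule R (G j)), g j y = x := by
    intro x hx
    refine Submodule.smul_induction_on hx (fun r hr a _ => ?_) fun a b ha hb => ?_
    · obtain ⟨j, y, rfl⟩ := Ring.DirectLimit.exists_of a
      exact ⟨j, r • y, Submodule.smul_mem_smul hr trivial, map_smul (g j) r y⟩
    · obtain ⟨j, y, hy, rfl⟩ := ha
      obtain ⟨j', y', hy', rfl⟩ := hb
      obtain ⟨k, hk, hk'⟩ := exists_ge_ge j j'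
      refine ⟨k, f' j k hk y + f' j' k hk' y',
        add_mem (?_ : _ ∈ m • (⊤ : Submodule R (G k))) ?_, ?_⟩
      · exact (Submodule.map_smul'' m ⊤ (f' j k hk).toLinearMap).trans_le (Submodule.smul_mono le_rfl le_top) ⟨y, hy, rfl⟩
      · exact (Submodule.map_smul'' m ⊤ (f' j' k hk').toLinearMap).trans_le (Submodule.smul_mono le_rfl le_top) ⟨y', hy', rfl⟩
      · rw [map_add, ← AlgHom.comp_apply, ← AlgHom.comp_apply, hg, hg]
  obtain ⟨j, y, hy, hy1⟩ := lift 1 (by rw [htop]; trivial)
  obtain ⟨k, hk, hk0⟩ := hker j (y - 1) (by rw [map_sub, map_one, hy1, sub_self])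
  haveI : Module.FaithfullyFlat R (G k) := RingHom.faithfullyFlat_algebraMap_iff.mp (hff k)
  apply Module.FaithfullyFlat.submodule_ne_top (R := R) (M := G k) hm
  rw [eq_top_iff]
  intro z _
  have h1 : (1 : G k) ∈ m • (⊤ : Submodule R (G k)) := by
    rw [map_sub, map_one, sub_eq_zero] at hk0
    rw [← hk0]
    exact (Submodule.map_smul'' m ⊤ (f' j k hk).toLinearMap).trans_le (Submodule.smul_mono le_rfl le_top) ⟨y, hy, rfl⟩
  have h2 := (Submodule.map_smul'' m ⊤ (LinearMap.mulLeft R z)).trans_le (Submodule.smul_mono le_rfl le_top) ⟨1, h1, rfl⟩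
  simpa using h2

end Groth.Agent.S6321
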