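import Groth.Statements.S6322
import Mathlib.CategoryTheory.Abelian.Projective.Resolution
import Mathlib.Algebra.Category.ModuleCat.Abelian
import Mathlib.Algebra.Category.ModuleCat.Projective

set_option autoImplicit false
universe u
open CategoryTheory
open CAlg

namespace Groth.Agent.S6322

section
open CategoryTheory Category Limits Projective ChainComplex HomologicalComplex

variable {C : Type*} [Category C] [Abelian C] {Y Z : C} {F Q : ChainComplex C ℕ}
  (εQ : Q ⟶ (ChainComplex.single₀ C).obj Z) [QuasiIso εQ] [∀ n, Projective (F.X n)]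

include εQ

theorem exact_succ' (n : ℕ) : (ShortComplex.mk _ _ (Q.d_comp_d (n + 2) (n + 1) n)).Exact := by
  refine ((HomologicalComplex.exactAt_iff' _ (n + 2) (n + 1) n) (by simp only [prev]; rfl) (by simp)).1 ?_
  rw [← quasiIsoAt_iff_exactAt' εQ (n + 1) (exactAt_succ_single_obj _ _)]
  infer_instance

omit [QuasiIso εQ] in
theorem d_comp_ε : Q.d 1 0 ≫ εQ.f 0 = 0 := by rw [← εQ.comm 1 0, single_obj_d, comp_zero]

set_option backward.isDefEq.respectTransparency.types false in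
set_option backward.defeqAttrib.useBackward true in
/-- the cokernel -/
noncomputable def isColim : IsColimit (CokernelCofork.ofπ _ (d_comp_ε εQ)) := by
  refine IsColimit.ofIsoColimit (Q.opcyclesIsCokernel 1 0 (by simp)) ?_
  refine Cofork.ext (Q.isoHomologyι₀.symm ≪≫ isoOfQuasiIsoAt εQ 0 ≪≫
    singleObjHomologySelfIso _ _ _) ?_
  rw [← cancel_mono (singleObjHomologySelfIso (ComplexShape.down ℕ) 0 _).inv,
    ← cancel_mono (isoHomologyι₀ _).hom]
  dsimp
  simp only [isoHomologyι₀_inv_naturality_assoc, p_opcyclesMap_assoc, single₀_obj_zero, assoc,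
    Iso.hom_inv_id, comp_id, isoHomologyι_inv_hom_id, singleObjHomologySelfIso_inv_homologyι,
    singleObjOpcyclesSelfIso_hom, single₀ObjXSelf, Iso.refl_inv, id_comp]

theorem exact₀' : (ShortComplex.mk _ _ (d_comp_ε εQ)).Exact :=
  ShortComplex.exact_of_g_is_cokernel _ (isColim εQ)

theorem epi_ε : Epi (εQ.f 0) := epi_of_isColimit_cofork (isColim εQ)

theorem exists_lift (ψ : F ⟶ (ChainComplex.single₀ C).obj Z) : ∃ φ : F ⟶ Q, φ ≫ εQ = ψ := by
  haveI := epi_ε εQ
  let f₀ : F.X 0 ⟶ Q.X 0 := Projective.factorThru (ψ.f 0) (εQ.f 0)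
  have h₀ : f₀ ≫ εQ.f 0 = ψ.f 0 := Projective.factorThru_comp _ _
  have hψ : F.d 1 0 ≫ ψ.f 0 = 0 := by rw [← ψ.comm 1 0, single_obj_d, comp_zero]
  let f₁ : F.X 1 ⟶ Q.X 1 := (exact₀' εQ).liftFromProjective (F.d 1 0 ≫ f₀) (by rw [assoc]; exact (congrArg (F.d 1 0 ≫ ·) h₀).trans hψ)
  have h₁ : f₁ ≫ Q.d 1 0 = F.d 1 0 ≫ f₀ := (exact₀' εQ).liftFromProjective_comp _ _
  refine ⟨ChainComplex.mkHom _ _ f₀ f₁ h₁ fun n ⟨g, g', w⟩ =>
    ⟨(exact_succ' εQ n).liftFromProjective (F.d (n + 2) (n + 1) ≫ g') (by simp [w]),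
      (exact_succ' εQ n).liftFromProjective_comp _ _⟩, ?_⟩
  refine HomologicalComplex.to_single_hom_ext ?_
  simp
  exact h₀

theorem homotopic_zero (f : F ⟶ Q) (comm : f ≫ εQ = 0) : Nonempty (Homotopy f 0) := by
  let z₀ : F.X 0 ⟶ Q.X 1 :=
    (exact₀' εQ).liftFromProjective (f.f 0) (congr_fun (congr_arg HomologicalComplex.Hom.f comm) 0)
  have hz₀ : z₀ ≫ Q.d 1 0 = f.f 0 := (exact₀' εQ).liftFromProjective_comp _ _
  let z₁ : F.X 1 ⟶ Q.X 2 := (exact_succ' εQ 0).liftFromProjective (f.f 1 - F.d 1 0 ≫ z₀)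
    (by rw [Preadditive.sub_comp, assoc, HomologicalComplex.Hom.comm, hz₀, sub_self])
  have hz₁ : z₁ ≫ Q.d 2 1 = f.f 1 - F.d 1 0 ≫ z₀ := (exact_succ' εQ 0).liftFromProjective_comp _ _
  exact ⟨Homotopy.mkInductive _ z₀ (by simp [hz₀]) z₁ (by simp [hz₁]) fun n ⟨g, g', w⟩ =>
    ⟨(exact_succ' εQ (n + 1)).liftFromProjective (f.f (n + 2) - F.d _ _ ≫ g') (by simp [w]),
      by rw [(exact_succ' εQ (n + 1)).liftFromProjective_comp]; simp⟩⟩

end


/-- Let R be a ring, M → N a map of R-modules, N• → N a resolution (a chain complex with a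
quasi-isomorphism onto N placed in degree 0) and … → F₁ → F₀ → M a complex with every Fᵢ free (F• a
chain complex with an augmentation to M in degree 0, exactness not required). Then (1) there is a
map of complexes F• → N• compatible with M → N through the augmentations, and (2) any two such maps
are homotopic. -/
theorem result (R : Type u) [CommRing R] (M N : ModuleCat.{u} R) (g : M ⟶ N) (F Nc : ChainComplex (ModuleCat.{u} R) ℕ) (hF : ∀ i, Module.Free R (F.X i)) (εF : F ⟶ (ChainComplex.single₀ (ModuleCat.{u} R)).obj M) (εN : Nc ⟶ (ChainComplex.single₀ (ModuleCat.{u} R)).obj N) [QuasiIso εN] : (∃ φ : F ⟶ Nc, φ ≫ εN = εF ≫ (ChainComplex.single₀ (ModuleCat.{u} R)).map g) ∧ ∀ α β : F ⟶ Nc, α ≫ εN = εF ≫ (ChainComplex.single₀ (ModuleCat.{u} R)).map g → β ≫ εN = εF ≫ (ChainComplex.single₀ (ModuleCat.{u} R)).map g → Nonempty (Homotopy α β) := by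
  haveI : ∀ n, CategoryTheory.Projective (F.X n) := fun n => by
    haveI := hF n
    exact (IsProjective.iff_projective _).mp (Module.Projective.of_free)
  refine ⟨exists_lift εN _, fun α β hα hβ => ?_⟩
  obtain ⟨H⟩ := homotopic_zero εN (α - β) (by rw [Preadditive.sub_comp, hα, hβ, sub_self])
  exact ⟨Homotopy.equivSubZero.invFun H⟩

end Groth.Agent.S6322
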