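import Groth.Statements.S6324
import Mathlib.RingTheory.ReesAlgebra
import Mathlib.RingTheory.IntegralClosure.IsIntegralClosure.Basic
import Mathlib.Algebra.Polynomial.Eval.Coeff

set_option autoImplicit false
universe u
open CAlg

namespace Groth.Agent.S6324

/-- Let R → S be a ring map, I ⊆ R an ideal and A = Σ Iⁿtⁿ ⊆ R[t] the Rees algebra of I. For s ∈ S,
being integral over I is equivalent to s·t ∈ S[t] being integral over A (via A ⊆ R[t] → S[t]). -/
theorem result {R S : Type u} [CommRing R] [CommRing S] [Algebra R S] (I : Ideal R) (s : S) : W4stkalgebra1.IsIntegralOverIdeal I s ↔ ((Polynomial.mapRingHom (algebraMap R S)).comp (reesAlgebra I).val.toRingHom).IsIntegralElem (Polynomial.C s * Polynomial.X) := by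
  classical
  let F : reesAlgebra I →+* Polynomial S := (Polynomial.mapRingHom (algebraMap R S)).comp (reesAlgebra I).val.toRingHom
  let z : Polynomial S := Polynomial.C s * Polynomial.X
  have hF : ∀ (a : reesAlgebra I), F a = (a : Polynomial R).map (algebraMap R S) := fun a => rfl
  have hz : ∀ j : ℕ, z ^ j = Polynomial.C (s ^ j) * Polynomial.X ^ j := fun j => by
    rw [mul_pow, ← Polynomial.C_pow]
  constructor
  · rintro ⟨p, hp, hcoef, heval⟩
    let d := p.natDegree
    let a : ℕ → reesAlgebra I := fun j =>
      if hj : j < d then ⟨Polynomial.monomial (d - j) (p.coeff j), reesAlgebra.monomial_mem.mpr (hcoef j hj)⟩ else 0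
    let q : Polynomial (reesAlgebra I) := Polynomial.X ^ d + ∑ j : Fin d, Polynomial.C (a j) * Polynomial.X ^ (j : ℕ)
    refine ⟨q, Polynomial.monic_X_pow_add (Polynomial.degree_sum_fin_lt _), ?_⟩
    show Polynomial.eval₂ F z q = 0
    rw [show q = Polynomial.X ^ d + ∑ j : Fin d, Polynomial.C (a j) * Polynomial.X ^ (j : ℕ) from rfl,
      Polynomial.eval₂_add, Polynomial.eval₂_X_pow, Polynomial.eval₂_finsetSum, hz]
    have hterm : ∀ j : Fin d, Polynomial.eval₂ F z (Polynomial.C (a j) * Polynomial.X ^ (j : ℕ)) =
        Polynomial.C (algebraMap R S (p.coeff j) * s ^ (j : ℕ)) * Polynomial.X ^ d := by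
      intro j
      rw [Polynomial.eval₂_mul, Polynomial.eval₂_C, Polynomial.eval₂_X_pow, hz, hF]
      simp only [a, dif_pos j.2]
      rw [Polynomial.map_monomial, ← Polynomial.C_mul_X_pow_eq_monomial, Polynomial.C_mul,
        mul_mul_mul_comm, ← pow_add, Nat.sub_add_cancel j.2.le]
    rw [Finset.sum_congr rfl fun j _ => hterm j, ← Finset.sum_mul, ← map_sum, ← add_mul, ← map_add]
    rw [Polynomial.eval₂_eq_sum_range, Finset.sum_range_succ, hp.coeff_natDegree, map_one, one_mul, add_comm] at heval
    rw [Fin.sum_univ_eq_sum_range (fun j => algebraMap R S (p.coeff j) * s ^ j) d, heval, map_zero, zero_mul]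
  · rintro ⟨q, hq, heval⟩
    let d := q.natDegree
    let c : ℕ → R := fun j => (q.coeff j : Polynomial R).coeff (d - j)
    let p : Polynomial R := Polynomial.X ^ d + ∑ j : Fin d, Polynomial.C (c j) * Polynomial.X ^ (j : ℕ)
    rcases subsingleton_or_nontrivial R with hR | hR
    · haveI : Subsingleton S := (algebraMap R S).codomain_trivial
      exact ⟨1, Polynomial.monic_one, fun j hj => absurd hj (by simp), Subsingleton.elim _ _⟩
    have hpd : p.natDegree = d := by
      refine Polynomial.natDegree_eq_of_degree_eq_some ?_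
      rw [Polynomial.degree_add_eq_left_of_degree_lt] <;> rw [Polynomial.degree_X_pow]
      exact Polynomial.degree_sum_fin_lt _
    refine ⟨p, Polynomial.monic_X_pow_add (Polynomial.degree_sum_fin_lt _), ?_, ?_⟩
    · intro j hj
      rw [hpd] at hj ⊢
      have : p.coeff j = c j := by
        simp only [p, Polynomial.coeff_add, Polynomial.coeff_X_pow, if_neg hj.ne, zero_add, Polynomial.finsetSum_coeff,
          Polynomial.coeff_C_mul_X_pow]
        rw [Finset.sum_eq_single (⟨j, hj⟩ : Fin d) (fun i _ hi => if_neg fun h => hi (Fin.ext h.symm)) (fun h => absurd (Finset.mem_univ _) h)]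
        simp
      rw [this]
      exact (mem_reesAlgebra_iff I _).mp (q.coeff j).2 _
    · have h1 := congrArg (fun f : Polynomial S => f.coeff d) heval
      simp only [Polynomial.eval₂_eq_sum_range, Polynomial.finsetSum_coeff, Polynomial.coeff_zero] at h1
      have hterm : ∀ j ∈ Finset.range (d + 1), (F (q.coeff j) * z ^ j).coeff d = algebraMap R S (c j) * s ^ j := by
        intro j hj
        have hjd : j ≤ d := Nat.lt_succ_iff.mp (Finset.mem_range.mp hj)
        rw [hz, ← mul_assoc, mul_comm (F (q.coeff j)), mul_assoc, Polynomial.coeff_C_mul, Polynomial.coeff_mul_X_pow',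
          if_pos hjd, hF, Polynomial.coeff_map, mul_comm]
      change ∑ j ∈ Finset.range (d + 1), (F (q.coeff j) * z ^ j).coeff d = 0 at h1
      rw [Finset.sum_congr rfl hterm, Finset.sum_range_succ] at h1
      have hcd : c d = 1 := by
        simp only [c, Nat.sub_self]
        rw [hq.coeff_natDegree]
        exact Polynomial.coeff_one_zero
      rw [hcd, map_one, one_mul, add_comm, ← Fin.sum_univ_eq_sum_range (fun j => algebraMap R S (c j) * s ^ j) d] at h1
      simpa [p, Polynomial.eval₂_finsetSum] using h1

end Groth.Agent.S6324
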