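import Groth.Statements.S6325
import Groth.Agent.S6324
import Mathlib.RingTheory.IntegralClosure.IsIntegralClosure.Basic

set_option autoImplicit false
universe u
open CAlg

namespace Groth.Agent.S6325

/-- Let R → S be a ring map and I ⊆ R an ideal. The elements of S integral over I form an R-submodule of
S; moreover, the product s s' is integral over I for any s ∈ S integral over R and any s' ∈ S
integral over I. -/
theorem result {R S : Type u} [CommRing R] [CommRing S] [Algebra R S] (I : Ideal R) : (∃ N : Submodule R S, ∀ s : S, s ∈ N ↔ W4stkalgebra1.IsIntegralOverIdeal I s) ∧ (∀ s s' : S, IsIntegral R s → W4stkalgebra1.IsIntegralOverIdeal I s' → W4stkalgebra1.IsIntegralOverIdeal I (s * s')) := by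
  classical
  let F : reesAlgebra I →+* Polynomial S := (Polynomial.mapRingHom (algebraMap R S)).comp (reesAlgebra I).val.toRingHom
  have key : ∀ s : S, W4stkalgebra1.IsIntegralOverIdeal I s ↔ F.IsIntegralElem (Polynomial.C s * Polynomial.X) :=
    fun s => Groth.Agent.S6324.result I s
  refine ⟨⟨{ carrier := {s | F.IsIntegralElem (Polynomial.C s * Polynomial.X)}, zero_mem' := ?_, add_mem' := ?_, smul_mem' := ?_ },
    fun s => (key s).symm⟩, fun s s' hs hs' => ?_⟩
  · intro a b ha hb
    show F.IsIntegralElem _
    rw [Polynomial.C_add, add_mul]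
    exact RingHom.IsIntegralElem.add F ha hb
  · show F.IsIntegralElem _
    rw [Polynomial.C_0, zero_mul]
    exact RingHom.isIntegralElem_zero F
  · intro r a ha
    show F.IsIntegralElem _
    have hC : F (algebraMap R (reesAlgebra I) r) = Polynomial.C (algebraMap R S r) := Polynomial.map_C _
    rw [Algebra.smul_def, Polynomial.C_mul, mul_assoc]
    exact RingHom.IsIntegralElem.mul F (hC ▸ RingHom.isIntegralElem_map F) ha
  · rw [key] at hs' ⊢
    rw [Polynomial.C_mul, mul_assoc]
    refine RingHom.IsIntegralElem.mul F ?_ hs'
    obtain ⟨p, hp, he⟩ := hs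
    refine ⟨p.map (algebraMap R (reesAlgebra I)), hp.map _, ?_⟩
    show Polynomial.eval₂ F (Polynomial.C s) (p.map (algebraMap R (reesAlgebra I))) = 0
    rw [Polynomial.eval₂_map,
      show F.comp (algebraMap R (reesAlgebra I)) = (Polynomial.C : S →+* Polynomial S).comp (algebraMap R S) from
        RingHom.ext fun r => Polynomial.map_C _,
      ← Polynomial.hom_eval₂, he, map_zero]

end Groth.Agent.S6325
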