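import Groth.Statements.S6326
import Mathlib.Algebra.Category.ModuleCat.FilteredColimits
import Mathlib.Algebra.Category.ModuleCat.Colimits
import Mathlib.CategoryTheory.Limits.Types.Filtered
import Mathlib.CategoryTheory.Limits.ConcreteCategory.Basic
import Mathlib.RingTheory.Finiteness.Basic
import Mathlib.Algebra.Module.FinitePresentation
import Mathlib.CategoryTheory.Yoneda
import Mathlib.CategoryTheory.Limits.HasLimits

set_option autoImplicit false
universe u
open CategoryTheory CategoryTheory.Limits
open CAlg

namespace Groth.Agent.S6326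

section
open CategoryTheory CategoryTheory.Limits

variable {R : Type u} [CommRing R] (B : Type u) [AddCommGroup B] [Module R B] (K : Submodule R B)

/-- finitely generated submodules of `K` -/
abbrev Idx : Type u := {W : Submodule R B // W.FG ∧ W ≤ K}

theorem idx_filtered : IsFiltered (Idx B K) := by
  haveI : IsDirected (Idx B K) (· ≤ ·) :=
    ⟨fun a b => ⟨⟨a.1 ⊔ b.1, a.2.1.sup b.2.1, sup_le a.2.2 b.2.2⟩, Subtype.mk_le_mk.mpr le_sup_left, Subtype.mk_le_mk.mpr le_sup_right⟩⟩
  haveI : Nonempty (Idx B K) := ⟨⟨⊥, Submodule.fg_bot, bot_le⟩⟩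
  infer_instance

/-- the quotients -/
def diag : Idx B K ⥤ ModuleCat.{u} R where
  obj W := ModuleCat.of R (B ⧸ W.1)
  map {a b} h := ModuleCat.ofHom (Submodule.factor (show a.1 ≤ b.1 from leOfHom h))
  map_id a := ModuleCat.hom_ext (Submodule.linearMap_qext _ (LinearMap.ext fun x => rfl))
  map_comp f g := ModuleCat.hom_ext (Submodule.linearMap_qext _ (LinearMap.ext fun x => rfl))

/-- to the quotient by `K` -/
def cocone : Cocone (diag B K) where
  pt := ModuleCat.of R (B ⧸ K)
  ι := { app := fun W => ModuleCat.ofHom (Submodule.factor W.2.2), naturality := fun a b h => ModuleCat.hom_ext (Submodule.linearMap_qext _ (LinearMap.ext fun x => rfl)) }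

theorem desc_bijective :
    haveI := idx_filtered B K
    Function.Bijective (colimit.desc (diag B K) (cocone B K)) := by
  haveI := idx_filtered B K
  constructor
  · intro x y hxy
    rw [← sub_eq_zero] at hxy ⊢
    rw [← map_sub] at hxy
    generalize x - y = z at hxy ⊢
    obtain ⟨W, w, rfl⟩ := Concrete.colimit_exists_rep (diag B K) z
    obtain ⟨b, rfl⟩ := Submodule.Quotient.mk_surjective _ w
    rw [← ConcreteCategory.comp_apply, colimit.ι_desc] at hxy
    have hb : b ∈ K := (Submodule.Quotient.mk_eq_zero K).mp hxy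
    let W' : Idx B K := ⟨W.1 ⊔ Submodule.span R {b}, W.2.1.sup (Submodule.fg_span_singleton b),
      sup_le W.2.2 ((Submodule.span_singleton_le_iff_mem b K).mpr hb)⟩
    have hle : W ≤ W' := Subtype.mk_le_mk.mpr le_sup_left
    rw [← colimit.w (diag B K) (homOfLE hle), ConcreteCategory.comp_apply,
      show (diag B K).map (homOfLE hle) (Submodule.Quotient.mk b) = 0 from
        (Submodule.Quotient.mk_eq_zero W'.1).mpr (Submodule.mem_sup_right (Submodule.mem_span_singleton_self b)), map_zero]
  · intro q
    obtain ⟨b, rfl⟩ := Submodule.Quotient.mk_surjective _ q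
    exact ⟨colimit.ι (diag B K) ⟨⊥, Submodule.fg_bot, bot_le⟩ (Submodule.Quotient.mk b), by
      rw [← ConcreteCategory.comp_apply, colimit.ι_desc]; rfl⟩

end


/-- Let R be a ring and N an R-module such that whenever M is the colimit of a filtered diagram (Mᵢ) of
R-modules (indexed by a filtered category in the same universe), the comparison map colim Hom_R(N,
Mᵢ) → Hom_R(N, M) is injective. Then N is finitely generated. (The implication from finite
generation back to this injectivity also holds; only the characterizing direction is stated here.) -/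
theorem result (R : Type u) [CommRing R] (N : Type u) [AddCommGroup N] [Module R N] (h : ∀ (J : Type u) [SmallCategory J] [IsFiltered J] (F : J ⥤ ModuleCat.{u} R), Function.Injective (colimit.post F (coyoneda.obj (Opposite.op (ModuleCat.of R N))))) : Module.Finite R N := by
  haveI := idx_filtered N (⊤ : Submodule R N)
  let G := diag N (⊤ : Submodule R N)
  let P := coyoneda.obj (Opposite.op (ModuleCat.of R N))
  let W₀ : Idx N (⊤ : Submodule R N) := ⟨⊥, Submodule.fg_bot, bot_le⟩
  let f : ModuleCat.of R N ⟶ G.obj W₀ := ModuleCat.ofHom (⊥ : Submodule R N).mkQ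
  have hz : ∀ x y : (colimit G : ModuleCat.{u} R), x = y := fun x y =>
    (desc_bijective N (⊤ : Submodule R N)).1 (haveI : Subsingleton (N ⧸ (⊤ : Submodule R N)) := Submodule.Quotient.subsingleton_iff.mpr rfl
      Subsingleton.elim (α := N ⧸ (⊤ : Submodule R N)) _ _)
  have heq : colimit.ι (G ⋙ P) W₀ f = colimit.ι (G ⋙ P) W₀ (0 : ModuleCat.of R N ⟶ G.obj W₀) := by
    apply h (Idx N (⊤ : Submodule R N)) G
    rw [← ConcreteCategory.comp_apply, ← ConcreteCategory.comp_apply, colimit.ι_post]
    exact ModuleCat.hom_ext (LinearMap.ext fun n => hz _ _)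
  obtain ⟨W, a, b, hab⟩ := (Types.FilteredColimit.colimit_eq_iff (G ⋙ P)).mp heq
  refine ⟨?_⟩
  have htop : W.1 = ⊤ := by
    rw [eq_top_iff]
    intro n _
    have h1 : (f ≫ G.map a).hom n = ((0 : ModuleCat.of R N ⟶ G.obj W₀) ≫ G.map b).hom n :=
      congrArg (fun g : ModuleCat.of R N ⟶ G.obj W => g.hom n) hab
    have h2 : (Submodule.Quotient.mk n : N ⧸ W.1) = 0 := h1.trans (map_zero (G.map b).hom)
    exact (Submodule.Quotient.mk_eq_zero _).mp h2
  exact htop ▸ W.2.1

end Groth.Agent.S6326
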