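import Groth.Statements.S6327
import Mathlib.Algebra.Category.ModuleCat.FilteredColimits
import Mathlib.Algebra.Category.ModuleCat.Colimits
import Mathlib.CategoryTheory.Limits.Types.Filtered
import Mathlib.CategoryTheory.Limits.ConcreteCategory.Basic
import Mathlib.RingTheory.Finiteness.Basic
import Mathlib.Algebra.Module.FinitePresentation
import Mathlib.CategoryTheory.Yoneda
import Mathlib.CategoryTheory.Limits.HasLimits
import Groth.Agent.S6326

set_option autoImplicit false
universe u
open CategoryTheory CategoryTheory.Limits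
open CAlg

namespace Groth.Agent.S6327

section
open CategoryTheory CategoryTheory.Limits

variable {R : Type u} [CommRing R] (B : Type u) [AddCommGroup B] [Module R B] (K : Submodule R B)

/-- finitely generated submodules of `K` -/
abbrev Idx : Type u := {W : Submodule R B // W.FG ∧ W ≤ K}

theorem idx_filtered : IsFiltered (Idx B K) := by
  haveI : IsDirected (Idx B K) (· ≤ ·) :=
    ⟨fun a b => ⟨⟨a.1 ⊔ b.1, a.2.1.sup b.2.1, sup_le a.2.2 b.2.2⟩, Subtype.mk_le_mk.mpr le_sup_left, Subtype.mk_le_mk.mpr le_sup_right⟩⟩
  haveI : Nonempty (Idx B K) := ⟨⟨⊥, Submodule.fg_bot, bot_le⟩⟩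
  infer_instance

/-- the quotients -/
def diag : Idx B K ⥤ ModuleCat.{u} R where
  obj W := ModuleCat.of R (B ⧸ W.1)
  map {a b} h := ModuleCat.ofHom (Submodule.factor (show a.1 ≤ b.1 from leOfHom h))
  map_id a := ModuleCat.hom_ext (Submodule.linearMap_qext _ (LinearMap.ext fun x => rfl))
  map_comp f g := ModuleCat.hom_ext (Submodule.linearMap_qext _ (LinearMap.ext fun x => rfl))

/-- to the quotient by `K` -/
def cocone : Cocone (diag B K) where
  pt := ModuleCat.of R (B ⧸ K)
  ι := { app := fun W => ModuleCat.ofHom (Submodule.factor W.2.2), naturality := fun a b h => ModuleCat.hom_ext (Submodule.linearMap_qext _ (LinearMap.ext fun x => rfl)) }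

theorem desc_bijective :
    haveI := idx_filtered B K
    Function.Bijective (colimit.desc (diag B K) (cocone B K)) := by
  haveI := idx_filtered B K
  constructor
  · intro x y hxy
    rw [← sub_eq_zero] at hxy ⊢
    rw [← map_sub] at hxy
    generalize x - y = z at hxy ⊢
    obtain ⟨W, w, rfl⟩ := Concrete.colimit_exists_rep (diag B K) z
    obtain ⟨b, rfl⟩ := Submodule.Quotient.mk_surjective _ w
    rw [← ConcreteCategory.comp_apply, colimit.ι_desc] at hxy
    have hb : b ∈ K := (Submodule.Quotient.mk_eq_zero K).mp hxy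
    let W' : Idx B K := ⟨W.1 ⊔ Submodule.span R {b}, W.2.1.sup (Submodule.fg_span_singleton b),
      sup_le W.2.2 ((Submodule.span_singleton_le_iff_mem b K).mpr hb)⟩
    have hle : W ≤ W' := Subtype.mk_le_mk.mpr le_sup_left
    rw [← colimit.w (diag B K) (homOfLE hle), ConcreteCategory.comp_apply,
      show (diag B K).map (homOfLE hle) (Submodule.Quotient.mk b) = 0 from
        (Submodule.Quotient.mk_eq_zero W'.1).mpr (Submodule.mem_sup_right (Submodule.mem_span_singleton_self b)), map_zero]
  · intro q
    obtain ⟨b, rfl⟩ := Submodule.Quotient.mk_surjective _ q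
    exact ⟨colimit.ι (diag B K) ⟨⊥, Submodule.fg_bot, bot_le⟩ (Submodule.Quotient.mk b), by
      rw [← ConcreteCategory.comp_apply, colimit.ι_desc]; rfl⟩

end


/-- Let R be a ring and N an R-module such that whenever M is the colimit of a filtered diagram (Mᵢ) of
R-modules (indexed by a filtered category in the same universe), the comparison map colim Hom_R(N,
Mᵢ) → Hom_R(N, M) is bijective. Then N is finitely presented. (The implication from finite
presentation back to this bijectivity also holds; only the characterizing direction is stated here.) -/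
theorem result (R : Type u) [CommRing R] (N : Type u) [AddCommGroup N] [Module R N] (h : ∀ (J : Type u) [SmallCategory J] [IsFiltered J] (F : J ⥤ ModuleCat.{u} R), Function.Bijective (colimit.post F (coyoneda.obj (Opposite.op (ModuleCat.of R N))))) : Module.FinitePresentation R N := by
  haveI : Module.Finite R N := Groth.Agent.S6326.result R N fun J _ _ F => (h J F).1
  obtain ⟨n, π, hπ⟩ := Module.Finite.exists_fin' R N
  let K := LinearMap.ker π
  haveI := idx_filtered (Fin n → R) K
  let G := diag (Fin n → R) K
  let e : ((Fin n → R) ⧸ K) ≃ₗ[R] N := π.quotKerEquivOfSurjective hπ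
  let D := LinearEquiv.ofBijective (colimit.desc G (cocone (Fin n → R) K)).hom (desc_bijective (Fin n → R) K)
  let j : ModuleCat.of R N ⟶ colimit G := ModuleCat.ofHom (D.symm.toLinearMap ∘ₗ e.symm.toLinearMap)
  obtain ⟨x, hx⟩ := (h (Idx (Fin n → R) K) G).2 j
  obtain ⟨W, s, rfl⟩ := Types.jointly_surjective_of_isColimit (colimit.isColimit (G ⋙ coyoneda.obj (Opposite.op (ModuleCat.of R N)))) x
  have hs : s ≫ colimit.ι G W = j := by
    rw [← hx]
    rw [show (colimit.cocone (G ⋙ coyoneda.obj (Opposite.op (ModuleCat.of R N)))).ι.app W = colimit.ι _ W from rfl,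
      ← ConcreteCategory.comp_apply, colimit.ι_post]
    rfl
  let p : ((Fin n → R) ⧸ W.1) →ₗ[R] N := e.toLinearMap ∘ₗ Submodule.factor W.2.2
  let sm : ModuleCat.of R N ⟶ G.obj W := s
  let s' : N →ₗ[R] ((Fin n → R) ⧸ W.1) := sm.hom
  have hps : ∀ y, p (s' y) = y := by
    intro y
    have h1 : (colimit.ι G W ≫ colimit.desc G (cocone (Fin n → R) K)) (sm y) = D (j y) := by
      rw [← hs]; rfl
    rw [colimit.ι_desc] at h1
    show e (Submodule.factor W.2.2 (sm y)) = y
    rw [show Submodule.factor W.2.2 (sm y) = D (j y) from h1,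
      show j y = D.symm (e.symm y) from rfl, D.apply_symm_apply, e.apply_symm_apply]
  haveI : Module.FinitePresentation R ((Fin n → R) ⧸ W.1) :=
    Module.finitePresentation_of_surjective W.1.mkQ W.1.mkQ_surjective (by rw [Submodule.ker_mkQ]; exact W.2.1)
  refine Module.finitePresentation_of_surjective p (fun y => ⟨s' y, hps y⟩) ?_
  have hk : LinearMap.ker p = LinearMap.range (LinearMap.id - s' ∘ₗ p) := by
    refine le_antisymm (fun z hz => ⟨z, by simp [LinearMap.mem_ker.mp hz]⟩) ?_
    rintro _ ⟨z, rfl⟩
    simp [hps]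
  rw [hk, LinearMap.range_eq_map]
  exact Module.Finite.fg_top.map _

end Groth.Agent.S6327
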