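import Groth.Statements.S6328
import Mathlib.Algebra.Colimit.Module
import Mathlib.Algebra.Module.FinitePresentation
import Mathlib.LinearAlgebra.Finsupp.Defs
import Mathlib.LinearAlgebra.Finsupp.LinearCombination
import Mathlib.LinearAlgebra.Quotient.Basic
import Mathlib.LinearAlgebra.Isomorphisms
import Mathlib.RingTheory.Finiteness.Finsupp

set_option autoImplicit false
universe u
open CAlg

namespace Groth.Agent.S6328

section

variable (R : Type u) [CommRing R] (M : Type u) [AddCommGroup M] [Module R M]

/-- generators and relations -/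
structure Stage where
  /-- generators -/
  s : Finset M
  /-- relations -/
  W : Submodule R (M →₀ R)
  fg : W.FG
  le_ker : W ≤ LinearMap.ker (Finsupp.linearCombination R (id : M → M))
  le_supp : W ≤ LinearMap.range (Finsupp.lmapDomain R R (Subtype.val : ↥(s : Set M) → M))

instance : Preorder (Stage R M) where
  le a b := a.s ⊆ b.s ∧ a.W ≤ b.W
  le_refl a := ⟨Finset.Subset.refl _, le_rfl⟩
  le_trans a b c h h' := ⟨h.1.trans h'.1, h.2.trans h'.2⟩

/-- the free module -/
abbrev F (i : Stage R M) : Type u := ↥(i.s : Set M) →₀ R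

/-- inclusion -/
noncomputable abbrev inc (i : Stage R M) : F R M i →ₗ[R] (M →₀ R) := Finsupp.lmapDomain R R Subtype.val

/-- inclusion between stages -/
noncomputable abbrev incF (i j : Stage R M) (h : i ≤ j) : F R M i →ₗ[R] F R M j :=
  Finsupp.lmapDomain R R (Set.inclusion (Finset.coe_subset.mpr h.1))

theorem inc_incF (i j : Stage R M) (h : i ≤ j) (x : F R M i) : inc R M j (incF R M i j h x) = inc R M i x := by
  show Finsupp.mapDomain Subtype.val (Finsupp.mapDomain _ x) = Finsupp.mapDomain Subtype.val x
  rw [← Finsupp.mapDomain_comp]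
  rfl

open Classical in
theorem stage_directed : IsDirected (Stage R M) (· ≤ ·) := by
  refine ⟨fun a b => ?_⟩
  have hsub : ∀ (s t : Finset M), s ⊆ t → LinearMap.range (Finsupp.lmapDomain R R (Subtype.val : ↥(s : Set M) → M)) ≤
      LinearMap.range (Finsupp.lmapDomain R R (Subtype.val : ↥(t : Set M) → M)) := by
    rintro s t h _ ⟨x, rfl⟩
    refine ⟨Finsupp.mapDomain (Set.inclusion (Finset.coe_subset.mpr h)) x, ?_⟩
    show Finsupp.mapDomain Subtype.val (Finsupp.mapDomain _ x) = Finsupp.mapDomain Subtype.val x
    rw [← Finsupp.mapDomain_comp]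
    rfl
  exact ⟨⟨a.s ∪ b.s, a.W ⊔ b.W, a.fg.sup b.fg, sup_le a.le_ker b.le_ker,
    sup_le (a.le_supp.trans (hsub _ _ Finset.subset_union_left)) (b.le_supp.trans (hsub _ _ Finset.subset_union_right))⟩,
    ⟨Finset.subset_union_left, le_sup_left⟩, ⟨Finset.subset_union_right, le_sup_right⟩⟩

/-- the module of a stage -/
abbrev Mod (i : Stage R M) : Type u := F R M i ⧸ i.W.comap (inc R M i)

/-- transition -/
noncomputable def trans (i j : Stage R M) (h : i ≤ j) : Mod R M i →ₗ[R] Mod R M j :=
  Submodule.mapQ _ _ (incF R M i j h) fun x hx => by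
    show inc R M j (incF R M i j h x) ∈ j.W
    rw [inc_incF]
    exact h.2 hx

theorem trans_system : DirectedSystem (Mod R M) fun i j h => trans R M i j h where
  map_self i x := by
    obtain ⟨x, rfl⟩ := Submodule.Quotient.mk_surjective _ x
    show Submodule.Quotient.mk (Finsupp.mapDomain id x) = Submodule.Quotient.mk x
    rw [Finsupp.mapDomain_id]
  map_map i j k hij hjk x := by
    obtain ⟨x, rfl⟩ := Submodule.Quotient.mk_surjective _ x
    show Submodule.Quotient.mk (Finsupp.mapDomain _ (Finsupp.mapDomain _ x)) = Submodule.Quotient.mk (Finsupp.mapDomain _ x)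
    rw [← Finsupp.mapDomain_comp]
    rfl

/-- to `M` -/
noncomputable def toM (i : Stage R M) : Mod R M i →ₗ[R] M :=
  Submodule.liftQ _ (Finsupp.linearCombination R (id : M → M) ∘ₗ inc R M i) fun _ hx => i.le_ker hx

theorem stage_fp (i : Stage R M) : Module.FinitePresentation R (Mod R M i) := by
  haveI : Finite ↥(i.s : Set M) := i.s.finite_toSet.to_subtype
  refine Module.finitePresentation_of_surjective (Submodule.mkQ _) (Submodule.mkQ_surjective _) ?_
  rw [Submodule.ker_mkQ]
  refine Submodule.fg_of_fg_map_injective (inc R M i) (Finsupp.mapDomain_injective Subtype.val_injective) ?_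
  rw [Submodule.map_comap_eq, inf_eq_right.mpr i.le_supp]
  exact i.fg

end


/-- Every module M over a ring R can be written as the direct limit of a directed system (Mᵢ, μᵢⱼ) of
finitely presented R-modules. -/
theorem result (R : Type u) [CommRing R] (M : Type u) [AddCommGroup M] [Module R M] : ∃ (ι : Type u) (_ : Preorder ι) (_ : IsDirected ι (· ≤ ·)) (_ : Nonempty ι) (_ : DecidableEq ι) (G : ι → Type u) (_ : ∀ i, AddCommGroup (G i)) (_ : ∀ i, Module R (G i)) (f : ∀ i j, i ≤ j → G i →ₗ[R] G j) (_ : DirectedSystem G fun i j h => f i j h), (∀ i, Module.FinitePresentation R (G i)) ∧ Nonempty (Module.DirectLimit G f ≃ₗ[R] M) := by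
  classical
  haveI := stage_directed R M
  haveI : DirectedSystem (Mod R M) fun i j h => trans R M i j h := trans_system R M
  haveI : Nonempty (Stage R M) := ⟨⟨∅, ⊥, Submodule.fg_bot, bot_le, bot_le⟩⟩
  let L : Module.DirectLimit (Mod R M) (trans R M) →ₗ[R] M :=
    Module.DirectLimit.lift R (Stage R M) _ _ (toM R M) fun i j hij x => by
      obtain ⟨x, rfl⟩ := Submodule.Quotient.mk_surjective _ x
      show Finsupp.linearCombination R (id : M → M) (inc R M j (incF R M i j hij x)) = Finsupp.linearCombination R (id : M → M) (inc R M i x)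
      rw [inc_incF]
  have hL : Function.Bijective L := by
    constructor
    · intro u v huv
      obtain ⟨i, a, b, rfl, rfl⟩ := Module.DirectLimit.exists_of₂ u v
      obtain ⟨a, rfl⟩ := Submodule.Quotient.mk_surjective _ a
      obtain ⟨b, rfl⟩ := Submodule.Quotient.mk_surjective _ b
      rw [Module.DirectLimit.lift_of, Module.DirectLimit.lift_of] at huv
      let x := a - b
      have hz : toM R M i (Submodule.Quotient.mk x) = 0 := by
        rw [Submodule.Quotient.mk_sub, map_sub, huv, sub_self]
      let j : Stage R M := ⟨i.s, i.W ⊔ Submodule.span R {inc R M i x}, i.fg.sup (Submodule.fg_span_singleton _),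
        sup_le i.le_ker ((Submodule.span_singleton_le_iff_mem _ _).mpr hz),
        sup_le i.le_supp ((Submodule.span_singleton_le_iff_mem _ _).mpr ⟨x, rfl⟩)⟩
      have hij : i ≤ j := ⟨Finset.Subset.refl _, le_sup_left⟩
      have h0 : trans R M i j hij (Submodule.Quotient.mk x) = 0 := by
        refine (Submodule.Quotient.mk_eq_zero _).mpr ?_
        show inc R M j (incF R M i j hij x) ∈ j.W
        rw [inc_incF]
        exact Submodule.mem_sup_right (Submodule.mem_span_singleton_self _)
      rw [Submodule.Quotient.mk_sub, map_sub, sub_eq_zero] at h0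
      exact (Module.DirectLimit.of_f (f := trans R M) (hij := hij)).symm.trans ((congrArg _ h0).trans (Module.DirectLimit.of_f (f := trans R M) (hij := hij)))
    · intro m
      let i : Stage R M := ⟨{m}, ⊥, Submodule.fg_bot, bot_le, bot_le⟩
      refine ⟨Module.DirectLimit.of R (Stage R M) (Mod R M) (trans R M) i
        (Submodule.Quotient.mk (Finsupp.single ⟨m, by simp [i]⟩ 1)), ?_⟩
      rw [Module.DirectLimit.lift_of]
      show Finsupp.linearCombination R (id : M → M) (Finsupp.mapDomain Subtype.val (Finsupp.single _ 1)) = m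
      rw [Finsupp.mapDomain_single]
      simp
  exact ⟨Stage R M, inferInstance, inferInstance, inferInstance, Classical.decEq _, Mod R M, inferInstance, inferInstance,
    trans R M, inferInstance, stage_fp R M, ⟨LinearEquiv.ofBijective L hL⟩⟩

end Groth.Agent.S6328
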