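import Groth.Statements.S6329
import Groth.Agent.L03.LengthSum
import Mathlib.RingTheory.Ideal.Colon
import Mathlib.Algebra.BigOperators.Fin

set_option autoImplicit false
universe u
open CAlg

namespace Groth.Agent.S6329

/-- Let R be a ring, M an R-module and 0 = M₀ ⊂ M₁ ⊂ … ⊂ Mₙ = M a maximal chain of submodules (a
composition series; each Mᵢ/Mᵢ₋₁ is simple, of the form R/mᵢ with mᵢ = (Mᵢ₋₁ : Mᵢ) maximal). Then
for every maximal ideal m of R the number of indices i with mᵢ = m equals length_{R_m}(M_m). -/
theorem result {R : Type u} [CommRing R] (M : Type u) [AddCommGroup M] [Module R M] (s : CompositionSeries (Submodule R M)) (h0 : s.head = ⊥) (h1 : s.last = ⊤) (m : Ideal R) [m.IsMaximal] : ((Finset.univ.filter fun i : Fin s.length => (s i.castSucc).colon (s i.succ : Set M) = m).card : ℕ∞) = Module.length (Localization.AtPrime m) (LocalizedModule m.primeCompl M) := by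
  classical
  let mm : MaximalSpectrum R := ⟨m, inferInstance⟩
  let f : Fin (s.length + 1) → ℕ∞ := fun j => Groth.L03.LengthSum.lloc mm ↥(s j)
  let ind : Fin s.length → ℕ∞ := fun i => if (s i.castSucc).colon (s i.succ : Set M) = m then 1 else 0
  have hstep : ∀ i : Fin s.length, f i.succ = f i.castSucc + ind i := by
    intro i
    have hlt : s i.castSucc ⋖ s i.succ := s.step i
    let N : Submodule R (s i.succ) := Submodule.comap (s i.succ).subtype (s i.castSucc)
    have hsimp : IsSimpleModule R (↥(s i.succ) ⧸ N) := (covBy_iff_quot_is_simple hlt.le).mp hlt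
    obtain ⟨J, hJ, ⟨e⟩⟩ := isSimpleModule_iff_quot_maximal.1 hsimp
    have hcolon : (s i.castSucc).colon (s i.succ : Set M) = J := by
      ext r
      rw [Submodule.mem_colon]
      constructor
      · intro h
        obtain ⟨q, hq⟩ := e.surjective (Ideal.Quotient.mk J 1)
        obtain ⟨⟨y, hy⟩, rfl⟩ := Submodule.Quotient.mk_surjective _ q
        have h0 : r • (Submodule.Quotient.mk ⟨y, hy⟩ : ↥(s i.succ) ⧸ N) = 0 := by
          rw [← Submodule.Quotient.mk_smul, Submodule.Quotient.mk_eq_zero]
          exact h y hy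
        have h2 := congrArg e h0
        rw [map_smul, hq, map_zero] at h2
        have h3 : Ideal.Quotient.mk J (r * 1) = 0 := h2
        rwa [mul_one, Ideal.Quotient.eq_zero_iff_mem] at h3
      · intro h y hy
        have h0 : r • e (Submodule.Quotient.mk ⟨y, hy⟩) = 0 := by
          obtain ⟨b, hb⟩ := Ideal.Quotient.mk_surjective (e (Submodule.Quotient.mk ⟨y, hy⟩))
          rw [← hb]
          exact Ideal.Quotient.eq_zero_iff_mem.2 (J.mul_mem_right b h)
        rw [← map_smul, LinearEquiv.map_eq_zero_iff, ← Submodule.Quotient.mk_smul,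
          Submodule.Quotient.mk_eq_zero] at h0
        exact h0
    have h1 : Groth.L03.LengthSum.lloc mm (↥(s i.succ) ⧸ N) = ind i := by
      rw [Groth.L03.LengthSum.lloc_congr mm e]
      simp only [ind]
      rw [hcolon]
      split_ifs with h
      · subst h
        exact Groth.L03.LengthSum.lloc_quot_self mm
      · exact Groth.L03.LengthSum.lloc_quot_ne (m₀ := ⟨J, hJ⟩) fun h' => h (congrArg MaximalSpectrum.asIdeal h').symm
    show Groth.L03.LengthSum.lloc mm ↥(s i.succ) = Groth.L03.LengthSum.lloc mm ↥(s i.castSucc) + ind i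
    rw [Groth.L03.LengthSum.lloc_add mm N, h1,
      Groth.L03.LengthSum.lloc_congr mm (Submodule.comapSubtypeEquivOfLe hlt.le)]
  have key : ∀ (n : ℕ) (f : Fin (n + 1) → ℕ∞) (g : Fin n → ℕ∞),
      (∀ i, f i.succ = f i.castSucc + g i) → f (Fin.last n) = f 0 + ∑ i, g i := by
    intro n
    induction n with
    | zero => intro f g _; simp
    | succ n ih =>
      intro f g h
      rw [Fin.sum_univ_castSucc, ← Fin.succ_last, h, ← add_assoc]
      congr 1
      exact ih (fun j => f j.castSucc) (fun i => g i.castSucc) fun i => by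
        rw [← h i.castSucc]; rfl
  have h := key s.length f ind hstep
  have hlast : f (Fin.last s.length) = Groth.L03.LengthSum.lloc mm M := by
    show Groth.L03.LengthSum.lloc mm ↥s.last = _
    rw [h1]
    exact Groth.L03.LengthSum.lloc_congr mm Submodule.topEquiv
  have hhead : f 0 = 0 := by
    show Groth.L03.LengthSum.lloc mm ↥s.head = _
    rw [h0]
    exact Groth.L03.LengthSum.lloc_subsingleton mm _
  rw [hlast, hhead, zero_add] at h
  show _ = Groth.L03.LengthSum.lloc mm M
  rw [h, ← Finset.sum_boole]

end Groth.Agent.S6329
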