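import Groth.Statements.S6330
import Mathlib.RingTheory.Support
import Mathlib.RingTheory.LocalRing.Module
import Mathlib.Algebra.Module.LocalizedModule.Exact
import Mathlib.LinearAlgebra.TensorProduct.RightExactness
import Mathlib.RingTheory.Spectrum.Prime.Topology
import Groth.Agent.S6308
import Mathlib.RingTheory.Localization.Module
import Mathlib.RingTheory.TensorProduct.Free
import Mathlib.RingTheory.Flat.Basic
import Mathlib.Algebra.Module.LocalizedModule.Submodule

set_option autoImplicit false
universe u
open scoped TensorProduct
open CAlg

namespace Groth.Agent.S6330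

/-- Let R be a ring and φ : P₁ → P₂ a map of finite projective R-modules. The set W of primes p of R
such that φ ⊗ κ(p) is surjective is open, and for every f ∈ R with D(f) ⊆ W the map (P₁)_f → (P₂)_f
is surjective and Ker(φ)_f is a finite projective module over R_f. -/
theorem result {R : Type u} [CommRing R] {P₁ P₂ : Type u} [AddCommGroup P₁] [Module R P₁] [AddCommGroup P₂] [Module R P₂] [Module.Finite R P₁] [Module.Projective R P₁] [Module.Finite R P₂] [Module.Projective R P₂] (φ : P₁ →ₗ[R] P₂) : IsOpen {p : PrimeSpectrum R | Function.Surjective (φ.lTensor p.asIdeal.ResidueField)} ∧ ∀ f : R, (↑(PrimeSpectrum.basicOpen f) : Set (PrimeSpectrum R)) ⊆ {p : PrimeSpectrum R | Function.Surjective (φ.lTensor p.asIdeal.ResidueField)} → Function.Surjective (LocalizedModule.map (Submonoid.powers f) φ) ∧ Module.Finite (Localization.Away f) (LocalizedModule (Submonoid.powers f) (LinearMap.ker φ)) ∧ Module.Projective (Localization.Away f) (LocalizedModule (Submonoid.powers f) (LinearMap.ker φ)) := by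
  have h8 := Groth.Agent.S6308.result φ
  have hW : {p : PrimeSpectrum R | Function.Surjective (φ.lTensor p.asIdeal.ResidueField)} =
      {p : PrimeSpectrum R | Function.Surjective (LocalizedModule.map p.asIdeal.primeCompl φ)} :=
    Set.ext fun p => (h8.1 p).symm
  refine ⟨hW ▸ h8.2.1, fun f hf => ?_⟩
  rw [hW] at hf
  have hs := h8.2.2 f hf
  let A := Localization.Away f
  let S := Submonoid.powers f
  haveI : Module.Projective A (LocalizedModule S P₁) :=
    Module.Projective.of_equiv (LocalizedModule.equivTensorProduct S P₁).symm
  haveI : Module.Projective A (LocalizedModule S P₂) :=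
    Module.Projective.of_equiv (LocalizedModule.equivTensorProduct S P₂).symm
  haveI : Module.Finite A (LocalizedModule S P₁) :=
    Module.Finite.equiv (LocalizedModule.equivTensorProduct S P₁).symm
  obtain ⟨s, hs'⟩ := Module.projective_lifting_property (LocalizedModule.map S φ) LinearMap.id hs
  let i := LocalizedModule.map S (LinearMap.ker φ).subtype
  have hi : Function.Injective i := LocalizedModule.map_injective S _ Subtype.val_injective
  have hex : Function.Exact i (LocalizedModule.map S φ) :=
    LocalizedModule.map_exact S (LinearMap.ker φ).subtype φ (LinearMap.exact_subtype_ker_map φ)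
  let δ : LocalizedModule S P₁ →ₗ[Localization S] LocalizedModule S P₁ := LinearMap.id - s ∘ₗ LocalizedModule.map S φ
  have hmem : ∀ x, δ x ∈ LinearMap.range i := fun x => by
    refine (hex _).mp ?_
    show LocalizedModule.map S φ (δ x) = 0
    have := LinearMap.congr_fun hs' (LocalizedModule.map S φ x)
    simp only [δ, LinearMap.sub_apply, LinearMap.id_apply, LinearMap.comp_apply] at this ⊢
    rw [map_sub, this, sub_self]
  let r := (LinearEquiv.ofInjective i hi).symm.toLinearMap ∘ₗ δ.codRestrict _ hmem
  have hr : r ∘ₗ i = LinearMap.id := LinearMap.ext fun x => by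
    apply hi
    have h1 : i (r (i x)) = δ (i x) :=
      congrArg Subtype.val ((LinearEquiv.ofInjective i hi).apply_symm_apply ⟨_, hmem (i x)⟩)
    rw [LinearMap.comp_apply, h1]
    show (LinearMap.id - s ∘ₗ LocalizedModule.map S φ : LocalizedModule S P₁ →ₗ[Localization S] LocalizedModule S P₁) (i x) = i x
    rw [LinearMap.sub_apply, LinearMap.comp_apply, hex.apply_apply_eq_zero, map_zero, sub_zero]
    rfl
  exact ⟨hs, Module.Finite.of_surjective r fun x => ⟨i x, LinearMap.congr_fun hr x⟩, Module.Projective.of_split i r hr⟩

end Groth.Agent.S6330
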