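import Groth.Statements.S6331
import Mathlib.Dynamics.Newton
import Mathlib.Algebra.Polynomial.Identities
import Mathlib.Algebra.Polynomial.RingDivision
import Mathlib.RingTheory.Polynomial.Basic
import Mathlib.RingTheory.Nilpotent.Lemmas
import Mathlib.RingTheory.Ideal.Quotient.Nilpotent

set_option autoImplicit false
universe u
open CAlg

namespace Groth.Agent.S6331

/-- Let R be a ring, I ⊆ R an ideal all of whose elements are nilpotent, and n ≥ 1 an integer whose
image in R/I is invertible. Then (1) raising to the n-th power is a bijection of the subset 1 + I of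
R onto itself: for every y ∈ I there is exactly one x ∈ I with (1 + x)ⁿ = 1 + y; (2) a unit u of R
has an n-th root in R exactly when the residue class of u has an n-th root in R/I. -/
theorem result {R : Type u} [CommRing R] (I : Ideal R) (hI : ∀ x ∈ I, IsNilpotent x) (n : ℕ) (hn : 1 ≤ n) (hinv : IsUnit ((n : ℕ) : R ⧸ I)) : (∀ y ∈ I, ∃! x : R, x ∈ I ∧ (1 + x) ^ n = 1 + y) ∧ (∀ u : Rˣ, (∃ v : R, v ^ n = (u : R)) ↔ ∃ w : R ⧸ I, w ^ n = Ideal.Quotient.mk I (u : R)) := by
  obtain ⟨k, hk⟩ := Ideal.Quotient.mk_surjective (↑hinv.unit⁻¹ : R ⧸ I)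
  have hunit : ∀ a : R, Ideal.Quotient.mk I a = (n : R ⧸ I) → IsUnit a := fun a ha => by
    have h1 : a * k - 1 ∈ I := Ideal.Quotient.eq.1 (by rw [map_mul, ha, hk, hinv.mul_val_inv, map_one])
    have h2 : IsUnit (a * k) := by
      have := (hI _ h1).isUnit_one_add
      rwa [add_sub_cancel] at this
    exact isUnit_of_mul_isUnit_left h2
  have huniq : ∀ a b : R, a ∈ I → b ∈ I → (1 + a) ^ n = (1 + b) ^ n → a = b := by
    intro a b ha hb hab
    have h1 := geom_sum₂_mul (1 + a) (1 + b) n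
    rw [hab, sub_self] at h1
    have h2 : IsUnit (∑ i ∈ Finset.range n, (1 + a) ^ i * (1 + b) ^ (n - 1 - i)) := hunit _ (by
      simp [map_sum, Ideal.Quotient.eq_zero_iff_mem.2 ha, Ideal.Quotient.eq_zero_iff_mem.2 hb])
    have h3 := h2.mul_right_eq_zero.1 h1
    linear_combination h3
  have hn' : IsUnit (n : R) := hunit _ (map_natCast _ n)
  have hex : ∀ y ∈ I, ∃! x : R, x ∈ I ∧ (1 + x) ^ n = 1 + y := by
    intro y hy
    obtain ⟨r, ⟨hr1, hr2⟩, -⟩ := Polynomial.existsUnique_nilpotent_sub_and_aeval_eq_zero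
      (P := (Polynomial.X ^ n - Polynomial.C (1 + y) : Polynomial R)) (x := (1 : R))
      (by simpa using hI y hy) (by simpa [Polynomial.derivative_X_pow] using hn')
    have hr : r ^ n = 1 + y := sub_eq_zero.1 (by simpa using hr2)
    have hrI : r - 1 ∈ I := by
      rw [← Ideal.Quotient.eq_zero_iff_mem, map_sub, map_one]
      have hnil : IsNilpotent (Ideal.Quotient.mk I r - 1) := by
        have := hr1.map (Ideal.Quotient.mk I)
        rw [map_sub, map_one] at this
        rw [← neg_sub]; exact this.neg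
      have h1 := geom_sum₂_mul (Ideal.Quotient.mk I r) 1 n
      rw [← map_pow, hr, map_add, Ideal.Quotient.eq_zero_iff_mem.2 hy, add_zero, map_one, one_pow, sub_self] at h1
      obtain ⟨c, hc⟩ := Polynomial.sub_dvd_eval_sub (Ideal.Quotient.mk I r) 1 (∑ i ∈ Finset.range n, Polynomial.X ^ i : Polynomial (R ⧸ I))
      simp only [Polynomial.eval_finsetSum, Polynomial.eval_pow, Polynomial.eval_X, one_pow, Finset.sum_const,
        Finset.card_range, nsmul_eq_mul, mul_one] at hc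
      simp only [one_pow, mul_one] at h1
      have hinv' : IsUnit (n : R ⧸ I) := hinv
      have h2 : IsUnit (∑ i ∈ Finset.range n, (Ideal.Quotient.mk I r) ^ i) := by
        rw [sub_eq_iff_eq_add'.1 hc]
        exact ((Commute.all _ c).isNilpotent_mul_right hnil).isUnit_add_left_of_commute hinv' (Commute.all _ _)
      exact h2.mul_right_eq_zero.1 h1
    refine ⟨r - 1, ⟨hrI, by rwa [add_sub_cancel]⟩, fun x hx => huniq _ _ hx.1 hrI ?_⟩
    rw [hx.2, add_sub_cancel, hr]
  refine ⟨hex, fun u => ⟨fun ⟨v, hv⟩ => ⟨Ideal.Quotient.mk I v, by rw [← map_pow, hv]⟩, fun ⟨w, hw⟩ => ?_⟩⟩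
  obtain ⟨w₀, rfl⟩ := Ideal.Quotient.mk_surjective w
  rw [← map_pow, Ideal.Quotient.eq] at hw
  have hy : (↑u⁻¹ : R) * (w₀ ^ n - u) ∈ I := I.mul_mem_left _ hw
  have hu1 : IsUnit (1 + (↑u⁻¹ : R) * (w₀ ^ n - u)) := (hI _ hy).isUnit_one_add
  have hy' : (↑hu1.unit⁻¹ : R) - 1 ∈ I := by
    have e : (↑hu1.unit⁻¹ : R) - 1 = -(↑hu1.unit⁻¹ : R) * ((↑u⁻¹ : R) * (w₀ ^ n - u)) := by
      linear_combination hu1.mul_val_inv
    rw [e]; exact I.mul_mem_left _ hy
  obtain ⟨x, ⟨-, hx⟩, -⟩ := hex _ hy'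
  refine ⟨w₀ * (1 + x), ?_⟩
  rw [mul_pow, hx, add_sub_cancel]
  have e : w₀ ^ n = (u : R) * (1 + (↑u⁻¹ : R) * (w₀ ^ n - u)) := by
    rw [mul_add, mul_one, ← mul_assoc, Units.mul_inv, one_mul, add_sub_cancel]
  linear_combination (↑hu1.unit⁻¹ : R) * e + (u : R) * hu1.mul_val_inv


end Groth.Agent.S6331
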