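import Groth.Statements.S6332
import Mathlib.FieldTheory.Galois.Basic
import Mathlib.RingTheory.Trace.Basic
import Mathlib.FieldTheory.Finite.Basic
import Mathlib.GroupTheory.SpecificGroups.Cyclic

set_option autoImplicit false
universe u
open Fields

namespace Groth.Agent.S6332

open IntermediateField in
/-- Let L/K be a finite Galois extension of fields of characteristic p > 0 whose degree equals the prime
p (equivalently, the Galois group is cyclic of order p). Then there is an element z of L with z ^ p
- z in K which generates L over K. -/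
theorem result {K L : Type u} [Field K] [Field L] [Algebra K L] (p : ℕ)
    [Fact p.Prime] [CharP K p] [FiniteDimensional K L] [IsGalois K L]
    (hdeg : Module.finrank K L = p) :
    ∃ z : L, z ^ p - z ∈ Set.range (algebraMap K L) ∧ K⟮z⟯ = ⊤ := by
  classical
  have hp : p.Prime := Fact.out
  have hcard : Nat.card (L ≃ₐ[K] L) = p := (IsGalois.card_aut_eq_finrank K L).trans hdeg
  haveI : IsCyclic (L ≃ₐ[K] L) := isCyclic_of_prime_card hcard
  obtain ⟨σ, hσ⟩ := IsCyclic.exists_generator (α := L ≃ₐ[K] L)
  have hord : orderOf σ = p := (orderOf_eq_card_of_forall_mem_zpowers hσ).trans hcard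
  haveI : CharP L p := charP_of_injective_algebraMap (algebraMap K L).injective p
  obtain ⟨e, he⟩ := Algebra.trace_surjective K L 1
  let y : L := ∑ i ∈ Finset.range p, (i : L) * (σ ^ i) e
  have hsum : (∑ i ∈ Finset.range p, (σ ^ i) e) = 1 := by
    have h := trace_eq_sum_automorphisms (K := K) (L := L) e
    rw [he, map_one] at h
    rw [h]
    refine Finset.sum_bij (fun i _ => σ ^ i) (fun i _ => Finset.mem_univ _) (fun i hi j hj hij => ?_) (fun g _ => ?_)
      (fun i _ => rfl)
    · rw [← hord, Finset.mem_range] at hi hj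
      exact pow_injOn_Iio_orderOf hi hj hij
    · obtain ⟨i, hi⟩ := mem_powers_iff_mem_zpowers.mpr (hσ g)
      refine ⟨i % p, Finset.mem_range.mpr (Nat.mod_lt _ hp.pos), ?_⟩
      rw [← hord, pow_mod_orderOf]
      exact hi
  have hy : σ y = y - 1 := by
    have h1 : σ y = ∑ i ∈ Finset.range p, (i : L) * (σ ^ (i + 1)) e := by
      simp only [y, map_sum, map_mul, map_natCast, pow_succ']
      rfl
    have h2 : ∑ i ∈ Finset.range p, ((i + 1 : ℕ) : L) * (σ ^ (i + 1)) e = y := by
      have h3 := (Finset.sum_range_succ (fun i => (i : L) * (σ ^ i) e) p).symm.trans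
        (Finset.sum_range_succ' (fun i => (i : L) * (σ ^ i) e) p)
      simpa [y] using h3.symm
    have h4 : ∑ i ∈ Finset.range p, (σ ^ (i + 1)) e = 1 := by
      have h5 := congrArg σ hsum
      rw [map_sum, map_one] at h5
      rw [← h5]
      exact Finset.sum_congr rfl fun i _ => by rw [pow_succ']; rfl
    conv_rhs => rw [← h2, ← h4]
    rw [h1, ← Finset.sum_sub_distrib]
    exact Finset.sum_congr rfl fun i _ => by push_cast; ring
  refine ⟨y, ?_, ?_⟩
  · have hfix : σ (y ^ p - y) = y ^ p - y := by
      rw [map_sub, map_pow, hy, sub_pow_char, one_pow]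
      ring
    refine (IsGalois.mem_range_algebraMap_iff_fixed _).mpr fun g => ?_
    obtain ⟨i, rfl⟩ := mem_powers_iff_mem_zpowers.mpr (hσ g)
    induction i with
    | zero => rfl
    | succ i ih =>
      change (σ ^ (i + 1)) (y ^ p - y) = _
      rw [pow_succ]
      change (σ ^ i) (σ (y ^ p - y)) = _
      rw [hfix]
      exact ih
  · by_contra hne
    have hbot : K⟮y⟯ = ⊥ := ((IntermediateField.isSimpleOrder_of_finrank_prime K L (hdeg ▸ hp)).eq_bot_or_eq_top _).resolve_right hne
    have hmem : y ∈ (⊥ : IntermediateField K L) := hbot ▸ IntermediateField.mem_adjoin_simple_self K y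
    obtain ⟨a, ha⟩ := IntermediateField.mem_bot.mp hmem
    have h6 := hy
    rw [← ha, AlgEquiv.commutes] at h6
    exact one_ne_zero (sub_eq_self.mp h6.symm)

end Groth.Agent.S6332
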