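import Groth.Statements.S6334
import Mathlib.FieldTheory.PurelyInseparable.Basic
import Mathlib.FieldTheory.KummerPolynomial

set_option autoImplicit false
universe u
open Fields

namespace Groth.Agent.S6334

open IntermediateField in
/-- Let E/F be a finite purely inseparable extension of fields of characteristic p > 0. Then there are
elements a_1, ..., a_n of E generating E over F such that for each i the p-th power of a_i lies in
F(a_1, ..., a_{i-1}) while a_i itself does not (so each step adjoins a p-th root and has degree p);
in particular [E : F] = p ^ n. -/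
theorem result {F E : Type u} [Field F] [Field E] [Algebra F E] (p : ℕ)
    [Fact p.Prime] [CharP F p] [FiniteDimensional F E] [IsPurelyInseparable F E] :
    ∃ (n : ℕ) (a : Fin n → E), adjoin F (Set.range a) = ⊤ ∧
      (∀ i : Fin n, a i ^ p ∈ adjoin F (a '' {j | j < i}) ∧ a i ∉ adjoin F (a '' {j | j < i})) ∧
      Module.finrank F E = p ^ n := by
  classical
  have hp : p.Prime := Fact.out
  haveI : ExpChar F p := ExpChar.prime hp
  suffices H : ∀ m : ℕ, ∃ (n : ℕ) (a : Fin n → E), (n = m ∨ adjoin F (Set.range a) = ⊤) ∧
      (∀ i : Fin n, a i ^ p ∈ adjoin F (a '' {j | j < i}) ∧ a i ∉ adjoin F (a '' {j | j < i})) ∧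
      Module.finrank F (adjoin F (Set.range a)) = p ^ n by
    obtain ⟨n, a, h1, h2, h3⟩ := H (Module.finrank F E + 1)
    have htop : adjoin F (Set.range a) = ⊤ := h1.resolve_left fun hn => by
      have h4 : p ^ n ≤ Module.finrank F E := h3 ▸ Submodule.finrank_le (adjoin F (Set.range a)).toSubalgebra.toSubmodule
      have := Nat.lt_pow_self (n := n) hp.one_lt
      omega
    refine ⟨n, a, htop, h2, ?_⟩
    rw [← h3, htop, IntermediateField.finrank_top']
  intro m
  induction m with
  | zero =>
    refine ⟨0, Fin.elim0, Or.inl rfl, fun i => i.elim0, ?_⟩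
    rw [Set.range_eq_empty, IntermediateField.adjoin_empty, IntermediateField.finrank_bot, pow_zero]
  | succ m ih =>
    obtain ⟨n, a, h1, h2, h3⟩ := ih
    by_cases htop : adjoin F (Set.range a) = ⊤
    · exact ⟨n, a, Or.inr htop, h2, h3⟩
    obtain rfl := h1.resolve_right htop
    set M := adjoin F (Set.range a) with hM
    haveI : CharP M p := charP_of_injective_algebraMap (algebraMap F M).injective p
    haveI : ExpChar M p := ExpChar.prime hp
    haveI : IsPurelyInseparable M E := IsPurelyInseparable.tower_top F M E
    obtain ⟨b, hb⟩ : ∃ b : E, b ∉ M := by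
      by_contra! hh
      exact htop (eq_top_iff.mpr fun x _ => hh x)
    have hex : ∃ k, b ^ p ^ k ∈ M := by
      obtain ⟨k, y, hy⟩ := IsPurelyInseparable.pow_mem M p b
      exact ⟨k, hy ▸ y.2⟩
    have hk0 : Nat.find hex ≠ 0 := fun h0 => hb (by simpa [h0] using Nat.find_spec hex)
    obtain ⟨k, hk⟩ := Nat.exists_eq_succ_of_ne_zero hk0
    have hc : b ^ p ^ k ∉ M := Nat.find_min hex (hk ▸ k.lt_succ_self)
    set c := b ^ p ^ k
    have hcp : c ^ p ∈ M := by
      rw [← pow_mul, ← pow_succ, show k + 1 = Nat.find hex from hk.symm]
      exact Nat.find_spec hex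
    have hirr : Irreducible (Polynomial.X ^ p - Polynomial.C (⟨c ^ p, hcp⟩ : M)) := by
      refine X_pow_sub_C_irreducible_of_prime hp fun y hy => hc ?_
      haveI : CharP E p := charP_of_injective_algebraMap (algebraMap F E).injective p
      haveI : ExpChar E p := ExpChar.prime hp
      have h5 : (y : E) = c := frobenius_inj E p (by
        simp only [frobenius_def]
        exact congrArg Subtype.val hy)
      exact h5 ▸ y.2
    have hdeg : Module.finrank M (adjoin M ({c} : Set E)) = p := by
      rw [IntermediateField.adjoin.finrank (IsPurelyInseparable.isIntegral' M c),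
        ← minpoly.eq_of_irreducible_of_monic hirr (by simp)
          (Polynomial.monic_X_pow_sub_C _ hp.ne_zero), Polynomial.natDegree_X_pow_sub_C]
    have him : ∀ i : Fin n, Fin.snoc (α := fun _ => E) a c '' {j | j < i.castSucc} = a '' {j | j < i} := fun i => by
      ext x
      constructor
      · rintro ⟨j, hj, rfl⟩
        induction j using Fin.lastCases with
        | last => exact absurd hj (not_lt.mpr (Fin.le_last _))
        | cast j => exact ⟨j, hj, (Fin.snoc_castSucc (α := fun _ => E) c a j).symm⟩
      · rintro ⟨j, hj, rfl⟩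
        exact ⟨j.castSucc, hj, Fin.snoc_castSucc ..⟩
    have himl : Fin.snoc (α := fun _ => E) a c '' {j | j < Fin.last n} = Set.range a := by
      ext x
      constructor
      · rintro ⟨j, hj, rfl⟩
        induction j using Fin.lastCases with
        | last => exact absurd hj (lt_irrefl (Fin.last n))
        | cast j => exact ⟨j, (Fin.snoc_castSucc (α := fun _ => E) c a j).symm⟩
      · rintro ⟨j, rfl⟩
        exact ⟨j.castSucc, Fin.castSucc_lt_last j, Fin.snoc_castSucc ..⟩
    refine ⟨n + 1, Fin.snoc a c, Or.inl rfl, fun i => ?_, ?_⟩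
    · induction i using Fin.lastCases with
      | last => rw [himl, Fin.snoc_last]; exact ⟨hcp, hc⟩
      | cast i => rw [him, Fin.snoc_castSucc]; exact h2 i
    · have h6 : adjoin F (Set.range (Fin.snoc (α := fun _ => E) a c)) = (adjoin M ({c} : Set E)).restrictScalars F := by
        rw [hM, IntermediateField.adjoin_adjoin_left, Fin.range_snoc, Set.insert_eq, Set.union_comm]
      rw [h6]
      change Module.finrank F (adjoin M ({c} : Set E)) = p ^ (n + 1)
      rw [← Module.finrank_mul_finrank F M (adjoin M ({c} : Set E)), hdeg, h3, pow_succ]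

end Groth.Agent.S6334
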