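import Groth.Statements.S6335
import Mathlib.FieldTheory.PurelyInseparable.PerfectClosure
import Mathlib.FieldTheory.IsAlgClosed.AlgebraicClosure

set_option autoImplicit false
universe u
open Fields

namespace Groth.Agent.S6335

/-- Let K be a field of characteristic p > 0, L/K a separable algebraic extension and a an element of L.
If a is a root of a polynomial P over K which is separable (pairwise distinct roots in an algebraic
closure) and all of whose coefficients are p-th powers in K, then a is a p-th power in L. (Part (1),
the case where P is the minimal polynomial of a, is a special case.) -/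
theorem result {K L : Type u} [Field K] [Field L] [Algebra K L]
    (p : ℕ) [Fact p.Prime] [CharP K p] [Algebra.IsSeparable K L] (a : L) (P : Polynomial K)
    (hroot : Polynomial.aeval a P = 0) (hsep : P.Separable) (hcoeff : ∀ i : ℕ, ∃ b : K, b ^ p = P.coeff i) :
    ∃ c : L, c ^ p = a := by
  classical
  haveI : ExpChar K p := ExpChar.prime Fact.out
  haveI : CharP L p := charP_of_injective_algebraMap (algebraMap K L).injective p
  haveI : ExpChar L p := ExpChar.prime Fact.out
  haveI : CharP (AlgebraicClosure L) p := charP_of_injective_algebraMap (algebraMap L _).injective p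
  choose b hb using hcoeff
  let R : Polynomial K := ∑ i ∈ P.support, Polynomial.monomial i (b i)
  have hR : R.map (frobenius K p) = P := Polynomial.ext fun i => by
    simp only [R, Polynomial.coeff_map, Polynomial.finsetSum_coeff, Polynomial.coeff_monomial, Finset.sum_ite_eq']
    split_ifs with h
    · exact hb i
    · rw [map_zero, Polynomial.notMem_support_iff.mp h]
  obtain ⟨c, hc⟩ := IsAlgClosed.exists_pow_nat_eq (algebraMap L (AlgebraicClosure L) a) (Fact.out : p.Prime).pos
  have hRc : Polynomial.aeval c R = 0 := by
    refine eq_zero_of_pow_eq_zero (n := p) ?_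
    have h1 : Polynomial.aeval (algebraMap L (AlgebraicClosure L) a) P = 0 := by
      rw [Polynomial.aeval_algebraMap_apply, hroot, map_zero]
    rw [← h1, ← hR, ← hc, Polynomial.aeval_def, Polynomial.aeval_def, Polynomial.eval₂_map, ← frobenius_def,
      Polynomial.hom_eval₂, RingHom.frobenius_comm, frobenius_def]
  have hsepc : IsSeparable K c := ((Polynomial.separable_map (frobenius K p)).mp (hR ▸ hsep)).of_dvd (minpoly.dvd K c hRc)
  have hsepL : IsSeparable L c := IsSeparable.tower_top L hsepc
  have hmem : c ∈ (⊥ : IntermediateField L (AlgebraicClosure L)) := by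
    have h2 : IntermediateField.adjoin L ({c} : Set (AlgebraicClosure L)) = ⊥ := by
      rw [IntermediateField.adjoin_simple_eq_adjoin_pow_expChar_of_isSeparable L (AlgebraicClosure L) hsepL p,
        IntermediateField.adjoin_simple_eq_bot_iff, hc]
      exact IntermediateField.algebraMap_mem _ a
    exact h2 ▸ IntermediateField.mem_adjoin_simple_self L c
  obtain ⟨d, hd⟩ := IntermediateField.mem_bot.mp hmem
  exact ⟨d, (algebraMap L (AlgebraicClosure L)).injective (by rw [map_pow, hd, hc])⟩

end Groth.Agent.S6335
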