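import Groth.Statements.S6336
import Mathlib.FieldTheory.IntermediateField.Adjoin.Basic
import Mathlib.FieldTheory.IsAlgClosed.AlgebraicClosure
import Mathlib.FieldTheory.Relrank
import Mathlib.RingTheory.Polynomial.Vieta

set_option autoImplicit false
universe u
open Fields

namespace Groth.Agent.S6336

open IntermediateField Polynomial in
/-- With an added hypothesis: let L/K be a finite extension of degree e generated by a single element a
whose e-th power lies in K, and assume that the polynomial X ^ e - 1 splits into linear factors over
K (so every e-th root of unity of any extension of K already lies in K; this holds when K contains a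
primitive e-th root of unity, and when e is a power of the characteristic). Then every intermediate
field of L/K is generated by a ^ d for some divisor d of e. (The published statement has no
hypothesis on roots of unity; for K the rationals and a a primitive 8-th root of unity, e = 4 and a
^ 4 = -1, the intermediate field generated by a + a⁻¹, a square root of 2, is none of K(a), K(a ^
2), K(a ^ 4); the published proof uses that the e-th roots of unity met are fixed by the
automorphisms it constructs, which the splitting hypothesis guarantees.) -/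
theorem result {K L : Type u} [Field K] [Field L] [Algebra K L]
    [FiniteDimensional K L] (a : L) (ha : K⟮a⟯ = ⊤)
    (hpow : a ^ Module.finrank K L ∈ Set.range (algebraMap K L))
    (hroots : (X ^ Module.finrank K L - 1 : K[X]).Splits) (L' : IntermediateField K L) :
    ∃ d : ℕ, d ∣ Module.finrank K L ∧ L' = K⟮a ^ d⟯ := by
  classical
  set e := Module.finrank K L with he
  have hepos : 0 < e := Module.finrank_pos
  set m := Module.finrank L' L with hm
  have hdvd : m ∣ e := Dvd.intro_left _ (Module.finrank_mul_finrank K L' L)
  have hmpos : 0 < m := Module.finrank_pos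
  have hint : IsIntegral L' a := IsIntegral.of_finite L' a
  have hgen : L'⟮a⟯ = (⊤ : IntermediateField L' L) := by
    refine IntermediateField.restrictScalars_eq_top_iff (K := K).mp (top_le_iff.mp ?_)
    rw [← ha, IntermediateField.adjoin_simple_le_iff]
    exact IntermediateField.mem_adjoin_simple_self L' a
  have hdeg : (minpoly L' a).natDegree = m := by
    rw [← IntermediateField.adjoin.finrank hint, hgen, IntermediateField.finrank_top']
  have hmem : a ^ m ∈ L' := by
    by_cases ha0 : a = 0
    · rw [ha0, zero_pow hmpos.ne']; exact zero_mem L'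
    let Ω := AlgebraicClosure L
    set ι := algebraMap L Ω
    have hι0 : ι a ≠ 0 := (map_ne_zero ι).mpr ha0
    set R := (minpoly L' a).aroots Ω with hR
    have hroot : ∀ z ∈ R, ∃ k : K, k ≠ 0 ∧ z = algebraMap K Ω k * ι a := fun z hz => by
      obtain ⟨c, hc⟩ := hpow
      have h1 : minpoly L' a ∣ Polynomial.X ^ e - Polynomial.C (algebraMap K L' c) := minpoly.dvd _ _ (by
        simp only [map_sub, map_pow, Polynomial.aeval_X, Polynomial.aeval_C, ← IsScalarTower.algebraMap_apply, hc, sub_self])
      have h2 : z ^ e = ι a ^ e := by
        have h3 := Polynomial.aeval_eq_zero_of_dvd_aeval_eq_zero h1 (Polynomial.mem_aroots.mp hz).2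
        simp only [map_sub, map_pow, Polynomial.aeval_X, Polynomial.aeval_C, sub_eq_zero,
          ← IsScalarTower.algebraMap_apply] at h3
        rw [h3, IsScalarTower.algebraMap_apply K L Ω, hc, map_pow]
      have h4 : (Polynomial.X ^ e - 1 : Polynomial K).Splits := hroots
      have h5 : z / ι a ∈ Set.range (algebraMap K Ω) := by
        have h6 : z / ι a ∈ (Polynomial.X ^ e - 1 : Polynomial K).aroots Ω := by
          refine Polynomial.mem_aroots.mpr ⟨(Polynomial.monic_X_pow_sub_C (1 : K) hepos.ne').ne_zero, ?_⟩
          simp only [map_sub, map_pow, Polynomial.aeval_X, map_one, div_pow, h2, div_self (pow_ne_zero e hι0), sub_self]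
        rw [Polynomial.aroots, h4.roots_map] at h6
        obtain ⟨k, -, hk⟩ := Multiset.mem_map.mp h6
        exact ⟨k, hk⟩
      obtain ⟨k, hk⟩ := h5
      have hk' : z = algebraMap K Ω k * ι a := by rw [hk, div_mul_cancel₀ _ hι0]
      refine ⟨k, fun hk0 => ?_, hk'⟩
      rw [hk0, map_zero, zero_mul] at hk'
      rw [hk', zero_pow hepos.ne'] at h2
      exact pow_ne_zero e hι0 h2.symm
    have hprod : ∀ S : Multiset Ω, (∀ z ∈ S, ∃ k : K, k ≠ 0 ∧ z = algebraMap K Ω k * ι a) →
        ∃ k : K, k ≠ 0 ∧ S.prod = algebraMap K Ω k * ι a ^ S.card := fun S => by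
      induction S using Multiset.induction_on with
      | empty => exact fun _ => ⟨1, one_ne_zero, by simp⟩
      | cons z S ih =>
        intro hS
        obtain ⟨k₁, hk₁, rfl⟩ := hS z (Multiset.mem_cons_self z S)
        obtain ⟨k₂, hk₂, h⟩ := ih fun w hw => hS w (Multiset.mem_cons_of_mem hw)
        exact ⟨k₁ * k₂, mul_ne_zero hk₁ hk₂, by rw [Multiset.prod_cons, h, Multiset.card_cons, map_mul, pow_succ]; ring⟩
    obtain ⟨k, hk0, hk⟩ := hprod R hroot
    have hcard : R.card = m := by
      rw [hR, Polynomial.aroots, Polynomial.splits_iff_card_roots.mp (IsAlgClosed.splits _), Polynomial.natDegree_map, hdeg]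
    have hcoeff := Polynomial.Splits.coeff_zero_eq_prod_roots_of_monic
      (IsAlgClosed.splits ((minpoly L' a).map (algebraMap L' Ω))) ((minpoly.monic hint).map _)
    rw [Polynomial.natDegree_map, hdeg, Polynomial.coeff_map, ← Polynomial.aroots, ← hR, hk, hcard] at hcoeff
    have h7 : a ^ m = algebraMap L' L ((minpoly L' a).coeff 0 * ((-1) ^ m * algebraMap K L' k)⁻¹) := by
      refine ι.injective ?_
      rw [← IsScalarTower.algebraMap_apply, map_mul, map_inv₀, map_mul, hcoeff, map_pow,
        ← IsScalarTower.algebraMap_apply, map_pow, map_neg, map_one, eq_comm, mul_inv_eq_iff_eq_mul₀]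
      · ring
      · exact mul_ne_zero (pow_ne_zero m (neg_ne_zero.mpr one_ne_zero)) ((map_ne_zero (algebraMap K Ω)).mpr hk0)
    rw [h7, IntermediateField.algebraMap_apply]
    exact SetLike.coe_mem _
  refine ⟨m, hdvd, ?_⟩
  have hle : K⟮a ^ m⟯ ≤ L' := IntermediateField.adjoin_simple_le_iff.mpr hmem
  refine (IntermediateField.eq_of_le_of_finrank_le' hle ?_).symm
  set M := K⟮a ^ m⟯
  have hintM : IsIntegral M a := IsIntegral.of_finite M a
  have hgenM : M⟮a⟯ = (⊤ : IntermediateField M L) := by
    refine IntermediateField.restrictScalars_eq_top_iff (K := K).mp (top_le_iff.mp ?_)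
    rw [← ha, IntermediateField.adjoin_simple_le_iff]
    exact IntermediateField.mem_adjoin_simple_self M a
  rw [← IntermediateField.finrank_top' (F := M), ← hgenM, IntermediateField.adjoin.finrank hintM]
  have h8 : minpoly M a ∣ Polynomial.X ^ m - Polynomial.C ⟨a ^ m, IntermediateField.mem_adjoin_simple_self K _⟩ :=
    minpoly.dvd _ _ (by
      simp only [map_sub, map_pow, Polynomial.aeval_X, Polynomial.aeval_C]
      exact sub_self _)
  exact (Polynomial.natDegree_le_of_dvd h8 (Polynomial.monic_X_pow_sub_C _ hmpos.ne').ne_zero).trans
    Polynomial.natDegree_X_pow_sub_C.le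

end Groth.Agent.S6336
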