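import Groth.Statements.S6337
import Mathlib.Tactic
import Mathlib.RingTheory.Spectrum.Prime.Module
import Mathlib.RingTheory.LocalRing.Module
import Mathlib.RingTheory.Localization.AtPrime.Basic
import Mathlib.RingTheory.Ideal.KrullsHeightTheorem
import Mathlib.LinearAlgebra.Matrix.NonsingularInverse
import Mathlib.RingTheory.TensorProduct.Quotient
import Mathlib.RingTheory.Flat.FaithfullyFlat.Basic
import Mathlib.LinearAlgebra.TensorProduct.Prod
import Mathlib.RingTheory.LocalProperties.Reduced
import Mathlib.RingTheory.Finiteness.ModuleFinitePresentation
import Groth.Agent.L02.Dominate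

set_option autoImplicit false
universe u
open CAlg

namespace Groth.Agent.S6337

/-- A direct sum of modules is Mittag-Leffler if and only if each summand is Mittag-Leffler. -/
theorem result (R : Type u) [CommRing R] {ι : Type u} (M : ι → Type u)
    [∀ i, AddCommGroup (M i)] [∀ i, Module R (M i)] :
    CAlg.IsMittagLeffler R (DirectSum ι M) ↔ ∀ i, CAlg.IsMittagLeffler R (M i) := by
  classical
  constructor
  · intro h i
    refine Groth.L02.isMittagLeffler_of_universallyInjective (DirectSum.lof R ι M i) ?_ h
    intro Q _ _
    refine Function.LeftInverse.injective (g := (DirectSum.component R ι M i).rTensor Q) fun x => ?_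
    rw [← LinearMap.comp_apply, ← LinearMap.rTensor_comp,
      show (DirectSum.component R ι M i).comp (DirectSum.lof R ι M i) = LinearMap.id from
        LinearMap.ext fun m => DirectSum.component.lof_self R i m,
      LinearMap.rTensor_id, LinearMap.id_apply]
  · intro h J Q _ _
    rw [injective_iff_map_eq_zero]
    intro x hx
    apply (TensorProduct.directSumLeft R R M (∀ j, Q j)).injective
    rw [map_zero]
    refine DFinsupp.ext fun i => ?_
    have key : ∀ w, TensorProduct.directSumLeft R R M (∀ j, Q j) w i =
        (DirectSum.component R ι M i).rTensor _ w := fun w => by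
      induction w using TensorProduct.induction_on with
      | zero => simp
      | tmul a b => rw [TensorProduct.directSumLeft_tmul, LinearMap.rTensor_tmul]; rfl
      | add a b ha hb => simp only [map_add, DirectSum.add_apply, ha, hb]
    rw [key]
    apply h i J Q
    rw [Groth.L02.piRightHom_rTensor, hx]
    simp only [DFinsupp.coe_zero, Pi.zero_apply, map_zero]
    rfl

end Groth.Agent.S6337
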