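import Groth.Statements.S6341
import Mathlib.Tactic
import Mathlib.RingTheory.Spectrum.Prime.Module
import Mathlib.RingTheory.LocalRing.Module
import Mathlib.RingTheory.Localization.AtPrime.Basic
import Mathlib.RingTheory.Ideal.KrullsHeightTheorem
import Mathlib.LinearAlgebra.Matrix.NonsingularInverse
import Mathlib.RingTheory.TensorProduct.Quotient
import Mathlib.RingTheory.Flat.FaithfullyFlat.Basic
import Mathlib.LinearAlgebra.TensorProduct.Prod
import Mathlib.RingTheory.LocalProperties.Reduced
import Mathlib.RingTheory.Finiteness.ModuleFinitePresentation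
import Groth.Agent.L02.Dominate

set_option autoImplicit false
universe u
open CAlg

namespace Groth.Agent.S6341

/-- The colimit of a directed system of Mittag-Leffler modules with universally injective transition
maps is Mittag-Leffler. -/
theorem result (R : Type u) [CommRing R] {ι : Type u}
    [Preorder ι] [IsDirected ι (· ≤ ·)] [DecidableEq ι] (G : ι → Type u) [∀ i, AddCommGroup (G i)]
    [∀ i, Module R (G i)] (f : ∀ i j, i ≤ j → G i →ₗ[R] G j) [DirectedSystem G fun i j h => f i j h]
    (hf : ∀ i j (h : i ≤ j), CAlgX.UniversallyInjective R (f i j h))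
    (hG : ∀ i, CAlg.IsMittagLeffler R (G i)) :
    CAlg.IsMittagLeffler R (Module.DirectLimit G f) := by
  intro J Q _ _
  rw [injective_iff_map_eq_zero]
  intro x hx
  rcases isEmpty_or_nonempty ι with hι | hι
  · have h0 : (LinearMap.id : Module.DirectLimit G f →ₗ[R] Module.DirectLimit G f) = 0 :=
      Module.DirectLimit.hom_ext fun i => isEmptyElim i
    have := congrArg (fun l => LinearMap.rTensor (∀ j, Q j) l x) h0
    try dsimp only at this
    rwa [LinearMap.rTensor_id, LinearMap.rTensor_zero, LinearMap.id_apply, LinearMap.zero_apply] at this
  obtain ⟨i, y, rfl⟩ : ∃ i, ∃ y : TensorProduct R (G i) (∀ j, Q j),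
      (Module.DirectLimit.of R ι G f i).rTensor _ y = x := by
    clear hx
    induction x using TensorProduct.induction_on with
    | zero => exact ⟨hι.some, 0, map_zero _⟩
    | tmul m q =>
      obtain ⟨i, g, rfl⟩ := Module.DirectLimit.exists_of m
      exact ⟨i, g ⊗ₜ q, rfl⟩
    | add a b ha hb =>
      obtain ⟨i, a, rfl⟩ := ha
      obtain ⟨j, b, rfl⟩ := hb
      obtain ⟨k, hik, hjk⟩ := exists_ge_ge i j
      refine ⟨k, (f i k hik).rTensor _ a + (f j k hjk).rTensor _ b, ?_⟩
      rw [map_add, ← LinearMap.comp_apply, ← LinearMap.rTensor_comp, ← LinearMap.comp_apply,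
        ← LinearMap.rTensor_comp]
      congr 3 <;> exact LinearMap.ext fun g => Module.DirectLimit.of_f
  rw [Groth.L02.piRightHom_rTensor] at hx
  have hui : CAlgX.UniversallyInjective R (Module.DirectLimit.of R ι G f i) := by
    intro P _ _
    rw [injective_iff_map_eq_zero]
    intro z hz
    have := congrArg (TensorProduct.directLimitLeft f P) hz
    have key : ∀ z : TensorProduct R (G i) P,
        TensorProduct.directLimitLeft f P ((Module.DirectLimit.of R ι G f i).rTensor P z) =
          Module.DirectLimit.of R ι _ _ i z := fun z => by
      induction z using TensorProduct.induction_on with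
      | zero => simp
      | tmul a b => simp
      | add a b ha hb => simp only [map_add, ha, hb]
    rw [key, map_zero] at this
    have hDS : DirectedSystem (fun j => TensorProduct R (G j) P) fun j k h => (f j k h).rTensor P :=
      { map_self := fun j w => by
          rw [show f j j le_rfl = LinearMap.id from LinearMap.ext fun v => DirectedSystem.map_self' f v,
            LinearMap.rTensor_id, LinearMap.id_apply]
        map_map := fun _ _ _ hab hbc w => by
          rw [← LinearMap.comp_apply, ← LinearMap.rTensor_comp]
          congr 2
          exact LinearMap.ext fun v => DirectedSystem.map_map' f hab hbc v }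
    obtain ⟨k, hik, hk⟩ := Module.DirectLimit.of.zero_exact this
    exact hf i k hik P (hk.trans (map_zero _).symm)
  have : y = 0 := by
    apply hG i J Q
    rw [map_zero]
    funext j
    exact hui (Q j) ((congrFun hx j).trans (map_zero _).symm)
  rw [this, map_zero]

end Groth.Agent.S6341
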