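import Groth.Statements.S6342
import Mathlib.Tactic
import Mathlib.RingTheory.Spectrum.Prime.Module
import Mathlib.RingTheory.LocalRing.Module
import Mathlib.RingTheory.Localization.AtPrime.Basic
import Mathlib.RingTheory.Ideal.KrullsHeightTheorem
import Mathlib.LinearAlgebra.Matrix.NonsingularInverse
import Mathlib.RingTheory.TensorProduct.Quotient
import Mathlib.RingTheory.Flat.FaithfullyFlat.Basic
import Mathlib.LinearAlgebra.TensorProduct.Prod
import Mathlib.RingTheory.LocalProperties.Reduced
import Mathlib.RingTheory.Finiteness.ModuleFinitePresentation
import Groth.Agent.L02.Dominate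

set_option autoImplicit false
universe u
open CAlg

namespace Groth.Agent.S6342

/-- Let R → S be a ring map such that S is Mittag-Leffler as an R-module, and let M be an S-module which
is flat and Mittag-Leffler over S. Then M is Mittag-Leffler as an R-module. -/
theorem result (R S : Type u) [CommRing R] [CommRing S] [Algebra R S]
    (M : Type u) [AddCommGroup M] [Module S M] [Module R M] [IsScalarTower R S M]
    (hS : CAlg.IsMittagLeffler R S) [Module.Flat S M] (hM : CAlg.IsMittagLeffler S M) :
    CAlg.IsMittagLeffler R M := by
  intro ι Q _ _
  rw [injective_iff_map_eq_zero]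
  intro x hx
  let T : ι → Type u := fun i => TensorProduct R S (Q i)
  let a : TensorProduct R S (∀ i, Q i) →ₗ[S] (∀ i, T i) := TensorProduct.piRightHom R S S Q
  have ha : Function.Injective a := hS ι Q
  let e := (TensorProduct.AlgebraTensorModule.cancelBaseChange R S S M (∀ i, Q i)).symm
  have key : ∀ w : TensorProduct S M (TensorProduct R S (∀ i, Q i)), ∀ i,
      TensorProduct.piRightHom R R M Q
        (TensorProduct.AlgebraTensorModule.cancelBaseChange R S S M (∀ i, Q i) w) i =
      TensorProduct.AlgebraTensorModule.cancelBaseChange R S S M (Q i)
        (TensorProduct.piRightHom S S M T (a.lTensor M w) i) := fun w i => by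
    induction w using TensorProduct.induction_on with
    | zero => simp
    | tmul m t =>
      induction t using TensorProduct.induction_on with
      | zero => simp
      | tmul s q => simp [a, T, TensorProduct.smul_tmul']
      | add u v hu hv =>
        rw [TensorProduct.tmul_add, map_add, map_add, map_add, map_add, Pi.add_apply, Pi.add_apply,
          hu, hv, map_add]
    | add u v hu hv => simp only [map_add, Pi.add_apply, hu, hv]
  obtain ⟨w, rfl⟩ := (TensorProduct.AlgebraTensorModule.cancelBaseChange R S S M (∀ i, Q i)).surjective x
  have : a.lTensor M w = 0 := by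
    apply hM ι T
    rw [map_zero]
    funext i
    apply (TensorProduct.AlgebraTensorModule.cancelBaseChange R S S M (Q i)).injective
    rw [← key, Pi.zero_apply, map_zero]
    exact congrFun hx i
  rw [Module.Flat.lTensor_preserves_injective_linearMap a ha (a₁ := w) (a₂ := 0)
    (by rw [this, map_zero]), map_zero]

end Groth.Agent.S6342
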