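import Groth.Statements.S6343
import Mathlib.Tactic
import Mathlib.RingTheory.Spectrum.Prime.Module
import Mathlib.RingTheory.LocalRing.Module
import Mathlib.RingTheory.Localization.AtPrime.Basic
import Mathlib.RingTheory.Ideal.KrullsHeightTheorem
import Mathlib.LinearAlgebra.Matrix.NonsingularInverse
import Mathlib.RingTheory.TensorProduct.Quotient
import Mathlib.RingTheory.Flat.FaithfullyFlat.Basic
import Mathlib.LinearAlgebra.TensorProduct.Prod
import Mathlib.RingTheory.LocalProperties.Reduced
import Mathlib.RingTheory.Finiteness.ModuleFinitePresentation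
import Groth.Agent.L02.Dominate

set_option autoImplicit false
universe u
open scoped TensorProduct
open CAlg

namespace Groth.Agent.S6343

/-- The tensor product of two Mittag-Leffler modules over a commutative ring is Mittag-Leffler. -/
theorem result (R : Type u) [CommRing R] (M N : Type u) [AddCommGroup M] [Module R M]
    [AddCommGroup N] [Module R N] (hM : CAlg.IsMittagLeffler R M) (hN : CAlg.IsMittagLeffler R N) :
    CAlg.IsMittagLeffler R (M ⊗[R] N) := by
  classical
  refine Groth.L02.isMittagLeffler_of_forall_dominate fun k f => ?_
  obtain ⟨p, q, a, b, φ, hφ⟩ : ∃ (p q : ℕ) (a : (Fin p → R) →ₗ[R] M) (b : (Fin q → R) →ₗ[R] N)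
      (φ : (Fin k → R) →ₗ[R] TensorProduct R (Fin p → R) (Fin q → R)),
      (TensorProduct.map a b).comp φ = f := by
    have hS := fun j : Fin k => TensorProduct.exists_finset (f (Pi.single j 1))
    choose S hS using hS
    let U := Finset.univ.biUnion S
    let e := U.equivFin
    refine ⟨U.card, U.card, Fintype.linearCombination R (fun i => (e.symm i).1.1),
      Fintype.linearCombination R (fun i => (e.symm i).1.2),
      Fintype.linearCombination R (fun j => ∑ i, if (e.symm i).1 ∈ S j then
        (Pi.single i (1 : R) : Fin U.card → R) ⊗ₜ[R] (Pi.single i (1 : R) : Fin U.card → R) else 0), ?_⟩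
    refine (Pi.basisFun R (Fin k)).ext fun j => ?_
    simp only [Pi.basisFun_apply, LinearMap.comp_apply, Fintype.linearCombination_apply_single,
      one_smul, map_sum, apply_ite (TensorProduct.map _ _), map_zero, TensorProduct.map_tmul]
    rw [hS j, Equiv.sum_comp e.symm (fun u : U => if u.1 ∈ S j then u.1.1 ⊗ₜ[R] u.1.2 else 0),
      Finset.sum_coe_sort U (fun u => if u ∈ S j then u.1 ⊗ₜ[R] u.2 else 0), ← Finset.sum_filter]
    refine Finset.sum_congr ?_ fun _ _ => rfl
    ext u
    simp only [Finset.mem_filter, U, Finset.mem_biUnion, Finset.mem_univ, true_and]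
    exact ⟨fun h => h.2, fun h => ⟨⟨j, h⟩, h⟩⟩
  have hp : Module.FinitePresentation R (Fin p → R) := Module.finitePresentation_of_projective R _
  have hq : Module.FinitePresentation R (Fin q → R) := Module.finitePresentation_of_projective R _
  obtain ⟨A', _, _, hA', a', ha, rfl, hka⟩ := Groth.L02.exists_dominating_factor a hM
  obtain ⟨B', _, _, hB', b', hb, rfl, hkb⟩ := Groth.L02.exists_dominating_factor b hN
  have hfpAB : Module.FinitePresentation R (TensorProduct R A' B') := by
    obtain ⟨t, K, e, hK⟩ := Module.FinitePresentation.exists_fin R A'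
    have : Module.FinitePresentation R (TensorProduct R (Fin t → R) B') :=
      Module.FinitePresentation.of_equiv ((TensorProduct.piScalarRight R R B' (Fin t)).symm ≪≫ₗ
        TensorProduct.comm R B' (Fin t → R))
    have hex : Function.Exact K.subtype (e.symm.toLinearMap.comp K.mkQ) := by
      rw [LinearMap.exact_iff, LinearMap.ker_comp, LinearEquiv.ker, Submodule.comap_bot,
        Submodule.ker_mkQ, Submodule.range_subtype]
    have hs := e.symm.surjective.comp K.mkQ_surjective
    refine Module.finitePresentation_of_surjective ((e.symm.toLinearMap.comp K.mkQ).rTensor B')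
      (LinearMap.rTensor_surjective B' hs) ?_
    rw [(rTensor_exact B' hex hs).linearMap_ker_eq]
    have : Module.Finite R K := Module.Finite.iff_fg.mpr hK
    rw [LinearMap.range_eq_map]
    exact Module.Finite.fg_top.map _
  refine ⟨TensorProduct R A' B', inferInstance, inferInstance, hfpAB, (TensorProduct.map a' b').comp φ,
    fun P _ _ => le_antisymm (fun x hx => ?_) (fun x hx => ?_)⟩
  swap
  · rw [LinearMap.mem_ker] at hx ⊢
    rw [← hφ, TensorProduct.map_comp, LinearMap.comp_assoc, LinearMap.rTensor_comp,
      LinearMap.comp_apply, hx, map_zero]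
  rw [LinearMap.mem_ker] at hx ⊢
  rw [← hφ, LinearMap.rTensor_comp, LinearMap.comp_apply] at hx
  rw [LinearMap.rTensor_comp, LinearMap.comp_apply]
  generalize φ.rTensor P x = z at hx ⊢
  let e := fun (U V : Type u) [AddCommGroup U] [Module R U] [AddCommGroup V] [Module R V] =>
    TensorProduct.assoc R U V P
  have key : ∀ {U U' V V' : Type u} [AddCommGroup U] [Module R U] [AddCommGroup U'] [Module R U']
      [AddCommGroup V] [Module R V] [AddCommGroup V'] [Module R V']
      (u : U →ₗ[R] U') (v : V →ₗ[R] V') (w : TensorProduct R (TensorProduct R U V) P),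
      TensorProduct.assoc R U' V' P ((TensorProduct.map u v).rTensor P w) =
        TensorProduct.map u (v.rTensor P) (TensorProduct.assoc R U V P w) := by
    intro U U' V V' _ _ _ _ _ _ _ _ u v w
    induction w using TensorProduct.induction_on with
    | zero => simp
    | tmul t c =>
      induction t using TensorProduct.induction_on with
      | zero => simp
      | tmul s r => simp
      | add s r hs hr => simp only [TensorProduct.add_tmul, map_add, hs, hr]
    | add s r hs hr => simp only [map_add, hs, hr]
  apply (TensorProduct.assoc R A' B' P).injective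
  have h0 := congrArg (TensorProduct.assoc R M N P) hx
  rw [key, map_zero] at h0 ⊢
  generalize TensorProduct.assoc R (Fin p → R) (Fin q → R) P z = w at h0 ⊢
  rw [← LinearMap.rTensor_comp_lTensor, LinearMap.comp_apply] at h0
  have h1 := LinearMap.mem_ker.mp ((hka _).le (LinearMap.mem_ker.mpr h0))
  rw [← LinearMap.comp_apply, LinearMap.rTensor_comp_lTensor, ← LinearMap.lTensor_comp_rTensor,
    LinearMap.comp_apply] at h1
  have hswap : ∀ {U V W : Type u} [AddCommGroup U] [Module R U] [AddCommGroup V] [Module R V]
      [AddCommGroup W] [Module R W] (g : V →ₗ[R] W) (y : TensorProduct R U (TensorProduct R V P)),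
      TensorProduct.leftComm R U W P ((g.rTensor P).lTensor U y) =
        g.rTensor (TensorProduct R U P) (TensorProduct.leftComm R U V P y) := by
    intro U V W _ _ _ _ _ _ g y
    induction y using TensorProduct.induction_on with
    | zero => simp
    | tmul t c =>
      induction c using TensorProduct.induction_on with
      | zero => simp
      | tmul s r => simp
      | add s r hs hr => simp only [TensorProduct.tmul_add, map_add, hs, hr]
    | add s r hs hr => simp only [map_add, hs, hr]
  rw [← LinearMap.lTensor_comp_rTensor, LinearMap.comp_apply]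
  have h2 := congrArg (TensorProduct.leftComm R A' N P) h1
  rw [hswap, map_zero] at h2
  have h3 := LinearMap.mem_ker.mp ((hkb _).le (LinearMap.mem_ker.mpr h2))
  rw [← hswap] at h3
  exact (LinearEquiv.map_eq_zero_iff _).mp h3

end Groth.Agent.S6343
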