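import Groth.Statements.S6345
import Mathlib.Tactic
import Mathlib.RingTheory.Spectrum.Prime.Module
import Mathlib.RingTheory.LocalRing.Module
import Mathlib.RingTheory.Localization.AtPrime.Basic
import Mathlib.RingTheory.Ideal.KrullsHeightTheorem
import Mathlib.LinearAlgebra.Matrix.NonsingularInverse
import Mathlib.RingTheory.TensorProduct.Quotient
import Mathlib.RingTheory.Flat.FaithfullyFlat.Basic
import Mathlib.LinearAlgebra.TensorProduct.Prod
import Mathlib.RingTheory.LocalProperties.Reduced
import Mathlib.RingTheory.Finiteness.ModuleFinitePresentation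
import Groth.Agent.L02.Dominate
import Groth.Agent.L02.Flat
import Groth.Agent.L02.CountableML

set_option autoImplicit false
universe u
open CAlg

namespace Groth.Agent.S6345

/-- Let I be a finitely generated ideal of a commutative ring R and M an R/I-module. Then M is
Mittag-Leffler over R if and only if it is Mittag-Leffler over R/I. -/
theorem result (R : Type u) [CommRing R] (I : Ideal R) (hI : I.FG)
    (M : Type u) [AddCommGroup M] [Module (R ⧸ I) M] [Module R M] [IsScalarTower R (R ⧸ I) M] :
    CAlg.IsMittagLeffler R M ↔ CAlg.IsMittagLeffler (R ⧸ I) M := by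
  open TensorProduct in
  classical
  have hsurj : Function.Surjective (algebraMap R (R ⧸ I)) := Ideal.Quotient.mk_surjective
  have compat : ∀ (X : Type u) [AddCommGroup X] [Module (R ⧸ I) X] [Module R X] [IsScalarTower R (R ⧸ I) X],
      TensorProduct.CompatibleSMul R (R ⧸ I) M X := by
    intro X _ _ _ _
    refine ⟨fun a m x => ?_⟩
    obtain ⟨r, rfl⟩ := hsurj a
    rw [algebraMap_smul, algebraMap_smul, TensorProduct.smul_tmul]
  constructor
  · intro hM ι Q _ _
    let _ : ∀ i, Module R (Q i) := fun i => Module.compHom (Q i) (algebraMap R (R ⧸ I))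
    have : ∀ i, IsScalarTower R (R ⧸ I) (Q i) := fun i => IsScalarTower.of_compHom R (R ⧸ I) (Q i)
    have := compat (∀ i, Q i)
    have := fun i => compat (Q i)
    let e := TensorProduct.equivOfCompatibleSMul R (R ⧸ I) R M (∀ i, Q i)
    rw [injective_iff_map_eq_zero]
    intro x hx
    have key : ∀ w, ∀ i, TensorProduct.piRightHom (R ⧸ I) (R ⧸ I) M Q w i =
        (TensorProduct.equivOfCompatibleSMul R (R ⧸ I) R M (Q i)).symm
          (TensorProduct.piRightHom R R M Q (e w) i) := fun w i => by
      induction w using TensorProduct.induction_on with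
      | zero => simp
      | tmul a b => simp [e]; rfl
      | add a b ha hb => simp only [map_add, Pi.add_apply, ha, hb]
    apply e.injective
    rw [map_zero]
    apply hM ι Q
    rw [map_zero]
    funext i
    have h1 := congrFun hx i
    rw [key, Pi.zero_apply, LinearEquiv.map_eq_zero_iff] at h1
    exact h1
  · intro hM ι Q _ _
    let T : ι → Type u := fun i => Q i ⧸ (I • ⊤ : Submodule R (Q i))
    let _ : ∀ i, Module (R ⧸ I) (T i) := fun i => inferInstanceAs (Module (R ⧸ I) (Q i ⧸ (I • ⊤ : Submodule R (Q i))))
    have : ∀ i, IsScalarTower R (R ⧸ I) (T i) := fun i => inferInstanceAs (IsScalarTower R (R ⧸ I) (Q i ⧸ (I • ⊤ : Submodule R (Q i))))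
    have := compat (∀ i, T i)
    have := fun i => compat (T i)
    let ρ : (∀ i, Q i) →ₗ[R] (∀ i, T i) := LinearMap.pi fun i => (Submodule.mkQ _).comp (LinearMap.proj i)
    have hρ : Function.Surjective ρ := fun t => by
      choose q hq using fun i => Submodule.mkQ_surjective (I • ⊤ : Submodule R (Q i)) (t i)
      exact ⟨q, funext hq⟩
    have hker : LinearMap.ker ρ ≤ I • (⊤ : Submodule R (∀ i, Q i)) := by
      intro q hq
      obtain ⟨m, c, hc⟩ := Submodule.fg_iff_exists_fin_generating_family.mp hI
      have hmem : ∀ i, ∃ v : Fin m → Q i, ∑ k, c k • v k = q i := fun i => by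
        have h1 : q i ∈ I • (⊤ : Submodule R (Q i)) := (Submodule.Quotient.mk_eq_zero _).mp (congrFun hq i)
        rw [← hc] at h1
        refine Submodule.smul_induction_on h1 (fun r hr x _ => ?_) (fun a b ⟨v, hv⟩ ⟨w, hw⟩ => ⟨v + w, by simp [smul_add, Finset.sum_add_distrib, hv, hw]⟩)
        obtain ⟨d, hd⟩ := (Submodule.mem_span_range_iff_exists_fun R).mp hr
        exact ⟨fun k => d k • x, by simp [← hd, Finset.sum_smul, smul_smul, mul_comm]⟩
      choose v hv using hmem
      have : q = ∑ k, c k • (fun i => v i k) := funext fun i => by simp [Finset.sum_apply, hv]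
      rw [this]
      exact Submodule.sum_mem _ fun k _ => Submodule.smul_mem_smul (hc ▸ Submodule.subset_span ⟨k, rfl⟩) trivial
    have hIM : ∀ r ∈ I, ∀ m : M, r • m = 0 := fun r hr m => by
      rw [← algebraMap_smul (R ⧸ I) r m, Ideal.Quotient.algebraMap_eq, Ideal.Quotient.eq_zero_iff_mem.mpr hr, zero_smul]
    have hzero : ∀ (k : LinearMap.ker ρ) (m : M), m ⊗ₜ[R] (k : ∀ i, Q i) = 0 := fun k m => by
      refine Submodule.smul_induction_on (hker k.2) (fun r hr x _ => ?_) (fun a b ha hb => ?_)
      · rw [← TensorProduct.smul_tmul, hIM r hr, TensorProduct.zero_tmul]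
      · rw [TensorProduct.tmul_add, ha, hb, add_zero]
    rw [injective_iff_map_eq_zero]
    intro x hx
    have hρx : ρ.lTensor M x = 0 := by
      let e := TensorProduct.equivOfCompatibleSMul R (R ⧸ I) R M (∀ i, T i)
      apply e.symm.injective
      rw [map_zero]
      apply hM ι T
      rw [map_zero]
      funext i
      have key : ∀ w : M ⊗[R] (∀ i, Q i), TensorProduct.piRightHom (R ⧸ I) (R ⧸ I) M T (e.symm (ρ.lTensor M w)) i =
          (TensorProduct.equivOfCompatibleSMul R (R ⧸ I) R M (T i)).symm
            ((Submodule.mkQ _).lTensor M (TensorProduct.piRightHom R R M Q w i)) := fun w => by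
        induction w using TensorProduct.induction_on with
        | zero => simp
        | tmul a b => simp [e, ρ, T]; rfl
        | add a b ha hb => simp only [map_add, Pi.add_apply, ha, hb]
      rw [key, hx, Pi.zero_apply, map_zero, Pi.zero_apply]
      exact map_zero _
    obtain ⟨z, rfl⟩ := (lTensor_exact M (LinearMap.exact_subtype_ker_map ρ) hρ x).mp hρx
    clear hx hρx
    induction z using TensorProduct.induction_on with
    | zero => simp
    | tmul a b => rw [LinearMap.lTensor_tmul]; exact hzero b a
    | add a b ha hb => rw [map_add, ha, hb, add_zero]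

end Groth.Agent.S6345
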