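import Groth.Statements.S6348
import Mathlib.Tactic
import Mathlib.RingTheory.Spectrum.Prime.Module
import Mathlib.RingTheory.LocalRing.Module
import Mathlib.RingTheory.Localization.AtPrime.Basic
import Mathlib.RingTheory.Ideal.KrullsHeightTheorem
import Mathlib.LinearAlgebra.Matrix.NonsingularInverse
import Mathlib.RingTheory.TensorProduct.Quotient
import Mathlib.RingTheory.Flat.FaithfullyFlat.Basic
import Mathlib.LinearAlgebra.TensorProduct.Prod
import Mathlib.RingTheory.LocalProperties.Reduced
import Mathlib.RingTheory.Finiteness.ModuleFinitePresentation
import Groth.Agent.L02.Dominate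

set_option autoImplicit false
universe u
open scoped TensorProduct
open CAlg

namespace Groth.Agent.S6348

/-- For a ring map R → S and a Mittag-Leffler R-module M, the S-module S ⊗_R M is Mittag-Leffler. (The
companion parts on flat modules, projective modules and direct sums of countably generated modules
are standard base-change facts.) -/
theorem result (R S : Type u) [CommRing R] [CommRing S] [Algebra R S] (M : Type u)
    [AddCommGroup M] [Module R M] (hM : CAlg.IsMittagLeffler R M) :
    CAlg.IsMittagLeffler S (S ⊗[R] M) := by
  intro ι Q _ _
  rw [injective_iff_map_eq_zero]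
  intro x hx
  let _ : ∀ i, Module R (Q i) := fun i => Module.compHom (Q i) (algebraMap R S)
  have : ∀ i, IsScalarTower R S (Q i) := fun i => IsScalarTower.of_compHom R S (Q i)
  let e := fun (P : Type u) [AddCommGroup P] [Module S P] [Module R P] [IsScalarTower R S P] =>
    (TensorProduct.comm S (S ⊗[R] M) P).trans
      (TensorProduct.AlgebraTensorModule.cancelBaseChange R S S P M)
  apply (e (∀ i, Q i)).injective
  rw [map_zero]
  apply (TensorProduct.comm R (∀ i, Q i) M).injective
  rw [map_zero]
  apply hM ι Q
  rw [map_zero]
  funext i
  have key : ∀ w : (S ⊗[R] M) ⊗[S] (∀ i, Q i),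
      TensorProduct.piRightHom R R M Q (TensorProduct.comm R _ M (e _ w)) i =
        TensorProduct.comm R _ M (e (Q i) (TensorProduct.piRightHom S S (S ⊗[R] M) Q w i)) := fun w => by
    induction w using TensorProduct.induction_on with
    | zero => simp
    | tmul t q =>
      induction t using TensorProduct.induction_on with
      | zero => simp
      | tmul s m => simp [e]
      | add a b ha hb =>
        rw [TensorProduct.add_tmul]
        simp only [map_add, Pi.add_apply, ha, hb]
    | add a b ha hb => simp only [map_add, Pi.add_apply, ha, hb]
  rw [key, hx, Pi.zero_apply, Pi.zero_apply, map_zero, map_zero]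

end Groth.Agent.S6348
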