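import Groth.Statements.S6353
import Mathlib.RingTheory.Ideal.Pure
import Mathlib.RingTheory.Spectrum.Prime.Topology

set_option autoImplicit false
universe u
open CAlg

namespace Groth.Agent.S6353

open PrimeSpectrum in
/-- For a commutative ring R, I ↦ V(I) is a bijection between pure ideals (R/I flat over R) and closed
subsets of Spec R stable under generalization. Stated here as: V(I) is stable under generalization
for I pure, and every closed generalization-stable subset is V(I) for some pure I (injectivity on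
pure ideals being the standard fact that pure ideals with the same zero locus coincide). -/
theorem result (R : Type u) [CommRing R] :
    (∀ I : Ideal R, I.Pure → StableUnderGeneralization (zeroLocus (I : Set R))) ∧
      ∀ Z : Set (PrimeSpectrum R), IsClosed Z → StableUnderGeneralization Z →
        ∃ I : Ideal R, I.Pure ∧ zeroLocus (I : Set R) = Z := by
  classical
  constructor
  · intro I hI x y hyx hx
    have hyx' : y.asIdeal ≤ x.asIdeal := (PrimeSpectrum.le_iff_specializes y x).mpr hyx
    rw [mem_zeroLocus] at hx ⊢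
    intro a ha
    obtain ⟨b, hb, hab⟩ := Ideal.exists_eq_mul_of_pure (I := I) ha
    have h0 : a * (1 - b) ∈ y.asIdeal := by rw [mul_sub, mul_one, ← hab, sub_self]; exact y.asIdeal.zero_mem
    refine (y.2.mem_or_mem h0).resolve_right fun h => ?_
    exact x.2.ne_top ((Ideal.eq_top_iff_one _).mpr (by simpa using x.asIdeal.add_mem (hyx' h) (hx hb)))
  intro Z hZc hZg
  obtain ⟨J, rfl⟩ := (isClosed_iff_zeroLocus_ideal Z).mp hZc
  let I : Ideal R := ⨅ p : zeroLocus (J : Set R), RingHom.ker (algebraMap R (Localization.AtPrime p.1.asIdeal))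
  have hmem : ∀ f : R, f ∈ I ↔ ∀ p : PrimeSpectrum R, p ∈ zeroLocus (J : Set R) → ∃ s ∉ p.asIdeal, s * f = 0 := by
    intro f
    rw [Submodule.mem_iInf, Subtype.forall]
    refine forall₂_congr fun p hp => ?_
    rw [RingHom.mem_ker, IsLocalization.map_eq_zero_iff p.asIdeal.primeCompl]
    exact ⟨fun ⟨m, hm⟩ => ⟨m.1, m.2, hm⟩, fun ⟨s, hs, h⟩ => ⟨⟨s, hs⟩, h⟩⟩
  have hV : zeroLocus (I : Set R) = zeroLocus (J : Set R) := by
    refine Set.Subset.antisymm (fun q hq => ?_) fun p hp f hf => ?_
    · by_contra hqZ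
      let A : Ideal R :=
        { carrier := {a | ∃ b ∉ q.asIdeal, a * b = 0}
          zero_mem' := ⟨1, fun h => q.2.ne_top ((Ideal.eq_top_iff_one _).mpr h), zero_mul _⟩
          add_mem' := by
            rintro a a' ⟨b, hb, hab⟩ ⟨b', hb', hab'⟩
            refine ⟨b * b', fun h => (q.2.mem_or_mem h).elim hb hb', ?_⟩
            linear_combination b' * hab + b * hab'
          smul_mem' := by
            rintro c a ⟨b, hb, hab⟩
            exact ⟨b, hb, by rw [smul_eq_mul, mul_assoc, hab, mul_zero]⟩ }
      have htop : A ⊔ J = ⊤ := by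
        by_contra hne
        obtain ⟨m, hm, hle⟩ := Ideal.exists_le_maximal _ hne
        let p : PrimeSpectrum R := ⟨m, hm.isPrime⟩
        have hp : p ∈ zeroLocus (J : Set R) := fun x hx => hle (Ideal.mem_sup_right hx)
        let S : Submonoid R := q.asIdeal.primeCompl ⊔ m.primeCompl
        have hS : (0 : R) ∉ S := by
          intro h0
          obtain ⟨b, hb, a, ha, hab⟩ := Submonoid.mem_sup.mp h0
          exact ha (hle (Ideal.mem_sup_left ⟨b, hb, by rw [mul_comm]; exact hab⟩))
        obtain ⟨r, hr, -, hdisj⟩ := Ideal.exists_le_prime_disjoint (⊥ : Ideal R) S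
          (Set.disjoint_left.mpr fun x hx hxS => hS (by rw [show x = 0 from hx] at hxS; exact hxS))
        let r' : PrimeSpectrum R := ⟨r, hr⟩
        have h1 : r ≤ q.asIdeal := fun x hx => by_contra fun hxq =>
          Set.disjoint_left.mp hdisj hx (SetLike.le_def.mp le_sup_left (show x ∈ q.asIdeal.primeCompl from hxq))
        have h2 : r ≤ m := fun x hx => by_contra fun hxq =>
          Set.disjoint_left.mp hdisj hx (SetLike.le_def.mp le_sup_right (show x ∈ m.primeCompl from hxq))
        have h3 : r' ∈ zeroLocus (J : Set R) := hZg ((PrimeSpectrum.le_iff_specializes r' p).mp h2) hp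
        exact hqZ fun x hx => h1 (h3 hx)
      obtain ⟨a, ⟨b, hb, hab⟩, j, hj, h1⟩ := Submodule.mem_sup.mp ((Ideal.eq_top_iff_one _).mp htop)
      refine hb (hq ((hmem b).mpr fun p hp => ⟨a, fun ha => p.2.ne_top ((Ideal.eq_top_iff_one _).mpr ?_), hab⟩))
      rw [← h1]
      exact p.asIdeal.add_mem ha (hp hj)
    · obtain ⟨s, hs, hsf⟩ := (hmem f).mp hf p hp
      exact (p.2.mem_or_mem (hsf ▸ p.asIdeal.zero_mem)).resolve_left hs
  refine ⟨I, Ideal.Pure.of_inf_eq_mul I fun K _ => le_antisymm (fun f hf => ?_) Ideal.mul_le_inf, hV⟩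
  obtain ⟨hfI, hfK⟩ := hf
  let Ann : Ideal R := Submodule.annihilator (Ideal.span {f})
  have htop : Ann ⊔ I = ⊤ := by
    by_contra hne
    obtain ⟨m, hm, hle⟩ := Ideal.exists_le_maximal _ hne
    let p : PrimeSpectrum R := ⟨m, hm.isPrime⟩
    have hp : p ∈ zeroLocus (I : Set R) := fun x hx => hle (Ideal.mem_sup_right hx)
    obtain ⟨s, hs, hsf⟩ := (hmem f).mp hfI p (hV ▸ hp)
    exact hs (hle (Ideal.mem_sup_left ((Submodule.mem_annihilator_span_singleton _ _).mpr hsf)))
  obtain ⟨a, ha, y, hy, h1⟩ := Submodule.mem_sup.mp ((Ideal.eq_top_iff_one _).mp htop)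
  have haf : a * f = 0 := (Submodule.mem_annihilator_span_singleton _ _).mp ha
  have : f = y * f := by linear_combination haf - f * h1
  rw [this]
  exact Ideal.mul_mem_mul hy hfK

end Groth.Agent.S6353
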