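import Groth.Statements.S6354
import Mathlib.RingTheory.Ideal.Pure
import Mathlib.RingTheory.Spectrum.Prime.Topology
import Mathlib.Algebra.Module.Projective

set_option autoImplicit false
universe u
open CAlg

namespace Groth.Agent.S6354

open PrimeSpectrum in
/-- For an ideal I of a commutative ring R these four conditions are equivalent: (1) I is finitely
generated and pure; (2) I = (e) for some idempotent e; (3) I is pure with V(I) open in Spec R; (4)
R/I is projective as an R-module. -/
theorem result (R : Type u) [CommRing R] (I : Ideal R) :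
    List.TFAE [I.Pure ∧ I.FG, ∃ e : R, IsIdempotentElem e ∧ I = Ideal.span {e},
      I.Pure ∧ IsOpen (zeroLocus (I : Set R)), Module.Projective R (R ⧸ I)] := by
  tfae_have 1 → 2 := fun ⟨hp, hfg⟩ => by
    haveI := hp
    exact (I.isIdempotentElem_iff_of_fg hfg).mp I.isIdempotentElem_of_pure
  tfae_have 2 → 1 := by
    rintro ⟨e, he, rfl⟩
    have hfg : (Ideal.span {e} : Ideal R).FG := Submodule.fg_span_singleton e
    exact ⟨Ideal.Pure.of_isIdempotentElem hfg ((Ideal.isIdempotentElem_iff_of_fg _ hfg).mpr ⟨e, he, rfl⟩), hfg⟩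
  tfae_have 2 → 3 := by
    rintro ⟨e, he, rfl⟩
    have hfg : (Ideal.span {e} : Ideal R).FG := Submodule.fg_span_singleton e
    refine ⟨Ideal.Pure.of_isIdempotentElem hfg ((Ideal.isIdempotentElem_iff_of_fg _ hfg).mpr ⟨e, he, rfl⟩), ?_⟩
    rw [zeroLocus_span]
    exact ((isClopen_iff_zeroLocus.mpr ⟨e, he, rfl⟩).isOpen)
  tfae_have 3 → 2 := by
    rintro ⟨hp, hop⟩
    haveI := hp
    obtain ⟨e, he, hz⟩ := isClopen_iff_zeroLocus.mp (⟨isClosed_zeroLocus _, hop⟩ : IsClopen (zeroLocus (I : Set R)))
    have hfg : (Ideal.span {e} : Ideal R).FG := Submodule.fg_span_singleton e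
    haveI : (Ideal.span {e} : Ideal R).Pure :=
      Ideal.Pure.of_isIdempotentElem hfg ((Ideal.isIdempotentElem_iff_of_fg _ hfg).mpr ⟨e, he, rfl⟩)
    exact ⟨e, he, Ideal.zeroLocus_inj_of_pure.mp (by rw [hz, zeroLocus_span])⟩
  tfae_have 2 → 4 := by
    rintro ⟨e, he, rfl⟩
    refine Module.Projective.of_split ((Ideal.span {e} : Ideal R).liftQ (LinearMap.mulLeft R (1 - e)) ?_)
      (Ideal.span {e} : Ideal R).mkQ ?_
    · intro x hx
      obtain ⟨c, rfl⟩ := Ideal.mem_span_singleton'.mp hx
      show (1 - e) * (c * e) = 0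
      linear_combination -c * he.eq
    · refine LinearMap.ext fun z => ?_
      obtain ⟨x, rfl⟩ := Submodule.Quotient.mk_surjective _ z
      show Submodule.Quotient.mk ((1 - e) * x) = Submodule.Quotient.mk x
      rw [Submodule.Quotient.eq]
      exact Ideal.mem_span_singleton'.mpr ⟨-x, by ring⟩
  tfae_have 4 → 2 := fun h => by
    haveI := h
    obtain ⟨s, hs⟩ := Module.projective_lifting_property I.mkQ LinearMap.id I.mkQ_surjective
    let a : R := s (Submodule.Quotient.mk 1)
    have ha : 1 - a ∈ I := (Submodule.Quotient.eq I).mp (LinearMap.congr_fun hs (Submodule.Quotient.mk 1)).symm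
    have hx : ∀ x ∈ I, x * a = 0 := fun x hx => by
      rw [← smul_eq_mul, ← map_smul, ← Submodule.Quotient.mk_smul, smul_eq_mul, mul_one,
        (Submodule.Quotient.mk_eq_zero I).mpr hx, map_zero]
    refine ⟨1 - a, ?_, le_antisymm (fun x hx' => Ideal.mem_span_singleton'.mpr ⟨x, by linear_combination -(hx x hx')⟩)
      ((Ideal.span_singleton_le_iff_mem _).mpr ha)⟩
    show (1 - a) * (1 - a) = 1 - a
    linear_combination -(hx _ ha)
  tfae_finish

end Groth.Agent.S6354
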