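import Mathlib.RingTheory.Ideal.Pure
import Mathlib.RingTheory.Spectrum.Prime.Topology
import Mathlib.Topology.Inseparable
import Mathlib.RingTheory.Flat.Basic
import Mathlib.Algebra.Module.Projective
import Mathlib.RingTheory.Finiteness.Defs
import Mathlib.RingTheory.Idempotents
import Mathlib.RingTheory.Spectrum.Prime.Topology
import Mathlib.RingTheory.Flat.LocallyFree
import Mathlib.RingTheory.LocalProperties.FinitePresentation
import Mathlib.RingTheory.Flat.EquationalCriterion
import Mathlib.RingTheory.Ideal.Pure
import Mathlib.RingTheory.Flat.Stability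

set_option autoImplicit false
namespace CAlg
end CAlg
universe u
open CAlg

namespace Groth.Agent.S6355

/-- For a commutative ring R the following are equivalent: (1) every subset of Spec R which is closed
and stable under generalization is open; (2) every finite flat R-module is finite locally free, i.e.
(for finite modules) projective. -/
theorem result (R : Type u) [CommRing R] :
    (∀ Z : Set (PrimeSpectrum R), IsClosed Z → StableUnderGeneralization Z → IsOpen Z) ↔
      ∀ (M : Type u) [AddCommGroup M] [Module R M], Module.Finite R M → Module.Flat R M →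
        Module.Projective R M := by
  classical
  constructor
  · intro hZ M _ _ hfin hflat
    haveI := hfin
    haveI := hflat
    have hfree : ∀ q : PrimeSpectrum R,
        Module.Free (Localization.AtPrime q.asIdeal) (LocalizedModule q.asIdeal.primeCompl M) :=
      fun q => Module.free_of_flat_of_isLocalRing
    have hgen : ∀ p : PrimeSpectrum R, ∃ (φ : (Fin (Module.rankAtStalk (R := R) M p) → R) →ₗ[R] M)
        (f : R), f ∉ p.asIdeal ∧ ∀ x, f • x ∈ LinearMap.range φ := by
      intro p
      haveI := hfree p
      let b : Module.Basis (Fin (Module.rankAtStalk (R := R) M p)) (Localization.AtPrime p.asIdeal)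
          (LocalizedModule p.asIdeal.primeCompl M) := Module.finBasis _ _
      have hb : ∀ i, ∃ (m : M) (s : p.asIdeal.primeCompl), b i = LocalizedModule.mk m s := fun i =>
        LocalizedModule.induction_on (fun m s => ⟨m, s, rfl⟩) (b i)
      choose m s hms using hb
      let φ : (Fin (Module.rankAtStalk (R := R) M p) → R) →ₗ[R] M := Fintype.linearCombination R m
      have hmem : ∀ x : M, ∃ u ∉ p.asIdeal, u • x ∈ LinearMap.range φ := by
        intro x
        have hx : LocalizedModule.mk x 1 ∈ Submodule.span (Localization.AtPrime p.asIdeal)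
            (Set.range b) := by rw [b.span_eq]; trivial
        suffices ∀ z ∈ Submodule.span (Localization.AtPrime p.asIdeal) (Set.range b),
            ∃ (v : _) (t : p.asIdeal.primeCompl), z = LocalizedModule.mk (φ v) t by
          obtain ⟨v, t, hvt⟩ := this _ hx
          obtain ⟨u, hu⟩ := LocalizedModule.mk_eq.mp hvt
          refine ⟨u * t, fun h => (p.2.mem_or_mem h).elim u.2 t.2, (u : R) • v, ?_⟩
          rw [mul_smul, map_smul]
          simp only [Submonoid.smul_def, OneMemClass.coe_one, one_smul] at hu
          exact hu.symm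
        intro z hz
        induction hz using Submodule.span_induction with
        | mem z hz =>
          obtain ⟨i, rfl⟩ := hz
          exact ⟨Pi.single i 1, s i, by rw [hms, Fintype.linearCombination_apply_single, one_smul]⟩
        | zero => exact ⟨0, 1, by rw [map_zero, LocalizedModule.zero_mk]⟩
        | add z w _ _ hz hw =>
          obtain ⟨v, t, rfl⟩ := hz
          obtain ⟨v', t', rfl⟩ := hw
          refine ⟨(t' : R) • v + (t : R) • v', t * t', ?_⟩
          rw [LocalizedModule.mk_add_mk, map_add, map_smul, map_smul]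
          rfl
        | smul a z _ hz =>
          obtain ⟨v, t, rfl⟩ := hz
          induction a using Localization.induction_on with
          | _ y =>
            obtain ⟨r, u⟩ := y
            exact ⟨r • v, u * t, by rw [map_smul, LocalizedModule.mk_smul_mk]⟩
      obtain ⟨G, hG⟩ := hfin.fg_top
      choose u hu hux using hmem
      refine ⟨φ, ∏ x ∈ G, u x, fun h => ?_, fun x => ?_⟩
      · obtain ⟨x, -, hx⟩ := (Ideal.IsPrime.prod_mem_iff (hp := p.2)).mp h
        exact hu x hx
      · have hx : x ∈ Submodule.span R (G : Set M) := by rw [hG]; trivial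
        induction hx using Submodule.span_induction with
        | mem x hx =>
          obtain ⟨c, hc⟩ := Finset.dvd_prod_of_mem u hx
          rw [hc, mul_comm, mul_smul]
          exact Submodule.smul_mem _ c (hux x)
        | zero => rw [smul_zero]; exact Submodule.zero_mem _
        | add a b _ _ ha hb => rw [smul_add]; exact Submodule.add_mem _ ha hb
        | smul r a _ ha => rw [smul_comm]; exact Submodule.smul_mem _ r ha
    have hle : ∀ (k : ℕ) (φ : (Fin k → R) →ₗ[R] M) (f : R), (∀ x, f • x ∈ LinearMap.range φ) →
        ∀ q : PrimeSpectrum R, f ∉ q.asIdeal → Module.rankAtStalk (R := R) M q ≤ k := by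
      intro k φ f hφ q hq
      haveI := hfree q
      let S := q.asIdeal.primeCompl
      have hsurj : Function.Surjective (LocalizedModule.map S φ) := fun z => by
        induction z using LocalizedModule.induction_on with
        | _ x s =>
          obtain ⟨v, hv⟩ := hφ x
          refine ⟨LocalizedModule.mk v (⟨f, hq⟩ * s), ?_⟩
          rw [LocalizedModule.map_mk, hv]
          exact LocalizedModule.mk_cancel_common_left (⟨f, hq⟩ : S) s x
      obtain ⟨σ, hσ⟩ := Module.projective_lifting_property (LocalizedModule.map S φ) LinearMap.id hsurj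
      haveI : Nontrivial R := ⟨⟨0, 1, fun h => q.2.ne_top ((Ideal.eq_top_iff_one _).mpr (h ▸ q.asIdeal.zero_mem))⟩⟩
      refine (LinearMap.finrank_le_finrank_of_injective (f := σ)
        (Function.LeftInverse.injective (g := LocalizedModule.map S φ) fun x => LinearMap.congr_fun hσ x)).trans ?_
      show Module.rankAtStalk (R := R) (Fin k → R) q ≤ k
      rw [Module.rankAtStalk_eq_finrank_of_free]
      simp
    have hopen : ∀ k : ℕ, IsOpen {p : PrimeSpectrum R | k ≤ Module.rankAtStalk (R := R) M p} := by
      intro k
      refine hZ _ ?_ ?_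
      · rw [← isOpen_compl_iff, isOpen_iff_forall_mem_open]
        intro p hp
        obtain ⟨φ, f, hf, hφ⟩ := hgen p
        refine ⟨PrimeSpectrum.basicOpen f, fun q hq hqk => hp ?_, PrimeSpectrum.isOpen_basicOpen, hf⟩
        exact le_trans (show k ≤ _ from hqk) (hle _ φ f hφ q hq)
      · intro x y hyx hx
        show k ≤ _
        rw [Module.rankAtStalk_eq_of_le_of_finite_of_flat M ((PrimeSpectrum.le_iff_specializes _ _).mpr hyx)]
        exact hx
    have hloc : ∀ p : PrimeSpectrum R, ∃ g : R, g ∉ p.asIdeal ∧
        Module.FinitePresentation (Localization.Away g) (TensorProduct R (Localization.Away g) M) := by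
      intro p
      obtain ⟨φ, f, hf, hφ⟩ := hgen p
      obtain ⟨_, ⟨g, rfl⟩, hpg, hgU⟩ :=
        PrimeSpectrum.isTopologicalBasis_basic_opens.exists_subset_of_mem_open
          (show p ∈ {q : PrimeSpectrum R | Module.rankAtStalk (R := R) M p ≤ Module.rankAtStalk (R := R) M q} ∩
            PrimeSpectrum.basicOpen f from ⟨le_refl (Module.rankAtStalk (R := R) M p), hf⟩)
          ((hopen _).inter PrimeSpectrum.isOpen_basicOpen)
      refine ⟨f * g, fun h => (p.2.mem_or_mem h).elim hf hpg, ?_⟩
      let L := Localization.Away (f * g)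
      have hunit : IsUnit (algebraMap R L f) :=
        isUnit_of_dvd_unit (map_dvd _ (dvd_mul_right f g)) (IsLocalization.Away.algebraMap_isUnit _)
      have hsurj : Function.Surjective (φ.baseChange L) := by
        intro z
        induction z using TensorProduct.induction_on with
        | zero => exact ⟨0, map_zero _⟩
        | tmul a x =>
          obtain ⟨v, hv⟩ := hφ x
          obtain ⟨w, hw⟩ := hunit.exists_left_inv
          refine ⟨TensorProduct.tmul R (a * w) v, ?_⟩
          rw [LinearMap.baseChange_tmul, hv, ← TensorProduct.smul_tmul, Algebra.smul_def]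
          congr 1
          rw [mul_comm (algebraMap R L f), mul_assoc, hw, mul_one]
        | add a b ha hb =>
          obtain ⟨u, rfl⟩ := ha
          obtain ⟨v, rfl⟩ := hb
          exact ⟨u + v, map_add _ _ _⟩
      have hrank : ∀ (m : Ideal L) [m.IsMaximal],
          Module.rankAtStalk (R := L) (TensorProduct R L (Fin (Module.rankAtStalk (R := R) M p) → R)) ⟨m, inferInstance⟩ =
            Module.rankAtStalk (R := L) (TensorProduct R L M) ⟨m, inferInstance⟩ := by
        intro m _
        rw [Module.rankAtStalk_baseChange, Module.rankAtStalk_baseChange]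
        set q := PrimeSpectrum.comap (algebraMap R L) ⟨m, inferInstance⟩
        have hq : f * g ∉ q.asIdeal := fun h =>
          (Ideal.IsMaximal.ne_top ‹_›) (Ideal.eq_top_of_isUnit_mem m h
            (IsLocalization.Away.algebraMap_isUnit (f * g)))
        haveI : Nontrivial R :=
          ⟨⟨0, 1, fun h => q.2.ne_top ((Ideal.eq_top_iff_one _).mpr (h ▸ q.asIdeal.zero_mem))⟩⟩
        rw [Module.rankAtStalk_eq_finrank_of_free]
        simp only [Pi.natCast_def, Module.finrank_fin_fun]
        exact le_antisymm ((hgU (show q ∈ _ from fun h => hq (Ideal.mul_mem_left _ _ h))).1)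
          (hle _ φ f hφ q fun h => hq (Ideal.mul_mem_right _ _ h))
      exact Module.FinitePresentation.of_equiv (LinearEquiv.ofBijective (φ.baseChange L)
        (Module.bijective_of_surjective_of_rankAtStalk_eq hsurj hrank))
    choose g hg hgfp using hloc
    have hs : Ideal.span (Set.range g) = ⊤ := by
      by_contra h
      obtain ⟨m, hm, hle⟩ := Ideal.exists_le_maximal _ h
      exact hg ⟨m, hm.isPrime⟩ (hle (Ideal.subset_span ⟨_, rfl⟩))
    haveI : ∀ a : Set.range g, Module.FinitePresentation (Localization.Away a.1) (TensorProduct R (Localization.Away a.1) M) := by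
      rintro ⟨a, p, rfl⟩
      exact hgfp p
    haveI : Module.FinitePresentation R M :=
      Module.FinitePresentation.of_localizationSpan' (Rₚ := fun a : Set.range g => Localization.Away a.1)
        (Set.range g) hs (fun a => TensorProduct.mk R (Localization.Away a.1) M 1) (fun a => inferInstance)
    exact Module.Flat.projective_of_finitePresentation
  · intro hP Z hZc hZg
    obtain ⟨J, rfl⟩ : ∃ J : Ideal R, Z = PrimeSpectrum.zeroLocus (J : Set R) := by
      obtain ⟨s, rfl⟩ := (PrimeSpectrum.isClosed_iff_zeroLocus Z).mp hZc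
      exact ⟨Ideal.span s, (PrimeSpectrum.zeroLocus_span s).symm⟩
    let I : Ideal R :=
      { carrier := {x | ∃ a ∈ J, (1 - a) * x = 0}
        add_mem' := by
          rintro x y ⟨a, ha, hx⟩ ⟨b, hb, hy⟩
          exact ⟨a + b - a * b, J.sub_mem (J.add_mem ha hb) (J.mul_mem_left _ hb),
            by linear_combination (1 - b) * hx + (1 - a) * hy⟩
        zero_mem' := ⟨0, J.zero_mem, mul_zero _⟩
        smul_mem' := by
          rintro c x ⟨a, ha, hx⟩
          exact ⟨a, ha, by rw [smul_eq_mul]; linear_combination c * hx⟩ }
    -- elements of `I` separate points outside `Z`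
    have hsep : ∀ p : PrimeSpectrum R, p ∉ PrimeSpectrum.zeroLocus (J : Set R) →
        ∃ x ∈ I, x ∉ p.asIdeal := by
      intro p hp
      have hst : ∀ z ∈ PrimeSpectrum.zeroLocus (J : Set R), ∃ t ∉ z.asIdeal, ∃ s ∉ p.asIdeal, s * t = 0 := by
        intro z hz
        by_contra! h
        let S : Submonoid R := p.asIdeal.primeCompl ⊔ z.asIdeal.primeCompl
        have hd : Disjoint ((⊥ : Ideal R) : Set R) (S : Set R) := Set.disjoint_left.mpr fun x hx hxS => by
          obtain ⟨s, hs, t, ht, rfl⟩ := Submonoid.mem_sup.mp hxS
          exact h t ht s hs hx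
        obtain ⟨q, hq, -, hqd⟩ := Ideal.exists_le_prime_disjoint ⊥ S hd
        have hqz : q ≤ z.asIdeal := fun x hx => by
          by_contra hxz
          exact Set.disjoint_left.mp hqd hx (Submonoid.mem_sup_right (show x ∈ z.asIdeal.primeCompl from hxz))
        have hqp : q ≤ p.asIdeal := fun x hx => by
          by_contra hxp
          exact Set.disjoint_left.mp hqd hx (Submonoid.mem_sup_left (show x ∈ p.asIdeal.primeCompl from hxp))
        have hqZ : (⟨q, hq⟩ : PrimeSpectrum R) ∈ PrimeSpectrum.zeroLocus (J : Set R) :=
          hZg ((PrimeSpectrum.le_iff_specializes (⟨q, hq⟩ : PrimeSpectrum R) z).mp hqz) hz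
        exact hp fun x hx => hqp (hqZ hx)
      choose! t ht s hs hst using hst
      -- `t`'s generate the unit ideal together with `J`
      let T := Ideal.span (t '' PrimeSpectrum.zeroLocus (J : Set R)) ⊔ J
      have hT : T = ⊤ := by
        by_contra h
        obtain ⟨m, hm, hle⟩ := Ideal.exists_le_maximal _ h
        have hmZ : (⟨m, hm.isPrime⟩ : PrimeSpectrum R) ∈ PrimeSpectrum.zeroLocus (J : Set R) :=
          fun x hx => hle (le_sup_right (α := Ideal R) hx)
        exact ht _ hmZ (hle (le_sup_left (α := Ideal R) (Ideal.subset_span ⟨_, hmZ, rfl⟩)))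
      obtain ⟨c, hc, a, ha, hca⟩ := Submodule.mem_sup.mp ((Ideal.eq_top_iff_one T).mp hT)
      obtain ⟨w, hw, rfl⟩ : ∃ w, (∃ σ ∉ p.asIdeal, σ * w = 0) ∧ w = c := by
        refine ⟨c, ?_, rfl⟩
        clear hca
        induction hc using Submodule.span_induction with
        | mem x hx => obtain ⟨z, hz, rfl⟩ := hx; exact ⟨s z, hs z hz, hst z hz⟩
        | zero => exact ⟨1, fun h => p.2.ne_top ((Ideal.eq_top_iff_one _).mpr h), mul_zero _⟩
        | add x y _ _ hx hy =>
          obtain ⟨σ, hσ, hσx⟩ := hx
          obtain ⟨τ, hτ, hτy⟩ := hy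
          exact ⟨σ * τ, fun h => (p.2.mem_or_mem h).elim hσ hτ,
            by linear_combination τ * hσx + σ * hτy⟩
        | smul r x _ hx =>
          obtain ⟨σ, hσ, hσx⟩ := hx
          exact ⟨σ, hσ, by rw [smul_eq_mul]; linear_combination r * hσx⟩
      obtain ⟨σ, hσ, hσw⟩ := hw
      exact ⟨σ, ⟨a, ha, by linear_combination hσw + σ * (1 : R) * 0 - σ * hca⟩, hσ⟩
    have hVI : PrimeSpectrum.zeroLocus (J : Set R) = PrimeSpectrum.zeroLocus (I : Set R) := by
      ext p
      refine ⟨fun hp x ⟨a, ha, hx⟩ => (p.2.mem_or_mem (show (1 - a) * x ∈ p.asIdeal by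
        rw [hx]; exact p.asIdeal.zero_mem)).resolve_left fun h => p.2.ne_top ((Ideal.eq_top_iff_one _).mpr
          (by have := p.asIdeal.add_mem h (hp ha); rwa [sub_add_cancel] at this)), fun hp => ?_⟩
      by_contra h
      obtain ⟨x, hx, hxp⟩ := hsep p h
      exact hxp (hp hx)
    have hpure : ∀ x ∈ I, ∃ y ∈ I, x = x * y := by
      rintro x ⟨a, ha, hx⟩
      let T := Ideal.span {1 - a} ⊔ I
      have hT : T = ⊤ := by
        by_contra h
        obtain ⟨m, hm, hle⟩ := Ideal.exists_le_maximal _ h
        have hmZ : (⟨m, hm.isPrime⟩ : PrimeSpectrum R) ∈ PrimeSpectrum.zeroLocus (J : Set R) := by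
          rw [hVI]; exact fun y hy => hle (le_sup_right (α := Ideal R) hy)
        refine hm.ne_top ((Ideal.eq_top_iff_one _).mpr ?_)
        have := m.add_mem (hle (le_sup_left (α := Ideal R) (Ideal.mem_span_singleton_self _))) (hmZ ha)
        rwa [sub_add_cancel] at this
      obtain ⟨c, hc, y, hy, hcy⟩ := Submodule.mem_sup.mp ((Ideal.eq_top_iff_one T).mp hT)
      obtain ⟨d, rfl⟩ := Ideal.mem_span_singleton'.mp hc
      exact ⟨y, hy, by linear_combination d * hx - x * hcy⟩
    haveI : I.Pure := Ideal.Pure.of_inf_eq_mul I fun K _ => le_antisymm (fun x hx => by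
      obtain ⟨y, hy, hxy⟩ := hpure x hx.1
      have := Ideal.mul_mem_mul hy hx.2
      rwa [mul_comm y x, ← hxy] at this) Ideal.mul_le_inf
    haveI : Module.Projective R (R ⧸ I) := hP (R ⧸ I) inferInstance inferInstance
    obtain ⟨σ, hσ⟩ := Module.projective_lifting_property I.mkQ LinearMap.id (Submodule.mkQ_surjective I)
    let e := 1 - σ (Submodule.Quotient.mk 1)
    have heI : ∀ x ∈ I, x * e = x := by
      intro x hx
      have h1 : σ (Submodule.Quotient.mk x) = x * σ (Submodule.Quotient.mk 1) := by
        rw [← smul_eq_mul (a := x), ← map_smul, ← Submodule.Quotient.mk_smul, smul_eq_mul, mul_one]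
      rw [(Submodule.Quotient.mk_eq_zero I).mpr hx, map_zero] at h1
      rw [mul_sub, ← h1, mul_one, sub_zero]
    have he : e ∈ I := by
      rw [← Submodule.Quotient.mk_eq_zero, Submodule.Quotient.mk_sub]
      exact sub_eq_zero.mpr (LinearMap.congr_fun hσ (Submodule.Quotient.mk 1)).symm
    rw [hVI, show PrimeSpectrum.zeroLocus (I : Set R) = (PrimeSpectrum.basicOpen (1 - e) : Set (PrimeSpectrum R)) from
      Set.ext fun p => ⟨fun hp h => p.2.ne_top ((Ideal.eq_top_iff_one _).mpr (by
          have := p.asIdeal.add_mem h (hp he); rwa [sub_add_cancel] at this)),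
        fun hp x hx => (p.2.mem_or_mem (show (1 - e) * x ∈ p.asIdeal by
          rw [sub_mul, one_mul, mul_comm, heI x hx, sub_self]; exact p.asIdeal.zero_mem)).resolve_left hp⟩]
    exact PrimeSpectrum.isOpen_basicOpen

end Groth.Agent.S6355
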