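import Groth.Statements.S6357
import Mathlib.Tactic
import Mathlib.RingTheory.Spectrum.Prime.Module
import Mathlib.RingTheory.LocalRing.Module
import Mathlib.RingTheory.Localization.AtPrime.Basic
import Mathlib.RingTheory.Ideal.KrullsHeightTheorem
import Mathlib.LinearAlgebra.Matrix.NonsingularInverse
import Mathlib.RingTheory.TensorProduct.Quotient
import Mathlib.RingTheory.Flat.FaithfullyFlat.Basic
import Mathlib.LinearAlgebra.TensorProduct.Prod
import Mathlib.RingTheory.LocalProperties.Reduced
import Mathlib.RingTheory.Finiteness.ModuleFinitePresentation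
import Groth.Agent.L02.Dominate

set_option autoImplicit false
universe u
open CAlg

namespace Groth.Agent.S6357

/-- Given finitely presented R-modules G_i forming a directed system over a nonempty directed index set,
with transition maps f_ij and colimit M, the module M is Mittag-Leffler exactly when every index i
admits some j ≥ i for which f_ij factors through f_ik whenever k ≥ i. -/
theorem result (R : Type u) [CommRing R] {ι : Type u}
    [Preorder ι] [IsDirected ι (· ≤ ·)] [Nonempty ι] [DecidableEq ι] (G : ι → Type u)
    [∀ i, AddCommGroup (G i)] [∀ i, Module R (G i)] [∀ i, Module.FinitePresentation R (G i)]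
    (f : ∀ i j, i ≤ j → G i →ₗ[R] G j) [DirectedSystem G fun i j h => f i j h] :
    CAlg.IsMittagLeffler R (Module.DirectLimit G f) ↔
      ∀ i, ∃ (j : ι) (hij : i ≤ j), ∀ (k : ι) (hik : i ≤ k),
        ∃ h : G k →ₗ[R] G j, f i j hij = h ∘ₗ f i k hik := by
  classical
  constructor
  · intro hM i
    obtain ⟨P', _, _, hP', g, h, hfac, hk⟩ :=
      Groth.L02.exists_dominating_factor (Module.DirectLimit.of R ι G f i) hM
    obtain ⟨n, K, e, hK⟩ := Module.FinitePresentation.exists_fin R P'
    obtain ⟨m, c, hc⟩ := Submodule.fg_iff_exists_fin_generating_family.mp hK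
    have hlift : ∀ {n : ℕ} (v : Fin n → Module.DirectLimit G f), ∃ (j : ι) (w : Fin n → G j), i ≤ j ∧
        ∀ a, Module.DirectLimit.of R ι G f j (w a) = v a := by
      intro n v
      choose jf wf hwf using fun a => Module.DirectLimit.exists_of (v a)
      obtain ⟨j, hj⟩ := Finset.exists_le (insert i (Finset.univ.image jf))
      exact ⟨j, fun a => f (jf a) j (hj _ (by simp)) (wf a), hj _ (by simp),
        fun a => (Module.DirectLimit.of_f).trans (hwf a)⟩
    obtain ⟨j, w, hij, hw⟩ := hlift (fun a => h (e.symm (K.mkQ (Pi.single a 1))))
    let σ : (Fin n → R) →ₗ[R] G j := Fintype.linearCombination R w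
    have hσ : (Module.DirectLimit.of R ι G f j).comp σ = h.comp (e.symm.toLinearMap.comp K.mkQ) := by
      refine (Pi.basisFun R (Fin n)).ext fun a => ?_
      simp [σ, hw]
    obtain ⟨n', K', e', hK'⟩ := Module.FinitePresentation.exists_fin R (G i)
    obtain ⟨pre, hpre⟩ := Module.projective_lifting_property (e.symm.toLinearMap.comp K.mkQ)
      (g.comp (e'.symm.toLinearMap.comp K'.mkQ)) (e.symm.surjective.comp K.mkQ_surjective)
    let rel : Fin m ⊕ Fin n' → G j := Sum.elim (fun b => σ (c b))
      (fun a => σ (pre (Pi.single a 1)) - f i j hij (e'.symm (K'.mkQ (Pi.single a 1))))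
    have hrel : ∀ b, Module.DirectLimit.of R ι G f j (rel b) = 0 := by
      rintro (b | a)
      · have := LinearMap.congr_fun hσ (c b)
        simp only [LinearMap.comp_apply] at this
        simp only [rel, Sum.elim_inl, this, Submodule.mkQ_apply,
          (Submodule.Quotient.mk_eq_zero K).mpr (show c b ∈ K from hc ▸ Submodule.subset_span (Set.mem_range_self b)), LinearEquiv.coe_coe, map_zero]
      · have h1 := LinearMap.congr_fun hσ (pre (Pi.single a 1))
        have h2 := LinearMap.congr_fun hpre (Pi.single a 1)
        simp only [LinearMap.comp_apply, LinearEquiv.coe_coe] at h1 h2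
        simp only [rel, Sum.elim_inr, map_sub, h1, h2, Module.DirectLimit.of_f]
        rw [hfac, LinearMap.comp_apply, sub_self]
    choose kf hkf hkf0 using fun b => Module.DirectLimit.of.zero_exact (hrel b)
    obtain ⟨l, hl⟩ := Finset.exists_le (insert j (Finset.univ.image kf))
    have hjl : j ≤ l := hl j (by simp)
    have hrel0 : ∀ b, f j l hjl (rel b) = 0 := fun b => by
      rw [← DirectedSystem.map_map' f (hkf b) (hl _ (by simp)), hkf0, map_zero]
    let h' : P' →ₗ[R] G l := (K.liftQ ((f j l hjl).comp σ) (by
      rw [← hc, Submodule.span_le]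
      rintro _ ⟨b, rfl⟩
      exact hrel0 (Sum.inl b))).comp e.toLinearMap
    have hfl : f i l (hij.trans hjl) = h'.comp g := by
      refine LinearMap.ext fun y => ?_
      obtain ⟨v, rfl⟩ : ∃ v, e'.symm (K'.mkQ v) = y := (e'.symm.surjective.comp K'.mkQ_surjective) y
      have : (f i l (hij.trans hjl)).comp (e'.symm.toLinearMap.comp K'.mkQ) =
          (h'.comp g).comp (e'.symm.toLinearMap.comp K'.mkQ) := by
        refine (Pi.basisFun R (Fin n')).ext fun a => ?_
        have h2 := LinearMap.congr_fun hpre (Pi.single a 1)
        simp only [LinearMap.comp_apply, LinearEquiv.coe_coe] at h2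
        have h4 : e (g (e'.symm (K'.mkQ (Pi.single a 1)))) = K.mkQ (pre (Pi.single a 1)) := by
          rw [← h2]; exact e.apply_symm_apply _
        simp only [Pi.basisFun_apply, LinearMap.comp_apply, LinearEquiv.coe_coe, h', h4]
        simp only [Submodule.mkQ_apply, Submodule.liftQ_apply, LinearMap.comp_apply]
        rw [← DirectedSystem.map_map' f hij hjl]
        have h3 := hrel0 (Sum.inr a)
        simp only [rel, Sum.elim_inr, map_sub, sub_eq_zero, Submodule.mkQ_apply] at h3
        exact h3.symm
      exact LinearMap.congr_fun this v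
    refine ⟨l, hij.trans hjl, fun k hik => ?_⟩
    have : Module.FinitePresentation R (G k ⧸ LinearMap.range (f i k hik)) :=
      Module.finitePresentation_of_surjective (LinearMap.range (f i k hik)).mkQ
        (Submodule.mkQ_surjective _) (by rw [Submodule.ker_mkQ, LinearMap.range_eq_map]; exact Module.Finite.fg_top.map _)
    refine Groth.L02.factors_of_ker_rTensor_le (f i k hik) (f i l _) fun Q _ _ x hx => ?_
    rw [LinearMap.mem_ker] at hx ⊢
    have h1 : (Module.DirectLimit.of R ι G f i).rTensor Q x = 0 := by
      rw [show Module.DirectLimit.of R ι G f i = (Module.DirectLimit.of R ι G f k).comp (f i k hik) from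
        LinearMap.ext fun y => Module.DirectLimit.of_f.symm, LinearMap.rTensor_comp,
        LinearMap.comp_apply, hx, map_zero]
    rw [hfl, LinearMap.rTensor_comp, LinearMap.comp_apply,
      LinearMap.mem_ker.mp ((hk Q).le (LinearMap.mem_ker.mpr h1)), map_zero]
  · intro h
    refine Groth.L02.isMittagLeffler_of_forall_dominate fun n φ => ?_
    choose jf wf hwf using fun a => Module.DirectLimit.exists_of (φ (Pi.single a 1))
    obtain ⟨i, hi⟩ := Finset.exists_le (Finset.univ.image jf)
    let ψ : (Fin n → R) →ₗ[R] G i :=
      Fintype.linearCombination R fun a => f (jf a) i (hi _ (by simp)) (wf a)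
    have hψ : φ = (Module.DirectLimit.of R ι G f i).comp ψ := by
      refine (Pi.basisFun R (Fin n)).ext fun a => ?_
      simp [ψ, Module.DirectLimit.of_f, hwf]
    obtain ⟨j, hij, hj⟩ := h i
    refine ⟨G j, inferInstance, inferInstance, inferInstance, (f i j hij).comp ψ,
      fun N _ _ => le_antisymm (fun x hx => ?_) (fun x hx => ?_)⟩
    · rw [LinearMap.mem_ker] at hx ⊢
      rw [hψ, LinearMap.rTensor_comp, LinearMap.comp_apply] at hx
      rw [LinearMap.rTensor_comp, LinearMap.comp_apply]
      generalize ψ.rTensor N x = z at hx ⊢
      have key : ∀ z : TensorProduct R (G i) N,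
          TensorProduct.directLimitLeft f N ((Module.DirectLimit.of R ι G f i).rTensor N z) =
            Module.DirectLimit.of R ι _ _ i z := fun z => by
        induction z using TensorProduct.induction_on with
        | zero => simp
        | tmul a b => simp
        | add a b ha hb => simp only [map_add, ha, hb]
      have hz := congrArg (TensorProduct.directLimitLeft f N) hx
      rw [key, map_zero] at hz
      have : DirectedSystem (fun a => TensorProduct R (G a) N) fun a b h => (f a b h).rTensor N :=
        { map_self := fun a w => by
            rw [show f a a le_rfl = LinearMap.id from LinearMap.ext fun v => DirectedSystem.map_self' f v,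
              LinearMap.rTensor_id, LinearMap.id_apply]
          map_map := fun _ _ _ hab hbc w => by
            rw [← LinearMap.comp_apply, ← LinearMap.rTensor_comp]
            congr 2
            exact LinearMap.ext fun v => DirectedSystem.map_map' f hab hbc v }
      obtain ⟨k, hik, hk⟩ := Module.DirectLimit.of.zero_exact hz
      obtain ⟨h', hh'⟩ := hj k hik
      rw [hh', LinearMap.rTensor_comp, LinearMap.comp_apply]
      exact (congrArg (h'.rTensor N) hk).trans (map_zero _)
    · rw [LinearMap.mem_ker] at hx ⊢
      rw [hψ, show Module.DirectLimit.of R ι G f i = (Module.DirectLimit.of R ι G f j).comp (f i j hij) from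
        LinearMap.ext fun y => Module.DirectLimit.of_f.symm, LinearMap.comp_assoc,
        LinearMap.rTensor_comp, LinearMap.comp_apply, hx, map_zero]

end Groth.Agent.S6357
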