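import Groth.Statements.S6361
import Mathlib.Tactic
import Mathlib.RingTheory.Spectrum.Prime.Module
import Mathlib.RingTheory.LocalRing.Module
import Mathlib.RingTheory.Localization.AtPrime.Basic
import Mathlib.RingTheory.Ideal.KrullsHeightTheorem
import Mathlib.LinearAlgebra.Matrix.NonsingularInverse
import Mathlib.RingTheory.TensorProduct.Quotient
import Mathlib.RingTheory.Flat.FaithfullyFlat.Basic
import Mathlib.LinearAlgebra.TensorProduct.Prod
import Mathlib.RingTheory.LocalProperties.Reduced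
import Mathlib.RingTheory.Finiteness.ModuleFinitePresentation
import Groth.Agent.L02.Dominate
import Groth.Agent.L02.Flat
import Groth.Agent.L02.CountableML

set_option autoImplicit false
universe u
open CAlg

namespace Groth.Agent.S6361

/-- Let M be a Mittag-Leffler, countably generated module over a commutative ring R, and f : P → M a
linear map with P finitely generated. Then there is an endomorphism a of M which factors through
some finitely presented module and satisfies a ∘ f = f. -/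
theorem result (R : Type u)
    [CommRing R] (M : Type u) [AddCommGroup M] [Module R M] (hML : CAlg.IsMittagLeffler R M)
    (hc : CAlg.IsCountablyGenerated R M) {P : Type u} [AddCommGroup P] [Module R P] [Module.Finite R P]
    (f : P →ₗ[R] M) :
    ∃ (Q : Type u) (_ : AddCommGroup Q) (_ : Module R Q) (_ : Module.FinitePresentation R Q)
      (b : M →ₗ[R] Q) (c : Q →ₗ[R] M), (c ∘ₗ b) ∘ₗ f = f := by
  classical
  obtain ⟨s, hs, hsp⟩ := hc
  obtain ⟨e, he⟩ := (hs.insert (0 : M)).exists_eq_range (Set.insert_nonempty _ _)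
  obtain ⟨n0, π0, hπ0⟩ := Module.Finite.exists_fin' R P
  -- a stage: a finitely presented module over M
  let St := Σ' (n : ℕ) (K : Submodule R (Fin n → R)) (_ : K.FG), ((Fin n → R) ⧸ K) →ₗ[R] M
  have step : ∀ (A : St) (m : M), ∃ (B : St) (u : ((Fin A.1 → R) ⧸ A.2.1) →ₗ[R] ((Fin B.1 → R) ⧸ B.2.1)),
      B.2.2.2.comp u = A.2.2.2 ∧ m ∈ LinearMap.range B.2.2.2 ∧
      ∀ (Q : Type u) [AddCommGroup Q] [Module R Q], LinearMap.ker (A.2.2.2.rTensor Q) ≤ LinearMap.ker (u.rTensor Q) := by
    rintro ⟨n, K, hK, h⟩ m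
    have : Module.FinitePresentation R ((Fin n → R) ⧸ K) :=
      Module.finitePresentation_of_surjective K.mkQ K.mkQ_surjective (by rw [Submodule.ker_mkQ]; exact hK)
    obtain ⟨n', K', hK', k, u, h1, h2, h3⟩ := Groth.L02.ml_step hML h m
    exact ⟨⟨n', K', hK', k⟩, u, h1, h2, h3⟩
  have hF0 : Module.FinitePresentation R (Fin n0 → R) := Module.finitePresentation_of_projective R _
  obtain ⟨P0, _, _, hP0, g0, k0, hfac0, hker0⟩ := Groth.L02.exists_dominating_factor (f.comp π0) hML
  obtain ⟨m0, K0, e0, hK0⟩ := Module.FinitePresentation.exists_fin R P0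
  choose nxt u hu hmem hdom using step
  let A : ℕ → St := fun t => Nat.rec ⟨m0, K0, hK0, k0.comp e0.symm.toLinearMap⟩ (fun t B => nxt B (e t)) t
  let X : ℕ → Type u := fun t => (Fin (A t).1 → R) ⧸ (A t).2.1
  have hX : ∀ t, Module.FinitePresentation R (X t) := fun t =>
    Module.finitePresentation_of_surjective (A t).2.1.mkQ (A t).2.1.mkQ_surjective
      (by rw [Submodule.ker_mkQ]; exact (A t).2.2.1)
  let h : ∀ t, X t →ₗ[R] M := fun t => (A t).2.2.2
  let v : ∀ t, X t →ₗ[R] X (t + 1) := fun t => u (A t) (e t)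
  have hv : ∀ t, (h (t + 1)).comp (v t) = h t := fun t => hu (A t) (e t)
  have hvker : ∀ t (Q : Type u) [AddCommGroup Q] [Module R Q],
      LinearMap.ker ((h t).rTensor Q) ≤ LinearMap.ker ((v t).rTensor Q) := fun t Q _ _ => hdom (A t) (e t) Q
  -- s t : X t → X 0, compatible along v on the image of the previous stage
  let a : ∀ t, (Fin (A t).1 → R) →ₗ[R] M := fun t => (h t).comp (A t).2.1.mkQ
  let g0' : (Fin n0 → R) →ₗ[R] X 0 := e0.toLinearMap.comp g0
  have hh0 : (h 0).comp g0' = f.comp π0 := by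
    refine LinearMap.ext fun x => ?_
    have := LinearMap.congr_fun hfac0 x
    simp only [LinearMap.comp_apply] at this ⊢
    rw [this]
    exact congrArg k0 (e0.symm_apply_apply _)
  have hfactor : ∀ {B : Type u} [AddCommGroup B] [Module R B] [Module.Finite R B] (t : ℕ)
      (φ : B →ₗ[R] X t), (∀ (Q : Type u) [AddCommGroup Q] [Module R Q],
        LinearMap.ker (((h t).comp φ).rTensor Q) ≤ LinearMap.ker (φ.rTensor Q)) →
      ∃ w : X (t + 1) →ₗ[R] X t, w.comp ((v t).comp φ) = φ := by
    intro B _ _ _ t φ hφ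
    have := hX t
    have := hX (t + 1)
    have : Module.FinitePresentation R (X (t + 1) ⧸ LinearMap.range ((v t).comp φ)) :=
      Module.finitePresentation_of_surjective (LinearMap.range ((v t).comp φ)).mkQ (Submodule.mkQ_surjective _)
        (by rw [Submodule.ker_mkQ, LinearMap.range_eq_map]; exact Module.Finite.fg_top.map _)
    obtain ⟨w, hw⟩ := Groth.L02.factors_of_ker_rTensor_le ((v t).comp φ) φ fun Q _ _ x hx => by
      apply hφ Q
      rw [LinearMap.mem_ker] at hx ⊢
      rw [← hv t, LinearMap.comp_assoc, LinearMap.rTensor_comp, LinearMap.comp_apply, hx, map_zero]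
    exact ⟨w, hw.symm⟩
  obtain ⟨w0, hw0⟩ := hfactor 0 g0' fun Q _ _ x hx => by
    rw [LinearMap.mem_ker] at hx ⊢
    rw [hh0] at hx
    rw [LinearMap.rTensor_comp, LinearMap.comp_apply, LinearMap.mem_ker.mp ((hker0 Q).le (LinearMap.mem_ker.mpr hx)), map_zero]
  have hw : ∀ t, ∃ w : X (t + 2) →ₗ[R] X (t + 1), w.comp ((v (t + 1)).comp (v t)) = v t := fun t => by
    have := hX t
    exact hfactor (t + 1) (v t) fun Q _ _ x hx => hvker t Q (by rwa [hv t] at hx)
  choose w hw using hw
  let r : ∀ t, X (t + 1) →ₗ[R] X 0 := fun t => Nat.rec (motive := fun t => X (t + 1) →ₗ[R] X 0) w0 (fun t r => r.comp (w t)) t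
  have hr : ∀ t, (r (t + 1)).comp ((v (t + 1)).comp (v t)) = (r t).comp (v t) := fun t =>
    show ((r t).comp (w t)).comp ((v (t + 1)).comp (v t)) = _ by rw [LinearMap.comp_assoc, hw]
  let s' : ∀ t, X t →ₗ[R] X 0 := fun t => (r t).comp (v t)
  have hs' : ∀ t, (s' (t + 1)).comp (v t) = s' t := fun t => by
    show ((r (t + 1)).comp (v (t + 1))).comp (v t) = (r t).comp (v t)
    rw [LinearMap.comp_assoc, hr]
  have hs'0 : (s' 0).comp g0' = g0' := by
    show (w0.comp (v 0)).comp g0' = g0'
    rw [LinearMap.comp_assoc, hw0]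
  have hker : ∀ t x, h t x = 0 → s' t x = 0 := fun t x hx => by
    have h1 : v t x = 0 := by
      have := hvker t R (x := x ⊗ₜ (1 : R)) (by simp [hx])
      simpa using congrArg (TensorProduct.rid R (X (t + 1))) (LinearMap.mem_ker.mp this)
    show r t (v t x) = 0
    rw [h1, map_zero]
  have hup : ∀ t k (x : X t), ∃ y : X (t + k), h (t + k) y = h t x ∧ s' (t + k) y = s' t x := by
    intro t k x
    induction k with
    | zero => exact ⟨x, rfl, rfl⟩
    | succ k ih =>
      obtain ⟨y, hy1, hy2⟩ := ih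
      exact ⟨v (t + k) y, (LinearMap.congr_fun (hv (t + k)) y).trans hy1, (LinearMap.congr_fun (hs' (t + k)) y).trans hy2⟩
  have hwell : ∀ t t' (x : X t) (x' : X t'), h t x = h t' x' → s' t x = s' t' x' := by
    intro t t' x x' hxx
    obtain ⟨y, hy1, hy2⟩ := hup t t' x
    obtain ⟨y', hy1', hy2'⟩ := hup t' t x'
    have key : ∀ T (hT : T = t + t') (z : X T), h T z = h t' x' → s' T z = s' t' x' → h (t + t') (hT ▸ z) = h t' x' ∧ s' (t + t') (hT ▸ z) = s' t' x' := by
      intro T hT z a b; subst hT; exact ⟨a, b⟩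
    obtain ⟨h3, h4⟩ := key _ (Nat.add_comm t' t) y' hy1' hy2'
    have := hker (t + t') (y - Nat.add_comm t' t ▸ y') (by rw [map_sub, hy1, h3, hxx, sub_self])
    rwa [map_sub, hy2, h4, sub_eq_zero] at this
  have hcov : ∀ y : M, ∃ (t : ℕ) (x : X t), h t x = y := by
    intro y
    have hy : y ∈ Submodule.span R s := hsp ▸ trivial
    induction hy using Submodule.span_induction with
    | mem y hy =>
      obtain ⟨t, rfl⟩ : ∃ t, e t = y := by rw [← Set.mem_range, ← he]; exact Or.inr hy
      exact ⟨t + 1, hmem (A t) (e t)⟩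
    | zero => exact ⟨0, 0, map_zero _⟩
    | add a b _ _ ha hb =>
      obtain ⟨t, x, rfl⟩ := ha
      obtain ⟨t', x', rfl⟩ := hb
      obtain ⟨z, hz, -⟩ := hup t t' x
      obtain ⟨z', hz', -⟩ := hup t' t x'
      have key : ∀ T (hT : T = t + t') (z : X T), h T z = h t' x' → ∃ q : X (t + t'), h (t + t') q = h t' x' := by
        intro T hT z a; subst hT; exact ⟨z, a⟩
      obtain ⟨q, hq⟩ := key _ (Nat.add_comm t' t) z' hz'
      exact ⟨t + t', z + q, by rw [map_add, hz, hq]⟩
    | smul c a _ ha =>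
      obtain ⟨t, x, rfl⟩ := ha
      exact ⟨t, c • x, map_smul _ _ _⟩
  choose tt xx hxx using hcov
  let b : M →ₗ[R] X 0 :=
    { toFun := fun y => s' (tt y) (xx y)
      map_add' := fun y z => by
        obtain ⟨p, hp1, hp2⟩ := hup (tt y) (tt z) (xx y)
        obtain ⟨q, hq1, hq2⟩ := hup (tt z) (tt y) (xx z)
        have key : ∀ T (hT : T = tt y + tt z) (q : X T), ∃ q' : X (tt y + tt z), h _ q' = h T q ∧ s' _ q' = s' T q := by
          intro T hT q; subst hT; exact ⟨q, rfl, rfl⟩
        obtain ⟨q', hq1', hq2'⟩ := key _ (Nat.add_comm _ _) q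
        rw [hwell _ _ (xx (y + z)) (p + q') (by rw [map_add, hp1, hq1', hq1, hxx, hxx, hxx]), map_add, hp2, hq2', hq2]
      map_smul' := fun c y => by
        rw [RingHom.id_apply, hwell _ _ (xx (c • y)) (c • xx y) (by rw [map_smul, hxx, hxx]), map_smul] }
  refine ⟨X 0, inferInstance, inferInstance, hX 0, b, h 0, LinearMap.ext fun p => ?_⟩
  obtain ⟨p0, rfl⟩ := hπ0 p
  have h1 : h 0 (g0' p0) = f (π0 p0) := LinearMap.congr_fun hh0 p0
  show h 0 (s' (tt _) (xx _)) = f (π0 p0)
  rw [hwell _ 0 (xx (f (π0 p0))) (g0' p0) (by rw [hxx, h1]), show s' 0 (g0' p0) = g0' p0 from LinearMap.congr_fun hs'0 p0, h1]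

end Groth.Agent.S6361
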