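import Groth.Statements.S6362
import Mathlib.FieldTheory.PrimitiveElement
import Mathlib.LinearAlgebra.Dimension.Constructions
import Mathlib.LinearAlgebra.Dual.Lemmas
import Mathlib.RingTheory.TensorProduct.Free

set_option autoImplicit false
universe u
open scoped TensorProduct
open Fields

namespace Groth.Agent.S6362

/-- Let K/F be a finite separable extension and L/F an extension with L algebraically closed. Then the
L-algebra map K ⊗_F L → ∏_σ L, indexed by the F-algebra maps σ : K → L and sending a ⊗ b to (σ(a)
b)_σ, is an isomorphism; stated as bijectivity of that map. -/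
theorem result {F K L : Type u} [Field F] [Field K] [Field L]
    [Algebra F K] [Algebra F L] [FiniteDimensional F K] [Algebra.IsSeparable F K] [IsAlgClosed L] :
    Function.Bijective (fun x : K ⊗[F] L => fun σ : K →ₐ[F] L =>
      Algebra.TensorProduct.lift σ (AlgHom.id F L) (fun a b => Commute.all (σ a) b) x) := by
  classical
  let Φ : (L ⊗[F] K) →ₗ[L] ((K →ₐ[F] L) → L) := LinearMap.pi fun σ =>
    TensorProduct.AlgebraTensorModule.lift
      ((LinearMap.lsmul L (K →ₗ[F] L)).flip σ.toLinearMap)
  have hΦ : ∀ (l : L) (a : K) (σ : K →ₐ[F] L), Φ (l ⊗ₜ a) σ = l * σ a := fun l a σ => by simp [Φ]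
  have hcomp : (fun x : K ⊗[F] L => fun σ : K →ₐ[F] L =>
      Algebra.TensorProduct.lift σ (AlgHom.id F L) (fun a b => Commute.all (σ a) b) x) =
      Φ ∘ TensorProduct.comm F K L := by
    funext x σ
    induction x using TensorProduct.induction_on with
    | zero => simp
    | tmul a l => simp [hΦ, mul_comm]
    | add x y hx hy => simp only [Function.comp_apply, map_add, Pi.add_apply] at hx hy ⊢; rw [hx, hy]
  rw [hcomp]
  refine Function.Bijective.comp ?_ (TensorProduct.comm F K L).bijective
  have hsurj : Function.Surjective Φ := by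
    rw [← LinearMap.range_eq_top]
    by_contra hne
    obtain ⟨φ, hφ0, hφ⟩ := Submodule.exists_le_ker_of_lt_top _ (lt_top_iff_ne_top.mpr hne)
    have hc : ∑ σ : K →ₐ[F] L, φ (Pi.single σ 1) • σ.toLinearMap = 0 := LinearMap.ext fun a => by
      have h := hφ (LinearMap.mem_range_self Φ ((1 : L) ⊗ₜ a))
      rw [LinearMap.mem_ker, ← Finset.univ_sum_single (Φ ((1 : L) ⊗ₜ a)), map_sum] at h
      rw [LinearMap.zero_apply, LinearMap.sum_apply, ← h]
      refine Finset.sum_congr rfl fun σ _ => ?_
      rw [hΦ, one_mul, LinearMap.smul_apply, AlgHom.toLinearMap_apply,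
        show Pi.single σ (σ a) = (σ a) • (Pi.single σ 1 : (K →ₐ[F] L) → L) by rw [← Pi.single_smul, smul_eq_mul, mul_one],
        map_smul, smul_eq_mul, smul_eq_mul, mul_comm]
    have hzero := Fintype.linearIndependent_iff.mp (linearIndependent_algHom_toLinearMap F K L) _ hc
    refine hφ0 (LinearMap.ext fun v => ?_)
    rw [← Finset.univ_sum_single v, map_sum, LinearMap.zero_apply]
    refine Finset.sum_eq_zero fun σ _ => ?_
    rw [show Pi.single σ (v σ) = (v σ) • (Pi.single σ 1 : (K →ₐ[F] L) → L) by rw [← Pi.single_smul, smul_eq_mul, mul_one],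
      map_smul, hzero σ, smul_zero]
  refine ⟨(LinearMap.injective_iff_surjective_of_finrank_eq_finrank ?_).mpr hsurj, hsurj⟩
  rw [Module.finrank_baseChange, Module.finrank_pi, AlgHom.card]

end Groth.Agent.S6362
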