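import Groth.Statements.S6363
import Mathlib.FieldTheory.Normal.Closure
import Mathlib.FieldTheory.IsAlgClosed.AlgebraicClosure
import Mathlib.FieldTheory.SeparableDegree
import Mathlib.RingTheory.PiTensorProduct

set_option autoImplicit false
universe u
open scoped TensorProduct
open Fields

namespace Groth.Agent.S6363

/-- For a finite field extension L/K and a normal closure M of L/K, some K-algebra homomorphism from the
n-fold tensor power L ⊗_K ⋯ ⊗_K L to M is surjective, where n = [L : K]_s is the separable degree
(so n ≤ [L : K]). -/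
theorem result {K L M : Type u} [Field K] [Field L] [Field M]
    [Algebra K L] [Algebra K M] [Algebra L M] [IsScalarTower K L M] [FiniteDimensional K L]
    [IsNormalClosure K L M] :
    ∃ f : (⨂[K] _ : Fin (Field.finSepDegree K L), L) →ₐ[K] M, Function.Surjective f := by
  classical
  haveI : Normal K M := IsNormalClosure.normal (F := K) (K := L)
  obtain ⟨hsplit, hclos⟩ := Algebra.IsAlgebraic.isNormalClosure_iff.mp (inferInstance : IsNormalClosure K L M)
  haveI : Finite (L →ₐ[K] M) := inferInstance
  have hcard : Nat.card (L →ₐ[K] M) = Field.finSepDegree K L := by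
    rw [Field.finSepDegree_eq_of_isAlgClosed K L (AlgebraicClosure M)]
    exact Nat.card_congr (Algebra.IsAlgebraic.algHomEquivAlgHomOfSplits (AlgebraicClosure M) M hsplit)
  let e : Fin (Field.finSepDegree K L) ≃ (L →ₐ[K] M) := (Finite.equivFinOfCardEq hcard).symm
  let μ : MultilinearMap K (fun _ : Fin (Field.finSepDegree K L) => L) M :=
    (MultilinearMap.mkPiAlgebra K (Fin (Field.finSepDegree K L)) M).compLinearMap fun i => (e i).toLinearMap
  have hμ : ∀ x, μ x = ∏ i, e i (x i) := fun x => by
    simp [μ, MultilinearMap.compLinearMap_apply, MultilinearMap.mkPiAlgebra_apply]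
  let f := PiTensorProduct.liftAlgHom μ (by simp [hμ]) (fun x y => by simp [hμ, Finset.prod_mul_distrib])
  refine ⟨f, fun m => ?_⟩
  haveI : Algebra.IsAlgebraic K M := Normal.toIsAlgebraic
  have hle : ∀ σ : L →ₐ[K] M, ∀ x : L, σ x ∈ f.range := fun σ x => by
    refine ⟨PiTensorProduct.tprod K (Pi.mulSingle (e.symm σ) x), ?_⟩
    change PiTensorProduct.liftAlgHom μ _ _ (PiTensorProduct.tprod K _) = σ x
    rw [show PiTensorProduct.liftAlgHom μ _ _ (PiTensorProduct.tprod K (Pi.mulSingle (e.symm σ) x)) =
      PiTensorProduct.lift μ (PiTensorProduct.tprod K (Pi.mulSingle (e.symm σ) x)) from rfl,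
      PiTensorProduct.lift.tprod, hμ, Finset.prod_eq_single (e.symm σ)]
    · rw [Pi.mulSingle_eq_same, Equiv.apply_symm_apply]
    · intro i _ hi
      rw [Pi.mulSingle_eq_of_ne hi, map_one]
    · simp
  have hfield : IsField f.range := Subalgebra.isField_of_algebraic f.range
  have h2 : (⊤ : IntermediateField K M) ≤ f.range.toIntermediateField' hfield := by
    rw [← hclos, normalClosure_le_iff]
    rintro σ _ ⟨x, rfl⟩
    exact hle σ x
  exact h2 (show m ∈ (⊤ : IntermediateField K M) from IntermediateField.mem_top)

end Groth.Agent.S6363
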