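import Groth.Statements.S6364
import Mathlib.LinearAlgebra.Matrix.Charpoly.Minpoly
import Mathlib.LinearAlgebra.Charpoly.ToMatrix
import Mathlib.FieldTheory.IntermediateField.Adjoin.Basic
import Mathlib.RingTheory.Finiteness.Basic

set_option autoImplicit false
universe u
open Fields

namespace Groth.Agent.S6364

open IntermediateField in
/-- Let L/K be a finite extension and a ∈ L with minimal polynomial P over K. Then P ^ e, with e = [L :
K(a)], is the characteristic polynomial of multiplication by a (the K-linear map x ↦ a x on L), and
e · deg P = [L : K]. -/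
theorem result {K L : Type u} [Field K] [Field L] [Algebra K L] [FiniteDimensional K L]
    (a : L) :
    (Algebra.lmul K L a).charpoly = minpoly K a ^ Module.finrank K⟮a⟯ L ∧
      Module.finrank K⟮a⟯ L * (minpoly K a).natDegree = Module.finrank K L := by
  classical
  have hint : IsIntegral K a := Algebra.IsIntegral.isIntegral a
  let pb := IntermediateField.adjoin.powerBasis hint
  let c := Module.Free.chooseBasis K⟮a⟯ L
  refine ⟨?_, ?_⟩
  · have ha : algebraMap K⟮a⟯ L pb.gen = a := by simp [pb]
    have hm : minpoly K a = minpoly K pb.gen := by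
      rw [IntermediateField.adjoin.powerBasis_gen, IntermediateField.minpoly_gen]
    rw [← LinearMap.charpoly_toMatrix _ (pb.basis.smulTower c)]
    rw [show LinearMap.toMatrix (pb.basis.smulTower c) (pb.basis.smulTower c) (Algebra.lmul K L a) =
      Matrix.blockDiagonal fun _ => Algebra.leftMulMatrix pb.basis pb.gen by
        rw [← Algebra.smulTower_leftMulMatrix_algebraMap pb.basis c, ha]; rfl]
    have hbd : ∀ N : Matrix (Fin pb.dim) (Fin pb.dim) K,
        (Matrix.blockDiagonal fun _ : Module.Free.ChooseBasisIndex K⟮a⟯ L => N).charmatrix =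
          Matrix.blockDiagonal fun _ => N.charmatrix := by
      intro N
      ext ⟨i, p⟩ ⟨j, q⟩ : 1
      simp only [Matrix.charmatrix_apply, Matrix.blockDiagonal_apply, Matrix.diagonal_apply, Prod.mk.injEq]
      split_ifs <;> simp_all
    rw [Matrix.charpoly, hbd, Matrix.det_blockDiagonal, Finset.prod_const, Finset.card_univ,
      ← Module.finrank_eq_card_chooseBasisIndex, hm, ← charpoly_leftMulMatrix pb]
    rfl
  · rw [mul_comm, ← IntermediateField.adjoin.finrank hint, Module.finrank_mul_finrank]

end Groth.Agent.S6364
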