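import Groth.Statements.S6365
import Mathlib.LinearAlgebra.Trace
import Mathlib.RingTheory.Trace.Defs
import Mathlib.LinearAlgebra.Contraction

set_option autoImplicit false
universe u
open Fields

namespace Groth.Agent.S6365

/-- Let L/K be a finite extension of fields, V a finite-dimensional L-vector space and φ an L-linear
endomorphism of V. Then the trace over K of φ (regarded as a K-linear map) is the trace from L to K
of the trace over L of φ. (The determinant analogue, det_K φ = Norm_{L/K}(det_L φ), is the standard
companion.) -/
theorem result {K L : Type u} [Field K] [Field L] [Algebra K L]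
    [FiniteDimensional K L] (V : Type u) [AddCommGroup V] [Module L V] [Module K V] [IsScalarTower K L V]
    [FiniteDimensional L V] (φ : V →ₗ[L] V) :
    LinearMap.trace K V (φ.restrictScalars K) = Algebra.trace K L (LinearMap.trace L V φ) := by
  haveI : FiniteDimensional K V := FiniteDimensional.trans K L V
  obtain ⟨z, rfl⟩ := (dualTensorHomEquiv L V V).surjective φ
  induction z using TensorProduct.induction_on with
  | zero => simp
  | add x y hx hy => simp only [map_add, LinearMap.restrictScalars_add, hx, hy]
  | tmul ψ v =>
    have e : (dualTensorHomEquiv L V V (ψ ⊗ₜ v)).restrictScalars K =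
        ((LinearMap.toSpanSingleton L V v).restrictScalars K) ∘ₗ (ψ.restrictScalars K) := by
      ext x; simp
    have e' : (ψ.restrictScalars K) ∘ₗ ((LinearMap.toSpanSingleton L V v).restrictScalars K) =
        Algebra.lmul K L (ψ v) := by
      ext x; simp [mul_comm]
    rw [e, LinearMap.trace_comp_comm', e', Algebra.trace_apply]
    simp [LinearMap.trace_eq_contract_apply]

end Groth.Agent.S6365
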