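import Groth.Statements.S6366
import Mathlib.Tactic
import Mathlib.RingTheory.Spectrum.Prime.Module
import Mathlib.RingTheory.LocalRing.Module
import Mathlib.RingTheory.Localization.AtPrime.Basic
import Mathlib.RingTheory.Ideal.KrullsHeightTheorem
import Mathlib.LinearAlgebra.Matrix.NonsingularInverse
import Mathlib.RingTheory.TensorProduct.Quotient
import Mathlib.RingTheory.Flat.FaithfullyFlat.Basic
import Mathlib.LinearAlgebra.TensorProduct.Prod
import Mathlib.RingTheory.LocalProperties.Reduced
import Mathlib.RingTheory.Finiteness.ModuleFinitePresentation
import Groth.Agent.L02.Dominate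
import Groth.Agent.L02.Flat
import Groth.Agent.L02.CountableML

set_option autoImplicit false
universe u
open CAlg

namespace Groth.Agent.S6366

/-- Let R be a coherent ring, i.e. every finitely generated ideal of R is finitely presented. Then an
R-module is coherent (finitely generated, and every finitely generated submodule is finitely
presented) if and only if it is finitely presented. -/
theorem result (R : Type u) [CommRing R]
    (hR : ∀ I : Ideal R, I.FG → Module.FinitePresentation R I) (M : Type u) [AddCommGroup M] [Module R M] :
    (Module.Finite R M ∧ ∀ N : Submodule R M, N.FG → Module.FinitePresentation R N) ↔ Module.FinitePresentation R M := by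
  constructor
  · intro h
    have := h.2 ⊤ h.1.fg_top
    exact Module.FinitePresentation.of_equiv (Submodule.topEquiv : (⊤ : Submodule R M) ≃ₗ[R] M)
  · intro _
    refine ⟨inferInstance, fun N hN => ?_⟩
    obtain ⟨n, K, e, hK⟩ := Module.FinitePresentation.exists_fin R M
    let q : (Fin n → R) →ₗ[R] M := e.symm.toLinearMap.comp K.mkQ
    have hq : Function.Surjective q := e.symm.surjective.comp K.mkQ_surjective
    have hkq : LinearMap.ker q = K := by
      rw [LinearMap.ker_comp, LinearEquiv.ker, Submodule.comap_bot, Submodule.ker_mkQ]
    have hKL : K ≤ N.comap q := hkq ▸ LinearMap.ker_le_comap q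
    have hL : (N.comap q).FG := Submodule.fg_of_fg_map_of_fg_inf_ker q
      (by rw [Submodule.map_comap_eq_of_surjective hq]; exact hN)
      (by rw [hkq, inf_eq_right.mpr hKL]; exact hK)
    have : Module.FinitePresentation R (N.comap q) := (Groth.L02.isCoh_pi_fin hR n).2 _ hL
    let qN : N.comap q →ₗ[R] N := q.restrict fun x hx => hx
    have hqN : Function.Surjective qN := by
      rintro ⟨y, hy⟩
      obtain ⟨x, rfl⟩ := hq y
      exact ⟨⟨x, hy⟩, rfl⟩
    refine Module.finitePresentation_of_surjective qN hqN ?_
    refine Submodule.fg_of_fg_map_injective (N.comap q).subtype (Submodule.subtype_injective _) ?_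
    have : (LinearMap.ker qN).map (N.comap q).subtype = K := by
      ext x
      constructor
      · rintro ⟨y, hy, rfl⟩
        rw [← hkq]
        exact congrArg Subtype.val hy
      · intro hx
        exact ⟨⟨x, hKL hx⟩, Subtype.ext (by rw [← hkq] at hx; exact hx), rfl⟩
    rw [this]
    exact hK

end Groth.Agent.S6366
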