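import Groth.Statements.S6368
import Groth.Agent.L01.ProjDescent

set_option autoImplicit false
universe u
open scoped TensorProduct
open CAlg

namespace Groth.Agent.S6368

/-- Let R → S be faithfully flat and M an R-module. If the S-module S ⊗_R M is countably generated then
M is countably generated. -/
theorem result (R S : Type u) [CommRing R] [CommRing S] [Algebra R S]
    [Module.FaithfullyFlat R S] (M : Type u) [AddCommGroup M] [Module R M]
    (h : CAlg.IsCountablyGenerated S (S ⊗[R] M)) : CAlg.IsCountablyGenerated R M := by
  classical
  obtain ⟨t, htc, hts⟩ := h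
  choose F hF using fun w : S ⊗[R] M => Groth.L01.ProjDescent.exists_finite_span (R := R) S w
  refine ⟨⋃ w ∈ t, (F w : Set M), htc.biUnion fun w _ => Finset.countable_toSet _, ?_⟩
  set N := Submodule.span R (⋃ w ∈ t, (F w : Set M)) with hN
  have hT : Groth.L01.ProjDescent.T S N = ⊤ := by
    rw [eq_top_iff, ← hts, Submodule.span_le]
    intro w hw
    rw [hN, Groth.L01.ProjDescent.T_span]
    exact Submodule.span_mono (Set.image_mono (Set.subset_biUnion_of_mem (u := fun w => (F w : Set M)) hw)) (hF w)
  rw [Groth.L01.ProjDescent.T_eq_range, LinearMap.range_eq_top] at hT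
  have hs : Function.Surjective (N.subtype.lTensor S) := hT
  rw [Module.FaithfullyFlat.lTensor_surjective_iff_surjective] at hs
  rw [eq_top_iff]
  intro m _
  obtain ⟨n, rfl⟩ := hs m
  exact n.2

end Groth.Agent.S6368
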