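import Groth.Statements.S6371
import Mathlib.Algebra.Algebra.Epi
import Mathlib.RingTheory.Localization.BaseChange
import Mathlib.RingTheory.LocalProperties.Submodule

set_option autoImplicit false
universe u
open CAlg

namespace Groth.Agent.S6371

/-- A ring map R → S is an epimorphism of rings if and only if for every prime p of R the localized map
R_p → S_p is an epimorphism, where S_p is S localized at the image of R ∖ p. -/
theorem result (R S : Type u) [CommRing R] [CommRing S] [Algebra R S] :
    Algebra.IsEpi R S ↔ ∀ (p : Ideal R) [p.IsPrime],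
      Algebra.IsEpi (Localization.AtPrime p) (Localization (Algebra.algebraMapSubmonoid S p.primeCompl)) := by
  constructor
  · intro _ p _
    let Rp := Localization.AtPrime p
    let Sp := Localization (Algebra.algebraMapSubmonoid S p.primeCompl)
    rw [Algebra.isEpi_iff_forall_one_tmul_eq]
    intro a
    let i : S →ₗ[R] Sp := (IsScalarTower.toAlgHom R S Sp).toLinearMap
    let f : TensorProduct R S S →ₗ[R] TensorProduct Rp Sp Sp :=
      TensorProduct.lift ((LinearMap.restrictScalars₁₂ R R (TensorProduct.mk Rp Sp Sp)).compl₁₂ i i)
    obtain ⟨s, ⟨_, r, hr, rfl⟩, rfl⟩ := IsLocalization.exists_mk'_eq (Algebra.algebraMapSubmonoid S p.primeCompl) a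
    have h : f (TensorProduct.tmul R (1 : S) s) = f (TensorProduct.tmul R s (1 : S)) := by
      rw [(Algebra.isEpi_iff_forall_one_tmul_eq R S).mp inferInstance s]
    have ha : IsLocalization.mk' Sp s (⟨algebraMap R S r, r, hr, rfl⟩ : Algebra.algebraMapSubmonoid S p.primeCompl) =
        (IsLocalization.mk' Rp 1 (⟨r, hr⟩ : p.primeCompl)) • algebraMap S Sp s := by
      rw [IsLocalization.mk'_eq_iff_eq_mul, Algebra.smul_def, ← IsScalarTower.algebraMap_apply R S Sp,
        IsScalarTower.algebraMap_apply R Rp Sp, mul_assoc, mul_comm (algebraMap S Sp s), ← mul_assoc, ← map_mul,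
        IsLocalization.mk'_spec, map_one, map_one, one_mul]
    rw [ha, TensorProduct.tmul_smul, ← TensorProduct.smul_tmul']
    exact congrArg _ (by simpa [f, i] using h)
  · intro h
    rw [Algebra.isEpi_iff_forall_one_tmul_eq]
    intro a
    rw [← sub_eq_zero]
    let Φ : ∀ (P : Ideal R) [P.IsMaximal], TensorProduct R S S →ₗ[R]
        TensorProduct R (Localization (Algebra.algebraMapSubmonoid S P.primeCompl)) (Localization (Algebra.algebraMapSubmonoid S P.primeCompl)) :=
      fun P _ => TensorProduct.map (IsScalarTower.toAlgHom R S _).toLinearMap (IsScalarTower.toAlgHom R S _).toLinearMap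
    haveI : ∀ (P : Ideal R) [P.IsMaximal], IsLocalizedModule P.primeCompl (Φ P) := by
      intro P _
      haveI : IsLocalizedModule P.primeCompl (IsScalarTower.toAlgHom R S (Localization (Algebra.algebraMapSubmonoid S P.primeCompl))).toLinearMap :=
        isLocalizedModule_iff_isLocalization.mpr inferInstance
      dsimp only [Φ]
      infer_instance
    refine Module.eq_zero_of_localization_maximal _ Φ _ fun P _ => ?_
    let Sp := Localization (Algebra.algebraMapSubmonoid S P.primeCompl)
    haveI := IsLocalization.tensorProduct_compatibleSMul P.primeCompl (Localization.AtPrime P) Sp Sp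
    have h1 := (Algebra.isEpi_iff_forall_one_tmul_eq (Localization.AtPrime P) Sp).mp (h P) (algebraMap S Sp a)
    apply (TensorProduct.equivOfCompatibleSMul R (Localization.AtPrime P) R Sp Sp).symm.injective
    rw [map_sub, map_zero, map_sub, sub_eq_zero]
    show TensorProduct.tmul (Localization.AtPrime P) (algebraMap S Sp 1) (algebraMap S Sp a) =
      TensorProduct.tmul (Localization.AtPrime P) (algebraMap S Sp a) (algebraMap S Sp 1)
    simpa using h1

end Groth.Agent.S6371
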