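import Groth.Statements.S6373
import Mathlib.Tactic
import Mathlib.RingTheory.Spectrum.Prime.Module
import Mathlib.RingTheory.LocalRing.Module
import Mathlib.RingTheory.Localization.AtPrime.Basic
import Mathlib.RingTheory.Ideal.KrullsHeightTheorem
import Mathlib.LinearAlgebra.Matrix.NonsingularInverse
import Mathlib.RingTheory.TensorProduct.Quotient
import Mathlib.RingTheory.Flat.FaithfullyFlat.Basic
import Mathlib.LinearAlgebra.TensorProduct.Prod
import Mathlib.RingTheory.LocalProperties.Reduced

set_option autoImplicit false
universe u
open CAlg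

namespace Groth.Agent.S6373

/-- If k is a field and k → S is an epimorphism of rings, then S is the zero ring or k → S is an
isomorphism. -/
theorem result (k S : Type u) [Field k] [CommRing S] [Algebra k S] [Algebra.IsEpi k S] :
    Subsingleton S ∨ Function.Bijective (algebraMap k S) := by
  rcases subsingleton_or_nontrivial S with h | h
  · exact Or.inl h
  · right
    refine ⟨FaithfulSMul.algebraMap_injective k S, ?_⟩
    have h : Function.Surjective ((Algebra.linearMap k S).lTensor S) := by
      intro x
      induction x using TensorProduct.induction_on with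
      | zero => exact ⟨0, map_zero _⟩
      | tmul a b =>
        refine ⟨(a * b) ⊗ₜ 1, ?_⟩
        simp only [LinearMap.lTensor_tmul, Algebra.linearMap_apply, map_one]
        calc (a * b) ⊗ₜ[k] (1 : S) = (a ⊗ₜ[k] (1 : S)) * (b ⊗ₜ[k] (1 : S)) := by simp
          _ = (a ⊗ₜ[k] (1 : S)) * ((1 : S) ⊗ₜ[k] b) := by rw [(Algebra.isEpi_iff_forall_one_tmul_eq k S).mp inferInstance b]
          _ = _ := by simp
      | add a b ha hb =>
        obtain ⟨a, rfl⟩ := ha
        obtain ⟨b, rfl⟩ := hb
        exact ⟨a + b, map_add _ _ _⟩
    exact (Module.FaithfullyFlat.lTensor_surjective_iff_surjective k S (Algebra.linearMap k S)).mp h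

end Groth.Agent.S6373
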