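import Groth.Statements.S6374
import Mathlib.Algebra.Algebra.Epi
import Mathlib.RingTheory.LocalRing.ResidueField.Fiber
import Mathlib.LinearAlgebra.Dual.Lemmas
import Mathlib.RingTheory.Spectrum.Prime.RingHom

set_option autoImplicit false
universe u
open CAlg

namespace Groth.Agent.S6374

section
open TensorProduct

/-- Base change of an epimorphism. -/
theorem one_tmul_eq_of_isEpi (R S K : Type u) [CommRing R] [CommRing S] [CommRing K] [Algebra R S] [Algebra R K]
    [Algebra.IsEpi R S] (a : K ⊗[R] S) : (1 : K ⊗[R] S) ⊗ₜ[K] a = a ⊗ₜ[K] 1 := by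
  let i : S →ₗ[R] K ⊗[R] S := TensorProduct.mk R K S 1
  let f : S ⊗[R] S →ₗ[R] (K ⊗[R] S) ⊗[K] (K ⊗[R] S) :=
    TensorProduct.lift ((LinearMap.restrictScalars₁₂ R R (TensorProduct.mk K (K ⊗[R] S) (K ⊗[R] S))).compl₁₂ i i)
  induction a using TensorProduct.induction_on with
  | zero => simp
  | add x y hx hy => rw [TensorProduct.tmul_add, TensorProduct.add_tmul, hx, hy]
  | tmul c s =>
    have h : f ((1 : S) ⊗ₜ[R] s) = f (s ⊗ₜ[R] (1 : S)) := by
      rw [(Algebra.isEpi_iff_forall_one_tmul_eq R S).mp inferInstance s]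
    have hc : c ⊗ₜ[R] s = c • ((1 : K) ⊗ₜ[R] s) := by
      rw [TensorProduct.smul_tmul', smul_eq_mul, mul_one]
    rw [hc, TensorProduct.tmul_smul, ← TensorProduct.smul_tmul']
    exact congrArg (c • ·) (by simpa [f, i, Algebra.TensorProduct.one_def] using h)

/-- An epimorphism out of a field is an isomorphism or zero. -/
theorem bijective_of_field (K F : Type u) [Field K] [CommRing F] [Nontrivial F] [Algebra K F]
    (h : ∀ a : F, (1 : F) ⊗ₜ[K] a = a ⊗ₜ[K] 1) : Function.Bijective (algebraMap K F) := by
  refine ⟨(algebraMap K F).injective, fun a => ?_⟩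
  by_contra ha
  have ha' : a ∉ Submodule.span K ({1} : Set F) := by
    intro h'
    obtain ⟨c, hc⟩ := Submodule.mem_span_singleton.mp h'
    exact ha ⟨c, by rw [Algebra.algebraMap_eq_smul_one, hc]⟩
  obtain ⟨l, hla, hl⟩ := Submodule.exists_dual_map_eq_bot_of_notMem ha' inferInstance
  have hl1 : l 1 = 0 := by
    have : l 1 ∈ (Submodule.span K ({1} : Set F)).map l := ⟨1, Submodule.subset_span rfl, rfl⟩
    rw [hl] at this
    exact this
  have := congrArg (TensorProduct.lift ((LinearMap.lsmul K F).comp l)) (h a)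
  simp [hl1] at this
  exact hla ((smul_eq_zero.mp this.symm).resolve_right one_ne_zero)

end


/-- For an epimorphism of rings R → S, the induced map Spec S → Spec R is injective and induces trivial
residue field extensions; stated in the form the proof gives: for every prime p of R the fibre ring
S ⊗_R κ(p) is either zero or κ(p) → S ⊗_R κ(p) is bijective, together with injectivity of Spec S →
Spec R. -/
theorem result (R S : Type u) [CommRing R] [CommRing S] [Algebra R S]
    [Algebra.IsEpi R S] :
    Function.Injective (PrimeSpectrum.comap (algebraMap R S)) ∧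
      ∀ (p : Ideal R) [p.IsPrime],
        Subsingleton (p.Fiber S) ∨ Function.Bijective (algebraMap p.ResidueField (p.Fiber S)) := by
  have key : ∀ (p : Ideal R) [p.IsPrime],
      Subsingleton (p.Fiber S) ∨ Function.Bijective (algebraMap p.ResidueField (p.Fiber S)) := by
    intro p _
    rcases subsingleton_or_nontrivial (p.Fiber S) with h | h
    · exact Or.inl h
    · exact Or.inr (bijective_of_field _ _ (one_tmul_eq_of_isEpi R S p.ResidueField))
  refine ⟨fun q₁ q₂ hq => ?_, key⟩
  let p := PrimeSpectrum.comap (algebraMap R S) q₁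
  let a₁ : (PrimeSpectrum.comap (algebraMap R S) ⁻¹' {p} : Set _) := ⟨q₁, rfl⟩
  let a₂ : (PrimeSpectrum.comap (algebraMap R S) ⁻¹' {p} : Set _) := ⟨q₂, hq.symm⟩
  have : Subsingleton (PrimeSpectrum (p.asIdeal.Fiber S)) := by
    rcases key p.asIdeal with h | h
    · infer_instance
    · exact (PrimeSpectrum.comap_injective_of_surjective (algebraMap p.asIdeal.ResidueField (p.asIdeal.Fiber S)) h.2).subsingleton
  exact congrArg Subtype.val ((PrimeSpectrum.preimageEquivFiber R S p).injective (Subsingleton.elim _ _) : a₁ = a₂)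

end Groth.Agent.S6374
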