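import Mathlib.Algebra.Algebra.Epi
import Mathlib.RingTheory.Localization.AtPrime.Basic
import Mathlib.RingTheory.Localization.Basic
import Mathlib.RingTheory.Flat.FaithfullyFlat.Basic
import Mathlib.RingTheory.Spectrum.Prime.Topology
import Mathlib.RingTheory.Ideal.Quotient.Operations
import Mathlib.SetTheory.Cardinal.Basic
import Mathlib.RingTheory.TensorProduct.Basic
import Mathlib.RingTheory.LocalRing.ResidueField.Fiber
import Mathlib.LinearAlgebra.TensorProduct.RightExactness

set_option autoImplicit false
namespace CAlg
end CAlg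
universe u
open CAlg

namespace Groth.Agent.S6375

/-- For an infinite source ring: if R → S is an epimorphism of rings with R infinite, then |S| ≤ |R| as
cardinals. (For finite R the published statement also asserts |S| ≤ |R|, but its proof only gives
that S is countable and omits the rest, so that case is not included.) -/
theorem result (R S : Type u) [CommRing R] [CommRing S] [Algebra R S] [Algebra.IsEpi R S]
    [Infinite R] : Cardinal.mk S ≤ Cardinal.mk R := by
  classical
  let P : S → List (List R) × List R × List R → Prop := fun s t =>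
    ∃ (n k : ℕ) (Y : Fin n → Fin k → R) (a : Fin k → R) (b : Fin n → R) (x : Fin n → S) (z : Fin k → S),
      (∀ l, ∑ i, Y i l • x i = algebraMap R S (a l)) ∧
      (∀ i, ∑ l, Y i l • z l = algebraMap R S (b i)) ∧
      s = ∑ i, x i * algebraMap R S (b i) ∧
      t = (List.ofFn fun i => List.ofFn (Y i), List.ofFn a, List.ofFn b)
  have huniq : ∀ t s s', P s t → P s' t → s = s' := by
    rintro t s s' ⟨n, k, Y, a, b, x, z, hx, hz, rfl, rfl⟩ ⟨n', k', Y', a', b', x', z', hx', hz', rfl, ht⟩
    simp only [Prod.mk.injEq] at ht
    obtain rfl : n = n' := by simpa using congrArg List.length ht.2.2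
    obtain rfl : k = k' := by simpa using congrArg List.length ht.2.1
    obtain rfl : a = a' := List.ofFn_injective ht.2.1
    obtain rfl : b = b' := List.ofFn_injective ht.2.2
    obtain rfl : Y = Y' := funext fun i => List.ofFn_injective (congrFun (List.ofFn_injective ht.1) i)
    calc ∑ i, x i * algebraMap R S (b i) = ∑ i, x i * ∑ l, Y i l • z' l := by simp only [hz']
      _ = ∑ l, (∑ i, Y i l • x i) * z' l := by
        simp only [Finset.mul_sum, Finset.sum_mul]
        rw [Finset.sum_comm]
        simp only [mul_smul_comm, smul_mul_assoc]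
      _ = ∑ l, (∑ i, Y i l • x' i) * z' l := by simp only [hx, hx']
      _ = ∑ i, x' i * ∑ l, Y i l • z' l := by
        simp only [Finset.mul_sum, Finset.sum_mul]
        rw [Finset.sum_comm]
        simp only [mul_smul_comm, smul_mul_assoc]
      _ = ∑ i, x' i * algebraMap R S (b i) := by simp only [hz']
  have hex : ∀ s, ∃ t, P s t := by
    intro s
    by_cases hs : s = 1
    · exact ⟨_, 1, 1, fun _ _ => 1, fun _ => 1, fun _ => 1, fun _ => 1, fun _ => 1,
        fun _ => by simp, fun _ => by simp, by simp [hs], rfl⟩
    let G : (S →₀ R) →ₗ[R] S := Finsupp.linearCombination R id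
    have hG : Function.Surjective G := fun x => ⟨Finsupp.single x 1, by simp [G]⟩
    let δ : TensorProduct R (S →₀ R) S :=
      Finsupp.single (1 : S) (1 : R) ⊗ₜ[R] s - Finsupp.single s (1 : R) ⊗ₜ[R] (1 : S)
    have hδ : LinearMap.rTensor S G δ = 0 := by
      simp only [δ, map_sub, LinearMap.rTensor_tmul, G, Finsupp.linearCombination_single, id_eq, one_smul]
      rw [(Algebra.isEpi_iff_forall_one_tmul_eq R S).mp ‹_› s, sub_self]
    obtain ⟨w, hw⟩ := (rTensor_exact (R := R) (M := ↥(LinearMap.ker G)) (f := (LinearMap.ker G).subtype) (g := G) S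
      (by exact LinearMap.exact_subtype_ker_map G) hG δ).mp hδ
    obtain ⟨T, rfl⟩ := TensorProduct.exists_finset w
    have hcoef : ∀ i, ∑ q ∈ T, (q.1 : S →₀ R) i • q.2 =
        (Finsupp.single (1 : S) (1 : R)) i • s - (Finsupp.single s (1 : R)) i • (1 : S) := fun i => by
      have := congrArg (fun e => TensorProduct.lid R S (LinearMap.rTensor S (Finsupp.lapply i : (S →₀ R) →ₗ[R] R) e)) hw
      simpa [δ, map_sum] using this
    let U : Finset S := insert s (T.biUnion fun q => (q.1 : S →₀ R).support)
    let e := (U.erase 1).equivFin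
    let f := T.equivFin
    refine ⟨_, (U.erase 1).card, T.card, fun i l => ((f.symm l).1.1 : S →₀ R) (e.symm i).1,
      fun l => ((f.symm l).1.1 : S →₀ R) 1,
      fun i => -(Finsupp.single s (1 : R)) (e.symm i).1,
      fun i => -(e.symm i).1, fun l => (f.symm l).1.2, fun l => ?_, fun i => ?_, ?_, rfl⟩
    · have hk : G ((f.symm l).1.1 : S →₀ R) = 0 := (f.symm l).1.1.2
      have hsub : ((f.symm l).1.1 : S →₀ R).support ⊆ insert 1 (U.erase 1) := by
        intro i hi
        by_cases h1 : i = 1
        · simp [h1]
        · exact Finset.mem_insert_of_mem (Finset.mem_erase.mpr ⟨h1,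
            Finset.mem_insert_of_mem (Finset.mem_biUnion.mpr ⟨_, (f.symm l).2, hi⟩)⟩)
      rw [Finsupp.linearCombination_apply, Finsupp.sum_of_support_subset _ hsub _ (by simp),
        Finset.sum_insert (by simp), id_eq, ← Finset.sum_coe_sort (U.erase 1), ← e.symm.sum_comp] at hk
      simp only [id_eq] at hk
      simp only [smul_neg, Finset.sum_neg_distrib, Algebra.algebraMap_eq_smul_one]
      exact (eq_neg_of_add_eq_zero_left hk).symm
    · have := hcoef (e.symm i).1
      rw [Finsupp.single_eq_of_ne (a := (1 : S)) (Finset.mem_erase.mp (e.symm i).2).1, zero_smul, zero_sub,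
        ← Finset.sum_coe_sort T, ← f.symm.sum_comp] at this
      rw [this, map_neg, Algebra.algebraMap_eq_smul_one]
    · rw [Finset.sum_eq_single (e ⟨s, Finset.mem_erase.mpr ⟨hs, Finset.mem_insert_self _ _⟩⟩)]
      · simp
      · intro i _ hi
        have : (Finsupp.single s (1 : R)) (e.symm i).1 = 0 := Finsupp.single_eq_of_ne fun h =>
          hi (by rw [← e.apply_symm_apply i]; exact congrArg e (Subtype.ext h))
        simp [this]
      · simp
  choose t ht using hex
  have hinj : Function.Injective t := fun s s' h => huniq _ s s' (ht s) (h ▸ ht s')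
  refine (Cardinal.mk_le_of_injective hinj).trans ?_
  simp [Cardinal.mk_list_eq_mk]

end Groth.Agent.S6375
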