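import Mathlib.CategoryTheory.Monoidal.Tor
import Mathlib.Algebra.Category.ModuleCat.Monoidal.Basic
import Mathlib.Algebra.Category.ModuleCat.Abelian
import Mathlib.Algebra.Category.ModuleCat.Projective
import Mathlib.RingTheory.Flat.Basic
import Mathlib.RingTheory.Ideal.Quotient.Operations
import Mathlib.RingTheory.Finiteness.Defs
import Mathlib.RingTheory.Localization.Away.Basic
import Mathlib.Algebra.Module.LocalizedModule.Basic
import Mathlib.RingTheory.LocalRing.ResidueField.Defs
import Mathlib.RingTheory.FiniteLength
import Mathlib.RingTheory.TensorProduct.Basic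
import Mathlib.RingTheory.LocalRing.ResidueField.Basic
import Groth.Agent.L02.CAlg.Tor.Criteria
import Groth.Agent.L02.TorFlip
import Mathlib.RingTheory.SimpleModule.Basic
import Mathlib.RingTheory.FiniteLength
import Mathlib.RingTheory.LocalRing.ResidueField.Basic

set_option autoImplicit false
namespace CAlg
end CAlg
universe u
open CategoryTheory
open CAlg

namespace Groth.Agent.S6378

/-- Let (R, m, κ) be a local ring and M an R-module with Tor_1^R(κ, M) = 0. Then Tor_1^R(N, M) = 0 for
every finite length R-module N. -/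
theorem result (R : Type u) [CommRing R] [IsLocalRing R]
    (M : Type u) [AddCommGroup M] [Module R M]
    (h : Limits.IsZero (((CategoryTheory.Tor (ModuleCat.{u} R) 1).obj (ModuleCat.of R (IsLocalRing.ResidueField R))).obj (ModuleCat.of R M)))
    (N : Type u) [AddCommGroup N] [Module R N] (hN : IsFiniteLength R N) :
    Limits.IsZero (((CategoryTheory.Tor (ModuleCat.{u} R) 1).obj (ModuleCat.of R N)).obj (ModuleCat.of R M)) := by
  have hflip : ∀ (Q : Type u) [AddCommGroup Q] [Module R Q],
      Limits.IsZero (((CategoryTheory.Tor (ModuleCat.{u} R) 1).obj (ModuleCat.of R Q)).obj (ModuleCat.of R M)) ↔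
        L02.CAlg.TorV.Van R M Q 0 := by
    intro Q _ _
    obtain ⟨e⟩ := Groth.L02.TorFlip.nonempty_flip (A := R) 1
    exact ((e.app (ModuleCat.of R Q)).app (ModuleCat.of R M)).isZero_iff.trans
      (L02.CAlg.TorV.isZero_tor_iff M Q 0)
  have hκ := (hflip _).mp h
  refine (hflip N).mpr ?_
  induction hN with
  | of_subsingleton => exact L02.CAlg.TorV.van_of_subsingleton _ 0
  | @of_simple_quotient N _ _ S hs _ ih =>
    obtain ⟨J, hJ, ⟨e⟩⟩ := isSimpleModule_iff_quot_maximal.mp hs
    rw [IsLocalRing.eq_maximalIdeal hJ] at e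
    exact L02.CAlg.TorV.Van.middle (N' := ↥S) (show Function.Injective S.subtype from Subtype.val_injective)
      (Submodule.mkQ_surjective S) (LinearMap.exact_subtype_mkQ S) ih (hκ.congr e.symm)

end Groth.Agent.S6378
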