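import Mathlib.RingTheory.Flat.Basic
import Mathlib.RingTheory.TensorProduct.Basic
import Mathlib.RingTheory.Ideal.Quotient.Operations
import Mathlib.RingTheory.Nilpotent.Defs
import Mathlib.LinearAlgebra.TensorProduct.Basic
import Mathlib.RingTheory.LocalRing.MaximalIdeal.Basic
import Mathlib.RingTheory.Artinian.Ring
import Mathlib.LinearAlgebra.LinearIndependent.Defs
import Mathlib.LinearAlgebra.Span.Defs
import Mathlib.RingTheory.IsTensorProduct
import Mathlib.RingTheory.LocalRing.RingHom.Basic
import Mathlib.RingTheory.Noetherian.Basic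
import Groth.Agent.L20.LocalCriterion
import Mathlib.LinearAlgebra.TensorProduct.Tower
import Mathlib.RingTheory.Flat.Basic
import Mathlib.RingTheory.IsTensorProduct

set_option autoImplicit false
namespace CAlg
end CAlg
universe u
open CAlg

namespace Groth.Agent.S6382

/-- Consider a commutative square of local rings and local homomorphisms R → S, R → R', S → S', R' → S',
and a finite S-module M. Assume the maps R → R' and S → S' are flat, M is flat over R, the maximal
ideal of R generates the maximal ideal of R', and R', S' are Noetherian. Then M' = M ⊗_S S' (any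
base change of M along S → S') is flat over R'. -/
theorem result (R S R' S' : Type u) [CommRing R] [CommRing S]
    [CommRing R'] [CommRing S'] [IsLocalRing R] [IsLocalRing S] [IsLocalRing R'] [IsLocalRing S']
    [Algebra R S] [Algebra R R'] [Algebra S S'] [Algebra R' S'] [Algebra R S']
    [IsScalarTower R S S'] [IsScalarTower R R' S']
    [IsLocalHom (algebraMap R S)] [IsLocalHom (algebraMap R R')] [IsLocalHom (algebraMap S S')]
    [IsLocalHom (algebraMap R' S')] [Module.Flat R R'] [Module.Flat S S']
    [IsNoetherianRing R'] [IsNoetherianRing S']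
    (hm : (IsLocalRing.maximalIdeal R).map (algebraMap R R') = IsLocalRing.maximalIdeal R')
    (M : Type u) [AddCommGroup M] [Module S M] [Module R M] [IsScalarTower R S M] [Module.Finite S M]
    [Module.Flat R M]
    (M' : Type u) [AddCommGroup M'] [Module S' M'] [Module S M'] [IsScalarTower S S' M'] [Module R' M']
    [IsScalarTower R' S' M'] (j : M →ₗ[S] M') (hj : IsBaseChange S' j) :
    Module.Flat R' M' := by
  classical
  haveI : Module.Finite S' M' := Module.Finite.of_surjective
    (hj.equiv.toLinearMap) hj.equiv.surjective
  haveI : IsLocalHom (algebraMap R' S') := inferInstance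
  let 𝔪 := IsLocalRing.maximalIdeal R
  let 𝔪' := IsLocalRing.maximalIdeal R'
  letI : Module R M' := Module.compHom M' (algebraMap R R')
  haveI : IsScalarTower R R' M' := IsScalarTower.of_compHom R R' M'
  haveI : IsScalarTower R S' M' := IsScalarTower.of_algebraMap_smul fun r x => by
    rw [IsScalarTower.algebraMap_apply R R' S', algebraMap_smul, algebraMap_smul]
  haveI : IsScalarTower R S M' := IsScalarTower.of_algebraMap_smul fun r x => by
    rw [← algebraMap_smul S' (algebraMap R S r), ← IsScalarTower.algebraMap_apply R S S', algebraMap_smul]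
  -- injectivity over `R`
  have hR : ∀ z : TensorProduct R M' 𝔪, TensorProduct.rid R M' (𝔪.subtype.lTensor M' z) = 0 → z = 0 := by
    let e1 : TensorProduct R M' 𝔪 ≃ₗ[S] TensorProduct R (TensorProduct S S' M) 𝔪 :=
      TensorProduct.AlgebraTensorModule.congr (hj.equiv.restrictScalars S).symm (LinearEquiv.refl R 𝔪)
    let e2 := TensorProduct.AlgebraTensorModule.assoc R S S S' M 𝔪
    let μ : TensorProduct R M 𝔪 →ₗ[S] M :=
      (TensorProduct.AlgebraTensorModule.rid R S M).toLinearMap ∘ₗ
        TensorProduct.AlgebraTensorModule.map LinearMap.id 𝔪.subtype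
    have hμ : Function.Injective μ := by
      refine (TensorProduct.AlgebraTensorModule.rid R S M).injective.comp ?_
      exact Module.Flat.lTensor_preserves_injective_linearMap 𝔪.subtype 𝔪.injective_subtype
    have hμ' : Function.Injective (μ.lTensor S') :=
      Module.Flat.lTensor_preserves_injective_linearMap μ hμ
    have key : ∀ w, hj.equiv (μ.lTensor S' (e2 w)) =
        TensorProduct.rid R M' (𝔪.subtype.lTensor M' (e1.symm w)) := by
      intro w
      induction w using TensorProduct.induction_on with
      | zero => simp
      | tmul p a =>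
        induction p using TensorProduct.induction_on with
        | zero => simp
        | tmul s x =>
          simp only [e1, e2, μ, TensorProduct.AlgebraTensorModule.assoc_tmul, LinearMap.lTensor_tmul,
            LinearMap.comp_apply, TensorProduct.AlgebraTensorModule.map_tmul, LinearMap.id_apply,
            LinearEquiv.coe_coe, TensorProduct.AlgebraTensorModule.rid_tmul, Submodule.subtype_apply,
            TensorProduct.AlgebraTensorModule.congr_symm_tmul, LinearEquiv.symm_symm,
            LinearEquiv.refl_symm, LinearEquiv.refl_apply, TensorProduct.rid_tmul]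
          show hj.equiv (TensorProduct.tmul S s ((a : R) • x)) = (a : R) • hj.equiv (TensorProduct.tmul S s x)
          rw [hj.equiv_tmul, hj.equiv_tmul, ← algebraMap_smul S (a : R) x, map_smul, algebraMap_smul, smul_comm]
        | add p q hp hq => simp only [TensorProduct.add_tmul, map_add, hp, hq]
      | add p q hp hq => simp only [map_add, hp, hq]
    intro z hz
    have := key (e1 z)
    rw [LinearEquiv.symm_apply_apply, hz] at this
    exact (map_eq_zero_iff e1 e1.injective).mp ((map_eq_zero_iff e2 e2.injective).mp
      ((map_eq_zero_iff _ hμ').mp ((map_eq_zero_iff hj.equiv hj.equiv.injective).mp this)))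
  -- `M' ⊗_R 𝔪 → M' ⊗_{R'} 𝔪'` is surjective
  let ρ : 𝔪 →ₗ[R] 𝔪' :=
    { toFun := fun a => ⟨algebraMap R R' a, hm.le (Ideal.mem_map_of_mem _ a.2)⟩
      map_add' := fun a b => Subtype.ext (map_add _ _ _)
      map_smul' := fun c a => Subtype.ext (by simp [Algebra.smul_def]) }
  let ψ : TensorProduct R M' 𝔪 →ₗ[R] TensorProduct R' M' 𝔪' :=
    TensorProduct.lift (((TensorProduct.mk R' M' 𝔪').restrictScalars₁₂ R R).compl₂ ρ)
  have hψsurj : Function.Surjective ψ := by
    intro z
    induction z using TensorProduct.induction_on with
    | zero => exact ⟨0, map_zero _⟩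
    | tmul x b =>
      have hb : (b : R') ∈ Submodule.span R' (algebraMap R R' '' (𝔪 : Set R)) := by
        have h2 : (b : R') ∈ 𝔪.map (algebraMap R R') := hm.ge b.2
        exact h2
      obtain ⟨b, hb'⟩ := b
      suffices ∀ c, c ∈ Submodule.span R' (algebraMap R R' '' (𝔪 : Set R)) →
          ∀ hc : c ∈ 𝔪', ∀ x, ∃ w, ψ w = TensorProduct.tmul R' x (⟨c, hc⟩ : 𝔪') from this b hb hb' x
      intro c hc
      induction hc using Submodule.span_induction with
      | mem c hc =>
        intro _ x
        obtain ⟨a, ha, rfl⟩ := hc
        exact ⟨TensorProduct.tmul R x (⟨a, ha⟩ : 𝔪), rfl⟩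
      | zero => intro _ x; exact ⟨0, by rw [map_zero]; exact (TensorProduct.tmul_zero _ _).symm⟩
      | add c d hc hd ihc ihd =>
        intro _ x
        have hc' : c ∈ 𝔪' := hm.le hc
        have hd' : d ∈ 𝔪' := hm.le hd
        obtain ⟨w, hw⟩ := ihc hc' x
        obtain ⟨w', hw'⟩ := ihd hd' x
        exact ⟨w + w', by rw [map_add, hw, hw', ← TensorProduct.tmul_add]; rfl⟩
      | smul r c hc ihc =>
        intro _ x
        have hc' : c ∈ 𝔪' := hm.le hc
        obtain ⟨w, hw⟩ := ihc hc' (r • x)
        exact ⟨w, by rw [hw, TensorProduct.smul_tmul]; rfl⟩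
    | add a b ha hb =>
      obtain ⟨u, rfl⟩ := ha
      obtain ⟨v, rfl⟩ := hb
      exact ⟨u + v, map_add _ _ _⟩
  refine Groth.L20.flat_of_lTensor_maximalIdeal_injective (R := R') (M := M') S' ?_
  refine (injective_iff_map_eq_zero _).mpr fun z hz => ?_
  obtain ⟨w, rfl⟩ := hψsurj z
  have key : ∀ w, TensorProduct.rid R' M' (𝔪'.subtype.lTensor M' (ψ w)) =
      TensorProduct.rid R M' (𝔪.subtype.lTensor M' w) := by
    intro w
    induction w using TensorProduct.induction_on with
    | zero => simp
    | tmul x a =>
      show (algebraMap R R' a) • x = (a : R) • x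
      rw [algebraMap_smul]
    | add p q hp hq => simp only [map_add, hp, hq]
  have h0 := key w
  rw [hz, map_zero] at h0
  rw [hR w h0.symm, map_zero]

end Groth.Agent.S6382
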