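import Groth.Statements.S6385
import Mathlib.RingTheory.NoetherNormalization
import Mathlib.RingTheory.Ideal.GoingUp
import Mathlib.RingTheory.KrullDimension.Polynomial
import Mathlib.RingTheory.KrullDimension.Field
import Mathlib.RingTheory.Localization.Away.Basic
import Mathlib.RingTheory.Localization.InvSubmonoid

set_option autoImplicit false
universe u
open CAlg

namespace Groth.Agent.S6385

/-- integral injective extensions preserve dimension -/
theorem ringKrullDim_eq_of_integral {A B : Type u} [CommRing A] [CommRing B] [Algebra A B] [Algebra.IsIntegral A B]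
    (hinj : Function.Injective (algebraMap A B)) : ringKrullDim A = ringKrullDim B := by
  refine le_antisymm ?_ (Order.krullDim_le_of_strictMono (PrimeSpectrum.comap (algebraMap A B)) fun P Q hPQ => ?_)
  · refine iSup_le fun s => ?_
    have H : ∀ P : PrimeSpectrum B, PrimeSpectrum.comap (algebraMap A B) P = s.head →
        ∃ t : LTSeries (PrimeSpectrum B), t.head = P ∧ t.length = s.length := by
      induction s using RelSeries.inductionOn with
      | singleton x => exact fun P _ => ⟨RelSeries.singleton _ P, rfl, rfl⟩
      | cons p x hx ih =>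
        intro P hP
        rw [RelSeries.head_cons] at hP
        have hlt : x < p.head := hx
        obtain ⟨Q, hQ, hQp, hQc⟩ := Ideal.exists_ideal_over_prime_of_isIntegral p.head.asIdeal P.asIdeal (by
          rw [← PrimeSpectrum.comap_asIdeal, hP]; exact hlt.le)
        obtain ⟨t, ht, htl⟩ := ih ⟨Q, hQp⟩ (PrimeSpectrum.ext hQc)
        have hPt : P < t.head := by
          rw [ht]
          refine lt_of_le_of_ne hQ fun e => hlt.ne ?_
          rw [← hP, e]
          exact PrimeSpectrum.ext hQc
        exact ⟨t.cons P hPt, RelSeries.head_cons _ _ _, by simp [htl]⟩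
    obtain ⟨Q, -, hQp, hQc⟩ := Ideal.exists_ideal_over_prime_of_isIntegral s.head.asIdeal (⊥ : Ideal B) (by
      rw [← RingHom.ker_eq_comap_bot, (RingHom.injective_iff_ker_eq_bot _).1 hinj]; exact bot_le)
    obtain ⟨t, -, ht⟩ := H ⟨Q, hQp⟩ (PrimeSpectrum.ext hQc)
    rw [← ht]
    exact Order.LTSeries.length_le_krullDim t
  · haveI := P.isPrime
    exact Ideal.IsIntegral.comap_lt_comap (A := B) hPQ



/-- Let k be a field, S a finite type k-algebra, q a prime of S and x the corresponding point of X =
Spec S. Then there is g ∈ S, g ∉ q, such that dim S_g equals dim_x X — the minimum of dim S_{g'}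
over all g' ∉ q — and, writing d for this dimension, a finite injective k-algebra map from the
polynomial ring k[y_1, ..., y_d] to S_g. -/
theorem result (k S : Type u) [Field k] [CommRing S] [Algebra k S]
    [Algebra.FiniteType k S] (q : Ideal S) [q.IsPrime] :
    ∃ (g : S) (d : ℕ), g ∉ q ∧ ringKrullDim (Localization.Away g) = d ∧
      (∀ g' : S, g' ∉ q → ringKrullDim (Localization.Away g) ≤ ringKrullDim (Localization.Away g')) ∧
      ∃ φ : MvPolynomial (Fin d) k →ₐ[k] Localization.Away g, Function.Injective φ ∧ φ.toRingHom.Finite := by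
  classical
  haveI hnt : ∀ g' : S, g' ∉ q → Nontrivial (Localization.Away g') := fun g' hg' => by
    rw [← not_subsingleton_iff_nontrivial, IsLocalization.subsingleton_iff (M := Submonoid.powers g') (S := Localization.Away g')]
    exact fun ⟨n, hn⟩ => hg' (Ideal.IsPrime.mem_of_pow_mem ‹_› n (by simp only at hn; rw [hn]; exact q.zero_mem))
  have hdim : ∀ g' : S, g' ∉ q → ∃ (s : ℕ) (φ : MvPolynomial (Fin s) k →ₐ[k] Localization.Away g'),
      ringKrullDim (Localization.Away g') = s ∧ Function.Injective φ ∧ φ.toRingHom.Finite := fun g' hg' => by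
    haveI := hnt g' hg'
    haveI : Algebra.FiniteType S (Localization.Away g') :=
      IsLocalization.finiteType_of_monoid_fg (Submonoid.powers g') (Localization.Away g')
    haveI : Algebra.FiniteType k (Localization.Away g') := Algebra.FiniteType.trans (S := S) inferInstance inferInstance
    obtain ⟨s, φ, hinj, hfin⟩ := exists_finite_inj_algHom_of_fg k (Localization.Away g')
    refine ⟨s, φ, ?_, hinj, hfin⟩
    letI := φ.toRingHom.toAlgebra
    haveI : Module.Finite (MvPolynomial (Fin s) k) (Localization.Away g') := hfin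
    haveI : Algebra.IsIntegral (MvPolynomial (Fin s) k) (Localization.Away g') := inferInstance
    rw [← ringKrullDim_eq_of_integral (A := MvPolynomial (Fin s) k) hinj,
      MvPolynomial.ringKrullDim_of_isNoetherianRing, ringKrullDim_eq_zero_of_field, zero_add, Nat.card_fin]
  have hex : ∃ d : ℕ, ∃ g : S, g ∉ q ∧ ringKrullDim (Localization.Away g) = d := by
    have h1 : (1 : S) ∉ q := fun h => Ideal.IsPrime.ne_top ‹_› ((Ideal.eq_top_iff_one _).mpr h)
    obtain ⟨s, φ, h, -, -⟩ := hdim 1 h1
    exact ⟨s, 1, h1, h⟩
  obtain ⟨g, hg, hgd⟩ := Nat.find_spec hex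
  obtain ⟨s, φ, hs, hinj, hfin⟩ := hdim g hg
  refine ⟨g, s, hg, hs, fun g' hg' => ?_, φ, hinj, hfin⟩
  obtain ⟨s', φ', hs', -, -⟩ := hdim g' hg'
  rw [hgd, hs']
  exact_mod_cast Nat.find_min' hex ⟨g', hg', hs'⟩

end Groth.Agent.S6385
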