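import Groth.Prelude.Def_Found
import Groth.Prelude.Def_CAlgX
import Mathlib.RingTheory.Flat.Basic
import Mathlib.Algebra.DirectSum.Module
import Mathlib.LinearAlgebra.TensorProduct.Basic
import Mathlib.RingTheory.TensorProduct.Basic
import Mathlib.Algebra.Colimit.Module
import Mathlib.RingTheory.Finiteness.Defs
import Mathlib.RingTheory.FinitePresentation
import Mathlib.Algebra.Module.FinitePresentation
import Mathlib.RingTheory.Ideal.Quotient.Operations
import Mathlib.RingTheory.Noetherian.Basic
import Mathlib.LinearAlgebra.TensorProduct.Pi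
import Mathlib.SetTheory.Cardinal.Basic
import Mathlib.Algebra.Algebra.Subalgebra.Basic
import Mathlib.RingTheory.Flat.EquationalCriterion
import Mathlib.Algebra.FreeAlgebra.Cardinality
import Mathlib.SetTheory.Cardinal.Order

set_option autoImplicit false
namespace CAlg
end CAlg
universe u
open CAlg

namespace Groth.Agent.S6386

/-- The key step of its proof: let A be a ring, κ = max(|A|, ℵ₀), and B a flat A-algebra. Then every
A-subalgebra E ⊆ B with at most κ elements lies inside a flat A-subalgebra B' ⊆ B with at most κ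
elements. Consequently B is the filtered colimit (union) of its flat A-subalgebras of cardinality at
most κ. -/
theorem result (A B : Type u) [CommRing A] [CommRing B] [Algebra A B]
    [Module.Flat A B] (E : Subalgebra A B) (hE : Cardinal.mk E ≤ max (Cardinal.mk A) Cardinal.aleph0) :
    ∃ B' : Subalgebra A B, E ≤ B' ∧ Module.Flat A B' ∧ Cardinal.mk B' ≤ max (Cardinal.mk A) Cardinal.aleph0 := by
  classical
  set κ := max (Cardinal.mk A) Cardinal.aleph0
  have hκ : Cardinal.aleph0 ≤ κ := le_max_right _ _
  let rel : List (A × B) → List B := fun L =>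
    if h : ∑ i : Fin L.length, (L.get i).1 • (L.get i).2 = 0 then
      List.ofFn (Module.Flat.isTrivialRelation_of_sum_smul_eq_zero h).choose_spec.choose_spec.choose
    else []
  let step : Subalgebra A B → Subalgebra A B := fun C =>
    Algebra.adjoin A ((C : Set B) ∪ ⋃ L : List (A × C), {b | b ∈ rel (L.map fun q => (q.1, (q.2 : B)))})
  have hle : ∀ C, C ≤ step C := fun C x hx => Algebra.subset_adjoin (Or.inl hx)
  have hcard : ∀ C : Subalgebra A B, Cardinal.mk C ≤ κ → Cardinal.mk (step C) ≤ κ := fun C hC => by
    refine (Algebra.cardinalMk_adjoin_le A _).trans (max_le (max_le (le_max_left _ _) ?_) hκ)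
    refine (Cardinal.mk_union_le _ _).trans (Cardinal.add_le_of_le hκ hC ?_)
    refine (Cardinal.mk_iUnion_le _).trans (Cardinal.mul_le_of_le hκ ?_ ?_)
    · refine (Cardinal.mk_list_le_max _).trans (max_le hκ ?_)
      rw [Cardinal.mk_prod, Cardinal.lift_id, Cardinal.lift_id]
      exact Cardinal.mul_le_of_le hκ (le_max_left _ _) hC
    · exact ciSup_le' fun L => ((List.finite_toSet _).lt_aleph0.le).trans hκ
  let E' : ℕ → Subalgebra A B := fun n => step^[n] E
  have hmono : Monotone E' := monotone_nat_of_le_succ fun n => by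
    simp only [E', Function.iterate_succ_apply']; exact hle _
  have hmem : ∀ x, x ∈ (⨆ n, E' n : Subalgebra A B) ↔ ∃ n, x ∈ E' n := fun x => by
    rw [← SetLike.mem_coe, Subalgebra.coe_iSup_of_directed hmono.directed_le, Set.mem_iUnion]
    rfl
  have hE' : ∀ n, Cardinal.mk ↥(E' n) ≤ κ := fun n => by
    induction n with
    | zero => exact hE
    | succ n ih => simp only [E', Function.iterate_succ_apply'] at ih ⊢; exact hcard _ ih
  refine ⟨⨆ n, E' n, le_iSup E' 0, Module.Flat.of_forall_isTrivialRelation fun {l f x} hsum => ?_, ?_⟩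
  · choose k hk using fun i => (hmem _).mp (x i).2
    let N := Finset.univ.sup k
    let L : List (A × E' N) := List.ofFn fun i =>
      (f i, (⟨(x i : B), hmono (Finset.le_sup (Finset.mem_univ i)) (hk i)⟩ : E' N))
    let L' : List (A × B) := L.map fun q => (q.1, (q.2 : B))
    have hlen : L'.length = l := by simp [L', L]
    have hget : ∀ i : Fin L'.length, L'.get i = (f (Fin.cast hlen i), (x (Fin.cast hlen i) : B)) := fun i => by
      simp [L', L, Fin.cast]
    have h0 : ∑ i : Fin L'.length, (L'.get i).1 • (L'.get i).2 = 0 := by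
      simp only [hget]
      refine (Fintype.sum_equiv (finCongr hlen) _ (fun j => f j • (x j : B)) fun i => rfl).trans ?_
      simpa using congrArg (⨆ n, E' n : Subalgebra A B).val hsum
    obtain ⟨hy1, hy2⟩ := (Module.Flat.isTrivialRelation_of_sum_smul_eq_zero h0).choose_spec.choose_spec.choose_spec
    set a := (Module.Flat.isTrivialRelation_of_sum_smul_eq_zero h0).choose_spec.choose
    set y := (Module.Flat.isTrivialRelation_of_sum_smul_eq_zero h0).choose_spec.choose_spec.choose with hy
    have hyN : ∀ j, y j ∈ E' (N + 1) := fun j => by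
      simp only [E', Function.iterate_succ_apply']
      exact Algebra.subset_adjoin (Or.inr (Set.mem_iUnion.mpr ⟨L, by
        show y j ∈ rel L'
        simp only [rel, dif_pos h0, List.mem_ofFn', Set.mem_range, hy]
        exact ⟨j, rfl⟩⟩))
    refine ⟨_, fun i j => a (Fin.cast hlen.symm i) j, fun j => ⟨y j, (hmem _).mpr ⟨N + 1, hyN j⟩⟩,
      fun i => Subtype.ext ?_, fun j => ?_⟩
    · have := hy1 (Fin.cast hlen.symm i)
      simp only [hget] at this
      simpa using this
    · have := hy2 j
      simp only [hget] at this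
      refine ((Fintype.sum_equiv (finCongr hlen) _ _ fun i => ?_).symm).trans this
      simp [Fin.cast]
  · refine (Cardinal.mk_le_mk_of_subset (t := ⋃ n : ULift.{u} ℕ, (E' n.down : Set B)) fun x hx => ?_).trans
      ((Cardinal.mk_iUnion_le _).trans (Cardinal.mul_le_of_le hκ (by simpa using hκ) (ciSup_le' fun n => hE' n.down)))
    obtain ⟨n, hn⟩ := (hmem x).mp hx
    exact Set.mem_iUnion.mpr ⟨⟨n⟩, hn⟩

end Groth.Agent.S6386
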