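import Groth.Statements.S6387
import Groth.Agent.S0393
import Mathlib.Algebra.Homology.ShortComplex.ModuleCat
import Mathlib.LinearAlgebra.TensorProduct.Quotient

set_option autoImplicit false
universe u
open CategoryTheory
open CAlg

open TensorProduct

namespace Groth.Agent.S6387

/-- Let R and S be Noetherian local rings, R → S a local ring map, and m the maximal ideal of R. Take a
bounded complex F_e → … → F_1 → F_0 of finitely generated S-modules, zero to the left of F_e (a
chain complex C with C_j = 0 for j > e) such that every F_j is flat over R and the complex 0 →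
F_e/mF_e → … → F_0/mF_0 (C tensored over S with S/mS) is exact at F_e, …, F_1. Then 0 → F_e → … →
F_0 is exact at F_e, …, F_1 and the cokernel of F_1 → F_0 (the homology of C in degree 0) is flat
over R. -/
theorem result {R S : Type u} [CommRing R] [CommRing S]
    [IsLocalRing R] [IsLocalRing S] [IsNoetherianRing R] [IsNoetherianRing S] [Algebra R S]
    [IsLocalHom (algebraMap R S)] (C : ChainComplex (ModuleCat.{u} S) ℕ) (e : ℕ)
    (hzero : ∀ j, e < j → Limits.IsZero (C.X j)) (hfin : ∀ j, Module.Finite S (C.X j))
    (hflat : ∀ j, Module.Flat R ((ModuleCat.restrictScalars (algebraMap R S)).obj (C.X j)))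
    (hex : ∀ j, 1 ≤ j → j ≤ e →
      (((MonoidalCategory.tensorLeft
          (ModuleCat.of S (S ⧸ (IsLocalRing.maximalIdeal R).map (algebraMap R S)))).mapHomologicalComplex
          (ComplexShape.down ℕ)).obj C).ExactAt j) :
    (∀ j, 1 ≤ j → j ≤ e → C.ExactAt j) ∧
      Module.Flat R ((ModuleCat.restrictScalars (algebraMap R S)).obj (C.homology 0)) := by
  classical
  letI iR : ∀ j, Module R (C.X j) := fun j => Module.compHom (C.X j) (algebraMap R S)
  haveI tow : ∀ j, IsScalarTower R S (C.X j) := fun j => ⟨fun r s x => by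
    rw [Algebra.smul_def, mul_smul]; rfl⟩
  haveI fl : ∀ j, Module.Flat R (C.X j) := fun j => hflat j
  haveI := hfin
  let K := fun j => C.X j ⧸ LinearMap.range (C.d (j + 1) j).hom
  let u : ∀ j, K (j + 1) →ₗ[S] C.X j := fun j =>
    (LinearMap.range (C.d (j + 1 + 1) (j + 1)).hom).liftQ (C.d (j + 1) j).hom
      (LinearMap.range_le_ker_iff.2 (by rw [← ModuleCat.hom_comp, C.d_comp_d]; rfl))
  have hstep : ∀ j, j + 1 ≤ e → Function.Injective ((u j).restrictScalars R) ∧
      Module.Flat R (C.X j ⧸ LinearMap.range ((u j).restrictScalars R)) := by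
    intro j hj
    refine Groth.Agent.S0393.result (S := S) _ ((Groth.L20.injective_lTensor_residueField_iff _).mpr ?_)
    intro z hz
    obtain ⟨x, rfl⟩ := Submodule.Quotient.mk_surjective _ z
    rw [← Submodule.restrictScalars_top R S, ← Ideal.smul_restrictScalars, Submodule.restrictScalars_mem] at hz ⊢
    have h2 := (hex (j + 1) (by omega) hj)
    rw [HomologicalComplex.exactAt_iff' _ (j + 1 + 1) (j + 1) j (by simp) (by simp),
      ShortComplex.moduleCat_exact_iff] at h2
    have key : ∀ {N : Type u} [AddCommGroup N] [Module S N] (y : N),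
        ((1 : S ⧸ (IsLocalRing.maximalIdeal R).map (algebraMap R S)) ⊗ₜ[S] y = 0) ↔
          y ∈ (IsLocalRing.maximalIdeal R).map (algebraMap R S) • (⊤ : Submodule S N) := by
      intro N _ _ y
      rw [← (quotTensorEquivQuotSMul N _).map_eq_zero_iff, quotTensorEquivQuotSMul_mk_one_tmul,
        Submodule.Quotient.mk_eq_zero]
    obtain ⟨w, hw⟩ := h2 ((1 : S ⧸ (IsLocalRing.maximalIdeal R).map (algebraMap R S)) ⊗ₜ[S] x) ((key _).mpr hz)
    obtain ⟨y, rfl⟩ := TensorProduct.mk_surjective S (C.X (j + 1 + 1)) _ Ideal.Quotient.mk_surjective w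
    have hxy : x - (C.d (j + 1 + 1) (j + 1)).hom y ∈
        (IsLocalRing.maximalIdeal R).map (algebraMap R S) • (⊤ : Submodule S (C.X (j + 1))) := by
      rw [← key, TensorProduct.tmul_sub, sub_eq_zero]
      exact hw.symm
    have := Submodule.mem_map_of_mem (f := (LinearMap.range (C.d (j + 1 + 1) (j + 1)).hom).mkQ) hxy
    rw [Submodule.map_smul'', map_sub] at this
    simp only [Submodule.mkQ_apply, (Submodule.Quotient.mk_eq_zero _).mpr (LinearMap.mem_range_self _ y), sub_zero] at this
    exact Submodule.smul_mono le_rfl le_top this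
  have hK : ∀ n j, e + 1 ≤ n + j → Module.Flat R (K j) := by
    intro n
    induction n with
    | zero =>
      intro j hj
      haveI := ModuleCat.subsingleton_of_isZero (hzero j (by omega))
      infer_instance
    | succ n ih =>
      intro j hj
      by_cases hje : e < j
      · haveI := ModuleCat.subsingleton_of_isZero (hzero j hje)
        infer_instance
      · haveI := ih (j + 1) (by omega)
        by_cases hje' : j + 1 ≤ e
        · haveI := (hstep j hje').2
          have hr : LinearMap.range ((u j).restrictScalars R) = (LinearMap.range (C.d (j + 1) j).hom).restrictScalars R := by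
            rw [LinearMap.range_restrictScalars, Submodule.range_liftQ]
          exact Module.Flat.of_linearEquiv ((Submodule.Quotient.restrictScalarsEquiv R _).symm.trans
            (Submodule.quotEquivOfEq _ _ hr.symm))
        · haveI := ModuleCat.subsingleton_of_isZero (hzero (j + 1) (by omega))
          have hb : LinearMap.range (C.d (j + 1) j).hom = ⊥ := by
            rw [LinearMap.range_eq_bot]
            exact LinearMap.ext fun x => by simp [Subsingleton.elim x 0]
          exact Module.Flat.of_linearEquiv ((Submodule.quotEquivOfEqBot _ hb).restrictScalars R)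
  refine ⟨fun j hj1 hj2 => ?_, ?_⟩
  · obtain ⟨j, rfl⟩ : ∃ i, j = i + 1 := ⟨j - 1, by omega⟩
    have hinj := (hstep j hj2).1
    rw [HomologicalComplex.exactAt_iff' _ (j + 1 + 1) (j + 1) j (by simp) (by simp),
      ShortComplex.moduleCat_exact_iff]
    intro x hx
    have : (Submodule.Quotient.mk x : K (j + 1)) = 0 := hinj ((show ((u j).restrictScalars R) (Submodule.Quotient.mk x) = 0 from hx).trans (map_zero _).symm)
    exact (Submodule.Quotient.mk_eq_zero _).mp this
  · haveI := hK (e + 1) 0 le_rfl
    let T := C.sc' 1 0 0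
    have e1 : C.homology 0 ≅ T.homology := ShortComplex.homologyMapIso (C.isoSc' _ _ _ (by simp) (by simp))
    have hg : LinearMap.ker T.g.hom = ⊤ := by
      rw [LinearMap.ker_eq_top]
      show (C.d 0 0).hom = 0
      rw [C.shape 0 0 (by simp)]; rfl
    let eq0 : (LinearMap.ker T.g.hom ⧸ LinearMap.range T.moduleCatToCycles) ≃ₗ[S] K 0 :=
      Submodule.Quotient.equiv _ _ (LinearEquiv.ofTop _ hg) (by
        ext z
        constructor
        · rintro ⟨_, ⟨w, rfl⟩, rfl⟩; exact ⟨w, rfl⟩
        · rintro ⟨w, rfl⟩; exact ⟨_, ⟨w, rfl⟩, rfl⟩)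
    let eh : C.homology 0 ≃ₗ[S] K 0 := (e1 ≪≫ T.moduleCatHomologyIso).toLinearEquiv.trans eq0
    letI : Module R (C.homology 0) := Module.compHom (C.homology 0) (algebraMap R S)
    haveI : IsScalarTower R S (C.homology 0) := ⟨fun r s x => by
      rw [Algebra.smul_def, mul_smul]; rfl⟩
    exact Module.Flat.of_linearEquiv (eh.restrictScalars R)

end Groth.Agent.S6387
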