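import Groth.Statements.S6388
import Mathlib.LinearAlgebra.TensorProduct.RightExactness
-- import your own Groth.Agent.* helpers here

set_option autoImplicit false
universe u
open CAlg

namespace Groth.Agent.S6388

/-- Let f : M → N and g : M → M' be maps of R-modules and let N' be their pushout, realised as the
quotient of M' × N by the submodule of elements (g x, -f x). Then g dominates f — for every module Q
the kernel of f ⊗ id_Q is contained in the kernel of g ⊗ id_Q — if and only if the canonical map M'
→ N' is universally injective. -/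
theorem result (R : Type u) [CommRing R] {M N M' : Type u}
    [AddCommGroup M] [Module R M] [AddCommGroup N] [Module R N] [AddCommGroup M'] [Module R M']
    (f : M →ₗ[R] N) (g : M →ₗ[R] M') :
    (∀ (Q : Type u) [AddCommGroup Q] [Module R Q], LinearMap.ker (f.rTensor Q) ≤ LinearMap.ker (g.rTensor Q)) ↔
      CAlgX.UniversallyInjective R
        ((LinearMap.range (g.prod (-f))).mkQ ∘ₗ LinearMap.inl R M' N) := by
  let D := g.prod (-f)
  have hex : ∀ (Q : Type u) [AddCommGroup Q] [Module R Q],
      Function.Exact (D.rTensor Q) ((LinearMap.range D).mkQ.rTensor Q) := fun Q _ _ =>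
    rTensor_exact Q (LinearMap.exact_map_mkQ_range D) (Submodule.mkQ_surjective _)
  have hfst : (LinearMap.fst R M' N) ∘ₗ D = g := LinearMap.ext fun x => rfl
  have hsnd : (LinearMap.snd R M' N) ∘ₗ D = -f := LinearMap.ext fun x => rfl
  have h1 : (LinearMap.fst R M' N) ∘ₗ LinearMap.inl R M' N = LinearMap.id := LinearMap.ext fun x => rfl
  have h2 : (LinearMap.snd R M' N) ∘ₗ LinearMap.inl R M' N = 0 := LinearMap.ext fun x => rfl
  have h3 : (LinearMap.inl R M' N) ∘ₗ g = D + (LinearMap.inr R M' N) ∘ₗ f :=
    LinearMap.ext fun x => by simp [D]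
  constructor
  · intro h Q _ _
    refine (injective_iff_map_eq_zero _).2 fun y hy => ?_
    rw [LinearMap.rTensor_comp, LinearMap.comp_apply] at hy
    obtain ⟨x, hx⟩ := (hex Q _).1 hy
    have hg := congrArg ((LinearMap.fst R M' N).rTensor Q) hx
    have hf := congrArg ((LinearMap.snd R M' N).rTensor Q) hx
    rw [← LinearMap.comp_apply, ← LinearMap.rTensor_comp, hfst, ← LinearMap.comp_apply, ← LinearMap.rTensor_comp, h1,
      LinearMap.rTensor_id, LinearMap.id_apply] at hg
    rw [← LinearMap.comp_apply, ← LinearMap.rTensor_comp, hsnd, ← LinearMap.comp_apply, ← LinearMap.rTensor_comp, h2,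
      LinearMap.rTensor_zero, LinearMap.zero_apply, LinearMap.rTensor_neg, LinearMap.neg_apply, neg_eq_zero] at hf
    rw [← hg]
    exact h Q hf
  · intro h Q _ _ x hx
    refine h Q ?_
    rw [map_zero, LinearMap.rTensor_comp, LinearMap.comp_apply, ← LinearMap.comp_apply ((LinearMap.inl R M' N).rTensor Q),
      ← LinearMap.rTensor_comp, h3, LinearMap.rTensor_add, LinearMap.add_apply, LinearMap.rTensor_comp,
      LinearMap.comp_apply, show f.rTensor Q x = 0 from hx, map_zero, add_zero, (hex Q).apply_apply_eq_zero]

end Groth.Agent.S6388
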