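import Groth.Statements.S6391
import Groth.Agent.L05.Hensel.Homs
import Groth.Agent.L27.IndEtale
import Mathlib.RingTheory.FinitePresentation
import Mathlib.RingTheory.Etale.Basic

set_option autoImplicit false
universe u
open CAlg


namespace Groth.Agent.S6391
open TensorProduct

theorem lift_etale (R S' K E : Type u) [CommRing R] [CommRing S'] [Field K] [HenselianLocalRing S']
    [Algebra R S'] [Algebra R K] [CommRing E] [Algebra R E] [Algebra.Etale R E] (u' : S' →ₐ[R] K)
    (hu' : Function.Surjective u') (hku' : RingHom.ker u'.toRingHom = IsLocalRing.maximalIdeal S')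
    (σ : E →ₐ[R] K) : ∃! τ : E →ₐ[R] S', u'.comp τ = σ := by
  let ι : S' ⧸ IsLocalRing.maximalIdeal S' →ₐ[R] K :=
    Ideal.Quotient.liftₐ _ u' fun x hx => by rw [← hku'] at hx; exact hx
  have hinj : Function.Injective ι := by
    rw [injective_iff_map_eq_zero]
    intro x hx
    obtain ⟨x, rfl⟩ := Ideal.Quotient.mk_surjective x
    have h : x ∈ RingHom.ker u'.toRingHom := hx
    rw [hku'] at h
    exact Ideal.Quotient.eq_zero_iff_mem.2 h
  have hbij : Function.Bijective ι := ⟨hinj, fun c => by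
    obtain ⟨x, rfl⟩ := hu' c; exact ⟨Ideal.Quotient.mk _ x, rfl⟩⟩
  let e := AlgEquiv.ofBijective ι hbij
  obtain ⟨τ, hτ, huniq⟩ := Groth.L05.existsUnique_algHom_lift_etale (R := R) (IsLocalRing.maximalIdeal S')
    (e.symm.toAlgHom.comp σ)
  refine ⟨τ, AlgHom.ext fun x => ?_, fun τ' hτ' => huniq τ' (AlgHom.ext fun x => ?_)⟩
  · have h := congrArg e (AlgHom.congr_fun hτ x)
    exact h.trans (e.apply_symm_apply _)
  · apply e.injective
    exact (AlgHom.congr_fun hτ' x).trans (e.apply_symm_apply _).symm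

theorem existsUnique_hom (R S S' K : Type u) [CommRing R] [CommRing S] [CommRing S'] [Field K]
    [HenselianLocalRing S'] [Algebra R S] [Algebra R S'] [Algebra R K] (hS : EtPBC.IsIndEtale R S)
    (u : S →ₐ[R] K) (u' : S' →ₐ[R] K) (hu' : Function.Surjective u')
    (hku' : RingHom.ker u'.toRingHom = IsLocalRing.maximalIdeal S') :
    ∃! f : S →ₐ[R] S', u'.comp f = u := by
  have fac := (Groth.L27.IndEtale.isIndEtale_iff_exists_factor R S).1 hS
  let P : S → S' → Prop := fun x y => ∀ (E : Type u) [CommRing E] [Algebra R E] [Algebra.Etale R E]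
    (β : E →ₐ[R] S) (e : E), β e = x → ∀ τ : E →ₐ[R] S', u'.comp τ = u.comp β → τ e = y
  have hwd : ∀ x, ∃ y, P x y := by
    intro x
    obtain ⟨E, _, _, α, β, hE, hαβ⟩ := fac (MvPolynomial (Fin 1) R) (MvPolynomial.aeval fun _ => x)
    obtain ⟨τ, hτ, -⟩ := lift_etale R S' K E u' hu' hku' (u.comp β)
    refine ⟨τ (α (MvPolynomial.X 0)), fun E' _ _ _ β' e' he' τ' hτ' => ?_⟩
    haveI : Algebra.FinitePresentation R (E ⊗[R] E') :=
      Algebra.FinitePresentation.trans R E (E ⊗[R] E')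
    let φ : E ⊗[R] E' →ₐ[R] S := Algebra.TensorProduct.lift β β' fun _ _ => Commute.all _ _
    have hx : β (α (MvPolynomial.X 0)) = x := by
      rw [← AlgHom.comp_apply, hαβ, MvPolynomial.aeval_X]
    haveI : Algebra.FinitePresentation R
        ((E ⊗[R] E') ⧸ Ideal.span {α (MvPolynomial.X 0) ⊗ₜ[R] (1 : E') - (1 : E) ⊗ₜ[R] e'}) :=
      Algebra.FinitePresentation.quotient ⟨{α (MvPolynomial.X 0) ⊗ₜ[R] (1 : E') - (1 : E) ⊗ₜ[R] e'}, by simp⟩
    let ψ := Ideal.Quotient.liftₐ (Ideal.span {α (MvPolynomial.X 0) ⊗ₜ[R] (1 : E') - (1 : E) ⊗ₜ[R] e'}) φ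
      (fun z hz => by
        obtain ⟨c, rfl⟩ := Ideal.mem_span_singleton'.1 hz
        simp [φ, hx, he'])
    obtain ⟨G, _, _, γ, δ, hG, hγδ⟩ := fac _ ψ
    obtain ⟨θ, hθ, -⟩ := lift_etale R S' K G u' hu' hku' (u.comp δ)
    let q := Ideal.Quotient.mkₐ R (Ideal.span {α (MvPolynomial.X 0) ⊗ₜ[R] (1 : E') - (1 : E) ⊗ₜ[R] e'})
    have e1 : θ.comp ((γ.comp q).comp Algebra.TensorProduct.includeLeft) = τ := by
      obtain ⟨t, ht, htu⟩ := lift_etale R S' K E u' hu' hku' (u.comp β)
      refine (htu _ ?_).trans (htu _ hτ).symm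
      refine AlgHom.ext fun z => ?_
      refine (AlgHom.congr_fun hθ (γ (q (z ⊗ₜ[R] (1 : E'))))).trans ?_
      show u (δ (γ (q (z ⊗ₜ[R] (1 : E'))))) = u (β z)
      rw [← AlgHom.comp_apply δ γ, hγδ]
      show u (φ (z ⊗ₜ[R] (1 : E'))) = _
      simp [φ]
    have e2 : θ.comp ((γ.comp q).comp Algebra.TensorProduct.includeRight) = τ' := by
      obtain ⟨t, ht, htu⟩ := lift_etale R S' K E' u' hu' hku' (u.comp β')
      refine (htu _ ?_).trans (htu _ hτ').symm
      refine AlgHom.ext fun z => ?_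
      refine (AlgHom.congr_fun hθ (γ (q ((1 : E) ⊗ₜ[R] z)))).trans ?_
      show u (δ (γ (q ((1 : E) ⊗ₜ[R] z)))) = u (β' z)
      rw [← AlgHom.comp_apply δ γ, hγδ]
      show u (φ ((1 : E) ⊗ₜ[R] z)) = _
      simp [φ]
    rw [← e1, ← e2]
    show θ (γ (q ((1 : E) ⊗ₜ[R] e'))) = θ (γ (q (α (MvPolynomial.X 0) ⊗ₜ[R] (1 : E'))))
    congr 2
    exact (Ideal.Quotient.eq.2 (Ideal.mem_span_singleton_self _)).symm
  choose F hF using hwd
  have hget : ∀ x y : S, ∃ (E : Type u) (_ : CommRing E) (_ : Algebra R E) (_ : Algebra.Etale R E)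
      (β : E →ₐ[R] S) (τ : E →ₐ[R] S') (a b : E), u'.comp τ = u.comp β ∧ β a = x ∧ β b = y := by
    intro x y
    obtain ⟨E, i1, i2, α, β, hE, hαβ⟩ := fac (MvPolynomial (Fin 2) R) (MvPolynomial.aeval ![x, y])
    obtain ⟨τ, hτ, -⟩ := lift_etale R S' K E u' hu' hku' (u.comp β)
    exact ⟨E, i1, i2, hE, β, τ, α (MvPolynomial.X 0), α (MvPolynomial.X 1), hτ,
      by rw [← AlgHom.comp_apply, hαβ, MvPolynomial.aeval_X]; rfl,
      by rw [← AlgHom.comp_apply, hαβ, MvPolynomial.aeval_X]; rfl⟩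
  have hc : ∀ r : R, F (algebraMap R S r) = algebraMap R S' r := fun r => by
    obtain ⟨E, _, _, _, β, τ, a, b, hτ, -, -⟩ := hget 0 0
    exact (hF _ E β (algebraMap R E r) (β.commutes r) τ hτ).symm.trans (τ.commutes r)
  let f : S →ₐ[R] S' :=
    { toFun := F
      map_one' := by rw [← map_one (algebraMap R S), hc, map_one]
      map_zero' := by rw [← map_zero (algebraMap R S), hc, map_zero]
      map_mul' := fun x y => by
        obtain ⟨E, _, _, _, β, τ, a, b, hτ, ha, hb⟩ := hget x y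
        rw [← hF x E β a ha τ hτ, ← hF y E β b hb τ hτ, ← map_mul,
          hF (x * y) E β (a * b) (by rw [map_mul, ha, hb]) τ hτ]
      map_add' := fun x y => by
        obtain ⟨E, _, _, _, β, τ, a, b, hτ, ha, hb⟩ := hget x y
        rw [← hF x E β a ha τ hτ, ← hF y E β b hb τ hτ, ← map_add,
          hF (x + y) E β (a + b) (by rw [map_add, ha, hb]) τ hτ]
      commutes' := hc }
  refine ⟨f, AlgHom.ext fun x => ?_, fun g hg => AlgHom.ext fun x => ?_⟩
  · obtain ⟨E, _, _, _, β, τ, a, b, hτ, ha, -⟩ := hget x x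
    show u' (F x) = u x
    rw [← hF x E β a ha τ hτ, ← ha]
    exact AlgHom.congr_fun hτ a
  · obtain ⟨E, _, _, _, β, τ, a, b, hτ, ha, -⟩ := hget x x
    show g x = F x
    rw [← ha, ← hF (β a) E β a rfl (g.comp β) (by rw [← AlgHom.comp_assoc, hg])]
    rfl

end Groth.Agent.S6391


namespace Groth.Agent.S6391

/-- Let R be a ring, S and S' henselian local rings which are filtered colimits of étale R-algebras, and
K a field together with R-algebra maps S → K and S' → K identifying K with the residue field of each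
(surjective with kernel the maximal ideal). Then exactly one isomorphism of R-algebras S → S'
commutes with the two maps to K. -/
theorem result (R S S' K : Type u) [CommRing R]
    [CommRing S] [CommRing S'] [Field K] [HenselianLocalRing S] [HenselianLocalRing S']
    [Algebra R S] [Algebra R S'] [Algebra R K] (hS : EtPBC.IsIndEtale R S) (hS' : EtPBC.IsIndEtale R S')
    (u : S →ₐ[R] K) (u' : S' →ₐ[R] K) (hu : Function.Surjective u) (hu' : Function.Surjective u')
    (hku : RingHom.ker u.toRingHom = IsLocalRing.maximalIdeal S)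
    (hku' : RingHom.ker u'.toRingHom = IsLocalRing.maximalIdeal S') :
    ∃! e : S ≃ₐ[R] S', u'.comp (e : S →ₐ[R] S') = u := by
  obtain ⟨f, hf, hfu⟩ := existsUnique_hom R S S' K hS u u' hu' hku'
  obtain ⟨g, hg, -⟩ := existsUnique_hom R S' S K hS' u' u hu hku
  obtain ⟨i, hi, hiu⟩ := existsUnique_hom R S S K hS u u hu hku
  obtain ⟨i', hi', hiu'⟩ := existsUnique_hom R S' S' K hS' u' u' hu' hku'
  have h1 : g.comp f = AlgHom.id R S := (hiu _ (show u.comp (g.comp f) = u by rw [← AlgHom.comp_assoc, hg, hf])).trans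
    (hiu _ (AlgHom.comp_id u)).symm
  have h2 : f.comp g = AlgHom.id R S' := (hiu' _ (show u'.comp (f.comp g) = u' by rw [← AlgHom.comp_assoc, hf, hg])).trans
    (hiu' _ (AlgHom.comp_id u')).symm
  refine ⟨AlgEquiv.ofAlgHom f g h2 h1, hf, fun e he => AlgEquiv.ext fun x => ?_⟩
  exact AlgHom.congr_fun (hfu (e : S →ₐ[R] S') he) x

end Groth.Agent.S6391
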