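import Groth.Statements.S6392
import Groth.Agent.S6357
import Mathlib.Algebra.Colimit.Module
import Mathlib.Data.Set.Countable

set_option autoImplicit false
universe u
open CAlg

namespace Groth.Agent.S6392

/-- Suppose M is the colimit of finitely presented R-modules G_i along a directed system over a nonempty
directed index set (transition maps f_ij), and M is both Mittag-Leffler and countably generated.
Then some countable directed subset I' of the indices already computes M: the canonical map from the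
colimit of the G_i with i ∈ I' to M is bijective. -/
theorem result (R : Type u) [CommRing R]
    {ι : Type u} [Preorder ι] [IsDirected ι (· ≤ ·)] [Nonempty ι] [DecidableEq ι] (G : ι → Type u)
    [∀ i, AddCommGroup (G i)] [∀ i, Module R (G i)] [∀ i, Module.FinitePresentation R (G i)]
    (f : ∀ i j, i ≤ j → G i →ₗ[R] G j) [DirectedSystem G fun i j h => f i j h]
    (hML : CAlg.IsMittagLeffler R (Module.DirectLimit G f))
    (hc : CAlg.IsCountablyGenerated R (Module.DirectLimit G f)) :
    ∃ I' : Set ι, I'.Countable ∧ DirectedOn (· ≤ ·) I' ∧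
      Function.Bijective (Module.DirectLimit.lift R I' (fun i : I' => G i.1)
        (fun (i j : I') (h : i ≤ j) => f i.1 j.1 h)
        (fun i : I' => Module.DirectLimit.of R ι G f i.1)
        (fun (i j : I') (h : i ≤ j) (x : G i.1) => Module.DirectLimit.of_f)) := by
  classical
  obtain ⟨s, hs, hspan⟩ := hc
  have hdom := (Groth.Agent.S6357.result R G f).mp hML
  choose j hij hj using hdom
  obtain ⟨m, hm⟩ := (hs.insert 0).exists_eq_range ⟨0, Set.mem_insert _ _⟩
  choose i₀ x₀ hx₀ using fun n => Module.DirectLimit.exists_of (m n)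
  have hub : ∀ a b c : ι, ∃ d, a ≤ d ∧ b ≤ d ∧ c ≤ d := by
    intro a b c
    obtain ⟨d, had, hbd⟩ := exists_ge_ge a b
    obtain ⟨e, hde, hce⟩ := exists_ge_ge d c
    exact ⟨e, had.trans hde, hbd.trans hde, hce⟩
  choose ub hub₁ hub₂ hub₃ using hub
  let a : ℕ → ι := fun n => Nat.rec (i₀ 0) (fun n an => ub an (j an) (i₀ (n + 1))) n
  have ha : Monotone a := monotone_nat_of_le_succ fun n => hub₁ _ _ _
  have hai : ∀ n, i₀ n ≤ a n := by
    intro n
    cases n with
    | zero => exact le_rfl
    | succ n => exact hub₃ _ _ _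
  have haj : ∀ n, j (a n) ≤ a (n + 1) := fun n => hub₂ _ _ _
  have hdir : DirectedOn (· ≤ ·) (Set.range a) := by
    rintro _ ⟨p, rfl⟩ _ ⟨q, rfl⟩
    exact ⟨a (max p q), ⟨_, rfl⟩, ha (le_max_left p q), ha (le_max_right p q)⟩
  refine ⟨Set.range a, Set.countable_range a, hdir, ?_, ?_⟩
  · haveI : Nonempty (Set.range a) := ⟨⟨a 0, 0, rfl⟩⟩
    haveI : IsDirected (Set.range a) (· ≤ ·) := directedOn_iff_directed.mp hdir |> fun h =>
      ⟨fun p q => h p q⟩
    haveI : DirectedSystem (fun i : Set.range a => G i.1)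
        (fun (p q : Set.range a) (h : p ≤ q) => f p.1 q.1 h) :=
      ⟨fun p x => DirectedSystem.map_self (f := fun i j h => f i j h) x,
        fun p q r hpq hqr x => DirectedSystem.map_map (f := fun i j h => f i j h) hpq hqr x⟩
    rw [injective_iff_map_eq_zero]
    intro z hz
    obtain ⟨⟨i, n, rfl⟩, y, rfl⟩ := Module.DirectLimit.exists_of z
    rw [Module.DirectLimit.lift_of] at hz
    obtain ⟨k, hk, hky⟩ := Module.DirectLimit.of.zero_exact hz
    obtain ⟨h, hh⟩ := hj (a n) k hk
    have hy : f (a n) (a (n + 1)) (ha n.le_succ) y = 0 := by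
      rw [← DirectedSystem.map_map (f := fun i j h => f i j h) (hij (a n)) (haj n) y]
      simp [hh, hky]
    rw [← Module.DirectLimit.of_f (hij := show (⟨a n, n, rfl⟩ : Set.range a) ≤ ⟨a (n+1), n+1, rfl⟩ from ha n.le_succ)]
    simp [hy]
  · rw [← LinearMap.range_eq_top, eq_top_iff, ← hspan, Submodule.span_le]
    intro x hx
    obtain ⟨n, rfl⟩ : x ∈ Set.range m := hm ▸ Set.mem_insert_of_mem _ hx
    exact ⟨Module.DirectLimit.of R (Set.range a) (fun i : Set.range a => G i.1)
      (fun p q h => f p.1 q.1 h) ⟨a n, n, rfl⟩ (f (i₀ n) (a n) (hai n) (x₀ n)), by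
      rw [Module.DirectLimit.lift_of, Module.DirectLimit.of_f, hx₀ n]⟩

end Groth.Agent.S6392
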