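import Groth.Statements.S6398
import Groth.Agent.L09.FibFiberwise

set_option autoImplicit false
open CategoryTheory
universe v u
open FibCat

namespace Groth.Agent.S6398

/-- A functor `G` over `C` between categories fibred in groupoids is an equivalence of categories if and
only if each induced functor of fibre categories `𝒳_U ⥤ 𝒴_U` is an equivalence of categories. -/
theorem result {C : Type u} [Category.{v} C] {𝒳 𝒴 : BasedCategory.{v, max u v} C} (G : 𝒳 ⥤ᵇ 𝒴) (h𝒳 : FibCat.IsFibGrpd 𝒳.p) (h𝒴 : FibCat.IsFibGrpd 𝒴.p) :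
    G.toFunctor.IsEquivalence ↔ ∀ U : C, (FibCat.fiberFunctor G U).IsEquivalence := by
  have := Groth.L09.Fib.isFibered_of_isFibGrpd _ h𝒳
  rw [← Groth.L09.Fib.isEquivOver_iff_fiber G (Groth.L09.Fib.preservesStronglyCartesian_of_isFibGrpd G h𝒴)]
  exact ⟨fun _ => Groth.L09.Fib.isEquivOver_of_isFibered G, Groth.L09.Fib.isEquivalence_of_isEquivOver⟩

end Groth.Agent.S6398
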