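import Groth.Statements.S6399
import Groth.Agent.L09.FibYoneda
import Groth.Agent.L09.FibMisc
import Groth.Agent.L09.FibInertia

set_option autoImplicit false
open CategoryTheory
universe v u
open FibCat

namespace Groth.Agent.S6399
open CategoryTheory Category Limits Functor
open Groth.L09.Fib

/-- A functor `G : 𝒳 ⟶ 𝒴` over `C` between categories fibred in groupoids is fully faithful if and only
if the diagonal `𝒳 ⟶ 𝒳 ×_𝒴 𝒳` is an equivalence over `C`. -/
theorem result {C : Type u} [Category.{v} C] {𝒳 𝒴 : BasedCategory.{v, max u v} C} (G : 𝒳 ⥤ᵇ 𝒴) (h𝒳 : FibCat.IsFibGrpd 𝒳.p) (h𝒴 : FibCat.IsFibGrpd 𝒴.p) :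
    (G.toFunctor.Full ∧ G.toFunctor.Faithful) ↔ FibCat.IsEquivOver (FibCat.diag G) := by
  have := isFibered_of_isFibGrpd _ h𝒳
  constructor
  · rintro ⟨_, _⟩
    have : (FibCat.diag G).toFunctor.Faithful := ⟨fun {a b m m'} h => congrArg (fun t => t.hom.fst) h⟩
    have : (FibCat.diag G).toFunctor.Full := ⟨fun {a b} m => ⟨m.hom.fst, ObjectProperty.hom_ext _ (CategoricalPullback.hom_ext rfl (G.toFunctor.map_injective (by
      show G.map m.hom.fst = G.map m.hom.snd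
      have : G.map m.hom.fst ≫ 𝟙 (G.obj b) = 𝟙 (G.obj a) ≫ G.map m.hom.snd := m.hom.w
      exact (comp_id _).symm.trans (this.trans (id_comp _)))))⟩⟩
    refine isEquivOver_mk _ fun x => ⟨x.obj.fst, ?_⟩
    have hx : 𝒴.p.IsHomLift (𝟙 (𝒳.p.obj x.obj.fst)) x.obj.iso.hom := x.property
    let d : x.obj.fst ≅ x.obj.snd := G.toFunctor.preimageIso x.obj.iso
    let e : ((FibCat.diag G).obj x.obj.fst).obj ≅ x.obj := CategoricalPullback.mkIso (Iso.refl _) d (by
      show G.map (𝟙 x.obj.fst) ≫ x.obj.iso.hom = 𝟙 (G.obj x.obj.fst) ≫ G.map d.hom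
      rw [G.toFunctor.map_id, id_comp, id_comp]; simp [d])
    refine ⟨ObjectProperty.isoMk _ e, (fp_isHomLift_iff _ _).2 ?_⟩
    exact IsHomLift.id rfl
  · intro h
    obtain ⟨⟨hfull, -⟩, hs⟩ := (isEquivOver_iff _).1 h
    have hfaith : G.toFunctor.Faithful := ⟨fun {a b φ φ'} e => by
      let M : (FibCat.diag G).obj a ⟶ (FibCat.diag G).obj b := ObjectProperty.homMk ⟨φ, φ', by
        show G.map φ ≫ 𝟙 (G.obj b) = 𝟙 (G.obj a) ≫ G.map φ'
        rw [comp_id, id_comp, e]⟩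
      obtain ⟨χ, hχ⟩ := (FibCat.diag G).toFunctor.map_surjective M
      exact (congrArg (fun t => t.hom.fst) hχ).symm.trans (congrArg (fun t => t.hom.snd) hχ)⟩
    refine ⟨full_of_fiber G (preservesStronglyCartesian_of_isFibGrpd G h𝒴) fun U => ⟨fun {a b} g => ?_⟩, hfaith⟩
    have := (isGroupoid_fiber_of_isFibGrpd _ h𝒴 U).all_isIso g
    let e : G.obj a.1 ≅ G.obj b.1 := Fiber.fiberInclusion.mapIso (asIso g)
    have ha : 𝒳.p.obj a.1 = U := a.2
    have he : 𝒴.p.IsHomLift (𝟙 (𝒳.p.obj a.1)) e.hom := by rw [ha]; exact g.2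
    let x : (FibCat.fp G G).obj := ⟨⟨a.1, b.1, e⟩, he⟩
    obtain ⟨ξ, E, hE⟩ := hs x
    let d₁ : ξ ≅ a.1 := (CategoricalPullback.π₁ G.toFunctor G.toFunctor).mapIso ((ObjectProperty.ι _).mapIso E)
    let d₂ : ξ ≅ b.1 := (CategoricalPullback.π₂ G.toFunctor G.toFunctor).mapIso ((ObjectProperty.ι _).mapIso E)
    have w : G.map d₁.hom ≫ e.hom = 𝟙 (G.obj ξ) ≫ G.map d₂.hom := E.hom.hom.w
    have eq : G.map (d₁.inv ≫ d₂.hom) = g.1 := by
      rw [id_comp] at w
      rw [Functor.map_comp, ← w, ← assoc, ← Functor.map_comp, Iso.inv_hom_id, CategoryTheory.Functor.map_id, id_comp]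
      rfl
    refine ⟨⟨d₁.inv ≫ d₂.hom, ?_⟩, Subtype.ext eq⟩
    rw [← BasedFunctor.isHomLift_iff G, eq]
    exact g.2

end Groth.Agent.S6399
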