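import Groth.Statements.S6404
import Groth.Agent.L09.FibInertia
import Groth.Agent.L09.FibOp
import Mathlib.CategoryTheory.Limits.Shapes.Pullback.IsPullback.Basic
import Mathlib.CategoryTheory.Groupoid

set_option autoImplicit false
open CategoryTheory
universe v u
open FibCat

namespace Groth.Agent.S6404
open CategoryTheory Category Limits Functor
open Groth.L09.Fib

/-- The inertia of a category fibred in groupoids over `C` is fibred in groupoids over `C`. -/
theorem result {C : Type u} [Category.{v} C] {𝒳 : BasedCategory.{v, max u v} C} (h𝒳 : FibCat.IsFibGrpd 𝒳.p) :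
    FibCat.IsFibGrpd (FibCat.inertia (FibCat.toSelf 𝒳)).p := by
  exact Groth.L09.Fib.inertia_isFibGrpd h𝒳 (Groth.L09.Fib.isFibSet_id C).1

end Groth.Agent.S6404
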