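import Groth.Statements.S6405
import Groth.Agent.L09.FibYoneda
import Groth.Agent.L09.FibMisc
import Groth.Agent.L09.FibInertia

set_option autoImplicit false
open CategoryTheory
universe v u
open FibCat

namespace Groth.Agent.S6405
open CategoryTheory Category Limits Functor
open Groth.L09.Fib

/-- (2) ⇒ (1): if `𝒳` is fibred in groupoids over `C` and the canonical functor `I_𝒳 ⟶ 𝒳` from its
inertia is an equivalence over `C`, then `𝒳` is fibred in setoids. (The published statement is an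
equivalence; this row states only that the inertia condition implies that `𝒳` is fibred in setoids.) -/
theorem result {C : Type u} [Category.{v} C] {𝒳 : BasedCategory.{v, max u v} C} (h𝒳 : FibCat.IsFibGrpd 𝒳.p)
    (h : FibCat.IsEquivOver (FibCat.inertiaToBase (FibCat.toSelf 𝒳))) : FibCat.IsFibSetoid 𝒳.p := by
  obtain ⟨⟨hfull, -⟩, -⟩ := (isEquivOver_iff _).1 h
  have key : ∀ (a : 𝒳.obj) (α : a ≅ a), 𝒳.p.IsHomLift (𝟙 (𝒳.p.obj a)) α.hom → α.hom = 𝟙 a := by
    intro a α hα
    let x : FibCat.InertiaObj (FibCat.toSelf 𝒳) := ⟨a, α, ((isHomLift_same_iff 𝒳.p _ _).1 hα)⟩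
    let y : FibCat.InertiaObj (FibCat.toSelf 𝒳) := ⟨a, Iso.refl a, 𝒳.p.map_id a⟩
    obtain ⟨m, hm⟩ := (FibCat.inertiaToBase (FibCat.toSelf 𝒳)).toFunctor.map_surjective (X := x) (Y := y) (𝟙 a)
    have hm' : m.hom = 𝟙 a := hm
    have := m.comm
    rw [hm'] at this
    exact (comp_id _).symm.trans (this.trans (id_comp _))
  refine ⟨h𝒳, fun U a b => ⟨fun φ ψ => ?_⟩⟩
  have hg := isGroupoid_fiber_of_isFibGrpd _ h𝒳 U
  have := hg.all_isIso φ
  have := hg.all_isIso ψ
  let e : a ≅ a := asIso φ ≪≫ (asIso ψ).symm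
  have he : e.hom = 𝟙 a := by
    apply Subtype.ext
    have hU : 𝒳.p.obj a.1 = U := a.2
    refine key a.1 (Fiber.fiberInclusion.mapIso e) ?_
    rw [hU]; exact e.hom.2
  calc φ = e.hom ≫ ψ := by simp [e]
    _ = ψ := by rw [he, id_comp]

end Groth.Agent.S6405
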