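import Groth.Statements.S6406
import Groth.Agent.L09.FibEquiv
import Mathlib.CategoryTheory.Discrete.Basic

set_option autoImplicit false
open CategoryTheory
universe v u
open FibCat

namespace Groth.Agent.S6406
open CategoryTheory Category Functor Groth.L09.Fib

/-- A category fibred in setoids over `C` admits an equivalence over `C` to a category fibred in sets
over `C`. (The target is taken in the same universes as the slices `C/U`; its morphism sets are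
essentially as small as those of `C`.) -/
theorem result {C : Type u} [Category.{v} C] {𝒳 : BasedCategory.{v, max u v} C} (h𝒳 : FibCat.IsFibSetoid 𝒳.p) :
    ∃ (𝒴 : BasedCategory.{v, max u v} C) (F : 𝒳 ⥤ᵇ 𝒴), FibCat.IsFibSet 𝒴.p ∧ FibCat.IsEquivOver F := by
  let r : Setoid 𝒳.obj :=
    { r := fun a b => ∃ e : a ≅ b, 𝒳.p.IsHomLift (𝟙 (𝒳.p.obj a)) e.hom
      iseqv := ⟨fun a => ⟨Iso.refl a, inferInstanceAs (𝒳.p.IsHomLift (𝟙 (𝒳.p.obj a)) (𝟙 a))⟩,
        fun {a b} ⟨e, he⟩ => by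
          refine ⟨e.symm, ?_⟩
          have hb : 𝒳.p.obj b = 𝒳.p.obj a := IsHomLift.codomain_eq 𝒳.p (𝟙 (𝒳.p.obj a)) e.hom
          rw [hb]
          exact IsHomLift.lift_id_inv 𝒳.p (𝒳.p.obj a) e,
        fun {a b c} ⟨e, he⟩ ⟨e', he'⟩ => by
          refine ⟨e ≪≫ e', ?_⟩
          have hb : 𝒳.p.obj b = 𝒳.p.obj a := IsHomLift.codomain_eq 𝒳.p (𝟙 (𝒳.p.obj a)) e.hom
          rw [hb] at he'
          show 𝒳.p.IsHomLift (𝟙 (𝒳.p.obj a)) (e.hom ≫ e'.hom)
          infer_instance⟩ }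
  let P : ObjectProperty 𝒳.obj := fun x => (Quotient.mk r x).out = x
  let 𝒴 : BasedCategory.{v, max u v} C := .ofFunctor (P.ι ⋙ 𝒳.p)
  let ι : 𝒴 ⥤ᵇ 𝒳 := { toFunctor := P.ι, w := rfl }
  have hF : ι.toFunctor.Full := inferInstanceAs P.ι.Full
  have hFa : ι.toFunctor.Faithful := inferInstanceAs P.ι.Faithful
  have hι : FibCat.IsEquivOver ι := by
    refine isEquivOver_mk ι fun x => ?_
    obtain ⟨e, he⟩ := Quotient.exact (Quotient.out_eq (Quotient.mk r x))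
    have hx : 𝒳.p.obj x = 𝒳.p.obj (Quotient.mk r x).out := IsHomLift.codomain_eq 𝒳.p (𝟙 _) e.hom
    refine ⟨⟨(Quotient.mk r x).out, congrArg Quotient.out (Quotient.out_eq _)⟩, e, ?_⟩
    rw [hx]
    exact he
  obtain ⟨F, hF'⟩ := isEquivOver_symm hι
  refine ⟨𝒴, F, ⟨(isFibGrpd_iff_of_isEquivOver hι).2 h𝒳.1, fun U => ?_⟩, hF'⟩
  have hl : ∀ {a b : 𝒴.p.Fiber U} (f : a ⟶ b), 𝒳.p.IsHomLift (𝟙 U) f.1.hom := fun {a b} f =>
    (BasedFunctor.isHomLift_iff ι (𝟙 U) f.1).2 f.2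
  refine { subsingleton := fun a b => ⟨fun f g => ?_⟩, eq_of_hom := fun {a b} f => ?_ }
  · let a' : 𝒳.p.Fiber U := ⟨a.1.obj, a.2⟩
    let b' : 𝒳.p.Fiber U := ⟨b.1.obj, b.2⟩
    let f' : a' ⟶ b' := ⟨f.1.hom, hl f⟩
    let g' : a' ⟶ b' := ⟨g.1.hom, hl g⟩
    exact Fiber.hom_ext (ObjectProperty.hom_ext _ (congrArg Subtype.val ((h𝒳.2 U a' b').elim f' g')))
  · have := hl f
    have := isIso_of_isFibGrpd _ h𝒳.1 (𝟙 U) f.1.hom
    have ha : 𝒳.p.obj a.1.obj = U := a.2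
    have hr : r.r a.1.obj b.1.obj := ⟨asIso f.1.hom, by rw [ha]; exact hl f⟩
    exact Subtype.ext (ObjectProperty.FullSubcategory.ext
      (a.1.property.symm.trans ((congrArg Quotient.out (Quotient.sound hr)).trans b.1.property)))

end Groth.Agent.S6406
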