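import Groth.Statements.S6407
import Groth.Agent.L09.FibYoneda
import Groth.Agent.L09.FibMisc
import Groth.Agent.L09.FibInertia

set_option autoImplicit false
open CategoryTheory
universe v u
open FibCat

namespace Groth.Agent.S6407
open CategoryTheory Category Limits Functor
open Groth.L09.Fib

/-- For categories `𝒳, 𝒴` fibred in setoids over `C` and functors `f, g : 𝒳 ⟶ 𝒴` over `C` that agree on
isomorphism classes of objects of each fibre category, there is a unique 2-isomorphism `f ≅ g` over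
`C`. -/
theorem result {C : Type u} [Category.{v} C] {𝒳 𝒴 : BasedCategory.{v, max u v} C} (h𝒳 : FibCat.IsFibSetoid 𝒳.p) (h𝒴 : FibCat.IsFibSetoid 𝒴.p) (f g : 𝒳 ⥤ᵇ 𝒴)
    (hfg : ∀ (U : C) (x : 𝒳.p.Fiber U), Nonempty ((FibCat.fiberFunctor f U).obj x ≅ (FibCat.fiberFunctor g U).obj x)) :
    Nonempty (Unique (f ≅ g)) := by
  let c : ∀ x : 𝒳.obj, f.obj x ≅ g.obj x := fun x =>
    Fiber.fiberInclusion.mapIso (hfg (𝒳.p.obj x) (Fiber.mk rfl)).some
  have hc : ∀ x, 𝒴.p.IsHomLift (𝟙 (𝒳.p.obj x)) (c x).hom := fun x => (hfg (𝒳.p.obj x) (Fiber.mk rfl)).some.hom.2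
  have nat : ∀ {x y : 𝒳.obj} (m : x ⟶ y), f.map m ≫ (c y).hom = (c x).hom ≫ g.map m := fun {x y} m => by
    have := hc x; have := hc y
    exact setoid_ext h𝒴 (𝒳.p.map m)
  refine ⟨⟨⟨BasedNatIso.mkNatIso (NatIso.ofComponents c nat) hc⟩, fun β => ?_⟩⟩
  refine Iso.ext (BasedNatTrans.homCategory.ext _ _ ?_)
  ext x
  have := hc x
  have := β.hom.isHomLift' x
  exact setoid_ext h𝒴 (𝟙 (𝒳.p.obj x))

end Groth.Agent.S6407
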