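import Groth.Statements.S6408
import Groth.Agent.L09.FibInertia
import Groth.Agent.L09.FibOp
import Mathlib.CategoryTheory.Limits.Shapes.Pullback.IsPullback.Basic
import Mathlib.CategoryTheory.Groupoid

set_option autoImplicit false
open CategoryTheory
universe v u
open FibCat

namespace Groth.Agent.S6408
open CategoryTheory Category Limits Functor
open Groth.L09.Fib

/-- Between categories fibred in sets over `C` the only 2-morphisms over `C` are identities. -/
theorem result {C : Type u} [Category.{v} C] {𝒳 𝒴 : BasedCategory.{v, max u v} C} (h𝒳 : FibCat.IsFibSet 𝒳.p) (h𝒴 : FibCat.IsFibSet 𝒴.p) {F G : 𝒳 ⥤ᵇ 𝒴} (α : F ⟶ G) :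
    ∃ h : F = G, α = eqToHom h := by
  have hobj : ∀ x, (⟨F.obj x, α.toNatTrans.app x⟩ : Σ ξ, (ξ ⟶ G.obj x)) = ⟨G.obj x, 𝟙 _⟩ := fun x =>
    ((isFibSet_iff 𝒴.p).1 h𝒴 (G.obj x) _ (𝟙 _)).unique
      (BasedNatTrans.isHomLift α (G.w_obj x).symm) (IsHomLift.id rfl)
  have hF : F = G := by
    rcases F with ⟨F, wF⟩
    rcases G with ⟨G, wG⟩
    have : F = G := CategoryTheory.Functor.ext (fun x => congrArg Sigma.fst (hobj x)) (fun x y f => fibSet_eq_of_map_eq 𝒴.p h𝒴 (by
      have e1 := Functor.congr_hom wF f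
      have e2 := Functor.congr_hom wG f
      simp only [Functor.comp_map] at e1 e2
      rw [e1, Functor.map_comp, Functor.map_comp, e2, eqToHom_map, eqToHom_map]
      simp))
    subst this; rfl
  subst hF
  refine ⟨rfl, BasedNatTrans.homCategory.ext _ _ ?_⟩
  ext x
  exact eq_of_heq (Sigma.mk.inj_iff.1 (hobj x)).2

end Groth.Agent.S6408
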