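import Groth.Statements.S6412
import Groth.Agent.L09.FibDiag
import Mathlib.CategoryTheory.Limits.Shapes.BinaryProducts

set_option autoImplicit false
open CategoryTheory CategoryTheory.Limits
universe v u
open FibCat

namespace Groth.Agent.S6412
open CategoryTheory CategoryTheory.Limits Category Functor Groth.L09.Fib

/-- For `C` with binary products and fibre products and `𝒮` fibred in groupoids over `C`, the diagonal
`𝒮 ⟶ 𝒮 ×_C 𝒮` is representable if and only if every functor `C/U ⟶ 𝒮` over `C` is representable.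
(Representability of each base change to a slice `C/V` is taken as a category over `C`; for
categories fibred in groupoids this agrees with representability over `C/V`.) -/
theorem result {C : Type u} [Category.{v} C] [HasBinaryProducts C] [HasPullbacks C] {𝒮 : BasedCategory.{v, max u v} C} (h𝒮 : FibCat.IsFibGrpd 𝒮.p) :
    FibCat.IsRepresentable1 (FibCat.diag (FibCat.toSelf 𝒮)) ↔ ∀ (U : C) (G : FibCat.overCat U ⥤ᵇ 𝒮), FibCat.IsRepresentable1 G := by
  have hSS : FibCat.IsFibGrpd (FibCat.fp (FibCat.toSelf 𝒮) (FibCat.toSelf 𝒮)).p :=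
    fp_isFibGrpd h𝒮 h𝒮 (isFibSet_id C).1
  have hfp : ∀ {U U' : C} (G' : FibCat.overCat U' ⥤ᵇ 𝒮) (G : FibCat.overCat U ⥤ᵇ 𝒮),
      FibCat.IsFibGrpd (FibCat.fp G' G).p := fun G' G => fp_isFibGrpd (isFibGrpd_overCat _) (isFibGrpd_overCat _) h𝒮
  constructor
  · intro h U G U' G'
    refine (isRepresentable_iff (hfp G' G)).2 ?_
    let P := U' ⨯ U
    let A := BasedFunctor.comp (Groth.L09.FibDiag.overComp (prod.fst : P ⟶ U')) G'
    let B := BasedFunctor.comp (Groth.L09.FibDiag.overComp (prod.snd : P ⟶ U)) G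
    let e : BasedFunctor.comp A (FibCat.toSelf 𝒮) ≅ BasedFunctor.comp B (FibCat.toSelf 𝒮) :=
      BasedNatIso.mkNatIso (NatIso.ofComponents (fun a => eqToIso ((A.w_obj a).trans (B.w_obj a).symm))
        (fun {a b} m => by
          have h1 := Functor.congr_hom A.w m
          have h2 := Functor.congr_hom B.w m
          simp only [Functor.comp_map] at h1 h2
          show 𝒮.p.map (A.map m) ≫ _ = _ ≫ 𝒮.p.map (B.map m)
          rw [h1, h2]
          simp only [assoc, eqToIso.hom]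
          erw [eqToHom_trans, eqToHom_trans_assoc]))
        (fun a => IsHomLift.of_fac' _ _ _ (A.w_obj a) (B.w_obj a) (by simp [FibCat.toSelf]; rfl))
    let H := FibCat.fpLift A B e
    have : HasTerminal (FibCat.fp H (FibCat.diag (FibCat.toSelf 𝒮))).obj := hasTerminal_of_isRepresentable (h P H)
    let t := ⊤_ (FibCat.fp H (FibCat.diag (FibCat.toSelf 𝒮))).obj
    have ht := fp_iso_lift t (U := t.obj.fst.left) rfl
    have htf : 𝒮.p.IsHomLift (𝟙 t.obj.fst.left) t.obj.iso.hom.hom.fst := (fp_isHomLift_iff _ _).1 ht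
    have hts : 𝒮.p.IsHomLift (𝟙 t.obj.fst.left) t.obj.iso.hom.hom.snd := fp_snd_lift _ _ ht
    let αt : A.obj t.obj.fst ≅ t.obj.snd :=
      ⟨t.obj.iso.hom.hom.fst, t.obj.iso.inv.hom.fst, congrArg (fun k => k.hom.fst) t.obj.iso.hom_inv_id,
        congrArg (fun k => k.hom.fst) t.obj.iso.inv_hom_id⟩
    let βt : B.obj t.obj.fst ≅ t.obj.snd :=
      ⟨t.obj.iso.hom.hom.snd, t.obj.iso.inv.hom.snd, congrArg (fun k => k.hom.snd) t.obj.iso.hom_inv_id,
        congrArg (fun k => k.hom.snd) t.obj.iso.inv_hom_id⟩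
    have : 𝒮.p.IsHomLift (𝟙 t.obj.fst.left) αt.hom := htf
    have : 𝒮.p.IsHomLift (𝟙 t.obj.fst.left) βt.hom := hts
    let T₀ : (FibCat.fp G' G).obj :=
      ⟨⟨(Groth.L09.FibDiag.overComp (prod.fst : P ⟶ U')).obj t.obj.fst, (Groth.L09.FibDiag.overComp (prod.snd : P ⟶ U)).obj t.obj.fst,
        αt ≪≫ βt.symm⟩, (show 𝒮.p.IsHomLift (𝟙 t.obj.fst.left) (αt.hom ≫ βt.inv) from
          have := IsHomLift.lift_id_inv 𝒮.p t.obj.fst.left βt; inferInstance)⟩
    refine IsTerminal.hasTerminal (X := T₀) ?_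
    have key : ∀ x : (FibCat.fp G' G).obj, ∃! g : x ⟶ T₀, True := fun x => by
      let a : Over U' := x.obj.fst
      let b : Over U := x.obj.snd
      have hb : b.left = a.left := fp_snd_obj x
      let c : Over P := Over.mk (prod.lift a.hom (eqToHom hb.symm ≫ b.hom))
      let i : (Groth.L09.FibDiag.overComp (prod.fst : P ⟶ U')).obj c ≅ a :=
        Over.isoMk (Iso.refl _) (show 𝟙 a.left ≫ a.hom = prod.lift a.hom (eqToHom hb.symm ≫ b.hom) ≫ prod.fst from (id_comp _).trans (prod.lift_fst _ _).symm)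
      let j : (Groth.L09.FibDiag.overComp (prod.snd : P ⟶ U)).obj c ≅ b :=
        Over.isoMk (eqToIso hb.symm) (show eqToHom hb.symm ≫ b.hom = prod.lift a.hom (eqToHom hb.symm ≫ b.hom) ≫ prod.snd from (prod.lift_snd _ _).symm)
      have hx : 𝒮.p.IsHomLift (𝟙 a.left) x.obj.iso.hom := fp_iso_lift x rfl
      have hi : 𝒮.p.IsHomLift (𝟙 a.left) (G'.map i.hom) := by
        rw [BasedFunctor.isHomLift_iff]
        exact IsHomLift.of_fac' _ _ _ rfl rfl (by simp [i]; rfl)
      have hj : 𝒮.p.IsHomLift (𝟙 a.left) (G.map j.hom) := by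
        rw [BasedFunctor.isHomLift_iff]
        exact IsHomLift.of_fac' _ _ _ rfl hb (by simp [j]; rfl)
      let αc : A.obj c ≅ G.obj b := G'.toFunctor.mapIso i ≪≫ x.obj.iso
      let βc : B.obj c ≅ G.obj b := G.toFunctor.mapIso j
      have hαc : 𝒮.p.IsHomLift (𝟙 c.left) αc.hom :=
        (inferInstance : 𝒮.p.IsHomLift (𝟙 a.left) (G'.map i.hom ≫ x.obj.iso.hom))
      have hβc : 𝒮.p.IsHomLift (𝟙 c.left) βc.hom := hj
      let ic : H.obj c ≅ (FibCat.diag (FibCat.toSelf 𝒮)).obj (G.obj b) :=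
        ObjectProperty.isoMk _ (CategoricalPullback.mkIso αc βc (@Groth.L09.FibDiag.fp_self_w _ _ _ (H.obj c) ((FibCat.diag (FibCat.toSelf 𝒮)).obj (G.obj b)) c.left αc.hom βc.hom hαc hβc))
      let X : (FibCat.fp H (FibCat.diag (FibCat.toSelf 𝒮))).obj :=
        ⟨⟨c, G.obj b, ic⟩, (fp_isHomLift_iff _ _).2 hαc⟩
      let m : X ⟶ t := terminal.from X
      let m₁ : c ⟶ t.obj.fst := m.hom.fst
      have w1 : A.map m₁ ≫ αt.hom = αc.hom ≫ m.hom.snd := congrArg (fun k => k.hom.fst) m.hom.w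
      have w2 : B.map m₁ ≫ βt.hom = βc.hom ≫ m.hom.snd := congrArg (fun k => k.hom.snd) m.hom.w
      have w3 : G'.map (i.inv ≫ (Groth.L09.FibDiag.overComp (prod.fst : P ⟶ U')).map m₁) ≫ (αt ≪≫ βt.symm).hom =
          x.obj.iso.hom ≫ G.map (j.inv ≫ (Groth.L09.FibDiag.overComp (prod.snd : P ⟶ U)).map m₁) := by
        have := Groth.L09.FibDiag.diag_compat αc βc αt βt (A.map m₁) (B.map m₁) m.hom.snd w1 w2
        rw [G'.toFunctor.map_comp, G.toFunctor.map_comp, assoc]
        refine (congrArg (G'.map i.inv ≫ ·) this).trans ?_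
        simp [αc, βc, B]
        exact (G'.toFunctor.mapIso i).inv_hom_id_assoc _
      refine ⟨ObjectProperty.homMk ⟨i.inv ≫ (Groth.L09.FibDiag.overComp (prod.fst : P ⟶ U')).map m₁,
        j.inv ≫ (Groth.L09.FibDiag.overComp (prod.snd : P ⟶ U)).map m₁, w3⟩, trivial, fun g _ => ?_⟩
      have g1 : g.hom.fst.left ≫ t.obj.fst.hom ≫ prod.fst = a.hom := Over.w g.hom.fst
      have g2 : g.hom.snd.left ≫ t.obj.fst.hom ≫ prod.snd = b.hom := Over.w g.hom.snd
      have g3 : g.hom.snd.left = eqToHom hb ≫ g.hom.fst.left := by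
        refine (Groth.L09.FibDiag.snd_left g).trans ?_
        congr 1
        exact comp_id g.hom.fst.left
      let h₁ : c ⟶ t.obj.fst := Over.homMk g.hom.fst.left (by
        apply prod.hom_ext
        · simp only [c, Over.mk_hom, prod.lift_fst, assoc]; exact g1
        · simp only [c, Over.mk_hom, prod.lift_snd, assoc]
          rw [g3] at g2
          rw [← g2]
          exact ((congrArg (eqToHom hb.symm ≫ ·) (assoc _ _ _)).trans (Groth.L09.FibDiag.eh hb _)).symm)
      have eq1 : (Groth.L09.FibDiag.overComp (prod.fst : P ⟶ U')).map h₁ = i.hom ≫ g.hom.fst :=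
        Over.OverMorphism.ext (id_comp g.hom.fst.left).symm
      have eq2 : (Groth.L09.FibDiag.overComp (prod.snd : P ⟶ U)).map h₁ = j.hom ≫ g.hom.snd :=
        Over.OverMorphism.ext (by
          show g.hom.fst.left = eqToHom hb.symm ≫ g.hom.snd.left
          rw [g3]
          exact (Groth.L09.FibDiag.eh hb _).symm)
      let k : G.obj b ⟶ t.obj.snd := G.map g.hom.snd ≫ βt.hom
      have gw : G'.map g.hom.fst ≫ αt.hom ≫ βt.inv = x.obj.iso.hom ≫ G.map g.hom.snd := g.hom.w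
      have x2 : B.map h₁ ≫ βt.hom = βc.hom ≫ k := by
        show G.map ((Groth.L09.FibDiag.overComp (prod.snd : P ⟶ U)).map h₁) ≫ _ = _
        rw [eq2, G.toFunctor.map_comp]
        simp [k, βc]
        rfl
      have x1 : A.map h₁ ≫ αt.hom = αc.hom ≫ k := by
        show G'.map ((Groth.L09.FibDiag.overComp (prod.fst : P ⟶ U')).map h₁) ≫ _ = _
        have gw' : G'.map g.hom.fst ≫ αt.hom = x.obj.iso.hom ≫ G.map g.hom.snd ≫ βt.hom := by
          rw [← assoc x.obj.iso.hom, ← gw]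
          exact ((assoc _ _ _).trans (congrArg (G'.map g.hom.fst ≫ ·) ((assoc _ _ _).trans ((congrArg (αt.hom ≫ ·) βt.inv_hom_id).trans (comp_id _))))).symm
        rw [eq1, G'.toFunctor.map_comp, assoc]
        refine (congrArg (G'.map i.hom ≫ ·) gw').trans ?_
        simp [αc, k]
        rfl
      let M : X ⟶ t := ObjectProperty.homMk ⟨h₁, k,
        ObjectProperty.hom_ext _ (CategoricalPullback.hom_ext x1 x2)⟩
      have hm : h₁ = m₁ := congrArg (fun q : X ⟶ t => q.hom.fst) (terminal.hom_ext M m)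
      refine ObjectProperty.hom_ext _ (CategoricalPullback.hom_ext ?_ ?_)
      · show g.hom.fst = i.inv ≫ _
        rw [← hm, eq1, Iso.inv_hom_id_assoc]
      · show g.hom.snd = j.inv ≫ _
        rw [← hm, eq2, Iso.inv_hom_id_assoc]
    exact IsTerminal.ofUniqueHom (fun x => (key x).exists.choose) (fun x g => (key x).unique trivial trivial)
  · intro h U H
    have hHD : FibCat.IsFibGrpd (FibCat.fp H (FibCat.diag (FibCat.toSelf 𝒮))).p :=
      fp_isFibGrpd (isFibGrpd_overCat U) h𝒮 hSS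
    refine (isRepresentable_iff hHD).2 ?_
    let A := BasedFunctor.comp H (FibCat.fpFst (FibCat.toSelf 𝒮) (FibCat.toSelf 𝒮))
    let B := BasedFunctor.comp H (FibCat.fpSnd (FibCat.toSelf 𝒮) (FibCat.toSelf 𝒮))
    have : HasTerminal (FibCat.fp A B).obj := hasTerminal_of_isRepresentable (h U B U A)
    let t := ⊤_ (FibCat.fp A B).obj
    let a₀ : Over U := t.obj.fst
    let b₀ : Over U := t.obj.snd
    have hb₀ : b₀.left = a₀.left := fp_snd_obj t
    let q := pullback.snd (prod.lift a₀.hom (eqToHom hb₀.symm ≫ b₀.hom)) (prod.lift (𝟙 U) (𝟙 U))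
    let ε := pullback.fst (prod.lift a₀.hom (eqToHom hb₀.symm ≫ b₀.hom)) (prod.lift (𝟙 U) (𝟙 U))
    have c1 : ε ≫ a₀.hom = q := by
      have := congrArg (· ≫ prod.fst) (pullback.condition (f := prod.lift a₀.hom (eqToHom hb₀.symm ≫ b₀.hom)) (g := prod.lift (𝟙 U) (𝟙 U)))
      simp only [assoc] at this
      rw [prod.lift_fst, prod.lift_fst] at this
      exact this.trans (comp_id _)
    have c2 : (ε ≫ eqToHom hb₀.symm) ≫ b₀.hom = q := by
      have := congrArg (· ≫ prod.snd) (pullback.condition (f := prod.lift a₀.hom (eqToHom hb₀.symm ≫ b₀.hom)) (g := prod.lift (𝟙 U) (𝟙 U)))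
      simp only [assoc] at this
      rw [prod.lift_snd, prod.lift_snd] at this
      exact ((assoc _ _ _).trans this).trans (comp_id _)
    let d : Over U := Over.mk q
    let u₁ : d ⟶ a₀ := Over.homMk ε c1
    let u₂ : d ⟶ b₀ := Over.homMk (ε ≫ eqToHom hb₀.symm) c2
    have hd : ∀ z : Over U, 𝒮.p.obj (A.obj z) = z.left ∧ 𝒮.p.obj (B.obj z) = z.left := fun z => ⟨A.w_obj z, B.w_obj z⟩
    have ht := fp_iso_lift t (U := a₀.left) rfl
    have hu₁ : 𝒮.p.IsHomLift ε (A.map u₁) := by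
      rw [BasedFunctor.isHomLift_iff]; exact IsHomLift.map (FibCat.overCat U).p u₁
    have hu₂ : 𝒮.p.IsHomLift ε (B.map u₂) := by
      rw [BasedFunctor.isHomLift_iff]; exact IsHomLift.of_fac' _ _ _ rfl hb₀ (show ε ≫ eqToHom hb₀.symm = 𝟙 _ ≫ ε ≫ eqToHom hb₀.symm from (id_comp _).symm)
    have := stronglyCartesian_of_isFibGrpd _ h𝒮 ε (B.map u₂)
    have hc : 𝒮.p.IsHomLift ε (A.map u₁ ≫ t.obj.iso.hom) := inferInstance
    let ψ : A.obj d ⟶ B.obj d := IsCartesian.map 𝒮.p ε (B.map u₂) (A.map u₁ ≫ t.obj.iso.hom)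
    have ψfac : ψ ≫ B.map u₂ = A.map u₁ ≫ t.obj.iso.hom := IsCartesian.fac 𝒮.p ε (B.map u₂) _
    have hψ : 𝒮.p.IsHomLift (𝟙 d.left) ψ := IsCartesian.map_isHomLift 𝒮.p ε (B.map u₂) _
    have : IsIso ψ := isIso_of_isFibGrpd _ h𝒮 (𝟙 d.left) ψ
    let ψi : A.obj d ≅ B.obj d := asIso ψ
    have hinv : 𝒮.p.IsHomLift (𝟙 d.left) ψi.inv := IsHomLift.lift_id_inv_isIso 𝒮.p d.left ψ
    have hid : 𝒮.p.IsHomLift (𝟙 d.left) (𝟙 (A.obj d)) := IsHomLift.id (hd d).1
    let iT : H.obj d ≅ (FibCat.diag (FibCat.toSelf 𝒮)).obj (A.obj d) :=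
      ObjectProperty.isoMk _ (CategoricalPullback.mkIso (Iso.refl _) ψi.symm (@Groth.L09.FibDiag.fp_self_w _ _ _ (H.obj d) ((FibCat.diag (FibCat.toSelf 𝒮)).obj (A.obj d)) d.left (𝟙 _) ψi.inv hid hinv))
    let T₁ : (FibCat.fp H (FibCat.diag (FibCat.toSelf 𝒮))).obj :=
      ⟨⟨d, A.obj d, iT⟩, (fp_isHomLift_iff _ _).2 hid⟩
    refine IsTerminal.hasTerminal (X := T₁) ?_
    have key : ∀ x : (FibCat.fp H (FibCat.diag (FibCat.toSelf 𝒮))).obj, ∃! g : x ⟶ T₁, True := fun x => by
      let a : Over U := x.obj.fst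
      have hxl := fp_iso_lift x (U := a.left) rfl
      have : 𝒮.p.IsHomLift (𝟙 a.left) x.obj.iso.hom.hom.fst := (fp_isHomLift_iff _ _).1 hxl
      have : 𝒮.p.IsHomLift (𝟙 a.left) x.obj.iso.hom.hom.snd := fp_snd_lift _ _ hxl
      let αx : A.obj a ≅ x.obj.snd :=
        ⟨x.obj.iso.hom.hom.fst, x.obj.iso.inv.hom.fst, congrArg (fun k => k.hom.fst) x.obj.iso.hom_inv_id,
          congrArg (fun k => k.hom.fst) x.obj.iso.inv_hom_id⟩
      let βx : B.obj a ≅ x.obj.snd :=
        ⟨x.obj.iso.hom.hom.snd, x.obj.iso.inv.hom.snd, congrArg (fun k => k.hom.snd) x.obj.iso.hom_inv_id,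
          congrArg (fun k => k.hom.snd) x.obj.iso.inv_hom_id⟩
      have : 𝒮.p.IsHomLift (𝟙 a.left) αx.hom := ‹_›
      have : 𝒮.p.IsHomLift (𝟙 a.left) βx.hom := ‹_›
      let Z : (FibCat.fp A B).obj :=
        ⟨⟨a, a, αx ≪≫ βx.symm⟩, (show 𝒮.p.IsHomLift (𝟙 a.left) (αx.hom ≫ βx.inv) from
          have := IsHomLift.lift_id_inv 𝒮.p a.left βx; inferInstance)⟩
      let g : Z ⟶ t := terminal.from Z
      have g3 : g.hom.snd.left = g.hom.fst.left ≫ eqToHom hb₀.symm := by
        refine (Groth.L09.FibDiag.snd_left g).trans ?_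
        exact id_comp _
      have gc : g.hom.fst.left ≫ prod.lift a₀.hom (eqToHom hb₀.symm ≫ b₀.hom) = a.hom ≫ prod.lift (𝟙 U) (𝟙 U) := by
        apply prod.hom_ext
        · simp only [assoc, prod.lift_fst, comp_id]; exact Over.w g.hom.fst
        · simp only [assoc, prod.lift_snd, comp_id]
          rw [← assoc, ← g3]; exact Over.w g.hom.snd
      let l : a ⟶ d := Over.homMk (pullback.lift g.hom.fst.left a.hom gc) (pullback.lift_snd _ _ _)
      have l1 : g.hom.fst = l ≫ u₁ := Over.OverMorphism.ext (pullback.lift_fst _ _ _).symm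
      have l2 : g.hom.snd = l ≫ u₂ := Over.OverMorphism.ext (g3.trans (by
        show _ = l.left ≫ ε ≫ _
        rw [← assoc, show l.left ≫ ε = g.hom.fst.left from pullback.lift_fst _ _ _]))
      have gw : A.map g.hom.fst ≫ t.obj.iso.hom = (αx.hom ≫ βx.inv) ≫ B.map g.hom.snd := g.hom.w
      have gw1 : (A.map l ≫ A.map u₁) ≫ t.obj.iso.hom = (αx.hom ≫ βx.inv) ≫ B.map l ≫ B.map u₂ := by
        rw [l1, l2] at gw
        exact ((congrArg (· ≫ t.obj.iso.hom) (A.toFunctor.map_comp l u₁).symm).trans gw).trans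
          (congrArg ((αx.hom ≫ βx.inv) ≫ ·) (B.toFunctor.map_comp l u₂))
      rw [assoc (A.map l), ← ψfac] at gw1
      have : 𝒮.p.IsHomLift l.left (A.map l) := by rw [BasedFunctor.isHomLift_iff]; exact IsHomLift.map (FibCat.overCat U).p l
      have : 𝒮.p.IsHomLift l.left (B.map l) := by rw [BasedFunctor.isHomLift_iff]; exact IsHomLift.map (FibCat.overCat U).p l
      have := IsHomLift.lift_id_inv 𝒮.p a.left βx
      have hab : 𝒮.p.IsHomLift (𝟙 a.left) (αx.hom ≫ βx.inv) := inferInstance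
      have : 𝒮.p.IsHomLift (𝟙 a.left ≫ l.left) ((αx.hom ≫ βx.inv) ≫ B.map l) :=
        IsHomLift.comp (p := 𝒮.p) (𝟙 a.left) l.left (αx.hom ≫ βx.inv) (B.map l)
      rw [id_comp] at this
      have h2' : 𝒮.p.IsHomLift l.left ((αx.hom ≫ βx.inv) ≫ B.map l) := this
      have key' : A.map l ≫ ψ = (αx.hom ≫ βx.inv) ≫ B.map l := by
        apply IsStronglyCartesian.ext 𝒮.p ε (B.map u₂) l.left
        rw [assoc, assoc]
        exact gw1
      let k : x.obj.snd ⟶ A.obj d := αx.inv ≫ A.map l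
      have w2 : B.map l ≫ CategoryTheory.inv ψ = βx.hom ≫ k := by
        rw [IsIso.comp_inv_eq]
        simp only [k, assoc]
        rw [key']
        simp
      refine ⟨ObjectProperty.homMk ⟨l, k, ObjectProperty.hom_ext _ (CategoricalPullback.hom_ext ?_ w2)⟩, trivial, fun g' _ => ?_⟩
      · show A.map l ≫ 𝟙 _ = αx.hom ≫ k
        simp [k]
      have v1 : A.map g'.hom.fst = αx.hom ≫ g'.hom.snd := (comp_id _).symm.trans (congrArg (fun k => k.hom.fst) g'.hom.w)
      have v2 : B.map g'.hom.fst ≫ CategoryTheory.inv ψ = βx.hom ≫ g'.hom.snd := congrArg (fun k => k.hom.snd) g'.hom.w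
      let M : Z ⟶ t := ObjectProperty.homMk ⟨g'.hom.fst ≫ u₁, g'.hom.fst ≫ u₂, by
        show A.map (g'.hom.fst ≫ u₁) ≫ t.obj.iso.hom = (αx.hom ≫ βx.inv) ≫ B.map (g'.hom.fst ≫ u₂)
        rw [A.toFunctor.map_comp, B.toFunctor.map_comp, assoc, ← ψfac, ← assoc, ← assoc (αx.hom ≫ βx.inv)]
        congr 1
        rw [IsIso.comp_inv_eq] at v2
        rw [v1, v2]
        simp⟩
      have e := congrArg (fun q : Z ⟶ t => q.hom.fst) (terminal.hom_ext M g)
      have e1 : g'.hom.fst = l := by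
        apply Over.OverMorphism.ext
        apply pullback.hom_ext
        · exact (congrArg CommaMorphism.left e).trans (pullback.lift_fst _ _ _).symm
        · exact (Over.w g'.hom.fst).trans (pullback.lift_snd _ _ _).symm
      refine ObjectProperty.hom_ext _ (CategoricalPullback.hom_ext e1 ?_)
      show g'.hom.snd = αx.inv ≫ A.map l
      rw [← e1, v1, Iso.inv_hom_id_assoc]
    exact IsTerminal.ofUniqueHom (fun x => (key x).exists.choose) (fun x g => (key x).unique trivial trivial)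

end Groth.Agent.S6412
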