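import Groth.Statements.S6417
import Groth.Agent.L09.FibInertia
import Groth.Agent.L09.FibOp
import Mathlib.CategoryTheory.Limits.Shapes.Pullback.IsPullback.Basic
import Mathlib.CategoryTheory.Groupoid

set_option autoImplicit false
open CategoryTheory CategoryTheory.Limits
universe v₁ u₁ v₂ u₂
open FibCat

namespace Groth.Agent.S6417
open CategoryTheory Category Limits Functor
open Groth.L09.Fib

/-- For `p : 𝒮 ⥤ C`, a strongly cartesian `φ : x ⟶ y`, any `ψ : z ⟶ y`, and a strongly cartesian `a : w
⟶ z` lying over the second projection of `p x ×_{p y} p z`, the object `w` is a fibre product `x ×_y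
z`: there is `b : w ⟶ x` over the first projection with `(b, a)` a pullback square. -/
theorem result {𝒮 : Type u₁} [Category.{v₁} 𝒮] {C : Type u₂} [Category.{v₂} C] (p : 𝒮 ⥤ C) {x y z w : 𝒮} (φ : x ⟶ y) (ψ : z ⟶ y)
    [p.IsStronglyCartesian (p.map φ) φ] [HasPullback (p.map φ) (p.map ψ)] (a : w ⟶ z)
    [p.IsStronglyCartesian (pullback.snd (p.map φ) (p.map ψ)) a] :
    ∃ b : w ⟶ x, p.IsHomLift (pullback.fst (p.map φ) (p.map ψ)) b ∧ IsPullback b a φ ψ := by
  have : p.IsHomLift (pullback.fst (p.map φ) (p.map ψ) ≫ p.map φ) (a ≫ ψ) := by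
    rw [pullback.condition]; infer_instance
  let b := IsStronglyCartesian.map p (p.map φ) φ (g := pullback.fst (p.map φ) (p.map ψ)) rfl (a ≫ ψ)
  refine ⟨b, inferInstance, ⟨⟨IsStronglyCartesian.fac p (p.map φ) φ rfl (a ≫ ψ)⟩,
    ⟨PullbackCone.IsLimit.mk _
      (fun s => IsStronglyCartesian.map p (pullback.snd (p.map φ) (p.map ψ)) a
        (g := pullback.lift (p.map s.fst) (p.map s.snd) (by rw [← p.map_comp, ← p.map_comp, s.condition]))
        (f' := p.map s.snd) (pullback.lift_snd _ _ _).symm s.snd) ?_ ?_ ?_⟩⟩⟩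
  · intro s
    have hw : p.map s.fst ≫ p.map φ = p.map s.snd ≫ p.map ψ := by rw [← p.map_comp, ← p.map_comp, s.condition]
    let m := IsStronglyCartesian.map p (pullback.snd (p.map φ) (p.map ψ)) a (g := pullback.lift _ _ hw)
      (f' := p.map s.snd) (pullback.lift_snd _ _ _).symm s.snd
    show m ≫ b = s.fst
    have : p.IsHomLift (p.map s.fst) (m ≫ b) := by
      have h : p.IsHomLift (pullback.lift _ _ hw ≫ pullback.fst (p.map φ) (p.map ψ)) (m ≫ b) := inferInstance
      rwa [pullback.lift_fst] at h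
    refine IsStronglyCartesian.ext p (p.map φ) φ (p.map s.fst) ?_
    rw [assoc, IsStronglyCartesian.fac, IsStronglyCartesian.fac_assoc, s.condition]
  · intro s
    exact IsStronglyCartesian.fac _ _ _ _ _
  · intro s m hm1 hm2
    have hw0 : p.obj w = pullback (p.map φ) (p.map ψ) := IsHomLift.domain_eq p (pullback.snd (p.map φ) (p.map ψ)) a
    have : p.IsHomLift (pullback.lift (p.map s.fst) (p.map s.snd) (by rw [← p.map_comp, ← p.map_comp, s.condition]) : p.obj s.pt ⟶ pullback (p.map φ) (p.map ψ)) m := by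
      have e : p.map m ≫ eqToHom hw0 = pullback.lift (p.map s.fst) (p.map s.snd) (by rw [← p.map_comp, ← p.map_comp, s.condition]) := by
        apply pullback.hom_ext
        · rw [pullback.lift_fst, ← hm1, Functor.map_comp, IsHomLift.fac' p (pullback.fst (p.map φ) (p.map ψ)) b]
          simp
        · rw [pullback.lift_snd, ← hm2, Functor.map_comp, IsHomLift.fac' p (pullback.snd (p.map φ) (p.map ψ)) a]
          simp
      rw [← e]; infer_instance
    exact IsStronglyCartesian.map_uniq p _ a _ _ m hm2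

end Groth.Agent.S6417
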