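import Groth.Statements.S6424
import Groth.Agent.L09.CatLimLib
import Groth.Prelude.Def_W4stkcategoriessitesEss
import Mathlib.CategoryTheory.ConnectedComponents
import Mathlib.CategoryTheory.Endofunctor.Algebra
import Mathlib.CategoryTheory.Limits.Types.Filtered
import Mathlib.CategoryTheory.Limits.Types.Products
import Mathlib.Algebra.Category.Grp.Colimits
import Mathlib.Algebra.Category.Grp.EpiMono
import Mathlib.CategoryTheory.Limits.Creates
import Mathlib.CategoryTheory.FiberedCategory.Fiber
import Mathlib.CategoryTheory.Abelian.SerreClass.Localization
import Mathlib.CategoryTheory.Limits.FunctorCategory.Basic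

set_option autoImplicit false
open CategoryTheory CategoryTheory.Limits
universe v u
open CatLim

namespace Groth.Agent.S6424
open CategoryTheory Category Functor Limits Opposite

/-- (2) ⇒ (1): a category with products of pairs and equalizers has all finite nonempty limits. -/
theorem result {C : Type u} [Category.{v} C] [HasBinaryProducts C] [HasEqualizers C]
    (J : Type) [SmallCategory J] [FinCategory J] [Nonempty J] : HasLimitsOfShape J C := by
  have := Groth.L09.CatLimLib.hasProductsOfShape (C := C) J
  have : Nonempty (Σ p : J × J, p.1 ⟶ p.2) := ⟨⟨(Classical.arbitrary J, Classical.arbitrary J), 𝟙 _⟩⟩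
  have := Groth.L09.CatLimLib.hasProductsOfShape (C := C) (Σ p : J × J, p.1 ⟶ p.2)
  exact ⟨fun F => hasLimit_of_equalizer_and_product F⟩

end Groth.Agent.S6424
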