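import Groth.Statements.S6425
import Groth.Agent.L09.CatLimLib
import Groth.Prelude.Def_W4stkcategoriessitesEss
import Mathlib.CategoryTheory.ConnectedComponents
import Mathlib.CategoryTheory.Endofunctor.Algebra
import Mathlib.CategoryTheory.Limits.Types.Filtered
import Mathlib.CategoryTheory.Limits.Types.Products
import Mathlib.Algebra.Category.Grp.Colimits
import Mathlib.Algebra.Category.Grp.EpiMono
import Mathlib.CategoryTheory.Limits.Creates
import Mathlib.CategoryTheory.FiberedCategory.Fiber
import Mathlib.CategoryTheory.Abelian.SerreClass.Localization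
import Mathlib.CategoryTheory.Limits.FunctorCategory.Basic

set_option autoImplicit false
open CategoryTheory CategoryTheory.Limits
universe v
open CatLim

namespace Groth.Agent.S6425
open CategoryTheory Category Functor Limits Opposite

/-- Over an index category in which any two objects map to a common object, the comparison map `colim (M
× N) → colim M × colim N` for diagrams of sets is surjective. -/
theorem result {I : Type v} [SmallCategory I]
    (hI : ∀ x y : I, ∃ (z : I) (_ : x ⟶ z) (_ : y ⟶ z), True) (M N : I ⥤ Type v) :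
    Function.Surjective (prodComparison (colim : (I ⥤ Type v) ⥤ Type v) M N) := by
  intro p
  obtain ⟨i, x, hx⟩ := Types.jointly_surjective' ((prod.fst : colim.obj M ⨯ colim.obj N ⟶ _) p)
  obtain ⟨j, y, hy⟩ := Types.jointly_surjective' ((prod.snd : colim.obj M ⨯ colim.obj N ⟶ _) p)
  obtain ⟨z, a, b, -⟩ := hI i j
  let l : coyoneda.obj (op z) ⟶ M ⨯ N :=
    prod.lift (coyonedaEquiv.symm (M.map a x)) (coyonedaEquiv.symm (N.map b y))
  refine ⟨colimit.ι (M ⨯ N) z (l.app z (𝟙 z)), ?_⟩
  apply (Types.binaryProductIso _ _).toEquiv.injective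
  apply Prod.ext
  · show ((Types.binaryProductIso (colim.obj M) (colim.obj N)).hom _).1 = ((Types.binaryProductIso _ _).hom p).1
    rw [Types.binaryProductIso_hom_comp_fst_apply, Types.binaryProductIso_hom_comp_fst_apply, ← hx,
      ← ConcreteCategory.comp_apply, prodComparison_fst]
    show colimMap (prod.fst : M ⨯ N ⟶ M) (colimit.ι (M ⨯ N) z (l.app z (𝟙 z))) = _
    rw [← ConcreteCategory.comp_apply, ι_colimMap, ConcreteCategory.comp_apply, ← colimit.w_apply M a x]
    refine congrArg _ (Eq.trans (congrArg (fun t : coyoneda.obj (op z) ⟶ M => t.app z (𝟙 z)) (prod.lift_fst _ _)) ?_)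
    exact coyonedaEquiv.apply_symm_apply _
  · show ((Types.binaryProductIso (colim.obj M) (colim.obj N)).hom _).2 = ((Types.binaryProductIso _ _).hom p).2
    rw [Types.binaryProductIso_hom_comp_snd_apply, Types.binaryProductIso_hom_comp_snd_apply, ← hy,
      ← ConcreteCategory.comp_apply, prodComparison_snd]
    show colimMap (prod.snd : M ⨯ N ⟶ N) (colimit.ι (M ⨯ N) z (l.app z (𝟙 z))) = _
    rw [← ConcreteCategory.comp_apply, ι_colimMap, ConcreteCategory.comp_apply, ← colimit.w_apply N b y]
    refine congrArg _ (Eq.trans (congrArg (fun t : coyoneda.obj (op z) ⟶ N => t.app z (𝟙 z)) (prod.lift_snd _ _)) ?_)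
    exact coyonedaEquiv.apply_symm_apply _

end Groth.Agent.S6425
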