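import Groth.Statements.S6426
import Groth.Agent.L09.CatLimLib
import Groth.Prelude.Def_W4stkcategoriessitesEss
import Mathlib.CategoryTheory.ConnectedComponents
import Mathlib.CategoryTheory.Endofunctor.Algebra
import Mathlib.CategoryTheory.Limits.Types.Filtered
import Mathlib.CategoryTheory.Limits.Types.Products
import Mathlib.Algebra.Category.Grp.Colimits
import Mathlib.Algebra.Category.Grp.EpiMono
import Mathlib.CategoryTheory.Limits.Creates
import Mathlib.CategoryTheory.FiberedCategory.Fiber
import Mathlib.CategoryTheory.Abelian.SerreClass.Localization
import Mathlib.CategoryTheory.Limits.FunctorCategory.Basic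

set_option autoImplicit false
open CategoryTheory CategoryTheory.Limits
universe v
open CatLim

namespace Groth.Agent.S6426
open CategoryTheory Category Functor Limits Opposite

/-- Over a nonempty index category in which any two objects map to a common object, the set-theoretic
colimit of a diagram of abelian groups surjects onto its colimit in abelian groups. (The published
statement does not require the index category to be nonempty; this row assumes it, because for the
empty index category the colimit of sets is empty while the colimit of abelian groups is the zero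
group.) -/
theorem result {I : Type v} [SmallCategory I] [Nonempty I]
    (hI : ∀ x y : I, ∃ (z : I) (_ : x ⟶ z) (_ : y ⟶ z), True) (M : I ⥤ AddCommGrpCat.{v}) :
    Function.Surjective (colimit.post M (forget AddCommGrpCat.{v})) := by
  let H : AddSubgroup (colimit M : AddCommGrpCat.{v}) :=
    { carrier := {x | ∃ (i : I) (a : M.obj i), colimit.ι M i a = x}
      zero_mem' := ⟨Classical.arbitrary I, 0, _root_.map_zero _⟩
      neg_mem' := by rintro _ ⟨i, a, rfl⟩; exact ⟨i, -a, _root_.map_neg _ _⟩
      add_mem' := by
        rintro _ _ ⟨i, a, rfl⟩ ⟨j, b, rfl⟩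
        obtain ⟨z, f, g, -⟩ := hI i j
        refine ⟨z, M.map f a + M.map g b, ?_⟩
        rw [_root_.map_add, colimit.w_apply, colimit.w_apply] }
  have hH : H = ⊤ := by
    have e : AddCommGrpCat.ofHom (QuotientAddGroup.mk' H) = 0 := by
      refine colimit.hom_ext fun i => ?_
      ext a
      exact (QuotientAddGroup.eq_zero_iff _).mpr ⟨i, a, rfl⟩
    refine eq_top_iff.mpr fun x _ => ?_
    exact (QuotientAddGroup.eq_zero_iff _).mp (congrArg (fun k => (ConcreteCategory.hom k) x) e)
  intro x
  obtain ⟨i, a, ha⟩ : x ∈ H := hH ▸ AddSubgroup.mem_top _
  refine ⟨colimit.ι (M ⋙ forget AddCommGrpCat.{v}) i a, ?_⟩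
  rw [← ConcreteCategory.comp_apply, colimit.ι_post]
  exact ha

end Groth.Agent.S6426
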