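import Groth.Statements.S6427
import Groth.Agent.L09.CatLimLib
import Groth.Prelude.Def_W4stkcategoriessitesEss
import Mathlib.CategoryTheory.ConnectedComponents
import Mathlib.CategoryTheory.Endofunctor.Algebra
import Mathlib.CategoryTheory.Limits.Types.Filtered
import Mathlib.CategoryTheory.Limits.Types.Products
import Mathlib.Algebra.Category.Grp.Colimits
import Mathlib.Algebra.Category.Grp.EpiMono
import Mathlib.CategoryTheory.Limits.Creates
import Mathlib.CategoryTheory.FiberedCategory.Fiber
import Mathlib.CategoryTheory.Abelian.SerreClass.Localization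
import Mathlib.CategoryTheory.Limits.FunctorCategory.Basic

set_option autoImplicit false
open CategoryTheory CategoryTheory.Limits
universe v
open CatLim

namespace Groth.Agent.S6427
open CategoryTheory Category Functor Limits Opposite

/-- Over an index category in which every pair of morphisms with common source can be completed to a
commutative square, colimits of sets preserve injective morphisms of diagrams. -/
theorem result {I : Type v} [SmallCategory I]
    (hI : ∀ ⦃x y z : I⦄ (f : x ⟶ y) (g : x ⟶ z), ∃ (w : I) (f' : y ⟶ w) (g' : z ⟶ w), f ≫ f' = g ≫ g')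
    {M N : I ⥤ Type v} (φ : M ⟶ N) (hφ : ∀ i, Function.Injective (φ.app i)) :
    Function.Injective (colimMap φ) := by
  intro p q h
  obtain ⟨i, x, rfl⟩ := Types.jointly_surjective' p
  obtain ⟨j, y, rfl⟩ := Types.jointly_surjective' q
  rw [← ConcreteCategory.comp_apply, ← ConcreteCategory.comp_apply, ι_colimMap, ι_colimMap, ConcreteCategory.comp_apply, ConcreteCategory.comp_apply] at h
  obtain ⟨k, f, g, e⟩ := Groth.L09.CatLimLib.colimit_rel_of_span hI h
  rw [← NatTrans.naturality_apply, ← NatTrans.naturality_apply] at e
  rw [← colimit.w_apply M f x, ← colimit.w_apply M g y, hφ k e]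

end Groth.Agent.S6427
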