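import Groth.Statements.S6428
import Groth.Agent.L09.CatLimLib
import Groth.Prelude.Def_W4stkcategoriessitesEss
import Mathlib.CategoryTheory.ConnectedComponents
import Mathlib.CategoryTheory.Endofunctor.Algebra
import Mathlib.CategoryTheory.Limits.Types.Filtered
import Mathlib.CategoryTheory.Limits.Types.Products
import Mathlib.Algebra.Category.Grp.Colimits
import Mathlib.Algebra.Category.Grp.EpiMono
import Mathlib.CategoryTheory.Limits.Creates
import Mathlib.CategoryTheory.FiberedCategory.Fiber
import Mathlib.CategoryTheory.Abelian.SerreClass.Localization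
import Mathlib.CategoryTheory.Limits.FunctorCategory.Basic

set_option autoImplicit false
open CategoryTheory CategoryTheory.Limits
universe v₁ u₁ v₂ u₂ v₃ u₃
open CatLim

namespace Groth.Agent.S6428
open CategoryTheory Category Functor Limits Opposite

/-- If `F : I ⥤ I'` has connected fibre categories and is surjective on morphisms, then for every
diagram `M : I' ⥤ C` the colimit of `F ⋙ M` exists if and only if that of `M` does, and the
canonical comparison between them is then an isomorphism. -/
theorem result {I : Type u₁} [Category.{v₁} I] {I' : Type u₂} [Category.{v₂} I'] {C : Type u₃} [Category.{v₃} C] (F : I ⥤ I')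
    (h1 : ∀ x' : I', IsConnected (F.Fiber x'))
    (h2 : ∀ ⦃x' y' : I'⦄ (α' : x' ⟶ y'), ∃ (x y : I) (hx : F.obj x = x') (hy : F.obj y = y') (α : x ⟶ y), F.map α = eqToHom hx ≫ α' ≫ eqToHom hy.symm)
    (M : I' ⥤ C) :
    (HasColimit (F ⋙ M) ↔ HasColimit M) ∧ ∀ [HasColimit (F ⋙ M)] [HasColimit M], IsIso (colimit.pre M F) := by
  let ch : ∀ x' : I', F.Fiber x' := fun x' => (h1 x').is_nonempty.some
  -- legs are constant on fibres
  have hconst : ∀ (t : Cocone (F ⋙ M)) (x' : I') (a b : F.Fiber x'),
      (eqToHom (congrArg M.obj a.2.symm) : M.obj x' ⟶ M.obj (F.obj a.1)) ≫ t.ι.app a.1 =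
      eqToHom (congrArg M.obj b.2.symm) ≫ t.ι.app b.1 := by
    intro t x' a b
    have := h1 x'
    refine constant_of_preserves_morphisms
      (fun c : F.Fiber x' => (eqToHom (congrArg M.obj c.2.symm) : M.obj x' ⟶ M.obj (F.obj c.1)) ≫ t.ι.app c.1)
      (fun c d m => ?_) a b
    have hm : F.map m.1 = eqToHom (c.2.trans d.2.symm) := by
      have := m.2
      rw [IsHomLift.fac' F (𝟙 x') m.1]
      simp
    have hw : M.map (F.map m.1) ≫ t.ι.app d.1 = t.ι.app c.1 := t.w m.1
    show eqToHom _ ≫ t.ι.app c.1 = eqToHom _ ≫ t.ι.app d.1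
    rw [← hw, hm, eqToHom_map, eqToHom_trans_assoc]
  let ext' : Cocone (F ⋙ M) → Cocone M := fun t =>
    { pt := t.pt
      ι :=
        { app := fun x' => (eqToHom (congrArg M.obj (ch x').2.symm) : M.obj x' ⟶ M.obj (F.obj (ch x').1)) ≫ t.ι.app (ch x').1
          naturality := fun x' y' α' => by
            obtain ⟨x, y, hx, hy, α, hα⟩ := h2 α'
            refine Eq.trans ?_ (comp_id _).symm
            refine ((congrArg (M.map α' ≫ ·) (hconst t y' (ch y') ⟨y, hy⟩)).trans ?_).trans (hconst t x' (ch x') ⟨x, hx⟩).symm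
            have hw : M.map (F.map α) ≫ t.ι.app y = t.ι.app x := t.w α
            rw [← hw, hα]
            simp only [Functor.map_comp, eqToHom_map, assoc, eqToHom_trans_assoc, eqToHom_refl, id_comp] } }
  have hext : ∀ (t : Cocone (F ⋙ M)) (x : I), (ext' t).ι.app (F.obj x) = t.ι.app x := fun t x =>
    (hconst t (F.obj x) (ch (F.obj x)) ⟨x, rfl⟩).trans (id_comp _)
  have down : ∀ (c : Cocone M), IsColimit c → Nonempty (IsColimit (c.whisker F)) := fun c hc =>
    ⟨{ desc := fun t => hc.desc (ext' t)
       fac := fun t x => (hc.fac (ext' t) (F.obj x)).trans (hext t x)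
       uniq := fun t m hm => hc.hom_ext fun x' => by
        rw [hc.fac, ← c.w (eqToHom (ch x').2.symm), eqToHom_map, assoc]
        exact congrArg (eqToHom _ ≫ ·) (hm (ch x').1) }⟩
  have up : ∀ (d : Cocone (F ⋙ M)), IsColimit d → Nonempty (IsColimit (ext' d)) := fun d hd =>
    ⟨{ desc := fun c => hd.desc (c.whisker F)
       fac := fun c x' => by
        show (eqToHom (congrArg M.obj (ch x').2.symm) ≫ d.ι.app (ch x').1) ≫ _ = _
        rw [assoc, hd.fac]
        show eqToHom _ ≫ c.ι.app (F.obj (ch x').1) = _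
        rw [← eqToHom_map M (ch x').2.symm, c.w]
       uniq := fun c m hm => hd.hom_ext fun x => by
        rw [hd.fac, ← hext d x]
        exact hm (F.obj x) }⟩
  refine ⟨⟨fun h => HasColimit.mk ⟨_, (up _ (colimit.isColimit (F ⋙ M))).some⟩,
    fun h => HasColimit.mk ⟨_, (down _ (colimit.isColimit M)).some⟩⟩, ?_⟩
  intro _ _
  obtain ⟨hd⟩ := down _ (colimit.isColimit M)
  have : colimit.pre M F = ((colimit.isColimit (F ⋙ M)).coconePointUniqueUpToIso hd).hom := by
    refine colimit.hom_ext fun x => ?_
    rw [colimit.ι_pre]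
    exact (IsColimit.comp_coconePointUniqueUpToIso_hom (colimit.isColimit (F ⋙ M)) hd x).symm
  rw [this]
  infer_instance

end Groth.Agent.S6428
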