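import Groth.Statements.S6430
import Groth.Agent.L09.FibInertia
import Groth.Agent.L09.FibOp
import Mathlib.CategoryTheory.Limits.Shapes.Pullback.IsPullback.Basic
import Mathlib.CategoryTheory.Groupoid

set_option autoImplicit false
open CategoryTheory
universe v₂ u₂ v u
open FibCat

namespace Groth.Agent.S6430
open CategoryTheory Category Limits Functor
open Groth.L09.Fib

/-- For a fibred category `p : 𝒮 ⥤ C`, the wide subcategory of `𝒮` on the strongly cartesian morphisms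
is fibred in groupoids over `C`. -/
theorem result {C : Type u} [Category.{v} C] {𝒮 : Type u₂} [Category.{v₂} 𝒮] (p : 𝒮 ⥤ C) [p.IsFibered] :
    FibCat.IsFibGrpd (FibCat.cartSubProj p) := by
  refine ⟨fun {x V} (f : V ⟶ p.obj x.obj) => ?_, fun {y x} φ => ?_⟩
  · obtain ⟨b, π, hπ⟩ : ∃ (b : 𝒮) (π : b ⟶ x.obj), p.IsStronglyCartesian f π :=
      ⟨_, IsPreFibered.pullbackMap (p := p) (rfl : p.obj x.obj = _) f, inferInstance⟩
    have hb : p.obj b = V := IsHomLift.domain_eq p f π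
    subst hb
    have := IsHomLift.eq_of_isHomLift p f π
    subst this
    exact ⟨⟨b⟩, ⟨π, hπ⟩, IsHomLift.map (FibCat.cartSubProj p) (⟨π, hπ⟩ : (⟨b⟩ : FibCat.cartSub p) ⟶ x)⟩
  · rw [stronglyCartesian_map_iff]
    intro z g ψ e
    have hφ : p.IsStronglyCartesian (p.map φ.hom) φ.hom := φ.property
    have hψ : p.IsStronglyCartesian (p.map ψ.hom) ψ.hom := ψ.property
    obtain ⟨χ, ⟨h1, h2⟩, hu⟩ := (stronglyCartesian_map_iff p φ.hom).1 hφ g ψ.hom e
    have : p.IsStronglyCartesian (p.map χ ≫ p.map φ.hom) (χ ≫ φ.hom) := by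
      rw [← p.map_comp, h2]; exact hψ
    have hχ : p.IsStronglyCartesian (p.map χ) χ := IsStronglyCartesian.of_comp p (g := p.map φ.hom) (ψ := φ.hom)
    exact ⟨⟨χ, hχ⟩, ⟨h1, WideSubcategory.hom_ext _ h2⟩, fun χ' ⟨h1', h2'⟩ =>
      WideSubcategory.hom_ext _ (hu χ'.hom ⟨h1', congrArg (fun t => t.hom) h2'⟩)⟩

end Groth.Agent.S6430
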