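import Groth.Statements.S6434
import Groth.Agent.L09.CalcFrac
import Mathlib.CategoryTheory.Preadditive.Basic
import Mathlib.CategoryTheory.Monoidal.Category

set_option autoImplicit false
open CategoryTheory
universe v u v' u'
open CatLoc

namespace Groth.Agent.S6434
open CategoryTheory Category Limits MorphismProperty

/-- The localization functor at a left multiplicative system commutes with finite colimits. -/
theorem result {C : Type u} [Category.{v} C] {D : Type u'} [Category.{v'} D] (W : MorphismProperty C) (L : C ⥤ D) [L.IsLocalization W] [W.HasLeftCalculusOfFractions] :
    Limits.PreservesFiniteColimits L := by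
  exact Groth.L09.CalcFrac.preservesFiniteColimits W L

end Groth.Agent.S6434
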