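import Groth.Statements.S6435
import Groth.Agent.L09.CalcFrac
import Mathlib.CategoryTheory.Preadditive.Basic
import Mathlib.CategoryTheory.Monoidal.Category

set_option autoImplicit false
open CategoryTheory
universe v u v' u'
open CatLoc

namespace Groth.Agent.S6435
open CategoryTheory Category Limits MorphismProperty

/-- For a multiplicative system `W` (left and right calculus of fractions) with localization functor
`L`, a morphism `f` becomes an isomorphism under `L` if and only if `g ∘ f ∈ W` and `f ∘ h ∈ W` for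
some `g, h`. -/
theorem result {C : Type u} [Category.{v} C] {D : Type u'} [Category.{v'} D] (W : MorphismProperty C) (L : C ⥤ D) [L.IsLocalization W] [W.HasLeftCalculusOfFractions] [W.HasRightCalculusOfFractions]
    {X Y : C} (f : X ⟶ Y) :
    IsIso (L.map f) ↔ ∃ (Z Z' : C) (g : Y ⟶ Z) (h : Z' ⟶ X), W (f ≫ g) ∧ W (h ≫ f) := by
  constructor
  · intro _
    obtain ⟨Z, g, hg⟩ := Groth.L09.CalcFrac.exists_of_isIso_map W L f
    have : IsIso (L.op.map f.op) := inferInstanceAs (IsIso (L.map f).op)
    obtain ⟨Z', h, hh⟩ := Groth.L09.CalcFrac.exists_of_isIso_map W.op L.op f.op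
    exact ⟨Z, Z'.unop, g, h.unop, hg, hh⟩
  · rintro ⟨Z, Z', g, h, hg, hh⟩
    have i1 : IsIso (L.map f ≫ L.map g) := by rw [← Functor.map_comp]; exact Localization.inverts L W _ hg
    have i2 : IsIso (L.map h ≫ L.map f) := by rw [← Functor.map_comp]; exact Localization.inverts L W _ hh
    have : IsSplitMono (L.map f) := IsSplitMono.mk' ⟨L.map g ≫ CategoryTheory.inv (L.map f ≫ L.map g), by rw [← assoc, IsIso.hom_inv_id]⟩
    have : IsSplitEpi (L.map f) := IsSplitEpi.mk' ⟨CategoryTheory.inv (L.map h ≫ L.map f) ≫ L.map h, by rw [assoc, IsIso.inv_hom_id]⟩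
    exact isIso_of_mono_of_isSplitEpi _

end Groth.Agent.S6435
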