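import Groth.Statements.S6436
import Mathlib.CategoryTheory.Abelian.CommSq
import Mathlib.CategoryTheory.Abelian.Refinements
import Mathlib.CategoryTheory.Idempotents.Basic
import Mathlib.CategoryTheory.Limits.Shapes.Countable
import Mathlib.CategoryTheory.Adjunction.FullyFaithful
import Mathlib.CategoryTheory.IsConnected
import Mathlib.CategoryTheory.Monoidal.Category
import Mathlib.CategoryTheory.Limits.Shapes.Kernels
import Mathlib.CategoryTheory.Limits.Shapes.Opposites.Products
import Mathlib.CategoryTheory.Limits.Shapes.Opposites.Kernels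

set_option autoImplicit false
open CategoryTheory
universe v₁ u₁ v₂ u₂
open CatLim

namespace Groth.Agent.S6436
open CategoryTheory Category Limits

/-- For an adjunction `u ⊣ v`, if `v ∘ u` is fully faithful then so is `u`, and if `u ∘ v` is fully
faithful then so is `v`. -/
theorem result {C : Type u₁} [Category.{v₁} C] {D : Type u₂} [Category.{v₂} D] {u : C ⥤ D} {v : D ⥤ C} (adj : u ⊣ v) :
    ((u ⋙ v).Full → (u ⋙ v).Faithful → u.Full ∧ u.Faithful) ∧ ((v ⋙ u).Full → (v ⋙ u).Faithful → v.Full ∧ v.Faithful) := by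
  constructor
  · intro h1 h2
    refine ⟨⟨fun {X Y} φ => ?_⟩, Functor.Faithful.of_comp u v⟩
    obtain ⟨ψ, hψ⟩ := (u ⋙ v).map_surjective (v.map φ)
    refine ⟨ψ, (adj.homEquiv X (u.obj Y)).injective ?_⟩
    simp only [Adjunction.homEquiv_unit]
    rw [show v.map (u.map ψ) = v.map φ from hψ]
  · intro h1 h2
    refine ⟨⟨fun {X Y} φ => ?_⟩, Functor.Faithful.of_comp v u⟩
    obtain ⟨ψ, hψ⟩ := (v ⋙ u).map_surjective (u.map φ)
    refine ⟨ψ, (adj.homEquiv (v.obj X) Y).symm.injective ?_⟩
    simp only [Adjunction.homEquiv_counit]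
    rw [show u.map (v.map ψ) = u.map φ from hψ]

end Groth.Agent.S6436
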