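import Groth.Statements.S6442
import Mathlib.CategoryTheory.Sites.EpiMono
import Mathlib.CategoryTheory.Sites.LocallyBijective
import Mathlib.CategoryTheory.Sites.Sheafification
import Mathlib.CategoryTheory.Limits.Types.Colimits
import Mathlib.CategoryTheory.Limits.FunctorCategory.Basic

set_option autoImplicit false
open CategoryTheory CategoryTheory.Limits Opposite
universe u
open SiteMisc

namespace Groth.Agent.S6442

/-- An object `U` of a site is weakly contractible, i.e. for every covering sieve `S` the sheafified map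
`(∐_{V → U ∈ S} h_V)^# ⟶ h_U^#` has a section, if and only if taking sections over `U` turns
epimorphisms of sheaves of sets into surjections. (Coverings are taken as covering sieves; the
coproduct is formed in presheaves and then sheafified.) -/
theorem result {C : Type u} [SmallCategory C] (J : GrothendieckTopology C) (U : C) :
    (∀ S : Sieve U, S ∈ J U →
      IsSplitEpi ((presheafToSheaf J (Type u)).map
        (Sigma.desc (fun i : (Σ V : C, {f : V ⟶ U // S f}) => yoneda.map i.2.1) :
          (∐ fun i : (Σ V : C, {f : V ⟶ U // S f}) => yoneda.obj i.1) ⟶ yoneda.obj U))) ↔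
    ∀ (F G : Sheaf J (Type u)) (φ : F ⟶ G), Epi φ → Function.Surjective (φ.hom.app (op U)) := by
  have adj := sheafificationAdjunction J (Type u)
  refine ⟨fun h F G φ hφ x => ?_, fun h S hS => ?_⟩
  · have hφ' : Presheaf.IsLocallySurjective J φ.hom := (Sheaf.isLocallySurjective_iff_epi φ).2 hφ
    let S := Presheaf.imageSieve φ.hom x
    have hS : S ∈ J U := Presheaf.imageSieve_mem J φ.hom x
    let y : ∀ i : (Σ V : C, {f : V ⟶ U // S f}), F.obj.obj (op i.1) := fun i => Classical.choose i.2.2
    have hy : ∀ i, φ.hom.app (op i.1) (y i) = G.obj.map i.2.1.op x := fun i => Classical.choose_spec i.2.2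
    let d : (∐ fun i : (Σ V : C, {f : V ⟶ U // S f}) => yoneda.obj i.1) ⟶ F.obj :=
      Sigma.desc (fun i => yonedaEquiv.symm (y i))
    let d₀ : (∐ fun i : (Σ V : C, {f : V ⟶ U // S f}) => yoneda.obj i.1) ⟶ yoneda.obj U :=
      Sigma.desc (fun i => yoneda.map i.2.1)
    have hd : d ≫ φ.hom = d₀ ≫ yonedaEquiv.symm x := by
      refine Sigma.hom_ext _ _ (fun i => ?_)
      simp only [d, d₀, Sigma.ι_desc_assoc]
      apply yonedaEquiv.injective
      rw [yonedaEquiv_comp, Equiv.apply_symm_apply, hy, ← yonedaEquiv_naturality, Equiv.apply_symm_apply]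
    obtain ⟨⟨s, hs⟩⟩ := (h S hS).exists_splitEpi
    let adj := sheafificationAdjunction J (Type u)
    let ψ := (adj.homEquiv _ F).symm d
    have key : s ≫ ψ ≫ φ = (adj.homEquiv _ G).symm (yonedaEquiv.symm x) := by
      have h1 : ψ ≫ φ = (presheafToSheaf J (Type u)).map d₀ ≫ (adj.homEquiv _ G).symm (yonedaEquiv.symm x) := by
        rw [← adj.homEquiv_naturality_left_symm, ← hd]
        exact (adj.homEquiv_naturality_right_symm d φ).symm
      rw [h1, reassoc_of% hs]
    refine ⟨yonedaEquiv (adj.homEquiv _ F (s ≫ ψ)), ?_⟩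
    have h2 := congrArg (adj.homEquiv _ G) key
    rw [Equiv.apply_symm_apply, ← Category.assoc, adj.homEquiv_naturality_right] at h2
    have h3 := congrArg yonedaEquiv h2
    rw [yonedaEquiv_comp, Equiv.apply_symm_apply] at h3
    exact h3
  · let adj := sheafificationAdjunction J (Type u)
    let d₀ : (∐ fun i : (Σ V : C, {f : V ⟶ U // S f}) => yoneda.obj i.1) ⟶ yoneda.obj U :=
      Sigma.desc (fun i => yoneda.map i.2.1)
    have hd₀ : Presheaf.IsLocallySurjective J d₀ := by
      constructor
      intro V u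
      refine J.superset_covering ?_ (J.pullback_stable (X := U) (u : _ ⟶ _) hS)
      intro W g hg
      refine ⟨(Sigma.ι (fun i : (Σ V : C, {f : V ⟶ U // S f}) => yoneda.obj i.1)
        ⟨W, ⟨g ≫ u, hg⟩⟩).app (op W) (𝟙 W), ?_⟩
      have hι := ConcreteCategory.congr_hom (congr_app
        (Sigma.ι_desc (f := fun i : (Σ V : C, {f : V ⟶ U // S f}) => yoneda.obj i.1)
          (fun i => yoneda.map i.2.1) ⟨W, ⟨g ≫ u, hg⟩⟩) (op W)) (𝟙 W)
      exact hι.trans (Category.id_comp _)
    have he : Epi ((presheafToSheaf J (Type u)).map d₀) := by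
      rw [← Sheaf.isLocallySurjective_iff_epi]
      exact (Presheaf.isLocallySurjective_presheafToSheaf_map_iff J d₀).2 hd₀
    obtain ⟨x, hx⟩ := h _ _ _ he (yonedaEquiv (adj.homEquiv _ _ (𝟙 _)))
    refine IsSplitEpi.mk' ⟨(adj.homEquiv _ _).symm (yonedaEquiv.symm x), ?_⟩
    apply (adj.homEquiv _ _).injective
    rw [adj.homEquiv_naturality_right, Equiv.apply_symm_apply]
    apply yonedaEquiv.injective
    rw [yonedaEquiv_comp, Equiv.apply_symm_apply]
    exact hx

end Groth.Agent.S6442
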