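import Groth.Statements.S6443
import Groth.Agent.L09.FibYoneda
import Groth.Agent.L09.FibMisc
import Groth.Agent.L09.FibInertia

set_option autoImplicit false
open CategoryTheory
universe v u
open FibCat

namespace Groth.Agent.S6443
open CategoryTheory Category Limits Functor
open Groth.L09.Fib

/-- If a category `𝒮` fibred in groupoids over `C` is represented by `X` via `j : 𝒮 ⟶ C/X` and by `X'`
via `j' : 𝒮 ⟶ C/X'` (equivalences over `C`), then there is an isomorphism `X' ≅ X` under which `j'`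
becomes 2-isomorphic to `j` over `C`. -/
theorem result {C : Type u} [Category.{v} C] {𝒮 : BasedCategory.{v, max u v} C} (h𝒮 : FibCat.IsFibGrpd 𝒮.p)
    {X X' : C} (j : 𝒮 ⥤ᵇ FibCat.overCat X) (j' : 𝒮 ⥤ᵇ FibCat.overCat X') (hj : FibCat.IsEquivOver j) (hj' : FibCat.IsEquivOver j') :
    ∃ e : X' ≅ X, Nonempty (BasedFunctor.comp j' (⟨Over.map e.hom, Over.mapForget_eq e.hom⟩ : FibCat.overCat X' ⥤ᵇ FibCat.overCat X) ≅ j) := by
  have key : ∀ {Z Z' : C} (k : 𝒮 ⥤ᵇ FibCat.overCat Z) (k' : 𝒮 ⥤ᵇ FibCat.overCat Z'), FibCat.IsEquivOver k' →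
      ∃ h : Z' ⟶ Z, ∀ x : 𝒮.obj, (k.obj x).hom =
        eqToHom ((k.w_obj x).trans (k'.w_obj x).symm) ≫ (k'.obj x).hom ≫ h := by
    intro Z Z' k k' hk'
    obtain ⟨G, ⟨α⟩, -⟩ := hk'
    let H := BasedFunctor.comp G k
    refine ⟨eqToHom (H.w_obj (Over.mk (𝟙 Z'))).symm ≫ (H.obj (Over.mk (𝟙 Z'))).hom, fun x => ?_⟩
    have h1 := over_based_hom H (k'.obj x)
    have w := Over.w (k.map (α.inv.toNatTrans.app x))
    have hl : 𝒮.p.IsHomLift (𝟙 (𝒮.p.obj x)) (α.inv.toNatTrans.app x) := α.inv.isHomLift' x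
    have hl2 : (FibCat.overCat Z).p.IsHomLift (𝟙 (𝒮.p.obj x)) (k.map (α.inv.toNatTrans.app x)) := inferInstance
    have e := IsHomLift.fac' (FibCat.overCat Z).p (𝟙 (𝒮.p.obj x)) (k.map (α.inv.toNatTrans.app x))
    rw [id_comp, eqToHom_trans] at e
    change (k.map (α.inv.toNatTrans.app x)).left = _ at e
    rw [e] at w
    refine w.symm.trans ?_
    change eqToHom _ ≫ (H.obj (k'.obj x)).hom = _
    rw [h1]
    erw [eqToHom_trans_assoc]
    rfl
  obtain ⟨h, hh⟩ := key j j' hj'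
  obtain ⟨h', hh'⟩ := key j' j hj
  have inv1 : h ≫ h' = 𝟙 X' := by
    obtain ⟨ξ, e, he⟩ := exists_iso_over_of_isEquivOver hj' (Over.mk (𝟙 X'))
    have w := Over.w e.hom
    have h1 := hh' ξ
    rw [hh ξ] at h1
    simp only [assoc, eqToHom_trans_assoc, eqToHom_refl, id_comp] at h1
    have c : IsIso (j'.obj ξ).hom :=
      (show e.hom.left = (j'.obj ξ).hom from (comp_id _).symm.trans w) ▸ (inferInstance : IsIso ((Over.forget X').map e.hom))
    exact (cancel_epi (j'.obj ξ).hom).1 (h1.symm.trans (comp_id _).symm)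
  have inv2 : h' ≫ h = 𝟙 X := by
    obtain ⟨ξ, e, he⟩ := exists_iso_over_of_isEquivOver hj (Over.mk (𝟙 X))
    have w := Over.w e.hom
    have h1 := hh ξ
    rw [hh' ξ] at h1
    simp only [assoc, eqToHom_trans_assoc, eqToHom_refl, id_comp] at h1
    have c : IsIso (j.obj ξ).hom :=
      (show e.hom.left = (j.obj ξ).hom from (comp_id _).symm.trans w) ▸ (inferInstance : IsIso ((Over.forget X).map e.hom))
    exact (cancel_epi (j.obj ξ).hom).1 (h1.symm.trans (comp_id _).symm)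
  refine ⟨⟨h, h', inv1, inv2⟩, ⟨BasedNatIso.mkNatIso (NatIso.ofComponents
    (fun x => Over.isoMk (eqToIso ((j'.w_obj x).trans (j.w_obj x).symm)) ?_) (fun {x y} m => ?_)) (fun x => ?_)⟩⟩
  · show eqToHom ((j'.w_obj x).trans (j.w_obj x).symm) ≫ (j.obj x).hom = (j'.obj x).hom ≫ h
    rw [hh x, ← assoc, eqToHom_trans, eqToHom_refl, id_comp]
    rfl
  · apply Over.OverMorphism.ext
    have e1 : (j'.map m).left = eqToHom (j'.w_obj x) ≫ 𝒮.p.map m ≫ eqToHom (j'.w_obj y).symm := Functor.congr_hom j'.w m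
    have e2 : (j.map m).left = eqToHom (j.w_obj x) ≫ 𝒮.p.map m ≫ eqToHom (j.w_obj y).symm := Functor.congr_hom j.w m
    show (j'.map m).left ≫ eqToHom ((j'.w_obj y).trans (j.w_obj y).symm) = eqToHom ((j'.w_obj x).trans (j.w_obj x).symm) ≫ (j.map m).left
    rw [e1, e2]
    erw [assoc, assoc, eqToHom_trans, eqToHom_trans_assoc]
    rfl
  · refine IsHomLift.of_fac' (FibCat.overCat X).p _ _ (j'.w_obj x) (j.w_obj x) ?_
    rw [id_comp, eqToHom_trans]
    rfl

end Groth.Agent.S6443
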