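import Groth.Statements.S6446
import Groth.Agent.L09.CatLimLib
import Groth.Prelude.Def_W4stkcategoriessitesEss
import Mathlib.CategoryTheory.ConnectedComponents
import Mathlib.CategoryTheory.Endofunctor.Algebra
import Mathlib.CategoryTheory.Limits.Types.Filtered
import Mathlib.CategoryTheory.Limits.Types.Products
import Mathlib.Algebra.Category.Grp.Colimits
import Mathlib.Algebra.Category.Grp.EpiMono
import Mathlib.CategoryTheory.Limits.Creates
import Mathlib.CategoryTheory.FiberedCategory.Fiber
import Mathlib.CategoryTheory.Abelian.SerreClass.Localization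
import Mathlib.CategoryTheory.Limits.FunctorCategory.Basic

set_option autoImplicit false
open CategoryTheory CategoryTheory.Limits Opposite
universe v u
open CatLim

namespace Groth.Agent.S6446
open CategoryTheory Category Functor Limits Opposite

/-- (2) ⇒ (1): over a filtered index category, a diagram `M` with a cocone `(X, M_i → X)` inducing
bijections `colim_i Mor(W, M_i) → Mor(W, X)` for all `W` is essentially constant as an ind-object
with value `X`. -/
theorem result {I : Type v} [SmallCategory I] [IsFiltered I] {C : Type u} [Category.{v} C]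
    (M : I ⥤ C) (c : Cocone M)
    (h : ∀ W : C, Function.Bijective (colimit.desc (M ⋙ coyoneda.obj (op W)) ((coyoneda.obj (op W)).mapCocone c))) :
    CatLim.IsEssConstInd M c := by
  obtain ⟨p, hp⟩ := (h c.pt).2 (𝟙 c.pt)
  obtain ⟨i, s, rfl⟩ := Types.jointly_surjective' p
  rw [colimit.ι_desc_apply] at hp
  have hs : s ≫ c.ι.app i = 𝟙 c.pt := hp
  refine ⟨i, s, hs, fun j => ?_⟩
  let W := M.obj j
  have e : colimit.ι (M ⋙ coyoneda.obj (op W)) j (𝟙 W) = colimit.ι (M ⋙ coyoneda.obj (op W)) i (c.ι.app j ≫ s) := by
    apply (h W).1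
    rw [colimit.ι_desc_apply, colimit.ι_desc_apply]
    show 𝟙 W ≫ c.ι.app j = (c.ι.app j ≫ s) ≫ c.ι.app i
    rw [assoc, hs]
    exact (id_comp _).trans (comp_id _).symm
  obtain ⟨k, f, g, hfg⟩ := (Types.FilteredColimit.colimit_eq_iff _).mp e
  have : 𝟙 W ≫ M.map f = (c.ι.app j ≫ s) ≫ M.map g := hfg
  exact ⟨k, g, f, by rwa [id_comp, assoc] at this⟩

end Groth.Agent.S6446
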