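import Groth.Statements.S6447
import Groth.Agent.L09.PullbackMap

set_option autoImplicit false
open CategoryTheory CategoryTheory.Limits
universe v u
open FibCat

namespace Groth.Agent.S6447

/-- For a 2-fibre product `U = X ×_Y V` of categories, the square formed by `U ⟶ X`, the diagonals `U ⟶
U ×_V U`, `X ⟶ X ×_Y X` and the induced functor `U ×_V U ⟶ X ×_Y X` is 2-cartesian. (The filling
2-isomorphism is the one whose two components at every object are identities; it exists and is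
unique with that property.) -/
theorem result {X Y V : Type u} [Category.{v} X] [Category.{v} Y] [Category.{v} V] (p : X ⥤ Y) (q : V ⥤ Y) :
    ∃ e, (∀ u, (e.hom.app u).fst = 𝟙 _ ∧ (e.hom.app u).snd = 𝟙 _) ∧ FibCat.IsTwoCart
      (CategoricalPullback.π₁ p q)
      ((CategoricalPullback.CatCommSqOver.toFunctorToCategoricalPullback (CategoricalPullback.π₂ p q) (CategoricalPullback.π₂ p q) (CategoricalPullback p q)).obj ⟨𝟭 _, 𝟭 _, Iso.refl _⟩)
      ((CategoricalPullback.CatCommSqOver.toFunctorToCategoricalPullback p p X).obj ⟨𝟭 _, 𝟭 _, Iso.refl _⟩)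
      (FibCat.categoricalPullbackMap (⟨CategoricalPullback.π₁ p q, q, CategoricalPullback.π₁ p q, ⟨(CatCommSq.iso (CategoricalPullback.π₁ p q) (CategoricalPullback.π₂ p q) p q).symm⟩, ⟨(CatCommSq.iso (CategoricalPullback.π₁ p q) (CategoricalPullback.π₂ p q) p q).symm⟩⟩ : CatCospanTransform (CategoricalPullback.π₂ p q) (CategoricalPullback.π₂ p q) p p))
      e := by
  let ψ : CatCospanTransform (CategoricalPullback.π₂ p q) (CategoricalPullback.π₂ p q) p p :=
    ⟨CategoricalPullback.π₁ p q, q, CategoricalPullback.π₁ p q,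
      ⟨(CatCommSq.iso (CategoricalPullback.π₁ p q) (CategoricalPullback.π₂ p q) p q).symm⟩,
      ⟨(CatCommSq.iso (CategoricalPullback.π₁ p q) (CategoricalPullback.π₂ p q) p q).symm⟩⟩
  let W := FibCat.categoricalPullbackMap ψ
  have hW : ∀ t : CategoricalPullback (CategoricalPullback.π₂ p q) (CategoricalPullback.π₂ p q),
      (W.obj t).iso.hom = t.fst.iso.hom ≫ q.map t.iso.hom ≫ t.snd.iso.inv := fun t =>
    Groth.L09.PullbackMap.obj_iso_hom ψ t
  let ΔU := (CategoricalPullback.CatCommSqOver.toFunctorToCategoricalPullback (CategoricalPullback.π₂ p q)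
    (CategoricalPullback.π₂ p q) (CategoricalPullback p q)).obj ⟨𝟭 _, 𝟭 _, Iso.refl _⟩
  let ΔX := (CategoricalPullback.CatCommSqOver.toFunctorToCategoricalPullback p p X).obj ⟨𝟭 _, 𝟭 _, Iso.refl _⟩
  let e : CategoricalPullback.π₁ p q ⋙ ΔX ≅ ΔU ⋙ W := NatIso.ofComponents
    (fun u => CategoricalPullback.mkIso (Iso.refl _) (Iso.refl _) (by
      show p.map (𝟙 u.fst) ≫ (W.obj (ΔU.obj u)).iso.hom = 𝟙 (p.obj u.fst) ≫ p.map (𝟙 u.fst)
      rw [hW]
      show p.map (𝟙 u.fst) ≫ u.iso.hom ≫ q.map (𝟙 u.snd) ≫ u.iso.inv = _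
      simp))
    (fun {u u'} m => by
      apply CategoricalPullback.Hom.ext <;> exact (Category.comp_id _).trans (Category.id_comp _).symm)
  refine ⟨e, fun u => ⟨rfl, rfl⟩, ?_⟩
  let E := (CategoricalPullback.CatCommSqOver.toFunctorToCategoricalPullback ΔX W (CategoricalPullback p q)).obj
    ⟨CategoricalPullback.π₁ p q, ΔU, e⟩
  show E.IsEquivalence
  haveI : E.Faithful := ⟨fun h => congrArg (fun m => m.snd.fst) h⟩
  haveI : E.Full := ⟨fun {u u'} m => by
    refine ⟨m.snd.fst, ?_⟩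
    have w1 : m.fst = m.snd.fst.fst := by
      have h' : m.fst ≫ 𝟙 _ = 𝟙 _ ≫ m.snd.fst.fst := congrArg (fun k => k.fst) m.w
      exact (Category.comp_id _).symm.trans (h'.trans (Category.id_comp _))
    have w2 : m.fst = m.snd.snd.fst := by
      have h' : m.fst ≫ 𝟙 _ = 𝟙 _ ≫ m.snd.snd.fst := congrArg (fun k => k.snd) m.w
      exact (Category.comp_id _).symm.trans (h'.trans (Category.id_comp _))
    have w3 : m.snd.fst.snd = m.snd.snd.snd := by
      have h' : m.snd.fst.snd ≫ 𝟙 _ = 𝟙 _ ≫ m.snd.snd.snd := m.snd.w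
      exact (Category.comp_id _).symm.trans (h'.trans (Category.id_comp _))
    have w4 : m.snd.fst = m.snd.snd := CategoricalPullback.Hom.ext (w1.symm.trans w2) w3
    exact CategoricalPullback.Hom.ext w1.symm (CategoricalPullback.Hom.ext rfl w4)⟩
  haveI : E.EssSurj := ⟨fun t => by
    refine ⟨t.snd.fst, ⟨?_⟩⟩
    let a : t.fst ≅ t.snd.fst.fst := (CategoricalPullback.π₁ p p).mapIso t.iso
    let b : t.fst ≅ t.snd.snd.fst := (CategoricalPullback.π₂ p p).mapIso t.iso
    have hab : p.map a.hom ≫ t.snd.fst.iso.hom ≫ q.map t.snd.iso.hom ≫ t.snd.snd.iso.inv = p.map b.hom := by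
      rw [← hW]
      have h' : p.map a.hom ≫ (W.obj t.snd).iso.hom = 𝟙 _ ≫ p.map b.hom := t.iso.hom.w
      exact h'.trans (Category.id_comp _)
    let c : t.snd.fst ≅ t.snd.snd := CategoricalPullback.mkIso (a.symm ≪≫ b) t.snd.iso (by
      simp only [Iso.trans_hom, Iso.symm_hom, Functor.map_comp, Category.assoc, ← hab]
      simp only [← Category.assoc, ← Functor.map_comp, Iso.inv_hom_id]
      simp
      erw [Iso.inv_hom_id, Category.comp_id]
      rfl)
    let d : ΔU.obj t.snd.fst ≅ t.snd := CategoricalPullback.mkIso (Iso.refl _) c (by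
      show (CategoricalPullback.π₂ p q).map (𝟙 _) ≫ t.snd.iso.hom = 𝟙 _ ≫ t.snd.iso.hom
      rw [Functor.map_id])
    refine CategoricalPullback.mkIso a.symm d (CategoricalPullback.Hom.ext ?_ ?_)
    · show a.inv ≫ a.hom = 𝟙 _ ≫ 𝟙 _
      simp
    · show a.inv ≫ b.hom = 𝟙 _ ≫ a.inv ≫ b.hom
      simp⟩
  exact {}

end Groth.Agent.S6447
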