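import Groth.Statements.S6448
import Groth.Agent.L09.CatLimLib
import Groth.Prelude.Def_W4stkcategoriessitesEss
import Mathlib.CategoryTheory.ConnectedComponents
import Mathlib.CategoryTheory.Endofunctor.Algebra
import Mathlib.CategoryTheory.Limits.Types.Filtered
import Mathlib.CategoryTheory.Limits.Types.Products
import Mathlib.Algebra.Category.Grp.Colimits
import Mathlib.Algebra.Category.Grp.EpiMono
import Mathlib.CategoryTheory.Limits.Creates
import Mathlib.CategoryTheory.FiberedCategory.Fiber
import Mathlib.CategoryTheory.Abelian.SerreClass.Localization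
import Mathlib.CategoryTheory.Limits.FunctorCategory.Basic

set_option autoImplicit false
open CategoryTheory
universe v u
open CatLim

namespace Groth.Agent.S6448
open CategoryTheory Category Functor Limits Opposite

/-- In a category where spans complete to commutative squares and parallel pairs are coequalized by a
later arrow, every connected component is filtered (so the category is a disjoint union of filtered
categories). -/
theorem result {I : Type u} [Category.{v} I]
    (h1 : ∀ ⦃w x y : I⦄ (a : w ⟶ x) (b : w ⟶ y), ∃ (z : I) (c : x ⟶ z) (d : y ⟶ z), a ≫ c = b ≫ d)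
    (h2 : ∀ ⦃x y : I⦄ (a b : x ⟶ y), ∃ (z : I) (c : y ⟶ z), a ≫ c = b ≫ c)
    (j : ConnectedComponents I) : IsFiltered j.Component := by
  have hz : ∀ {y z : I} (_ : y ⟶ z), j.objectProperty y → j.objectProperty z := fun {y z} f hy =>
    (Quotient.sound' (Relation.ReflTransGen.single (Or.inr ⟨f⟩)) : ConnectedComponents.mk z = ConnectedComponents.mk y).trans hy
  refine { toIsFilteredOrEmpty := ⟨fun a b => ?_, fun {a b} f g => ?_⟩ }
  · obtain ⟨z, ⟨f⟩, ⟨g⟩⟩ := Groth.L09.CatLimLib.common_succ (I := I) h1
      (Quotient.exact' (a.property.trans b.property.symm))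
    exact ⟨⟨z, hz f a.property⟩, ObjectProperty.homMk f, ObjectProperty.homMk g, trivial⟩
  · obtain ⟨z, c, hc⟩ := h2 f.hom g.hom
    exact ⟨⟨z, hz c b.property⟩, ObjectProperty.homMk c, ObjectProperty.hom_ext _ hc⟩

end Groth.Agent.S6448
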