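import Groth.Statements.S6453
import Groth.Agent.L22.IntMult.Main
-- import your own Groth.Agent.* helpers here

set_option autoImplicit false
universe u
open CategoryTheory AlgebraicGeometry
attribute [local instance] HasDerivedCategory.standard
open IntMult

namespace Groth.Agent.S6453

/-- Suppose the ideal of V in O_{X,ξ} is generated by a single nonzerodivisor g (c = 1: V is an
effective Cartier divisor at ξ). Then e(X, V·W, Z) = length_{O_{X,ξ}}(O_{W,ξ}/g O_{W,ξ}), i.e. the
length of O_{X,ξ}/(I_{W,ξ} + (g)). Here X is a nonsingular variety over an algebraically closed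
field K (smooth, separated, quasi-compact, integral), V and W are closed subvarieties given by
quasi-coherent ideal sheaves with integral subschemes, of dimensions r and s with dim X = n,
intersecting properly, and ξ is the generic point of an irreducible component Z of V ∩ W (a point of
V ∩ W maximal under specialization); e(X, V·W, Z) = IntMult.mult is the alternating sum of lengths
of Tor over O_{X,ξ}, and O_{W,ξ} = O_{X,ξ}/I_{W,ξ}. -/
theorem result (K : Type u) [Field K] [IsAlgClosed K] (X : Scheme.{u}) (f : X ⟶ Spec (CommRingCat.of K)) [Smooth f] [IsSeparated f] [QuasiCompact f] [IsIntegral X] (IV IW : X.IdealSheafData) [IsIntegral IV.subscheme] [IsIntegral IW.subscheme] (n r s : ℕ) (hn : topologicalKrullDim X = n) (hr : topologicalKrullDim IV.support = r) (hs : topologicalKrullDim IW.support = s) (hprop : IntMult.ProperInt (IV.support : Set X) (IW.support : Set X) n r s) (ξ : X) (hξV : ξ ∈ IV.support) (hξW : ξ ∈ IW.support) (hmax : ∀ ξ' : X, ξ' ∈ IV.support → ξ' ∈ IW.support → ξ'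 ⤳ ξ → ξ' = ξ) (g : ↑(X.presheaf.stalk ξ)) (hg : IntMult.stalkIdeal IV ξ = Ideal.span {g}) (hreg : IsSMulRegular (↑(X.presheaf.stalk ξ)) g) : (IntMult.mult IV IW ξ : ℤ) = (Module.length (X.presheaf.stalk ξ) (↑(X.presheaf.stalk ξ) ⧸ (IntMult.stalkIdeal IW ξ ⊔ Ideal.span {g}))).toNat := by
  obtain ⟨hA, hP, hQ, hmm, a, b, ha, hb, hab⟩ :=
    Groth.L22.IntMult.proper_facts K f IV IW n r s hn hr hs hprop ξ hξV hξW hmax
  haveI := hA
  haveI := hQ
  have hfs : IntMult.stalkIdeal IV ξ = Ideal.ofList [g] := by rw [hg, Ideal.ofList_singleton]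
  have hgm : g ∈ IsLocalRing.maximalIdeal _ := IsLocalRing.le_maximalIdeal hP.ne_top (hg ▸ Ideal.mem_span_singleton_self g)
  have hweak : RingTheory.Sequence.IsWeaklyRegular (X.presheaf.stalk ξ) [g] :=
    (RingTheory.Sequence.isWeaklyRegular_cons_iff _ _ _).2 ⟨hreg, RingTheory.Sequence.IsWeaklyRegular.nil _ _⟩
  have hregular : RingTheory.Sequence.IsRegular (X.presheaf.stalk ξ) [g] :=
    ⟨hweak, fun h => hP.ne_top (by rw [hfs]; simpa using h.symm)⟩
  have hb1 : 1 = b := Groth.L22.IntMult.length_eq _ [g] hfs hregular a b ha hab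
  have hgQ : g ∉ IntMult.stalkIdeal IW ξ := fun hgQ => by
    have h0 := Groth.L22.IntMult.dim_zero_of_forall (IntMult.stalkIdeal IW ξ) (IsLocalRing.le_maximalIdeal hQ.ne_top)
      fun p hp hle => hmm p hp (sup_le (by rw [hg, Ideal.span_le, Set.singleton_subset_iff]; exact hle hgQ) hle)
    rw [hb, ← hb1] at h0
    norm_num at h0
  have hM : RingTheory.Sequence.IsWeaklyRegular (↑(X.presheaf.stalk ξ) ⧸ IntMult.stalkIdeal IW ξ) [g] := by
    refine (RingTheory.Sequence.isWeaklyRegular_cons_iff _ _ _).2 ⟨?_, RingTheory.Sequence.IsWeaklyRegular.nil _ _⟩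
    intro u v huv
    obtain ⟨u, rfl⟩ := Ideal.Quotient.mk_surjective u
    obtain ⟨v, rfl⟩ := Ideal.Quotient.mk_surjective v
    have h1 : g * (u - v) ∈ IntMult.stalkIdeal IW ξ := by
      rw [mul_sub, ← Ideal.Quotient.mk_eq_mk_iff_sub_mem]
      exact huv
    exact Ideal.Quotient.mk_eq_mk_iff_sub_mem _ _ |>.2 ((hQ.mem_or_mem h1).resolve_left hgQ)
  rw [IntMult.mult, hfs, Groth.L22.IntMult.chi_eq_kosz [g] hweak, Groth.L22.IntMult.kosz_eq_length [g] _ hM]
  congr 2
  refine LinearEquiv.length_eq ?_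
  refine (Submodule.quotEquivOfEq _ (Submodule.map (Submodule.mkQ (IntMult.stalkIdeal IW ξ))
    (IntMult.stalkIdeal IW ξ ⊔ Ideal.span {g})) ?_).trans
    (Submodule.quotientQuotientEquivQuotient _ (IntMult.stalkIdeal IW ξ ⊔ Ideal.span {g}) le_sup_left)
  rw [Ideal.ofList_singleton, Ideal.smul_top_eq_map, Submodule.map_sup, Submodule.mkQ_map_self, bot_sup_eq]
  ext x
  rw [Submodule.restrictScalars_mem, Ideal.mem_map_iff_of_surjective (algebraMap _ _) Ideal.Quotient.mk_surjective]
  exact Iff.rfl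


end Groth.Agent.S6453
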