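import Groth.Statements.S6459
import Mathlib.AlgebraicGeometry.Properties
import Mathlib.AlgebraicGeometry.FunctionField
-- import your own Groth.Agent.* helpers here

set_option autoImplicit false
universe u
open CategoryTheory AlgebraicGeometry
open Cyc

namespace Groth.Agent.S6459

/-- (b) ⇔ (c): let X be integral with generic point η and Z ⊂ X an integral closed subscheme with
generic point ξ. Then Z has codimension 1 in X (the local ring O_{X,ξ} is one-dimensional; Z is a
prime divisor) if and only if dim_δ(Z) = dim_δ(X) − 1. Here a pair (X, δ) with Cyc.IsSetup plays the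
role of a scheme locally of finite type over the base (S, δ) (X locally Noetherian with universally
catenary local rings, δ a dimension function). -/
theorem result (X : Scheme.{u}) [IsIntegral X] (δ : X → ℤ) (hX : Cyc.IsSetup X δ) (ξ : X) : ringKrullDim ↑(X.presheaf.stalk ξ) = 1 ↔ δ ξ = δ (genericPoint X) - 1 := by
  obtain ⟨-, -, hδ⟩ := hX
  have hgen : ∀ z : X, genericPoint X ⤳ z := genericPoint_specializes
  rw [ringKrullDim_stalk_eq_coheight]
  constructor
  · intro h
    have h1 : Order.coheight ξ = 1 := WithBot.coe_injective (h.trans (by rfl))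
    have hne : genericPoint X ≠ ξ := fun e => by
      have : Order.coheight ξ = 0 := Order.coheight_eq_zero.2 fun z hz => by
        rw [← e] at hz ⊢
        exact (AlgebraicGeometry.Scheme.le_iff_specializes.2 (hgen z))
      rw [this] at h1
      exact zero_ne_one h1
    have h2 := (hδ (genericPoint X) ξ (hgen ξ) hne).2 fun z hz hzξ => by
      by_contra hc
      push Not at hc
      have hlt1 : ξ < z := lt_iff_le_not_ge.2 ⟨Scheme.le_iff_specializes.2 hzξ, fun hle =>
        hc.2 (((Scheme.le_iff_specializes.1 hle).antisymm hzξ).eq).symm⟩
      have hlt2 : z < genericPoint X := lt_iff_le_not_ge.2 ⟨Scheme.le_iff_specializes.2 hz, fun hle =>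
        hc.1 (((Scheme.le_iff_specializes.1 hle).antisymm hz).eq)⟩
      have h3 := (add_le_add_left (le_add_self.trans (Order.coheight_add_one_le hlt2)) 1).trans
        (Order.coheight_add_one_le hlt1)
      rw [h1] at h3
      exact absurd h3 (by decide)
    omega
  · intro h
    have hne : genericPoint X ≠ ξ := fun e => by rw [e] at h; omega
    have hlt : ξ < genericPoint X := lt_iff_le_not_ge.2 ⟨Scheme.le_iff_specializes.2 (hgen ξ), fun hle =>
      hne ((hgen ξ).antisymm (Scheme.le_iff_specializes.1 hle)).eq⟩
    have h1 : Order.coheight ξ = 1 := by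
      refine le_antisymm ?_ (le_add_self.trans (Order.coheight_add_one_le hlt))
      rw [show (1 : ℕ∞) = ((1 : ℕ) : ℕ∞) from Nat.cast_one.symm, Order.coheight_le_coe_iff]
      intro y hy
      have hy' : y ⤳ ξ := Scheme.le_iff_specializes.1 hy.le
      have hyne : y ≠ ξ := fun e => absurd hy (by rw [e]; exact lt_irrefl _)
      obtain rfl : y = genericPoint X := by
        by_contra hne'
        have := (hδ y ξ hy' hyne).1
        have := (hδ (genericPoint X) y (hgen y) (Ne.symm hne')).1
        omega
      rw [Order.coheight_eq_zero.2 fun z _ => Scheme.le_iff_specializes.2 (hgen z)]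
      exact_mod_cast zero_lt_one
    rw [h1]
    rfl

end Groth.Agent.S6459
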