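import Groth.Statements.S6460
import Mathlib.Topology.LocallyConstant.Basic
import Mathlib.Topology.NoetherianSpace
import Mathlib.Topology.Sober
import Mathlib.AlgebraicGeometry.Noetherian
-- import your own Groth.Agent.* helpers here

set_option autoImplicit false
universe u
open CategoryTheory AlgebraicGeometry
open Cyc

namespace Groth.Agent.S6460

/-- (3) ⇒ (1): suppose that for every x ∈ X there is an integer n_x with δ(ξ) = n_x for every generic
point ξ of an irreducible component of X containing x. Then X decomposes into open and closed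
subschemes X_n (n ∈ ℤ) such that every irreducible component of X_n has δ-dimension n; stated as the
existence of a locally constant c : X → ℤ with δ(ξ) = c(ξ) for every point ξ that is maximal under
specialization. (The converse implications are immediate and not stated.) Here a pair (X, δ) with
Cyc.IsSetup plays the role of a scheme locally of finite type over the base (S, δ) (X locally
Noetherian with universally catenary local rings, δ a dimension function). -/
theorem result (X : Scheme.{u}) (δ : X → ℤ) (hX : Cyc.IsSetup X δ) (h3 : ∀ x : X, ∃ n : ℤ, ∀ ξ : X, (∀ ξ' : X, ξ' ⤳ ξ → ξ' = ξ) → ξ ⤳ x → δ ξ = n) : ∃ c : X → ℤ, IsLocallyConstant c ∧ ∀ ξ : X, (∀ ξ' : X, ξ' ⤳ ξ → ξ' = ξ) → δ ξ = c ξ := by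
  classical
  haveI : IsLocallyNoetherian X := hX.1
  choose c hc using h3
  -- every point is a specialization of a generic point
  have hgen : ∀ x : X, ∃ ξ : X, (∀ ξ' : X, ξ' ⤳ ξ → ξ' = ξ) ∧ ξ ⤳ x := fun x => by
    obtain ⟨ξ, hξ⟩ := QuasiSober.sober (isIrreducible_irreducibleComponent (x := x)) isClosed_irreducibleComponent
    refine ⟨ξ, fun ξ' hξ' => ?_, hξ.specializes mem_irreducibleComponent⟩
    have hsub : irreducibleComponent x ⊆ closure ({ξ'} : Set X) := by
      rw [← hξ.def]
      exact closure_minimal (Set.singleton_subset_iff.2 (specializes_iff_mem_closure.1 hξ')) isClosed_closure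
    have heq := (irreducibleComponent_mem_irreducibleComponents x).2 isIrreducible_singleton.closure hsub
    exact (hξ'.antisymm (hξ.specializes (heq (subset_closure rfl)))).eq
  refine ⟨c, (IsLocallyConstant.iff_exists_open _).2 fun x => ?_,
    fun ξ hξ => hc ξ ξ hξ specializes_rfl⟩
  obtain ⟨_, ⟨U, hU, rfl⟩, hxU, -⟩ :=
    X.isBasis_affineOpens.exists_subset_of_mem_open (Set.mem_univ x) isOpen_univ
  haveI : IsNoetherianRing Γ(X, U) := IsLocallyNoetherian.component_noetherian ⟨U, hU⟩
  haveI : TopologicalSpace.NoetherianSpace (U : Set X) := AlgebraicGeometry.noetherianSpace_of_isAffineOpen U hU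
  let bad : Set (U : Set X) := ⋃ W ∈ {W ∈ irreducibleComponents (U : Set X) | (⟨x, hxU⟩ : (U : Set X)) ∉ W}, W
  have hbad : IsClosed bad :=
    (TopologicalSpace.NoetherianSpace.finite_irreducibleComponents.subset fun W hW => hW.1).isClosed_biUnion
      fun W hW => isClosed_of_mem_irreducibleComponents W hW.1
  refine ⟨Subtype.val '' badᶜ, U.2.isOpenMap_subtype_val _ hbad.isOpen_compl, ⟨⟨x, hxU⟩, ?_, rfl⟩, ?_⟩
  · intro h
    obtain ⟨W, hW, hxW⟩ := Set.mem_iUnion₂.1 h
    exact hW.2 hxW
  · rintro _ ⟨⟨y, hyU⟩, hy, rfl⟩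
    obtain ⟨ξ, hξ, hξy⟩ := hgen y
    have hξU : ξ ∈ U := hξy.mem_open U.2 hyU
    let W := closure ({(⟨ξ, hξU⟩ : (U : Set X))} : Set (U : Set X))
    obtain ⟨C, hC, hWC⟩ := exists_mem_irreducibleComponents_subset_of_isIrreducible W
      isIrreducible_singleton.closure
    have hyC : (⟨y, hyU⟩ : (U : Set X)) ∈ C :=
      hWC (specializes_iff_mem_closure.1 ((subtype_specializes_iff _ _).2 hξy))
    have hxC : (⟨x, hxU⟩ : (U : Set X)) ∈ C := by
      by_contra hne
      exact hy (Set.mem_iUnion₂.2 ⟨C, ⟨hC, hne⟩, hyC⟩)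
    haveI : QuasiSober (U : Set X) := U.2.isOpenEmbedding_subtypeVal.quasiSober
    obtain ⟨ζ, hζ⟩ := QuasiSober.sober hC.1 (isClosed_of_mem_irreducibleComponents C hC)
    have hζξ : (ζ : X) = ξ := hξ _ ((subtype_specializes_iff _ _).1 (hζ.specializes (hWC (subset_closure rfl))))
    show c y = c x
    rw [← hc y ξ hξ hξy, ← hc x ξ hξ (hζξ ▸ (subtype_specializes_iff _ _).1 (hζ.specializes hxC))]

end Groth.Agent.S6460
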