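
import Groth.Statements.S6461
import Groth.Agent.L22.Cyc.DivSupport
import Groth.Agent.L04.CMBasic

set_option autoImplicit false
universe u
open CategoryTheory AlgebraicGeometry
open Cyc

namespace Groth.Agent.S6461

/-- If all local rings of X are Cohen–Macaulay then every x ∈ X has an open neighbourhood U and an
integer n with δ(ξ) = n for every generic point ξ of an irreducible component of U (every point of U
maximal under specialization). Here a pair (X, δ) with Cyc.IsSetup plays the role of a scheme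
locally of finite type over the base (S, δ) (X locally Noetherian with universally catenary local
rings, δ a dimension function). -/
theorem result (X : Scheme.{u}) (δ : X → ℤ) (hX : Cyc.IsSetup X δ) (hCM : ∀ x : X, LocCoh.IsCohenMacaulayLocalRing ↑(X.presheaf.stalk x)) (x : X) : ∃ (U : X.Opens) (n : ℤ), x ∈ U ∧ ∀ ξ : X, ξ ∈ U → (∀ ξ' : X, ξ' ⤳ ξ → ξ' = ξ) → δ ξ = n := by
  classical
  haveI := hX.1
  obtain ⟨V, hV, hxV, -⟩ := exists_isAffineOpen_mem_and_subset (x := x) (U := ⊤) trivial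
  have hfin := Groth.L22.Cyc.finite_maximal hV (Z := (Set.univ : Set X)) isClosed_univ
  let bad : Set X := {t | (t ∈ V ∧ t ∈ (Set.univ : Set X) ∧ ∀ y ∈ (Set.univ : Set X), y ⤳ t → y = t) ∧ ¬ t ⤳ x}
  have hbad : bad.Finite := hfin.subset fun t ht => ht.1
  have hC : IsClosed (⋃ t ∈ bad, closure ({t} : Set X)) :=
    hbad.isClosed_biUnion fun t _ => isClosed_closure
  let U : X.Opens := V ⊓ ⟨_, hC.isOpen_compl⟩
  have hxU : x ∈ U := ⟨hxV, fun h => by
    obtain ⟨t, ht, hxt⟩ := Set.mem_iUnion₂.1 h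
    exact ht.2 (specializes_iff_mem_closure.2 hxt)⟩
  have hmax : ∀ ξ : X, ξ ∈ U → (∀ ξ' : X, ξ' ⤳ ξ → ξ' = ξ) → ξ ⤳ x := fun ξ hξ hm => by
    by_contra h
    exact hξ.2 (Set.mem_biUnion (x := ξ) ⟨⟨hξ.1, trivial, fun y _ hy => hm y hy⟩, h⟩
      (subset_closure rfl))
  let R := X.presheaf.stalk x
  have hCMx : LocCoh.IsCohenMacaulayModule R R := (hCM x).supportDim_eq_depth
  have key : ∀ ξ : X, ξ ⤳ x → (∀ ξ' : X, ξ' ⤳ ξ → ξ' = ξ) →
      ∃ D : ℕ, Module.supportDim R R = (D : WithBot ℕ∞) ∧ δ ξ = δ x + D := by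
    intro ξ h hm
    obtain ⟨D, hD, -, -, hδD⟩ := Groth.L22.LocQuotDim.exists_dim_locQuot x ξ h
    refine ⟨D, ?_, hδD δ hX.2.2⟩
    have hmin : RingHom.ker (Cyc.specMap x ξ h) ∈ (Module.annihilator R R).minimalPrimes := by
      rw [Module.annihilator_eq_bot.2 inferInstance]
      refine ⟨⟨RingHom.ker_isPrime _, bot_le⟩, fun Q hQ hle => ?_⟩
      let q : PrimeSpectrum R := ⟨Q, hQ.1⟩
      have hsp : X.fromSpecStalk x q ⤳ ξ := by
        have h1 := ((PrimeSpectrum.le_iff_specializes q (Groth.L22.Cyc.primeOf h)).1 hle).map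
          (X.fromSpecStalk x).continuous
        rwa [Groth.L22.Cyc.fromSpecStalk_primeOf h] at h1
      have h2 := congrArg PrimeSpectrum.asIdeal
        (Groth.L22.Cyc.eq_primeOf q (hm _ hsp) h)
      exact (h2.symm).le
    rw [← Groth.L04.ringKrullDim_quotient_eq_supportDim_of_isCM hCMx
      (Module.associatedPrimes.minimalPrimes_annihilator_subset_associatedPrimes R R hmin)]
    exact hD
  by_cases hex : ∃ ξ : X, ξ ∈ U ∧ ∀ ξ' : X, ξ' ⤳ ξ → ξ' = ξ
  · obtain ⟨ξ₀, hξ₀, hm₀⟩ := hex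
    refine ⟨U, δ ξ₀, hxU, fun ξ hξ hm => ?_⟩
    obtain ⟨D, hD, h1⟩ := key ξ (hmax ξ hξ hm) hm
    obtain ⟨D₀, hD₀, h2⟩ := key ξ₀ (hmax ξ₀ hξ₀ hm₀) hm₀
    have : D = D₀ := by exact_mod_cast hD.symm.trans hD₀
    omega
  · exact ⟨U, 0, hxU, fun ξ hξ hm => absurd ⟨ξ, hξ, hm⟩ hex⟩

end Groth.Agent.S6461
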