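
import Groth.Statements.S6462
import Groth.Agent.L22.LocQuotDim

set_option autoImplicit false
universe u
open CategoryTheory AlgebraicGeometry
open Cyc

namespace Groth.Agent.S6462

/-- Assume in addition that X is Jacobson and δ(x) = 0 for every closed point x. For a point ξ of X with
closure Z (an integral closed subscheme whose generic point is ξ) one then has δ(ξ) = dim Z = dim
O_{Z,z} for every closed point z of Z; here Z is the closure of ξ and O_{Z,z} = O_{X,z}/𝔭_ξ
(Cyc.LocQuot). (The published statement takes X locally of finite type over a Jacobson base with δ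
zero on the base's closed points; this row assumes instead that X is Jacobson and δ vanishes on the
closed points of X, which follows from the published hypotheses.) Here a pair (X, δ) with
Cyc.IsSetup plays the role of a scheme locally of finite type over the base (S, δ) (X locally
Noetherian with universally catenary local rings, δ a dimension function). -/
theorem result (X : Scheme.{u}) [JacobsonSpace X] (δ : X → ℤ) (hX : Cyc.IsSetup X δ) (h0 : ∀ x : X, IsClosed ({x} : Set X) → δ x = 0) (ξ : X) : (topologicalKrullDim ↥(closure ({ξ} : Set X)) = ((δ ξ).toNat : WithBot ℕ∞) ∧ 0 ≤ δ ξ) ∧ ∀ (z : X) (h : ξ ⤳ z), IsClosed ({z} : Set X) → ringKrullDim (Cyc.LocQuot z ξ h) = ((δ ξ).toNat : WithBot ℕ∞) := by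
  haveI := hX.1
  have hpos : ∀ y : X, 0 ≤ δ y := fun y => by
    obtain ⟨w, hw, hwc⟩ := nonempty_inter_closedPoints
      (show (closure ({y} : Set X)).Nonempty from ⟨y, subset_closure rfl⟩)
      (isClosed_closure.isLocallyClosed)
    have h1 : y ⤳ w := specializes_iff_mem_closure.2 hw
    rcases eq_or_ne y w with rfl | hne
    · exact (h0 y hwc).ge
    · have := (hX.2.2 y w h1 hne).1
      have := h0 w hwc
      omega
  have hloc : ∀ (z : X) (h : ξ ⤳ z), IsClosed ({z} : Set X) →
      ringKrullDim (Cyc.LocQuot z ξ h) = ((δ ξ).toNat : WithBot ℕ∞) := fun z h hz => by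
    obtain ⟨D, hD, -, -, hDd⟩ := Groth.L22.LocQuotDim.exists_dim_locQuot z ξ h
    have h1 := hDd δ hX.2.2
    have h2 := h0 z hz
    rw [hD, show (δ ξ).toNat = D by omega]
  refine ⟨⟨le_antisymm ?_ ?_, hpos ξ⟩, hloc⟩
  · refine iSup_le fun s => ?_
    have hgen : ∀ T : TopologicalSpace.IrreducibleCloseds (closure ({ξ} : Set X)),
        ∃ g : X, ξ ⤳ g ∧ closure {g} = Subtype.val '' (T : Set (closure ({ξ} : Set X))) := fun T => by
      have hirr : IsIrreducible (Subtype.val '' (T : Set (closure ({ξ} : Set X)))) :=
        T.isIrreducible.image _ continuous_subtype_val.continuousOn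
      have hcl : IsClosed (Subtype.val '' (T : Set (closure ({ξ} : Set X)))) :=
        isClosed_closure.isClosedEmbedding_subtypeVal.isClosedMap _ T.isClosed
      obtain ⟨g, hg⟩ := QuasiSober.sober hirr hcl
      refine ⟨g, specializes_iff_mem_closure.2 ?_, hg⟩
      obtain ⟨a, -, rfl⟩ := hg.mem
      exact a.2
    choose g hg1 hg2 using hgen
    have hstep : ∀ {T T'}, T < T' → δ (g T) < δ (g T') := fun {T T'} hT => by
      have hsub : closure {g T} ⊆ closure {g T'} := by
        rw [hg2, hg2]; exact Set.image_mono hT.le
      have hne : g T' ≠ g T := fun e => hT.ne <| SetLike.coe_injective <|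
        (Set.image_injective.2 Subtype.val_injective) (by rw [← hg2, ← hg2, e])
      exact (hX.2.2 (g T') (g T) (specializes_iff_mem_closure.2 (hsub (subset_closure rfl))) hne).1
    have hind : ∀ i : Fin (s.length + 1), ((i : ℕ) : ℤ) ≤ δ (g (s i)) := by
      intro i
      induction i using Fin.induction with
      | zero => exact hpos _
      | succ i ih =>
        have h1 := hstep (s.step i)
        simp only [Fin.val_succ, Fin.val_castSucc] at *
        push_cast
        omega
    have h1 := hind (Fin.last _)
    have h2 : δ (g (s (Fin.last _))) ≤ δ ξ := by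
      rcases eq_or_ne ξ (g (s (Fin.last _))) with e | e
      · rw [← e]
      · exact (hX.2.2 _ _ (hg1 _) e).1.le
    simp only [Fin.val_last] at h1
    have h3 : s.length ≤ (δ ξ).toNat := by omega
    exact_mod_cast h3
  · obtain ⟨z, hz, hzc⟩ := nonempty_inter_closedPoints
      (show (closure ({ξ} : Set X)).Nonempty from ⟨ξ, subset_closure rfl⟩)
      (isClosed_closure.isLocallyClosed)
    have h : ξ ⤳ z := specializes_iff_mem_closure.2 hz
    rw [← hloc z h hzc, ← PrimeSpectrum.topologicalKrullDim_eq_ringKrullDim]
    have hbot : ∀ p, Groth.L22.LocQuotDim.pt z ξ h p ∈ closure ({ξ} : Set X) := fun p => by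
      haveI := Groth.L22.DimFormula.isDomain_locQuot z ξ h
      refine specializes_iff_mem_closure.1 ?_
      exact (specializes_of_eq (Groth.L22.LocQuotDim.pt_bot z ξ h).symm).trans
        ((Groth.L22.LocQuotDim.pt_specializes_iff z ξ h _ _).2
          (show (⟨⊥, Ideal.isPrime_bot⟩ : PrimeSpectrum (Cyc.LocQuot z ξ h)) ≤ p from bot_le))
    exact ((((X.fromSpecStalk z).isEmbedding.comp
      (PrimeSpectrum.isClosedEmbedding_comap_of_surjective _ _
        Ideal.Quotient.mk_surjective).isEmbedding).codRestrict _ hbot).isInducing).topologicalKrullDim_le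

end Groth.Agent.S6462
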