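import Groth.Statements.S6463
import Groth.Agent.L20.DescLocus.AppIsoH0

set_option autoImplicit false
universe u
open CategoryTheory CategoryTheory.Limits AlgebraicGeometry
open PicF

set_option backward.isDefEq.respectTransparency.types false
namespace Groth.Agent.S6463

/-- For a field k and a smooth projective curve X over k that has a k-rational point σ, the conditions
under which the Picard functor is computed through the section are met: f : X → Spec k is flat,
proper and of finite presentation with a section, and O_T → f_{T,*} O_{X_T} is an isomorphism for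
every scheme T over k. Only the last assertion is stated (the others are part of the hypotheses or
immediate): for every t : T → Spec k, the sheaf map of the base change X ×_k T → T is an
isomorphism. Proper replaces projective (they agree for curves over a field). -/
theorem result (k : Type u) [Field k] (X : Scheme.{u}) (f : X ⟶ Spec (CommRingCat.of k)) (hX : Curve.IsSmoothProperCurve k X f) (σ : Spec (CommRingCat.of k) ⟶ X) (hσ : σ ≫ f = 𝟙 (Spec (CommRingCat.of k))) (T : Scheme.{u}) (t : T ⟶ Spec (CommRingCat.of k)) : IsIso (pullback.snd f t).c := by
  obtain ⟨hp, hs, hi, -⟩ := hX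
  haveI := hp
  haveI := hs
  haveI := hi
  haveI : LocallyOfFinitePresentation f := LocallyOfFinitePresentation.iff_locallyOfFiniteType.2 inferInstance
  haveI : Nonempty X := ⟨σ default⟩
  have hbij : Function.Bijective f.appTop := by
    have hF : IsField (Γ(X, ⊤) : Type u) := isField_of_universallyClosed k f
    letI := hF.toField
    have hinj : Function.Injective σ.appTop := by
      haveI : Nontrivial Γ(Spec (CommRingCat.of k), ⊤) :=
        (Scheme.ΓSpecIso (CommRingCat.of k)).commRingCatIsoToRingEquiv.toEquiv.nontrivial
      exact (σ.appTop).hom.injective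
    have hret : ∀ a, σ.appTop (f.appTop a) = a := fun a => by
      rw [← CategoryTheory.comp_apply, ← Scheme.Hom.comp_appTop, hσ, Scheme.Hom.id_appTop]
      rfl
    exact ⟨fun a b hab => by rw [← hret a, hab, hret], fun b => ⟨σ.appTop b, hinj (hret _)⟩⟩
  have hfib : ∀ (s : Spec (CommRingCat.of k)) (U : (Spec ((Spec (CommRingCat.of k)).residueField s)).Opens),
      IsIso ((f.fiberToSpecResidueField s).app U) := fun s U => by
    refine Groth.L20.DescLocus.isIso_app_of_appTop (k := (Spec (CommRingCat.of k)).residueField s)
      (f.fiberToSpecResidueField s) ?_ U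
    haveI : IsIso ((Spec (CommRingCat.of k)).fromSpecResidueField s) := by
      haveI : Subsingleton (Spec (CommRingCat.of k)) := inferInstanceAs (Subsingleton (PrimeSpectrum k))
      haveI : IsClosedImmersion ((Spec (CommRingCat.of k)).fromSpecResidueField s) :=
        IsClosedImmersion.of_isPreimmersion _ (Set.subsingleton_of_subsingleton.isClosed)
      haveI : Surjective ((Spec (CommRingCat.of k)).fromSpecResidueField s) :=
        ⟨fun t => ⟨default, Subsingleton.elim _ _⟩⟩
      exact isIso_of_isClosedImmersion_of_surjective _
    haveI : IsIso f.appTop := (ConcreteCategory.isIso_iff_bijective _).2 hbij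
    have hw : f.fiberι s ≫ f = f.fiberToSpecResidueField s ≫ (Spec (CommRingCat.of k)).fromSpecResidueField s :=
      f.fiber_fac s
    haveI : IsIso (f.fiberι s) := inferInstanceAs (IsIso (pullback.fst f _))
    haveI : IsIso (f.fiberι s).appTop := inferInstanceAs (IsIso ((f.fiberι s).app ⊤))
    haveI : IsIso ((Spec (CommRingCat.of k)).fromSpecResidueField s).appTop :=
      inferInstanceAs (IsIso (((Spec (CommRingCat.of k)).fromSpecResidueField s).app ⊤))
    haveI : IsIso (((Spec (CommRingCat.of k)).fromSpecResidueField s).appTop ≫ (f.fiberToSpecResidueField s).appTop) := by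
      rw [← Scheme.Hom.comp_appTop, ← hw, Scheme.Hom.comp_appTop]
      infer_instance
    haveI := IsIso.of_isIso_comp_left ((Spec (CommRingCat.of k)).fromSpecResidueField s).appTop
      (f.fiberToSpecResidueField s).appTop
    exact ConcreteCategory.bijective_of_isIso _
  haveI : ∀ V : T.Opensᵒᵖ, IsIso ((pullback.snd f t).c.app V) := fun V =>
    Groth.L20.DescLocus.isIso_app_universally f hfib (pullback.fst f t) (pullback.snd f t) t
      (IsPullback.of_hasPullback f t) V.unop
  exact NatIso.isIso_of_isIso_app (pullback.snd f t).c

end Groth.Agent.S6463
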