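
import Groth.Statements.S6476
import Groth.Agent.L22.Herbrand
import Groth.Agent.L22.DimOne

set_option autoImplicit false
universe u v
open CycAlg

namespace Groth.Agent.S6476

/-- Let A be a Noetherian local ring, M a finite A-module of dimension 1, and φ, ψ : M → M injective
with φ(ψ(M)) = ψ(φ(M)) (e.g. φ, ψ commute). Then length_A(M/φψM) is finite and (M/φψM, φ, ψ) is an
exact (2, 1)-periodic complex; here φ', ψ' denote the endomorphisms of M/φψM induced by φ and ψ, and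
exactness says both cohomology modules (CycAlg.perH) are trivial. -/
theorem result {A : Type u} [CommRing A] [IsNoetherianRing A] [IsLocalRing A] {M : Type v} [AddCommGroup M] [Module A M] [Module.Finite A M] (hdim : Module.supportDim A M = 1) (φ ψ : M →ₗ[A] M) (hφ : Function.Injective φ) (hψ : Function.Injective ψ) (hcomm : Submodule.map φ (LinearMap.range ψ) = Submodule.map ψ (LinearMap.range φ)) (φ' ψ' : (M ⧸ LinearMap.range (φ ∘ₗ ψ)) →ₗ[A] (M ⧸ LinearMap.range (φ ∘ₗ ψ))) (hφ' : φ' ∘ₗ (LinearMap.range (φ ∘ₗ ψ)).mkQ = (LinearMap.range (φ ∘ₗ ψ)).mkQ ∘ₗ φ) (hψ' : ψ' ∘ₗ (LinearMap.range (φ ∘ₗ ψ)).mkQ = (LinearMap.range (φ ∘ₗ ψ)).mkQ ∘ₗ ψ) : Module.length A (M ⧸ LinearMap.range (φ ∘ₗ ψ)) < ⊤ ∧ CycAlg.IsPeriodic φ' ψ' ∧ Subsingleton (CycAlg.perH φ' ψ') ∧ Subsingleton (CycAlg.perH ψ' φ') := by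
  have hφ'' := LinearMap.congr_fun hφ'
  have hψ'' := LinearMap.congr_fun hψ'
  simp only [LinearMap.comp_apply, Submodule.mkQ_apply] at hφ'' hψ''
  have hJψ : ∀ y, ψ (φ y) ∈ (LinearMap.range (φ ∘ₗ ψ)) := fun y => by
    have : ψ (φ y) ∈ Submodule.map φ (LinearMap.range ψ) :=
      hcomm ▸ Submodule.mem_map_of_mem ⟨y, rfl⟩
    obtain ⟨_, ⟨w, rfl⟩, hw⟩ := this
    exact ⟨w, hw⟩
  have hJφ : ∀ y ∈ (LinearMap.range (φ ∘ₗ ψ)), ∃ w, ψ (φ w) = y := fun y hy => by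
    obtain ⟨w, rfl⟩ := hy
    have : φ (ψ w) ∈ Submodule.map ψ (LinearMap.range φ) :=
      hcomm ▸ Submodule.mem_map_of_mem ⟨w, rfl⟩
    obtain ⟨_, ⟨v, rfl⟩, hv⟩ := this
    exact ⟨v, hv⟩
  refine ⟨Groth.L22.length_quot_range_lt_top hdim.le (φ ∘ₗ ψ) (hφ.comp hψ), ⟨?_, ?_⟩, ⟨fun a b => ?_⟩,
    ⟨fun a b => ?_⟩⟩
  · ext y
    simp only [LinearMap.comp_apply, Submodule.mkQ_apply, hψ'', hφ'', LinearMap.zero_apply]
    exact (Submodule.Quotient.mk_eq_zero _).2 ⟨y, rfl⟩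
  · ext y
    simp only [LinearMap.comp_apply, Submodule.mkQ_apply, hψ'', hφ'', LinearMap.zero_apply]
    exact (Submodule.Quotient.mk_eq_zero _).2 (hJψ y)
  · suffices h : ∀ p : CycAlg.perH φ' ψ', p = 0 by rw [h a, h b]
    intro p
    obtain ⟨⟨y, hy⟩, rfl⟩ := Groth.L22.hmk_surjective p
    obtain ⟨y, rfl⟩ := (LinearMap.range (φ ∘ₗ ψ)).mkQ_surjective y
    rw [LinearMap.mem_ker, Submodule.mkQ_apply, hφ'', Submodule.Quotient.mk_eq_zero] at hy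
    obtain ⟨w, hw⟩ := hy
    obtain rfl := hφ hw
    exact Groth.L22.hmk_eq_zero.2 ⟨Submodule.Quotient.mk w, by rw [hψ'']; rfl⟩
  · suffices h : ∀ p : CycAlg.perH ψ' φ', p = 0 by rw [h a, h b]
    intro p
    obtain ⟨⟨y, hy⟩, rfl⟩ := Groth.L22.hmk_surjective p
    obtain ⟨y, rfl⟩ := (LinearMap.range (φ ∘ₗ ψ)).mkQ_surjective y
    rw [LinearMap.mem_ker, Submodule.mkQ_apply, hψ'', Submodule.Quotient.mk_eq_zero] at hy
    obtain ⟨w, hw⟩ := hJφ _ hy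
    obtain rfl := hψ hw
    exact Groth.L22.hmk_eq_zero.2 ⟨Submodule.Quotient.mk w, by rw [hφ'']; rfl⟩

end Groth.Agent.S6476
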