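import Groth.Statements.S6480
import Groth.Agent.L22.QuotLength
import Groth.Agent.L22.Cyc.OrdFrac
import Mathlib.RingTheory.Ideal.AssociatedPrime.Finiteness
import Mathlib.RingTheory.KrullDimension.Module
import Mathlib.RingTheory.Ideal.Height
import Mathlib.Data.ENat.BigOperators
-- import your own Groth.Agent.* helpers here

set_option autoImplicit false
universe u
open CycAlg

namespace Groth.Agent.S6480

open Groth.L22.QuotLength IsLocalRing

section
variable {A : Type u} [CommRing A] [IsNoetherianRing A] [IsLocalRing A]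
  {M : Type u} [AddCommGroup M] [Module A M] [Module.Finite A M]

theorem eq_max_of_nzd_mem (hA : ringKrullDim A = 1) {p : PrimeSpectrum A} {x : A} (hx : x ∈ nonZeroDivisors A)
    (hxp : x ∈ p.asIdeal) : p.asIdeal = maximalIdeal A := by
  haveI : Ring.KrullDimLE 1 A := Ring.krullDimLE_iff.mpr hA.le
  rcases Ring.krullDimLE_one_iff.1 inferInstance p.asIdeal p.2 with h | h
  · exact absurd hx (Set.disjoint_left.mp (Ideal.disjoint_nonZeroDivisors_of_mem_minimalPrimes h) hxp)
  · exact eq_maximalIdeal h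

theorem smul_injective (hMemb : ∀ p ∈ associatedPrimes A M, p ∈ minimalPrimes A) {x : A}
    (hx : x ∈ nonZeroDivisors A) : Function.Injective (LinearMap.lsmul A M x) := by
  rw [injective_iff_map_eq_zero]
  intro m hm
  by_contra hne
  have hmem : x ∈ ⋃ p ∈ associatedPrimes A M, (p : Set A) := by
    rw [biUnion_associatedPrimes_eq_zero_divisors]
    exact ⟨m, hne, hm⟩
  obtain ⟨p, hp, hxp⟩ := Set.mem_iUnion₂.mp hmem
  exact Set.disjoint_left.mp (Ideal.disjoint_nonZeroDivisors_of_mem_minimalPrimes (hMemb p hp)) hxp hx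

theorem length_eq_sum (hA : ringKrullDim A = 1) (hsupp : Module.support A M = Set.univ)
    (hMemb : ∀ p ∈ associatedPrimes A M, p ∈ minimalPrimes A) {x : A} (hx : x ∈ nonZeroDivisors A) :
    Module.length A (M ⧸ LinearMap.range (LinearMap.lsmul A M x)) ≠ ⊤ ∧
    ((Module.length A (M ⧸ LinearMap.range (LinearMap.lsmul A M x))).toNat : ℤ) =
      ∑ᶠ (q : PrimeSpectrum A) (_ : q.asIdeal ∈ minimalPrimes A),
        ((Module.length (Localization.AtPrime q.asIdeal) (LocalizedModule q.asIdeal.primeCompl M)).toNat : ℤ) *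
          ((Ring.ord (A ⧸ q.asIdeal) (Ideal.Quotient.mk q.asIdeal x)).toNat : ℤ) := by
  have h1 : Module.supportDim A M ≤ 1 := (Module.supportDim_le_ringKrullDim A M).trans hA.le
  have h0 : ∀ p ∈ Module.support A M, x ∈ p.asIdeal → p.asIdeal = maximalIdeal A :=
    fun p _ hxp => eq_max_of_nzd_mem hA hx hxp
  obtain ⟨-, hfin⟩ := length_ker_ne_top M x h0
  refine ⟨hfin, ?_⟩
  have h := length_quot_eq M x h1 h0
  rw [LinearMap.ker_eq_bot.mpr (smul_injective hMemb hx), Module.length_bot, zero_add] at h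
  have hset : supp' (R := A) M = {q : PrimeSpectrum A | q.asIdeal ∈ minimalPrimes A} := by
    ext q
    simp only [supp', hsupp, Set.mem_univ, true_and, Set.mem_setOf_eq]
    haveI : Ring.KrullDimLE 1 A := Ring.krullDimLE_iff.mpr hA.le
    constructor
    · intro hne
      exact (Ring.krullDimLE_one_iff.1 inferInstance q.asIdeal q.2).resolve_right fun h => hne (eq_maximalIdeal h)
    · intro hq hmax
      have h0' : q.asIdeal.height = 0 := Ideal.height_eq_zero_iff.mpr hq
      have h2 := IsLocalRing.maximalIdeal_height_eq_ringKrullDim (R := A)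
      rw [← hmax, h0', hA] at h2
      exact zero_ne_one (WithBot.coe_injective h2)
  have hF : {q : PrimeSpectrum A | q.asIdeal ∈ minimalPrimes A}.Finite :=
    (minimalPrimes.finite_of_isNoetherianRing A).preimage fun a _ b _ h => PrimeSpectrum.ext h
  change ((Module.length A (M ⧸ LinearMap.range (LinearMap.lsmul A M x))).toNat : ℤ) =
    ∑ᶠ (q : PrimeSpectrum A) (_ : q ∈ {q : PrimeSpectrum A | q.asIdeal ∈ minimalPrimes A}), _
  rw [finsum_mem_eq_finite_toFinset_sum _ hF]
  rw [hset, finsum_mem_eq_finite_toFinset_sum _ hF] at h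
  rw [h] at hfin ⊢
  rw [ENat.toNat_sum fun q hq => ne_top_of_le_ne_top hfin (Finset.single_le_sum (fun _ _ => bot_le) hq), Nat.cast_sum]
  refine Finset.sum_congr rfl fun q _ => ?_
  rw [term, ENat.toNat_mul, Nat.cast_mul, mul_comm]
  rfl

end

/-- Let A be a Noetherian local ring of dimension 1, a, b ∈ A nonzerodivisors, A without embedded
primes, M a finite A-module without embedded associated primes and with Supp(M) = Spec(A). Put I =
{x ∈ A | x·(a/b) ∈ A}, and write 𝔮_1, …, 𝔮_t for the minimal prime ideals of A. The conclusion is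
that M contains (a/b)IM, and that the difference length_A(M/(a/b)IM) minus length_A(M/IM) equals the
sum over i of length_{A_{𝔮_i}}(M_{𝔮_i}) multiplied by ord_{A/𝔮_i}(a/b). Encoding: I is the ideal
quotient (bA : aA); '(a/b)IM ⊂ M' is aIM ⊆ bM; (a/b)IM is the submodule of m with bm ∈ aIM (b acts
injectively on M); ord_{A/𝔮}(a/b) is CycAlg.ordFrac on κ(𝔮) = Frac(A/𝔮); lengths are truncated to ℕ
(they are finite here). -/
theorem result {A : Type u} [CommRing A] [IsNoetherianRing A] [IsLocalRing A] (hA : ringKrullDim A = 1) {M : Type u} [AddCommGroup M] [Module A M] [Module.Finite A M] (a b : A) (ha : a ∈ nonZeroDivisors A) (hb : b ∈ nonZeroDivisors A) (hAemb : ∀ p ∈ associatedPrimes A A, p ∈ minimalPrimes A) (hMemb : ∀ p ∈ associatedPrimes A M, p ∈ minimalPrimes A) (hsupp : Module.support A M = Set.univ) (I : Ideal A) (hI : I = (Ideal.span {b}).colon (Ideal.span {a})) (P : Submodule A M) (hP : P = Submodule.comap (LinearMap.lsmul A M b) ((Ideal.span {a} * I) • (⊤ : Submodule A M))) : (Ideal.span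 {a} * I) • (⊤ : Submodule A M) ≤ LinearMap.range (LinearMap.lsmul A M b) ∧ ((Module.length A (M ⧸ P)).toNat : ℤ) - ((Module.length A (M ⧸ I • (⊤ : Submodule A M))).toNat : ℤ) = ∑ᶠ (q : PrimeSpectrum A) (_ : q.asIdeal ∈ minimalPrimes A), ((Module.length (Localization.AtPrime q.asIdeal) (LocalizedModule q.asIdeal.primeCompl M)).toNat : ℤ) * CycAlg.ordFrac (A ⧸ q.asIdeal) q.asIdeal.ResidueField (algebraMap A q.asIdeal.ResidueField a / algebraMap A q.asIdeal.ResidueField b) := by
  have hainj := smul_injective (M := M) hMemb ha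
  have hbinj := smul_injective (M := M) hMemb hb
  set R := (Ideal.span {a} * I) • (⊤ : Submodule A M) with hR
  have hbI : b ∈ I := by
    rw [hI, Submodule.mem_colon]
    intro z hz
    exact Ideal.mul_mem_right _ _ (Ideal.subset_span rfl)
  have hle : R ≤ LinearMap.range (LinearMap.lsmul A M b) := by
    refine Submodule.smul_le.mpr fun r hr m _ => ?_
    obtain ⟨i, hi, rfl⟩ := Ideal.mem_span_singleton_mul.mp hr
    rw [hI, Submodule.mem_colon] at hi
    obtain ⟨t, ht⟩ := Ideal.mem_span_singleton'.mp (hi a (Ideal.subset_span rfl))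
    refine ⟨t • m, ?_⟩
    change b • t • m = (a * i) • m
    rw [smul_smul, mul_comm b t, ht, smul_eq_mul, mul_comm i a]
  refine ⟨hle, ?_⟩
  obtain ⟨fa, ea⟩ := length_eq_sum hA hsupp hMemb ha
  obtain ⟨fb, eb⟩ := length_eq_sum hA hsupp hMemb hb
  -- lengths
  have hIM : Module.length A (M ⧸ I • (⊤ : Submodule A M)) ≠ ⊤ := by
    refine ne_top_of_le_ne_top fb (Module.length_le_of_surjective (Submodule.factor ?_) (Submodule.factor_surjective _))
    rintro _ ⟨m, rfl⟩
    exact Submodule.smul_mem_smul hbI (Submodule.mem_top (x := m))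
  have hRa : R = Submodule.map (LinearMap.lsmul A M a) (I • (⊤ : Submodule A M)) := by
    rw [hR, Submodule.mul_smul, Submodule.ideal_span_singleton_smul]
    rfl
  have hRb : Submodule.map (LinearMap.lsmul A M b) P = R := by
    rw [hP, Submodule.map_comap_eq, inf_eq_right.mpr hle]
  have key : ∀ (L : M →ₗ[A] M), Function.Injective L → ∀ Q : Submodule A M,
      Module.length A (M ⧸ Submodule.map L Q) =
        Module.length A (M ⧸ Q) + Module.length A (M ⧸ LinearMap.range L) := by
    intro L hL Q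
    have hQ : Submodule.map L Q ≤ LinearMap.range L := LinearMap.map_le_range
    rw [Groth.L22.OrdDet.length_quotient_of_le hQ]
    congr 1
    refine (Submodule.Quotient.equiv Q _ (LinearEquiv.ofInjective L hL) ?_).length_eq.symm
    ext ⟨z, hz⟩
    constructor
    · rintro ⟨x, hx, he⟩; exact ⟨x, hx, congrArg Subtype.val he⟩
    · rintro ⟨x, hx, he⟩; exact ⟨x, hx, Subtype.ext he⟩
  have k1 := key (LinearMap.lsmul A M a) hainj (I • (⊤ : Submodule A M))
  have k2 := key (LinearMap.lsmul A M b) hbinj P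
  rw [← hRa] at k1
  rw [hRb, k1] at k2
  have hPfin : Module.length A (M ⧸ P) ≠ ⊤ := by
    intro h
    rw [h, top_add] at k2
    exact WithTop.add_ne_top.mpr ⟨hIM, fa⟩ k2
  have k3 := congrArg ENat.toNat k2
  rw [ENat.toNat_add hIM fa, ENat.toNat_add hPfin fb] at k3
  have hd : ((Module.length A (M ⧸ P)).toNat : ℤ) - ((Module.length A (M ⧸ I • (⊤ : Submodule A M))).toNat : ℤ) =
      ((Module.length A (M ⧸ LinearMap.range (LinearMap.lsmul A M a))).toNat : ℤ) - ((Module.length A (M ⧸ LinearMap.range (LinearMap.lsmul A M b))).toNat : ℤ) := by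
    omega
  have hF : {q : PrimeSpectrum A | q.asIdeal ∈ minimalPrimes A}.Finite :=
    (minimalPrimes.finite_of_isNoetherianRing A).preimage fun a _ b _ h => PrimeSpectrum.ext h
  have conv : ∀ f : PrimeSpectrum A → ℤ, ∑ᶠ (q : PrimeSpectrum A) (_ : q.asIdeal ∈ minimalPrimes A), f q =
      ∑ q ∈ hF.toFinset, f q := fun f => finsum_mem_eq_finite_toFinset_sum f hF
  rw [hd, ea, eb, conv, conv, conv, ← Finset.sum_sub_distrib]
  refine Finset.sum_congr rfl fun q hq => ?_
  have hqmin : q.asIdeal ∈ minimalPrimes A := hF.mem_toFinset.mp hq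
  haveI : Ring.KrullDimLE 1 (A ⧸ q.asIdeal) := Ring.krullDimLE_iff.mpr
    ((ringKrullDim_quotient_le q.asIdeal).trans hA.le)
  have hne : ∀ x ∈ nonZeroDivisors A, Ideal.Quotient.mk q.asIdeal x ≠ 0 := fun x hx h =>
    Set.disjoint_left.mp (Ideal.disjoint_nonZeroDivisors_of_mem_minimalPrimes hqmin)
      (Ideal.Quotient.eq_zero_iff_mem.mp h) hx
  rw [IsScalarTower.algebraMap_apply A (A ⧸ q.asIdeal) q.asIdeal.ResidueField a,
    IsScalarTower.algebraMap_apply A (A ⧸ q.asIdeal) q.asIdeal.ResidueField b,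
    Ideal.Quotient.algebraMap_eq, Groth.L22.OrdDet.ordFrac_div (hne a ha) (hne b hb), mul_sub]

end Groth.Agent.S6480
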