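import Groth.Statements.S6481
import Groth.Agent.L07.FinExtGlue.Main

set_option autoImplicit false
set_option linter.style.haveILetI false
set_option backward.isDefEq.respectTransparency.types false
universe u
open CycAlg

namespace Groth.Agent.S6481

/-- Let (A, 𝔪) be a 2-dimensional Noetherian local ring, t ∈ 𝔪 a nonzerodivisor with V(t) = {𝔪, 𝔮_1, …,
𝔮_r}, and A_{𝔮_i} ⊂ B_i finite ring extensions with B_i/A_{𝔮_i} annihilated by a power of t and with
t a nonzerodivisor on each B_i. Then A admits some finite extension A ⊂ B whose quotient B/A is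
killed by some power of t, such that for every i the localization B_{𝔮_i} = B ⊗_A A_{𝔮_i} is
isomorphic to B_i (existence of an A_{𝔮_i}-algebra isomorphism; B itself is only asserted to exist).
(The published statement allows any finite ring extensions A_{𝔮_i} ⊂ B_i; this row asks t to be a
nonzerodivisor on each B_i, the case its proof treats, where B_i sits inside t^{-n}A_{𝔮_i}. The
published statement also makes B local with the same residue field as A; this row omits that
clause.) Finite extension with quotient killed by a power of t: CycAlg.IsFinExt with the ideal (t). -/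
theorem result (A : Type u) [CommRing A] [IsNoetherianRing A] [IsLocalRing A] (hA : ringKrullDim A = 2) (t : A) (ht : t ∈ IsLocalRing.maximalIdeal A) (htnz : t ∈ nonZeroDivisors A) (r : ℕ) (q : Fin r → Ideal A) (hq : ∀ i, (q i).IsPrime) (hinj : Function.Injective q) (hqm : ∀ i, q i ≠ IsLocalRing.maximalIdeal A) (htq : ∀ i, t ∈ q i) (hV : ∀ p : Ideal A, p.IsPrime → t ∈ p → p = IsLocalRing.maximalIdeal A ∨ ∃ i, p = q i) (B : Fin r → Type u) [∀ i, CommRing (B i)] [∀ i, Algebra (Localization.AtPrime (q i)) (B i)] (hB : ∀ i, CycAlg.IsFinExt (Localization.AtPrime (q i)) (B i) (Ideal.span {algebraMap A (Localization.AtPrime (q i)) t})) (htB : ∀ i, IsSMulRegular (B i) (algebraMap A (Localization.AtPrime (q i)) t)) : ∃ (C : Type u) (_ : CommRing C) (_ : Algebra A C), CycAlg.IsFinExt A C (Ideal.span {t}) ∧ ∀ i, Nonempty (TensorProduct A (Localization.AtPrime (q i)) C ≃ₐ[Localization.AtPrime (q i)] B i) := by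
  classical
  letI : ∀ i, Algebra A (B i) := fun i =>
    ((algebraMap (Localization.AtPrime (q i)) (B i)).comp (algebraMap A (Localization.AtPrime (q i)))).toAlgebra
  haveI : ∀ i, IsScalarTower A (Localization.AtPrime (q i)) (B i) := fun i => IsScalarTower.of_algebraMap_eq fun _ => rfl
  choose hinjB hfinB n hn using hB
  let N : ℕ := Finset.univ.sup n
  have hN : ∀ i (b : B i), ∃ α, algebraMap (Localization.AtPrime (q i)) (B i) α = t ^ N • b := fun i b => by
    have hmem : algebraMap A (Localization.AtPrime (q i)) (t ^ N) ∈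
        Ideal.span {algebraMap A (Localization.AtPrime (q i)) t} ^ n i := by
      rw [Ideal.span_singleton_pow, map_pow, Ideal.mem_span_singleton]
      exact pow_dvd_pow _ (Finset.le_sup (Finset.mem_univ i))
    obtain ⟨α, hα⟩ := hn i _ hmem b
    exact ⟨α, hα.trans (IsScalarTower.algebraMap_smul _ _ _)⟩
  have htB' : ∀ i (b : B i), algebraMap A (B i) t * b = 0 → b = 0 := fun i b hb => by
    apply htB i
    show algebraMap A (Localization.AtPrime (q i)) t • b = algebraMap A (Localization.AtPrime (q i)) t • (0 : B i)
    rw [smul_zero, Algebra.smul_def, ← IsScalarTower.algebraMap_apply]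
    exact hb
  have hjq : ∀ i j, j ≠ i → ∃ v ∈ q j, v ∉ q i := fun i j hji => SetLike.not_le_iff_exists.1 fun hle =>
    haveI := hq i
    haveI := hq j
    hji (hinj (Groth.L07.FinExtGlue.eq_of_le hA htnz (htq j) (hqm i) hle))
  obtain ⟨D, hD, hiso⟩ := Groth.L07.FinExtGlue.exists_finExt t q B htnz hinjB htB' hN hjq
    (fun j v hv => Groth.L07.FinExtGlue.exists_pow_mem_span t q hA htnz hinj hqm htq hV N j v hv)
  exact ⟨D, inferInstance, inferInstance, hD, hiso⟩

end Groth.Agent.S6481
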