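import Groth.Statements.S6488
import Groth.Agent.L16.Deform.Exist
import Groth.Agent.L16.Deform.Identity

set_option autoImplicit false
universe u
open CategoryTheory AlgebraicGeometry
open Cyc

namespace Groth.Agent.S6488

/-- Let (L, s, i : D → X) be a triple defining a Gysin map. There is a commutative diagram with i' : D'
→ X', p : D' → D, g : X' → X (p ≫ i = i' ≫ g) such that (1) p and g are flat, of finite type, with
all fibre components of dimension 1, (2) p^* : CH_k(D) → CH_{k+1}(D') is injective for all k, (3) i'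
identifies D' with the vanishing scheme in X' of a single global function s' ∈ Γ(X', O_{X'}), and
(4) p^* ∘ i^* = (i')^* ∘ g^* : CH_{k+1}(X) → CH_{k+1}(D'). Dimension functions on X', D' are the
induced ones; Gysin maps are computed as c_1 ∩ − with the sections s, s' where nonzero and arbitrary
nonzero fallbacks. (The published statement adds that these properties survive any base change Y → X
locally of finite type; this row omits that addendum.) Here a pair (X, δ) with Cyc.IsSetup plays the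
role of a scheme locally of finite type over the base (S, δ) (X locally Noetherian with universally
catenary local rings, δ a dimension function), and Cyc.DeltaCompat records that the dimension
function upstairs is the induced one. -/
theorem result (X D : Scheme.{u}) (δ : X → ℤ) (hX : Cyc.IsSetup X δ) (L : X.Modules) (hL : PicF.IsInvertible L) (s : L.presheaf.obj (Opposite.op ⊤)) (i : D ⟶ X) [IsClosedImmersion i] (hD : Cyc.IsZeroSchemeOf i L s) : ∃ (X' D' : Scheme.{u}) (i' : D' ⟶ X') (p : D' ⟶ D) (g : X' ⟶ X) (_ : IsClosedImmersion i') (_ : Flat p) (_ : Flat g) (_ : LocallyOfFiniteType p) (_ : LocallyOfFiniteType g) (_ : QuasiCompact p) (_ : QuasiCompact g) (δX' : X' → ℤ) (δD' : D' → ℤ) (s' : (Coh.structureModule X').presheaf.obj (Opposite.op ⊤)), i' ≫ g = p ≫ i ∧ Cyc.IsSetup X' δX' ∧ Cyc.DeltaCompat g δX' δ ∧ (∀ d', δD' d' = δX' (i' d')) ∧ Cyc.HasRelDim p 1 ∧ Cyc.HasRelDim g 1 ∧ Cyc.IsZeroSchemeOf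 i' (Coh.structureModule X') s' ∧ (∀ (k : ℤ) (β : AlgebraicCycle D ℤ), β ∈ Cyc.Zk D (fun d => δ (i d)) k → ∀ β' : AlgebraicCycle D' ℤ, ⇑β' = Cyc.pullFun p δD' (fun d => δ (i d)) 1 ⇑β → Cyc.RatEquivZero δD' (k + 1) β' → Cyc.RatEquivZero (fun d => δ (i d)) k β) ∧ ∀ (k : ℤ) (α : AlgebraicCycle X ℤ), α ∈ Cyc.Zk X δ (k + 1) → ∀ (w : (ξ : X) → Cyc.secFibre L ξ), (∀ ξ, w ξ ≠ 0) → ∀ (w' : (ξ : X') → Cyc.secFibre (Coh.structureModule X') ξ), (∀ ξ, w' ξ ≠ 0) → ∀ ζ₁ ζ₂ : AlgebraicCycle D' ℤ, ⇑ζ₁ = Cyc.pullFun p δD' (fun d => δ (i d)) 1 (fun d => Cyc.c1CapFun δ L ⇑α (Cyc.gysinChoice L s w) (i d)) → (∀ d', ζ₂ d' = Cyc.c1CapFun δX' (Coh.structureModule X') (Cyc.pullFun g δX' δ 1 ⇑α) (Cyc.gysinChoice (Coh.structureModule X') s' w') (i' d')) → Cyc.RatEquiv δD' (k + 1) ζ₁ ζ₂ := by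
  obtain ⟨P, π, t, l, H⟩ := Groth.L16.Deform.exists_model i hL hD
  obtain ⟨Mz, U, E, ι, iU, j, j', p, hz⟩ := H.exists_zeros
  haveI := hz.closed_ι
  haveI := hz.closed_j
  obtain ⟨⟨hgf, hgl, hgq, hg1⟩, hpf, hpl, hpq, hp1⟩ := hz.props H
  obtain ⟨δM, hM, hgc⟩ := Groth.L22.Cyc.exists_setup (ι ≫ π) hX
  let δE : E → ℤ := fun e => δM (j e)
  let δ₀ : D → ℤ := fun d => δ (i d)
  have hE : Cyc.IsSetup E δE := Groth.L22.C1.isSetup_closedImmersion j hM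
  have hD₀ : Cyc.IsSetup D δ₀ := Groth.L22.C1.isSetup_closedImmersion i hX
  have hpc : Cyc.DeltaCompat p δE δ₀ := hz.deltas hgc rfl rfl
  have h1 : ((1 : ℕ) : ℤ) = 1 := Nat.cast_one
  refine ⟨Mz, E, j, p, ι ≫ π, inferInstance, hpf, hgf, hpl, hgl, hpq, hgq, δM, δE, Groth.L16.Deform.funSec (ι.appTop t),
    by rw [← hz.sq'.w, hz.sq.w_assoc], hM, hgc, fun _ => rfl, hp1, hg1, hz.zero_j, ?_, ?_⟩
  · intro k β hβ β' hβ' h0
    have hm : β' ∈ Cyc.Zk E δE (k + ((1 : ℕ) : ℤ)) :=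
      Bivar.pullFun_mem_Zk p δE δ₀ _ k hβ β' (by rw [h1]; exact hβ')
    have hP := Groth.L16.BivarOps.pullOp_cl p hp1 hE hD₀ hpc β hβ β' (by rw [h1]; exact hβ') hm
    have hz0 : ChowOps.cl β' hm = 0 := by
      refine (Groth.L16.BivarOps.cl_eq_of_rat (b := 0) _ (ChowOps.zk E δE _).zero_mem ?_).trans Bivar.cl_zero
      show Cyc.RatEquivZero δE (k + ((1 : ℕ) : ℤ)) (β' - 0)
      rw [sub_zero, h1]
      exact h0
    have h2 : ChowOps.cl β hβ = ChowOps.cl 0 (ChowOps.zk D δ₀ k).zero_mem :=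
      (hz.pullOp_injective H hp1 hE hD₀ hpc ((hP.trans hz0).trans (map_zero _).symm)).trans Bivar.cl_zero.symm
    have h3 : Cyc.RatEquivZero δ₀ k (β - 0) := Groth.L16.BivarOps.rat_of_cl_eq hD₀ _ _ h2
    rw [sub_zero] at h3
    exact h3
  · intro k α hα w hw w' hw' ζ₁ ζ₂ hζ₁ hζ₂
    obtain ⟨α₁, hα₁⟩ := Groth.L16.BivarOps.exists_pullCycle (ι ≫ π) hg1 hM hgc α
    have hm₁ := Bivar.pullFun_mem_Zk (ι ≫ π) δM δ _ (k + 1) hα α₁ hα₁
    obtain ⟨γ, hγ⟩ := Groth.L16.BivarOps.exists_gysin i hX hL (σ := s) α w hw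
    have hγm : γ ∈ Cyc.Zk D δ₀ (k + 1 - 1) := Groth.L16.BivarOps.gysin_mem rfl hα hγ
    have hζ₁' : ⇑ζ₁ = Cyc.pullFun p δE δ₀ ((1 : ℕ) : ℤ) ⇑γ := by rw [h1, hζ₁, funext hγ]
    have hζ₁m := Bivar.pullFun_mem_Zk p δE δ₀ _ (k + 1 - 1) hγm ζ₁ hζ₁'
    have hζ₂' : ∀ e, ζ₂ e = Cyc.c1CapFun δM (Coh.structureModule Mz) ⇑α₁
        (Cyc.gysinChoice (Coh.structureModule Mz) (Groth.L16.Deform.funSec (ι.appTop t)) w') (j e) := fun e => by
      rw [hζ₂, hα₁, h1]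
    have e : k + 1 + ((1 : ℕ) : ℤ) - 1 = k + 1 - 1 + ((1 : ℕ) : ℤ) := by ring
    have h := hz.identity H hg1 hp1 hL hD (Iso.refl _) hX hM hE hD₀ hgc hpc rfl rfl e (ChowOps.cl α hα)
    rw [Groth.L16.BivarOps.pullOp_cl (ι ≫ π) hg1 hM hX hgc α hα α₁ hα₁ hm₁,
      Groth.L16.BivarOps.gysinOp_cl j hM rfl _ hz.zero_j α₁ hm₁ w' hw' ζ₂ hζ₂'
        (Groth.L16.BivarOps.gysin_mem rfl hm₁ hζ₂'),
      Groth.L16.BivarOps.gysinOp_cl i hX rfl hL hD α hα w hw γ hγ hγm,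
      Groth.L16.BivarOps.pullOp_cl p hp1 hE hD₀ hpc γ hγm ζ₁ hζ₁' hζ₁m, Bivar.chCast_cl] at h
    have h4 := Groth.L16.BivarOps.rat_of_cl_eq hE _ _ h.symm
    rwa [show k + 1 - 1 + ((1 : ℕ) : ℤ) = k + 1 by simp] at h4
end Groth.Agent.S6488
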