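import Groth.Statements.S6492
import Groth.Agent.L22.Moving.Family

set_option autoImplicit false
universe u
open CategoryTheory CategoryTheory.Limits AlgebraicGeometry
attribute [local instance] HasDerivedCategory.standard
open IntMult

namespace Groth.Agent.S6492

/-- Let C ⊂ P^N be a closed subvariety, X ⊂ P^N a closed subvariety and T_i ⊂ X (i ∈ I finite) closed
subvarieties, with C and X intersecting properly. Then one can find a closed subvariety C' of P^N ×
P^1 with the following properties: (1) the projection from C' to P^1 is dominant, (2) as schemes,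
the fibre C'_0 coincides with C, (3) the intersection of C' with X × P^1 is proper, (4) every T_i
meets the fibre C'_∞ properly. Encoding: P^N = CohB1.ProjSpace N K and P^N × P^1 =
CohB1.ProjSpaceOver 1 P^N with dimension functions δP, δ' (transcendence degree); subvarieties by
generic points, dimensions c = δP(ξ_C), n, d_i; (1) is recorded as dim C' = c + 1, which together
with (2) is equivalent to dominance; (2) says the pullback of C' along the zero section is reduced
with support the closure of ξ_C; proper intersection is the dimension inequality IntMult.ProperInt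
in the ambient P^N × P^1 (dim N + 1), resp. P^N. -/
theorem result (K : Type u) [Field K] [IsAlgClosed K] (N : ℕ) (δP : ↥(CohB1.ProjSpace N K) → ℤ) (hP : Cyc.IsSetup (CohB1.ProjSpace N K) δP) (hδP : Cyc.DeltaCompat (CohB1.ProjSpace.toSpec N K) δP (fun _ => 0)) (δ' : ↥(CohB1.ProjSpaceOver 1 (CohB1.ProjSpace N K)) → ℤ) (hP' : Cyc.IsSetup (CohB1.ProjSpaceOver 1 (CohB1.ProjSpace N K)) δ') (hδ' : Cyc.DeltaCompat (CohB1.ProjSpaceOver.toBase 1 (CohB1.ProjSpace N K)) δ' δP) (ξC : ↥(CohB1.ProjSpace N K)) (c : ℕ) (hc : δP ξC = c) (X : Scheme.{u}) [IsIntegral X] (ι : X ⟶ CohB1.ProjSpace N K) [IsClosedImmersion ι] (n : ℕ) (hn : δP (ι (genericPoint X)) = n) (m : ℕ) (T : Fin m → X) (d : Fin m → ℕ) (hd : ∀ i, δP (ι (T i)) = d i) (hCX : IntMult.ProperInt (closure {ξC}) (Set.range ⇑ι) N c n) : ∃ (C' : Scheme.{u}) (_ : IsIntegral C') (ι' : C' ⟶ CohB1.ProjSpaceOver 1 (CohB1.ProjSpace N K)) (_ : IsClosedImmersion ι'), δ' (ι' (genericPoint C')) = c + 1 ∧ IsReduced (pullback ι' (P1.sect (CohB1.ProjSpace N K) 0)) ∧ Set.range ⇑(pullback.snd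 ι' (P1.sect (CohB1.ProjSpace N K) 0)) = closure {ξC} ∧ IntMult.ProperInt (closure {ι' (genericPoint C')}) (⇑(CohB1.ProjSpaceOver.toBase 1 (CohB1.ProjSpace N K)) ⁻¹' Set.range ⇑ι) (N + 1) (c + 1) (n + 1) ∧ ∀ i : Fin m, IntMult.ProperInt (Set.range ⇑(pullback.snd ι' (P1.sect (CohB1.ProjSpace N K) 1))) (closure {ι (T i)}) N c (d i) := by
  classical
  haveI := hP.1
  haveI := hP'.1
  haveI : LocallyOfFiniteType (CohB1.ProjSpace.toSpec N K) :=
    (Groth.L16.ProjSpace.isProper_toSpec N K).toLocallyOfFiniteType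
  haveI : LocallyOfFiniteType (CohB1.ProjSpaceOver.toBase 1 (CohB1.ProjSpace N K) ≫ CohB1.ProjSpace.toSpec N K) :=
    inferInstance
  let tb := CohB1.ProjSpaceOver.toBase 1 (CohB1.ProjSpace N K)
  have hδ'K : Cyc.DeltaCompat (tb ≫ CohB1.ProjSpace.toSpec N K) δ' (fun _ => 0) :=
    Groth.L22.IntMult.P1F.deltaCompat_trans _ _ hδ' hδP
  have hX : Set.range ⇑ι = closure {ι (genericPoint X)} := by
    refine Set.Subset.antisymm ?_ (closure_minimal (Set.singleton_subset_iff.2 ⟨_, rfl⟩) ι.isClosedEmbedding.isClosed_range)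
    rintro _ ⟨x, rfl⟩
    exact specializes_iff_mem_closure.1 ((genericPoint_specializes x).map ι.continuous)
  rw [hX] at hCX ⊢
  have hcN' : c ≤ N := by
    have hdim : topologicalKrullDim (Set.univ : Set ↥(CohB1.ProjSpace N K)) ≤ (N : WithBot ℕ∞) :=
      ((Homeomorph.Set.univ _).isHomeomorph.topologicalKrullDim_eq.trans
        (Groth.L16.ProjSpace.topologicalKrullDim_eq_of_field N K)).le
    have h := Groth.L22.Moving.delta_le_of_dim (CohB1.ProjSpace.toSpec N K) δP hδP isClosed_univ N hdim
      (Set.mem_univ ξC)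
    omega
  rcases hcN'.lt_or_eq with hcN | hcN
  · obtain ⟨ζ, h1, h2, h3, h4, h5⟩ := Groth.L22.Moving.exists_family hP hδP hP' hδ' ξC c hc hcN
      (ι (genericPoint X)) n hn (fun i => ι (T i)) d hd hCX
    let I := IntMult.ptIdeal ζ
    haveI : IsIntegral I.subscheme := Groth.L08.Cube.isIntegral_vanishingIdeal _ isIrreducible_singleton.closure
    have hr : Set.range I.subschemeι = closure {ζ} := by
      rw [Scheme.IdealSheafData.range_subschemeι]
      ext x
      rw [show I = Scheme.IdealSheafData.vanishingIdeal ⟨closure {ζ}, isClosed_closure⟩ from rfl,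
        Scheme.IdealSheafData.coe_support_vanishingIdeal]
      rfl
    have hgen : I.subschemeι (genericPoint I.subscheme) = ζ := by
      refine Inseparable.eq (Specializes.antisymm ?_ ?_)
      · obtain ⟨x, hx⟩ := hr.ge (subset_closure (Set.mem_singleton ζ))
        rw [← hx]
        exact (genericPoint_specializes x).map I.subschemeι.continuous
      · exact specializes_iff_mem_closure.2 (hr.le ⟨_, rfl⟩)
    refine ⟨I.subscheme, inferInstance, I.subschemeι, inferInstance, by rw [hgen, h1], h2 _ _ hr, ?_, ?_, fun i => ?_⟩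
    · rw [Scheme.Pullback.range_snd, hr]
      ext z
      rw [Set.mem_preimage, ← specializes_iff_mem_closure, ← specializes_iff_mem_closure]
      exact h3 z
    · rw [hgen]
      rintro ⟨q, hq, hqX⟩
      have hb := h4 q (specializes_iff_mem_closure.2 hq) (specializes_iff_mem_closure.2 hqX)
      obtain ⟨e, -, he⟩ := Groth.Agent.S1919.delta_eq_dim K _ _ δ' hδ'K q
      refine ⟨by omega, Groth.L22.Moving.dim_le_of_delta _ δ' hδ'K
        (isClosed_closure.inter (isClosed_closure.preimage tb.continuous)) _ fun q' hq' => ?_⟩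
      have := h4 q' (specializes_iff_mem_closure.2 hq'.1) (specializes_iff_mem_closure.2 hq'.2)
      omega
    · rw [Scheme.Pullback.range_snd, hr]
      rintro ⟨z, hz, hzT⟩
      have hb := h5 i z (specializes_iff_mem_closure.2 hz) (specializes_iff_mem_closure.2 hzT)
      obtain ⟨e, -, he⟩ := Groth.Agent.S1919.delta_eq_dim K _ _ δP hδP z
      refine ⟨by omega, Groth.L22.Moving.dim_le_of_delta _ δP hδP
        ((isClosed_closure.preimage (P1.sect _ 1).continuous).inter isClosed_closure) _ fun z' hz' => ?_⟩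
      have := h5 i z' (specializes_iff_mem_closure.2 hz'.1) (specializes_iff_mem_closure.2 hz'.2)
      omega
  · haveI : Smooth (CohB1.ProjSpace.toSpec N K) := Groth.L16.ProjSpace.smooth_toSpec N K
    haveI : IsIntegral (CohB1.ProjSpace N K) := Groth.L16.ProjSpace.isIntegral N K
    haveI := Groth.L22.IntMult.P1F.isIntegral_line (CohB1.ProjSpace N K) (CohB1.ProjSpace.toSpec N K)
    obtain ⟨e, he, hδe⟩ := Groth.Agent.S1919.delta_eq_dim K _ _ δP hδP (genericPoint (CohB1.ProjSpace N K))
    rw [genericPoint_closure, (Homeomorph.Set.univ _).isHomeomorph.topologicalKrullDim_eq,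
      Groth.L16.ProjSpace.topologicalKrullDim_eq_of_field] at he
    have hNe : N = e := by exact_mod_cast he
    have hgen : genericPoint (CohB1.ProjSpace N K) = ξC := by
      by_contra hne
      have := (hP.2.2 _ _ (genericPoint_specializes ξC) hne).1
      omega
    refine ⟨CohB1.ProjSpaceOver 1 (CohB1.ProjSpace N K), inferInstance, 𝟙 _, inferInstance, ?_, ?_, ?_, ?_, fun i => ?_⟩
    · show δ' (genericPoint _) = _
      rw [Groth.L22.IntMult.P1F.delta_genericPoint (CohB1.ProjSpace N K) δP δ' hδ' hP', hgen, hc]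
    · exact isReduced_of_isOpenImmersion
        (pullback.snd (𝟙 (CohB1.ProjSpaceOver 1 (CohB1.ProjSpace N K))) (P1.sect (CohB1.ProjSpace N K) 0))
    · rw [Scheme.Pullback.range_snd, ← hgen, genericPoint_closure]
      exact Set.eq_univ_of_forall fun z => ⟨_, rfl⟩
    · rintro ⟨q, -, hqX⟩
      refine ⟨by omega, Groth.L22.Moving.dim_le_of_delta _ δ' hδ'K
        (isClosed_closure.inter (isClosed_closure.preimage tb.continuous)) _ fun q' hq' => ?_⟩
      obtain ⟨η, hη, hηgen⟩ := Groth.L22.IntMult.P1F.exists_fibre_gen (CohB1.ProjSpace N K) (tb q')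
      have h1 : δ' η = δP (tb q') + 1 :=
        Groth.L22.IntMult.P1F.delta_fibre_gen (CohB1.ProjSpace N K) δP δ' hδ' hP' hη hηgen
      have h2 : δ' q' ≤ δ' η := by
        by_cases e : η = q'
        · rw [e]
        · exact (hP'.2.2 η q' (hηgen q' rfl) e).1.le
      have h3 : δP (tb q') ≤ δP (ι (genericPoint X)) := by
        by_cases e : ι (genericPoint X) = tb q'
        · rw [← e]
        · exact (hP.2.2 _ _ (specializes_iff_mem_closure.2 hq'.2) e).1.le
      omega
    · rintro ⟨z, -, hzT⟩
      refine ⟨by omega, Groth.L22.Moving.dim_le_of_delta _ δP hδP ((pullback.snd (𝟙 _) (P1.sect (CohB1.ProjSpace N K) 1)).isClosedEmbedding.isClosed_range.inter isClosed_closure) _ fun z' hz' => ?_⟩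
      have h3 : δP z' ≤ δP (ι (T i)) := by
        by_cases e : ι (T i) = z'
        · rw [← e]
        · exact (hP.2.2 _ _ (specializes_iff_mem_closure.2 hz'.2) e).1.le
      have := hd i
      omega

end Groth.Agent.S6492
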