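
import Groth.Statements.S6495
import Groth.Agent.L22.Cyc.Limit

set_option autoImplicit false
universe u
open CategoryTheory AlgebraicGeometry
open Cyc

namespace Groth.Agent.S6495

/-- Surjectivity of colim Z_k(X_i) → Z_k(X'): every k-cycle α' on the limit X' is g_i^*α for some i and
some k-cycle α on X_i, where g_i : X' → X_i is the projection and g_i^* the shift-0 base-change
pullback on coefficient functions. Setting: a directed inverse system (X_i) of quasi-compact schemes
with affine flat transition morphisms and limit X' (a limit cone), each X_i and X' carrying a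
dimension function with Cyc.IsSetup, and every transition map and every projection X' → X_i shifting
the dimension functions by c = 0 at generic points of fibres, so that the base-change pullbacks g^*
are Cyc.pullFun with shift 0. (The published statement takes X_i and X′ to be the base changes of
one quasi-compact scheme of finite type over a base S along S_i → S and lim S_i → S; this row allows
any such inverse system.) -/
theorem result (I : Type u) [Preorder I] [IsDirected I (fun a b => a ≤ b)] [Nonempty I] (D : Iᵒᵖ ⥤ Scheme.{u}) (c : Limits.Cone D) (hc : Limits.IsLimit c) (haff : ∀ (i j : Iᵒᵖ) (f : i ⟶ j), IsAffineHom (D.map f)) (hflat : ∀ (i j : Iᵒᵖ) (f : i ⟶ j), Flat (D.map f)) (hqc : ∀ i, CompactSpace ↥(D.obj i)) (δ : (i : Iᵒᵖ) → ↥(D.obj i) → ℤ) (δ' : ↥c.pt → ℤ) (hset : ∀ i, Cyc.IsSetup (D.obj i) (δ i)) (hset' : Cyc.IsSetup c.pt δ') (hshift : ∀ (i j : Iᵒᵖ) (f : i ⟶ j) (x : ↥(D.obj i)), (∀ y, D.map f y = D.map f x → y ⤳ x → y = x) → δ i x = δ j (D.map f x)) (hflat' : ∀ i,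 Flat (c.π.app i)) (hshift' : ∀ (i : Iᵒᵖ) (x : ↥c.pt), (∀ y, c.π.app i y = c.π.app i x → y ⤳ x → y = x) → δ' x = δ i (c.π.app i x)) (k : ℤ) (α' : AlgebraicCycle c.pt ℤ) (hα' : α' ∈ Cyc.Zk c.pt δ' k) : ∃ (i : Iᵒᵖ) (α : AlgebraicCycle (D.obj i) ℤ), α ∈ Cyc.Zk (D.obj i) (δ i) k ∧ Cyc.pullFun (c.π.app i) δ' (δ i) 0 ⇑α = ⇑α' := by
  classical
  haveI : ∀ {a b : Iᵒᵖ} (g : a ⟶ b), IsAffineHom (D.map g) := fun {a b} g => haff a b g
  haveI := hqc; haveI := hflat'; haveI : IsLocallyNoetherian c.pt := hset'.1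
  haveI : CompactSpace c.pt := Scheme.compactSpace_of_isLimit _ _ hc
  let S := (Groth.L22.Cyc.finite_support α').toFinset
  have hS : ∀ x, x ∈ S ↔ α' x ≠ 0 := fun x => (Groth.L22.Cyc.finite_support α').mem_toFinset
  obtain ⟨i, hi⟩ := Groth.L22.Cyc.exists_forall_obj (P := fun i x => Groth.L22.Cyc.Good c i x)
    (fun g _ h => h.mono g) S (fun x _ => Groth.L22.Cyc.exists_good hc x)
  let π := Groth.L22.Cyc.proj c i
  let α : AlgebraicCycle (D.obj i) ℤ :=
    ∑ x ∈ S, Function.locallyFinsuppWithin.single (π x) (α' x)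
  have hα : ∀ t, α t = ∑ x ∈ S, if t = π x then α' x else 0 := fun t => by
    simp [α, Finset.sum_apply, Pi.single_apply]
  have hinj : ∀ x ∈ S, ∀ y ∈ S, π x = π y → x = y := fun x hx y hy h =>
    (((hi x hx).2 y h.symm).antisymm ((hi y hy).2 x h)).eq
  refine ⟨i, α, fun t ht => ?_, ?_⟩
  · rw [hα]
    refine Finset.sum_eq_zero fun x hx => if_neg fun h => ht ?_
    rw [h]
    show δ i (π x) = k
    rw [← hshift' i x (hi x hx).fibGen]
    by_contra hk
    exact (hS x).1 hx (hα' x hk)
  refine (Groth.L22.Cyc.pullFun_eq π hset'.2.2 (δY := δ i) (c := 0)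
    (fun z hz => by rw [add_zero]; exact hshift' i z hz) ⇑α).trans (funext fun z => ?_)
  by_cases hz : ∃ x ∈ S, π z = π x
  · obtain ⟨x, hx, hzx⟩ := hz
    rw [hα, hzx, Finset.sum_eq_single x (fun y hy hyx => if_neg fun h => hyx (hinj y hy x hx h.symm))
      (fun h => absurd hx h), if_pos rfl]
    by_cases hzg : Groth.L22.Cyc.FibGen π z
    · have : x = z := hzg x hzx.symm ((hi x hx).2 z hzx)
      subst this
      rw [(hi x hx).mult_eq_one]
      simp
    · rw [Groth.L22.Cyc.mult_eq_top hzg]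
      have hne : z ≠ x := fun h => hzg (h ▸ (hi x hx).fibGen)
      have : z ∉ S := fun h => hne (hinj z h x hx hzx)
      rw [hS, not_not] at this
      simp [this]
  · rw [hα, Finset.sum_eq_zero fun x hx => if_neg fun h => hz ⟨x, hx, h⟩, zero_mul]
    exact (not_not.1 fun h => hz ⟨z, (hS z).2 h, rfl⟩).symm

end Groth.Agent.S6495
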