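import Groth.Statements.S6500
import Groth.Agent.L22.TorPd
import Groth.Agent.L21.Smooth.Scheme
import Groth.Agent.L15.CohFlat
import Groth.Agent.L04.RegularPd
-- import your own Groth.Agent.* helpers here

set_option autoImplicit false
universe u
open CategoryTheory CategoryTheory.Limits AlgebraicGeometry
attribute [local instance] HasDerivedCategory.standard
open IntMult

namespace Groth.Agent.S6500

/-- Let X be a nonsingular variety of dimension n and F, G coherent O_X-modules. The Tor sheaves
Tor_p^{O_X}(F, G), whose stalks are Tor_p^{O_{X,x}}(F_x, G_x), are nonzero only for p ∈ {0, …, n}: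
for every point x and every p > n, Tor_p^{O_{X,x}}(F_x, G_x) = 0. (Coherence of the Tor sheaves and
the support statement are not restated.) Nonsingular variety: X → Spec K smooth, separated,
quasi-compact, X integral, K algebraically closed; n = dim X. -/
theorem result (K : Type u) [Field K] [IsAlgClosed K] (X : Scheme.{u}) (f : X ⟶ Spec (CommRingCat.of K)) [Smooth f] [IsSeparated f] [QuasiCompact f] [IsIntegral X] (n : ℕ) (hn : topologicalKrullDim X = n) (F G : X.Modules) (hF : Coh.IsCoh F) (hG : Coh.IsCoh G) (x : X) (p : ℕ) (hp : n < p) : Subsingleton (DRing.Tor ↑(X.presheaf.stalk x) p ↑(F.presheaf.stalk x) ↑(G.presheaf.stalk x)) := by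
  haveI := Groth.L21.Smooth.regular_stalk f x
  have hle : ringKrullDim (X.presheaf.stalk x) ≤ (n : WithBot ℕ∞) :=
    hn ▸ Groth.L15.CohFlat.ringKrullDim_stalk_le x
  obtain ⟨d, hd⟩ : ∃ d : ℕ, ringKrullDim (X.presheaf.stalk x) = d := by
    have h0 : (0 : WithBot ℕ∞) ≤ ringKrullDim (X.presheaf.stalk x) := ringKrullDim_nonneg_of_nontrivial
    generalize ringKrullDim (X.presheaf.stalk x) = t at h0 hle
    induction t with
    | bot => simp at h0
    | coe t =>
      induction t with
      | top => exact absurd hle (not_le.2 (WithBot.coe_lt_coe.2 (ENat.coe_lt_top n)))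
      | coe t => exact ⟨t, rfl⟩
  have hdn : d ≤ n := by
    rw [hd] at hle
    exact_mod_cast hle
  haveI := Groth.L04.hasProjectiveDimensionLE_of_regularLocal hd
    (ModuleCat.of _ ↑(G.presheaf.stalk x))
  exact ModuleCat.subsingleton_of_isZero (Groth.L22.TorPd.isZero_tor_of_hasProjectiveDimensionLE
    (ModuleCat.of _ ↑(F.presheaf.stalk x)) d (ModuleCat.of _ ↑(G.presheaf.stalk x)) p
    (by omega))

end Groth.Agent.S6500
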