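import Groth.Statements.S6501
import Mathlib.RingTheory.DividedPowers.Basic
import Mathlib.Data.Nat.Choose.Sum
import Mathlib.RingTheory.Ideal.Operations
import Mathlib.Tactic.Ring
import Mathlib.Tactic.LinearCombination

set_option autoImplicit false
universe u
open DPow

namespace Groth.Agent.S6501

/-- Let A be a commutative ring whose additive group is torsion free and I an ideal of A. Then I carries
at most one divided power structure, and it carries one if and only if I is generated by a set S
such that for every x in S and every n ≥ 1 the power x^n lies in the ideal generated by the products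
of n! with elements of I. -/
theorem result {A : Type u} [CommRing A] [IsAddTorsionFree A] (I : Ideal A) :
    Subsingleton (DividedPowers I) ∧
    (Nonempty (DividedPowers I) ↔ ∃ S : Set A, Ideal.span S = I ∧
      ∀ x ∈ S, ∀ n : ℕ, 1 ≤ n → x ^ n ∈ Ideal.span {(Nat.factorial n : A)} * I) := by
  classical
  have cancel : ∀ (n : ℕ) (a b : A), (Nat.factorial n : A) * a = (Nat.factorial n : A) * b → a = b := by
    intro n a b h
    rw [← nsmul_eq_mul, ← nsmul_eq_mul] at h
    exact nsmul_right_injective (Nat.factorial_ne_zero n) h
  refine ⟨⟨fun h1 h2 => DividedPowers.ext h1 h2 fun {n x} hx => cancel n _ _ (by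
      rw [h1.factorial_mul_dpow_eq_pow hx, h2.factorial_mul_dpow_eq_pow hx])⟩, ?_, ?_⟩
  · rintro ⟨h⟩
    exact ⟨I, Ideal.span_eq I, fun x hx n hn => Ideal.mem_span_singleton_mul.2
      ⟨h.dpow n x, h.dpow_mem (by omega) hx, h.factorial_mul_dpow_eq_pow hx⟩⟩
  rintro ⟨S, hS, hSx⟩
  have hfac : ∀ x ∈ I, ∀ n : ℕ, 1 ≤ n → ∃ a ∈ I, (Nat.factorial n : A) * a = x ^ n := by
    intro x hx
    rw [← hS] at hx
    induction hx using Submodule.span_induction with
    | mem x hx => exact fun n hn => Ideal.mem_span_singleton_mul.1 (hSx x hx n hn)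
    | zero => exact fun n hn => ⟨0, I.zero_mem, by rw [mul_zero, zero_pow (by omega)]⟩
    | smul c x _ ih =>
      intro n hn
      obtain ⟨a, ha, e⟩ := ih n hn
      exact ⟨c ^ n * a, I.mul_mem_left _ ha, by rw [smul_eq_mul, mul_pow, ← e]; ring⟩
    | add x y hxs hys ihx ihy =>
      intro n hn
      rw [← Ideal.mem_span_singleton_mul, add_pow]
      refine Submodule.sum_mem _ fun k hk => ?_
      rw [Finset.mem_range] at hk
      rw [Ideal.mem_span_singleton_mul]
      have hf : (Nat.factorial n : A) = (n.choose k : A) * ((Nat.factorial k : A) * (Nat.factorial (n - k) : A)) := by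
        rw [← Nat.cast_mul, ← Nat.cast_mul, ← mul_assoc, Nat.choose_mul_factorial_mul_factorial (by omega)]
      rcases Nat.eq_zero_or_pos k with rfl | hk0
      · obtain ⟨b, hb, e⟩ := ihy n hn
        exact ⟨b, hb, by simp [e]⟩
      obtain ⟨a, ha, e⟩ := ihx k hk0
      by_cases hkn : k = n
      · subst hkn
        exact ⟨a, ha, by simp [e]⟩
      · obtain ⟨b, hb, e'⟩ := ihy (n - k) (by omega)
        exact ⟨a * b, I.mul_mem_right _ ha, by rw [hf, ← e, ← e']; ring⟩
  choose! dp hdpI hdp using hfac
  set D : ℕ → A → A := fun n x => if x ∈ I then (if n = 0 then 1 else dp x n) else 0 with hD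
  have key : ∀ n, ∀ x ∈ I, (Nat.factorial n : A) * D n x = x ^ n := by
    intro n x hx
    rw [hD]
    simp only [if_pos hx]
    split_ifs with h
    · subst h; simp
    · exact hdp x hx n (by omega)
  have hmem : ∀ n x, n ≠ 0 → x ∈ I → D n x ∈ I := by
    intro n x hn hx
    rw [hD]
    simp only [if_pos hx, if_neg hn]
    exact hdpI x hx n (by omega)
  refine ⟨{ dpow := D
            dpow_null := fun {n x} hx => if_neg hx
            dpow_zero := fun {x} hx => cancel 0 _ _ (by rw [key 0 x hx]; simp)
            dpow_one := fun {x} hx => cancel 1 _ _ (by rw [key 1 x hx]; simp)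
            dpow_mem := fun {n x} hn hx => hmem n x hn hx
            dpow_add := ?_, dpow_mul := ?_, mul_dpow := ?_, dpow_comp := ?_ }⟩
  · intro n x y hx hy
    refine cancel n _ _ ?_
    rw [key n _ (add_mem hx hy), (Commute.all x y).add_pow', Finset.mul_sum]
    refine Finset.sum_congr rfl fun ⟨i, j⟩ hij => ?_
    rw [Finset.mem_antidiagonal] at hij
    rw [← key i x hx, ← key j y hy, ← hij, nsmul_eq_mul]
    have := congrArg (Nat.cast : ℕ → A) (Nat.add_choose_mul_factorial_mul_factorial i j)
    push_cast at this
    rw [← Nat.choose_symm_add] at this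
    simp only
    linear_combination (D i x * D j y) * this
  · intro n a x hx
    refine cancel n _ _ ?_
    rw [key n _ (I.mul_mem_left a hx), mul_pow, ← key n x hx]; ring
  · intro m n x hx
    refine cancel m _ _ (cancel n _ _ ?_)
    have := congrArg (Nat.cast : ℕ → A) (Nat.add_choose_mul_factorial_mul_factorial m n)
    push_cast at this
    rw [← Nat.choose_symm_add] at this
    have e := key (m + n) x hx
    rw [pow_add, ← key m x hx, ← key n x hx, ← this] at e
    linear_combination -e
  · intro m n x hn hx
    refine cancel m _ _ ?_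
    rw [key m _ (hmem n x hn hx)]
    have hn' : (Nat.factorial n : A) ^ m * D n x ^ m = (Nat.factorial (m * n) : A) * D (m * n) x := by
      rw [← mul_pow, key n x hx, key (m * n) x hx, ← pow_mul, mul_comm]
    have := congrArg (Nat.cast : ℕ → A) (Nat.uniformBell_mul_eq m hn)
    push_cast at this
    rw [← this] at hn'
    have h0 : ∀ (k : ℕ) (a b : A), (Nat.factorial n : A) ^ k * a = (Nat.factorial n : A) ^ k * b → a = b := by
      intro k
      induction k with
      | zero => intro a b h; simpa using h
      | succ k ih => intro a b h; rw [pow_succ, mul_assoc, mul_assoc] at h; exact cancel n _ _ (ih _ _ h)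
    refine h0 m _ _ ?_
    linear_combination hn' 

end Groth.Agent.S6501
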