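import Groth.Statements.S6511
import Groth.Agent.L29.DCoh.Gen.Support
import Groth.Agent.L29.DCoh.Gen.RpushTri
import Groth.Agent.L00.RpushComp

set_option autoImplicit false
set_option backward.isDefEq.respectTransparency false
universe u
open CategoryTheory
attribute [local instance] HasDerivedCategory.standard
open DCoh

namespace Groth.Agent.S6511

open AlgebraicGeometry CategoryTheory.Limits in
/-- Let f : X → Y be a morphism of schemes and X = U ∪ V with U, V open; write a, b, c for the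
restrictions of f to U, V, U ∩ V. For every E ∈ D(O_X) there is a distinguished triangle Rf_*E →
Ra_*(E|_U) ⊕ Rb_*(E|_V) → Rc_*(E|_{U∩V}) → Rf_*E[1] in D(O_Y). The objects are the stated ones; the
morphisms are only asserted to exist. (The published statement is for ringed spaces; this row is for
schemes.) -/
theorem result {X Y : Scheme.{u}} (f : X ⟶ Y) (U V : X.Opens) (hUV : U ⊔ V = ⊤)
    [DCoh.HasRpush f] [DCoh.HasRpush (U.ι ≫ f)] [DCoh.HasRpush (V.ι ≫ f)] [DCoh.HasRpush ((U ⊓ V).ι ≫ f)]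
    [PreservesFiniteLimits (Scheme.Modules.restrictFunctor U.ι)]
    [PreservesFiniteLimits (Scheme.Modules.restrictFunctor V.ι)]
    [PreservesFiniteLimits (Scheme.Modules.restrictFunctor (U ⊓ V).ι)] (E : DCoh.D X) :
    ∃ (a : (DCoh.Rpush f).obj E ⟶ ((DCoh.Rpush (U.ι ≫ f)).obj ((DCoh.restrictD U.ι).obj E) ⊞ (DCoh.Rpush (V.ι ≫ f)).obj ((DCoh.restrictD V.ι).obj E))) (b : ((DCoh.Rpush (U.ι ≫ f)).obj ((DCoh.restrictD U.ι).obj E) ⊞ (DCoh.Rpush (V.ι ≫ f)).obj ((DCoh.restrictD V.ι).obj E)) ⟶ (DCoh.Rpush ((U ⊓ V).ι ≫ f)).obj ((DCoh.restrictD (U ⊓ V).ι).obj E)) (c : (DCoh.Rpush ((U ⊓ V).ι ≫ f)).obj ((DCoh.restrictD (U ⊓ V).ι).obj E) ⟶ ((DCoh.Rpush f).obj E)⟦(1 : ℤ)⟧),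
      Pretriangulated.Triangle.mk a b c ∈ Pretriangulated.distinguishedTriangles := by
  haveI := Groth.L29.DC.RpushQC.hasRpush U.ι
  haveI := Groth.L29.DC.RpushQC.hasRpush V.ι
  haveI := Groth.L29.DC.RpushQC.hasRpush (U ⊓ V).ι
  obtain ⟨d, h⟩ := Groth.L29.DC.Gen.exists_mv hUV E
  letI := Groth.L29.DC.Gen.commShiftRpush f
  haveI := Groth.L29.DC.Gen.isTriangulated_Rpush f
  obtain ⟨eU⟩ := Groth.L00.RpushComp.rpush_comp U.ι f
  obtain ⟨eV⟩ := Groth.L00.RpushComp.rpush_comp V.ι f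
  obtain ⟨eW⟩ := Groth.L00.RpushComp.rpush_comp (U ⊓ V).ι f
  let F := DCoh.Rpush f
  haveI := preservesBinaryBiproducts_of_preservesBiproducts F
  let e₂ := F.mapBiprod ((Groth.L29.DC.Gen.push U).obj ((DCoh.restrictD U.ι).obj E))
      ((Groth.L29.DC.Gen.push V).obj ((DCoh.restrictD V.ι).obj E)) ≪≫
    biprod.mapIso (eU.app _) (eV.app _)
  let a₀ := biprod.lift ((Groth.L29.DC.Gen.adj U).unit.app E) (-(Groth.L29.DC.Gen.adj V).unit.app E)
  let b₀ := biprod.desc (Groth.L29.DC.Gen.mvMap U (U ⊓ V) E (Groth.L29.DC.Gen.isIso_res_inf_unit U V E).1)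
    (Groth.L29.DC.Gen.mvMap V (U ⊓ V) E (Groth.L29.DC.Gen.isIso_res_inf_unit U V E).2)
  let T := F.mapTriangle.obj (Pretriangulated.Triangle.mk a₀ b₀ d)
  refine ⟨T.mor₁ ≫ e₂.hom, e₂.inv ≫ T.mor₂ ≫ (eW.app ((DCoh.restrictD (U ⊓ V).ι).obj E)).hom,
    (eW.app ((DCoh.restrictD (U ⊓ V).ι).obj E)).inv ≫ T.mor₃, Pretriangulated.isomorphic_distinguished _ (F.map_distinguished _ h) _ ?_⟩
  refine Pretriangulated.Triangle.isoMk _ _ (Iso.refl _) e₂.symm (eW.app ((DCoh.restrictD (U ⊓ V).ι).obj E)).symm ?_ ?_ ?_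
  · simp [T, F, a₀, b₀]
  · simp [T, F, a₀, b₀]; first | exact Category.comp_id _ | exact (Category.comp_id _).symm | rfl
  · simp [T, F, a₀, b₀]

end Groth.Agent.S6511
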