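import Groth.Statements.S6513
import Groth.Agent.L10.MVExt

set_option autoImplicit false
set_option backward.defeqAttrib.useBackward true
set_option backward.isDefEq.respectTransparency false
universe u
open CategoryTheory
attribute [local instance] HasDerivedCategory.standard
open DCoh

namespace Groth.Agent.S6513

open AlgebraicGeometry CategoryTheory.Limits in
/-- If a scheme X is the union of two opens U and V, then for every E ∈ D(O_X) there is a distinguished
triangle j_{U∩V,!}(E|_{U∩V}) → j_{U,!}(E|_U) ⊕ j_{V,!}(E|_V) → E → j_{U∩V,!}(E|_{U∩V})[1] in D(O_X),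
where j_! is extension by zero computed termwise (its exactness is carried as an instance
hypothesis). The objects are the stated ones; the morphisms are only asserted to exist. (The
published statement is for ringed spaces; this row is for schemes.) -/
theorem result {X : Scheme.{u}} (U V : X.Opens) (hUV : U ⊔ V = ⊤)
    [PreservesFiniteLimits (CxOX.extZero U.ι)] [PreservesFiniteLimits (CxOX.extZero V.ι)]
    [PreservesFiniteLimits (CxOX.extZero (U ⊓ V).ι)] (E : DCoh.D X) :
    ∃ (a : (CxOX.extZeroD (U ⊓ V).ι).obj ((DCoh.restrictD (U ⊓ V).ι).obj E) ⟶ ((CxOX.extZeroD U.ι).obj ((DCoh.restrictD U.ι).obj E) ⊞ (CxOX.extZeroD V.ι).obj ((DCoh.restrictD V.ι).obj E))) (b : ((CxOX.extZeroD U.ι).obj ((DCoh.restrictD U.ι).obj E) ⊞ (CxOX.extZeroD V.ι).obj ((DCoh.restrictD V.ι).obj E)) ⟶ E) (c : E ⟶ ((CxOX.extZeroD (U ⊓ V).ι).obj ((DCoh.restrictD (U ⊓ V).ι).obj E))⟦(1 : ℤ)⟧),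
      Pretriangulated.Triangle.mk a b c ∈ Pretriangulated.distinguishedTriangles := by
  let K := DerivedCategory.Q.objPreimage E
  let e : DerivedCategory.Q.obj K ≅ E := DerivedCategory.Q.objObjPreimageIso E
  let hS := Groth.L10.MVExt.shortExact U V hUV K
  let eW := fun (W : X.Opens) [PreservesFiniteLimits (CxOX.extZero W.ι)] =>
    (CxOX.extZeroD W.ι).mapIso ((DCoh.restrictD W.ι).mapIso e.symm) ≪≫ Groth.L10.MVExt.GD W K
  let e₁ := eW (U ⊓ V)
  haveI := preservesBinaryBiproducts_of_preservesBiproducts (DerivedCategory.Q (C := X.Modules))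
  let e₂ := biprod.mapIso (eW U) (eW V) ≪≫ (DerivedCategory.Q.mapBiprod (Groth.L10.MVExt.GC U K) (Groth.L10.MVExt.GC V K)).symm
  let T := DerivedCategory.triangleOfSES hS
  refine ⟨e₁.hom ≫ T.mor₁ ≫ e₂.inv, e₂.hom ≫ T.mor₂ ≫ e.hom,
    e.inv ≫ T.mor₃ ≫ e₁.inv⟦(1 : ℤ)⟧', ?_⟩
  refine Pretriangulated.isomorphic_distinguished _ (DerivedCategory.triangleOfSES_distinguished hS) _ ?_
  exact Pretriangulated.Triangle.isoMk _ _ e₁ e₂ e.symm (by simp [T]) (by simp [T]) (by simp [T, ← Functor.map_comp])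

end Groth.Agent.S6513
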