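import Groth.Statements.S6514
-- import your own Groth.Agent.* helpers here
import Groth.Agent.L10.KInj
import Mathlib.Algebra.Category.ModuleCat.Descent
import Groth.Agent.L29.DCoh.PCStalk
import Groth.Agent.L29.DCoh.AmpDescent

set_option autoImplicit false
universe u
open CategoryTheory CategoryTheory.Limits AlgebraicGeometry
open DCoh

namespace Groth.Agent.S6514

open AlgebraicGeometry in
/-- If f : X → Y is a flat morphism of schemes and I is a K-injective complex of O_X-modules, then f_* I
(direct image applied termwise) is a K-injective complex of O_Y-modules. (The published statement is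
for flat morphisms of ringed spaces; this row is for flat morphisms of schemes.) -/
theorem result {X Y : Scheme.{u}} (f : X ⟶ Y) [Flat f]
    (I : CochainComplex X.Modules ℤ) (hI : I.IsKInjective) :
    CochainComplex.IsKInjective (((Scheme.Modules.pushforward f).mapHomologicalComplex (ComplexShape.up ℤ)).obj I) := by
  classical
  haveI hP : PreservesFiniteLimits (Scheme.Modules.pullback f) := by
    have hstk : ∀ x, PreservesFiniteLimits (Scheme.Modules.pullback f ⋙ Groth.L00.Stk.F X x) := fun x => by
      haveI : PreservesFiniteLimits (ModuleCat.extendScalars.{u, u, u} (Groth.L00.PullStalk.φ f x)) :=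
        ModuleCat.preservesFiniteLimits_extendScalars_of_flat (AlgebraicGeometry.Flat.stalkMap f x)
      exact preservesFiniteLimits_of_natIso (Groth.L00.PullStalk.stalkIso f x).symm
    have := (Scheme.Modules.pullbackPushforwardAdjunction f).left_adjoint_additive
    haveI : PreservesColimitsOfSize.{0, 0} (Scheme.Modules.pullback f) :=
      (Scheme.Modules.pullbackPushforwardAdjunction f).leftAdjoint_preservesColimits
    haveI : (Scheme.Modules.pullback f).PreservesMonomorphisms := ⟨fun {M N} i _ => by
      refine (Groth.L21.Mod.mono_iff_stalk_injective _).2 fun x => ?_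
      haveI := hstk x
      haveI : Mono ((Scheme.Modules.pullback f ⋙ Groth.L00.Stk.F X x).map i) := inferInstance
      exact (ModuleCat.mono_iff_injective ((Groth.L00.Stk.F X x).map ((Scheme.Modules.pullback f).map i))).1 this⟩
    refine (Functor.preservesFiniteLimits_iff_forall_exact_map_and_mono _).2 fun S hS => ?_
    have := hS.mono_f
    haveI : (Scheme.Modules.pullback f).PreservesHomology :=
      (Scheme.Modules.pullback f).preservesHomology_of_preservesMonos_and_cokernels
    exact ⟨hS.exact.map _, inferInstance⟩
  haveI : PreservesFiniteColimits (Scheme.Modules.pullback f) :=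
    haveI : PreservesColimitsOfSize.{0, 0} (Scheme.Modules.pullback f) :=
      (Scheme.Modules.pullbackPushforwardAdjunction f).leftAdjoint_preservesColimits
    PreservesColimitsOfSize.preservesFiniteColimits.{0, 0} _
  exact Groth.L10.s0481 (Scheme.Modules.pushforward f) (Scheme.Modules.pullback f)
    (Scheme.Modules.pullbackPushforwardAdjunction f) I hI

end Groth.Agent.S6514
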