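import Groth.Statements.S6516
import Groth.Agent.L29.LocFree

set_option autoImplicit false
universe u
open CategoryTheory
open DCoh

namespace Groth.Agent.S6516

open AlgebraicGeometry in
/-- Schemes; with the bounded finite-locally-free reading of strictly perfect used throughout this
problem's derived-category definitions: the mapping cone of a morphism between strictly perfect
complexes of O_X-modules is strictly perfect. -/
theorem result {X : Scheme.{u}} {E F : CochainComplex X.Modules ℤ} (φ : E ⟶ F)
    (hE : DCoh.IsStrictlyPerfect E) (hF : DCoh.IsStrictlyPerfect F) :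
    DCoh.IsStrictlyPerfect (CochainComplex.mappingCone φ) := by
  obtain ⟨⟨a₁, b₁, h₁⟩, hE'⟩ := hE
  obtain ⟨⟨a₂, b₂, h₂⟩, hF'⟩ := hF
  refine ⟨⟨min (a₁ - 1) a₂, max (b₁ - 1) b₂, fun i hi => ?_⟩, fun i => ?_⟩
  · refine CategoryTheory.Limits.IsZero.of_iso ?_
      (HomologicalComplex.homotopyCofiber.XIsoBiprod φ i (i + 1) rfl)
    exact (CategoryTheory.Limits.biprod_isZero_iff _ _).mpr
      ⟨h₁ (i + 1) (by lia), h₂ i (by lia)⟩
  · exact Groth.L29.LocFree.of_iso
      (HomologicalComplex.homotopyCofiber.XIsoBiprod φ i (i + 1) rfl).symm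
      (Groth.L29.LocFree.biprod (hE' (i + 1)) (hF' i))

end Groth.Agent.S6516
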