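import Groth.Statements.S6518
import Groth.Agent.L29.DCoh.TopCoh
import Groth.Agent.L29.DCoh.TildeAlg
import Groth.Agent.L29.DCoh.PCDescent
import Groth.Agent.L29.DCoh.Summand
import Groth.Agent.L18.LocFreeFP
import Groth.Agent.L00.LocalData
import Groth.Agent.L29.DCoh.TensorPerfect

set_option autoImplicit false
set_option backward.isDefEq.respectTransparency false
universe u
open CategoryTheory
attribute [local instance] HasDerivedCategory.standard
open DCoh

namespace Groth.Agent.S6518

open AlgebraicGeometry Limits CategoryTheory.Pretriangulated Groth.L29.DC in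
theorem pc_third_of_ses {Z : Scheme.{u}} {S : ShortComplex Z.Modules} (hS : S.ShortExact) (m : ℤ)
    (h₂ : ∀ k : ℤ, DCoh.IsPseudoCoherentD k (DCoh.inD Z S.X₂)) (h₁ : DCoh.IsPseudoCoherentD (m + 1) (DCoh.inD Z S.X₁)) :
    DCoh.IsPseudoCoherentD m (DCoh.inD Z S.X₃) :=
  (pc_two_out_of_three hS.singleTriangle_distinguished m).1 h₁ (h₂ m)

open AlgebraicGeometry Limits Groth.L29.DC in
theorem pc_inD_free (Z : Scheme.{u}) (q : ℕ) (k : ℤ) : DCoh.IsPseudoCoherentD k (DCoh.inD Z (FlatMod.freeMod Z q)) :=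
  pc_of_on fun x => ⟨_, (⊤ : Z.Opens).ι, inferInstance, by simp, (wit_iso ((DerivedCategory.singleFunctorIsoCompQ Z.Modules 0).app _).symm
    ⟨_, 𝟙 _, ⟨⟨0, 0, fun i hi => HomologicalComplex.isZero_single_obj_X _ _ _ _ (by omega)⟩, fun i => by
      by_cases h : i = 0
      · subst h
        exact Groth.L29.LocFree.of_iso (HomologicalComplex.singleObjXSelf _ _ _).symm (isFinLocFree_freeMod Z q)
      · exact Groth.L29.LocFree.of_isZero (HomologicalComplex.isZero_single_obj_X _ _ _ _ h)⟩,
      Approx.of_isIso _ k⟩).restrict _⟩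

open AlgebraicGeometry Limits Groth.L29.DC in
theorem pc_zero_of_epi {Z : Scheme.{u}} {q : ℕ} {M : Z.Modules} (π : FlatMod.freeMod Z q ⟶ M) [Epi π] :
    DCoh.IsPseudoCoherentD 0 (DCoh.inD Z M) := by
  let S := ShortComplex.mk (kernel.ι π) π (kernel.condition π)
  have hS : S.ShortExact := { exact := ShortComplex.exact_kernel π }
  exact pc_third_of_ses hS 0 (pc_inD_free Z q) (pc_of_isZero fun i hi =>
    DerivedCategory.isZero_of_isLE (DCoh.inD Z S.X₁) 0 i (by omega))

open AlgebraicGeometry Limits Groth.L29.DC in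
theorem pc_neg_one_of_coker {Z : Scheme.{u}} {p q : ℕ} (φ : FlatMod.freeMod Z p ⟶ FlatMod.freeMod Z q) :
    DCoh.IsPseudoCoherentD (-1) (DCoh.inD Z (cokernel φ)) := by
  let S := ShortComplex.mk (Abelian.image.ι φ) (cokernel.π φ) (kernel.condition _)
  have hS : S.ShortExact := { exact := ShortComplex.exact_kernel (cokernel.π φ) }
  exact pc_third_of_ses hS (-1) (pc_inD_free Z q) (pc_zero_of_epi (Abelian.factorThruImage φ))

open AlgebraicGeometry in
/-- Let X be a scheme and F an O_X-module, viewed as an object of D(O_X) placed in degree 0. Then (1)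
finite type of the O_X-module F is equivalent to F being 0-pseudo-coherent, and (2) F admits a
finite presentation as an O_X-module exactly when it is (−1)-pseudo-coherent. (The published
statement is for ringed spaces; this row is for schemes.) -/
theorem result {X : Scheme.{u}} (F : X.Modules) :
    (DCoh.IsPseudoCoherentD 0 (DCoh.inD X F) ↔ CohB1.IsFT F) ∧
    (DCoh.IsPseudoCoherentD (-1) (DCoh.inD X F) ↔ CohB1.IsFP F) := by
  have hz : ∀ i, (0 : ℤ) < i → Limits.IsZero (DCoh.HD (DCoh.inD X F) i) := fun i hi =>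
    DerivedCategory.isZero_of_isLE (DCoh.inD X F) 0 i hi
  let e : DCoh.HD (DCoh.inD X F) 0 ≅ F := (DerivedCategory.singleFunctorCompHomologyFunctorIso X.Modules 0).app F
  refine ⟨⟨fun h => Groth.L29.DC.TildeAlg.isFT_of_iso e (Groth.L29.DC.TopCoh.isFT_top le_rfl h hz), fun h => ?_⟩,
    ⟨fun h => ?_, fun h => ?_⟩⟩
  · refine Groth.L29.DC.PCDesc.pc_of_local fun x => ?_
    obtain ⟨U, σ, hx, hfin⟩ := Groth.L00.Local.exists_generators_of_isFT F h x
    haveI := hfin
    refine ⟨U, hx, Groth.L29.DC.isPseudoCoherentD_of_iso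
      (((Scheme.Modules.restrictFunctor U.ι).mapDerivedCategorySingleFunctor 0).app F).symm ?_⟩
    haveI : Epi σ.π := inferInstance
    exact @pc_zero_of_epi _ _ _ ((Groth.L18.LFP.freeIso (U : AlgebraicGeometry.Scheme.{u}) σ.I).inv ≫ σ.π) (epi_comp _ _)
  · haveI := Groth.L29.DC.TopCoh.isFP_top (show (-1 : ℤ) < 0 by omega) h hz
    exact (SheafOfModules.isFinitePresentation X.ringCatSheaf).prop_of_iso e this
  · refine Groth.L29.DC.PCDesc.pc_of_local fun x => ?_
    obtain ⟨U, n, m, φ, hx, ⟨c⟩⟩ := Groth.L18.LFP.exists_cokernel_free_nhd F h x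
    exact ⟨U, hx, Groth.L29.DC.isPseudoCoherentD_of_iso
      ((DerivedCategory.singleFunctor (U : Scheme.{u}).Modules 0).mapIso c ≪≫
        (((Scheme.Modules.restrictFunctor U.ι).mapDerivedCategorySingleFunctor 0).app F).symm)
      (pc_neg_one_of_coker φ)⟩

end Groth.Agent.S6518
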