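import Groth.Statements.S6519
import Groth.Agent.L29.DCoh.Gen.Support
import Groth.Agent.L29.DCoh.EvalMain

set_option autoImplicit false
set_option backward.isDefEq.respectTransparency false
universe u
open CategoryTheory
attribute [local instance] HasDerivedCategory.standard
open DCoh

namespace Groth.Agent.S6519

open AlgebraicGeometry in
/-- Let j : U → X be the inclusion of an open subscheme, and let T ⊆ U be a closed subset whose image
j(T) is also closed in X. Suppose E in D(O_U) is perfect and every cohomology sheaf of E has support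
contained in T. In that case the derived pushforward Rj_*E is perfect as an object of D(O_X). (The
published statement is for ringed spaces; this row is for schemes.) -/
theorem result {X : Scheme.{u}} (U : X.Opens) [DCoh.HasRpush U.ι]
    (E : DCoh.D (U : Scheme.{u})) (hE : DCoh.IsPerfect E) (T : Set (U : Scheme.{u}))
    (hT : IsClosed T) (hjT : IsClosed ((fun x : (U : Scheme.{u}) => U.ι.base x) '' T))
    (hsupp : ∀ i : ℤ, CohB1.support (DCoh.HD E i) ⊆ T) :
    DCoh.IsPerfect ((DCoh.Rpush U.ι).obj E) := by
  let O : X.Opens := Groth.L29.DC.Gen.compl hjT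
  refine Groth.L29.DC.Gen.isPerfect_of_cover fun x => ?_
  by_cases hx : x ∈ U
  · exact ⟨U, hx, Groth.L29.DC.isPerfect_of_iso (asIso ((Groth.L29.DC.Gen.adj U).counit.app E)).symm hE⟩
  refine ⟨O, fun ⟨y, _, hy⟩ => hx (hy ▸ y.2), Groth.L29.DC.EvalMain.isPerfect_of_isZero ?_⟩
  refine Groth.L29.DC.Gen.isZero_res_push_of E ((Groth.L29.DC.Gen.isZero_restrictD_iff _ E).2 fun i y hy ⟨z, hz⟩ => ?_)
  subst hz
  have hzO : (O ⊓ U : X.Opens).ι z ∈ O := z.2.1
  refine hzO ⟨_, hsupp i hy, ?_⟩
  exact congr(($(X.homOfLE_ι (inf_le_right : O ⊓ U ≤ U))) z)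

end Groth.Agent.S6519
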