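import Groth.Statements.S6528
import Groth.Agent.L29.DCoh.Gen.Support

set_option autoImplicit false
set_option backward.isDefEq.respectTransparency false
universe u
open CategoryTheory
attribute [local instance] HasDerivedCategory.standard
open DCoh

namespace Groth.Agent.S6528

open AlgebraicGeometry CategoryTheory.Limits in
/-- Let j : U → X be an open subscheme and T ⊆ U a subset which is closed in X. (1) If E ∈ D(O_X) has
cohomology sheaves supported on T, then E ≅ Rj_*(E|_U). (2) If F ∈ D(O_U) has cohomology sheaves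
supported on T, then j_!F ≅ Rj_*F. The published statement asserts that the canonical maps are
isomorphisms; this row asserts only that isomorphisms exist. (The published statement is for ringed
spaces; this row is for schemes.) -/
theorem result {X : Scheme.{u}} (U : X.Opens) [DCoh.HasRpush U.ι]
    [PreservesFiniteLimits (CxOX.extZero U.ι)] (T : Set X) (hT : IsClosed T) (hTU : T ⊆ (U : Set X)) :
    (∀ E : DCoh.D X, (∀ i : ℤ, CohB1.support (DCoh.HD E i) ⊆ T) →
      Nonempty (E ≅ (DCoh.Rpush U.ι).obj ((DCoh.restrictD U.ι).obj E))) ∧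
    (∀ F : DCoh.D (U : Scheme.{u}),
      (∀ i : ℤ, (fun x : (U : Scheme.{u}) => U.ι.base x) '' CohB1.support (DCoh.HD F i) ⊆ T) →
      Nonempty ((CxOX.extZeroD U.ι).obj F ≅ (DCoh.Rpush U.ι).obj F)) := by
  let O : X.Opens := Groth.L29.DC.Gen.compl hT
  have hcov : ∀ x : X, x ∈ U ∨ x ∈ O := fun x => by
    by_cases hx : x ∈ U
    · exact Or.inl hx
    · exact Or.inr fun h => hx (hTU h)
  refine ⟨fun E hE => ?_, fun F hF => ?_⟩
  · haveI : IsIso ((Groth.L29.DC.Gen.adj U).unit.app E) :=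
      Groth.L29.DC.Gen.isLoc_of_zero hcov ((Groth.L29.DC.Gen.supp_iff hT E).1 hE)
    exact ⟨asIso ((Groth.L29.DC.Gen.adj U).unit.app E)⟩
  let L := (CxOX.extZeroD U.ι).obj F
  let r := DCoh.restrictD (X.homOfLE (inf_le_right : O ⊓ U ≤ U))
  have hr : IsZero (r.obj F) := (Groth.L29.DC.Gen.isZero_restrictD_iff _ F).2 fun i y hy ⟨z, hz⟩ => by
    subst hz
    refine (show (O ⊓ U : X.Opens).ι z ∈ O from z.2.1) ?_
    have := hF i ⟨_, hy, rfl⟩
    exact congr(($(X.homOfLE_ι (inf_le_right : O ⊓ U ≤ U))) z) ▸ this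
  let ad := Groth.L29.DC.ExtZero.adjD U.ι
  let adO := Groth.L29.DC.Gen.adj O
  let M := (Groth.L29.DC.Gen.res O).obj L
  have hOU : IsZero M := by
    obtain ⟨e⟩ := Groth.L29.DC.RpushRes.nonempty_iso O.ι U.ι (X.homOfLE (inf_le_left : O ⊓ U ≤ O))
      (X.homOfLE (inf_le_right : O ⊓ U ≤ U)) (fun x hx => by
        have hx' : O.ι x ∈ U.ι.opensRange := hx
        rw [Scheme.Opens.opensRange_ι] at hx'
        refine ⟨(⟨x.1, x.2, hx'⟩ : (O ⊓ U : X.Opens)), Subtype.ext ?_⟩
        exact congr($(X.homOfLE_ι (inf_le_left : O ⊓ U ≤ O)) (⟨x.1, x.2, hx'⟩ : (O ⊓ U : X.Opens))))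
      (by rw [X.homOfLE_ι, X.homOfLE_ι])
    let k := X.homOfLE (inf_le_right : O ⊓ U ≤ U)
    let N := (DCoh.restrictD (X.homOfLE (inf_le_left : O ⊓ U ≤ O))).obj M
    let P := (Groth.L29.DC.Gen.push O).obj M
    have h3 : Subsingleton (F ⟶ (DCoh.Rpush k).obj N) := ⟨fun a b =>
      ((Groth.L29.DC.Cpt.restrictRpushAdj k).homEquiv F N).symm.injective (hr.eq_of_src _ _)⟩
    have h2 : Subsingleton (F ⟶ (DCoh.restrictD U.ι).obj P) :=
      ⟨fun a b => (cancel_mono (e.app M).hom).1 (h3.elim _ _)⟩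
    have h1 : Subsingleton (L ⟶ P) := ⟨fun a b => (ad.homEquiv F P).injective (h2.elim _ _)⟩
    rw [IsZero.iff_id_eq_zero]
    exact (adO.homEquiv L M).injective (h1.elim _ _)
  haveI hu : IsIso ((Groth.L29.DC.Gen.adj U).unit.app L) := Groth.L29.DC.Gen.isLoc_of_zero hcov hOU
  let T : Adjunction.Triple (CxOX.extZeroD U.ι) (DCoh.restrictD U.ι) (Groth.L29.DC.Gen.push U) :=
    ⟨ad, Groth.L29.DC.Gen.adj U⟩
  let ff := T.fullyFaithfulEquiv.symm (Groth.L29.DC.Gen.adj U).fullyFaithfulROfIsIsoCounit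
  haveI := ff.full
  haveI := ff.faithful
  haveI : IsIso (ad.unit.app F) := inferInstance
  exact ⟨asIso ((Groth.L29.DC.Gen.adj U).unit.app L) ≪≫
    (Groth.L29.DC.Gen.push U).mapIso (asIso (ad.unit.app F)).symm⟩

end Groth.Agent.S6528
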