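import Groth.Statements.S6529
import Groth.Agent.L10.HDesc.FreeHyper

set_option autoImplicit false
set_option backward.defeqAttrib.useBackward true
set_option backward.isDefEq.respectTransparency false
universe u
open CategoryTheory
open Hyper

namespace Groth.Agent.S6529

open Opposite CategoryTheory.Limits in
/-- Let (C, J) be a small site, f : L → K a morphism of simplicial presheaves of sets on C and n ≥ 0.
Assume that L_i → K_i is an isomorphism for i < n, that L_n → K_n is locally surjective, and that
the canonical maps L → cosk_n sk_n L and K → cosk_n sk_n K are isomorphisms. Then for every i the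
induced map H_i(L) → H_i(K) on homology sheaves of the chain complexes of free abelian sheaves
Z[L]^#, Z[K]^# (alternating sums of faces) is an isomorphism. -/
theorem result {C : Type u} [SmallCategory C] (J : GrothendieckTopology C)
    {L K : SimplicialObject (Cᵒᵖ ⥤ Type u)} (f : L ⟶ K) (n : ℕ)
    [∀ (F : (SimplexCategory.Truncated n)ᵒᵖ ⥤ (Cᵒᵖ ⥤ Type u)),
      (SimplexCategory.Truncated.inclusion n).op.HasRightKanExtension F]
    (h1 : ∀ i : ℕ, i < n → IsIso (f.app (op (SimplexCategory.mk i))))
    (h2 : Presheaf.IsLocallySurjective J (f.app (op (SimplexCategory.mk n))))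
    (h3 : IsIso ((SimplicialObject.coskAdj n).unit.app L))
    (h4 : IsIso ((SimplicialObject.coskAdj n).unit.app K)) (i : ℕ) :
    IsIso (HomologicalComplex.homologyMap
      ((AlgebraicTopology.alternatingFaceMapComplex (Sheaf J AddCommGrpCat.{u})).map
        (Functor.whiskerRight f ((Functor.whiskeringRight Cᵒᵖ (Type u) AddCommGrpCat.{u}).obj AddCommGrpCat.free.{u} ⋙ presheafToSheaf J AddCommGrpCat.{u}))) i) := by
  let a := presheafToSheaf J (Type u)
  have : HasLimitsOfSize.{0, 0} (Cᵒᵖ ⥤ Type u) := inferInstance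
  have : ∀ (k : ℕ) (F : (SimplexCategory.Truncated k)ᵒᵖ ⥤ (Cᵒᵖ ⥤ Type u)),
      (SimplexCategory.Truncated.inclusion k).op.HasPointwiseRightKanExtension F := fun k F => inferInstance
  have : Sheaf.IsLocallySurjective (a.map (f.app (op (SimplexCategory.mk n)))) :=
    (Presheaf.isLocallySurjective_presheafToSheaf_map_iff J _).2 h2
  have hq := Groth.L10.HDesc.quasiIso_free a f (Groth.L10.HDesc.selfCoskOf K n h4) (Groth.L10.HDesc.selfCoskOf L n h3) h1 inferInstance
  let e := presheafToSheafCompComposeAndSheafifyIso J AddCommGrpCat.free.{u}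
  let Φ := AlgebraicTopology.alternatingFaceMapComplex (Sheaf J AddCommGrpCat.{u})
  let eL := Φ.mapIso (Functor.isoWhiskerLeft L e)
  let eK := Φ.mapIso (Functor.isoWhiskerLeft K e)
  have hsq : Φ.map (Functor.whiskerRight f (a ⋙ Sheaf.composeAndSheafify J AddCommGrpCat.free.{u})) ≫ eK.hom =
      eL.hom ≫ Φ.map (Functor.whiskerRight f ((Functor.whiskeringRight Cᵒᵖ (Type u) AddCommGrpCat.{u}).obj AddCommGrpCat.free.{u} ⋙ presheafToSheaf J AddCommGrpCat.{u})) :=
    (Φ.map_comp _ _).symm.trans ((congrArg (fun z => Φ.map z) (NatTrans.ext (funext fun m => e.hom.naturality (f.app m)))).trans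
      (Φ.map_comp _ _))
  have hq' : QuasiIso (Φ.map (Functor.whiskerRight f ((Functor.whiskeringRight Cᵒᵖ (Type u) AddCommGrpCat.{u}).obj AddCommGrpCat.free.{u} ⋙ presheafToSheaf J AddCommGrpCat.{u}))) := by
    rw [← quasiIso_iff_comp_left eL.hom, ← hsq]
    have : QuasiIso (Φ.map (Functor.whiskerRight f (a ⋙ Sheaf.composeAndSheafify J AddCommGrpCat.free.{u}))) := hq
    infer_instance
  exact (quasiIsoAt_iff_isIso_homologyMap _ i).1 (hq'.quasiIsoAt i)

end Groth.Agent.S6529
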