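import Groth.Statements.S6530
import Mathlib.RingTheory.DividedPowers.DPMorphism
import Mathlib.RingTheory.AdicCompletion.Algebra
import Mathlib.RingTheory.Ideal.Quotient.Operations

set_option autoImplicit false
universe u
open DPow

namespace Groth.Agent.S6530

open Finset

variable {A : Type u} [CommRing A] {I : Ideal A} (γ : DividedPowers I) {p : A} {t : ℕ}

theorem factor_evalₐ (q : Ideal A) {m e : ℕ} (h : m ≤ e) (z : AdicCompletion q A) :
    Ideal.Quotient.factor (Ideal.pow_le_pow_right h) (AdicCompletion.evalₐ q e z) = AdicCompletion.evalₐ q m z := by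
  obtain ⟨s, rfl⟩ := AdicCompletion.mk_surjective q A z
  rw [AdicCompletion.evalₐ_mk, AdicCompletion.evalₐ_mk, Ideal.Quotient.factor_mk, AdicCompletion.Ideal.mk_eq_mk q h]

theorem dpow_mem_pow (ht : Ideal.span {p} ^ t ≤ I) {e : ℕ} (he : 2 * t ≤ e) {d : A}
    (hd : d ∈ Ideal.span {p} ^ e) {i : ℕ} (hi : i ≠ 0) : γ.dpow i d ∈ Ideal.span {p} ^ e := by
  have hdI : d ∈ I := ht (Ideal.pow_le_pow_right (by omega) hd)
  rcases eq_or_ne i 1 with rfl | hi1
  · rwa [γ.dpow_one hdI]
  rw [Ideal.span_singleton_pow, Ideal.mem_span_singleton] at hd ⊢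
  obtain ⟨c, rfl⟩ := hd
  have hc : p ^ t * c ∈ I := ht (by rw [Ideal.span_singleton_pow]; exact Ideal.mem_span_singleton.2 (dvd_mul_right _ _))
  rw [show p ^ e * c = p ^ (e - t) * (p ^ t * c) by rw [← mul_assoc, ← pow_add]; congr 2; omega, γ.dpow_mul hc,
    ← pow_mul]
  refine Dvd.dvd.mul_right (pow_dvd_pow p ?_) _
  calc e ≤ (e - t) * 2 := by omega
    _ ≤ (e - t) * i := Nat.mul_le_mul_left _ (by omega)

theorem dpow_congr (ht : Ideal.span {p} ^ t ≤ I) {e : ℕ} (he : 2 * t ≤ e) {a a' : A} (ha' : a' ∈ I)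
    (h : a - a' ∈ Ideal.span {p} ^ e) (n : ℕ) : γ.dpow n a - γ.dpow n a' ∈ Ideal.span {p} ^ e := by
  have hdI : a - a' ∈ I := ht (Ideal.pow_le_pow_right (by omega) h)
  obtain ⟨d, rfl⟩ : ∃ d, a = a' + d := ⟨a - a', by ring⟩
  rw [add_sub_cancel_left] at h hdI
  rw [γ.dpow_add' ha' hdI, Finset.sum_range_succ, Nat.sub_self, γ.dpow_zero hdI, mul_one, add_sub_cancel_right]
  refine Ideal.sum_mem _ fun k hk => Ideal.mul_mem_left _ _ (dpow_mem_pow γ ht he h ?_)
  rw [Finset.mem_range] at hk
  omega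

/-- Let (A, I, γ) be a divided power ring and p a prime number with p^t A ⊆ I for some t ≥ 0, so that p
is nilpotent in A/I. Let A^∧ be the p-adic completion of A and π : A^∧ → A/I the composite of the
evaluation A^∧ → A/p^tA with the projection A/p^tA → A/I. Then π is surjective, and there is a
divided power structure on Ker(π) (this kernel is the p-adic completion of I) such that the
canonical map A → A^∧ is a homomorphism of divided power rings. -/
theorem result {A : Type u} [CommRing A] {I : Ideal A}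
    (γ : DividedPowers I) (p : ℕ) [Fact p.Prime] (t : ℕ) (ht : Ideal.span {(p : A)} ^ t ≤ I) :
    Function.Surjective ((Ideal.Quotient.factor ht).comp
      (AdicCompletion.evalₐ (Ideal.span {(p : A)}) t).toRingHom) ∧
    ∃ δ : DividedPowers (RingHom.ker ((Ideal.Quotient.factor ht).comp
      (AdicCompletion.evalₐ (Ideal.span {(p : A)}) t).toRingHom)),
      γ.IsDPMorphism δ (algebraMap A (AdicCompletion (Ideal.span {(p : A)}) A)) := by
  classical
  set q := Ideal.span {(p : A)} with hq
  set π := (Ideal.Quotient.factor ht).comp (AdicCompletion.evalₐ q t).toRingHom with hπ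
  have hsurj : Function.Surjective π :=
    (Ideal.Quotient.factor_surjective ht).comp (AdicCompletion.surjective_evalₐ q t)
  refine ⟨hsurj, ?_⟩
  -- representatives in `I`
  have hrep : ∀ z ∈ RingHom.ker π, ∀ e, t ≤ e → ∃ a ∈ I, AdicCompletion.evalₐ q e z = Ideal.Quotient.mk _ a := by
    intro z hz e he
    obtain ⟨a, ha⟩ := Ideal.Quotient.mk_surjective (AdicCompletion.evalₐ q e z)
    refine ⟨a, ?_, ha.symm⟩
    rw [RingHom.mem_ker, hπ, RingHom.comp_apply, AlgHom.toRingHom_eq_coe, RingHom.coe_coe, ← factor_evalₐ q he,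
      ← ha, Ideal.Quotient.factor_mk, Ideal.Quotient.factor_mk, Ideal.Quotient.eq_zero_iff_mem] at hz
    exact hz
  choose! rep hrepI hrepe using hrep
  have hmk : ∀ z ∈ RingHom.ker π, ∀ m n : ℕ, m ≤ n →
      rep z (m + 2 * t) - rep z (n + 2 * t) ∈ q ^ (m + 2 * t) := by
    refine fun z hz m n hmn => Ideal.Quotient.eq.1 ?_
    rw [← hrepe z hz _ (by omega), ← factor_evalₐ q (show m + 2 * t ≤ n + 2 * t by omega),
      hrepe z hz _ (by omega), Ideal.Quotient.factor_mk]
  let D : ℕ → AdicCompletion q A → AdicCompletion q A := fun k z =>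
    if hz : z ∈ RingHom.ker π then AdicCompletion.mk q A
      ⟨fun m => γ.dpow k (rep z (m + 2 * t)), fun {m n} hmn => SModEq.sub_mem.2 (by
        rw [smul_eq_mul, Ideal.mul_top]
        exact Ideal.pow_le_pow_right (by omega)
          (dpow_congr γ ht (by omega) (hrepI z hz _ (by omega)) (hmk z hz m n hmn) k))⟩
    else 0
  have hD : ∀ z ∈ RingHom.ker π, ∀ (k m e : ℕ) (a : A), m ≤ e → 2 * t ≤ e → a ∈ I →
      AdicCompletion.evalₐ q e z = Ideal.Quotient.mk _ a →
      AdicCompletion.evalₐ q m (D k z) = Ideal.Quotient.mk _ (γ.dpow k a) := by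
    intro z hz k m e a hme he ha hea
    simp only [D, dif_pos hz, AdicCompletion.evalₐ_mk]
    refine Ideal.Quotient.eq.2 ?_
    rcases le_total e (m + 2 * t) with h | h
    · refine Ideal.pow_le_pow_right hme (dpow_congr γ ht he ha (Ideal.Quotient.eq.1 ?_) k)
      rw [← hea, ← factor_evalₐ q h, hrepe z hz _ (by omega), Ideal.Quotient.factor_mk]
    · refine Ideal.pow_le_pow_right (Nat.le_add_right m (2 * t)) (dpow_congr γ ht (by omega) ha (Ideal.Quotient.eq.1 ?_) k)
      rw [← hrepe z hz _ (by omega), ← factor_evalₐ q h, hea, Ideal.Quotient.factor_mk]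
  have key : ∀ z ∈ RingHom.ker π, ∀ m : ℕ, ∃ a ∈ I,
      AdicCompletion.evalₐ q (m + 2 * t) z = Ideal.Quotient.mk _ a ∧
      ∀ k, AdicCompletion.evalₐ q m (D k z) = Ideal.Quotient.mk _ (γ.dpow k a) :=
    fun z hz m => ⟨_, hrepI z hz _ (by omega), hrepe z hz _ (by omega), fun k =>
      hD z hz k m _ _ (by omega) (by omega) (hrepI z hz _ (by omega)) (hrepe z hz _ (by omega))⟩
  have hmem : ∀ {k : ℕ} {z}, k ≠ 0 → z ∈ RingHom.ker π → D k z ∈ RingHom.ker π := by
    intro k z hk hz
    obtain ⟨a, ha, -, h⟩ := key z hz t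
    rw [RingHom.mem_ker, hπ, RingHom.comp_apply, AlgHom.toRingHom_eq_coe, RingHom.coe_coe, h,
      Ideal.Quotient.factor_mk, Ideal.Quotient.eq_zero_iff_mem]
    exact γ.dpow_mem hk ha
  let δ : DividedPowers (RingHom.ker π) :=
    { dpow := D
      dpow_null := fun hz => dif_neg hz
      dpow_zero := fun {z} hz => AdicCompletion.ext_evalₐ fun m => by
        obtain ⟨a, ha, -, h⟩ := key z hz m
        rw [h, γ.dpow_zero ha, map_one, map_one]
      dpow_one := fun {z} hz => AdicCompletion.ext_evalₐ fun m => by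
        obtain ⟨a, ha, he, h⟩ := key z hz m
        rw [h, γ.dpow_one ha, ← factor_evalₐ q (Nat.le_add_right m (2 * t)), he, Ideal.Quotient.factor_mk]
      dpow_mem := hmem
      dpow_add := fun {k} {x} {y} hx hy => AdicCompletion.ext_evalₐ fun m => by
        obtain ⟨a, ha, hea, h⟩ := key x hx m
        obtain ⟨b, hb, heb, h'⟩ := key y hy m
        rw [hD _ (add_mem hx hy) k m _ (a + b) (Nat.le_add_right m (2 * t)) (by omega) (add_mem ha hb)
          (by rw [map_add, map_add, hea, heb]), γ.dpow_add ha hb, map_sum, map_sum]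
        exact Finset.sum_congr rfl fun i _ => by rw [map_mul, map_mul, h, h']
      dpow_mul := fun {k} {c} {x} hx => AdicCompletion.ext_evalₐ fun m => by
        obtain ⟨a, ha, hea, h⟩ := key x hx m
        obtain ⟨c', hc⟩ := Ideal.Quotient.mk_surjective (AdicCompletion.evalₐ q (m + 2 * t) c)
        rw [hD _ (Ideal.mul_mem_left _ c hx) k m _ (c' * a) (Nat.le_add_right m (2 * t)) (by omega)
          (Ideal.mul_mem_left _ c' ha) (by rw [map_mul, map_mul, hea, hc]), γ.dpow_mul ha, map_mul, map_mul,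
          map_pow, map_pow, h, ← factor_evalₐ q (Nat.le_add_right m (2 * t)) c, ← hc, Ideal.Quotient.factor_mk]
      mul_dpow := fun {i j} {x} hx => AdicCompletion.ext_evalₐ fun m => by
        obtain ⟨a, ha, -, h⟩ := key x hx m
        rw [map_mul, map_mul, h, h, h, map_natCast, ← map_natCast (Ideal.Quotient.mk (q ^ m)), ← map_mul, ← map_mul,
          γ.mul_dpow ha]
      dpow_comp := fun {i j x} hj hx => AdicCompletion.ext_evalₐ fun m => by
        obtain ⟨a, ha, hea, h⟩ := key x hx m
        rw [hD _ (hmem hj hx) i m (m + 2 * t) (γ.dpow j a) (by omega) (by omega) (γ.dpow_mem hj ha)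
          (hD x hx j (m + 2 * t) _ a le_rfl (by omega) ha hea), γ.dpow_comp hj ha, map_mul, map_mul, h,
          map_natCast, map_natCast] }
  have hal : ∀ (e : ℕ) (a : A), AdicCompletion.evalₐ q e (algebraMap A _ a) = Ideal.Quotient.mk _ a := fun e a =>
    (AdicCompletion.evalₐ q e).commutes a
  have hJ : ∀ a ∈ I, algebraMap A (AdicCompletion q A) a ∈ RingHom.ker π := fun a ha => by
    rw [RingHom.mem_ker, hπ, RingHom.comp_apply, AlgHom.toRingHom_eq_coe, RingHom.coe_coe, hal,
      Ideal.Quotient.factor_mk, Ideal.Quotient.eq_zero_iff_mem]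
    exact ha
  refine ⟨δ, Ideal.map_le_iff_le_comap.2 hJ, fun {k} a ha => AdicCompletion.ext_evalₐ fun m => ?_⟩
  rw [hal]
  exact hD _ (hJ a ha) k m (m + 2 * t) a (by omega) (by omega) ha (hal _ a)

end Groth.Agent.S6530
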