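import Groth.Statements.S6532
import Groth.Agent.L07.RelationLift

set_option autoImplicit false
universe u
open LCI

namespace Groth.Agent.S6532

/-- Let R' → R be a surjection of Noetherian rings whose kernel is generated by a single element f and
has square zero; let I ⊆ R be the image of the annihilator of f. Let S = R[x_1, …, x_n]/(f_1, …,
f_m) and let ∑ r_j f_j = 0 be a relation in R[x_1, …, x_n] such that (1) every coefficient of every
r_j lies in I, and (2) there are lifts r'_j, f'_j in R'[x_1, …, x_n] and an element g with ∑ r'_j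
f'_j = f g, where g maps to a non-nilpotent element of S/IS. Under these hypotheses, the
Tor-dimension of S over R is infinite (so S fails to be a perfect R-algebra). -/
theorem result {R' R : Type u} [CommRing R'] [CommRing R]
    [IsNoetherianRing R'] [IsNoetherianRing R] (π : R' →+* R) (hπ : Function.Surjective π)
    (f : R') (hker : RingHom.ker π = Ideal.span {f}) (hf : f * f = 0)
    {n m : ℕ} (fs r : Fin m → MvPolynomial (Fin n) R) (hrel : ∑ j, r j * fs j = 0)
    (h1 : ∀ (j : Fin m) (d : Fin n →₀ ℕ),
      MvPolynomial.coeff d (r j) ∈ ((Ideal.span {f}).annihilator).map π)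
    (r' f' : Fin m → MvPolynomial (Fin n) R') (g : MvPolynomial (Fin n) R')
    (hr' : ∀ j, MvPolynomial.map π (r' j) = r j) (hf' : ∀ j, MvPolynomial.map π (f' j) = fs j)
    (hsum : ∑ j, r' j * f' j = MvPolynomial.C f * g)
    (hg : ¬ IsNilpotent (Ideal.Quotient.mk
      (Ideal.span (Set.range fs) ⊔ (((Ideal.span {f}).annihilator).map π).map MvPolynomial.C)
      (MvPolynomial.map π g))) :
    ¬ DRing.HasFiniteTorDim R (MvPolynomial (Fin n) R ⧸ Ideal.span (Set.range fs)) := by
  classical
  rintro ⟨N, hN⟩
  letI := π.toAlgebra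
  let P' := MvPolynomial (Fin n) R'
  let J : Ideal (MvPolynomial (Fin n) R) := Ideal.span (Set.range fs)
  let S := MvPolynomial (Fin n) R ⧸ J
  let I : Ideal R := ((Ideal.span {f}).annihilator).map π
  let q : P' →ₐ[R'] S := (Ideal.Quotient.mkₐ R' J).comp (MvPolynomial.mapAlgHom (Algebra.ofId R' R))
  have hq : ∀ p : P', q p = Ideal.Quotient.mk J (MvPolynomial.map π p) := fun p => rfl
  have hIann : ∀ a : R', f * a = 0 → π a ∈ I := by
    intro a ha
    refine Ideal.mem_map_of_mem π ?_
    rw [Submodule.mem_annihilator_span_singleton, smul_eq_mul, mul_comm]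
    exact ha
  have hI' : ∀ x ∈ I, ∃ a : R', f * a = 0 ∧ π a = x := by
    intro x hx
    obtain ⟨a, ha, rfl⟩ := (Ideal.mem_map_iff_of_surjective π hπ).mp hx
    rw [Submodule.mem_annihilator_span_singleton, smul_eq_mul, mul_comm] at ha
    exact ⟨a, ha, rfl⟩
  have hfr : f • r' = 0 := by
    funext j
    refine MvPolynomial.ext _ _ fun d => ?_
    rw [Pi.smul_apply, MvPolynomial.coeff_smul, smul_eq_mul, Pi.zero_apply, MvPolynomial.coeff_zero]
    have h := h1 j d
    rw [← hr' j, MvPolynomial.coeff_map] at h
    obtain ⟨a, ha, ha'⟩ := hI' _ h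
    have hsub : MvPolynomial.coeff d (r' j) - a ∈ RingHom.ker π := by
      rw [RingHom.mem_ker, map_sub, ha', sub_self]
    rw [hker, Ideal.mem_span_singleton'] at hsub
    obtain ⟨c, hc⟩ := hsub
    rw [eq_add_of_sub_eq hc.symm, mul_add, ha, add_zero, mul_left_comm, hf, mul_zero]
  haveI : Module.Free P' (Groth.L07.RelationLift.Ext P' m) :=
    Module.Free.of_basis (Pi.basisFun P' (Fin m)).ExteriorAlgebra
  haveI : Module.Free R' (Groth.L07.RelationLift.Ext P' m) := Module.Free.trans (R := R') (S := P')
  let D := ℕ →₀ Groth.L07.RelationLift.Ext P' m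
  let dD : D →ₗ[R'] D := Groth.L07.RelationLift.dD R' f' r'
  have hfg : ∀ w : Groth.L07.RelationLift.Ext P' m,
      (∑ j, r' j * f' j) • w = f • (g • w) := fun w => by
    rw [hsum, mul_smul, ← MvPolynomial.algebraMap_eq, algebraMap_smul]
  have hdd : ∀ x, ∃ z, dD (dD x) = f • z := by
    intro x
    induction x using Finsupp.induction_linear with
    | zero => exact ⟨0, by simp⟩
    | add a b ha hb =>
      obtain ⟨u, hu⟩ := ha
      obtain ⟨v, hv⟩ := hb
      exact ⟨u + v, by rw [map_add, map_add, hu, hv, smul_add]⟩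
    | single k w =>
      cases k with
      | zero => exact ⟨0, by rw [Groth.L07.RelationLift.dD_dD_zero, smul_zero]⟩
      | succ k =>
        exact ⟨Finsupp.single k (g • w),
          by rw [Groth.L07.RelationLift.dD_dD_succ, hfg, Finsupp.smul_single]⟩
  let aug : D →ₗ[R'] S := q.toLinearMap ∘ₗ
    (ExteriorAlgebra.algebraMapInv (R := P') (M := Fin m → P')).toLinearMap.restrictScalars R' ∘ₗ
      Finsupp.lapply 0
  have haug' : ∀ (k : ℕ) w, aug (Finsupp.single k w) =
      if k = 0 then q (ExteriorAlgebra.algebraMapInv w) else 0 := by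
    intro k w
    show q (ExteriorAlgebra.algebraMapInv ((Finsupp.single k w : D) 0)) = _
    rw [Finsupp.single_apply]
    split_ifs with h <;> simp
  have haug : ∀ x, aug (dD x) = 0 := by
    intro x
    induction x using Finsupp.induction_linear with
    | zero => simp
    | add a b ha hb => rw [map_add, map_add, ha, hb, add_zero]
    | single k w =>
      cases k with
      | zero =>
        rw [Groth.L07.RelationLift.dD_single_zero, haug', if_pos rfl, hq, Ideal.Quotient.eq_zero_iff_mem]
        have h := Ideal.mem_map_of_mem (MvPolynomial.map π) (Groth.L07.RelationLift.inv_dK_mem f' w)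
        rw [Ideal.map_span, ← Set.range_comp] at h
        rwa [show (MvPolynomial.map π ∘ f') = fs from funext hf'] at h
      | succ k =>
        rw [Groth.L07.RelationLift.dD_single_succ, map_add, haug', haug', if_neg k.succ_ne_zero, zero_add]
        split_ifs
        · rw [map_mul, show ExteriorAlgebra.algebraMapInv (ExteriorAlgebra.ι P' r') = (0 : P') by
            simp [ExteriorAlgebra.algebraMapInv], zero_mul, map_zero]
        · rfl
  obtain ⟨φ, hφ₀, hφ⟩ := Groth.L07.RelationLift.exists_map f S dD hdd aug haug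
  let t : ℕ → P' → D := fun k p => Finsupp.single k (p • 1)
  have hdt0 : ∀ p, dD (t 0 p) = 0 := fun p => by
    rw [Groth.L07.RelationLift.dD_single_zero, map_smul]
    simp [Groth.L07.RelationLift.dK]
  have hdt : ∀ k p, dD (t (k + 1) p) = Finsupp.single k (ExteriorAlgebra.ι P' r' * (p • 1)) := fun k p => by
    rw [Groth.L07.RelationLift.dD_single_succ, map_smul]
    simp [Groth.L07.RelationLift.dK]
  have hfdt : ∀ k p, f • dD (t k p) = 0 := by
    intro k p
    cases k with
    | zero => rw [hdt0, smul_zero]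
    | succ k =>
      rw [hdt, Finsupp.smul_single, ← smul_mul_assoc, ← algebraMap_smul P' f (ExteriorAlgebra.ι P' r'),
        ← map_smul, algebraMap_smul, hfr, map_zero, zero_mul, Finsupp.single_zero]
  have hddt : ∀ k p, dD (dD (t (k + 1) p)) = f • t k (g * p) := fun k p => by
    rw [Groth.L07.RelationLift.dD_dD_succ, hfg, smul_smul g p, Finsupp.smul_single]
  have descend : ∀ k p, Groth.L07.RelationLift.Bd f S (2 * (k + 1)) (φ (2 * (k + 1)) (t (k + 1) p)) →
      Groth.L07.RelationLift.Bd f S (2 * k) (φ (2 * k) (t k (g * p))) := by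
    intro k p h
    refine Groth.L07.RelationLift.bd_descend f S ?_ h
    show Groth.L07.RelationLift.d f S (2 * k) (Groth.L07.RelationLift.d f S (2 * k + 1)
      (φ (2 * k + 1 + 1) (t (k + 1) p))) = _
    rw [hφ, hφ, hddt, map_smul]
  let Bad : Ideal (MvPolynomial (Fin n) R) := J ⊔ I.map MvPolynomial.C
  have base : ∀ p, Groth.L07.RelationLift.Bd f S (2 * 0) (φ (2 * 0) (t 0 p)) →
      MvPolynomial.map π p ∈ Bad := by
    intro p h
    obtain ⟨y, hy⟩ := h
    let u : Groth.L07.RelationLift.F f S 0 := φ 0 (t 0 p) - Groth.L07.RelationLift.d f S 0 y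
    have hu : f • u = 0 := (smul_sub f (φ 0 (t 0 p)) (Groth.L07.RelationLift.d f S 0 y)).trans (sub_eq_zero.mpr hy)
    have hεd : Groth.L07.RelationLift.ε f S (Groth.L07.RelationLift.d f S 0 y) = 0 := by
      rw [← LinearMap.mem_ker, ← Groth.L07.RelationLift.K_zero, ← Groth.L07.RelationLift.range_d]
      exact ⟨y, rfl⟩
    have hu2 : Finsupp.linearCombination R' (id : S → S) u = q p := by
      show Groth.L07.RelationLift.ε f S (φ 0 (t 0 p) - Groth.L07.RelationLift.d f S 0 y) = _
      rw [map_sub, hεd, sub_zero, hφ₀, haug', if_pos rfl, map_smul, map_one, smul_eq_mul, mul_one]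
    have key0 : ∀ v : S →₀ R', f • v = 0 →
        Finsupp.linearCombination R' (id : S → S) v ∈ Bad.map (Ideal.Quotient.mk J) := by
      intro v hv
      rw [Finsupp.linearCombination_apply]
      refine Submodule.sum_mem _ fun s _ => ?_
      show (v s) • (s : S) ∈ _
      have hsm : (v s) • (s : S) = algebraMap R S (π (v s)) * s := (algebraMap_smul R (v s) (s : S)).symm.trans (Algebra.smul_def (π (v s)) (s : S))
      rw [hsm]
      exact Ideal.mul_mem_right _ _ (Ideal.mem_map_of_mem _ (Ideal.mem_sup_right (Ideal.mem_map_of_mem _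
        (hIann _ (DFunLike.congr_fun hv s)))))
    have hmem := key0 u hu
    rw [hu2, hq, Ideal.mem_quotient_iff_mem le_sup_left] at hmem
    exact hmem
  have key : ∀ k p, Groth.L07.RelationLift.Bd f S (2 * k) (φ (2 * k) (t k p)) →
      MvPolynomial.map π (g ^ k * p) ∈ Bad := by
    intro k
    induction k with
    | zero => intro p h; rw [pow_zero, one_mul]; exact base p h
    | succ k ih =>
      intro p h
      rw [pow_succ, mul_assoc]
      exact ih _ (descend k p h)
  have hbd : Groth.L07.RelationLift.Bd f S (2 * (N + 1)) (φ (2 * (N + 1)) (t (N + 1) 1)) := by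
    refine Groth.L07.RelationLift.bd_of_isZero_tor f (S := S) hπ hker I hIann hI' hf (2 * N + 1) ?_
      (φ (2 * N + 1 + 1) (t (N + 1) 1)) ?_
    · exact @ModuleCat.isZero_of_subsingleton R _ _ (hN (R ⧸ I) (2 * N + 1 + 1) (by omega))
    · rw [hφ, ← map_smul, hfdt, map_zero]
  have hgN := key (N + 1) 1 hbd
  rw [mul_one, map_pow, ← Ideal.Quotient.eq_zero_iff_mem, map_pow] at hgN
  exact hg ⟨N + 1, hgN⟩

end Groth.Agent.S6532
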