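import Groth.Statements.S6540
import Groth.Agent.L21.RR.Twist

set_option autoImplicit false
universe u
open CategoryTheory CategoryTheory.Limits AlgebraicGeometry
open Curves

namespace Groth.Agent.S6540

/-- Let X be a proper curve over the field k (proper, integral, of dimension one) with H^0(X, O_X) = k
and genus 0. Then every invertible O_X-module of degree 0 is trivial, i.e. isomorphic to O_X. -/
theorem result (k : Type u) [Field k] (X : Scheme.{u}) [X.Over (Spec (CommRingCat.of k))]
    [IsIntegral X] [IsProper (X ↘ (Spec (CommRingCat.of k)))] (hdim : topologicalKrullDim X = 1)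
    (h0 : Module.finrank k (Coh.HH X (Coh.structureModule X) 0) = 1) (hg : Curv2.genus k X = 0)
    (L : X.Modules) (hL : PicF.IsInvertible L) (hdeg : Curv2.deg k X L 1 = 0) :
    Nonempty (L ≅ Coh.structureModule X) := by
  haveI := Groth.L21.RR.isNoetherian_of_proper (X := X) k
  have hg' : Groth.L21.RR.h k 1 (Coh.structureModule X) = 0 := hg
  have hd' : Curv2.deg k X L 1 = Curv2.euler k X L - (1 : ℕ) * Curv2.euler k X (Coh.structureModule X) := rfl
  rw [Groth.L21.RR.euler_eq k hdim.le, Groth.L21.RR.euler_eq k hdim.le, hg', hdeg] at hd'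
  simp only [Groth.L21.RR.h] at hd'
  rw [h0] at hd'
  push_cast at hd'
  have hpos : 0 < Module.finrank k (Coh.HH X L 0) := by omega
  haveI : Nontrivial (Coh.HH X L 0) := Module.nontrivial_of_finrank_pos hpos
  obtain ⟨φ, hφ⟩ := Groth.L21.RR.exists_hom_ne_zero (L := L)
  have hQ := Groth.L21.RR.deg_eq_h0_cokernel k hdim.le hL hφ
  rw [hdeg] at hQ
  haveI := Groth.L21.RR.mono_of_ne_zero hL hφ
  have hQs := Groth.L21.RR.suppClosed_cokernel hdim.le hL hφ
  haveI := Groth.L21.RR.finite_HH' k (Groth.L16.CohKernel.isCoh_kernel_cokernel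
    (Groth.L16.CohClosedPush.isCoh_structure (X := X)) (Groth.L16.ProperFinite.isCoh_of_isInvertible hL) φ).2 0
  have hsub : Subsingleton (Coh.HH X (cokernel φ) 0) :=
    Module.finrank_zero_iff.1 (show Groth.L21.RR.h k 0 (cokernel φ) = 0 by omega)
  haveI : Epi φ := by
    refine Abelian.epi_of_cokernel_π_eq_zero φ (IsZero.eq_of_tgt ?_ _ _)
    refine (Groth.L21.Mod.isZero_iff_stalk_subsingleton _).2 fun x => ?_
    refine subsingleton_of_forall_eq 0 fun v => ?_
    obtain ⟨s, hs, -⟩ := Groth.L21.RR.exists_section_germ hQs x v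
    rw [← hs, show s = 0 from (Groth.L21.RR.e0 _).symm.injective (Subsingleton.elim _ _)]
    exact map_zero _
  haveI : IsIso φ := isIso_of_mono_of_epi φ
  exact ⟨(asIso φ).symm⟩

end Groth.Agent.S6540
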