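import Groth.Statements.S6542
import Groth.Agent.L21.RR.ProjLineRecog
import Groth.Agent.L21.RR.PointPow
import Groth.Agent.L21.Duality.Deg
import Groth.Agent.L22.CurveDeg.Maps
import Groth.Agent.L08.Cube.Inverse
import Groth.Agent.L18.Ample

set_option linter.style.haveILetI false


set_option autoImplicit false
universe u
open CategoryTheory CategoryTheory.Limits AlgebraicGeometry
attribute [local instance] Curv2.resAlgebra
open Curves

namespace Groth.Agent.S6542

/-- Let X be a proper curve over the field k (proper, integral, of dimension one). If H^1(X, O_X) = 0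
and there are closed points x_1, ..., x_n of X whose local rings are normal and whose residue-field
degrees over k have greatest common divisor 1, then X is isomorphic to P^1_k over k. -/
theorem result (k : Type u) [Field k] (X : Scheme.{u}) [X.Over (Spec (CommRingCat.of k))]
    [IsIntegral X] [IsProper (X ↘ (Spec (CommRingCat.of k)))] (hdim : topologicalKrullDim X = 1)
    (h1 : Subsingleton (Coh.HH X (Coh.structureModule X) 1))
    (s : Finset X) (hcl : ∀ x ∈ s, IsClosed ({x} : Set X)) (hn : ∀ x ∈ s, IsIntegrallyClosed (X.presheaf.stalk x))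
    (hgcd : s.gcd (fun x => Module.finrank k (X.residueField x)) = 1) :
    ∃ e : X ≅ CohB1.ProjSpace 1 k, e.hom ≫ CohB1.ProjSpace.toSpec 1 k = X ↘ (Spec (CommRingCat.of k)) := by

  haveI := Groth.L21.RR.isNoetherian_of_proper (X := X) k
  let H : AddSubgroup ℤ :=
    { carrier := {d | ∃ L : X.Modules, PicF.IsInvertible L ∧ Curv2.deg k X L 1 = d}
      zero_mem' := ⟨_, Groth.L18.Ample.isInvertible_structureModule X, Groth.L22.CurveDeg.deg_structure k⟩
      add_mem' := by
        rintro _ _ ⟨L, hL, rfl⟩ ⟨M, hM, rfl⟩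
        exact ⟨_, Groth.L18.GenLoc.isInvertible_tensor hL hM, Groth.L21.Duality.deg_tensor hdim hL hM⟩
      neg_mem' := by
        rintro _ ⟨L, hL, rfl⟩
        obtain ⟨L', hL', ⟨i⟩⟩ := Groth.L08.Cube.exists_inverse hL
        refine ⟨L', hL', ?_⟩
        have h2 := Groth.L21.Duality.deg_tensor (k := k) hdim hL hL'
        rw [Groth.L21.RR.deg_congr k i, Groth.L22.CurveDeg.deg_structure k] at h2
        linarith }
  have hmem : ∀ x ∈ s, (Module.finrank k (X.residueField x) : ℤ) ∈ H := fun x hx => by
    haveI := hn x hx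
    haveI : Ring.KrullDimLE 1 (X.presheaf.stalk x) := Ring.krullDimLE_iff.2
      ((Groth.L21.SmoothDescent.ringKrullDim_stalk_le x).trans hdim.le)
    haveI : Ring.DimensionLEOne (X.presheaf.stalk x) :=
      ⟨fun {p} hp0 hp => (Ring.krullDimLE_one_iff_of_noZeroDivisors.1 inferInstance) p hp0 hp⟩
    haveI : IsDedekindDomain (X.presheaf.stalk x) := {}
    haveI : IsPrincipalIdealRing (X.presheaf.stalk x) :=
      IsPrincipalIdealRing.of_finite_primes (by
        rw [show {I : Ideal (X.presheaf.stalk x) | I.IsPrime} = Set.range PrimeSpectrum.asIdeal from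
          Set.ext fun I => ⟨fun h => ⟨⟨I, h⟩, rfl⟩, fun ⟨p, hp⟩ => hp ▸ p.2⟩]
        refine Set.Finite.subset ((Set.finite_singleton (IsLocalRing.maximalIdeal (X.presheaf.stalk x))).insert ⊥) ?_
        rintro _ ⟨p, rfl⟩
        by_cases h : p.asIdeal = ⊥
        · exact Or.inl h
        · exact Or.inr (IsLocalRing.eq_maximalIdeal (Ideal.IsPrime.isMaximal p.2 h)))
    obtain ⟨hI, he⟩ := Groth.L21.RR.idealMod_point_pow k hdim (hcl x hx) inferInstance 1
    refine neg_mem_iff.1 ⟨_, hI, ?_⟩
    rw [Curv2.deg, he]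
    push_cast
    ring
  have h1H : (1 : ℤ) ∈ H := by
    obtain ⟨g, hg⟩ := Int.subgroup_cyclic H
    rw [← AddSubgroup.zmultiples_eq_closure] at hg
    rw [hg, Int.mem_zmultiples_iff]
    have hd : g.natAbs ∣ s.gcd (fun x => Module.finrank k (X.residueField x)) := by
      refine Finset.dvd_gcd fun x hx => ?_
      have := hmem x hx
      rw [hg, Int.mem_zmultiples_iff] at this
      exact Int.natCast_dvd_natCast.1 (Int.natAbs_dvd.2 this)
    rw [hgcd] at hd
    exact Int.natAbs_dvd_natAbs.1 (by simpa using hd)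
  obtain ⟨L, hL, hdeg⟩ := h1H
  obtain ⟨e, he, -⟩ := Groth.L21.RR.exists_iso_projLine k hdim h1 hL hdeg
  exact ⟨e, he⟩


end Groth.Agent.S6542
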