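import Groth.Statements.S6543
import Groth.Agent.L21.CurveDual.Exists
import Groth.Agent.L21.CurveGor.Main
import Groth.Agent.L21.Nodal.ClosedSub
import Groth.Agent.L21.RR.ProjLineRecog
import Groth.Agent.L21.Duality.Deg
import Groth.Agent.L21.GenusOne.GlobGen

set_option autoImplicit false
set_option backward.isDefEq.respectTransparency false
universe u
open CategoryTheory CategoryTheory.Limits AlgebraicGeometry
open Curves

namespace Groth.Agent.S6543

/-- Let X be a proper curve over the field k (proper, integral, of dimension one) with H^0(X, O_X) = k,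
genus 0 and Gorenstein local rings. If X has an invertible O_X-module of odd degree, then X is
isomorphic to P^1_k over k. -/
theorem result (k : Type u) [Field k] (X : Scheme.{u}) [X.Over (Spec (CommRingCat.of k))]
    [IsIntegral X] [IsProper (X ↘ (Spec (CommRingCat.of k)))] (hdim : topologicalKrullDim X = 1)
    (h0 : Module.finrank k (Coh.HH X (Coh.structureModule X) 0) = 1) (hg : Curv2.genus k X = 0) (hgor : ∀ x : X, LocCoh.IsGorensteinLocalRing (X.presheaf.stalk x))
    (L : X.Modules) (hL : PicF.IsInvertible L) (hodd : Odd (Curv2.deg k X L 1)) :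
    ∃ e : X ≅ CohB1.ProjSpace 1 k, e.hom ≫ CohB1.ProjSpace.toSpec 1 k = X ↘ (Spec (CommRingCat.of k)) := by
  haveI : IsProper (X ↘ Spec (CommRingCat.of k)) := inferInstance
  haveI := Groth.L21.RR.isNoetherian_of_proper (X := X) k
  have hd := hdim.le
  obtain ⟨ω, t, ht⟩ := Groth.L21.CurveDual.exists_isRDual_of_proper (X := X) k hd
  have hcl : Groth.L21.Nodal.CurveLike X :=
    ⟨fun a b c hab hbc => Groth.L21.RR.Top.spec_of_dim_le_one (X := X.toTopCat) hd a b c hab hbc,
      fun x hx => ⟨genericPoint X, (Groth.L21.RR.ne_genericPoint_of_isClosed hdim hx).symm,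
        (genericPoint_spec X).specializes trivial⟩⟩
  have S : Groth.L21.CurveGor.Setup k X ω t :=
    { hd := hd
      hω := ht
      hnf := fun x hx => Groth.L21.Nodal.not_isField_stalk_of_curveLike hcl x hx
      hopen := fun x hx ho => Groth.L21.RR.ne_genericPoint_of_isClosed hdim hx
        (((genericPoint_spec X).specializes (Set.mem_univ x)).mem_open ho rfl).symm }
  have hω : PicF.IsInvertible ω := S.isInvertible fun x _ => hgor x
  have heO : Curv2.euler k X (Coh.structureModule X) = 1 := by
    rw [Groth.L21.RR.euler_eq k hd]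
    change ((Module.finrank k (Coh.HH X (Coh.structureModule X) 0) : ℤ) - _) = 1
    rw [h0, show Groth.L21.RR.h k 1 (Coh.structureModule X) = 0 from hg]
    rfl
  have hdω : Curv2.deg k X ω 1 = -2 := by
    rw [Curv2.deg, Groth.L21.CurveDual.euler_eq_neg hd ht S.assO, heO]
    rfl
  have hdO : Curv2.deg k X (Coh.structureModule X) 1 = 0 := by
    rw [Curv2.deg]; push_cast; ring
  have hadj : ∀ M : X.Modules, PicF.IsInvertible M → ∀ m : ℕ, ∀ c : ℤ, Curv2.deg k X M 1 = c + 2 * m →
      ∃ N : X.Modules, PicF.IsInvertible N ∧ Curv2.deg k X N 1 = c := fun M hM m => by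
    induction m with
    | zero => exact fun c hc => ⟨M, hM, by simpa using hc⟩
    | succ m ih =>
      intro c hc
      obtain ⟨N, hN, hNd⟩ := ih (c + 2) (by push_cast at hc; omega)
      exact ⟨_, Groth.L18.GenLoc.isInvertible_tensor hN hω,
        by rw [Groth.L21.Duality.deg_tensor (k := k) hdim hN hω, hNd, hdω]; omega⟩
  obtain ⟨r, hr⟩ := hodd
  obtain ⟨B, hB, ⟨c⟩⟩ := Groth.L08.Cube.exists_inverse hL
  have hBd : Curv2.deg k X B 1 = - Curv2.deg k X L 1 := by
    have h1 := Groth.L21.Duality.deg_tensor (k := k) hdim hL hB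
    rw [Groth.L21.RR.deg_congr k c, hdO] at h1
    omega
  obtain ⟨N, hN, hNd⟩ : ∃ N : X.Modules, PicF.IsInvertible N ∧ Curv2.deg k X N 1 = 1 := by
    rcases le_or_gt 0 r with hr0 | hr0
    · exact hadj L hL r.toNat 1 (by omega)
    · exact hadj B hB (-r - 1).toNat 1 (by omega)
  haveI := Groth.L21.RR.finite_HH' k (Groth.L16.CohClosedPush.isCoh_structure (X := X)) 1
  obtain ⟨e, he, -⟩ := Groth.L21.RR.exists_iso_projLine k hdim (Module.finrank_zero_iff.1 hg) hN hNd
  exact ⟨e, he⟩

end Groth.Agent.S6543
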