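import Groth.Statements.S6544
import Groth.Agent.L21.Duality.Main
import Groth.Agent.L21.Duality.Deg
import Groth.Agent.L21.Disc.SimplyConn
import Groth.Agent.L21.RR.GeomGenusZero
import Groth.Agent.L21.RR.ProjLineRecog
import Groth.Agent.L22.CurveDeg.Maps

set_option autoImplicit false
set_option backward.isDefEq.respectTransparency false
universe u
open CategoryTheory CategoryTheory.Limits AlgebraicGeometry
open Curves

namespace Groth.Agent.S6544

/-- Let X be a proper curve over the field k (proper, integral, of dimension one) which is smooth and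
geometrically irreducible over k, of genus 0. If X has an invertible O_X-module of odd degree, then
X is isomorphic to P^1_k over k. -/
theorem result (k : Type u) [Field k] (X : Scheme.{u}) [X.Over (Spec (CommRingCat.of k))]
    [IsIntegral X] [IsProper (X ↘ (Spec (CommRingCat.of k)))] (hdim : topologicalKrullDim X = 1)
    [Smooth (X ↘ (Spec (CommRingCat.of k)))] [GeometricallyIrreducible (X ↘ (Spec (CommRingCat.of k)))] (hg : Curv2.genus k X = 0)
    (L : X.Modules) (hL : PicF.IsInvertible L) (hodd : Odd (Curv2.deg k X L 1)) :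
    ∃ e : X ≅ CohB1.ProjSpace 1 k, e.hom ≫ CohB1.ProjSpace.toSpec 1 k = X ↘ (Spec (CommRingCat.of k)) := by
  haveI : GeometricallyConnected (X ↘ Spec (CommRingCat.of k)) := ⟨fun K _ y Y g q sq => by
    haveI : IrreducibleSpace Y :=
      GeometricallyIrreducible.geometrically_irreducibleSpace (f := X ↘ Spec (CommRingCat.of k)) y g q sq
    infer_instance⟩
  haveI : GeometricallyIntegral (X ↘ Spec (CommRingCat.of k)) :=
    Groth.L21.Disc.geometricallyIntegral_of_smooth (X ↘ Spec (CommRingCat.of k))
  haveI := Groth.L21.RR.isNoetherian_of_proper (X := X) k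
  have h0 := Groth.L21.RR.h0_eq_one_of_geometricallyIntegral (X := X) k hdim
  have hΩ := Groth.L21.Duality.isInvertible_omega (k := k) (X := X) hdim
  have hΩd : Curv2.deg k X (Omega.sheaf (X ↘ Spec (CommRingCat.of k))) 1 = -2 := by
    rw [(Groth.L21.Duality.omega_invariants (k := k) (X := X) hdim).2.2 h0, hg]; norm_num
  have h1 : Subsingleton (Coh.HH X (Coh.structureModule X) 1) := by
    haveI := Groth.L21.RR.finite_HH' k (Groth.L16.CohClosedPush.isCoh_structure (X := X)) 1
    exact Module.finrank_zero_iff.1 hg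
  suffices h : ∀ (n : ℕ) (M : X.Modules), PicF.IsInvertible M → Curv2.deg k X M 1 = 2 * (n : ℤ) + 1 →
      ∃ M₁ : X.Modules, PicF.IsInvertible M₁ ∧ Curv2.deg k X M₁ 1 = 1 by
    obtain ⟨m, hm⟩ := hodd
    obtain ⟨M₁, hM₁, hdeg₁⟩ : ∃ M₁ : X.Modules, PicF.IsInvertible M₁ ∧ Curv2.deg k X M₁ 1 = 1 := by
      rcases le_or_gt 0 m with hm0 | hm0
      · exact h m.toNat L hL (by rw [hm, Int.toNat_of_nonneg hm0])
      · obtain ⟨L', hL', ⟨i⟩⟩ := Groth.L08.Cube.exists_inverse hL
        refine h (-m - 1).toNat L' hL' ?_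
        have h2 := Groth.L21.Duality.deg_tensor (k := k) hdim hL hL'
        rw [Groth.L21.RR.deg_congr k i, Groth.L22.CurveDeg.deg_structure, hm] at h2
        rw [Int.toNat_of_nonneg (by omega)]
        omega
    obtain ⟨e, he, -⟩ := Groth.L21.RR.exists_iso_projLine k hdim h1 hM₁ hdeg₁
    exact ⟨e, he⟩
  intro n
  induction n with
  | zero => exact fun M hM hdeg => ⟨M, hM, by simpa using hdeg⟩
  | succ n ih =>
    intro M hM hdeg
    refine ih _ (Groth.L18.GenLoc.isInvertible_tensor hM hΩ) ?_
    rw [Groth.L21.Duality.deg_tensor hdim hM hΩ, hΩd, hdeg]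
    push_cast
    ring

end Groth.Agent.S6544
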