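import Groth.Statements.S6548
import Groth.Agent.L26.JacRat.FullTorsion
import Groth.Agent.L21.Sep.Bertini
import Groth.Agent.L21.Duality.Special
import Groth.Agent.L21.Duality.EllipticPic
import Groth.Agent.L21.Duality.Deg

set_option autoImplicit false
universe u
open CategoryTheory CategoryTheory.Limits AlgebraicGeometry
open Curves

namespace Groth.Agent.S6548

/-- Let k be a field, n a natural number invertible in k, and X a smooth proper curve over k (proper,
smooth, integral, of dimension one) with H^0(X, O_X) = k and genus 1. Then over some finite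
separable field extension k′ of k the base change X_{k′} acquires a point rational over k′ (a
section of X_{k′} → Spec k′) and has exactly n^2 isomorphism classes of invertible modules M with
M^{⊗n} ≅ O. (The published statement gives Pic(X_{k′})[n] ≅ (Z/nZ)^2; this row states the number of
classes, which is equivalent because pullback embeds Pic(X_{k′}) into the Picard group over an
algebraic closure.) -/
theorem result (k : Type u) [Field k] (X : Scheme.{u}) [X.Over (Spec (CommRingCat.of k))]
    [IsIntegral X] [IsProper (X ↘ (Spec (CommRingCat.of k)))] [Smooth (X ↘ (Spec (CommRingCat.of k)))] (hdim : topologicalKrullDim X = 1)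
    (h0 : Module.finrank k (Coh.HH X (Coh.structureModule X) 0) = 1) (hg : Curv2.genus k X = 1)
    (n : ℕ) (hn : IsUnit (n : k)) :
    ∃ (k' : Type u) (_ : Field k') (_ : Algebra k k'), FiniteDimensional k k' ∧ Algebra.IsSeparable k k' ∧
      (∃ x : Spec (CommRingCat.of k') ⟶ Curv2.bc k X k', x ≫ Curv2.bcSnd k X k' = 𝟙 _) ∧
      Nat.card {c : PicF.Cl (Curv2.bc k X k') | ∃ M : Scheme.Modules (Curv2.bc k X k'), PicF.cl M = c ∧ PicF.IsInvertible M ∧ Nonempty (CohB1.tensorPow M (n) ≅ Coh.structureModule (Curv2.bc k X k'))} = n ^ 2 := by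
  haveI := Groth.L21.RR.isNoetherian_of_proper (X := X) k
  haveI : CompactSpace X := QuasiCompact.compactSpace_of_compactSpace (X ↘ Spec (CommRingCat.of k))
  obtain ⟨P, -, hP⟩ := (isClosed_univ (X := X)).exists_closed_singleton Set.univ_nonempty
  letI := fun z : X => Curv2.resAlgebra k X z
  obtain ⟨hI, hdI⟩ := Groth.L21.Duality.deg_ptI (k := k) hdim hP
  haveI : Module.Finite k (X.residueField P) := Groth.L21.Disc.finite_residueField_of_isClosed (k := k) hP
  obtain ⟨D, hD, ⟨e⟩⟩ := Groth.L08.Cube.exists_inverse hI
  have hdD : 1 ≤ Curv2.deg k X D 1 := by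
    have h1 := Groth.L21.Duality.deg_tensor (k := k) hdim hI hD
    have h3 := Groth.L21.Duality.deg_congr (k := k) e
    have h4 : Curv2.deg k X (Coh.structureModule X) 1 = 0 := by
      rw [Curv2.deg, Nat.cast_one, one_mul, sub_self]
    have h2 : 0 < Module.finrank k (X.residueField P) := Module.finrank_pos
    omega
  have hD2 : PicF.IsInvertible (CohB1.tensorMod D D) := Groth.L18.GenLoc.isInvertible_tensor hD hD
  have hdeg2 := Groth.L21.Duality.deg_tensor (k := k) hdim hD hD
  have hrr := Groth.L21.Duality.rr_deg (k := k) hdim.le h0 (CohB1.tensorMod D D)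
  obtain ⟨x, -, hsep, -, hfin⟩ := Groth.L21.SepSeries.exists_separable_point k hdim h0 hD2
    (by omega) (by omega)
  obtain ⟨k', i₁, i₂, h1, h2, -, h4, h5⟩ :=
    Groth.Agent.L26.JacRat.exists_full_torsion k X hdim h0 x hsep hfin n hn
  exact ⟨k', i₁, i₂, h1, h2, h4, h5.trans (by rw [hg])⟩

end Groth.Agent.S6548
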