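import Groth.Statements.S6557
import Groth.Agent.L21.Curve.SmoothDescent
import Groth.Agent.L21.Curve.DVR

set_option autoImplicit false
universe u
open CategoryTheory CategoryTheory.Limits AlgebraicGeometry
open Curves

namespace Groth.Agent.S6557

/-- Let k be a field and f : X → Y a surjective morphism over k of curves over k (integral, separated,
of finite type over k, of dimension one). If X is smooth over k and every local ring of Y is an
integrally closed domain, then Y is also smooth over k. -/
theorem result (k : Type u) [Field k]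
    (X Y : Scheme.{u}) [X.Over (Spec (CommRingCat.of k))] [Y.Over (Spec (CommRingCat.of k))]
    [IsIntegral X] [IsSeparated (X ↘ (Spec (CommRingCat.of k)))] [LocallyOfFiniteType (X ↘ (Spec (CommRingCat.of k)))] [QuasiCompact (X ↘ (Spec (CommRingCat.of k)))] (hdX : topologicalKrullDim X = 1) [IsIntegral Y] [IsSeparated (Y ↘ (Spec (CommRingCat.of k)))] [LocallyOfFiniteType (Y ↘ (Spec (CommRingCat.of k)))] [QuasiCompact (Y ↘ (Spec (CommRingCat.of k)))] (hdY : topologicalKrullDim Y = 1)
    (f : X ⟶ Y) (hf : f ≫ (Y ↘ (Spec (CommRingCat.of k))) = X ↘ (Spec (CommRingCat.of k))) [Surjective f]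
    [Smooth (X ↘ (Spec (CommRingCat.of k)))] (hY : Pi1.IsNormalScheme Y) :
    Smooth (Y ↘ (Spec (CommRingCat.of k))) := by
  haveI : IsLocallyNoetherian Y := LocallyOfFiniteType.isLocallyNoetherian (Y ↘ (Spec (CommRingCat.of k)))
  haveI : CompactSpace Y := QuasiCompact.compactSpace_of_compactSpace (Y ↘ (Spec (CommRingCat.of k)))
  haveI : IsNoetherian Y := ⟨⟩
  have hnt : (Set.range f).Nontrivial := by
    rw [Set.range_eq_univ.mpr f.surjective]
    by_contra h
    have hs : (Set.univ : Set Y).Subsingleton := Set.not_nontrivial_iff.mp h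
    obtain ⟨y, -, hy⟩ := IsClosed.exists_closed_singleton (S := (Set.univ : Set Y)) isClosed_univ ⟨genericPoint Y, trivial⟩
    exact Groth.L21.Curve.ne_genericPoint hdY hy (hs trivial trivial)
  haveI : Flat f := Groth.L21.flat_of_nonconstant hdY.le hY f hnt
  haveI : Smooth (f ≫ (Y ↘ (Spec (CommRingCat.of k)))) := by rw [hf]; infer_instance
  exact Groth.L21.SmoothDescent.smooth_of_flat_surjective f (Y ↘ (Spec (CommRingCat.of k))) hdX.le

end Groth.Agent.S6557
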