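import Groth.Statements.S6558
import Groth.Agent.L21.Insep.Compare
import Groth.Agent.L21.RR.BaseChange
import Groth.Agent.L21.Smooth.Scheme

set_option autoImplicit false
set_option backward.isDefEq.respectTransparency false
set_option backward.isDefEq.respectTransparency.types false
universe u
open CategoryTheory CategoryTheory.Limits AlgebraicGeometry
open Curves

namespace Groth.Agent.S6558

/-- Let p be a prime number, k a field of characteristic p, and f : X → Y a nonconstant morphism over k
of proper nonsingular curves over k (proper, integral, of dimension one, all local rings regular),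
nonconstant meaning f(ξ_X) = ξ_Y for the generic points (hypothesis e), so that k(Y) maps into k(X).
Assume X is smooth over k with H^0(X, O_X) = k and k(X)/k(Y) purely inseparable. Then Y is smooth
over k, its global functions are the constants k, and Y and X have the same genus. -/
theorem result (k : Type u) [Field k] (p : ℕ) [Fact p.Prime] [CharP k p]
    (X Y : Scheme.{u}) [X.Over (Spec (CommRingCat.of k))] [Y.Over (Spec (CommRingCat.of k))]
    [IsIntegral X] [IsProper (X ↘ (Spec (CommRingCat.of k)))] (hdX : topologicalKrullDim X = 1) (hregX : ∀ x : X, IsRegularLocalRing (X.presheaf.stalk x))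
    [IsIntegral Y] [IsProper (Y ↘ (Spec (CommRingCat.of k)))] (hdY : topologicalKrullDim Y = 1) (hregY : ∀ y : Y, IsRegularLocalRing (Y.presheaf.stalk y))
    (f : X ⟶ Y) (hf : f ≫ (Y ↘ (Spec (CommRingCat.of k))) = X ↘ (Spec (CommRingCat.of k))) (e : f (genericPoint X) = genericPoint Y)
    [Smooth (X ↘ (Spec (CommRingCat.of k)))] (h0 : Module.finrank k (Coh.HH X (Coh.structureModule X) 0) = 1)
    (hpi : letI := ((Y.presheaf.stalkSpecializes (specializes_of_eq e) ≫ f.stalkMap (genericPoint X)).hom).toAlgebra
      IsPurelyInseparable Y.functionField X.functionField) :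
    Smooth (Y ↘ (Spec (CommRingCat.of k))) ∧ Module.finrank k (Coh.HH Y (Coh.structureModule Y) 0) = 1 ∧
      Curv2.genus k Y = Curv2.genus k X := by
  haveI : IsLocallyNoetherian Y := LocallyOfFiniteType.isLocallyNoetherian (Y ↘ Spec (CommRingCat.of k))
  have hnY : ∀ y : Y, IsDomain (Y.presheaf.stalk y) ∧ IsIntegrallyClosed (Y.presheaf.stalk y) := fun y => by
    haveI := hregY y
    exact ⟨inferInstance, Groth.L03.RegularNormal.isIntegrallyClosed _⟩
  obtain ⟨r, Z, π, sZ, hpb, i, hi⟩ := Groth.L21.Insep.exists_iso_frobeniusTwist k p hdX hdY hnY f hf e hpi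
  letI : Z.Over (Spec (CommRingCat.of k)) := ⟨sZ⟩
  haveI : IsProper sZ := MorphismProperty.of_isPullback hpb inferInstance
  haveI : IsProper (Z ↘ Spec (CommRingCat.of k)) := ‹IsProper sZ›
  haveI : Smooth sZ := MorphismProperty.of_isPullback hpb inferInstance
  have hbc : ∀ q : ℕ, Groth.L21.RR.h k q (Coh.structureModule Z) = Groth.L21.RR.h k q (Coh.structureModule X) := by
    letI : Algebra k k := (iterateFrobenius k p r).toAlgebra
    exact fun q => Groth.L21.RR.h_structure_bc (k := k) (K := k) π hpb q
  have hiso : ∀ q : ℕ, Groth.L21.RR.h k q (Coh.structureModule Y) = Groth.L21.RR.h k q (Coh.structureModule Z) :=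
    fun q => Groth.L21.RR.h_structure_bc (k := k) (K := k) i.hom (Groth.L21.RR.isPullback_of_iso i hi) q
  refine ⟨?_, ?_, ?_⟩
  · rw [← hi]; infer_instance
  · exact ((hiso 0).trans (hbc 0)).trans h0
  · exact (hiso 1).trans (hbc 1)

end Groth.Agent.S6558
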