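import Groth.Statements.S6559
import Groth.Agent.L16.RatMapExt
import Mathlib.AlgebraicGeometry.ValuativeCriterion
import Mathlib.RingTheory.Valuation.ValuationRing

set_option autoImplicit false
universe u
open CategoryTheory CategoryTheory.Limits AlgebraicGeometry
open Curves

namespace Groth.Agent.S6559

/-- Let k be a field, X a curve over k (integral, separated and of finite type over k, of dimension
one), Y a proper variety over k (integral, proper over k), U ⊆ X a nonempty open and f : U → Y a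
morphism over k. If the local ring of X at a closed point x is a discrete valuation ring, then f
extends to a k-morphism U' → Y on some open U' ⊇ U of X containing x. -/
theorem result (k : Type u) [Field k]
    (X Y : Scheme.{u}) [X.Over (Spec (CommRingCat.of k))] [Y.Over (Spec (CommRingCat.of k))]
    [IsIntegral X] [IsSeparated (X ↘ (Spec (CommRingCat.of k)))] [LocallyOfFiniteType (X ↘ (Spec (CommRingCat.of k)))] [QuasiCompact (X ↘ (Spec (CommRingCat.of k)))] (hdX : topologicalKrullDim X = 1)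
    [IsIntegral Y] [IsProper (Y ↘ (Spec (CommRingCat.of k)))]
    (U : X.Opens) (hU : (U : Set X).Nonempty) (f : (U : Scheme.{u}) ⟶ Y) (hf : f ≫ (Y ↘ (Spec (CommRingCat.of k))) = U.ι ≫ (X ↘ (Spec (CommRingCat.of k))))
    (x : X) (hx : IsClosed ({x} : Set X)) (hdvr : IsDiscreteValuationRing (X.presheaf.stalk x)) :
    ∃ (U' : X.Opens) (hUU' : U ≤ U') (f' : (U' : Scheme.{u}) ⟶ Y), x ∈ U' ∧
      f' ≫ (Y ↘ (Spec (CommRingCat.of k))) = U'.ι ≫ (X ↘ (Spec (CommRingCat.of k))) ∧ X.homOfLE hUU' ≫ f' = f := by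
  classical
  haveI : IsDomain (X.presheaf.stalk x) := inferInstance
  haveI := hdvr
  let g₀ : X.PartialMap Y := ⟨U, U.isOpen.dense hU, f⟩
  haveI hg₀ : g₀.IsOver (Spec (CommRingCat.of k)) := ⟨hf⟩
  have hη : genericPoint X ⤳ x := genericPoint_specializes x
  have w : g₀.fromFunctionField ≫ (Y ↘ (Spec (CommRingCat.of k))) =
      Spec.map (X.presheaf.stalkSpecializes hη) ≫ X.fromSpecStalk x ≫ (X ↘ (Spec (CommRingCat.of k))) := by
    rw [Scheme.SpecMap_stalkSpecializes_fromSpecStalk_assoc]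
    unfold Scheme.PartialMap.fromFunctionField Scheme.PartialMap.fromSpecStalkOfMem
    rw [Category.assoc, hg₀.comp_over]
    exact Scheme.Opens.fromSpecStalkOfMem_ι_assoc _ _ _ _
  have hex : ValuativeCriterion.Existence (Y ↘ (Spec (CommRingCat.of k))) := by
    have h : UniversallyClosed (Y ↘ (Spec (CommRingCat.of k))) := inferInstance
    rw [UniversallyClosed.eq_valuativeCriterion] at h
    exact h.1
  obtain ⟨l, hl₁, hl₂⟩ := (hex { R := X.presheaf.stalk x, K := X.functionField, commSq := ⟨w⟩, .. }).exists_lift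
  obtain ⟨g, hg, hgf, hxg⟩ := (Groth.L16.definedOver_iff (S := Spec (CommRingCat.of k)) g₀.toRationalMap x).mpr
    ⟨l, hl₂, by rw [Scheme.RationalMap.fromFunctionField_toRationalMap]; exact hl₁⟩
  obtain ⟨G, hG, hGf, hmax⟩ := Groth.L16.exists_largest_over (S := Spec (CommRingCat.of k)) g₀.toRationalMap
  obtain ⟨hle, heq⟩ := hmax g₀ hg₀ rfl
  obtain ⟨hle', -⟩ := hmax g hg hgf
  refine ⟨G.domain, hle, G.hom, hle' hxg, hG.comp_over, ?_⟩
  rw [Scheme.PartialMap.ext_iff] at heq
  obtain ⟨h1, h2⟩ := heq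
  have h3 : f = (Scheme.isoOfEq X h1).hom ≫ X.homOfLE hle ≫ G.hom := h2
  rw [h3]
  show X.homOfLE hle ≫ G.hom = (Scheme.isoOfEq X (rfl : U = U)).hom ≫ (X.homOfLE hle ≫ G.hom)
  rw [Scheme.isoOfEq_rfl]
  exact (Category.id_comp (X.homOfLE hle ≫ G.hom)).symm

end Groth.Agent.S6559
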