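import Groth.Statements.S6563
import Groth.Agent.S1625
import Groth.Agent.S1627
import Groth.Agent.L22.SchemeDim
import Groth.Agent.L02.TauOpen.CurveClosure

set_option autoImplicit false
set_option backward.isDefEq.respectTransparency false
set_option linter.style.haveILetI false
universe u
open CategoryTheory CategoryTheory.Limits AlgebraicGeometry
open Curves

namespace Groth.Agent.S6563

/-- Let k be a field and f : X → Y a morphism over k of varieties over k, with X a curve (integral,
separated and of finite type over k, of dimension one) and Y proper over k (and integral). Then f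
extends over a projective completion of X: there are a projective curve X̄ over k (integral, of
dimension one, admitting a closed immersion over k into some P^n_k), an open immersion j : X → X̄
over k and a k-morphism g : X̄ → Y with g ∘ j = f. -/
theorem result (k : Type u) [Field k]
    (X Y : Scheme.{u}) [X.Over (Spec (CommRingCat.of k))] [Y.Over (Spec (CommRingCat.of k))]
    [IsIntegral X] [IsSeparated (X ↘ (Spec (CommRingCat.of k)))] [LocallyOfFiniteType (X ↘ (Spec (CommRingCat.of k)))] [QuasiCompact (X ↘ (Spec (CommRingCat.of k)))] (hdX : topologicalKrullDim X = 1)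
    [IsIntegral Y] [IsProper (Y ↘ (Spec (CommRingCat.of k)))]
    (f : X ⟶ Y) (hf : f ≫ (Y ↘ (Spec (CommRingCat.of k))) = X ↘ (Spec (CommRingCat.of k))) :
    ∃ (Xb : Scheme.{u}) (_ : Xb.Over (Spec (CommRingCat.of k))) (j : X ⟶ Xb) (g : Xb ⟶ Y),
      IsOpenImmersion j ∧ j ≫ g = f ∧ j ≫ (Xb ↘ (Spec (CommRingCat.of k))) = X ↘ (Spec (CommRingCat.of k)) ∧ g ≫ (Y ↘ (Spec (CommRingCat.of k))) = Xb ↘ (Spec (CommRingCat.of k)) ∧
      IsIntegral Xb ∧ topologicalKrullDim Xb = 1 ∧
      ∃ (n : ℕ) (i : Xb ⟶ CohB1.ProjSpace n k), IsClosedImmersion i ∧ i ≫ CohB1.ProjSpace.toSpec n k = Xb ↘ (Spec (CommRingCat.of k)) := by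
  let sX : X ⟶ Spec (CommRingCat.of k) := X ↘ (Spec (CommRingCat.of k))
  obtain ⟨d, Y₀, c, j₀, hc, hj₀, hj, -⟩ := Groth.Agent.S1625.result k X hdX.le
  haveI := hc
  haveI := hj₀
  let P := CohB1.ProjSpace d k
  let sY : Y ⟶ Spec (CommRingCat.of k) := Y ↘ (Spec (CommRingCat.of k))
  haveI : IsProper (CohB1.ProjSpace.toSpec d k) := Groth.L16.ProjSpace.isProper_toSpec (n := d) (R := k)
  let Z := pullback (CohB1.ProjSpace.toSpec d k) sY
  have w : (j₀ ≫ c) ≫ CohB1.ProjSpace.toSpec d k = f ≫ sY := by rw [Category.assoc, hj]; exact hf.symm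
  let Γf : X ⟶ Z := pullback.lift (j₀ ≫ c) f w
  haveI : IsImmersion (j₀ ≫ c) := inferInstance
  haveI : IsImmersion (Γf ≫ pullback.fst _ _) := by rw [pullback.lift_fst]; infer_instance
  haveI : IsImmersion Γf := IsImmersion.of_comp Γf (pullback.fst _ _)
  haveI : IsProper (pullback.fst (CohB1.ProjSpace.toSpec d k) sY) := MorphismProperty.pullback_fst _ _ ‹_›
  let sZ : Z ⟶ Spec (CommRingCat.of k) := pullback.fst (CohB1.ProjSpace.toSpec d k) sY ≫ CohB1.ProjSpace.toSpec d k
  have hs : Γf ≫ sZ = sX := by rw [pullback.lift_fst_assoc]; exact (Category.assoc _ _ _).trans hj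
  haveI : QuasiCompact (Γf ≫ sZ) := by rw [hs]; infer_instance
  haveI : QuasiCompact Γf := QuasiCompact.of_comp Γf sZ
  let Xb := Γf.image
  let pb : Xb ⟶ Spec (CommRingCat.of k) := Γf.imageι ≫ sZ
  letI : Xb.Over (Spec (CommRingCat.of k)) := ⟨pb⟩
  haveI : IsProper pb := inferInstance
  haveI : IsProper (Xb ↘ Spec (CommRingCat.of k)) := ‹IsProper pb›
  haveI : IsReduced Xb := Groth.L20.Chevalley.isReduced_image Γf
  haveI : Nonempty ↥Xb := ⟨Γf.toImage (Classical.arbitrary X)⟩
  haveI : IrreducibleSpace ↥Xb := by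
    have hd : DenseRange Γf.toImage.base := Scheme.Hom.denseRange Γf.toImage
    exact irreducibleSpace_def _ |>.2 (by
      have h1 := ((IrreducibleSpace.isIrreducible_univ X).image Γf.toImage Γf.toImage.continuous.continuousOn).closure
      rwa [Set.image_univ, hd.closure_range] at h1)
  haveI : IsIntegral Xb := isIntegral_of_irreducibleSpace_of_isReduced _
  have hdb : topologicalKrullDim Xb = 1 := by
    obtain ⟨n, hn, -, hU⟩ := Groth.L22.SchemeDim.exists_dim_eq_trdeg k Xb
    have h1 := hU Γf.toImage.opensRange ⟨_, Classical.arbitrary X, rfl⟩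
    have h2 := IsHomeomorph.topologicalKrullDim_eq _ (Scheme.homeoOfIso Γf.toImage.isoOpensRange).isHomeomorph
    exact hn.trans (h1.symm.trans (h2.symm.trans hdX))
  refine ⟨Xb, inferInstance, Γf.toImage, Γf.imageι ≫ pullback.snd _ _, inferInstance, ?_, ?_, ?_, inferInstance, hdb, ?_⟩
  · rw [Scheme.Hom.toImage_imageι_assoc]; exact pullback.lift_snd _ _ _
  · exact (Scheme.Hom.toImage_imageι_assoc Γf sZ).trans hs
  · show (Γf.imageι ≫ pullback.snd _ _) ≫ sY = Γf.imageι ≫ sZ
    rw [Category.assoc, ← pullback.condition]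
  · rcases Groth.Agent.S1627.result k Xb hdb with hA | h
    · exfalso
      haveI := hA
      have hF : IsField Γ(Xb, ⊤) := isField_of_universallyClosed k (Xb ↘ Spec (CommRingCat.of k))
      letI := hF.toField
      have h2 : topologicalKrullDim Xb = topologicalKrullDim (PrimeSpectrum Γ(Xb, ⊤)) :=
        IsHomeomorph.topologicalKrullDim_eq _ (Scheme.homeoOfIso Xb.isoSpec).isHomeomorph
      rw [hdb, PrimeSpectrum.topologicalKrullDim_eq_ringKrullDim, ringKrullDim_eq_zero_of_field] at h2
      exact one_ne_zero h2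
    · exact h

end Groth.Agent.S6563
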