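import Groth.Statements.S6564

set_option autoImplicit false
universe u
open CategoryTheory CategoryTheory.Limits AlgebraicGeometry
open Curves

namespace Groth.Agent.S6564

/-- Let X be proper over the field k of dimension at most 1. If X has a g^r_d (an invertible module L of
degree d with an ordered family of r + 1 global sections linearly independent over k), then X has a
g^s_d for every 0 ≤ s ≤ r. -/
theorem result (k : Type u) [Field k] (X : Scheme.{u}) [X.Over (Spec (CommRingCat.of k))] [IsProper (X ↘ (Spec (CommRingCat.of k)))] (hdim : topologicalKrullDim X ≤ 1)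
    (d r : ℕ) (L : X.Modules) (σ : Fin (r + 1) → LinSer.Sect X L) (hL : LinSer.IsLinSer k X L d r σ)
    (s : ℕ) (hs : s ≤ r) :
    ∃ (L' : X.Modules) (τ : Fin (s + 1) → LinSer.Sect X L'), LinSer.IsLinSer k X L' d s τ := by
  classical
  obtain ⟨hinv, hdeg, hind⟩ := hL
  let e : Fin (s + 1) → Fin (r + 1) := Fin.castLE (by omega)
  have he : Function.Injective e := Fin.castLE_injective _
  refine ⟨L, σ ∘ e, hinv, hdeg, fun c hc => ?_⟩
  have h := hind (Function.extend e c 0) ?_
  · funext i
    have := congrFun h (e i)
    rwa [he.extend_apply] at this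
  · refine Eq.trans ?_ hc
    rw [← Finset.sum_subset (Finset.subset_univ (Finset.univ.image e)) (fun x _ hx => by
      have hne : ¬∃ a, e a = x := fun ⟨a, ha⟩ => hx (Finset.mem_image.2 ⟨a, Finset.mem_univ _, ha⟩)
      rw [Function.extend_apply' _ _ _ hne, Pi.zero_apply, map_zero, zero_smul])]
    rw [Finset.sum_image he.injOn]
    exact Finset.sum_congr rfl fun i _ => by rw [he.extend_apply]; rfl

end Groth.Agent.S6564
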