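import Groth.Statements.S6565
import Groth.Agent.L21.Nodal.QuadNormNode

set_option autoImplicit false
universe u
open Curves

namespace Groth.Agent.S6565

/-- (1) ⇔ (2): let k be a field and (A, m, κ) a Nagata local k-algebra. The following are equivalent:
(1) κ is separable over k (formally smooth, which for field extensions is separability, algebraic or
not) and the m-adic completion of A is isomorphic, compatibly with the maps from k, to κ[[u, v]]/(a
u^2 + b uv + c v^2) for a nondegenerate quadratic form over κ (the algebraic characterization of a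
node); (2) κ is separable over k in the same sense, and A is a reduced ring of Krull dimension one
whose δ-invariant equals 1 and which has exactly two geometric branches. (The published statement
also describes the maximal ideals of the integral closure of A; this row omits that assertion.) -/
theorem result (k : Type u) [Field k] (A : Type u) [CommRing A] [IsLocalRing A]
    [Algebra k A] (hA : CAlg.IsNagata A) :
    (Algebra.FormallySmooth k (IsLocalRing.ResidueField A) ∧
      ∃ a b c : IsLocalRing.ResidueField A, 4 * a * c - b ^ 2 ≠ 0 ∧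
        ∃ e : AdicCompletion (IsLocalRing.maximalIdeal A) A ≃+*
            (MvPowerSeries (Fin 2) (IsLocalRing.ResidueField A) ⧸ Ideal.span
              {(MvPowerSeries.C a * MvPowerSeries.X 0 ^ 2 + MvPowerSeries.C b * MvPowerSeries.X 0 * MvPowerSeries.X 1 +
                MvPowerSeries.C c * MvPowerSeries.X 1 ^ 2 : MvPowerSeries (Fin 2) (IsLocalRing.ResidueField A))}),
          ∀ t : k, e (algebraMap A _ (algebraMap k A t)) =
            Ideal.Quotient.mk _ (MvPowerSeries.C (algebraMap A (IsLocalRing.ResidueField A) (algebraMap k A t)))) ↔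
    (Algebra.FormallySmooth k (IsLocalRing.ResidueField A) ∧ IsReduced A ∧ ringKrullDim A = 1 ∧
      Curv2.deltaInv A = 1 ∧ Brnch.numGeomBranches A = 2) := by
  haveI hnoe : IsNoetherianRing A := hA.1
  constructor
  · rintro ⟨hfs, h⟩
    obtain ⟨hred, hdim, x, y, a, b, c, hx, hy, hgen, hD, hq⟩ := Groth.L21.Nodal.quad_of_node k A h
    haveI := hred
    obtain ⟨hd1, θ, p, q, hQ, hdisc⟩ :=
      Groth.L21.Nodal.QuadNorm.exists_isQuad_of_quad hdim x y a b c hx hy hgen hD hq
    exact ⟨hfs, hred, hd1, hQ.deltaInv_eq_one, hQ.numGeomBranches_eq_two_iff.2 hdisc⟩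
  · rintro ⟨hfs, hred, hdim, hδ, hbr⟩
    haveI := hfs
    haveI := hred
    haveI := Groth.L22.Norm.finite_integralClosure A hA
    obtain ⟨θ, p, q, hQ⟩ := Groth.L21.Nodal.QuadNorm.exists_isQuad hnoe inferInstance hδ
    obtain ⟨hdim2, x, y, a, b, c, hx, hy, hgen, hD, hq⟩ :=
      Groth.L21.Nodal.QuadNorm.quad_of_isQuad hdim hQ (hQ.numGeomBranches_eq_two_iff.1 hbr)
    exact ⟨hfs, Groth.L21.Nodal.node_of_quad k A hdim2 x y a b c hx hy hgen hD hq⟩

end Groth.Agent.S6565
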