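import Groth.Statements.S6569
import Groth.Agent.L05.SingLocus.Field

set_option autoImplicit false
universe u
open CategoryTheory CategoryTheory.Limits AlgebraicGeometry
attribute [local instance] HasDerivedCategory.standard
open Curves

namespace Groth.Agent.S6569
set_option backward.isDefEq.respectTransparency false
set_option backward.isDefEq.respectTransparency.types false
set_option linter.style.haveILetI false

/-- Let k be a field and X a scheme locally of finite type over k, equidimensional of dimension 1; the
structure morphism is also assumed quasi-separated (automatic here, X being locally Noetherian), so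
that the sheaf of differentials Ω_{X/k} can be taken as the conormal sheaf of the diagonal. Two
conditions on X are then equivalent: (1) X has at worst nodal singularities; (2) X → Spec k is a
local complete intersection morphism, and Z → Spec k is unramified, where Z ⊆ X denotes the closed
subscheme whose ideal sheaf is the first Fitting ideal of Ω_{X/k}. -/
theorem result (k : Type u) [Field k] (X : Scheme.{u}) [X.Over (Spec (CommRingCat.of k))] [LocallyOfFiniteType (X ↘ (Spec (CommRingCat.of k)))] [QuasiSeparated (X ↘ (Spec (CommRingCat.of k)))]
    (hequi : ∀ Z ∈ irreducibleComponents (X : Type u), topologicalKrullDim Z = 1) :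
    Curv2.AtWorstNodal k X ↔
      (Dual3.IsLCIMor (X ↘ (Spec (CommRingCat.of k))) ∧
        FormallyUnramified ((Fitt.sheafIdeal (Omega.sheaf (X ↘ (Spec (CommRingCat.of k)))) 1).subschemeι ≫ (X ↘ (Spec (CommRingCat.of k))))) := by
  constructor
  · intro hnod
    have hcl := (Groth.L21.Nodal.curveLike_iff _).2 hequi
    exact ⟨Groth.L08.GrpGorenstein.isLCIMor_of_isSyntomicMor _
      ((Groth.L05.SingLocus.isSyntomicMor_iff_ci _).2 (Groth.L05.SingLocus.ci_of_atWorstNodal hcl hnod)),
      Groth.L05.SingLocus.formallyUnramified_fittOne _ (Groth.L05.SingLocus.isNodalFamily_of_atWorstNodal hcl hnod)⟩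
  · rintro ⟨hlci, hu⟩
    exact Groth.L05.SingLocus.atWorstNodal_of_ci ((Groth.L21.Nodal.curveLike_iff _).2 hequi) hu
      ((Groth.L05.SingLocus.isSyntomicMor_iff_ci _).1 (Groth.L05.SingLocus.isSyntomicMor_of_isLCIMor _ hlci))

end Groth.Agent.S6569
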