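import Groth.Statements.S6571
import Groth.Agent.L21.NodalExt.VectorFields
import Groth.Agent.S1675
-- import your own Groth.Agent.* helpers here

set_option autoImplicit false
set_option backward.isDefEq.respectTransparency false
universe u
open CategoryTheory CategoryTheory.Limits AlgebraicGeometry
open Curves

attribute [local instance] HasDerivedCategory.standard

namespace Groth.Agent.S6571

/-- Let k be an algebraically closed field and X a proper connected scheme over k of dimension 1 with
at-worst-nodal singularities, of genus ≥ 2, with no rational tails and no rational bridges. Then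
Der_k(O_X, O_X) = 0: every k-derivation of O_X into O_X takes the value zero on every section. -/
theorem result (k : Type u) [Field k] (X : Scheme.{u}) [X.Over (Spec (CommRingCat.of k))] [IsAlgClosed k] [IsProper (X ↘ (Spec (CommRingCat.of k)))] [ConnectedSpace X] (hdim : topologicalKrullDim X = 1)
    (hX : Curv2.AtWorstNodal k X) (hg : 2 ≤ Curv2.genus k X)
    (hnt : ∀ (C : Set X) (hC : C ∈ irreducibleComponents (X : Type u)), ¬ Curv2.IsRationalTail X C hC)
    (hnb : ∀ (C : Set X) (hC : C ∈ irreducibleComponents (X : Type u)), ¬ Curv2.IsRationalBridge k X C hC)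
    (D : OmegaSh.Der (X ↘ (Spec (CommRingCat.of k))) (Coh.structureModule X)) (U : X.Opens) (s : Γ(X, U)) :
    D.app U s = 0 := by
  haveI := Groth.L21.RR.isNoetherian_of_proper (X := X) k
  obtain ⟨hred, hgen⟩ := Groth.L21.CurveAdj.nodal_reduced (k := k) hdim hX
  haveI := hred
  have h0 : Groth.L21.RR.h k 0 (Coh.structureModule X) = 1 := Groth.L21.CurveAdj.h0_eq_one_of_connected
  haveI : X.IsSeparated := ⟨by rw [← Limits.terminal.comp_from (X ↘ Spec (CommRingCat.of k))]; infer_instance⟩
  haveI := Groth.L29.DC.RpushQC.hasRpush (X ↘ Spec (CommRingCat.of k))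
  have hq : DCoh.RpushPreservesQCoh (X ↘ Spec (CommRingCat.of k)) := fun K hK =>
    Groth.L29.DC.RpushQC.isQCohD_Rpush _ K hK
  haveI : DCoh.HasShriek (X ↘ Spec (CommRingCat.of k)) hq :=
    Groth.Agent.S1766.result X (Spec (CommRingCat.of k)) (X ↘ Spec (CommRingCat.of k)) hq
  let OY : DCoh.DQCoh (Spec (CommRingCat.of k)) :=
    ⟨DCoh.inD _ (Coh.structureModule _), Groth.L29.RelPC.isQCohD_unit _⟩
  obtain ⟨t, ht⟩ := Groth.L21.CurveDual.exists_isRDual k hdim.le hq OY ⟨Iso.refl _⟩
  obtain ⟨-, -, -, hset⟩ := Groth.L21.CurveAdj.nodal_setup hdim h0 hX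
  obtain ⟨-, hw⟩ := hset _ t ht
  have hamp := Groth.Agent.S1675.result k X hdim h0 hX hnt hnb hg hq OY ⟨Iso.refl _⟩
  exact ((Groth.L14.DefLift.derZero_iff (X ↘ Spec (CommRingCat.of k))).2 (subsingleton_of_forall_eq 0 fun θ =>
    Groth.L21.NodalExt.hom_omega_eq_zero hdim hX ht hw hamp θ)) D U s

end Groth.Agent.S6571
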