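import Groth.Statements.S6574
import Groth.Agent.L06.NodeMinors.Main

set_option autoImplicit false
set_option maxSynthPendingDepth 3
set_option linter.style.haveILetI false
universe u
open Curves

namespace Groth.Agent.S6574

/-- Let k be a field, A = k[[x_1, …, x_n]], and I = (f_1, …, f_m) ⊆ m_A. The following are equivalent:
(1) A/I is a node in the algebraic sense: A/I ≅ k[[u, v]]/(a u^2 + b uv + c v^2) as k-algebras for a
nondegenerate quadratic form (A/I is complete with residue field k, so this is the completion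
criterion for nodes); (2) the quotient A/I has no nonzero nilpotents, and m_A is generated by I
together with every (n−1)-by-(n−1) minor taken from the Jacobian (∂f_j/∂x_i) (that is, these
elements generate I + m_A = m_A); (3) depth(A/I) = 1 and the same condition on minors. Stated as (1)
⇔ (2) and (2) ⇔ (3). -/
theorem result (k : Type u) [Field k] (n m : ℕ)
    (f : Fin m → MvPowerSeries (Fin n) k) (hf : ∀ j, f j ∈ IsLocalRing.maximalIdeal (MvPowerSeries (Fin n) k)) :
    ((∃ a b c : k, 4 * a * c - b ^ 2 ≠ 0 ∧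
        Nonempty ((MvPowerSeries (Fin n) k ⧸ Ideal.span (Set.range f)) ≃ₐ[k]
          (MvPowerSeries (Fin 2) k ⧸ Ideal.span
            {(MvPowerSeries.C a * MvPowerSeries.X 0 ^ 2 + MvPowerSeries.C b * MvPowerSeries.X 0 * MvPowerSeries.X 1 +
              MvPowerSeries.C c * MvPowerSeries.X 1 ^ 2 : MvPowerSeries (Fin 2) k)}))) ↔
      (IsReduced (MvPowerSeries (Fin n) k ⧸ Ideal.span (Set.range f)) ∧
        Ideal.span {d : MvPowerSeries (Fin n) k | ∃ (ρ : Fin (n - 1) → Fin m) (γ : Fin (n - 1) → Fin n), Function.Injective ρ ∧ Function.Injective γ ∧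
          d = ((Matrix.of fun (j : Fin m) (i : Fin n) => MvPowerSeries.pderiv k i (f j)).submatrix ρ γ).det} ⊔ Ideal.span (Set.range f) = IsLocalRing.maximalIdeal (MvPowerSeries (Fin n) k))) ∧
    ((IsReduced (MvPowerSeries (Fin n) k ⧸ Ideal.span (Set.range f)) ∧
        Ideal.span {d : MvPowerSeries (Fin n) k | ∃ (ρ : Fin (n - 1) → Fin m) (γ : Fin (n - 1) → Fin n), Function.Injective ρ ∧ Function.Injective γ ∧
          d = ((Matrix.of fun (j : Fin m) (i : Fin n) => MvPowerSeries.pderiv k i (f j)).submatrix ρ γ).det} ⊔ Ideal.span (Set.range f) = IsLocalRing.maximalIdeal (MvPowerSeries (Fin n) k)) ↔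
      (LocCoh.depth (MvPowerSeries (Fin n) k) (MvPowerSeries (Fin n) k ⧸ Ideal.span (Set.range f)) = 1 ∧
        Ideal.span {d : MvPowerSeries (Fin n) k | ∃ (ρ : Fin (n - 1) → Fin m) (γ : Fin (n - 1) → Fin n), Function.Injective ρ ∧ Function.Injective γ ∧
          d = ((Matrix.of fun (j : Fin m) (i : Fin n) => MvPowerSeries.pderiv k i (f j)).submatrix ρ γ).det} ⊔ Ideal.span (Set.range f) = IsLocalRing.maximalIdeal (MvPowerSeries (Fin n) k))) := by
  have hq : ∀ a b c : k, (MvPowerSeries.C a * MvPowerSeries.X 0 ^ 2 + MvPowerSeries.C b * MvPowerSeries.X 0 * MvPowerSeries.X 1 +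
      MvPowerSeries.C c * MvPowerSeries.X 1 ^ 2 : MvPowerSeries (Fin 2) k) =
      Groth.L21.Nodal.qf (MvPowerSeries.C a) (MvPowerSeries.C b) (MvPowerSeries.C c) (MvPowerSeries.X 0) (MvPowerSeries.X 1) :=
    fun a b c => by simp only [Groth.L21.Nodal.qf]; ring
  have toIso := Groth.L06.NodeMinors.exists_iso f hf
  refine ⟨⟨?_, ?_⟩, ⟨?_, ?_⟩⟩
  · rintro ⟨a, b, c, hD, ⟨e⟩⟩
    obtain ⟨hred, hJ, -⟩ := Groth.L06.NodeMinors.of_iso f hf a b c hD
      (e.trans (Ideal.quotientEquivAlgOfEq k (congrArg (fun x => Ideal.span {x}) (hq a b c))))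
    exact ⟨hred, hJ⟩
  · rintro ⟨hred, hJ⟩
    haveI := hred
    obtain ⟨a, b, c, hD, ⟨e⟩⟩ := toIso hJ (Groth.L06.NodeMinors.exists_regular_of_reduced f hf hJ)
    exact ⟨a, b, c, hD, ⟨e.trans (Ideal.quotientEquivAlgOfEq k (congrArg (fun x => Ideal.span {x}) (hq a b c).symm))⟩⟩
  · rintro ⟨hred, hJ⟩
    haveI := hred
    obtain ⟨a, b, c, hD, ⟨e⟩⟩ := toIso hJ (Groth.L06.NodeMinors.exists_regular_of_reduced f hf hJ)
    obtain ⟨-, -, hd⟩ := Groth.L06.NodeMinors.of_iso f hf a b c hD e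
    exact ⟨hd, hJ⟩
  · rintro ⟨hd, hJ⟩
    obtain ⟨a, b, c, hD, ⟨e⟩⟩ := toIso hJ (Groth.L06.NodeMinors.exists_regular_of_depth _ hd)
    exact ⟨(Groth.L06.NodeMinors.of_iso f hf a b c hD e).1, hJ⟩

end Groth.Agent.S6574
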