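import Groth.Statements.S6594
import Mathlib.CategoryTheory.Triangulated.Pretriangulated
-- import your own Groth.Agent.* helpers here

set_option autoImplicit false
universe v u
open CategoryTheory CategoryTheory.Limits
open CohDer

namespace Groth.Agent.S6594

open CategoryTheory.Pretriangulated in
/-- (1) ⇔ (3): let D be a pretriangulated category and f : X ⟶ Y a morphism. Then f has a kernel if and
only if f is isomorphic to a composite K ⊞ Z → Z → Z ⊞ Q of a projection and a coprojection for some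
objects K, Z, Q. -/
theorem result {D : Type u} [Category.{v} D] [Preadditive D] [HasZeroObject D] [HasShift D ℤ]
    [∀ n : ℤ, (shiftFunctor D n).Additive] [Pretriangulated D]
    {X Y : D} (f : X ⟶ Y) :
    HasKernel f ↔ ∃ (K Z Q : D) (e₁ : X ≅ K ⊞ Z) (e₂ : Y ≅ Z ⊞ Q),
      f = e₁.hom ≫ biprod.snd ≫ biprod.inl ≫ e₂.inv := by
  constructor
  · intro _
    obtain ⟨Z, g, h, hT⟩ := distinguished_cocone_triangle (kernel.ι f)
    have hi : Triangle.mk (kernel.ι f) g h ∈ distinguishedTriangles := hT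
    have h0 : h = 0 := by
      have hh : h ≫ (kernel.ι f)⟦(1 : ℤ)⟧' = 0 := comp_distTriang_mor_zero₃₁ _ hi
      exact (cancel_mono ((kernel.ι f)⟦(1 : ℤ)⟧')).1 (hh.trans zero_comp.symm)
    obtain ⟨e₁, he₁, he₁'⟩ : ∃ e : X ≅ kernel f ⊞ Z, kernel.ι f ≫ e.hom = biprod.inl ∧ g = e.hom ≫ biprod.snd :=
      exists_iso_binaryBiproduct_of_distTriang _ hi h0
    obtain ⟨f', hf'⟩ : ∃ f' : Z ⟶ Y, f = g ≫ f' := Triangle.yoneda_exact₂ _ hi f (kernel.condition f)
    obtain ⟨s, hs⟩ : ∃ s : Z ⟶ X, s ≫ g = 𝟙 Z := ⟨biprod.inr ≫ e₁.inv, by rw [he₁']; simp⟩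
    have : Mono f' := Preadditive.mono_of_cancel_zero _ fun {W} t ht => by
      obtain ⟨u, hu⟩ : ∃ u, u ≫ kernel.ι f = t ≫ s := ⟨kernel.lift f (t ≫ s) (by
        exact (congrArg ((t ≫ s) ≫ ·) hf').trans (by simp [reassoc_of% hs, ht])), kernel.lift_ι _ _ _⟩
      have := congrArg (· ≫ g) hu
      simp only [Category.assoc, hs, Category.comp_id] at this
      have hg : kernel.ι f ≫ g = 0 := comp_distTriang_mor_zero₁₂ _ hi
      rw [← this, hg, comp_zero]
    obtain ⟨Q, g', h', hT'⟩ := distinguished_cocone_triangle f'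
    have h0' : h' = 0 := by
      have hh : h' ≫ f'⟦(1 : ℤ)⟧' = 0 := comp_distTriang_mor_zero₃₁ _ hT'
      exact (cancel_mono (f'⟦(1 : ℤ)⟧')).1 (hh.trans zero_comp.symm)
    obtain ⟨e₂, he₂⟩ : ∃ e : Y ≅ Z ⊞ Q, f' ≫ e.hom = biprod.inl := by
      obtain ⟨e, he, -⟩ := exists_iso_binaryBiproduct_of_distTriang _ hT' h0'
      exact ⟨e, he⟩
    refine ⟨kernel f, Z, Q, e₁, e₂, ?_⟩
    exact hf'.trans (by rw [he₁', ← he₂]; simp)
  · rintro ⟨K, Z, Q, e₁, e₂, rfl⟩
    let k : K ⟶ X := biprod.inl ≫ e₁.inv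
    refine ⟨⟨⟨KernelFork.ofι k (by simp [k]), ?_⟩⟩⟩
    refine KernelFork.IsLimit.ofι k _ (fun g' _ => g' ≫ e₁.hom ≫ biprod.fst) (fun g' hg' => ?_)
      (fun g' _ m hm => by rw [← hm]; simp [k])
    have h1 : g' ≫ e₁.hom ≫ biprod.snd = 0 := by
      have := congrArg (· ≫ e₂.hom ≫ biprod.fst) hg'
      simpa using this
    rw [← cancel_mono e₁.hom]
    apply biprod.hom_ext <;> simp [k, h1]

end Groth.Agent.S6594
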