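import Groth.Statements.S6598
import Mathlib.Algebra.Homology.HomotopyCategory.MappingCocone
import Mathlib.Algebra.Homology.HomologicalComplexBiprod
-- import your own Groth.Agent.* helpers here

set_option autoImplicit false
universe v u
open CategoryTheory CategoryTheory.Limits
open CohDer

namespace Groth.Agent.S6598

/-- Let α : K ⟶ L be a morphism of cochain complexes over an additive category. There is a factorization
K ⟶ L' ⟶ L of α such that (1) K ⟶ L' is a termwise split injection (in each degree isomorphic to the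
inclusion of a direct summand) and (2) L' ⟶ L admits a section s : L ⟶ L' (s followed by L' ⟶ L is
the identity) such that L' ⟶ L followed by s is homotopic to the identity of L'. Moreover if K and L
are both bounded below, resp. both bounded above, then L' may be chosen bounded below, resp. bounded
above. -/
theorem result {V : Type u} [Category.{v} V] [Preadditive V] [HasBinaryBiproducts V] [HasZeroObject V]
    (K L : CochainComplex V ℤ) (α : K ⟶ L) :
    ∃ (L' : CochainComplex V ℤ) (α' : K ⟶ L') (π : L' ⟶ L) (s : L ⟶ L'),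
      α' ≫ π = α ∧ s ≫ π = 𝟙 L ∧ Nonempty (Homotopy (π ≫ s) (𝟙 L')) ∧
      (∀ n : ℤ, ∃ (C : V) (e : L'.X n ≅ K.X n ⊞ C), α'.f n ≫ e.hom = biprod.inl) ∧
      (∀ a : ℤ, K.IsStrictlyGE a → L.IsStrictlyGE a → ∃ a' : ℤ, L'.IsStrictlyGE a') ∧
      (∀ a : ℤ, K.IsStrictlyLE a → L.IsStrictlyLE a → ∃ a' : ℤ, L'.IsStrictlyLE a') := by
  classical

  let M := CochainComplex.mappingCone (𝟙 K)
  let j : K ⟶ M := CochainComplex.mappingCone.inr (𝟙 K)
  obtain ⟨H⟩ : Nonempty (Homotopy (𝟙 M) 0) := ⟨CochainComplex.mappingCone.homotopyToZeroOfId K⟩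
  refine ⟨L ⊞ M, biprod.lift α j, biprod.fst, biprod.inl, by simp, by simp, ?_, fun n => ?_, ?_, ?_⟩
  · have e : biprod.fst ≫ (biprod.inl : L ⟶ L ⊞ M) + (biprod.snd ≫ 𝟙 M) ≫ biprod.inr = 𝟙 _ := by
      simp [biprod.total]
    exact ⟨((Homotopy.ofEq e.symm).trans (((Homotopy.refl _).add ((H.compLeft biprod.snd).compRight
      biprod.inr)).trans (Homotopy.ofEq (by simp)))).symm⟩
  · let pL : (L ⊞ M).X n ⟶ L.X n := (biprod.fst : L ⊞ M ⟶ L).f n
    let pM : (L ⊞ M).X n ⟶ M.X n := (biprod.snd : L ⊞ M ⟶ M).f n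
    let iL : L.X n ⟶ (L ⊞ M).X n := (biprod.inl : L ⟶ L ⊞ M).f n
    let iM : M.X n ⟶ (L ⊞ M).X n := (biprod.inr : M ⟶ L ⊞ M).f n
    let pK := pM ≫ (CochainComplex.mappingCone.snd (𝟙 K)).v n n (add_zero n)
    have tot : pL ≫ iL + pM ≫ iM = 𝟙 _ := by
      simp only [pL, pM, iL, iM, ← HomologicalComplex.comp_f, ← HomologicalComplex.add_f_apply,
        biprod.total, HomologicalComplex.id_f]
    have hL : (biprod.lift α j).f n ≫ pL = α.f n := by simp [pL]
    have hM : (biprod.lift α j).f n ≫ pM = j.f n := by simp [pM]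
    have h1 : iL ≫ pL = 𝟙 _ := by simp [pL, iL]
    have h2 : iM ≫ pM = 𝟙 _ := by simp [pM, iM]
    have h3 : iL ≫ pM = 0 := by simp [pM, iL]
    have h4 : iM ≫ pL = 0 := by simp [pL, iM]
    have hid := CochainComplex.mappingCone.id_X (𝟙 K) n (n + 1) rfl
    refine ⟨L.X n ⊞ K.X (n + 1),
      { hom := biprod.lift pK (biprod.lift (pL - pK ≫ α.f n)
          (pM ≫ (CochainComplex.mappingCone.fst (𝟙 K)).1.v n (n + 1) rfl))
        inv := biprod.desc ((biprod.lift α j).f n)
          (biprod.desc iL ((CochainComplex.mappingCone.inl (𝟙 K)).v (n + 1) n (by omega) ≫ iM))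
        hom_inv_id := ?_, inv_hom_id := ?_ }, ?_⟩
    · simp only [biprod.lift_desc, pK]
      have : (biprod.lift α j).f n = α.f n ≫ iL + j.f n ≫ iM := by
        conv_lhs => rw [← Category.comp_id ((biprod.lift α j).f n), ← tot]
        rw [Preadditive.comp_add, reassoc_of% hL, reassoc_of% hM]
      rw [this, ← tot]
      conv_rhs => rw [← Category.id_comp iM, ← hid]
      simp only [Preadditive.sub_comp, Preadditive.comp_add, Preadditive.add_comp, Category.assoc, j]
      abel
    · apply biprod.hom_ext'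
      · apply biprod.hom_ext <;> try apply biprod.hom_ext
        all_goals simp [pK, j, reassoc_of% hM, hL]
      · apply biprod.hom_ext'
        · apply biprod.hom_ext <;> try apply biprod.hom_ext
          all_goals simp [pK, reassoc_of% h3, h1]
        · apply biprod.hom_ext <;> try apply biprod.hom_ext
          all_goals simp [pK, reassoc_of% h2, h4]
    · apply biprod.hom_ext <;> try apply biprod.hom_ext
      all_goals simp [pK, j, reassoc_of% hM, hL]
  · intro a _ _
    refine ⟨a - 1, (CochainComplex.isStrictlyGE_iff _ _).2 fun i hi => ?_⟩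
    refine ((biprod_isZero_iff _ _).2 ⟨L.isZero_of_isStrictlyGE a i (by omega), ?_⟩).of_iso
      (HomologicalComplex.biprodXIso L M i)
    rw [CochainComplex.mappingCone.isZero_X_iff]
    exact ⟨K.isZero_of_isStrictlyGE a (i + 1) (by omega), K.isZero_of_isStrictlyGE a i (by omega)⟩
  · intro a _ _
    refine ⟨a, (CochainComplex.isStrictlyLE_iff _ _).2 fun i hi => ?_⟩
    refine ((biprod_isZero_iff _ _).2 ⟨L.isZero_of_isStrictlyLE a i (by omega), ?_⟩).of_iso
      (HomologicalComplex.biprodXIso L M i)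
    rw [CochainComplex.mappingCone.isZero_X_iff]
    exact ⟨K.isZero_of_isStrictlyLE a (i + 1) (by omega), K.isZero_of_isStrictlyLE a i (by omega)⟩

end Groth.Agent.S6598
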