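import Groth.Statements.S6599
import Mathlib.Algebra.Homology.HomotopyCategory.MappingCocone
import Mathlib.Algebra.Homology.HomologicalComplexBiprod
import Mathlib.Algebra.Homology.HomotopyCategory.Pretriangulated
-- import your own Groth.Agent.* helpers here

set_option autoImplicit false
universe v u
open CategoryTheory CategoryTheory.Limits
open CohDer

namespace Groth.Agent.S6599

/-- Let α : K ⟶ L be a morphism of cochain complexes over an additive category. There is a factorization
K ⟶ K' ⟶ L of α such that (1) K' ⟶ L is a termwise split surjection (in each degree isomorphic to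
the projection onto a direct summand) and (2) K ⟶ K' admits a retraction s : K' ⟶ K (K ⟶ K' followed
by s is the identity) such that s followed by K ⟶ K' is homotopic to the identity of K'. Moreover if
K and L are both bounded below, resp. both bounded above, then K' may be chosen bounded below, resp.
bounded above. -/
theorem result {V : Type u} [Category.{v} V] [Preadditive V] [HasBinaryBiproducts V] [HasZeroObject V]
    (K L : CochainComplex V ℤ) (α : K ⟶ L) :
    ∃ (K' : CochainComplex V ℤ) (i : K ⟶ K') (α' : K' ⟶ L) (s : K' ⟶ K),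
      i ≫ α' = α ∧ i ≫ s = 𝟙 K ∧ Nonempty (Homotopy (s ≫ i) (𝟙 K')) ∧
      (∀ n : ℤ, ∃ (C : V) (e : K'.X n ≅ C ⊞ L.X n), e.inv ≫ α'.f n = biprod.snd) ∧
      (∀ a : ℤ, K.IsStrictlyGE a → L.IsStrictlyGE a → ∃ a' : ℤ, K'.IsStrictlyGE a') ∧
      (∀ a : ℤ, K.IsStrictlyLE a → L.IsStrictlyLE a → ∃ a' : ℤ, K'.IsStrictlyLE a') := by
  classical
  let M := CochainComplex.mappingCocone (𝟙 L)
  let q : M ⟶ L := CochainComplex.mappingCocone.fst (𝟙 L)
  have hz : IsZero ((HomotopyCategory.quotient V (ComplexShape.up ℤ)).obj M) :=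
    ((shiftFunctor (HomotopyCategory V (ComplexShape.up ℤ)) (-1 : ℤ)).map_isZero
      ((HomotopyCategory.isZero_quotient_obj_iff _).2
        ⟨CochainComplex.mappingCone.homotopyToZeroOfId L⟩)).of_iso
      (((HomotopyCategory.quotient V (ComplexShape.up ℤ)).commShiftIso (-1 : ℤ)).app _)
  obtain ⟨H⟩ := (HomotopyCategory.isZero_quotient_obj_iff _).1 hz
  refine ⟨K ⊞ M, biprod.inl, biprod.desc α q, biprod.fst, by simp, by simp, ?_, fun n => ?_, ?_, ?_⟩
  · have e : biprod.fst ≫ (biprod.inl : K ⟶ K ⊞ M) + (biprod.snd ≫ 𝟙 M) ≫ biprod.inr = 𝟙 _ := by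
      simp [biprod.total]
    exact ⟨((Homotopy.ofEq e.symm).trans (((Homotopy.refl _).add ((H.compLeft biprod.snd).compRight
      biprod.inr)).trans (Homotopy.ofEq (by simp)))).symm⟩
  · obtain ⟨m, hm⟩ : ∃ m, n + -1 = m := ⟨_, rfl⟩
    let pK : (K ⊞ M).X n ⟶ K.X n := (biprod.fst : K ⊞ M ⟶ K).f n
    let pM : (K ⊞ M).X n ⟶ M.X n := (biprod.snd : K ⊞ M ⟶ M).f n
    let iK : K.X n ⟶ (K ⊞ M).X n := (biprod.inl : K ⟶ K ⊞ M).f n
    let iM : M.X n ⟶ (K ⊞ M).X n := (biprod.inr : M ⟶ K ⊞ M).f n
    let sL : L.X n ⟶ (K ⊞ M).X n := (CochainComplex.mappingCocone.inl (𝟙 L)).v n n (add_zero n) ≫ iM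
    have tot : pK ≫ iK + pM ≫ iM = 𝟙 _ := by
      simp only [pK, pM, iK, iM, ← HomologicalComplex.comp_f, ← HomologicalComplex.add_f_apply,
        biprod.total, HomologicalComplex.id_f]
    have hK : iK ≫ (biprod.desc α q).f n = α.f n := by simp [iK]
    have hM : iM ≫ (biprod.desc α q).f n = q.f n := by simp [iM]
    have h1 : iK ≫ pK = 𝟙 _ := by simp [pK, iK]
    have h2 : iM ≫ pM = 𝟙 _ := by simp [pM, iM]
    have h3 : iK ≫ pM = 0 := by simp [pM, iK]
    have h4 : iM ≫ pK = 0 := by simp [pK, iM]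
    have hid := CochainComplex.mappingCocone.id_X (𝟙 L) n m hm
    have hdesc : (biprod.desc α q).f n = pK ≫ α.f n + pM ≫ q.f n := by
      conv_lhs => rw [← Category.id_comp ((biprod.desc α q).f n), ← tot]
      rw [Preadditive.add_comp, Category.assoc, Category.assoc, hK, hM]
    refine ⟨K.X n ⊞ L.X m,
      { hom := biprod.lift (biprod.lift pK (pM ≫ (CochainComplex.mappingCocone.snd (𝟙 L)).v n m hm))
          ((biprod.desc α q).f n)
        inv := biprod.desc (biprod.desc (iK - α.f n ≫ sL)
          ((CochainComplex.mappingCocone.inr (𝟙 L)).1.v m n (by omega) ≫ iM)) sL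
        hom_inv_id := ?_, inv_hom_id := ?_ }, ?_⟩
    · simp only [biprod.lift_desc, hdesc, sL]
      rw [← tot]
      conv_rhs => rw [← Category.id_comp iM, ← hid]
      simp only [Preadditive.comp_sub, Preadditive.comp_add, Preadditive.add_comp, Category.assoc, q]
      abel
    · apply biprod.hom_ext'
      · apply biprod.hom_ext'
        · apply biprod.hom_ext <;> try apply biprod.hom_ext
          all_goals simp [sL, q, hK, h1, reassoc_of% h3, hM, h4, reassoc_of% h2]
        · apply biprod.hom_ext <;> try apply biprod.hom_ext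
          all_goals simp [q, hM, h4, reassoc_of% h2]
      · apply biprod.hom_ext <;> try apply biprod.hom_ext
        all_goals simp [sL, q, hM, h4, reassoc_of% h2]
    · apply biprod.hom_ext'
      · apply biprod.hom_ext'
        all_goals simp [sL, q, hK, hM]
      · simp [sL, q, hM]
  · intro a _ _
    refine ⟨a, (CochainComplex.isStrictlyGE_iff _ _).2 fun i hi => ?_⟩
    refine ((biprod_isZero_iff _ _).2 ⟨K.isZero_of_isStrictlyGE a i (by omega), ?_⟩).of_iso
      (HomologicalComplex.biprodXIso K M i)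
    exact (CochainComplex.mappingCone.isZero_X_iff (φ := 𝟙 L) _).2
      ⟨L.isZero_of_isStrictlyGE a (i + -1 + 1) (by omega), L.isZero_of_isStrictlyGE a (i + -1) (by omega)⟩
  · intro a _ _
    refine ⟨a + 1, (CochainComplex.isStrictlyLE_iff _ _).2 fun i hi => ?_⟩
    refine ((biprod_isZero_iff _ _).2 ⟨K.isZero_of_isStrictlyLE a i (by omega), ?_⟩).of_iso
      (HomologicalComplex.biprodXIso K M i)
    exact (CochainComplex.mappingCone.isZero_X_iff (φ := 𝟙 L) _).2
      ⟨L.isZero_of_isStrictlyLE a (i + -1 + 1) (by omega), L.isZero_of_isStrictlyLE a (i + -1) (by omega)⟩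

end Groth.Agent.S6599
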