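import Groth.Statements.S6612
import Mathlib.Algebra.Homology.Homotopy
import Mathlib.Algebra.Homology.ShortComplex.Exact
-- import your own Groth.Agent.* helpers here

set_option autoImplicit false
universe v u
open CategoryTheory CategoryTheory.Limits
open CohDer

namespace Groth.Agent.S6612

/-- Let A be an additive category and 0 → A₂ → B₂ → C₂ → 0 a termwise split exact sequence of complexes.
Given a chain map b from a complex B₁ into B₂ and a chain map b' from B₂ into a complex B₃, suppose
that both composites b ≫ (B₂ → C₂) and (A₂ → B₂) ≫ b' are null-homotopic. Then b ≫ b' is homotopic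
to zero. (The published statement has three termwise split sequences Aᵢ → Bᵢ → Cᵢ and asks both
squares of each diagram to commute up to homotopy; this row keeps only the middle sequence and the
two conditions at B₂ that the argument uses, so it is more general.) -/
theorem result {V : Type u} [Category.{v} V] [Preadditive V] [HasBinaryBiproducts V]
    (S : ShortComplex (CochainComplex V ℤ))
    (σ : ∀ n : ℤ, (S.map (HomologicalComplex.eval V (ComplexShape.up ℤ) n)).Splitting)
    {B₁ B₃ : CochainComplex V ℤ} (b : B₁ ⟶ S.X₂) (b' : S.X₂ ⟶ B₃)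
    (hb : Nonempty (Homotopy (b ≫ S.g) 0)) (hb' : Nonempty (Homotopy (S.f ≫ b') 0)) :
    Nonempty (Homotopy (b ≫ b') 0) := by
  obtain ⟨h⟩ := hb
  obtain ⟨h'⟩ := hb'
  let s : ∀ j, S.X₃.X j ⟶ S.X₂.X j := fun j => (σ j).s
  let r : ∀ j, S.X₂.X j ⟶ S.X₁.X j := fun j => (σ j).r
  let e : ∀ i j, B₁.X i ⟶ S.X₂.X j := fun i j => h.hom i j ≫ s j
  have e0 : ∀ i j, ¬ (ComplexShape.up ℤ).Rel j i → e i j = 0 := fun i j hij =>
    (congrArg (fun z => z ≫ s j) (h.zero i j hij)).trans Limits.zero_comp
  let nh := Homotopy.nullHomotopicMap e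
  have hsg : ∀ j, s j ≫ S.g.f j = 𝟙 _ := fun j => (σ j).s_g
  have hf : ∀ j, S.f.f j ≫ r j = 𝟙 _ := fun j => (σ j).f_r
  have hid : ∀ j, r j ≫ S.f.f j + S.g.f j ≫ s j = 𝟙 _ := fun j => (σ j).id
  have h1 : nh ≫ S.g = b ≫ S.g := by
    have : (fun i j => e i j ≫ S.g.f j) = h.hom := by
      funext i j
      simp only [e, Category.assoc, hsg, Category.comp_id]
    rw [Homotopy.nullHomotopicMap_comp]
    ext i
    rw [h.comm i, HomologicalComplex.zero_f, add_zero]
    simp only [this]
    rfl
  have hz : ∀ i, (b - nh).f i ≫ S.g.f i = 0 := fun i => by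
    rw [← HomologicalComplex.comp_f, Preadditive.sub_comp, h1, sub_self, HomologicalComplex.zero_f]
  have hfac : ∀ i, ((b - nh).f i ≫ r i) ≫ S.f.f i = (b - nh).f i := fun i => by
    conv_rhs => rw [← Category.comp_id ((b - nh).f i), ← hid i]
    rw [Preadditive.comp_add, Category.assoc, reassoc_of% (hz i), Limits.zero_comp, add_zero]
  let c : B₁ ⟶ S.X₁ :=
    { f := fun i => (b - nh).f i ≫ r i
      comm' := fun i j _ => by
        have : IsSplitMono (S.f.f j) := IsSplitMono.mk' ⟨r j, hf j⟩
        apply (cancel_mono (S.f.f j)).1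
        calc (((b - nh).f i ≫ r i) ≫ S.X₁.d i j) ≫ S.f.f j
            = ((b - nh).f i ≫ r i) ≫ S.f.f i ≫ S.X₂.d i j := by
              rw [Category.assoc, S.f.comm]
          _ = (b - nh).f i ≫ S.X₂.d i j := by rw [← Category.assoc, hfac]
          _ = _ := by
              rw [(b - nh).comm, Category.assoc, hfac] }
  have hc : c ≫ S.f = b - nh := by ext i; exact hfac i
  have H1 : Homotopy (c ≫ S.f ≫ b') 0 := (h'.compLeft c).trans (Homotopy.ofEq (by simp))
  have H2 : Homotopy (nh ≫ b') 0 :=
    ((Homotopy.nullHomotopy e e0).compRight b').trans (Homotopy.ofEq (by simp))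
  exact ⟨(Homotopy.ofEq (by rw [← Category.assoc, hc, Preadditive.sub_comp, sub_add_cancel])).trans
    ((H1.add H2).trans (Homotopy.ofEq (add_zero 0)))⟩

end Groth.Agent.S6612
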