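import Groth.Statements.S6613
import Mathlib.CategoryTheory.Localization.CalculusOfFractions
import Mathlib.CategoryTheory.Localization.Predicate
-- import your own Groth.Agent.* helpers here

set_option autoImplicit false
universe v u v' u'
open CategoryTheory CategoryTheory.Limits
open CohDer

namespace Groth.Agent.S6613

/-- Let D be a pretriangulated category, D' ⊂ D a full pretriangulated subcategory, S a saturated
multiplicative system of D compatible with the triangulated structure and Q : D → S⁻¹D the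
localization. Assume every X in D admits some s : X' ⟶ X in S with X' in D'. Then, with S' = S ∩
Arrows(D'), the functor (S')⁻¹D' → S⁻¹D is an equivalence; equivalently the composite D' → D → S⁻¹D
is a localization of D' at S'. (The published result additionally claims that the intersection S' =
S ∩ Arrows(D') forms a multiplicative system on D' which is saturated and respects the triangulated
structure of D'; this row asserts only the localization property.) -/
theorem result {D : Type u} [Category.{v} D] [Preadditive D] [HasZeroObject D] [HasShift D ℤ]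
    [∀ n : ℤ, (shiftFunctor D n).Additive] [Pretriangulated D]
    (P : ObjectProperty D) [P.IsTriangulated]
    (S : MorphismProperty D) [S.HasLeftCalculusOfFractions] [S.HasRightCalculusOfFractions] [S.IsCompatibleWithTriangulation]
    {E : Type u'} [Category.{v'} E] (Q : D ⥤ E) [Q.IsLocalization S]
    (hsat : ∀ {X Y : D} (f : X ⟶ Y), IsIso (Q.map f) → S f)
    (hP : ∀ X : D, ∃ (X' : D) (s : X' ⟶ X), P X' ∧ S s) :
    (P.ι ⋙ Q).IsLocalization (S.inverseImage P.ι) := by
  classical
  let W := S.inverseImage P.ι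
  have hW : W.IsMultiplicative := inferInstance
  have : W.HasRightCalculusOfFractions :=
    { exists_rightFraction := fun X Y φ => by
        obtain ⟨ψ, hψ⟩ := MorphismProperty.HasRightCalculusOfFractions.exists_rightFraction
          (MorphismProperty.LeftFraction.mk (W := S) (P.ι.map φ.f) (P.ι.map φ.s) φ.hs)
        obtain ⟨X', s, hX', hs⟩ := hP ψ.X'
        refine ⟨{ X' := ⟨X', hX'⟩, s := ObjectProperty.homMk (s ≫ ψ.s), hs := S.comp_mem _ _ hs ψ.hs,
                  f := ObjectProperty.homMk (s ≫ ψ.f) }, ?_⟩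
        apply P.ι.map_injective
        change (s ≫ ψ.s) ≫ φ.f.hom = (s ≫ ψ.f) ≫ φ.s.hom
        rw [Category.assoc, Category.assoc]
        exact congrArg (s ≫ ·) hψ
      ext := fun X Y Y' f₁ f₂ s hs h => by
        obtain ⟨X₀, t, ht, h'⟩ := MorphismProperty.HasRightCalculusOfFractions.ext (W := S)
          f₁.hom f₂.hom s.hom hs (congrArg (fun z => z.hom) h)
        obtain ⟨X', u, hX', hu⟩ := hP X₀
        refine ⟨⟨X', hX'⟩, ObjectProperty.homMk (u ≫ t), S.comp_mem _ _ hu ht, ?_⟩
        apply P.ι.map_injective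
        change (u ≫ t) ≫ f₁.hom = (u ≫ t) ≫ f₂.hom
        rw [Category.assoc, Category.assoc, h'] }
  have hinv : W.IsInvertedBy (P.ι ⋙ Q) := fun X Y f hf => Localization.inverts Q S _ hf
  let Φ := Localization.lift (P.ι ⋙ Q) hinv W.Q
  let e : W.Q ⋙ Φ ≅ P.ι ⋙ Q := Localization.fac (P.ι ⋙ Q) hinv W.Q
  have hes : W.Q.EssSurj := Localization.essSurj W.Q W
  have : Φ.EssSurj := ⟨fun Y => by
    have := Localization.essSurj Q S
    obtain ⟨X', s, hX', hs⟩ := hP (Q.objPreimage Y)
    have := Localization.inverts Q S s hs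
    exact ⟨W.Q.obj ⟨X', hX'⟩, ⟨e.app ⟨X', hX'⟩ ≪≫ asIso (Q.map s) ≪≫ Q.objObjPreimageIso Y⟩⟩⟩
  have key : ∀ {X Y : P.FullSubcategory} (φ : W.RightFraction X Y),
      Φ.map (φ.map W.Q (Localization.inverts _ _)) = e.hom.app X ≫
        (letI := Localization.inverts Q S φ.s.hom φ.hs; inv (Q.map φ.s.hom)) ≫ Q.map φ.f.hom ≫ e.inv.app Y := by
    intro X Y φ
    have := Localization.inverts W.Q W φ.s φ.hs
    have := Localization.inverts Q S φ.s.hom φ.hs
    rw [← cancel_epi (Φ.map (W.Q.map φ.s)), ← Functor.map_comp]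
    have hs := e.hom.naturality φ.s
    have hf := e.hom.naturality φ.f
    dsimp at hs hf
    rw [reassoc_of% hs, IsIso.hom_inv_id_assoc, ← reassoc_of% hf, Iso.hom_inv_id_app,
      MorphismProperty.RightFraction.map, IsIso.hom_inv_id_assoc]
    exact (Category.comp_id _).symm
  have : Φ.Full := ⟨fun {A B} ψ => by
    obtain ⟨X, ⟨eA⟩⟩ := hes.mem_essImage A
    obtain ⟨Y, ⟨eB⟩⟩ := hes.mem_essImage B
    obtain ⟨φ, hφ⟩ := Localization.exists_rightFraction Q S
      (e.inv.app X ≫ Φ.map eA.hom ≫ ψ ≫ Φ.map eB.inv ≫ e.hom.app Y)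
    obtain ⟨X', s, hX', hs⟩ := hP φ.X'
    let φ' : W.RightFraction X Y := { X' := ⟨X', hX'⟩, s := ObjectProperty.homMk (s ≫ φ.s), hs := S.comp_mem _ _ hs φ.hs, f := ObjectProperty.homMk (s ≫ φ.f) }
    refine ⟨eA.inv ≫ φ'.map W.Q (Localization.inverts _ _) ≫ eB.hom, ?_⟩
    have := Localization.inverts Q S s hs
    have := Localization.inverts Q S φ.s φ.hs
    have hmap : (letI := Localization.inverts Q S φ'.s.hom φ'.hs; inv (Q.map φ'.s.hom)) ≫ Q.map φ'.f.hom =
        φ.map Q (Localization.inverts _ _) := by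
      have := Localization.inverts Q S φ'.s.hom φ'.hs
      rw [IsIso.inv_comp_eq]
      change Q.map (s ≫ φ.f) = Q.map (s ≫ φ.s) ≫ inv (Q.map φ.s) ≫ Q.map φ.f
      simp
    rw [Functor.map_comp, Functor.map_comp, key φ', reassoc_of% hmap, ← hφ]
    simp [← Functor.map_comp]⟩
  have : Φ.Faithful := ⟨fun {A B} a b hab => by
    obtain ⟨X, ⟨eA⟩⟩ := hes.mem_essImage A
    obtain ⟨Y, ⟨eB⟩⟩ := hes.mem_essImage B
    suffices h : eA.hom ≫ a ≫ eB.inv = eA.hom ≫ b ≫ eB.inv by
      simpa only [Iso.cancel_iso_hom_left, Iso.cancel_iso_inv_right] using h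
    have h1 : Φ.map (eA.hom ≫ a ≫ eB.inv) = Φ.map (eA.hom ≫ b ≫ eB.inv) := by simp [hab]
    generalize eA.hom ≫ a ≫ eB.inv = u at h1 ⊢
    generalize eA.hom ≫ b ≫ eB.inv = v at h1 ⊢
    obtain ⟨p, rfl⟩ := Localization.exists_rightFraction W.Q W u
    obtain ⟨q, rfl⟩ := Localization.exists_rightFraction W.Q W v
    obtain ⟨r, hr⟩ := MorphismProperty.HasRightCalculusOfFractions.exists_rightFraction
      (MorphismProperty.LeftFraction.mk (W := W) p.s q.s q.hs)
    have := Localization.inverts W.Q W p.s p.hs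
    have := Localization.inverts W.Q W q.s q.hs
    have := Localization.inverts W.Q W r.s r.hs
    have hrs : W (r.s ≫ p.s) := W.comp_mem _ _ r.hs p.hs
    have := Localization.inverts W.Q W _ hrs
    rw [← cancel_epi (W.Q.map (r.s ≫ p.s))]
    have l1 : W.Q.map (r.s ≫ p.s) ≫ p.map W.Q (Localization.inverts _ _) = W.Q.map (r.s ≫ p.f) := by
      simp [MorphismProperty.RightFraction.map]
    have l2 : W.Q.map (r.s ≫ p.s) ≫ q.map W.Q (Localization.inverts _ _) = W.Q.map (r.f ≫ q.f) := by
      rw [hr]; simp [MorphismProperty.RightFraction.map]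
    have h2 : Q.map (r.s ≫ p.f).hom = Q.map (r.f ≫ q.f).hom := by
      have h3 := congrArg (Φ.map (W.Q.map (r.s ≫ p.s)) ≫ ·) h1
      simp only [← Functor.map_comp, l1, l2] at h3
      have n1 := e.hom.naturality (r.s ≫ p.f)
      have n2 := e.hom.naturality (r.f ≫ q.f)
      rw [← cancel_epi (e.hom.app r.X')]
      exact n1.symm.trans ((congrArg (· ≫ e.hom.app Y) h3).trans n2)
    obtain ⟨Z, t, ht, ht'⟩ := (MorphismProperty.map_eq_iff_precomp Q S _ _).1 h2
    obtain ⟨Z', t', hZ', ht''⟩ := hP Z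
    rw [l1, l2]
    refine (MorphismProperty.map_eq_iff_precomp W.Q W _ _).2 ⟨⟨Z', hZ'⟩, ObjectProperty.homMk (t' ≫ t), S.comp_mem _ _ ht'' ht, ?_⟩
    apply P.ι.map_injective
    change (t' ≫ t) ≫ (r.s ≫ p.f).hom = (t' ≫ t) ≫ (r.f ≫ q.f).hom
    rw [Category.assoc, Category.assoc, ht']⟩
  have : Φ.IsEquivalence := { }
  exact Functor.IsLocalization.of_equivalence_target W.Q W (P.ι ⋙ Q) Φ.asEquivalence e

end Groth.Agent.S6613
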