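import Groth.Statements.S6614
import Mathlib.CategoryTheory.Triangulated.Pretriangulated
-- import your own Groth.Agent.* helpers here

set_option autoImplicit false
universe v u
open CategoryTheory CategoryTheory.Limits Opposite
open CohDer

namespace Groth.Agent.S6614

/-- Let D be a triangulated category and (A_n) an ℕ-indexed inverse system of D which is essentially
constant with value A relative to the cone c. Then there are an index i and direct sum
decompositions A_{i+j} ≅ A ⊞ Z_j (j ≥ 0) such that (a) c_{i+j} is the inclusion of the summand A and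
the transition maps A_{i+k} → A_{i+j} are 𝟙_A ⊕ (Z_k → Z_j), and (b) for every j there is k ≥ j with
Z_k → Z_j zero. (The published statement is an equivalence whose converse is given without proof;
this row states only the forward implication.) -/
theorem result {D : Type u} [Category.{v} D] [Preadditive D] [HasZeroObject D] [HasShift D ℤ]
    [∀ n : ℤ, (shiftFunctor D n).Additive] [Pretriangulated D] [IsTriangulated D]
    (X : ARSys.PS D) (A : D) (c : (Functor.const ℕᵒᵖ).obj A ⟶ X) (hX : DerCA.IsEssConstant X A c) :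
    ∃ (i : ℕ) (Z : ℕ → D) (e : ∀ j : ℕ, X.obj (op (i + j)) ≅ A ⊞ Z j) (z : ∀ j k : ℕ, j ≤ k → (Z k ⟶ Z j)),
      (∀ j : ℕ, c.app (op (i + j)) ≫ (e j).hom = biprod.inl) ∧
      (∀ (j k : ℕ) (hjk : j ≤ k), (e k).inv ≫ ARSys.tr X (Nat.add_le_add_left hjk i) = biprod.map (𝟙 A) (z j k hjk) ≫ (e j).inv) ∧
      (∀ j : ℕ, ∃ (k : ℕ) (hjk : j ≤ k), z j k hjk = 0) := by
  classical
  obtain ⟨i, s, hcs, hE⟩ := hX
  have trtr : ∀ {a b c : ℕ} (h1 : a ≤ b) (h2 : b ≤ c),
      ARSys.tr X h2 ≫ ARSys.tr X h1 = ARSys.tr X (h1.trans h2) := fun h1 h2 => (X.map_comp _ _).symm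
  have ctr : ∀ {a b : ℕ} (h1 : a ≤ b), c.app (op b) ≫ ARSys.tr X h1 = c.app (op a) := fun h1 =>
    ((c.naturality (homOfLE h1).op).symm.trans (Category.id_comp _))
  let cc : ∀ m, A ⟶ X.obj (op m) := fun m => c.app (op m)
  let sm : ∀ j : ℕ, X.obj (op (i + j)) ⟶ A := fun j => ARSys.tr X (Nat.le_add_right i j) ≫ s
  have hsm : ∀ j, cc (i + j) ≫ sm j = 𝟙 A := fun j =>
    (Category.assoc _ _ _).symm.trans ((congrArg (· ≫ s) (ctr (Nat.le_add_right i j))).trans hcs)
  have dec : ∀ j, ∃ (Zj : D) (e : X.obj (op (i + j)) ≅ A ⊞ Zj),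
      cc (i + j) ≫ e.hom = biprod.inl ∧ e.hom ≫ biprod.fst = sm j := fun j => by
    obtain ⟨Zj, g, h, hT⟩ := Pretriangulated.distinguished_cocone_triangle (cc (i + j))
    have : IsSplitMono (cc (i + j)) := IsSplitMono.mk' ⟨sm j, hsm j⟩
    have h0 : h = 0 := by
      have hh : h ≫ (cc (i + j))⟦(1 : ℤ)⟧' = 0 := Pretriangulated.comp_distTriang_mor_zero₃₁ _ hT
      exact (cancel_mono ((cc (i + j))⟦(1 : ℤ)⟧')).1 (hh.trans zero_comp.symm)
    obtain ⟨e₀, he, -⟩ : ∃ e₀ : X.obj (op (i + j)) ≅ A ⊞ Zj, cc (i + j) ≫ e₀.hom = biprod.inl ∧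
        g = e₀.hom ≫ biprod.snd := Pretriangulated.exists_iso_binaryBiproduct_of_distTriang _ hT h0
    let x : Zj ⟶ A := biprod.inr ≫ e₀.inv ≫ sm j
    let φ : A ⊞ Zj ≅ A ⊞ Zj :=
      { hom := biprod.desc biprod.inl (x ≫ biprod.inl + biprod.inr)
        inv := biprod.desc biprod.inl (-(x ≫ biprod.inl) + biprod.inr) }
    refine ⟨Zj, e₀ ≪≫ φ, by simp [φ, reassoc_of% he], ?_⟩
    have hinl : biprod.inl ≫ e₀.inv = cc (i + j) := by rw [← he, Category.assoc, Iso.hom_inv_id, Category.comp_id]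
    have : φ.hom ≫ biprod.fst = e₀.inv ≫ sm j := by
      apply biprod.hom_ext'
      · simp [φ, reassoc_of% hinl, hsm]
      · simp [φ, x]
    simp [this]
  choose Zf e he1 he2 using dec
  let z : ∀ j k : ℕ, j ≤ k → (Zf k ⟶ Zf j) := fun j k h =>
    biprod.inr ≫ (e k).inv ≫ ARSys.tr X (Nat.add_le_add_left h i) ≫ (e j).hom ≫ biprod.snd
  have hinv : ∀ k, biprod.inl ≫ (e k).inv = cc (i + k) := fun k => by
    rw [← he1 k, Category.assoc, Iso.hom_inv_id, Category.comp_id]
  refine ⟨i, Zf, e, z, fun j => he1 j, fun j k hjk => ?_, fun j => ?_⟩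
  · rw [← cancel_mono (e j).hom]
    simp only [Category.assoc, Iso.inv_hom_id, Category.comp_id]
    have h1 : cc (i + k) ≫ ARSys.tr X (Nat.add_le_add_left hjk i) ≫ (e j).hom = biprod.inl :=
      (Category.assoc _ _ _).symm.trans ((congrArg (· ≫ (e j).hom) (ctr (Nat.add_le_add_left hjk i))).trans (he1 j))
    apply biprod.hom_ext'
    · rw [reassoc_of% (hinv k), h1]; simp
    · apply biprod.hom_ext
      · simp only [Category.assoc, he2, biprod.map_fst, Category.comp_id]
        have : ARSys.tr X (Nat.add_le_add_left hjk i) ≫ sm j = sm k := by simp only [sm, ← Category.assoc, trtr]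
        rw [this, ← he2 k]
        simp
      · simp [z]
  · obtain ⟨m, hm1, hm2, em⟩ := hE (i + j)
    refine ⟨max j (m - i), le_max_left _ _, ?_⟩
    have hm : m ≤ i + max j (m - i) := by omega
    have : ARSys.tr X (Nat.add_le_add_left (le_max_left j (m - i)) i) = sm (max j (m - i)) ≫ cc (i + j) := by
      rw [← trtr hm2 hm, em, ← Category.assoc, trtr]
      simp only [sm, cc, Category.assoc]
    simp only [z, this, Category.assoc, reassoc_of% (he1 j), biprod.inl_snd, comp_zero]

end Groth.Agent.S6614
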