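import Groth.Statements.S6615
import Mathlib.CategoryTheory.Triangulated.Pretriangulated
-- import your own Groth.Agent.* helpers here

set_option autoImplicit false
universe v u
open CategoryTheory CategoryTheory.Limits Opposite
open CohDer

namespace Groth.Agent.S6615

open CategoryTheory.Pretriangulated in
/-- Essential constancy of the middle system: in a triangulated category D, take an ℕ-indexed inverse
system of distinguished triangles with vertices A_n, B_n, C_n. When (A_n) and (C_n) are both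
essentially constant, the middle system (B_n) is too. (The published statement also says the values
fit in a distinguished triangle receiving a map of triangles from some level; this row asserts only
the essential constancy of the middle system.) -/
theorem result {D : Type u} [Category.{v} D] [Preadditive D] [HasZeroObject D] [HasShift D ℤ]
    [∀ n : ℤ, (shiftFunctor D n).Additive] [Pretriangulated D] [IsTriangulated D]
    (X Y Z : ARSys.PS D) (f : X ⟶ Y) (g : Y ⟶ Z) (h : Z ⟶ X ⋙ shiftFunctor D (1 : ℤ))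
    (hT : ∀ n : ℕ, Triangle.mk (f.app (op n)) (g.app (op n)) (h.app (op n)) ∈ distinguishedTriangles)
    (hX : ∃ (A : D) (cA : (Functor.const ℕᵒᵖ).obj A ⟶ X), DerCA.IsEssConstant X A cA)
    (hZ : ∃ (C : D) (cC : (Functor.const ℕᵒᵖ).obj C ⟶ Z), DerCA.IsEssConstant Z C cC) :
    ∃ (B : D) (cB : (Functor.const ℕᵒᵖ).obj B ⟶ Y), DerCA.IsEssConstant Y B cB := by
  classical
  obtain ⟨A, cA, iA, sA, hcA, hA⟩ := hX
  obtain ⟨C, cC, iC, sC, hcC, hC⟩ := hZ
  let I := max iA iC
  have trtr : ∀ (W : ARSys.PS D) {a b c : ℕ} (h1 : a ≤ b) (h2 : b ≤ c),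
      ARSys.tr W h2 ≫ ARSys.tr W h1 = ARSys.tr W (h1.trans h2) := fun W _ _ _ h1 h2 => (W.map_comp _ _).symm
  have ctr : ∀ {W : ARSys.PS D} {A₀ : D} (c : (Functor.const ℕᵒᵖ).obj A₀ ⟶ W) {a b : ℕ} (h1 : a ≤ b),
      c.app (op b) ≫ ARSys.tr W h1 = c.app (op a) := fun c _ _ h1 =>
    ((c.naturality (homOfLE h1).op).symm.trans (Category.id_comp _))
  -- the key property at high levels
  have hA' : ∀ n, ∃ M, ∀ m (hm : M ≤ m) (hi : iA ≤ m) (hn : n ≤ m),
      ARSys.tr X hn = ARSys.tr X hi ≫ sA ≫ cA.app (op n) := fun n => by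
    obtain ⟨k, h1, h2, e⟩ := hA n
    exact ⟨k, fun m hm hi hn => by rw [← trtr X h2 hm, e, ← Category.assoc, trtr]⟩
  have hC' : ∀ n, ∃ M, ∀ m (hm : M ≤ m) (hi : iC ≤ m) (hn : n ≤ m),
      ARSys.tr Z hn = ARSys.tr Z hi ≫ sC ≫ cC.app (op n) := fun n => by
    obtain ⟨k, h1, h2, e⟩ := hC n
    exact ⟨k, fun m hm hi hn => by rw [← trtr Z h2 hm, e, ← Category.assoc, trtr]⟩
  choose MA hMA using hA'
  choose MC hMC using hC'
  have hh : ∀ {a b : ℕ} (hab : a ≤ b),
      ARSys.tr Z hab ≫ h.app (op a) = h.app (op b) ≫ (ARSys.tr X hab)⟦(1 : ℤ)⟧' :=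
    fun hab => h.naturality (homOfLE hab).op
  have fn : ∀ {a b : ℕ} (hab : a ≤ b), ARSys.tr X hab ≫ f.app (op a) = f.app (op b) ≫ ARSys.tr Y hab :=
    fun hab => f.naturality (homOfLE hab).op
  have gn : ∀ {a b : ℕ} (hab : a ≤ b), g.app (op b) ≫ ARSys.tr Z hab = ARSys.tr Y hab ≫ g.app (op a) :=
    fun hab => (g.naturality (homOfLE hab).op).symm
  let δ : C ⟶ A⟦(1 : ℤ)⟧ := cC.app (op I) ≫ h.app (op I) ≫ (ARSys.tr X (le_max_left iA iC) ≫ sA)⟦(1 : ℤ)⟧'
  have hδ' : ∀ m (hm : I ≤ m),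
      cC.app (op m) ≫ h.app (op m) ≫ (ARSys.tr X ((le_max_left iA iC).trans hm) ≫ sA)⟦(1 : ℤ)⟧' = δ := fun m hm => by
    rw [← trtr X (le_max_left iA iC) hm, Category.assoc, Functor.map_comp, ← reassoc_of% (hh hm), reassoc_of% (ctr cC hm)]
  obtain ⟨B, p, q, hB⟩ := Pretriangulated.distinguished_cocone_triangle₂ δ
  have hcd : ∀ n, cC.app (op n) ≫ h.app (op n) = δ ≫ (cA.app (op n))⟦(1 : ℤ)⟧' := fun n => by
    let m := max (max n I) (MA n)
    have hn : n ≤ m := le_trans (le_max_left _ _) (le_max_left _ _)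
    have hI : I ≤ m := le_trans (le_max_right _ _) (le_max_left _ _)
    rw [← ctr cC hn, Category.assoc, hh hn, hMA n m (le_max_right _ _) ((le_max_left iA iC).trans hI) hn,
      ← hδ' m hI, Category.assoc, Category.assoc, ← Functor.map_comp, Category.assoc]
  let N := max I (MC I)
  have hIN : I ≤ N := le_max_left _ _
  have hiA : iA ≤ N := (le_max_left iA iC).trans hIN
  have hiC : iC ≤ N := (le_max_right iA iC).trans hIN
  obtain ⟨β, hβ1, hβ2⟩ : ∃ β : Y.obj (op N) ⟶ B, f.app (op N) ≫ β = (ARSys.tr X hiA ≫ sA) ≫ p ∧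
      g.app (op N) ≫ (ARSys.tr Z hiC ≫ sC) = β ≫ q := Pretriangulated.complete_distinguished_triangle_morphism₂
    (Pretriangulated.Triangle.mk (f.app (op N)) (g.app (op N)) (h.app (op N))) (Pretriangulated.Triangle.mk p q δ)
    (hT N) hB (ARSys.tr X hiA ≫ sA) (ARSys.tr Z hiC ≫ sC) (by
      change h.app (op N) ≫ (ARSys.tr X hiA ≫ sA)⟦(1 : ℤ)⟧' = (ARSys.tr Z hiC ≫ sC) ≫ δ
      have e := hMC I N (le_max_right _ _) hiC hIN
      have : (ARSys.tr Z hiC ≫ sC) ≫ δ = ARSys.tr Z hIN ≫ h.app (op I) ≫ (ARSys.tr X (le_max_left iA iC) ≫ sA)⟦(1 : ℤ)⟧' := by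
        rw [e]; simp only [δ, Category.assoc]
      rw [this, reassoc_of% (hh hIN), ← Functor.map_comp, ← Category.assoc (ARSys.tr X hIN), trtr])
  let β' : ∀ m, N ≤ m → (Y.obj (op m) ⟶ B) := fun m hm => ARSys.tr Y hm ≫ β
  have hβf : ∀ m (hm : N ≤ m), f.app (op m) ≫ β' m hm = (ARSys.tr X (hiA.trans hm) ≫ sA) ≫ p := fun m hm => by
    simp only [β', ← reassoc_of% (fn hm), hβ1, ← trtr X hiA hm, Category.assoc]
  have hβg : ∀ m (hm : N ≤ m), β' m hm ≫ q = g.app (op m) ≫ ARSys.tr Z (hiC.trans hm) ≫ sC := fun m hm => by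
    simp only [β', Category.assoc, ← hβ2, ← trtr Z hiC hm, reassoc_of% (gn hm)]
  have sec : ∀ m (hm : N ≤ m), ∃ b : B ⟶ Y.obj (op m), b ≫ β' m hm = 𝟙 B ∧
      p ≫ b = cA.app (op m) ≫ f.app (op m) ∧ b ≫ g.app (op m) = q ≫ cC.app (op m) := by
    intro m hm
    obtain ⟨b, hb1, hb2⟩ : ∃ b : B ⟶ Y.obj (op m), p ≫ b = cA.app (op m) ≫ f.app (op m) ∧
        q ≫ cC.app (op m) = b ≫ g.app (op m) := Pretriangulated.complete_distinguished_triangle_morphism₂
      (Pretriangulated.Triangle.mk p q δ) (Pretriangulated.Triangle.mk (f.app (op m)) (g.app (op m)) (h.app (op m)))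
      hB (hT m) (cA.app (op m)) (cC.app (op m)) (hcd m).symm
    have hA1 : cA.app (op m) ≫ ARSys.tr X (hiA.trans hm) ≫ sA = 𝟙 A := (Category.assoc _ _ _).symm.trans ((congrArg (· ≫ sA) (ctr cA (hiA.trans hm))).trans hcA)
    have hC1 : cC.app (op m) ≫ ARSys.tr Z (hiC.trans hm) ≫ sC = 𝟙 C := (Category.assoc _ _ _).symm.trans ((congrArg (· ≫ sC) (ctr cC (hiC.trans hm))).trans hcC)
    have e1 : p ≫ b ≫ β' m hm = p := by
      rw [reassoc_of% hb1, hβf, Category.assoc, reassoc_of% hA1]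
      exact Category.id_comp p
    have e2 : (b ≫ β' m hm) ≫ q = q := by
      rw [Category.assoc, hβg, ← reassoc_of% hb2, hC1, Category.comp_id]
    let φ : Pretriangulated.Triangle.mk p q δ ⟶ Pretriangulated.Triangle.mk p q δ :=
      { hom₁ := 𝟙 A, hom₂ := b ≫ β' m hm, hom₃ := 𝟙 C
        comm₁ := e1.trans (Category.id_comp p).symm
        comm₂ := (Category.comp_id q).trans e2.symm
        comm₃ := ((congrArg (δ ≫ ·) (CategoryTheory.Functor.map_id _ _)).trans (Category.comp_id _)).trans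
          (Category.id_comp δ).symm }
    have hi : IsIso φ.hom₂ := Pretriangulated.isIso₂_of_isIso₁₃ φ hB hB (inferInstanceAs (IsIso (𝟙 A))) (inferInstanceAs (IsIso (𝟙 C)))
    have : IsIso (b ≫ β' m hm) := hi
    refine ⟨inv (b ≫ β' m hm) ≫ b, by rw [Category.assoc, IsIso.inv_hom_id], ?_, ?_⟩
    · have : p ≫ inv (b ≫ β' m hm) = p := by rw [IsIso.comp_inv_eq, e1]
      rw [reassoc_of% this, hb1]
    · have : inv (b ≫ β' m hm) ≫ q = q := by rw [IsIso.inv_comp_eq, e2]
      rw [Category.assoc, ← hb2, reassoc_of% this]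
  choose b' hb' hbp hbq using sec
  have key : ∀ n (hn : N ≤ n), ∃ M, ∀ m (hm : M ≤ m) (hnm : n ≤ m),
      ∃ b : B ⟶ Y.obj (op n), ARSys.tr Y hnm = β' m (hn.trans hnm) ≫ b := by
    intro n hn
    let m₁ := max n (MA n)
    have h1 : n ≤ m₁ := le_max_left _ _
    refine ⟨max m₁ (MC m₁), fun m₂ hm₂ hnm => ?_⟩
    have h2 : m₁ ≤ m₂ := (le_max_left _ _).trans hm₂
    have hD2 : f.app (op m₁) ≫ (ARSys.tr Y h1 - β' m₁ (hn.trans h1) ≫ b' n hn) = 0 := by
      rw [Preadditive.comp_sub, ← fn h1, reassoc_of% (hβf m₁ (hn.trans h1)), hbp,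
        hMA n m₁ (le_max_right _ _) (hiA.trans (hn.trans h1)) h1]
      simp only [Category.assoc, sub_self]
    obtain ⟨d, hd⟩ := Pretriangulated.Triangle.yoneda_exact₂ _ (hT m₁) _ hD2
    change ARSys.tr Y h1 - β' m₁ (hn.trans h1) ≫ b' n hn = g.app (op m₁) ≫ d at hd
    have hD1 : (ARSys.tr Y h2 - β' m₂ (hn.trans hnm) ≫ b' m₁ (hn.trans h1)) ≫ g.app (op m₁) = 0 := by
      rw [Preadditive.sub_comp, ← gn h2, Category.assoc, hbq, reassoc_of% (hβg m₂ (hn.trans hnm)),
        hMC m₁ m₂ ((le_max_right _ _).trans hm₂) (hiC.trans (hn.trans hnm)) h2]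
      simp only [Category.assoc, sub_self]
    obtain ⟨e, he⟩ := Pretriangulated.Triangle.coyoneda_exact₂ _ (hT m₁) _ hD1
    change ARSys.tr Y h2 - β' m₂ (hn.trans hnm) ≫ b' m₁ (hn.trans h1) = e ≫ f.app (op m₁) at he
    have hzero : (ARSys.tr Y h2 - β' m₂ (hn.trans hnm) ≫ b' m₁ (hn.trans h1)) ≫
        (ARSys.tr Y h1 - β' m₁ (hn.trans h1) ≫ b' n hn) = 0 := by
      exact (congrArg (· ≫ _) he).trans ((Category.assoc _ _ _).trans ((congrArg (e ≫ ·) hD2).trans comp_zero))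
    refine ⟨b' m₁ (hn.trans h1) ≫ ARSys.tr Y h1, ?_⟩
    have hb'' : ARSys.tr Y h2 ≫ β' m₁ (hn.trans h1) = β' m₂ (hn.trans hnm) := by
      simp only [β', ← Category.assoc, trtr]
    rw [Preadditive.sub_comp, Preadditive.comp_sub, Preadditive.comp_sub, trtr, reassoc_of% hb''] at hzero
    simp only [Category.assoc] at hzero
    rw [reassoc_of% (hb' m₁ (hn.trans h1))] at hzero
    change ARSys.tr Y _ - β' m₂ (hn.trans hnm) ≫ b' n hn - (β' m₂ (hn.trans hnm) ≫ b' m₁ (hn.trans h1) ≫ ARSys.tr Y h1 - β' m₂ (hn.trans hnm) ≫ b' n hn) = 0 at hzero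
    rw [sub_sub_sub_cancel_right, sub_eq_zero] at hzero
    exact hzero
  let bn : ∀ n, B ⟶ Y.obj (op n) := fun n =>
    (key (max n N) (le_max_right _ _) |>.choose_spec (max (key (max n N) (le_max_right _ _)).choose (max n N))
      (le_max_left _ _) (le_max_right _ _)).choose ≫ ARSys.tr Y (le_max_left n N)
  have hbn : ∀ n, ∃ M, ∀ m (hm : M ≤ m) (hN : N ≤ m) (hnm : n ≤ m), ARSys.tr Y hnm = β' m hN ≫ bn n := fun n => by
    refine ⟨max (key (max n N) (le_max_right _ _)).choose (max n N), fun m hm hN hnm => ?_⟩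
    have e := ((key (max n N) (le_max_right _ _)).choose_spec _ (le_max_left _ _) (le_max_right _ _)).choose_spec
    have e' := congrArg (fun z => ARSys.tr Y hm ≫ z ≫ ARSys.tr Y (le_max_left n N)) e
    simp only [β', bn, Category.assoc, trtr] at e' ⊢
    refine e'.trans ?_
    rw [← Category.assoc, trtr]
  choose MB hMB using hbn
  have hepi : ∀ m (hm : N ≤ m) {W : D} (u v : B ⟶ W), β' m hm ≫ u = β' m hm ≫ v → u = v := fun m hm W u v e => by
    simpa [reassoc_of% (hb' m hm)] using congrArg (b' m hm ≫ ·) e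
  refine ⟨B, { app := fun n => bn n.unop, naturality := fun a c φ => ?_ }, N, β, ?_, fun j => ?_⟩
  · have hle : c.unop ≤ a.unop := leOfHom φ.unop
    have hφ : φ = (homOfLE hle).op := Subsingleton.elim _ _
    subst hφ
    let m := max (max (MB a.unop) (MB c.unop)) (max N a.unop)
    have hN : N ≤ m := (le_max_left _ _).trans (le_max_right _ _)
    have ha : a.unop ≤ m := (le_max_right _ _).trans (le_max_right _ _)
    refine (Category.id_comp _).trans (hepi m hN _ _ ?_)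
    change β' m hN ≫ bn c.unop = β' m hN ≫ bn a.unop ≫ ARSys.tr Y hle
    rw [← hMB c.unop m ((le_max_right _ _).trans (le_max_left _ _)) hN (hle.trans ha), ← Category.assoc,
      ← hMB a.unop m ((le_max_left _ _).trans (le_max_left _ _)) hN ha, trtr]
  · let m := max (MB N) N
    refine hepi m (le_max_right _ _) _ _ ?_
    change β' m _ ≫ bn N ≫ β = β' m _ ≫ 𝟙 B
    rw [← Category.assoc, ← hMB N m (le_max_left _ _) (le_max_right _ _) (le_max_right _ _), Category.comp_id]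
  · let m := max (MB j) (max N j)
    have hN : N ≤ m := (le_max_left _ _).trans (le_max_right _ _)
    have hj : j ≤ m := (le_max_right _ _).trans (le_max_right _ _)
    exact ⟨m, hN, hj, (hMB j m (le_max_left _ _) hN hj).trans (Category.assoc _ _ _)⟩

end Groth.Agent.S6615
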