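import Groth.Statements.S6616
import Groth.Agent.L10.RightStep

set_option autoImplicit false
set_option backward.defeqAttrib.useBackward true
set_option backward.isDefEq.respectTransparency false
universe v u
open CategoryTheory CategoryTheory.Limits
open CohDer

namespace Groth.Agent.S6616

/-- Let I be a class of objects of an abelian category, closed under isomorphisms, containing 0, closed
under binary products, and such that every object is a subobject of an object of I. For any cochain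
complex K there are bounded below complexes Iₙ (n ≥ 0) with terms in I, termwise injective
quasi-isomorphisms πₙ : τ_{≥ -n}K ⟶ Iₙ and termwise split surjections pₙ : Iₙ₊₁ ⟶ Iₙ with termwise
kernels in I, such that K ⟶ τ_{≥ -(n+1)}K ⟶ Iₙ₊₁ ⟶ Iₙ equals K ⟶ τ_{≥ -n}K ⟶ Iₙ. (The published
system starts at τ_{≥ -1}K; this row starts at n = 0 with τ_{≥ 0}K. Closure of I under isomorphisms
is assumed so that closure under binary products has a meaning for a class of objects.) -/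
theorem result {A : Type u} [Category.{v} A] [Abelian A] (I : ObjectProperty A) [I.IsClosedUnderIsomorphisms]
    (hI0 : ∃ Z : A, IsZero Z ∧ I Z) (hIprod : ∀ X Y : A, I X → I Y → I (X ⊞ Y))
    (hI : ∀ X : A, ∃ (Y : A) (ι : X ⟶ Y), I Y ∧ Mono ι) (K : CochainComplex A ℤ) :
    ∃ (Q : ℕ → CochainComplex A ℤ) (p : ∀ n, Q (n + 1) ⟶ Q n) (π : ∀ n : ℕ, K.truncGE (-(n : ℤ)) ⟶ Q n),
      (∀ n, QuasiIso (π n) ∧ ∀ i, Mono ((π n).f i)) ∧
      (∀ n, ∃ a : ℤ, (Q n).IsStrictlyGE a) ∧ (∀ n i, I ((Q n).X i)) ∧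
      (∀ n i, (∃ s : (Q n).X i ⟶ (Q (n + 1)).X i, s ≫ (p n).f i = 𝟙 _) ∧ I (kernel ((p n).f i))) ∧
      (∀ n : ℕ, K.πTruncGE (-((n + 1 : ℕ) : ℤ)) ≫ π (n + 1) ≫ p n = K.πTruncGE (-(n : ℤ)) ≫ π n) := by
  classical
  have hg : ∀ n : ℕ, ∃ g : K.truncGE (-((n + 1 : ℕ) : ℤ)) ⟶ K.truncGE (-(n : ℤ)),
      K.πTruncGE (-((n + 1 : ℕ) : ℤ)) ≫ g = K.πTruncGE (-(n : ℤ)) := fun n => by
    have : (K.truncGE (-(n : ℤ))).IsStrictlyGE (-((n + 1 : ℕ) : ℤ)) :=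
      (K.truncGE (-(n : ℤ))).isStrictlyGE_of_ge _ (-(n : ℤ)) (by omega)
    refine ⟨CochainComplex.truncGEMap (K.πTruncGE (-(n : ℤ))) (-((n + 1 : ℕ) : ℤ)) ≫
      inv ((K.truncGE (-(n : ℤ))).πTruncGE (-((n + 1 : ℕ) : ℤ))), ?_⟩
    rw [← Category.assoc, CochainComplex.πTruncGE_naturality, Category.assoc, IsIso.hom_inv_id, Category.comp_id]
  choose g hg using hg
  let Stage : ℕ → Type _ := fun n => { S : Σ Q : CochainComplex A ℤ, K.truncGE (-(n : ℤ)) ⟶ Q //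
    QuasiIso S.2 ∧ (∀ i, Mono (S.2.f i)) ∧ S.1.IsStrictlyGE (-(n : ℤ)) ∧ ∀ i, I (S.1.X i) }
  have h0 : Nonempty (Stage 0) := by
    obtain ⟨Q, α, hQ, hPQ, he, hq⟩ := Groth.L10.ClassRes.exists_res I hI hI0 (K.truncGE (-((0 : ℕ) : ℤ))) (-((0 : ℕ) : ℤ))
    exact ⟨⟨⟨Q, α⟩, hq, he, hQ, hPQ⟩⟩
  have hs : ∀ (n : ℕ) (S : Stage n), ∃ (S' : Stage (n + 1)) (p : S'.1.1 ⟶ S.1.1),
      S'.1.2 ≫ p = g n ≫ S.1.2 ∧
      ∀ i, (∃ s : S.1.1.X i ⟶ S'.1.1.X i, s ≫ p.f i = 𝟙 _) ∧ I (kernel (p.f i)) := fun n S => by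
    obtain ⟨⟨Q, α⟩, hq, he, hQ, hPQ⟩ := S
    have : Q.IsStrictlyGE (-((n + 1 : ℕ) : ℤ)) := Q.isStrictlyGE_of_ge _ (-(n : ℤ)) (by omega)
    obtain ⟨K', π, p, hcomp, hGE, hmono, hqi, hsplit⟩ :=
      Groth.L10.RightStep.exists_step I hI0 hI (g n ≫ α) (-((n + 1 : ℕ) : ℤ))
    refine ⟨⟨⟨K', π⟩, hqi, hmono, hGE, fun i => ?_⟩, p, hcomp, fun i => ?_⟩
    · obtain ⟨r, hr, R, hR, ⟨e₁⟩, he₂⟩ := hsplit i
      exact I.prop_of_iso e₁.symm (hIprod _ _ (hPQ i) hR)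
    · obtain ⟨r, hr, R, hR, he₁, ⟨e₂⟩⟩ := hsplit i
      exact ⟨⟨r, hr⟩, I.prop_of_iso e₂.symm hR⟩
  choose next p hcomp hsplit using hs
  let S : ∀ n, Stage n := fun n => Nat.rec h0.some next n
  refine ⟨fun n => (S n).1.1, fun n => p n (S n), fun n => (S n).1.2, fun n => ⟨(S n).2.1, (S n).2.2.1⟩,
    fun n => ⟨_, (S n).2.2.2.1⟩, fun n => (S n).2.2.2.2, fun n i => hsplit n (S n) i, fun n => ?_⟩
  change _ ≫ (next n (S n)).1.2 ≫ p n (S n) = _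
  rw [hcomp, ← Category.assoc, hg]

end Groth.Agent.S6616
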