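import Groth.Statements.S6617
import Groth.Agent.S6598
-- import your own Groth.Agent.* helpers here

set_option autoImplicit false
universe v u
open CategoryTheory CategoryTheory.Limits
open CohDer

namespace Groth.Agent.S6617

/-- Let A be an additive category and A₀ → A₁ → A₂ → … a sequence of composable morphisms of complexes.
There are complexes Bᵢ, homotopy equivalences Bᵢ ⟶ Aᵢ and termwise split injections Bᵢ ⟶ Bᵢ₊₁
forming a commutative ladder over the given sequence. Moreover if all Aᵢ are bounded below, resp.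
bounded above, then the Bᵢ may be chosen bounded below, resp. bounded above. (The published
statement is for finite sequences A₁ → … → A_n; this row takes a sequence indexed by ℕ, built by the
same step-by-step construction.) -/
theorem result {V : Type u} [Category.{v} V] [Preadditive V] [HasBinaryBiproducts V] [HasZeroObject V]
    (X : ℕ → CochainComplex V ℤ) (a : ∀ i, X i ⟶ X (i + 1)) :
    ∃ (B : ℕ → CochainComplex V ℤ) (b : ∀ i, B i ⟶ B (i + 1)) (e : ∀ i, HomotopyEquiv (B i) (X i)),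
      (∀ i, b i ≫ (e (i + 1)).hom = (e i).hom ≫ a i) ∧
      (∀ (i : ℕ) (n : ℤ), ∃ (C : V) (ε : (B (i + 1)).X n ≅ (B i).X n ⊞ C), (b i).f n ≫ ε.hom = biprod.inl) ∧
      ((∀ i, ∃ m : ℤ, (X i).IsStrictlyGE m) → ∀ i, ∃ m : ℤ, (B i).IsStrictlyGE m) ∧
      ((∀ i, ∃ m : ℤ, (X i).IsStrictlyLE m) → ∀ i, ∃ m : ℤ, (B i).IsStrictlyLE m) := by
  classical
  have step : ∀ (i : ℕ) (s : Σ B : CochainComplex V ℤ, HomotopyEquiv B (X i)), ∃ (t : Σ B : CochainComplex V ℤ, HomotopyEquiv B (X (i + 1)))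
      (b : s.1 ⟶ t.1), b ≫ t.2.hom = s.2.hom ≫ a i ∧
      (∀ n : ℤ, ∃ (C : V) (ε : t.1.X n ≅ s.1.X n ⊞ C), b.f n ≫ ε.hom = biprod.inl) ∧
      ((∃ m : ℤ, CochainComplex.IsStrictlyGE s.1 m) → (∃ m : ℤ, (X (i + 1)).IsStrictlyGE m) → ∃ m : ℤ, CochainComplex.IsStrictlyGE t.1 m) ∧
      ((∃ m : ℤ, CochainComplex.IsStrictlyLE s.1 m) → (∃ m : ℤ, (X (i + 1)).IsStrictlyLE m) → ∃ m : ℤ, CochainComplex.IsStrictlyLE t.1 m) := by
    intro i s
    obtain ⟨B, b, π, σ, h1, h2, ⟨H⟩, h3, h4, h5⟩ := Groth.Agent.S6598.result s.1 (X (i + 1)) (s.2.hom ≫ a i)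
    refine ⟨⟨B, ⟨π, σ, H, Homotopy.ofEq h2⟩⟩, b, h1, h3, ?_, ?_⟩
    · rintro ⟨m, _⟩ ⟨m', _⟩
      have := CochainComplex.isStrictlyGE_of_ge s.1 (min m m') m (min_le_left _ _)
      have := CochainComplex.isStrictlyGE_of_ge (X (i + 1)) (min m m') m' (min_le_right _ _)
      exact h4 (min m m') inferInstance inferInstance
    · rintro ⟨m, _⟩ ⟨m', _⟩
      have := CochainComplex.isStrictlyLE_of_le s.1 m (max m m') (le_max_left _ _)
      have := CochainComplex.isStrictlyLE_of_le (X (i + 1)) m' (max m m') (le_max_right _ _)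
      exact h5 (max m m') inferInstance inferInstance
  choose t b h1 h2 h3 h4 using step
  let S : ∀ i, Σ B : CochainComplex V ℤ, HomotopyEquiv B (X i) := fun i => Nat.rec ⟨X 0, HomotopyEquiv.refl _⟩ (fun i s => t i s) i
  refine ⟨fun i => (S i).1, fun i => b i (S i), fun i => (S i).2, fun i => h1 i (S i), fun i => h2 i (S i), ?_, ?_⟩
  · intro hX i
    induction i with
    | zero => exact hX 0
    | succ i ih => exact h3 i (S i) ih (hX _)
  · intro hX i
    induction i with
    | zero => exact hX 0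
    | succ i ih => exact h4 i (S i) ih (hX _)

end Groth.Agent.S6617
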