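import Groth.Statements.S6619
import Groth.Agent.L00.RDerLES
-- import your own Groth.Agent.* helpers here

set_option autoImplicit false
universe v v' u u'
open CategoryTheory CategoryTheory.Limits
open CohDer

namespace Groth.Agent.S6619

/-- In the case where A has enough injectives (an object X is right acyclic for the left exact functor F
when RⁱF(X) = 0 for all i > 0): suppose A and B are abelian categories, A has enough injectives, F :
A ⥤ B is left exact, and 0 → X₁ → X₂ → X₃ → 0 is a short exact sequence of A. (1) If X₁, X₃ are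
right acyclic so is X₂; (2) if X₁, X₂ are right acyclic so is X₃; (3) if X₂, X₃ are right acyclic
and F(X₂) ⟶ F(X₃) is surjective then X₁ is right acyclic. In each of the three cases 0 → F(X₁) →
F(X₂) → F(X₃) → 0 is short exact. -/
theorem result {A : Type u} [Category.{v} A] [Abelian A] [EnoughInjectives A]
    {B : Type u'} [Category.{v'} B] [Abelian B] (F : A ⥤ B) [F.Additive] [PreservesFiniteLimits F]
    (S : ShortComplex A) (hS : S.ShortExact) :
    ((∀ i : ℕ, 0 < i → IsZero ((F.rightDerived i).obj S.X₁)) → (∀ i : ℕ, 0 < i → IsZero ((F.rightDerived i).obj S.X₃)) →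
      (∀ i : ℕ, 0 < i → IsZero ((F.rightDerived i).obj S.X₂)) ∧ (S.map F).ShortExact) ∧
    ((∀ i : ℕ, 0 < i → IsZero ((F.rightDerived i).obj S.X₁)) → (∀ i : ℕ, 0 < i → IsZero ((F.rightDerived i).obj S.X₂)) →
      (∀ i : ℕ, 0 < i → IsZero ((F.rightDerived i).obj S.X₃)) ∧ (S.map F).ShortExact) ∧
    ((∀ i : ℕ, 0 < i → IsZero ((F.rightDerived i).obj S.X₂)) → (∀ i : ℕ, 0 < i → IsZero ((F.rightDerived i).obj S.X₃)) →
      Epi (F.map S.g) → (∀ i : ℕ, 0 < i → IsZero ((F.rightDerived i).obj S.X₁)) ∧ (S.map F).ShortExact) := by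
  letI := HasDerivedCategory.standard A
  have hse : Epi (F.map S.g) → (S.map F).ShortExact := fun h => by
    have := hS.mono_f
    have := hS.epi_g
    have h3 := F.preservesFiniteLimits_tfae.out 0 3
    have h2 := h3.2 inferInstance S hS
    exact { exact := h2.1, mono_f := h2.2, epi_g := h }
  have he : (∀ i : ℕ, 0 < i → IsZero ((F.rightDerived i).obj S.X₁)) → Epi (F.map S.g) := fun h => by
    have := Groth.L00.RDerLES.epi_map_g F hS 0 (h 1 Nat.one_pos)
    have e : F.map S.g = F.toRightDerivedZero.app _ ≫ (F.rightDerived 0).map S.g ≫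
        F.rightDerivedZeroIsoSelf.hom.app _ := by
      rw [← F.toRightDerivedZero.naturality_assoc, F.rightDerivedZeroIsoSelf_inv_hom_id_app,
        Category.comp_id]
    rw [e]; infer_instance
  refine ⟨fun h₁ h₃ => ⟨Groth.L17.GrothSS.isZero_rightDerived_X₂ F hS h₁ h₃, hse (he h₁)⟩,
    fun h₁ h₂ => ⟨Groth.L17.GrothSS.isZero_rightDerived_X₃ F hS h₁ h₂, hse (he h₁)⟩,
    fun h₂ h₃ hg => ⟨fun i hi => ?_, hse hg⟩⟩
  obtain ⟨n, rfl⟩ : ∃ n, i = n + 1 := ⟨i - 1, by omega⟩
  have : Epi ((F.rightDerived n).map S.g) := by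
    rcases Nat.eq_zero_or_pos n with rfl | hn
    · have e : (F.rightDerived 0).map S.g = F.rightDerivedZeroIsoSelf.hom.app _ ≫ F.map S.g ≫
          F.toRightDerivedZero.app _ := by
        rw [F.toRightDerivedZero.naturality, F.rightDerivedZeroIsoSelf_hom_inv_id_app_assoc]
      rw [e]; infer_instance
    · exact ⟨fun g h _ => (h₃ n hn).eq_of_src g h⟩
  exact Groth.L00.RDerLES.isZero_X₁ F hS n (h₂ _ hi)

end Groth.Agent.S6619
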